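import Groth.Agent.Lib.EtaleSliceSch68
import Mathlib.AlgebraicGeometry.Morphisms.Smooth
import Mathlib.AlgebraicGeometry.Morphisms.QuasiFinite
import Mathlib.RingTheory.Unramified.LocalStructure
import Mathlib.FieldTheory.PerfectClosure
import Mathlib.FieldTheory.IsAlgClosed.AlgebraicClosure

/-!
# Étale slices through points of smooth morphisms (EGA IV 17.16.3) (helper68)
-/

set_option autoImplicit false
universe u

namespace Groth.Agent.Lib.EtaleSliceSmooth68

open CategoryTheory CategoryTheory.Limits AlgebraicGeometry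
open Groth.Agent.Lib.EtaleSlice68 Groth.Agent.Lib.EtaleSliceSch68

/-- Every element of the residue field at a point of an affine open is a fraction of sections. -/
theorem residueField_fraction {S : Scheme.{u}} {V₀ : S.Opens} (hV₀ : IsAffineOpen V₀) (s : S)
    (hs : s ∈ V₀) (c : S.residueField s) :
    ∃ a t : Γ(S, V₀), S.evaluation V₀ s hs t ≠ 0 ∧
      c * S.evaluation V₀ s hs t = S.evaluation V₀ s hs a := by
  let _ : Algebra Γ(S, V₀) (S.presheaf.stalk s) := S.presheaf.algebra_section_stalk ⟨s, hs⟩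
  have hloc := hV₀.isLocalization_stalk ⟨s, hs⟩
  obtain ⟨c', rfl⟩ := IsLocalRing.residue_surjective c
  obtain ⟨⟨a, t⟩, hat⟩ := IsLocalization.surj (hV₀.primeIdealOf ⟨s, hs⟩).asIdeal.primeCompl c'
  have hunit : IsUnit (algebraMap Γ(S, V₀) (S.presheaf.stalk s) t) :=
    IsLocalization.map_units _ t
  refine ⟨a, t, ?_, ?_⟩
  · exact (hunit.map (IsLocalRing.residue (S.presheaf.stalk s))).ne_zero
  · have := congrArg (IsLocalRing.residue (S.presheaf.stalk s)) hat
    rw [map_mul] at this
    exact this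

theorem evaluation_appLE {X S : Scheme.{u}} (f : X ⟶ S) {V₀ : S.Opens} {W : X.Opens}
    (e : W ≤ f ⁻¹ᵁ V₀) (x : X) (hxW : x ∈ W) :
    f.appLE V₀ W e ≫ X.evaluation W x hxW =
      S.evaluation V₀ (f x) (e hxW) ≫ f.residueFieldMap x := by
  rw [Scheme.evaluation_naturality, Scheme.Hom.appLE, Category.assoc]
  congr 1
  rw [← Scheme.germ_residue, ← Scheme.germ_residue, ← Category.assoc, X.presheaf.germ_res]

/-- Étale slice through a point of a chart with separable residue field extension. -/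
theorem exists_slice_of_isSeparable {X S : Scheme.{u}} (f : X ⟶ S) {V₀ : S.Opens}
    (hV₀ : IsAffineOpen V₀) {W : X.Opens} (hW : IsAffineOpen W) (e : W ≤ f ⁻¹ᵁ V₀) {n : ℕ}
    (g : MvPolynomial (Fin n) Γ(S, V₀) →+* Γ(X, W)) (hg : g.Etale)
    (hgC : g.comp MvPolynomial.C = (f.appLE V₀ W e).hom) (x : X) (hxW : x ∈ W)
    (hsep : @Algebra.IsSeparable (S.residueField (f x)) (X.residueField x) _ _
      (f.residueFieldMap x).hom.toAlgebra) :
    ∃ (Z : Scheme.{u}) (i : Z ⟶ X) (z : Z), IsImmersion i ∧ Etale (i ≫ f) ∧ i z = x := by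
  have hfx : f x ∈ V₀ := e hxW
  let _ : Algebra Γ(S, V₀) (S.residueField (f x)) := (S.evaluation V₀ (f x) hfx).hom.toAlgebra
  let _ : Algebra (S.residueField (f x)) (X.residueField x) := (f.residueFieldMap x).hom.toAlgebra
  let _ : Algebra Γ(S, V₀) (X.residueField x) :=
    ((X.evaluation W x hxW).hom.comp (f.appLE V₀ W e).hom).toAlgebra
  have htower : IsScalarTower Γ(S, V₀) (S.residueField (f x)) (X.residueField x) := by
    refine IsScalarTower.of_algebraMap_eq' ?_
    change (X.evaluation W x hxW).hom.comp (f.appLE V₀ W e).hom =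
      (f.residueFieldMap x).hom.comp (S.evaluation V₀ (f x) hfx).hom
    rw [← CommRingCat.hom_comp, ← CommRingCat.hom_comp, evaluation_appLE]
  let φ : MvPolynomial (Fin n) Γ(S, V₀) →ₐ[Γ(S, V₀)] X.residueField x :=
    { toRingHom := (X.evaluation W x hxW).hom.comp g
      commutes' := fun a => by
        change (X.evaluation W x hxW).hom (g (MvPolynomial.C a)) =
          (X.evaluation W x hxW).hom ((f.appLE V₀ W e).hom a)
        rw [← hgC]; rfl }
  have hk := fun c => residueField_fraction hV₀ (f x) hfx c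
  obtain ⟨G, hG, hdet⟩ := exists_slice hk φ
    (fun j => Algebra.IsSeparable.isSeparable (S.residueField (f x)) _)
  exact exists_slice_of_chart f hV₀ hW e g hg hgC G x hxW hG hdet

theorem locallyQuasiFinite_of_etale {U V : Scheme.{u}} (f : U ⟶ V) [Etale f] :
    LocallyQuasiFinite f := by
  rw [HasRingHomProperty.iff_appLE (P := @LocallyQuasiFinite)]
  intro U' V' e
  have h := HasRingHomProperty.appLE @Etale f inferInstance U' V' e
  algebraize [(f.appLE U' V' e).hom]
  change Algebra.QuasiFinite _ _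
  infer_instance

/-- An étale morphism can be shrunk around a point so that the point is alone in its fibre. -/
theorem exists_open_fibre_singleton {Z S : Scheme.{u}} (h : Z ⟶ S) [Etale h] (z : Z) :
    ∃ U : Z.Opens, z ∈ U ∧ ∀ z' ∈ U, h z' = h z → z' = z := by
  have := locallyQuasiFinite_of_etale h
  have hd : DiscreteTopology (h ⁻¹' {h z}) := (h.isDiscrete_preimage_singleton (h z)).to_subtype
  have hopen : IsOpen ({⟨z, rfl⟩} : Set (h ⁻¹' {h z})) := isOpen_discrete _
  obtain ⟨U, hU, hUeq⟩ := isOpen_induced_iff.mp hopen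
  refine ⟨⟨U, hU⟩, ?_, ?_⟩
  · have : (⟨z, rfl⟩ : h ⁻¹' {h z}) ∈ Subtype.val ⁻¹' U := by rw [hUeq]; rfl
    exact this
  · intro z' hz' hzz
    have : (⟨z', hzz⟩ : h ⁻¹' {h z}) ∈ Subtype.val ⁻¹' U := hz'
    rw [hUeq] at this
    exact congrArg Subtype.val this

/-- EGA IV 17.16.3 (i): étale slice through a point of a smooth morphism with separable
residue field extension. -/
theorem exists_etale_slice {X S : Scheme.{u}} (f : X ⟶ S) [Smooth f] (x : X)
    (hsep : @Algebra.IsSeparable (S.residueField (f x)) (X.residueField x) _ _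
      (f.residueFieldMap x).hom.toAlgebra) :
    ∃ (Z : Scheme.{u}) (i : Z ⟶ X) (z : Z), IsImmersion i ∧ Etale (i ≫ f) ∧ i z = x ∧
      ∀ z' : ↑Z, f (i z') = f x → z' = z := by
  obtain ⟨V₀, hV₀, W, hW, hxW, e, hss⟩ := Smooth.exists_isStandardSmooth f x
  obtain ⟨n, g, hgC, hg⟩ := hss.exists_etale_mvPolynomial
  obtain ⟨Z, i, z, hi, hét, hz⟩ := exists_slice_of_isSeparable f hV₀ hW e g hg hgC x hxW hsep
  obtain ⟨U, hzU, hU⟩ := exists_open_fibre_singleton (i ≫ f) z
  refine ⟨U.toScheme, U.ι ≫ i, ⟨z, hzU⟩, inferInstance, ?_, ?_, ?_⟩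
  · rw [Category.assoc]; infer_instance
  · rw [Scheme.Hom.comp_apply]; exact hz
  · intro z' hz'
    have h1 : (i ≫ f) (U.ι z') = (i ≫ f) z := by
      rw [Scheme.Hom.comp_apply, Scheme.Hom.comp_apply, hz]
      rw [Scheme.Hom.comp_apply] at hz'
      exact hz'
    have h2 := hU (U.ι z') z'.2 h1
    exact Subtype.ext h2

end Groth.Agent.Lib.EtaleSliceSmooth68
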