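import Groth.Agent.Lib.ThickAffine

/-!
# Consequences of `Lib/ThickAffine` for thickenings (helper24)

* `isAffineOpen_of_isAffineOpen_preimage` : for a surjective closed immersion `t : Z ⟶ X`, an open
  `U` of `X` is affine as soon as `t ⁻¹ᵁ U` is.
* `isNilpotent_of_app_eq_zero` : sections over a compact open killed by a surjective morphism are
  nilpotent.
* `isAffineHom_of_thickening`, `isIntegralHom_of_thickening` : affine / integral morphisms ascend
  along morphisms of thickenings.
-/

set_option autoImplicit false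
universe u

open CategoryTheory AlgebraicGeometry TopologicalSpace Opposite

namespace Groth.Agent.Lib.ThickAffine

theorem isAffineOpen_of_isAffineOpen_preimage {Z X : Scheme.{u}} (t : Z ⟶ X) [IsClosedImmersion t]
    [Surjective t] (U : X.Opens) (hU : IsAffineOpen (t ⁻¹ᵁ U)) : IsAffineOpen U := by
  haveI : IsAffine ↑(t ⁻¹ᵁ U) := hU
  haveI : IsClosedImmersion (t ∣_ U) := IsZariskiLocalAtTarget.restrict ‹_› U
  haveI : Surjective (t ∣_ U) := IsZariskiLocalAtTarget.restrict ‹_› U
  exact isAffine_of_isClosedImmersion_of_surjective (t ∣_ U) (t ∣_ U).surjective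

theorem isNilpotent_of_app_eq_zero {Z X : Scheme.{u}} (t : Z ⟶ X) [Surjective t] (U : X.Opens)
    (hU : IsCompact (U : Set X)) (s : Γ(X, U)) (hs : t.app U s = 0) : IsNilpotent s := by
  rw [Scheme.isNilpotent_iff_basicOpen_eq_bot_of_isCompact hU, eq_bot_iff]
  intro x hx
  obtain ⟨z, rfl⟩ := t.surjective x
  have hz : z ∈ t ⁻¹ᵁ (X.basicOpen s) := hx
  rw [Scheme.preimage_basicOpen, hs, Scheme.basicOpen_zero] at hz
  exact hz.elim

/-- Affine morphisms ascend along a morphism of thickenings. -/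
theorem isAffineHom_of_thickening {X X' S S' : Scheme.{u}} (iX : X ⟶ X') (iS : S ⟶ S') (f : X ⟶ S)
    (f' : X' ⟶ S') [IsClosedImmersion iX] [Surjective iX] [IsAffineHom iS]
    (w : iX ≫ f' = f ≫ iS) [IsAffineHom f] : IsAffineHom f' := by
  refine ⟨fun U hU => ?_⟩
  apply isAffineOpen_of_isAffineOpen_preimage iX
  rw [← Scheme.Hom.comp_preimage, w, Scheme.Hom.comp_preimage]
  exact (hU.preimage iS).preimage f

/-- A ring lemma: integrality can be checked modulo a nil ideal. -/
theorem isIntegral_of_comp_of_nil {A B' B : Type*} [CommRing A] [CommRing B'] [CommRing B]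
    (φ : A →+* B') (ψ : B' →+* B) (h : (ψ.comp φ).IsIntegral)
    (hnil : ∀ b' : B', ψ b' = 0 → IsNilpotent b') : φ.IsIntegral := by
  intro b'
  obtain ⟨p, hp, hpe⟩ := h (ψ b')
  rw [← Polynomial.hom_eval₂] at hpe
  obtain ⟨n, hn⟩ := hnil _ hpe
  exact ⟨p ^ n, hp.pow n, by rw [Polynomial.eval₂_pow, hn]⟩

/-- Integral morphisms ascend along a morphism of thickenings. -/
theorem isIntegralHom_of_thickening {X X' S S' : Scheme.{u}} (iX : X ⟶ X') (iS : S ⟶ S')
    (f : X ⟶ S) (f' : X' ⟶ S') [IsClosedImmersion iX] [Surjective iX] [IsClosedImmersion iS]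
    (w : iX ≫ f' = f ≫ iS) [IsIntegralHom f] : IsIntegralHom f' := by
  haveI : IsAffineHom f' := isAffineHom_of_thickening iX iS f f' w
  refine ⟨fun U hU => ?_⟩
  have h1 : IsIntegralHom (iX ≫ f') := by rw [w]; infer_instance
  have h2 := h1.isIntegral_app U hU
  have h3 : ((iX ≫ f').app U).hom = (iX.app (f' ⁻¹ᵁ U)).hom.comp (f'.app U).hom := rfl
  rw [h3] at h2
  refine isIntegral_of_comp_of_nil _ _ h2 fun b' hb' => ?_
  exact isNilpotent_of_app_eq_zero iX (f' ⁻¹ᵁ U) (hU.preimage f').isCompact b' hb'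

end Groth.Agent.Lib.ThickAffine
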