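import Groth.Agent.Lib.ClosedCoverPic42
import Groth.Agent.Lib.ThickAffineOpen
import Mathlib.Dynamics.Newton

/-!
# helper42: lifting torsion invertible modules along a thickening (namespace `Groth.Agent.Lib.ThickPic42`)

* `existsUnique_root`: `φ : R → S` surjective with nil kernel, `n` invertible in `S`, `η` a unit of `S` and
  `w ∈ R` with `φ w = η ^ n`: there is a unique `r ∈ R` with `φ r = η` and `r ^ n = w` (Newton iteration).
* `existsUnique_sol`: the sheaf version for a thickening `i : X ⟶ X'` over an arbitrary open of `X'`.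
* `exists_lift_torsion`: `i` a thickening, `n` invertible on `X`, `L` invertible on `X` with `L^{⊗ n} ≅ O_X`:
  there is an invertible `L'` on `X'` with `L'^{⊗ n} ≅ O_{X'}` and `i^* L' ≅ L`.
-/

set_option autoImplicit false
universe u
open CategoryTheory CategoryTheory.Limits AlgebraicGeometry TopologicalSpace Opposite Polynomial
open Groth.Agent.Lib.H90Invertible Groth.Agent.Lib.H78TensorGen Groth.Agent.Lib.H78SecCoord
open Groth.Agent.Lib.H78Atlas Groth.Agent.Lib.InvGlue42 Groth.Agent.Lib.H78PullSec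
open Groth.Agent.Lib.FinModifPic42 Groth.Agent.Lib.StructureModule

namespace Groth.Agent.Lib.ThickPic42

section Algebra

/-- units lift along a surjection with nil kernel -/
theorem isUnit_of_map_of_nil {R S : Type*} [CommRing R] [CommRing S] (φ : R →+* S)
    (hφ : Function.Surjective φ) (hker : ∀ r, φ r = 0 → IsNilpotent r) (a : R) (ha : IsUnit (φ a)) :
    IsUnit a := by
  obtain ⟨b, hb⟩ := hφ (↑(ha.unit⁻¹))
  have h1 : φ (a * b - 1) = 0 := by
    rw [map_sub, map_mul, map_one, hb]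
    simp
  have h2 : IsNilpotent (a * b - 1) := hker _ h1
  have h3 : IsUnit (a * b) := by
    have := h2.isUnit_add_one
    simpa using this
  exact isUnit_of_mul_isUnit_left h3

/-- unique `n`-th roots along a surjection with nil kernel -/
theorem existsUnique_root {R S : Type*} [CommRing R] [CommRing S] (φ : R →+* S)
    (hφ : Function.Surjective φ) (hker : ∀ r, φ r = 0 → IsNilpotent r) (n : ℕ)
    (hn : IsUnit (n : S)) (w : R) (η : S) (hη : IsUnit η) (hw : φ w = η ^ n) :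
    ∃! r : R, φ r = η ∧ r ^ n = w := by
  obtain ⟨η', hη'⟩ := hφ η
  have hη'u : IsUnit η' := isUnit_of_map_of_nil φ hφ hker η' (hη' ▸ hη)
  have hnR : IsUnit (n : R) := isUnit_of_map_of_nil φ hφ hker (n : R) (by simpa using hn)
  let P : R[X] := X ^ n - C w
  have hP : ∀ r : R, aeval r P = r ^ n - w := fun r => by simp [P]
  have hP' : ∀ r : R, aeval r (derivative P) = (n : R) * r ^ (n - 1) := fun r => by
    simp [P, derivative_X_pow]
  have h1 : IsNilpotent (aeval η' P) := by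
    rw [hP]
    apply hker
    rw [map_sub, map_pow, hη', hw, sub_self]
  have h2 : IsUnit (aeval η' (derivative P)) := by
    rw [hP']
    exact hnR.mul (hη'u.pow _)
  obtain ⟨r, ⟨hr1, hr2⟩, hr3⟩ := existsUnique_nilpotent_sub_and_aeval_eq_zero h1 h2
  rw [hP, sub_eq_zero] at hr2
  obtain ⟨c, hc⟩ : ∃ c : S, c = η ^ n := ⟨_, rfl⟩
  let Q : S[X] := X ^ n - C c
  have hQ : ∀ s : S, aeval s Q = s ^ n - η ^ n := fun s => by simp [Q, hc]
  have hQ' : ∀ s : S, aeval s (derivative Q) = (n : S) * s ^ (n - 1) := fun s => by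
    simp [Q, derivative_X_pow]
  have h3 : IsNilpotent (aeval η Q) := by rw [hQ, sub_self]; exact IsNilpotent.zero
  have h4 : IsUnit (aeval η (derivative Q)) := by
    rw [hQ']
    exact hn.mul (hη.pow _)
  obtain ⟨s, -, hs⟩ := existsUnique_nilpotent_sub_and_aeval_eq_zero h3 h4
  have himg : ∀ r : R, IsNilpotent (η' - r) → r ^ n = w → φ r = η := by
    intro r hr hrn
    have e1 : φ r = s := hs (φ r) ⟨by
      have := hr.map φ
      rwa [map_sub, hη'] at this, by rw [hQ, ← map_pow, hrn, hw, sub_self]⟩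
    have e2 : η = s := hs η ⟨by rw [sub_self]; exact IsNilpotent.zero, by rw [hQ, sub_self]⟩
    rw [e1, e2]
  refine ⟨r, ⟨himg r hr1 hr2, hr2⟩, fun r' ⟨hr'1, hr'2⟩ => ?_⟩
  apply hr3
  refine ⟨hker _ (by rw [map_sub, hη', hr'1, sub_self]), ?_⟩
  rw [hP, hr'2, sub_self]

end Algebra

section Lift

variable {X X' : Scheme.{u}} (i : X ⟶ X') [IsClosedImmersion i] [Surjective i]

lemma rf_pow {Y : Scheme.{u}} {V W : Y.Opens} (h : W ≤ V) (a : Γ(Y, V)) (n : ℕ) :
    rf h (a ^ n) = rf h a ^ n := map_pow _ _ _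

/-- `r` solves the lifting problem `(η, w)` over `V` -/
def Sol (n : ℕ) {G : X'.Opens} (η : Γ(X, i ⁻¹ᵁ G)) (w : Γ(X', G)) (V : X'.Opens) (hV : V ≤ G)
    (r : Γ(X', V)) : Prop :=
  i.app V r = rf (i.preimage_mono hV) η ∧ r ^ n = rf hV w

variable {i}

lemma Sol.res {n : ℕ} {G : X'.Opens} {η : Γ(X, i ⁻¹ᵁ G)} {w : Γ(X', G)} {V : X'.Opens} {hV : V ≤ G}
    {r : Γ(X', V)} (h : Sol i n η w V hV r) {V' : X'.Opens} (hV' : V' ≤ V) :
    Sol i n η w V' (hV'.trans hV) (rf hV' r) := by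
  refine ⟨?_, ?_⟩
  · rw [app_rf, h.1, rf_rf]
  · rw [← rf_pow, h.2, rf_rf]

variable (i)

theorem existsUnique_sol_affine (n : ℕ) (hu : IsUnit (n : Γ(X, ⊤))) {G : X'.Opens}
    (η : Γ(X, i ⁻¹ᵁ G)) (hη : IsUnit η) (w : Γ(X', G)) (hw : i.app G w = η ^ n)
    (V : X'.Opens) (hV : V ≤ G) (hVaff : IsAffineOpen V) : ∃! r, Sol i n η w V hV r := by
  have hsurj : Function.Surjective (i.app V).hom := i.app_surjective V hVaff
  have hker : ∀ r, (i.app V).hom r = 0 → IsNilpotent r := fun r hr =>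
    Groth.Agent.Lib.ThickAffine.isNilpotent_of_app_eq_zero i V hVaff.isCompact r hr
  have hn : IsUnit ((n : ℕ) : Γ(X, i ⁻¹ᵁ V)) := by
    have := hu.map (X.presheaf.map (homOfLE (le_top : i ⁻¹ᵁ V ≤ ⊤)).op).hom
    rwa [map_natCast] at this
  have hη' : IsUnit (rf (i.preimage_mono hV) η) := hη.map _
  have hw' : (i.app V).hom (rf hV w) = rf (i.preimage_mono hV) η ^ n := by
    change i.app V (rf hV w) = _
    rw [app_rf, hw, rf_pow]
  exact existsUnique_root (i.app V).hom hsurj hker n hn (rf hV w) _ hη' hw'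

/-- solutions over an arbitrary open are unique -/
theorem sol_unique (n : ℕ) (hu : IsUnit (n : Γ(X, ⊤))) {G : X'.Opens}
    (η : Γ(X, i ⁻¹ᵁ G)) (hη : IsUnit η) (w : Γ(X', G)) (hw : i.app G w = η ^ n)
    (V : X'.Opens) (hV : V ≤ G) (r r' : Γ(X', V)) (hr : Sol i n η w V hV r) (hr' : Sol i n η w V hV r') :
    r = r' := by
  let A := {T : X'.Opens // IsAffineOpen T ∧ T ≤ V}
  apply rf_ext (fun T : A => T.1) V (fun T => T.2.2) (fun x hx => by
    obtain ⟨T, hT, hxT, hTV⟩ := Opens.isBasis_iff_nbhd.1 X'.isBasis_affineOpens hx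
    exact Opens.mem_iSup.mpr ⟨⟨T, hT, hTV⟩, hxT⟩)
  intro T
  exact (existsUnique_sol_affine i n hu η hη w hw T.1 (T.2.2.trans hV) T.2.1).unique
    (hr.res T.2.2) (hr'.res T.2.2)

/-- **Existence and uniqueness of the lift over an arbitrary open.** -/
theorem existsUnique_sol (n : ℕ) (hu : IsUnit (n : Γ(X, ⊤))) {G : X'.Opens}
    (η : Γ(X, i ⁻¹ᵁ G)) (hη : IsUnit η) (w : Γ(X', G)) (hw : i.app G w = η ^ n) :
    ∃! r, Sol i n η w G le_rfl r := by
  let A := {T : X'.Opens // IsAffineOpen T ∧ T ≤ G}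
  have hcov : ∀ V : X'.Opens, V ≤ G → V ≤ ⨆ T : {T : A // T.1.1 ≤ V}, T.1.1 := by
    intro V hV x hx
    obtain ⟨T, hT, hxT, hTV⟩ := Opens.isBasis_iff_nbhd.1 X'.isBasis_affineOpens hx
    exact Opens.mem_iSup.mpr ⟨⟨⟨T, hT, hTV.trans hV⟩, hTV⟩, hxT⟩
  have hcovG : G ≤ ⨆ T : A, T.1 := by
    intro x hx
    obtain ⟨T, hT, hxT, hTV⟩ := Opens.isBasis_iff_nbhd.1 X'.isBasis_affineOpens hx
    exact Opens.mem_iSup.mpr ⟨⟨T, hT, hTV⟩, hxT⟩
  have key : ∀ T : A, ∃ r, Sol i n η w T.1 T.2.2 r := fun T =>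
    (existsUnique_sol_affine i n hu η hη w hw T.1 T.2.2 T.2.1).exists
  choose r hr using key
  obtain ⟨g, hg⟩ := rf_glue (fun T : A => T.1) G (fun T => T.2.2) hcovG r (fun T T' => by
    exact sol_unique i n hu η hη w hw (T.1 ⊓ T'.1) (inf_le_left.trans T.2.2) _ _
      ((hr T).res inf_le_left) ((hr T').res inf_le_right))
  have hgsol : Sol i n η w G le_rfl g := by
    refine ⟨?_, ?_⟩
    · apply rf_ext (fun T : A => i ⁻¹ᵁ T.1) (i ⁻¹ᵁ G) (fun T => i.preimage_mono T.2.2) (fun x hx => by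
        obtain ⟨T, hT⟩ := Opens.mem_iSup.mp (hcovG hx)
        exact Opens.mem_iSup.mpr ⟨T, hT⟩)
      intro T
      rw [← app_rf i T.2.2, hg T, (hr T).1, rf_rf]
    · apply rf_ext (fun T : A => T.1) G (fun T => T.2.2) hcovG
      intro T
      rw [rf_pow, hg T, (hr T).2, rf_rf]
  exact ⟨g, hgsol, fun g' hg' => (sol_unique i n hu η hη w hw G le_rfl _ _ hgsol hg').symm⟩

end Lift

section Torsion

variable {X X' : Scheme.{u}} (i : X ⟶ X') [IsClosedImmersion i] [Surjective i]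

/-- a section of the structure module which is a generator is a unit function -/
lemma isUnit_of_isGen_toSec {Y : Scheme.{u}} {V : Y.Opens} (a : Γ(Y, V))
    (h : IsGen (Coh.structureModule Y) V (toSec V a)) : IsUnit a := by
  rw [toSec_eq_smul_one] at h
  exact (isGen_smul_iff (isGen_one V) a).1 h

lemma isGen_toSec_of_isUnit {Y : Scheme.{u}} {V : Y.Opens} (a : Γ(Y, V)) (h : IsUnit a) :
    IsGen (Coh.structureModule Y) V (toSec V a) := by
  rw [toSec_eq_smul_one]
  exact (isGen_smul_iff (isGen_one V) a).2 h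

lemma rs_toSec {Y : Scheme.{u}} {V W : Y.Opens} (h : W ≤ V) (a : Γ(Y, V)) :
    rs (Coh.structureModule Y) h (toSec V a) = toSec W (rf h a) := rfl

lemma smul_toSec {Y : Scheme.{u}} {V : Y.Opens} (a b : Γ(Y, V)) :
    a • toSec V b = toSec V (a * b) := rfl

/-- the function `α(e^{⊗ n})` attached to a local generator `e` and a trivialisation `α` of `L^{⊗ n}` -/
noncomputable def vfun {Y : Scheme.{u}} {L : Y.Modules} {n : ℕ}
    (α : CohB1.tensorPow L n ≅ Coh.structureModule Y) {V : Y.Opens} (e : Γ(L, V)) : Γ(Y, V) :=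
  α.hom.app V (epow e n)

lemma isUnit_vfun {Y : Scheme.{u}} {L : Y.Modules} {n : ℕ}
    (α : CohB1.tensorPow L n ≅ Coh.structureModule Y) {V : Y.Opens} {e : Γ(L, V)} (he : IsGen L V e) :
    IsUnit (vfun α e) :=
  isUnit_of_isGen_toSec _ ((isGen_epow he n).of_iso α)

lemma vfun_rs {Y : Scheme.{u}} {L : Y.Modules} {n : ℕ}
    (α : CohB1.tensorPow L n ≅ Coh.structureModule Y) {V W : Y.Opens} (h : W ≤ V) (e : Γ(L, V)) :
    vfun α (rs L h e) = rf h (vfun α e) := by
  unfold vfun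
  rw [← epow_rs, app_rs]
  rfl

lemma vfun_smul {Y : Scheme.{u}} {L : Y.Modules} {n : ℕ}
    (α : CohB1.tensorPow L n ≅ Coh.structureModule Y) {V : Y.Opens} (a : Γ(Y, V)) (e : Γ(L, V)) :
    vfun α (a • e) = a ^ n * vfun α e := by
  unfold vfun
  rw [epow_smul, Scheme.Modules.Hom.app_smul]
  rfl

/-- **Lifting torsion invertible modules along a thickening.** -/
theorem exists_lift_torsion (n : ℕ) (hu : IsUnit (n : Γ(X, ⊤))) (L : X.Modules)
    (hL : PicF.IsInvertible L) (α : CohB1.tensorPow L n ≅ Coh.structureModule X) :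
    ∃ L' : X'.Modules, PicF.IsInvertible L' ∧
      Nonempty (CohB1.tensorPow L' n ≅ Coh.structureModule X') ∧
      Nonempty ((Scheme.Modules.pullback i).obj L' ≅ L) := by
  -- Step 1: an affine atlas
  have h0 : ∀ x : X', ∃ W : X'.Opens, IsAffineOpen W ∧ x ∈ W ∧
      ∃ e : Γ(L, i ⁻¹ᵁ W), IsGen L (i ⁻¹ᵁ W) e := by
    intro x
    obtain ⟨O, hxO, e, he⟩ := Groth.Agent.Lib.ClosedCoverPic42.exists_open_gen i L hL x
    obtain ⟨T, hT, hxT, hTO⟩ := Opens.isBasis_iff_nbhd.1 X'.isBasis_affineOpens hxO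
    exact ⟨T, hT, hxT, rs L (i.preimage_mono hTO) e, he.mono (i.preimage_mono hTO)⟩
  choose W hWaff hxW e he using h0
  have hW : ⨆ x, W x = ⊤ := by
    rw [eq_top_iff]
    intro x _
    exact Opens.mem_iSup.mpr ⟨x, hxW x⟩
  -- Step 2: the transition functions upstairs
  have huu : ∀ x y, IsUnit (u i W L e he x y) := by
    intro x y
    have h := u_cocycle i W L e he x y x (T := i ⁻¹ᵁ (W x ⊓ W y))
      (i.preimage_mono (le_inf inf_le_left inf_le_left)) le_rfl
      (i.preimage_mono (le_inf inf_le_right inf_le_left))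
    rw [u_self, rf_one, rf_self] at h
    exact IsUnit.of_mul_eq_one _ h.symm
  -- Step 3: the functions `v x = α (e x ^ n)`
  let v : ∀ x, Γ(X, i ⁻¹ᵁ W x) := fun x => vfun α (e x)
  have hv : ∀ x, IsUnit (v x) := fun x => isUnit_vfun α (he x)
  have hvrel : ∀ x y, rf (i.preimage_mono (inf_le_left : W x ⊓ W y ≤ W x)) (v x) =
      u i W L e he x y ^ n * rf (i.preimage_mono (inf_le_right : W x ⊓ W y ≤ W y)) (v y) := by
    intro x y
    rw [← vfun_rs, ← vfun_rs, ← vfun_smul, u_spec]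
  -- Step 4: lifting `v x`
  have hsurj : ∀ x, Function.Surjective (i.app (W x)).hom := fun x => i.app_surjective (W x) (hWaff x)
  have hker : ∀ x r, (i.app (W x)).hom r = 0 → IsNilpotent r := fun x r hr =>
    Groth.Agent.Lib.ThickAffine.isNilpotent_of_app_eq_zero i (W x) (hWaff x).isCompact r hr
  choose v' hv' using fun x => hsurj x (v x)
  have hv'u : ∀ x, IsUnit (v' x) := fun x =>
    isUnit_of_map_of_nil (i.app (W x)).hom (hsurj x) (hker x) (v' x) (by rw [hv' x]; exact hv x)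
  choose vi' hvi' using fun x => (hv'u x).exists_right_inv
  let w : ∀ x y, Γ(X', W x ⊓ W y) := fun x y =>
    rf (inf_le_left : W x ⊓ W y ≤ W x) (v' x) * rf (inf_le_right : W x ⊓ W y ≤ W y) (vi' y)
  have hvv : ∀ x, (i.app (W x)) (v' x) = v x := hv'
  have hw : ∀ x y, i.app (W x ⊓ W y) (w x y) = u i W L e he x y ^ n := by
    intro x y
    change i.app (W x ⊓ W y) (rf _ (v' x) * rf _ (vi' y)) = _
    have hy : v y * i.app (W y) (vi' y) = 1 := by rw [← hvv y, ← map_mul, hvi' y, map_one]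
    rw [map_mul, app_rf, app_rf, hvv x, hvrel x y, mul_assoc, ← rf_mul, hy, rf_one, mul_one]
  -- a restricted form of `w`
  have hwres : ∀ x y (T : X'.Opens) (hT : T ≤ W x ⊓ W y), rf hT (w x y) =
      rf (hT.trans inf_le_left) (v' x) * rf (hT.trans inf_le_right) (vi' y) := by
    intro x y T hT
    change rf hT (rf _ (v' x) * rf _ (vi' y)) = _
    rw [rf_mul, rf_rf, rf_rf]
  -- Step 5: the lifted cocycle
  have hsol := fun x y => existsUnique_sol i n hu (u i W L e he x y) (huu x y) (w x y) (hw x y)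
  choose η' hη' hη'uniq using hsol
  have hη'1 : ∀ x y, i.app (W x ⊓ W y) (η' x y) = u i W L e he x y := by
    intro x y
    have := (hη' x y).1
    rwa [rf_self] at this
  have hη'2 : ∀ x y, η' x y ^ n = w x y := by
    intro x y
    have := (hη' x y).2
    rwa [rf_self] at this
  have h1 : ∀ x, η' x x = 1 := by
    intro x
    refine (hη'uniq x x 1 ⟨?_, ?_⟩).symm
    · rw [map_one, rf_self, u_self]
    · rw [one_pow, rf_self]
      change 1 = rf _ (v' x) * rf _ (vi' x)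
      rw [← rf_mul, hvi' x, rf_one]
  have hc : ∀ x y z,
      rf (inf_le_inf_right (W z) inf_le_left : W x ⊓ W y ⊓ W z ≤ W x ⊓ W z) (η' x z) =
        rf (inf_le_left : W x ⊓ W y ⊓ W z ≤ W x ⊓ W y) (η' x y) *
          rf (inf_le_inf_right (W z) inf_le_right : W x ⊓ W y ⊓ W z ≤ W y ⊓ W z) (η' y z) := by
    intro x y z
    refine sol_unique i n hu (u i W L e he x z) (huu x z) (w x z) (hw x z) (W x ⊓ W y ⊓ W z)
      (inf_le_inf_right (W z) inf_le_left) _ _ ((hη' x z).res _) ⟨?_, ?_⟩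
    · rw [map_mul, app_rf, app_rf, hη'1, hη'1]
      exact (u_cocycle i W L e he x y z _ _ _).symm
    · rw [mul_pow, ← rf_pow, ← rf_pow, hη'2, hη'2, hwres, hwres, hwres]
      have hy : rf (inf_le_left.trans inf_le_right : W x ⊓ W y ⊓ W z ≤ W y) (vi' y) *
          rf (inf_le_left.trans inf_le_right : W x ⊓ W y ⊓ W z ≤ W y) (v' y) = 1 := by
        rw [← rf_mul, mul_comm, hvi' y, rf_one]
      calc _ = rf _ (v' x) * (rf (inf_le_left.trans inf_le_right : W x ⊓ W y ⊓ W z ≤ W y) (vi' y) *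
          rf (inf_le_left.trans inf_le_right : W x ⊓ W y ⊓ W z ≤ W y) (v' y)) * rf _ (vi' z) := by ring
        _ = _ := by rw [hy, mul_one]
  -- Step 6: the glued module
  let L' : X'.Modules := glue W η'
  have hsw : ∀ x y, W x ⊓ W y ≤ W y ⊓ W x := fun x y z hz => ⟨hz.2, hz.1⟩
  refine ⟨L', isInvertible_glue hc hW h1, ?_, ?_⟩
  · -- `L'^{⊗ n}` is trivial
    have hvy : ∀ y, vi' y * v' y = 1 := fun y => by rw [mul_comm, hvi' y]
    obtain ⟨φ, -⟩ := Groth.Agent.Lib.ModIsoGlueH3.exists_iso_of_atlas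
      (L' := CohB1.tensorPow L' n) (L := Coh.structureModule X') (U := W)
      (t := fun x => epow (gen hc x) n) (fun x => isGen_epow (isGen_gen hc h1 x) n)
      (e := fun x => toSec (W x) (v' x)) (fun x => isGen_toSec_of_isUnit _ (hv'u x))
      (g := fun x y => rf (hsw x y) (η' y x) ^ n)
      (fun x y => by
        have h0 := congrArg (rs L' (hsw x y)) (gen_transition hc y x)
        rw [rs_rs, rs_smul, rs_rs] at h0
        rw [epow_rs, epow_rs, h0, epow_smul])
      (fun x y => by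
        rw [rs_toSec, rs_toSec, smul_toSec, ← rf_pow, hη'2, hwres, mul_assoc, ← rf_mul, hvy x, rf_one,
          mul_one])
      hW
    exact ⟨φ⟩
  · -- `i^* L' ≅ L`
    let t : ∀ x, Γ((Scheme.Modules.pullback i).obj L', i ⁻¹ᵁ W x) := fun x => pb i L' (gen hc x)
    have ht : ∀ x, IsGen ((Scheme.Modules.pullback i).obj L') (i ⁻¹ᵁ W x) (t x) := fun x =>
      isGen_pb i (isGen_gen hc h1 x)
    have hsw' : ∀ x y, i ⁻¹ᵁ W x ⊓ i ⁻¹ᵁ W y ≤ i ⁻¹ᵁ (W y ⊓ W x) := fun x y z hz => ⟨hz.2, hz.1⟩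
    have hcov : ⨆ x, i ⁻¹ᵁ W x = ⊤ := by
      rw [eq_top_iff]
      intro z _
      exact Opens.mem_iSup.mpr ⟨i z, hxW (i z)⟩
    obtain ⟨φ, -⟩ := Groth.Agent.Lib.ModIsoGlueH3.exists_iso_of_atlas
      (L' := (Scheme.Modules.pullback i).obj L') (L := L) (U := fun x => i ⁻¹ᵁ W x)
      (t := t) ht (e := e) he (g := fun x y => rf (hsw' x y) (u i W L e he y x))
      (fun x y => by
        have h0 := gen_transition hc y x
        have h2 := congrArg (pb i L') h0
        rw [pb_rs, pb_smul, pb_rs, hη'1] at h2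
        have h3 := congrArg (rs ((Scheme.Modules.pullback i).obj L') (hsw' x y)) h2
        rw [rs_rs, rs_smul, rs_rs] at h3
        exact h3)
      (fun x y => (u_spec' i W L e he y x (hsw' x y)).symm)
      hcov
    exact ⟨φ⟩

end Torsion

end Groth.Agent.Lib.ThickPic42
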