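import Groth.Agent.Lib.PthRootDescent42
import Groth.Agent.Lib.ThickPic42
import Mathlib.AlgebraicGeometry.Morphisms.Etale
import Mathlib.AlgebraicGeometry.Morphisms.Finite
import Mathlib.AlgebraicGeometry.Morphisms.Flat
import Mathlib.AlgebraicGeometry.Morphisms.UniversallyOpen
import Mathlib.AlgebraicGeometry.FunctionField

/-!
# helper42: finite étale covers and `p`-torsion invertible modules in characteristic `p`
(namespace `Groth.Agent.Lib.EtaleApp42`)

* `surjective_of_finite_etale`: finite étale from nonempty to connected is surjective.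
* `faithfullyFlat_app`, `etale_app`, `app_injective`: `f^♯` on (affine) opens for `f` flat/étale, affine, surjective.
* `exists_app_eq_of_pow_char`: `p`-th roots of functions descend along a finite étale surjective `f : X' ⟶ X`, `X` integral
  of characteristic `p`.
* `bfun`: the unit function `β (f^* e)` for a trivialisation `β` of `f^* L`.
* `tensorPow_trivial_of_pullback_trivial`: if `L^{⊗ pm}` and `f^* L` are trivial, `f` finite étale, every global unit of
  `X'` a `p`-th power, then `L^{⊗ m}` is trivial.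
-/

set_option autoImplicit false
universe u
open CategoryTheory CategoryTheory.Limits AlgebraicGeometry TopologicalSpace Opposite
open Groth.Agent.Lib.H90Invertible Groth.Agent.Lib.H78TensorGen Groth.Agent.Lib.H78SecCoord
open Groth.Agent.Lib.H78Atlas Groth.Agent.Lib.InvGlue42 Groth.Agent.Lib.H78PullSec
open Groth.Agent.Lib.FinModifPic42 Groth.Agent.Lib.ThickPic42 Groth.Agent.Lib.StructureModule

namespace Groth.Agent.Lib.EtaleApp42

variable {X X' : Scheme.{u}} (f : X' ⟶ X)

/-- a finite étale morphism from a nonempty scheme to a connected scheme is surjective -/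
theorem surjective_of_finite_etale [IsFinite f] [Etale f] [PreconnectedSpace X] [Nonempty X'] :
    Surjective f := by
  constructor
  have hopen : IsOpen (Set.range f) := f.isOpenMap.isOpen_range
  have hclosed : IsClosed (Set.range f) := f.isClosedMap.isClosed_range
  have hne : (Set.range f).Nonempty := Set.range_nonempty _
  have := IsClopen.eq_univ ⟨hclosed, hopen⟩ hne
  exact Set.range_eq_univ.mp this

/-- for `f` flat, affine and surjective, `f^♯` is faithfully flat on affine opens -/
theorem faithfullyFlat_app [Flat f] [Surjective f] [IsAffineHom f] (U : X.Opens) (hU : IsAffineOpen U) :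
    (f.app U).hom.FaithfullyFlat := by
  have hV : IsAffineOpen (f ⁻¹ᵁ U) := hU.preimage f
  rw [RingHom.FaithfullyFlat.iff_flat_and_comap_surjective]
  constructor
  · have := HasRingHomProperty.appLE @Flat f inferInstance ⟨U, hU⟩ ⟨f ⁻¹ᵁ U, hV⟩ le_rfl
    rwa [← Scheme.Hom.app_eq_appLE] at this
  · intro 𝔭
    have hy : hU.fromSpec 𝔭 ∈ U := by
      have : hU.fromSpec 𝔭 ∈ Set.range hU.fromSpec := ⟨𝔭, rfl⟩
      rwa [hU.range_fromSpec] at this
    obtain ⟨x, hx⟩ := f.surjective (hU.fromSpec 𝔭)
    have hxV : x ∈ f ⁻¹ᵁ U := by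
      change f x ∈ U
      rw [hx]
      exact hy
    obtain ⟨𝔮, h𝔮⟩ : x ∈ Set.range hV.fromSpec := by
      rw [hV.range_fromSpec]
      exact hxV
    refine ⟨𝔮, ?_⟩
    apply hU.fromSpec.isOpenEmbedding.injective
    have h1 := congrArg (fun g => g.base 𝔮) (IsAffineOpen.SpecMap_appLE_fromSpec f hU hV le_rfl)
    simp only [Scheme.Hom.comp_base, TopCat.comp_app] at h1
    rw [← Scheme.Hom.app_eq_appLE] at h1
    rw [← hx, ← h𝔮]
    exact h1

/-- for `f` étale and affine, `f^♯` is étale on affine opens -/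
theorem etale_app [Etale f] [IsAffineHom f] (U : X.Opens) (hU : IsAffineOpen U) :
    (f.app U).hom.Etale := by
  have hV : IsAffineOpen (f ⁻¹ᵁ U) := hU.preimage f
  have := HasRingHomProperty.appLE @Etale f inferInstance ⟨U, hU⟩ ⟨f ⁻¹ᵁ U, hV⟩ le_rfl
  rwa [← Scheme.Hom.app_eq_appLE] at this

/-- `p`-th roots of functions descend along a finite étale surjective morphism to an integral scheme of char. `p` -/
theorem exists_app_eq_of_pow_char [IsIntegral X] [IsFinite f] [Etale f] [Surjective f] (p : ℕ) [Fact p.Prime]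
    (hp : (p : Γ(X, ⊤)) = 0) (U : X.Opens) (hU : IsAffineOpen U) [Nonempty U]
    (b : Γ(X', f ⁻¹ᵁ U)) (c : Γ(X, U)) (h : b ^ p = f.app U c) : ∃ a : Γ(X, U), f.app U a = b := by
  have h1 := etale_app f U hU
  have h2 := faithfullyFlat_app f U hU
  algebraize [(f.app U).hom]
  have hpU : (p : Γ(X, U)) = 0 := by
    have := congrArg (X.presheaf.map (homOfLE (le_top : U ≤ ⊤)).op).hom hp
    rwa [map_natCast, map_zero] at this
  have hchar : CharP Γ(X, U) p :=
    ringChar.of_eq (CharP.ringChar_of_prime_eq_zero (Fact.out : p.Prime) hpU)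
  obtain ⟨a, ha⟩ := Groth.Agent.Lib.PthRootDescent42.exists_algebraMap_eq_of_pow_char Γ(X, U) Γ(X', f ⁻¹ᵁ U) p b c h
  exact ⟨a, ha⟩

/-- for `f` flat, affine and surjective, `f^♯` is injective on all opens -/
theorem app_injective [Flat f] [Surjective f] [IsAffineHom f] (W : X.Opens) :
    Function.Injective (f.app W) := by
  intro a a' haa
  obtain ⟨S, hS, hWS⟩ := Opens.isBasis_iff_cover.1 X.isBasis_affineOpens W
  have hle : ∀ s : S, s.1 ≤ W := fun s => by
    rw [hWS]
    exact le_sSup s.2
  refine rf_ext (fun s : S => s.1) W hle ?_ a a' (fun s => ?_)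
  · rw [hWS, sSup_eq_iSup']
  · have hinj := (faithfullyFlat_app f s.1 (hS s.2)).injective
    apply hinj
    change f.app s.1 (rf (hle s) a) = f.app s.1 (rf (hle s) a')
    rw [app_rf, app_rf, haa]

/-- the function `β(f^* e)` attached to a local section `e` of `L` and a trivialisation `β` of `f^* L` -/
noncomputable def bfun {L : X.Modules}
    (β : (Scheme.Modules.pullback f).obj L ≅ Coh.structureModule X') {V : X.Opens} (e : Γ(L, V)) :
    Γ(X', f ⁻¹ᵁ V) :=
  β.hom.app (f ⁻¹ᵁ V) (pb f L e)

lemma isUnit_bfun {L : X.Modules}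
    (β : (Scheme.Modules.pullback f).obj L ≅ Coh.structureModule X') {V : X.Opens} {e : Γ(L, V)}
    (he : IsGen L V e) : IsUnit (bfun f β e) :=
  isUnit_of_isGen_toSec _ ((isGen_pb f he).of_iso β)

lemma bfun_rs {L : X.Modules}
    (β : (Scheme.Modules.pullback f).obj L ≅ Coh.structureModule X') {V W : X.Opens} (h : W ≤ V)
    (e : Γ(L, V)) : bfun f β (rs L h e) = rf (f.preimage_mono h) (bfun f β e) := by
  unfold bfun
  rw [pb_rs, app_rs]
  rfl

lemma bfun_smul {L : X.Modules}
    (β : (Scheme.Modules.pullback f).obj L ≅ Coh.structureModule X') {V : X.Opens} (a : Γ(X, V))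
    (e : Γ(L, V)) : bfun f β (a • e) = f.app V a * bfun f β e := by
  unfold bfun
  rw [pb_smul, Scheme.Modules.Hom.app_smul]
  rfl

/-- **Key theorem**: `X` integral of characteristic `p`, `f : X' ⟶ X` finite étale with `X'` nonempty such that
every global unit of `X'` is a `p`-th power, `L` invertible on `X` with `L^{⊗ pm}` and `f^* L` trivial: then
`L^{⊗ m}` is trivial. -/
theorem tensorPow_trivial_of_pullback_trivial [IsIntegral X] [IsFinite f] [Etale f] [Nonempty X']
    (p : ℕ) [Fact p.Prime] (hp : (p : Γ(X, ⊤)) = 0)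
    (hroot : ∀ u : Γ(X', ⊤), IsUnit u → ∃ v : Γ(X', ⊤), v ^ p = u)
    (L : X.Modules) (hL : PicF.IsInvertible L) (m : ℕ)
    (α : CohB1.tensorPow L (p * m) ≅ Coh.structureModule X)
    (β : (Scheme.Modules.pullback f).obj L ≅ Coh.structureModule X') :
    Nonempty (CohB1.tensorPow L m ≅ Coh.structureModule X) := by
  have hsurj : Surjective f := surjective_of_finite_etale f
  have hp0 : p ≠ 0 := (Fact.out : p.Prime).ne_zero
  obtain ⟨U, hxU, hUaff, ⟨A⟩⟩ := exists_atlas hL
  have hne : ∀ x, Nonempty (U x) := fun x => ⟨⟨x, hxU x⟩⟩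
  have hU : ⨆ x, U x = ⊤ := iSup_eq_top_of_mem hxU
  -- the functions `c x = α (e x ^ (pm))` and `b x = β (f^* e x)`
  let c : ∀ x, Γ(X, U x) := fun x => vfun α (A.E x)
  have hc : ∀ x, IsUnit (c x) := fun x => isUnit_vfun α (A.gen x)
  let b : ∀ x, Γ(X', f ⁻¹ᵁ U x) := fun x => bfun f β (A.E x)
  have hb : ∀ x, IsUnit (b x) := fun x => isUnit_bfun f β (A.gen x)
  have hcrel : ∀ x y, rf (inf_le_right : U x ⊓ U y ≤ U y) (c y) =
      A.trans x y ^ (p * m) * rf (inf_le_left : U x ⊓ U y ≤ U x) (c x) := by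
    intro x y
    have h1 := congrArg (vfun α) (A.trans_spec x y)
    rw [vfun_smul, vfun_rs, vfun_rs] at h1
    exact h1.symm
  have hbrel : ∀ x y, rf (f.preimage_mono (inf_le_right : U x ⊓ U y ≤ U y)) (b y) =
      f.app (U x ⊓ U y) (A.trans x y) * rf (f.preimage_mono (inf_le_left : U x ⊓ U y ≤ U x)) (b x) := by
    intro x y
    have h1 := congrArg (bfun f β) (A.trans_spec x y)
    rw [bfun_smul, bfun_rs, bfun_rs] at h1
    exact h1.symm
  choose cinv hcinv using fun x => (hc x).exists_right_inv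
  -- the global unit `w`
  let V : X → X'.Opens := fun x => f ⁻¹ᵁ U x
  have hV : ⨆ x, V x = ⊤ := by
    rw [eq_top_iff]
    intro z _
    exact Opens.mem_iSup.mpr ⟨f z, hxU (f z)⟩
  let w : ∀ x, Γ(X', V x) := fun x => b x ^ (p * m) * f.app (U x) (cinv x)
  have hcinvu : ∀ x, IsUnit (cinv x) := fun x =>
    IsUnit.of_mul_eq_one (c x) (by rw [mul_comm]; exact hcinv x)
  have hwu : ∀ x, IsUnit (w x) := fun x =>
    ((hb x).pow _).mul ((hcinvu x).map (f.app (U x)).hom)
  have hsw : ∀ x y, V x ⊓ V y ≤ f ⁻¹ᵁ (U x ⊓ U y) := fun x y z hz => hz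
  have hwcompat : ∀ x y, rf (inf_le_left : V x ⊓ V y ≤ V x) (w x) =
      rf (inf_le_right : V x ⊓ V y ≤ V y) (w y) := by
    intro x y
    -- work on `f⁻¹(U x ⊓ U y)`
    have key : rf (f.preimage_mono (inf_le_left : U x ⊓ U y ≤ U x)) (w x) =
        rf (f.preimage_mono (inf_le_right : U x ⊓ U y ≤ U y)) (w y) := by
      change rf _ (b x ^ (p * m) * f.app (U x) (cinv x)) = rf _ (b y ^ (p * m) * f.app (U y) (cinv y))
      -- `cinv x = g^(pm) * cinv y` on `U x ⊓ U y`
      have h1 : rf (inf_le_left : U x ⊓ U y ≤ U x) (c x) * rf inf_le_left (cinv x) = 1 := by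
        rw [← rf_mul, hcinv x, rf_one]
      have h2 : rf (inf_le_right : U x ⊓ U y ≤ U y) (c y) * rf inf_le_right (cinv y) = 1 := by
        rw [← rf_mul, hcinv y, rf_one]
      rw [hcrel x y] at h2
      have h3 : rf (inf_le_left : U x ⊓ U y ≤ U x) (cinv x) =
          A.trans x y ^ (p * m) * rf inf_le_right (cinv y) := by
        calc rf inf_le_left (cinv x) = rf inf_le_left (cinv x) * (A.trans x y ^ (p * m) *
              rf (inf_le_left : U x ⊓ U y ≤ U x) (c x) * rf inf_le_right (cinv y)) := by rw [h2, mul_one]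
          _ = (rf (inf_le_left : U x ⊓ U y ≤ U x) (c x) * rf inf_le_left (cinv x)) *
              (A.trans x y ^ (p * m) * rf inf_le_right (cinv y)) := by ring
          _ = _ := by rw [h1, one_mul]
      have h4 := congrArg (f.app (U x ⊓ U y)) h3
      rw [map_mul, map_pow, app_rf, app_rf] at h4
      rw [rf_mul, rf_mul, rf_pow, rf_pow, hbrel x y, mul_pow, h4]
      ring
    have := congrArg (rf (hsw x y)) key
    rwa [rf_rf, rf_rf] at this
  obtain ⟨w0, hw0⟩ := rf_glue V ⊤ (fun _ => le_top) (by rw [hV]) w hwcompat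
  have hw0u : IsUnit w0 := by
    have h1 : ∀ x, V x ≤ X'.basicOpen w0 := fun x =>
      (isUnit_map_iff le_top w0).1 (by
        have := hwu x
        rw [← hw0 x] at this
        exact this)
    have h2 : (⊤ : X'.Opens) ≤ X'.basicOpen w0 := le_trans (le_of_eq hV.symm) (iSup_le h1)
    have h3 := (isUnit_map_iff le_rfl w0).2 h2
    have h4 : X'.presheaf.map (homOfLE (le_refl (⊤ : X'.Opens))).op w0 = w0 := rf_self w0
    rwa [h4] at h3
  obtain ⟨v, hv⟩ := hroot w0 hw0u
  have hvu : IsUnit v := by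
    have : IsUnit (v ^ p) := hv ▸ hw0u
    exact (isUnit_pow_iff hp0).1 this
  obtain ⟨vinv, hvinv⟩ := hvu.exists_right_inv
  -- the `p`-th roots `b' x` of `f^♯ (c x)`
  let b' : ∀ x, Γ(X', V x) := fun x => b x ^ m * rf (le_top : V x ≤ ⊤) vinv
  have hb'pow : ∀ x, b' x ^ p = f.app (U x) (c x) := by
    intro x
    have h1 : rf (le_top : V x ≤ ⊤) v ^ p = b x ^ (p * m) * f.app (U x) (cinv x) := by
      rw [← rf_pow, hv, hw0 x]
    have h2 : rf (le_top : V x ≤ ⊤) v * rf le_top vinv = 1 := by rw [← rf_mul, hvinv, rf_one]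
    have h3 : f.app (U x) (c x) * f.app (U x) (cinv x) = 1 := by rw [← map_mul, hcinv x, map_one]
    change (b x ^ m * rf le_top vinv) ^ p = _
    calc (b x ^ m * rf le_top vinv) ^ p = b x ^ (p * m) * (rf le_top vinv) ^ p := by ring
      _ = (b x ^ (p * m) * (f.app (U x) (c x) * f.app (U x) (cinv x))) * (rf le_top vinv) ^ p := by
          rw [h3, mul_one]
      _ = (b x ^ (p * m) * f.app (U x) (cinv x)) * f.app (U x) (c x) * (rf le_top vinv) ^ p := by ring
      _ = rf (le_top : V x ≤ ⊤) v ^ p * f.app (U x) (c x) * (rf le_top vinv) ^ p := by rw [← h1]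
      _ = (rf (le_top : V x ≤ ⊤) v * rf le_top vinv) ^ p * f.app (U x) (c x) := by ring
      _ = f.app (U x) (c x) := by rw [h2, one_pow, one_mul]
  choose a ha using fun x => by
    haveI := hne x
    exact exists_app_eq_of_pow_char f p hp (U x) (hUaff x) (b' x) (c x) (hb'pow x)
  have hinj : ∀ W : X.Opens, Function.Injective (f.app W) := app_injective f
  have hapow : ∀ x, a x ^ p = c x := by
    intro x
    apply hinj (U x)
    rw [map_pow, ha x, hb'pow x]
  have hau : ∀ x, IsUnit (a x) := fun x => (isUnit_pow_iff hp0).1 (by rw [hapow x]; exact hc x)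
  have harel : ∀ x y, rf (inf_le_right : U x ⊓ U y ≤ U y) (a y) =
      A.trans x y ^ m * rf (inf_le_left : U x ⊓ U y ≤ U x) (a x) := by
    intro x y
    apply hinj (U x ⊓ U y)
    rw [map_mul, map_pow, app_rf, app_rf, ha x, ha y]
    change rf _ (b y ^ m * rf le_top vinv) = _ * rf _ (b x ^ m * rf le_top vinv)
    rw [rf_mul, rf_mul, rf_pow, rf_pow, hbrel x y, mul_pow, rf_rf, rf_rf]
    ring
  obtain ⟨φ, -⟩ := Groth.Agent.Lib.ModIsoGlueH3.exists_iso_of_atlas
      (L' := CohB1.tensorPow L m) (L := Coh.structureModule X) (U := U)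
      (t := fun x => epow (A.E x) m) (fun x => isGen_epow (A.gen x) m)
      (e := fun x => toSec (U x) (a x)) (fun x => isGen_toSec_of_isUnit _ (hau x))
      (g := fun x y => A.trans x y ^ m)
      (fun x y => by
        rw [epow_rs, epow_rs, ← A.trans_spec x y, epow_smul])
      (fun x y => by
        rw [rs_toSec, rs_toSec, smul_toSec, harel x y])
      hU
  exact ⟨φ⟩

end Groth.Agent.Lib.EtaleApp42
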