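import Mathlib.RingTheory.Henselian
import Mathlib.Algebra.Polynomial.Identities
import Mathlib.RingTheory.LocalRing.ResidueField.Basic
import Mathlib.RingTheory.LocalRing.RingHom.Basic
import Mathlib.RingTheory.Localization.AtPrime.Basic
import Mathlib.RingTheory.MvPolynomial.Basic
import Mathlib.RingTheory.Ideal.Quotient.Operations

/-!
# One step of the henselization construction (helper22)

For a local ring `A` we adjoin, for every Hensel datum `(F, a₀)` (a monic polynomial with a simple
root `a₀` modulo the maximal ideal), a root `x` of `F` congruent to `a₀`, and localize at the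
resulting maximal ideal.  The result `Step A` is a local `A`-algebra with a local structure map in
which every Hensel datum of `A` has a root, and which maps uniquely to every henselian local ring
under `A`.
-/

namespace Groth.Agent.Lib.HenselStep

open Polynomial IsLocalRing

universe u

section Uniq

variable {T : Type*} [CommRing T] [IsLocalRing T]

/-- Roots of a polynomial that are congruent modulo the maximal ideal to a simple root agree. -/
theorem root_unique (F : T[X]) {b b' : T} (hb : F.IsRoot b) (hb' : F.IsRoot b')
    (hu : IsUnit (F.derivative.eval b)) (hbb' : b' - b ∈ maximalIdeal T) : b' = b := by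
  obtain ⟨c, hc⟩ := F.binomExpansion b (b' - b)
  rw [add_sub_cancel, hb'.eq_zero, hb.eq_zero, zero_add] at hc
  have h1 : (b' - b) * (F.derivative.eval b + c * (b' - b)) = 0 := by
    rw [hc]; ring
  have h2 : IsUnit (F.derivative.eval b + c * (b' - b)) := by
    by_contra hcon
    have hmem : F.derivative.eval b + c * (b' - b) ∈ maximalIdeal T := hcon
    have : F.derivative.eval b ∈ maximalIdeal T := by
      have := Ideal.sub_mem _ hmem (Ideal.mul_mem_left _ c hbb')
      simpa using this
    exact this hu
  have h3 : b' - b = 0 := by
    rcases h2 with ⟨v, hv⟩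
    rw [← hv] at h1
    exact (Units.mul_left_eq_zero v).mp h1
  exact sub_eq_zero.mp h3

end Uniq

variable (A : Type u) [CommRing A] [IsLocalRing A]

/-- Hensel data of a local ring: a monic polynomial together with an approximate simple root. -/
def HData : Type u :=
  { p : A[X] × A // p.1.Monic ∧ p.1.eval p.2 ∈ maximalIdeal A ∧ IsUnit (p.1.derivative.eval p.2) }

variable {A} in
/-- The polynomial of a Hensel datum. -/
def HData.poly (p : HData A) : A[X] := p.1.1

variable {A} in
/-- The approximate root of a Hensel datum. -/
def HData.pt (p : HData A) : A := p.1.2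

variable {A} in
theorem HData.monic (p : HData A) : p.poly.Monic := p.2.1

variable {A} in
theorem HData.eval_mem (p : HData A) : p.poly.eval p.pt ∈ maximalIdeal A := p.2.2.1

variable {A} in
theorem HData.isUnit_derivative (p : HData A) : IsUnit (p.poly.derivative.eval p.pt) := p.2.2.2

/-- The ideal of relations `F_p (X_p) = 0`. -/
noncomputable def relIdeal : Ideal (MvPolynomial (HData A) A) :=
  Ideal.span (Set.range fun p : HData A =>
    Polynomial.aeval (MvPolynomial.X p : MvPolynomial (HData A) A) p.poly)

/-- The ring obtained by adjoining formal roots for all Hensel data. -/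
abbrev StepPre : Type u := MvPolynomial (HData A) A ⧸ relIdeal A

/-- Evaluation of the polynomial ring in the residue field at the approximate roots. -/
noncomputable def evalPoly : MvPolynomial (HData A) A →+* ResidueField A :=
  MvPolynomial.eval₂Hom (residue A) (fun p => residue A p.pt)

theorem evalPoly_aeval_X (p : HData A) (F : A[X]) :
    evalPoly A (Polynomial.aeval (MvPolynomial.X p : MvPolynomial (HData A) A) F) =
      residue A (F.eval p.pt) := by
  rw [Polynomial.aeval_def, Polynomial.hom_eval₂]
  have h1 : (evalPoly A).comp (algebraMap A (MvPolynomial (HData A) A)) = residue A := by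
    ext a
    simp [evalPoly, MvPolynomial.algebraMap_eq]
  have h2 : evalPoly A (MvPolynomial.X p) = residue A p.pt := by
    simp [evalPoly]
  rw [h1, h2, Polynomial.eval₂_at_apply]

theorem relIdeal_le_ker : relIdeal A ≤ RingHom.ker (evalPoly A) := by
  rw [relIdeal, Ideal.span_le]
  rintro _ ⟨p, rfl⟩
  rw [SetLike.mem_coe, RingHom.mem_ker, evalPoly_aeval_X]
  exact (residue_eq_zero_iff _).mpr p.eval_mem

/-- Evaluation of `StepPre A` in the residue field. -/
noncomputable def evalKappa : StepPre A →+* ResidueField A :=
  Ideal.Quotient.lift (relIdeal A) (evalPoly A) (fun _ ha => relIdeal_le_ker A ha)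

theorem evalKappa_algebraMap (a : A) :
    evalKappa A (algebraMap A (StepPre A) a) = residue A a := by
  show evalKappa A (Ideal.Quotient.mk _ (algebraMap A (MvPolynomial (HData A) A) a)) = _
  rw [evalKappa, Ideal.Quotient.lift_mk]
  simp [evalPoly, MvPolynomial.algebraMap_eq]

theorem evalKappa_mk_X (p : HData A) :
    evalKappa A (Ideal.Quotient.mk _ (MvPolynomial.X p)) = residue A p.pt := by
  rw [evalKappa, Ideal.Quotient.lift_mk]
  simp [evalPoly]

theorem evalKappa_surjective : Function.Surjective (evalKappa A) := by
  intro x
  obtain ⟨a, rfl⟩ := residue_surjective x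
  exact ⟨algebraMap A (StepPre A) a, evalKappa_algebraMap A a⟩

/-- The maximal ideal of `StepPre A` at which we localize. -/
noncomputable def stepPrime : Ideal (StepPre A) := RingHom.ker (evalKappa A)

instance stepPrime_isMaximal : (stepPrime A).IsMaximal :=
  RingHom.ker_isMaximal_of_surjective _ (evalKappa_surjective A)

instance stepPrime_isPrime : (stepPrime A).IsPrime := (stepPrime_isMaximal A).isPrime

/-- One step of the henselization construction. -/
def Step : Type u := Localization.AtPrime (stepPrime A)

noncomputable instance : CommRing (Step A) :=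
  inferInstanceAs (CommRing (Localization.AtPrime (stepPrime A)))

noncomputable instance : Algebra (StepPre A) (Step A) :=
  inferInstanceAs (Algebra (StepPre A) (Localization.AtPrime (stepPrime A)))

instance : IsLocalization.AtPrime (Step A) (stepPrime A) :=
  inferInstanceAs (IsLocalization.AtPrime (Localization.AtPrime (stepPrime A)) (stepPrime A))

noncomputable instance : Algebra A (Step A) :=
  inferInstanceAs (Algebra A (Localization.AtPrime (stepPrime A)))

instance : IsScalarTower A (StepPre A) (Step A) :=
  inferInstanceAs (IsScalarTower A (StepPre A) (Localization.AtPrime (stepPrime A)))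

instance : IsLocalRing (Step A) :=
  inferInstanceAs (IsLocalRing (Localization.AtPrime (stepPrime A)))

section StepBasic

theorem algebraMap_step_apply (a : A) :
    algebraMap A (Step A) a = algebraMap (StepPre A) (Step A) (algebraMap A (StepPre A) a) :=
  IsScalarTower.algebraMap_apply A (StepPre A) (Step A) a

theorem algebraMap_mem_maximalIdeal_iff (x : StepPre A) :
    algebraMap (StepPre A) (Step A) x ∈ maximalIdeal (Step A) ↔ evalKappa A x = 0 := by
  rw [IsLocalization.AtPrime.to_map_mem_maximal_iff (Step A) (stepPrime A) x]
  rfl

instance isLocalHom_algebraMap_step : IsLocalHom (algebraMap A (Step A)) := by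
  refine ⟨fun a ha => ?_⟩
  rw [← residue_ne_zero_iff_isUnit, ← evalKappa_algebraMap]
  intro h0
  have hmem : algebraMap A (Step A) a ∈ maximalIdeal (Step A) := by
    rw [algebraMap_step_apply, algebraMap_mem_maximalIdeal_iff]
    exact h0
  exact hmem ha

/-- The adjoined root of a Hensel datum. -/
noncomputable def root (p : HData A) : Step A :=
  algebraMap (StepPre A) (Step A) (Ideal.Quotient.mk _ (MvPolynomial.X p))

/-- The `A`-algebra map from the polynomial ring to `Step A`. -/
noncomputable def polyToStep : MvPolynomial (HData A) A →ₐ[A] Step A :=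
  (IsScalarTower.toAlgHom A (StepPre A) (Step A)).comp (Ideal.Quotient.mkₐ A (relIdeal A))

theorem polyToStep_X (p : HData A) : polyToStep A (MvPolynomial.X p) = root A p := rfl

theorem aeval_root (p : HData A) : Polynomial.aeval (root A p) p.poly = 0 := by
  rw [← polyToStep_X, Polynomial.aeval_algHom_apply]
  have : Polynomial.aeval (MvPolynomial.X p : MvPolynomial (HData A) A) p.poly ∈ relIdeal A :=
    Ideal.subset_span ⟨p, rfl⟩
  show algebraMap (StepPre A) (Step A) (Ideal.Quotient.mk _ _) = 0
  rw [Ideal.Quotient.eq_zero_iff_mem.mpr this, map_zero]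

theorem isRoot_root (p : HData A) : (p.poly.map (algebraMap A (Step A))).IsRoot (root A p) := by
  rw [IsRoot.def, Polynomial.eval_map_algebraMap]
  exact aeval_root A p

theorem root_sub_mem_maximalIdeal (p : HData A) :
    root A p - algebraMap A (Step A) p.pt ∈ maximalIdeal (Step A) := by
  rw [algebraMap_step_apply, root, ← (algebraMap (StepPre A) (Step A)).map_sub,
    algebraMap_mem_maximalIdeal_iff, map_sub, evalKappa_mk_X, evalKappa_algebraMap, sub_self]

/-- The adjoined root differs from the approximate root by an element of `m_A (Step A)`. -/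
theorem root_sub_mem_map (p : HData A) :
    root A p - algebraMap A (Step A) p.pt ∈ (maximalIdeal A).map (algebraMap A (Step A)) := by
  set F := p.poly.map (algebraMap A (Step A)) with hF
  set a := algebraMap A (Step A) p.pt with ha
  set y := root A p - a with hy
  obtain ⟨c, hc⟩ := F.binomExpansion a y
  have hroot : F.eval (a + y) = 0 := by
    have : a + y = root A p := by rw [hy]; ring
    rw [this]; exact isRoot_root A p
  have hFa : F.eval a = algebraMap A (Step A) (p.poly.eval p.pt) := by
    rw [hF, ha, Polynomial.eval_map, Polynomial.eval₂_at_apply]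
  have hF'a : F.derivative.eval a = algebraMap A (Step A) (p.poly.derivative.eval p.pt) := by
    rw [hF, ha, Polynomial.derivative_map, Polynomial.eval_map, Polynomial.eval₂_at_apply]
  have hunit : IsUnit (F.derivative.eval a + c * y) := by
    by_contra hcon
    have hmem : F.derivative.eval a + c * y ∈ maximalIdeal (Step A) := hcon
    have h2 : F.derivative.eval a ∈ maximalIdeal (Step A) := by
      have h5 : c * y ∈ maximalIdeal (Step A) :=
        Ideal.mul_mem_left _ c (root_sub_mem_maximalIdeal A p)
      have := Ideal.sub_mem _ hmem h5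
      simpa using this
    rw [hF'a] at h2
    exact h2 (p.isUnit_derivative.map _)
  obtain ⟨v, hv⟩ := hunit
  have h3 : y * (v : Step A) = -F.eval a := by
    rw [hv]
    have : F.eval a + F.derivative.eval a * y + c * y ^ 2 = 0 := by rw [← hc, hroot]
    linear_combination this
  have h4 : y = -F.eval a * (↑v⁻¹ : Step A) := by
    rw [← h3, mul_assoc, Units.mul_inv, mul_one]
  rw [h4, hFa]
  apply Ideal.mul_mem_right
  exact neg_mem (Ideal.mem_map_of_mem _ p.eval_mem)

end StepBasic

section Lift

variable {A}
variable {T : Type*} [CommRing T] [HenselianLocalRing T] (φ : A →+* T) [IsLocalHom φ]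

theorem exists_rootIn (p : HData A) :
    ∃ b : T, (p.poly.map φ).IsRoot b ∧ b - φ p.pt ∈ maximalIdeal T := by
  apply HenselianLocalRing.is_henselian (p.poly.map φ) (p.monic.map φ) (φ p.pt)
  · rw [Polynomial.eval_map, Polynomial.eval₂_at_apply]
    exact map_nonunit φ _ p.eval_mem
  · rw [Polynomial.derivative_map, Polynomial.eval_map, Polynomial.eval₂_at_apply]
    exact p.isUnit_derivative.map φ

/-- The chosen root in `T` of the image of a Hensel datum. -/
noncomputable def rootIn (p : HData A) : T := (exists_rootIn φ p).choose

theorem rootIn_isRoot (p : HData A) : (p.poly.map φ).IsRoot (rootIn φ p) :=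
  (exists_rootIn φ p).choose_spec.1

theorem rootIn_sub_mem (p : HData A) : rootIn φ p - φ p.pt ∈ maximalIdeal T :=
  (exists_rootIn φ p).choose_spec.2

theorem isUnit_derivative_rootIn (p : HData A) :
    IsUnit ((p.poly.map φ).derivative.eval (rootIn φ p)) := by
  have h0 : IsUnit ((p.poly.map φ).derivative.eval (φ p.pt)) := by
    rw [Polynomial.derivative_map, Polynomial.eval_map, Polynomial.eval₂_at_apply]
    exact p.isUnit_derivative.map φ
  obtain ⟨z, hz⟩ := (p.poly.map φ).derivative.evalSubFactor (rootIn φ p) (φ p.pt)
  by_contra hcon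
  have hmem : (p.poly.map φ).derivative.eval (rootIn φ p) ∈ maximalIdeal T := hcon
  have h1 : z * (rootIn φ p - φ p.pt) ∈ maximalIdeal T :=
    Ideal.mul_mem_left _ z (rootIn_sub_mem φ p)
  have h2 : (p.poly.map φ).derivative.eval (φ p.pt) ∈ maximalIdeal T := by
    have := Ideal.sub_mem _ hmem h1
    rw [← hz] at this
    simpa using this
  exact h2 h0

/-- The map from the polynomial ring to `T`. -/
noncomputable def liftPoly : MvPolynomial (HData A) A →+* T :=
  MvPolynomial.eval₂Hom φ (rootIn φ)

theorem relIdeal_le_ker_liftPoly : relIdeal A ≤ RingHom.ker (liftPoly φ) := by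
  rw [relIdeal, Ideal.span_le]
  rintro _ ⟨p, rfl⟩
  show liftPoly φ (Polynomial.aeval (MvPolynomial.X p : MvPolynomial (HData A) A) p.poly) = 0
  rw [Polynomial.aeval_def, Polynomial.hom_eval₂]
  have h1 : (liftPoly φ).comp (algebraMap A (MvPolynomial (HData A) A)) = φ := by
    ext a
    simp [liftPoly, MvPolynomial.algebraMap_eq]
  have h2 : liftPoly φ (MvPolynomial.X p) = rootIn φ p := by
    simp [liftPoly]
  rw [h1, h2, ← Polynomial.eval_map]
  exact rootIn_isRoot φ p

/-- The map from `StepPre A` to `T`. -/
noncomputable def liftPre : StepPre A →+* T :=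
  Ideal.Quotient.lift (relIdeal A) (liftPoly φ) (fun _ ha => relIdeal_le_ker_liftPoly φ ha)

theorem liftPre_algebraMap (a : A) : liftPre φ (algebraMap A (StepPre A) a) = φ a := by
  show liftPre φ (Ideal.Quotient.mk _ (algebraMap A (MvPolynomial (HData A) A) a)) = _
  rw [liftPre, Ideal.Quotient.lift_mk]
  simp [liftPoly, MvPolynomial.algebraMap_eq]

theorem liftPre_mk_X (p : HData A) :
    liftPre φ (Ideal.Quotient.mk _ (MvPolynomial.X p)) = rootIn φ p := by
  rw [liftPre, Ideal.Quotient.lift_mk]
  simp [liftPoly]

theorem residue_comp_liftPre :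
    (residue T).comp (liftPre φ) = (ResidueField.map φ).comp (evalKappa A) := by
  apply Ideal.Quotient.ringHom_ext
  apply MvPolynomial.ringHom_ext
  · intro a
    show residue T (liftPre φ (Ideal.Quotient.mk _ (MvPolynomial.C a))) =
      ResidueField.map φ (evalKappa A (Ideal.Quotient.mk _ (MvPolynomial.C a)))
    have h1 : (Ideal.Quotient.mk (relIdeal A) (MvPolynomial.C a)) = algebraMap A (StepPre A) a := rfl
    rw [h1, liftPre_algebraMap, evalKappa_algebraMap, ResidueField.map_residue]
  · intro p
    show residue T (liftPre φ (Ideal.Quotient.mk _ (MvPolynomial.X p))) =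
      ResidueField.map φ (evalKappa A (Ideal.Quotient.mk _ (MvPolynomial.X p)))
    rw [liftPre_mk_X, evalKappa_mk_X, ResidueField.map_residue]
    rw [← sub_eq_zero, ← map_sub, residue_eq_zero_iff]
    exact rootIn_sub_mem φ p

theorem isUnit_liftPre (s : (stepPrime A).primeCompl) : IsUnit (liftPre φ s) := by
  rw [← residue_ne_zero_iff_isUnit]
  have h := congrArg (fun k => k (s : StepPre A)) (residue_comp_liftPre φ)
  simp only [RingHom.comp_apply] at h
  rw [h]
  intro h0
  have h1 : evalKappa A s = 0 := (map_eq_zero _).mp h0
  exact s.2 h1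

/-- The canonical map from `Step A` to a henselian local ring under `A`. -/
noncomputable def lift : Step A →+* T :=
  IsLocalization.lift (M := (stepPrime A).primeCompl) (isUnit_liftPre φ)

theorem lift_algebraMapPre (x : StepPre A) :
    lift φ (algebraMap (StepPre A) (Step A) x) = liftPre φ x :=
  IsLocalization.lift_eq _ x

theorem lift_comp_algebraMap : (lift φ).comp (algebraMap A (Step A)) = φ := by
  ext a
  rw [RingHom.comp_apply, algebraMap_step_apply, lift_algebraMapPre, liftPre_algebraMap]

theorem lift_root (p : HData A) : lift φ (root A p) = rootIn φ p := by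
  rw [root, lift_algebraMapPre, liftPre_mk_X]

/-- Uniqueness: any ring map `Step A → T` under `A` is the canonical one. -/
theorem lift_unique (ψ : Step A →+* T) (hψ : ψ.comp (algebraMap A (Step A)) = φ) :
    ψ = lift φ := by
  have hψa : ∀ a, ψ (algebraMap A (Step A) a) = φ a := fun a => congrArg (fun k => k a) hψ
  apply IsLocalization.ringHom_ext (stepPrime A).primeCompl
  apply Ideal.Quotient.ringHom_ext
  apply MvPolynomial.ringHom_ext
  · intro a
    show ψ (algebraMap (StepPre A) (Step A) (algebraMap A (StepPre A) a)) =
      lift φ (algebraMap (StepPre A) (Step A) (algebraMap A (StepPre A) a))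
    rw [← algebraMap_step_apply, hψa, algebraMap_step_apply, lift_algebraMapPre,
      liftPre_algebraMap]
  · intro p
    show ψ (root A p) = lift φ (root A p)
    rw [lift_root]
    apply root_unique (p.poly.map φ) (rootIn_isRoot φ p) ?_ (isUnit_derivative_rootIn φ p) ?_
    · have h := isRoot_root A p
      rw [IsRoot.def] at h ⊢
      have h2 := congrArg ψ h
      rw [map_zero, Polynomial.eval_map, Polynomial.hom_eval₂, hψ] at h2
      rw [Polynomial.eval_map]
      exact h2
    · have h1 : ψ (root A p) - rootIn φ p =
          ψ (root A p - algebraMap A (Step A) p.pt) - (rootIn φ p - φ p.pt) := by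
        rw [map_sub, hψa]; ring
      rw [h1]
      refine Ideal.sub_mem _ ?_ (rootIn_sub_mem φ p)
      have h2 : (maximalIdeal A).map (algebraMap A (Step A)) ≤ (maximalIdeal T).comap ψ := by
        rw [Ideal.map_le_iff_le_comap]
        intro a ha
        rw [Ideal.mem_comap, Ideal.mem_comap, hψa]
        exact map_nonunit φ a ha
      exact h2 (root_sub_mem_map A p)

instance isLocalHom_lift : IsLocalHom (lift φ) := by
  refine ⟨fun x hx => ?_⟩
  by_contra hcon
  have hmem : x ∈ maximalIdeal (Step A) := hcon
  rw [← IsLocalization.AtPrime.map_eq_maximalIdeal (stepPrime A) (Step A)] at hmem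
  have hle : Ideal.map (algebraMap (StepPre A) (Step A)) (stepPrime A) ≤
      (maximalIdeal T).comap (lift φ) := by
    rw [Ideal.map_le_iff_le_comap]
    intro y hy
    rw [Ideal.mem_comap, Ideal.mem_comap, lift_algebraMapPre, ← residue_eq_zero_iff]
    have h := congrArg (fun k => k y) (residue_comp_liftPre φ)
    simp only [RingHom.comp_apply] at h
    rw [h, show evalKappa A y = 0 from hy, map_zero]
  exact (hle hmem) hx

end Lift

end Groth.Agent.Lib.HenselStep
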