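import Mathlib
import Groth.Agent.Lib.StrictHenselizationProps
import Groth.Agent.Lib.HznWeaklyEtale96
import Groth.Agent.Lib.WeaklyEtaleFlat61
import Groth.Agent.Lib.H56ShGen
import Groth.Agent.Lib.HenselStep

/-!
# Strict henselizations and arbitrary base change of local rings (helper61)

Let `A` be a local ring with strict henselization `R`, `A → A'` ANY ring map to a local ring `A'`
with strict henselization `R'`.

* `ringHom_ext_of_residue`: two ring maps `R → R'` (`R'` any local ring) which agree on `A` and
  modulo the maximal ideal of `R'` are equal.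
* `exists_lift`, `exists_lift'`: there is a ring map `R → R'` over `A → A'`; it can be chosen with
  prescribed reduction `R → κ(R')`.
Core: the strict henselization of `(A' ⊗[A] R)_𝔓`, `𝔓` a prime over the maximal ideal of `A'`, is a
strict henselization of `A'` (`bijective_of_tensor`).
-/

set_option autoImplicit false
universe u

namespace Groth.Agent.Lib.ShBaseChange61

open IsLocalRing Polynomial TensorProduct Groth.Agent.Lib.H56ShGen

section RootTransfer

variable {R' T : Type u} [CommRing R'] [HenselianLocalRing R'] [CommRing T] [IsLocalRing T]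

/-- Root transfer: a simple root in `T` of a monic polynomial with coefficients in the range of a
local map `h : R' → T` from a henselian local ring inducing a surjection on residue fields lies in
the range of `h`. -/
theorem mem_range_of_root (h : R' →+* T) [IsLocalHom h]
    (hres : Function.Surjective (ResidueField.map h))
    (P : T[X]) (hP : P.Monic) (hPl : P ∈ Polynomial.lifts h) (a : T) (h0 : P.eval a = 0)
    (hu : IsUnit (P.derivative.eval a)) : a ∈ h.range := by
  obtain ⟨P₀, hP₀, -, hP₀m⟩ := Polynomial.lifts_and_degree_eq_and_monic hPl hP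
  obtain ⟨β, hβ⟩ := hres (residue T a)
  obtain ⟨b₀, rfl⟩ := residue_surjective β
  rw [ResidueField.map_residue] at hβ
  have hdiff : h b₀ - a ∈ maximalIdeal T := by
    rw [← residue_eq_zero_iff, map_sub, hβ, sub_self]
  -- `P₀ b₀ ∈ m`
  have h1 : P₀.eval b₀ ∈ maximalIdeal R' := by
    by_contra hcon
    have hunit : IsUnit (P₀.eval b₀) := by
      by_contra h'
      exact hcon h'
    have hunit' : IsUnit (P.eval (h b₀)) := by
      rw [← hP₀, Polynomial.eval_map, Polynomial.eval₂_hom]
      exact hunit.map h
    have hmem : P.eval (h b₀) ∈ maximalIdeal T := by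
      have hd := Polynomial.sub_dvd_eval_sub (h b₀) a P
      rw [h0, sub_zero] at hd
      exact Ideal.mem_of_dvd _ hd hdiff
    exact hmem hunit'
  have h2 : IsUnit (P₀.derivative.eval b₀) := by
    have hu' : IsUnit (P.derivative.eval (h b₀)) := by
      apply isUnit_of_sub_mem_maximalIdeal hu
      exact Ideal.mem_of_dvd _ (Polynomial.sub_dvd_eval_sub (h b₀) a _) hdiff
    rw [← hP₀, Polynomial.derivative_map, Polynomial.eval_map, Polynomial.eval₂_hom] at hu'
    exact isUnit_of_map_unit h _ hu'
  obtain ⟨b, hb, hbb⟩ := HenselianLocalRing.is_henselian P₀ hP₀m b₀ h1 h2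
  refine ⟨b, ?_⟩
  have hroot : P.IsRoot (h b) := by
    change P.eval (h b) = 0
    rw [← hP₀, Polynomial.eval_map, Polynomial.eval₂_hom, hb.eq_zero, map_zero]
  have hbb' : h b - a ∈ maximalIdeal T := by
    have e : h b - a = h (b - b₀) + (h b₀ - a) := by rw [map_sub]; ring
    rw [e]
    refine Ideal.add_mem _ ?_ hdiff
    have : ¬ IsUnit (h (b - b₀)) := fun hh => hbb (isUnit_of_map_unit h _ hh)
    exact this
  exact Groth.Agent.Lib.HenselStep.root_unique P (b := a) (b' := h b) h0 hroot hu hbb'

end RootTransfer

section HClosed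

variable {R' T L₀ S : Type u} [CommRing R'] [HenselianLocalRing R'] [CommRing T] [IsLocalRing T]
  [CommRing L₀] [CommRing S] [Algebra L₀ S]

/-- The subalgebra of `S` of elements whose image in `T` lies in the range of `h`. -/
def comapRange (h : R' →+* T) (ι : S →+* T)
    (hbase : ∀ l : L₀, ι (algebraMap L₀ S l) ∈ h.range) : Subalgebra L₀ S :=
  { (h.range.comap ι).toSubsemiring with
    algebraMap_mem' := hbase }

omit [HenselianLocalRing R'] [IsLocalRing T] in
theorem mem_comapRange (h : R' →+* T) (ι : S →+* T)
    (hbase : ∀ l : L₀, ι (algebraMap L₀ S l) ∈ h.range) (x : S) :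
    x ∈ comapRange h ι hbase ↔ ι x ∈ h.range := Iff.rfl

theorem isHClosed_comapRange (h : R' →+* T) [IsLocalHom h]
    (hres : Function.Surjective (ResidueField.map h)) (ι : S →+* T)
    (hbase : ∀ l : L₀, ι (algebraMap L₀ S l) ∈ h.range) :
    IsHClosed (comapRange h ι hbase) where
  inv_mem a b ha hab := by
    rw [mem_comapRange] at ha ⊢
    obtain ⟨r, hr⟩ := ha
    have h1 : ι a * ι b = 1 := by rw [← map_mul, hab, map_one]
    have hunit : IsUnit (h r) := by rw [hr]; exact IsUnit.of_mul_eq_one _ h1
    obtain ⟨u, hu⟩ := isUnit_of_map_unit h r hunit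
    refine ⟨((u⁻¹ : R'ˣ) : R'), ?_⟩
    have h2 : h r * h ((u⁻¹ : R'ˣ) : R') = 1 := by
      rw [← map_mul, ← hu, Units.mul_inv, map_one]
    calc h ((u⁻¹ : R'ˣ) : R') = (ι a * ι b) * h ((u⁻¹ : R'ˣ) : R') := by rw [h1, one_mul]
      _ = ι b * (h r * h ((u⁻¹ : R'ˣ) : R')) := by rw [hr]; ring
      _ = ι b := by rw [h2, mul_one]
  root_mem P a hP h0 hu := by
    rw [mem_comapRange]
    let f : (comapRange h ι hbase) →+* T := ι.comp (comapRange h ι hbase).val
    have hev : ∀ Q : (comapRange h ι hbase)[X], (Q.map f).eval (ι a) = ι (aeval a Q) := by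
      intro Q
      rw [Polynomial.eval_map, Polynomial.aeval_def, Polynomial.hom_eval₂]
      rfl
    apply mem_range_of_root h hres (P.map f) (hP.map f)
    · rw [Polynomial.lifts_iff_coeff_lifts]
      intro n
      rw [Polynomial.coeff_map]
      exact (P.coeff n).2
    · rw [hev, h0, map_zero]
    · rw [Polynomial.derivative_map, hev]
      exact hu.map ι

end HClosed

section Ext

variable {A R R' : Type u} [CommRing A] [IsLocalRing A] [CommRing R] [IsLocalRing R] [Algebra A R]
  [IsLocalHom (algebraMap A R)] [Hensel.IsStrictHenselization A R] [CommRing R'] [IsLocalRing R']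

/-- Two ring maps from a strict henselization `R` of `A` to a local ring which agree on `A` and
modulo the maximal ideal agree. -/
theorem ringHom_ext_of_residue (γ₁ γ₂ : R →+* R')
    (h1 : γ₁.comp (algebraMap A R) = γ₂.comp (algebraMap A R))
    (h2 : (residue R').comp γ₁ = (residue R').comp γ₂) : γ₁ = γ₂ := by
  let E : Subalgebra A R :=
    { (RingHom.eqLocus γ₁ γ₂).toSubsemiring with
      algebraMap_mem' := fun a => congrArg (fun k : A →+* R' => k a) h1 }
  have hmem : ∀ x, x ∈ E ↔ γ₁ x = γ₂ x := fun _ => Iff.rfl
  have hE : IsHClosed E :=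
    { inv_mem := fun a b ha hab => by
        rw [hmem] at ha ⊢
        have e1 : γ₁ a * γ₁ b = 1 := by rw [← map_mul, hab, map_one]
        have e2 : γ₂ a * γ₂ b = 1 := by rw [← map_mul, hab, map_one]
        calc γ₁ b = (γ₂ a * γ₂ b) * γ₁ b := by rw [e2, one_mul]
          _ = γ₂ b * (γ₁ a * γ₁ b) := by rw [← ha]; ring
          _ = γ₂ b := by rw [e1, mul_one]
      root_mem := fun P a hP h0 hu => by
        rw [hmem]
        let f₁ : E →+* R' := γ₁.comp E.val
        let f₂ : E →+* R' := γ₂.comp E.val
        have hf : f₁ = f₂ := by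
          ext x
          exact x.2
        have hev : ∀ (γ : R →+* R') (Q : E[X]), (Q.map (γ.comp E.val)).eval (γ a) = γ (aeval a Q) := by
          intro γ Q
          rw [Polynomial.eval_map, Polynomial.aeval_def, Polynomial.hom_eval₂]
          rfl
        have hr1 : (P.map f₁).IsRoot (γ₁ a) := by
          change (P.map f₁).eval (γ₁ a) = 0
          rw [hev, h0, map_zero]
        have hr2 : (P.map f₁).IsRoot (γ₂ a) := by
          change (P.map f₁).eval (γ₂ a) = 0
          rw [hf, hev, h0, map_zero]
        have hu1 : IsUnit ((P.map f₁).derivative.eval (γ₁ a)) := by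
          rw [Polynomial.derivative_map, hev]
          exact hu.map γ₁
        have hd : γ₂ a - γ₁ a ∈ maximalIdeal R' := by
          rw [← residue_eq_zero_iff, map_sub, sub_eq_zero]
          exact (congrArg (fun k : R →+* ResidueField R' => k a) h2).symm
        exact (Groth.Agent.Lib.HenselStep.root_unique (P.map f₁) hr1 hr2 hu1 hd).symm }
  have htop := hE.eq_top
  ext x
  have : x ∈ E := by rw [htop]; trivial
  exact this

end Ext


section Core

variable (A R A' : Type u) [CommRing A] [IsLocalRing A] [CommRing R] [IsLocalRing R] [Algebra A R]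
  [IsLocalHom (algebraMap A R)] [Hensel.IsStrictHenselization A R]
  [CommRing A'] [IsLocalRing A'] [Algebra A A']
  (𝔓 : Ideal (A' ⊗[A] R)) [𝔓.IsPrime]
  (h𝔓 : 𝔓.comap (algebraMap A' (A' ⊗[A] R)) = maximalIdeal A')

omit [IsLocalRing A] [IsLocalRing R] [IsLocalHom (algebraMap A R)]
  [Hensel.IsStrictHenselization A R] in
include h𝔓 in
theorem isLocalHom_algebraMap_loc : IsLocalHom (algebraMap A' (Localization.AtPrime 𝔓)) := by
  refine ⟨fun a ha => ?_⟩
  rw [IsScalarTower.algebraMap_apply A' (A' ⊗[A] R) (Localization.AtPrime 𝔓),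
    IsLocalization.AtPrime.isUnit_to_map_iff (Localization.AtPrime 𝔓) 𝔓] at ha
  by_contra hcon
  have h1 : a ∈ maximalIdeal A' := hcon
  rw [← h𝔓] at h1
  exact ha h1

include h𝔓 in
/-- The residue field of `(A' ⊗[A] R)_𝔓` is separable algebraic over that of `A'`. -/
theorem isSeparable_residueField_loc :
    have := isLocalHom_algebraMap_loc A R A' 𝔓 h𝔓
    Algebra.IsSeparable (ResidueField A') (ResidueField (Localization.AtPrime 𝔓)) := by
  have hloc := isLocalHom_algebraMap_loc A R A' 𝔓 h𝔓
  let B := A' ⊗[A] R
  let L := Localization.AtPrime 𝔓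
  let Ksep := separableClosure (ResidueField A') (ResidueField L)
  -- the subring of `B` of elements with separable residue
  let ρ : B →+* ResidueField L := (residue L).comp (algebraMap B L)
  have hmem : ∀ b : B, ρ b ∈ Ksep := by
    intro b
    induction b using TensorProduct.induction_on with
    | zero => rw [map_zero]; exact Ksep.zero_mem
    | add x y hx hy => rw [map_add]; exact Ksep.add_mem hx hy
    | tmul a' r =>
      have e : (a' ⊗ₜ[A] r : B) = algebraMap A' B a' * (1 ⊗ₜ[A] r) := by
        rw [Algebra.TensorProduct.algebraMap_apply, Algebra.TensorProduct.tmul_mul_tmul]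
        simp
      rw [e, map_mul]
      refine Ksep.mul_mem ?_ ?_
      · have : ρ (algebraMap A' B a') = algebraMap (ResidueField A') (ResidueField L)
            (residue A' a') := by
          change residue L (algebraMap B L (algebraMap A' B a')) = _
          rw [← IsScalarTower.algebraMap_apply A' B L]
          rfl
        rw [this]
        exact Ksep.algebraMap_mem _
      · obtain ⟨E, _, _, _, φE, e', rfl⟩ := isEtaleGen_of_isStrictHenselization A R r
        -- the étale `A'`-algebra `E' = A' ⊗ E` and its map to `L`
        let ψ : A' ⊗[A] E →ₐ[A'] L :=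
          (IsScalarTower.toAlgHom A' B L).comp (Algebra.TensorProduct.map (AlgHom.id A' A') φE)
        let Q' : Ideal (A' ⊗[A] E) := (maximalIdeal L).comap ψ
        have hQ' : Q'.IsPrime := Ideal.comap_isPrime ψ (maximalIdeal L)
        have hunits : ∀ y : Q'.primeCompl, IsUnit (ψ y) := by
          intro y
          by_contra hcon
          exact y.2 hcon
        let ψl : Localization.AtPrime Q' →ₐ[A'] L := IsLocalization.liftAlgHom hunits
        have hψl : ∀ x, ψl (algebraMap (A' ⊗[A] E) (Localization.AtPrime Q') x) = ψ x := fun x =>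
          IsLocalization.lift_eq _ x
        have hψlloc : IsLocalHom ψl := by
          refine ⟨fun x hx => ?_⟩
          obtain ⟨d, t, rfl⟩ := IsLocalization.exists_mk'_eq Q'.primeCompl x
          have h1 : ψl (IsLocalization.mk' _ d t) * ψ (t : A' ⊗[A] E) = ψ d := by
            rw [← hψl, ← hψl, ← map_mul, IsLocalization.mk'_spec]
          have h2 : IsUnit (ψ d) := by rw [← h1]; exact hx.mul (hunits t)
          have h3 : d ∈ Q'.primeCompl := fun hd => hd h2
          have h4 : IsUnit (algebraMap _ (Localization.AtPrime Q') d) :=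
            IsLocalization.map_units _ (⟨d, h3⟩ : Q'.primeCompl)
          have h5 : (IsLocalization.mk' (Localization.AtPrime Q') d t)
              * algebraMap _ _ (t : A' ⊗[A] E) = algebraMap _ _ d := IsLocalization.mk'_spec _ d t
          exact isUnit_of_mul_isUnit_left (h5 ▸ h4)
        have hlocE : IsLocalHom (algebraMap A' (Localization.AtPrime Q')) := by
          have hc : (ψl : Localization.AtPrime Q' →+* L).comp
              (algebraMap A' (Localization.AtPrime Q')) = algebraMap A' L := ψl.comp_algebraMap
          have : IsLocalHom ((ψl : Localization.AtPrime Q' →+* L).comp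
              (algebraMap A' (Localization.AtPrime Q'))) := by rw [hc]; exact hloc
          exact isLocalHom_of_comp _ (ψl : Localization.AtPrime Q' →+* L)
        have hunr : Algebra.FormallyUnramified A' (Localization.AtPrime Q') := by
          have : Algebra.FormallyUnramified (A' ⊗[A] E) (Localization.AtPrime Q') :=
            Algebra.FormallyUnramified.of_isLocalization Q'.primeCompl
          exact Algebra.FormallyUnramified.comp A' (A' ⊗[A] E) _
        have hsepE : Algebra.IsSeparable (ResidueField A') (ResidueField (Localization.AtPrime Q')) :=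
          inferInstance
        let κψ : ResidueField (Localization.AtPrime Q') →ₐ[ResidueField A'] ResidueField L :=
          ResidueField.mapAlgHom' ψl
        have e2 : ρ (1 ⊗ₜ[A] φE e') = κψ (residue _ (algebraMap (A' ⊗[A] E) _ (1 ⊗ₜ[A] e'))) := by
          rw [ResidueField.mapAlgHom'_residue, hψl]
          change residue L (algebraMap B L (1 ⊗ₜ[A] φE e')) = residue L (ψ (1 ⊗ₜ[A] e'))
          congr 1
        change ρ (1 ⊗ₜ[A] φE e') ∈ Ksep
        rw [e2]
        exact (Algebra.IsSeparable.isSeparable (ResidueField A') _).map κψ κψ.injective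
  rw [Algebra.isSeparable_def]
  intro x
  obtain ⟨y, rfl⟩ := residue_surjective x
  obtain ⟨b, t, rfl⟩ := IsLocalization.exists_mk'_eq 𝔓.primeCompl y
  have h1 : residue L (IsLocalization.mk' L b t) * ρ (t : B) = ρ b := by
    change residue L (IsLocalization.mk' L b t) * residue L (algebraMap B L t) =
      residue L (algebraMap B L b)
    rw [← map_mul, IsLocalization.mk'_spec]
  have h2 : ρ (t : B) ≠ 0 := by
    change residue L (algebraMap B L t) ≠ 0
    rw [residue_ne_zero_iff_isUnit]
    exact IsLocalization.map_units L t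
  have h3 : residue L (IsLocalization.mk' L b t) = ρ b * (ρ (t : B))⁻¹ := by
    rw [← h1, mul_assoc, mul_inv_cancel₀ h2, mul_one]
  have h4 : residue L (IsLocalization.mk' L b t) ∈ Ksep := by
    rw [h3]
    exact Ksep.mul_mem (hmem b) (Ksep.inv_mem (hmem _))
  exact mem_separableClosure_iff.mp h4

end Core


section Core2

variable (A R A' R' : Type u) [CommRing A] [IsLocalRing A] [CommRing R] [IsLocalRing R]
  [Algebra A R] [IsLocalHom (algebraMap A R)] [Hensel.IsStrictHenselization A R]
  [CommRing A'] [IsLocalRing A'] [Algebra A A']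
  [CommRing R'] [IsLocalRing R'] [Algebra A' R'] [IsLocalHom (algebraMap A' R')]
  [Hensel.IsStrictHenselization A' R']
  (𝔓 : Ideal (A' ⊗[A] R)) [𝔓.IsPrime]
  (h𝔓 : 𝔓.comap (algebraMap A' (A' ⊗[A] R)) = maximalIdeal A')
  (T : Type u) [CommRing T] [IsLocalRing T] [Algebra (Localization.AtPrime 𝔓) T]
  [IsLocalHom (algebraMap (Localization.AtPrime 𝔓) T)]
  [Hensel.IsStrictHenselization (Localization.AtPrime 𝔓) T]
  [Algebra A' T] [IsScalarTower A' (Localization.AtPrime 𝔓) T]

omit [IsLocalRing A] [IsLocalRing R] [IsLocalHom (algebraMap A R)] [IsLocalRing T]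
  [Hensel.IsStrictHenselization A R] [Hensel.IsStrictHenselization (Localization.AtPrime 𝔓) T] in
include h𝔓 in
theorem isLocalHom_algebraMap_T : IsLocalHom (algebraMap A' T) := by
  have := isLocalHom_algebraMap_loc A R A' 𝔓 h𝔓
  rw [IsScalarTower.algebraMap_eq A' (Localization.AtPrime 𝔓) T]
  infer_instance

include h𝔓 in
/-- Key result: the comparison map from a strict henselization `R'` of `A'` to a strict
henselization `T` of `(A' ⊗[A] R)_𝔓` is bijective. -/
theorem bijective_of_tensor [IsLocalHom (algebraMap A' T)]
    (τ : ResidueField R' →+* ResidueField T)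
    (hτ : τ.comp (ResidueField.map (algebraMap A' R')) = ResidueField.map (algebraMap A' T))
    (h : R' →+* T) (h1 : h.comp (algebraMap A' R') = algebraMap A' T)
    (h2 : ∀ x, residue T (h x) = τ (residue R' x)) : Function.Bijective h := by
  let B := A' ⊗[A] R
  let L := Localization.AtPrime 𝔓
  have hlocL : IsLocalHom (algebraMap A' L) := isLocalHom_algebraMap_loc A R A' 𝔓 h𝔓
  have hhens : HenselianLocalRing R' := Hensel.IsStrictHenselization.henselian (R := A')
  have hlocal : IsLocalHom h := by
    refine ⟨fun x hx => ?_⟩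
    have e1 : residue T (h x) ≠ 0 := (residue_ne_zero_iff_isUnit _).mpr hx
    rw [h2] at e1
    have e2 : residue R' x ≠ 0 := fun e => e1 (by rw [e, map_zero])
    exact (residue_ne_zero_iff_isUnit _).mp e2
  have hmap : ResidueField.map h = τ := by
    ext x
    obtain ⟨x, rfl⟩ := residue_surjective x
    rw [ResidueField.map_residue, h2]
  -- `κ(T)` is separable over `κ(A')`
  have hsepL : Algebra.IsSeparable (ResidueField A') (ResidueField L) :=
    isSeparable_residueField_loc A R A' 𝔓 h𝔓
  have hscT : IsSepClosure (ResidueField L) (ResidueField T) :=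
    Hensel.IsStrictHenselization.isSepClosure
  have hsepLT : Algebra.IsSeparable (ResidueField L) (ResidueField T) := hscT.separable
  have hsepT : Algebra.IsSeparable (ResidueField A') (ResidueField T) :=
    Algebra.IsSeparable.trans (ResidueField A') (ResidueField L) (ResidueField T)
  -- `τ` is surjective
  have hτsurj : Function.Surjective τ := by
    let _ : Algebra (ResidueField R') (ResidueField T) := τ.toAlgebra
    have htower : IsScalarTower (ResidueField A') (ResidueField R') (ResidueField T) := by
      refine IsScalarTower.of_algebraMap_eq fun x => ?_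
      have := congrArg (fun k : ResidueField A' →+* ResidueField T => k x) hτ
      exact this.symm
    have hsc : IsSepClosed (ResidueField R') :=
      (Hensel.IsStrictHenselization.isSepClosure (R := A') (S := R')).sep_closed
    have : Algebra.IsSeparable (ResidueField R') (ResidueField T) :=
      Algebra.isSeparable_tower_top_of_isSeparable (ResidueField A') (ResidueField R')
        (ResidueField T)
    exact IsSepClosed.algebraMap_surjective (ResidueField R') (ResidueField T)
  have hres : Function.Surjective (ResidueField.map h) := by rw [hmap]; exact hτsurj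
  refine ⟨?_, ?_⟩
  · -- injectivity by flatness
    have hflatAR : Module.Flat A R :=
      (Groth.Agent.Lib.StrictHenselization.faithfullyFlat_of_isStrictHenselization A R).toFlat
    have hflatB : Module.Flat A' B := inferInstance
    have hflatBL : Module.Flat B L := IsLocalization.flat L 𝔓.primeCompl
    have hflatL : Module.Flat A' L := Module.Flat.trans A' B L
    have hflatLT : Module.Flat L T :=
      (Groth.Agent.Lib.StrictHenselization.faithfullyFlat_of_isStrictHenselization L T).toFlat
    have hflatT : Module.Flat A' T := Module.Flat.trans A' L T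
    let _ : Algebra R' T := h.toAlgebra
    have htower : IsScalarTower A' R' T := IsScalarTower.of_algebraMap_eq fun x =>
      (congrArg (fun k : A' →+* T => k x) h1).symm
    have hwe : Algebra.WeaklyEtale A' R' :=
      Groth.Agent.Lib.HznWeaklyEtale96.weaklyEtale_of_isStrictHenselization A' R'
    have hflat : Module.Flat R' T :=
      Groth.Agent.Lib.WeaklyEtaleFlat61.flat_of_weaklyEtale A' R' T
    have hl : IsLocalHom (algebraMap R' T) := hlocal
    have hff : Module.FaithfullyFlat R' T := Module.FaithfullyFlat.of_flat_of_isLocalHom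
    exact FaithfulSMul.algebraMap_injective R' T
  · -- surjectivity by generation
    let ιR : R →+* T := (algebraMap L T).comp ((algebraMap B L).comp
      (Algebra.TensorProduct.includeRight : R →ₐ[A] B).toRingHom)
    have hA' : ∀ x : A', algebraMap L T (algebraMap B L (algebraMap A' B x)) ∈ h.range := by
      intro x
      refine ⟨algebraMap A' R' x, ?_⟩
      rw [← IsScalarTower.algebraMap_apply A' B L, ← IsScalarTower.algebraMap_apply A' L T]
      exact congrArg (fun k : A' →+* T => k x) h1
    have hbaseR : ∀ a : A, ιR (algebraMap A R a) ∈ h.range := by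
      intro a
      have e : ((1 : A') ⊗ₜ[A] (algebraMap A R a) : B) = algebraMap A' B (algebraMap A A' a) := by
        rw [Algebra.TensorProduct.algebraMap_apply, Algebra.algebraMap_self, RingHom.id_apply,
          Algebra.algebraMap_eq_smul_one a, Algebra.algebraMap_eq_smul_one (A := A') a,
          TensorProduct.smul_tmul]
      change algebraMap L T (algebraMap B L ((1 : A') ⊗ₜ[A] (algebraMap A R a))) ∈ h.range
      rw [e]
      exact hA' _
    have hR : ∀ r : R, ιR r ∈ h.range := by
      intro r
      have htop := (isHClosed_comapRange h hres ιR hbaseR).eq_top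
      have : r ∈ comapRange h ιR hbaseR := by rw [htop]; trivial
      exact this
    have hB : ∀ b : B, algebraMap L T (algebraMap B L b) ∈ h.range := by
      intro b
      induction b using TensorProduct.induction_on with
      | zero => simp
      | add x y hx hy => rw [map_add, map_add]; exact h.range.add_mem hx hy
      | tmul a' r =>
        have e : (a' ⊗ₜ[A] r : B) = algebraMap A' B a' * (1 ⊗ₜ[A] r) := by
          rw [Algebra.TensorProduct.algebraMap_apply, Algebra.TensorProduct.tmul_mul_tmul]
          simp
        rw [e, map_mul, map_mul]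
        exact h.range.mul_mem (hA' a') (hR r)
    have hL : ∀ l : L, (RingHom.id T) (algebraMap L T l) ∈ h.range := by
      intro l
      obtain ⟨b, t, rfl⟩ := IsLocalization.exists_mk'_eq 𝔓.primeCompl l
      obtain ⟨rb, hrb⟩ := hB b
      obtain ⟨rt, hrt⟩ := hB t
      have hunit : IsUnit (h rt) := by
        rw [hrt]
        exact ((IsLocalization.map_units L t).map (algebraMap L T))
      obtain ⟨u, hu⟩ := isUnit_of_map_unit h rt hunit
      refine ⟨rb * ((u⁻¹ : R'ˣ) : R'), ?_⟩
      have e1 : algebraMap L T (IsLocalization.mk' L b t) * h rt = h rb := by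
        rw [hrt, hrb, ← map_mul, IsLocalization.mk'_spec]
      have e2 : h rt * h ((u⁻¹ : R'ˣ) : R') = 1 := by
        rw [← map_mul, ← hu, Units.mul_inv, map_one]
      rw [RingHom.id_apply, map_mul, ← e1, mul_assoc, e2, mul_one]
    have htop := (isHClosed_comapRange h hres (RingHom.id T) hL).eq_top
    intro t
    have : t ∈ comapRange h (RingHom.id T) hL := by rw [htop]; trivial
    exact this

end Core2


section Lift

variable (A R A' R' : Type u) [CommRing A] [IsLocalRing A] [CommRing R] [IsLocalRing R]
  [Algebra A R] [IsLocalHom (algebraMap A R)] [Hensel.IsStrictHenselization A R]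
  [CommRing A'] [IsLocalRing A'] [Algebra A A']
  [CommRing R'] [IsLocalRing R'] [Algebra A' R'] [IsLocalHom (algebraMap A' R')]
  [Hensel.IsStrictHenselization A' R']

section Prime

variable (𝔓 : Ideal (A' ⊗[A] R)) [𝔓.IsPrime]
  (h𝔓 : 𝔓.comap (algebraMap A' (A' ⊗[A] R)) = maximalIdeal A')
  (T : Type u) [CommRing T] [IsLocalRing T] [Algebra (Localization.AtPrime 𝔓) T]
  [IsLocalHom (algebraMap (Localization.AtPrime 𝔓) T)]
  [Hensel.IsStrictHenselization (Localization.AtPrime 𝔓) T]
  [Algebra A' T] [IsScalarTower A' (Localization.AtPrime 𝔓) T]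

include h𝔓 in
theorem exists_lift_of_prime [IsLocalHom (algebraMap A' T)]
    (τ : ResidueField R' →+* ResidueField T)
    (hτ : τ.comp (ResidueField.map (algebraMap A' R')) = ResidueField.map (algebraMap A' T)) :
    ∃ γ : R →+* R', γ.comp (algebraMap A R) = (algebraMap A' R').comp (algebraMap A A') ∧
      ∀ r : R, τ (residue R' (γ r)) = residue T (algebraMap (Localization.AtPrime 𝔓) T
        (algebraMap (A' ⊗[A] R) (Localization.AtPrime 𝔓) (1 ⊗ₜ[A] r))) := by
  have hThens : HenselianLocalRing T :=
    Hensel.IsStrictHenselization.henselian (R := Localization.AtPrime 𝔓)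
  obtain ⟨h, ⟨h1, h2⟩, -⟩ := Hensel.IsStrictHenselization.universal (R := A') (S := R') T
    (algebraMap A' T) τ hτ
  have hbij := bijective_of_tensor A R A' R' 𝔓 h𝔓 T τ hτ h h1 h2
  let e : R' ≃+* T := RingEquiv.ofBijective h hbij
  have he : ∀ x, e x = h x := fun _ => rfl
  let ιR : R →+* T := (algebraMap (Localization.AtPrime 𝔓) T).comp
    ((algebraMap (A' ⊗[A] R) (Localization.AtPrime 𝔓)).comp
      (Algebra.TensorProduct.includeRight : R →ₐ[A] A' ⊗[A] R).toRingHom)
  refine ⟨(e.symm : T →+* R').comp ιR, ?_, ?_⟩
  · ext a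
    apply e.injective
    rw [RingHom.comp_apply, RingHom.comp_apply, RingHom.coe_coe, e.apply_symm_apply, he]
    have e1 : ((1 : A') ⊗ₜ[A] (algebraMap A R a) : A' ⊗[A] R) =
        algebraMap A' (A' ⊗[A] R) (algebraMap A A' a) := by
      rw [Algebra.TensorProduct.algebraMap_apply, Algebra.algebraMap_self, RingHom.id_apply,
        Algebra.algebraMap_eq_smul_one a, Algebra.algebraMap_eq_smul_one (A := A') a,
        TensorProduct.smul_tmul]
    change algebraMap (Localization.AtPrime 𝔓) T (algebraMap (A' ⊗[A] R) (Localization.AtPrime 𝔓)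
      ((1 : A') ⊗ₜ[A] (algebraMap A R a))) = _
    rw [e1, ← IsScalarTower.algebraMap_apply A' (A' ⊗[A] R) (Localization.AtPrime 𝔓),
      ← IsScalarTower.algebraMap_apply A' (Localization.AtPrime 𝔓) T]
    exact (congrArg (fun k : A' →+* T => k (algebraMap A A' a)) h1).symm
  · intro r
    rw [← h2, RingHom.comp_apply, RingHom.coe_coe, ← he, e.apply_symm_apply]
    rfl

end Prime

/-- There is a ring map between the strict henselizations over `A → A'` (any ring map between
local rings). -/
theorem exists_lift' :
    ∃ γ : R →+* R', γ.comp (algebraMap A R) = (algebraMap A' R').comp (algebraMap A A') := by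
  have hff : Module.FaithfullyFlat A R :=
    Groth.Agent.Lib.StrictHenselization.faithfullyFlat_of_isStrictHenselization A R
  have hffB : Module.FaithfullyFlat A' (A' ⊗[A] R) := inferInstance
  obtain ⟨P, hP⟩ := PrimeSpectrum.comap_surjective_of_faithfullyFlat (A := A') (B := A' ⊗[A] R)
    (IsLocalRing.closedPoint A')
  have hPp : P.asIdeal.IsPrime := P.isPrime
  have h𝔓 : P.asIdeal.comap (algebraMap A' (A' ⊗[A] R)) = maximalIdeal A' :=
    congrArg PrimeSpectrum.asIdeal hP
  obtain ⟨T, _, _, _, _, hT⟩ :=
    Groth.Agent.Lib.StrictHenselization.exists_isStrictHenselization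
      (Localization.AtPrime P.asIdeal)
  let _ : Algebra A' T := ((algebraMap (Localization.AtPrime P.asIdeal) T).comp
    (algebraMap A' (Localization.AtPrime P.asIdeal))).toAlgebra
  have htower : IsScalarTower A' (Localization.AtPrime P.asIdeal) T :=
    IsScalarTower.of_algebraMap_eq fun _ => rfl
  have hloc : IsLocalHom (algebraMap A' T) :=
    isLocalHom_algebraMap_T A R A' P.asIdeal h𝔓 T
  have hsc : IsSepClosed (ResidueField T) :=
    (Hensel.IsStrictHenselization.isSepClosure (R := Localization.AtPrime P.asIdeal)
      (S := T)).sep_closed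
  have hsep : Algebra.IsSeparable (ResidueField A') (ResidueField R') :=
    (Hensel.IsStrictHenselization.isSepClosure (R := A') (S := R')).separable
  let τ₀ : ResidueField R' →ₐ[ResidueField A'] ResidueField T := IsSepClosed.lift
  have hτ : (τ₀ : ResidueField R' →+* ResidueField T).comp
      (ResidueField.map (algebraMap A' R')) = ResidueField.map (algebraMap A' T) := by
    ext x
    obtain ⟨x, rfl⟩ := residue_surjective x
    exact τ₀.commutes (residue A' x)
  obtain ⟨γ, hγ, -⟩ := exists_lift_of_prime A R A' R' P.asIdeal h𝔓 T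
    (τ₀ : ResidueField R' →+* ResidueField T) hτ
  exact ⟨γ, hγ⟩

/-- A ring map between the strict henselizations over `A → A'` with prescribed reduction
`η : R → κ(R')`. -/
theorem exists_lift (η : R →+* ResidueField R')
    (hη : η.comp (algebraMap A R) =
      ((residue R').comp (algebraMap A' R')).comp (algebraMap A A')) :
    ∃ γ : R →+* R', γ.comp (algebraMap A R) = (algebraMap A' R').comp (algebraMap A A') ∧
      (residue R').comp γ = η := by
  let C := ResidueField R'
  let _ : Algebra A C := ((algebraMap A' C).comp (algebraMap A A')).toAlgebra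
  have htowerC : IsScalarTower A A' C := IsScalarTower.of_algebraMap_eq fun _ => rfl
  let g : R →ₐ[A] C :=
    { η with
      commutes' := fun a => congrArg (fun k : A →+* C => k a) hη }
  have hg : ∀ r, g r = η r := fun _ => rfl
  let η' : A' ⊗[A] R →ₐ[A'] C :=
    Algebra.TensorProduct.lift (Algebra.ofId A' C) g (fun _ _ => Commute.all _ _)
  have hη'1 : ∀ r : R, η' (1 ⊗ₜ[A] r) = η r := by
    intro r
    simp [η', hg]
  let 𝔓 : Ideal (A' ⊗[A] R) := RingHom.ker (η' : A' ⊗[A] R →+* C)
  have h𝔓p : 𝔓.IsPrime := RingHom.ker_isPrime _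
  have h𝔓 : 𝔓.comap (algebraMap A' (A' ⊗[A] R)) = maximalIdeal A' := by
    ext x
    rw [Ideal.mem_comap, RingHom.mem_ker]
    change η' (algebraMap A' (A' ⊗[A] R) x) = 0 ↔ _
    rw [η'.commutes]
    change residue R' (algebraMap A' R' x) = 0 ↔ _
    rw [residue_eq_zero_iff, mem_maximalIdeal, mem_maximalIdeal, map_mem_nonunits_iff]
  let L := Localization.AtPrime 𝔓
  have hunits : ∀ y : 𝔓.primeCompl, IsUnit ((η' : A' ⊗[A] R →+* C) y) := by
    intro y
    have : (η' : A' ⊗[A] R →+* C) y ≠ 0 := fun e => y.2 e
    exact this.isUnit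
  let η'' : L →+* C := IsLocalization.lift (M := 𝔓.primeCompl) hunits
  have hη'' : ∀ b, η'' (algebraMap (A' ⊗[A] R) L b) = η' b := fun b =>
    IsLocalization.lift_eq _ b
  have hη''loc : IsLocalHom η'' := by
    refine ⟨fun x hx => ?_⟩
    obtain ⟨d, t, rfl⟩ := IsLocalization.exists_mk'_eq 𝔓.primeCompl x
    have h1 : η'' (IsLocalization.mk' _ d t) * η' (t : A' ⊗[A] R) = η' d := by
      rw [← hη'', ← hη'', ← map_mul, IsLocalization.mk'_spec]
    have h2 : IsUnit (η' d) := by rw [← h1]; exact hx.mul (hunits t)
    have h3 : d ∈ 𝔓.primeCompl := fun hd => h2.ne_zero hd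
    have h4 : IsUnit (algebraMap _ L d) := IsLocalization.map_units _ (⟨d, h3⟩ : 𝔓.primeCompl)
    have h5 : (IsLocalization.mk' L d t) * algebraMap _ _ (t : A' ⊗[A] R) = algebraMap _ _ d :=
      IsLocalization.mk'_spec _ d t
    exact isUnit_of_mul_isUnit_left (h5 ▸ h4)
  have hlocL : IsLocalHom (algebraMap A' L) := isLocalHom_algebraMap_loc A R A' 𝔓 h𝔓
  let ηbar : ResidueField L →+* C := ResidueField.lift η''
  have hηbar : ∀ y : L, ηbar (residue L y) = η'' y := fun y => ResidueField.lift_residue_apply η'' y
  let _ : Algebra (ResidueField L) C := ηbar.toAlgebra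
  have htowerK : IsScalarTower (ResidueField A') (ResidueField L) C := by
    refine IsScalarTower.of_algebraMap_eq fun x => ?_
    obtain ⟨x, rfl⟩ := residue_surjective x
    change residue R' (algebraMap A' R' x) = ηbar (residue L (algebraMap A' L x))
    rw [hηbar, IsScalarTower.algebraMap_apply A' (A' ⊗[A] R) L, hη'', η'.commutes]
    rfl
  obtain ⟨T, _, _, _, _, hT⟩ :=
    Groth.Agent.Lib.StrictHenselization.exists_isStrictHenselization L
  let _ : Algebra A' T := ((algebraMap L T).comp (algebraMap A' L)).toAlgebra
  have htower : IsScalarTower A' L T := IsScalarTower.of_algebraMap_eq fun _ => rfl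
  have hloc : IsLocalHom (algebraMap A' T) := isLocalHom_algebraMap_T A R A' 𝔓 h𝔓 T
  have hsc : IsSepClosed (ResidueField T) :=
    (Hensel.IsStrictHenselization.isSepClosure (R := L) (S := T)).sep_closed
  have hsep : Algebra.IsSeparable (ResidueField A') C :=
    (Hensel.IsStrictHenselization.isSepClosure (R := A') (S := R')).separable
  have hsepL : Algebra.IsSeparable (ResidueField L) C :=
    Algebra.isSeparable_tower_top_of_isSeparable (ResidueField A') (ResidueField L) C
  let τ₀ : C →ₐ[ResidueField L] ResidueField T := IsSepClosed.lift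
  have hτ : (τ₀ : C →+* ResidueField T).comp
      (ResidueField.map (algebraMap A' R')) = ResidueField.map (algebraMap A' T) := by
    ext x
    obtain ⟨x, rfl⟩ := residue_surjective x
    have e1 : (ResidueField.map (algebraMap A' R')) (residue A' x) =
        algebraMap (ResidueField L) C (residue L (algebraMap A' L x)) := by
      rw [ResidueField.map_residue]
      change _ = ηbar (residue L (algebraMap A' L x))
      rw [hηbar, IsScalarTower.algebraMap_apply A' (A' ⊗[A] R) L, hη'', η'.commutes]
      rfl
    rw [RingHom.comp_apply, e1]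
    change τ₀ (algebraMap (ResidueField L) C _) = _
    rw [τ₀.commutes, ResidueField.map_residue]
    rfl
  obtain ⟨γ, hγ1, hγ2⟩ := exists_lift_of_prime A R A' R' 𝔓 h𝔓 T (τ₀ : C →+* ResidueField T) hτ
  refine ⟨γ, hγ1, ?_⟩
  ext r
  apply (τ₀ : C →+* ResidueField T).injective
  rw [RingHom.comp_apply, hγ2 r]
  have e2 : η r = algebraMap (ResidueField L) C
      (residue L (algebraMap (A' ⊗[A] R) L (1 ⊗ₜ[A] r))) := by
    change _ = ηbar _
    rw [hηbar, hη'', hη'1]
  rw [e2]
  change _ = τ₀ (algebraMap (ResidueField L) C _)
  rw [τ₀.commutes]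
  rfl

end Lift

end Groth.Agent.Lib.ShBaseChange61
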