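import Mathlib
import Groth.Prelude.Def_Hensel
import Groth.Agent.Lib.HenselizationUP

/-!
# helper96: strict henselization of a quotient

`isStrictHenselization_of_surjective`: if `S` is a strict henselization of the local ring `R`,
`ρ : R → R'` is a surjective ring map onto a local ring, and `π : S → S'` is a surjective ring map
onto a local `R'`-algebra with kernel `ker ρ · S`, compatible with `ρ`, then `S'` is a strict
henselization of `R'`.
-/

set_option autoImplicit false
universe u

namespace Groth.Agent.Lib.StrictHensQuot96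

open IsLocalRing

theorem isSepClosed_of_ringEquiv {k k' : Type*} [Field k] [Field k'] (e : k ≃+* k')
    [IsSepClosed k] : IsSepClosed k' := by
  refine IsSepClosed.of_exists_root _ fun p _ hi hs => ?_
  have hs' : (p.map e.symm.toRingHom).Separable := hs.map
  have hdeg : (p.map e.symm.toRingHom).degree ≠ 0 := by
    rw [Polynomial.degree_map]
    exact (Polynomial.degree_pos_of_irreducible hi).ne'
  obtain ⟨x, hx⟩ := IsSepClosed.exists_root _ hdeg hs'
  refine ⟨e x, ?_⟩
  have h1 : e.symm.toRingHom (e x) = x := e.symm_apply_apply x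
  rw [← h1, Polynomial.IsRoot.def, Polynomial.eval_map, Polynomial.eval₂_at_apply] at hx
  exact (map_eq_zero_iff _ e.symm.injective).mp hx

theorem residueFieldMap_bijective_of_surjective {A B : Type*} [CommRing A] [IsLocalRing A]
    [CommRing B] [IsLocalRing B] (f : A →+* B) [IsLocalHom f] (hf : Function.Surjective f) :
    Function.Bijective (ResidueField.map f) := by
  refine ⟨(ResidueField.map f).injective, fun y => ?_⟩
  obtain ⟨b, rfl⟩ := residue_surjective y
  obtain ⟨a, rfl⟩ := hf b
  exact ⟨residue A a, ResidueField.map_residue f a⟩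

variable {R R' S : Type u} [CommRing R] [IsLocalRing R] [CommRing R'] [IsLocalRing R']
  [CommRing S] [IsLocalRing S] [Algebra R S] [IsLocalHom (algebraMap R S)]
  [Hensel.IsStrictHenselization R S]

theorem isStrictHenselization_of_surjective (ρ : R →+* R') (hρ : Function.Surjective ρ)
    (S' : Type u) [CommRing S'] [IsLocalRing S'] [Algebra R' S'] [IsLocalHom (algebraMap R' S')]
    (π : S →+* S') (hπ : Function.Surjective π)
    (hker : RingHom.ker π = (RingHom.ker ρ).map (algebraMap R S))
    (hcomm : ∀ r, π (algebraMap R S r) = algebraMap R' S' (ρ r)) :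
    Hensel.IsStrictHenselization R' S' := by
  classical
  have hS : HenselianLocalRing S := Hensel.IsStrictHenselization.henselian (R := R) (S := S)
  have hρl : IsLocalHom ρ := IsLocalHom.of_surjective _ hρ
  have hπl : IsLocalHom π := IsLocalHom.of_surjective _ hπ
  have hbρ := residueFieldMap_bijective_of_surjective ρ hρ
  have hbπ := residueFieldMap_bijective_of_surjective π hπ
  let e₁ : ResidueField R ≃+* ResidueField R' := RingEquiv.ofBijective _ hbρ
  let e₂ : ResidueField S ≃+* ResidueField S' := RingEquiv.ofBijective _ hbπ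
  have hsc := Hensel.IsStrictHenselization.isSepClosure (R := R) (S := S)
  refine ⟨Groth.Agent.Lib.HenselizationUP.henselianLocalRing_of_surjective π hπ, ⟨?_, ?_⟩, ?_⟩
  · have := hsc.sep_closed
    exact isSepClosed_of_ringEquiv e₂
  · have := hsc.separable
    refine Algebra.IsSeparable.of_equiv_equiv e₁ e₂ ?_
    ext r
    obtain ⟨r, rfl⟩ := residue_surjective r
    change ResidueField.map (algebraMap R' S') (ResidueField.map ρ (residue R r)) =
      ResidueField.map π (ResidueField.map (algebraMap R S) (residue R r))
    rw [ResidueField.map_residue, ResidueField.map_residue, ResidueField.map_residue,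
      ResidueField.map_residue, hcomm]
  · intro T _ _ f _ τ hτ
    let f₀ : R →+* T := f.comp ρ
    have hf₀ : IsLocalHom f₀ := RingHom.isLocalHom_comp _ _
    let τ₀ : ResidueField S →+* ResidueField T := τ.comp (ResidueField.map π)
    have hτ₀ : τ₀.comp (ResidueField.map (algebraMap R S)) = ResidueField.map f₀ := by
      ext r
      obtain ⟨r, rfl⟩ := residue_surjective r
      have h1 := congrArg (fun k => k (residue R' (ρ r))) hτ
      simp only [RingHom.comp_apply, ResidueField.map_residue] at h1
      simp only [τ₀, f₀, RingHom.comp_apply, ResidueField.map_residue]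
      rw [hcomm]
      exact h1
    obtain ⟨g, ⟨hg1, hg2⟩, huniq⟩ :=
      Hensel.IsStrictHenselization.universal (R := R) (S := S) T f₀ τ₀ hτ₀
    have hkerg : RingHom.ker π ≤ RingHom.ker g := by
      rw [hker, Ideal.map_le_iff_le_comap]
      intro a ha
      rw [Ideal.mem_comap, RingHom.mem_ker]
      have := congrArg (fun k => k a) hg1
      simp only [RingHom.comp_apply, f₀] at this
      rw [this, (RingHom.mem_ker).1 ha, map_zero]
    let gbar : S' →+* T := π.liftOfSurjective hπ ⟨g, hkerg⟩
    have hgbar : ∀ s, gbar (π s) = g s := fun s =>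
      π.liftOfRightInverse_comp_apply _ _ ⟨g, hkerg⟩ s
    refine ⟨gbar, ⟨?_, ?_⟩, ?_⟩
    · refine RingHom.ext fun x => ?_
      obtain ⟨a, rfl⟩ := hρ x
      rw [RingHom.comp_apply, ← hcomm, hgbar]
      exact congrArg (fun k => k a) hg1
    · intro x
      obtain ⟨s, rfl⟩ := hπ x
      rw [hgbar, hg2]
      simp only [τ₀, RingHom.comp_apply, ResidueField.map_residue]
    · rintro g₂ ⟨hg₂1, hg₂2⟩
      have h1 : g₂.comp π = g := by
        apply huniq
        refine ⟨?_, fun x => ?_⟩
        · refine RingHom.ext fun a => ?_
          simp only [RingHom.comp_apply, f₀]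
          rw [hcomm]
          exact congrArg (fun k => k (ρ a)) hg₂1
        · simp only [RingHom.comp_apply, τ₀, ResidueField.map_residue]
          exact hg₂2 (π x)
      refine RingHom.ext fun x => ?_
      obtain ⟨s, rfl⟩ := hπ x
      rw [hgbar, ← h1, RingHom.comp_apply]

omit [Hensel.IsStrictHenselization R S] in
theorem isHenselization_of_surjective [Hensel.IsHenselization R S]
    (ρ : R →+* R') (hρ : Function.Surjective ρ)
    (S' : Type u) [CommRing S'] [IsLocalRing S'] [Algebra R' S'] [IsLocalHom (algebraMap R' S')]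
    (π : S →+* S') (hπ : Function.Surjective π)
    (hker : RingHom.ker π = (RingHom.ker ρ).map (algebraMap R S))
    (hcomm : ∀ r, π (algebraMap R S r) = algebraMap R' S' (ρ r)) :
    Hensel.IsHenselization R' S' := by
  classical
  have hS : HenselianLocalRing S := Hensel.IsHenselization.henselian (R := R) (S := S)
  have hρl : IsLocalHom ρ := IsLocalHom.of_surjective _ hρ
  refine ⟨Groth.Agent.Lib.HenselizationUP.henselianLocalRing_of_surjective π hπ, ?_⟩
  intro T _ _ f hf
  let f₀ : R →+* T := f.comp ρ
  have hf₀ : IsLocalHom f₀ := RingHom.isLocalHom_comp _ _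
  obtain ⟨g, hg1, huniq⟩ := Hensel.IsHenselization.universal (R := R) (S := S) T f₀ hf₀
  have hkerg : RingHom.ker π ≤ RingHom.ker g := by
    rw [hker, Ideal.map_le_iff_le_comap]
    intro a ha
    rw [Ideal.mem_comap, RingHom.mem_ker]
    have := congrArg (fun k => k a) hg1
    simp only [RingHom.comp_apply, f₀] at this
    rw [this, (RingHom.mem_ker).1 ha, map_zero]
  let gbar : S' →+* T := π.liftOfSurjective hπ ⟨g, hkerg⟩
  have hgbar : ∀ s, gbar (π s) = g s := fun s =>
    π.liftOfRightInverse_comp_apply _ _ ⟨g, hkerg⟩ s
  refine ⟨gbar, ?_, ?_⟩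
  · refine RingHom.ext fun x => ?_
    obtain ⟨a, rfl⟩ := hρ x
    rw [RingHom.comp_apply, ← hcomm, hgbar]
    exact congrArg (fun k => k a) hg1
  · intro g₂ hg₂
    have h1 : g₂.comp π = g := by
      apply huniq
      refine RingHom.ext fun a => ?_
      simp only [RingHom.comp_apply, f₀]
      rw [hcomm]
      exact congrArg (fun k => k (ρ a)) hg₂
    refine RingHom.ext fun x => ?_
    obtain ⟨s, rfl⟩ := hπ x
    rw [hgbar, ← h1, RingHom.comp_apply]

end Groth.Agent.Lib.StrictHensQuot96
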