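import Mathlib
import Groth.Agent.Lib.StrictHensQuot96

/-!
# helper96: existence form of "(strict) henselization commutes with quotients"

For a surjective ring map `ρ : R → R'` of local rings and a (strict) henselization `S` of `R`,
there is a (strict) henselization `S'` of `R'` with a surjection `π : S → S'` over `ρ`.
-/

set_option autoImplicit false
set_option linter.style.haveILetI false
universe u

namespace Groth.Agent.Lib.StrictHensQuot96

open IsLocalRing

section

variable {R R' : Type u} [CommRing R] [IsLocalRing R] [CommRing R'] [IsLocalRing R']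
  (S : Type u) [CommRing S] [IsLocalRing S] [Algebra R S] [IsLocalHom (algebraMap R S)]
  (ρ : R →+* R') (hρ : Function.Surjective ρ)

include hρ in
/-- The data common to both cases: the quotient `S ⧸ (ker ρ) S` as a local `R'`-algebra. -/
theorem exists_quotient_data :
    ∃ (S' : Type u) (_ : CommRing S') (_ : IsLocalRing S') (_ : Algebra R' S')
      (_ : IsLocalHom (algebraMap R' S')) (π : S →+* S'), Function.Surjective π ∧
      RingHom.ker π = (RingHom.ker ρ).map (algebraMap R S) ∧
      ∀ r, π (algebraMap R S r) = algebraMap R' S' (ρ r) := by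
  classical
  have hρl : IsLocalHom ρ := IsLocalHom.of_surjective _ hρ
  let K : Ideal R := RingHom.ker ρ
  let J : Ideal S := K.map (algebraMap R S)
  have hK : K ≤ maximalIdeal R := by
    intro a ha
    rw [mem_maximalIdeal, mem_nonunits_iff]
    intro hu
    have h0 : ρ a = 0 := ha
    have := hu.map ρ
    rw [h0] at this
    exact not_isUnit_zero this
  have hJ : J ≤ maximalIdeal S := by
    rw [Ideal.map_le_iff_le_comap]
    exact hK.trans (IsLocalRing.maximalIdeal_comap (algebraMap R S)).ge
  have hJtop : J ≠ ⊤ := fun h => (maximalIdeal.isMaximal S).ne_top (top_le_iff.1 (h ▸ hJ))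
  haveI : Nontrivial (S ⧸ J) := Ideal.Quotient.nontrivial_iff.2 hJtop
  have hmk : Function.Surjective (Ideal.Quotient.mk J) := Ideal.Quotient.mk_surjective
  haveI : IsLocalRing (S ⧸ J) := IsLocalRing.of_surjective' _ hmk
  have hmkl : IsLocalHom (Ideal.Quotient.mk J) := IsLocalHom.of_surjective _ hmk
  let φ₀ : R →+* S ⧸ J := (Ideal.Quotient.mk J).comp (algebraMap R S)
  have hker : RingHom.ker ρ ≤ RingHom.ker φ₀ := by
    intro a ha
    rw [RingHom.mem_ker]
    show Ideal.Quotient.mk J (algebraMap R S a) = 0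
    rw [Ideal.Quotient.eq_zero_iff_mem]
    exact Ideal.mem_map_of_mem _ ha
  let φ : R' →+* S ⧸ J := ρ.liftOfSurjective hρ ⟨φ₀, hker⟩
  have hφ : ∀ r, φ (ρ r) = Ideal.Quotient.mk J (algebraMap R S r) := fun r =>
    ρ.liftOfRightInverse_comp_apply _ _ ⟨φ₀, hker⟩ r
  letI : Algebra R' (S ⧸ J) := φ.toAlgebra
  have hloc : IsLocalHom (algebraMap R' (S ⧸ J)) := by
    refine ⟨fun r' hr' => ?_⟩
    obtain ⟨r, rfl⟩ := hρ r'
    have h1 : IsUnit (Ideal.Quotient.mk J (algebraMap R S r)) := by
      rw [← hφ]
      exact hr'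
    have h2 : IsUnit (algebraMap R S r) := (isUnit_map_iff (Ideal.Quotient.mk J) _).1 h1
    exact ((isUnit_map_iff (algebraMap R S) r).1 h2).map ρ
  refine ⟨S ⧸ J, inferInstance, inferInstance, inferInstance, hloc, Ideal.Quotient.mk J, hmk,
    Ideal.mk_ker, fun r => (hφ r).symm⟩

include hρ in
theorem exists_isStrictHenselization_quotient [Hensel.IsStrictHenselization R S] :
    ∃ (S' : Type u) (_ : CommRing S') (_ : IsLocalRing S') (_ : Algebra R' S')
      (_ : IsLocalHom (algebraMap R' S')) (_ : Hensel.IsStrictHenselization R' S')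
      (π : S →+* S'), Function.Surjective π ∧
      ∀ r, π (algebraMap R S r) = algebraMap R' S' (ρ r) := by
  obtain ⟨S', i1, i2, i3, i4, π, hπ, hker, hcomm⟩ := exists_quotient_data S ρ hρ
  exact ⟨S', i1, i2, i3, i4, isStrictHenselization_of_surjective ρ hρ S' π hπ hker hcomm, π, hπ,
    hcomm⟩

include hρ in
theorem exists_isHenselization_quotient [Hensel.IsHenselization R S] :
    ∃ (S' : Type u) (_ : CommRing S') (_ : IsLocalRing S') (_ : Algebra R' S')
      (_ : IsLocalHom (algebraMap R' S')) (_ : Hensel.IsHenselization R' S')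
      (π : S →+* S'), Function.Surjective π ∧
      ∀ r, π (algebraMap R S r) = algebraMap R' S' (ρ r) := by
  obtain ⟨S', i1, i2, i3, i4, π, hπ, hker, hcomm⟩ := exists_quotient_data S ρ hρ
  exact ⟨S', i1, i2, i3, i4, isHenselization_of_surjective ρ hρ S' π hπ hker hcomm, π, hπ,
    hcomm⟩

end

end Groth.Agent.Lib.StrictHensQuot96
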