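import Mathlib
import Groth.Prelude.Def_Hensel
import Groth.Agent.Lib.HenselizationUP

/-!
# Transporting a strict henselization along an isomorphism of the top ring (helper61)

* `isSepClosed_of_ringEquiv`: separably closed fields are stable under ring isomorphisms.
* `isLocalHom_of_ringEquiv_top`, `isStrictHenselization_of_ringEquiv_top`: if `S` is a strict
  henselization of `A` and `e : S ≃+* R` is compatible with the structure maps from `A`, then `R`
  is a strict henselization of `A`.
-/

set_option autoImplicit false
universe u

namespace Groth.Agent.Lib.StrictHenselizationTransport61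

open IsLocalRing Polynomial

theorem isSepClosed_of_ringEquiv {K L : Type*} [Field K] [Field L] [IsSepClosed K]
    (e : K ≃+* L) : IsSepClosed L := by
  refine IsSepClosed.of_exists_root _ fun p hm hi hs => ?_
  have hs' : (p.map e.symm.toRingHom).Separable := hs.map
  have hdeg : (p.map e.symm.toRingHom).degree ≠ 0 := by
    rw [Polynomial.degree_map]
    exact (Polynomial.degree_pos_of_irreducible hi).ne'
  obtain ⟨x, hx⟩ := IsSepClosed.exists_root _ hdeg hs'
  refine ⟨e x, ?_⟩
  have h1 : e.symm.toRingHom (e x) = x := e.symm_apply_apply x
  rw [← h1, IsRoot.def, Polynomial.eval_map, Polynomial.eval₂_at_apply] at hx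
  exact (map_eq_zero_iff _ e.symm.injective).mp hx

variable (A S R : Type u) [CommRing A] [IsLocalRing A] [CommRing S] [IsLocalRing S]
  [Algebra A S] [IsLocalHom (algebraMap A S)]
  [CommRing R] [IsLocalRing R] [Algebra A R]
  (e : S ≃+* R) (he : ∀ a, e (algebraMap A S a) = algebraMap A R a)

include he in
omit [IsLocalRing S] [IsLocalRing R] in
theorem isLocalHom_of_ringEquiv_top : IsLocalHom (algebraMap A R) := by
  refine ⟨fun a ha => ?_⟩
  rw [← he] at ha
  have h1 : IsUnit (algebraMap A S a) := by
    have := ha.map (e.symm : R →+* S)
    simpa using this
  exact isUnit_of_map_unit (algebraMap A S) a h1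

include he in
theorem isStrictHenselization_of_ringEquiv_top [hS : Hensel.IsStrictHenselization A S]
    [IsLocalHom (algebraMap A R)] : Hensel.IsStrictHenselization A R where
  henselian := by
    have := hS.henselian
    exact Groth.Agent.Lib.HenselizationUP.henselianLocalRing_of_surjective (e : S →+* R)
      e.surjective
  isSepClosure := by
    have h := hS.isSepClosure
    have h1 := h.sep_closed
    have h2 := h.separable
    refine ⟨isSepClosed_of_ringEquiv (ResidueField.mapEquiv e), ?_⟩
    refine Algebra.IsSeparable.of_equiv_equiv
      (RingEquiv.refl (ResidueField A)) (ResidueField.mapEquiv e) ?_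
    ext r
    obtain ⟨r, rfl⟩ := residue_surjective r
    change ResidueField.map (algebraMap A R) (residue A r) =
      ResidueField.map (e : S →+* R) (ResidueField.map (algebraMap A S) (residue A r))
    rw [ResidueField.map_residue, ResidueField.map_residue, ResidueField.map_residue]
    congr 1
    exact (he r).symm
  universal := by
    intro T _ _ f _ τ hτ
    let τ₀ : ResidueField S →+* ResidueField T := τ.comp (ResidueField.map (e : S →+* R))
    have hτ₀ : τ₀.comp (ResidueField.map (algebraMap A S)) = ResidueField.map f := by
      ext r
      obtain ⟨r, rfl⟩ := residue_surjective r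
      have h1 := congrArg (fun k => k (residue A r)) hτ
      simp only [RingHom.comp_apply, ResidueField.map_residue] at h1
      simp only [τ₀, RingHom.comp_apply, ResidueField.map_residue]
      rw [← h1]
      congr 2
      exact he r
    obtain ⟨g₀, ⟨hg1, hg2⟩, huniq⟩ := hS.universal T f τ₀ hτ₀
    refine ⟨g₀.comp (e.symm : R →+* S), ⟨?_, ?_⟩, ?_⟩
    · ext a
      have h1 := congrArg (fun k => k a) hg1
      simp only [RingHom.comp_apply] at h1
      simp only [RingHom.comp_apply, RingHom.coe_coe]
      rw [← he, e.symm_apply_apply, h1]
    · intro y
      simp only [RingHom.comp_apply, RingHom.coe_coe]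
      rw [hg2]
      simp only [τ₀, RingHom.comp_apply, ResidueField.map_residue, RingHom.coe_coe,
        e.apply_symm_apply]
    · rintro g' ⟨hg'1, hg'2⟩
      have h3 : g'.comp (e : S →+* R) = g₀ := by
        refine huniq _ ⟨?_, ?_⟩
        · ext a
          have h1 := congrArg (fun k => k a) hg'1
          simp only [RingHom.comp_apply] at h1
          simp only [RingHom.comp_apply, RingHom.coe_coe]
          rw [he, h1]
        · intro x
          simp only [RingHom.comp_apply, RingHom.coe_coe]
          rw [hg'2]
          simp only [τ₀, RingHom.comp_apply, ResidueField.map_residue, RingHom.coe_coe]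
      rw [← h3]
      ext y
      simp

end Groth.Agent.Lib.StrictHenselizationTransport61
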