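import Mathlib
import Groth.Agent.Lib.WEtaleNormalLocal22
import Groth.Agent.Lib.HznWeaklyEtale96

/-!
# Weakly étale morphisms of schemes are detected on stalks (helper61)

* `WE φ`: ring-hom form of `Algebra.WeaklyEtale`.
* `WE_respectsIso`, `WE_localRingHom`, `WE_ofLocalizationPrime`.
* `weaklyEtale_SpecMap_iff`: `WeaklyEtale (Spec.map φ) ↔ WE φ.hom`.
* `WE_stalkMap`: stalk maps of a weakly étale morphism are weakly étale.
* `weaklyEtale_of_stalkMap`: a morphism all of whose stalk maps are weakly étale is weakly étale.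
-/

set_option autoImplicit false
universe u
open CategoryTheory CategoryTheory.Limits AlgebraicGeometry TensorProduct

namespace Groth.Agent.Lib.WeaklyEtaleStalk61

/-- ring-hom version of `Algebra.WeaklyEtale`. -/
def WE {R S : Type u} [CommRing R] [CommRing S] (φ : R →+* S) : Prop :=
  @Algebra.WeaklyEtale R S _ _ φ.toAlgebra

theorem WE_algebraMap {R S : Type u} [CommRing R] [CommRing S] [Algebra R S] :
    WE (algebraMap R S) ↔ Algebra.WeaklyEtale R S := by
  rw [WE, toAlgebra_algebraMap]

theorem WE.flat {R S : Type u} [CommRing R] [CommRing S] {φ : R →+* S} (h : WE φ) : φ.Flat := by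
  algebraize [φ]
  have : Algebra.WeaklyEtale R S := h
  exact (inferInstance : Module.Flat R S)

theorem WE_respectsIso : RingHom.RespectsIso @WE := by
  constructor
  · intro R S T _ _ _ f e hf
    algebraize [f, e.toRingHom.comp f]
    have : Algebra.WeaklyEtale R S := hf
    let e' : S ≃ₐ[R] T := { e with commutes' := fun r => rfl }
    exact Groth.Agent.Lib.HznWeaklyEtale96.weaklyEtale_of_algEquiv e'
  · intro R S T _ _ _ f e hf
    algebraize [e.toRingHom, f, f.comp e.toRingHom]
    have : Algebra.WeaklyEtale S T := hf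
    let e' : R ≃ₐ[R] S := { e with commutes' := fun r => rfl }
    have : Algebra.WeaklyEtale R S := Groth.Agent.Lib.HznWeaklyEtale96.weaklyEtale_of_algEquiv e'
    exact Algebra.WeaklyEtale.trans R S T

theorem WE_localRingHom {R S : Type u} [CommRing R] [CommRing S] (φ : R →+* S) (hφ : WE φ)
    (J : Ideal S) [J.IsPrime] : WE (Localization.localRingHom (J.comap φ) J φ rfl) := by
  algebraize [φ, Localization.localRingHom (Ideal.comap φ J) J φ rfl]
  have : Algebra.WeaklyEtale R S := hφ
  have : IsScalarTower R (Localization.AtPrime (Ideal.comap φ J)) (Localization.AtPrime J) :=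
    .of_algebraMap_eq fun x ↦ (Localization.localRingHom_to_map _ _ _ rfl x).symm
  exact Groth.Agent.Lib.WEtaleNormalLocal22.weaklyEtale_localization_of_weaklyEtale R S
    (Localization.AtPrime (Ideal.comap φ J)) (Localization.AtPrime J)
    (Ideal.comap φ J).primeCompl J.primeCompl

theorem WE_ofLocalizationPrime : RingHom.OfLocalizationPrime @WE := by
  intro R S _ _ φ h
  have hflat : φ.Flat := RingHom.Flat.ofLocalizationPrime φ (fun P hP => (h P hP).flat)
  algebraize [φ]
  refine ⟨hflat, ?_⟩
  -- flatness of the multiplication map, checked at maximal ideals of `S`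
  let μ := Algebra.TensorProduct.lmul' R (S := S)
  algebraize [μ.toRingHom]
  change Module.Flat (S ⊗[R] S) S
  apply Module.flat_of_isLocalized_maximal S S (fun P ↦ Localization.AtPrime P)
    (fun P ↦ Algebra.linearMap S _)
  intro P hPmax
  have hPprime : P.IsPrime := hPmax.isPrime
  have hP := h P hPprime
  algebraize_only [Localization.localRingHom (Ideal.comap φ P) P φ rfl]
  have hst : IsScalarTower R (Localization.AtPrime (Ideal.comap φ P)) (Localization.AtPrime P) :=
    .of_algebraMap_eq fun x ↦ (Localization.localRingHom_to_map _ _ _ rfl x).symm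
  have h1 : Algebra.WeaklyEtale (Localization.AtPrime (Ideal.comap φ P)) (Localization.AtPrime P) :=
    hP
  have h2 : Algebra.WeaklyEtale R (Localization.AtPrime (Ideal.comap φ P)) :=
    Groth.Agent.Lib.WEtaleNormalLocal22.weaklyEtale_of_isLocalization (Ideal.comap φ P).primeCompl _
  have h3 : Algebra.WeaklyEtale R (Localization.AtPrime P) :=
    Algebra.WeaklyEtale.trans R (Localization.AtPrime (Ideal.comap φ P)) (Localization.AtPrime P)
  have hμ' : (Algebra.TensorProduct.lmul' R (S := Localization.AtPrime P)).Flat :=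
    Algebra.WeaklyEtale.flat_lmul' R (Localization.AtPrime P)
  let ι₀ : S →ₐ[R] Localization.AtPrime P := IsScalarTower.toAlgHom R S (Localization.AtPrime P)
  have hι₀ : ι₀.Flat := by
    change (algebraMap S (Localization.AtPrime P)).Flat
    rw [RingHom.flat_algebraMap_iff]
    exact IsLocalization.flat _ P.primeCompl
  have hι : (Algebra.TensorProduct.map ι₀ ι₀).Flat := RingHom.Flat.tensorProductMap hι₀ hι₀
  have hcomp : ((Algebra.TensorProduct.lmul' R (S := Localization.AtPrime P)).comp
      (Algebra.TensorProduct.map ι₀ ι₀)).toRingHom =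
      algebraMap (S ⊗[R] S) (Localization.AtPrime P) := by
    have : ((Algebra.TensorProduct.lmul' R (S := Localization.AtPrime P)).comp
        (Algebra.TensorProduct.map ι₀ ι₀)) = ι₀.comp μ := by
      ext <;> simp [μ]
    rw [this]
    rfl
  have hfl : (algebraMap (S ⊗[R] S) (Localization.AtPrime P)).Flat := by
    rw [← hcomp]
    exact RingHom.Flat.comp hι hμ'
  exact RingHom.flat_algebraMap_iff.mp hfl

theorem weaklyEtale_SpecMap_iff {R S : CommRingCat.{u}} (φ : R ⟶ S) :
    WeaklyEtale (Spec.map φ) ↔ WE φ.hom := by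
  algebraize [φ.hom]
  have hφ : φ = CommRingCat.ofHom (algebraMap R S) := rfl
  have hdiag : Flat (pullback.diagonal (Spec.map φ)) ↔
      (Algebra.TensorProduct.lmul' R (S := S)).toRingHom.Flat := by
    rw [hφ, diagonal_SpecMap R S, MorphismProperty.cancel_right_of_respectsIso (P := @Flat)]
    exact HasRingHomProperty.Spec_iff (P := @Flat)
  have hfl : Flat (Spec.map φ) ↔ φ.hom.Flat := HasRingHomProperty.Spec_iff (P := @Flat)
  constructor
  · intro h
    exact ⟨hfl.mp h.flat, hdiag.mp h.flat_diagonal⟩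
  · intro h
    have h' : Algebra.WeaklyEtale R S := h
    exact { flat := hfl.mpr (inferInstance : Module.Flat R S)
            flat_diagonal := hdiag.mpr (Algebra.WeaklyEtale.flat_lmul' R S) }

set_option backward.isDefEq.respectTransparency false in
/-- Stalk maps of weakly étale morphisms are weakly étale. -/
theorem WE_stalkMap {X Y : Scheme.{u}} (f : X ⟶ Y) (hf : WeaklyEtale f) (x : X) :
    WE (f.stalkMap x).hom := by
  have hQ' := WE_respectsIso
  wlog h : IsAffine X ∧ IsAffine Y generalizing X Y f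
  · obtain ⟨U, hU, hfx, _⟩ := TopologicalSpace.Opens.isBasis_iff_nbhd.mp Y.isBasis_affineOpens
      (TopologicalSpace.Opens.mem_top <| f x)
    obtain ⟨V, hV, hx, e⟩ := TopologicalSpace.Opens.isBasis_iff_nbhd.mp X.isBasis_affineOpens
      (show x ∈ f ⁻¹ᵁ U from hfx)
    rw [← hQ'.arrow_mk_iso_iff (Scheme.Hom.resLEStalkMap f e ⟨x, hx⟩)]
    exact this _ (IsZariskiLocalAtSource.resLE _ hf) _ ⟨hV, hU⟩
  obtain ⟨hX, hY⟩ := h
  wlog hXY : ∃ R S, Y = Spec R ∧ X = Spec S generalizing X Y
  · have : WE ((X.isoSpec.inv ≫ f ≫ Y.isoSpec.hom).stalkMap (X.isoSpec.hom x)).hom := by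
      refine this _ ?_ (X.isoSpec.hom x) inferInstance inferInstance ?_
      · rwa [MorphismProperty.cancel_left_of_respectsIso (P := @WeaklyEtale),
          MorphismProperty.cancel_right_of_respectsIso (P := @WeaklyEtale)]
      · use Γ(Y, ⊤), Γ(X, ⊤)
    rw [Scheme.Hom.stalkMap_comp, Scheme.Hom.stalkMap_comp, CommRingCat.hom_comp,
      hQ'.cancel_right_isIso, CommRingCat.hom_comp, hQ'.cancel_left_isIso] at this
    have heq : (X.isoSpec.inv (X.isoSpec.hom x)) = x := by simp
    rwa [hQ'.arrow_mk_iso_iff (f.arrowStalkMapIsoOfEq heq)] at this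
  obtain ⟨R, S, rfl, rfl⟩ := hXY
  obtain ⟨φ, rfl⟩ := Spec.map_surjective f
  rw [hQ'.arrow_mk_iso_iff (Scheme.arrowStalkMapSpecIso φ _)]
  rw [weaklyEtale_SpecMap_iff] at hf
  exact WE_localRingHom φ.hom hf _

set_option backward.isDefEq.respectTransparency false in
/-- A morphism all of whose stalk maps are weakly étale is weakly étale. -/
theorem weaklyEtale_of_stalkMap {X Y : Scheme.{u}} (f : X ⟶ Y)
    (H : ∀ x, WE (f.stalkMap x).hom) : WeaklyEtale f := by
  have hQi := WE_respectsIso
  wlog hY : IsAffine Y generalizing X Y f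
  · rw [IsZariskiLocalAtTarget.iff_of_iSup_eq_top (P := @WeaklyEtale) _
      (iSup_affineOpens_eq_top _)]
    intro U
    refine this _ (fun x ↦ ?_) U.2
    exact (hQi.arrow_mk_iso_iff (AlgebraicGeometry.morphismRestrictStalkMap f U x)).mpr (H x.val)
  wlog hX : IsAffine X generalizing X f
  · rw [IsZariskiLocalAtSource.iff_of_iSup_eq_top (P := @WeaklyEtale) _
      (iSup_affineOpens_eq_top _)]
    intro U
    refine this _ ?_ U.2
    intro x
    rw [Scheme.Hom.stalkMap_comp, CommRingCat.hom_comp, hQi.cancel_right_isIso]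
    exact H x.val
  wlog hXY : ∃ R S, Y = Spec R ∧ X = Spec S generalizing X Y
  · rw [← MorphismProperty.cancel_right_of_respectsIso (P := @WeaklyEtale) (g := Y.isoSpec.hom)]
    rw [← MorphismProperty.cancel_left_of_respectsIso (P := @WeaklyEtale) (f := X.isoSpec.inv)]
    refine this inferInstance _ (fun x ↦ ?_) inferInstance ?_
    · rw [Scheme.Hom.stalkMap_comp, Scheme.Hom.stalkMap_comp, CommRingCat.hom_comp,
        hQi.cancel_right_isIso, CommRingCat.hom_comp, hQi.cancel_left_isIso]
      apply H
    · use Γ(Y, ⊤), Γ(X, ⊤)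
  obtain ⟨R, S, rfl, rfl⟩ := hXY
  obtain ⟨φ, rfl⟩ := Spec.map_surjective f
  rw [weaklyEtale_SpecMap_iff]
  apply WE_ofLocalizationPrime
  intro P hP
  specialize H ⟨P, hP⟩
  rwa [hQi.arrow_mk_iso_iff (Scheme.arrowStalkMapSpecIso φ _)] at H

end Groth.Agent.Lib.WeaklyEtaleStalk61
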