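import Groth.Agent.Lib.HenselizationFlat
import Groth.Agent.Lib.AbsFlat
import Mathlib.RingTheory.Etale.Weakly
import Mathlib.RingTheory.Kaehler.Basic

/-!
# The henselization step is weakly étale (helper96)

* `flat_of_kernel_locally_killed`: a surjective ring hom all of whose kernel elements are killed by
  an element with unit image is a localization, hence flat.
* `Killed A y`: `1 ⊗ y - y ⊗ 1` is killed by an element of `C ⊗[A] C` whose product is a unit.
* `weaklyEtale_of_forall_killed`.
* `weaklyEtale_step : Algebra.WeaklyEtale A (Step A)` for helper22's henselization step.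
* `isReduced_step`, `isReduced_G`, `isReduced_Hzn`, `isReduced_of_isHenselization`.
-/

namespace Groth.Agent.Lib.StepWeaklyEtale96

open TensorProduct Polynomial IsLocalRing
open Groth.Agent.Lib.HenselStep Groth.Agent.Lib.HenselizationConstr

universe u

section General

/-- A surjective ring hom `ε : D → C` such that every element of the kernel is killed by an element
with unit image is flat (it is a localization). -/
theorem flat_of_kernel_locally_killed {D C : Type*} [CommRing D] [CommRing C] (ε : D →+* C)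
    (hsurj : Function.Surjective ε)
    (hkill : ∀ z ∈ RingHom.ker ε, ∃ c : D, IsUnit (ε c) ∧ c * z = 0) : ε.Flat := by
  letI : Algebra D C := ε.toAlgebra
  let M : Submonoid D := (IsUnit.submonoid C).comap ε
  have hloc : IsLocalization M C := by
    rw [isLocalization_iff]
    refine ⟨fun y => y.2, fun t => ?_, fun {x y} hxy => ?_⟩
    · obtain ⟨d, rfl⟩ := hsurj t
      exact ⟨(d, 1), by simp [RingHom.algebraMap_toAlgebra]⟩
    · have hxy' : x - y ∈ RingHom.ker ε := by
        rw [RingHom.mem_ker, map_sub, sub_eq_zero]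
        exact hxy
      obtain ⟨c, hc, hc0⟩ := hkill _ hxy'
      refine ⟨⟨c, hc⟩, ?_⟩
      rw [mul_sub, sub_eq_zero] at hc0
      exact hc0
  show Module.Flat D C
  exact IsLocalization.flat C M

variable (A : Type*) {C : Type*} [CommRing A] [CommRing C] [Algebra A C]

/-- `1 ⊗ y - y ⊗ 1` is killed by an element of `C ⊗[A] C` whose image in `C` is a unit. -/
def Killed (y : C) : Prop :=
  ∃ c : C ⊗[A] C, IsUnit (Algebra.TensorProduct.lmul' A c) ∧
    c * ((1 : C) ⊗ₜ[A] y - y ⊗ₜ[A] (1 : C)) = 0

variable {A}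

theorem killed_algebraMap (a : A) : Killed A (algebraMap A C a) := by
  refine ⟨1, by simp, ?_⟩
  rw [one_mul, sub_eq_zero, Algebra.algebraMap_eq_smul_one, TensorProduct.tmul_smul,
    TensorProduct.smul_tmul']

theorem killed_add {y z : C} (hy : Killed A y) (hz : Killed A z) : Killed A (y + z) := by
  obtain ⟨c, hc, hc0⟩ := hy
  obtain ⟨d, hd, hd0⟩ := hz
  refine ⟨c * d, by rw [map_mul]; exact hc.mul hd, ?_⟩
  have : (1 : C) ⊗ₜ[A] (y + z) - (y + z) ⊗ₜ[A] (1 : C) =
      ((1 : C) ⊗ₜ[A] y - y ⊗ₜ[A] (1 : C)) + ((1 : C) ⊗ₜ[A] z - z ⊗ₜ[A] (1 : C)) := by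
    rw [TensorProduct.tmul_add, TensorProduct.add_tmul]; ring
  rw [this, mul_add, mul_right_comm, hc0, zero_mul, mul_assoc, hd0, mul_zero, add_zero]

theorem killed_mul {y z : C} (hy : Killed A y) (hz : Killed A z) : Killed A (y * z) := by
  obtain ⟨c, hc, hc0⟩ := hy
  obtain ⟨d, hd, hd0⟩ := hz
  refine ⟨c * d, by rw [map_mul]; exact hc.mul hd, ?_⟩
  have : (1 : C) ⊗ₜ[A] (y * z) - (y * z) ⊗ₜ[A] (1 : C) =
      ((1 : C) ⊗ₜ[A] z) * ((1 : C) ⊗ₜ[A] y - y ⊗ₜ[A] (1 : C)) +
        (y ⊗ₜ[A] (1 : C)) * ((1 : C) ⊗ₜ[A] z - z ⊗ₜ[A] (1 : C)) := by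
    simp only [mul_sub, Algebra.TensorProduct.tmul_mul_tmul, one_mul, mul_one]
    rw [mul_comm z y]
    abel
  rw [this, mul_add, ← mul_assoc, mul_right_comm (c * d), mul_right_comm c d, hc0, zero_mul,
    zero_mul, zero_add, ← mul_assoc, mul_right_comm (c * d), mul_assoc c d, hd0, mul_zero,
    zero_mul]

theorem killed_neg {y : C} (hy : Killed A y) : Killed A (-y) := by
  obtain ⟨c, hc, hc0⟩ := hy
  refine ⟨c, hc, ?_⟩
  have : (1 : C) ⊗ₜ[A] (-y) - (-y) ⊗ₜ[A] (1 : C) = -((1 : C) ⊗ₜ[A] y - y ⊗ₜ[A] (1 : C)) := by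
    rw [TensorProduct.tmul_neg, TensorProduct.neg_tmul]; ring
  rw [this, mul_neg, hc0, neg_zero]

theorem killed_inv {y y' : C} (hyy' : y * y' = 1) (hy : Killed A y) : Killed A y' := by
  obtain ⟨c, hc, hc0⟩ := hy
  refine ⟨c, hc, ?_⟩
  have : (1 : C) ⊗ₜ[A] y' - y' ⊗ₜ[A] (1 : C) =
      -((y' ⊗ₜ[A] y') * ((1 : C) ⊗ₜ[A] y - y ⊗ₜ[A] (1 : C))) := by
    simp only [mul_sub, Algebra.TensorProduct.tmul_mul_tmul, mul_one]
    rw [mul_comm y' y, hyy']
    abel
  rw [this, mul_neg, mul_left_comm, hc0, mul_zero, neg_zero]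

/-- A root `y` of a polynomial `F` over `A` with `F'(y)` a unit is killed. -/
theorem killed_of_isRoot (F : A[X]) {y : C} (hroot : Polynomial.aeval y F = 0)
    (hunit : IsUnit (Polynomial.aeval y (Polynomial.derivative F))) : Killed A y := by
  -- work with `G = F` mapped to `C ⊗ C`
  let G : (C ⊗[A] C)[X] := F.map (algebraMap A (C ⊗[A] C))
  let d : C ⊗[A] C := (1 : C) ⊗ₜ[A] y - y ⊗ₜ[A] (1 : C)
  obtain ⟨k, hk⟩ := G.binomExpansion (y ⊗ₜ[A] (1 : C)) d
  have hL : G.eval (y ⊗ₜ[A] (1 : C)) = 0 := by
    have h1 : G.eval (y ⊗ₜ[A] (1 : C)) =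
        (Algebra.TensorProduct.includeLeft : C →ₐ[A] C ⊗[A] C) (Polynomial.aeval y F) := by
      rw [← Polynomial.aeval_algHom_apply, Polynomial.aeval_def, Polynomial.eval₂_eq_eval_map]
      rfl
    rw [h1, hroot, map_zero]
  have hR : G.eval ((1 : C) ⊗ₜ[A] y) = 0 := by
    have h1 : G.eval ((1 : C) ⊗ₜ[A] y) =
        (Algebra.TensorProduct.includeRight : C →ₐ[A] C ⊗[A] C) (Polynomial.aeval y F) := by
      rw [← Polynomial.aeval_algHom_apply, Polynomial.aeval_def, Polynomial.eval₂_eq_eval_map]
      rfl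
    rw [h1, hroot, map_zero]
  have hsum : y ⊗ₜ[A] (1 : C) + d = (1 : C) ⊗ₜ[A] y := by simp [d]
  rw [hsum, hR, hL, zero_add] at hk
  refine ⟨G.derivative.eval (y ⊗ₜ[A] (1 : C)) + k * d, ?_, ?_⟩
  · rw [map_add, map_mul]
    have hd0 : Algebra.TensorProduct.lmul' A d = 0 := by simp [d]
    rw [hd0, mul_zero, add_zero]
    have h2 : G.derivative.eval (y ⊗ₜ[A] (1 : C)) =
        (Algebra.TensorProduct.includeLeft : C →ₐ[A] C ⊗[A] C)
          (Polynomial.aeval y (Polynomial.derivative F)) := by
      rw [← Polynomial.aeval_algHom_apply, Polynomial.aeval_def, Polynomial.eval₂_eq_eval_map,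
        ← Polynomial.derivative_map]
      rfl
    rw [h2]
    simpa using hunit
  · show (G.derivative.eval (y ⊗ₜ[A] (1 : C)) + k * d) * d = 0
    rw [hk]; ring

variable (A C) in
/-- If every element is killed, `C` is weakly étale over `A` (given flatness). -/
theorem weaklyEtale_of_forall_killed [Module.Flat A C] (h : ∀ y : C, Killed A y) :
    Algebra.WeaklyEtale A C where
  flat_lmul' := by
    refine flat_of_kernel_locally_killed _ (fun c => ⟨c ⊗ₜ 1, by simp⟩) ?_
    intro z hz
    have hz' : z ∈ KaehlerDifferential.ideal A C := hz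
    rw [← KaehlerDifferential.span_range_eq_ideal] at hz'
    clear hz
    induction hz' using Submodule.span_induction with
    | mem z hz =>
      obtain ⟨y, rfl⟩ := hz
      obtain ⟨c, hc, hc0⟩ := h y
      exact ⟨c, hc, hc0⟩
    | zero => exact ⟨1, by simp, by simp⟩
    | add x y _ _ hx hy =>
      obtain ⟨c, hc, hc0⟩ := hx
      obtain ⟨d, hd, hd0⟩ := hy
      refine ⟨c * d, by rw [map_mul]; exact hc.mul hd, ?_⟩
      rw [mul_add, mul_right_comm, hc0, zero_mul, mul_assoc, hd0, mul_zero, add_zero]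
    | smul a x _ hx =>
      obtain ⟨c, hc, hc0⟩ := hx
      refine ⟨c, hc, ?_⟩
      rw [smul_eq_mul, mul_left_comm, hc0, mul_zero]

end General

section Step

variable (A : Type u) [CommRing A] [IsLocalRing A]

theorem isUnit_aeval_derivative_root (p : HData A) :
    IsUnit (Polynomial.aeval (root A p) (Polynomial.derivative p.poly)) := by
  have hmem := root_sub_mem_maximalIdeal A p
  set G : (Step A)[X] := (Polynomial.derivative p.poly).map (algebraMap A (Step A)) with hG
  have e1 : Polynomial.aeval (root A p) (Polynomial.derivative p.poly) = G.eval (root A p) := by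
    rw [Polynomial.aeval_def, Polynomial.eval₂_eq_eval_map]
  have e2 : algebraMap A (Step A) (p.poly.derivative.eval p.pt) =
      G.eval (algebraMap A (Step A) p.pt) := by
    rw [hG, Polynomial.eval_map, Polynomial.eval₂_at_apply]
  have hdvd : root A p - algebraMap A (Step A) p.pt ∣
      G.eval (root A p) - G.eval (algebraMap A (Step A) p.pt) :=
    Polynomial.sub_dvd_eval_sub _ _ _
  have h1 : G.eval (root A p) - G.eval (algebraMap A (Step A) p.pt) ∈ maximalIdeal (Step A) :=
    Ideal.mem_of_dvd _ hdvd hmem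
  have hu : IsUnit (G.eval (algebraMap A (Step A) p.pt)) := by
    rw [← e2]
    exact p.isUnit_derivative.map _
  rw [e1]
  by_contra hcon
  have h2 : G.eval (root A p) ∈ maximalIdeal (Step A) := hcon
  have h3 : G.eval (algebraMap A (Step A) p.pt) ∈ maximalIdeal (Step A) := by
    have := Ideal.sub_mem _ h2 h1
    simpa using this
  exact h3 hu

theorem killed_root (p : HData A) : Killed A (root A p) :=
  killed_of_isRoot p.poly (aeval_root A p) (isUnit_aeval_derivative_root A p)

theorem killed_mk (f : MvPolynomial (HData A) A) :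
    Killed A (algebraMap (StepPre A) (Step A) (Ideal.Quotient.mk _ f)) := by
  induction f using MvPolynomial.induction_on with
  | C a =>
    have : algebraMap (StepPre A) (Step A) (Ideal.Quotient.mk _ (MvPolynomial.C a)) =
        algebraMap A (Step A) a := by
      rw [algebraMap_step_apply]; rfl
    rw [this]
    exact killed_algebraMap a
  | add f g hf hg =>
    rw [map_add, map_add]
    exact killed_add hf hg
  | mul_X f p hf =>
    rw [map_mul, map_mul]
    exact killed_mul hf (killed_root A p)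

theorem killed_step (y : Step A) : Killed A y := by
  obtain ⟨a, s, rfl⟩ := IsLocalization.exists_mk'_eq (stepPrime A).primeCompl y
  obtain ⟨f, rfl⟩ := Ideal.Quotient.mk_surjective a
  obtain ⟨g, hg⟩ := Ideal.Quotient.mk_surjective (s : StepPre A)
  have hs : Killed A (algebraMap (StepPre A) (Step A) (s : StepPre A)) := by
    rw [← hg]; exact killed_mk A g
  have hinv : Killed A (IsLocalization.mk' (Step A) (1 : StepPre A) s) := by
    refine killed_inv (y := algebraMap (StepPre A) (Step A) (s : StepPre A)) ?_ hs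
    rw [mul_comm, IsLocalization.mk'_spec, map_one]
  have : IsLocalization.mk' (Step A) (Ideal.Quotient.mk (relIdeal A) f) s =
      algebraMap (StepPre A) (Step A) (Ideal.Quotient.mk _ f) *
        IsLocalization.mk' (Step A) (1 : StepPre A) s := by
    rw [IsLocalization.mul_mk'_eq_mk'_of_mul, mul_one]
  rw [this]
  exact killed_mul (killed_mk A f) hinv

instance weaklyEtale_step : Algebra.WeaklyEtale A (Step A) :=
  weaklyEtale_of_forall_killed A (Step A) (killed_step A)

theorem isReduced_step [IsReduced A] : IsReduced (Step A) :=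
  Groth.Agent.Lib.AbsFlat.isReduced_of_weaklyEtale A (Step A)

end Step

section Tower

variable (R : Type u) [CommRing R] [IsLocalRing R]

theorem isReduced_G [IsReduced R] (n : ℕ) : IsReduced (G R n) := by
  induction n with
  | zero => exact ‹IsReduced R›
  | succ n ih => exact @isReduced_step (G R n) _ _ ih

theorem isReduced_Hzn [IsReduced R] : IsReduced (Hzn R) := by
  refine ⟨fun x hx => ?_⟩
  obtain ⟨k, hk⟩ := hx
  obtain ⟨n, y, rfl⟩ := exists_ofStage R x
  rw [← map_pow] at hk
  obtain ⟨m, hnm, hm⟩ := ofStage_eq_zero R hk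
  rw [map_pow] at hm
  have := isReduced_G R m
  have h0 : trans R n m hnm y = 0 := IsNilpotent.eq_zero ⟨k, hm⟩
  rw [← ofStage_trans R n m hnm y, h0, map_zero]

/-- The henselization of a reduced local ring is reduced. -/
theorem isReduced_of_isHenselization [IsReduced R] (S : Type u) [CommRing S] [IsLocalRing S]
    [Algebra R S] [IsLocalHom (algebraMap R S)] [Hensel.IsHenselization R S] : IsReduced S := by
  have := isReduced_Hzn R
  exact isReduced_of_injective (equivHzn R S).toRingEquiv.toRingHom (equivHzn R S).injective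

end Tower

end Groth.Agent.Lib.StepWeaklyEtale96
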