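import Groth.Agent.Lib.WeaklyEtaleFibre96
import Groth.Agent.Lib.StepWeaklyEtale96
import Mathlib.FieldTheory.Separable
import Mathlib.RingTheory.PrincipalIdealDomain

/-!
# Weakly étale algebras over a field, elementwise (helper96)

* `exists_separable_aeval_eq_zero`: every element of a weakly étale algebra over a field `K` is a
  root of a separable polynomial over `K`.
* `killed_of_separable`: an element `y` of a `K`-algebra with `g(y) = 0`, `g` separable, is `Killed`.
* `weaklyEtale_subalgebra`: subalgebras of weakly étale algebras over a field are weakly étale.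
* `weaklyEtale_of_forall_separable`: a `K`-algebra all of whose elements are roots of separable
  polynomials is weakly étale.
-/

namespace Groth.Agent.Lib.WeaklyEtaleField96

open Polynomial Groth.Agent.Lib.StepWeaklyEtale96 Groth.Agent.Lib.WeaklyEtaleFibre96

universe u

section

variable (K : Type u) [Field K]

/-- monic irreducible separable polynomials -/
def T : Set K[X] := {f | f.Monic ∧ Irreducible f ∧ f.Separable}

variable {K}

theorem separable_prod_T (s : Finset K[X]) (hs : ∀ f ∈ s, f ∈ T K) :
    (∏ f ∈ s, f).Separable := by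
  refine separable_prod' (f := fun f : K[X] => f) ?_ (fun f hf => (hs f hf).2.2)
  intro f hf g hg hfg
  rw [(hs f hf).2.1.coprime_iff_not_dvd]
  intro hdvd
  have hass : Associated f g := (hs f hf).2.1.associated_of_dvd (hs g hg).2.1 hdvd
  exact hfg (eq_of_monic_of_associated (hs f hf).1 (hs g hg).1 hass)

variable (K) (B : Type u) [CommRing B] [Algebra K B]

/-- The ideal of elements killing `g(y)` for some product `g` of polynomials in `T`. -/
def killIdeal (y : B) : Ideal B where
  carrier := {z | ∃ s : Finset K[X], (∀ f ∈ s, f ∈ T K) ∧ z * aeval y (∏ f ∈ s, f) = 0}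
  add_mem' := by
    classical
    rintro a b ⟨s, hs, ha⟩ ⟨t, ht, hb⟩
    refine ⟨s ∪ t, fun f hf => (Finset.mem_union.mp hf).elim (hs f) (ht f), ?_⟩
    obtain ⟨u, hu⟩ := Finset.prod_dvd_prod_of_subset s (s ∪ t) (fun f : K[X] => f)
      Finset.subset_union_left
    obtain ⟨v, hv⟩ := Finset.prod_dvd_prod_of_subset t (s ∪ t) (fun f : K[X] => f)
      Finset.subset_union_right
    rw [add_mul]
    nth_rewrite 1 [hu]
    rw [hv, map_mul, map_mul, ← mul_assoc, ← mul_assoc, ha, hb, zero_mul, zero_mul, add_zero]
  zero_mem' := ⟨∅, by simp, by simp⟩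
  smul_mem' := by
    rintro c a ⟨s, hs, ha⟩
    exact ⟨s, hs, by rw [smul_eq_mul, mul_assoc, ha, mul_zero]⟩

variable [Algebra.WeaklyEtale K B]

theorem killIdeal_eq_top (y : B) : killIdeal K B y = ⊤ := by
  by_contra hne
  obtain ⟨q, hq, hle⟩ := Ideal.exists_le_maximal _ hne
  letI : Field (B ⧸ q) := Ideal.Quotient.field q
  haveI : Algebra.WeaklyEtale K (B ⧸ q) := weaklyEtale_quotient K B q
  haveI : Algebra.IsSeparable K (B ⧸ q) := Groth.Agent.S0426.result
  set ybar : B ⧸ q := Ideal.Quotient.mk q y with hybar
  have hint : IsIntegral K ybar := Algebra.IsSeparable.isIntegral K ybar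
  set f := minpoly K ybar with hf
  have hfT : f ∈ T K :=
    ⟨minpoly.monic hint, minpoly.irreducible hint, Algebra.IsSeparable.isSeparable K ybar⟩
  have hmem : aeval y f ∈ q := by
    rw [← Ideal.Quotient.eq_zero_iff_mem]
    have : Ideal.Quotient.mk q (aeval y f) = aeval ybar f :=
      (Polynomial.aeval_algHom_apply (Ideal.Quotient.mkₐ K q) y f).symm
    rw [this, hf, minpoly.aeval]
  obtain ⟨b, hb⟩ := vnr_of_weaklyEtale_field K B (aeval y f)
  have hz : 1 - aeval y f * b ∈ killIdeal K B y := by
    refine ⟨{f}, by simpa using hfT, ?_⟩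
    rw [Finset.prod_singleton, sub_mul, one_mul, hb, sub_self]
  have h1 : (1 : B) ∈ q := by
    have h2 : aeval y f * b ∈ q := q.mul_mem_right b hmem
    have h3 := q.add_mem (hle hz) h2
    simpa using h3
  exact hq.ne_top ((Ideal.eq_top_iff_one q).mpr h1)

/-- Every element of a weakly étale algebra over a field is a root of a separable polynomial. -/
theorem exists_separable_aeval_eq_zero (y : B) : ∃ g : K[X], g.Separable ∧ aeval y g = 0 := by
  have h1 : (1 : B) ∈ killIdeal K B y := by rw [killIdeal_eq_top]; trivial
  obtain ⟨s, hs, h⟩ := h1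
  exact ⟨∏ f ∈ s, f, separable_prod_T s hs, by simpa using h⟩

end

section

variable {K : Type u} [Field K] {C : Type u} [CommRing C] [Algebra K C]

/-- A root of a separable polynomial is `Killed`. -/
theorem killed_of_separable {y : C} {g : K[X]} (hg : g.Separable) (hy : aeval y g = 0) :
    Killed K y := by
  refine killed_of_isRoot g hy ?_
  obtain ⟨a, b, hab⟩ := hg
  have := congrArg (aeval y) hab
  rw [map_add, map_mul, map_mul, hy, mul_zero, zero_add, map_one] at this
  exact IsUnit.of_mul_eq_one _ (by rwa [mul_comm] at this)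

/-- A `K`-algebra all of whose elements are roots of separable polynomials is weakly étale. -/
theorem weaklyEtale_of_forall_separable
    (h : ∀ y : C, ∃ g : K[X], g.Separable ∧ aeval y g = 0) : Algebra.WeaklyEtale K C := by
  refine weaklyEtale_of_forall_killed K C fun y => ?_
  obtain ⟨g, hg, hy⟩ := h y
  exact killed_of_separable hg hy

variable (B : Type u) [CommRing B] [Algebra K B] [Algebra.WeaklyEtale K B]

/-- Subalgebras of weakly étale algebras over a field are weakly étale. -/
theorem weaklyEtale_subalgebra (S : Subalgebra K B) : Algebra.WeaklyEtale K S := by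
  refine weaklyEtale_of_forall_separable fun y => ?_
  obtain ⟨g, hg, hy⟩ := exists_separable_aeval_eq_zero K B (y : B)
  refine ⟨g, hg, Subtype.ext ?_⟩
  have : ((aeval y g : S) : B) = aeval (y : B) g :=
    (Polynomial.aeval_algHom_apply S.val y g).symm
  rw [this, hy]
  rfl

end

end Groth.Agent.Lib.WeaklyEtaleField96
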