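import Mathlib
import Groth.Agent.Lib.WEtaleNormal22
import Groth.Agent.Lib.HznWeaklyEtale96
import Groth.Agent.Lib.WeaklyEtaleFibre96
import Groth.Agent.Lib.WeaklyEtaleField96
import Groth.Agent.Lib.WeaklyEtale
import Groth.Agent.Lib.HenselIdem
import Groth.Agent.Lib.DiagFlat

/-!
# Olivier's theorem (Stacks 092Z) (helper22)

A local homomorphism `A → B` of local rings with `A` strictly henselian and `B` weakly étale over
`A` is an isomorphism: `bijective_algebraMap`.

Ingredients:
* `exists_sub_mem_map`: `B / 𝔪_A B = κ(A)`;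
* `eq_zero_or_eq_one_of_isIdempotentElem`: for `A'` an integral `A`-algebra which is a domain,
  `A' ⊗[A] B` is connected (idempotent lifting for integral algebras over henselian rings);
* `exists_eq_algebraMap_of_separable`: in a connected algebra over a separably closed field a root
  of a separable polynomial is a scalar;
* `exists_one_tmul_eq`: with `A'` a normal domain integral over `A` with separably closed fraction
  field `Ω`, every `b : B` becomes a scalar in `Ω ⊗[A] B` (uses `Lib/WEtaleNormal22`: idempotents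
  of the generic fibre of a weakly étale algebra over a normal domain come from the algebra);
* `exists_tmul_eq_of_prime`: all fibres `Frac(A/p) ⊗[A] B` are trivial;
* `algHom_eq_of_forall_fibre`, `isEpi_of_forall_algHom_eq`, `bijective_of_faithfullyFlat_isEpi`:
  a flat local homomorphism with trivial fibres and flat diagonal is an isomorphism.
-/

set_option autoImplicit false

namespace Groth.Agent.Lib.Olivier22

open TensorProduct IsLocalRing Polynomial

universe u

section residue

variable (A B : Type u) [CommRing A] [CommRing B] [IsLocalRing A] [IsLocalRing B] [Algebra A B]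
  [IsLocalHom (algebraMap A B)] [Algebra.WeaklyEtale A B]

theorem map_maximalIdeal_ne_top : (maximalIdeal A).map (algebraMap A B) ≠ ⊤ := by
  have h : (maximalIdeal A).map (algebraMap A B) ≤ maximalIdeal B :=
    ((IsLocalRing.local_hom_TFAE (algebraMap A B)).out 0 2).mp ‹_›
  intro htop
  rw [htop, top_le_iff] at h
  exact (maximalIdeal.isMaximal B).ne_top h

/-- A local weakly étale algebra over a local ring with separably closed residue field has the
same residue field, and `𝔪_A B = 𝔪_B`: every element of `B` is congruent to an element of `A`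
modulo `𝔪_A B`. -/
theorem exists_sub_mem_map [hsc : IsSepClosed (ResidueField A)] (b : B) :
    ∃ a : A, b - algebraMap A B a ∈ (maximalIdeal A).map (algebraMap A B) := by
  letI : Field (A ⧸ maximalIdeal A) := Ideal.Quotient.field _
  haveI : IsSepClosed (A ⧸ maximalIdeal A) := hsc
  set I := (maximalIdeal A).map (algebraMap A B) with hI
  haveI : Nontrivial (B ⧸ I) := Ideal.Quotient.nontrivial_iff.2 (map_maximalIdeal_ne_top A B)
  let e := Algebra.TensorProduct.quotIdealMapEquivQuotTensor B (maximalIdeal A)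
  haveI : Algebra.WeaklyEtale (A ⧸ maximalIdeal A) (B ⧸ I) :=
    Groth.Agent.Lib.HznWeaklyEtale96.weaklyEtale_of_algEquiv e.symm
  haveI : IsLocalRing (B ⧸ I) :=
    IsLocalRing.of_surjective' (Ideal.Quotient.mk I) Ideal.Quotient.mk_surjective
  have hvnr := Groth.Agent.Lib.WeaklyEtaleFibre96.vnr_of_weaklyEtale_field
    (A ⧸ maximalIdeal A) (B ⧸ I)
  have hfield : IsField (B ⧸ I) := by
    refine ⟨exists_pair_ne _, mul_comm, fun {x} hx => ?_⟩
    obtain ⟨y, hy⟩ := hvnr x
    have h1 : x * (1 - y * x) = 0 := by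
      rw [mul_sub, mul_one, ← mul_assoc, hy, sub_self]
    rcases IsLocalRing.isUnit_or_isUnit_one_sub_self (y * x) with h | h
    · have hxu : IsUnit x := isUnit_of_mul_isUnit_right h
      obtain ⟨u, rfl⟩ := hxu
      exact ⟨(u⁻¹ : (B ⧸ I)ˣ), by simp⟩
    · exact absurd (h.mul_left_eq_zero.1 h1) hx
  letI : Field (B ⧸ I) := hfield.toField
  haveI : Algebra.IsSeparable (A ⧸ maximalIdeal A) (B ⧸ I) :=
    Groth.Agent.Lib.WeaklyEtale.isSeparable_of_weaklyEtale _ _
  obtain ⟨k, hk⟩ := IsSepClosed.algebraMap_surjective (A ⧸ maximalIdeal A) (B ⧸ I)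
    (Ideal.Quotient.mk I b)
  obtain ⟨a, rfl⟩ := Ideal.Quotient.mk_surjective k
  refine ⟨a, ?_⟩
  rw [← Ideal.Quotient.eq]
  rw [← hk]
  rfl

end residue

section integral

variable (A A' B : Type*) [CommRing A] [CommRing A'] [CommRing B] [Algebra A A'] [Algebra A B]

theorem includeRight_isIntegral [Algebra.IsIntegral A A'] :
    (Algebra.TensorProduct.includeRight : B →ₐ[A] A' ⊗[A] B).toRingHom.IsIntegral := by
  have h : (Algebra.TensorProduct.includeRight : B →ₐ[A] A' ⊗[A] B).toRingHom =
      ((Algebra.TensorProduct.comm A B A' : B ⊗[A] A' ≃ₐ[A] A' ⊗[A] B) : B ⊗[A] A' →+* A' ⊗[A] B).comp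
        (algebraMap B (B ⊗[A] A')) := by
    ext b
    simp [Algebra.TensorProduct.algebraMap_apply]
  rw [h]
  refine RingHom.IsIntegral.trans _ _ (algebraMap_isIntegral_iff.2 inferInstance) ?_
  exact RingHom.isIntegral_of_surjective _ (Algebra.TensorProduct.comm A B A').surjective

variable [IsLocalRing A] [IsLocalRing B] [IsLocalHom (algebraMap A B)]

theorem map_maximalIdeal_le_jacobson [Algebra.IsIntegral A A'] :
    (maximalIdeal A).map (algebraMap A (A' ⊗[A] B)) ≤ Ideal.jacobson ⊥ := by
  rw [Ideal.map_le_iff_le_comap]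
  intro a ha
  rw [Ideal.mem_comap, Ideal.jacobson, Ideal.mem_sInf]
  rintro n ⟨-, hn⟩
  have hmax : (n.comap (Algebra.TensorProduct.includeRight : B →ₐ[A] A' ⊗[A] B).toRingHom).IsMaximal :=
    Ideal.isMaximal_comap_of_isIntegral_of_isMaximal' _ (includeRight_isIntegral A A' B) n
  have h1 := IsLocalRing.eq_maximalIdeal hmax
  have h2 : algebraMap A B a ∈ maximalIdeal B := by
    rw [IsLocalRing.mem_maximalIdeal, mem_nonunits_iff]
    intro hu
    exact ha (isUnit_of_map_unit (algebraMap A B) a hu)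
  rw [← h1, Ideal.mem_comap] at h2
  simpa using h2

end integral

section connB

variable (A A' B : Type u) [CommRing A] [CommRing A'] [CommRing B] [Algebra A A'] [Algebra A B]
  [IsLocalRing A] [IsLocalRing B] [IsLocalHom (algebraMap A B)] [Algebra.WeaklyEtale A B]
  [IsSepClosed (ResidueField A)]

theorem includeRight_mem_map (r : B) (hr : r ∈ (maximalIdeal A).map (algebraMap A B)) :
    (1 : A') ⊗ₜ[A] r ∈ (maximalIdeal A).map (algebraMap A (A' ⊗[A] B)) := by
  have h1 : (maximalIdeal A).map (algebraMap A (A' ⊗[A] B)) =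
      ((maximalIdeal A).map (algebraMap A B)).map
        (Algebra.TensorProduct.includeRight : B →ₐ[A] A' ⊗[A] B).toRingHom := by
    rw [Ideal.map_map]
    congr 1
    ext a
    simp [Algebra.algebraMap_eq_smul_one]
  rw [h1]
  exact Ideal.mem_map_of_mem _ hr

theorem includeLeft_mem_map (r : A') (hr : r ∈ (maximalIdeal A).map (algebraMap A A')) :
    r ⊗ₜ[A] (1 : B) ∈ (maximalIdeal A).map (algebraMap A (A' ⊗[A] B)) := by
  have h1 : (maximalIdeal A).map (algebraMap A (A' ⊗[A] B)) =
      ((maximalIdeal A).map (algebraMap A A')).map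
        (Algebra.TensorProduct.includeLeft : A' →ₐ[A] A' ⊗[A] B).toRingHom := by
    rw [Ideal.map_map]
    congr 1
  rw [h1]
  exact Ideal.mem_map_of_mem _ hr

theorem exists_sub_tmul_one_mem (t : A' ⊗[A] B) :
    ∃ a' : A', t - a' ⊗ₜ[A] (1 : B) ∈ (maximalIdeal A).map (algebraMap A (A' ⊗[A] B)) := by
  induction t using TensorProduct.induction_on with
  | zero => exact ⟨0, by simp⟩
  | tmul a' b =>
    obtain ⟨a, ha⟩ := exists_sub_mem_map A B b
    refine ⟨a • a', ?_⟩
    have h1 : a' ⊗ₜ[A] b - (a • a') ⊗ₜ[A] (1 : B) =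
        (a' ⊗ₜ[A] (1 : B)) * ((1 : A') ⊗ₜ[A] (b - algebraMap A B a)) := by
      rw [Algebra.TensorProduct.tmul_mul_tmul, mul_one, one_mul, TensorProduct.tmul_sub,
        TensorProduct.smul_tmul, Algebra.algebraMap_eq_smul_one]
    rw [h1]
    exact Ideal.mul_mem_left _ _ (includeRight_mem_map A A' B _ ha)
  | add x y hx hy =>
    obtain ⟨a₁, h₁⟩ := hx
    obtain ⟨a₂, h₂⟩ := hy
    refine ⟨a₁ + a₂, ?_⟩
    have : x + y - (a₁ + a₂) ⊗ₜ[A] (1 : B) = (x - a₁ ⊗ₜ[A] (1 : B)) + (y - a₂ ⊗ₜ[A] (1 : B)) := by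
      rw [TensorProduct.add_tmul]; ring
    rw [this]
    exact Ideal.add_mem _ h₁ h₂

theorem mem_map_of_tmul_one_mem (a' : A')
    (h : a' ⊗ₜ[A] (1 : B) ∈ (maximalIdeal A).map (algebraMap A (A' ⊗[A] B))) :
    a' ∈ (maximalIdeal A).map (algebraMap A A') := by
  haveI : Module.FaithfullyFlat A B := Module.FaithfullyFlat.of_flat_of_isLocalHom
  set I' := (maximalIdeal A).map (algebraMap A A') with hI'
  let ρ : A' ⊗[A] B →ₐ[A] (A' ⧸ I') ⊗[A] B :=
    Algebra.TensorProduct.map (Ideal.Quotient.mkₐ A I') (AlgHom.id A B)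
  have hle : (maximalIdeal A).map (algebraMap A (A' ⊗[A] B)) ≤ RingHom.ker ρ.toRingHom := by
    rw [Ideal.map_le_iff_le_comap]
    intro a ha
    rw [Ideal.mem_comap, RingHom.mem_ker]
    have : ρ.toRingHom (algebraMap A (A' ⊗[A] B) a) = algebraMap A ((A' ⧸ I') ⊗[A] B) a :=
      ρ.commutes a
    rw [this, Algebra.TensorProduct.algebraMap_apply, IsScalarTower.algebraMap_apply A A' (A' ⧸ I'),
      Ideal.Quotient.algebraMap_eq, Ideal.Quotient.eq_zero_iff_mem.2 (Ideal.mem_map_of_mem _ ha),
      TensorProduct.zero_tmul]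
  have h0 : ρ (a' ⊗ₜ[A] (1 : B)) = 0 := hle h
  have h1 : (Ideal.Quotient.mk I' a') ⊗ₜ[A] (1 : B) = 0 := by
    simpa [ρ] using h0
  have h2 : TensorProduct.mk A B (A' ⧸ I') 1 (Ideal.Quotient.mk I' a') = 0 := by
    have := congrArg (TensorProduct.comm A (A' ⧸ I') B) h1
    simpa using this
  have h3 := Module.FaithfullyFlat.tensorProduct_mk_injective (A := A) (B := B) (A' ⧸ I')
    (h2.trans (map_zero _).symm)
  exact Ideal.Quotient.eq_zero_iff_mem.1 h3

/-- Let `A` be a henselian local ring with separably closed residue field, `B` a local weakly étale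
`A`-algebra (local homomorphism) and `A'` an integral `A`-algebra which is a domain.  Then
`A' ⊗[A] B` has only trivial idempotents. -/
theorem eq_zero_or_eq_one_of_isIdempotentElem [HenselianLocalRing A] [IsDomain A']
    [Algebra.IsIntegral A A'] (e : A' ⊗[A] B) (he : IsIdempotentElem e) : e = 0 ∨ e = 1 := by
  set J := (maximalIdeal A).map (algebraMap A (A' ⊗[A] B)) with hJ
  have hJjac : J ≤ Ideal.jacobson ⊥ := map_maximalIdeal_le_jacobson A A' B
  obtain ⟨a', ha'⟩ := exists_sub_tmul_one_mem A A' B e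
  have h1 : (a' * a' - a') ⊗ₜ[A] (1 : B) ∈ J := by
    set d := e - a' ⊗ₜ[A] (1 : B) with hd
    have h2 : (a' * a' - a') ⊗ₜ[A] (1 : B) = d * d + d - 2 * e * d := by
      have e1 : a' ⊗ₜ[A] (1 : B) = e - d := by rw [hd]; ring
      rw [TensorProduct.sub_tmul, ← mul_one (1 : B), ← Algebra.TensorProduct.tmul_mul_tmul, mul_one,
        e1]
      have := he.eq
      linear_combination this
    rw [h2]
    exact Ideal.sub_mem _ (Ideal.add_mem _ (Ideal.mul_mem_left _ _ ha') ha')
      (Ideal.mul_mem_left _ _ ha')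
  have h3 := mem_map_of_tmul_one_mem A A' B _ h1
  obtain ⟨e', he', hea⟩ := Groth.Agent.Lib.HenselIdem.exists_idempotent_lift_of_isIntegral
    (maximalIdeal A) a' h3
  rcases (IsIdempotentElem.iff_eq_zero_or_one.1 he') with h0 | h1'
  · left
    rw [h0, zero_sub, neg_mem_iff] at hea
    have : e - 0 ∈ J := by
      have := Ideal.add_mem _ ha' (includeLeft_mem_map A A' B a' hea)
      simpa using this
    exact Groth.Agent.Lib.HenselIdem.idempotent_eq_of_sub_mem hJjac he IsIdempotentElem.zero this
  · right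
    rw [h1'] at hea
    have h5 : e - 1 ∈ J := by
      have h4 := includeLeft_mem_map A A' B _ hea
      have : e - 1 = (e - a' ⊗ₜ[A] (1 : B)) - (1 - a') ⊗ₜ[A] (1 : B) := by
        rw [TensorProduct.sub_tmul, Algebra.TensorProduct.one_def]; ring
      rw [this]
      exact Ideal.sub_mem _ ha' h4
    exact Groth.Agent.Lib.HenselIdem.idempotent_eq_of_sub_mem hJjac he IsIdempotentElem.one h5

end connB

section connC

variable {Ω R : Type*} [Field Ω] [CommRing R] [Algebra Ω R] [Nontrivial R]

/-- In a connected algebra over a field, an element killed by a product of distinct linear factors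
is a scalar. -/
theorem exists_eq_algebraMap_of_prod_eq_zero
    (hR : ∀ e : R, IsIdempotentElem e → e = 0 ∨ e = 1) (y : R) (s : Finset Ω)
    (h : ∏ α ∈ s, (y - algebraMap Ω R α) = 0) : ∃ α ∈ s, y = algebraMap Ω R α := by
  classical
  induction s using Finset.induction_on with
  | empty => simp at h
  | insert a s ha ih =>
    rw [Finset.prod_insert ha] at h
    set u := y - algebraMap Ω R a with hu
    set w := ∏ α ∈ s, (y - algebraMap Ω R α) with hw
    have hcop : IsCoprime u w := by
      refine IsCoprime.prod_right fun β hβ => ?_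
      have hne : a - β ≠ 0 := sub_ne_zero.2 fun hab => ha (hab ▸ hβ)
      refine ⟨-algebraMap Ω R (a - β)⁻¹, algebraMap Ω R (a - β)⁻¹, ?_⟩
      have : -algebraMap Ω R (a - β)⁻¹ * u + algebraMap Ω R (a - β)⁻¹ * (y - algebraMap Ω R β) =
          algebraMap Ω R ((a - β)⁻¹ * (a - β)) := by
        rw [hu, map_mul, map_sub]; ring
      rw [this, inv_mul_cancel₀ hne, map_one]
    obtain ⟨r, t, hrt⟩ := hcop
    have hidem : IsIdempotentElem (r * u) := by
      have h1 : r * u = 1 - t * w := by rw [← hrt]; ring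
      show r * u * (r * u) = r * u
      calc r * u * (r * u) = r * u * (1 - t * w) := by rw [← h1]
        _ = r * u - r * t * (u * w) := by ring
        _ = r * u := by rw [h, mul_zero, sub_zero]
    rcases hR _ hidem with h0 | h1
    · -- `t * w = 1`, so `u = 0`
      have htw : t * w = 1 := by rw [← hrt, h0, zero_add]
      have : u = 0 := by
        calc u = u * (t * w) := by rw [htw, mul_one]
          _ = t * (u * w) := by ring
          _ = 0 := by rw [h, mul_zero]
      exact ⟨a, Finset.mem_insert_self a s, sub_eq_zero.1 this⟩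
    · have : w = 0 := by
        calc w = (r * u) * w := by rw [h1, one_mul]
          _ = r * (u * w) := by ring
          _ = 0 := by rw [h, mul_zero]
      obtain ⟨α, hα, hy⟩ := ih this
      exact ⟨α, Finset.mem_insert_of_mem hα, hy⟩

/-- In a connected algebra over a separably closed field, a root of a separable polynomial is a
scalar. -/
theorem exists_eq_algebraMap_of_separable [IsSepClosed Ω]
    (hR : ∀ e : R, IsIdempotentElem e → e = 0 ∨ e = 1) (y : R) (g : Polynomial Ω) (hg : g.Separable)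
    (hy : aeval y g = 0) : ∃ α : Ω, y = algebraMap Ω R α := by
  classical
  have hsplit : g.Splits := IsSepClosed.splits_of_separable g hg
  have hnd : g.roots.Nodup := nodup_roots hg
  have hlc : g.leadingCoeff ≠ 0 := leadingCoeff_ne_zero.2 hg.ne_zero
  have h1 : aeval y g = algebraMap Ω R g.leadingCoeff *
      ∏ α ∈ g.roots.toFinset, (y - algebraMap Ω R α) := by
    conv_lhs => rw [hsplit.eq_prod_roots]
    rw [map_mul, aeval_C, map_multiset_prod, Multiset.map_map, Finset.prod_eq_multiset_prod,
      Multiset.toFinset_val, Multiset.dedup_eq_self.2 hnd]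
    congr 2
    ext α
    simp
  rw [h1] at hy
  have hunit : IsUnit (algebraMap Ω R g.leadingCoeff) := (IsUnit.mk0 _ hlc).map _
  obtain ⟨α, -, hα⟩ := exists_eq_algebraMap_of_prod_eq_zero hR y _
    (hunit.mul_right_eq_zero.1 hy)
  exact ⟨α, hα⟩

end connC

section aux

variable (A A' B Ω : Type u) [CommRing A] [CommRing A'] [CommRing B] [Field Ω]
  [Algebra A A'] [Algebra A B] [Algebra A Ω] [Algebra A' Ω] [IsScalarTower A A' Ω]
  [HenselianLocalRing A] [IsLocalRing B] [IsLocalHom (algebraMap A B)] [Algebra.WeaklyEtale A B]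
  [IsSepClosed (ResidueField A)] [IsDomain A'] [IsIntegrallyClosed A'] [Algebra.IsIntegral A A']
  [IsFractionRing A' Ω] [IsSepClosed Ω]

include A' in
/-- The geometric generic fibre `Ω ⊗[A] B` is connected. -/
theorem eq_zero_or_eq_one_of_isIdempotentElem_fibre (e : Ω ⊗[A] B) (he : IsIdempotentElem e) :
    e = 0 ∨ e = 1 := by
  let Φ : (A' ⊗[A] B) ⊗[A'] Ω ≃+* Ω ⊗[A] B :=
    (Algebra.TensorProduct.comm A' (A' ⊗[A] B) Ω).toRingEquiv.trans
      (Algebra.TensorProduct.cancelBaseChange A A' A' Ω B).toRingEquiv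
  have he₁ : IsIdempotentElem (Φ.symm e) := he.map Φ.symm
  obtain ⟨z, hz, hze⟩ := Groth.Agent.Lib.WEtaleNormal22.exists_tmul_one_eq_of_isIdempotentElem
    A' Ω (A' ⊗[A] B) (Φ.symm e) he₁
  rcases eq_zero_or_eq_one_of_isIdempotentElem A A' B z hz with h | h
  · left
    rw [h, TensorProduct.zero_tmul] at hze
    have := congrArg Φ hze
    rw [map_zero, RingEquiv.apply_symm_apply] at this
    exact this.symm
  · right
    rw [h] at hze
    have := congrArg Φ hze
    rw [RingEquiv.apply_symm_apply] at this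
    rw [← this]
    exact map_one Φ

theorem nontrivial_fibre : Nontrivial (Ω ⊗[A] B) := by
  haveI : Module.FaithfullyFlat A B := Module.FaithfullyFlat.of_flat_of_isLocalHom
  have hinj := Module.FaithfullyFlat.tensorProduct_mk_injective (A := A) (B := B) Ω
  have h1 : TensorProduct.mk A B Ω 1 (1 : Ω) ≠ TensorProduct.mk A B Ω 1 (0 : Ω) :=
    fun h => one_ne_zero (hinj h)
  refine ⟨⟨(TensorProduct.comm A B Ω) (TensorProduct.mk A B Ω 1 (1 : Ω)),
    (TensorProduct.comm A B Ω) (TensorProduct.mk A B Ω 1 (0 : Ω)), fun h => h1 ?_⟩⟩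
  exact (TensorProduct.comm A B Ω).injective h

include A' in
/-- Key step of Olivier's theorem: every element of `B` becomes a scalar in the geometric generic
fibre over (the normalisation of) `A`. -/
theorem exists_one_tmul_eq (b : B) : ∃ α : Ω, (1 : Ω) ⊗ₜ[A] b = α ⊗ₜ[A] (1 : B) := by
  haveI := nontrivial_fibre A B Ω
  obtain ⟨g, hg, hy⟩ := Groth.Agent.Lib.WeaklyEtaleField96.exists_separable_aeval_eq_zero
    Ω (Ω ⊗[A] B) ((1 : Ω) ⊗ₜ[A] b)
  obtain ⟨α, hα⟩ := exists_eq_algebraMap_of_separable
    (eq_zero_or_eq_one_of_isIdempotentElem_fibre A A' B Ω) _ g hg hy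
  exact ⟨α, by rw [hα, Algebra.TensorProduct.algebraMap_apply]; rfl⟩

end aux

section final

variable (A B : Type u) [CommRing A] [CommRing B] [Algebra A B]

/-- If every element of `B` becomes a scalar in every fibre `Frac(A/p) ⊗[A] B`, then any two
`A`-algebra maps from `B` to a field agree. -/
theorem algHom_eq_of_forall_fibre
    (H : ∀ (p : Ideal A) [p.IsPrime] (b : B), ∃ k : FractionRing (A ⧸ p),
      (1 : FractionRing (A ⧸ p)) ⊗ₜ[A] b = k ⊗ₜ[A] (1 : B))
    (L : Type u) [Field L] [Algebra A L] (f₁ f₂ : B →ₐ[A] L) : f₁ = f₂ := by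
  set p : Ideal A := RingHom.ker (algebraMap A L) with hp
  haveI : p.IsPrime := RingHom.ker_isPrime _
  let ι₀ : A ⧸ p →+* L := RingHom.kerLift (algebraMap A L)
  have hι₀ : Function.Injective ι₀ := RingHom.kerLift_injective _
  let ι₁ : FractionRing (A ⧸ p) →+* L := IsFractionRing.lift hι₀
  let ι : FractionRing (A ⧸ p) →ₐ[A] L :=
    { ι₁ with
      commutes' := fun a => by
        have h1 : algebraMap A (FractionRing (A ⧸ p)) a =
            algebraMap (A ⧸ p) (FractionRing (A ⧸ p)) (Ideal.Quotient.mk p a) := by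
          rw [IsScalarTower.algebraMap_apply A (A ⧸ p) (FractionRing (A ⧸ p))]
          rfl
        show ι₁ (algebraMap A (FractionRing (A ⧸ p)) a) = algebraMap A L a
        rw [h1, IsFractionRing.lift_algebraMap]
        rfl }
  ext b
  obtain ⟨k, hk⟩ := H p b
  have h1 := congrArg (Algebra.TensorProduct.productMap ι f₁) hk
  have h2 := congrArg (Algebra.TensorProduct.productMap ι f₂) hk
  simp only [Algebra.TensorProduct.productMap_apply_tmul, map_one, one_mul, mul_one] at h1 h2
  rw [h1, h2]

/-- If `B ⊗[A] B → B` is flat and any two `A`-algebra maps from `B` to a field agree, then `A → B`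
is an epimorphism. -/
theorem isEpi_of_forall_algHom_eq (hflat : (Algebra.TensorProduct.lmul' A (S := B)).Flat)
    (H : ∀ (L : Type u) [Field L] [Algebra A L] (f₁ f₂ : B →ₐ[A] L), f₁ = f₂) :
    Algebra.IsEpi A B := by
  have key : ∀ x : B ⊗[A] B, Algebra.TensorProduct.lmul' A (S := B) x = 0 → x = 0 := by
    intro x hx
    obtain ⟨y, hy, hxy⟩ := Groth.Agent.Lib.DiagFlat.exists_eq_mul_of_flat_lmul' hflat x hx
    by_contra hx0
    have hnu : ¬ IsUnit (1 - y) := by
      intro hu
      apply hx0
      have : x * (1 - y) = 0 := by rw [mul_sub, mul_one, ← hxy, sub_self]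
      exact hu.mul_left_eq_zero.1 this
    obtain ⟨𝔮, h𝔮, hmem⟩ := exists_max_ideal_of_mem_nonunits (mem_nonunits_iff.2 hnu)
    letI : Field ((B ⊗[A] B) ⧸ 𝔮) := Ideal.Quotient.field 𝔮
    let φ : B ⊗[A] B →ₐ[A] (B ⊗[A] B) ⧸ 𝔮 := Ideal.Quotient.mkₐ A 𝔮
    have hf := H ((B ⊗[A] B) ⧸ 𝔮) (φ.comp Algebra.TensorProduct.includeLeft)
      (φ.comp Algebra.TensorProduct.includeRight)
    have hker : KaehlerDifferential.ideal A B ≤ RingHom.ker φ.toRingHom := by
      rw [← KaehlerDifferential.span_range_eq_ideal, Ideal.span_le]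
      rintro _ ⟨s, rfl⟩
      rw [SetLike.mem_coe, RingHom.mem_ker]
      have := congrArg (fun f : B →ₐ[A] (B ⊗[A] B) ⧸ 𝔮 => f s) hf
      simp only [AlgHom.comp_apply, Algebra.TensorProduct.includeLeft_apply,
        Algebra.TensorProduct.includeRight_apply] at this
      show φ ((1 : B) ⊗ₜ[A] s - s ⊗ₜ[A] (1 : B)) = 0
      rw [map_sub, this, sub_self]
    have hy0 : φ y = 0 := hker hy
    have h1 : φ (1 - y) = 0 := Ideal.Quotient.eq_zero_iff_mem.2 hmem
    rw [map_sub, hy0, sub_zero, map_one] at h1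
    exact one_ne_zero h1
  rw [Algebra.isEpi_iff_forall_one_tmul_eq]
  intro b
  have := key ((1 : B) ⊗ₜ[A] b - b ⊗ₜ[A] (1 : B)) (by simp)
  exact sub_eq_zero.1 this

theorem bijective_of_faithfullyFlat_isEpi [Module.FaithfullyFlat A B] [Algebra.IsEpi A B] :
    Function.Bijective (algebraMap A B) := by
  apply Module.FaithfullyFlat.bijective_of_tensorProduct (S := B)
  have h : ∀ s : B, algebraMap B (B ⊗[A] B) s = (TensorProduct.lid' A B B).symm s := by
    intro s
    rw [TensorProduct.lid'_symm_apply, Algebra.TensorProduct.algebraMap_apply]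
    exact Algebra.tmul_comm A s 1
  have : (algebraMap B (B ⊗[A] B) : B → B ⊗[A] B) = (TensorProduct.lid' A B B).symm := funext h
  rw [this]
  exact (TensorProduct.lid' A B B).symm.bijective

end final

section fibre

variable (A B : Type u) [CommRing A] [CommRing B] [HenselianLocalRing A] [IsLocalRing B]
  [IsSepClosed (ResidueField A)] [Algebra A B] [IsLocalHom (algebraMap A B)]
  [Algebra.WeaklyEtale A B]

/-- the fraction field of `A ⧸ p` -/
abbrev K0 (p : Ideal A) [p.IsPrime] : Type u := FractionRing (A ⧸ p)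

/-- an algebraic closure of the fraction field of `A ⧸ p` -/
abbrev Om (p : Ideal A) [p.IsPrime] : Type u := AlgebraicClosure (FractionRing (A ⧸ p))

/-- the integral closure of `A ⧸ p` in `Om A p` -/
noncomputable abbrev A1 (p : Ideal A) [p.IsPrime] : Subalgebra (A ⧸ p) (Om A p) :=
  integralClosure (A ⧸ p) (Om A p)

theorem exists_tmul_eq_of_prime (p : Ideal A) [p.IsPrime] (b : B) :
    ∃ k : K0 A p, (1 : K0 A p) ⊗ₜ[A] b = k ⊗ₜ[A] (1 : B) := by
  haveI : Algebra.IsAlgebraic (A ⧸ p) (Om A p) :=
    (IsFractionRing.comap_isAlgebraic_iff (A := A ⧸ p) (K := K0 A p) (C := Om A p)).mpr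
      inferInstance
  have hinj : ∀ x : A ⧸ p, algebraMap (A ⧸ p) (Om A p) x = 0 → x = 0 := by
    intro x hx
    rw [IsScalarTower.algebraMap_apply (A ⧸ p) (K0 A p) (Om A p), map_eq_zero] at hx
    exact (map_eq_zero_iff _ (IsFractionRing.injective (A ⧸ p) (K0 A p))).1 hx
  haveI : IsFractionRing (A1 A p) (Om A p) :=
    integralClosure.isFractionRing_of_algebraic (A := A ⧸ p) (L := Om A p) hinj
  haveI : IsIntegrallyClosed (A1 A p) :=
    (IsIntegrallyClosed.integralClosure_eq_bot_iff (Om A p)).mp integralClosure_idem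
  haveI : Algebra.IsIntegral A (A ⧸ p) :=
    Algebra.isIntegral_of_surjective Ideal.Quotient.mk_surjective
  haveI : Algebra.IsIntegral A (A1 A p) := Algebra.IsIntegral.trans (A ⧸ p)
  obtain ⟨α, hα⟩ := exists_one_tmul_eq A (A1 A p) B (Om A p) b
  obtain ⟨r, hr⟩ := LinearMap.exists_leftInverse_of_injective
    (Algebra.linearMap (K0 A p) (Om A p))
    (LinearMap.ker_eq_bot.2 (algebraMap (K0 A p) (Om A p)).injective)
  have hr1 : r 1 = 1 := by
    have := LinearMap.congr_fun hr (1 : K0 A p)
    simpa using this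
  have h := congrArg (LinearMap.rTensor B (r.restrictScalars A)) hα
  simp only [LinearMap.rTensor_tmul, LinearMap.restrictScalars_apply, hr1] at h
  exact ⟨r α, h⟩

end fibre


/-- **Olivier's theorem** (Stacks 092Z): a weakly étale local homomorphism from a strictly
henselian local ring to a local ring is an isomorphism. -/
theorem bijective_algebraMap (A B : Type u) [CommRing A] [CommRing B] [HenselianLocalRing A]
    [IsLocalRing B] [IsSepClosed (ResidueField A)] [Algebra A B] [IsLocalHom (algebraMap A B)]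
    [Algebra.WeaklyEtale A B] : Function.Bijective (algebraMap A B) := by
  haveI : Module.FaithfullyFlat A B := Module.FaithfullyFlat.of_flat_of_isLocalHom
  haveI : Algebra.IsEpi A B :=
    isEpi_of_forall_algHom_eq A B (Algebra.WeaklyEtale.flat_lmul' A B)
      (fun L _ _ f₁ f₂ => algHom_eq_of_forall_fibre A B
        (fun p _ b => exists_tmul_eq_of_prime A B p b) L f₁ f₂)
  exact bijective_of_faithfullyFlat_isEpi A B

end Groth.Agent.Lib.Olivier22
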