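import Mathlib
import Groth.Agent.Lib.StrictHenselizationTransport61
import Groth.Agent.Lib.HznWeaklyEtale96
import Groth.Agent.Lib.ShBaseChange61
import Groth.Agent.Lib.DiagFlat
import Groth.Agent.Lib.Olivier22
import Groth.Agent.Lib.WeaklyEtale
import Groth.Agent.Lib.StrictHenselizationMax
import Groth.Agent.Lib.StrictHenselizationProps

/-!
# Weakly étale local homomorphisms and strict henselizations (helper61)

Let `A → B` be a local homomorphism of local rings and `R` a strict henselization of `B`.

* `weaklyEtale_of_faithfullyFlat_tower`: if `C` is weakly étale over `A` and faithfully flat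
  over `B`, then `B` is weakly étale over `A`.
* `isStrictHenselization_of_weaklyEtale`: if `A → B` is weakly étale then `R` is a strict
  henselization of `A` (Olivier's theorem applied to `A^sh → R`).
* `weaklyEtale_of_isStrictHenselization`: conversely, if `R` is a strict henselization of `A`
  then `A → B` is weakly étale.
-/

set_option autoImplicit false
universe u

namespace Groth.Agent.Lib.WeaklyEtaleStrictHens61

open IsLocalRing TensorProduct

/-- If `C` is weakly étale over `A` and faithfully flat over `B`, then `B` is weakly étale over
`A`. -/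
theorem weaklyEtale_of_faithfullyFlat_tower (A B C : Type*) [CommRing A] [CommRing B] [CommRing C]
    [Algebra A B] [Algebra B C] [Algebra A C] [IsScalarTower A B C] [Algebra.WeaklyEtale A C]
    [Module.FaithfullyFlat B C] : Algebra.WeaklyEtale A B := by
  have hfl : Module.Flat A B := Groth.Agent.Lib.WeaklyEtale.flat_of_flat_of_faithfullyFlat A B C
  refine ⟨hfl, ?_⟩
  let ι : B →ₐ[A] C := IsScalarTower.toAlgHom A B C
  have hι : ι.toRingHom.Flat := by
    change (algebraMap B C).Flat
    rw [RingHom.flat_algebraMap_iff]
    infer_instance
  have h1 : (Algebra.TensorProduct.map ι ι).toRingHom.Flat := RingHom.Flat.tensorProductMap hι hι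
  have h2 := Algebra.WeaklyEtale.flat_lmul' A C
  have h3 := RingHom.Flat.comp h1 h2
  have hcomp : (Algebra.TensorProduct.lmul' A (S := C)).toRingHom.comp
      (Algebra.TensorProduct.map ι ι).toRingHom =
      (algebraMap B C).comp (Algebra.TensorProduct.lmul' A (S := B)).toRingHom := by
    have : (Algebra.TensorProduct.lmul' A (S := C)).comp (Algebra.TensorProduct.map ι ι) =
        ι.comp (Algebra.TensorProduct.lmul' A (S := B)) := by
      ext <;> simp
    exact congr($(this).toRingHom)
  rw [hcomp] at h3
  refine Groth.Agent.Lib.WeaklyEtale.ringHom_flat_of_comp_of_faithfullyFlat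
    (g := algebraMap B C) ?_ h3
  rw [RingHom.faithfullyFlat_algebraMap_iff]
  infer_instance

variable (A B R : Type u) [CommRing A] [IsLocalRing A] [CommRing B] [IsLocalRing B]
  [Algebra A B] [CommRing R] [IsLocalRing R] [Algebra B R] [IsLocalHom (algebraMap B R)]
  [Hensel.IsStrictHenselization B R] [Algebra A R] [IsScalarTower A B R]
  [IsLocalHom (algebraMap A R)]

/-- If `A → B` is a weakly étale local homomorphism of local rings, every strict henselization
of `B` is a strict henselization of `A`. -/
theorem isStrictHenselization_of_weaklyEtale [Algebra.WeaklyEtale A B] :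
    Hensel.IsStrictHenselization A R := by
  let S := Groth.Agent.Lib.StrictHenselization.Sh A
  have hBR : Algebra.WeaklyEtale B R :=
    Groth.Agent.Lib.HznWeaklyEtale96.weaklyEtale_of_isStrictHenselization B R
  have hAR : Algebra.WeaklyEtale A R := Algebra.WeaklyEtale.trans A B R
  obtain ⟨ρ, hρ⟩ := Groth.Agent.Lib.ShBaseChange61.exists_lift' A S B R
  let _ : Algebra S R := ρ.toAlgebra
  have htower : IsScalarTower A S R := .of_algebraMap_eq fun a => by
    rw [IsScalarTower.algebraMap_apply A B R]
    exact (congrArg (fun k : A →+* R => k a) hρ).symm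
  have hSR : Algebra.WeaklyEtale S R := Groth.Agent.Lib.DiagFlat.weaklyEtale_of_tower A S R
  have hloc : IsLocalHom (algebraMap S R) := by
    refine ⟨fun x hx => ?_⟩
    by_contra hx'
    have h1 : x ∈ maximalIdeal S := hx'
    rw [← Groth.Agent.Lib.StrictHenselizationMax.map_maximalIdeal_eq A S] at h1
    have h2 : Ideal.map (algebraMap A S) (maximalIdeal A) ≤
        (maximalIdeal R).comap (algebraMap S R) := by
      rw [Ideal.map_le_iff_le_comap]
      intro a ha
      rw [Ideal.mem_comap, Ideal.mem_comap, ← IsScalarTower.algebraMap_apply A S R]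
      exact map_nonunit (algebraMap A R) a ha
    exact (h2 h1) hx
  have hbij := Groth.Agent.Lib.Olivier22.bijective_algebraMap S R
  let e : S ≃+* R := RingEquiv.ofBijective (algebraMap S R) hbij
  exact Groth.Agent.Lib.StrictHenselizationTransport61.isStrictHenselization_of_ringEquiv_top
    A S R e (fun a => (IsScalarTower.algebraMap_apply A S R a).symm)

/-- Conversely, if a strict henselization of `B` is a strict henselization of `A`, then `A → B`
is weakly étale. -/
theorem weaklyEtale_of_isStrictHenselization [Hensel.IsStrictHenselization A R] :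
    Algebra.WeaklyEtale A B := by
  have hAR : Algebra.WeaklyEtale A R :=
    Groth.Agent.Lib.HznWeaklyEtale96.weaklyEtale_of_isStrictHenselization A R
  have hff : Module.FaithfullyFlat B R :=
    Groth.Agent.Lib.StrictHenselization.faithfullyFlat_of_isStrictHenselization B R
  exact weaklyEtale_of_faithfullyFlat_tower A B R

end Groth.Agent.Lib.WeaklyEtaleStrictHens61
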