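import Mathlib
import Groth.Agent.Lib.WeaklyEtaleStalk61
import Groth.Agent.Lib.WeaklyEtaleStrictHens61
import Groth.Agent.Lib.WEtaleNormalLocal22
import Groth.Agent.Lib.H80PolyGU5
import Groth.Agent.S2135

/-!
# Geometric unibranchness ascends along weakly étale and smooth ring maps (helper61)

* `isGeomUnibranch_iff_of_weaklyEtale_local`: for a weakly étale local homomorphism `A → B` of
  local rings, `A` is geometrically unibranch iff `B` is.
* `isGeomUnibranch_atPrime_iff_of_WE`: for a weakly étale ring map `φ : P → B` and a prime `J`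
  of `B`, `P_{φ⁻¹ J}` is geometrically unibranch iff `B_J` is.
* `isGeomUnibranch_atPrime_of_smooth`: for a smooth `R`-algebra `S` and a prime `q` of `S`, if
  `R_{q ∩ R}` is geometrically unibranch then so is `S_q` (uses helper80's polynomial case).
-/

set_option autoImplicit false
universe u

namespace Groth.Agent.Lib.GeomUnibranchSmooth61

open Groth.Agent.Lib.WeaklyEtaleStalk61 Groth.Agent.Lib.H80PolyGU

theorem isGeomUnibranch_iff_of_weaklyEtale_local (A B : Type u) [CommRing A] [IsLocalRing A]
    [CommRing B] [IsLocalRing B] [Algebra A B] [IsLocalHom (algebraMap A B)]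
    [Algebra.WeaklyEtale A B] : CAlg2.IsGeomUnibranch A ↔ CAlg2.IsGeomUnibranch B := by
  let T := Groth.Agent.Lib.StrictHenselization.Sh B
  let _ : Algebra A T := ((algebraMap B T).comp (algebraMap A B)).toAlgebra
  have htower : IsScalarTower A B T := .of_algebraMap_eq fun _ => rfl
  have hloc : IsLocalHom (algebraMap A T) :=
    RingHom.isLocalHom_comp (algebraMap B T) (algebraMap A B)
  have hsh : Hensel.IsStrictHenselization A T :=
    Groth.Agent.Lib.WeaklyEtaleStrictHens61.isStrictHenselization_of_weaklyEtale A B T
  rw [Groth.Agent.S2135.result (A := A) (Ash := T), Groth.Agent.S2135.result (A := B) (Ash := T)]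

theorem isGeomUnibranch_atPrime_iff_of_WE {P B : Type u} [CommRing P] [CommRing B] (φ : P →+* B)
    (hφ : WE φ) (J : Ideal B) [J.IsPrime] :
    CAlg2.IsGeomUnibranch (Localization.AtPrime (J.comap φ)) ↔
      CAlg2.IsGeomUnibranch (Localization.AtPrime J) := by
  have h := WE_localRingHom φ hφ J
  let _ : Algebra (Localization.AtPrime (J.comap φ)) (Localization.AtPrime J) :=
    (Localization.localRingHom (J.comap φ) J φ rfl).toAlgebra
  have hloc : IsLocalHom (algebraMap (Localization.AtPrime (J.comap φ))
      (Localization.AtPrime J)) :=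
    Localization.isLocalHom_localRingHom (J.comap φ) J φ rfl
  have hWE : Algebra.WeaklyEtale (Localization.AtPrime (J.comap φ)) (Localization.AtPrime J) := h
  exact isGeomUnibranch_iff_of_weaklyEtale_local _ _

theorem isGeomUnibranch_atPrime_of_smooth (R S : Type u) [CommRing R] [CommRing S] [Algebra R S]
    [Algebra.Smooth R S] (q : Ideal S) [q.IsPrime]
    (h : CAlg2.IsGeomUnibranch (Localization.AtPrime (q.comap (algebraMap R S)))) :
    CAlg2.IsGeomUnibranch (Localization.AtPrime q) := by
  obtain ⟨g, hg, hstd⟩ := Algebra.IsSmoothAt.exists_notMem_isStandardSmooth R (S := S) q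
  have hstd' : (algebraMap R (Localization.Away g)).IsStandardSmooth :=
    RingHom.isStandardSmooth_algebraMap.mpr hstd
  obtain ⟨n, ψ, hψ, hψet⟩ := hstd'.exists_etale_mvPolynomial
  have hdisj : Disjoint (Submonoid.powers g : Set S) (q : Set S) := by
    rw [Set.disjoint_left]
    rintro _ ⟨m, rfl⟩ hm
    exact hg (Ideal.IsPrime.mem_of_pow_mem ‹q.IsPrime› m hm)
  have hqg : (q.map (algebraMap S (Localization.Away g))).IsPrime :=
    IsLocalization.isPrime_of_isPrime_disjoint (Submonoid.powers g) (Localization.Away g) q
      ‹q.IsPrime› hdisj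
  have hcm : (q.map (algebraMap S (Localization.Away g))).comap
      (algebraMap S (Localization.Away g)) = q :=
    IsLocalization.under_map_of_isPrime_disjoint (Submonoid.powers g) (Localization.Away g)
      ‹q.IsPrime› hdisj
  have hq'prime : ((q.map (algebraMap S (Localization.Away g))).comap ψ).IsPrime :=
    Ideal.comap_isPrime _ _
  have hq'R : ((q.map (algebraMap S (Localization.Away g))).comap ψ).comap
      (MvPolynomial.C : R →+* MvPolynomial (Fin n) R) = q.comap (algebraMap R S) := by
    rw [Ideal.comap_comap, hψ, IsScalarTower.algebraMap_eq R S (Localization.Away g),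
      ← Ideal.comap_comap, hcm]
  have h1 : CAlg2.IsGeomUnibranch (Localization.AtPrime
      ((q.map (algebraMap S (Localization.Away g))).comap ψ)) :=
    isGeomUnibranch_atPrime_mvPolynomial' R n _ ((isGeomUnibranch_atPrime_congr hq'R).mpr h)
  have hψWE : WE ψ := by
    algebraize [ψ]
    have : Algebra.Etale (MvPolynomial (Fin n) R) (Localization.Away g) := hψet
    exact (inferInstance : Algebra.WeaklyEtale (MvPolynomial (Fin n) R) (Localization.Away g))
  have h2 : CAlg2.IsGeomUnibranch (Localization.AtPrime
      (q.map (algebraMap S (Localization.Away g)))) :=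
    (isGeomUnibranch_atPrime_iff_of_WE ψ hψWE _).mp h1
  have hlocWE : WE (algebraMap S (Localization.Away g)) :=
    WE_algebraMap.mpr (Groth.Agent.Lib.WEtaleNormalLocal22.weaklyEtale_of_isLocalization
      (Submonoid.powers g) (Localization.Away g))
  have h3 := (isGeomUnibranch_atPrime_iff_of_WE (algebraMap S (Localization.Away g)) hlocWE
    (q.map (algebraMap S (Localization.Away g)))).mpr h2
  exact (isGeomUnibranch_atPrime_congr hcm).mp h3

end Groth.Agent.Lib.GeomUnibranchSmooth61
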