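import Groth.Agent.Lib.H56HenselQF
import Groth.Agent.Lib.HenselIntegralLocal
import Groth.Prelude.Def_Hensel

/-!
# Quasi-finite primes over henselian local rings: the local ring is finite (helper61)

* `finite_localization_atPrime_of_quasiFiniteAt`: `A` henselian local, `D` a finite type
  `A`-algebra, `Q` a prime of `D` over `m_A` at which `D` is quasi-finite.  Then `D_Q` is
  module-finite over `A` (built on helper56's `exists_idem_of_quasiFiniteAt`).
* `henselianLocalRing_localization_atPrime_of_quasiFiniteAt`: hence `D_Q` is henselian.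
* `isHenselization_self`, `isStrictHenselization_self`.
-/

set_option autoImplicit false
universe u

namespace Groth.Agent.Lib.HenselQFLocalization61

open IsLocalRing

section Self

variable (L : Type u) [CommRing L] [hL : HenselianLocalRing L]

/-- A henselian local ring is its own henselization. -/
theorem isHenselization_self : Hensel.IsHenselization L L where
  henselian := hL
  universal T _ _ f _ := ⟨f, rfl, fun g hg => by rw [← hg]; rfl⟩

/-- A henselian local ring with separably closed residue field is its own strict henselization. -/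
theorem isStrictHenselization_self [IsSepClosed (ResidueField L)] :
    Hensel.IsStrictHenselization L L where
  henselian := hL
  isSepClosure := by
    refine @IsSepClosure.mk (ResidueField L) _ (ResidueField L) _ ?_ ?_ ?_
    · infer_instance
    refine @Algebra.IsSeparable.mk (ResidueField L) (ResidueField L) _ _ ?_ ?_
    intro x
    obtain ⟨r, rfl⟩ := residue_surjective x
    let _ : Algebra (ResidueField L) (ResidueField L) := @ResidueField.instAlgebra L L _ _ _ _ _ _
    have h : IsSeparable (ResidueField L)
        (algebraMap (ResidueField L) (ResidueField L) (residue L r)) :=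
      isSeparable_algebraMap (residue L r)
    rw [ResidueField.algebraMap_residue] at h
    exact h
  universal T _ _ f _ τ hτ := by
    refine ⟨f, ⟨rfl, fun x => ?_⟩, fun g hg => by rw [← hg.1]; rfl⟩
    have h1 := RingHom.congr_fun hτ (residue L x)
    rw [RingHom.comp_apply, ResidueField.map_residue, ResidueField.map_residue] at h1
    exact h1.symm

end Self

section Finite

variable (A : Type u) [CommRing A] [HenselianLocalRing A]
  (D : Type u) [CommRing D] [Algebra A D] [Algebra.FiniteType A D]
  (Q : Ideal D) [Q.IsPrime] [Q.LiesOver (maximalIdeal A)] [Algebra.QuasiFiniteAt A Q]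

/-- There is an idempotent `ε ∉ Q` such that `D ⧸ (1 - ε)` is finite over `A` and is the
localization of `D` at `Q`. -/
theorem exists_idem_isLocalization :
    ∃ ε : D, IsIdempotentElem ε ∧ ε ∉ Q ∧ Module.Finite A (D ⧸ Ideal.span {1 - ε}) ∧
      IsLocalization.AtPrime (D ⧸ Ideal.span {1 - ε}) Q := by
  obtain ⟨ε, hε, hεQ, hfin, hQ⟩ :=
    Groth.Agent.Lib.H56HenselQF.exists_idem_of_quasiFiniteAt A D Q
  refine ⟨ε, hε, hεQ, hfin, ?_⟩
  set I : Ideal D := Ideal.span {1 - ε} with hI
  have hint : Algebra.IsIntegral A (D ⧸ I) := inferInstance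
  -- units
  have hunit : ∀ s : D, s ∉ Q → IsUnit (Ideal.Quotient.mk I s) := by
    intro s hs
    by_contra hnu
    obtain ⟨M, hM, hsM⟩ := exists_max_ideal_of_mem_nonunits hnu
    set M' : Ideal D := M.comap (Ideal.Quotient.mk I) with hM'
    have hM'prime : M'.IsPrime := Ideal.comap_isPrime _ M
    have hεM' : ε ∉ M' := by
      intro h
      have h1 : (1 - ε) ∈ M' := by
        rw [hM', Ideal.mem_comap]
        have : Ideal.Quotient.mk I (1 - ε) = 0 :=
          Ideal.Quotient.eq_zero_iff_mem.mpr (Ideal.subset_span rfl)
        rw [this]; exact M.zero_mem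
      have h2 : (1 : D) ∈ M' := by
        have := M'.add_mem h1 h
        simpa using this
      exact hM'prime.ne_top ((Ideal.eq_top_iff_one _).2 h2)
    have hlies : M'.LiesOver (maximalIdeal A) := by
      constructor
      have hmax : (M.comap (algebraMap A (D ⧸ I))).IsMaximal :=
        Ideal.isMaximal_comap_of_isIntegral_of_isMaximal M
      have h1 : M.comap (algebraMap A (D ⧸ I)) = maximalIdeal A :=
        IsLocalRing.eq_maximalIdeal hmax
      rw [← h1]
      rfl
    have := hQ M' hM'prime hlies hεM'
    exact hs (this ▸ hsM)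
  refine ⟨?_, ?_, ?_⟩
  · rintro ⟨s, hs⟩
    exact hunit s hs
  · intro z
    obtain ⟨d, rfl⟩ := Ideal.Quotient.mk_surjective z
    exact ⟨⟨d, 1⟩, by simp⟩
  · intro a b hab
    have h1 : a - b ∈ I := Ideal.Quotient.eq.mp hab
    obtain ⟨c, hc⟩ := Ideal.mem_span_singleton'.mp h1
    refine ⟨⟨ε, hεQ⟩, ?_⟩
    have h2 : ε * (a - b) = 0 := by
      rw [← hc]
      have : ε * (1 - ε) = 0 := by rw [mul_sub, mul_one, hε.eq, sub_self]
      calc ε * (c * (1 - ε)) = c * (ε * (1 - ε)) := by ring
        _ = 0 := by rw [this, mul_zero]
    have h3 : ε * a - ε * b = 0 := by rw [← mul_sub]; exact h2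
    exact sub_eq_zero.mp h3

/-- `D_Q` is module-finite over the henselian local ring `A`. -/
theorem finite_localization_atPrime_of_quasiFiniteAt :
    Module.Finite A (Localization.AtPrime Q) := by
  obtain ⟨ε, -, -, hfin, hloc⟩ := exists_idem_isLocalization A D Q
  let e : (D ⧸ Ideal.span {1 - ε}) ≃ₐ[D] Localization.AtPrime Q :=
    IsLocalization.algEquiv Q.primeCompl _ _
  exact Module.Finite.equiv (e.restrictScalars A).toLinearEquiv

end Finite

/-- `D_Q` is a henselian local ring. -/
theorem henselianLocalRing_localization_atPrime_of_quasiFiniteAt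
    (A : Type u) [CommRing A] [HenselianLocalRing A]
    (D : Type u) [CommRing D] [Algebra A D] [Algebra.FiniteType A D]
    (Q : Ideal D) [Q.IsPrime] [Q.LiesOver (maximalIdeal A)] [Algebra.QuasiFiniteAt A Q] :
    HenselianLocalRing (Localization.AtPrime Q) := by
  have := finite_localization_atPrime_of_quasiFiniteAt A D Q
  exact Groth.Agent.Lib.HenselIntegralLocal.henselianLocalRing_of_isIntegral A
    (Localization.AtPrime Q)

end Groth.Agent.Lib.HenselQFLocalization61
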