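import Mathlib
import Groth.Agent.Lib.StrictHensQuotB96
import Groth.Agent.Lib.StrictHenselizationTransport61
import Groth.Agent.Lib.GeomUnibranchEquiv96
import Groth.Agent.Lib.HenselizationUP
import Groth.Agent.S2750
import Groth.Agent.S13199

/-!
# Prime elements stay prime in strict henselizations of smooth algebras (helper61)

* `isPrime_map_of_isStrictHenselization`: `T` a strict henselization of the local ring `L`, `J` an
  ideal of `L` with `L ⧸ J` reduced and geometrically unibranch: then `J T` is a prime ideal.
* `prime_map_strictHenselization_of_smooth`: `R` strictly henselian local, `Δ` a prime element,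
  `R'` smooth over `R`, `q` a prime of `R'` over the maximal ideal, `T` a strict henselization of
  `R'_q`: then the image of `Δ` in `T` is prime.
-/

set_option autoImplicit false
universe u

namespace Groth.Agent.Lib.StrictHensPrime61

open IsLocalRing

theorem isPrime_map_of_isStrictHenselization (L T : Type u) [CommRing L] [IsLocalRing L]
    [CommRing T] [IsLocalRing T] [Algebra L T] [IsLocalHom (algebraMap L T)]
    [Hensel.IsStrictHenselization L T] (J : Ideal L) [IsLocalRing (L ⧸ J)]
    (hred : IsReduced (L ⧸ J)) (hGU : CAlg2.IsGeomUnibranch (L ⧸ J)) :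
    (J.map (algebraMap L T)).IsPrime := by
  obtain ⟨S', _, _, _, _, π, hπ, hker, hcomm⟩ :=
    Groth.Agent.Lib.StrictHensQuot96.exists_quotient_data T (Ideal.Quotient.mk J)
      Ideal.Quotient.mk_surjective
  have hsh : Hensel.IsStrictHenselization (L ⧸ J) S' :=
    Groth.Agent.Lib.StrictHensQuot96.isStrictHenselization_of_surjective (Ideal.Quotient.mk J)
      Ideal.Quotient.mk_surjective S' π hπ hker hcomm
  have hdom : IsDomain S' := (Groth.Agent.S2750.result (L ⧸ J) S').1 ⟨hred, hGU⟩
  rw [Ideal.mk_ker] at hker
  rw [← hker]
  exact RingHom.ker_isPrime π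

end Groth.Agent.Lib.StrictHensPrime61
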