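import Groth.Agent.Lib.StrictHenselizationProps
import Groth.Agent.Lib.StrictHenselizationMax

/-!
# Recognising a strict henselization through a "generating" pair of subrings (helper61)

Strict analogue of `Lib/HenselizationEpi61`.

* `exists_algEquiv_of_isStrictHenselization`: two strict henselizations of a local ring `L` are
  isomorphic as `L`-algebras.
* `isStrictHenselization_of_epi`: let `Rh` be a strict henselization of `R₀`, `Sh` a strict
  henselization of `S₀`, and `L` a local ring with a local map `L → Sh`, together with maps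
  `j : S₀ → L`, `k : Rh → L` that are jointly epimorphic, compatible with a local map
  `ρ : R₀ → S₀`, and such that `S₀ → L → Sh` is the structure map.  Then `Sh` is a strict
  henselization of `L`.  (Typical case: `L = (Rh ⊗[R] S)_Q`.)
-/

set_option autoImplicit false
universe u

namespace Groth.Agent.Lib.StrictHenselizationEpi61

open IsLocalRing

section Unique

variable (L E Sh : Type u) [CommRing L] [IsLocalRing L]
  [CommRing E] [IsLocalRing E] [Algebra L E] [IsLocalHom (algebraMap L E)]
  [Hensel.IsStrictHenselization L E]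
  [CommRing Sh] [IsLocalRing Sh] [Algebra L Sh] [IsLocalHom (algebraMap L Sh)]
  [Hensel.IsStrictHenselization L Sh]

/-- Two strict henselizations of `L` are isomorphic as `L`-algebras. -/
theorem exists_algEquiv_of_isStrictHenselization : Nonempty (E ≃ₐ[L] Sh) :=
  ⟨(Groth.Agent.Lib.StrictHenselization.equivSh L E).trans
    (Groth.Agent.Lib.StrictHenselization.equivSh L Sh).symm⟩

end Unique

section Epi

variable (R₀ Rh S₀ Sh L : Type u) [CommRing R₀] [IsLocalRing R₀] [CommRing Rh] [IsLocalRing Rh]
  [Algebra R₀ Rh] [IsLocalHom (algebraMap R₀ Rh)] [Hensel.IsStrictHenselization R₀ Rh]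
  [CommRing S₀] [IsLocalRing S₀] [CommRing Sh] [IsLocalRing Sh] [Algebra S₀ Sh]
  [IsLocalHom (algebraMap S₀ Sh)] [Hensel.IsStrictHenselization S₀ Sh]
  [CommRing L] [IsLocalRing L] [Algebra L Sh] [IsLocalHom (algebraMap L Sh)]

omit [Hensel.IsStrictHenselization S₀ Sh] [IsLocalRing L] [IsLocalHom (algebraMap L Sh)] in
/-- The map `k : Rh → L` is automatically local. -/
theorem isLocalHom_of_compat
    (ρ : R₀ →+* S₀) [IsLocalHom ρ] (j : S₀ →+* L) (k : Rh →+* L)
    (hj : (algebraMap L Sh).comp j = algebraMap S₀ Sh)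
    (hjk : j.comp ρ = k.comp (algebraMap R₀ Rh)) : IsLocalHom k := by
  refine ⟨fun x hx => ?_⟩
  by_contra hx'
  have h1 : x ∈ maximalIdeal Rh := hx'
  rw [← Groth.Agent.Lib.StrictHenselizationMax.map_maximalIdeal_eq R₀ Rh] at h1
  -- the image of `m_{R₀} Rh` in `Sh` lies in `m_Sh`
  have h2 : (Ideal.map (algebraMap R₀ Rh) (maximalIdeal R₀)) ≤
      (maximalIdeal Sh).comap ((algebraMap L Sh).comp k) := by
    rw [Ideal.map_le_iff_le_comap]
    intro r hr
    rw [Ideal.mem_comap, Ideal.mem_comap]
    have e : ((algebraMap L Sh).comp k) (algebraMap R₀ Rh r) = algebraMap S₀ Sh (ρ r) := by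
      have e1 : k (algebraMap R₀ Rh r) = j (ρ r) :=
        (congrArg (fun φ : R₀ →+* L => φ r) hjk).symm
      have e2 : algebraMap L Sh (j (ρ r)) = algebraMap S₀ Sh (ρ r) :=
        congrArg (fun φ : S₀ →+* Sh => φ (ρ r)) hj
      rw [RingHom.comp_apply, e1, e2]
    rw [e]
    exact map_nonunit (algebraMap S₀ Sh) _ (map_nonunit ρ r hr)
  have h3 : algebraMap L Sh (k x) ∈ maximalIdeal Sh := h2 h1
  exact h3 (hx.map (algebraMap L Sh))

/-- See the module docstring. -/
theorem isStrictHenselization_of_epi
    (ρ : R₀ →+* S₀) [IsLocalHom ρ] (j : S₀ →+* L) (k : Rh →+* L)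
    (hj : (algebraMap L Sh).comp j = algebraMap S₀ Sh)
    (hjk : j.comp ρ = k.comp (algebraMap R₀ Rh))
    (hepi : ∀ (T : Type u) [CommRing T] (u v : L →+* T),
      u.comp j = v.comp j → u.comp k = v.comp k → u = v) :
    Hensel.IsStrictHenselization L Sh := by
  have hjloc : IsLocalHom j := by
    refine ⟨fun x hx => ?_⟩
    have h1 : IsUnit (algebraMap L Sh (j x)) := hx.map _
    have h2 : algebraMap L Sh (j x) = algebraMap S₀ Sh x :=
      congrArg (fun φ : S₀ →+* Sh => φ x) hj
    rw [h2] at h1
    exact isUnit_of_map_unit (algebraMap S₀ Sh) x h1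
  have hkloc : IsLocalHom k := isLocalHom_of_compat R₀ Rh S₀ Sh L ρ j k hj hjk
  have hjx : ∀ x : S₀, algebraMap L Sh (j x) = algebraMap S₀ Sh x :=
    fun x => congrArg (fun φ : S₀ →+* Sh => φ x) hj
  have hsc : IsSepClosure (ResidueField S₀) (ResidueField Sh) :=
    Hensel.IsStrictHenselization.isSepClosure
  refine ⟨Hensel.IsStrictHenselization.henselian (R := S₀), ?_, ?_⟩
  · -- the residue field of `Sh` is a separable closure of that of `L`
    let _ : Algebra S₀ L := j.toAlgebra
    have htower : IsScalarTower S₀ L Sh :=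
      IsScalarTower.of_algebraMap_eq fun x => (hjx x).symm
    have hjloc' : IsLocalHom (algebraMap S₀ L) := hjloc
    have hsep : Algebra.IsSeparable (ResidueField S₀) (ResidueField Sh) := hsc.separable
    have hsc' : IsSepClosed (ResidueField Sh) := hsc.sep_closed
    exact ⟨hsc', Algebra.isSeparable_tower_top_of_isSeparable (ResidueField S₀) (ResidueField L)
      (ResidueField Sh)⟩
  · intro T _ _ f hf τ hτ
    have hτx : ∀ y : L, τ (residue Sh (algebraMap L Sh y)) = residue T (f y) := fun y =>
      congrArg (fun φ : ResidueField L →+* ResidueField T => φ (residue L y)) hτ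
    have hfj : IsLocalHom (f.comp j) := RingHom.isLocalHom_comp f j
    have hτ₁ : τ.comp (ResidueField.map (algebraMap S₀ Sh)) = ResidueField.map (f.comp j) := by
      ext c
      obtain ⟨x, rfl⟩ := residue_surjective c
      rw [RingHom.comp_apply, ResidueField.map_residue, ResidueField.map_residue, ← hjx, hτx]
      rfl
    obtain ⟨g, ⟨hg, hgres⟩, hguniq⟩ :=
      Hensel.IsStrictHenselization.universal (R := S₀) (S := Sh) T (f.comp j) τ hτ₁
    refine ⟨g, ⟨?_, hgres⟩, ?_⟩
    · apply hepi T
      · rw [RingHom.comp_assoc, hj, hg]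
      · -- two maps `Rh → T` agreeing on `R₀` and on residue fields
        have hloc : IsLocalHom ((f.comp j).comp ρ) := RingHom.isLocalHom_comp (f.comp j) ρ
        have hΦk : IsLocalHom ((algebraMap L Sh).comp k) :=
          RingHom.isLocalHom_comp (algebraMap L Sh) k
        let τ₀ : ResidueField Rh →+* ResidueField T :=
          τ.comp (ResidueField.map ((algebraMap L Sh).comp k))
        have hτ₀x : ∀ x : Rh, τ₀ (residue Rh x) = τ (residue Sh (algebraMap L Sh (k x))) :=
          fun x => rfl
        have hkr : ∀ r : R₀, k (algebraMap R₀ Rh r) = j (ρ r) := fun r =>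
          (congrArg (fun φ : R₀ →+* L => φ r) hjk).symm
        have hτ₀ : τ₀.comp (ResidueField.map (algebraMap R₀ Rh))
            = ResidueField.map ((f.comp j).comp ρ) := by
          ext c
          obtain ⟨r, rfl⟩ := residue_surjective c
          rw [RingHom.comp_apply, ResidueField.map_residue, ResidueField.map_residue, hτ₀x, hτx,
            hkr]
          rfl
        obtain ⟨g₀, -, hg₀⟩ :=
          Hensel.IsStrictHenselization.universal (R := R₀) (S := Rh) T ((f.comp j).comp ρ) τ₀ hτ₀
        have e0 : (g.comp (algebraMap L Sh)).comp j = f.comp j := by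
          rw [RingHom.comp_assoc, hj, hg]
        have e1 : ((g.comp (algebraMap L Sh)).comp k).comp (algebraMap R₀ Rh)
            = (f.comp j).comp ρ := by
          rw [RingHom.comp_assoc, ← hjk, ← RingHom.comp_assoc, e0]
        have e2 : (f.comp k).comp (algebraMap R₀ Rh) = (f.comp j).comp ρ := by
          rw [RingHom.comp_assoc, ← hjk, RingHom.comp_assoc]
        have r1 : ∀ x : Rh, residue T (((g.comp (algebraMap L Sh)).comp k) x)
            = τ₀ (residue Rh x) := fun x => by
          rw [hτ₀x]
          exact hgres _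
        have r2 : ∀ x : Rh, residue T ((f.comp k) x) = τ₀ (residue Rh x) := fun x => by
          rw [hτ₀x, hτx]
          rfl
        rw [hg₀ _ ⟨e1, r1⟩, hg₀ _ ⟨e2, r2⟩]
    · rintro g' ⟨hg', hg'res⟩
      apply hguniq
      refine ⟨?_, hg'res⟩
      rw [← hj, ← RingHom.comp_assoc, hg']

end Epi

end Groth.Agent.Lib.StrictHenselizationEpi61
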