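import Mathlib
import Groth.Agent.S17730
import Groth.Agent.S9460
import Groth.Agent.S0540
import Groth.Agent.Lib.ShBaseChange61
import Groth.Agent.Lib.StrictHenselization
import Groth.Agent.Lib.StrictHenselizationMax

/-!
# Étale-universally prime elements and smooth algebras (helper61)

* `prime_of_prime_strictHenselization`: `R` Noetherian, `Δ ∈ R`, `p` a prime of `R` such that `Δ`
  is prime in a strict henselization of `R_p`; `R'` smooth over `R`, `q` a prime of `R'` over `p`,
  `T` a strict henselization of `R'_q`: then `Δ` is prime in `T`.
-/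

set_option autoImplicit false
universe u

namespace Groth.Agent.Lib.EtaleUnivPrime61

open IsLocalRing TensorProduct

theorem prime_of_prime_strictHenselization (R : Type u) [CommRing R] [IsNoetherianRing R] (Δ : R)
    (p : Ideal R) [p.IsPrime]
    (Rh : Type u) [CommRing Rh] [IsLocalRing Rh] [Algebra (Localization.AtPrime p) Rh]
    [IsLocalHom (algebraMap (Localization.AtPrime p) Rh)]
    [Hensel.IsStrictHenselization (Localization.AtPrime p) Rh]
    (hΔ : Prime (algebraMap (Localization.AtPrime p) Rh (algebraMap R (Localization.AtPrime p) Δ)))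
    (R' : Type u) [CommRing R'] [Algebra R R'] [Algebra.Smooth R R'] (q : Ideal R') [q.IsPrime]
    (hqp : p = q.comap (algebraMap R R'))
    (T : Type u) [CommRing T] [IsLocalRing T] [Algebra (Localization.AtPrime q) T]
    [IsLocalHom (algebraMap (Localization.AtPrime q) T)]
    [Hensel.IsStrictHenselization (Localization.AtPrime q) T] :
    Prime (algebraMap (Localization.AtPrime q) T
      (algebraMap R' (Localization.AtPrime q) (algebraMap R R' Δ))) := by
  classical
  let _ : Algebra R Rh := ((algebraMap (Localization.AtPrime p) Rh).comp
    (algebraMap R (Localization.AtPrime p))).toAlgebra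
  have ht1 : IsScalarTower R (Localization.AtPrime p) Rh := IsScalarTower.of_algebraMap_eq fun _ => rfl
  let _ : Algebra R' T := ((algebraMap (Localization.AtPrime q) T).comp
    (algebraMap R' (Localization.AtPrime q))).toAlgebra
  have ht2 : IsScalarTower R' (Localization.AtPrime q) T := IsScalarTower.of_algebraMap_eq fun _ => rfl
  let _ : Algebra R T := ((algebraMap R' T).comp (algebraMap R R')).toAlgebra
  have ht3 : IsScalarTower R R' T := IsScalarTower.of_algebraMap_eq fun _ => rfl
  let _ : Algebra (Localization.AtPrime p) (Localization.AtPrime q) :=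
    (Localization.localRingHom p q (algebraMap R R') hqp).toAlgebra
  have hloc1 : IsLocalHom (algebraMap (Localization.AtPrime p) (Localization.AtPrime q)) :=
    Localization.isLocalHom_localRingHom p q (algebraMap R R') hqp
  obtain ⟨γ, hγ⟩ := Groth.Agent.Lib.ShBaseChange61.exists_lift' (Localization.AtPrime p) Rh
    (Localization.AtPrime q) T
  let _ : Algebra Rh T := γ.toAlgebra
  have hγ' : ∀ x : Localization.AtPrime p, γ (algebraMap _ Rh x) =
      algebraMap (Localization.AtPrime q) T (Localization.localRingHom p q (algebraMap R R') hqp x) :=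
    fun x => congrArg (fun k : Localization.AtPrime p →+* T => k x) hγ
  have ht4 : IsScalarTower R Rh T := IsScalarTower.of_algebraMap_eq fun r => by
    change algebraMap (Localization.AtPrime q) T (algebraMap R' _ (algebraMap R R' r)) =
      γ (algebraMap (Localization.AtPrime p) Rh (algebraMap R _ r))
    rw [hγ', Localization.localRingHom_to_map]
  have hlies : q.LiesOver p := ⟨hqp⟩
  -- `γ` is a local homomorphism
  have hγloc : ∀ x ∈ maximalIdeal Rh, γ x ∈ maximalIdeal T := by
    intro x hx
    rw [← Groth.Agent.Lib.StrictHenselizationMax.map_maximalIdeal_eq (Localization.AtPrime p) Rh]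
      at hx
    have hle : (maximalIdeal (Localization.AtPrime p)).map (algebraMap _ Rh) ≤
        (maximalIdeal T).comap γ := by
      rw [Ideal.map_le_iff_le_comap]
      intro y hy
      rw [Ideal.mem_comap, Ideal.mem_comap, hγ']
      have h1 : Localization.localRingHom p q (algebraMap R R') hqp y ∈
          maximalIdeal (Localization.AtPrime q) := by
        rw [mem_maximalIdeal] at hy ⊢
        exact fun hu => hy (isUnit_of_map_unit
          (algebraMap (Localization.AtPrime p) (Localization.AtPrime q)) y hu)
      rw [mem_maximalIdeal] at h1 ⊢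
      exact fun hu => h1 (isUnit_of_map_unit (algebraMap (Localization.AtPrime q) T) _ hu)
    exact hle hx
  -- the strict henselization `E` of the localization of the tensor product
  have hQprime : (Ideal.comap (Algebra.TensorProduct.lift (IsScalarTower.toAlgHom R Rh T)
      (IsScalarTower.toAlgHom R R' T) (fun _ _ => Commute.all _ _)) (maximalIdeal T)).IsPrime :=
    Ideal.comap_isPrime _ _
  obtain ⟨E, _, _, _, _, hE⟩ :=
    Groth.Agent.Lib.StrictHenselization.exists_isStrictHenselization
      (Localization.AtPrime (Ideal.comap (Algebra.TensorProduct.lift (IsScalarTower.toAlgHom R Rh T)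
        (IsScalarTower.toAlgHom R R' T) (fun _ _ => Commute.all _ _)) (maximalIdeal T)))
  obtain ⟨e, he⟩ := Groth.Agent.S9460.result R R' p q Rh T E
  have hNoeth : IsNoetherianRing Rh :=
    (Groth.Agent.S0540.result (Localization.AtPrime p) Rh).mp inferInstance
  have hhens : HenselianLocalRing Rh :=
    Hensel.IsStrictHenselization.henselian (R := Localization.AtPrime p)
  have hsc : IsSepClosed (ResidueField Rh) :=
    (Hensel.IsStrictHenselization.isSepClosure (R := Localization.AtPrime p) (S := Rh)).sep_closed
  have hQ : (maximalIdeal Rh).map (algebraMap Rh (Rh ⊗[R] R')) ≤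
      Ideal.comap (Algebra.TensorProduct.lift (IsScalarTower.toAlgHom R Rh T)
        (IsScalarTower.toAlgHom R R' T) (fun _ _ => Commute.all _ _)) (maximalIdeal T) := by
    rw [Ideal.map_le_iff_le_comap]
    intro x hx
    rw [Ideal.mem_comap, Ideal.mem_comap, Algebra.TensorProduct.algebraMap_apply,
      Algebra.algebraMap_self, RingHom.id_apply, Algebra.TensorProduct.lift_tmul, map_one, mul_one]
    exact hγloc x hx
  have hprime := Groth.Agent.S17730.result Rh (Rh ⊗[R] R') E
    (Ideal.comap (Algebra.TensorProduct.lift (IsScalarTower.toAlgHom R Rh T)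
      (IsScalarTower.toAlgHom R R' T) (fun _ _ => Commute.all _ _)) (maximalIdeal T)) hQ
    (algebraMap (Localization.AtPrime p) Rh (algebraMap R (Localization.AtPrime p) Δ)) hΔ
  rw [← MulEquiv.prime_iff e, he, Algebra.TensorProduct.algebraMap_apply,
    Algebra.algebraMap_self, RingHom.id_apply, Algebra.TensorProduct.lift_tmul, map_one, mul_one]
    at hprime
  have hfin : (IsScalarTower.toAlgHom R Rh T)
      (algebraMap (Localization.AtPrime p) Rh (algebraMap R (Localization.AtPrime p) Δ)) =
      algebraMap (Localization.AtPrime q) T
        (algebraMap R' (Localization.AtPrime q) (algebraMap R R' Δ)) := by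
    change γ (algebraMap (Localization.AtPrime p) Rh (algebraMap R _ Δ)) = _
    rw [hγ', Localization.localRingHom_to_map]
  rw [hfin] at hprime
  exact hprime

end Groth.Agent.Lib.EtaleUnivPrime61
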