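import Groth.Prelude.Def_W4c5stcicurvesp3Euclid
import Mathlib.Algebra.BigOperators.Intervals
import Mathlib.Data.Nat.GCD.Basic
import Mathlib.Tactic.Linarith
import Mathlib.Tactic.Ring

/-!
# Iterated Euclidean remainders/quotients `irem`, `idiv` (helper45)

Shift lemmas: when `a % b ≠ 0`, the sequence for `(a, b)` from index `1` on is the sequence for
`(b, a % b)`.
-/

set_option autoImplicit false

namespace Groth.Agent.Lib.Euclid

open W4c5stcicurvesp3

theorem irem_zero (a b : ℕ) : irem a b 0 = b := rfl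
theorem irem_one (a b : ℕ) : irem a b 1 = a % b := rfl
theorem irem_add_two (a b n : ℕ) :
    irem a b (n + 2) = if irem a b (n + 1) = 0 then 0 else irem a b n % irem a b (n + 1) := rfl
theorem idiv_zero (a b : ℕ) : idiv a b 0 = 0 := rfl
theorem idiv_one (a b : ℕ) : idiv a b 1 = a / b := rfl
theorem idiv_add_two (a b n : ℕ) :
    idiv a b (n + 2) = if irem a b (n + 1) = 0 then 0 else irem a b n / irem a b (n + 1) := rfl

theorem irem_shift (a b : ℕ) (h : a % b ≠ 0) : ∀ n, irem a b (n + 1) = irem b (a % b) n := by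
  have key : ∀ n, irem a b (n + 1) = irem b (a % b) n ∧ irem a b (n + 2) = irem b (a % b) (n + 1) := by
    intro n
    induction n with
    | zero =>
      refine ⟨rfl, ?_⟩
      rw [irem_add_two, irem_one, irem_zero, irem_one, if_neg h]
    | succ n ih =>
      refine ⟨ih.2, ?_⟩
      rw [irem_add_two a b (n + 1), irem_add_two b (a % b) n, ih.1, ih.2]
  exact fun n => (key n).1

theorem idiv_shift (a b : ℕ) (h : a % b ≠ 0) (n : ℕ) : idiv a b (n + 2) = idiv b (a % b) (n + 1) := by
  cases n with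
  | zero =>
    rw [idiv_add_two, irem_one, irem_zero, idiv_one, if_neg h]
  | succ n =>
    rw [idiv_add_two a b (n + 1), idiv_add_two b (a % b) n, irem_shift a b h (n + 1),
      irem_shift a b h n]

theorem sum_Icc_one (f : ℕ → ℕ) (t : ℕ) :
    ∑ i ∈ Finset.Icc 1 t, f i = ∑ j ∈ Finset.range t, f (j + 1) := by
  induction t with
  | zero => simp
  | succ t ih =>
    rw [Finset.sum_Icc_succ_top (by omega), ih, Finset.sum_range_succ]

/-- `⌊N/k⌋ · gcd(k, N) + k ≤ N` when `k < N`, `k ∤ N`. -/
theorem div_mul_gcd_add_le (k N : ℕ) (hk : 0 < k) (hkN : k < N) (hndvd : ¬ k ∣ N) :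
    N / k * Nat.gcd k N + k ≤ N := by
  set g := Nat.gcd k N with hg
  have hgk : g ∣ k := Nat.gcd_dvd_left k N
  have hgN : g ∣ N := Nat.gcd_dvd_right k N
  have hgr : g ∣ N % k := (Nat.dvd_mod_iff hgk).mpr hgN
  have hr0 : 0 < N % k := by
    rcases Nat.eq_zero_or_pos (N % k) with h | h
    · exact absurd (Nat.dvd_of_mod_eq_zero h) hndvd
    · exact h
  have hrk : N % k < k := Nat.mod_lt N hk
  obtain ⟨a, ha⟩ := hgk
  obtain ⟨b, hb⟩ := hgr
  have hdm : k * (N / k) + N % k = N := Nat.div_add_mod N k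
  have hq : 1 ≤ N / k := Nat.div_pos hkN.le hk
  have hb1 : 1 ≤ b := by
    rcases Nat.eq_zero_or_pos b with h | h
    · rw [h, mul_zero] at hb; omega
    · exact h
  have hab : b + 1 ≤ a := by
    have : g * b < g * a := by rw [← ha, ← hb]; exact hrk
    have := Nat.lt_of_mul_lt_mul_left this
    omega
  set q := N / k with hq'
  rw [← hdm, hb, ha]
  obtain ⟨a', ha'⟩ : ∃ a', a = b + 1 + a' := ⟨a - (b + 1), by omega⟩
  obtain ⟨q', hq''⟩ : ∃ q', q = 1 + q' := ⟨q - 1, by omega⟩
  obtain ⟨b', hb'⟩ : ∃ b', b = 1 + b' := ⟨b - 1, by omega⟩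
  rw [ha', hq'', hb']
  nlinarith [Nat.zero_le (g * a' * q'), Nat.zero_le (g * b' * q'), Nat.zero_le (g * q'),
    Nat.zero_le (g * b')]

/-- Sum of the Euclidean quotients times the gcd is at most the larger number. -/
theorem sum_idiv_mul_gcd_le : ∀ (b a t : ℕ), 0 < b → b ≤ a → 0 < t → irem a b t = 0 →
    (∀ i, 0 < i → i < t → irem a b i ≠ 0) →
    (∑ i ∈ Finset.Icc 1 t, idiv a b i) * Nat.gcd b a ≤ a := by
  intro b
  induction b using Nat.strong_induction_on with
  | _ b ih =>
    intro a t hb hba ht hzero hmin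
    obtain ⟨t', rfl⟩ : ∃ t', t = t' + 1 := ⟨t - 1, by omega⟩
    rcases Nat.eq_zero_or_pos t' with ht' | ht'
    · subst ht'
      have hdvd : b ∣ a := Nat.dvd_of_mod_eq_zero hzero
      simp only [zero_add, Finset.Icc_self, Finset.sum_singleton, idiv_one]
      rw [Nat.gcd_eq_left hdvd, Nat.div_mul_cancel hdvd]
    · have hr : a % b ≠ 0 := hmin 1 Nat.one_pos (by omega)
      have hrpos : 0 < a % b := Nat.pos_of_ne_zero hr
      have hrb : a % b < b := Nat.mod_lt a hb
      have hndvd : ¬ b ∣ a := fun h => hr (Nat.mod_eq_zero_of_dvd h)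
      have hba' : b < a := lt_of_le_of_ne hba (fun h => hndvd (h ▸ dvd_refl b))
      have IH := ih (a % b) hrb b t' hrpos hrb.le ht'
        (by rw [← irem_shift a b hr t']; exact hzero)
        (fun i hi hit => by
          rw [← irem_shift a b hr i]
          exact hmin (i + 1) (by omega) (by omega))
      have hgcd : Nat.gcd (a % b) b = Nat.gcd b a := (Nat.gcd_rec b a).symm
      rw [hgcd] at IH
      have hsum : ∑ i ∈ Finset.Icc 1 (t' + 1), idiv a b i
          = a / b + ∑ i ∈ Finset.Icc 1 t', idiv b (a % b) i := by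
        rw [sum_Icc_one, Finset.sum_range_succ', sum_Icc_one, zero_add, idiv_one, add_comm]
        congr 1
        apply Finset.sum_congr rfl
        intro j _
        exact idiv_shift a b hr j
      rw [hsum, add_mul]
      have h1 := div_mul_gcd_add_le b a hb hba' hndvd
      linarith

end Groth.Agent.Lib.Euclid
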