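import Groth.Agent.Lib.TFunRank
import Mathlib.Topology.Constructible
import Mathlib.RingTheory.Spectrum.Prime.Noetherian

set_option autoImplicit false
universe u

namespace Groth.Agent.Lib.TFunRank

open CategoryTheory CategoryTheory.Limits CohIII TensorProduct

section top

variable {X : Type*} [TopologicalSpace X]

/-- If `a`, `b` are upper semicontinuous and `a + b` is constant near `z`, so are `a` and `b`. -/
theorem eventually_const_of_add (a b : X → ℕ) (ha : UpperSemicontinuous a)
    (hb : UpperSemicontinuous b) (z : X)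
    (h : ∀ᶠ x in nhds z, a x + b x = a z + b z) :
    (∀ᶠ x in nhds z, a x = a z) ∧ (∀ᶠ x in nhds z, b x = b z) := by
  have h1 : ∀ᶠ x in nhds z, a x < a z + 1 := ha z (a z + 1) (Nat.lt_succ_self _)
  have h2 : ∀ᶠ x in nhds z, b x < b z + 1 := hb z _ (Nat.lt_succ_self _)
  constructor
  · filter_upwards [h, h1, h2] with x hx hx1 hx2
    omega
  · filter_upwards [h, h1, h2] with x hx hx1 hx2
    omega

/-- An upper semicontinuous `ℕ`-valued function on a compact space has finite range. -/
theorem finite_range_of_usc [CompactSpace X] (f : X → ℕ) (hf : UpperSemicontinuous f) :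
    (Set.range f).Finite := by
  have hopen : ∀ n : ℕ, IsOpen (f ⁻¹' Set.Iio n) :=
    fun n => (upperSemicontinuous_iff_isOpen_preimage.mp hf) n
  have hcover : (Set.univ : Set X) ⊆ ⋃ n : ℕ, f ⁻¹' Set.Iio n := by
    intro x _
    exact Set.mem_iUnion.mpr ⟨f x + 1, Nat.lt_succ_self _⟩
  have hdir : Directed (· ⊆ ·) (fun n : ℕ => f ⁻¹' Set.Iio n) := by
    refine Monotone.directed_le ?_
    intro m n hmn x hx
    exact lt_of_lt_of_le hx hmn
  obtain ⟨N, hN⟩ := isCompact_univ.elim_directed_cover _ hopen hcover hdir
  refine (Set.finite_Iio N).subset ?_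
  rintro _ ⟨x, rfl⟩
  exact hN (Set.mem_univ x)

/-- Level sets of an upper semicontinuous function on a Noetherian quasi-separated space are
constructible. -/
theorem isConstructible_levelSet [TopologicalSpace.NoetherianSpace X] [QuasiSeparatedSpace X]
    (f : X → ℕ) (hf : UpperSemicontinuous f) (n : ℕ) :
    Topology.IsConstructible {x | f x = n} := by
  have hopen : ∀ n : ℕ, IsOpen (f ⁻¹' Set.Iio n) :=
    fun n => (upperSemicontinuous_iff_isOpen_preimage.mp hf) n
  have hc : ∀ n : ℕ, Topology.IsConstructible (f ⁻¹' Set.Iio n) := fun n =>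
    (TopologicalSpace.NoetherianSpace.isCompact _).isConstructible (hopen n)
  have : {x | f x = n} = f ⁻¹' Set.Iio (n + 1) \ f ⁻¹' Set.Iio n := by
    ext x
    simp only [Set.mem_ofPred_eq, Set.mem_sdiff, Set.mem_preimage, Set.mem_Iio]
    omega
  rw [this]
  exact (hc _).sdiff (hc _)

end top

section cRank

variable {A : Type u} [CommRing A] {ι : Type} {c : ComplexShape ι}
variable (P : HomologicalComplex (ModuleCat.{u} A) c)

/-- Fibre dimension of `coker (d : P_{prev i} → P_i)`. -/
noncomputable def cRank (i : ι) (x : PrimeSpectrum A) : ℕ :=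
  fibRank (P.X i ⧸ LinearMap.range (P.d (c.prev i) i).hom) x

theorem upperSemicontinuous_cRank (i : ι) [Module.Finite A (P.X i)] :
    UpperSemicontinuous (cRank P i) :=
  upperSemicontinuous_fibRank _

/-- `d_i(x) + rk P_j(x) = cRank_i(x) + cRank_j(x)` when `c.Rel i j`. -/
theorem dRank_add_cRank (i j : ι) (hij : c.Rel i j) [Module.Finite A (P.X i)]
    [Module.Finite A (P.X j)] (x : PrimeSpectrum A) :
    dRank P i x + fibRank (P.X j) x = cRank P i x + cRank P j x := by
  have hprev : c.prev j = i := c.prev_eq' hij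
  have h2 : cRank P j x = fibRank (P.X j ⧸ LinearMap.range (P.d i j).hom) x := by
    unfold cRank
    rw [hprev]
  rw [h2]
  obtain rfl := c.next_eq' hij
  exact dRank_add P i x

/-- If `T`'s neighbours have locally constant rank near `z`, so does `T`: abstract version. -/
theorem eventually_dRank_eq (i j : ι) (hij : c.Rel i j) [Module.Finite A (P.X i)]
    [Module.FinitePresentation A (P.X j)] [Module.Flat A (P.X j)] (z : PrimeSpectrum A)
    (hi : ∀ᶠ x in nhds z, cRank P i x = cRank P i z)
    (hj : ∀ᶠ x in nhds z, cRank P j x = cRank P j z) :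
    ∀ᶠ x in nhds z, dRank P i x = dRank P i z := by
  have hr : ∀ᶠ x in nhds z, fibRank (P.X j) x = fibRank (P.X j) z :=
    (isLocallyConstant_fibRank (P.X j)).eventually_eq z
  filter_upwards [hi, hj, hr] with x h1 h2 h3
  have e1 := dRank_add_cRank P i j hij x
  have e2 := dRank_add_cRank P i j hij z
  omega

/-- If `d_i` is constant near `z`, so are `cRank_i` and `cRank_j` (`c.Rel i j`). -/
theorem eventually_cRank_eq (i j : ι) (hij : c.Rel i j) [Module.Finite A (P.X i)]
    [Module.FinitePresentation A (P.X j)] [Module.Flat A (P.X j)] (z : PrimeSpectrum A)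
    (h : ∀ᶠ x in nhds z, dRank P i x = dRank P i z) :
    (∀ᶠ x in nhds z, cRank P i x = cRank P i z) ∧ (∀ᶠ x in nhds z, cRank P j x = cRank P j z) := by
  have hr : ∀ᶠ x in nhds z, fibRank (P.X j) x = fibRank (P.X j) z :=
    (isLocallyConstant_fibRank (P.X j)).eventually_eq z
  apply eventually_const_of_add _ _ (upperSemicontinuous_cRank P i) (upperSemicontinuous_cRank P j)
  filter_upwards [h, hr] with x h1 h3
  have e1 := dRank_add_cRank P i j hij x
  have e2 := dRank_add_cRank P i j hij z
  omega

end cRank

end Groth.Agent.Lib.TFunRank
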