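import Mathlib.Algebra.MonoidAlgebra.Module
import Mathlib.RingTheory.Derivation.Basic
import Mathlib.Algebra.MvPolynomial.Basic

/-!
# Euler (weight) derivations of additive monoid algebras

For an additive map `w : G →+ k` the `k`-linear map `single g a ↦ single g (w g * a)` of
`AddMonoidAlgebra k G` is a derivation (`euler k w`).  Specialised to `MvPolynomial σ k` with
`w m = m i` this is `X_i ∂/∂X_i` (`mvEuler k i`).
-/

set_option autoImplicit false
universe u v

namespace Groth.Agent.Lib.EulerDerivation

variable (k : Type u) [CommRing k] {G : Type v} [AddCommMonoid G] (w : G →+ k)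

/-- the `k`-linear map `single g a ↦ single g (w g * a)` -/
noncomputable def eulerLin : AddMonoidAlgebra k G →ₗ[k] AddMonoidAlgebra k G :=
  (AddMonoidAlgebra.coeffLinearEquiv k).symm.toLinearMap ∘ₗ
    (Finsupp.lsum k (fun g : G => (w g) • (Finsupp.lsingle g : k →ₗ[k] (G →₀ k)))) ∘ₗ
    (AddMonoidAlgebra.coeffLinearEquiv k).toLinearMap

theorem eulerLin_single (g : G) (a : k) :
    eulerLin k w (AddMonoidAlgebra.single g a) = AddMonoidAlgebra.single g (w g * a) := by
  apply AddMonoidAlgebra.coeff_injective
  change Finsupp.lsum k (fun g : G => (w g) • (Finsupp.lsingle g : k →ₗ[k] (G →₀ k)))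
    (Finsupp.single g a) = Finsupp.single g (w g * a)
  rw [Finsupp.lsum_single]
  change (w g) • Finsupp.single g a = _
  rw [Finsupp.smul_single, smul_eq_mul]

theorem eulerLin_coeff (f : AddMonoidAlgebra k G) (g : G) :
    (eulerLin k w f).coeff g = w g * f.coeff g := by
  classical
  induction f using AddMonoidAlgebra.induction_linear with
  | zero => simp
  | add f₁ f₂ h₁ h₂ =>
    rw [map_add, AddMonoidAlgebra.coeff_add, AddMonoidAlgebra.coeff_add, Finsupp.add_apply,
      Finsupp.add_apply, h₁, h₂, mul_add]
  | single m a =>
    rw [eulerLin_single, AddMonoidAlgebra.coeff_single, AddMonoidAlgebra.coeff_single]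
    by_cases h : m = g
    · subst h; simp
    · simp [h]

theorem eulerLin_mul (f g : AddMonoidAlgebra k G) :
    eulerLin k w (f * g) = f * eulerLin k w g + g * eulerLin k w f := by
  induction f using AddMonoidAlgebra.induction_linear with
  | zero => simp
  | add f₁ f₂ h₁ h₂ =>
    rw [add_mul, map_add, h₁, h₂, map_add, add_mul, mul_add]
    abel
  | single m a =>
    induction g using AddMonoidAlgebra.induction_linear with
    | zero => simp
    | add g₁ g₂ h₁ h₂ =>
      rw [mul_add, map_add, h₁, h₂, map_add, mul_add, add_mul]
      abel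
    | single n b =>
      rw [AddMonoidAlgebra.single_mul_single, eulerLin_single, eulerLin_single, eulerLin_single,
        AddMonoidAlgebra.single_mul_single, AddMonoidAlgebra.single_mul_single, add_comm n m,
        ← AddMonoidAlgebra.single_add, map_add]
      congr 1
      ring

/-- the weight derivation of `AddMonoidAlgebra k G` attached to `w : G →+ k` -/
noncomputable def euler : Derivation k (AddMonoidAlgebra k G) (AddMonoidAlgebra k G) where
  toLinearMap := eulerLin k w
  map_one_eq_zero' := by
    change eulerLin k w (AddMonoidAlgebra.single 0 1) = 0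
    rw [eulerLin_single, map_zero, zero_mul, AddMonoidAlgebra.single_zero]
  leibniz' := fun f g => by
    change eulerLin k w (f * g) = f • eulerLin k w g + g • eulerLin k w f
    rw [eulerLin_mul, smul_eq_mul, smul_eq_mul]

theorem euler_single (g : G) (a : k) :
    euler k w (AddMonoidAlgebra.single g a) = AddMonoidAlgebra.single g (w g * a) :=
  eulerLin_single k w g a

theorem euler_coeff (f : AddMonoidAlgebra k G) (g : G) :
    (euler k w f).coeff g = w g * f.coeff g :=
  eulerLin_coeff k w f g

section Mv

variable {σ : Type v}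

/-- the weight `m ↦ m i` -/
noncomputable def mvWeight (i : σ) : (σ →₀ ℕ) →+ k :=
  (Nat.castAddMonoidHom k).comp (Finsupp.applyAddHom i)

@[simp] theorem mvWeight_apply (i : σ) (m : σ →₀ ℕ) : mvWeight k i m = (m i : k) := rfl

/-- the Euler derivation `X_i ∂/∂X_i` of a polynomial ring -/
noncomputable def mvEuler (i : σ) : Derivation k (MvPolynomial σ k) (MvPolynomial σ k) :=
  euler k (mvWeight k i)

theorem mvEuler_monomial (i : σ) (m : σ →₀ ℕ) (a : k) :
    mvEuler k i (MvPolynomial.monomial m a) = MvPolynomial.monomial m ((m i : k) * a) :=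
  euler_single k (mvWeight k i) m a

theorem coeff_mvEuler (i : σ) (f : MvPolynomial σ k) (m : σ →₀ ℕ) :
    MvPolynomial.coeff m (mvEuler k i f) = (m i : k) * MvPolynomial.coeff m f :=
  euler_coeff k (mvWeight k i) f m

end Mv

end Groth.Agent.Lib.EulerDerivation
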