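import Mathlib.RingTheory.Length
import Mathlib.Algebra.BigOperators.Finprod
import Mathlib.Algebra.Ring.NegOnePow
import Mathlib.Algebra.Exact.Basic
import Mathlib.Tactic

/-!
# Additivity of the Euler characteristic along a long exact sequence of finite length modules

`eul X = ∑ᶠ i : ℤ, (-1)^i * length (X i)` for a `ℤ`-indexed family of modules.
`euler_of_LES`: for a long exact sequence `⋯ → X1 i → X2 i → X3 i → X1 (i+1) → ⋯` of finite
length modules vanishing outside a finite interval, `eul X2 = eul X1 + eul X3`.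
-/

set_option autoImplicit false
universe u v

namespace Groth.Agent.Lib.EulerLES

variable {A : Type u} [Ring A]

/-- The length as a natural number (0 if infinite). -/
noncomputable def len (A : Type u) [Ring A] (M : Type v) [AddCommGroup M] [Module A M] : ℕ :=
  (Module.length A M).toNat

/-- The Euler characteristic of a `ℤ`-graded family of modules. -/
noncomputable def eul (A : Type u) [Ring A] (X : ℤ → Type v) [∀ i, AddCommGroup (X i)]
    [∀ i, Module A (X i)] : ℤ :=
  ∑ᶠ i : ℤ, ((i.negOnePow : ℤˣ) : ℤ) * ((Module.length A (X i)).toNat : ℤ)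

lemma len_eq_zero_of_subsingleton (M : Type v) [AddCommGroup M] [Module A M] [Subsingleton M] :
    len A M = 0 := by
  unfold len
  rw [Module.length_eq_zero, ENat.toNat_zero]

/-- rank–nullity for lengths, in `ℕ`. -/
lemma len_eq_ker_add_range {M P : Type v} [AddCommGroup M] [Module A M] [AddCommGroup P]
    [Module A P] (g : M →ₗ[A] P) (hM : IsFiniteLength A M) :
    len A M = len A (LinearMap.ker g) + len A (LinearMap.range g) := by
  unfold len
  have h := Module.length_eq_add_of_exact (LinearMap.ker g).subtype g.rangeRestrict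
    (Submodule.subtype_injective _) g.surjective_rangeRestrict (by
      intro x
      constructor
      · intro hx
        refine ⟨⟨x, ?_⟩, rfl⟩
        rw [LinearMap.mem_ker]
        exact congrArg Subtype.val hx
      · rintro ⟨y, rfl⟩
        apply Subtype.ext
        exact y.2)
  have h1 : Module.length A (LinearMap.ker g) ≠ ⊤ :=
    Module.length_ne_top_iff.mpr (hM.of_injective (Submodule.subtype_injective _))
  have h2 : Module.length A (LinearMap.range g) ≠ ⊤ :=
    Module.length_ne_top_iff.mpr (hM.of_surjective g.surjective_rangeRestrict)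
  rw [h, ENat.toNat_add h1 h2]

lemma len_eq_range_add_range {N M P : Type v} [AddCommGroup N] [Module A N] [AddCommGroup M]
    [Module A M] [AddCommGroup P] [Module A P] (f : N →ₗ[A] M) (g : M →ₗ[A] P)
    (h : Function.Exact f g) (hM : IsFiniteLength A M) :
    len A M = len A (LinearMap.range f) + len A (LinearMap.range g) := by
  rw [len_eq_ker_add_range g hM, LinearMap.exact_iff.mp h]

section LES

variable (X1 X2 X3 : ℤ → Type v)
  [∀ i, AddCommGroup (X1 i)] [∀ i, Module A (X1 i)]
  [∀ i, AddCommGroup (X2 i)] [∀ i, Module A (X2 i)]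
  [∀ i, AddCommGroup (X3 i)] [∀ i, Module A (X3 i)]
  (f : ∀ i, X1 i →ₗ[A] X2 i) (g : ∀ i, X2 i →ₗ[A] X3 i) (δ : ∀ i, X3 i →ₗ[A] X1 (i + 1))
  (h2 : ∀ i, Function.Exact (f i) (g i)) (h3 : ∀ i, Function.Exact (g i) (δ i))
  (h1 : ∀ i, Function.Exact (δ i) (f (i + 1)))
  (fin1 : ∀ i, IsFiniteLength A (X1 i)) (fin2 : ∀ i, IsFiniteLength A (X2 i))
  (fin3 : ∀ i, IsFiniteLength A (X3 i))
  (a b : ℤ)
  (b2 : ∀ i, i ∉ Finset.Icc a b → Subsingleton (X2 i))
  (b3 : ∀ i, i ∉ Finset.Icc a b → Subsingleton (X3 i))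

include h1 h2 h3 fin1 fin2 fin3 b2 b3 in
theorem euler_of_LES : eul A X2 = eul A X1 + eul A X3 := by
  classical
  let ε : ℤ → ℤ := fun i => ((i.negOnePow : ℤˣ) : ℤ)
  let r : ℤ → ℕ := fun i => len A (LinearMap.range (f i))
  let s : ℤ → ℕ := fun i => len A (LinearMap.range (g i))
  let t : ℤ → ℕ := fun i => len A (LinearMap.range (δ i))
  have E2 : ∀ i, len A (X2 i) = r i + s i := fun i =>
    len_eq_range_add_range (f i) (g i) (h2 i) (fin2 i)
  have E3 : ∀ i, len A (X3 i) = s i + t i := fun i =>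
    len_eq_range_add_range (g i) (δ i) (h3 i) (fin3 i)
  have E1 : ∀ i, len A (X1 (i + 1)) = t i + r (i + 1) := fun i =>
    len_eq_range_add_range (δ i) (f (i + 1)) (h1 i) (fin1 (i + 1))
  -- vanishing
  have hr : ∀ i, i ∉ Finset.Icc a b → r i = 0 := by
    intro i hi
    have := b2 i hi
    exact len_eq_zero_of_subsingleton _
  have hs : ∀ i, i ∉ Finset.Icc a b → s i = 0 := by
    intro i hi
    have := b3 i hi
    exact len_eq_zero_of_subsingleton _
  have ht : ∀ i, i ∉ Finset.Icc a b → t i = 0 := by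
    intro i hi
    have := b3 i hi
    have : Subsingleton (LinearMap.range (δ i)) := by
      refine ⟨fun x y => ?_⟩
      obtain ⟨x, u, rfl⟩ := x
      obtain ⟨y, v, rfl⟩ := y
      rw [Subsingleton.elim u v]
    exact len_eq_zero_of_subsingleton _
  have fs : ∀ (w : ℤ → ℕ), (∀ i, i ∉ Finset.Icc a b → w i = 0) →
      (Function.support fun i => ε i * (w i : ℤ)).Finite := by
    intro w hw
    refine (Finset.Icc a b).finite_toSet.subset ?_
    intro i hi
    by_contra hi'
    rw [Function.mem_support] at hi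
    apply hi
    rw [hw i (by simpa using hi'), Nat.cast_zero, mul_zero]
  have hX2 : eul A X2 = (∑ᶠ i, ε i * (r i : ℤ)) + ∑ᶠ i, ε i * (s i : ℤ) := by
    rw [← finsum_add_distrib (fs r hr) (fs s hs)]
    apply finsum_congr
    intro i
    change ε i * ((len A (X2 i) : ℕ) : ℤ) = _
    rw [E2, Nat.cast_add, mul_add]
  have hX3 : eul A X3 = (∑ᶠ i, ε i * (s i : ℤ)) + ∑ᶠ i, ε i * (t i : ℤ) := by
    rw [← finsum_add_distrib (fs s hs) (fs t ht)]
    apply finsum_congr
    intro i
    change ε i * ((len A (X3 i) : ℕ) : ℤ) = _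
    rw [E3, Nat.cast_add, mul_add]
  have hε : ∀ i, ε (i + 1) = - ε i := by
    intro i
    change (((i + 1).negOnePow : ℤˣ) : ℤ) = - ((i.negOnePow : ℤˣ) : ℤ)
    rw [Int.negOnePow_succ]
    simp
  have hshift : ∀ (w : ℤ → ℕ), (∑ᶠ i, ε i * (w (i + 1) : ℤ)) = - ∑ᶠ i, ε i * (w i : ℤ) := by
    intro w
    have e := finsum_comp_equiv (Equiv.addRight (1 : ℤ)) (f := fun i => ε i * (w i : ℤ))
    rw [← e, ← finsum_neg_distrib]
    apply finsum_congr
    intro i
    change ε i * (w (i + 1) : ℤ) = - (ε (i + 1) * (w (i + 1) : ℤ))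
    rw [hε]
    ring
  have hX1 : eul A X1 = - (∑ᶠ i, ε i * (t i : ℤ)) + ∑ᶠ i, ε i * (r i : ℤ) := by
    have e := finsum_comp_equiv (Equiv.addRight (1 : ℤ))
      (f := fun i => ε i * ((len A (X1 i) : ℕ) : ℤ))
    change (∑ᶠ i, ε i * ((len A (X1 i) : ℕ) : ℤ)) = _
    rw [← e]
    have hr' : ∀ i, i ∉ Finset.Icc (a - 1) b → r (i + 1) = 0 := by
      intro i hi
      apply hr
      simp only [Finset.mem_Icc, not_and_or, not_le] at hi ⊢
      omega
    have ht' : ∀ i, i ∉ Finset.Icc (a - 1) b → t i = 0 := by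
      intro i hi
      apply ht
      simp only [Finset.mem_Icc, not_and_or, not_le] at hi ⊢
      omega
    have fs' : ∀ (w : ℤ → ℕ), (∀ i, i ∉ Finset.Icc (a - 1) b → w i = 0) →
        (Function.support fun i => - (ε i * (w i : ℤ))).Finite := by
      intro w hw
      refine (Finset.Icc (a - 1) b).finite_toSet.subset ?_
      intro i hi
      by_contra hi'
      rw [Function.mem_support] at hi
      apply hi
      rw [hw i (by simpa using hi'), Nat.cast_zero, mul_zero, neg_zero]
    have : ∀ i, ε (i + 1) * ((len A (X1 (i + 1)) : ℕ) : ℤ) =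
        - (ε i * (t i : ℤ)) + - (ε i * ((fun j => r (j + 1)) i : ℤ)) := by
      intro i
      rw [E1, hε, Nat.cast_add]
      ring
    rw [show (fun i => ε ((Equiv.addRight (1 : ℤ)) i) *
        ((len A (X1 ((Equiv.addRight (1 : ℤ)) i)) : ℕ) : ℤ)) =
        fun i => - (ε i * (t i : ℤ)) + - (ε i * ((fun j => r (j + 1)) i : ℤ)) from
      funext this]
    rw [finsum_add_distrib (fs' t ht') (fs' (fun j => r (j + 1)) hr'), finsum_neg_distrib,
      finsum_neg_distrib, hshift r, neg_neg]
  rw [hX1, hX2, hX3]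
  ring

end LES

end Groth.Agent.Lib.EulerLES
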