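import Groth.Agent.Lib.TFunRank2

/-!
# Local constancy of the truncated Euler characteristic of a complex of finite free modules (helper21)

`L` a cochain complex (indexed by `ℤ`) of finite free `A`-modules with `L^i = 0` for `i > b`, possibly unbounded below, such
that `d_{-1}(x) = dim H^{-1}(L ⊗ κ(x)) = 0` for all `x`.  Then `x ↦ Σ_{0 ≤ i < n} (-1)^i d_i(x)` is locally constant on
`Spec A` for every `n > b` (`isLocallyConstant_sum_dRank`).  No hypothesis on the ring.
-/

set_option autoImplicit false
set_option linter.style.haveILetI false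
universe u

namespace Groth.Agent.Lib.EulerLocConst21

open CategoryTheory CategoryTheory.Limits CohIII TensorProduct Groth.Agent.Lib.TFunRank

variable {A : Type u} [CommRing A] (L : CochainComplex (ModuleCat.{u} A) ℤ)

theorem cRank_eq_zero_of_isZero (i : ℤ) (h : IsZero (L.X i)) (x : PrimeSpectrum A) :
    cRank L i x = 0 := by
  have : Subsingleton (L.X i) := ModuleCat.subsingleton_of_isZero h
  unfold cRank fibRank
  exact Module.finrank_zero_of_subsingleton

/-- the telescoping identity -/
theorem sum_dRank_eq (hfin : ∀ i, Module.Finite A (L.X i)) (x : PrimeSpectrum A) (n : ℕ) :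
    (Finset.range n).sum (fun i : ℕ => (-1 : ℤ) ^ i * (dRank L (i : ℤ) x : ℤ)) =
      (cRank L 0 x : ℤ) - (-1 : ℤ) ^ n * (cRank L (n : ℤ) x : ℤ) -
        (Finset.range n).sum (fun i : ℕ => (-1 : ℤ) ^ i * (fibRank (L.X ((i : ℤ) + 1)) x : ℤ)) := by
  induction n with
  | zero => simp
  | succ n ih =>
    rw [Finset.sum_range_succ, Finset.sum_range_succ, ih]
    haveI := hfin (n : ℤ)
    haveI := hfin ((n : ℤ) + 1)
    have h := dRank_add_cRank L (n : ℤ) ((n : ℤ) + 1) rfl x
    have h' : (dRank L (n : ℤ) x : ℤ) =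
        (cRank L (n : ℤ) x : ℤ) + (cRank L ((n : ℤ) + 1) x : ℤ) -
          (fibRank (L.X ((n : ℤ) + 1)) x : ℤ) := by
      have : (dRank L (n : ℤ) x : ℤ) + (fibRank (L.X ((n : ℤ) + 1)) x : ℤ) =
          (cRank L (n : ℤ) x : ℤ) + (cRank L ((n : ℤ) + 1) x : ℤ) := by exact_mod_cast h
      linarith
    rw [h']
    push_cast
    ring

/-- **Local constancy of the Euler characteristic.** -/
theorem isLocallyConstant_sum_dRank (hfin : ∀ i, Module.Finite A (L.X i) ∧ Module.Free A (L.X i))
    (b : ℤ) (hb : ∀ i, b < i → IsZero (L.X i)) (hneg : ∀ x, dRank L (-1) x = 0) (n : ℕ)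
    (hn : b < (n : ℤ)) :
    IsLocallyConstant (fun x : PrimeSpectrum A =>
      (Finset.range n).sum (fun i : ℕ => (-1 : ℤ) ^ i * (dRank L (i : ℤ) x : ℤ))) := by
  have hfin' : ∀ i, Module.Finite A (L.X i) := fun i => (hfin i).1
  have hrk : ∀ i : ℤ, IsLocallyConstant (fibRank (A := A) (L.X i)) := by
    intro i
    haveI := (hfin i).1
    haveI := (hfin i).2
    haveI : Module.FinitePresentation A (L.X i) := Module.finitePresentation_of_projective A _
    exact isLocallyConstant_fibRank _
  -- `cRank L 0` is locally constant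
  have hc0 : IsLocallyConstant (cRank L 0) := by
    rw [IsLocallyConstant.iff_eventually_eq]
    intro z
    haveI := hfin' (-1)
    haveI := hfin' 0
    have hsum : ∀ x, cRank L (-1) x + cRank L 0 x = fibRank (L.X 0) x := by
      intro x
      have h := dRank_add_cRank L (-1) 0 (by simp) x
      rw [hneg x, zero_add] at h
      exact h.symm
    have hev : ∀ᶠ x in nhds z, cRank L (-1) x + cRank L 0 x = cRank L (-1) z + cRank L 0 z := by
      filter_upwards [(hrk 0).eventually_eq z] with x hx
      rw [hsum, hsum, hx]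
    exact (eventually_const_of_add (cRank L (-1)) (cRank L 0) (upperSemicontinuous_cRank L (-1))
      (upperSemicontinuous_cRank L 0) z hev).2
  have hfun : (fun x : PrimeSpectrum A =>
      (Finset.range n).sum (fun i : ℕ => (-1 : ℤ) ^ i * (dRank L (i : ℤ) x : ℤ))) =
      fun x => (cRank L 0 x : ℤ) -
        (Finset.range n).sum (fun i : ℕ => (-1 : ℤ) ^ i * (fibRank (L.X ((i : ℤ) + 1)) x : ℤ)) := by
    funext x
    rw [sum_dRank_eq L hfin' x n, cRank_eq_zero_of_isZero L (n : ℤ) (hb _ hn) x]
    simp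
  rw [hfun]
  rw [IsLocallyConstant.iff_eventually_eq]
  intro z
  have h1 : ∀ᶠ x in nhds z, cRank L 0 x = cRank L 0 z := hc0.eventually_eq z
  have h2 : ∀ᶠ x in nhds z, ∀ i ∈ Finset.range n,
      fibRank (L.X ((i : ℤ) + 1)) x = fibRank (L.X ((i : ℤ) + 1)) z := by
    rw [Filter.eventually_all_finset]
    intro i _
    exact (hrk _).eventually_eq z
  filter_upwards [h1, h2] with x hx1 hx2
  rw [hx1]
  congr 1
  exact Finset.sum_congr rfl (fun i hi => by rw [hx2 i hi])

end Groth.Agent.Lib.EulerLocConst21
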