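import Mathlib.RingTheory.Length
import Mathlib.Algebra.BigOperators.Finprod
import Mathlib.Algebra.Exact.Basic
import Mathlib.LinearAlgebra.Dimension.Finrank
import Mathlib.Tactic

/-!
# Additivity of alternating sums of lengths along an `ℕ`-indexed long exact sequence (helper54)

Namespace `Groth.Agent.Lib.EulerNat54` (Mathlib only).

`0 → X1 0 → X2 0 → X3 0 → X1 1 → X2 1 → ⋯` a long exact sequence of finite length modules.
* `sum_range_LES`: if `X1 (N+1)` is trivial then
  `Σ_{i ≤ N} (-1)^i len (X2 i) = Σ_{i ≤ N} (-1)^i len (X1 i) + Σ_{i ≤ N} (-1)^i len (X3 i)`.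
* `finsum_LES`: the same with `∑ᶠ i : ℕ` when all three families vanish beyond `N`.
* `toNat_length_eq_finrank`: over a field `(Module.length k M).toNat = Module.finrank k M` (always).
-/

set_option autoImplicit false
universe u v

namespace Groth.Agent.Lib.EulerNat54

variable {A : Type u} [Ring A]

/-- The length as a natural number (0 if infinite). -/
noncomputable def len (A : Type u) [Ring A] (M : Type v) [AddCommGroup M] [Module A M] : ℕ :=
  (Module.length A M).toNat

lemma len_eq_zero_of_subsingleton (M : Type v) [AddCommGroup M] [Module A M] [Subsingleton M] :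
    len A M = 0 := by
  unfold len
  rw [Module.length_eq_zero, ENat.toNat_zero]

/-- rank–nullity for lengths, in `ℕ`. -/
lemma len_eq_ker_add_range {M P : Type v} [AddCommGroup M] [Module A M] [AddCommGroup P]
    [Module A P] (g : M →ₗ[A] P) (hM : IsFiniteLength A M) :
    len A M = len A (LinearMap.ker g) + len A (LinearMap.range g) := by
  unfold len
  have h := Module.length_eq_add_of_exact (LinearMap.ker g).subtype g.rangeRestrict
    (Submodule.subtype_injective _) g.surjective_rangeRestrict (by
      intro x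
      constructor
      · intro hx
        refine ⟨⟨x, ?_⟩, rfl⟩
        rw [LinearMap.mem_ker]
        exact congrArg Subtype.val hx
      · rintro ⟨y, rfl⟩
        apply Subtype.ext
        exact y.2)
  have h1 : Module.length A (LinearMap.ker g) ≠ ⊤ :=
    Module.length_ne_top_iff.mpr (hM.of_injective (Submodule.subtype_injective _))
  have h2 : Module.length A (LinearMap.range g) ≠ ⊤ :=
    Module.length_ne_top_iff.mpr (hM.of_surjective g.surjective_rangeRestrict)
  rw [h, ENat.toNat_add h1 h2]

lemma len_eq_range_add_range {N M P : Type v} [AddCommGroup N] [Module A N] [AddCommGroup M]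
    [Module A M] [AddCommGroup P] [Module A P] (f : N →ₗ[A] M) (g : M →ₗ[A] P)
    (h : Function.Exact f g) (hM : IsFiniteLength A M) :
    len A M = len A (LinearMap.range f) + len A (LinearMap.range g) := by
  rw [len_eq_ker_add_range g hM, LinearMap.exact_iff.mp h]

lemma len_eq_range_of_injective {N M : Type v} [AddCommGroup N] [Module A N] [AddCommGroup M]
    [Module A M] (f : N →ₗ[A] M) (hf : Function.Injective f) :
    len A N = len A (LinearMap.range f) := by
  unfold len
  rw [(LinearEquiv.ofInjective f hf).length_eq]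

section LES

variable (X1 X2 X3 : ℕ → Type v)
  [∀ i, AddCommGroup (X1 i)] [∀ i, Module A (X1 i)]
  [∀ i, AddCommGroup (X2 i)] [∀ i, Module A (X2 i)]
  [∀ i, AddCommGroup (X3 i)] [∀ i, Module A (X3 i)]
  (f : ∀ i, X1 i →ₗ[A] X2 i) (g : ∀ i, X2 i →ₗ[A] X3 i) (δ : ∀ i, X3 i →ₗ[A] X1 (i + 1))
  (h0 : Function.Injective (f 0))
  (h2 : ∀ i, Function.Exact (f i) (g i)) (h3 : ∀ i, Function.Exact (g i) (δ i))
  (h1 : ∀ i, Function.Exact (δ i) (f (i + 1)))
  (fin1 : ∀ i, IsFiniteLength A (X1 i)) (fin2 : ∀ i, IsFiniteLength A (X2 i))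
  (fin3 : ∀ i, IsFiniteLength A (X3 i))

include h0 h1 h2 h3 fin1 fin2 fin3 in
/-- partial sums, with the correction term -/
theorem sum_range_LES_aux (n : ℕ) :
    (∑ i ∈ Finset.range (n + 1), (-1 : ℤ) ^ i * (len A (X2 i) : ℤ)) =
      (∑ i ∈ Finset.range (n + 1), (-1 : ℤ) ^ i * (len A (X1 i) : ℤ)) +
      (∑ i ∈ Finset.range (n + 1), (-1 : ℤ) ^ i * (len A (X3 i) : ℤ)) -
      (-1 : ℤ) ^ n * (len A (LinearMap.range (δ n)) : ℤ) := by
  have E2 : ∀ i, len A (X2 i) = len A (LinearMap.range (f i)) + len A (LinearMap.range (g i)) :=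
    fun i => len_eq_range_add_range (f i) (g i) (h2 i) (fin2 i)
  have E3 : ∀ i, len A (X3 i) = len A (LinearMap.range (g i)) + len A (LinearMap.range (δ i)) :=
    fun i => len_eq_range_add_range (g i) (δ i) (h3 i) (fin3 i)
  have E1 : ∀ i, len A (X1 (i + 1)) =
      len A (LinearMap.range (δ i)) + len A (LinearMap.range (f (i + 1))) :=
    fun i => len_eq_range_add_range (δ i) (f (i + 1)) (h1 i) (fin1 (i + 1))
  have E0 : len A (X1 0) = len A (LinearMap.range (f 0)) := len_eq_range_of_injective (f 0) h0
  induction n with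
  | zero =>
    simp only [zero_add, Finset.range_one, Finset.sum_singleton, pow_zero, one_mul]
    rw [E2 0, E3 0, E0]
    push_cast
    ring
  | succ n ih =>
    rw [Finset.sum_range_succ, Finset.sum_range_succ (fun i => (-1 : ℤ) ^ i * (len A (X1 i) : ℤ)),
      Finset.sum_range_succ (fun i => (-1 : ℤ) ^ i * (len A (X3 i) : ℤ)), ih, E2 (n + 1), E3 (n + 1),
      E1 n]
    push_cast
    ring

include h0 h1 h2 h3 fin1 fin2 fin3 in
/-- Additivity of the alternating sum of lengths up to degree `N`, when `X1 (N + 1) = 0`. -/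
theorem sum_range_LES (N : ℕ) (hN : Subsingleton (X1 (N + 1))) :
    (∑ i ∈ Finset.range (N + 1), (-1 : ℤ) ^ i * (len A (X2 i) : ℤ)) =
      (∑ i ∈ Finset.range (N + 1), (-1 : ℤ) ^ i * (len A (X1 i) : ℤ)) +
      (∑ i ∈ Finset.range (N + 1), (-1 : ℤ) ^ i * (len A (X3 i) : ℤ)) := by
  have h := sum_range_LES_aux X1 X2 X3 f g δ h0 h2 h3 h1 fin1 fin2 fin3 N
  have ht : len A (LinearMap.range (δ N)) = 0 := by
    have : Subsingleton (LinearMap.range (δ N)) :=
      ⟨fun x y => Subtype.ext (Subsingleton.elim _ _)⟩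
    exact len_eq_zero_of_subsingleton _
  rw [h, ht]
  simp

end LES

/-- a finitary alternating sum of lengths vanishing beyond `N` is the sum over `range (N+1)` -/
lemma finsum_eq_sum_range (X : ℕ → Type v) [∀ i, AddCommGroup (X i)] [∀ i, Module A (X i)] (N : ℕ)
    (hX : ∀ i, N < i → Subsingleton (X i)) :
    (∑ᶠ i : ℕ, (-1 : ℤ) ^ i * (len A (X i) : ℤ)) =
      ∑ i ∈ Finset.range (N + 1), (-1 : ℤ) ^ i * (len A (X i) : ℤ) := by
  apply finsum_eq_sum_of_support_subset
  intro i hi
  rw [Function.mem_support] at hi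
  rw [Finset.coe_range, Set.mem_Iio]
  by_contra hlt
  apply hi
  have := hX i (by lia)
  rw [len_eq_zero_of_subsingleton, Nat.cast_zero, mul_zero]

/-- over a field the natural-number length is the `finrank` (both are `0` in infinite dimension) -/
lemma len_eq_finrank (k : Type u) [Field k] (M : Type v) [AddCommGroup M] [Module k M] :
    len k M = Module.finrank k M := by
  unfold len
  rw [Module.length_eq_rank]
  simp [Module.finrank]

end Groth.Agent.Lib.EulerNat54
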