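import Groth.Agent.Lib.SubQuotCx

/-!
# Euler characteristic of a bounded complex of finite length modules (helper25)

`chi_eq_eul_X`: `χ(H(C)) = Σ (-1)^n length(C^n)`.
-/

set_option autoImplicit false
universe u

open CategoryTheory Limits CochainComplex
open Groth.Agent.Lib.EulerLES Groth.Agent.Lib.EulerD

namespace Groth.Agent.Lib.EulerTerms

variable {A : Type u} [CommRing A]

/-- `H^j(C) ≃ ker d^j / im d^{j-1}`. -/
noncomputable def homologyEquiv (C : CochainComplex (ModuleCat.{u} A) ℤ) (j : ℤ) :
    C.homology j ≃ₗ[A] (LinearMap.ker (C.d j (j + 1)).hom ⧸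
      LinearMap.range ((C.d (j - 1) j).hom.codRestrict (LinearMap.ker (C.d j (j + 1)).hom)
        (fun z => by
          rw [LinearMap.mem_ker]
          exact Groth.Agent.Lib.KoszulElem.d_d_apply C (j - 1) j (j + 1) z))) :=
  (C.homologyIsoSc' (j - 1) j (j + 1) (by simp) (by simp) ≪≫
    (C.sc' (j - 1) j (j + 1)).moduleCatHomologyIso).toLinearEquiv

lemma len_submodule_add_len_quotient {M : Type u} [AddCommGroup M] [Module A M]
    (hM : IsFiniteLength A M) (P : Submodule A M) :
    len A M = len A P + len A (M ⧸ P) := by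
  unfold len
  have h := Module.length_eq_add_of_exact P.subtype P.mkQ P.injective_subtype
    P.mkQ_surjective (LinearMap.exact_subtype_mkQ P)
  have h1 : Module.length A P ≠ ⊤ :=
    Module.length_ne_top_iff.mpr (hM.of_injective P.injective_subtype)
  have h2 : Module.length A (M ⧸ P) ≠ ⊤ :=
    Module.length_ne_top_iff.mpr (hM.of_surjective P.mkQ_surjective)
  rw [h, ENat.toNat_add h1 h2]

/-- `length ker d^j = length im d^{j-1} + length H^j`. -/
lemma len_ker_eq (C : CochainComplex (ModuleCat.{u} A) ℤ) (j : ℤ)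
    (hfl : IsFiniteLength A (C.X j)) :
    len A (LinearMap.ker (C.d j (j + 1)).hom) =
      len A (LinearMap.range (C.d (j - 1) j).hom) + len A (C.homology j) := by
  have hZ : IsFiniteLength A (LinearMap.ker (C.d j (j + 1)).hom) :=
    hfl.of_injective (Submodule.injective_subtype _)
  rw [len_submodule_add_len_quotient hZ
    (LinearMap.range ((C.d (j - 1) j).hom.codRestrict (LinearMap.ker (C.d j (j + 1)).hom)
      (fun z => by
        rw [LinearMap.mem_ker]
        exact Groth.Agent.Lib.KoszulElem.d_d_apply C (j - 1) j (j + 1) z)))]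
  congr 1
  · unfold len
    rw [LinearMap.range_codRestrict]
    have hle : LinearMap.range (C.d (j - 1) j).hom ≤ LinearMap.ker (C.d j (j + 1)).hom := by
      rintro _ ⟨z, rfl⟩
      rw [LinearMap.mem_ker]
      exact Groth.Agent.Lib.KoszulElem.d_d_apply C (j - 1) j (j + 1) z
    rw [(Submodule.comapSubtypeEquivOfLe hle).length_eq]
  · unfold len
    rw [(homologyEquiv C j).length_eq]

lemma isFiniteLength_homology (C : CochainComplex (ModuleCat.{u} A) ℤ) (j : ℤ)
    (hfl : IsFiniteLength A (C.X j)) : IsFiniteLength A (C.homology j) := by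
  have hZ : IsFiniteLength A (LinearMap.ker (C.d j (j + 1)).hom) :=
    hfl.of_injective (Submodule.injective_subtype _)
  exact (homologyEquiv C j).symm.isFiniteLength (hZ.of_surjective (Submodule.mkQ_surjective _))

/-- rank–nullity in the form `length C^j = length ker d^j + length im d^j`, the image being
indexed by its target. -/
lemma len_X_eq (C : CochainComplex (ModuleCat.{u} A) ℤ) (j : ℤ)
    (hfl : IsFiniteLength A (C.X j)) :
    len A (C.X j) = len A (LinearMap.ker (C.d j (j + 1)).hom) +
      len A (LinearMap.range (C.d (j + 1 - 1) (j + 1)).hom) := by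
  rw [len_eq_ker_add_range (C.d j (j + 1)).hom hfl]
  have : ∀ (i : ℤ) (_ : i = j), len A (LinearMap.range (C.d j (j + 1)).hom) =
      len A (LinearMap.range (C.d i (j + 1)).hom) := by
    intro i hi
    subst hi
    rfl
  rw [this (j + 1 - 1) (by omega)]

theorem chi_eq_eul_X (C : CochainComplex (ModuleCat.{u} A) ℤ)
    (hfl : ∀ n, IsFiniteLength A (C.X n)) (a b : ℤ)
    (hab : ∀ n, n ∉ Finset.Icc a b → Subsingleton (C.X n)) :
    FL C ∧ chi C = eul A (fun n => (C.X n : Type u)) := by
  classical
  have hsubH : ∀ n, n ∉ Finset.Icc a b → Subsingleton (C.homology n) := by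
    intro n hn
    have := hab n hn
    exact Groth.Agent.Lib.KoszulEuler.subsingleton_homology_of_subsingleton_X C n
  refine ⟨⟨fun n => isFiniteLength_homology C n (hfl n), a, b, hsubH⟩, ?_⟩
  let ε : ℤ → ℤ := fun i => ((i.negOnePow : ℤˣ) : ℤ)
  let z : ℤ → ℕ := fun j => len A (LinearMap.ker (C.d j (j + 1)).hom)
  let β : ℤ → ℕ := fun j => len A (LinearMap.range (C.d (j - 1) j).hom)
  let η : ℤ → ℕ := fun j => len A (C.homology j)
  have E1 : ∀ j, len A (C.X j) = z j + β (j + 1) := fun j => len_X_eq C j (hfl j)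
  have E2 : ∀ j, z j = β j + η j := fun j => len_ker_eq C j (hfl j)
  have hβ : ∀ j, j ∉ Finset.Icc a b → β j = 0 := by
    intro j hj
    have := hab j hj
    exact len_eq_zero_of_subsingleton _
  have hη : ∀ j, j ∉ Finset.Icc a b → η j = 0 := by
    intro j hj
    have := hsubH j hj
    exact len_eq_zero_of_subsingleton _
  have hβ' : ∀ j, j ∉ Finset.Icc (a - 1) b → β (j + 1) = 0 := by
    intro j hj
    apply hβ
    simp only [Finset.mem_Icc, not_and_or, not_le] at hj ⊢
    omega
  have fs : ∀ (w : ℤ → ℕ) (a' b' : ℤ), (∀ i, i ∉ Finset.Icc a' b' → w i = 0) →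
      (Function.support fun i => ε i * (w i : ℤ)).Finite := by
    intro w a' b' hw
    refine (Finset.Icc a' b').finite_toSet.subset ?_
    intro i hi
    by_contra hi'
    rw [Function.mem_support] at hi
    apply hi
    rw [hw i (by simpa using hi'), Nat.cast_zero, mul_zero]
  have hε : ∀ i, ε (i + 1) = - ε i := by
    intro i
    change (((i + 1).negOnePow : ℤˣ) : ℤ) = - ((i.negOnePow : ℤˣ) : ℤ)
    rw [Int.negOnePow_succ]
    simp
  have hshift : (∑ᶠ i, ε i * (β (i + 1) : ℤ)) = - ∑ᶠ i, ε i * (β i : ℤ) := by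
    have e := finsum_comp_equiv (Equiv.addRight (1 : ℤ)) (f := fun i => ε i * (β i : ℤ))
    rw [← e, ← finsum_neg_distrib]
    apply finsum_congr
    intro i
    change ε i * (β (i + 1) : ℤ) = - (ε (i + 1) * (β (i + 1) : ℤ))
    rw [hε]
    ring
  have hX : eul A (fun n => (C.X n : Type u)) =
      (∑ᶠ i, ε i * (β i : ℤ)) + (∑ᶠ i, ε i * (η i : ℤ)) + ∑ᶠ i, ε i * (β (i + 1) : ℤ) := by
    rw [← finsum_add_distrib (fs β a b hβ) (fs η a b hη)]
    have fs2 : (Function.support fun i => ε i * (β i : ℤ) + ε i * (η i : ℤ)).Finite := by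
      refine (Finset.Icc a b).finite_toSet.subset ?_
      intro i hi
      by_contra hi'
      rw [Function.mem_support] at hi
      apply hi
      rw [hβ i (by simpa using hi'), hη i (by simpa using hi')]
      simp
    rw [← finsum_add_distrib fs2 (fs (fun j => β (j + 1)) (a - 1) b hβ')]
    apply finsum_congr
    intro i
    change ε i * ((len A (C.X i) : ℕ) : ℤ) = _
    rw [E1, E2]
    push_cast
    ring
  rw [hX, hshift]
  change (∑ᶠ i, ε i * (η i : ℤ)) = _
  ring

end Groth.Agent.Lib.EulerTerms
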