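import Mathlib
import Groth.Agent.Lib.CoradFilt58b

/-!
# The first Eulerian idempotent of a cocommutative conilpotent bialgebra (helper58)

In characteristic zero, for `x` in the `n`-th step of the coradical filtration of a cocommutative
bialgebra, `e1 n x = ∑_j c_j π^{*j} x` is primitive, where `c_j` is the coefficient of `X` in the
binomial polynomial `X(X-1)⋯(X-j+1)/j!`.
-/

set_option autoImplicit false
set_option linter.unusedSectionVars false
set_option linter.unusedVariables false

namespace Groth.Agent.Lib.Eulerian58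

open Polynomial TensorProduct Groth.Agent.Lib.CoradFilt58

section Poly

variable (k : Type*) [Field k] [CharZero k]

/-- The binomial polynomial `X(X-1)⋯(X-j+1)/j!`. -/
noncomputable def binomP (j : ℕ) : k[X] := C ((j.factorial : k)⁻¹) * descPochhammer k j

theorem binomP_eval (j m : ℕ) : (binomP k j).eval (m : k) = (m.choose j : k) := by
  unfold binomP
  rw [eval_mul, eval_C, descPochhammer_eval_eq_descFactorial,
    Nat.descFactorial_eq_factorial_mul_choose, Nat.cast_mul, ← mul_assoc,
    inv_mul_cancel₀ (Nat.cast_ne_zero.mpr (Nat.factorial_ne_zero j)), one_mul]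

theorem binomP_coeff_zero (j : ℕ) : (binomP k j).coeff 0 = if j = 0 then 1 else 0 := by
  unfold binomP
  rw [coeff_C_mul, coeff_zero_eq_eval_zero, descPochhammer_eval_zero]
  split_ifs with h
  · subst h
    simp
  · simp

/-- The coefficients of the first Eulerian idempotent. -/
noncomputable def cE (j : ℕ) : k := (binomP k j).coeff 1

theorem cE_zero : cE k 0 = 0 := by
  unfold cE binomP
  simp [coeff_one]

theorem cE_one : cE k 1 = 1 := by
  unfold cE binomP
  simp

theorem coeff_extract {V : Type*} [AddCommGroup V] [Module k V] (n : ℕ) (u : ℕ → V)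
    (v : ℕ → ℕ → V)
    (h : ∀ m : ℕ, ∑ j ∈ Finset.range (n + 1), (m.choose j : k) • u j =
      ∑ a ∈ Finset.range (n + 1), ∑ b ∈ Finset.range (n + 1),
        ((m.choose a : k) * (m.choose b : k)) • v a b) :
    ∑ j ∈ Finset.range (n + 1), cE k j • u j =
      ∑ a ∈ Finset.range (n + 1), cE k a • v a 0 +
        ∑ b ∈ Finset.range (n + 1), cE k b • v 0 b := by
  rw [← sub_eq_zero, ← Module.forall_dual_apply_eq_zero_iff k]
  intro ℓ
  rw [map_sub, sub_eq_zero, map_add, map_sum, map_sum, map_sum]
  simp only [map_smul, smul_eq_mul]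
  have hPQ : (∑ j ∈ Finset.range (n + 1), C (ℓ (u j)) * binomP k j : k[X]) =
      ∑ a ∈ Finset.range (n + 1), ∑ b ∈ Finset.range (n + 1),
        C (ℓ (v a b)) * (binomP k a * binomP k b) := by
    apply Polynomial.eq_of_infinite_eval_eq
    apply Set.infinite_of_injective_forall_mem (f := fun m : ℕ => (m : k)) Nat.cast_injective
    intro m
    show eval _ _ = eval _ _
    simp only [eval_finsetSum, eval_mul, eval_C, binomP_eval]
    have := congrArg ℓ (h m)
    simp only [map_sum, map_smul, smul_eq_mul] at this
    rw [Finset.sum_congr rfl fun j _ => mul_comm (ℓ (u j)) (m.choose j : k), this]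
    refine Finset.sum_congr rfl fun a _ => Finset.sum_congr rfl fun b _ => ?_
    ring
  have := congrArg (fun p => p.coeff 1) hPQ
  simp only [finsetSum_coeff, coeff_C_mul] at this
  simp only [mul_coeff_one, binomP_coeff_zero] at this
  have h0 : 0 ∈ Finset.range (n + 1) := Finset.mem_range.mpr (Nat.succ_pos n)
  simp only [mul_add, Finset.sum_add_distrib, ite_mul, one_mul, zero_mul, mul_ite, mul_one,
    mul_zero, Finset.sum_ite_eq', h0, if_true] at this
  have h2 : (∑ x ∈ Finset.range (n + 1), ∑ x_1 ∈ Finset.range (n + 1),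
      if x = 0 then ℓ (v x x_1) * (binomP k x_1).coeff 1 else 0) =
      ∑ x_1 ∈ Finset.range (n + 1), ℓ (v 0 x_1) * (binomP k x_1).coeff 1 := by
    rw [Finset.sum_comm]
    refine Finset.sum_congr rfl fun b _ => ?_
    rw [Finset.sum_ite_eq' (Finset.range (n + 1)) 0 (fun x => ℓ (v x b) * (binomP k b).coeff 1),
      if_pos h0]
  rw [h2] at this
  rw [Finset.sum_congr rfl fun j _ => mul_comm (cE k j) (ℓ (u j)),
    Finset.sum_congr rfl fun j _ => mul_comm (cE k j) (ℓ (v j 0)),
    Finset.sum_congr rfl fun j _ => mul_comm (cE k j) (ℓ (v 0 j))]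
  unfold cE
  rw [this, add_comm]

end Poly

section Psi

variable (k : Type*) [Field k] (H : Type*) [Ring H] [Bialgebra k H] [Coalgebra.IsCocomm k H]

/-- The convolution powers of the identity, as coalgebra homomorphisms. -/
noncomputable def psi : ℕ → (H →ₗc[k] H)
  | 0 => (Bialgebra.unitBialgHom k H).toCoalgHom.comp (Coalgebra.counitCoalgHom k H)
  | m + 1 => (Bialgebra.mulCoalgHom k H).comp
      ((Coalgebra.TensorProduct.map (psi m) (CoalgHom.id k H)).comp
        (Coalgebra.comulCoalgHom k H))

theorem psi_toLinearMap (m : ℕ) :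
    (psi k H m).toLinearMap = ((WithConv.toConv (LinearMap.id : H →ₗ[k] H)) ^ m).ofConv := by
  induction m with
  | zero =>
    rw [pow_zero]
    rfl
  | succ m ih =>
    rw [pow_succ, LinearMap.convMul_def, WithConv.ofConv_toConv, ← ih]
    rfl

theorem toConv_id_eq : (WithConv.toConv (LinearMap.id : H →ₗ[k] H)) =
    WithConv.toConv (piL k H) + 1 := by
  rw [LinearMap.convOne_def, ← WithConv.toConv_add]
  congr 1
  unfold piL
  rw [sub_add_cancel]

theorem psi_apply (m : ℕ) (x : H) :
    psi k H m x = ∑ j ∈ Finset.range (m + 1), (m.choose j : k) • cp k H j x := by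
  have h1 : psi k H m x = (psi k H m).toLinearMap x := rfl
  rw [h1, psi_toLinearMap, toConv_id_eq, (Commute.one_right _).add_pow, WithConv.ofConv_sum,
    LinearMap.sum_apply]
  refine Finset.sum_congr rfl fun j _ => ?_
  rw [one_pow, mul_one, ← nsmul_eq_mul', WithConv.ofConv_smul, LinearMap.smul_apply,
    Nat.cast_smul_eq_nsmul]
  rfl

theorem psi_apply_of_mem_F {n : ℕ} {x : H} (hx : x ∈ F k H n) (m : ℕ) :
    psi k H m x = ∑ j ∈ Finset.range (n + 1), (m.choose j : k) • cp k H j x := by
  rw [psi_apply]
  have e1 : ∑ j ∈ Finset.range (m + 1), (m.choose j : k) • cp k H j x =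
      ∑ j ∈ Finset.range (m + n + 1), (m.choose j : k) • cp k H j x := by
    apply Finset.sum_subset (Finset.range_subset_range.mpr (by omega))
    intro j _ hj
    rw [Finset.mem_range, not_lt] at hj
    rw [Nat.choose_eq_zero_of_lt (by omega), Nat.cast_zero, zero_smul]
  have e2 : ∑ j ∈ Finset.range (n + 1), (m.choose j : k) • cp k H j x =
      ∑ j ∈ Finset.range (m + n + 1), (m.choose j : k) • cp k H j x := by
    apply Finset.sum_subset (Finset.range_subset_range.mpr (by omega))
    intro j _ hj
    rw [Finset.mem_range, not_lt] at hj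
    rw [cp_eq_zero_of_mem_F k H n j x hx (by omega), smul_zero]
  rw [e1, e2]

end Psi

section E1

variable (k : Type*) [Field k] [CharZero k] (H : Type*) [Ring H] [Bialgebra k H]
  [Coalgebra.IsCocomm k H]

/-- The first Eulerian idempotent, truncated at level `n`. -/
noncomputable def e1 (n : ℕ) : H →ₗ[k] H := ∑ j ∈ Finset.range (n + 1), cE k j • cp k H j

theorem e1_apply (n : ℕ) (x : H) :
    e1 k H n x = ∑ j ∈ Finset.range (n + 1), cE k j • cp k H j x := by
  unfold e1
  rw [LinearMap.sum_apply]
  rfl

theorem map_sum_sum {ι : Type*} (s : Finset ι) (c d : ι → k) (f g : ι → (H →ₗ[k] H))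
    (t : H ⊗[k] H) :
    TensorProduct.map (∑ a ∈ s, c a • f a) (∑ b ∈ s, d b • g b) t =
      ∑ a ∈ s, ∑ b ∈ s, (c a * d b) • TensorProduct.map (f a) (g b) t := by
  induction t using TensorProduct.induction_on with
  | zero => simp
  | tmul x y =>
    simp only [TensorProduct.map_tmul, LinearMap.sum_apply, LinearMap.smul_apply,
      TensorProduct.sum_tmul, TensorProduct.tmul_sum, TensorProduct.smul_tmul_smul]
    exact Finset.sum_comm
  | add a b ha hb => simp only [map_add, ha, hb, Finset.sum_add_distrib, smul_add]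

theorem map_cp_zero_right (f : H →ₗ[k] H) (x : H) :
    TensorProduct.map f (cp k H 0) (Coalgebra.comul (R := k) x) = f x ⊗ₜ[k] (1 : H) := by
  have : TensorProduct.map f (Algebra.linearMap k H ∘ₗ Coalgebra.counit) =
      TensorProduct.map f (Algebra.linearMap k H) ∘ₗ
        LinearMap.lTensor H (Coalgebra.counit (R := k) (A := H)) := by
    apply TensorProduct.ext'
    intro a b
    simp
  rw [cp_zero, this, LinearMap.comp_apply, Coalgebra.lTensor_counit_comul,
    TensorProduct.map_tmul, Algebra.linearMap_apply, map_one]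

theorem map_cp_zero_left (f : H →ₗ[k] H) (x : H) :
    TensorProduct.map (cp k H 0) f (Coalgebra.comul (R := k) x) = (1 : H) ⊗ₜ[k] f x := by
  have : TensorProduct.map (Algebra.linearMap k H ∘ₗ Coalgebra.counit) f =
      TensorProduct.map (Algebra.linearMap k H) f ∘ₗ
        LinearMap.rTensor H (Coalgebra.counit (R := k) (A := H)) := by
    apply TensorProduct.ext'
    intro a b
    simp
  rw [cp_zero, this, LinearMap.comp_apply, Coalgebra.rTensor_counit_comul,
    TensorProduct.map_tmul, Algebra.linearMap_apply, map_one]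

/-- The first Eulerian idempotent takes values in the primitive elements. -/
theorem e1_primitive {n : ℕ} {x : H} (hx : x ∈ F k H n) :
    Coalgebra.comul (R := k) (e1 k H n x) =
      e1 k H n x ⊗ₜ[k] (1 : H) + (1 : H) ⊗ₜ[k] e1 k H n x := by
  have hkey : ∀ m : ℕ, ∑ j ∈ Finset.range (n + 1),
      (m.choose j : k) • Coalgebra.comul (R := k) (cp k H j x) =
      ∑ a ∈ Finset.range (n + 1), ∑ b ∈ Finset.range (n + 1),
        ((m.choose a : k) * (m.choose b : k)) •
          TensorProduct.map (cp k H a) (cp k H b) (Coalgebra.comul (R := k) x) := by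
    intro m
    have h1 : ∑ j ∈ Finset.range (n + 1), (m.choose j : k) • Coalgebra.comul (R := k)
        (cp k H j x) = Coalgebra.comul (R := k) (psi k H m x) := by
      rw [psi_apply_of_mem_F k H hx, map_sum]
      simp only [map_smul]
    rw [h1, ← CoalgHomClass.map_comp_comul_apply]
    obtain ⟨s, hs⟩ := comul_mem_map k H hx
    have hQ : ∀ y ∈ F k H n, psi k H m y =
        (∑ j ∈ Finset.range (n + 1), (m.choose j : k) • cp k H j : H →ₗ[k] H) y := by
      intro y hy
      rw [psi_apply_of_mem_F k H hy, LinearMap.sum_apply]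
      rfl
    have h2 : TensorProduct.map (psi k H m : H →ₗ[k] H) (psi k H m : H →ₗ[k] H)
        (Coalgebra.comul (R := k) x) =
        TensorProduct.map (∑ j ∈ Finset.range (n + 1), (m.choose j : k) • cp k H j)
          (∑ j ∈ Finset.range (n + 1), (m.choose j : k) • cp k H j)
          (Coalgebra.comul (R := k) x) := by
      have hc : (psi k H m : H →ₗ[k] H) ∘ₗ (F k H n).subtype =
          (∑ j ∈ Finset.range (n + 1), (m.choose j : k) • cp k H j : H →ₗ[k] H) ∘ₗ
            (F k H n).subtype := by
        ext y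
        exact hQ y.1 y.2
      rw [← hs, map_map_apply, map_map_apply, hc]
    rw [h2]
    exact map_sum_sum k H _ _ _ _ _ _
  have h3 := coeff_extract k n (fun j => Coalgebra.comul (R := k) (cp k H j x))
    (fun a b => TensorProduct.map (cp k H a) (cp k H b) (Coalgebra.comul (R := k) x)) hkey
  simp only [map_cp_zero_right, map_cp_zero_left] at h3
  rw [e1_apply, map_sum, TensorProduct.sum_tmul, TensorProduct.tmul_sum]
  simp only [map_smul, TensorProduct.smul_tmul', TensorProduct.tmul_smul]
  exact h3

end E1

end Groth.Agent.Lib.Eulerian58
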