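import Mathlib.Algebra.Homology.HomologicalComplexLimits
import Mathlib.CategoryTheory.Limits.Constructions.EventuallyConstant
import Mathlib.Algebra.Homology.ShortComplex.HomologicalComplex
import Mathlib.CategoryTheory.Functor.OfSequence
import Mathlib.CategoryTheory.Filtered.Basic
import Mathlib.CategoryTheory.Abelian.Basic

/-!
# Colimit of a degreewise eventually constant sequence of complexes (helper21)

Given a sequence of homological complexes `X 0 ⟶ X 1 ⟶ X 2 ⟶ ⋯` (maps `φ k`) in a category with zero
morphisms, such that in every degree `i` the maps `(φ k).f i` are isomorphisms for `k ≥ N i`,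
the colimit exists (no colimits are assumed in `C`), and it is computed in degree `i` at the
stage `N i`.

* `exists_colimit`: packaged existence statement (colimit complex `Y`, structure maps `j k`,
  `(j k).f i` iso for `k ≥ N i`, factorization of compatible families, uniqueness).
* `isIso_homologyMap_of_isIso`: a chain map which is an iso in degrees `prev i`, `i`, `next i` is
  an iso on homology in degree `i`.
* `mono_f_of_mono`: if moreover all `(φ k).f i` are mono, the `(j k).f i` are mono.
-/

set_option autoImplicit false
universe v u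

open CategoryTheory CategoryTheory.Limits HomologicalComplex

namespace Groth.Agent.Lib.EvConstColim21

section

variable {C : Type u} [Category.{v} C] [HasZeroMorphisms C] {ι : Type*} {c : ComplexShape ι}

lemma isEventuallyConstantFrom (X : ℕ → HomologicalComplex C c) (φ : ∀ k, X k ⟶ X (k + 1))
    (i : ι) (N : ℕ) (hN : ∀ k, N ≤ k → IsIso ((φ k).f i)) :
    (Functor.ofSequence φ ⋙ eval C c i).IsEventuallyConstantFrom N := by
  intro k f
  have hk : N ≤ k := leOfHom f
  obtain rfl : f = homOfLE hk := Subsingleton.elim _ _
  induction k, hk using Nat.le_induction with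
  | base =>
    have : homOfLE (le_refl N) = 𝟙 N := Subsingleton.elim _ _
    rw [this, CategoryTheory.Functor.map_id]
    infer_instance
  | succ k hk ih =>
    have h1 : homOfLE (hk.trans (Nat.le_add_right k 1)) =
        homOfLE hk ≫ homOfLE (Nat.le_add_right k 1) := Subsingleton.elim _ _
    rw [h1, Functor.map_comp]
    have := ih
    have h2 : IsIso ((Functor.ofSequence φ ⋙ eval C c i).map (homOfLE (Nat.le_add_right k 1))) := by
      rw [Functor.comp_map, Functor.ofSequence_map_homOfLE_succ]
      exact hN k hk
    infer_instance

/-- The colimit of a degreewise eventually constant sequence of complexes. -/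
theorem exists_colimit (X : ℕ → HomologicalComplex C c) (φ : ∀ k, X k ⟶ X (k + 1))
    (N : ι → ℕ) (hN : ∀ i k, N i ≤ k → IsIso ((φ k).f i)) :
    ∃ (Y : HomologicalComplex C c) (j : ∀ k, X k ⟶ Y),
      (∀ k, φ k ≫ j (k + 1) = j k) ∧
      (∀ i k, N i ≤ k → IsIso ((j k).f i)) ∧
      (∀ (Z : HomologicalComplex C c) (g : ∀ k, X k ⟶ Z), (∀ k, φ k ≫ g (k + 1) = g k) →
        ∃ g' : Y ⟶ Z, ∀ k, j k ≫ g' = g k) ∧
      (∀ (Z : HomologicalComplex C c) (a b : Y ⟶ Z), (∀ k, j k ≫ a = j k ≫ b) → a = b) := by
  let F : ℕ ⥤ HomologicalComplex C c := Functor.ofSequence φ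
  have hF : ∀ i, (F ⋙ eval C c i).IsEventuallyConstantFrom (N i) := fun i =>
    isEventuallyConstantFrom X φ i (N i) (hN i)
  have : ∀ i, HasColimit (F ⋙ eval C c i) := fun i => (hF i).hasColimit
  let cc := coconeOfHasColimitEval F
  let hcc : IsColimit cc := isColimitCoconeOfHasColimitEval F
  refine ⟨cc.pt, fun k => cc.ι.app k, fun k => ?_, fun i k hk => ?_, fun Z g hg => ?_,
    fun Z a b hab => ?_⟩
  · have := cc.w (homOfLE (Nat.le_add_right k 1))
    rw [Functor.ofSequence_map_homOfLE_succ] at this
    exact this
  · have := (hF i).isIso_ι_of_isColimit' (colimit.isColimit _) k (homOfLE hk)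
    exact this
  · let t : Cocone F :=
      { pt := Z
        ι := NatTrans.ofSequence (F := F) (G := (Functor.const ℕ).obj Z) g (fun k => by
          rw [Functor.ofSequence_map_homOfLE_succ]
          simp only [Functor.const_obj_obj, Functor.const_obj_map, Category.comp_id]
          exact hg k) }
    exact ⟨hcc.desc t, fun k => hcc.fac t k⟩
  · exact hcc.hom_ext hab

end

section

variable {C : Type u} [Category.{v} C] [Abelian C] {ι : Type*} {c : ComplexShape ι}

/-- A chain map which is an isomorphism in degrees `prev i`, `i`, `next i` induces an isomorphism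
on homology in degree `i`. -/
theorem isIso_homologyMap_of_isIso {K L : HomologicalComplex C c} (f : K ⟶ L) (i : ι)
    (h1 : IsIso (f.f (c.prev i))) (h2 : IsIso (f.f i)) (h3 : IsIso (f.f (c.next i))) :
    IsIso (homologyMap f i) := by
  have e1 : Epi ((shortComplexFunctor C c i).map f).τ₁ := by
    change Epi (f.f (c.prev i)); infer_instance
  have e2 : IsIso ((shortComplexFunctor C c i).map f).τ₂ := by
    change IsIso (f.f i); infer_instance
  have e3 : Mono ((shortComplexFunctor C c i).map f).τ₃ := by
    change Mono (f.f (c.next i)); infer_instance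
  exact ShortComplex.isIso_homologyMap_of_epi_of_isIso_of_mono
    ((shortComplexFunctor C c i).map f)

end

section

variable {C : Type u} [Category.{v} C] [HasZeroMorphisms C] {ι : Type*} {c : ComplexShape ι}

/-- In the situation of `exists_colimit`, if all the transition maps are monomorphisms in degree
`i`, so are the structure maps to the colimit. -/
theorem mono_f_of_mono (X : ℕ → HomologicalComplex C c) (φ : ∀ k, X k ⟶ X (k + 1))
    (Y : HomologicalComplex C c) (j : ∀ k, X k ⟶ Y) (hj : ∀ k, φ k ≫ j (k + 1) = j k)
    (i : ι) (N : ℕ) (hN : IsIso ((j N).f i)) (hmono : ∀ k, Mono ((φ k).f i)) :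
    ∀ k, k ≤ N → Mono ((j k).f i) := by
  have key : ∀ d k, k + d = N → Mono ((j k).f i) := by
    intro d
    induction d with
    | zero =>
      intro k hk
      obtain rfl : k = N := by lia
      infer_instance
    | succ d ih =>
      intro k hk
      have := ih (k + 1) (by lia)
      have := hmono k
      have h : (j k).f i = (φ k).f i ≫ (j (k + 1)).f i := by
        rw [← comp_f, hj k]
      rw [h]
      infer_instance
  intro k hk
  exact key (N - k) k (by lia)

end

end Groth.Agent.Lib.EvConstColim21
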