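import Mathlib.Algebra.Group.ForwardDiff
import Mathlib.RingTheory.Polynomial.Pochhammer
import Mathlib.Algebra.Polynomial.Eval.Degree
import Mathlib.Algebra.Polynomial.Degree.Lemmas
import Mathlib.Data.Nat.Choose.Basic
import Mathlib.RingTheory.Coprime.Lemmas
import Mathlib.Tactic

/-!
Integer-valued rational polynomials: a polynomial of degree `≤ g` taking integer values at `g + 1`
consecutive integers has `g! • P ∈ ℤ[X]`.  Also a coprimality lemma for denominators.
-/

set_option autoImplicit false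

namespace Groth.Agent.Lib.IntValuedPoly

open Polynomial Finset

/-- The top finite difference of a polynomial of degree `≤ n` is `n! * coeff n`. -/
theorem fwdDiff_iter_eq_factorial_mul_coeff (P : ℚ[X]) (n : ℕ) (hP : P.natDegree ≤ n) (y : ℚ) :
    (fwdDiff (1 : ℚ))^[n] P.eval y = (n.factorial : ℚ) * P.coeff n := by
  rcases hP.lt_or_eq with h | h
  · rw [Polynomial.fwdDiff_iter_eq_zero_of_degree_lt h, coeff_eq_zero_of_natDegree_lt h]
    simp
  · subst h
    rw [Polynomial.fwdDiff_iter_degree_eq_factorial]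
    change P.leadingCoeff • ((P.natDegree.factorial : ℕ) : ℚ) = _
    rw [smul_eq_mul, mul_comm]
    rfl

/-- A polynomial of degree `≤ g` with integer values at `a₀, …, a₀ + g` satisfies `g! • P ∈ ℤ[X]`. -/
theorem exists_int_poly (g : ℕ) : ∀ (P : ℚ[X]), P.natDegree ≤ g → ∀ (a₀ : ℤ),
    (∀ m : ℕ, m ≤ g → ∃ z : ℤ, P.eval ((a₀ : ℚ) + m) = z) →
    ∃ R : ℤ[X], R.map (Int.castRingHom ℚ) = C (g.factorial : ℚ) * P := by
  induction g with
  | zero =>
    intro P hP a₀ hval
    obtain ⟨z, hz⟩ := hval 0 le_rfl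
    have hPC : P = C (P.coeff 0) := eq_C_of_natDegree_le_zero hP
    refine ⟨C z, ?_⟩
    rw [hPC] at hz ⊢
    simp only [eval_C] at hz
    simp [hz]
  | succ g ih =>
    intro P hP a₀ hval
    -- integer values as a function
    have hval' : ∀ m : ℕ, ∃ z : ℤ, m ≤ g + 1 → P.eval ((a₀ : ℚ) + m) = z := by
      intro m
      by_cases h : m ≤ g + 1
      · obtain ⟨z, hz⟩ := hval m h
        exact ⟨z, fun _ => hz⟩
      · exact ⟨0, fun h' => absurd h' h⟩
    choose zf hzf using hval'
    -- the top difference is an integer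
    set D : ℤ := ∑ k ∈ range (g + 1 + 1), ((-1 : ℤ) ^ (g + 1 - k) * ((g + 1).choose k : ℤ)) * zf k
      with hD
    have hDeq : (D : ℚ) = ((g + 1).factorial : ℚ) * P.coeff (g + 1) := by
      rw [← fwdDiff_iter_eq_factorial_mul_coeff P (g + 1) hP (a₀ : ℚ), fwdDiff_iter_eq_sum_shift,
        hD]
      push_cast
      refine Finset.sum_congr rfl fun k hk => ?_
      have hk' : k ≤ g + 1 := Nat.lt_succ_iff.mp (Finset.mem_range.mp hk)
      rw [nsmul_one, hzf k hk']
      simp [zsmul_eq_mul]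
    have hfact : ((g + 1).factorial : ℚ) ≠ 0 := by exact_mod_cast (g + 1).factorial_ne_zero
    -- the monic binomial-type polynomial
    set MQ : ℚ[X] := (descPochhammer ℚ (g + 1)).comp (X - C (a₀ : ℚ)) with hMQ
    have hMQmonic : MQ.Monic := by
      apply Monic.comp (monic_descPochhammer ℚ (g + 1)) (monic_X_sub_C _)
      rw [natDegree_X_sub_C]; exact one_ne_zero
    have hMQdeg : MQ.natDegree = g + 1 := by
      rw [hMQ, natDegree_comp, descPochhammer_natDegree, natDegree_X_sub_C, mul_one]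
    set P' : ℚ[X] := P - C ((D : ℚ) / (g + 1).factorial) * MQ with hP'
    have hP'deg : P'.natDegree ≤ g := by
      rw [natDegree_le_iff_coeff_eq_zero]
      intro N hN
      rw [hP', coeff_sub, coeff_C_mul]
      rcases (Nat.succ_le_of_lt hN).lt_or_eq with h | h
      · rw [coeff_eq_zero_of_natDegree_lt (lt_of_le_of_lt hP h),
          coeff_eq_zero_of_natDegree_lt (by rw [hMQdeg]; exact h)]
        simp
      · rw [← h]
        have : MQ.coeff (g + 1) = 1 := by
          have := hMQmonic.coeff_natDegree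
          rwa [hMQdeg] at this
        rw [this, hDeq]
        field_simp
        ring
    have hP'val : ∀ m : ℕ, m ≤ g → ∃ z : ℤ, P'.eval ((a₀ : ℚ) + m) = z := by
      intro m hm
      refine ⟨zf m - D * (m.choose (g + 1) : ℤ), ?_⟩
      rw [hP', eval_sub, eval_mul, eval_C, hMQ, eval_comp, eval_sub, eval_X, eval_C,
        add_sub_cancel_left, descPochhammer_eval_eq_descFactorial,
        Nat.descFactorial_eq_factorial_mul_choose, hzf m (le_trans hm (Nat.le_succ g))]
      push_cast
      field_simp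
    obtain ⟨R', hR'⟩ := ih P' hP'deg a₀ hP'val
    refine ⟨C ((g + 1 : ℕ) : ℤ) * R' + C D * (descPochhammer ℤ (g + 1)).comp (X - C a₀), ?_⟩
    rw [Polynomial.map_add, Polynomial.map_mul, Polynomial.map_mul, hR', Polynomial.map_comp,
      descPochhammer_map, Polynomial.map_sub, map_X, map_C, map_C, map_C, hP']
    simp only [eq_intCast, Int.cast_natCast]
    rw [← hMQ, Nat.factorial_succ]
    push_cast
    have hg1 : ((g : ℚ) + 1) ≠ 0 := by positivity
    have hgf : (g.factorial : ℚ) ≠ 0 := by exact_mod_cast g.factorial_ne_zero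
    rw [mul_sub, mul_sub]
    have hC : C ((g : ℚ) + 1) * (C (g.factorial : ℚ) * (C ((D : ℚ) / (((g : ℚ) + 1) * g.factorial)) * MQ)) =
        C (D : ℚ) * MQ := by
      rw [← mul_assoc, ← mul_assoc, ← C_mul, ← C_mul]
      congr 2
      field_simp
    rw [hC]
    simp only [C_mul, C_add, C_1]
    ring

/-- If `x * b ^ k` and `x * (b + 1) ^ k` are integers then so is `x`. -/
theorem int_of_mul_pow_coprime (x : ℚ) (b k : ℕ) (h1 : ∃ z : ℤ, x * (b : ℚ) ^ k = z)
    (h2 : ∃ z : ℤ, x * ((b : ℚ) + 1) ^ k = z) : ∃ z : ℤ, x = z := by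
  obtain ⟨z1, hz1⟩ := h1
  obtain ⟨z2, hz2⟩ := h2
  have hcop : IsCoprime ((b : ℤ) ^ k) (((b : ℤ) + 1) ^ k) := by
    apply IsCoprime.pow
    exact ⟨-1, 1, by ring⟩
  obtain ⟨s, t, hst⟩ := hcop
  refine ⟨s * z1 + t * z2, ?_⟩
  have hst' : (s : ℚ) * (b : ℚ) ^ k + (t : ℚ) * ((b : ℚ) + 1) ^ k = 1 := by exact_mod_cast hst
  push_cast
  rw [← hz1, ← hz2]
  calc x = x * ((s : ℚ) * (b : ℚ) ^ k + (t : ℚ) * ((b : ℚ) + 1) ^ k) := by rw [hst', mul_one]
    _ = _ := by ring

end Groth.Agent.Lib.IntValuedPoly
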