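import Groth.Agent.Lib.DiscreteDiff
import Groth.Agent.Lib.IntValuedPoly
import Mathlib.Analysis.Polynomial.Basic

/-!
# Eventually polynomial functions (helper25)

* `exists_poly_of_iterDiff_eventually_eq`: if `(∇^r f)(p) = c` for `p ≫ 0` (`f : ℤ → ℤ`, backward
  differences) then `f` agrees for `p ≫ 0` with a polynomial `P ∈ ℚ[X]` of degree `≤ r` with
  `r! * P.coeff r = c`.
* `natDegree_le_of_eventually_le`: `0 ≤ P(n) ≤ Q(n)` for `n ≫ 0` implies `deg P ≤ deg Q`.
-/

set_option autoImplicit false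

open Filter Topology Finset Polynomial
open Groth.Agent.Lib.KoszulSamuel Groth.Agent.Lib.DiscreteDiff

namespace Groth.Agent.Lib.EvPoly

/-- backward iterated difference as a forward one. -/
lemma iterDiff_eq_fwdDiff : ∀ (r : ℕ) (f : ℤ → ℤ) (p : ℤ),
    iterDiff r f p = (fwdDiff (1 : ℤ))^[r] f (p - r)
  | 0, f, p => by simp [iterDiff]
  | r + 1, f, p => by
    have h1 : iterDiff (r + 1) f p = iterDiff r (bdiff f) p := by
      rw [bdiff_iterDiff_comm]; rfl
    rw [h1, iterDiff_eq_fwdDiff r (bdiff f) p]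
    have h2 : bdiff f = fun q => fwdDiff (1 : ℤ) f (q + (-1)) := by
      funext q
      simp only [bdiff, fwdDiff]
      have h4 : q + -1 + 1 = q := by ring
      have h5 : q + -1 = q - 1 := by ring
      rw [h4, h5]
    rw [h2, fwdDiff_iter_comp_add, Function.iterate_succ_apply]
    have h3 : p - (r : ℤ) + -1 = p - ((r + 1 : ℕ) : ℤ) := by push_cast; ring
    rw [h3]

/-- the binomial polynomial `X(X-1)⋯(X-k+1)/k!`. -/
noncomputable def binom (k : ℕ) : ℚ[X] := (k.factorial : ℚ)⁻¹ • descPochhammer ℚ k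

lemma eval_binom (k n : ℕ) : (binom k).eval (n : ℚ) = (n.choose k : ℚ) := by
  unfold binom
  rw [eval_smul, descPochhammer_eval_eq_descFactorial, Nat.descFactorial_eq_factorial_mul_choose,
    smul_eq_mul]
  push_cast
  have : (k.factorial : ℚ) ≠ 0 := by exact_mod_cast k.factorial_ne_zero
  field_simp

lemma natDegree_binom_le (k : ℕ) : (binom k).natDegree ≤ k := by
  unfold binom
  refine (natDegree_smul_le _ _).trans ?_
  rw [descPochhammer_natDegree]

theorem exists_poly_of_iterDiff_eventually_eq (r : ℕ) (f : ℤ → ℤ) (c : ℤ)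
    (h : ∃ p₀ : ℤ, ∀ p : ℤ, p₀ ≤ p → iterDiff r f p = c) :
    ∃ P : ℚ[X], P.natDegree ≤ r ∧ (r.factorial : ℚ) * P.coeff r = c ∧
      ∃ p₀ : ℤ, ∀ p : ℤ, p₀ ≤ p → ((f p : ℤ) : ℚ) = P.eval (p : ℚ) := by
  obtain ⟨p₀, hp₀⟩ := h
  set y₀ : ℤ := p₀ - r with hy₀
  -- forward differences of order `r` are `c` from `y₀` on
  have hr : ∀ q : ℤ, y₀ ≤ q → (fwdDiff (1 : ℤ))^[r] f q = c := by
    intro q hq
    have := hp₀ (q + r) (by omega)
    rw [iterDiff_eq_fwdDiff] at this
    simpa using this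
  -- higher differences vanish
  have hhigh : ∀ (k : ℕ), r < k → ∀ q : ℤ, y₀ ≤ q → (fwdDiff (1 : ℤ))^[k] f q = 0 := by
    intro k hk
    induction k, hk using Nat.le_induction with
    | base =>
      intro q hq
      rw [Function.iterate_succ_apply']
      simp only [fwdDiff]
      rw [hr q hq, hr (q + 1) (by omega)]
      ring
    | succ k hk ih =>
      intro q hq
      rw [Function.iterate_succ_apply']
      simp only [fwdDiff]
      rw [ih q hq, ih (q + 1) (by omega)]
      ring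
  set a : ℕ → ℤ := fun k => (fwdDiff (1 : ℤ))^[k] f y₀ with ha
  -- Newton's formula
  have hnewton : ∀ n : ℕ, r ≤ n → f (y₀ + n) = ∑ k ∈ range (r + 1), (n.choose k : ℤ) * a k := by
    intro n hn
    have h1 := shift_eq_sum_fwdDiff_iter (1 : ℤ) f n y₀
    rw [nsmul_one] at h1
    rw [h1]
    symm
    have hsub : range (r + 1) ⊆ range (n + 1) := by
      intro k hk
      rw [mem_range] at hk ⊢
      omega
    rw [← sum_subset hsub]
    · refine sum_congr rfl fun k _ => ?_
      rw [nsmul_eq_mul]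
    · intro k _ hk
      rw [mem_range] at hk
      rw [hhigh k (by omega) y₀ le_rfl, smul_zero]
  let P₀ : ℚ[X] := ∑ k ∈ range (r + 1), ((a k : ℤ) : ℚ) • binom k
  let P : ℚ[X] := P₀.comp (X - C (y₀ : ℚ))
  have hP₀deg : P₀.natDegree ≤ r := by
    refine natDegree_sum_le_of_forall_le _ _ fun k hk => ?_
    rw [mem_range] at hk
    exact (natDegree_smul_le _ _).trans ((natDegree_binom_le k).trans (by omega))
  have hPdeg : P.natDegree ≤ r := by
    refine natDegree_comp_le.trans ?_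
    have : (X - C (y₀ : ℚ)).natDegree = 1 := natDegree_X_sub_C _
    rw [this, mul_one]
    exact hP₀deg
  have hPeval : ∀ p : ℤ, p₀ ≤ p → ((f p : ℤ) : ℚ) = P.eval (p : ℚ) := by
    intro p hp
    obtain ⟨n, hn⟩ : ∃ n : ℕ, p = y₀ + n := ⟨(p - y₀).toNat, by omega⟩
    have hrn : r ≤ n := by omega
    rw [hn, hnewton n hrn]
    simp only [P, P₀, eval_comp, eval_sub, eval_X, eval_C]
    have : ((y₀ + (n : ℤ) : ℤ) : ℚ) - (y₀ : ℚ) = (n : ℚ) := by push_cast; ring
    rw [this, eval_finsetSum]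
    push_cast
    refine sum_congr rfl fun k _ => ?_
    rw [eval_smul, eval_binom, smul_eq_mul, mul_comm]
  refine ⟨P, hPdeg, ?_, p₀, hPeval⟩
  -- the leading coefficient
  have h1 := Groth.Agent.Lib.IntValuedPoly.fwdDiff_iter_eq_factorial_mul_coeff P r hPdeg (p₀ : ℚ)
  rw [← h1, fwdDiff_iter_eq_sum_shift]
  have h2 := hr p₀ (by omega)
  rw [fwdDiff_iter_eq_sum_shift] at h2
  rw [← h2]
  push_cast
  refine sum_congr rfl fun k _ => ?_
  have h3 := hPeval (p₀ + k) (by omega)
  simp only [smul_eq_mul, nsmul_eq_mul, mul_one, zsmul_eq_mul]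
  push_cast at h3 ⊢
  rw [h3]

/-- `0 ≤ P(n) ≤ Q(n)` for `n ≫ 0` implies `deg P ≤ deg Q`. -/
theorem natDegree_le_of_eventually_le (P Q : ℚ[X])
    (h0 : ∀ᶠ n : ℕ in atTop, 0 ≤ P.eval (n : ℚ))
    (h : ∀ᶠ n : ℕ in atTop, P.eval (n : ℚ) ≤ Q.eval (n : ℚ)) : P.natDegree ≤ Q.natDegree := by
  by_contra hlt
  push Not at hlt
  have hPpos : 0 < P.natDegree := by omega
  have hPdeg : 0 < P.degree := natDegree_pos_iff_degree_pos.mp hPpos
  have hnat : Tendsto (fun n : ℕ => (n : ℚ)) atTop atTop := tendsto_natCast_atTop_atTop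
  rcases lt_trichotomy P.leadingCoeff 0 with hneg | hzero | hpos
  · have := (P.tendsto_atBot_of_leadingCoeff_nonpos hPdeg hneg.le).comp hnat
    have h1 := (this.eventually (eventually_lt_atBot 0)).and h0
    obtain ⟨n, hn1, hn2⟩ := h1.exists
    exact absurd hn2 (not_le.mpr hn1)
  · rw [leadingCoeff_eq_zero] at hzero
    rw [hzero] at hPpos
    simp at hPpos
  · have hdlt : Q.degree < P.degree := degree_lt_degree hlt
    have hD : (P - Q).degree = P.degree := degree_sub_eq_left_of_degree_lt hdlt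
    have hlc : (P - Q).leadingCoeff = P.leadingCoeff := leadingCoeff_sub_of_degree_lt hdlt
    have := ((P - Q).tendsto_atTop_of_leadingCoeff_nonneg (hD ▸ hPdeg) (hlc ▸ hpos.le)).comp hnat
    have h1 := (this.eventually (eventually_gt_atTop 0)).and h
    obtain ⟨n, hn1, hn2⟩ := h1.exists
    simp only [Function.comp, eval_sub] at hn1
    linarith

end Groth.Agent.Lib.EvPoly
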