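import Groth.Prelude.Def_DTen3
import Groth.Agent.Lib.DTenValues35
import Groth.Agent.Lib.DTenBase35
import Groth.Agent.Lib.BifunctorCone66

/-!
# Weak exactness of the derived tensor product `- ⊗^L W` on `D(A)` (helper35)

For every distinguished triangle `T` of `D(A)` the first two maps of `T ⊗^L W` extend to a
distinguished triangle.
-/

set_option autoImplicit false
universe u

open CategoryTheory CategoryTheory.Limits Category MonoidalCategory Pretriangulated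

attribute [local instance] HasDerivedCategory.standard

namespace Groth.Agent.Lib.TensorExact35

open DerivedCategory Groth.Agent.Lib.KFlat35 DTen Groth.Agent.Lib.DTenBase35 HomologicalComplex
  CochainComplex

variable {A : Type u} [CommRing A] [HasLTen A]

section Alpha

variable {W : Dual.D A} (P : DRing.Cx A) [P.IsKProjective] (hP : IsKFlat P) (eW : Q.obj P ≅ W)
include hP

/-- `Z ⊗^L W ≅ Q(X₀ ⊗ P)` for `Z ≅ Q X₀` and `W ≅ Q P` with `P` good. -/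
noncomputable def α {Z : Dual.D A} {X₀ : DRing.Cx A} (z : Z ≅ Q.obj X₀) :
    (LTen₂ A).obj (Z, W) ≅ Q.obj (X₀ ⊗ P) :=
  haveI := Groth.Agent.Lib.DTenValues35.isIso_ε_right X₀ P hP
  (LTen₂ A).mapIso (Iso.prod z eW.symm) ≪≫ asIso ((ε A).app (X₀, P))

lemma α_hom {Z : Dual.D A} {X₀ : DRing.Cx A} (z : Z ≅ Q.obj X₀) :
    (α P hP eW z).hom = (LTen₂ A).map (Prod.mkHom z.hom eW.inv) ≫ (ε A).app (X₀, P) := rfl

lemma α_naturality {Z Z' : Dual.D A} {X₀ X₀' : DRing.Cx A} (z : Z ≅ Q.obj X₀)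
    (z' : Z' ≅ Q.obj X₀') (f : Z ⟶ Z') (ψ : X₀ ⟶ X₀') (h : f ≫ z'.hom = z.hom ≫ Q.map ψ) :
    (LTen₂ A).map (Prod.mkHom f (𝟙 W)) ≫ (α P hP eW z').hom =
      (α P hP eW z).hom ≫ Q.map (ψ ▷ P) := by
  rw [α_hom, α_hom, ← Category.assoc, ← Functor.map_comp]
  have e1 : Prod.mkHom f (𝟙 W) ≫ Prod.mkHom z'.hom eW.inv =
      (Prod.mkHom z.hom eW.inv : ((Z, W) : Dual.D A × Dual.D A) ⟶ _) ≫
        (QQ A).map (Prod.mkHom ψ (𝟙 P) : ((X₀, P) : DRing.Cx A × DRing.Cx A) ⟶ (X₀', P)) := by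
    refine Prod.ext h ?_
    change 𝟙 W ≫ eW.inv = eW.inv ≫ Q.map (𝟙 P)
    rw [CategoryTheory.Functor.map_id, Category.id_comp, Category.comp_id]
  rw [e1, Functor.map_comp, Category.assoc]
  have e2 := (ε A).naturality (Prod.mkHom ψ (𝟙 P) : ((X₀, P) : DRing.Cx A × DRing.Cx A) ⟶ (X₀', P))
  have e3 : (tensorT A).map (Prod.mkHom ψ (𝟙 P) : ((X₀, P) : DRing.Cx A × DRing.Cx A) ⟶ (X₀', P)) =
      ψ ▷ P := by simp
  dsimp only [Functor.comp_map] at e2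
  erw [e2]
  rw [e3, Category.assoc]

end Alpha

section Main

set_option backward.isDefEq.respectTransparency false

/-- compatibility of `coneIso₁` with `inr`. -/
lemma inr_coneIso₁ {X Y : DRing.Cx A} (φ : X ⟶ Y) (P : DRing.Cx A) :
    (mappingCone.inr φ ▷ P) ≫
        (Groth.Agent.Lib.BifunctorCone66.coneIso₁ (curriedTensor (ModuleCat.{u} A)) φ P).hom =
      mappingCone.inr (HomologicalComplex.mapBifunctorMap φ (𝟙 P) (curriedTensor (ModuleCat.{u} A))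
        (ComplexShape.up ℤ)) := by
  rw [← cancel_mono
    (Groth.Agent.Lib.BifunctorCone66.coneIso₁ (curriedTensor (ModuleCat.{u} A)) φ P).inv,
    Category.assoc, Iso.hom_inv_id, Category.comp_id]
  dsimp only [Groth.Agent.Lib.BifunctorCone66.coneIso₁, Groth.Agent.Lib.BifunctorCone66.coneDesc₁]
  rw [mappingCone.inr_desc]
  rfl

/-- Weak exactness of `- ⊗^L W`: the first two maps of `T ⊗^L W` extend to a distinguished
triangle, for every distinguished triangle `T` of `D(A)`. -/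
theorem exists_distinguished_tensorRight (W : Dual.D A) (T : Triangle (Dual.D A))
    (hT : T ∈ distTriang (Dual.D A)) :
    ∃ (δ : (LTen₂ A).obj (T.obj₃, W) ⟶ ((LTen₂ A).obj (T.obj₁, W))⟦(1 : ℤ)⟧),
      Triangle.mk ((LTen₂ A).map (Prod.mkHom T.mor₁ (𝟙 W)))
        ((LTen₂ A).map (Prod.mkHom T.mor₂ (𝟙 W))) δ ∈ distTriang (Dual.D A) := by
  obtain ⟨X, Y, φ, ⟨e⟩⟩ := (DerivedCategory.mem_distTriang_iff T).1 hT
  obtain ⟨P, hP, hPf, ⟨eW⟩⟩ := exists_good' W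
  haveI := hP
  let ψ : X ⊗ P ⟶ Y ⊗ P := HomologicalComplex.mapBifunctorMap φ (𝟙 P)
    (curriedTensor (ModuleCat.{u} A)) (ComplexShape.up ℤ)
  have hψ : ψ = φ ▷ P := rfl
  let z₁ : T.obj₁ ≅ Q.obj X := Triangle.π₁.mapIso e
  let z₂ : T.obj₂ ≅ Q.obj Y := Triangle.π₂.mapIso e
  let z₃ : T.obj₃ ≅ Q.obj (mappingCone φ) := Triangle.π₃.mapIso e
  have c₁ : T.mor₁ ≫ z₂.hom = z₁.hom ≫ Q.map φ := e.hom.comm₁
  have c₂ : T.mor₂ ≫ z₃.hom = z₂.hom ≫ Q.map (mappingCone.inr φ) := e.hom.comm₂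
  let α₁ := α P hPf eW z₁
  let α₂ := α P hPf eW z₂
  let α₃ : (LTen₂ A).obj (T.obj₃, W) ≅ Q.obj (mappingCone ψ) :=
    α P hPf eW z₃ ≪≫ Q.mapIso
      (Groth.Agent.Lib.BifunctorCone66.coneIso₁ (curriedTensor (ModuleCat.{u} A)) φ P)
  let T' := Q.mapTriangle.obj (mappingCone.triangle ψ)
  have hT' : T' ∈ distTriang (Dual.D A) :=
    (DerivedCategory.mem_distTriang_iff T').2 ⟨_, _, ψ, ⟨Iso.refl _⟩⟩
  refine ⟨α₃.hom ≫ T'.mor₃ ≫ (α₁.inv)⟦(1 : ℤ)⟧', ?_⟩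
  refine isomorphic_distinguished _ hT' _ (Triangle.isoMk _ _ α₁ α₂ α₃ ?_ ?_ ?_)
  · exact α_naturality P hPf eW z₁ z₂ T.mor₁ φ c₁
  · change (LTen₂ A).map (Prod.mkHom T.mor₂ (𝟙 W)) ≫ (α P hPf eW z₃).hom ≫ Q.map _ =
      α₂.hom ≫ Q.map (mappingCone.inr ψ)
    rw [← Category.assoc, α_naturality P hPf eW z₂ z₃ T.mor₂ (mappingCone.inr φ) c₂,
      Category.assoc, ← Functor.map_comp, inr_coneIso₁]
  · change (α₃.hom ≫ T'.mor₃ ≫ (α₁.inv)⟦(1 : ℤ)⟧') ≫ (α₁.hom)⟦(1 : ℤ)⟧' = α₃.hom ≫ T'.mor₃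
    rw [Category.assoc, Category.assoc, ← Functor.map_comp, Iso.inv_hom_id,
      CategoryTheory.Functor.map_id, Category.comp_id]

end Main

end Groth.Agent.Lib.TensorExact35
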