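import Groth.Prelude.Def_DTen3
import Groth.Agent.Lib.TensorExact35
import Groth.Agent.Lib.FiveLemmaTri35
import Groth.Agent.Lib.DTenAssoc
import Groth.Agent.Lib.DThick

/-!
# Dévissage for `evalTen K L M` in the variable `K` (helper35)

`K ⊗^L RHom(M, L) ⟶ RHom(M, K ⊗^L L)` is an isomorphism for `K` perfect.
-/

set_option autoImplicit false
universe u

open CategoryTheory CategoryTheory.Limits Category MonoidalCategory Pretriangulated

attribute [local instance] HasDerivedCategory.standard

namespace Groth.Agent.Lib.EvalTenDev35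

open DTen Groth.Agent.Lib.FiveLemmaTri35

variable {A : Type u} [CommRing A] [HasLTen A]

lemma tensorRightD_map (L : Dual.D A) {X Y : Dual.D A}
    (f : X ⟶ Y) : (tensorRightD A L).map f = (LTen₂ A).map (Prod.mkHom f (𝟙 L)) := rfl

lemma tensorLeft_map (U : Dual.D A) {X Y : Dual.D A}
    (f : X ⟶ Y) : ((LTen A).obj U).map f = (LTen₂ A).map (Prod.mkHom (𝟙 U) f) := rfl

/-- `- ⊗^L W` is weakly exact. -/
lemma weaklyExact_tensorRightD (W : Dual.D A) : WeaklyExact (tensorRightD A W) := fun T hT =>
  Groth.Agent.Lib.TensorExact35.exists_distinguished_tensorRight W T hT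

section Additive

variable [HasRHom A]

instance additive_tensorRightD (W : Dual.D A) : (tensorRightD A W).Additive := by
  haveI : PreservesBinaryBiproducts (tensorRightD A W) :=
    preservesBinaryBiproducts_of_preservesBinaryCoproducts _
  exact Functor.additive_of_preservesBinaryBiproducts _

lemma isZero_tensorRightD (W : Dual.D A) (Z : Dual.D A) (hZ : IsZero Z) :
    IsZero ((tensorRightD A W).obj Z) :=
  (tensorRightD A W).map_isZero hZ

end Additive

variable [HasLTen₃ A] [IsSymMonoidal A] [HasRHom A]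

/-- Naturality of `evalTenAux` in `K`. -/
lemma evalTenAux_naturality {K K' : Dual.D A} (f : K ⟶ K') (L M : Dual.D A) :
    (tensorRightD A M).map ((tensorRightD A ((RHomR A M).obj L)).map f) ≫ evalTenAux K' L M =
      evalTenAux K L M ≫ (tensorRightD A L).map f := by
  rw [tensorRightD_map, tensorRightD_map, tensorRightD_map]
  dsimp only [evalTenAux]
  rw [← Category.assoc, Groth.Agent.Lib.DTenAssoc.associator_naturality f (𝟙 _) (𝟙 M),
    Category.assoc, Category.assoc]
  congr 1
  rw [← Functor.map_comp, ← Functor.map_comp]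
  congr 1
  refine Prod.ext ?_ ?_
  · change f ≫ 𝟙 K' = 𝟙 K ≫ f
    rw [Category.comp_id, Category.id_comp]
  · change (LTen₂ A).map (Prod.mkHom (𝟙 ((RHomR A M).obj L)) (𝟙 M)) ≫ ev M L = ev M L ≫ 𝟙 L
    rw [Category.comp_id]
    have : (Prod.mkHom (𝟙 ((RHomR A M).obj L)) (𝟙 M) :
        (((RHomR A M).obj L, M) : Dual.D A × Dual.D A) ⟶ _) = 𝟙 _ := rfl
    rw [this, CategoryTheory.Functor.map_id, Category.id_comp]

/-- The family `Hom(N, K ⊗ RHom(M, L)) → Hom(N ⊗ M, K ⊗ L)`. -/
noncomputable def fam (N L M : Dual.D A) :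
    NatFamily (tensorRightD A ((RHomR A M).obj L)) (tensorRightD A L) N
      ((tensorRightD A M).obj N) where
  θ K :=
    { toFun := fun g => (tensorRightD A M).map g ≫ evalTenAux K L M
      map_zero' := by rw [Functor.map_zero, zero_comp]
      map_add' := fun g g' => by rw [Functor.map_add, Preadditive.add_comp] }
  nat {K K'} f g := by
    change (tensorRightD A M).map (g ≫ _) ≫ evalTenAux K' L M =
      ((tensorRightD A M).map g ≫ evalTenAux K L M) ≫ _
    rw [Functor.map_comp, Category.assoc, evalTenAux_naturality, Category.assoc]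

lemma fam_θ_apply (N L M K : Dual.D A) (g : N ⟶ (tensorRightD A ((RHomR A M).obj L)).obj K) :
    (fam N L M).θ K g = (tensorRightD A M).map g ≫ evalTenAux K L M := rfl

/-- Yoneda: `evalTen K L M` is an isomorphism if all `θ K` are bijective. -/
lemma isIso_evalTen_of_bijective (K L M : Dual.D A)
    (h : ∀ N : Dual.D A, Function.Bijective ((fam N L M).θ K)) : IsIso (evalTen K L M) := by
  rw [isIso_iff_yoneda_map_bijective]
  intro N
  have key : (fun g : N ⟶ _ => g ≫ evalTen K L M) =
      (fun t => (rhomAdj A M).homEquiv N _ t) ∘ (fam N L M).θ K := by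
    funext g
    change g ≫ evalTen K L M = (rhomAdj A M).homEquiv N _ ((tensorRightD A M).map g ≫ evalTenAux K L M)
    rw [Adjunction.homEquiv_naturality_left]
    rfl
  rw [key]
  exact ((rhomAdj A M).homEquiv N _).bijective.comp (h N)

/-! ### Invertible objects give equivalences -/

/-- `U ⊗ (V ⊗ X) ≅ X`, naturally in `X`, when `U ⊗ V ≅ unit`. -/
noncomputable def compIso (U V : Dual.D A) (e : (LTen₂ A).obj (U, V) ≅ unit A) :
    (LTen A).obj V ⋙ (LTen A).obj U ≅ 𝟭 (Dual.D A) :=
  NatIso.ofComponents
    (fun X => (associator U V X).symm ≪≫ (tensorRightD A X).mapIso e ≪≫ leftUnitor X)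
    (by
      intro X Y h
      dsimp only [Functor.comp_map, Functor.id_map, Iso.trans_hom, Iso.symm_hom, Functor.mapIso_hom,
        leftUnitor_hom]
      rw [tensorLeft_map, tensorLeft_map, tensorRightD_map, tensorRightD_map]
      have h1 := Groth.Agent.Lib.DTenAssoc.associator_naturality (𝟙 U) (𝟙 V) h
      have h1' : (LTen₂ A).map (Prod.mkHom (𝟙 U) ((LTen₂ A).map (Prod.mkHom (𝟙 V) h))) ≫
          (associator U V Y).inv = (associator U V X).inv ≫
            (LTen₂ A).map (Prod.mkHom ((LTen₂ A).map (Prod.mkHom (𝟙 U) (𝟙 V))) h) := by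
        rw [Iso.comp_inv_eq, Category.assoc, h1, Iso.inv_hom_id_assoc]
      rw [← Category.assoc, h1', Category.assoc, Category.assoc, Category.assoc]
      congr 1
      have h2 : (LTen₂ A).map (Prod.mkHom ((LTen₂ A).map (Prod.mkHom (𝟙 U) (𝟙 V))) h) ≫
          (LTen₂ A).map (Prod.mkHom e.hom (𝟙 Y)) =
          (LTen₂ A).map (Prod.mkHom e.hom (𝟙 X)) ≫ (LTen₂ A).map (Prod.mkHom (𝟙 (unit A)) h) := by
        rw [← Functor.map_comp, ← Functor.map_comp]
        congr 1
        refine Prod.ext ?_ ?_
        · change (LTen₂ A).map (Prod.mkHom (𝟙 U) (𝟙 V)) ≫ e.hom = e.hom ≫ 𝟙 _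
          have : (Prod.mkHom (𝟙 U) (𝟙 V) : ((U, V) : Dual.D A × Dual.D A) ⟶ _) = 𝟙 _ := rfl
          rw [this, CategoryTheory.Functor.map_id, Category.id_comp, Category.comp_id]
        · change h ≫ 𝟙 Y = 𝟙 X ≫ h
          rw [Category.comp_id, Category.id_comp]
      rw [← Category.assoc, h2, Category.assoc]
      congr 1
      exact (unitL A).naturality h)

/-- If `U ⊗ V ≅ unit ≅ V ⊗ U` then `U ⊗ -` is an equivalence. -/
lemma isEquivalence_tensorLeft (U V : Dual.D A) (e : (LTen₂ A).obj (U, V) ≅ unit A)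
    (e' : (LTen₂ A).obj (V, U) ≅ unit A) : ((LTen A).obj U).IsEquivalence :=
  (CategoryTheory.Equivalence.mk ((LTen A).obj U) ((LTen A).obj V) (compIso V U e').symm
    (compIso U V e)).isEquivalence_functor

lemma bijective_precomp_iso {C : Type*} [Category C] {X X' : C} (e : X ≅ X') (Y : C) :
    Function.Bijective (fun g : X' ⟶ Y => e.hom ≫ g) :=
  ⟨fun g g' h => (cancel_epi e.hom).1 h, fun h => ⟨e.inv ≫ h, by simp⟩⟩

/-- Base case: `θ U` is bijective when `U ⊗ -` is an equivalence. -/
lemma bijective_θ_of_isEquivalence (U : Dual.D A) [((LTen A).obj U).IsEquivalence]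
    (N L M : Dual.D A) : Function.Bijective ((fam N L M).θ U) := by
  let S := (LTen A).obj U
  -- first for `N = S N'`
  have step1 : ∀ N' : Dual.D A, Function.Bijective ((fam (S.obj N') L M).θ U) := by
    intro N'
    have hS : Function.Bijective (S.map : (N' ⟶ (RHomR A M).obj L) → _) :=
      (Functor.FullyFaithful.ofFullyFaithful S).map_bijective _ _
    have hS' : Function.Bijective (S.map : ((tensorRightD A M).obj N' ⟶ L) → _) :=
      (Functor.FullyFaithful.ofFullyFaithful S).map_bijective _ _
    have key : (fun g' : N' ⟶ (RHomR A M).obj L => (fam (S.obj N') L M).θ U (S.map g')) =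
        (fun t => (associator U N' M).hom ≫ t) ∘ S.map ∘
          (fun g' => ((rhomAdj A M).homEquiv N' L).symm g') := by
      funext g'
      change (tensorRightD A M).map (S.map g') ≫ evalTenAux U L M =
        (associator U N' M).hom ≫ S.map (((rhomAdj A M).homEquiv N' L).symm g')
      rw [Adjunction.homEquiv_counit, tensorRightD_map, tensorRightD_map]
      dsimp only [evalTenAux, S]
      rw [tensorLeft_map, tensorLeft_map, ← Category.assoc,
        Groth.Agent.Lib.DTenAssoc.associator_naturality (𝟙 U) g' (𝟙 M), Category.assoc]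
      congr 1
      rw [← Functor.map_comp]
      congr 1
    have hcomp : Function.Bijective
        (fun g' : N' ⟶ (RHomR A M).obj L => (fam (S.obj N') L M).θ U (S.map g')) := by
      rw [key]
      exact (bijective_precomp_iso (associator U N' M) _).comp
        (hS'.comp ((rhomAdj A M).homEquiv N' L).symm.bijective)
    exact (Function.Bijective.of_comp_iff _ hS).1 hcomp
  -- general `N`
  let N' := S.objPreimage N
  let e : S.obj N' ≅ N := S.objObjPreimageIso N
  have key : ((fam N L M).θ U : _ → _) =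
      (fun t => (tensorRightD A M).map e.inv ≫ t) ∘ (fam (S.obj N') L M).θ U ∘
        (fun g => e.hom ≫ g) := by
    funext g
    change (tensorRightD A M).map g ≫ evalTenAux U L M =
      (tensorRightD A M).map e.inv ≫ (tensorRightD A M).map (e.hom ≫ g) ≫ evalTenAux U L M
    rw [← Category.assoc ((tensorRightD A M).map e.inv), ← Functor.map_comp, Iso.inv_hom_id_assoc]
  rw [key]
  exact (bijective_precomp_iso ((tensorRightD A M).mapIso e.symm) _).comp
    ((step1 N').comp (bijective_precomp_iso e _))

/-! ### The base case: shifts of the unit -/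

lemma nonempty_unit_shift_tensor_iso (n m : ℤ) (h : m + n = 0) :
    Nonempty ((LTen₂ A).obj ((unit A)⟦n⟧, (unit A)⟦m⟧) ≅ unit A) := by
  obtain ⟨e⟩ := (weaklyExact_tensorRightD ((unit A)⟦m⟧)).nonempty_shift_iso
    (isZero_tensorRightD _) (unit A) n
  exact ⟨e ≪≫ (shiftFunctor (Dual.D A) n).mapIso (leftUnitor ((unit A)⟦m⟧)) ≪≫
    (shiftFunctorCompIsoId (Dual.D A) m n h).app (unit A)⟩

lemma isEquivalence_tensorLeft_unit_shift (n : ℤ) :
    ((LTen A).obj ((unit A)⟦n⟧)).IsEquivalence := by
  obtain ⟨e⟩ := nonempty_unit_shift_tensor_iso (A := A) n (-n) (by omega)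
  obtain ⟨e'⟩ := nonempty_unit_shift_tensor_iso (A := A) (-n) n (by omega)
  exact isEquivalence_tensorLeft _ _ e e'

lemma good_unit (N L M : Dual.D A) : (fam N L M).Good (unit A) := by
  apply NatFamily.good_of_forall_shift
  intro n
  haveI := isEquivalence_tensorLeft_unit_shift (A := A) n
  exact bijective_θ_of_isEquivalence _ N L M

/-! ### The dévissage -/

/-- The objects `K` such that all `θ` are bijective on all shifts of `K`. -/
def P : ObjectProperty (Dual.D A) := fun K => ∀ N L M : Dual.D A, (fam N L M).Good K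

instance : (P (A := A)).IsClosedUnderIsomorphisms where
  of_iso e h := fun N L M => (h N L M).of_iso _ e.symm

lemma P_unit : P (unit A) := fun N L M => good_unit N L M

lemma isIso_evalTen_of_P {K : Dual.D A} (hK : P K) (L M : Dual.D A) : IsIso (evalTen K L M) :=
  isIso_evalTen_of_bijective K L M (fun N => (hK N L M).bijective)

theorem P_of_isPerfect (K : Dual.D A) (hK : DRing.IsPerfect A K) : P K := by
  obtain ⟨E, a, b, hE, hfp, ⟨e⟩⟩ := hK
  refine (P (A := A)).prop_of_iso e ?_
  refine Groth.Agent.Lib.DThick.prop_of_bounded_finite_projective (P (A := A)) ?_ ?_ ?_ ?_ E a b hE hfp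
  · exact P_unit
  · intro K n h N L M
    exact (h N L M).shift _ n
  · intro T hT h1 h3 N L M
    exact NatFamily.Good.mid _ (weaklyExact_tensorRightD _) (weaklyExact_tensorRightD _) T hT
      (h1 N L M) (h3 N L M)
  · intro X Y _ h N L M
    exact (h N L M).of_biprod _

/-- `K ⊗^L RHom(M, L) ⟶ RHom(M, K ⊗^L L)` is an isomorphism for `K` perfect. -/
theorem isIso_evalTen_of_isPerfect (K L M : Dual.D A) (hK : DRing.IsPerfect A K) :
    IsIso (evalTen K L M) :=
  isIso_evalTen_of_P (P_of_isPerfect K hK) L M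

end Groth.Agent.Lib.EvalTenDev35
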