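import Groth.Agent.Lib.RHomExact25
import Groth.Agent.Lib.EvalTenDev35

/-!
# Dévissage for `evalHom K L M` in the variable `K` (helper25)

`RHom(L, M) ⊗^L K ⟶ RHom(RHom(K, L), M)` is an isomorphism for `K` perfect.
-/

set_option autoImplicit false
set_option linter.unusedSectionVars false
set_option linter.style.haveILetI false
universe u

open CategoryTheory CategoryTheory.Limits Category MonoidalCategory Pretriangulated Opposite

attribute [local instance] HasDerivedCategory.standard

namespace Groth.Agent.Lib.EvalHomDev25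

open DTen Groth.Agent.Lib.FiveLemmaTri35 Groth.Agent.Lib.RHomModel25
  Groth.Agent.Lib.EvalTenDev35

variable {A : Type u} [CommRing A] [HasLTen A] [HasLTen₃ A] [IsSymMonoidal A] [HasRHom A]

lemma map_id_id (X Y : Dual.D A) :
    (LTen₂ A).map (Prod.mkHom (𝟙 X) (𝟙 Y)) = 𝟙 _ := by
  have : (Prod.mkHom (𝟙 X) (𝟙 Y) : ((X, Y) : Dual.D A × Dual.D A) ⟶ _) = 𝟙 _ := rfl
  rw [this, CategoryTheory.Functor.map_id]

lemma symm_naturality {X X' Y Y' : Dual.D A} (a : X ⟶ X') (b : Y ⟶ Y') :
    (LTen₂ A).map (Prod.mkHom b a) ≫ (symm A).app (X', Y') =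
      (symm A).app (X, Y) ≫ (LTen₂ A).map (Prod.mkHom a b) :=
  (symm A).naturality (Prod.mkHom a b : ((X, Y) : Dual.D A × Dual.D A) ⟶ (X', Y'))

/-- the braiding as a natural isomorphism `W ⊗ - ≅ - ⊗ W` -/
noncomputable def braidNat (W : Dual.D A) : (LTen A).obj W ≅ tensorRightD A W :=
  NatIso.ofComponents (fun K => braiding K W) (by
    intro K K' f
    exact symm_naturality f (𝟙 W))

lemma weaklyExact_of_iso {Φ Φ' : Dual.D A ⥤ Dual.D A} (e : Φ ≅ Φ') (h : WeaklyExact Φ') :
    WeaklyExact Φ := fun T hT =>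
  exists_distinguished_of_iso _ _ _ _ (e.app _) (e.app _) (e.app _) (e.hom.naturality _)
    (e.hom.naturality _) (h T hT)

lemma weaklyExact_tensorLeft (W : Dual.D A) : WeaklyExact ((LTen A).obj W) :=
  weaklyExact_of_iso (braidNat W) (weaklyExact_tensorRightD W)

/-- the key dinaturality -/
lemma symm_ev_dinat {K K' : Dual.D A} (f : K ⟶ K') (L : Dual.D A) :
    (LTen₂ A).map (Prod.mkHom f (𝟙 ((RHomR A K').obj L))) ≫
        (braiding ((RHomR A K').obj L) K').hom ≫ ev K' L =
      (LTen₂ A).map (Prod.mkHom (𝟙 K) (RHomMap f L)) ≫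
        (braiding ((RHomR A K).obj L) K).hom ≫ ev K L := by
  have h1 : (LTen₂ A).map (Prod.mkHom f (𝟙 ((RHomR A K').obj L))) ≫
      (braiding ((RHomR A K').obj L) K').hom =
      (braiding ((RHomR A K').obj L) K).hom ≫
        (LTen₂ A).map (Prod.mkHom (𝟙 ((RHomR A K').obj L)) f) :=
    symm_naturality (𝟙 ((RHomR A K').obj L)) f
  have h2 : (LTen₂ A).map (Prod.mkHom (𝟙 K) (RHomMap f L)) ≫
      (braiding ((RHomR A K).obj L) K).hom =
      (braiding ((RHomR A K').obj L) K).hom ≫
        (LTen₂ A).map (Prod.mkHom (RHomMap f L) (𝟙 K)) :=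
    symm_naturality (RHomMap f L) (𝟙 K)
  have h3 := RHom_map_ev f L
  rw [← Category.assoc, h1, Category.assoc, ← h3, ← Category.assoc, ← h2, Category.assoc]

lemma evalHomAux_eq (K L M : Dual.D A) :
    evalHomAux K L M = (associator ((RHomR A L).obj M) K ((RHomR A K).obj L)).hom ≫
      (LTen₂ A).map (Prod.mkHom (𝟙 ((RHomR A L).obj M))
        ((braiding ((RHomR A K).obj L) K).hom ≫ ev K L)) ≫ ev L M := rfl

/-- Naturality of `evalHomAux` in `K`. -/
lemma evalHomAux_naturality {K K' : Dual.D A} (f : K ⟶ K') (L M : Dual.D A) :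
    (LTen₂ A).map (Prod.mkHom ((LTen₂ A).map (Prod.mkHom (𝟙 ((RHomR A L).obj M)) f))
        (𝟙 ((RHomR A K').obj L))) ≫ evalHomAux K' L M =
      (LTen₂ A).map (Prod.mkHom (𝟙 ((LTen₂ A).obj ((RHomR A L).obj M, K))) (RHomMap f L)) ≫
        evalHomAux K L M := by
  have a1 := Groth.Agent.Lib.DTenAssoc.associator_naturality (𝟙 ((RHomR A L).obj M)) f
    (𝟙 ((RHomR A K').obj L))
  have a2 := Groth.Agent.Lib.DTenAssoc.associator_naturality (𝟙 ((RHomR A L).obj M)) (𝟙 K)
    (RHomMap f L)
  rw [map_id_id] at a2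
  rw [evalHomAux_eq, evalHomAux_eq, ← Category.assoc, a1, ← Category.assoc _ _ (_ ≫ ev L M), a2,
    Category.assoc, Category.assoc]
  congr 1
  rw [← Category.assoc, ← Category.assoc, mk_comp_mk, mk_comp_mk]
  congr 2
  refine Prod.ext rfl ?_
  exact symm_ev_dinat f L

/-- Naturality of `evalHom` in `K`. -/
lemma evalHom_naturality {K K' : Dual.D A} (f : K ⟶ K') (L M : Dual.D A) :
    ((LTen A).obj ((RHomR A L).obj M)).map f ≫ evalHom K' L M =
      evalHom K L M ≫ (rhomRhom L M).map f := by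
  have hL : (LTen₂ A).map (Prod.mkHom ((LTen₂ A).map (Prod.mkHom (𝟙 ((RHomR A L).obj M)) f) ≫
      evalHom K' L M) (𝟙 ((RHomR A K').obj L))) ≫ ev ((RHomR A K').obj L) M =
      (LTen₂ A).map (Prod.mkHom ((LTen₂ A).map (Prod.mkHom (𝟙 ((RHomR A L).obj M)) f))
        (𝟙 ((RHomR A K').obj L))) ≫ evalHomAux K' L M := by
    rw [← evalHom_fac, ← Category.assoc, mk_comp_mk, Category.comp_id]
  have hR : (LTen₂ A).map (Prod.mkHom (evalHom K L M ≫ RHomMap (RHomMap f L) M)
      (𝟙 ((RHomR A K').obj L))) ≫ ev ((RHomR A K').obj L) M =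
      (LTen₂ A).map (Prod.mkHom (𝟙 ((LTen₂ A).obj ((RHomR A L).obj M, K))) (RHomMap f L)) ≫
        evalHomAux K L M := by
    have h2 := RHom_map_ev (RHomMap f L) M
    have h3 := evalHom_fac K L M
    have h1 : (LTen₂ A).map (Prod.mkHom (evalHom K L M ≫ RHomMap (RHomMap f L) M)
        (𝟙 ((RHomR A K').obj L))) =
        (LTen₂ A).map (Prod.mkHom (evalHom K L M) (𝟙 ((RHomR A K').obj L))) ≫
          (LTen₂ A).map (Prod.mkHom (RHomMap (RHomMap f L) M) (𝟙 ((RHomR A K').obj L))) := by
      rw [mk_comp_mk, Category.comp_id]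
    rw [h1, Category.assoc, h2, ← h3, ← Category.assoc, ← Category.assoc, mk_comp_mk, mk_comp_mk,
      Category.comp_id, Category.id_comp, Category.comp_id, Category.id_comp]
  apply ((rhomAdj A ((RHomR A K').obj L)).homEquiv _ _).symm.injective
  refine Eq.trans (Adjunction.homEquiv_counit _ _ _ _) (Eq.trans ?_ (Adjunction.homEquiv_counit _ _ _ _).symm)
  exact hL.trans ((evalHomAux_naturality f L M).trans hR.symm)

/-- The family `Hom(N, RHom(L,M) ⊗ K) → Hom(N, RHom(RHom(K,L),M))`. -/
noncomputable def fam (N L M : Dual.D A) :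
    NatFamily ((LTen A).obj ((RHomR A L).obj M)) (rhomRhom L M) N N where
  θ K :=
    { toFun := fun g => g ≫ evalHom K L M
      map_zero' := zero_comp
      map_add' := fun g g' => Preadditive.add_comp _ _ _ _ _ _ }
  nat {K K'} f g := by
    change (g ≫ _) ≫ evalHom K' L M = (g ≫ evalHom K L M) ≫ _
    rw [Category.assoc, evalHom_naturality]
    exact (Category.assoc _ _ _).symm

lemma fam_θ_apply (N L M K : Dual.D A) (g : N ⟶ ((LTen A).obj ((RHomR A L).obj M)).obj K) :
    (fam N L M).θ K g = g ≫ evalHom K L M := rfl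

lemma isIso_evalHom_of_bijective (K L M : Dual.D A)
    (h : ∀ N : Dual.D A, Function.Bijective ((fam N L M).θ K)) : IsIso (evalHom K L M) := by
  rw [isIso_iff_yoneda_map_bijective]
  intro N
  exact h N

/-- the auxiliary map `g ↦ (g ⊗ 1) ≫ evalHomAux` -/
noncomputable def tau (N K L M : Dual.D A) (g : N ⟶ (LTen₂ A).obj ((RHomR A L).obj M, K)) :
    (LTen₂ A).obj (N, (RHomR A K).obj L) ⟶ M :=
  (LTen₂ A).map (Prod.mkHom g (𝟙 ((RHomR A K).obj L))) ≫ evalHomAux K L M

lemma θ_eq_tau (N K L M : Dual.D A) :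
    ((fam N L M).θ K : _ → _) =
      (fun t => (rhomAdj A ((RHomR A K).obj L)).homEquiv N M t) ∘ tau N K L M := by
  funext g
  change g ≫ evalHom K L M = (rhomAdj A ((RHomR A K).obj L)).homEquiv N M
    ((tensorRightD A ((RHomR A K).obj L)).map g ≫ evalHomAux K L M)
  rw [Adjunction.homEquiv_naturality_left]
  rfl

lemma bijective_precomp_iso' {C : Type*} [Category C] {X X' : C} (e : X ≅ X') (Y : C) :
    Function.Bijective (fun g : X' ⟶ Y => e.hom ≫ g) :=
  ⟨fun g g' h => (cancel_epi e.hom).1 h, fun h => ⟨e.inv ≫ h, by simp⟩⟩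

/-- Base case: `θ U` is bijective when `- ⊗ U` is an equivalence. -/
lemma bijective_θ_of_isEquivalence (U : Dual.D A) [(tensorRightD A U).IsEquivalence]
    (N L M : Dual.D A) : Function.Bijective ((fam N L M).θ U) := by
  rw [θ_eq_tau]
  refine ((rhomAdj A ((RHomR A U).obj L)).homEquiv N M).bijective.comp ?_
  let F := tensorRightD A U
  haveI : IsIso (ev U L) := inferInstanceAs (IsIso ((rhomAdj A U).counit.app L))
  let β : (LTen₂ A).obj (U, (RHomR A U).obj L) ≅ L :=
    braiding ((RHomR A U).obj L) U ≪≫ asIso (ev U L)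
  -- first for `N = F N'`
  have step1 : ∀ N' : Dual.D A, Function.Bijective (tau (F.obj N') U L M) := by
    intro N'
    have hF : Function.Bijective (F.map : (N' ⟶ (RHomR A L).obj M) → _) :=
      (Functor.FullyFaithful.ofFullyFaithful F).map_bijective _ _
    let ι : (LTen₂ A).obj ((LTen₂ A).obj (N', U), (RHomR A U).obj L) ≅ (LTen₂ A).obj (N', L) :=
      associator N' U ((RHomR A U).obj L) ≪≫
        (LTen₂ A).mapIso (Iso.prod (Iso.refl N') β)
    have key : (fun g' : N' ⟶ (RHomR A L).obj M => tau (F.obj N') U L M (F.map g')) =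
        (fun t => ι.hom ≫ t) ∘ (fun g' => ((rhomAdj A L).homEquiv N' M).symm g') := by
      funext g'
      change (LTen₂ A).map (Prod.mkHom ((LTen₂ A).map (Prod.mkHom g' (𝟙 U)))
        (𝟙 ((RHomR A U).obj L))) ≫ evalHomAux U L M =
        ((associator N' U ((RHomR A U).obj L)).hom ≫
          (LTen₂ A).map (Prod.mkHom (𝟙 N') β.hom)) ≫
          ((rhomAdj A L).homEquiv N' M).symm g'
      rw [Adjunction.homEquiv_counit, tensorRightD_map', evalHomAux_eq, ← Category.assoc,
        Groth.Agent.Lib.DTenAssoc.associator_naturality g' (𝟙 U) (𝟙 _), map_id_id,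
        Category.assoc, Category.assoc]
      congr 1
      rw [← Category.assoc, ← Category.assoc, mk_comp_mk, mk_comp_mk, Category.comp_id,
        Category.id_comp, Category.id_comp, Category.comp_id]
      rfl
    have hcomp : Function.Bijective
        (fun g' : N' ⟶ (RHomR A L).obj M => tau (F.obj N') U L M (F.map g')) := by
      rw [key]
      exact (bijective_precomp_iso' ι _).comp ((rhomAdj A L).homEquiv N' M).symm.bijective
    exact (Function.Bijective.of_comp_iff _ hF).1 hcomp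
  -- general `N`
  let N' := F.objPreimage N
  let e : F.obj N' ≅ N := F.objObjPreimageIso N
  have key : tau N U L M =
      (fun t => (tensorRightD A ((RHomR A U).obj L)).map e.inv ≫ t) ∘ tau (F.obj N') U L M ∘
        (fun g => e.hom ≫ g) := by
    funext g
    change (LTen₂ A).map (Prod.mkHom g (𝟙 _)) ≫ evalHomAux U L M =
      (LTen₂ A).map (Prod.mkHom e.inv (𝟙 _)) ≫ (LTen₂ A).map (Prod.mkHom (e.hom ≫ g) (𝟙 _)) ≫
        evalHomAux U L M
    rw [← Category.assoc, mk_comp_mk, Iso.inv_hom_id_assoc, Category.comp_id]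
  rw [key]
  exact (bijective_precomp_iso' ((tensorRightD A ((RHomR A U).obj L)).mapIso e.symm) _).comp
    ((step1 N').comp (bijective_precomp_iso' e _))

lemma isEquivalence_tensorRightD_unit_shift (n : ℤ) :
    (tensorRightD A ((unit A)⟦n⟧)).IsEquivalence := by
  haveI := isEquivalence_tensorLeft_unit_shift (A := A) n
  exact Functor.isEquivalence_of_iso (braidNat ((unit A)⟦n⟧))

lemma good_unit (N L M : Dual.D A) : (fam N L M).Good (unit A) := by
  apply NatFamily.good_of_forall_shift
  intro n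
  haveI := isEquivalence_tensorRightD_unit_shift (A := A) n
  exact bijective_θ_of_isEquivalence _ N L M

/-- The objects `K` such that all `θ` are bijective on all shifts of `K`. -/
def P : ObjectProperty (Dual.D A) := fun K => ∀ N L M : Dual.D A, (fam N L M).Good K

instance : (P (A := A)).IsClosedUnderIsomorphisms where
  of_iso e h := fun N L M => (h N L M).of_iso _ e.symm

lemma P_unit : P (unit A) := fun N L M => good_unit N L M

lemma isIso_evalHom_of_P {K : Dual.D A} (hK : P K) (L M : Dual.D A) : IsIso (evalHom K L M) :=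
  isIso_evalHom_of_bijective K L M (fun N => (hK N L M).bijective)

theorem P_of_isPerfect (K : Dual.D A) (hK : DRing.IsPerfect A K) : P K := by
  obtain ⟨E, a, b, hE, hfp, ⟨e⟩⟩ := hK
  refine (P (A := A)).prop_of_iso e ?_
  refine Groth.Agent.Lib.DThick.prop_of_bounded_finite_projective (P (A := A)) ?_ ?_ ?_ ?_ E a b hE hfp
  · exact P_unit
  · intro K n h N L M
    exact (h N L M).shift _ n
  · intro T hT h1 h3 N L M
    exact NatFamily.Good.mid _ (weaklyExact_tensorLeft _) (weaklyExact_rhomRhom L M) T hT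
      (h1 N L M) (h3 N L M)
  · intro X Y _ h N L M
    exact (h N L M).of_biprod _

/-- `RHom(L, M) ⊗^L K ⟶ RHom(RHom(K, L), M)` is an isomorphism for `K` perfect. -/
theorem isIso_evalHom_of_isPerfect (K L M : Dual.D A) (hK : DRing.IsPerfect A K) :
    IsIso (evalHom K L M) :=
  isIso_evalHom_of_P (P_of_isPerfect K hK) L M

end Groth.Agent.Lib.EvalHomDev25
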