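import Groth.Agent.Lib.FiveLemmaTri35
import Groth.Agent.Lib.FinSupp31

/-!
# Natural families of maps of Hom groups and coproducts (helper35)

For a natural family `θ K : Hom(Z₁, Φ K) →+ Hom(Z₂, Ψ K)` (`FiveLemmaTri35.NatFamily`) between
functors `Φ Ψ` commuting with the coproduct of a family `X`, if `Z₁` (resp. `Z₂`) only has finitely
supported maps to `∐ Φ (X j)` (resp. `∐ Ψ (X j)`) and all `θ (X j)` are bijective, then `θ (∐ X)` is
bijective.
-/

set_option autoImplicit false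

open CategoryTheory CategoryTheory.Limits

namespace Groth.Agent.Lib.FiveLemmaCoprod35

open Groth.Agent.Lib.FiveLemmaTri35 Groth.Agent.FinSupp31

universe w' v₁ v₂ u₁ u₂

variable {C : Type u₁} {D : Type u₂} [Category.{v₁} C] [Category.{v₂} D] [Preadditive C]
  [Preadditive D]

section Decomp

variable (Φ : C ⥤ D) [Φ.PreservesZeroMorphisms] {J : Type w'} (X : J → C) [HasCoproduct X]
  [HasCoproduct (fun j => Φ.obj (X j))]

open Classical in
lemma sigmaComparison_map_π (j : J) :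
    sigmaComparison Φ X ≫ Φ.map (Sigma.π X j) = Sigma.π (fun j => Φ.obj (X j)) j := by
  apply Sigma.hom_ext
  intro k
  rw [ι_comp_sigmaComparison_assoc, ← Φ.map_comp]
  by_cases hkj : k = j
  · subst hkj
    rw [Sigma.ι_π_eq_id, Sigma.ι_π_eq_id, CategoryTheory.Functor.map_id]
  · rw [Sigma.ι_π_of_ne _ hkj, Sigma.ι_π_of_ne _ hkj, Functor.map_zero]

open Classical in
/-- finitely supported maps to `Φ (∐ X)` decompose -/
lemma decomp [IsIso (sigmaComparison Φ X)] {Z : D} (hZ : FinSupp (fun j => Φ.obj (X j)) Z)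
    (g : Z ⟶ Φ.obj (∐ X)) :
    ∃ s : Finset J, g = ∑ j ∈ s, (g ≫ Φ.map (Sigma.π X j)) ≫ Φ.map (Sigma.ι X j) := by
  obtain ⟨s, hs⟩ := hZ (g ≫ inv (sigmaComparison Φ X))
  refine ⟨s, ?_⟩
  rw [comp_e_eq_sum] at hs
  have h1 : g = (g ≫ inv (sigmaComparison Φ X)) ≫ sigmaComparison Φ X := by
    rw [Category.assoc, IsIso.inv_hom_id, Category.comp_id]
  conv_lhs => rw [h1, ← hs]
  rw [Preadditive.sum_comp]
  refine Finset.sum_congr rfl (fun j _ => ?_)
  rw [Category.assoc, ι_comp_sigmaComparison, ← sigmaComparison_map_π Φ X j]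
  simp only [Category.assoc, IsIso.inv_hom_id_assoc]

end Decomp

variable {Φ Ψ : C ⥤ D} {Z₁ Z₂ : D} (F : NatFamily Φ Ψ Z₁ Z₂)

/-- `θ` is bijective on a coproduct of objects on which it is bijective, provided `Z₁`, `Z₂` are
"compact relative to the family". -/
theorem bijective_coprod [Φ.PreservesZeroMorphisms] [Ψ.PreservesZeroMorphisms]
    {J : Type w'} (X : J → C) [HasCoproduct X]
    [HasCoproduct (fun j => Φ.obj (X j))] [HasCoproduct (fun j => Ψ.obj (X j))]
    [IsIso (sigmaComparison Φ X)] [IsIso (sigmaComparison Ψ X)]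
    (h₁ : FinSupp (fun j => Φ.obj (X j)) Z₁) (h₂ : FinSupp (fun j => Ψ.obj (X j)) Z₂)
    (hX : ∀ j, Function.Bijective (F.θ (X j))) : Function.Bijective (F.θ (∐ X)) := by
  classical
  constructor
  · rw [injective_iff_map_eq_zero]
    intro g hg
    obtain ⟨s, hs⟩ := decomp Φ X h₁ g
    have h0 : ∀ j, g ≫ Φ.map (Sigma.π X j) = 0 := by
      intro j
      apply (injective_iff_map_eq_zero _).1 (hX j).1
      rw [F.nat, hg, zero_comp]
    rw [hs]
    refine Finset.sum_eq_zero (fun j _ => ?_)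
    rw [h0 j, zero_comp]
  · intro h
    obtain ⟨s, hs⟩ := decomp Ψ X h₂ h
    choose g' hg' using fun j => (hX j).2 (h ≫ Ψ.map (Sigma.π X j))
    refine ⟨∑ j ∈ s, g' j ≫ Φ.map (Sigma.ι X j), ?_⟩
    rw [map_sum]
    conv_rhs => rw [hs]
    refine Finset.sum_congr rfl (fun j _ => ?_)
    rw [F.nat, hg']

end Groth.Agent.Lib.FiveLemmaCoprod35
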