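import Groth.Agent.Lib.CompactPerf35
import Groth.Agent.S7881

/-!
# `R[0]` generates `D(R)` (helper35)

* `generates_S` : an object `K` of `D(R)` with `Hom(R[0], K⟦n⟧) = 0` for all `n` is zero
  (`CohDer.Generates`), by `LocGen35.prop_of_localizing`.
* `isIso_of_bijective_shift` : a morphism `f` of `D(R)` such that `Hom(R[0]⟦n⟧, f)` is bijective for
  all `n` is an isomorphism.
-/

set_option autoImplicit false

universe w u

open CategoryTheory CategoryTheory.Limits CategoryTheory.Pretriangulated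

namespace Groth.Agent.Lib.GenUnit35

open DerivedCategory Groth.Agent.Lib.CompactPerf35

variable {R : Type u} [CommRing R] [HasDerivedCategory.{w} (ModuleCat.{u} R)]


/-- the object `R[0]` of `D(R)` -/
noncomputable abbrev U (R : Type u) [CommRing R] [HasDerivedCategory.{w} (ModuleCat.{u} R)] :
    DerivedCategory (ModuleCat.{u} R) := Q.obj (S R 0)

/-- maps `U⟦k⟧ ⟶ K⟦n⟧` vanish if all maps `U ⟶ K⟦n'⟧` do -/
lemma eq_zero_of_shift (K : (DerivedCategory (ModuleCat.{u} R))) (hK : ∀ (n : ℤ) (f : U R ⟶ K⟦n⟧), f = 0) (k n : ℤ)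
    (g : (U R)⟦k⟧ ⟶ K⟦n⟧) : g = 0 := by
  apply (shiftFunctor (DerivedCategory (ModuleCat.{u} R)) (-k)).map_injective
  rw [Functor.map_zero]
  have h := hK (n - k) ((shiftFunctorCompIsoId (DerivedCategory (ModuleCat.{u} R)) k (-k) (by omega)).inv.app (U R) ≫ g⟦-k⟧' ≫
    (shiftFunctorAdd' (DerivedCategory (ModuleCat.{u} R)) n (-k) (n - k) (by omega)).inv.app K)
  rw [← cancel_epi ((shiftFunctorCompIsoId (DerivedCategory (ModuleCat.{u} R)) k (-k) (by omega)).inv.app (U R)),
    ← cancel_mono ((shiftFunctorAdd' (DerivedCategory (ModuleCat.{u} R)) n (-k) (n - k) (by omega)).inv.app K)]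
  rw [Category.assoc, h, comp_zero, zero_comp]

variable (R) in
/-- the property "no nonzero maps to any shift of `K` from any shift" -/
def NoMaps (K : (DerivedCategory (ModuleCat.{u} R))) : ObjectProperty (DerivedCategory (ModuleCat.{u} R)) := fun N => ∀ (m n : ℤ) (g : N⟦m⟧ ⟶ K⟦n⟧), g = 0

instance (K : (DerivedCategory (ModuleCat.{u} R))) : (NoMaps R K).IsClosedUnderIsomorphisms where
  of_iso {N N'} e h := fun m n g => by
    have := h m n ((shiftFunctor (DerivedCategory (ModuleCat.{u} R)) m).map e.hom ≫ g)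
    rw [← cancel_epi ((shiftFunctor (DerivedCategory (ModuleCat.{u} R)) m).map e.hom), this, comp_zero]

/-- `R[0]` generates `D(R)`. -/
theorem generates_S : CohDer.Generates (fun _ : PUnit.{w + 1} => U R) := by
  intro K hK
  have hK' : ∀ (n : ℤ) (f : U R ⟶ K⟦n⟧), f = 0 := fun n f => hK PUnit.unit n f
  have key : NoMaps R K K := by
    refine Groth.Agent.Lib.LocGen35.prop_of_localizing (NoMaps R K) ?_ ?_ ?_ ?_ K
    · -- shifts of `R`
      intro p m n g
      let a : (U R)⟦-p⟧ ≅ Q.obj (S R p) :=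
        ((DerivedCategory.singleFunctors (ModuleCat.{u} R)).shiftIso (-p) p 0 (by omega)).app
          (ModuleCat.of R R)
      let b : (U R)⟦-p + m⟧ ≅ (Q.obj (S R p))⟦m⟧ :=
        (shiftFunctorAdd (DerivedCategory (ModuleCat.{u} R)) (-p) m).app (U R) ≪≫ (shiftFunctor (DerivedCategory (ModuleCat.{u} R)) m).mapIso a
      have := eq_zero_of_shift K hK' (-p + m) n (b.hom ≫ g)
      rw [← cancel_epi b.hom, this, comp_zero]
    · -- cones
      intro T hT h₁ h₂ m n g
      have hT' := Triangle.shift_distinguished T hT m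
      have h0 : ((shiftFunctor (Triangle (DerivedCategory (ModuleCat.{u} R))) m).obj T).mor₂ ≫ g = 0 := by
        have := h₂ m n (((shiftFunctor (Triangle (DerivedCategory (ModuleCat.{u} R))) m).obj T).mor₂ ≫ g)
        exact this
      obtain ⟨g', hg'⟩ := Triangle.yoneda_exact₃ _ hT' g h0
      have hg0 : g' = 0 := by
        have h3 := h₁ (m + 1) n ((shiftFunctorAdd (DerivedCategory (ModuleCat.{u} R)) m 1).hom.app T.obj₁ ≫ g')
        have h4 : (shiftFunctorAdd (DerivedCategory (ModuleCat.{u} R)) m 1).inv.app T.obj₁ ≫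
            ((shiftFunctorAdd (DerivedCategory (ModuleCat.{u} R)) m 1).hom.app T.obj₁ ≫ g') = g' := by
          rw [← Category.assoc, Iso.inv_hom_id_app]
          exact Category.id_comp _
        rw [← h4, h3]
        exact comp_zero
      rw [hg', hg0]
      exact comp_zero
    · -- coproducts
      intro J X c hc hX m n g
      have hc' := isColimitOfPreserves (shiftFunctor (DerivedCategory (ModuleCat.{u} R)) m) hc
      refine hc'.hom_ext (fun j => ?_)
      rw [comp_zero]
      exact hX j.as m n _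
    · intro X c hc hX m n g
      have hc' := isColimitOfPreserves (shiftFunctor (DerivedCategory (ModuleCat.{u} R)) m) hc
      refine hc'.hom_ext (fun j => ?_)
      rw [comp_zero]
      exact hX j.as m n _
  have h0 : 𝟙 (K⟦(0 : ℤ)⟧) = 0 := key 0 0 (𝟙 _)
  have hz : IsZero (K⟦(0 : ℤ)⟧) := (IsZero.iff_id_eq_zero _).2 h0
  exact hz.of_iso ((shiftFunctorZero (DerivedCategory (ModuleCat.{u} R)) ℤ).app K).symm

/-- A morphism of `D(R)` inducing bijections on `Hom(R[0]⟦n⟧, -)` for all `n` is an isomorphism. -/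
theorem isIso_of_bijective_shift {X Y : (DerivedCategory (ModuleCat.{u} R))} (f : X ⟶ Y)
    (h : ∀ n : ℤ, Function.Bijective (fun g : (U R)⟦n⟧ ⟶ X => g ≫ f)) : IsIso f := by
  rw [Groth.Agent.S7881.result (fun _ : PUnit.{w + 1} => U R) generates_S f]
  intro _ n
  -- transport along `Hom(U, X⟦n⟧) ≃ Hom(U⟦-n⟧, X)`
  let β : ∀ Z : (DerivedCategory (ModuleCat.{u} R)), (U R ⟶ Z⟦n⟧) → ((U R)⟦-n⟧ ⟶ Z) := fun Z g =>
    g⟦-n⟧' ≫ (shiftFunctorCompIsoId (DerivedCategory (ModuleCat.{u} R)) n (-n) (by omega)).hom.app Z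
  have hβ : ∀ Z : (DerivedCategory (ModuleCat.{u} R)), Function.Bijective (β Z) := by
    intro Z
    constructor
    · intro g g' hgg
      have h1 : g⟦-n⟧' = g'⟦-n⟧' := by
        rw [← cancel_mono ((shiftFunctorCompIsoId (DerivedCategory (ModuleCat.{u} R)) n (-n) (by omega)).hom.app Z)]
        exact hgg
      exact (shiftFunctor (DerivedCategory (ModuleCat.{u} R)) (-n)).map_injective h1
    · intro t
      obtain ⟨g, hg⟩ := (shiftFunctor (DerivedCategory (ModuleCat.{u} R)) (-n)).map_surjective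
        (t ≫ (shiftFunctorCompIsoId (DerivedCategory (ModuleCat.{u} R)) n (-n) (by omega)).inv.app Z)
      refine ⟨g, ?_⟩
      change g⟦-n⟧' ≫ _ = t
      rw [hg, Category.assoc, Iso.inv_hom_id_app]
      exact Category.comp_id _
  have hnat : ∀ g : U R ⟶ X⟦n⟧, β Y (g ≫ f⟦n⟧') = β X g ≫ f := by
    intro g
    change (g ≫ f⟦n⟧')⟦-n⟧' ≫ _ = (g⟦-n⟧' ≫ _) ≫ f
    rw [Functor.map_comp, Category.assoc, Category.assoc]
    congr 1
    exact (shiftFunctorCompIsoId (DerivedCategory (ModuleCat.{u} R)) n (-n) (by omega)).hom.naturality f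
  have hcomp : (β Y) ∘ (fun g : U R ⟶ X⟦n⟧ => g ≫ f⟦n⟧') =
      (fun g : (U R)⟦-n⟧ ⟶ X => g ≫ f) ∘ (β X) := by
    funext g
    exact hnat g
  have h2 : Function.Bijective ((β Y) ∘ (fun g : U R ⟶ X⟦n⟧ => g ≫ f⟦n⟧')) := by
    rw [hcomp]
    exact (h (-n)).comp (hβ X)
  exact (Function.Bijective.of_comp_iff' (hβ Y) _).1 h2

end Groth.Agent.Lib.GenUnit35
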