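import Groth.Agent.Lib.EvalTenDev35
import Groth.Agent.Lib.FiveLemmaCoprod35
import Groth.Agent.Lib.GenUnit35

/-!
# `evalTen K L M` is an isomorphism for `M` perfect (helper35)

Dévissage in the variable `K` over the whole of `D(A)` (`LocGen35.prop_of_localizing`), testing only
against the compact generators `A[n]`; perfectness of `M` is used through compactness of
`A[n] ⊗^L M ≅ M[n]`.
-/

set_option autoImplicit false
universe u

open CategoryTheory CategoryTheory.Limits Category MonoidalCategory Pretriangulated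

attribute [local instance] HasDerivedCategory.standard

namespace Groth.Agent.Lib.EvalTenDevM35

open DTen Groth.Agent.Lib.FiveLemmaTri35 Groth.Agent.Lib.EvalTenDev35 Groth.Agent.FinSupp31
  Groth.Agent.Lib.CompactPerf35

variable {A : Type u} [CommRing A] [HasLTen A] [HasLTen₃ A] [IsSymMonoidal A] [HasRHom A]

/-- Postcomposition with `evalTen K L M` on `Hom(N, -)` is bijective if `θ K` is. -/
lemma bijective_comp_evalTen (N K L M : Dual.D A)
    (h : Function.Bijective ((fam N L M).θ K)) :
    Function.Bijective (fun g : N ⟶ _ => g ≫ evalTen K L M) := by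
  have key : (fun g : N ⟶ _ => g ≫ evalTen K L M) =
      (fun t => (rhomAdj A M).homEquiv N _ t) ∘ (fam N L M).θ K := by
    funext g
    change g ≫ evalTen K L M = (rhomAdj A M).homEquiv N _ ((tensorRightD A M).map g ≫ evalTenAux K L M)
    rw [Adjunction.homEquiv_naturality_left]
    rfl
  rw [key]
  exact ((rhomAdj A M).homEquiv N _).bijective.comp h

/-- The objects `K` such that `θ` is bijective on all shifts of `K`, against all shifts of the unit. -/
def PM (L M : Dual.D A) : ObjectProperty (Dual.D A) := fun K =>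
  ∀ n : ℤ, (fam ((unit A)⟦n⟧) L M).Good K

instance (L M : Dual.D A) : (PM L M).IsClosedUnderIsomorphisms where
  of_iso e h := fun n => (h n).of_iso _ e.symm

/-- `A[n] ⊗^L M ≅ M[n]` -/
lemma nonempty_unit_shift_tensor (M : Dual.D A) (n : ℤ) :
    Nonempty ((tensorRightD A M).obj ((unit A)⟦n⟧) ≅ M⟦n⟧) := by
  obtain ⟨e⟩ := (weaklyExact_tensorRightD M).nonempty_shift_iso
    (isZero_tensorRightD _) (unit A) n
  exact ⟨e ≪≫ (shiftFunctor (Dual.D A) n).mapIso (leftUnitor M)⟩

section Coprod

variable {J : Type*} [HasColimitsOfShape (Discrete J) (ModuleCat.{u} A)]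
  [HasExactColimitsOfShape (Discrete J) (ModuleCat.{u} A)]

/-- closure of `PM` under coproducts, for `M` perfect -/
lemma PM_coprod (L M : Dual.D A) (hM : DRing.IsPerfect A M) (X : J → Dual.D A)
    (c : Cofan X) (hc : IsColimit c) (hX : ∀ j, PM L M (X j)) : PM L M c.pt := by
  intro n
  apply NatFamily.good_of_forall_shift
  intro m
  -- the shifted cofan
  let X' : J → Dual.D A := fun j => (X j)⟦m⟧
  have hc' : IsColimit (Cofan.mk (c.pt⟦m⟧) (fun j => (c.inj j)⟦m⟧')) :=
    (isColimitMapCoconeCofanMkEquiv (shiftFunctor (Dual.D A) m) X c.inj)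
      (isColimitOfPreserves (shiftFunctor (Dual.D A) m)
        (IsColimit.ofIsoColimit hc (Cofan.ext (Iso.refl _) (fun _ => by simp))))
  let φ : c.pt⟦m⟧ ≅ ∐ X' := hc'.coconePointUniqueUpToIso (colimit.isColimit _)
  refine (fam ((unit A)⟦n⟧) L M).bijective_of_iso φ ?_
  obtain ⟨E, a, b, hE, hfp, ⟨eM⟩⟩ := hM
  have hcM : CptAll J M :=
    (cptAll_of_bounded_finite_projective (J := J) E a b hE hfp).of_iso eM.symm
  obtain ⟨eN⟩ := nonempty_unit_shift_tensor M n
  refine Groth.Agent.Lib.FiveLemmaCoprod35.bijective_coprod (fam ((unit A)⟦n⟧) L M) X' ?_ ?_ ?_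
  · exact cptAll_single (J := J) n _
  · exact finSupp_of_iso_left _ eN (hcM n _)
  · intro j
    exact (hX j n) m _ ⟨Iso.refl _⟩

end Coprod

/-- every object satisfies `PM`, for `M` perfect -/
theorem PM_all (L M : Dual.D A) (hM : DRing.IsPerfect A M) (K : Dual.D A) : PM L M K := by
  refine Groth.Agent.Lib.LocGen35.prop_of_localizing (PM L M) ?_ ?_ ?_ ?_ K
  · intro p n
    let a : (unit A)⟦-p⟧ ≅ DerivedCategory.Q.obj (S A p) :=
      ((DerivedCategory.singleFunctors (ModuleCat.{u} A)).shiftIso (-p) p 0 (by omega)).app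
        (ModuleCat.of A A)
    exact (good_unit _ L M).of_iso_shift _ (-p) a.symm
  · intro T hT h₁ h₂ n
    exact NatFamily.Good.mid _ (weaklyExact_tensorRightD _) (weaklyExact_tensorRightD _) T.rotate
      (rot_of_distTriang _ hT) (h₂ n) ((h₁ n).shift _ 1)
  · intro J X c hc hX
    exact PM_coprod L M hM X c hc hX
  · intro X c hc hX
    exact PM_coprod L M hM X c hc hX

/-- `K ⊗^L RHom(M, L) ⟶ RHom(M, K ⊗^L L)` is an isomorphism for `M` perfect. -/
theorem isIso_evalTen_of_isPerfect_source (K L M : Dual.D A) (hM : DRing.IsPerfect A M) :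
    IsIso (evalTen K L M) := by
  apply Groth.Agent.Lib.GenUnit35.isIso_of_bijective_shift
  intro n
  exact bijective_comp_evalTen ((unit A)⟦n⟧) K L M ((PM_all L M hM K n).bijective)

end Groth.Agent.Lib.EvalTenDevM35
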