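import Mathlib
import Groth.Agent.Lib.DerivedLES

set_option autoImplicit false
universe u v w

open CategoryTheory CategoryTheory.Limits

namespace Groth.Agent.Lib.ExactDer23

variable {A : Type u} {B : Type v} [Category.{w} A] [Category.{w} B] [Abelian A] [Abelian B]
  [HasInjectiveResolutions A]

/-- If `Φ` is left exact, `C` is exact and `R¹Φ(ker C.f) = 0`, then `Φ(C)` is exact. -/
theorem exact_map_of_isZero_rightDerived (Φ : A ⥤ B) [Φ.Additive] [PreservesFiniteLimits Φ]
    (C : ShortComplex A) (hC : C.Exact) (h : IsZero ((Φ.rightDerived 1).obj (kernel C.f))) :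
    (C.map Φ).Exact := by
  -- the coimage factorisation
  let π : C.X₁ ⟶ Abelian.coimage C.f := Abelian.coimage.π C.f
  let ι : Abelian.coimage C.f ⟶ C.X₂ := Abelian.factorThruCoimage C.f
  have hπι : π ≫ ι = C.f := Abelian.coimage.fac C.f
  have hιg : ι ≫ C.g = 0 := by
    rw [← cancel_epi π, ← Category.assoc, hπι, C.zero, comp_zero]
  let C₂ : ShortComplex A := ShortComplex.mk ι C.g hιg
  let φ : C ⟶ C₂ := { τ₁ := π, τ₂ := 𝟙 _, τ₃ := 𝟙 _, comm₁₂ := by simp [C₂, hπι], comm₂₃ := by simp [C₂] }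
  have hC₂ : C₂.Exact := by
    have : Epi φ.τ₁ := inferInstanceAs (Epi (Abelian.coimage.π C.f))
    have : IsIso φ.τ₂ := inferInstanceAs (IsIso (𝟙 _))
    have : Mono φ.τ₃ := inferInstanceAs (Mono (𝟙 _))
    exact (ShortComplex.exact_iff_of_epi_of_isIso_of_mono φ).1 hC
  have : Mono C₂.f := inferInstanceAs (Mono (Abelian.factorThruCoimage C.f))
  have hC₂Φ : (C₂.map Φ).Exact := hC₂.map_of_mono_of_preservesKernel Φ inferInstance inferInstance
  -- the short exact sequence 0 → ker f → X₁ → coim f → 0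
  let S : ShortComplex A := ShortComplex.mk (kernel.ι C.f) π (by simp [π])
  have hS : S.ShortExact := by
    have h1 : Mono S.f := inferInstanceAs (Mono (kernel.ι C.f))
    have h2 : Epi S.g := inferInstanceAs (Epi (Abelian.coimage.π C.f))
    exact ShortComplex.ShortExact.mk' (ShortComplex.exact_of_g_is_cokernel S (cokernelIsCokernel (kernel.ι C.f))) h1 h2
  have hex := (Groth.Agent.Lib.DerivedLES.derivedLES Φ).exact₃ S hS 0 1 rfl
  have hepi0 : Epi ((Φ.rightDerived 0).map π) := by
    have := hex.epi_f (h.eq_of_tgt _ _)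
    exact this
  have hepi : Epi (Φ.map π) := by
    have hnat := (Φ.rightDerivedZeroIsoSelf).hom.naturality π
    have : Φ.map π = (Φ.rightDerivedZeroIsoSelf).inv.app _ ≫ (Φ.rightDerived 0).map π ≫
        (Φ.rightDerivedZeroIsoSelf).hom.app _ := by
      rw [hnat, ← Category.assoc, Iso.inv_hom_id_app, Category.id_comp]
    rw [this]
    infer_instance
  let ψ : C.map Φ ⟶ C₂.map Φ := Φ.mapShortComplex.map φ
  have : Epi ψ.τ₁ := hepi
  have : IsIso ψ.τ₂ := by
    change IsIso (Φ.map (𝟙 _)); infer_instance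
  have : Mono ψ.τ₃ := by
    change Mono (Φ.map (𝟙 _)); infer_instance
  exact (ShortComplex.exact_iff_of_epi_of_isIso_of_mono ψ).2 hC₂Φ

end Groth.Agent.Lib.ExactDer23
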