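import Groth.Prelude.Def_Exal
import Mathlib.RingTheory.Ideal.Maps
import Mathlib.RingTheory.Ideal.Operations

/-!
# The extension attached to a surjection with square-zero kernel

For a surjective `A`-algebra map `p : E → B` whose kernel has square zero (elementwise:
`p x = 0 → p y = 0 → x * y = 0`), the kernel is a `B`-module (`kerModule`) and `E` is an
`A`-extension of `B` by it (`ofSqZero`), in the sense of `Exal.Ext`.
-/

set_option autoImplicit false
universe u v

namespace Groth.Agent.Lib.ExalSqZero

variable {A : Type u} {B E : Type v} [CommRing A] [CommRing B] [Algebra A B] [CommRing E] [Algebra A E]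

theorem sqZero_of_ker_sq {p : E →ₐ[A] B} (h : RingHom.ker p ^ 2 = ⊥) :
    ∀ x y : E, p x = 0 → p y = 0 → x * y = 0 := by
  intro x y hx hy
  have : x * y ∈ RingHom.ker p ^ 2 := by
    rw [pow_two]
    exact Ideal.mul_mem_mul hx hy
  rwa [h] at this

theorem mul_eq_mul_of_proj_eq (p : E →ₐ[A] B) (hK : ∀ x y : E, p x = 0 → p y = 0 → x * y = 0)
    {x y : E} (h : p x = p y) {z : E} (hz : p z = 0) : x * z = y * z := by
  have h1 : p (x - y) = 0 := by rw [map_sub, h, sub_self]
  have := hK (x - y) z h1 hz
  rwa [sub_mul, sub_eq_zero] at this

/-- The kernel of a surjection with square-zero kernel is a module over the target. -/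
@[instance_reducible]
noncomputable def kerModule (p : E →ₐ[A] B) (hp : Function.Surjective p)
    (hK : ∀ x y : E, p x = 0 → p y = 0 → x * y = 0) : Module B (RingHom.ker p) where
  smul b z := ⟨Function.surjInv hp b * z.1, Ideal.mul_mem_left _ _ z.2⟩
  one_smul z := by
    apply Subtype.ext
    show Function.surjInv hp 1 * z.1 = z.1
    have := mul_eq_mul_of_proj_eq p hK (x := Function.surjInv hp 1) (y := 1)
      (by rw [Function.surjInv_eq hp, map_one]) z.2
    rw [this, one_mul]
  mul_smul b b' z := by
    apply Subtype.ext
    show Function.surjInv hp (b * b') * z.1 = Function.surjInv hp b * (Function.surjInv hp b' * z.1)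
    rw [← mul_assoc]
    exact mul_eq_mul_of_proj_eq p hK
      (by rw [Function.surjInv_eq hp, map_mul, Function.surjInv_eq hp, Function.surjInv_eq hp]) z.2
  smul_zero b := by
    apply Subtype.ext
    show Function.surjInv hp b * (0 : E) = 0
    rw [mul_zero]
  smul_add b z z' := by
    apply Subtype.ext
    show Function.surjInv hp b * (z.1 + z'.1) = Function.surjInv hp b * z.1 + Function.surjInv hp b * z'.1
    rw [mul_add]
  add_smul b b' z := by
    apply Subtype.ext
    show Function.surjInv hp (b + b') * z.1 = Function.surjInv hp b * z.1 + Function.surjInv hp b' * z.1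
    rw [← add_mul]
    exact mul_eq_mul_of_proj_eq p hK
      (by rw [Function.surjInv_eq hp, map_add, Function.surjInv_eq hp, Function.surjInv_eq hp]) z.2
  zero_smul z := by
    apply Subtype.ext
    show Function.surjInv hp 0 * z.1 = 0
    have := mul_eq_mul_of_proj_eq p hK (x := Function.surjInv hp 0) (y := 0)
      (by rw [Function.surjInv_eq hp, map_zero]) z.2
    rw [this, zero_mul]

theorem kerModule_smul_coe (p : E →ₐ[A] B) (hp : Function.Surjective p)
    (hK : ∀ x y : E, p x = 0 → p y = 0 → x * y = 0) (x : E) (z : RingHom.ker p) :
    ((letI := kerModule p hp hK; p x • z : RingHom.ker p) : E) = x * z.1 := by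
  show Function.surjInv hp (p x) * z.1 = x * z.1
  exact mul_eq_mul_of_proj_eq p hK (Function.surjInv_eq hp _) z.2

/-- A surjection with square-zero kernel, as an extension of its target by its kernel. -/
noncomputable def ofSqZero (p : E →ₐ[A] B) (hp : Function.Surjective p)
    (hK : ∀ x y : E, p x = 0 → p y = 0 → x * y = 0) :
    @Exal.Ext A B (RingHom.ker p) _ _ _ _ (kerModule p hp hK) :=
  letI := kerModule p hp hK
  { E := E
    proj := p
    incl := (RingHom.ker p).subtype.toAddMonoidHom
    isExtension :=
      { proj_surjective := hp
        incl_injective := Subtype.val_injective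
        exact := fun x => by
          constructor
          · intro hx
            exact ⟨⟨x, hx⟩, rfl⟩
          · rintro ⟨z, rfl⟩
            exact z.2
        mul_incl := fun x z => (kerModule_smul_coe p hp hK x z).symm } }

end Groth.Agent.Lib.ExalSqZero
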