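import Mathlib
import Groth.Agent.Lib.ExalY

set_option autoImplicit false
set_option linter.unusedSectionVars false
universe u

namespace Groth.Agent.Lib.ExalTransfer

open Groth.Agent.Lib.ExalY

attribute [local instance] Exal.opModule Exal.isCentralScalar_opModule

variable {A A' B B' R R' M : Type u} [CommRing A] [CommRing A'] [CommRing B] [CommRing B'] [CommRing R]
  [CommRing R']
  [Algebra A R] [Algebra R B] [Algebra A B] [IsScalarTower A R B]
  [Algebra A' R'] [Algebra R' B'] [Algebra A' B'] [IsScalarTower A' R' B']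
  [AddCommGroup M] [Module B' M] [Module R' M] [IsScalarTower R' B' M] [Module A' M]
  [IsScalarTower A' R' M] [IsScalarTower A' B' M]
  (α : A →+* A') (β : B →+* B') (f : R →+* R')
  (hα : Function.Surjective α) (hβ : Function.Surjective β)
  (hfA : ∀ a, f (algebraMap A R a) = algebraMap A' R' (α a))
  (hfB : ∀ r, algebraMap R' B' (f r) = β (algebraMap R B r))
  (hkerβ : ∀ b, β b = 0 → ∃ a b₁, α a = 0 ∧ b = algebraMap A B a * b₁)
  (hπ : Function.Surjective (algebraMap R B)) (hπ' : Function.Surjective (algebraMap R' B'))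
  (v' : I R' B' →ₗ[R'] M)
  (D : R →+ M) (hD_mul : ∀ x y, D (x * y) = f x • D y + f y • D x)
  (hD_A : ∀ a, D (algebraMap A R a) = 0)
  (hDv : ∀ (x : R) (y : I R' B'), algebraMap R B x = 0 → (y : R') = f x → D x = v' y)

/-- `R → R' ⊕ M`, `r ↦ (f r, -D r)`. -/
def theta : R →+* TrivSqZeroExt R' M where
  toFun r := TrivSqZeroExt.inl (f r) + TrivSqZeroExt.inr (-(D r))
  map_one' := by
    have : D 1 = 0 := by rw [← map_one (algebraMap A R), hD_A]
    rw [map_one, this, neg_zero, TrivSqZeroExt.inr_zero, add_zero]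
    rfl
  map_mul' x y := by
    apply TrivSqZeroExt.ext
    · simp
    · simp only [TrivSqZeroExt.snd_add, TrivSqZeroExt.snd_inl, TrivSqZeroExt.snd_inr, zero_add,
        TrivSqZeroExt.snd_mul, TrivSqZeroExt.fst_add, TrivSqZeroExt.fst_inl, TrivSqZeroExt.fst_inr, add_zero,
        op_smul_eq_smul, smul_neg, hD_mul]
      abel
  map_zero' := by simp
  map_add' x y := by
    apply TrivSqZeroExt.ext
    · simp
    · simp only [map_add, neg_add, TrivSqZeroExt.snd_add, TrivSqZeroExt.snd_inl, TrivSqZeroExt.snd_inr]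
      abel

theorem theta_fst (r : R) : (theta (A := A) f D hD_mul hD_A r).fst = f r := by
  simp [theta]

theorem theta_snd (r : R) : (theta (A := A) f D hD_mul hD_A r).snd = -(D r) := by
  simp [theta]

include hα hβ hfA hfB hkerβ hπ hπ' hDv hD_mul hD_A in
theorem exists_derivation : ∃ D' : Derivation A' R' M, ∀ x : I R' B', v' x = D' x := by
  refine exists_der_of_isTrivial (A := A') hπ' v' ?_
  -- the ring hom `R → EV v'`
  let θ : R →+* EV v' := (EV.mk v').comp (theta (A := A) f D hD_mul hD_A)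
  have hθker : RingHom.ker (algebraMap R B) ≤ RingHom.ker θ := by
    intro x hx
    rw [RingHom.mem_ker] at hx ⊢
    change EV.mk v' (theta (A := A) f D hD_mul hD_A x) = 0
    rw [EV.mk_eq_zero, mem_Kv]
    have hfx : f x ∈ I R' B' := by
      change algebraMap R' B' (f x) = 0
      rw [hfB, hx, map_zero]
    refine ⟨⟨f x, hfx⟩, ?_, ?_⟩
    · rw [theta_fst]
    · rw [theta_snd, hDv x ⟨f x, hfx⟩ hx rfl]
  let σ₀ : B →+* EV v' := RingHom.liftOfSurjective (algebraMap R B) hπ ⟨θ, hθker⟩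
  have hσ₀ : ∀ r, σ₀ (algebraMap R B r) = θ r := fun r =>
    RingHom.liftOfRightInverse_comp_apply _ _ _ ⟨θ, hθker⟩ r
  have hσ₀A : ∀ a : A, σ₀ (algebraMap A B a) = algebraMap A' (EV v') (α a) := by
    intro a
    rw [IsScalarTower.algebraMap_apply A R B, hσ₀]
    change EV.mk v' (theta (A := A) f D hD_mul hD_A (algebraMap A R a)) = _
    rw [EV.algebraMap_apply]
    congr 1
    apply TrivSqZeroExt.ext
    · rw [theta_fst, hfA]; rfl
    · rw [theta_snd, hD_A, neg_zero]; rfl
  have hσ₀ker : RingHom.ker β ≤ RingHom.ker σ₀ := by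
    intro b hb
    rw [RingHom.mem_ker] at hb ⊢
    obtain ⟨a, b₁, ha, rfl⟩ := hkerβ b hb
    rw [map_mul, hσ₀A, ha, map_zero, zero_mul]
  let σ : B' →+* EV v' := RingHom.liftOfSurjective β hβ ⟨σ₀, hσ₀ker⟩
  have hσ : ∀ b, σ (β b) = σ₀ b := fun b =>
    RingHom.liftOfRightInverse_comp_apply _ _ _ ⟨σ₀, hσ₀ker⟩ b
  have hβA : ∀ a, β (algebraMap A B a) = algebraMap A' B' (α a) := by
    intro a
    rw [IsScalarTower.algebraMap_apply A R B, ← hfB, hfA, ← IsScalarTower.algebraMap_apply]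
  refine ⟨{ σ with commutes' := fun a' => ?_ }, fun b' => ?_⟩
  · obtain ⟨a, rfl⟩ := hα a'
    change σ (algebraMap A' B' (α a)) = _
    rw [← hβA, hσ, hσ₀A]
    rfl
  · obtain ⟨b, rfl⟩ := hβ b'
    obtain ⟨r, rfl⟩ := hπ b
    change EV.proj A' v' (σ (β (algebraMap R B r))) = _
    rw [hσ, hσ₀]
    change EV.proj A' v' (EV.mk v' (theta (A := A) f D hD_mul hD_A r)) = _
    rw [EV.proj_mk, theta_fst, hfB]

end Groth.Agent.Lib.ExalTransfer
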