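import Mathlib
import Groth.Agent.Lib.ExalTransfer
import Groth.Agent.Lib.ExalT1

set_option autoImplicit false
set_option linter.unusedSectionVars false
universe u
open scoped TensorProduct

namespace Groth.Agent.Lib.ExalTransfer

open Algebra Algebra.Extension Groth.Agent.Lib.ExalY Groth.Agent.Lib.ExalT1

variable {A B A' B' : Type u} [CommRing A] [CommRing B] [CommRing A'] [CommRing B']
  [Algebra A B] [Algebra A' B'] [Algebra A A'] [Algebra B B'] [Algebra A B']
  [IsScalarTower A A' B'] [IsScalarTower A B B']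

theorem exists_retract_up_to
    (hα : Function.Surjective (algebraMap A A')) (hβ : Function.Surjective (algebraMap B B'))
    (hkerβ : ∀ b, algebraMap B B' b = 0 → ∃ a b₁, algebraMap A A' a = 0 ∧ b = algebraMap A B a * b₁)
    (E : Extension.{u} A B) (E' : Extension.{u} A' B') (f : E.Hom E')
    (τ : A) (g : E.CotangentSpace →ₗ[B] E.Cotangent)
    (hg : ∀ c, g (E.cotangentComplex c) = algebraMap A B τ • c) :
    ∃ g' : E'.CotangentSpace →ₗ[B'] E'.Cotangent,
      ∀ c', g' (E'.cotangentComplex c') = algebraMap A B' τ • c' := by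
  let w : E.CotangentSpace →ₗ[B] E'.Cotangent := (Cotangent.map f) ∘ₗ g
  let D : E.Ring →+ E'.Cotangent :=
    { toFun := fun r => w ((1 : B) ⊗ₜ[E.Ring] KaehlerDifferential.D A E.Ring r)
      map_zero' := by rw [map_zero, TensorProduct.tmul_zero, map_zero]
      map_add' := fun x y => by rw [map_add, TensorProduct.tmul_add, map_add] }
  have hDapp : ∀ r, D r = w ((1 : B) ⊗ₜ[E.Ring] KaehlerDifferential.D A E.Ring r) := fun r => rfl
  have hsm : ∀ (x : E.Ring) (m : E'.Cotangent), algebraMap E.Ring B x • m = f.toRingHom x • m := by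
    intro x m
    rw [← algebraMap_smul B' (algebraMap E.Ring B x) m, ← f.algebraMap_toRingHom, algebraMap_smul]
  have hw : ∀ (x : E.Ring) (ω : Ω[E.Ring⁄A]), w ((1 : B) ⊗ₜ[E.Ring] (x • ω)) =
      algebraMap E.Ring B x • w ((1 : B) ⊗ₜ[E.Ring] ω) := by
    intro x ω
    rw [TensorProduct.tmul_smul, ← algebraMap_smul B x ((1 : B) ⊗ₜ[E.Ring] ω), map_smul]
  let τR' : E'.Ring := algebraMap A' E'.Ring (algebraMap A A' τ)
  let v' : I E'.Ring B' →ₗ[E'.Ring] E'.Cotangent := τR' • (Cotangent.mk : E'.ker →ₗ[E'.Ring] E'.Cotangent)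
  have hτ : ∀ m : E'.Cotangent, τR' • m = algebraMap A B' τ • m := by
    intro m
    rw [← algebraMap_smul B' τR' m]
    congr 1
    change algebraMap E'.Ring B' (algebraMap A' E'.Ring (algebraMap A A' τ)) = _
    rw [← IsScalarTower.algebraMap_apply A' E'.Ring B', ← IsScalarTower.algebraMap_apply A A' B']
  obtain ⟨D', hD'⟩ := exists_derivation (A := A) (A' := A') (B := B) (B' := B') (R := E.Ring) (R' := E'.Ring)
    (algebraMap A A') (algebraMap B B') f.toRingHom hα hβ
    (fun a => f.toRingHom_algebraMap a) (fun r => f.algebraMap_toRingHom r) hkerβ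
    E.algebraMap_surjective E'.algebraMap_surjective v' D
    (fun x y => by
      rw [hDapp, Derivation.leibniz, TensorProduct.tmul_add, map_add, hDapp, hDapp, ← hsm, ← hsm, hw, hw])
    (fun a => by rw [hDapp, Derivation.map_algebraMap, TensorProduct.tmul_zero, map_zero])
    (fun x y hx hy => by
      have hxk : x ∈ E.ker := hx
      have h1 : w ((1 : B) ⊗ₜ[E.Ring] KaehlerDifferential.D A E.Ring x) =
          Cotangent.map f (g (E.cotangentComplex (Cotangent.mk ⟨x, hxk⟩))) := rfl
      rw [hDapp, h1, hg, map_smul, Cotangent.map_mk]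
      change _ = τR' • Cotangent.mk y
      rw [hτ, ← algebraMap_smul B' (algebraMap A B τ), ← IsScalarTower.algebraMap_apply A B B']
      congr 2
      exact Subtype.ext hy.symm)
  have hmem : (algebraMap A B' τ • (LinearMap.id : E'.Cotangent →ₗ[B'] E'.Cotangent)) ∈
      LinearMap.range (LinearMap.lcomp B' E'.Cotangent E'.cotangentComplex) := by
    rw [mem_range_iff]
    refine ⟨D', fun x => ?_⟩
    rw [← hD' x]
    change algebraMap A B' τ • Cotangent.mk x = τR' • Cotangent.mk x
    rw [hτ]
  obtain ⟨g', hg'⟩ := hmem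
  exact ⟨g', fun c' => LinearMap.congr_fun hg' c'⟩

end Groth.Agent.Lib.ExalTransfer
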