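/-
helper14: for `R → R'` quasi-finite at `p'`: the local map `R_p → R'_{p'}` is essentially of finite type
(`essFiniteType_localRingHom`), has finite residue extension (`finite_residueField_localRingHom`) and
`𝔪 ⊆ rad(𝔪_{R_p} R'_{p'})` (`maximalIdeal_le_radical_localRingHom`).
-/
import Mathlib
import Groth.Agent.Lib.H14QFCompl3

set_option autoImplicit false
set_option linter.style.haveILetI false
set_option linter.unusedSectionVars false
universe u

namespace Groth.Agent.Lib.H14QFCompl

open IsLocalRing TensorProduct EGA4 Groth.Agent.Lib.H14GeomP

section qfat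

variable (R R' : Type u) [CommRing R] [CommRing R'] [Algebra R R']
  (p' : Ideal R') [p'.IsPrime]

theorem essFiniteType_localRingHom [Algebra.FiniteType R R'] :
    letI := (Localization.localRingHom (Ideal.comap (algebraMap R R') p') p' (algebraMap R R') rfl).toAlgebra
    Algebra.EssFiniteType (Localization.AtPrime (Ideal.comap (algebraMap R R') p'))
      (Localization.AtPrime p') := by
  letI := (Localization.localRingHom (Ideal.comap (algebraMap R R') p') p' (algebraMap R R') rfl).toAlgebra
  haveI := Groth.Agent.Lib.H14AdicLocal.isScalarTower_localRingHom R R' p'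
  haveI : Algebra.EssFiniteType R' (Localization.AtPrime p') :=
    Algebra.EssFiniteType.of_isLocalization _ p'.primeCompl
  haveI : Algebra.EssFiniteType R (Localization.AtPrime p') :=
    Algebra.EssFiniteType.comp R R' (Localization.AtPrime p')
  exact Algebra.EssFiniteType.of_comp R (Localization.AtPrime (Ideal.comap (algebraMap R R') p'))
    (Localization.AtPrime p')

theorem finite_residueField_localRingHom [Algebra.QuasiFiniteAt R p'] :
    letI := (Localization.localRingHom (Ideal.comap (algebraMap R R') p') p' (algebraMap R R') rfl).toAlgebra
    haveI := Groth.Agent.Lib.H14AdicLocal.isLocalHom_localRingHom R R' p'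
    Module.Finite (ResidueField (Localization.AtPrime (Ideal.comap (algebraMap R R') p')))
      (ResidueField (Localization.AtPrime p')) := by
  letI := (Localization.localRingHom (Ideal.comap (algebraMap R R') p') p' (algebraMap R R') rfl).toAlgebra
  haveI := Groth.Agent.Lib.H14AdicLocal.isLocalHom_localRingHom R R' p'
  haveI := Groth.Agent.Lib.H14AdicLocal.isScalarTower_localRingHom R R' p'
  haveI : Algebra.QuasiFinite R (Localization.AtPrime p') := inferInstance
  haveI : Algebra.QuasiFinite R (ResidueField (Localization.AtPrime p')) :=
    Algebra.QuasiFinite.trans R (Localization.AtPrime p') _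
  haveI : Algebra.QuasiFinite (ResidueField (Localization.AtPrime (Ideal.comap (algebraMap R R') p')))
      (ResidueField (Localization.AtPrime p')) :=
    Algebra.QuasiFinite.of_restrictScalars R _ _
  exact Module.Finite.of_quasiFinite

theorem maximalIdeal_le_radical_localRingHom [Algebra.QuasiFiniteAt R p'] :
    letI := (Localization.localRingHom (Ideal.comap (algebraMap R R') p') p' (algebraMap R R') rfl).toAlgebra
    maximalIdeal (Localization.AtPrime p') ≤
      ((maximalIdeal (Localization.AtPrime (Ideal.comap (algebraMap R R') p'))).map
        (algebraMap (Localization.AtPrime (Ideal.comap (algebraMap R R') p'))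
          (Localization.AtPrime p'))).radical := by
  letI := (Localization.localRingHom (Ideal.comap (algebraMap R R') p') p' (algebraMap R R') rfl).toAlgebra
  haveI := Groth.Agent.Lib.H14AdicLocal.isScalarTower_localRingHom R R' p'
  haveI : Algebra.QuasiFinite R (Localization.AtPrime p') := inferInstance
  rw [← Localization.AtPrime.map_eq_maximalIdeal (I := Ideal.comap (algebraMap R R') p'),
    Ideal.map_map, ← IsScalarTower.algebraMap_eq, Ideal.radical_eq_sInf]
  refine le_sInf (fun P' hP' => ?_)
  obtain ⟨hle, hprime⟩ := hP'
  haveI := hprime
  have h1 : P' ≤ maximalIdeal (Localization.AtPrime p') := IsLocalRing.le_maximalIdeal hprime.ne_top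
  have hunder : (maximalIdeal (Localization.AtPrime p')).under R = Ideal.comap (algebraMap R R') p' := by
    rw [Ideal.under_def, IsScalarTower.algebraMap_eq R R' (Localization.AtPrime p'), ← Ideal.comap_comap]
    congr 1
    exact IsLocalization.AtPrime.under_maximalIdeal (Localization.AtPrime p') p'
  have h2 : P'.under R = (maximalIdeal (Localization.AtPrime p')).under R := by
    refine le_antisymm (Ideal.comap_mono h1) ?_
    rw [hunder]
    intro x hx
    exact hle (Ideal.mem_map_of_mem _ hx)
  exact (Algebra.QuasiFinite.eq_of_le_of_under_eq (R := R) P' _ h1 h2).ge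

end qfat

end Groth.Agent.Lib.H14QFCompl
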