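import Mathlib
import Groth.Agent.S9289
import Groth.Prelude.Def_EGA4b

/-!
# A finite algebra over an excellent ring is excellent (helper61)

Uses helper14's `S9289` (formal fibres of quasi-finite localizations) for the G-ring part; the
universally catenary and J-2 parts are inherited since finite type algebras over a finite algebra
are of finite type over the base.
-/

set_option autoImplicit false
universe u

namespace Groth.Agent.Lib.ExcellentFinite61

theorem isGRing_of_finite (A B : Type u) [CommRing A] [CommRing B] [Algebra A B]
    [Module.Finite A B] (hA : CAlg.IsGRing A) : CAlg.IsGRing B := by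
  have hN : IsNoetherianRing A := hA.1
  have hNB : IsNoetherianRing B := Algebra.FiniteType.isNoetherianRing A B
  refine ⟨hNB, fun q hq => ?_⟩
  exact Groth.Agent.S9289.result A B q (hA.2 (q.comap (algebraMap A B)))

theorem isExcellent_of_finite (A B : Type u) [CommRing A] [CommRing B] [Algebra A B]
    [Module.Finite A B] (hA : EGA4.IsExcellent A) : EGA4.IsExcellent B := by
  obtain ⟨hN, hUC, hG, hJ⟩ := hA
  have hNB : IsNoetherianRing B := Algebra.FiniteType.isNoetherianRing A B
  refine ⟨hNB, ⟨hNB, ?_⟩, isGRing_of_finite A B hG, ?_⟩
  · intro T _ _ hT
    let _ : Algebra A T := ((algebraMap B T).comp (algebraMap A B)).toAlgebra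
    have : IsScalarTower A B T := IsScalarTower.of_algebraMap_eq (fun _ => rfl)
    exact hUC.2 T (Algebra.FiniteType.trans (inferInstance : Algebra.FiniteType A B) hT)
  · intro T _ _ hT
    let _ : Algebra A T := ((algebraMap B T).comp (algebraMap A B)).toAlgebra
    have : IsScalarTower A B T := IsScalarTower.of_algebraMap_eq (fun _ => rfl)
    exact hJ T (Algebra.FiniteType.trans (inferInstance : Algebra.FiniteType A B) hT)

end Groth.Agent.Lib.ExcellentFinite61
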