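import Mathlib

/-
Lib/ExpRat (helper70): if `exp(∑_{v≥1} F(q^v) t^v / v)` is a rational function of `t`, for
`F ∈ ℤ[X, X⁻¹, 1/(X^n - 1)]` and an integer `q > 1`, then `F` is a Laurent polynomial with integer
coefficients (statement S14193).  Purely algebraic proof:
* `logDeriv_rational`: the logarithmic derivative gives `(∑ c_{v+1} t^v) · W = M` with polynomials W ≠ 0, M.
* `recurrence`: hence a linear recurrence `∑_i e_i c_{m+i} = 0` for large m, `e_0 ≠ 0`.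
* `poly_identity`: hence the polynomial identity `∑_i e_i A(q^i X) ∏_{j≠i} B(q^j X) = 0`, F = A/B.
* `denom_eq_X_pow`: B | X^a (X^N-1)^e and coprimality of `X^N - 1` with `c X^N - 1` (c ≠ 1) force B = X^b.
* `pred_of_mem`: elements of the subring have the form A'/(X^a (X^N-1)^e), A' ∈ ℤ[X].
* `main`: the statement.
-/

set_option autoImplicit false

namespace Groth.Agent.Lib.ExpRat

section P1
open PowerSeries


/-- If `exp(∑_{v ≥ 1} c_v t^v / v) · Q = P` with `Q ≠ 0`, then `∑_v c_{v+1} t^v` times a nonzero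
polynomial is a polynomial. -/
theorem logDeriv_rational (c : ℕ → ℚ) (P Q : Polynomial ℚ) (hQ : Q ≠ 0)
    (h : (PowerSeries.exp ℚ).subst
        (PowerSeries.mk fun v : ℕ => if v = 0 then (0 : ℚ) else c v / (v : ℚ))
        * (Q : PowerSeries ℚ) = (P : PowerSeries ℚ)) :
    ∃ W M : Polynomial ℚ, W ≠ 0 ∧
      (PowerSeries.mk fun v : ℕ => c (v + 1)) * (W : PowerSeries ℚ) = (M : PowerSeries ℚ) := by
  set S : PowerSeries ℚ := PowerSeries.mk fun v : ℕ => if v = 0 then (0 : ℚ) else c v / (v : ℚ)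
    with hS
  have hS0 : constantCoeff S = 0 := by
    rw [hS, ← coeff_zero_eq_constantCoeff_apply, coeff_mk, if_pos rfl]
  have hsub : HasSubst S := HasSubst.of_constantCoeff_zero' hS0
  set E : PowerSeries ℚ := (PowerSeries.exp ℚ).subst S with hE
  have hE' : derivative ℚ E = E * derivative ℚ S := by
    rw [hE, derivative_subst hsub, derivative_exp]
  have hS' : derivative ℚ S = PowerSeries.mk fun v : ℕ => c (v + 1) := by
    ext n
    rw [coeff_derivative, hS, coeff_mk, coeff_mk, if_neg (Nat.succ_ne_zero n)]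
    have : ((n + 1 : ℕ) : ℚ) ≠ 0 := by positivity
    push_cast at this ⊢
    field_simp
  have hE0 : constantCoeff E = 1 := by
    have h1 : constantCoeff (subst S (exp ℚ - 1)) = 0 :=
      constantCoeff_subst_eq_zero hS0 _ (by simp)
    rw [subst_sub hsub, map_sub] at h1
    have h2 : subst S (1 : PowerSeries ℚ) = 1 := by rw [← coe_substAlgHom hsub, map_one]
    rw [h2, map_one] at h1
    exact sub_eq_zero.mp h1
  have hP : P ≠ 0 := by
    intro hP0
    rw [hP0, Polynomial.coe_zero] at h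
    have hQ' : (Q : PowerSeries ℚ) ≠ 0 := by
      intro h0; apply hQ; exact_mod_cast h0
    rcases mul_eq_zero.mp h with h1 | h1
    · rw [h1, map_zero] at hE0; exact zero_ne_one hE0
    · exact hQ' h1
  refine ⟨P * Q, Polynomial.derivative P * Q - P * Polynomial.derivative Q, mul_ne_zero hP hQ, ?_⟩
  have h2 := congrArg (derivative ℚ) h
  rw [Derivation.leibniz, smul_eq_mul, smul_eq_mul, hE', derivative_coe, derivative_coe] at h2
  rw [← hS']
  push_cast
  -- h : E * Q = P, h2 : E * Q' + Q * (E * S') = P'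
  linear_combination (↑Q : PowerSeries ℚ) * h2 - (derivative ℚ S * (↑Q : PowerSeries ℚ) +
    (↑(Polynomial.derivative Q) : PowerSeries ℚ)) * h




theorem recurrence (c : ℕ → ℚ) (W M : Polynomial ℚ) (hW : W ≠ 0)
    (h : (PowerSeries.mk fun v : ℕ => c (v + 1)) * (W : PowerSeries ℚ) = (M : PowerSeries ℚ)) :
    ∃ (d : ℕ) (e : ℕ → ℚ) (m₀ : ℕ), e 0 ≠ 0 ∧
      ∀ m, m₀ ≤ m → ∑ i ∈ Finset.range (d + 1), e i * c (m + i) = 0 := by
  refine ⟨W.natDegree, fun i => W.coeff (W.natDegree - i), M.natDegree + 2, ?_, ?_⟩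
  · simpa using hW
  · intro m hm
    obtain ⟨m₁, rfl⟩ : ∃ m₁, m = m₁ + 1 := ⟨m - 1, by omega⟩
    have h1 := congrArg (coeff (m₁ + W.natDegree)) h
    rw [mul_comm, coeff_mul, Polynomial.coeff_coe,
      Polynomial.coeff_eq_zero_of_natDegree_lt (by omega),
      Finset.Nat.sum_antidiagonal_eq_sum_range_succ
        (fun i j => coeff i (W : PowerSeries ℚ) * coeff j (PowerSeries.mk fun v : ℕ => c (v + 1)))] at h1
    have h2 : Finset.range (W.natDegree + 1) ⊆ Finset.range (m₁ + W.natDegree).succ := by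
      intro x hx
      rw [Finset.mem_range] at hx ⊢
      omega
    rw [← Finset.sum_subset h2] at h1
    · rw [← Finset.sum_range_reflect]
      rw [← h1]
      refine Finset.sum_congr rfl fun k hk => ?_
      rw [Finset.mem_range] at hk
      rw [Polynomial.coeff_coe, coeff_mk]
      have e1 : W.natDegree - (W.natDegree + 1 - 1 - k) = k := by omega
      have e2 : m₁ + 1 + (W.natDegree + 1 - 1 - k) = m₁ + W.natDegree - k + 1 := by omega
      show W.coeff (W.natDegree - (W.natDegree + 1 - 1 - k)) * c (m₁ + 1 + (W.natDegree + 1 - 1 - k)) = _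
      rw [e1, e2]
    · intro k _ hk
      rw [Finset.mem_range] at hk
      rw [Polynomial.coeff_coe, Polynomial.coeff_eq_zero_of_natDegree_lt (by omega), zero_mul]


end P1

section P3
open Polynomial


/-- scaling of the variable -/
noncomputable def sc (q : ℚ) (i : ℕ) (f : ℚ[X]) : ℚ[X] := f.comp (C (q ^ i) * X)

theorem eval_sc (q : ℚ) (i : ℕ) (f : ℚ[X]) (x : ℚ) : (sc q i f).eval x = f.eval (q ^ i * x) := by
  simp [sc, eval_comp]

theorem pow_injective_of_one_lt (q : ℚ) (hq : 1 < q) : Function.Injective fun v : ℕ => q ^ v :=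
  (pow_right_strictMono₀ hq).injective

theorem exists_forall_eval_ne_zero (q : ℚ) (hq : 1 < q) (B : ℚ[X]) (hB : B ≠ 0) :
    ∃ v₀ : ℕ, ∀ v, v₀ ≤ v → B.eval (q ^ v) ≠ 0 := by
  have h1 : {x | IsRoot B x}.Finite := Polynomial.finite_setOfPred_isRoot hB
  have h2 : {v : ℕ | IsRoot B (q ^ v)}.Finite :=
    Set.Finite.preimage (Set.injOn_of_injective (pow_injective_of_one_lt q hq)) h1
  obtain ⟨v₀, hv₀⟩ := h2.bddAbove
  refine ⟨v₀ + 1, fun v hv h0 => ?_⟩
  have := hv₀ (show v ∈ {v : ℕ | IsRoot B (q ^ v)} from h0)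
  omega

theorem poly_identity (q : ℚ) (hq : 1 < q) (A B : ℚ[X]) (hB : B ≠ 0) (d : ℕ) (e : ℕ → ℚ) (m₀ : ℕ)
    (hrec : ∀ m, m₀ ≤ m → ∑ i ∈ Finset.range (d + 1),
      e i * (A.eval (q ^ (m + i)) / B.eval (q ^ (m + i))) = 0) :
    ∑ i ∈ Finset.range (d + 1), C (e i) * sc q i A *
      ∏ j ∈ (Finset.range (d + 1)).erase i, sc q j B = 0 := by
  classical
  obtain ⟨v₀, hv₀⟩ := exists_forall_eval_ne_zero q hq B hB
  apply Polynomial.eq_zero_of_infinite_isRoot
  have hsub : Set.range (fun m : ℕ => q ^ (m + (m₀ + v₀))) ⊆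
      {x | IsRoot (∑ i ∈ Finset.range (d + 1), C (e i) * sc q i A *
        ∏ j ∈ (Finset.range (d + 1)).erase i, sc q j B) x} := by
    rintro _ ⟨m, rfl⟩
    show eval _ _ = 0
    have hne : ∀ j, B.eval (q ^ (m + (m₀ + v₀) + j)) ≠ 0 := fun j => hv₀ _ (by omega)
    have h1 := hrec (m + (m₀ + v₀)) (by omega)
    rw [eval_finsetSum]
    have h2 : ∀ i ∈ Finset.range (d + 1),
        eval (q ^ (m + (m₀ + v₀))) (C (e i) * sc q i A *
          ∏ j ∈ (Finset.range (d + 1)).erase i, sc q j B) =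
        (∏ j ∈ Finset.range (d + 1), B.eval (q ^ (m + (m₀ + v₀) + j))) *
          (e i * (A.eval (q ^ (m + (m₀ + v₀) + i)) / B.eval (q ^ (m + (m₀ + v₀) + i)))) := by
      intro i hi
      rw [← Finset.mul_prod_erase _ _ hi, eval_mul, eval_mul, eval_C, eval_sc, eval_prod]
      have h3 : ∀ j, eval (q ^ (m + (m₀ + v₀))) (sc q j B) = B.eval (q ^ (m + (m₀ + v₀) + j)) := by
        intro j
        rw [eval_sc, ← pow_add, add_comm j]
      rw [Finset.prod_congr rfl (fun j _ => h3 j), ← pow_add, add_comm i]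
      field_simp [hne i]
    rw [Finset.sum_congr rfl h2, ← Finset.mul_sum, h1, mul_zero]
  refine Set.Infinite.mono hsub (Set.infinite_range_of_injective ?_)
  intro a b hab
  have := pow_injective_of_one_lt q hq hab
  omega




theorem sc_zero (q : ℚ) (f : ℚ[X]) : sc q 0 f = f := by simp [sc]

theorem sc_mul (q : ℚ) (i : ℕ) (f g : ℚ[X]) : sc q i (f * g) = sc q i f * sc q i g := by
  simp [sc, mul_comp]

theorem sc_dvd (q : ℚ) (i : ℕ) {f g : ℚ[X]} (h : f ∣ g) : sc q i f ∣ sc q i g := by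
  obtain ⟨r, rfl⟩ := h
  rw [sc_mul]; exact Dvd.intro _ rfl

theorem sc_X_pow (q : ℚ) (i b : ℕ) : sc q i (X ^ b) = (C (q ^ i) * X) ^ b := by
  simp [sc]

theorem sc_cyclo (q : ℚ) (i N e : ℕ) :
    sc q i ((X ^ N - 1) ^ e) = (C (q ^ (i * N)) * X ^ N - 1) ^ e := by
  simp only [sc, pow_comp, sub_comp, X_comp, one_comp, mul_pow, ← C_pow, ← pow_mul]

theorem isCoprime_cyclo (c : ℚ) (hc : c ≠ 1) (N : ℕ) :
    IsCoprime (X ^ N - 1 : ℚ[X]) (C c * X ^ N - 1) := by
  have h1 : (1 - c) ≠ 0 := sub_ne_zero.mpr (Ne.symm hc)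
  refine ⟨C (c / (1 - c)), C (-1 / (1 - c)), ?_⟩
  have h2 : C (c / (1 - c)) * (X ^ N - 1) + C (-1 / (1 - c)) * (C c * X ^ N - 1) =
      C ((c / (1 - c)) * (-1) + (-1 / (1 - c)) * (-1)) +
      C ((c / (1 - c)) + (-1 / (1 - c)) * c) * X ^ N := by
    simp only [map_add, map_mul, map_neg, map_one]
    ring
  rw [h2]
  have h3 : (c / (1 - c)) * (-1) + (-1 / (1 - c)) * (-1) = 1 := by field_simp; ring
  have h4 : (c / (1 - c)) + (-1 / (1 - c)) * c = 0 := by field_simp; ring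
  rw [h3, h4]
  simp

theorem denom_eq_X_pow (q : ℚ) (hq : 1 < q) (A B : ℚ[X]) (hB : B.Monic) (hAB : IsCoprime A B)
    (a N e' : ℕ) (hN : 0 < N) (hBdvd : B ∣ X ^ a * (X ^ N - 1) ^ e')
    (d : ℕ) (e : ℕ → ℚ) (he0 : e 0 ≠ 0)
    (hΦ : ∑ i ∈ Finset.range (d + 1), C (e i) * sc q i A *
      ∏ j ∈ (Finset.range (d + 1)).erase i, sc q j B = 0) :
    ∃ b : ℕ, B = X ^ b := by
  classical
  have hB0 : B ≠ 0 := hB.ne_zero
  obtain ⟨B₁, hB₁, hXB₁⟩ := Polynomial.exists_eq_pow_rootMultiplicity_mul_and_not_dvd B hB0 0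
  rw [C_0, sub_zero] at hB₁ hXB₁
  set b := rootMultiplicity 0 B with hb
  have hcopX : IsCoprime B₁ X := ((Polynomial.irreducible_X).coprime_iff_not_dvd.mpr hXB₁).symm
  have hB₁B : B₁ ∣ B := Dvd.intro_left _ hB₁.symm
  have hB₁cyc : B₁ ∣ (X ^ N - 1) ^ e' :=
    (hcopX.pow_right).dvd_of_dvd_mul_left (hB₁B.trans hBdvd)
  -- coprimality with the scaled copies
  have hcop : ∀ j ∈ (Finset.range (d + 1)).erase 0, IsCoprime B₁ (sc q j B) := by
    intro j hj
    have hj0 : j ≠ 0 := (Finset.mem_erase.mp hj).1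
    have hc : q ^ (j * N) ≠ 1 := by
      have : 1 < q ^ (j * N) := one_lt_pow₀ hq (Nat.mul_ne_zero hj0 hN.ne')
      exact this.ne'
    have h1 : IsCoprime ((X ^ N - 1 : ℚ[X]) ^ e') ((C (q ^ (j * N)) * X ^ N - 1) ^ e') :=
      (isCoprime_cyclo _ hc N).pow
    have h2 : IsCoprime B₁ (sc q j B₁) := by
      have h5 : sc q j B₁ ∣ (C (q ^ (j * N)) * X ^ N - 1) ^ e' := by
        have := sc_dvd q j hB₁cyc
        rwa [sc_cyclo] at this
      exact (h1.of_isCoprime_of_dvd_left hB₁cyc).of_isCoprime_of_dvd_right h5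
    have h3 : IsCoprime B₁ (C (q ^ j) * X) := by
      have hu : IsUnit (C (q ^ j) : ℚ[X]) :=
        Polynomial.isUnit_C.mpr (isUnit_iff_ne_zero.mpr (pow_ne_zero _ (by linarith)))
      exact (isCoprime_mul_unit_left_right hu _ _).mpr hcopX
    rw [hB₁, sc_mul, sc_X_pow]
    exact (h3.pow_right).mul_right h2
  -- divisibility from the identity
  have hdvd : B ∣ C (e 0) * sc q 0 A * ∏ j ∈ (Finset.range (d + 1)).erase 0, sc q j B := by
    have h0mem : 0 ∈ Finset.range (d + 1) := Finset.mem_range.mpr (Nat.succ_pos d)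
    rw [← Finset.add_sum_erase _ _ h0mem] at hΦ
    have h1 : B ∣ ∑ i ∈ (Finset.range (d + 1)).erase 0, C (e i) * sc q i A *
        ∏ j ∈ (Finset.range (d + 1)).erase i, sc q j B := by
      refine Finset.dvd_sum fun i hi => ?_
      have hi0 : i ≠ 0 := (Finset.mem_erase.mp hi).1
      have h2 : (0 : ℕ) ∈ (Finset.range (d + 1)).erase i :=
        Finset.mem_erase.mpr ⟨fun h => hi0 h.symm, h0mem⟩
      have h3 : sc q 0 B ∣ ∏ j ∈ (Finset.range (d + 1)).erase i, sc q j B :=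
        Finset.dvd_prod_of_mem _ h2
      rw [sc_zero] at h3
      exact Dvd.dvd.mul_left h3 _
    have h4 : C (e 0) * sc q 0 A * ∏ j ∈ (Finset.range (d + 1)).erase 0, sc q j B =
        -(∑ i ∈ (Finset.range (d + 1)).erase 0, C (e i) * sc q i A *
        ∏ j ∈ (Finset.range (d + 1)).erase i, sc q j B) := by
      linear_combination hΦ
    rw [h4]
    exact (dvd_neg).mpr h1
  rw [sc_zero] at hdvd
  have hcopA : IsCoprime B₁ A := IsCoprime.of_isCoprime_of_dvd_left hAB.symm hB₁B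
  have hu : IsUnit (C (e 0) : ℚ[X]) := Polynomial.isUnit_C.mpr (isUnit_iff_ne_zero.mpr he0)
  have hcopAll' : IsCoprime B₁ (A * ∏ j ∈ (Finset.range (d + 1)).erase 0, sc q j B) :=
    hcopA.mul_right (IsCoprime.prod_right hcop)
  have hcopAll : IsCoprime B₁ (C (e 0) * (A * ∏ j ∈ (Finset.range (d + 1)).erase 0, sc q j B)) :=
    (isCoprime_mul_unit_left_right hu _ _).mpr hcopAll'
  rw [mul_assoc] at hdvd
  have hunit : IsUnit B₁ := hcopAll.isUnit_of_dvd (hB₁B.trans hdvd)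
  refine ⟨b, ?_⟩
  have hdeg : B₁.natDegree = 0 := natDegree_eq_zero_of_isUnit hunit
  have hlead : B₁.leadingCoeff = 1 := by
    have := hB
    rw [Monic, hB₁, leadingCoeff_mul, leadingCoeff_X_pow, one_mul] at this
    exact this
  have hc0 : B₁.coeff 0 = 1 := by rw [← hlead, leadingCoeff, hdeg]
  have hB₁1 : B₁ = 1 := by
    rw [eq_C_of_natDegree_eq_zero hdeg, hc0, C_1]
  rw [hB₁, hB₁1, mul_one]



/-- integer polynomials into rational functions -/
noncomputable def iota : ℤ[X] →+* RatFunc ℚ :=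
  (algebraMap ℚ[X] (RatFunc ℚ)).comp (Polynomial.mapRingHom (Int.castRingHom ℚ))

theorem iota_apply (f : ℤ[X]) :
    iota f = algebraMap ℚ[X] (RatFunc ℚ) (f.map (Int.castRingHom ℚ)) := rfl

theorem iota_X : iota X = RatFunc.X := by
  rw [iota_apply, map_X, RatFunc.algebraMap_X]

/-- the denominators `X^a (X^N - 1)^e` -/
noncomputable def Dn (a N e : ℕ) : ℤ[X] := X ^ a * (X ^ N - 1) ^ e

theorem Dn_monic (a N e : ℕ) (hN : 0 < N) : (Dn a N e).Monic := by
  unfold Dn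
  exact (monic_X_pow a).mul ((monic_X_pow_sub_C (1 : ℤ) hN.ne').pow e)

theorem Dn_dvd (a N e a' t e' : ℕ) (ha : a ≤ a') (he : e ≤ e') :
    Dn a N e ∣ Dn a' (N * t) e' := by
  unfold Dn
  refine mul_dvd_mul (pow_dvd_pow _ ha) ?_
  have h1 : (X ^ N - 1 : ℤ[X]) ∣ X ^ (N * t) - 1 := by
    have := sub_dvd_pow_sub_pow ((X : ℤ[X]) ^ N) 1 t
    rwa [one_pow, ← pow_mul] at this
  exact (pow_dvd_pow_of_dvd h1 e).trans (pow_dvd_pow _ he)

theorem Dn_mul (a N e a' e' : ℕ) : Dn a N e * Dn a' N e' = Dn (a + a') N (e + e') := by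
  unfold Dn; ring

/-- the predicate propagated through the subring closure -/
def Pred (F : RatFunc ℚ) : Prop :=
  ∃ (A' : ℤ[X]) (a N e : ℕ), 0 < N ∧ F * iota (Dn a N e) = iota A'

theorem Pred.upgrade {F : RatFunc ℚ} {A' : ℤ[X]} {a N e : ℕ}
    (h : F * iota (Dn a N e) = iota A') (a' t e' : ℕ) (ha : a ≤ a') (he : e ≤ e') :
    ∃ A'' : ℤ[X], F * iota (Dn a' (N * t) e') = iota A'' := by
  obtain ⟨C', hC'⟩ := Dn_dvd a N e a' t e' ha he
  refine ⟨A' * C', ?_⟩
  rw [hC', map_mul, ← mul_assoc, h, map_mul]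

theorem pred_of_mem (F : RatFunc ℚ)
    (hF : F ∈ Subring.closure
      (({RatFunc.X, (RatFunc.X : RatFunc ℚ)⁻¹} : Set (RatFunc ℚ)) ∪
        Set.range fun n : ℕ => ((RatFunc.X : RatFunc ℚ) ^ (n + 1) - 1)⁻¹)) : Pred F := by
  induction hF using Subring.closure_induction with
  | mem x hx =>
    rcases hx with hx | ⟨n, rfl⟩
    · rcases hx with rfl | rfl
      · exact ⟨X, 0, 1, 0, one_pos, by simp [Dn, iota_X]⟩
      · refine ⟨1, 1, 1, 0, one_pos, ?_⟩
        simp only [Dn, pow_one, pow_zero, mul_one, iota_X, map_one]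
        exact inv_mul_cancel₀ RatFunc.X_ne_zero
    · refine ⟨1, 0, n + 1, 1, Nat.succ_pos n, ?_⟩
      simp only [Dn, pow_zero, one_mul, pow_one, map_sub, map_pow, iota_X, map_one]
      refine inv_mul_cancel₀ ?_
      intro h0
      have h1 : iota (X ^ (n + 1) - 1) = 0 := by
        simp only [map_sub, map_pow, iota_X, map_one]; exact h0
      rw [iota_apply] at h1
      have h2 := (RatFunc.algebraMap_injective ℚ) (h1.trans (map_zero _).symm)
      have h3 : ((X : ℤ[X]) ^ (n + 1) - 1).map (Int.castRingHom ℚ) = X ^ (n + 1) - C 1 := by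
        simp
      rw [h3] at h2
      exact (monic_X_pow_sub_C (1 : ℚ) (Nat.succ_ne_zero n)).ne_zero h2
  | zero => exact ⟨0, 0, 1, 0, one_pos, by simp⟩
  | one => exact ⟨1, 0, 1, 0, one_pos, by simp [Dn]⟩
  | add x y _ _ hx hy =>
    obtain ⟨A₁, a₁, N₁, e₁, hN₁, h₁⟩ := hx
    obtain ⟨A₂, a₂, N₂, e₂, hN₂, h₂⟩ := hy
    obtain ⟨A₁', h₁'⟩ := Pred.upgrade h₁ (a₁ + a₂) N₂ (e₁ + e₂) (Nat.le_add_right _ _)
      (Nat.le_add_right _ _)
    obtain ⟨A₂', h₂'⟩ := Pred.upgrade h₂ (a₁ + a₂) N₁ (e₁ + e₂) (Nat.le_add_left _ _)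
      (Nat.le_add_left _ _)
    rw [mul_comm N₂ N₁] at h₂'
    exact ⟨A₁' + A₂', a₁ + a₂, N₁ * N₂, e₁ + e₂, Nat.mul_pos hN₁ hN₂, by
      rw [add_mul, h₁', h₂', map_add]⟩
  | neg x _ hx =>
    obtain ⟨A₁, a₁, N₁, e₁, hN₁, h₁⟩ := hx
    exact ⟨-A₁, a₁, N₁, e₁, hN₁, by rw [neg_mul, h₁, map_neg]⟩
  | mul x y _ _ hx hy =>
    obtain ⟨A₁, a₁, N₁, e₁, hN₁, h₁⟩ := hx
    obtain ⟨A₂, a₂, N₂, e₂, hN₂, h₂⟩ := hy
    obtain ⟨A₁', h₁'⟩ := Pred.upgrade h₁ a₁ N₂ e₁ le_rfl le_rfl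
    obtain ⟨A₂', h₂'⟩ := Pred.upgrade h₂ a₂ N₁ e₂ le_rfl le_rfl
    rw [mul_comm N₂ N₁] at h₂'
    refine ⟨A₁' * A₂', a₁ + a₂, N₁ * N₂, e₁ + e₂, Nat.mul_pos hN₁ hN₂, ?_⟩
    rw [← Dn_mul, map_mul, map_mul, ← h₁', ← h₂']
    ring


end P3

section Main
open Polynomial

theorem main (q : ℤ) (hq : 1 < q) (F : RatFunc ℚ)
    (hF : F ∈ Subring.closure
      (({RatFunc.X, (RatFunc.X : RatFunc ℚ)⁻¹} : Set (RatFunc ℚ)) ∪
        Set.range fun n : ℕ => ((RatFunc.X : RatFunc ℚ) ^ (n + 1) - 1)⁻¹))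
    (hrat : ∃ P Q : Polynomial ℚ, Q ≠ 0 ∧
      (PowerSeries.exp ℚ).subst
          (PowerSeries.mk fun v : ℕ => if v = 0 then (0 : ℚ)
            else F.eval (RingHom.id ℚ) ((q : ℚ) ^ v) / (v : ℚ))
        * (Q : PowerSeries ℚ) = (P : PowerSeries ℚ)) :
    ∃ (P : Polynomial ℤ) (a : ℕ),
      F * RatFunc.X ^ a = algebraMap (Polynomial ℚ) (RatFunc ℚ) (P.map (Int.castRingHom ℚ)) := by
  classical
  obtain ⟨A', a, N, e', hN, hA'⟩ := pred_of_mem F hF
  have hBmonic : F.denom.Monic := RatFunc.monic_denom F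
  have hB0 : F.denom ≠ 0 := RatFunc.denom_ne_zero F
  have hAB : IsCoprime F.num F.denom := RatFunc.isCoprime_num_denom F
  have hFAB : algebraMap ℚ[X] (RatFunc ℚ) F.num / algebraMap ℚ[X] (RatFunc ℚ) F.denom = F :=
    RatFunc.num_div_denom F
  have hDmap : (Dn a N e').map (Int.castRingHom ℚ) = X ^ a * (X ^ N - 1) ^ e' := by
    simp [Dn]
  have hD0 : (Dn a N e').map (Int.castRingHom ℚ) ≠ 0 :=
    ((Dn_monic a N e' hN).map _).ne_zero
  have hιD0 : iota (Dn a N e') ≠ 0 := by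
    rw [iota_apply]
    intro h0
    exact hD0 ((RatFunc.algebraMap_injective ℚ) (h0.trans (map_zero _).symm))
  have hBdvd : F.denom ∣ X ^ a * (X ^ N - 1) ^ e' := by
    rw [← hDmap, RatFunc.denom_dvd hD0]
    refine ⟨A'.map (Int.castRingHom ℚ), ?_⟩
    rw [← iota_apply, ← iota_apply, eq_div_iff hιD0]
    exact hA'
  obtain ⟨P, Q, hQ, hPQ⟩ := hrat
  have hqQ : (1 : ℚ) < (q : ℚ) := by exact_mod_cast hq
  obtain ⟨W, M, hW, hWM⟩ :=
    logDeriv_rational (fun v => F.eval (RingHom.id ℚ) ((q : ℚ) ^ v)) P Q hQ hPQ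
  obtain ⟨d, e, m₀, he0, hrec⟩ :=
    recurrence (fun v => F.eval (RingHom.id ℚ) ((q : ℚ) ^ v)) W M hW hWM
  have hΦ := poly_identity (q : ℚ) hqQ F.num F.denom hB0 d e m₀ (by
    intro m hm
    have h1 := hrec m hm
    simp only [RatFunc.eval, Polynomial.eval₂_id] at h1
    exact h1)
  obtain ⟨b, hb⟩ := denom_eq_X_pow (q : ℚ) hqQ F.num F.denom hBmonic hAB a N e' hN hBdvd d e he0 hΦ
  have hFX : F * RatFunc.X ^ b = algebraMap ℚ[X] (RatFunc ℚ) F.num := by
    conv_lhs => rw [← hFAB]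
    rw [hb, map_pow, RatFunc.algebraMap_X, div_mul_cancel₀ _ (pow_ne_zero _ RatFunc.X_ne_zero)]
  have h1 : F.num * (Dn a N e').map (Int.castRingHom ℚ) =
      (A' * X ^ b).map (Int.castRingHom ℚ) := by
    apply RatFunc.algebraMap_injective ℚ
    rw [map_mul, ← hFX, ← iota_apply, ← iota_apply, map_mul, ← hA', map_pow, iota_X]
    ring
  have h2 : (Dn a N e').map (Int.castRingHom ℚ) ∣ (A' * X ^ b).map (Int.castRingHom ℚ) :=
    Dvd.intro_left _ h1
  rw [Polynomial.map_dvd_map _ Int.cast_injective (Dn_monic a N e' hN)] at h2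
  obtain ⟨A₀, hA₀⟩ := h2
  refine ⟨A₀, b, ?_⟩
  rw [hFX]
  congr 1
  rw [hA₀, Polynomial.map_mul, mul_comm] at h1
  exact mul_left_cancel₀ hD0 h1

end Main

end Groth.Agent.Lib.ExpRat
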