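import Mathlib

set_option autoImplicit false
universe u

namespace Groth.Agent.Lib.Ext19221
open ExteriorAlgebra

variable (k : Type u) [Field k]

abbrev F := Fin 2 → Fin 4 → Fin 4 → k

/-- evaluation functional -/
def ev (c : Fin 2) (a b : Fin 4) : F k →ₗ[k] k :=
  { toFun := fun f => f c a b
    map_add' := fun _ _ => rfl
    map_smul' := fun _ _ => rfl }

@[simp] lemma ev_apply (c : Fin 2) (a b : Fin 4) (f : F k) : ev k c a b f = f c a b := rfl

def coords : ℕ → (F k →ₗ[k] k)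
  | 0 => ev k 0 0 1
  | 1 => ev k 1 0 1
  | 2 => ev k 0 2 3
  | 3 => ev k 1 2 3
  | _ => 0

def L (n : ℕ) : F k →ₗ[k] (Fin n → k) := LinearMap.pi fun j => coords k j.val

def D (n : ℕ) : (F k) [⋀^Fin n]→ₗ[k] k :=
  (Matrix.detRowAlternating (R := k) (n := Fin n)).compLinearMap (L k n)

def Φ : ExteriorAlgebra k (F k) →ₗ[k] k := liftAlternating (R := k) (M := F k) (N := k) (D k)

lemma Φ_ιMulti (w : Fin 4 → F k) :
    Φ k (ιMulti k 4 w) = Matrix.det (Matrix.of fun i j => coords k j.val (w i)) := by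
  unfold Φ
  rw [liftAlternating_apply_ιMulti]
  rfl

lemma det4 (a b c d : k) :
    Matrix.det !![a, 0, b, 0; 0, a, 0, b; c, 0, d, 0; 0, c, 0, d] = (a * d - b * c) ^ 2 := by
  rw [Matrix.det_succ_row_zero]
  simp [Fin.sum_univ_succ, Matrix.det_fin_three, Fin.succAbove]
  ring

/-- integer coefficient of the oriented 3-cycle `i → j → l → i` at the ordered pair `(a,b)`. -/
def A (i j l a b : Fin 4) : ℤ :=
  ((if a = i ∧ b = j then 1 else 0) + (if a = j ∧ b = l then 1 else 0) + (if a = l ∧ b = i then 1 else 0)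
    - (if a = j ∧ b = i then 1 else 0) - (if a = l ∧ b = j then 1 else 0) - (if a = i ∧ b = l then 1 else 0))

/-- the 2×2 minor attached to a permutation. -/
def x (σ : Equiv.Perm (Fin 4)) : ℤ :=
  A (σ 0) (σ 1) (σ 2) 0 1 * A (σ 0) (σ 2) (σ 3) 2 3 - A (σ 0) (σ 1) (σ 2) 2 3 * A (σ 0) (σ 2) (σ 3) 0 1

lemma x_one : x 1 = 1 := by decide

variable {k}

theorem main [CharZero k]
    (P : Equiv.Perm (Fin 4) → ((Fin 2 → Fin 4 → Fin 4 → k) →ₗ[k] (Fin 2 → Fin 4 → Fin 4 → k)))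
    (hP : ∀ (σ : Equiv.Perm (Fin 4)) (f : Fin 2 → Fin 4 → Fin 4 → k) (c : Fin 2) (a b : Fin 4),
      P σ f c a b = f c (σ.symm a) (σ.symm b))
    (z : Fin 2 → Fin 4 → Fin 4 → Fin 4 → (Fin 2 → Fin 4 → Fin 4 → k))
    (hz : ∀ (c : Fin 2) (i j l : Fin 4) (c' : Fin 2) (a b : Fin 4), z c i j l c' a b =
      if c' = c then
        ((if a = i ∧ b = j then 1 else 0) + (if a = j ∧ b = l then 1 else 0) + (if a = l ∧ b = i then 1 else 0)
          - (if a = j ∧ b = i then 1 else 0) - (if a = l ∧ b = j then 1 else 0) - (if a = i ∧ b = l then 1 else 0))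
      else 0)
    (ω : ExteriorAlgebra k (Fin 2 → Fin 4 → Fin 4 → k))
    (hω : ω = ExteriorAlgebra.ι k (z 0 0 1 2) * ExteriorAlgebra.ι k (z 1 0 1 2) *
      ExteriorAlgebra.ι k (z 0 0 2 3) * ExteriorAlgebra.ι k (z 1 0 2 3)) :
    ExteriorAlgebra.map (P (Equiv.swap 0 2)) ω = ω ∧
    ExteriorAlgebra.map (P (Equiv.swap 1 3)) ω = ω ∧
    (∑ σ : Equiv.Perm (Fin 4), ExteriorAlgebra.map (P σ) ω) ≠ 0 := by
  have hPz : ∀ σ c i j l, P σ (z c i j l) = z c (σ i) (σ j) (σ l) := by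
    intro σ c i j l
    funext c' a b
    rw [hP, hz, hz]
    simp only [Equiv.symm_apply_eq]
  have hneg : ∀ c i j l, z c l j i = - z c i j l := by
    intro c i j l
    funext c' a b
    simp only [Pi.neg_apply, hz]
    by_cases h : c' = c
    · simp only [h, if_true]; ring
    · simp [h]
  have hrot : ∀ c i j l, z c j l i = z c i j l := by
    intro c i j l
    funext c' a b
    simp only [hz]
    by_cases h : c' = c
    · simp only [h, if_true]; ring
    · simp [h]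
  have hcoef : ∀ c i j l c' a b, z c i j l c' a b = if c' = c then ((A i j l a b : ℤ) : k) else 0 := by
    intro c i j l c' a b
    rw [hz]
    by_cases h : c' = c
    · simp only [h, if_true, A]; push_cast; rfl
    · simp [h]
  have sw : ∀ u v : Fin 2 → Fin 4 → Fin 4 → k, ι k u * ι k v = -(ι k v * ι k u) := fun u v =>
    eq_neg_of_add_eq_zero_left (ι_add_mul_swap u v)
  have s02 : ∀ a : Fin 4, Equiv.swap (0 : Fin 4) 2 a = ![2, 1, 0, 3] a := by decide
  have s13 : ∀ a : Fin 4, Equiv.swap (1 : Fin 4) 3 a = ![0, 3, 2, 1] a := by decide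
  have comm4 : ∀ p q r s : Fin 2 → Fin 4 → Fin 4 → k,
      ι k p * ι k q * ι k r * ι k s = ι k r * ι k s * ι k p * ι k q := by
    intro p q r s
    calc ι k p * ι k q * ι k r * ι k s = ι k p * (ι k q * ι k r) * ι k s := by simp only [mul_assoc]
      _ = -((ι k p * ι k r) * (ι k q * ι k s)) := by
          rw [sw q r]; simp only [mul_neg, neg_mul, mul_assoc]
      _ = -(ι k r * (ι k p * ι k s) * ι k q) := by
          rw [sw p r, sw q s]; simp only [mul_neg, neg_mul, neg_neg, mul_assoc]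
      _ = ι k r * ι k s * ι k p * ι k q := by
          rw [sw p s]; simp only [mul_neg, neg_mul, neg_neg, mul_assoc]
  have e1 : ∀ c, z c 2 1 0 = - z c 0 1 2 := fun c => hneg c 0 1 2
  have e2 : ∀ c, z c 2 0 3 = - z c 0 2 3 := fun c => by rw [hrot c 3 2 0, hneg c 0 2 3]
  have e3 : ∀ c, z c 0 3 2 = - z c 0 2 3 := fun c => by rw [← hrot c 0 3 2, hneg c 0 2 3]
  have e4 : ∀ c, z c 0 2 1 = - z c 0 1 2 := fun c => by rw [← hrot c 0 2 1, hneg c 0 1 2]
  refine ⟨?_, ?_, ?_⟩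
  · rw [hω]
    simp only [map_mul, map_apply_ι, hPz, s02]
    simp only [Matrix.cons_val_zero, Matrix.cons_val_one, Matrix.cons_val]
    rw [e1, e1, e2, e2]
    simp only [map_neg, neg_mul, mul_neg, neg_neg]
  · rw [hω]
    simp only [map_mul, map_apply_ι, hPz, s13]
    simp only [Matrix.cons_val_zero, Matrix.cons_val_one, Matrix.cons_val]
    rw [e3, e3, e4, e4]
    simp only [map_neg, neg_mul, mul_neg, neg_neg]
    exact comm4 _ _ _ _
  · have hω' : ω = ιMulti k 4 ![z 0 0 1 2, z 1 0 1 2, z 0 0 2 3, z 1 0 2 3] := by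
      rw [hω, ιMulti_apply]
      simp [List.ofFn_succ, mul_assoc]
    have hmap : ∀ σ : Equiv.Perm (Fin 4), ExteriorAlgebra.map (P σ) ω =
        ιMulti k 4 ![z 0 (σ 0) (σ 1) (σ 2), z 1 (σ 0) (σ 1) (σ 2),
          z 0 (σ 0) (σ 2) (σ 3), z 1 (σ 0) (σ 2) (σ 3)] := by
      intro σ
      rw [hω', map_apply_ιMulti]
      congr 1
      funext i
      fin_cases i <;> simp [hPz]
    have hΦ : ∀ σ : Equiv.Perm (Fin 4), Φ k (ExteriorAlgebra.map (P σ) ω) = ((x σ : ℤ) : k) ^ 2 := by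
      intro σ
      rw [hmap, Φ_ιMulti]
      have hM : (Matrix.of fun (i j : Fin 4) => coords k j.val
          ((![z 0 (σ 0) (σ 1) (σ 2), z 1 (σ 0) (σ 1) (σ 2),
            z 0 (σ 0) (σ 2) (σ 3), z 1 (σ 0) (σ 2) (σ 3)] :
              Fin 4 → (Fin 2 → Fin 4 → Fin 4 → k)) i)) =
          !![((A (σ 0) (σ 1) (σ 2) 0 1 : ℤ) : k), 0, ((A (σ 0) (σ 1) (σ 2) 2 3 : ℤ) : k), 0;
             0, ((A (σ 0) (σ 1) (σ 2) 0 1 : ℤ) : k), 0, ((A (σ 0) (σ 1) (σ 2) 2 3 : ℤ) : k);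
             ((A (σ 0) (σ 2) (σ 3) 0 1 : ℤ) : k), 0, ((A (σ 0) (σ 2) (σ 3) 2 3 : ℤ) : k), 0;
             0, ((A (σ 0) (σ 2) (σ 3) 0 1 : ℤ) : k), 0, ((A (σ 0) (σ 2) (σ 3) 2 3 : ℤ) : k)] := by
        ext i j
        fin_cases i <;> fin_cases j <;> simp [coords, hcoef]
      rw [hM, det4, x]
      push_cast
      ring
    intro h0
    have h1 := congrArg (Φ k) h0
    rw [map_sum, map_zero] at h1
    simp_rw [hΦ] at h1
    have h2 : ((∑ σ : Equiv.Perm (Fin 4), (x σ) ^ 2 : ℤ) : k) = 0 := by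
      push_cast
      exact h1
    have h3 : (∑ σ : Equiv.Perm (Fin 4), (x σ) ^ 2 : ℤ) = 0 := by exact_mod_cast h2
    have h4 : (x 1) ^ 2 ≤ ∑ σ : Equiv.Perm (Fin 4), (x σ) ^ 2 :=
      Finset.single_le_sum (f := fun σ : Equiv.Perm (Fin 4) => (x σ) ^ 2)
        (fun σ _ => sq_nonneg (x σ)) (Finset.mem_univ 1)
    rw [h3, x_one] at h4
    norm_num at h4

end Groth.Agent.Lib.Ext19221
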