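import Mathlib

/-!
# `Ext¹(N, Y)` from a projective cover: `Ext¹(N, Y) ≅ Hom(K, Y) / Hom(F, Y)` for `0 → K → F → N → 0`, `F` projective
-/

set_option autoImplicit false
universe u

open CategoryTheory

namespace Groth.Agent.Lib.Ext1Pres

variable {R : Type u} [CommRing R] {F N Y : Type u} [AddCommGroup F] [Module R F]
  [AddCommGroup N] [Module R N] [AddCommGroup Y] [Module R Y]

/-- the short complex `0 → ker p → F → N → 0`. -/
noncomputable abbrev sc (p : F →ₗ[R] N) : ShortComplex (ModuleCat.{u} R) :=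
  ShortComplex.mk (ModuleCat.ofHom (LinearMap.ker p).subtype) (ModuleCat.ofHom p) (by
    ext x
    exact x.2)

theorem sc_shortExact (p : F →ₗ[R] N) (hp : Function.Surjective p) : (sc p).ShortExact := by
  have hex : (sc p).Exact := by
    rw [ShortComplex.moduleCat_exact_iff]
    intro x hx
    exact ⟨⟨x, hx⟩, rfl⟩
  have hmono : Mono (sc p).f := (ModuleCat.mono_iff_injective _).mpr (Submodule.injective_subtype _)
  have hepi : Epi (sc p).g := (ModuleCat.epi_iff_surjective _).mpr hp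
  exact ShortComplex.ShortExact.mk hex

variable (Y) in
/-- the connecting map `Hom(K, Y) → Ext¹(N, Y)`. -/
noncomputable def conn (p : F →ₗ[R] N) (hp : Function.Surjective p) :
    ((LinearMap.ker p) →ₗ[R] Y) →ₗ[R] Abelian.Ext (ModuleCat.of R N) (ModuleCat.of R Y) 1 where
  toFun φ := (sc_shortExact p hp).extClass.comp (Abelian.Ext.mk₀ (ModuleCat.ofHom φ)) (add_zero 1)
  map_add' φ ψ := by
    rw [ModuleCat.ofHom_add, Abelian.Ext.mk₀_add, Abelian.Ext.comp_add]
  map_smul' r φ := by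
    have : ModuleCat.ofHom (r • φ) = r • ModuleCat.ofHom φ := rfl
    rw [this, Abelian.Ext.mk₀_smul, Abelian.Ext.comp_smul, RingHom.id_apply]

theorem conn_surjective [Module.Projective R F] (p : F →ₗ[R] N) (hp : Function.Surjective p) :
    Function.Surjective (conn Y p hp) := by
  intro x
  have : Projective (sc p).X₂ := (IsProjective.iff_projective (R := R) (P := F)).mp inferInstance
  have h0 : (Abelian.Ext.mk₀ (sc p).g).comp x (zero_add 1) = 0 := Abelian.Ext.eq_zero_of_projective _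
  obtain ⟨x₁, hx₁⟩ := Abelian.Ext.contravariant_sequence_exact₃ (sc_shortExact p hp) (ModuleCat.of R Y) x h0
    (add_zero 1)
  obtain ⟨f, rfl⟩ := (Abelian.Ext.mk₀_bijective _ _).2 x₁
  refine ⟨f.hom, ?_⟩
  exact hx₁

theorem ker_conn [Module.Projective R F] (p : F →ₗ[R] N) (hp : Function.Surjective p) :
    LinearMap.ker (conn Y p hp) = LinearMap.range (LinearMap.lcomp R Y (LinearMap.ker p).subtype) := by
  ext φ
  rw [LinearMap.mem_ker, LinearMap.mem_range]
  constructor
  · intro h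
    obtain ⟨x₂, hx₂⟩ := Abelian.Ext.contravariant_sequence_exact₁ (sc_shortExact p hp) (ModuleCat.of R Y)
      (Abelian.Ext.mk₀ (ModuleCat.ofHom φ)) (add_zero 1) h
    obtain ⟨g, rfl⟩ := (Abelian.Ext.mk₀_bijective _ _).2 x₂
    rw [Abelian.Ext.mk₀_comp_mk₀] at hx₂
    have h2 := (Abelian.Ext.mk₀_bijective _ _).1 hx₂
    refine ⟨g.hom, ?_⟩
    have h3 := congrArg ModuleCat.Hom.hom h2
    exact h3
  · rintro ⟨g, rfl⟩
    change (sc_shortExact p hp).extClass.comp (Abelian.Ext.mk₀ (ModuleCat.ofHom (g ∘ₗ (LinearMap.ker p).subtype)))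
      (add_zero 1) = 0
    have e : ModuleCat.ofHom (g ∘ₗ (LinearMap.ker p).subtype) = (sc p).f ≫ ModuleCat.ofHom g := rfl
    rw [e, ← Abelian.Ext.mk₀_comp_mk₀]
    exact (sc_shortExact p hp).extClass_comp_assoc _

/-- **`Ext¹(N, Y) ≅ Hom(K, Y) / Hom(F, Y)`.** -/
theorem nonempty_equiv [Module.Projective R F] (p : F →ₗ[R] N) (hp : Function.Surjective p) :
    Nonempty ((((LinearMap.ker p) →ₗ[R] Y) ⧸ LinearMap.range (LinearMap.lcomp R Y (LinearMap.ker p).subtype)) ≃ₗ[R]
      Abelian.Ext (ModuleCat.of R N) (ModuleCat.of R Y) 1) := by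
  have e1 := (conn Y p hp).quotKerEquivOfSurjective (conn_surjective p hp)
  have e2 := Submodule.quotEquivOfEq _ _ (ker_conn (Y := Y) p hp)
  exact ⟨e2.symm.trans e1⟩

end Groth.Agent.Lib.Ext1Pres
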