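import Groth.Agent.Lib.TFinFP2

/-!
# Finitely presentable objects as retracts of coequalizers of coherent objects
-/

set_option autoImplicit false
open CategoryTheory CategoryTheory.Limits Opposite
universe u
open ToposFin

namespace Groth.Agent.Lib.TFinFP
open Groth.Agent.Lib.TFin Groth.Agent.Lib.TFinEps Groth.Agent.Lib.TFinCoprod
open Groth.Agent.Lib.TFinFilt

variable {C : Type u} [SmallCategory C] {J : GrothendieckTopology C}

lemma hasQCGenerators_of_hasCoherentGenerators (hE : HasCoherentGenerators J) :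
    HasQCGenerators J := by
  intro X
  obtain ⟨ι, F, π, hF, hπ⟩ := hE X
  exact ⟨ι, F, π, fun i => (hF i).1, hπ⟩

/-- Finite coproducts of coherent objects are coherent. -/
lemma isCoherent_sigma_of_finite {κ : Type u} [Finite κ] (F : κ → Sh J)
    (h : ∀ k, IsCoherent (F k)) : IsCoherent (∐ F) :=
  ⟨isQC_cofan_pt _ (coproductIsCoproduct F) (fun k => (h k).1) (Set.toFinite _),
    isQS_cofan_pt _ (coproductIsCoproduct F) (fun k => (h k).2)⟩

/-- In a topos with coherent generators, the finitely presentable objects are the retracts of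
coequalizers of pairs of morphisms between coherent objects. -/
theorem isFP_iff_retract_coequalizer_coherent (hE : HasCoherentGenerators J) (X : Sh J) :
    IsFP X ↔ ∃ (X₀ X₁ : Sh J) (a b : X₁ ⟶ X₀) (i : X ⟶ coequalizer a b)
      (p : coequalizer a b ⟶ X), IsCoherent X₀ ∧ IsCoherent X₁ ∧ i ≫ p = 𝟙 X := by
  have hQ := hasQCGenerators_of_hasCoherentGenerators hE
  constructor
  · intro hX
    have hqc := isQC_of_isFP X hX
    obtain ⟨ι, F, π, hF, hπ⟩ := hE X
    obtain ⟨s₀, hs₀⟩ := hqc ι F π hπ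
    have hK : IsCoherent (∐ fun i : s₀ => F i) :=
      isCoherent_sigma_of_finite _ (fun i => hF i)
    obtain ⟨Λ, L, ℓ, hL, hℓ⟩ := hE (pullback (Sigma.desc (fun i : s₀ => π i))
      (Sigma.desc (fun i : s₀ => π i)))
    have hℓ' : Cov ℓ := (epi_sigmaDesc_iff_cov ℓ).1 hℓ
    obtain ⟨s, i, r, hir⟩ := exists_retract_of_eSurj (Sigma.desc (fun i : s₀ => π i)) L ℓ hℓ'
      ((isFP_iff X).1 hX).2
    exact ⟨_, ∐ fun l : s => L l, _, _, i, r, hK,
      isCoherent_sigma_of_finite _ (fun l => hL l), hir⟩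
  · rintro ⟨X₀, X₁, a, b, i, p, h₀, h₁, hip⟩
    exact isFP_of_retract i p hip (isFP_coequalizer a b (isFP_of_isCoherent _ hQ h₀) h₁.1)

end Groth.Agent.Lib.TFinFP
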