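import Groth.Agent.Lib.TFinAlg
import Groth.Agent.Lib.TFinCoprod2
import Groth.Agent.Lib.TFinFP3
import Groth.Agent.Lib.TFinSite
import Groth.Agent.Lib.WidePbIter

/-!
# Finite coproducts of members of a generating set `S` closed under fibre products (helper95)

`FinS S X`: `X` is a finite coproduct of objects isomorphic to members of `S`.  Such objects are
coherent, closed under fibre products over members of `S`, hence the terms of the Čech nerve of a
morphism from a `FinS` object to a member of `S` are `FinS`.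
-/

set_option autoImplicit false
open CategoryTheory CategoryTheory.Limits Opposite
universe u
open ToposFin

set_option backward.defeqAttrib.useBackward true
set_option backward.isDefEq.respectTransparency false
set_option linter.unusedSectionVars false

namespace Groth.Agent.Lib.FinSOb

open Groth.Agent.Lib.TFin Groth.Agent.Lib.TFinAlg Groth.Agent.Lib.TFinCoprod
  Groth.Agent.Lib.WidePbIter

variable {C : Type u} [SmallCategory C] {J : GrothendieckTopology C} (S : Set (Sh J))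

/-- isomorphic to a member of `S` -/
def IsoS (X : Sh J) : Prop := ∃ K ∈ S, Nonempty (X ≅ K)

/-- a finite coproduct of objects isomorphic to members of `S` -/
def FinS (X : Sh J) : Prop :=
  ∃ (κ : Type u) (_ : Finite κ) (L : κ → Sh J) (ι : ∀ k, L k ⟶ X),
    (∀ k, IsoS S (L k)) ∧ Nonempty (IsColimit (Cofan.mk X ι))

variable {S}

lemma IsoS.of_mem {K : Sh J} (hK : K ∈ S) : IsoS S K := ⟨K, hK, ⟨Iso.refl _⟩⟩

lemma IsoS.of_iso {X Y : Sh J} (e : X ≅ Y) (h : IsoS S X) : IsoS S Y := by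
  obtain ⟨K, hK, ⟨e'⟩⟩ := h
  exact ⟨K, hK, ⟨e.symm ≪≫ e'⟩⟩

lemma FinS.of_iso {X Y : Sh J} (e : X ≅ Y) (h : FinS S X) : FinS S Y := by
  obtain ⟨κ, hκ, L, ι, hL, ⟨hc⟩⟩ := h
  refine ⟨κ, hκ, L, fun k => ι k ≫ e.hom, hL, ⟨?_⟩⟩
  refine IsColimit.ofIsoColimit hc (Cocone.ext e ?_)
  rintro ⟨k⟩
  rfl

lemma finS_sigma {κ : Type u} [Finite κ] (F : κ → Sh J) (hF : ∀ k, F k ∈ S) : FinS S (∐ F) :=
  ⟨κ, inferInstance, F, Sigma.ι F, fun k => IsoS.of_mem (hF k), ⟨coproductIsCoproduct F⟩⟩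

lemma IsoS.isCoherent (hqc : ∀ K ∈ S, IsQC K) (hgen : IsGenerating S)
    (hpb : ClosedUnderPullbacks S) {X : Sh J} (h : IsoS S X) : IsCoherent X := by
  obtain ⟨K, hK, ⟨e⟩⟩ := h
  exact Groth.Agent.Lib.TFinSite.isCoherent_of_iso J e.symm (isCoherent_of_mem S hqc hgen hpb hK)

lemma FinS.isCoherent (hqc : ∀ K ∈ S, IsQC K) (hgen : IsGenerating S)
    (hpb : ClosedUnderPullbacks S) {X : Sh J} (h : FinS S X) : IsCoherent X := by
  obtain ⟨κ, hκ, L, ι, hL, ⟨hc⟩⟩ := h
  have hcoh : ∀ k, IsCoherent (L k) := fun k => (hL k).isCoherent hqc hgen hpb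
  exact ⟨isQC_cofan_pt (Cofan.mk X ι) hc (fun k => (hcoh k).1) (Set.toFinite _),
    isQS_cofan_pt (Cofan.mk X ι) hc (fun k => (hcoh k).2)⟩

/-- fibre products of objects isomorphic to members of `S` -/
lemma IsoS.pb (hpb : ClosedUnderPullbacks S) {X Y K : Sh J} (hX : IsoS S X) (hY : IsoS S Y)
    (hK : K ∈ S) (a : X ⟶ K) (b : Y ⟶ K) : IsoS S (pullback a b) := by
  obtain ⟨K₁, hK₁, ⟨e₁⟩⟩ := hX
  obtain ⟨K₂, hK₂, ⟨e₂⟩⟩ := hY
  obtain ⟨P, p, q, hP, sq⟩ := hpb (e₁.inv ≫ a) (e₂.inv ≫ b) hK₁ hK₂ hK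
  refine ⟨P, hP, ⟨?_⟩⟩
  have sq' : IsPullback (p ≫ e₁.inv) (q ≫ e₂.inv) a b :=
    IsPullback.of_iso sq (Iso.refl _) e₁.symm e₂.symm (Iso.refl _) (by simp) (by simp)
      (by simp) (by simp)
  exact sq'.isoPullback.symm

/-- fibre products of `FinS` objects over a member of `S` are `FinS`. -/
theorem FinS.pb (hpb : ClosedUnderPullbacks S) {X Y K : Sh J} (hX : FinS S X)
    (hY : FinS S Y) (hK : K ∈ S) (a : X ⟶ K) (b : Y ⟶ K) : FinS S (pullback a b) := by
  obtain ⟨κ, hκ, L, α, hL, ⟨hc⟩⟩ := hX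
  obtain ⟨μ, hμ, M, β, hM, ⟨hd⟩⟩ := hY
  let inj : ∀ p : κ × μ, pullback (α p.1 ≫ a) (β p.2 ≫ b) ⟶ pullback a b := fun p =>
    pullback.map (α p.1 ≫ a) (β p.2 ≫ b) a b (α p.1) (β p.2) (𝟙 K)
      (Category.comp_id _) (Category.comp_id _)
  refine ⟨κ × μ, inferInstance, fun p => pullback (α p.1 ≫ a) (β p.2 ≫ b), inj,
    fun p => IsoS.pb hpb (hL p.1) (hM p.2) hK _ _, ?_⟩
  have hfst : ∀ (p : κ × μ) (V : C) (y : sec (pullback (α p.1 ≫ a) (β p.2 ≫ b)) V),
      ap (pullback.fst a b) (ap (inj p) y) = ap (α p.1) (ap (pullback.fst _ _) y) := by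
    intro p V y
    rw [← ap_comp, ← ap_comp, pb_map_fst]
  have hsnd : ∀ (p : κ × μ) (V : C) (y : sec (pullback (α p.1 ≫ a) (β p.2 ≫ b)) V),
      ap (pullback.snd a b) (ap (inj p) y) = ap (β p.2) (ap (pullback.snd _ _) y) := by
    intro p V y
    rw [← ap_comp, ← ap_comp, pb_map_snd]
  refine nonempty_isColimit_cofan_of_cov_disjoint (Cofan.mk (pullback a b) inj) ?_ ?_ ?_
  · exact cov_pullback_map a b α (cov_inj (Cofan.mk X α) hc) β (cov_inj (Cofan.mk Y β) hd)
  · intro p V y y' h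
    have h : ap (inj p) y = ap (inj p) y' := h
    apply pb_ext
    · apply ap_inj_injective (Cofan.mk X α) hc p.1
      show ap (α p.1) _ = ap (α p.1) _
      rw [← hfst, ← hfst, h]
    · apply ap_inj_injective (Cofan.mk Y β) hd p.2
      show ap (β p.2) _ = ap (β p.2) _
      rw [← hsnd, ← hsnd, h]
  · intro p p' hpp V y y' h
    have h : ap (inj p) y = ap (inj p') y' := h
    by_cases h1 : p.1 = p'.1
    · have h2 : p.2 ≠ p'.2 := fun h2 => hpp (Prod.ext h1 h2)
      refine bot_mem_of_ap_inj_eq (Cofan.mk Y β) hd h2 (ap (pullback.snd _ _) y)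
        (ap (pullback.snd _ _) y') ?_
      show ap (β p.2) _ = ap (β p'.2) _
      rw [← hsnd, ← hsnd, h]
    · refine bot_mem_of_ap_inj_eq (Cofan.mk X α) hc h1 (ap (pullback.fst _ _) y)
        (ap (pullback.fst _ _) y') ?_
      show ap (α p.1) _ = ap (α p'.1) _
      rw [← hfst, ← hfst, h]

/-- the terms of the Čech nerve of a morphism from a `FinS` object to a member of `S`. -/
theorem finS_W (hpb : ClosedUnderPullbacks S) {K' K : Sh J} (f : K' ⟶ K) (hK : K ∈ S)
    (hK' : FinS S K') (n : ℕ) : FinS S (W f n) := by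
  induction n with
  | zero => exact FinS.of_iso (asIso (WidePullback.π (fun _ : Fin (0 + 1) => f) 0)).symm hK'
  | succ n ih =>
    exact FinS.of_iso (isPullback f n).isoPullback.symm
      (FinS.pb hpb ih hK' hK (WidePullback.base _) f)

/-- every epimorphism onto a member of `S` (a quasi-compact object) is refined by an epimorphism
from a finite coproduct of members of `S`. -/
theorem exists_refinement (hqc : ∀ K ∈ S, IsQC K) (hgen : IsGenerating S) {K X : Sh J}
    (hK : K ∈ S) (g : X ⟶ K) [Epi g] :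
    ∃ (K' : Sh J) (h : K' ⟶ X), Epi (h ≫ g) ∧ FinS S K' := by
  obtain ⟨ι, F, π, hF, hπ⟩ := hgen X
  have hcov : Cov π := cov_of_jointlyEpi π hπ
  have hepi : Epi (Sigma.desc (fun i => π i ≫ g)) := by
    have h1 : Epi (Sigma.desc π) := (epi_sigmaDesc_iff_cov π).2 hcov
    have h2 : Sigma.desc (fun i => π i ≫ g) = Sigma.desc π ≫ g := by
      apply Sigma.hom_ext
      intro i
      simp
    rw [h2]
    exact epi_comp _ _
  obtain ⟨s, hs⟩ := hqc K hK ι F (fun i => π i ≫ g) hepi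
  refine ⟨∐ (fun i : s => F i), Sigma.desc (fun i : s => π i), ?_, finS_sigma _ (fun i => hF i)⟩
  have h2 : Sigma.desc (fun i : s => π i) ≫ g = Sigma.desc (fun i : s => π i ≫ g) := by
    apply Sigma.hom_ext
    intro i
    simp
  rw [h2]
  exact hs

end Groth.Agent.Lib.FinSOb
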