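import Groth.Agent.Lib.CechAcyc6
import Groth.Agent.Lib.FinSOb
import Mathlib.CategoryTheory.Preadditive.Biproducts
import Mathlib.CategoryTheory.Limits.Preserves.Shapes.Products

/-!
# Additivity of `Ext`-vanishing over finite coproducts (helper95)
-/

universe w v u

open CategoryTheory Limits Opposite Abelian

set_option linter.unusedSectionVars false

namespace Groth.Agent.Lib.ExtAdd95

open Groth.Agent.Lib.CechAcyc3 Groth.Agent.Lib.CechAcyc4 Groth.Agent.Lib.CechAcyc6
  Groth.Agent.Lib.FinSOb

section General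

variable {A : Type u} [Category.{v} A] [Abelian A] [HasExt.{w} A]

/-- `Ext^n(-, F)` vanishes on a finite coproduct as soon as it vanishes on the summands. -/
theorem subsingleton_ext_of_cofan {κ : Type*} [Finite κ] {Z : κ → A} (c : Cofan Z)
    (hc : IsColimit c) (F : A) (n : ℕ) (h : ∀ k, Subsingleton (Ext.{w} (Z k) F n)) :
    Subsingleton (Ext.{w} c.pt F n) := by
  classical
  have := Fintype.ofFinite κ
  have tot : ∑ j, (Bicone.ofColimitCocone hc).π j ≫ (Bicone.ofColimitCocone hc).ι j =
      𝟙 (Bicone.ofColimitCocone hc).pt :=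
    IsBilimit.total (biconeIsBilimitOfColimitCoconeOfIsColimit hc)
  have key : ∀ x : Ext.{w} (Bicone.ofColimitCocone hc).pt F n, x = 0 := by
    intro x
    have hP : (Ext.mk₀ (∑ j, (Bicone.ofColimitCocone hc).π j ≫
        (Bicone.ofColimitCocone hc).ι j)).comp x (zero_add n) = 0 := by
      refine Finset.sum_induction _ (fun g : (Bicone.ofColimitCocone hc).pt ⟶
        (Bicone.ofColimitCocone hc).pt => (Ext.mk₀ g).comp x (zero_add n) = 0)
        ?_ ?_ ?_
      · intro g g' hg hg'
        show (Ext.mk₀ (g + g')).comp x (zero_add n) = 0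
        rw [Ext.mk₀_add, Ext.add_comp, hg, hg', add_zero]
      · show (Ext.mk₀ (0 : (Bicone.ofColimitCocone hc).pt ⟶
          (Bicone.ofColimitCocone hc).pt)).comp x (zero_add n) = 0
        rw [Ext.mk₀_zero, Ext.zero_comp]
      · intro j _
        show (Ext.mk₀ ((Bicone.ofColimitCocone hc).π j ≫
          (Bicone.ofColimitCocone hc).ι j)).comp x (zero_add n) = 0
        rw [← Ext.mk₀_comp_mk₀, Ext.comp_assoc_of_second_deg_zero,
          (h j).elim ((Ext.mk₀ ((Bicone.ofColimitCocone hc).ι j)).comp x (zero_add n)) 0,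
          Ext.comp_zero]
    rw [tot, Ext.mk₀_id_comp] at hP
    exact hP
  exact ⟨fun a b => (key a).trans (key b).symm⟩

end General

section Site

variable {C : Type u} [SmallCategory C] {J : GrothendieckTopology C} {S : Set (Sheaf J (Type u))}

/-- `Ext^n(ℤ[-], F)` vanishes on finite coproducts of (objects isomorphic to) members of `S` as
soon as it vanishes on members of `S`. -/
theorem subsingleton_ext_of_finS {X : Sheaf J (Type u)} (hX : FinS S X)
    (F : Sheaf J AddCommGrpCat.{u}) (n : ℕ)
    (h : ∀ K ∈ S, Subsingleton (Ext ((T J).obj K) F n)) :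
    Subsingleton (Ext ((T J).obj X) F n) := by
  obtain ⟨κ, hκ, L, ι, hL, ⟨hc⟩⟩ := hX
  have : (T J).IsLeftAdjoint := (adj (J := J)).isLeftAdjoint
  have hc' := isColimitCofanMkObjOfIsColimit (T J) L ι hc
  refine subsingleton_ext_of_cofan _ hc' F n (fun k => ?_)
  obtain ⟨K, hK, ⟨e⟩⟩ := hL k
  exact subsingleton_ext_of_iso ((T J).mapIso e.symm) F n (h K hK)

end Site

end Groth.Agent.Lib.ExtAdd95
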