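import Mathlib.CategoryTheory.Abelian.RightDerived
import Mathlib.Algebra.Homology.HomologicalComplexAbelian

open CategoryTheory CategoryTheory.Limits

namespace Groth.Agent.Lib.H43ExactDerived

variable {A : Type*} [Category A] [Abelian A] [HasInjectiveResolutions A]
  {B : Type*} [Category B] [Abelian B]

/-- the higher right derived functors of an exact functor vanish -/
theorem isZero_rightDerived_succ_of_exact (T : A ⥤ B) [T.Additive] [PreservesFiniteLimits T]
    [PreservesFiniteColimits T] (G : A) (p : ℕ) : IsZero ((T.rightDerived (p + 1)).obj G) := by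
  let I := injectiveResolution G
  refine IsZero.of_iso ?_ (I.isoRightDerivedObj T (p + 1))
  have h1 : I.cocomplex.ExactAt (p + 1) := I.cocomplex_exactAt_succ p
  rw [HomologicalComplex.exactAt_iff] at h1
  have h2 : (((T.mapHomologicalComplex _).obj I.cocomplex).sc (p + 1)).Exact := by
    exact h1.map T
  have h3 : ((T.mapHomologicalComplex _).obj I.cocomplex).ExactAt (p + 1) := by
    rw [HomologicalComplex.exactAt_iff]; exact h2
  exact (HomologicalComplex.exactAt_iff_isZero_homology _ _).1 h3

end Groth.Agent.Lib.H43ExactDerived
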