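import Groth.Prelude.Def_DerCA
import Mathlib.Algebra.Homology.HomotopyCategory.Triangulated
import Mathlib.Algebra.Homology.SingleHomology

/-!
# Toolkit for the extended alternating Cech complex `DerCA.extCech` (helper45)

* contractibility of mapping cones / cocones (via the triangulated structure of the homotopy
  category);
* the localisation map `K ⟶ K_S` is an isomorphism when `S` consists of units;
* vanishing of the terms of `extCech` outside `[0, r]`.
-/

set_option autoImplicit false
universe u

namespace Groth.Agent.Lib.ExtCech

open CategoryTheory CategoryTheory.Limits CategoryTheory.Pretriangulated HomologicalComplex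

section Cone

variable {C : Type*} [Category C] [Preadditive C] [HasBinaryBiproducts C] [HasZeroObject C]

/-- The mapping cone of a map between contractible complexes is contractible. -/
theorem contractible_mappingCone_of_contractible {K L : CochainComplex C ℤ} (φ : K ⟶ L)
    (hK : Nonempty (Homotopy (𝟙 K) 0)) (hL : Nonempty (Homotopy (𝟙 L) 0)) :
    Nonempty (Homotopy (𝟙 (CochainComplex.mappingCone φ)) 0) := by
  rw [← HomotopyCategory.isZero_quotient_obj_iff] at hK hL ⊢
  exact (CochainComplex.mappingCone.triangleh φ).isZero₃_of_isZero₁₂
    (HomotopyCategory.mappingCone_triangleh_distinguished φ) hK hL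

/-- The mapping cone of an isomorphism is contractible. -/
theorem contractible_mappingCone_of_isIso {K L : CochainComplex C ℤ} (φ : K ⟶ L) [IsIso φ] :
    Nonempty (Homotopy (𝟙 (CochainComplex.mappingCone φ)) 0) := by
  rw [← HomotopyCategory.isZero_quotient_obj_iff]
  refine (CochainComplex.mappingCone.triangleh φ).isZero₃_of_isIso₁
    (HomotopyCategory.mappingCone_triangleh_distinguished φ) ?_
  change IsIso ((HomotopyCategory.quotient C (ComplexShape.up ℤ)).map φ)
  infer_instance

omit [HasBinaryBiproducts C] [HasZeroObject C] in
/-- Shifts of contractible complexes are contractible. -/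
theorem contractible_shift {K : CochainComplex C ℤ} (h : Nonempty (Homotopy (𝟙 K) 0)) (n : ℤ) :
    Nonempty (Homotopy (𝟙 (K⟦n⟧)) 0) := by
  obtain ⟨h⟩ := h
  exact ⟨(Homotopy.ofEq (by simp)).trans ((h.shift n).trans (Homotopy.ofEq (by simp)))⟩

/-- The mapping cocone of a map between contractible complexes is contractible. -/
theorem contractible_mappingCocone_of_contractible {K L : CochainComplex C ℤ} (φ : K ⟶ L)
    (hK : Nonempty (Homotopy (𝟙 K) 0)) (hL : Nonempty (Homotopy (𝟙 L) 0)) :
    Nonempty (Homotopy (𝟙 (CochainComplex.mappingCocone φ)) 0) :=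
  contractible_shift (contractible_mappingCone_of_contractible φ hK hL) (-1)

/-- The mapping cocone of an isomorphism is contractible. -/
theorem contractible_mappingCocone_of_isIso {K L : CochainComplex C ℤ} (φ : K ⟶ L) [IsIso φ] :
    Nonempty (Homotopy (𝟙 (CochainComplex.mappingCocone φ)) 0) :=
  contractible_shift (contractible_mappingCone_of_isIso φ) (-1)

omit [HasBinaryBiproducts C] [HasZeroObject C] in
/-- Additive functors preserve contractibility. -/
theorem contractible_map {D : Type*} [Category D] [Preadditive D] (F : C ⥤ D) [F.Additive]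
    {K : CochainComplex C ℤ} (h : Nonempty (Homotopy (𝟙 K) 0)) :
    Nonempty (Homotopy (𝟙 ((F.mapHomologicalComplex (ComplexShape.up ℤ)).obj K)) 0) := by
  obtain ⟨h⟩ := h
  exact ⟨(Homotopy.ofEq (by simp)).trans ((F.mapHomotopy h).trans (Homotopy.ofEq (by simp)))⟩

end Cone

section Loc

variable {R : Type u} [CommRing R]

/-- If `S` consists of units, `M → M_S` is bijective. -/
theorem mkLinearMap_bijective_of_isUnit (S : Submonoid R) (hS : ∀ s ∈ S, IsUnit s)
    (M : Type*) [AddCommGroup M] [Module R M] :
    Function.Bijective (LocalizedModule.mkLinearMap S M) := by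
  have : IsLocalization S R := IsLocalization.of_le_isUnit (fun s hs => hS s hs)
  have : IsLocalizedModule S (LinearMap.id : M →ₗ[R] M) := isLocalizedModule_id S M R
  let e : M ≃ₗ[R] LocalizedModule S M :=
    IsLocalizedModule.linearEquiv S (LinearMap.id : M →ₗ[R] M) (LocalizedModule.mkLinearMap S M)
  have he : ∀ x, e x = LocalizedModule.mkLinearMap S M x := fun x =>
    IsLocalizedModule.linearEquiv_apply S (LinearMap.id : M →ₗ[R] M)
      (LocalizedModule.mkLinearMap S M) x
  have : (e : M → LocalizedModule S M) = LocalizedModule.mkLinearMap S M := funext he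
  rw [← this]
  exact e.bijective

/-- If `S` consists of units, the localisation unit is an isomorphism. -/
theorem isIso_locUnit_app (S : Submonoid R) (hS : ∀ s ∈ S, IsUnit s) (M : ModuleCat.{u} R) :
    IsIso ((DerCA.locUnit S).app M) := by
  rw [ConcreteCategory.isIso_iff_bijective]
  exact mkLinearMap_bijective_of_isUnit S hS M

/-- If `S` consists of units, `K ⟶ K_S` is an isomorphism of complexes. -/
theorem isIso_locCxUnit (S : Submonoid R) (hS : ∀ s ∈ S, IsUnit s) (K : DRing.Cx R) :
    IsIso (DerCA.locCxUnit S K) := by
  have : ∀ i, IsIso ((DerCA.locCxUnit S K).f i) := fun i => isIso_locUnit_app S hS (K.X i)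
  exact HomologicalComplex.Hom.isIso_of_components _

theorem extCech_cons (M : ModuleCat.{u} R) (f : R) (fs : List R) :
    DerCA.extCech M (f :: fs)
      = CochainComplex.mappingCocone (DerCA.locCxUnit (Submonoid.powers f) (DerCA.extCech M fs)) :=
  rfl

theorem extCech_nil (M : ModuleCat.{u} R) :
    DerCA.extCech M []
      = (HomologicalComplex.single (ModuleCat.{u} R) (ComplexShape.up ℤ) 0).obj M :=
  rfl

/-- If some entry of the list is a unit, the extended Cech complex is contractible. -/
theorem extCech_contractible (M : ModuleCat.{u} R) :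
    ∀ (fs : List R), (∃ f ∈ fs, IsUnit f) → Nonempty (Homotopy (𝟙 (DerCA.extCech M fs)) 0)
  | [], h => by
      obtain ⟨f, hf, _⟩ := h
      simp at hf
  | f :: fs, h => by
      rw [extCech_cons]
      by_cases hf : IsUnit f
      · have : IsIso (DerCA.locCxUnit (Submonoid.powers f) (DerCA.extCech M fs)) := by
          apply isIso_locCxUnit
          rintro s ⟨n, rfl⟩
          exact hf.pow n
        exact contractible_mappingCocone_of_isIso _
      · have h' : ∃ g ∈ fs, IsUnit g := by
          obtain ⟨g, hg, hu⟩ := h
          rcases List.mem_cons.mp hg with rfl | hg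
          · exact absurd hu hf
          · exact ⟨g, hg, hu⟩
        have ih := extCech_contractible M fs h'
        exact contractible_mappingCocone_of_contractible _ ih
          (contractible_map (DerCA.locFunctor (Submonoid.powers f)) ih)

/-- The terms of the extended Cech complex vanish outside `[0, r]`. -/
theorem isZero_extCech_X (M : ModuleCat.{u} R) :
    ∀ (fs : List R) (q : ℤ), (q < 0 ∨ (fs.length : ℤ) < q) → IsZero ((DerCA.extCech M fs).X q)
  | [], q, hq => by
      have hq0 : q ≠ 0 := by
        simp only [List.length_nil, Nat.cast_zero] at hq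
        omega
      exact HomologicalComplex.isZero_single_obj_X (ComplexShape.up ℤ) 0 M q hq0
  | f :: fs, q, hq => by
      have hq' : q < 0 ∨ (fs.length : ℤ) + 1 < q := by
        simpa using hq
      refine IsZero.of_iso ?_ (DerCA.mappingCoconeXIso _ q)
      rw [biprod_isZero_iff]
      constructor
      · exact isZero_extCech_X M fs q (by omega)
      · exact (DerCA.locFunctor (Submonoid.powers f)).map_isZero
          (isZero_extCech_X M fs (q - 1) (by omega))

end Loc

end Groth.Agent.Lib.ExtCech
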