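import Groth.Agent.Lib.ExtCech
import Mathlib.Algebra.Category.ModuleCat.Basic
import Mathlib.CategoryTheory.Linear.LinearFunctor

/-!
# More on `DerCA.extCech` (helper45): elements acting invertibly

`ActsInv f X` : the endomorphism `f • 𝟙 X` of `X : ModuleCat R` is an isomorphism.
If some entry `f` of the list acts invertibly on `M`, then `extCech M fs` is contractible, hence
acyclic.
-/

set_option autoImplicit false
universe u

namespace Groth.Agent.Lib.ExtCech

open CategoryTheory CategoryTheory.Limits HomologicalComplex

variable {R : Type u} [CommRing R]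

/-- `f` acts invertibly on the module `X`. -/
def ActsInv (f : R) (X : ModuleCat.{u} R) : Prop := IsIso (f • 𝟙 X)

theorem actsInv_iff_bijective (f : R) (X : ModuleCat.{u} R) :
    ActsInv f X ↔ Function.Bijective (fun x : X => f • x) := by
  unfold ActsInv
  rw [ConcreteCategory.isIso_iff_bijective]
  rfl

theorem actsInv_of_iso (f : R) {X Y : ModuleCat.{u} R} (e : X ≅ Y) (h : ActsInv f X) :
    ActsInv f Y := by
  unfold ActsInv at h ⊢
  have : f • 𝟙 Y = e.inv ≫ (f • 𝟙 X) ≫ e.hom := by
    rw [Linear.smul_comp, Linear.comp_smul, Category.id_comp, e.inv_hom_id]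
  rw [this]
  infer_instance

theorem actsInv_of_isZero (f : R) {X : ModuleCat.{u} R} (h : IsZero X) : ActsInv f X :=
  ⟨⟨0, h.eq_of_src _ _, h.eq_of_src _ _⟩⟩

theorem actsInv_biprod (f : R) {X Y : ModuleCat.{u} R} (hX : ActsInv f X) (hY : ActsInv f Y) :
    ActsInv f (X ⊞ Y) := by
  unfold ActsInv at hX hY ⊢
  have : f • 𝟙 (X ⊞ Y) = biprod.map (f • 𝟙 X) (f • 𝟙 Y) := by
    apply biprod.hom_ext <;> simp [Linear.smul_comp, Linear.comp_smul]
  rw [this]
  have := hX
  have := hY
  exact (biprod.mapIso (asIso (f • 𝟙 X)) (asIso (f • 𝟙 Y))).isIso_hom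

instance linear_locFunctor (S : Submonoid R) : (DerCA.locFunctor S).Linear R where
  map_smul {M N} g r := by
    ext x
    change (IsLocalizedModule.map S (LocalizedModule.mkLinearMap S M)
      (LocalizedModule.mkLinearMap S N)) (r • g.hom) x = _
    rw [map_smul]
    rfl

theorem actsInv_locFunctor (f : R) (S : Submonoid R) {X : ModuleCat.{u} R} (h : ActsInv f X) :
    ActsInv f ((DerCA.locFunctor S).obj X) := by
  unfold ActsInv at h ⊢
  have : f • 𝟙 ((DerCA.locFunctor S).obj X) = (DerCA.locFunctor S).map (f • 𝟙 X) := by
    rw [(DerCA.locFunctor S).map_smul, (DerCA.locFunctor S).map_id]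
  rw [this]
  infer_instance

/-- If every element of `S` acts bijectively on `N`, then `N → N_S` is bijective. -/
theorem mkLinearMap_bijective_of_smul_bijective (S : Submonoid R)
    (N : Type*) [AddCommGroup N] [Module R N]
    (h : ∀ s ∈ S, Function.Bijective (fun n : N => s • n)) :
    Function.Bijective (LocalizedModule.mkLinearMap S N) := by
  have : IsLocalizedModule S (LinearMap.id : N →ₗ[R] N) :=
    { map_units := fun s => by
        rw [Module.End.isUnit_iff]
        exact h s s.2
      surj := fun y => ⟨(y, 1), by simp⟩
      exists_of_eq := fun {x y} hxy => ⟨1, by simpa using hxy⟩ }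
  let e : N ≃ₗ[R] LocalizedModule S N :=
    IsLocalizedModule.linearEquiv S (LinearMap.id : N →ₗ[R] N) (LocalizedModule.mkLinearMap S N)
  have he : ∀ x, e x = LocalizedModule.mkLinearMap S N x := fun x =>
    IsLocalizedModule.linearEquiv_apply S (LinearMap.id : N →ₗ[R] N)
      (LocalizedModule.mkLinearMap S N) x
  have : (e : N → LocalizedModule S N) = LocalizedModule.mkLinearMap S N := funext he
  rw [← this]
  exact e.bijective

theorem isIso_locUnit_app_of_actsInv (f : R) (X : ModuleCat.{u} R) (h : ActsInv f X) :
    IsIso ((DerCA.locUnit (Submonoid.powers f)).app X) := by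
  rw [ConcreteCategory.isIso_iff_bijective]
  apply mkLinearMap_bijective_of_smul_bijective
  rintro s ⟨n, rfl⟩
  have hb := (actsInv_iff_bijective f X).mp h
  have : (fun x : X => f ^ n • x) = (fun x : X => f • x)^[n] := by
    induction n with
    | zero => funext x; simp
    | succ n ih =>
      funext x
      rw [Function.iterate_succ_apply', ← congrFun ih x, pow_succ', mul_smul]
  change Function.Bijective (fun x : X => f ^ n • x)
  rw [this]
  exact hb.iterate n

/-- If `f` acts invertibly on `M`, it acts invertibly on all terms of `extCech M fs`. -/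
theorem actsInv_extCech_X (f : R) (M : ModuleCat.{u} R) (h : ActsInv f M) :
    ∀ (fs : List R) (q : ℤ), ActsInv f ((DerCA.extCech M fs).X q)
  | [], q => by
      by_cases hq : q = 0
      · subst hq
        exact actsInv_of_iso f
          (HomologicalComplex.singleObjXSelf (ComplexShape.up ℤ) 0 M).symm h
      · exact actsInv_of_isZero f
          (HomologicalComplex.isZero_single_obj_X (ComplexShape.up ℤ) 0 M q hq)
  | g :: fs, q => by
      refine actsInv_of_iso f (DerCA.mappingCoconeXIso _ q).symm ?_
      exact actsInv_biprod f (actsInv_extCech_X f M h fs q)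
        (actsInv_locFunctor f _ (actsInv_extCech_X f M h fs (q - 1)))

/-- If some entry of the list acts invertibly on `M`, the extended Cech complex is contractible. -/
theorem extCech_contractible_of_actsInv (M : ModuleCat.{u} R) :
    ∀ (fs : List R), (∃ f ∈ fs, ActsInv f M) → Nonempty (Homotopy (𝟙 (DerCA.extCech M fs)) 0)
  | [], h => by
      obtain ⟨f, hf, _⟩ := h
      simp at hf
  | f :: fs, h => by
      rw [extCech_cons]
      by_cases hf : ActsInv f M
      · have : IsIso (DerCA.locCxUnit (Submonoid.powers f) (DerCA.extCech M fs)) := by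
          have : ∀ i, IsIso ((DerCA.locCxUnit (Submonoid.powers f) (DerCA.extCech M fs)).f i) :=
            fun i => isIso_locUnit_app_of_actsInv f _ (actsInv_extCech_X f M hf fs i)
          exact HomologicalComplex.Hom.isIso_of_components _
        exact contractible_mappingCocone_of_isIso _
      · have h' : ∃ g ∈ fs, ActsInv g M := by
          obtain ⟨g, hg, hu⟩ := h
          rcases List.mem_cons.mp hg with rfl | hg
          · exact absurd hu hf
          · exact ⟨g, hg, hu⟩
        have ih := extCech_contractible_of_actsInv M fs h'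
        exact contractible_mappingCocone_of_contractible _ ih
          (contractible_map (DerCA.locFunctor (Submonoid.powers f)) ih)

/-- Contractible complexes are acyclic. -/
theorem isZero_homology_of_contractible {C : Type*} [Category C] [Abelian C]
    {K : CochainComplex C ℤ} (h : Nonempty (Homotopy (𝟙 K) 0)) (q : ℤ) :
    IsZero (K.homology q) := by
  obtain ⟨h⟩ := h
  rw [IsZero.iff_id_eq_zero]
  have := h.homologyMap_eq q
  rw [HomologicalComplex.homologyMap_id, HomologicalComplex.homologyMap_zero] at this
  exact this

/-- If some entry of the list acts invertibly on `M`, the extended Cech complex is acyclic. -/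
theorem isZero_extCechH_of_actsInv (M : ModuleCat.{u} R) (fs : List R)
    (h : ∃ f ∈ fs, ActsInv f M) (q : ℤ) : IsZero (DerCA.extCechH fs M q) :=
  isZero_homology_of_contractible (extCech_contractible_of_actsInv M fs h) q

end Groth.Agent.Lib.ExtCech
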