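import Groth.Agent.Lib.ExtCechTors
import Mathlib.Algebra.Homology.HomotopyCategory.MappingCocone
import Mathlib.Algebra.Homology.ShortComplex.ModuleCat

/-!
# Extended Cech cohomology of a Koszul-regular sequence (helper19)

* `degExact_cocone`: the degreewise short exact sequence `0 → Z⟦-1⟧ → cocone φ → Y → 0`;
* `kcxC X l`, `kmapC`: iterated cones of multiplications on a complex (Koszul complex with
  coefficients in a complex); `kmapC_degExact`, `kcxC_single`;
* `Acyc.of_degExact`, `SmulBij`, `acyc_kcxC_of_smulBij`;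
* `acyc_kcxC_extCech`: `K(l) ⊗ extCech M gs` is as acyclic as `K(l) ⊗ M` when `gs ⊆ l`;
* `lemmaX`: the least degree of nonvanishing of a complex with `l`-torsion cohomology drops by
  exactly `|l|` under `K(l) ⊗ -`;
* `isZero_extCechH_of_koszul_acyclic`: if `H^n(kcx M fs) = 0` for `n < 0`, then
  `H^q(extCech M fs) = 0` for `q ≠ |fs|`.
-/

set_option autoImplicit false
universe u
open CategoryTheory CategoryTheory.Limits CochainComplex HomologicalComplex

namespace Groth.Agent.Lib.ExtCechKoszul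

open Groth.Agent.Lib.KoszulCone Groth.Agent.Lib.KoszulElem Groth.Agent.Lib.KoszulScale
  Groth.Agent.Lib.ExtCechTors

variable {R : Type u} [CommRing R]

section cocone

variable {Y Z : CochainComplex (ModuleCat.{u} R) ℤ} (φ : Y ⟶ Z)

/-- the inclusion of the shifted target into the cocone -/
noncomputable def coconeι : Z⟦(-1 : ℤ)⟧ ⟶ mappingCocone φ :=
  (mappingCone.inr φ)⟦(-1 : ℤ)⟧'

theorem coconeι_f (n : ℤ) : (coconeι φ).f n = (mappingCone.inr φ).f (n + -1) := rfl

theorem inr_f_apply (m : ℤ) (b : Z.X m) : (mappingCone.inr φ).f m b = mkE φ m 0 b := by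
  simp [mkE]

theorem fst_f_eq (n : ℤ) :
    (mappingCocone.fst φ).f n = (mappingCone.fst φ).1.v (n + -1) n (by omega) := by
  simp [mappingCocone.fst, HomComplex.Cochain.leftShift_v (n := 1) _ _ _ _ _ n _ (n + -1) (by lia),
    shiftFunctorObjXIso]
  erw [neg_neg, Category.id_comp]


theorem snd_inr_apply (m : ℤ) (b : Z.X m) :
    (mappingCone.snd φ).v m m (add_zero _) ((mappingCone.inr φ).f m b) = b := by
  have h := ConcreteCategory.congr_hom (mappingCone.inr_f_snd_v φ m) b
  rw [ConcreteCategory.comp_apply] at h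
  exact h

theorem fst_inr_apply (m n : ℤ) (h : m + 1 = n) (b : Z.X m) :
    (mappingCone.fst φ).1.v m n h ((mappingCone.inr φ).f m b) = 0 := by
  have h := ConcreteCategory.congr_hom (mappingCone.inr_f_fst_v φ m n h) b
  rw [ConcreteCategory.comp_apply] at h
  exact h

theorem fst_inl_apply (m n : ℤ) (h : m + 1 = n) (y : Y.X n) :
    (mappingCone.fst φ).1.v m n h ((mappingCone.inl φ).v n m (by omega) y) = y := by
  have h := ConcreteCategory.congr_hom (mappingCone.inl_v_fst_v φ n m (by omega)) y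
  rw [ConcreteCategory.comp_apply] at h
  exact h

theorem id_X_apply (m n : ℤ) (h : m + 1 = n) (z : (mappingCone φ).X m) :
    (mappingCone.inl φ).v n m (by omega) ((mappingCone.fst φ).1.v m n h z) +
      (mappingCone.inr φ).f m ((mappingCone.snd φ).v m m (add_zero _) z) = z := by
  have h2 := congrArg (fun f => (ConcreteCategory.hom f) z) (mappingCone.id_X φ m n h)
  simpa using h2

theorem cone_exact (m n : ℤ) (h : m + 1 = n) :
    Function.Injective ((mappingCone.inr φ).f m) ∧
      Function.Exact ((mappingCone.inr φ).f m) ((mappingCone.fst φ).1.v m n h) ∧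
      Function.Surjective ((mappingCone.fst φ).1.v m n h) := by
  refine ⟨?_, ?_, ?_⟩
  · intro b b' hb
    have h2 := congrArg ((mappingCone.snd φ).v m m (add_zero _)) hb
    rw [snd_inr_apply, snd_inr_apply] at h2
    exact h2
  · intro z
    constructor
    · intro hz
      refine ⟨(mappingCone.snd φ).v m m (add_zero _) z, ?_⟩
      have h2 := id_X_apply φ m n h z
      rw [hz, map_zero, zero_add] at h2
      exact h2
    · rintro ⟨b, rfl⟩
      exact fst_inr_apply φ m n h b
  · intro y
    exact ⟨(mappingCone.inl φ).v n m (by omega) y, fst_inl_apply φ m n h y⟩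

theorem degExact_cocone : DegExact (coconeι φ) (mappingCocone.fst φ) := by
  intro n
  rw [fst_f_eq, coconeι_f]
  exact cone_exact φ (n + -1) n (by omega)

end cocone


section kcxC

/-- iterated cones of multiplications on a complex -/
noncomputable def kcxC (X : CochainComplex (ModuleCat.{u} R) ℤ) :
    List R → CochainComplex (ModuleCat.{u} R) ℤ
  | [] => X
  | f :: l => mappingCone (f • 𝟙 (kcxC X l))

/-- functoriality of `kcxC` -/
noncomputable def kmapC {X Y : CochainComplex (ModuleCat.{u} R) ℤ} (φ : X ⟶ Y) :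
    ∀ l : List R, kcxC X l ⟶ kcxC Y l
  | [] => φ
  | f :: l => mappingCone.map (f • 𝟙 (kcxC X l)) (f • 𝟙 (kcxC Y l)) (kmapC φ l) (kmapC φ l)
      (by simp [Linear.smul_comp, Linear.comp_smul])

theorem kmapC_degExact {X Y Z : CochainComplex (ModuleCat.{u} R) ℤ} (ι : X ⟶ Y) (p : Y ⟶ Z)
    (h : DegExact ι p) : ∀ l : List R, DegExact (kmapC ι l) (kmapC p l)
  | [] => h
  | _ :: l => DegExact.cone _ _ _ _ _ _ _ _ _ (kmapC_degExact ι p h l) (kmapC_degExact ι p h l)

theorem kcxC_single (M : ModuleCat.{u} R) : ∀ l : List R,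
    kcxC ((HomologicalComplex.single (ModuleCat.{u} R) (ComplexShape.up ℤ) 0).obj M) l = kcx M l
  | [] => rfl
  | f :: l => by
    show mappingCone (f • 𝟙 (kcxC _ l)) = mappingCone (f • 𝟙 (kcx M l))
    rw [kcxC_single M l]

/-- acyclicity of the middle term of a degreewise short exact sequence -/
theorem Acyc.of_degExact {N E Y : CochainComplex (ModuleCat.{u} R) ℤ} (ι : N ⟶ E) (p : E ⟶ Y)
    (h : DegExact ι p) (n : ℤ) (hN : Acyc N n) (hY : Acyc Y n) : Acyc E n := by
  intro i k hij hjk z hz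
  have h1 : Y.d n k (p.f n z) = 0 := by rw [← hom_comm_apply, hz, map_zero]
  obtain ⟨y, hy⟩ := hY i k hij hjk _ h1
  obtain ⟨y', rfl⟩ := (h i).2.2 y
  have h2 : p.f n (z - E.d i n y') = 0 := by rw [map_sub, hom_comm_apply, hy, sub_self]
  obtain ⟨u, hu⟩ := ((h n).2.1 _).mp h2
  have h3 : N.d n k u = 0 := by
    apply (h k).1
    rw [hom_comm_apply, hu, map_sub, hz, d_d_apply, sub_zero, map_zero]
  obtain ⟨v, rfl⟩ := hN i k hij hjk u h3
  refine ⟨y' + ι.f i v, ?_⟩
  rw [map_add, ← hom_comm_apply, hu]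
  abel

/-- `g` acts bijectively on all terms -/
def SmulBij (g : R) (X : CochainComplex (ModuleCat.{u} R) ℤ) : Prop :=
  ∀ j : ℤ, Function.Bijective (fun x : X.X j => g • x)

theorem SmulBij.cone {g : R} {F G : CochainComplex (ModuleCat.{u} R) ℤ} (φ : F ⟶ G)
    (hF : SmulBij g F) (hG : SmulBij g G) : SmulBij g (mappingCone φ) := by
  intro j
  constructor
  · intro z z' hzz
    have hzz' : g • z = g • z' := hzz
    apply ext_cone
    · apply (hF (j + 1)).1
      show g • fstE φ j z = g • fstE φ j z'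
      rw [← fstE_smul, ← fstE_smul, hzz']
    · apply (hG j).1
      show g • sndE φ j z = g • sndE φ j z'
      rw [← sndE_smul, ← sndE_smul, hzz']
  · intro z
    obtain ⟨a, ha⟩ := (hF (j + 1)).2 (fstE φ j z)
    obtain ⟨b, hb⟩ := (hG j).2 (sndE φ j z)
    refine ⟨mkE φ j a b, ?_⟩
    show g • mkE φ j a b = z
    rw [mkE_smul]
    have ha' : g • a = fstE φ j z := ha
    have hb' : g • b = sndE φ j z := hb
    rw [ha', hb', mkE_fstE_sndE]

theorem SmulBij.kcxC {g : R} {X : CochainComplex (ModuleCat.{u} R) ℤ} (h : SmulBij g X) :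
    ∀ l : List R, SmulBij g (kcxC X l)
  | [] => h
  | _ :: l => SmulBij.cone _ (SmulBij.kcxC h l) (SmulBij.kcxC h l)

theorem acyc_cone_smul_of_smulBij {g : R} {X : CochainComplex (ModuleCat.{u} R) ℤ}
    (h : SmulBij g X) (n : ℤ) : Acyc (mappingCone (g • 𝟙 X)) n := by
  intro i k hij hjk z hz
  subst hij
  subst hjk
  rw [d_eq_zero_iff] at hz
  obtain ⟨hz1, hz2⟩ := hz
  rw [smul_id_f_apply] at hz2
  obtain ⟨c, hc⟩ := (h (i + 1)).2 (sndE (g • 𝟙 X) (i + 1) z)
  have hc' : g • c = sndE (g • 𝟙 X) (i + 1) z := hc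
  refine ⟨mkE (g • 𝟙 X) i c 0, ?_⟩
  apply ext_cone
  · rw [d_mkE, fstE_mkE]
    apply (h (i + 1 + 1)).1
    show g • (-(X.d (i + 1) (i + 1 + 1) c)) = g • fstE (g • 𝟙 X) (i + 1) z
    rw [smul_neg, ← map_smul, hc', eq_neg_of_add_eq_zero_right hz2, neg_neg]
  · rw [d_mkE, sndE_mkE, map_zero, add_zero, smul_id_f_apply, hc']

theorem acyc_kcxC_of_smulBij {g : R} {X : CochainComplex (ModuleCat.{u} R) ℤ}
    (h : SmulBij g X) : ∀ l : List R, g ∈ l → ∀ n : ℤ, Acyc (kcxC X l) n
  | [], hg, _ => absurd hg List.not_mem_nil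
  | f :: l, hg, n => by
    by_cases hgl : g ∈ l
    · exact Acyc.cone _ (acyc_kcxC_of_smulBij h l hgl (n + 1)) (acyc_kcxC_of_smulBij h l hgl n)
    · have hgf : g = f := by
        rcases List.mem_cons.mp hg with h' | h'
        · exact h'
        · exact absurd h' hgl
      subst hgf
      exact acyc_cone_smul_of_smulBij (SmulBij.kcxC h l) n

end kcxC


section absorb

theorem smulBij_shift_loc (g : R) (Y : CochainComplex (ModuleCat.{u} R) ℤ) :
    SmulBij g (((DerCA.locCx (Submonoid.powers g)).obj Y)⟦(-1 : ℤ)⟧) := by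
  intro j
  exact loc_smul_bijective (Submonoid.powers g) Y (j + -1) ⟨g, Submonoid.mem_powers g⟩

/-- Koszul complexes on a list containing `g` do not see the passage to the cocone of the
localisation at `g` -/
theorem acyc_kcxC_cocone (Y : CochainComplex (ModuleCat.{u} R) ℤ) (g : R) (l : List R)
    (hg : g ∈ l) (n : ℤ) (h : Acyc (kcxC Y l) n) :
    Acyc (kcxC (mappingCocone (DerCA.locCxUnit (Submonoid.powers g) Y)) l) n :=
  Acyc.of_degExact (kmapC (coconeι _) l) (kmapC (mappingCocone.fst _) l)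
    (kmapC_degExact _ _ (degExact_cocone _) l) n
    (acyc_kcxC_of_smulBij (smulBij_shift_loc g Y) l hg n) h

theorem acyc_kcxC_extCech (M : ModuleCat.{u} R) (l : List R) (n : ℤ)
    (h : Acyc (kcxC ((HomologicalComplex.single (ModuleCat.{u} R) (ComplexShape.up ℤ) 0).obj M)
      l) n) :
    ∀ gs : List R, (∀ g ∈ gs, g ∈ l) → Acyc (kcxC (DerCA.extCech M gs) l) n
  | [], _ => h
  | g :: gs, hg =>
    acyc_kcxC_cocone _ g l (hg g List.mem_cons_self) n
      (acyc_kcxC_extCech M l n h gs (fun g' hg' => hg g' (List.mem_cons_of_mem _ hg')))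

end absorb

section lemmaX

variable (T : R → Prop)

/-- from a non-bounding cocycle with torsion class, one killed by `h` -/
theorem exists_cocycle_smul_boundary {E : CochainComplex (ModuleCat.{u} R) ℤ} (h : R)
    (hE : TorsH h E) (i j k : ℤ) (hij : i + 1 = j) (hjk : j + 1 = k) (a : E.X j)
    (ha : E.d j k a = 0) (hna : ¬ ∃ w : E.X i, E.d i j w = a) :
    ∃ a' : E.X j, E.d j k a' = 0 ∧ (¬ ∃ w : E.X i, E.d i j w = a') ∧
      ∃ b' : E.X i, E.d i j b' = h • a' := by
  classical
  have hex : ∃ m : ℕ, ∃ w : E.X i, E.d i j w = h ^ m • a := hE i j k hij hjk a ha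
  have hm0 : Nat.find hex ≠ 0 := by
    intro h0
    have := Nat.find_spec hex
    rw [h0, pow_zero, one_smul] at this
    exact hna this
  obtain ⟨m, hm⟩ := Nat.exists_eq_succ_of_ne_zero hm0
  refine ⟨h ^ m • a, ?_, ?_, ?_⟩
  · rw [map_smul, ha, smul_zero]
  · intro hw
    have := Nat.find_min hex (m := m) (by omega)
    exact this hw
  · obtain ⟨w, hw⟩ := Nat.find_spec hex
    refine ⟨w, ?_⟩
    rw [hw, hm, smul_smul, ← pow_succ']

theorem lemmaX (D : CochainComplex (ModuleCat.{u} R) ℤ) (hT : ∀ g, T g → TorsH g D) :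
    ∀ (l : List R), (∀ g ∈ l, T g) → ∀ e1 : ℤ, (∀ n < e1 + (l.length : ℤ), Acyc D n) →
      ¬ Acyc D (e1 + (l.length : ℤ)) →
      (∀ n < e1, Acyc (kcxC D l) n) ∧ ¬ Acyc (kcxC D l) e1 ∧ ∀ g, T g → TorsH g (kcxC D l)
  | [], _, e1, h1, h2 => by
    simp only [List.length_nil, Nat.cast_zero, add_zero] at h1 h2
    exact ⟨h1, h2, hT⟩
  | h :: l, hl, e1, h1, h2 => by
    have hlen : e1 + ((h :: l).length : ℤ) = (e1 + 1) + (l.length : ℤ) := by
      simp only [List.length_cons, Nat.cast_add, Nat.cast_one]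
      ring
    rw [hlen] at h1 h2
    obtain ⟨ih1, ih2, ih3⟩ := lemmaX D hT l (fun g hg => hl g (List.mem_cons_of_mem _ hg))
      (e1 + 1) h1 h2
    refine ⟨?_, ?_, ?_⟩
    · intro n hn
      exact Acyc.cone _ (ih1 (n + 1) (by omega)) (ih1 n (by omega))
    · intro hC0
      have hC : Acyc (mappingCone (h • 𝟙 (kcxC D l))) e1 := hC0
      apply ih2
      intro i k hij hjk a ha
      by_contra hna
      obtain ⟨a', ha'1, ha'2, b', hb'⟩ := exists_cocycle_smul_boundary h
        (ih3 h (hl h List.mem_cons_self)) i _ k hij hjk a ha hna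
      obtain rfl : i = e1 := by omega
      subst hjk
      obtain ⟨i', rfl⟩ : ∃ i', i = i' + 1 := ⟨i - 1, by ring⟩
      obtain ⟨w, hw⟩ := hC i' (i' + 1 + 1) rfl rfl
        (mkE (h • 𝟙 (kcxC D l)) (i' + 1) a' (-b')) (by
          rw [d_mkE, ha'1, smul_id_f_apply, map_neg, hb', neg_zero, add_neg_cancel]
          apply ext_cone
          · rw [fstE_mkE, fstE_zero]
          · rw [sndE_mkE, sndE_zero])
      apply ha'2
      refine ⟨-(fstE (h • 𝟙 (kcxC D l)) i' w), ?_⟩
      have h3 := congrArg (fstE (h • 𝟙 (kcxC D l)) (i' + 1)) hw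
      rw [fstE_d, fstE_mkE] at h3
      rw [map_neg]
      exact h3
    · intro g hg
      exact TorsH.cone _ (ih3 g hg) (ih3 g hg)

end lemmaX


section main

theorem isZero_homology_iff' (K : CochainComplex (ModuleCat.{u} R) ℤ)
    (i j k : ℤ) (hij : i + 1 = j) (hjk : j + 1 = k) :
    IsZero (K.homology j) ↔ Function.Exact (K.d i j) (K.d j k) := by
  rw [← HomologicalComplex.exactAt_iff_isZero_homology,
    HomologicalComplex.exactAt_iff' K i j k (by simp; omega) (by simp; omega),
    ShortComplex.ShortExact.moduleCat_exact_iff_function_exact]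
  rfl

theorem acyc_iff_isZero (K : CochainComplex (ModuleCat.{u} R) ℤ) (j : ℤ) :
    Acyc K j ↔ IsZero (K.homology j) := by
  constructor
  · intro h
    rw [isZero_homology_iff' K (j - 1) j (j + 1) (by ring) rfl]
    intro z
    constructor
    · intro hz
      exact h (j - 1) (j + 1) (by ring) rfl z hz
    · rintro ⟨w, rfl⟩
      exact d_d_apply K _ _ _ w
  · intro h i k hij hjk z hz
    rw [isZero_homology_iff' K i j k hij hjk] at h
    exact (h z).mp hz

theorem acyc_of_isZero_X (K : CochainComplex (ModuleCat.{u} R) ℤ) (j : ℤ) (h : IsZero (K.X j)) :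
    Acyc K j := by
  intro i k _ _ z _
  have hs := ModuleCat.subsingleton_of_isZero h
  exact ⟨0, Subsingleton.elim _ _⟩

/-- If the Koszul complex of `M` on `fs` is acyclic in negative degrees, the extended Cech complex
of `M` on `fs` has cohomology only in degree `fs.length`. -/
theorem isZero_extCechH_of_koszul_acyclic (fs : List R) (M : ModuleCat.{u} R)
    (hreg : ∀ n : ℤ, n < 0 → IsZero ((kcx M fs).homology n)) (q : ℤ)
    (hq : q ≠ (fs.length : ℤ)) : IsZero (DerCA.extCechH fs M q) := by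
  rw [← acyc_iff_isZero]
  have hA : ∀ n : ℤ, n < 0 → Acyc (kcxC (DerCA.extCech M fs) fs) n := by
    intro n hn
    refine acyc_kcxC_extCech M fs n ?_ fs (fun g hg => hg)
    rw [kcxC_single]
    exact (acyc_iff_isZero _ _).mpr (hreg n hn)
  have key : ∀ (m : ℕ) (q : ℤ), q < (m : ℤ) → q < (fs.length : ℤ) →
      Acyc (DerCA.extCech M fs) q := by
    intro m
    induction m with
    | zero =>
      intro q hq1 _
      exact acyc_of_isZero_X _ q
        (Groth.Agent.Lib.ExtCech.isZero_extCech_X M fs q (Or.inl (by simpa using hq1)))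
    | succ m ih =>
      intro q hq1 hq2
      by_cases hqm : q < (m : ℤ)
      · exact ih q hqm hq2
      · by_contra hna
        obtain ⟨-, hX, -⟩ := lemmaX (fun g => g ∈ fs) (DerCA.extCech M fs)
          (fun g hg => torsH_extCech M fs g hg) fs (fun g hg => hg) (q - (fs.length : ℤ))
          (by
            intro n hn
            rw [sub_add_cancel] at hn
            push_cast at hq1
            exact ih n (by omega) (by omega))
          (by rwa [sub_add_cancel])
        exact hX (hA _ (by omega))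
  rcases lt_or_gt_of_ne hq with h | h
  · exact key (q.toNat + 1) q (by push_cast; omega) h
  · exact acyc_of_isZero_X _ q (Groth.Agent.Lib.ExtCech.isZero_extCech_X M fs q (Or.inr h))

end main

end Groth.Agent.Lib.ExtCechKoszul
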