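import Groth.Agent.Lib.KoszulElem2
import Groth.Prelude.Def_Koszul
import Mathlib.RingTheory.Ideal.Operations

/-!
# Scaling the differentials of a Koszul complex (helper19)

`ScaledEquiv x K K'` : degreewise linear equivalences `θ_j : K^j ≃ K'^j` with `d' θ = x • θ d`.
The Koszul complex of `(x f_1, …, x f_n)` is such a scaling of the Koszul complex of `(f_1, …, f_n)`
(`scaledEquivKoszul`), and when `x` is a nonzerodivisor on the terms of `K` the cohomology of `K'` is
`Z^q(K) / x B^q(K)` (`ScaledEquiv.nonempty_homology_iso`).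
-/

universe u

open CategoryTheory CategoryTheory.Limits CochainComplex HomologicalComplex
open scoped Pointwise

namespace Groth.Agent.Lib.KoszulScale

open Groth.Agent.Lib.KoszulCone Groth.Agent.Lib.KoszulElem

variable {A : Type u} [CommRing A]

/-- Degreewise linear equivalences multiplying the differential by `x`. -/
structure ScaledEquiv (x : A) (K K' : CochainComplex (ModuleCat.{u} A) ℤ) where
  θ : ∀ j, K.X j ≃ₗ[A] K'.X j
  comm : ∀ j k (a : K.X j), K'.d j k (θ j a) = x • θ k (K.d j k a)

section cone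

variable {F G : CochainComplex (ModuleCat.{u} A) ℤ} (φ : F ⟶ G)

theorem fstE_smul (n : ℤ) (c : A) (z : (mappingCone φ).X n) :
    fstE φ n (c • z) = c • fstE φ n z := by simp [fstE]

theorem sndE_smul (n : ℤ) (c : A) (z : (mappingCone φ).X n) :
    sndE φ n (c • z) = c • sndE φ n z := by simp [sndE]

/-- the terms of a cone, as a product -/
noncomputable def coneEquiv (n : ℤ) : (mappingCone φ).X n ≃ₗ[A] (F.X (n + 1) × G.X n) where
  toFun z := (fstE φ n z, sndE φ n z)
  map_add' z z' := by rw [fstE_add, sndE_add]; rfl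
  map_smul' c z := by rw [fstE_smul, sndE_smul]; rfl
  invFun p := mkE φ n p.1 p.2
  left_inv z := mkE_fstE_sndE φ n z
  right_inv p := by
    show (fstE φ n (mkE φ n p.1 p.2), sndE φ n (mkE φ n p.1 p.2)) = p
    rw [fstE_mkE, sndE_mkE]

theorem coneEquiv_apply (n : ℤ) (z : (mappingCone φ).X n) :
    coneEquiv φ n z = (fstE φ n z, sndE φ n z) := rfl

theorem coneEquiv_symm_apply (n : ℤ) (p : F.X (n + 1) × G.X n) :
    (coneEquiv φ n).symm p = mkE φ n p.1 p.2 := rfl

end cone

/-- scaling passes to cones -/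
noncomputable def ScaledEquiv.cone {x : A} {K K' : CochainComplex (ModuleCat.{u} A) ℤ}
    (s : ScaledEquiv x K K') (f : A) :
    ScaledEquiv x (mappingCone (f • 𝟙 K)) (mappingCone ((x * f) • 𝟙 K')) where
  θ n := (coneEquiv (f • 𝟙 K) n).trans
    ((LinearEquiv.prodCongr (s.θ (n + 1)) (s.θ n)).trans (coneEquiv ((x * f) • 𝟙 K') n).symm)
  comm j k z := by
    by_cases hjk : j + 1 = k
    · subst hjk
      have e1 : ∀ (n : ℤ) (w : (mappingCone (f • 𝟙 K)).X n),
          ((coneEquiv (f • 𝟙 K) n).trans
            ((LinearEquiv.prodCongr (s.θ (n + 1)) (s.θ n)).trans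
              (coneEquiv ((x * f) • 𝟙 K') n).symm)) w =
            mkE ((x * f) • 𝟙 K') n (s.θ (n + 1) (fstE (f • 𝟙 K) n w))
              (s.θ n (sndE (f • 𝟙 K) n w)) := fun n w => rfl
      rw [e1, e1, d_mkE]
      apply ext_cone
      · rw [fstE_mkE, fstE_smul, fstE_mkE, fstE_d, s.comm, map_neg, smul_neg]
      · rw [sndE_mkE, sndE_smul, sndE_mkE, sndE_d, s.comm, smul_id_f_apply, smul_id_f_apply,
          map_add, smul_add, map_smul, smul_smul]
    · have h1 : (mappingCone ((x * f) • 𝟙 K')).d j k = 0 :=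
        (mappingCone ((x * f) • 𝟙 K')).shape j k hjk
      have h2 : (mappingCone (f • 𝟙 K)).d j k = 0 := (mappingCone (f • 𝟙 K)).shape j k hjk
      rw [h1, h2]
      simp only [ModuleCat.hom_zero, LinearMap.zero_apply, map_zero, smul_zero]

section homology

variable {x : A} {K K' : CochainComplex (ModuleCat.{u} A) ℤ}

theorem ScaledEquiv.map_ker (s : ScaledEquiv x K K') (q k : ℤ) (hx : ∀ a : K.X k, x • a = 0 → a = 0) :
    (LinearMap.ker (K.d q k).hom).map ((s.θ q : K.X q ≃ₗ[A] K'.X q) : K.X q →ₗ[A] K'.X q) =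
      LinearMap.ker (K'.d q k).hom := by
  ext z'
  rw [Submodule.mem_map, LinearMap.mem_ker]
  constructor
  · rintro ⟨z, hz, rfl⟩
    rw [LinearMap.mem_ker] at hz
    show K'.d q k (s.θ q z) = 0
    have hz' : K.d q k z = 0 := hz
    rw [s.comm, hz', map_zero, smul_zero]
  · intro hz'
    refine ⟨(s.θ q).symm z', ?_, LinearEquiv.apply_symm_apply _ _⟩
    rw [LinearMap.mem_ker]
    show K.d q k ((s.θ q).symm z') = 0
    have h1 := s.comm q k ((s.θ q).symm z')
    rw [LinearEquiv.apply_symm_apply] at h1
    have hz'' : K'.d q k z' = 0 := hz'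
    rw [hz'', ← map_smul] at h1
    have h2 : x • K.d q k ((s.θ q).symm z') = 0 :=
      (s.θ k).injective (h1.symm.trans (map_zero _).symm)
    exact hx _ h2

/-- cohomology of a scaled complex: `H^q(K') ≃ Z^q(K) / x B^q(K)` -/
theorem ScaledEquiv.nonempty_homology_iso (s : ScaledEquiv x K K') (i q k : ℤ) (hi : i + 1 = q) (hk : q + 1 = k)
    (hx : ∀ a : K.X k, x • a = 0 → a = 0) :
    Nonempty (K'.homology q ≅
      ModuleCat.of A (↥(LinearMap.ker (K.d q k).hom) ⧸
        Submodule.comap (LinearMap.ker (K.d q k).hom).subtype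
          (Ideal.span {x} • LinearMap.range (K.d i q).hom))) := by
  have e0 : K'.homology q ≅ (K'.sc' i q k).homology :=
    ShortComplex.homologyMapIso (K'.isoSc' i q k (by simp; omega) (by simp [hk]))
  let tc : K'.X i →ₗ[A] ↥(LinearMap.ker (K'.d q k).hom) :=
    (K'.d i q).hom.codRestrict _ (fun a => by
      rw [LinearMap.mem_ker]; exact d_d_apply K' i q k a)
  have e1 : (K'.sc' i q k).homology ≅
      ModuleCat.of A (↥(LinearMap.ker (K'.d q k).hom) ⧸ LinearMap.range tc) :=
    (K'.sc' i q k).moduleCatHomologyIso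
  let eZ : ↥(LinearMap.ker (K.d q k).hom) ≃ₗ[A] ↥(LinearMap.ker (K'.d q k).hom) :=
    LinearEquiv.ofSubmodules (s.θ q) _ _ (s.map_ker q k hx)
  have he : (Submodule.comap (LinearMap.ker (K.d q k).hom).subtype
      (Ideal.span {x} • LinearMap.range (K.d i q).hom)).map
        (eZ : ↥(LinearMap.ker (K.d q k).hom) →ₗ[A] ↥(LinearMap.ker (K'.d q k).hom)) =
      LinearMap.range tc := by
    ext ⟨z', hz'⟩
    rw [Submodule.mem_map, LinearMap.mem_range]
    constructor
    · rintro ⟨⟨z, hz⟩, hmem, heq⟩
      rw [Submodule.mem_comap, Submodule.ideal_span_singleton_smul,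
        Submodule.mem_smul_pointwise_iff_exists] at hmem
      obtain ⟨y, ⟨a, rfl⟩, hy⟩ := hmem
      refine ⟨s.θ i a, ?_⟩
      apply Subtype.ext
      have h3 : s.θ q z = z' := congrArg Subtype.val heq
      show K'.d i q (s.θ i a) = z'
      rw [s.comm, ← h3, ← map_smul]
      congr 1
    · rintro ⟨a', ha'⟩
      have h3 : K'.d i q a' = z' := congrArg Subtype.val ha'
      have h4 := s.comm i q ((s.θ i).symm a')
      rw [LinearEquiv.apply_symm_apply, h3, ← map_smul] at h4
      have hmem : x • K.d i q ((s.θ i).symm a') ∈ LinearMap.ker (K.d q k).hom := by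
        rw [LinearMap.mem_ker]
        show K.d q k (x • K.d i q ((s.θ i).symm a')) = 0
        rw [map_smul, d_d_apply, smul_zero]
      refine ⟨⟨x • K.d i q ((s.θ i).symm a'), hmem⟩, ?_, ?_⟩
      · rw [Submodule.mem_comap, Submodule.ideal_span_singleton_smul,
          Submodule.mem_smul_pointwise_iff_exists]
        exact ⟨_, ⟨_, rfl⟩, rfl⟩
      · apply Subtype.ext
        exact h4.symm
  exact ⟨e0 ≪≫ e1 ≪≫ (Submodule.Quotient.equiv _ _ eZ he).symm.toModuleIso⟩

end homology

section koszul

/-- the terms of the Koszul complex on `A` are torsion-free for nonzerodivisors -/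
theorem eq_zero_of_smul_eq_zero {x : A} (hx : x ∈ nonZeroDivisors A) :
    ∀ (l : List A) (j : ℤ) (a : (Koszul.koszul A l).X j), x • a = 0 → a = 0
  | [], j, a, h => by
    by_cases hj : j = 0
    · let e := (HomologicalComplex.singleObjXIsoOfEq (ComplexShape.up ℤ) 0
        (ModuleCat.of A A) j hj).toLinearEquiv
      have h1 : x • e a = 0 := by
        rw [← map_smul]
        exact (congrArg e h).trans (map_zero e)
      have h2 : e a = 0 := by
        have h3 : (e a : A) * x = 0 := by rw [mul_comm]; exact h1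
        exact (mem_nonZeroDivisors_iff_right.mp hx) _ h3
      exact e.injective (h2.trans (map_zero e).symm)
    · have : Subsingleton ((Koszul.koszul A []).X j) :=
        ModuleCat.subsingleton_of_isZero
          (HomologicalComplex.isZero_single_obj_X (ComplexShape.up ℤ) 0 (ModuleCat.of A A) j hj)
      exact Subsingleton.elim _ _
  | f :: l, j, a, h => by
    have key : ∀ a : (mappingCone (f • 𝟙 (Koszul.koszul A l))).X j, x • a = 0 → a = 0 := by
      intro a h
      have h1 := congrArg (fstE (f • 𝟙 (Koszul.koszul A l)) j) h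
      have h2 := congrArg (sndE (f • 𝟙 (Koszul.koszul A l)) j) h
      rw [fstE_smul, fstE_zero] at h1
      rw [sndE_smul, sndE_zero] at h2
      apply ext_cone (f • 𝟙 (Koszul.koszul A l)) j
      · rw [fstE_zero]
        exact eq_zero_of_smul_eq_zero hx l (j + 1) _ h1
      · rw [sndE_zero]
        exact eq_zero_of_smul_eq_zero hx l j _ h2
    exact key a h

/-- the Koszul complex of `(x f_i)` is the `x`-scaling of the Koszul complex of `(f_i)` -/
noncomputable def scaledEquivKoszul (x : A) :
    ∀ l : List A, ScaledEquiv x (Koszul.koszul A l) (Koszul.koszul A (l.map (fun f => x * f)))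
  | [] =>
    { θ := fun j => LinearEquiv.refl A _
      comm := fun j k a => by
        have h0 : (Koszul.koszul A []).d j k = 0 :=
          HomologicalComplex.single_obj_d (ComplexShape.up ℤ) 0 (ModuleCat.of A A) j k
        show (Koszul.koszul A []).d j k a = x • (Koszul.koszul A []).d j k a
        rw [h0]
        simp }
  | f :: l => (scaledEquivKoszul x l).cone f

/-- `H^q(K(x f)) ≃ Z^q(K(f)) / x B^q(K(f))` for a nonzerodivisor `x` -/
theorem nonempty_homology_koszul_mul_iso (l : List A) (x : A) (hx : x ∈ nonZeroDivisors A)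
    (q : ℤ) :
    Nonempty ((Koszul.koszul A (l.map (fun f => x * f))).homology q ≅
      ModuleCat.of A (↥(LinearMap.ker ((Koszul.koszul A l).d q (q + 1)).hom) ⧸
        Submodule.comap (LinearMap.ker ((Koszul.koszul A l).d q (q + 1)).hom).subtype
          (Ideal.span {x} • LinearMap.range ((Koszul.koszul A l).d (q - 1) q).hom))) :=
  (scaledEquivKoszul x l).nonempty_homology_iso (q - 1) q (q + 1) (by omega) rfl
    (eq_zero_of_smul_eq_zero hx l (q + 1))

end koszul

end Groth.Agent.Lib.KoszulScale
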