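import Groth.Agent.Lib.ExtCech2
import Groth.Agent.Lib.KoszulElem2
import Groth.Agent.Lib.KoszulScale

/-!
# Torsion of the cohomology of the extended alternating Cech complex (helper19)

Elementwise predicates on complexes of modules:
* `Acyc K j` : cocycles of degree `j` are coboundaries;
* `TorsH g K` : every cocycle becomes a coboundary after multiplication by a power of `g`.

`TorsH` is stable under shifts, cones, termwise localisation, and holds for the cone of the
localisation map `K ⟶ K_g`.  Consequently every class of `H^q(extCech M fs)` is killed by a power of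
each entry of `fs` (`torsH_extCech`, `exists_pow_smul_eq_zero`).
-/

set_option autoImplicit false

universe u

open CategoryTheory CategoryTheory.Limits CochainComplex HomologicalComplex

namespace Groth.Agent.Lib.ExtCechTors

open Groth.Agent.Lib.KoszulCone Groth.Agent.Lib.KoszulElem Groth.Agent.Lib.KoszulScale

variable {R : Type u} [CommRing R]

/-- cocycles of degree `j` are coboundaries -/
def Acyc (K : CochainComplex (ModuleCat.{u} R) ℤ) (j : ℤ) : Prop :=
  ∀ (i k : ℤ), i + 1 = j → j + 1 = k → ∀ z : K.X j, K.d j k z = 0 → ∃ w : K.X i, K.d i j w = z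

/-- every cocycle becomes a coboundary after multiplication by a power of `g` -/
def TorsH (g : R) (K : CochainComplex (ModuleCat.{u} R) ℤ) : Prop :=
  ∀ (i j k : ℤ), i + 1 = j → j + 1 = k → ∀ z : K.X j, K.d j k z = 0 →
    ∃ (n : ℕ) (w : K.X i), K.d i j w = g ^ n • z

section shift

variable (K : CochainComplex (ModuleCat.{u} R) ℤ)

theorem shift_d_apply (i j : ℤ) (z : (K⟦(-1 : ℤ)⟧).X i) :
    (K⟦(-1 : ℤ)⟧).d i j z = -(K.d (i + -1) (j + -1) z) := by
  rw [CochainComplex.shiftFunctor_obj_d']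
  simp
  rfl

theorem TorsH.shift {g : R} (h : TorsH g K) : TorsH g (K⟦(-1 : ℤ)⟧) := by
  intro i j k hij hjk z hz
  have hz' : K.d (j + -1) (k + -1) z = 0 := by
    have h1 := hz
    rw [shift_d_apply] at h1
    exact neg_eq_zero.mp h1
  obtain ⟨n, w, hw⟩ := h (i + -1) (j + -1) (k + -1) (by omega) (by omega) z hz'
  refine ⟨n, -w, ?_⟩
  rw [shift_d_apply]
  show -(K.d (i + -1) (j + -1) (-w)) = g ^ n • z
  rw [map_neg, neg_neg]
  exact hw

theorem Acyc.shift {j : ℤ} (h : Acyc K (j + -1)) : Acyc (K⟦(-1 : ℤ)⟧) j := by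
  intro i k hij hjk z hz
  have hz' : K.d (j + -1) (k + -1) z = 0 := by
    have h1 := hz
    rw [shift_d_apply] at h1
    exact neg_eq_zero.mp h1
  obtain ⟨w, hw⟩ := h (i + -1) (k + -1) (by omega) (by omega) z hz'
  refine ⟨-w, ?_⟩
  rw [shift_d_apply]
  show -(K.d (i + -1) (j + -1) (-w)) = z
  rw [map_neg, neg_neg]
  exact hw

end shift

section cone

variable {F G : CochainComplex (ModuleCat.{u} R) ℤ} (φ : F ⟶ G)

theorem mkE_zero_d (n : ℤ) (e : G.X n) :
    (mappingCone φ).d n (n + 1) (mkE φ n 0 e) = mkE φ (n + 1) 0 (G.d n (n + 1) e) := by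
  rw [d_mkE, map_zero, neg_zero, map_zero, zero_add]

theorem mkE_smul (n : ℤ) (c : R) (a : F.X (n + 1)) (b : G.X n) :
    c • mkE φ n a b = mkE φ n (c • a) (c • b) := by
  apply ext_cone
  · rw [fstE_smul, fstE_mkE, fstE_mkE]
  · rw [sndE_smul, sndE_mkE, sndE_mkE]

/-- `TorsH` passes to cones -/
theorem TorsH.cone {g : R} (hF : TorsH g F) (hG : TorsH g G) : TorsH g (mappingCone φ) := by
  intro i j k hij hjk z hz
  subst hij
  subst hjk
  rw [d_eq_zero_iff] at hz
  obtain ⟨hz1, hz2⟩ := hz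
  -- the first coordinate is a cocycle of `F`
  obtain ⟨n1, a', ha'⟩ := hF (i + 1) (i + 1 + 1) (i + 1 + 1 + 1) rfl rfl _ hz1
  -- correct `g^n1 z` by a boundary so that the first coordinate vanishes
  set b1 : G.X (i + 1) := g ^ n1 • sndE φ (i + 1) z + φ.f (i + 1) a' with hb1
  have hb1d : G.d (i + 1) (i + 1 + 1) b1 = 0 := by
    have h3 : G.d (i + 1) (i + 1 + 1) (φ.f (i + 1) a') =
        g ^ n1 • φ.f (i + 1 + 1) (fstE φ (i + 1) z) := by
      rw [← hom_comm_apply φ (i + 1) (i + 1 + 1) a', ha', map_smul]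
    rw [hb1, map_add, map_smul, h3, ← smul_add,
      add_comm (G.d (i + 1) (i + 1 + 1) (sndE φ (i + 1) z)), hz2, smul_zero]
  obtain ⟨n2, e, he⟩ := hG i (i + 1) (i + 1 + 1) rfl rfl b1 hb1d
  refine ⟨n2 + n1, mkE φ i (-(g ^ n2 • a')) e, ?_⟩
  apply ext_cone
  · rw [d_mkE, fstE_mkE, fstE_smul, map_neg, neg_neg, map_smul, ha', smul_smul, ← pow_add]
  · rw [d_mkE, sndE_mkE, sndE_smul, he, hb1, map_neg, map_smul, smul_add, smul_smul, ← pow_add]
    abel

/-- acyclicity of a cone from acyclicity of the two complexes -/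
theorem Acyc.cone {j : ℤ} (hF : Acyc F (j + 1)) (hG : Acyc G j) : Acyc (mappingCone φ) j := by
  intro i k hij hjk z hz
  subst hij
  subst hjk
  rw [d_eq_zero_iff] at hz
  obtain ⟨hz1, hz2⟩ := hz
  obtain ⟨a', ha'⟩ := hF (i + 1) (i + 1 + 1 + 1) rfl rfl _ hz1
  set b1 : G.X (i + 1) := sndE φ (i + 1) z + φ.f (i + 1) a' with hb1
  have hb1d : G.d (i + 1) (i + 1 + 1) b1 = 0 := by
    have h3 : G.d (i + 1) (i + 1 + 1) (φ.f (i + 1) a') =
        φ.f (i + 1 + 1) (fstE φ (i + 1) z) := by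
      rw [← hom_comm_apply φ (i + 1) (i + 1 + 1) a', ha']
    rw [hb1, map_add, h3, add_comm (G.d (i + 1) (i + 1 + 1) (sndE φ (i + 1) z)), hz2]
  obtain ⟨e, he⟩ := hG i (i + 1 + 1) rfl rfl b1 hb1d
  refine ⟨mkE φ i (-a') e, ?_⟩
  apply ext_cone
  · rw [d_mkE, fstE_mkE, map_neg, neg_neg, ha']
  · rw [d_mkE, sndE_mkE, he, hb1, map_neg]
    abel

end cone


section loc

variable (S : Submonoid R) (K : CochainComplex (ModuleCat.{u} R) ℤ)

theorem loc_surj (j : ℤ) (y : ((DerCA.locCx S).obj K).X j) :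
    ∃ (s : S) (x : K.X j), (s : R) • y = (DerCA.locCxUnit S K).f j x := by
  obtain ⟨⟨x, s⟩, h⟩ := IsLocalizedModule.surj S (LocalizedModule.mkLinearMap S (K.X j)) y
  exact ⟨s, x, h⟩

theorem loc_eq_zero (j : ℤ) (x : K.X j) (h : (DerCA.locCxUnit S K).f j x = 0) :
    ∃ s : S, (s : R) • x = 0 :=
  (IsLocalizedModule.eq_zero_iff S (LocalizedModule.mkLinearMap S (K.X j))).mp h

theorem loc_smul_bijective (j : ℤ) (s : S) :
    Function.Bijective (fun y : ((DerCA.locCx S).obj K).X j => (s : R) • y) := by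
  have h := IsLocalizedModule.map_units (LocalizedModule.mkLinearMap S (K.X j)) s
  exact (Module.End.isUnit_iff _).mp h

/-- `TorsH` passes to termwise localisations -/
theorem TorsH.loc {g : R} (h : TorsH g K) : TorsH g ((DerCA.locCx S).obj K) := by
  intro i j k hij hjk z hz
  obtain ⟨s, z', hz'⟩ := loc_surj S K j z
  have h1 : (DerCA.locCxUnit S K).f k (K.d j k z') = 0 := by
    rw [hom_comm_apply, ← hz', map_smul, hz, smul_zero]
  obtain ⟨t, ht⟩ := loc_eq_zero S K k _ h1
  have h2 : K.d j k ((t : R) • z') = 0 := by rw [map_smul, ht]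
  obtain ⟨n, w, hw⟩ := h i j k hij hjk _ h2
  obtain ⟨e, he⟩ := (loc_smul_bijective S K i (t * s)).2 ((DerCA.locCxUnit S K).f i w)
  refine ⟨n, e, ?_⟩
  apply (loc_smul_bijective S K j (t * s)).1
  show ((t * s : S) : R) • ((DerCA.locCx S).obj K).d i j e = ((t * s : S) : R) • (g ^ n • z)
  have he' : ((t * s : S) : R) • e = (DerCA.locCxUnit S K).f i w := he
  rw [← map_smul, he', ← hom_comm_apply, hw, map_smul, map_smul, ← hz', Submonoid.coe_mul,
    smul_smul, smul_smul, smul_smul]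
  congr 1
  ring

/-- the cone of a map which is "a localisation at `f`" has `f`-power torsion cohomology -/
theorem torsH_cone_of_loc {K L : CochainComplex (ModuleCat.{u} R) ℤ} (φ : K ⟶ L) (f : R)
    (hs : ∀ (j : ℤ) (y : L.X j), ∃ (p : ℕ) (x : K.X j), f ^ p • y = φ.f j x)
    (hk : ∀ (j : ℤ) (x : K.X j), φ.f j x = 0 → ∃ q : ℕ, f ^ q • x = 0) :
    TorsH f (mappingCone φ) := by
  intro i j k hij hjk z hz
  subst hij
  subst hjk
  rw [d_eq_zero_iff] at hz
  obtain ⟨hz1, hz2⟩ := hz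
  obtain ⟨p, b', hb'⟩ := hs (i + 1) (sndE φ (i + 1) z)
  have h1 : φ.f (i + 1 + 1) (f ^ p • fstE φ (i + 1) z + K.d (i + 1) (i + 1 + 1) b') = 0 := by
    rw [map_add, map_smul, hom_comm_apply, ← hb', map_smul, ← smul_add, hz2, smul_zero]
  obtain ⟨q, hq⟩ := hk (i + 1 + 1) _ h1
  refine ⟨q + p, mkE φ i (f ^ q • b') 0, ?_⟩
  rw [smul_add, smul_smul, ← pow_add] at hq
  apply ext_cone
  · rw [d_mkE, fstE_mkE, fstE_smul, map_smul]
    exact (eq_neg_of_add_eq_zero_right hq).symm ▸ (by rw [neg_neg])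
  · rw [d_mkE, sndE_mkE, sndE_smul, map_zero, add_zero, map_smul, ← hb', smul_smul, ← pow_add]

/-- the cone of the localisation map at `f` has `f`-power torsion cohomology -/
theorem torsH_cone_loc_self (f : R) :
    TorsH f (mappingCone (DerCA.locCxUnit (Submonoid.powers f) K)) := by
  apply torsH_cone_of_loc
  · intro j y
    obtain ⟨⟨_, p, rfl⟩, x, hx⟩ := loc_surj (Submonoid.powers f) K j y
    exact ⟨p, x, hx⟩
  · intro j x hx
    obtain ⟨⟨_, q, rfl⟩, hq⟩ := loc_eq_zero (Submonoid.powers f) K j x hx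
    exact ⟨q, hq⟩

end loc


section extCech

theorem torsH_extCech (M : ModuleCat.{u} R) :
    ∀ (fs : List R) (g : R), g ∈ fs → TorsH g (DerCA.extCech M fs)
  | [], g, hg => absurd hg List.not_mem_nil
  | f :: fs, g, hg => by
    show TorsH g ((mappingCone (DerCA.locCxUnit (Submonoid.powers f)
      (DerCA.extCech M fs)))⟦(-1 : ℤ)⟧)
    apply TorsH.shift
    by_cases hgf : g ∈ fs
    · exact TorsH.cone _ (torsH_extCech M fs g hgf) (TorsH.loc _ _ (torsH_extCech M fs g hgf))
    · have hgf' : g = f := by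
        rcases List.mem_cons.mp hg with h | h
        · exact h
        · exact absurd h hgf
      subst hgf'
      exact torsH_cone_loc_self _ g

theorem exists_pow_smul_eq_zero_of_torsH {K : CochainComplex (ModuleCat.{u} R) ℤ} {g : R}
    (h : TorsH g K) (q : ℤ) (x : K.homology q) : ∃ n : ℕ, g ^ n • x = 0 := by
  obtain ⟨c, rfl⟩ := exists_cycle K q x
  obtain ⟨n, w, hw⟩ := h (q - 1) q (q + 1) (by ring) rfl (K.iCycles q c) (d_iCycles K q (q + 1) c)
  refine ⟨n, ?_⟩
  rw [← map_smul]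
  exact homologyπ_eq_zero_of_boundary K (q - 1) q (by ring) (g ^ n • c) w (by rw [map_smul, hw])

theorem exists_common_pow {N : Type*} [AddCommGroup N] [Module R N] (x : N) :
    ∀ l : List R, (∀ f ∈ l, ∃ n : ℕ, f ^ n • x = 0) → ∃ n : ℕ, 1 ≤ n ∧ ∀ f ∈ l, f ^ n • x = 0
  | [], _ => ⟨1, le_rfl, fun f hf => absurd hf List.not_mem_nil⟩
  | g :: l, h => by
    obtain ⟨n1, hn1⟩ := h g List.mem_cons_self
    obtain ⟨n2, h2, hn2⟩ := exists_common_pow x l (fun f hf => h f (List.mem_cons_of_mem _ hf))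
    refine ⟨n1 + n2, by omega, fun f hf => ?_⟩
    rcases List.mem_cons.mp hf with rfl | hf
    · rw [pow_add, mul_comm, mul_smul, hn1, smul_zero]
    · rw [pow_add, mul_smul, hn2 f hf, smul_zero]

/-- every class of the extended Cech cohomology is killed by a common power of the entries -/
theorem exists_pow_smul_eq_zero (fs : List R) (M : ModuleCat.{u} R) (q : ℤ)
    (x : DerCA.extCechH fs M q) : ∃ n : ℕ, 1 ≤ n ∧ ∀ f ∈ fs, f ^ n • x = 0 :=
  exists_common_pow x fs
    (fun f hf => exists_pow_smul_eq_zero_of_torsH (torsH_extCech M fs f hf) q x)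

/-- the elements of the ideal generated by the entries act locally nilpotently -/
theorem exists_pow_smul_eq_zero_of_mem_span (fs : List R) (M : ModuleCat.{u} R) (q : ℤ)
    (x : DerCA.extCechH fs M q) (f : R) (hf : f ∈ Ideal.span {a : R | a ∈ fs}) :
    ∃ n : ℕ, f ^ n • x = 0 := by
  have hle : Ideal.span {a : R | a ∈ fs} ≤ (Ideal.torsionOf R _ x).radical := by
    rw [Ideal.span_le]
    intro a ha
    obtain ⟨n, hn⟩ := exists_pow_smul_eq_zero_of_torsH (torsH_extCech M fs a ha) q x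
    exact ⟨n, (Ideal.mem_torsionOf_iff x _).mpr hn⟩
  obtain ⟨n, hn⟩ := hle hf
  exact ⟨n, (Ideal.mem_torsionOf_iff x _).mp hn⟩

end extCech

end Groth.Agent.Lib.ExtCechTors
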