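/-
helper11: `Abelian.Ext` in different universes: the change-of-universe bijection `Ext.chgUniv` is additive.
-/
import Mathlib.Algebra.Homology.DerivedCategory.Ext.Basic

universe w w' v u
open CategoryTheory Abelian

namespace Groth.Agent.Lib.ExtChgUniv

variable {C : Type u} [Category.{v} C] [Abelian C] [HasExt.{w} C] [HasExt.{w'} C]

/-- the additive change-of-universe equivalence for `Ext` -/
noncomputable def chgUnivAddEquiv (X Y : C) (n : ℕ) : Ext.{w} X Y n ≃+ Ext.{w'} X Y n where
  toEquiv := Ext.chgUniv.{w', w}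
  map_add' a b := by
    let _ := HasDerivedCategory.standard C
    apply Ext.homEquiv.injective
    have h1 : Ext.homEquiv (Ext.chgUniv.{w', w} (a + b)) = Ext.homEquiv (a + b) :=
      Ext.homEquiv_chgUniv _
    have h2 : Ext.homEquiv (Ext.chgUniv.{w', w} a) = Ext.homEquiv a := Ext.homEquiv_chgUniv _
    have h3 : Ext.homEquiv (Ext.chgUniv.{w', w} b) = Ext.homEquiv b := Ext.homEquiv_chgUniv _
    change Ext.homEquiv (Ext.chgUniv.{w', w} (a + b)) =
      Ext.homEquiv (Ext.chgUniv.{w', w} a + Ext.chgUniv.{w', w} b)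
    have e1 : Ext.homEquiv (a + b) = Ext.homEquiv a + Ext.homEquiv b := Ext.add_hom a b
    have e2 : Ext.homEquiv (Ext.chgUniv.{w', w} a + Ext.chgUniv.{w', w} b) =
        Ext.homEquiv (Ext.chgUniv.{w', w} a) + Ext.homEquiv (Ext.chgUniv.{w', w} b) :=
      Ext.add_hom _ _
    rw [h1, e1, e2, h2, h3]

end Groth.Agent.Lib.ExtChgUniv
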