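import Groth.Agent.Lib.ExtDimShift
import Mathlib.Algebra.Homology.DerivedCategory.Ext.EnoughInjectives
import Mathlib.Algebra.Homology.ShortComplex.ExactFunctor

/-!
# Comparison of `Ext` groups along an exact functor (dimension shifting on both sides)

Let `G : 𝒜 ⥤ ℬ` be an exact additive functor between abelian categories, `A : 𝒜`, `B : ℬ` with
`Hom(A, F) ≃+ Hom(B, G F)` naturally in `F`, and such that `Ext^{n+1}(B, G I) = 0` for every
injective `I`. Then `Ext^n(A, F) ≃+ Ext^n(B, G F)` for all `n` and `F`.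
-/

set_option autoImplicit false
universe w w' v v' u u'

open CategoryTheory Abelian Limits

namespace Groth.Agent.Lib.ExtCompare

open Groth.Agent.Lib.ExtDimShift

variable {𝒜 : Type u} [Category.{v} 𝒜] [Abelian 𝒜] [HasExt.{w} 𝒜] [EnoughInjectives 𝒜]
  {ℬ : Type u'} [Category.{v'} ℬ] [Abelian ℬ] [HasExt.{w'} ℬ]
  (G : 𝒜 ⥤ ℬ) [G.Additive] [PreservesFiniteLimits G] [PreservesFiniteColimits G]
  (A : 𝒜) (B : ℬ)

/-- the short complex `F ⟶ I(F) ⟶ I(F)/F` -/
noncomputable def injSC (F : 𝒜) : ShortComplex 𝒜 :=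
  ShortComplex.mk (Injective.ι F) (cokernel.π (Injective.ι F)) (cokernel.condition _)

omit [HasExt.{w} 𝒜] in
lemma injSC_shortExact (F : 𝒜) : (injSC F).ShortExact where
  exact := ShortComplex.exact_cokernel _
  mono_f := by dsimp [injSC]; infer_instance
  epi_g := by dsimp [injSC]; infer_instance

omit [HasExt.{w} 𝒜] in
lemma injSC_X₁ (F : 𝒜) : (injSC F).X₁ = F := rfl

instance (F : 𝒜) : Injective (injSC F).X₂ := by
  dsimp [injSC]; infer_instance

variable (e₀ : ∀ F : 𝒜, (A ⟶ F) ≃+ (B ⟶ G.obj F))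
  (he₀ : ∀ {F F' : 𝒜} (φ : F ⟶ F') (x : A ⟶ F), e₀ F' (x ≫ φ) = e₀ F x ≫ G.map φ)
  (hinj : ∀ (I : 𝒜) [Injective I] (n : ℕ) (x : Ext.{w'} B (G.obj I) (n + 1)), x = 0)

include he₀ hinj in
theorem nonempty_ext_addEquiv (n : ℕ) : ∀ F : 𝒜,
    Nonempty (Ext.{w} A F n ≃+ Ext.{w'} B (G.obj F) n) := by
  induction n with
  | zero =>
    intro F
    exact ⟨Ext.addEquiv₀.trans ((e₀ F).trans Ext.addEquiv₀.symm)⟩
  | succ n ih =>
    intro F
    have hT := injSC_shortExact F
    have hT' : ((injSC F).map G).ShortExact := hT.map_of_exact G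
    cases n with
    | zero =>
      have e1 := oneEquiv hT A (fun x => Ext.eq_zero_of_injective x)
      have e2 := oneEquiv hT' B (fun x => hinj (injSC F).X₂ 0 x)
      have e3 : (Ext.{w} A (injSC F).X₃ 0 ⧸ (gMap (injSC F) A 0).range) ≃+
          (Ext.{w'} B ((injSC F).map G).X₃ 0 ⧸ (gMap ((injSC F).map G) B 0).range) :=
        quotientCongr _ _
          (Ext.addEquiv₀.trans ((e₀ (injSC F).X₂).trans Ext.addEquiv₀.symm))
          (Ext.addEquiv₀.trans ((e₀ (injSC F).X₃).trans Ext.addEquiv₀.symm)) (by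
            intro x
            obtain ⟨ψ, rfl⟩ := (Ext.mk₀_bijective _ _).2 x
            have hmk : ∀ {X Y : 𝒜} (f : X ⟶ Y), Ext.addEquiv₀ (Ext.mk₀ f) = f :=
              fun f => Ext.addEquiv₀.apply_symm_apply f
            change Ext.mk₀ (e₀ _ (Ext.addEquiv₀ ((Ext.mk₀ ψ).comp
              (Ext.mk₀ (injSC F).g) (add_zero 0)))) =
              (Ext.mk₀ (e₀ _ (Ext.addEquiv₀ (Ext.mk₀ ψ)))).comp
                (Ext.mk₀ (G.map (injSC F).g)) (add_zero 0)
            rw [Ext.mk₀_comp_mk₀, hmk, hmk, he₀, Ext.mk₀_comp_mk₀])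
      exact ⟨e1.symm.trans (e3.trans e2)⟩
    | succ n =>
      obtain ⟨e⟩ := ih (injSC F).X₃
      have e1 := shiftEquiv hT A n (fun x => Ext.eq_zero_of_injective x)
        (fun x => Ext.eq_zero_of_injective x)
      have e2 := shiftEquiv hT' B n (fun x => hinj (injSC F).X₂ n x)
        (fun x => hinj (injSC F).X₂ (n + 1) x)
      exact ⟨e1.symm.trans (e.trans e2)⟩

end Groth.Agent.Lib.ExtCompare
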