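import Groth.Prelude.Def_Exal
import Groth.Agent.Lib.ExalY
import Mathlib.RingTheory.AdicCompletion.Noetherian
import Mathlib.RingTheory.SimpleModule.Basic
import Mathlib.RingTheory.FiniteLength
import Mathlib.RingTheory.LocalRing.MaximalIdeal.Basic

/-!
# The middle ring of an extension of a complete local Noetherian ring by a simple module (helper1)

For an extension `0 → L → E → B → 0` (`Exal.Ext A B L`) with `B` local: `E` is local (`isLocalRing_E`); if `B` is Noetherian and
`L` a Noetherian `B`-module, `E` is Noetherian (`isNoetherianRing_E`); if moreover `B` is complete and `L` simple, `E` is complete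
(`isAdicComplete_E`).
-/

set_option autoImplicit false
set_option linter.style.haveILetI false
universe u

open IsLocalRing

namespace Groth.Agent.Lib.ExtComplete

open Groth.Agent.Lib.ExalY

variable {A : Type u} {B L : Type u} [CommRing A] [CommRing B] [Algebra A B] [AddCommGroup L] [Module B L]
  (X : Exal.Ext A B L)

theorem isUnit_of_isUnit_proj (x : X.E) (h : IsUnit (X.proj x)) : IsUnit x := by
  obtain ⟨b, hb⟩ := h.exists_right_inv
  obtain ⟨y, rfl⟩ := X.isExtension.proj_surjective b
  have h1 : X.proj (x * y - 1) = 0 := by rw [map_sub, map_mul, hb, map_one, sub_self]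
  obtain ⟨l, hl⟩ := (X.isExtension.exact _).1 h1
  have h2 : x * (y * (1 - X.incl l)) = 1 := by
    have h3 : x * y = 1 + X.incl l := by rw [hl]; ring
    have h4 : X.incl l * X.incl l = 0 := incl_mul_incl X l l
    calc x * (y * (1 - X.incl l)) = (x * y) * (1 - X.incl l) := by ring
      _ = 1 - X.incl l * X.incl l := by rw [h3]; ring
      _ = 1 := by rw [h4, sub_zero]
  exact IsUnit.of_mul_eq_one _ h2

theorem isLocalRing_E [IsLocalRing B] : IsLocalRing X.E := by
  have hnt : Nontrivial X.E := by
    refine ⟨⟨0, 1, fun h => ?_⟩⟩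
    have := congrArg X.proj h
    rw [map_zero, map_one] at this
    exact zero_ne_one this
  refine IsLocalRing.of_isUnit_or_isUnit_one_sub_self fun x => ?_
  rcases IsLocalRing.isUnit_or_isUnit_one_sub_self (X.proj x) with h | h
  · exact Or.inl (isUnit_of_isUnit_proj X x h)
  · refine Or.inr (isUnit_of_isUnit_proj X _ ?_)
    rwa [map_sub, map_one]

theorem isNoetherianRing_E [IsNoetherianRing B] [IsNoetherian B L] : IsNoetherianRing X.E := by
  letI : Algebra X.E B := X.proj.toRingHom.toAlgebra
  letI : Module X.E L := Module.compHom L X.proj.toRingHom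
  have hsm : ∀ (x : X.E) (z : L), x • z = X.proj x • z := fun _ _ => rfl
  have hst : IsScalarTower X.E B L := ⟨fun x b z => by
    rw [hsm, Algebra.smul_def, mul_smul]; rfl⟩
  have hsurj : Function.Surjective (algebraMap X.E B) := X.isExtension.proj_surjective
  have hL : IsNoetherian X.E L := by
    rw [isNoetherian_iff']
    have h1 : WellFoundedGT (Submodule B L) := isNoetherian_iff'.1 inferInstance
    exact (Submodule.orderIsoOfAlgebraMapSurjective (M := L) hsurj).symm.toOrderEmbedding.wellFoundedGT
  have hB : IsNoetherian X.E B := by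
    rw [isNoetherian_iff']
    have h1 : WellFoundedGT (Submodule B B) := isNoetherian_iff'.1 inferInstance
    exact (Submodule.orderIsoOfAlgebraMapSurjective (M := B) hsurj).symm.toOrderEmbedding.wellFoundedGT
  let f : L →ₗ[X.E] X.E :=
    { toFun := X.incl
      map_add' := map_add X.incl
      map_smul' := fun x z => by
        rw [RingHom.id_apply, smul_eq_mul, X.isExtension.mul_incl]
        rfl }
  let g : X.E →ₗ[X.E] B := Algebra.linearMap X.E B
  have hfg : LinearMap.range f = LinearMap.ker g := by
    ext x
    rw [LinearMap.mem_ker]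
    exact ((X.isExtension.exact x).symm : _)
  exact isNoetherian_of_range_eq_ker f g hfg

omit [Algebra A B] in
/-- a simple module is Noetherian. -/
theorem isNoetherian_of_isSimpleModule [IsSimpleModule B L] : IsNoetherian B L := by
  have := (IsSemisimpleModule.finite_tfae (R := B) (M := L)).out 0 1
  exact this.1 (by
    obtain ⟨hnt, hsurj⟩ := isSimpleModule_iff_toSpanSingleton_surjective.1 ‹IsSimpleModule B L›
    obtain ⟨z, hz⟩ := exists_ne (0 : L)
    exact Module.Finite.of_surjective _ (hsurj z hz))

section Complete

variable [IsLocalRing B] [IsNoetherianRing B] [IsSimpleModule B L]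

omit [IsNoetherianRing B] in
/-- the maximal ideal of a local ring kills a simple module. -/
theorem maximalIdeal_smul_eq_zero (b : B) (hb : b ∈ maximalIdeal B) (z : L) : b • z = 0 := by
  have hmax : (Module.annihilator B L).IsMaximal := IsSimpleModule.annihilator_isMaximal
  have heq : Module.annihilator B L = maximalIdeal B := IsLocalRing.eq_maximalIdeal hmax
  rw [← heq] at hb
  exact Module.mem_annihilator.1 hb z

theorem isAdicComplete_E [IsAdicComplete (maximalIdeal B) B] :
    haveI := isLocalRing_E X
    IsAdicComplete (maximalIdeal X.E) X.E := by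
  haveI := isLocalRing_E X
  haveI : IsNoetherian B L := by
    have := (IsSemisimpleModule.finite_tfae (R := B) (M := L)).out 0 1
    exact this.1 (by
      obtain ⟨hnt, hsurj⟩ := isSimpleModule_iff_toSpanSingleton_surjective.1 ‹IsSimpleModule B L›
      obtain ⟨z, hz⟩ := exists_ne (0 : L)
      exact Module.Finite.of_surjective _ (hsurj z hz))
  haveI := isNoetherianRing_E X
  have hprojm : ∀ x : X.E, x ∈ maximalIdeal X.E → X.proj x ∈ maximalIdeal B := by
    intro x hx
    rw [mem_maximalIdeal, mem_nonunits_iff] at hx ⊢
    exact fun h => hx (isUnit_of_isUnit_proj X x h)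
  have hprojpow : ∀ (n : ℕ) (x : X.E), x ∈ maximalIdeal X.E ^ n → X.proj x ∈ maximalIdeal B ^ n := by
    intro n x hx
    have h1 : (maximalIdeal X.E ^ n).map (X.proj : X.E →+* B) ≤ maximalIdeal B ^ n := by
      rw [Ideal.map_pow]
      apply Ideal.pow_right_mono
      rw [Ideal.map_le_iff_le_comap]
      exact fun a ha => hprojm a ha
    exact h1 (Ideal.mem_map_of_mem _ hx)
  -- lifting elements of `m_B^n`
  have hlift : ∀ (n : ℕ) (b : B), b ∈ maximalIdeal B ^ n → ∃ y ∈ maximalIdeal X.E ^ n, X.proj y = b := by
    intro n b hb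
    have h1 : maximalIdeal B ≤ (maximalIdeal X.E).map (X.proj : X.E →+* B) := by
      intro c hc
      obtain ⟨y, rfl⟩ := X.isExtension.proj_surjective c
      refine Ideal.mem_map_of_mem _ ?_
      rw [mem_maximalIdeal, mem_nonunits_iff] at hc ⊢
      exact fun h => hc (h.map X.proj)
    have h2 : b ∈ (maximalIdeal X.E ^ n).map (X.proj : X.E →+* B) := by
      rw [Ideal.map_pow]
      exact Ideal.pow_right_mono h1 n hb
    obtain ⟨y, hy, hyb⟩ := (Ideal.mem_map_iff_of_surjective (X.proj : X.E →+* B)
      X.isExtension.proj_surjective).1 h2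
    exact ⟨y, hy, hyb⟩
  -- the kernel meets a power of the maximal ideal trivially
  have hN : ∃ N : ℕ, ∀ z : L, X.incl z ∈ maximalIdeal X.E ^ N → z = 0 := by
    by_contra hcon
    push Not at hcon
    have hall : ∀ (N : ℕ) (z : L), X.incl z ∈ maximalIdeal X.E ^ N := by
      intro N
      let S : Submodule B L :=
        { carrier := {z | X.incl z ∈ maximalIdeal X.E ^ N}
          add_mem' := fun {a b} ha hb => by
            show X.incl (a + b) ∈ maximalIdeal X.E ^ N
            rw [map_add]
            exact Ideal.add_mem _ ha hb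
          zero_mem' := by
            show X.incl 0 ∈ maximalIdeal X.E ^ N
            rw [map_zero]
            exact Ideal.zero_mem _
          smul_mem' := fun b z hz => by
            obtain ⟨e, rfl⟩ := X.isExtension.proj_surjective b
            show X.incl (X.proj e • z) ∈ maximalIdeal X.E ^ N
            rw [← X.isExtension.mul_incl]
            exact Ideal.mul_mem_left _ _ hz }
      obtain ⟨z₀, hz₀, hz₀ne⟩ := hcon N
      have hS : S = ⊤ := by
        rcases eq_bot_or_eq_top S with h | h
        · exfalso
          have : z₀ ∈ S := hz₀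
          rw [h, Submodule.mem_bot] at this
          exact hz₀ne this
        · exact h
      intro z
      have : z ∈ S := by rw [hS]; exact Submodule.mem_top
      exact this
    have hzero : ∀ z : L, z = 0 := by
      intro z
      apply X.isExtension.incl_injective
      rw [map_zero]
      have hH : IsHausdorff (maximalIdeal X.E) X.E := inferInstance
      apply hH.haus
      intro n
      rw [SModEq.zero, smul_eq_mul, Ideal.mul_top]
      exact hall n z
    obtain ⟨z₀, _, hz₀ne⟩ := hcon 0
    exact hz₀ne (hzero z₀)
  obtain ⟨N, hN⟩ := hN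
  refine { toIsHausdorff := inferInstance, toIsPrecomplete := ⟨fun f hf => ?_⟩ }
  have hf' : ∀ {m n : ℕ}, m ≤ n → f m - f n ∈ maximalIdeal X.E ^ m := by
    intro m n hmn
    have := hf hmn
    rw [SModEq.sub_mem, smul_eq_mul, Ideal.mul_top] at this
    exact this
  have hpre : IsPrecomplete (maximalIdeal B) B := inferInstance
  obtain ⟨r, hr⟩ := hpre.prec (f := fun n => X.proj (f n)) (by
    intro m n hmn
    rw [SModEq.sub_mem, smul_eq_mul, Ideal.mul_top, ← map_sub]
    exact hprojpow m _ (hf' hmn))
  have hr' : ∀ n, X.proj (f n) - r ∈ maximalIdeal B ^ n := by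
    intro n
    have := hr n
    rw [SModEq.sub_mem, smul_eq_mul, Ideal.mul_top] at this
    exact this
  obtain ⟨e₀, he₀⟩ := X.isExtension.proj_surjective r
  choose y hy hyp using fun n => hlift n (X.proj (f n) - r) (hr' n)
  have hker : ∀ n, X.proj (f n - e₀ - y n) = 0 := by
    intro n
    rw [map_sub, map_sub, he₀, hyp, sub_self]
  choose l hl using fun n => (X.isExtension.exact _).1 (hker n)
  -- `l` is eventually constant
  have hstep : ∀ n, N ≤ n → l (n + 1) = l n := by
    intro n hn
    rw [← sub_eq_zero]
    apply hN
    rw [map_sub, hl, hl]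
    have h1 : f (n + 1) - e₀ - y (n + 1) - (f n - e₀ - y n) =
        -(f n - f (n + 1)) - y (n + 1) + y n := by ring
    rw [h1]
    apply Ideal.pow_le_pow_right hn
    apply Ideal.add_mem
    · apply Ideal.sub_mem
      · exact Ideal.neg_mem_iff _ |>.2 (hf' (Nat.le_succ n))
      · exact Ideal.pow_le_pow_right (Nat.le_succ n) (hy (n + 1))
    · exact hy n
  have hconst : ∀ n, N ≤ n → l n = l N := by
    intro n hn
    induction n, hn using Nat.le_induction with
    | base => rfl
    | succ n hn ih => rw [hstep n hn, ih]
  refine ⟨e₀ + X.incl (l N), fun n => ?_⟩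
  rw [SModEq.sub_mem, smul_eq_mul, Ideal.mul_top]
  have hge : ∀ n, N ≤ n → f n - (e₀ + X.incl (l N)) ∈ maximalIdeal X.E ^ n := by
    intro n hn
    have h1 : f n - (e₀ + X.incl (l N)) = y n := by
      rw [← hconst n hn, hl]
      ring
    rw [h1]
    exact hy n
  by_cases hn : N ≤ n
  · exact hge n hn
  · have hn' : n ≤ N := le_of_not_ge hn
    have h1 : f n - (e₀ + X.incl (l N)) = (f n - f N) + (f N - (e₀ + X.incl (l N))) := by ring
    rw [h1]
    exact Ideal.add_mem _ (hf' hn') (Ideal.pow_le_pow_right hn' (hge N le_rfl))

end Complete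

end Groth.Agent.Lib.ExtComplete
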