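import Groth.Prelude.Def_Exal2
import Groth.Agent.Lib.ExalY
import Groth.Agent.Lib.ExtComplete
import Mathlib

/-!
# Extensions of a local ring vs. extensions of a "dense" overring by a simple module (helper1)

Abstract setting: `R → B` a local homomorphism of Noetherian local rings such that `R/m_R^n → B/m_B^n` is bijective for all `n`
(hypotheses `H1` density, `H2` injectivity) — e.g. `B` the completion of `R` — and `L` a `B`-module, simple over `R`.
Then inverse image along `R → B` is a bijection on equivalence classes of `Λ`-extensions by `L`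
(`pullback_equiv_reflect`, `exists_pullback_equiv`).  Method: for an extension `E` with `L ∩ m_E^n = 0` one has
`E = E/m_E^n ×_{B/m_B^n} B` (truncation trick), no completion of `E` is needed.
-/

set_option autoImplicit false
set_option linter.style.haveILetI false
set_option linter.unusedSectionVars false
universe u

open IsLocalRing

namespace Groth.Agent.Lib.ExtCompletion

open Groth.Agent.Lib.ExalY Groth.Agent.Lib.ExtComplete

/-- a local hom maps powers of the maximal ideal into powers of the maximal ideal. -/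
theorem map_mem_pow {S S' F : Type*} [CommRing S] [CommRing S'] [IsLocalRing S] [IsLocalRing S']
    [FunLike F S S'] [RingHomClass F S S']
    (g : F) [IsLocalHom g] (n : ℕ) {x : S} (hx : x ∈ maximalIdeal S ^ n) :
    g x ∈ maximalIdeal S' ^ n := by
  have h1 : (maximalIdeal S ^ n).map g ≤ maximalIdeal S' ^ n := by
    rw [Ideal.map_pow]
    apply Ideal.pow_right_mono
    rw [Ideal.map_le_iff_le_comap]
    intro a ha
    rw [Ideal.mem_comap, mem_maximalIdeal, mem_nonunits_iff]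
    rw [mem_maximalIdeal, mem_nonunits_iff] at ha
    exact fun h => ha (isUnit_of_map_unit g a h)
  exact h1 (Ideal.mem_map_of_mem _ hx)

section General

variable {A : Type u} {B L : Type u} [CommRing A] [CommRing B] [Algebra A B] [AddCommGroup L] [Module B L]
  (Z : Exal.Ext A B L)

theorem isLocalHom_proj : IsLocalHom Z.proj :=
  ⟨fun x h => isUnit_of_isUnit_proj Z x h⟩

theorem exists_mem_pow_proj_eq [IsLocalRing B] [IsLocalRing Z.E] (n : ℕ) (b : B)
    (hb : b ∈ maximalIdeal B ^ n) : ∃ y ∈ maximalIdeal Z.E ^ n, Z.proj y = b := by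
  have h1 : maximalIdeal B ≤ (maximalIdeal Z.E).map (Z.proj : Z.E →+* B) := by
    intro c hc
    obtain ⟨y, rfl⟩ := Z.isExtension.proj_surjective c
    refine Ideal.mem_map_of_mem _ ?_
    rw [mem_maximalIdeal, mem_nonunits_iff] at hc ⊢
    exact fun h => hc (h.map Z.proj)
  have h2 : b ∈ (maximalIdeal Z.E ^ n).map (Z.proj : Z.E →+* B) := by
    rw [Ideal.map_pow]
    exact Ideal.pow_right_mono h1 n hb
  obtain ⟨y, hy, hyb⟩ := (Ideal.mem_map_iff_of_surjective (Z.proj : Z.E →+* B)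
    Z.isExtension.proj_surjective).1 h2
  exact ⟨y, hy, hyb⟩

/-- Krull: a simple kernel meets a high power of the maximal ideal trivially. -/
theorem exists_pow_incl [IsLocalRing B] [IsNoetherianRing B] [IsSimpleModule B L] [IsLocalRing Z.E] :
    ∃ N : ℕ, ∀ n, N ≤ n → ∀ l : L, Z.incl l ∈ maximalIdeal Z.E ^ n → l = 0 := by
  haveI : IsNoetherian B L := isNoetherian_of_isSimpleModule (B := B) (L := L)
  haveI := isNoetherianRing_E Z
  obtain ⟨hnt, hsurj⟩ := isSimpleModule_iff_toSpanSingleton_surjective.1 ‹IsSimpleModule B L›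
  obtain ⟨l₀, hl₀⟩ := exists_ne (0 : L)
  have h0 : Z.incl l₀ ≠ 0 := fun h => hl₀ (Z.isExtension.incl_injective (by rw [h, map_zero]))
  have hk : (⨅ n, maximalIdeal Z.E ^ n) = ⊥ :=
    Ideal.iInf_pow_eq_bot_of_isLocalRing _ (maximalIdeal.isMaximal _).ne_top
  have hex : ∃ N, Z.incl l₀ ∉ maximalIdeal Z.E ^ N := by
    by_contra hcon
    push Not at hcon
    apply h0
    have h1 : Z.incl l₀ ∈ (⨅ n, maximalIdeal Z.E ^ n) := by
      rw [Ideal.mem_iInf]; exact hcon
    rw [hk] at h1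
    exact h1
  obtain ⟨N, hN⟩ := hex
  refine ⟨N, fun n hn l hl => ?_⟩
  by_contra hne
  obtain ⟨b, hb⟩ := hsurj l hne l₀
  rw [LinearMap.toSpanSingleton_apply] at hb
  obtain ⟨x, rfl⟩ := Z.isExtension.proj_surjective b
  apply hN
  have h1 : Z.incl l₀ = x * Z.incl l := by rw [Z.isExtension.mul_incl, hb]
  rw [h1]
  exact Ideal.mul_mem_left _ _ (Ideal.pow_le_pow_right hn hl)

end General

section Main

variable {Λ R B : Type u} [CommRing Λ] [CommRing R] [CommRing B] [Algebra Λ R] [Algebra Λ B] [Algebra R B]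
  [IsScalarTower Λ R B]
  {L : Type u} [AddCommGroup L] [Module B L] [Module R L] [IsScalarTower R B L]

omit [CommRing Λ] [Algebra Λ R] [Algebra Λ B] [IsScalarTower Λ R B] in
theorem isSimpleModule_of_tower [IsSimpleModule R L] : IsSimpleModule B L := by
  obtain ⟨hnt, hsurj⟩ := isSimpleModule_iff_toSpanSingleton_surjective.1 ‹IsSimpleModule R L›
  refine isSimpleModule_iff_toSpanSingleton_surjective.2 ⟨hnt, fun z hz l => ?_⟩
  obtain ⟨r, hr⟩ := hsurj z hz l
  refine ⟨algebraMap R B r, ?_⟩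
  rw [LinearMap.toSpanSingleton_apply] at hr ⊢
  rw [algebraMap_smul]; exact hr

/-- first projection of the fibre product. -/
noncomputable def fstE (X : Exal.Ext Λ B L) : (X.pullback R).E →ₐ[Λ] X.E :=
  (AlgHom.fst Λ X.E R).comp (X.fiberProd R).val

theorem proj_fstE (X : Exal.Ext Λ B L) (e : (X.pullback R).E) :
    X.proj (fstE X e) = algebraMap R B ((X.pullback R).proj e) := by
  have h : (e.1 : X.E × R) ∈ AlgHom.equalizer (X.proj.comp (AlgHom.fst Λ X.E R))
      ((IsScalarTower.toAlgHom Λ R B).comp (AlgHom.snd Λ X.E R)) := e.2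
  exact (AlgHom.mem_equalizer _ _ _).1 h

theorem fstE_incl (X : Exal.Ext Λ B L) (l : L) : fstE X ((X.pullback R).incl l) = X.incl l := rfl

theorem isLocalHom_fstE [IsLocalHom (algebraMap R B)] (X : Exal.Ext Λ B L) :
    IsLocalHom (fstE (R := R) X) := by
  refine ⟨fun e h => ?_⟩
  have h1 : IsUnit (X.proj (fstE X e)) := h.map X.proj
  rw [proj_fstE] at h1
  have h2 : IsUnit ((X.pullback R).proj e) := isUnit_of_map_unit (algebraMap R B) _ h1
  exact isUnit_of_isUnit_proj _ e h2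

section Inj

variable (X X' : Exal.Ext Λ B L) (θ : (X.pullback R).Equiv (X'.pullback R))

include θ in
/-- construction of the comparison map from a "graph" relation. -/
theorem exists_hom (K : Ideal X.E) (K' : Ideal X'.E)
    (hK' : ∀ x ∈ K', X'.proj x = 0 → x = 0)
    (hdense : ∀ p : X.E, ∃ e : (X.pullback R).E, p - fstE X e ∈ K)
    (hkey : ∀ e : (X.pullback R).E, fstE X e ∈ K → fstE X' (θ.toAlgEquiv e) ∈ K')
    (hprojK : ∀ x ∈ K, ∃ q' ∈ K', X'.proj q' = X.proj x) :
    ∃ Φ : X.E →ₐ[Λ] X'.E, (∀ p, X'.proj (Φ p) = X.proj p) ∧ ∀ l, Φ (X.incl l) = X'.incl l := by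
  classical
  let Rel : X.E → X'.E → Prop := fun p p' =>
    X'.proj p' = X.proj p ∧ ∃ e : (X.pullback R).E, p - fstE X e ∈ K ∧ p' - fstE X' (θ.toAlgEquiv e) ∈ K'
  have hθproj : ∀ e : (X.pullback R).E, X'.proj (fstE X' (θ.toAlgEquiv e)) = X.proj (fstE X e) := by
    intro e
    rw [proj_fstE, proj_fstE, θ.proj_apply]
  have hex : ∀ p, ∃ p', Rel p p' := by
    intro p
    obtain ⟨e, he⟩ := hdense p
    obtain ⟨q', hq', hq'p⟩ := hprojK _ he
    refine ⟨fstE X' (θ.toAlgEquiv e) + q', ?_, e, he, ?_⟩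
    · rw [map_add, hq'p, hθproj, map_sub]; ring
    · rw [add_sub_cancel_left]; exact hq'
  have huniq : ∀ p p'₁ p'₂, Rel p p'₁ → Rel p p'₂ → p'₁ = p'₂ := by
    rintro p p'₁ p'₂ ⟨h1, e₁, he₁, he₁'⟩ ⟨h2, e₂, he₂, he₂'⟩
    have h3 : fstE X (e₁ - e₂) ∈ K := by
      have : fstE X (e₁ - e₂) = (p - fstE X e₂) - (p - fstE X e₁) := by rw [map_sub]; ring
      rw [this]; exact K.sub_mem he₂ he₁
    have h4 := hkey _ h3
    have h5 : p'₁ - p'₂ ∈ K' := by
      have : p'₁ - p'₂ = (p'₁ - fstE X' (θ.toAlgEquiv e₁)) - (p'₂ - fstE X' (θ.toAlgEquiv e₂))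
          + fstE X' (θ.toAlgEquiv (e₁ - e₂)) := by rw [map_sub, map_sub]; ring
      rw [this]; exact K'.add_mem (K'.sub_mem he₁' he₂') h4
    have h6 : X'.proj (p'₁ - p'₂) = 0 := by rw [map_sub, h1, h2, sub_self]
    exact sub_eq_zero.1 (hK' _ h5 h6)
  choose Φ hΦ using hex
  have hΦ_eq : ∀ p p', Rel p p' → Φ p = p' := fun p p' h => huniq p _ _ (hΦ p) h
  have hadd : ∀ p₁ p₂ p₁' p₂', Rel p₁ p₁' → Rel p₂ p₂' → Rel (p₁ + p₂) (p₁' + p₂') := by
    rintro p₁ p₂ p₁' p₂' ⟨h1, e₁, he₁, he₁'⟩ ⟨h2, e₂, he₂, he₂'⟩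
    refine ⟨by rw [map_add, map_add, h1, h2], e₁ + e₂, ?_, ?_⟩
    · have : p₁ + p₂ - fstE X (e₁ + e₂) = (p₁ - fstE X e₁) + (p₂ - fstE X e₂) := by rw [map_add]; ring
      rw [this]; exact K.add_mem he₁ he₂
    · have : p₁' + p₂' - fstE X' (θ.toAlgEquiv (e₁ + e₂)) =
          (p₁' - fstE X' (θ.toAlgEquiv e₁)) + (p₂' - fstE X' (θ.toAlgEquiv e₂)) := by
        rw [map_add, map_add]; ring
      rw [this]; exact K'.add_mem he₁' he₂'
  have hmul : ∀ p₁ p₂ p₁' p₂', Rel p₁ p₁' → Rel p₂ p₂' → Rel (p₁ * p₂) (p₁' * p₂') := by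
    rintro p₁ p₂ p₁' p₂' ⟨h1, e₁, he₁, he₁'⟩ ⟨h2, e₂, he₂, he₂'⟩
    refine ⟨by rw [map_mul, map_mul, h1, h2], e₁ * e₂, ?_, ?_⟩
    · have : p₁ * p₂ - fstE X (e₁ * e₂) = p₁ * (p₂ - fstE X e₂) + (p₁ - fstE X e₁) * fstE X e₂ := by
        rw [map_mul]; ring
      rw [this]; exact K.add_mem (K.mul_mem_left _ he₂) (K.mul_mem_right _ he₁)
    · have : p₁' * p₂' - fstE X' (θ.toAlgEquiv (e₁ * e₂)) =
          p₁' * (p₂' - fstE X' (θ.toAlgEquiv e₂)) +
            (p₁' - fstE X' (θ.toAlgEquiv e₁)) * fstE X' (θ.toAlgEquiv e₂) := by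
        rw [map_mul, map_mul]; ring
      rw [this]; exact K'.add_mem (K'.mul_mem_left _ he₂') (K'.mul_mem_right _ he₁')
  have halg : ∀ a : Λ, Rel (algebraMap Λ X.E a) (algebraMap Λ X'.E a) := by
    intro a
    refine ⟨by rw [AlgHom.commutes, AlgHom.commutes], algebraMap Λ _ a, ?_, ?_⟩
    · rw [AlgHom.commutes, sub_self]; exact K.zero_mem
    · rw [AlgEquiv.commutes, AlgHom.commutes, sub_self]; exact K'.zero_mem
  have hone : Rel 1 1 := by
    have := halg 1
    rwa [map_one, map_one] at this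
  have hzero : Rel 0 0 := by
    have := halg 0
    rwa [map_zero, map_zero] at this
  refine ⟨{ toFun := Φ
            map_one' := hΦ_eq 1 1 hone
            map_mul' := fun a b => hΦ_eq _ _ (hmul _ _ _ _ (hΦ a) (hΦ b))
            map_zero' := hΦ_eq 0 0 hzero
            map_add' := fun a b => hΦ_eq _ _ (hadd _ _ _ _ (hΦ a) (hΦ b))
            commutes' := fun a => hΦ_eq _ _ (halg a) }, fun p => (hΦ p).1, fun l => ?_⟩
  refine hΦ_eq _ _ ⟨by rw [proj_incl, proj_incl], (X.pullback R).incl l, ?_, ?_⟩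
  · rw [fstE_incl, sub_self]; exact K.zero_mem
  · rw [θ.apply_incl, fstE_incl, sub_self]; exact K'.zero_mem

variable [IsLocalRing R] [IsNoetherianRing R] [IsLocalRing B] [IsNoetherianRing B]
  [IsLocalHom (algebraMap R B)] [IsSimpleModule R L]

omit [IsNoetherianRing R] in
include θ in
theorem pullback_equiv_reflect
    (H1 : ∀ (n : ℕ) (b : B), ∃ r : R, b - algebraMap R B r ∈ maximalIdeal B ^ n)
    (H2 : ∀ (n : ℕ) (r : R), algebraMap R B r ∈ maximalIdeal B ^ n → r ∈ maximalIdeal R ^ n) :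
    Nonempty (X.Equiv X') := by
  haveI : IsSimpleModule B L := isSimpleModule_of_tower (R := R)
  haveI hP : IsLocalRing X.E := isLocalRing_E X
  haveI hP' : IsLocalRing X'.E := isLocalRing_E X'
  haveI hE : IsLocalRing (X.pullback R).E := isLocalRing_E _
  haveI hE' : IsLocalRing (X'.pullback R).E := isLocalRing_E _
  obtain ⟨N₁, hN₁⟩ := exists_pow_incl X
  obtain ⟨N₂, hN₂⟩ := exists_pow_incl X'
  set N := max N₁ N₂ with hNdef
  have hN : ∀ l : L, X.incl l ∈ maximalIdeal X.E ^ N → l = 0 := hN₁ N (le_max_left _ _)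
  have hN' : ∀ l : L, X'.incl l ∈ maximalIdeal X'.E ^ N → l = 0 := hN₂ N (le_max_right _ _)
  haveI := isLocalHom_proj X
  haveI := isLocalHom_proj X'
  haveI := isLocalHom_fstE (R := R) X
  haveI := isLocalHom_fstE (R := R) X'
  haveI hθ : IsLocalHom θ.toAlgEquiv := by
    refine ⟨fun a h => ?_⟩
    have h1 : IsUnit (θ.toAlgEquiv.symm (θ.toAlgEquiv a)) := h.map θ.toAlgEquiv.symm
    rwa [AlgEquiv.symm_apply_apply] at h1
  -- key: elements of the fibre product whose first component is in `m_P^N` are in `m_E^N`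
  have hkey0 : ∀ e : (X.pullback R).E, fstE X e ∈ maximalIdeal X.E ^ N →
      e ∈ maximalIdeal (X.pullback R).E ^ N := by
    intro e he
    have h1 : X.proj (fstE X e) ∈ maximalIdeal B ^ N := map_mem_pow X.proj N he
    rw [proj_fstE] at h1
    have h2 := H2 N _ h1
    obtain ⟨y, hy, hye⟩ := exists_mem_pow_proj_eq (X.pullback R) N _ h2
    have h3 : (X.pullback R).proj (e - y) = 0 := by rw [map_sub, hye, sub_self]
    obtain ⟨l, hl⟩ := ((X.pullback R).isExtension.exact _).1 h3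
    have h4 : X.incl l ∈ maximalIdeal X.E ^ N := by
      rw [← fstE_incl (R := R) X l, hl, map_sub]
      exact Ideal.sub_mem _ he (map_mem_pow (fstE (R := R) X) N hy)
    have h5 := hN l h4
    rw [h5, map_zero] at hl
    have h6 : e = y := sub_eq_zero.1 hl.symm
    rw [h6]; exact hy
  obtain ⟨Φ, hΦp, hΦi⟩ := exists_hom X X' θ (maximalIdeal X.E ^ N) (maximalIdeal X'.E ^ N)
    (by
      intro x hx hx0
      obtain ⟨l, rfl⟩ := (X'.isExtension.exact x).1 hx0
      rw [hN' l hx, map_zero])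
    (by
      intro p
      obtain ⟨r, hr⟩ := H1 N (X.proj p)
      obtain ⟨q, hq, hqp⟩ := exists_mem_pow_proj_eq X N _ hr
      refine ⟨⟨(p - q, r), ?_⟩, ?_⟩
      · have : X.proj (p - q) = algebraMap R B r := by rw [map_sub, hqp]; ring
        exact (AlgHom.mem_equalizer (X.proj.comp (AlgHom.fst Λ X.E R))
          ((IsScalarTower.toAlgHom Λ R B).comp (AlgHom.snd Λ X.E R)) _).2 this
      · change p - (p - q) ∈ _
        rw [sub_sub_cancel]; exact hq)
    (by
      intro e he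
      have h1 := hkey0 e he
      have h2 : θ.toAlgEquiv e ∈ maximalIdeal (X'.pullback R).E ^ N :=
        map_mem_pow θ.toAlgEquiv N h1
      exact map_mem_pow (fstE (R := R) X') N h2)
    (by
      intro x hx
      have h1 : X.proj x ∈ maximalIdeal B ^ N := map_mem_pow X.proj N hx
      exact exists_mem_pow_proj_eq X' N _ h1)
  exact ⟨equivOfHom X X' Φ hΦp hΦi⟩

end Inj


section Surj

variable [IsLocalRing R] [IsNoetherianRing R] [IsLocalRing B]
  [IsLocalHom (algebraMap R B)] [IsSimpleModule R L]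

variable (B) (Y : Exal.Ext Λ R L) [IsLocalRing Y.E] (n : ℕ)

/-- `E/m_E^n → B/m_B^n`. -/
noncomputable def phi1 : (Y.E ⧸ maximalIdeal Y.E ^ n) →ₐ[Λ] (B ⧸ maximalIdeal B ^ n) :=
  Ideal.Quotient.liftₐ (maximalIdeal Y.E ^ n)
    ((Ideal.Quotient.mkₐ Λ (maximalIdeal B ^ n)).comp ((IsScalarTower.toAlgHom Λ R B).comp Y.proj))
    (fun a ha => by
      change Ideal.Quotient.mk _ (algebraMap R B (Y.proj a)) = 0
      rw [Ideal.Quotient.eq_zero_iff_mem]
      haveI := isLocalHom_proj Y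
      exact map_mem_pow (algebraMap R B) n (map_mem_pow Y.proj n ha))

omit [IsNoetherianRing R] [IsSimpleModule R L] [Module B L] [IsScalarTower R B L] in
theorem phi1_mk (e : Y.E) :
    phi1 B Y n (Ideal.Quotient.mk _ e) = Ideal.Quotient.mk _ (algebraMap R B (Y.proj e)) := rfl

/-- the middle ring `E/m_E^n ×_{B/m_B^n} B`. -/
noncomputable def XE : Subalgebra Λ ((Y.E ⧸ maximalIdeal Y.E ^ n) × B) :=
  AlgHom.equalizer ((phi1 B Y n).comp (AlgHom.fst Λ (Y.E ⧸ maximalIdeal Y.E ^ n) B))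
    ((Ideal.Quotient.mkₐ Λ (maximalIdeal B ^ n)).comp (AlgHom.snd Λ (Y.E ⧸ maximalIdeal Y.E ^ n) B))

omit [IsNoetherianRing R] [IsSimpleModule R L] [Module B L] [IsScalarTower R B L] in
theorem mem_XE {c : Y.E ⧸ maximalIdeal Y.E ^ n} {b : B} :
    (c, b) ∈ XE B Y n ↔ phi1 B Y n c = Ideal.Quotient.mk _ b := by
  rw [XE, AlgHom.mem_equalizer]; rfl

/-- the inclusion of `L`. -/
noncomputable def inclX : L →+ XE B Y n where
  toFun := fun z => ⟨(Ideal.Quotient.mk _ (Y.incl z), 0), by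
    rw [mem_XE, phi1_mk, proj_incl, map_zero, map_zero]⟩
  map_zero' := Subtype.ext (Prod.ext (by
    change Ideal.Quotient.mk (maximalIdeal Y.E ^ n) (Y.incl 0) = 0
    rw [map_zero, map_zero]) rfl)
  map_add' := fun z z' => Subtype.ext (Prod.ext (by
    change Ideal.Quotient.mk (maximalIdeal Y.E ^ n) (Y.incl (z + z')) =
      Ideal.Quotient.mk (maximalIdeal Y.E ^ n) (Y.incl z) + Ideal.Quotient.mk (maximalIdeal Y.E ^ n) (Y.incl z')
    rw [map_add, map_add]) (by
    change (0 : B) = 0 + 0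
    rw [add_zero]))

omit [IsNoetherianRing R] [IsSimpleModule R L] [IsScalarTower R B L] in
theorem inclX_val (z : L) :
    ((inclX B Y n z : XE B Y n) : (Y.E ⧸ maximalIdeal Y.E ^ n) × B) = (Ideal.Quotient.mk _ (Y.incl z), 0) := rfl

/-- the projection to `B`. -/
noncomputable def projX : XE B Y n →ₐ[Λ] B :=
  (AlgHom.snd Λ (Y.E ⧸ maximalIdeal Y.E ^ n) B).comp (XE B Y n).val

omit [IsNoetherianRing R] [IsSimpleModule R L] [Module B L] [IsScalarTower R B L] in
theorem projX_apply (x : XE B Y n) : projX B Y n x = x.1.2 := rfl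

variable (hn : 1 ≤ n) (hI : ∀ l, Y.incl l ∈ maximalIdeal Y.E ^ n → l = 0)
  (H1 : ∀ (n : ℕ) (b : B), ∃ r : R, b - algebraMap R B r ∈ maximalIdeal B ^ n)
  (H2 : ∀ (n : ℕ) (r : R), algebraMap R B r ∈ maximalIdeal B ^ n → r ∈ maximalIdeal R ^ n)

omit [IsNoetherianRing R] [IsSimpleModule R L] [Module B L] [IsScalarTower R B L] in
include H1 in
theorem projX_surjective : Function.Surjective (projX B Y n) := by
  intro b
  obtain ⟨r, hr⟩ := H1 n b
  obtain ⟨e, he⟩ := Y.isExtension.proj_surjective r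
  refine ⟨⟨(Ideal.Quotient.mk _ e, b), ?_⟩, rfl⟩
  rw [mem_XE, phi1_mk, he, Ideal.Quotient.eq, ← neg_sub]
  exact neg_mem hr

omit [IsNoetherianRing R] [IsSimpleModule R L] [IsScalarTower R B L] in
include hI in
theorem inclX_injective : Function.Injective (inclX B Y n) := by
  intro z z' h
  have h1 : (Ideal.Quotient.mk (maximalIdeal Y.E ^ n)) (Y.incl z) =
      (Ideal.Quotient.mk (maximalIdeal Y.E ^ n)) (Y.incl z') :=
    congrArg (fun x : XE B Y n => x.1.1) h
  rw [Ideal.Quotient.eq, ← map_sub] at h1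
  exact sub_eq_zero.1 (hI _ h1)

omit [IsNoetherianRing R] [IsSimpleModule R L] [IsScalarTower R B L] in
include H2 in
theorem projX_eq_zero_iff (x : XE B Y n) : projX B Y n x = 0 ↔ x ∈ Set.range (inclX B Y n) := by
  constructor
  · intro hb
    obtain ⟨e, he⟩ := Ideal.Quotient.mk_surjective x.1.1
    have hx' : phi1 B Y n x.1.1 = Ideal.Quotient.mk _ x.1.2 := (mem_XE B Y n).1 x.2
    rw [projX_apply] at hb
    have h1 : algebraMap R B (Y.proj e) ∈ maximalIdeal B ^ n := by
      rw [← Ideal.Quotient.eq_zero_iff_mem, ← phi1_mk, he, hx', hb, map_zero]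
    have h2 := H2 n _ h1
    obtain ⟨y, hy, hye⟩ := exists_mem_pow_proj_eq Y n _ h2
    have h3 : Y.proj (e - y) = 0 := by rw [map_sub, hye, sub_self]
    obtain ⟨z, hz⟩ := (Y.isExtension.exact _).1 h3
    refine ⟨z, Subtype.ext ?_⟩
    rw [inclX_val]
    refine Prod.ext ?_ hb.symm
    change Ideal.Quotient.mk _ (Y.incl z) = x.1.1
    rw [← he, hz, Ideal.Quotient.eq]
    have : e - y - e = -y := by ring
    rw [this]; exact neg_mem hy
  · rintro ⟨z, rfl⟩
    rfl

omit [IsNoetherianRing R] in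
include hn in
theorem mul_inclX (x : XE B Y n) (z : L) : x * inclX B Y n z = inclX B Y n (projX B Y n x • z) := by
  haveI : IsSimpleModule B L := isSimpleModule_of_tower (R := R)
  obtain ⟨e, he⟩ := Ideal.Quotient.mk_surjective x.1.1
  have hx' : phi1 B Y n x.1.1 = Ideal.Quotient.mk _ x.1.2 := (mem_XE B Y n).1 x.2
  rw [← he, phi1_mk, Ideal.Quotient.eq] at hx'
  have h2 : algebraMap R B (Y.proj e) - x.1.2 ∈ maximalIdeal B :=
    Ideal.pow_le_self (by omega) hx'
  have h3 := maximalIdeal_smul_eq_zero (B := B) (L := L) _ h2 z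
  rw [sub_smul, algebraMap_smul, sub_eq_zero] at h3
  refine Subtype.ext ?_
  rw [inclX_val, projX_apply]
  refine Prod.ext ?_ ?_
  · change x.1.1 * Ideal.Quotient.mk _ (Y.incl z) = Ideal.Quotient.mk _ (Y.incl (x.1.2 • z))
    rw [← he, ← map_mul, Y.isExtension.mul_incl, h3]
  · change x.1.2 * 0 = 0
    exact mul_zero _

/-- the extension of `B` by `L` built from `Y`. -/
noncomputable def extX : Exal.Ext Λ B L where
  E := XE B Y n
  proj := projX B Y n
  incl := inclX B Y n
  isExtension :=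
    { proj_surjective := projX_surjective B Y n H1
      incl_injective := inclX_injective B Y n hI
      exact := projX_eq_zero_iff B Y n H2
      mul_incl := mul_inclX B Y n hn }

/-- the comparison map `Y.E → (extX).E ×_B R`. -/
noncomputable def compHom : Y.E →ₐ[Λ] ((extX B Y n hn hI H1 H2).pullback R).E :=
  let g₁ : Y.E →ₐ[Λ] (extX B Y n hn hI H1 H2).E :=
    AlgHom.codRestrict ((Ideal.Quotient.mkₐ Λ (maximalIdeal Y.E ^ n)).prod
      ((IsScalarTower.toAlgHom Λ R B).comp Y.proj)) (XE B Y n)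
      (fun e => by rw [AlgHom.prod_apply, mem_XE]; rfl)
  AlgHom.codRestrict (g₁.prod Y.proj) ((extX B Y n hn hI H1 H2).fiberProd R)
    (fun e => (AlgHom.mem_equalizer
      ((extX B Y n hn hI H1 H2).proj.comp (AlgHom.fst Λ (extX B Y n hn hI H1 H2).E R))
      ((IsScalarTower.toAlgHom Λ R B).comp (AlgHom.snd Λ (extX B Y n hn hI H1 H2).E R)) _).2 rfl)

omit [IsNoetherianRing R] in
include hn hI H1 H2 in
theorem exists_equiv_of_pow : ∃ X : Exal.Ext Λ B L, Nonempty ((X.pullback R).Equiv Y) := by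
  refine ⟨extX B Y n hn hI H1 H2, ⟨(equivOfHom Y _ (compHom B Y n hn hI H1 H2) (fun e => rfl) (fun l => ?_)).symm⟩⟩
  apply Subtype.ext
  apply Prod.ext
  · apply Subtype.ext
    apply Prod.ext
    · rfl
    · change algebraMap R B (Y.proj (Y.incl l)) = 0
      rw [proj_incl, map_zero]
  · change Y.proj (Y.incl l) = 0
    exact proj_incl Y l

end Surj

section SurjMain

variable [IsLocalRing R] [IsNoetherianRing R] [IsLocalRing B]
  [IsLocalHom (algebraMap R B)] [IsSimpleModule R L]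

theorem exists_pullback_equiv
    (H1 : ∀ (n : ℕ) (b : B), ∃ r : R, b - algebraMap R B r ∈ maximalIdeal B ^ n)
    (H2 : ∀ (n : ℕ) (r : R), algebraMap R B r ∈ maximalIdeal B ^ n → r ∈ maximalIdeal R ^ n)
    (Y : Exal.Ext Λ R L) : ∃ X : Exal.Ext Λ B L, Nonempty ((X.pullback R).Equiv Y) := by
  haveI : IsLocalRing Y.E := isLocalRing_E Y
  obtain ⟨N, hN⟩ := exists_pow_incl Y
  exact exists_equiv_of_pow B Y (max N 1) (le_max_right _ _) (hN _ (le_max_left _ _)) H1 H2

end SurjMain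

end Main

end Groth.Agent.Lib.ExtCompletion
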