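import Mathlib

/-!
# Localizing an `Algebra.Extension` (helper1)

* `cotangentComplex_injective_of_formallySmooth`: for ANY extension `Q` of a formally smooth
  `R`-algebra `T` (no hypothesis on `Q.Ring`), `Q.cotangentComplex` is injective.
* `exists_localized_extension`: for an extension `P` of `S` over `R` and a localization `T = M⁻¹S`
  there is an extension `Q` of `T` (on the localization of `P.Ring`) and `f : P.Hom Q` with
  `T ⊗ H¹(P) → H¹(Q)` bijective (Mathlib's `tensorH1CotangentOfIsLocalization`, for any `P`).
* `exists_smul_eq_zero`: if `S_p` is formally smooth over `R`, every element of the kernel of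
  `P.cotangentComplex` is killed by some `s ∉ p`.
-/

set_option autoImplicit false
set_option linter.style.haveILetI false
universe u
open TensorProduct KaehlerDifferential Algebra

namespace Groth.Agent.Lib.ExtLocalize


/-- For any extension `Q` of a formally smooth algebra, the conormal map is injective. -/
theorem cotangentComplex_injective_of_formallySmooth {R T : Type u} [CommRing R] [CommRing T]
    [Algebra R T] [Algebra.FormallySmooth R T] (Q : Algebra.Extension.{u} R T) :
    Function.Injective Q.cotangentComplex := by
  have hf : Function.Surjective (algebraMap Q.Ring T) := Q.algebraMap_surjective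
  let f := IsScalarTower.toAlgHom R Q.Ring T
  have hsurj : Function.Surjective f.kerSquareLift := by
    intro t
    obtain ⟨x, hx⟩ := hf t
    exact ⟨Ideal.Quotient.mk _ x, hx⟩
  have hnil : IsNilpotent (RingHom.ker (f.kerSquareLift : (Q.Ring ⧸ RingHom.ker f.toRingHom ^ 2) →+* T)) := by
    refine ⟨2, ?_⟩
    have := AlgHom.ker_kerSquareLift f
    change RingHom.ker f.kerSquareLift.toRingHom ^ 2 = 0
    rw [this, Ideal.cotangentIdeal_square]; rfl
  let g := Algebra.FormallySmooth.liftOfSurjective (AlgHom.id R T) f.kerSquareLift hsurj hnil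
  have hg : f.kerSquareLift.comp g = AlgHom.id R T :=
    Algebra.FormallySmooth.comp_liftOfSurjective _ _ hsurj hnil
  obtain ⟨l, hl⟩ := (retractionKerCotangentToTensorEquivSection (R := R) hf).symm ⟨g, hg⟩
  have hinj : Function.Injective (kerCotangentToTensor R Q.Ring T) := by
    intro x y hxy
    have := congrArg l hxy
    rwa [← LinearMap.comp_apply, ← LinearMap.comp_apply, hl] at this
  intro x y hxy
  exact hinj hxy

set_option backward.isDefEq.respectTransparency false in
/-- localizing an extension: `T ⊗ H¹(P) ≃ H¹(Q)` for the localized extension `Q` of `T = M⁻¹S`. -/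
theorem exists_localized_extension {R S T : Type u} [CommRing R] [CommRing S] [CommRing T]
    [Algebra R S] [Algebra R T] [Algebra S T] [IsScalarTower R S T]
    (P : Extension.{u} R S) (M : Submonoid S) [IsLocalization M T] :
    ∃ (Q : Extension.{u} R T) (f : P.Hom Q),
      Function.Bijective ((Extension.H1Cotangent.map f).liftBaseChange T) := by
  letI M' := M.comap (algebraMap P.Ring S)
  letI fQ : Localization M' →ₐ[R] T := IsLocalization.liftAlgHom (M := M')
    (f := (IsScalarTower.toAlgHom R S T).comp (IsScalarTower.toAlgHom R P.Ring S)) (fun ⟨y, hy⟩ ↦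
    by simpa using IsLocalization.map_units T ⟨algebraMap P.Ring S y, hy⟩)
  letI Q : Extension R T := .ofSurjective fQ (by
    intro x
    obtain ⟨x, ⟨s, hs⟩, rfl⟩ := IsLocalization.exists_mk'_eq M x
    obtain ⟨x, rfl⟩ := P.algebraMap_surjective x
    obtain ⟨s, rfl⟩ := P.algebraMap_surjective s
    refine ⟨IsLocalization.mk' _ x ⟨s, show s ∈ M' from hs⟩, ?_⟩
    simp only [fQ, IsLocalization.coe_liftAlgHom, AlgHom.toRingHom_eq_coe]
    rw [IsLocalization.lift_mk'_spec]
    simp)
  letI f : P.Hom Q :=
  { toRingHom := algebraMap P.Ring (Localization M')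
    toRingHom_algebraMap x := (IsScalarTower.algebraMap_apply R P.Ring (Localization M') _).symm
    algebraMap_toRingHom x := @IsLocalization.lift_eq .. }
  haveI : Module.Flat S T := IsLocalization.flat T M
  letI : Algebra P.Ring Q.Ring := (inferInstance : Algebra P.Ring (Localization M'))
  letI := ((algebraMap S T).comp (algebraMap P.Ring S)).toAlgebra
  letI := fQ.toRingHom.toAlgebra
  haveI : IsScalarTower P.Ring S T := .of_algebraMap_eq' rfl
  haveI : IsScalarTower P.Ring (Localization M') T :=
    .of_algebraMap_eq fun r ↦ (f.algebraMap_toRingHom r).symm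
  haveI : IsLocalizedModule M' (IsScalarTower.toAlgHom P.Ring S T).toLinearMap := by
    rw [isLocalizedModule_iff_isLocalization]
    convert! ‹IsLocalization M T› using 1
    exact Submonoid.map_comap_eq_of_surjective P.algebraMap_surjective _
  refine ⟨Q, f, (Extension.tensorH1CotangentOfFormallyEtale f rfl ?_ ?_).bijective⟩
  · exact RingHom.formallyEtale_algebraMap.mpr
      (FormallyEtale.of_isLocalization (M := M') (Rₘ := Localization M'))
  · let F : P.ker →ₗ[P.Ring] RingHom.ker fQ := f.mapKer rfl
    refine (isLocalizedModule_iff_isBaseChange M' (Localization M') F).mp ?_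
    have : (LinearMap.ker <| Algebra.linearMap P.Ring S).localized' (Localization M') M'
        (Algebra.linearMap P.Ring (Localization M')) = RingHom.ker fQ := by
      rw [LinearMap.localized'_ker_eq_ker_localizedMap (Localization M') M'
        (Algebra.linearMap P.Ring (Localization M'))
        (f' := (IsScalarTower.toAlgHom P.Ring S T).toLinearMap)]
      ext x
      obtain ⟨x, ⟨s, hs⟩, rfl⟩ := IsLocalization.exists_mk'_eq M' x
      simp only [LinearMap.mem_ker, LinearMap.extendScalarsOfIsLocalization_apply', RingHom.mem_ker,
        IsLocalization.coe_liftAlgHom, AlgHom.toRingHom_eq_coe, IsLocalization.lift_mk'_spec,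
        RingHom.coe_coe, AlgHom.coe_comp, IsScalarTower.coe_toAlgHom', Function.comp_apply,
        mul_zero, fQ]
      have : IsLocalization.mk' (Localization M') x ⟨s, hs⟩ =
          IsLocalizedModule.mk' (Algebra.linearMap P.Ring (Localization M')) x ⟨s, hs⟩ := by
        rw [IsLocalization.mk'_eq_iff_eq_mul, mul_comm, ← Algebra.smul_def, ← Submonoid.smul_def,
          IsLocalizedModule.mk'_cancel']
        rfl
      simp [this, ← IsScalarTower.algebraMap_apply]
    have : F = ((LinearEquiv.ofEq _ _ this).restrictScalars P.Ring).toLinearMap ∘ₗ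
      P.ker.toLocalized' (Localization M') M' (Algebra.linearMap P.Ring (Localization M')) := by
      ext; rfl
    rw [this]
    exact IsLocalizedModule.of_linearEquiv _ _ _


theorem exists_smul_eq_zero {A B : Type u} [CommRing A] [CommRing B] [Algebra A B]
    (P : Extension.{u} A B) (p : Ideal B) [p.IsPrime]
    [Algebra.FormallySmooth A (Localization.AtPrime p)]
    (x : P.Cotangent) (hx : P.cotangentComplex x = 0) : ∃ s ∉ p, s • x = 0 := by
  obtain ⟨Q, f, hbij⟩ :=
    exists_localized_extension (T := Localization.AtPrime p) P p.primeCompl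
  have hQ : Subsingleton Q.H1Cotangent :=
    (Extension.subsingleton_h1Cotangent Q).mpr (cotangentComplex_injective_of_formallySmooth Q)
  let x' : P.H1Cotangent := ⟨x, hx⟩
  have h0 : (1 : Localization.AtPrime p) ⊗ₜ[B] x' = 0 :=
    hbij.injective (Subsingleton.elim _ _)
  have h1 : (1 : Localization.AtPrime p) ⊗ₜ[B] x = 0 := by
    have := congrArg (Extension.h1Cotangentι.baseChange (Localization.AtPrime p)) h0
    rw [LinearMap.baseChange_tmul, map_zero] at this
    exact this
  obtain ⟨s, hs⟩ := (IsLocalizedModule.eq_zero_iff p.primeCompl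
    (TensorProduct.mk B (Localization.AtPrime p) P.Cotangent 1)).mp h1
  exact ⟨s.1, s.2, hs⟩


end Groth.Agent.Lib.ExtLocalize
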