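import Mathlib
import Groth.Agent.Lib.DispRigid76A

/-!
# Multilinear algebra for exterior powers of 3n-displays

* `map_add_smul` : for an alternating map `f`, `f (x_i + c_i t)_i = f x + Σ_i c_i f (x with t at i)`.
* `Tw τ N` : `N` with scalars acting through `τ`; `extPowSL Φ r` : the `r`-th exterior power of a
  `τ`-semilinear map, again `τ`-semilinear, with `extPowSL_ιMulti`.
* `projective_exteriorPower` : exterior powers of finite projective modules are projective.
-/

set_option autoImplicit false
universe u v w

noncomputable section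
namespace Groth.Agent.Lib.ExtPowDisp76

open Function

section Expansion
variable {A : Type u} [CommRing A] {M : Type v} [AddCommGroup M] [Module A M]
variable {N : Type w} [AddCommGroup N] [Module A N]
variable {ι : Type*} [DecidableEq ι]

theorem map_add_smul_finset (f : M [⋀^ι]→ₗ[A] N) (c : ι → A) (t : M) (S : Finset ι) :
    ∀ x : ι → M, f (fun i => x i + (if i ∈ S then c i else 0) • t) =
      f x + ∑ i ∈ S, c i • f (update x i t) := by
  induction S using Finset.induction_on with
  | empty =>
    intro x
    simp
  | insert a S ha ih =>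
    intro x
    set v₀ : ι → M := fun i => x i + (if i ∈ S then c i else 0) • t with hv₀
    have hv₀a : v₀ a = x a := by simp [hv₀, ha]
    have h1 : (fun i => x i + (if i ∈ insert a S then c i else 0) • t) =
        update v₀ a (x a + c a • t) := by
      funext i
      by_cases hia : i = a
      · subst hia; simp
      · simp [hv₀, hia]
    have h2 : update v₀ a (x a) = v₀ := by
      rw [← hv₀a, update_eq_self]
    have h3 : update v₀ a t =
        fun i => (update x a t) i + (if i ∈ S then c i else 0) • t := by
      funext i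
      by_cases hia : i = a
      · subst hia; simp [ha]
      · simp [hv₀, update_of_ne hia]
    rw [h1, f.map_update_add, f.map_update_smul, h2, ih x, h3, ih (update x a t),
      Finset.sum_insert ha]
    have h4 : ∑ i ∈ S, c i • f (update (update x a t) i t) = 0 := by
      refine Finset.sum_eq_zero fun i hi => ?_
      have hia : i ≠ a := fun h => ha (h ▸ hi)
      rw [f.map_eq_zero_of_eq (update (update x a t) i t) (i := i) (j := a) ?_ hia, smul_zero]
      rw [update_self, update_of_ne hia.symm, update_self]
    rw [h4, add_zero]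
    abel

/-- Expansion of an alternating map along a rank-one perturbation. -/
theorem map_add_smul [Fintype ι] (f : M [⋀^ι]→ₗ[A] N) (c : ι → A) (t : M) (x : ι → M) :
    f (fun i => x i + c i • t) = f x + ∑ i, c i • f (update x i t) := by
  have := map_add_smul_finset f c t Finset.univ x
  simpa using this

end Expansion

section Twist

/-- `N` with `A` acting through `τ`. -/
def Tw {A : Type u} [CommRing A] (_τ : A →+* A) (N : Type w) : Type w := N

variable {A : Type u} [CommRing A] (τ : A →+* A)

variable {N : Type w} [AddCommGroup N] [Module A N]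

instance Tw.instAddCommGroup : AddCommGroup (Tw τ N) := inferInstanceAs (AddCommGroup N)

instance Tw.instModule : Module A (Tw τ N) := Module.compHom N τ

/-- The identity `N → Tw τ N`. -/
def Tw.mk (x : N) : Tw τ N := x

/-- The identity `Tw τ N → N`. -/
def Tw.val (x : Tw τ N) : N := x

variable {τ}

omit [AddCommGroup N] [Module A N] in
@[simp] theorem Tw.val_mk (x : N) : (Tw.mk τ x).val = x := rfl
omit [Module A N] in
theorem Tw.val_add (x y : Tw τ N) : (x + y).val = x.val + y.val := rfl
theorem Tw.val_smul (a : A) (x : Tw τ N) : (a • x).val = τ a • x.val := rfl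
omit [Module A N] in
theorem Tw.mk_add (x y : N) : Tw.mk τ (x + y) = Tw.mk τ x + Tw.mk τ y := rfl
theorem Tw.mk_smul (a : A) (x : N) : Tw.mk τ (τ a • x) = a • Tw.mk τ x := rfl

variable {P : Type v} [AddCommGroup P] [Module A P]

/-- `(x_i) ↦ Φ x_1 ∧ ⋯ ∧ Φ x_r`, as an `A`-alternating map into the twisted exterior power. -/
def altSL (Φ : P →ₛₗ[τ] N) (r : ℕ) : P [⋀^Fin r]→ₗ[A] Tw τ (⋀[A]^r N) where
  toFun v := Tw.mk τ (exteriorPower.ιMulti A r (Φ ∘ v))
  map_update_add' := by
    intro _ v i x y
    rw [comp_update, comp_update, comp_update, map_add]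
    have := (exteriorPower.ιMulti A r (M := N)).map_update_add (Φ ∘ v) i (Φ x) (Φ y)
    rw [← Tw.mk_add]
    convert congrArg (Tw.mk τ) this
  map_update_smul' := by
    intro _ v i a x
    rw [comp_update, comp_update, map_smulₛₗ]
    have := (exteriorPower.ιMulti A r (M := N)).map_update_smul (Φ ∘ v) i (τ a) (Φ x)
    have h2 := congrArg (Tw.mk τ) this
    rw [Tw.mk_smul] at h2
    convert h2 using 2
  map_eq_zero_of_eq' := by
    intro v i j hij hne
    have : exteriorPower.ιMulti A r (Φ ∘ v) = 0 :=
      (exteriorPower.ιMulti A r (M := N)).map_eq_zero_of_eq (Φ ∘ v)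
        (by rw [comp_apply, comp_apply, hij]) hne
    change Tw.mk τ (exteriorPower.ιMulti A r (Φ ∘ v)) = 0
    rw [this]
    rfl

theorem altSL_apply (Φ : P →ₛₗ[τ] N) (r : ℕ) (v : Fin r → P) :
    (altSL Φ r v).val = exteriorPower.ιMulti A r (Φ ∘ v) := rfl

/-- The `r`-th exterior power of a `τ`-semilinear map. -/
def extPowSL (Φ : P →ₛₗ[τ] N) (r : ℕ) : ⋀[A]^r P →ₛₗ[τ] ⋀[A]^r N where
  toFun x := (exteriorPower.alternatingMapLinearEquiv (altSL Φ r) x).val
  map_add' x y := by rw [map_add]; rfl
  map_smul' a x := by rw [map_smul]; rfl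

theorem extPowSL_ιMulti (Φ : P →ₛₗ[τ] N) (r : ℕ) (v : Fin r → P) :
    extPowSL Φ r (exteriorPower.ιMulti A r v) = exteriorPower.ιMulti A r (Φ ∘ v) := by
  change (exteriorPower.alternatingMapLinearEquiv (altSL Φ r) (exteriorPower.ιMulti A r v)).val = _
  rw [exteriorPower.alternatingMapLinearEquiv_apply_ιMulti]
  rfl

end Twist

section Projective
variable {A : Type u} [CommRing A] {P : Type v} [AddCommGroup P] [Module A P]

theorem projective_exteriorPower [Module.Finite A P] [Module.Projective A P] (r : ℕ) :
    Module.Projective A (⋀[A]^r P) := by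
  obtain ⟨n, ι, π, h⟩ := Groth.Agent.Lib.DispRigid76.exists_coord (A := A) (M := P)
  refine Module.Projective.of_split (exteriorPower.map r ι) (exteriorPower.map r π) ?_
  rw [← exteriorPower.map_comp]
  have : π ∘ₗ ι = LinearMap.id := LinearMap.ext h
  rw [this, exteriorPower.map_id]

end Projective

end Groth.Agent.Lib.ExtPowDisp76
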