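import Mathlib
import Groth.Agent.Lib.ExtPowDisp76A

/-!
# The normal decomposition of `⋀^r P` for `P = L ⊕ T` with `T` generated by one element

With `e = ⋀^r pr_L` (an idempotent of `⋀^r P`), the span `QE Q r` of the wedges of elements of
`Q = L + J T` equals `range e + J • ker e` (`QE_eq`).
-/

set_option autoImplicit false
universe u v

noncomputable section
namespace Groth.Agent.Lib.ExtPowDisp76

open Function

section Decomp
variable {A : Type u} [CommRing A] {P : Type v} [AddCommGroup P] [Module A P]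

/-- The span of the wedges `q_1 ∧ ⋯ ∧ q_r` with `q_i ∈ Q`. -/
def QE (Q : Submodule A P) (r : ℕ) : Submodule A (⋀[A]^r P) :=
  Submodule.span A
    (Set.range fun q : Fin r → Q => exteriorPower.ιMulti A r (fun i => (q i : P)))

theorem ιMulti_mem_QE {Q : Submodule A P} {r : ℕ} {v : Fin r → P} (hv : ∀ i, v i ∈ Q) :
    exteriorPower.ιMulti A r v ∈ QE Q r :=
  Submodule.subset_span ⟨fun i => ⟨v i, hv i⟩, rfl⟩

variable {L T : Submodule A P} (h : IsCompl L T) (r : ℕ)

/-- `⋀^r pr_L`. -/
def eL : ⋀[A]^r P →ₗ[A] ⋀[A]^r P := exteriorPower.map r (L.projection T h)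

theorem eL_ιMulti (v : Fin r → P) :
    eL h r (exteriorPower.ιMulti A r v) = exteriorPower.ιMulti A r (L.projection T h ∘ v) :=
  exteriorPower.map_apply_ιMulti _ _

theorem eL_idem : IsIdempotentElem (eL h r) := by
  change eL h r * eL h r = eL h r
  rw [Module.End.mul_eq_comp, eL, ← exteriorPower.map_comp]
  congr 1
  exact (Submodule.isIdempotentElem_projection h)

theorem eL_eL (x : ⋀[A]^r P) : eL h r (eL h r x) = eL h r x :=
  LinearMap.congr_fun (eL_idem h r) x

theorem isCompl_eL : IsCompl (LinearMap.range (eL h r)) (LinearMap.ker (eL h r)) :=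
  LinearMap.IsIdempotentElem.isCompl (eL_idem h r)

theorem sub_eL_mem_ker (x : ⋀[A]^r P) : x - eL h r x ∈ LinearMap.ker (eL h r) := by
  rw [LinearMap.mem_ker, map_sub, eL_eL, sub_self]

variable {t : P} (ht : t ∈ T)

include ht in
theorem eL_update (l : Fin r → P) (i : Fin r) :
    eL h r (exteriorPower.ιMulti A r (update l i t)) = 0 := by
  rw [eL_ιMulti]
  refine (exteriorPower.ιMulti A r).map_coord_zero i ?_
  rw [comp_apply, update_self]
  exact Submodule.projection_apply_of_mem_right h ht

/-- Expansion of a wedge along `P = L ⊕ A t`. -/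
theorem ιMulti_eq_add_sum (v : Fin r → P) (c : Fin r → A)
    (hc : ∀ i, T.projection L h.symm (v i) = c i • t) :
    exteriorPower.ιMulti A r v = eL h r (exteriorPower.ιMulti A r v) +
      ∑ i, c i • exteriorPower.ιMulti A r (update (L.projection T h ∘ v) i t) := by
  have hv : v = fun i => (L.projection T h ∘ v) i + c i • t := by
    funext i
    rw [comp_apply, ← hc i]
    exact (Submodule.projection_add_projection_eq_self h (v i)).symm
  conv_lhs => rw [hv]
  rw [map_add_smul, eL_ιMulti]

variable (hT : ∀ x ∈ T, ∃ a : A, x = a • t) (J : Ideal A) {Q : Submodule A P}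
  (hQ : Q = L ⊔ J • T)

include hT in
theorem exists_coef (x : P) : ∃ a : A, T.projection L h.symm x = a • t :=
  hT _ (Submodule.projection_apply_mem h.symm x)

include hT in
theorem mem_smul_T {z : P} (hz : z ∈ J • T) : ∃ a ∈ J, z = a • t := by
  refine Submodule.smul_induction_on hz (fun a ha x hx => ?_) (fun y₁ y₂ h₁ h₂ => ?_)
  · obtain ⟨b, rfl⟩ := hT x hx
    exact ⟨a * b, Ideal.mul_mem_right _ _ ha, by rw [mul_smul]⟩
  · obtain ⟨a₁, ha₁, rfl⟩ := h₁
    obtain ⟨a₂, ha₂, rfl⟩ := h₂
    exact ⟨a₁ + a₂, add_mem ha₁ ha₂, by rw [add_smul]⟩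

include hT hQ in
theorem exists_coef_of_mem_Q {q : P} (hq : q ∈ Q) :
    ∃ a ∈ J, T.projection L h.symm q = a • t := by
  rw [hQ] at hq
  obtain ⟨l, hl, z, hz, rfl⟩ := Submodule.mem_sup.mp hq
  have hzT : z ∈ T := Submodule.smul_le_right hz
  rw [map_add, Submodule.projection_apply_of_mem_right h.symm hl,
    Submodule.projection_apply_of_mem_left h.symm hzT, zero_add]
  exact mem_smul_T hT J hz

include hQ in
theorem L_le_Q' : L ≤ Q := by rw [hQ]; exact le_sup_left

include hQ in
theorem smul_T_le_Q : J • T ≤ Q := by rw [hQ]; exact le_sup_right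

include ht hQ in
theorem smul_update_mem_QE (l : Fin r → P) (i : Fin r) {a : A} (ha : a ∈ J) :
    a • exteriorPower.ιMulti A r (update (L.projection T h ∘ l) i t) ∈ QE Q r := by
  rw [← (exteriorPower.ιMulti A r).map_update_smul]
  refine ιMulti_mem_QE fun j => ?_
  by_cases hji : j = i
  · subst hji
    rw [update_self]
    exact smul_T_le_Q J hQ (Submodule.smul_mem_smul ha ht)
  · rw [update_of_ne hji, comp_apply]
    exact L_le_Q' J hQ (Submodule.projection_apply_mem h _)

include hQ in
theorem range_eL_le_QE : LinearMap.range (eL h r) ≤ QE Q r := by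
  rw [LinearMap.range_eq_map, ← exteriorPower.ιMulti_span, Submodule.map_span, Submodule.span_le]
  rintro _ ⟨_, ⟨v, rfl⟩, rfl⟩
  rw [eL_ιMulti]
  exact ιMulti_mem_QE fun i => L_le_Q' J hQ (Submodule.projection_apply_mem h _)

include ht hT hQ in
theorem smul_sub_eL_mem_QE {a : A} (ha : a ∈ J) (z : ⋀[A]^r P) :
    a • (z - eL h r z) ∈ QE Q r := by
  have hz : z ∈ Submodule.span A (Set.range (exteriorPower.ιMulti A r (M := P))) := by
    rw [exteriorPower.ιMulti_span]; exact Submodule.mem_top
  induction hz using Submodule.span_induction with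
  | mem x hx =>
    obtain ⟨v, rfl⟩ := hx
    choose c hc using fun i => exists_coef h hT (v i)
    have h1 := ιMulti_eq_add_sum h r v c hc
    have h2 : exteriorPower.ιMulti A r v - eL h r (exteriorPower.ιMulti A r v) =
        ∑ i, c i • exteriorPower.ιMulti A r (update (L.projection T h ∘ v) i t) :=
      sub_eq_of_eq_add' h1
    rw [h2, Finset.smul_sum]
    refine Submodule.sum_mem _ fun i _ => ?_
    rw [smul_comm]
    exact Submodule.smul_mem _ _ (smul_update_mem_QE h r ht J hQ v i ha)
  | zero => rw [map_zero, sub_zero, smul_zero]; exact zero_mem _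
  | add x y _ _ hx hy =>
    have : a • (x + y - eL h r (x + y)) = a • (x - eL h r x) + a • (y - eL h r y) := by
      rw [map_add, ← smul_add]; congr 1; abel
    rw [this]; exact add_mem hx hy
  | smul b x _ hx =>
    have : a • (b • x - eL h r (b • x)) = b • (a • (x - eL h r x)) := by
      rw [map_smul, smul_sub, smul_sub, smul_sub, smul_comm a b x, smul_comm a b (eL h r x)]
    rw [this]; exact Submodule.smul_mem _ _ hx

include ht hT hQ in
theorem QE_eq : QE Q r = LinearMap.range (eL h r) ⊔ J • LinearMap.ker (eL h r) := by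
  apply le_antisymm
  · rw [QE, Submodule.span_le]
    rintro _ ⟨q, rfl⟩
    choose c hcJ hc using fun i => exists_coef_of_mem_Q h hT J hQ (q i).2
    have h1 := ιMulti_eq_add_sum h r (fun i => (q i : P)) c hc
    change exteriorPower.ιMulti A r (fun i => (q i : P)) ∈ _
    rw [h1]
    refine add_mem (Submodule.mem_sup_left ⟨_, rfl⟩) (Submodule.mem_sup_right ?_)
    refine Submodule.sum_mem _ fun i _ => ?_
    refine Submodule.smul_mem_smul (hcJ i) ?_
    rw [LinearMap.mem_ker]
    exact eL_update h r ht _ i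
  · refine sup_le (range_eL_le_QE h r J hQ) ?_
    rw [Submodule.smul_le]
    intro a ha z hz
    have := smul_sub_eL_mem_QE h r ht hT J hQ ha z
    rwa [LinearMap.mem_ker.mp hz, sub_zero] at this

include h ht hT hQ in
theorem smul_top_le_QE : J • (⊤ : Submodule A (⋀[A]^r P)) ≤ QE Q r := by
  rw [Submodule.smul_le]
  intro a ha z _
  have h1 : a • z = a • eL h r z + a • (z - eL h r z) := by rw [← smul_add]; congr 1; abel
  rw [h1]
  exact add_mem (Submodule.smul_mem _ _ (range_eL_le_QE h r J hQ ⟨z, rfl⟩))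
    (smul_sub_eL_mem_QE h r ht hT J hQ ha z)

include ht hT hQ in
theorem sub_eL_mem_of_mem_QE {z : ⋀[A]^r P} (hz : z ∈ QE Q r) :
    z - eL h r z ∈ J • (⊤ : Submodule A (⋀[A]^r P)) := by
  rw [QE_eq h r ht hT J hQ] at hz
  obtain ⟨x, ⟨y, rfl⟩, w, hw, rfl⟩ := Submodule.mem_sup.mp hz
  have hew : eL h r w = 0 := by
    refine Submodule.smul_induction_on hw (fun a _ k hk => ?_) (fun y₁ y₂ h₁ h₂ => ?_)
    · rw [map_smul, LinearMap.mem_ker.mp hk, smul_zero]
    · rw [map_add, h₁, h₂, add_zero]
  have : eL h r y + w - eL h r (eL h r y + w) = w := by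
    rw [map_add, eL_eL, hew]; abel
  rw [this]
  exact Submodule.smul_mono le_rfl le_top hw

end Decomp

end Groth.Agent.Lib.ExtPowDisp76
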