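import Mathlib
import Groth.Agent.Lib.ExtPowDisp76B
import Groth.Agent.Lib.DispBCExist76A
import Groth.Agent.Lib.DispBCExist76D
import Groth.Agent.Lib.VSharpExist76

/-!
# The exterior power of a 3n-display with tangent module generated by one element

For a 3n-display `D` on `P` with normal decomposition `P = L ⊕ T`, `T = W t`, we construct the
3n-display structure `extPowAux` on `⋀^r P` with `Q` spanned by the wedges of elements of `D.Q`
and `V⁻¹ (q_1 ∧ ⋯ ∧ q_r) = V⁻¹ q_1 ∧ ⋯ ∧ V⁻¹ q_r`; `existsUnique_isExtPow`.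
-/

set_option autoImplicit false
set_option maxHeartbeats 400000
universe u v

noncomputable section
namespace Groth.Agent.Lib.ExtPowDisp76

open Function Dieu W4c1extbt610 WittVector
open Groth.Agent.Lib.DispBCExist76 Groth.Agent.Lib.VSharpExist76

variable {p : ℕ} [hp : Fact p.Prime] {R : Type u} [CommRing R]
variable {P : Type v} [AddCommGroup P] [Module (WittVector p R) P]

local notation "σ" => (WittVector.frobenius : WittVector p R →+* WittVector p R)

section Ext

/-- A 3n-display structure is determined by `Q` and `V⁻¹`. -/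
theorem display3n_ext' {M : Type v} [AddCommGroup M] [Module (WittVector p R) M]
    (D₁ D₂ : Display3n p R M) (hQ : D₁.Q = D₂.Q)
    (hV : ∀ (z : M) (h₁ : z ∈ D₁.Q) (h₂ : z ∈ D₂.Q), D₁.Vinv ⟨z, h₁⟩ = D₂.Vinv ⟨z, h₂⟩) :
    D₁ = D₂ := by
  refine display3n_ext D₁ D₂ hQ ?_ hV
  apply LinearMap.ext
  intro x
  have h1 := D₁.Vinv_verschiebung_smul 1 x
  have h2 := D₂.Vinv_verschiebung_smul 1 x
  rw [one_smul] at h1 h2
  rw [← h1, ← h2]
  exact hV _ _ _

end Ext

section Construction

variable (D : Display3n p R P) {L T : Submodule (WittVector p R) P} (h : IsCompl L T)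
  (hLQ : L ≤ D.Q) (r : ℕ)

/-- `⋀^r Φ` for `Φ = V⁻¹ pr_L + F pr_T`. -/
def GE : ⋀[WittVector p R]^r P →ₛₗ[σ] ⋀[WittVector p R]^r P := extPowSL (phi D h hLQ) r

theorem GE_ιMulti (v : Fin r → P) :
    GE D h hLQ r (exteriorPower.ιMulti (WittVector p R) r v) =
      exteriorPower.ιMulti (WittVector p R) r (phi D h hLQ ∘ v) :=
  extPowSL_ιMulti _ _ _

/-- The Frobenius of the exterior power: `G ∘ (p e + (1 - e))`. -/
def FE : ⋀[WittVector p R]^r P →ₛₗ[σ] ⋀[WittVector p R]^r P :=
  (GE D h hLQ r).comp ((p : WittVector p R) • eL h r + (LinearMap.id - eL h r))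

theorem FE_apply (x : ⋀[WittVector p R]^r P) :
    FE D h hLQ r x = (p : WittVector p R) • GE D h hLQ r (eL h r x) +
      GE D h hLQ r (x - eL h r x) := by
  change GE D h hLQ r ((p : WittVector p R) • eL h r x + (x - eL h r x)) = _
  rw [map_add, map_smulₛₗ, map_natCast]

theorem sub_eL_mem (hQ : D.Q = L ⊔ IV p R • T) {t : P} (ht : t ∈ T)
    (hT : ∀ x ∈ T, ∃ a : WittVector p R, x = a • t) (z : ↥(QE D.Q r)) :
    z.1 - eL h r z.1 ∈ IV p R • (⊤ : Submodule (WittVector p R) (⋀[WittVector p R]^r P)) :=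
  sub_eL_mem_of_mem_QE h r ht hT (IV p R) hQ z.2

variable [Module.Flat (WittVector p R) (⋀[WittVector p R]^r P)]

/-- `V⁻¹` of the exterior power. -/
def VinvE (hQ : D.Q = L ⊔ IV p R • T) {t : P} (ht : t ∈ T)
    (hT : ∀ x ∈ T, ∃ a : WittVector p R, x = a • t) :
    ↥(QE D.Q r) →ₛₗ[σ] ⋀[WittVector p R]^r P where
  toFun z := GE D h hLQ r (eL h r z.1) + Kfun (GE D h hLQ r) (z.1 - eL h r z.1)
  map_add' z z' := by
    have e1 : (z + z').1 - eL h r (z + z').1 = (z.1 - eL h r z.1) + (z'.1 - eL h r z'.1) := by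
      rw [Submodule.coe_add, map_add]; abel
    rw [e1, Kfun_add _ (sub_eL_mem D h r hQ ht hT z) (sub_eL_mem D h r hQ ht hT z'),
      Submodule.coe_add, map_add, map_add]
    abel
  map_smul' a z := by
    have e1 : (a • z).1 - eL h r (a • z).1 = a • (z.1 - eL h r z.1) := by
      rw [Submodule.coe_smul, map_smul, smul_sub]
    rw [e1, Kfun_smul _ a (sub_eL_mem D h r hQ ht hT z), Submodule.coe_smul, map_smul,
      map_smulₛₗ, smul_add]

variable (hQ : D.Q = L ⊔ IV p R • T) {t : P} (ht : t ∈ T)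
  (hT : ∀ x ∈ T, ∃ a : WittVector p R, x = a • t)

theorem VinvE_apply (z : ↥(QE D.Q r)) :
    VinvE D h hLQ r hQ ht hT z =
      GE D h hLQ r (eL h r z.1) + Kfun (GE D h hLQ r) (z.1 - eL h r z.1) := rfl

theorem Kfun_sum_verschiebung (G : ⋀[WittVector p R]^r P →ₛₗ[σ] ⋀[WittVector p R]^r P)
    {κ : Type*} (s : Finset κ) (w : κ → WittVector p R) (m : κ → ⋀[WittVector p R]^r P) :
    Kfun G (∑ i ∈ s, verschiebung (w i) • m i) = ∑ i ∈ s, w i • G (m i) := by
  classical
  induction s using Finset.induction_on with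
  | empty => rw [Finset.sum_empty, Finset.sum_empty, Kfun_zero]
  | insert a s ha ih =>
    rw [Finset.sum_insert ha, Finset.sum_insert ha, Kfun_add, Kfun_verschiebung_smul, ih]
    · exact Submodule.smul_mem_smul (verschiebung_mem_IV p R _) Submodule.mem_top
    · exact Submodule.sum_mem _ fun i _ =>
        Submodule.smul_mem_smul (verschiebung_mem_IV p R _) Submodule.mem_top

theorem VinvE_ιMulti (q : Fin r → D.Q) :
    VinvE D h hLQ r hQ ht hT ⟨exteriorPower.ιMulti (WittVector p R) r (fun i => (q i : P)),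
      ιMulti_mem_QE (fun i => (q i).2)⟩ =
    exteriorPower.ιMulti (WittVector p R) r (fun i => D.Vinv (q i)) := by
  have hex : ∀ i, ∃ w : WittVector p R,
      T.projection L h.symm (q i : P) = verschiebung w • t := by
    intro i
    obtain ⟨a, ha, hat⟩ := exists_coef_of_mem_Q h hT (IV p R) hQ (q i).2
    obtain ⟨w, rfl⟩ := (mem_IV_iff a).mp ha
    exact ⟨w, hat⟩
  choose w hw using hex
  set v : Fin r → P := fun i => (q i : P) with hv
  set l : Fin r → P := L.projection T h ∘ v with hl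
  have h1 := ιMulti_eq_add_sum h r v (fun i => verschiebung (w i)) hw
  have h2 : exteriorPower.ιMulti (WittVector p R) r v -
      eL h r (exteriorPower.ιMulti (WittVector p R) r v) =
      ∑ i, verschiebung (w i) • exteriorPower.ιMulti (WittVector p R) r (update l i t) :=
    sub_eq_of_eq_add' h1
  rw [VinvE_apply]
  change GE D h hLQ r (eL h r (exteriorPower.ιMulti (WittVector p R) r v)) +
    Kfun (GE D h hLQ r) (exteriorPower.ιMulti (WittVector p R) r v -
      eL h r (exteriorPower.ιMulti (WittVector p R) r v)) = _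
  rw [h2, Kfun_sum_verschiebung, eL_ιMulti, GE_ιMulti]
  have h3 : ∀ i, GE D h hLQ r (exteriorPower.ιMulti (WittVector p R) r (update l i t)) =
      exteriorPower.ιMulti (WittVector p R) r
        (update (phi D h hLQ ∘ l) i (phi D h hLQ t)) := by
    intro i
    rw [GE_ιMulti, comp_update]
  simp_rw [h3]
  rw [← map_add_smul]
  congr 1
  funext i
  have hli : l i ∈ L := Submodule.projection_apply_mem h _
  have hqi : (q i : P) = l i + verschiebung (w i) • t := by
    rw [← hw i]
    exact (Submodule.projection_add_projection_eq_self h _).symm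
  have hsub : q i = ⟨l i, hLQ hli⟩ + ⟨verschiebung (w i) • t, D.IV_smul_le
      (Submodule.smul_mem_smul (verschiebung_mem_IV p R _) Submodule.mem_top)⟩ :=
    Subtype.ext hqi
  rw [hsub, map_add, D.Vinv_verschiebung_smul, comp_apply, phi_of_mem_L D h hLQ hli,
    phi_of_mem_T D h hLQ ht]

theorem span_range_VinvE :
    Submodule.span (WittVector p R) (Set.range (VinvE D h hLQ r hQ ht hT)) = ⊤ := by
  rw [eq_top_iff, ← exteriorPower.ιMulti_span_of_span (WittVector p R) r P D.span_range_Vinv,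
    Submodule.span_le]
  rintro _ ⟨a, ha, rfl⟩
  have hex : ∀ i, ∃ q : D.Q, D.Vinv q = a i := fun i => ha ⟨i, rfl⟩
  choose q hq using hex
  refine Submodule.subset_span ⟨⟨exteriorPower.ιMulti (WittVector p R) r (fun i => (q i : P)),
      ιMulti_mem_QE (fun i => (q i).2)⟩, ?_⟩
  rw [VinvE_ιMulti]
  congr 1
  funext i
  exact hq i

theorem VinvE_verschiebung_smul (w : WittVector p R) (x : ⋀[WittVector p R]^r P)
    (hx : verschiebung w • x ∈ QE D.Q r) :
    VinvE D h hLQ r hQ ht hT ⟨verschiebung w • x, hx⟩ = w • FE D h hLQ r x := by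
  rw [VinvE_apply, FE_apply]
  change GE D h hLQ r (eL h r (verschiebung w • x)) +
    Kfun (GE D h hLQ r) (verschiebung w • x - eL h r (verschiebung w • x)) = _
  rw [map_smul, ← smul_sub (verschiebung w) x (eL h r x), Kfun_verschiebung_smul, map_smulₛₗ,
    frobenius_verschiebung, smul_add, mul_smul]

end Construction

section Display

variable (D : Display3n p R P) {L T : Submodule (WittVector p R) P} (h : IsCompl L T)
  (hLQ : L ≤ D.Q) (r : ℕ)
  [hfin : Module.Finite (WittVector p R) (⋀[WittVector p R]^r P)]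
  [hproj : Module.Projective (WittVector p R) (⋀[WittVector p R]^r P)]
  [Module.Flat (WittVector p R) (⋀[WittVector p R]^r P)]

/-- The exterior power 3n-display. -/
def extPowAux (hQ : D.Q = L ⊔ IV p R • T) {t : P} (ht : t ∈ T)
    (hT : ∀ x ∈ T, ∃ a : WittVector p R, x = a • t) :
    Display3n p R (⋀[WittVector p R]^r P) where
  Q := QE D.Q r
  F := FE D h hLQ r
  Vinv := VinvE D h hLQ r hQ ht hT
  finite := hfin
  projective := hproj
  IV_smul_le := smul_top_le_QE h r ht hT (IV p R) hQ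
  exists_normal := ⟨LinearMap.range (eL h r), LinearMap.ker (eL h r), isCompl_eL h r,
    QE_eq h r ht hT (IV p R) hQ⟩
  span_range_Vinv := span_range_VinvE D h hLQ r hQ ht hT
  Vinv_verschiebung_smul := fun w x => VinvE_verschiebung_smul D h hLQ r hQ ht hT w x _

theorem isExtPow_extPowAux (hQ : D.Q = L ⊔ IV p R • T) {t : P} (ht : t ∈ T)
    (hT : ∀ x ∈ T, ∃ a : WittVector p R, x = a • t) :
    IsExtPow D r (extPowAux D h hLQ r hQ ht hT) :=
  ⟨rfl, fun q _ => VinvE_ιMulti D h hLQ r hQ ht hT q⟩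

end Display

section Main

theorem eq_of_isExtPow (D : Display3n p R P) (r : ℕ)
    (E E' : Display3n p R (⋀[WittVector p R]^r P)) (hE : IsExtPow D r E)
    (hE' : IsExtPow D r E') : E' = E := by
  refine display3n_ext' E' E (hE'.1.trans hE.1.symm) ?_
  intro z h₁ h₂
  have hz : z ∈ Submodule.span (WittVector p R) (Set.range fun q : Fin r → D.Q =>
      exteriorPower.ιMulti (WittVector p R) r (fun i => (q i : P))) := by
    rw [← hE.1]; exact h₂
  have key : ∀ (h₁ : z ∈ E'.Q) (h₂ : z ∈ E.Q), E'.Vinv ⟨z, h₁⟩ = E.Vinv ⟨z, h₂⟩ := by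
    induction hz using Submodule.span_induction with
    | mem x hx =>
      obtain ⟨q, rfl⟩ := hx
      intro h₁ h₂
      rw [hE'.2 q h₁, hE.2 q h₂]
    | zero =>
      intro h₁ h₂
      have e1 : (⟨0, h₁⟩ : E'.Q) = 0 := rfl
      have e2 : (⟨0, h₂⟩ : E.Q) = 0 := rfl
      rw [e1, e2, map_zero, map_zero]
    | add x y hx hy ihx ihy =>
      intro h₁ h₂
      have hx' : x ∈ E'.Q := by rw [hE'.1]; exact hx
      have hy' : y ∈ E'.Q := by rw [hE'.1]; exact hy
      have hx'' : x ∈ E.Q := by rw [hE.1]; exact hx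
      have hy'' : y ∈ E.Q := by rw [hE.1]; exact hy
      have e1 : (⟨x + y, h₁⟩ : E'.Q) = ⟨x, hx'⟩ + ⟨y, hy'⟩ := rfl
      have e2 : (⟨x + y, h₂⟩ : E.Q) = ⟨x, hx''⟩ + ⟨y, hy''⟩ := rfl
      rw [e1, e2, map_add, map_add, ihx hx' hx'', ihy hy' hy'']
    | smul a x hx ihx =>
      intro h₁ h₂
      have hx' : x ∈ E'.Q := by rw [hE'.1]; exact hx
      have hx'' : x ∈ E.Q := by rw [hE.1]; exact hx
      have e1 : (⟨a • x, h₁⟩ : E'.Q) = a • ⟨x, hx'⟩ := rfl
      have e2 : (⟨a • x, h₂⟩ : E.Q) = a • ⟨x, hx''⟩ := rfl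
      rw [e1, e2, map_smulₛₗ, map_smulₛₗ, ihx hx' hx'']
  exact key h₁ h₂

/-- Existence and uniqueness of the exterior power of a 3n-display whose tangent module is
generated by one element. -/
theorem existsUnique_isExtPow (D : Display3n p R P) {L T : Submodule (WittVector p R) P}
    (h : IsCompl L T) (hQ : D.Q = L ⊔ IV p R • T) {t : P} (ht : t ∈ T)
    (hT : ∀ x ∈ T, ∃ a : WittVector p R, x = a • t) (r : ℕ) :
    ∃ E : Display3n p R (⋀[WittVector p R]^r P), IsExtPow D r E ∧
      ∀ E' : Display3n p R (⋀[WittVector p R]^r P), IsExtPow D r E' → E' = E := by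
  have := D.finite
  have := D.projective
  have hLQ : L ≤ D.Q := by rw [hQ]; exact le_sup_left
  have hproj : Module.Projective (WittVector p R) (⋀[WittVector p R]^r P) :=
    projective_exteriorPower r
  have hflat : Module.Flat (WittVector p R) (⋀[WittVector p R]^r P) :=
    @Module.Flat.of_projective _ _ _ _ _ hproj
  refine ⟨extPowAux D h hLQ r hQ ht hT, isExtPow_extPowAux D h hLQ r hQ ht hT, fun E' hE' => ?_⟩
  exact eq_of_isExtPow D r _ E' (isExtPow_extPowAux D h hLQ r hQ ht hT) hE'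

end Main

end Groth.Agent.Lib.ExtPowDisp76
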