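import Mathlib
import Groth.Agent.Lib.ExtPowDisp76B

/-!
# The tangent part of `⋀^r P` in the free case

For `P = L ⊕ T` with a basis `b` of `P` all of whose members lie in `L` except `b i₀ ∈ T`, the
kernel of `e = ⋀^r pr_L` is free on the basis wedges containing `i₀`, of rank
`(card I - 1).choose (r - 1)`.
-/

set_option autoImplicit false
universe u v

noncomputable section
namespace Groth.Agent.Lib.ExtPowDisp76

open Function Set.powersetCard

section Count

theorem card_filter_mem_powersetCard {I : Type*} [DecidableEq I] [Fintype I] (i₀ : I) (k : ℕ) :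
    (((Finset.univ : Finset I).powersetCard (k + 1)).filter (fun s => i₀ ∈ s)).card =
      (Fintype.card I - 1).choose k := by
  have hni : i₀ ∉ (Finset.univ : Finset I).erase i₀ := Finset.notMem_erase _ _
  have hU : (Finset.univ : Finset I).powersetCard (k + 1) =
      (insert i₀ ((Finset.univ : Finset I).erase i₀)).powersetCard (k + 1) := by
    rw [Finset.insert_erase (Finset.mem_univ i₀)]
  rw [hU, Finset.powersetCard_succ_insert hni, Finset.filter_union]
  have h1 : (((Finset.univ : Finset I).erase i₀).powersetCard (k + 1)).filter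
      (fun s => i₀ ∈ s) = ∅ := by
    rw [Finset.filter_eq_empty_iff]
    intro s hs hi
    exact hni ((Finset.mem_powersetCard.mp hs).1 hi)
  have h2 : ((((Finset.univ : Finset I).erase i₀).powersetCard k).image (insert i₀)).filter
      (fun s => i₀ ∈ s) =
      (((Finset.univ : Finset I).erase i₀).powersetCard k).image (insert i₀) := by
    rw [Finset.filter_eq_self]
    intro s hs
    obtain ⟨t, _, rfl⟩ := Finset.mem_image.mp hs
    exact Finset.mem_insert_self _ _
  rw [h1, h2, Finset.empty_union, Finset.card_image_of_injOn, Finset.card_powersetCard,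
    Finset.card_erase_of_mem (Finset.mem_univ _), Finset.card_univ]
  intro s hs t ht hst
  have hs' : i₀ ∉ s := fun hi => hni ((Finset.mem_powersetCard.mp hs).1 hi)
  have ht' : i₀ ∉ t := fun hi => hni ((Finset.mem_powersetCard.mp ht).1 hi)
  have hst' : insert i₀ s = insert i₀ t := hst
  rw [← Finset.erase_insert hs', ← Finset.erase_insert ht', hst']

theorem natCard_mem_powersetCard {I : Type*} [DecidableEq I] [Fintype I] (i₀ : I) (k : ℕ) :
    Nat.card {s : Set.powersetCard I (k + 1) // i₀ ∈ s} = (Fintype.card I - 1).choose k := by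
  rw [← card_filter_mem_powersetCard i₀ k, ← Fintype.card_coe, ← Nat.card_eq_fintype_card]
  refine Nat.card_congr
    { toFun := fun s => ⟨s.1.1, Finset.mem_filter.mpr
        ⟨Finset.mem_powersetCard.mpr ⟨Finset.subset_univ _, s.1.2⟩, s.2⟩⟩
      invFun := fun s => ⟨⟨s.1, (Finset.mem_powersetCard.mp (Finset.mem_filter.mp s.2).1).2⟩,
        (Finset.mem_filter.mp s.2).2⟩
      left_inv := fun s => rfl
      right_inv := fun s => rfl }

end Count

section Free
variable {A : Type u} [CommRing A] {P : Type v} [AddCommGroup P] [Module A P]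
variable {L T : Submodule A P} (h : IsCompl L T) (r : ℕ)
variable {I : Type*} [LinearOrder I] [Fintype I] (b : Module.Basis I A P) (i₀ : I)
  (hbL : ∀ i, i ≠ i₀ → b i ∈ L) (hbT : b i₀ ∈ T)

open scoped Classical in
include hbL hbT in
theorem eL_basis (s : Set.powersetCard I r) :
    eL h r (b.exteriorPower r s) = if i₀ ∈ s then 0 else b.exteriorPower r s := by
  rw [exteriorPower.basis_apply, exteriorPower.ιMulti_family, eL_ιMulti]
  split_ifs with hs
  · obtain ⟨k, hk⟩ := (mem_range_ofFinEmbEquiv_symm_iff_mem s i₀).mpr hs
    refine (exteriorPower.ιMulti A r).map_coord_zero k ?_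
    rw [comp_apply, comp_apply, hk]
    exact Submodule.projection_apply_of_mem_right h hbT
  · congr 1
    funext k
    rw [comp_apply]
    refine Submodule.projection_apply_of_mem_left h (hbL _ ?_)
    intro hk
    exact hs ((mem_range_ofFinEmbEquiv_symm_iff_mem s i₀).mp ⟨k, hk⟩)

include hbL hbT in
theorem ker_eL_eq_span : LinearMap.ker (eL h r) = Submodule.span A
    (Set.range fun s : {s : Set.powersetCard I r // i₀ ∈ s} => b.exteriorPower r s.1) := by
  apply le_antisymm
  · intro x hx
    have hx' : x = x - eL h r x := by rw [LinearMap.mem_ker.mp hx, sub_zero]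
    have hsum : x - eL h r x = ∑ s, ((b.exteriorPower r).repr x s) •
        (b.exteriorPower r s - eL h r (b.exteriorPower r s)) := by
      conv_lhs => rw [← (b.exteriorPower r).sum_repr x]
      rw [map_sum, ← Finset.sum_sub_distrib]
      refine Finset.sum_congr rfl fun s _ => ?_
      rw [map_smul, smul_sub]
    rw [hx', hsum]
    refine Submodule.sum_mem _ fun s _ => ?_
    rw [eL_basis h r b i₀ hbL hbT]
    refine Submodule.smul_mem _ _ ?_
    split_ifs with hs
    · rw [sub_zero]
      exact Submodule.subset_span ⟨⟨s, hs⟩, rfl⟩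
    · rw [sub_self]; exact zero_mem _
  · rw [Submodule.span_le]
    rintro _ ⟨s, rfl⟩
    change eL h r (b.exteriorPower r s.1) = 0
    rw [eL_basis h r b i₀ hbL hbT, if_pos s.2]

/-- The basis of `ker (⋀^r pr_L)` given by the basis wedges containing `i₀`. -/
def kerBasis : Module.Basis {s : Set.powersetCard I r // i₀ ∈ s} A (LinearMap.ker (eL h r)) :=
  (Module.Basis.span ((b.exteriorPower r).linearIndependent.comp
      (Subtype.val : {s : Set.powersetCard I r // i₀ ∈ s} → Set.powersetCard I r)
      Subtype.val_injective)).map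
    (LinearEquiv.ofEq _ _ (ker_eL_eq_span h r b i₀ hbL hbT).symm)

include hbL hbT in
theorem free_ker_eL : Module.Free A (LinearMap.ker (eL h r)) :=
  Module.Free.of_basis (kerBasis h r b i₀ hbL hbT)

include hbL hbT in
theorem finrank_ker_eL [Nontrivial A] (k : ℕ) :
    Module.finrank A (LinearMap.ker (eL h (k + 1))) = (Fintype.card I - 1).choose k := by
  classical
  rw [Module.finrank_eq_nat_card_basis (kerBasis h (k + 1) b i₀ hbL hbT),
    natCard_mem_powersetCard]

end Free

section Adapted
variable {A : Type u} [CommRing A] [Nontrivial A] {P : Type v} [AddCommGroup P] [Module A P]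
variable {L T : Submodule A P}

theorem exists_basis_adapted (h : IsCompl L T) [Module.Free A L] [Module.Finite A L] {m : ℕ}
    (hm : Module.finrank A L = m) (ε : T ≃ₗ[A] A) :
    ∃ b : Module.Basis (Lex (Fin m ⊕ Fin 1)) A P,
      (∀ i, i ≠ toLex (Sum.inr 0) → b i ∈ L) ∧ b (toLex (Sum.inr 0)) ∈ T := by
  let bL : Module.Basis (Fin m) A L := Module.finBasisOfFinrankEq A L hm
  let bT : Module.Basis (Fin 1) A T :=
    Module.Basis.ofEquivFun (ε.trans (LinearEquiv.funUnique (Fin 1) A A).symm)
  refine ⟨((bL.prod bT).map (Submodule.prodEquivOfIsCompl L T h)).reindex toLex, ?_, ?_⟩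
  · intro i hi
    rw [Module.Basis.reindex_apply, Module.Basis.map_apply, Submodule.coe_prodEquivOfIsCompl']
    rcases hj : toLex.symm i with j | j
    · rw [Module.Basis.prod_apply_inl_fst, Module.Basis.prod_apply_inl_snd, Submodule.coe_zero,
        add_zero]
      exact (bL j).2
    · exfalso
      apply hi
      have : j = 0 := Subsingleton.elim _ _
      rw [this] at hj
      rw [← hj]
      exact (toLex.apply_symm_apply i).symm
  · rw [Module.Basis.reindex_apply, Module.Basis.map_apply, Submodule.coe_prodEquivOfIsCompl',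
      Equiv.symm_apply_apply, Module.Basis.prod_apply_inr_fst, Module.Basis.prod_apply_inr_snd,
      Submodule.coe_zero, zero_add]
    exact (bT 0).2

end Adapted

end Groth.Agent.Lib.ExtPowDisp76
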