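import Groth.Agent.Lib.ExtDelta
import Groth.Agent.Lib.FunctorSESNat
import Mathlib.Algebra.Homology.DerivedCategory.Ext.EnoughInjectives
import Mathlib.Algebra.Category.Grp.Zero

/-!
# `Ext^n(Z(-), F)` as a presheaf-valued cohomological delta-functor

For a functor `Zq : K ⥤ A` into an abelian category with `Ext`, the functors
`F ↦ (k ↦ Ext^n(Zq k, F))`, `A ⥤ (Kᵒᵖ ⥤ AddCommGrpCat)`, form a cohomological delta-functor, which
is effaceable (hence universal) when `A` has enough injectives.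
-/

set_option autoImplicit false

universe u v' u'

open CategoryTheory Limits Opposite DeltaF Abelian

namespace Groth.Agent.Lib.ExtPreDelta92

open Groth.Agent.Lib.ExtDelta

variable {A : Type*} [Category A] [Abelian A] [HasExt.{u} A]
  {K : Type u'} [Category.{v'} K] (Zq : K ⥤ A)

/-- `F ↦ (k ↦ Ext^n(Zq k, F))` -/
noncomputable def pF (n : ℕ) : A ⥤ (Kᵒᵖ ⥤ AddCommGrpCat.{u}) := (Zq.op ⋙ extFunctor n).flip

lemma pF_obj_obj (n : ℕ) (F : A) (k : Kᵒᵖ) :
    ((pF Zq n).obj F).obj k = (hF (Zq.obj k.unop) n).obj F := rfl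

lemma pF_map_app (n : ℕ) {F G : A} (ψ : F ⟶ G) (k : Kᵒᵖ) :
    ((pF Zq n).map ψ).app k = (hF (Zq.obj k.unop) n).map ψ := rfl

lemma pF_obj_map_apply (n : ℕ) (F : A) {k k' : Kᵒᵖ} (g : k ⟶ k')
    (x : Ext (Zq.obj k.unop) F n) :
    ((pF Zq n).obj F).map g x = (Ext.mk₀ (Zq.map g.unop)).comp x (zero_add n) := rfl

instance pF_additive (n : ℕ) : (pF Zq n).Additive where
  map_add {F G ψ ψ'} := by
    ext k : 2
    rw [pF_map_app, NatTrans.app_add, pF_map_app, pF_map_app]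
    exact (hF (Zq.obj k.unop) n).map_add

variable {Zq}
variable {S : ShortComplex A} (hS : S.ShortExact)

/-- the connecting morphism of presheaves -/
noncomputable def pδ (n₀ n₁ : ℕ) (h : n₀ + 1 = n₁) :
    (pF Zq n₀).obj S.X₃ ⟶ (pF Zq n₁).obj S.X₁ where
  app k := hδ (X := Zq.obj k.unop) hS n₀ n₁ h
  naturality k k' g := by
    ext (x : Ext (Zq.obj k.unop) S.X₃ n₀)
    change hδ (X := Zq.obj k'.unop) hS n₀ n₁ h (((pF Zq n₀).obj S.X₃).map g x) =
      ((pF Zq n₁).obj S.X₁).map g (hδ (X := Zq.obj k.unop) hS n₀ n₁ h x)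
    rw [pF_obj_map_apply, hδ_apply, hδ_apply, pF_obj_map_apply]
    apply Ext.comp_assoc
    lia

lemma pδ_app (n₀ n₁ : ℕ) (h : n₀ + 1 = n₁) (k : Kᵒᵖ) :
    (pδ (Zq := Zq) hS n₀ n₁ h).app k = (extDelta (Zq.obj k.unop)).δ S hS n₀ n₁ h := rfl

variable (Zq) in
/-- `Ext^•(Zq(-), -)` as a presheaf-valued cohomological delta-functor -/
noncomputable def extPreDelta : CohDeltaFunctor A (Kᵒᵖ ⥤ AddCommGrpCat.{u}) ℕ where
  F n := pF Zq n
  additive n := pF_additive Zq n
  δ _ hS n₀ n₁ h := pδ hS n₀ n₁ h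
  δ_natural {S S'} hS hS' φ n₀ n₁ h := by
    ext k : 2
    rw [NatTrans.comp_app, NatTrans.comp_app, pδ_app, pδ_app, pF_map_app, pF_map_app]
    exact (extDelta (Zq.obj k.unop)).δ_natural hS hS' φ n₀ n₁ h
  exact₂ S hS n := Groth.Agent.Lib.FunctorSESNat.exact_of_evaluation _
    (fun k => (extDelta (Zq.obj k.unop)).exact₂ S hS n)
  comp_δ S hS n₀ n₁ h := by
    ext k : 2
    rw [NatTrans.comp_app, pδ_app, pF_map_app]
    exact (extDelta (Zq.obj k.unop)).comp_δ S hS n₀ n₁ h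
  exact₃ S hS n₀ n₁ h := Groth.Agent.Lib.FunctorSESNat.exact_of_evaluation _
    (fun k => (extDelta (Zq.obj k.unop)).exact₃ S hS n₀ n₁ h)
  δ_comp S hS n₀ n₁ h := by
    ext k : 2
    rw [NatTrans.comp_app, pδ_app, pF_map_app]
    exact (extDelta (Zq.obj k.unop)).δ_comp S hS n₀ n₁ h
  exact₁ S hS n₀ n₁ h := Groth.Agent.Lib.FunctorSESNat.exact_of_evaluation _
    (fun k => (extDelta (Zq.obj k.unop)).exact₁ S hS n₀ n₁ h)

lemma extPreDelta_F (n : ℕ) : (extPreDelta Zq).F n = pF Zq n := rfl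

variable (Zq) in
theorem extPreDelta_isEffaceable [EnoughInjectives A] : (extPreDelta Zq).IsEffaceable := by
  intro n M
  refine ⟨Injective.under M, Injective.ι M, inferInstance, ?_⟩
  have hz : IsZero (((extPreDelta Zq).F (n + 1)).obj (Injective.under M)) := by
    apply Functor.isZero
    intro k
    have : Subsingleton (Ext.{u} (Zq.obj k.unop) (Injective.under M) (n + 1)) :=
      ⟨fun x y => (Ext.eq_zero_of_injective x).trans (Ext.eq_zero_of_injective y).symm⟩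
    exact AddCommGrpCat.isZero_of_subsingleton
      (AddCommGrpCat.of (Ext.{u} (Zq.obj k.unop) (Injective.under M) (n + 1)))
  exact hz.eq_of_tgt _ _

end Groth.Agent.Lib.ExtPreDelta92
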