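import Groth.Agent.Lib.ExtPreDelta92
import Groth.Agent.Lib.CechDelta2
import Groth.Agent.Lib.DeltaIso

/-!
# Presheaf-valued derived functors are presheaves of `Ext` groups

If a left exact functor `T : A ⥤ (Kᵒᵖ ⥤ Ab)` agrees with `F ↦ (k ↦ Hom(Zq k, F))`, then
`R^q T ≅ (F ↦ (k ↦ Ext^q(Zq k, F)))`, an isomorphism of functors to presheaves (so natural in `k`).
Also a two-variable version of "subfunctors of a common functor with equal images are isomorphic".
-/

set_option autoImplicit false

universe u v' u'

open CategoryTheory Limits Opposite DeltaF Abelian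

namespace Groth.Agent.Lib.ExtPreDerived92

open Groth.Agent.Lib.ExtPreDelta92

section Iso2

variable {A : Type*} [Category A] {K : Type*} [Category K]

/-- two functors to `K ⥤ Ab` embedded (naturally in both variables) in a third one with the same
image objectwise are isomorphic -/
theorem nonempty_iso_of_range_eq₂ (P Q R : A ⥤ (K ⥤ AddCommGrpCat.{u}))
    (a : ∀ F k, (P.obj F).obj k →+ (R.obj F).obj k)
    (b : ∀ F k, (Q.obj F).obj k →+ (R.obj F).obj k)
    (ha : ∀ F k, Function.Injective (a F k)) (hb : ∀ F k, Function.Injective (b F k))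
    (hr : ∀ F k, (a F k).range = (b F k).range)
    (na : ∀ {F G : A} (φ : F ⟶ G) (k : K) (x : (P.obj F).obj k),
      a G k ((P.map φ).app k x) = (R.map φ).app k (a F k x))
    (nb : ∀ {F G : A} (φ : F ⟶ G) (k : K) (x : (Q.obj F).obj k),
      b G k ((Q.map φ).app k x) = (R.map φ).app k (b F k x))
    (ma : ∀ (F : A) {k k' : K} (g : k ⟶ k') (x : (P.obj F).obj k),
      a F k' ((P.obj F).map g x) = (R.obj F).map g (a F k x))
    (mb : ∀ (F : A) {k k' : K} (g : k ⟶ k') (x : (Q.obj F).obj k),
      b F k' ((Q.obj F).map g x) = (R.obj F).map g (b F k x)) :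
    Nonempty (P ≅ Q) := by
  have key : ∀ F k (x : (P.obj F).obj k), ∃ y : (Q.obj F).obj k, b F k y = a F k x := by
    intro F k x
    have h : a F k x ∈ (b F k).range := by
      rw [← hr]
      exact ⟨x, rfl⟩
    exact h
  have key' : ∀ F k (y : (Q.obj F).obj k), ∃ x : (P.obj F).obj k, a F k x = b F k y := by
    intro F k y
    have h : b F k y ∈ (a F k).range := by
      rw [hr]
      exact ⟨y, rfl⟩
    exact h
  choose t ht using key
  choose t' ht' using key'
  let e : ∀ F k, (P.obj F).obj k ≃+ (Q.obj F).obj k := fun F k =>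
    { toFun := t F k
      invFun := t' F k
      left_inv := fun x => ha F k (by rw [ht', ht])
      right_inv := fun y => hb F k (by rw [ht, ht'])
      map_add' := fun x y => hb F k (by rw [map_add, ht, ht, ht, map_add]) }
  refine ⟨NatIso.ofComponents
    (fun F => NatIso.ofComponents (fun k => (e F k).toAddCommGrpIso) ?_) ?_⟩
  · intro k k' g
    ext x
    apply hb F k'
    change b F k' (t F k' ((P.obj F).map g x)) = b F k' ((Q.obj F).map g (t F k x))
    rw [ht, mb, ht, ma]
  · intro F G φ
    ext k x
    apply hb G k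
    change b G k (t G k ((P.map φ).app k x)) = b G k ((Q.map φ).app k (t F k x))
    rw [ht, nb, ht, na]

end Iso2

section Derived

variable {A : Type*} [Category A] [Abelian A] [HasExt.{u} A] [EnoughInjectives A]
  {K : Type u'} [Category.{v'} K] (Zq : K ⥤ A)

/-- **presheaf-valued derived functors are presheaves of `Ext` groups** -/
theorem nonempty_rightDerived_iso (T : A ⥤ (Kᵒᵖ ⥤ AddCommGrpCat.{u})) [T.Additive]
    [PreservesFiniteLimits T] (e0 : T ≅ pF Zq 0) (q : ℕ) :
    Nonempty (T.rightDerived q ≅ pF Zq q) := by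
  have h1 := Groth.Agent.Lib.CechDelta.derived_isUniversal T
  have h2 := DeltaUniv.isUniversal_of_isEffaceable _ (extPreDelta_isEffaceable.{u} Zq)
  exact DeltaIso.nonempty_natIso_of_isUniversal _ _ h1 h2
    ((Functor.rightDerivedZeroIsoSelf T) ≪≫ e0) q

end Derived

end Groth.Agent.Lib.ExtPreDerived92
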