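import Groth.Agent.Lib.GrSubalg12
import Groth.Prelude.Def_W4c2filtblowupsingRees

/-!
# The ℤ-grading of the extended Rees algebra (helper12)

For a filtration of ideals `𝓕` on `A`, the extended Rees algebra `𝓕.extRees ⊆ A[T;T⁻¹]` is a
homogeneous subalgebra, hence ℤ-graded by `gr 𝓕 n = {x | x = a T^n}`.

* `coe_decompose_grade` : components in `A[T;T⁻¹]`;
* `gr`, `grGradedRing` (instance), `mem_gr_iff`, `coe_decompose_gr`;
* `u_mem_gr`, `isSMulRegular_u`.
-/

set_option autoImplicit false
set_option linter.unusedSectionVars false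
universe u

namespace Groth.Agent.Lib.ExtRees12

open FiltBl LaurentPolynomial AddMonoidAlgebra DirectSum Groth.Agent.Lib.GrSubalg12

variable {A : Type u} [CommRing A] (𝓕 : IdealFiltration A)

/-- The homogeneous components of a Laurent polynomial. -/
theorem coe_decompose_grade (x : A[T;T⁻¹]) (n : ℤ) :
    (decompose (grade A : ℤ → Submodule A A[T;T⁻¹]) x n : A[T;T⁻¹]) = single n (x.coeff n) := by
  induction x using AddMonoidAlgebra.induction_linear with
  | zero => simp
  | add x y hx hy =>
    rw [decompose_add, DirectSum.add_apply, Submodule.coe_add, hx, hy, coeff_add, Finsupp.add_apply,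
      single_add]
  | single m r =>
    rw [grade.decompose_single, coeff_single]
    by_cases h : m = n
    · subst h
      rw [DirectSum.of_eq_same, Finsupp.single_eq_same]
    · rw [DirectSum.of_eq_of_ne _ _ _ (Ne.symm h), Finsupp.single_eq_of_ne (Ne.symm h), single_zero]
      rfl

theorem extRees_homogeneous (x : A[T;T⁻¹]) (hx : x ∈ 𝓕.extRees) (n : ℤ) :
    (decompose (grade A : ℤ → Submodule A A[T;T⁻¹]) x n : A[T;T⁻¹]) ∈ 𝓕.extRees := by
  rw [coe_decompose_grade]
  intro m
  rw [coeff_single]
  by_cases h : n = m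
  · subst h
    rw [Finsupp.single_eq_same]
    exact hx n
  · rw [Finsupp.single_eq_of_ne (Ne.symm h)]
    exact Ideal.zero_mem _

/-- The grading of the extended Rees algebra. -/
noncomputable def gr (n : ℤ) : AddSubgroup 𝓕.extRees :=
  subGr (grade A : ℤ → Submodule A A[T;T⁻¹]) 𝓕.extRees n

noncomputable instance grGradedRing : GradedRing (gr 𝓕) :=
  subGrGradedRing (grade A : ℤ → Submodule A A[T;T⁻¹]) 𝓕.extRees (extRees_homogeneous 𝓕)

theorem mem_gr_iff {n : ℤ} {x : 𝓕.extRees} :
    x ∈ gr 𝓕 n ↔ (x : A[T;T⁻¹]) = single n ((x : A[T;T⁻¹]).coeff n) := by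
  change (x : A[T;T⁻¹]) ∈ grade A n ↔ _
  constructor
  · intro h
    have := decompose_of_mem_same (grade A : ℤ → Submodule A A[T;T⁻¹]) h
    rw [coe_decompose_grade] at this
    exact this.symm
  · intro h
    rw [h]
    exact single_mem_grade n _

theorem coe_decompose_gr (x : 𝓕.extRees) (n : ℤ) :
    ((decompose (gr 𝓕) x n : 𝓕.extRees) : A[T;T⁻¹]) = single n ((x : A[T;T⁻¹]).coeff n) := by
  have := coe_decompose_subGr (grade A : ℤ → Submodule A A[T;T⁻¹]) 𝓕.extRees
    (extRees_homogeneous 𝓕) x n
  rw [coe_decompose_grade] at this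
  exact this

end Groth.Agent.Lib.ExtRees12
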