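import Groth.Agent.Lib.ExtRees12a
import Groth.Prelude.Def_GrLC

/-!
# The `*`maximal ideal of the extended Rees algebra of a local ring (helper12)

`A` a local ring, `𝓕` a filtration of ideals with `F 1 ≤ 𝔪`.  The map `x ↦ (x₀ mod 𝔪)` is a ring
homomorphism `ε' : 𝓕.extRees → A/𝔪`, whose kernel `M 𝓕` is a homogeneous maximal ideal containing
every proper homogeneous ideal.

* `coeffZeroHom`, `eps`, `M`, `mem_M`, `M_isMaximal`, `M_isHomogeneous`, `le_M_of_isHomogeneous`;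
* `u_mem_gr`, `isSMulRegular_u`, `u_mem_M`.
-/

set_option autoImplicit false
set_option linter.unusedSectionVars false
universe u

namespace Groth.Agent.Lib.ExtRees12

open FiltBl LaurentPolynomial AddMonoidAlgebra DirectSum IsLocalRing

variable {A : Type u} [CommRing A] (𝓕 : IdealFiltration A)

theorem coeff_mem_F_one {x : A[T;T⁻¹]} (hx : x ∈ 𝓕.extRees) {n : ℤ} (hn : 0 < n) :
    x.coeff n ∈ 𝓕.F 1 :=
  𝓕.antitone (show 1 ≤ n.toNat by omega) (hx n)

theorem mul_coeff_mem_F_one {x y : A[T;T⁻¹]} (hx : x ∈ 𝓕.extRees) (hy : y ∈ 𝓕.extRees) {h : ℤ}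
    (hh : h ≠ 0) : x.coeff h * y.coeff (-h + 0) ∈ 𝓕.F 1 := by
  rcases lt_or_gt_of_ne hh with h1 | h1
  · exact (𝓕.F 1).mul_mem_left _ (coeff_mem_F_one 𝓕 hy (by omega))
  · exact (𝓕.F 1).mul_mem_right _ (coeff_mem_F_one 𝓕 hx h1)

/-- The degree zero coefficient modulo `F 1`, as a ring homomorphism. -/
noncomputable def coeffZeroHom : 𝓕.extRees →+* A ⧸ 𝓕.F 1 where
  toFun x := Ideal.Quotient.mk _ ((x : A[T;T⁻¹]).coeff 0)
  map_one' := by
    have : ((1 : 𝓕.extRees) : A[T;T⁻¹]).coeff 0 = 1 := by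
      rw [OneMemClass.coe_one, ← LaurentPolynomial.T_zero, LaurentPolynomial.T_apply, if_pos rfl]
    rw [this, map_one]
  map_mul' x y := by
    rw [← map_mul, Ideal.Quotient.eq, MulMemClass.coe_mul, coeff_mul_apply_left, Finsupp.sum]
    by_cases h0 : (0 : ℤ) ∈ (x : A[T;T⁻¹]).coeff.support
    · rw [← Finset.add_sum_erase _ _ h0, neg_zero, zero_add, add_sub_cancel_left]
      refine Ideal.sum_mem _ fun h hh => ?_
      exact mul_coeff_mem_F_one 𝓕 x.2 y.2 (Finset.ne_of_mem_erase hh)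
    · have hx0 : (x : A[T;T⁻¹]).coeff 0 = 0 := Finsupp.notMem_support_iff.mp h0
      rw [hx0, zero_mul, sub_zero]
      refine Ideal.sum_mem _ fun h hh => ?_
      exact mul_coeff_mem_F_one 𝓕 x.2 y.2 (fun h00 => h0 (h00 ▸ hh))
  map_zero' := by
    rw [ZeroMemClass.coe_zero, coeff_zero, Finsupp.zero_apply, map_zero]
  map_add' x y := by
    rw [AddMemClass.coe_add, coeff_add, Finsupp.add_apply, map_add]

theorem coeffZeroHom_apply (x : 𝓕.extRees) :
    coeffZeroHom 𝓕 x = Ideal.Quotient.mk _ ((x : A[T;T⁻¹]).coeff 0) := rfl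

variable [IsLocalRing A] (hF1 : 𝓕.F 1 ≤ maximalIdeal A)

/-- `x ↦ x₀ mod 𝔪`. -/
noncomputable def eps : 𝓕.extRees →+* A ⧸ maximalIdeal A :=
  (Ideal.Quotient.factor hF1).comp (coeffZeroHom 𝓕)

theorem eps_apply (x : 𝓕.extRees) :
    eps 𝓕 hF1 x = Ideal.Quotient.mk _ ((x : A[T;T⁻¹]).coeff 0) := rfl

theorem eps_algebraMap (a : A) : eps 𝓕 hF1 (algebraMap A 𝓕.extRees a) = Ideal.Quotient.mk _ a := by
  rw [eps_apply]
  congr 1
  change (algebraMap A A[T;T⁻¹] a).coeff 0 = a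
  rw [LaurentPolynomial.algebraMap_apply, Algebra.algebraMap_self, RingHom.id_apply,
    LaurentPolynomial.C_apply, if_pos rfl]

theorem eps_surjective : Function.Surjective (eps 𝓕 hF1) := by
  intro z
  obtain ⟨a, rfl⟩ := Ideal.Quotient.mk_surjective z
  exact ⟨algebraMap A 𝓕.extRees a, eps_algebraMap 𝓕 hF1 a⟩

/-- The `*`maximal ideal of the extended Rees algebra. -/
noncomputable def M : Ideal 𝓕.extRees := RingHom.ker (eps 𝓕 hF1)

theorem mem_M {x : 𝓕.extRees} : x ∈ M 𝓕 hF1 ↔ (x : A[T;T⁻¹]).coeff 0 ∈ maximalIdeal A := by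
  unfold M
  rw [RingHom.mem_ker, eps_apply, Ideal.Quotient.eq_zero_iff_mem]

instance M_isMaximal : (M 𝓕 hF1).IsMaximal := by
  let _ : Field (A ⧸ maximalIdeal A) := Ideal.Quotient.field _
  exact RingHom.ker_isMaximal_of_surjective (eps 𝓕 hF1) (eps_surjective 𝓕 hF1)

theorem M_isHomogeneous : (M 𝓕 hF1).IsHomogeneous (gr 𝓕) := by
  intro i x hx
  rw [mem_M] at hx ⊢
  rw [coe_decompose_gr, coeff_single]
  by_cases h : i = 0
  · subst h
    rw [Finsupp.single_eq_same]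
    exact hx
  · rw [Finsupp.single_eq_of_ne (Ne.symm h)]
    exact Ideal.zero_mem _

/-- Every proper homogeneous ideal lies in `M`. -/
theorem le_M_of_isHomogeneous (J : Ideal 𝓕.extRees) (hJ : J.IsHomogeneous (gr 𝓕)) (hJt : J ≠ ⊤) :
    J ≤ M 𝓕 hF1 := by
  intro x hx
  rw [mem_M]
  by_contra hxm
  apply hJt
  have hunit : IsUnit ((x : A[T;T⁻¹]).coeff 0) := by
    by_contra h
    exact hxm ((mem_maximalIdeal _).2 h)
  obtain ⟨v, hv⟩ := hunit.exists_right_inv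
  have h0 : (decompose (gr 𝓕) x 0 : 𝓕.extRees) ∈ J := hJ 0 hx
  rw [Ideal.eq_top_iff_one]
  have h1 : (1 : 𝓕.extRees) = algebraMap A 𝓕.extRees v * (decompose (gr 𝓕) x 0 : 𝓕.extRees) := by
    apply Subtype.ext
    rw [MulMemClass.coe_mul, coe_decompose_gr, OneMemClass.coe_one]
    change (1 : A[T;T⁻¹]) = algebraMap A A[T;T⁻¹] v * _
    rw [LaurentPolynomial.algebraMap_apply, Algebra.algebraMap_self, RingHom.id_apply,
      LaurentPolynomial.single_eq_C_mul_T, LaurentPolynomial.T_zero, mul_one, ← map_mul, mul_comm,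
      hv, map_one]
  rw [h1]
  exact J.mul_mem_left _ h0

/-- `M` as a homogeneous ideal. -/
noncomputable def Mh : HomogeneousIdeal (gr 𝓕) := ⟨M 𝓕 hF1, M_isHomogeneous 𝓕 hF1⟩

theorem Mh_toIdeal : (Mh 𝓕 hF1).toIdeal = M 𝓕 hF1 := rfl

theorem isStarLocal_Mh : GrLC.IsStarLocal (gr 𝓕) (Mh 𝓕 hF1) := by
  have hne : Mh 𝓕 hF1 ≠ ⊤ := by
    intro h
    have h1 := congrArg HomogeneousIdeal.toIdeal h
    rw [HomogeneousIdeal.toIdeal_top, Mh_toIdeal] at h1
    exact (M_isMaximal 𝓕 hF1).ne_top h1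
  have hle : ∀ J : HomogeneousIdeal (gr 𝓕), J ≠ ⊤ → J ≤ Mh 𝓕 hF1 := by
    intro J hJ
    have hJ' : J.toIdeal ≠ ⊤ := by
      intro h
      apply hJ
      apply HomogeneousIdeal.toIdeal_injective
      rw [h, HomogeneousIdeal.toIdeal_top]
    exact le_M_of_isHomogeneous 𝓕 hF1 J.toIdeal J.isHomogeneous hJ'
  refine ⟨⟨hne, fun b hb => ?_⟩, fun n hn => ?_⟩
  · by_contra hbt
    exact absurd (hle b hbt) (not_le_of_gt hb)
  · have h1 := hle n hn.1
    rcases eq_or_lt_of_le h1 with h2 | h2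
    · exact h2
    · exact absurd (hn.2 _ h2) hne

end Groth.Agent.Lib.ExtRees12
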