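import Groth.Agent.Lib.ExtRees12b

/-!
# The element `u = T⁻¹` and finite generation of the extended Rees algebra (helper12)

* `u_mem_gr`, `isSMulRegular_u`, `u_mem_M`;
* `reesToExt : 𝓕.rees →ₐ[A] 𝓕.extRees`, `finiteType_extRees`, `isNoetherianRing_extRees`.
-/

set_option autoImplicit false
set_option linter.unusedSectionVars false
universe u

namespace Groth.Agent.Lib.ExtRees12

open FiltBl LaurentPolynomial AddMonoidAlgebra DirectSum IsLocalRing

variable {A : Type u} [CommRing A] (𝓕 : IdealFiltration A)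

theorem coe_u : ((𝓕.u : 𝓕.extRees) : A[T;T⁻¹]) = T (-1) := rfl

theorem u_mem_gr : 𝓕.u ∈ gr 𝓕 (-1) := by
  change ((𝓕.u : 𝓕.extRees) : A[T;T⁻¹]) ∈ grade A (-1)
  rw [coe_u]
  exact single_mem_grade (-1) 1

theorem isSMulRegular_u : IsSMulRegular 𝓕.extRees 𝓕.u := by
  intro x y hxy
  apply Subtype.ext
  have h1 : (T (-1) : A[T;T⁻¹]) * (x : A[T;T⁻¹]) = T (-1) * (y : A[T;T⁻¹]) := by
    have := congrArg (Subtype.val) hxy
    simpa only [smul_eq_mul, MulMemClass.coe_mul, coe_u] using this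
  have h2 := congrArg (fun z => (T 1 : A[T;T⁻¹]) * z) h1
  simp only [← mul_assoc, ← LaurentPolynomial.T_add] at h2
  simpa using h2

theorem u_mem_M [IsLocalRing A] (hF1 : 𝓕.F 1 ≤ maximalIdeal A) : 𝓕.u ∈ M 𝓕 hF1 := by
  rw [mem_M, coe_u, LaurentPolynomial.T_apply, if_neg (by norm_num)]
  exact Ideal.zero_mem _

theorem single_mem_extRees {n : ℤ} {a : A} (ha : a ∈ 𝓕.F n.toNat) :
    (single n a : A[T;T⁻¹]) ∈ 𝓕.extRees := by
  intro m
  rw [coeff_single]
  by_cases h : n = m
  · subst h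
    rw [Finsupp.single_eq_same]
    exact ha
  · rw [Finsupp.single_eq_of_ne (Ne.symm h)]
    exact Ideal.zero_mem _

theorem toLaurent_mem_extRees (p : Polynomial A) (hp : p ∈ 𝓕.rees) :
    Polynomial.toLaurentAlg p ∈ 𝓕.extRees := by
  rw [Polynomial.as_sum_support p, map_sum]
  refine Subalgebra.sum_mem _ fun k _ => ?_
  rw [Polynomial.toLaurentAlg_apply, Polynomial.toLaurent_C_mul_T,
    ← LaurentPolynomial.single_eq_C_mul_T]
  exact single_mem_extRees 𝓕 (by simpa using hp k)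

/-- The inclusion of the Rees algebra into the extended Rees algebra. -/
noncomputable def reesToExt : 𝓕.rees →ₐ[A] 𝓕.extRees :=
  (Polynomial.toLaurentAlg.comp 𝓕.rees.val).codRestrict 𝓕.extRees
    fun p => toLaurent_mem_extRees 𝓕 p p.2

theorem coe_reesToExt (p : 𝓕.rees) :
    ((reesToExt 𝓕 p : 𝓕.extRees) : A[T;T⁻¹]) = Polynomial.toLaurent (p : Polynomial A) := rfl

theorem monomial_mem_rees {k : ℕ} {a : A} (ha : a ∈ 𝓕.F k) :
    Polynomial.monomial k a ∈ 𝓕.rees := by
  intro m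
  rw [Polynomial.coeff_monomial]
  split_ifs with h
  · subst h; exact ha
  · exact Ideal.zero_mem _

/-- The extended Rees algebra is of finite type over `A` when the Rees algebra is. -/
theorem finiteType_extRees (hfg : Algebra.FiniteType A 𝓕.rees) :
    Algebra.FiniteType A 𝓕.extRees := by
  classical
  obtain ⟨s, hs⟩ := hfg.out
  refine ⟨Subalgebra.fg_def.2 ⟨(reesToExt 𝓕 '' (s : Set 𝓕.rees)) ∪ {𝓕.u},
    ((s.finite_toSet.image _).union (Set.finite_singleton _)), ?_⟩⟩
  rw [eq_top_iff]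
  rintro x -
  set S' := Algebra.adjoin A ((reesToExt 𝓕 '' (s : Set 𝓕.rees)) ∪ {𝓕.u}) with hS'
  have himg : ∀ p : 𝓕.rees, reesToExt 𝓕 p ∈ S' := by
    intro p
    have h1 : p ∈ Algebra.adjoin A (s : Set 𝓕.rees) := by rw [hs]; trivial
    have h2 : reesToExt 𝓕 p ∈ (Algebra.adjoin A (s : Set 𝓕.rees)).map (reesToExt 𝓕) :=
      ⟨p, h1, rfl⟩
    rw [AlgHom.map_adjoin] at h2
    exact Algebra.adjoin_mono Set.subset_union_left h2
  have hu : 𝓕.u ∈ S' := Algebra.subset_adjoin (Set.mem_union_right _ rfl)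
  rw [← DirectSum.sum_support_decompose (gr 𝓕) x]
  refine Subalgebra.sum_mem _ fun n _ => ?_
  by_cases hn : 0 ≤ n
  · have hmem : Polynomial.monomial n.toNat ((x : A[T;T⁻¹]).coeff n) ∈ 𝓕.rees :=
      monomial_mem_rees 𝓕 (x.2 n)
    have : (decompose (gr 𝓕) x n : 𝓕.extRees) = reesToExt 𝓕 ⟨_, hmem⟩ := by
      apply Subtype.ext
      rw [coe_decompose_gr, coe_reesToExt, Polynomial.toLaurent_C_mul_T,
        ← LaurentPolynomial.single_eq_C_mul_T, Int.toNat_of_nonneg hn]
    rw [this]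
    exact himg _
  · have : (decompose (gr 𝓕) x n : 𝓕.extRees) =
        ((x : A[T;T⁻¹]).coeff n) • 𝓕.u ^ (-n).toNat := by
      apply Subtype.ext
      rw [coe_decompose_gr, Subalgebra.coe_smul, SubmonoidClass.coe_pow, coe_u,
        LaurentPolynomial.T_pow, LaurentPolynomial.single_eq_C_mul_T, Algebra.smul_def,
        LaurentPolynomial.algebraMap_apply, Algebra.algebraMap_self, RingHom.id_apply]
      congr 2
      rw [Int.toNat_of_nonneg (by omega)]
      ring
    rw [this]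
    exact Subalgebra.smul_mem _ (Subalgebra.pow_mem _ hu _) _

theorem isNoetherianRing_extRees [IsNoetherianRing A] (hfg : Algebra.FiniteType A 𝓕.rees) :
    IsNoetherianRing 𝓕.extRees := by
  haveI := finiteType_extRees 𝓕 hfg
  exact Algebra.FiniteType.isNoetherianRing A 𝓕.extRees

end Groth.Agent.Lib.ExtRees12
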