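import Groth.Agent.Lib.ExtRees12c

/-!
# The extended Rees algebra away from `u` (helper12)

* `isLocalization_away_u` : `𝓕.extRees[u⁻¹] = A[T;T⁻¹]`;
* `coeffIdeal q` : the Laurent polynomials with coefficients in `q`; it is `q A[T;T⁻¹]`, prime when
  `q` is, and contracts to `q`;
* `atPrimeEquiv` : for a prime `P'` of `A[T;T⁻¹]`, `(𝓕.extRees)_{P' ∩ 𝓕.extRees} ≃ A[T;T⁻¹]_{P'}`.
-/

set_option autoImplicit false
set_option linter.unusedSectionVars false
set_option linter.style.haveILetI false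
universe u

namespace Groth.Agent.Lib.ExtRees12

open FiltBl LaurentPolynomial AddMonoidAlgebra DirectSum IsLocalRing

variable {A : Type u} [CommRing A] (𝓕 : IdealFiltration A)

theorem algebraMap_extRees (x : 𝓕.extRees) : algebraMap 𝓕.extRees A[T;T⁻¹] x = (x : A[T;T⁻¹]) := rfl

/-- Multiplying by a high power of `u = T⁻¹` lands in the extended Rees algebra. -/
theorem exists_mul_T_mem (f : A[T;T⁻¹]) : ∃ N : ℕ, f * T (-(N : ℤ)) ∈ 𝓕.extRees := by
  induction f using AddMonoidAlgebra.induction_linear with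
  | zero => exact ⟨0, by rw [zero_mul]; exact 𝓕.extRees.zero_mem⟩
  | add f g hf hg =>
    obtain ⟨N₁, h₁⟩ := hf
    obtain ⟨N₂, h₂⟩ := hg
    refine ⟨N₁ + N₂, ?_⟩
    have e1 : (T (-((N₁ + N₂ : ℕ) : ℤ)) : A[T;T⁻¹]) = T (-(N₁ : ℤ)) * T (-(N₂ : ℤ)) := by
      rw [← T_add]; congr 1; push_cast; ring
    have hu : ∀ N : ℕ, (T (-(N : ℤ)) : A[T;T⁻¹]) ∈ 𝓕.extRees := by
      intro N
      have := 𝓕.extRees.pow_mem 𝓕.u.2 N
      rw [coe_u, T_pow] at this
      convert this using 2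
      ring
    rw [add_mul, e1]
    refine 𝓕.extRees.add_mem ?_ ?_
    · rw [← mul_assoc]; exact 𝓕.extRees.mul_mem h₁ (hu N₂)
    · rw [mul_comm (T (-(N₁ : ℤ))), ← mul_assoc]; exact 𝓕.extRees.mul_mem h₂ (hu N₁)
  | single m r =>
    refine ⟨m.toNat, ?_⟩
    rw [single_eq_C_mul_T, mul_assoc, ← T_add, ← single_eq_C_mul_T]
    apply single_mem_extRees
    have : (m + -(m.toNat : ℤ)).toNat = 0 := by omega
    rw [this, 𝓕.zero_eq]
    trivial

instance isLocalization_away_u : IsLocalization.Away 𝓕.u A[T;T⁻¹] := by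
  rw [IsLocalization.Away, isLocalization_iff]
  refine ⟨?_, ?_, ?_⟩
  · rintro ⟨_, n, rfl⟩
    rw [map_pow, algebraMap_extRees, coe_u]
    exact (isUnit_T (-1)).pow n
  · intro f
    obtain ⟨N, hN⟩ := exists_mul_T_mem 𝓕 f
    refine ⟨(⟨_, hN⟩, ⟨𝓕.u ^ N, N, rfl⟩), ?_⟩
    rw [algebraMap_extRees, algebraMap_extRees, SubmonoidClass.coe_pow, coe_u, T_pow]
    congr 2
    ring
  · intro x y hxy
    exact ⟨1, by rw [Subtype.ext hxy]⟩

section CoeffIdeal

variable (q : Ideal A)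

/-- The Laurent polynomials all of whose coefficients lie in `q`. -/
noncomputable def coeffIdeal : Ideal A[T;T⁻¹] :=
  RingHom.ker (AddMonoidAlgebra.mapRingHom ℤ (Ideal.Quotient.mk q))

theorem mem_coeffIdeal {f : A[T;T⁻¹]} : f ∈ coeffIdeal q ↔ ∀ n, f.coeff n ∈ q := by
  unfold coeffIdeal
  rw [RingHom.mem_ker, ← AddMonoidAlgebra.coeff_inj]
  constructor
  · intro h n
    have := DFunLike.congr_fun h n
    rwa [coeff_mapRingHom, coeff_zero, Finsupp.zero_apply, Ideal.Quotient.eq_zero_iff_mem] at this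
  · intro h
    ext n
    rw [coeff_mapRingHom, coeff_zero, Finsupp.zero_apply, Ideal.Quotient.eq_zero_iff_mem]
    exact h n

instance coeffIdeal_isPrime [q.IsPrime] : (coeffIdeal q).IsPrime :=
  RingHom.ker_isPrime _

theorem C_mem_coeffIdeal {a : A} : (C a : A[T;T⁻¹]) ∈ coeffIdeal q ↔ a ∈ q := by
  rw [mem_coeffIdeal]
  constructor
  · intro h
    have := h 0
    rwa [C_apply, if_pos rfl] at this
  · intro h n
    rw [C_apply]
    split_ifs
    · exact h
    · exact q.zero_mem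

theorem comap_C_coeffIdeal : (coeffIdeal q).comap (C : A →+* A[T;T⁻¹]) = q := by
  ext a
  rw [Ideal.mem_comap, C_mem_coeffIdeal]

theorem coeffIdeal_eq_map : coeffIdeal q = q.map (C : A →+* A[T;T⁻¹]) := by
  apply le_antisymm
  · intro f hf
    rw [mem_coeffIdeal] at hf
    rw [← AddMonoidAlgebra.sum_coeff_single f, Finsupp.sum]
    refine Ideal.sum_mem _ fun n _ => ?_
    rw [single_eq_C_mul_T]
    exact Ideal.mul_mem_right _ _ (Ideal.mem_map_of_mem _ (hf n))
  · rw [Ideal.map_le_iff_le_comap, comap_C_coeffIdeal]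

theorem single_mem_coeffIdeal {n : ℤ} {a : A} : (single n a : A[T;T⁻¹]) ∈ coeffIdeal q ↔ a ∈ q := by
  rw [single_eq_C_mul_T]
  constructor
  · intro h
    have h1 := (coeffIdeal q).mul_mem_right (T (-n)) h
    rw [mul_assoc, ← T_add, add_neg_cancel, T_zero, mul_one] at h1
    exact (C_mem_coeffIdeal q).1 h1
  · intro h
    exact Ideal.mul_mem_right _ _ ((C_mem_coeffIdeal q).2 h)

end CoeffIdeal

end Groth.Agent.Lib.ExtRees12
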