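import Groth.Agent.Lib.CMFlat33
import Groth.Agent.Lib.CMFieldExt33

/-!
# Flat local homomorphisms with trivial closed fibre (helper12)

`φ : A → B` a flat local homomorphism of Noetherian local rings with `𝔪_A B = 𝔪_B`.  Then
`depth B = depth A`, `dim B = dim A` and `B` is Cohen–Macaulay iff `A` is.
-/

set_option autoImplicit false
set_option linter.unusedSectionVars false
set_option linter.style.haveILetI false
universe u

namespace Groth.Agent.Lib.FlatLocField12

open IsLocalRing LocCoh

variable {A B : Type u} [CommRing A] [CommRing B] [IsLocalRing A] [IsLocalRing B]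
  [IsNoetherianRing A] [IsNoetherianRing B] (φ : A →+* B) [IsLocalHom φ] (hφ : φ.Flat)
  (hm : (maximalIdeal A).map φ = maximalIdeal B)

include hm in
theorem krullDimLE_zero_fibre : Ring.KrullDimLE 0 (B ⧸ (maximalIdeal A).map φ) := by
  haveI : ((maximalIdeal A).map φ).IsMaximal := hm ▸ maximalIdeal.isMaximal B
  let _ := Ideal.Quotient.field ((maximalIdeal A).map φ)
  infer_instance

include hφ hm in
theorem isCohenMacaulayLocalRing_iff :
    IsCohenMacaulayLocalRing B ↔ IsCohenMacaulayLocalRing A := by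
  rw [Groth.Agent.Lib.CMFlat33.isCohenMacaulayLocalRing_iff φ hφ]
  constructor
  · exact fun h => h.1
  · intro h
    refine ⟨h, ?_⟩
    haveI := krullDimLE_zero_fibre φ hm
    haveI := Groth.Agent.Lib.CMFlat33.isLocalRing_quotient_map φ
    exact Groth.Agent.Lib.CMFieldExt33.isCohenMacaulayLocalRing_of_krullDimLE_zero _

include hφ hm in
theorem ringKrullDim_eq : ringKrullDim B = ringKrullDim A := by
  rw [Groth.Agent.Lib.CMFlat33.ringKrullDim_eq_add' φ hφ]
  haveI := krullDimLE_zero_fibre φ hm
  haveI := Groth.Agent.Lib.CMFlat33.isLocalRing_quotient_map φ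
  have h0 : ringKrullDim (B ⧸ (maximalIdeal A).map φ) = 0 := by
    apply le_antisymm
    · have := Ring.krullDimLE_iff.mp (inferInstance : Ring.KrullDimLE 0 (B ⧸ (maximalIdeal A).map φ))
      simpa using this
    · exact ringKrullDim_nonneg_of_nontrivial
  rw [h0, add_zero]

include hφ hm in
theorem depth_eq : depth B B = depth A A := by
  haveI := krullDimLE_zero_fibre φ hm
  haveI := Groth.Agent.Lib.CMFlat33.isLocalRing_quotient_map φ
  rw [Groth.Agent.Lib.CMFlat33.depth_eq_add' φ hφ]
  have h0 : depth (B ⧸ (maximalIdeal A).map φ) (B ⧸ (maximalIdeal A).map φ) = 0 := by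
    have h1 := Groth.Agent.Lib.CMFlat33.depth_le_ringKrullDim (B ⧸ (maximalIdeal A).map φ)
    have h2 : ringKrullDim (B ⧸ (maximalIdeal A).map φ) ≤ 0 := by
      have := Ring.krullDimLE_iff.mp (inferInstance : Ring.KrullDimLE 0 (B ⧸ (maximalIdeal A).map φ))
      simpa using this
    have h3 : ((depth (B ⧸ (maximalIdeal A).map φ) (B ⧸ (maximalIdeal A).map φ) : ℕ∞) : WithBot ℕ∞) ≤
        ((0 : ℕ∞) : WithBot ℕ∞) := h1.trans h2
    rw [WithBot.coe_le_coe] at h3
    exact le_antisymm h3 zero_le
  rw [h0, add_zero]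

end Groth.Agent.Lib.FlatLocField12
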