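import Groth.Agent.Lib.ExtRees12d
import Groth.Agent.Lib.FlatLocField12
import Groth.Agent.Lib.CMRingEquiv96

/-!
# Localizations of the extended Rees algebra at primes not containing `u` (helper12)

* `atPrimeEquiv` : for a prime `P'` of `A[T;T⁻¹]`,
  `(𝓕.extRees)_{P' ∩ 𝓕.extRees} ≃+* A[T;T⁻¹]_{P'}`;
* `locC q : A_q →+* A[T;T⁻¹]_{qA[T;T⁻¹]}` is flat and local with `𝔪 ↦ 𝔪`;
* `Qq 𝓕 q` : the prime `qA[T;T⁻¹] ∩ 𝓕.extRees`, and
  `isCMLocalRing_Qq_iff : CM (𝓕.extRees)_{Qq} ↔ CM A_q`.
-/

set_option autoImplicit false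
set_option linter.unusedSectionVars false
set_option linter.style.haveILetI false
universe u

namespace Groth.Agent.Lib.ExtRees12

open FiltBl LaurentPolynomial AddMonoidAlgebra DirectSum IsLocalRing LocCoh

variable {A : Type u} [CommRing A] (𝓕 : IdealFiltration A)

section AtPrime

variable (P' : Ideal A[T;T⁻¹]) [P'.IsPrime]

instance isLocalization_atPrime_comap :
    IsLocalization.AtPrime (Localization.AtPrime P')
      (P'.comap (algebraMap 𝓕.extRees A[T;T⁻¹])) :=
  IsLocalization.isLocalization_isLocalization_atPrime_isLocalization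
    (Submonoid.powers 𝓕.u) (Localization.AtPrime P') P'

/-- `(𝓕.extRees)_{P' ∩ 𝓕.extRees} ≃ A[T;T⁻¹]_{P'}`. -/
noncomputable def atPrimeEquiv :
    Localization.AtPrime (P'.comap (algebraMap 𝓕.extRees A[T;T⁻¹])) ≃+* Localization.AtPrime P' :=
  (IsLocalization.algEquiv (P'.comap (algebraMap 𝓕.extRees A[T;T⁻¹])).primeCompl
    (Localization.AtPrime (P'.comap (algebraMap 𝓕.extRees A[T;T⁻¹])))
    (Localization.AtPrime P')).toRingEquiv

end AtPrime

section LocC

variable (q : Ideal A) [q.IsPrime]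

/-- The local homomorphism `A_q → A[T;T⁻¹]_{qA[T;T⁻¹]}`. -/
noncomputable def locC : Localization.AtPrime q →+* Localization.AtPrime (coeffIdeal q) :=
  Localization.localRingHom q (coeffIdeal q) (C : A →+* A[T;T⁻¹]) (comap_C_coeffIdeal q).symm

instance isLocalHom_locC : IsLocalHom (locC q) :=
  Localization.isLocalHom_localRingHom _ _ _ _

theorem locC_comp :
    (locC q).comp (algebraMap A (Localization.AtPrime q)) =
      (algebraMap A[T;T⁻¹] (Localization.AtPrime (coeffIdeal q))).comp (C : A →+* A[T;T⁻¹]) := by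
  ext a
  exact Localization.localRingHom_to_map q (coeffIdeal q) (C : A →+* A[T;T⁻¹])
    (comap_C_coeffIdeal q).symm a

theorem locC_flat : (locC q).Flat := by
  letI : Algebra (Localization.AtPrime q) (Localization.AtPrime (coeffIdeal q)) :=
    (locC q).toAlgebra
  change Module.Flat (Localization.AtPrime q) (Localization.AtPrime (coeffIdeal q))
  haveI : IsScalarTower A (Localization.AtPrime q) (Localization.AtPrime (coeffIdeal q)) := by
    apply IsScalarTower.of_algebraMap_eq
    intro a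
    have h1 := DFunLike.congr_fun (locC_comp q) a
    simp only [RingHom.comp_apply] at h1
    rw [RingHom.algebraMap_toAlgebra, h1,
      IsScalarTower.algebraMap_apply A A[T;T⁻¹] (Localization.AtPrime (coeffIdeal q))]
    rfl
  rw [Module.flat_iff_of_isLocalization (Localization.AtPrime q) q.primeCompl]
  haveI : Module.Flat A[T;T⁻¹] (Localization.AtPrime (coeffIdeal q)) :=
    IsLocalization.flat _ (coeffIdeal q).primeCompl
  exact Module.Flat.trans A A[T;T⁻¹] (Localization.AtPrime (coeffIdeal q))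

theorem map_locC_maximalIdeal :
    (maximalIdeal (Localization.AtPrime q)).map (locC q) =
      maximalIdeal (Localization.AtPrime (coeffIdeal q)) := by
  rw [← IsLocalization.AtPrime.map_eq_maximalIdeal q (Localization.AtPrime q), Ideal.map_map,
    locC_comp, ← Ideal.map_map, ← coeffIdeal_eq_map,
    IsLocalization.AtPrime.map_eq_maximalIdeal (coeffIdeal q)
      (Localization.AtPrime (coeffIdeal q))]

end LocC

instance isNoetherianRing_laurent [IsNoetherianRing A] : IsNoetherianRing A[T;T⁻¹] :=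
  IsLocalization.isNoetherianRing (Submonoid.powers (Polynomial.X : Polynomial A)) A[T;T⁻¹]
    inferInstance

section Qq

variable (q : Ideal A) [q.IsPrime]

/-- The prime `qA[T;T⁻¹] ∩ 𝓕.extRees`. -/
noncomputable def Qq : Ideal 𝓕.extRees :=
  (coeffIdeal q).comap (algebraMap 𝓕.extRees A[T;T⁻¹])

instance Qq_isPrime : (Qq 𝓕 q).IsPrime := Ideal.comap_isPrime _ _

theorem mem_Qq {x : 𝓕.extRees} : x ∈ Qq 𝓕 q ↔ ∀ n, (x : A[T;T⁻¹]).coeff n ∈ q := by
  unfold Qq
  rw [Ideal.mem_comap, algebraMap_extRees, mem_coeffIdeal]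

theorem u_notMem_Qq : 𝓕.u ∉ Qq 𝓕 q := by
  rw [mem_Qq]
  intro h
  have h1 := h (-1)
  rw [coe_u, T_apply, if_pos rfl] at h1
  exact (Ideal.IsPrime.ne_top inferInstance) ((Ideal.eq_top_iff_one q).2 h1)

/-- `(𝓕.extRees)_{Qq} ≃ A[T;T⁻¹]_{qA[T;T⁻¹]}`. -/
noncomputable def QqEquiv :
    Localization.AtPrime (Qq 𝓕 q) ≃+* Localization.AtPrime (coeffIdeal q) :=
  atPrimeEquiv 𝓕 (coeffIdeal q)

variable [IsNoetherianRing A]

theorem isCMLocalRing_coeffIdeal_iff :
    IsCohenMacaulayLocalRing (Localization.AtPrime (coeffIdeal q)) ↔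
      IsCohenMacaulayLocalRing (Localization.AtPrime q) :=
  Groth.Agent.Lib.FlatLocField12.isCohenMacaulayLocalRing_iff (locC q) (locC_flat q)
    (map_locC_maximalIdeal q)

theorem isCMLocalRing_Qq_iff :
    IsCohenMacaulayLocalRing (Localization.AtPrime (Qq 𝓕 q)) ↔
      IsCohenMacaulayLocalRing (Localization.AtPrime q) := by
  rw [← isCMLocalRing_coeffIdeal_iff q]
  constructor
  · intro h
    exact Groth.Agent.Lib.CMRingEquiv96.isCohenMacaulayLocalRing_of_ringEquiv
      (R := Localization.AtPrime (Qq 𝓕 q)) (R' := Localization.AtPrime (coeffIdeal q))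
      (QqEquiv 𝓕 q)
  · intro h
    exact Groth.Agent.Lib.CMRingEquiv96.isCohenMacaulayLocalRing_of_ringEquiv
      (R' := Localization.AtPrime (Qq 𝓕 q)) (R := Localization.AtPrime (coeffIdeal q))
      (QqEquiv 𝓕 q).symm

end Qq

end Groth.Agent.Lib.ExtRees12
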