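import Groth.Agent.Lib.ExtRees12e

/-!
# Homogeneous primes of the extended Rees algebra not containing `u` (helper12)

* `eq_Qq_of_isHomogeneous` : a homogeneous prime `P ∌ u` of `𝓕.extRees` equals
  `Qq 𝓕 (P ∩ A)`;
* `Rplus`, `Rplus_le_Qq_iff` : the ideal generated by the `a T^n`, `n ≥ 1`, lies in `Qq 𝓕 q` iff
  `F 1 ≤ q`.
-/

set_option autoImplicit false
set_option linter.unusedSectionVars false
set_option linter.style.haveILetI false
universe u

namespace Groth.Agent.Lib.ExtRees12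

open FiltBl LaurentPolynomial AddMonoidAlgebra DirectSum IsLocalRing LocCoh

variable {A : Type u} [CommRing A] (𝓕 : IdealFiltration A)

/-- The homogeneous element `a T^n` of the extended Rees algebra. -/
noncomputable def mono (n : ℤ) (a : A) (ha : a ∈ 𝓕.F n.toNat) : 𝓕.extRees :=
  ⟨single n a, single_mem_extRees 𝓕 ha⟩

theorem coe_mono (n : ℤ) (a : A) (ha : a ∈ 𝓕.F n.toNat) :
    ((mono 𝓕 n a ha : 𝓕.extRees) : A[T;T⁻¹]) = single n a := rfl

theorem mono_mul_u_pow {n : ℤ} (hn : 0 ≤ n) (a : A) (ha : a ∈ 𝓕.F n.toNat) :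
    mono 𝓕 n a ha * 𝓕.u ^ n.toNat = algebraMap A 𝓕.extRees a := by
  apply Subtype.ext
  rw [MulMemClass.coe_mul, SubmonoidClass.coe_pow, coe_u, coe_mono, T_pow, single_eq_C_mul_T,
    mul_assoc, ← T_add]
  change _ = algebraMap A A[T;T⁻¹] a
  rw [LaurentPolynomial.algebraMap_apply, Algebra.algebraMap_self, RingHom.id_apply]
  have : n + (n.toNat : ℤ) * -1 = 0 := by rw [Int.toNat_of_nonneg hn]; ring
  rw [this, T_zero, mul_one]

theorem mono_eq_algebraMap_mul {n : ℤ} (hn : n ≤ 0) (a : A) (ha : a ∈ 𝓕.F n.toNat) :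
    mono 𝓕 n a ha = algebraMap A 𝓕.extRees a * 𝓕.u ^ (-n).toNat := by
  apply Subtype.ext
  rw [MulMemClass.coe_mul, SubmonoidClass.coe_pow, coe_u, coe_mono, T_pow, single_eq_C_mul_T]
  change _ = algebraMap A A[T;T⁻¹] a * _
  rw [LaurentPolynomial.algebraMap_apply, Algebra.algebraMap_self, RingHom.id_apply]
  congr 2
  rw [Int.toNat_of_nonneg (by omega)]
  ring

section Homog

variable (P : Ideal 𝓕.extRees) [hP : P.IsPrime] (hu : 𝓕.u ∉ P)

include hu in
theorem mono_mem_iff (n : ℤ) (a : A) (ha : a ∈ 𝓕.F n.toNat) :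
    mono 𝓕 n a ha ∈ P ↔ a ∈ P.comap (algebraMap A 𝓕.extRees) := by
  rw [Ideal.mem_comap]
  have hpow : ∀ k : ℕ, 𝓕.u ^ k ∉ P := fun k h => hu (hP.mem_of_pow_mem k h)
  rcases le_total 0 n with hn | hn
  · rw [← mono_mul_u_pow 𝓕 hn a ha]
    constructor
    · intro h
      exact P.mul_mem_right _ h
    · intro h
      exact (hP.mem_or_mem h).resolve_right (hpow _)
  · rw [mono_eq_algebraMap_mul 𝓕 hn a ha]
    constructor
    · intro h
      exact (hP.mem_or_mem h).resolve_right (hpow _)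
    · intro h
      exact P.mul_mem_right _ h

theorem decompose_eq_mono (x : 𝓕.extRees) (n : ℤ) :
    (decompose (gr 𝓕) x n : 𝓕.extRees) = mono 𝓕 n ((x : A[T;T⁻¹]).coeff n) (x.2 n) := by
  apply Subtype.ext
  rw [coe_decompose_gr, coe_mono]

include hu in
/-- A homogeneous prime not containing `u` is `qA[T;T⁻¹] ∩ 𝓕.extRees` for `q = P ∩ A`. -/
theorem eq_Qq_of_isHomogeneous (hhom : P.IsHomogeneous (gr 𝓕)) :
    haveI : (P.comap (algebraMap A 𝓕.extRees)).IsPrime := Ideal.comap_isPrime _ _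
    P = Qq 𝓕 (P.comap (algebraMap A 𝓕.extRees)) := by
  haveI : (P.comap (algebraMap A 𝓕.extRees)).IsPrime := Ideal.comap_isPrime _ _
  ext x
  rw [mem_Qq]
  constructor
  · intro hx n
    have h1 := hhom n hx
    rw [decompose_eq_mono] at h1
    exact (mono_mem_iff 𝓕 P hu n _ _).1 h1
  · intro h
    classical
    rw [← DirectSum.sum_support_decompose (gr 𝓕) x]
    refine Ideal.sum_mem _ fun n _ => ?_
    rw [decompose_eq_mono]
    exact (mono_mem_iff 𝓕 P hu n _ _).2 (h n)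

end Homog

/-- The ideal `R₊R'` generated by the `a T^n` with `n ≥ 1`, `a ∈ F n`. -/
def RplusSet : Set 𝓕.extRees :=
  {x | ∃ n : ℕ, 0 < n ∧ ∃ a ∈ 𝓕.F n, (x : A[T;T⁻¹]) = C a * T (n : ℤ)}

theorem span_RplusSet_le_Qq_iff (q : Ideal A) [q.IsPrime] :
    Ideal.span (RplusSet 𝓕) ≤ Qq 𝓕 q ↔ 𝓕.F 1 ≤ q := by
  constructor
  · intro h a ha
    have hmem : mono 𝓕 1 a (by simpa using ha) ∈ RplusSet 𝓕 :=
      ⟨1, one_pos, a, ha, by rw [coe_mono, single_eq_C_mul_T]; rfl⟩
    have h1 := h (Ideal.subset_span hmem)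
    rw [mem_Qq] at h1
    have h2 := h1 1
    rwa [coe_mono, coeff_single, Finsupp.single_eq_same] at h2
  · intro h
    rw [Ideal.span_le]
    rintro x ⟨n, hn, a, ha, hx⟩
    rw [SetLike.mem_coe, mem_Qq]
    intro m
    rw [hx, ← single_eq_C_mul_T, coeff_single]
    by_cases hnm : (n : ℤ) = m
    · rw [hnm, Finsupp.single_eq_same]
      exact h (𝓕.antitone (show 1 ≤ n by omega) ha)
    · rw [Finsupp.single_eq_of_ne (Ne.symm hnm)]
      exact q.zero_mem

end Groth.Agent.Lib.ExtRees12
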