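import Groth.Agent.Lib.H74Core2

/-! `ht p = ht p* + ht(p/p*)` for primes of Noetherian rings graded by a free abelian group of
finite rank, and primality of `p*`. -/

set_option autoImplicit false
set_option linter.unusedSectionVars false
universe u

namespace Groth.Agent.Lib.H74Core

open DirectSum Groth.Agent.Lib.H74Coarse

section Height

variable {R : Type u} [CommRing R]

theorem isPrime_map_mk (p q : Ideal R) [q.IsPrime] (hpq : p ≤ q) :
    (q.map (Ideal.Quotient.mk p)).IsPrime :=
  Ideal.map_isPrime_of_surjective Ideal.Quotient.mk_surjective (by rw [Ideal.mk_ker]; exact hpq)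

theorem comap_map_mk (p q : Ideal R) (hpq : p ≤ q) :
    (q.map (Ideal.Quotient.mk p)).comap (Ideal.Quotient.mk p) = q := by
  rw [Ideal.comap_map_of_surjective _ Ideal.Quotient.mk_surjective, ← RingHom.ker_eq_comap_bot,
    Ideal.mk_ker, sup_eq_left.mpr hpq]

theorem height_add_quot_le_aux (p : Ideal R) [p.IsPrime] :
    ∀ (n : ℕ) (Q' : Ideal (R ⧸ p)) [Q'.IsPrime], (n : ℕ∞) ≤ Q'.height →
      p.height + n ≤ (Q'.comap (Ideal.Quotient.mk p)).height := by
  intro n
  induction n with
  | zero =>
    intro Q' _ _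
    rw [Nat.cast_zero, add_zero]
    refine Ideal.height_mono ?_
    intro x hx
    rw [Ideal.mem_comap, Ideal.Quotient.eq_zero_iff_mem.mpr hx]
    exact zero_mem _
  | succ n ih =>
    intro Q' hQ' hn
    have hnot : ¬ Q'.height ≤ (n : ℕ∞) := by
      rw [not_le]
      refine lt_of_lt_of_le ?_ hn
      exact_mod_cast Nat.lt_succ_self n
    rw [Ideal.height_le_iff] at hnot
    push Not at hnot
    obtain ⟨Q'', hQ'', hlt, hle⟩ := hnot
    have h1 := ih Q'' hle
    have hlt' : Q''.comap (Ideal.Quotient.mk p) < Q'.comap (Ideal.Quotient.mk p) := by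
      refine lt_of_le_of_ne (Ideal.comap_mono hlt.le) (fun h => hlt.ne ?_)
      exact Ideal.comap_injective_of_surjective _ Ideal.Quotient.mk_surjective h
    have h2 := Ideal.height_add_one_le_of_lt_of_isPrime hlt'
    calc p.height + ((n + 1 : ℕ) : ℕ∞) = (p.height + n) + 1 := by rw [Nat.cast_succ, add_assoc]
      _ ≤ (Q''.comap (Ideal.Quotient.mk p)).height + 1 := by gcongr
      _ ≤ _ := h2

/-- `ht p + ht(q/p) ≤ ht q`. -/
theorem height_add_quot_le (p q : Ideal R) [p.IsPrime] [q.IsPrime] (hpq : p ≤ q) :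
    p.height + (q.map (Ideal.Quotient.mk p)).height ≤ q.height := by
  have := isPrime_map_mk p q hpq
  have key := fun n hn => height_add_quot_le_aux p n (q.map (Ideal.Quotient.mk p)) hn
  rw [comap_map_mk p q hpq] at key
  rcases h : (q.map (Ideal.Quotient.mk p)).height with _ | n
  · have htop : q.height = ⊤ := by
      rw [ENat.eq_top_iff_forall_ge]
      intro n
      refine le_trans ?_ (key n (by rw [h]; exact le_top))
      exact le_add_self
    rw [htop]
    exact le_top
  · exact key n (by rw [h]; exact le_refl _)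

end Height

section Main

attribute [local instance] coarseDecomposition coarseGradedRing

/-- The tail homomorphism. -/
def tailHom (n : ℕ) : (Fin (n + 1) → ℤ) →+ (Fin n → ℤ) where
  toFun v i := v i.succ
  map_zero' := rfl
  map_add' _ _ := rfl

theorem isPrime_core_and_height_le (n : ℕ) :
    ∀ {ι : Type} [AddCommGroup ι] [DecidableEq ι] (_ : ι ≃+ (Fin n → ℤ))
      {R : Type u} [CommRing R] [IsNoetherianRing R] (𝒜 : ι → AddSubgroup R) [GradedRing 𝒜]
      (p : Ideal R) [p.IsPrime],
      (p.homogeneousCore 𝒜).toIdeal.IsPrime ∧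
        p.height ≤ (p.homogeneousCore 𝒜).toIdeal.height +
          (p.map (Ideal.Quotient.mk (p.homogeneousCore 𝒜).toIdeal)).height := by
  classical
  induction n with
  | zero =>
    intro ι _ _ e R _ _ 𝒜 _ p hp
    have hsub : Subsingleton ι := e.toEquiv.subsingleton
    have hhom : p.IsHomogeneous 𝒜 := by
      intro g x hx
      have hxg : x ∈ 𝒜 g := by
        rw [← DirectSum.sum_support_decompose 𝒜 x]
        refine sum_mem (fun i _ => ?_)
        rw [Subsingleton.elim g i]
        exact (decompose 𝒜 x i).2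
      rw [decompose_of_mem_same 𝒜 hxg]
      exact hx
    have hc := hhom.toIdeal_homogeneousCore_eq_self
    refine ⟨by rw [hc]; exact hp, ?_⟩
    calc p.height = (p.homogeneousCore 𝒜).toIdeal.height := by rw [hc]
      _ ≤ _ := le_self_add
  | succ n ih =>
    intro ι _ _ e R _ _ 𝒜 _ p hp
    let ψ : ι →+ ℤ := (Pi.evalAddMonoidHom (fun _ : Fin (n + 1) => ℤ) 0).comp e.toAddMonoidHom
    let π : ι →+ (Fin n → ℤ) := (tailHom n).comp e.toAddMonoidHom
    have hψ : ∀ g, ψ g = e g 0 := fun g => rfl
    have hπ : ∀ g i, π g i = e g i.succ := fun g i => rfl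
    have hinj : ∀ g g' : ι, π g = π g' → ψ g = ψ g' → g = g' := by
      intro g g' h1 h2
      apply e.injective
      funext i
      refine Fin.cases ?_ (fun j => ?_) i
      · rw [← hψ, ← hψ, h2]
      · rw [← hπ, ← hπ, h1]
    set q : Ideal R := (p.homogeneousCore (coarse ψ 𝒜)).toIdeal with hq
    have hqprime : q.IsPrime := Ideal.IsPrime.homogeneousCore hp
    obtain ⟨hprime, hle⟩ := ih (AddEquiv.refl _) (coarse π 𝒜) q
    have hcore : (p.homogeneousCore 𝒜).toIdeal = (q.homogeneousCore (coarse π 𝒜)).toIdeal :=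
      core_eq_core_core 𝒜 π ψ hinj p
    rw [← hcore] at hprime hle
    refine ⟨hprime, ?_⟩
    set c : Ideal R := (p.homogeneousCore 𝒜).toIdeal with hc
    have hcq : c ≤ q := by
      rw [hcore]; exact Ideal.toIdeal_homogeneousCore_le (coarse π 𝒜) q
    have hqp : q ≤ p := Ideal.toIdeal_homogeneousCore_le (coarse ψ 𝒜) p
    have hcp : c ≤ p := hcq.trans hqp
    have h1 : p.height ≤ q.height + 1 :=
      Groth.Agent.Lib.H74GrDim.height_le_core_add_one (coarse ψ 𝒜) p
    by_cases hqp' : q = p
    · have e1 : (q.map (Ideal.Quotient.mk c)).height = (p.map (Ideal.Quotient.mk c)).height := by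
        rw [hqp']
      have e2 : q.height = p.height := by rw [hqp']
      rw [← e1, ← e2]
      exact hle
    · have hlt : q.map (Ideal.Quotient.mk c) < p.map (Ideal.Quotient.mk c) := by
        refine lt_of_le_of_ne (Ideal.map_mono hqp) (fun h => hqp' ?_)
        rw [← comap_map_mk c q hcq, h, comap_map_mk c p hcp]
      have i1 := isPrime_map_mk c q hcq
      have i2 := isPrime_map_mk c p hcp
      have h2 := Ideal.height_add_one_le_of_lt_of_isPrime hlt
      calc p.height ≤ q.height + 1 := h1
        _ ≤ (c.height + (q.map (Ideal.Quotient.mk c)).height) + 1 := by gcongr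
        _ = c.height + ((q.map (Ideal.Quotient.mk c)).height + 1) := by rw [add_assoc]
        _ ≤ c.height + (p.map (Ideal.Quotient.mk c)).height := by gcongr

/-- **Goto–Watanabe / Matijevic–Roberts**: for a prime `p` of a Noetherian ring graded by a free
abelian group of finite rank, `p*` is prime and `ht p = ht p* + ht(p/p*)`. -/
theorem isPrime_core_and_height_eq {ι : Type} [AddCommGroup ι] [DecidableEq ι] [Module.Free ℤ ι]
    [Module.Finite ℤ ι] {R : Type u} [CommRing R] [IsNoetherianRing R] (𝒜 : ι → AddSubgroup R)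
    [GradedRing 𝒜] (p : Ideal R) [p.IsPrime] :
    (p.homogeneousCore 𝒜).toIdeal.IsPrime ∧
      p.height = (p.homogeneousCore 𝒜).toIdeal.height +
        (p.map (Ideal.Quotient.mk (p.homogeneousCore 𝒜).toIdeal)).height := by
  let b := (Module.Free.chooseBasis ℤ ι).reindex (Fintype.equivFin _)
  let e : ι ≃+ (Fin _ → ℤ) := b.equivFun.toAddEquiv
  obtain ⟨h1, h2⟩ := isPrime_core_and_height_le _ e 𝒜 p
  refine ⟨h1, le_antisymm h2 ?_⟩
  exact height_add_quot_le _ p (Ideal.toIdeal_homogeneousCore_le 𝒜 p)

end Main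

end Groth.Agent.Lib.H74Core
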