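import Groth.Agent.Lib.H74QuotGr1
import Groth.Agent.Lib.H87GrMod

set_option autoImplicit false
set_option linter.unusedSectionVars false
universe u

namespace Groth.Agent.Lib.H74QuotGr

open DirectSum Groth.Agent.Lib.H87GrMod

section Core

variable {ι : Type} [AddCommGroup ι] [DecidableEq ι]
variable {R : Type u} [CommRing R] (𝒜 : ι → AddSubgroup R) [GradedRing 𝒜] (I : Ideal R)
  [GradedRing (quotPiece 𝒜 I)]

/-- The image of a homogeneous ideal in the quotient graded ring is homogeneous. -/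
theorem isHomogeneous_map_mk {J : Ideal R} (hJ : J.IsHomogeneous 𝒜) :
    (J.map (Ideal.Quotient.mk I)).IsHomogeneous (quotPiece 𝒜 I) := by
  obtain ⟨S, rfl⟩ := (Ideal.IsHomogeneous.iff_exists 𝒜 J).mp hJ
  rw [Ideal.map_span]
  apply Ideal.homogeneous_span
  rintro _ ⟨_, ⟨x, _, rfl⟩, rfl⟩
  obtain ⟨g, hg⟩ := x.2
  exact ⟨g, mk_mem_quotPiece 𝒜 I hg⟩

/-- The core of the image of `p ⊇ I` is the image of the core. -/
theorem core_map_mk (p : Ideal R) (hIp : I ≤ p) :
    ((p.map (Ideal.Quotient.mk I)).homogeneousCore (quotPiece 𝒜 I)).toIdeal =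
      (p.homogeneousCore 𝒜).toIdeal.map (Ideal.Quotient.mk I) := by
  apply le_antisymm
  · show (p.map (Ideal.Quotient.mk I)).homogeneousCore' (quotPiece 𝒜 I) ≤ _
    unfold Ideal.homogeneousCore'
    rw [Ideal.span_le]
    rintro _ ⟨y, hy, rfl⟩
    obtain ⟨g, z, hz, hzy⟩ := y.2
    have hzp : z ∈ p := by
      have h1 : Ideal.Quotient.mk I z ∈ p.map (Ideal.Quotient.mk I) := by
        have : (Ideal.Quotient.mk I) z = (y : R ⧸ I) := hzy
        rw [this]; exact hy
      have h2 : z ∈ (p.map (Ideal.Quotient.mk I)).comap (Ideal.Quotient.mk I) := h1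
      rwa [Groth.Agent.Lib.H74Core.comap_map_mk I p hIp] at h2
    have hzc : z ∈ (p.homogeneousCore 𝒜).toIdeal :=
      Ideal.mem_homogeneousCore_of_homogeneous_of_mem ⟨g, hz⟩ hzp
    have : (y : R ⧸ I) = Ideal.Quotient.mk I z := hzy.symm
    rw [SetLike.mem_coe, this]
    exact Ideal.mem_map_of_mem _ hzc
  · have h1 := isHomogeneous_map_mk 𝒜 I (p.homogeneousCore 𝒜).isHomogeneous
    rw [← h1.toIdeal_homogeneousCore_eq_self]
    exact Ideal.homogeneousCore_mono (quotPiece 𝒜 I)
      (Ideal.map_mono (Ideal.toIdeal_homogeneousCore_le 𝒜 p))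

end Core

section Ann

variable {ι : Type} [AddCommGroup ι] [DecidableEq ι]
variable {R : Type u} [CommRing R] (𝒜 : ι → AddSubgroup R) [GradedRing 𝒜]
variable {M : Type u} [AddCommGroup M] [Module R M]

/-- The annihilator of a graded module is homogeneous. -/
theorem isHomogeneous_annihilator (ℳ : ι → AddSubgroup M)
    [Decomposition ℳ] [SetLike.GradedSMul 𝒜 ℳ] : (Module.annihilator R M).IsHomogeneous 𝒜 := by
  intro i r hr
  rw [Module.mem_annihilator] at hr ⊢
  intro m
  induction m using Decomposition.inductionOn ℳ with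
  | zero => rw [smul_zero]
  | @homogeneous g m =>
    rw [← decompose_smul_of_mem_right ℳ 𝒜 m.2, hr, decompose_zero, DirectSum.zero_apply,
      ZeroMemClass.coe_zero]
  | add m m' h h' => rw [smul_add, h, h', add_zero]

end Ann

end Groth.Agent.Lib.H74QuotGr
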