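/-
Helper library (helper29): `Ext` commutes with localization (Noetherian ring, finite first argument),
for Mathlib's `ModuleCat.localizedModuleFunctor`, via `Lib/H29ExtBaseChange.cmp_bijective`.
-/
import Groth.Agent.Lib.H29ExtBaseChange

set_option autoImplicit false
universe u
open CategoryTheory Abelian Limits TensorProduct

namespace Groth.Agent.Lib.H29ExtLocalization

open Groth.Agent.Lib.H29ExtBaseChange

variable {R : Type u} [CommRing R] (S : Submonoid R)

theorem locF_scalarCompat : ScalarCompat (ModuleCat.localizedModuleFunctor.{u} S) := by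
  intro a M N f
  apply ModuleCat.hom_ext
  change IsLocalizedModule.mapExtendScalars S (M.localizedModuleMkLinearMap S)
      (N.localizedModuleMkLinearMap S) (Localization S) (a • f).hom =
    algebraMap R (Localization S) a • IsLocalizedModule.mapExtendScalars S
      (M.localizedModuleMkLinearMap S) (N.localizedModuleMkLinearMap S) (Localization S) f.hom
  rw [ModuleCat.hom_smul, map_smul]
  refine LinearMap.ext fun x => ?_
  rw [LinearMap.smul_apply, LinearMap.smul_apply, algebraMap_smul]

/-- Base case: `Hom` out of a finitely presented module commutes with localization. -/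
theorem cmp_locF_zero_bijective (M N : ModuleCat.{u} R) [Module.FinitePresentation R M] :
    Function.Bijective (cmp (locF_scalarCompat S) M N 0) := by
  let E₁ : Ext M N 0 ≃ₗ[R] (M →ₗ[R] N) :=
    Ext.linearEquiv₀.trans (ModuleCat.homLinearEquiv (S := R))
  let E₂ : Ext ((ModuleCat.localizedModuleFunctor.{u} S).obj M)
      ((ModuleCat.localizedModuleFunctor.{u} S).obj N) 0 ≃ₗ[Localization S]
      (M.localizedModule S →ₗ[Localization S] N.localizedModule S) :=
    Ext.linearEquiv₀.trans (ModuleCat.homLinearEquiv (S := Localization S))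
  let φ := IsLocalizedModule.mapExtendScalars S (M.localizedModuleMkLinearMap S)
      (N.localizedModuleMkLinearMap S) (Localization S)
  have hφ : IsLocalizedModule S φ := inferInstance
  let Θ := (IsLocalizedModule.isBaseChange S (Localization S) φ).equiv
  have key : ∀ t, E₂ (cmp (locF_scalarCompat S) M N 0 t) = Θ (E₁.lTensor (Localization S) t) := by
    intro t
    induction t using TensorProduct.induction_on with
    | zero => simp
    | tmul b e =>
      obtain ⟨g, rfl⟩ := (Ext.mk₀_bijective M N).2 e
      rw [cmp_tmul, map_smul, LinearEquiv.lTensor_tmul, IsBaseChange.equiv_tmul]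
      congr 1
      rw [Ext.mapExactFunctor_mk₀]
      simp only [E₁, E₂, LinearEquiv.trans_apply]
      rw [linearEquiv₀_mk₀, linearEquiv₀_mk₀]
      rfl
    | add x y hx hy => rw [map_add, map_add, map_add, map_add, hx, hy]
  have h : ⇑(cmp (locF_scalarCompat S) M N 0) = E₂.symm ∘ Θ ∘ (E₁.lTensor (Localization S)) := by
    funext t
    simp only [Function.comp_apply]
    rw [← key, LinearEquiv.symm_apply_apply]
  rw [h]
  exact E₂.symm.bijective.comp (Θ.bijective.comp (E₁.lTensor (Localization S)).bijective)

/-- **`Ext` commutes with localization** (canonical comparison map). -/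
theorem cmp_locF_bijective [IsNoetherianRing R] (M N : ModuleCat.{u} R)
    [Module.Finite R M] (n : ℕ) :
    Function.Bijective (cmp (locF_scalarCompat S) M N n) :=
  cmp_bijective (locF_scalarCompat S) N
    (fun M _ => by
      have := Module.finitePresentation_of_finite R M
      exact cmp_locF_zero_bijective S M N) n M

/-- Every class in `Ext_{S⁻¹R}(S⁻¹M, S⁻¹N)` is, up to a denominator, the image of a class in
`Ext_R(M, N)`. -/
theorem exists_smul_eq_mapExactFunctor [IsNoetherianRing R] (M N : ModuleCat.{u} R)
    [Module.Finite R M] (n : ℕ)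
    (y : Ext ((ModuleCat.localizedModuleFunctor.{u} S).obj M)
      ((ModuleCat.localizedModuleFunctor.{u} S).obj N) n) :
    ∃ (e : Ext M N n) (s : S), algebraMap R (Localization S) (s : R) • y =
      e.mapExactFunctor (ModuleCat.localizedModuleFunctor.{u} S) := by
  obtain ⟨t, rfl⟩ := (cmp_locF_bijective S M N n).2 y
  induction t using TensorProduct.induction_on with
  | zero => exact ⟨0, 1, by simp⟩
  | tmul b e =>
    obtain ⟨a, s, rfl⟩ := IsLocalization.exists_mk'_eq S b
    refine ⟨a • e, s, ?_⟩
    rw [cmp_tmul, mapExactFunctor_smul (locF_scalarCompat S), ← mul_smul,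
      IsLocalization.mk'_spec']
  | add x y hx hy =>
    obtain ⟨e₁, s₁, h₁⟩ := hx
    obtain ⟨e₂, s₂, h₂⟩ := hy
    refine ⟨(s₂ : R) • e₁ + (s₁ : R) • e₂, s₁ * s₂, ?_⟩
    rw [map_add, Ext.mapExactFunctor_add, mapExactFunctor_smul (locF_scalarCompat S),
      mapExactFunctor_smul (locF_scalarCompat S), ← h₁, ← h₂, smul_add, Submonoid.coe_mul,
      map_mul, ← mul_smul, ← mul_smul, mul_comm]

/-- A class in `Ext_R(M, N)` dies in `Ext_{S⁻¹R}(S⁻¹M, S⁻¹N)` iff it is killed by some `s ∈ S`. -/
theorem mapExactFunctor_eq_zero_iff [IsNoetherianRing R] (M N : ModuleCat.{u} R)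
    [Module.Finite R M] (n : ℕ) (e : Ext M N n) :
    e.mapExactFunctor (ModuleCat.localizedModuleFunctor.{u} S) = 0 ↔
      ∃ s : S, (s : R) • e = 0 := by
  constructor
  · intro h
    have h1 : cmp (locF_scalarCompat S) M N n ((1 : Localization S) ⊗ₜ e) = 0 := by
      rw [cmp_tmul, h, smul_zero]
    have h2 : (1 : Localization S) ⊗ₜ[R] e = 0 :=
      (cmp_locF_bijective S M N n).1 (h1.trans (map_zero _).symm)
    have hloc : IsLocalizedModule S (TensorProduct.mk R (Localization S) (Ext M N n) 1) :=
      (isLocalizedModule_iff_isBaseChange S (Localization S) _).mpr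
        (TensorProduct.isBaseChange R (Ext M N n) (Localization S))
    exact (IsLocalizedModule.eq_zero_iff S
      (TensorProduct.mk R (Localization S) (Ext M N n) 1)).mp h2
  · rintro ⟨s, hs⟩
    have h1 : algebraMap R (Localization S) (s : R) •
        e.mapExactFunctor (ModuleCat.localizedModuleFunctor.{u} S) = 0 := by
      rw [← mapExactFunctor_smul (locF_scalarCompat S), hs, Ext.mapExactFunctor_zero]
    exact (IsUnit.smul_eq_zero (IsLocalization.map_units (Localization S) s)).mp h1

end Groth.Agent.Lib.H29ExtLocalization
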