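import Groth.Agent.Lib.H29LocalDuality
import Groth.Agent.Lib.H29Matlis
import Groth.Agent.Lib.ExtBridge

/-!
# Local duality over Cohen–Macaulay local rings, specialised (helper29)

`R` Cohen–Macaulay local of dimension `n`, `E` an injective hull of the residue field, `K` with
`eK : Hom(K, E) ≃ H^n_m(R)`.

* `cm_depth_eq`: `idealDepth m R = n`.
* `cm_hlow`: `H^j_m(F) = 0` for `j < n` and `F` finite free.
* `cm_localDuality`: `H^j_m(M) ≃ Hom(Ext^i(M, K), E)` for `i + j = n`, `M` finite.
* `cm_subsingleton_ext_of_gt`: `Ext^i(M, K) = 0` for `i > n`, `M` finite.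
* `subsingleton_of_dual`: a module with zero Matlis dual is zero.
-/

set_option autoImplicit false
universe u

open CategoryTheory Abelian

namespace Groth.Agent.Lib.H29LocalDualityCM

open Groth.Agent.Lib.H29LocalDuality

variable {R : Type u} [CommRing R]

/-- A module whose Matlis dual vanishes is zero. -/
theorem subsingleton_of_dual [IsLocalRing R] {E : Type u} [AddCommGroup E] [Module R E]
    (f : IsLocalRing.ResidueField R →ₗ[R] E) (hf : InjHull.IsInjectiveHull f)
    (X : Type u) [AddCommGroup X] [Module R X] (h : Subsingleton (X →ₗ[R] E)) : Subsingleton X := by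
  refine subsingleton_of_forall_eq 0 fun x => ?_
  by_contra hx
  obtain ⟨φ, hφ⟩ := Groth.Agent.Lib.H29Matlis.exists_dual_ne_zero f hf x hx
  apply hφ
  rw [Subsingleton.elim φ 0]
  rfl

variable [LocCoh.IsCohenMacaulayLocalRing R] (n : ℕ) (hn : ringKrullDim R = n)

include hn in
theorem cm_depth_eq : LocCoh.idealDepth (IsLocalRing.maximalIdeal R) R = (n : ℕ∞) := by
  have h := LocCoh.IsCohenMacaulayLocalRing.supportDim_eq_depth (R := R)
  rw [Module.supportDim_self_eq_ringKrullDim, hn] at h
  have h' : ((n : ℕ∞) : WithBot ℕ∞) = ((LocCoh.depth R R : ℕ∞) : WithBot ℕ∞) := by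
    exact_mod_cast h
  exact (WithBot.coe_injective h').symm

include hn in
theorem cm_hlow (ι : Type u) [Finite ι] (j : ℕ) (hj : j < n) :
    Subsingleton (LocCoh.H (IsLocalRing.maximalIdeal R) j (ι →₀ R)) := by
  apply Groth.Agent.Lib.H29LocCohAnn.subsingleton_H_free_of_lt (IsLocalRing.maximalIdeal R)
    (Ideal.IsPrime.ne_top inferInstance) ι j
  rw [cm_depth_eq n hn]
  exact_mod_cast hj

variable {E : Type u} [AddCommGroup E] [Module R E]
  (f : IsLocalRing.ResidueField R →ₗ[R] E) (hf : InjHull.IsInjectiveHull f)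
  {K : Type u} [AddCommGroup K] [Module R K]
  (eK : (K →ₗ[R] E) ≃ₗ[R] LocCoh.H (IsLocalRing.maximalIdeal R) n R)

include hn hf eK in
theorem cm_localDuality (i j : ℕ) (hij : i + j = n) (M : Type u) [AddCommGroup M] [Module R M]
    [Module.Finite R M] :
    Nonempty (LocCoh.H (IsLocalRing.maximalIdeal R) j M ≃ₗ[R]
      (Ext.{u} (ModuleCat.of R M) (ModuleCat.of R K) i →ₗ[R] E)) :=
  localDuality (IsLocalRing.maximalIdeal R) n
    (Groth.Agent.Lib.LocCohVanishing.cdLE_of_ringKrullDim_le _ n hn.le)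
    (fun ι _ j hj => cm_hlow n hn ι j hj) hf.isInjective eK i j hij M

include hn hf eK in
theorem cm_subsingleton_ext_of_gt (i : ℕ) (hi : n < i) (M : Type u) [AddCommGroup M] [Module R M]
    [Module.Finite R M] : Subsingleton (Ext.{u} (ModuleCat.of R M) (ModuleCat.of R K) i) := by
  apply subsingleton_of_dual f hf
  exact subsingleton_dual_ext_of_gt (IsLocalRing.maximalIdeal R) n
    (Groth.Agent.Lib.LocCohVanishing.cdLE_of_ringKrullDim_le _ n hn.le)
    (fun ι _ j hj => cm_hlow n hn ι j hj) hf.isInjective eK i hi M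

end Groth.Agent.Lib.H29LocalDualityCM
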