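/-
Helper library (helper26): local cohomology over a Gorenstein local ring via `Ext(-, S)`, and
localization of Gorenstein local rings.
-/
import Mathlib.Tactic
import Groth.Agent.Lib.H29LocalDualityCM
import Groth.Agent.Lib.H26CMDim
import Groth.Agent.Lib.H26GorDual
import Groth.Agent.Lib.H29ExtLocalization
import Groth.Agent.S0345
import Groth.Agent.Lib.H29Depth
import Groth.Agent.Lib.LocCohIndepBase

set_option autoImplicit false
universe u
open CategoryTheory Abelian

namespace Groth.Agent.Lib.H26GorLoc

section duality
variable (S : Type u) [CommRing S] [LocCoh.IsGorensteinLocalRing S] (r : ℕ)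
  (hr : ringKrullDim S = r) (M : Type u) [AddCommGroup M] [Module S M] [Module.Finite S M]

include hr in
/-- Local duality over a Gorenstein local ring (with `E = H^r_m(S)`). -/
theorem gor_duality (q i : ℕ) (h : q + i = r) :
    ∃ (E : Type u) (_ : AddCommGroup E) (_ : Module S E)
      (f : IsLocalRing.ResidueField S →ₗ[S] E) (_ : InjHull.IsInjectiveHull f),
      Nonempty (LocCoh.H (IsLocalRing.maximalIdeal S) i M ≃ₗ[S]
        (Ext.{u} (ModuleCat.of S M) (ModuleCat.of S S) q →ₗ[S] E)) := by
  haveI : LocCoh.IsCohenMacaulayLocalRing S :=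
    Groth.Agent.Lib.H26CMDim.isCohenMacaulayLocalRing_of_gorenstein S
  obtain ⟨f', hf'⟩ := Groth.Agent.Lib.H26GorDual.gorenstein_exists_isInjectiveHull_H S r hr
  let eK : (S →ₗ[S] LocCoh.H (IsLocalRing.maximalIdeal S) r S) ≃ₗ[S]
      LocCoh.H (IsLocalRing.maximalIdeal S) r S :=
    LinearMap.ringLmapEquivSelf S S _
  exact ⟨_, _, _, f', hf', Groth.Agent.Lib.H29LocalDualityCM.cm_localDuality r hr f' hf' eK q i h M⟩

include hr in
theorem gor_subsingleton_ext_of_gt (q : ℕ) (hq : r < q) :
    Subsingleton (Ext.{u} (ModuleCat.of S M) (ModuleCat.of S S) q) := by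
  haveI : LocCoh.IsCohenMacaulayLocalRing S :=
    Groth.Agent.Lib.H26CMDim.isCohenMacaulayLocalRing_of_gorenstein S
  obtain ⟨f', hf'⟩ := Groth.Agent.Lib.H26GorDual.gorenstein_exists_isInjectiveHull_H S r hr
  let eK : (S →ₗ[S] LocCoh.H (IsLocalRing.maximalIdeal S) r S) ≃ₗ[S]
      LocCoh.H (IsLocalRing.maximalIdeal S) r S :=
    LinearMap.ringLmapEquivSelf S S _
  exact Groth.Agent.Lib.H29LocalDualityCM.cm_subsingleton_ext_of_gt r hr f' hf' eK q hq M

include hr in
theorem gor_subsingleton_H_of_gt (N : Type u) [AddCommGroup N] [Module S N] (i : ℕ) (hi : r < i) :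
    Subsingleton (LocCoh.H (IsLocalRing.maximalIdeal S) i N) :=
  Groth.Agent.Lib.LocCohVanishing.cdLE_of_ringKrullDim_le _ r hr.le N i hi

include hr in
theorem gor_subsingleton_H_iff (q i : ℕ) (h : q + i = r) :
    Subsingleton (LocCoh.H (IsLocalRing.maximalIdeal S) i M) ↔
      Subsingleton (Ext.{u} (ModuleCat.of S M) (ModuleCat.of S S) q) := by
  obtain ⟨E, _, _, f, hf, ⟨φ⟩⟩ := gor_duality S r hr M q i h
  constructor
  · intro hH
    apply Groth.Agent.Lib.H29LocalDualityCM.subsingleton_of_dual f hf
    exact φ.symm.toEquiv.subsingleton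
  · intro hE
    haveI : Subsingleton (Ext.{u} (ModuleCat.of S M) (ModuleCat.of S S) q →ₗ[S] E) :=
      ⟨fun a b => LinearMap.ext fun x => by rw [Subsingleton.elim x 0, map_zero, map_zero]⟩
    exact φ.toEquiv.subsingleton

end duality

section localization
variable (S : Type u) [CommRing S] [LocCoh.IsGorensteinLocalRing S]

theorem isGorensteinLocalRing_localization (P : Ideal S) [P.IsPrime] :
    LocCoh.IsGorensteinLocalRing (Localization.AtPrime P) := by
  have h := (Groth.Agent.S0345.result S).mp
    LocCoh.IsGorensteinLocalRing.exists_hasInjectiveDimensionLT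
  exact h.1.isGorensteinLocalRing_localization P

theorem ringKrullDim_localization (r : ℕ) (hr : ringKrullDim S = r) (P : Ideal S) [P.IsPrime]
    (e : ℕ) (he : ringKrullDim (S ⧸ P) = e) :
    e ≤ r ∧ ringKrullDim (Localization.AtPrime P) = ((r - e : ℕ) : WithBot ℕ∞) := by
  haveI : LocCoh.IsCohenMacaulayLocalRing S :=
    Groth.Agent.Lib.H26CMDim.isCohenMacaulayLocalRing_of_gorenstein S
  have hfin : P.height ≠ ⊤ := Ideal.height_ne_top (Ideal.IsPrime.ne_top inferInstance)
  obtain ⟨g, hg⟩ := ENat.ne_top_iff_exists.mp hfin
  have := Groth.Agent.Lib.H26CMDim.height_add_quotient_dim r hr P g e hg.symm he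
  refine ⟨by omega, ?_⟩
  rw [IsLocalization.AtPrime.ringKrullDim_eq_height P (Localization.AtPrime P), ← hg]
  have : g = r - e := by omega
  rw [this]
  rfl

end localization

section extloc

/-- Subsingleton-ness of Ext transports along an isomorphism in the second variable. -/
theorem subsingleton_ext_of_iso_right {C : Type*} [Category C] [Abelian C] [HasExt C] {X Y Y' : C}
    (e : Y ≅ Y') (n : ℕ) (h : Subsingleton (Ext X Y' n)) : Subsingleton (Ext X Y n) := by
  refine ⟨fun α β => ?_⟩
  have key : ∀ γ : Ext X Y n, γ = (γ.comp (Ext.mk₀ e.hom) (add_zero n)).comp (Ext.mk₀ e.inv)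
      (add_zero n) := by
    intro γ
    rw [Ext.comp_assoc γ (Ext.mk₀ e.hom) (Ext.mk₀ e.inv) (add_zero n) (add_zero 0)
      (by omega), Ext.mk₀_comp_mk₀, e.hom_inv_id, Ext.comp_mk₀_id]
  rw [key α, key β, Subsingleton.elim (α.comp (Ext.mk₀ e.hom) (add_zero n))
    (β.comp (Ext.mk₀ e.hom) (add_zero n))]

variable {S : Type u} [CommRing S] [IsNoetherianRing S] (W : Submonoid S)

/-- the localization functor on an object, compared with any model of the localization. -/
noncomputable def locFIso (M : Type u) [AddCommGroup M] [Module S M]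
    (M' : Type u) [AddCommGroup M'] [Module S M'] [Module (Localization W) M']
    [IsScalarTower S (Localization W) M'] (ι : M →ₗ[S] M') [IsLocalizedModule W ι] :
    (ModuleCat.localizedModuleFunctor.{u} W).obj (ModuleCat.of S M) ≅
      ModuleCat.of (Localization W) M' :=
  haveI := ModuleCat.localizedModule_isLocalizedModule (ModuleCat.of S M) W
  (LinearEquiv.extendScalarsOfIsLocalization W (Localization W)
    (@IsLocalizedModule.linearEquiv S _ W (ModuleCat.of S M) ((ModuleCat.of S M).localizedModule W)
      M' _ _ _ _ _ _
      ((ModuleCat.of S M).localizedModuleMkLinearMap W) ι this _)).toModuleIso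

/-- `Ext` over the localization vanishes iff every class of `Ext` over the ring is killed by an
element of the multiplicative set. -/
theorem subsingleton_ext_iff_of_isLocalizedModule (M N : Type u) [AddCommGroup M] [Module S M]
    [Module.Finite S M] [AddCommGroup N] [Module S N]
    (M' : Type u) [AddCommGroup M'] [Module S M'] [Module (Localization W) M']
    [IsScalarTower S (Localization W) M'] (ιM : M →ₗ[S] M') [IsLocalizedModule W ιM]
    (N' : Type u) [AddCommGroup N'] [Module S N'] [Module (Localization W) N']
    [IsScalarTower S (Localization W) N'] (ιN : N →ₗ[S] N') [IsLocalizedModule W ιN] (n : ℕ) :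
    Subsingleton (Ext.{u} (ModuleCat.of (Localization W) M') (ModuleCat.of (Localization W) N') n) ↔
      ∀ e : Ext.{u} (ModuleCat.of S M) (ModuleCat.of S N) n, ∃ s ∈ W, s • e = 0 := by
  have hiff : Subsingleton (Ext.{u} (ModuleCat.of (Localization W) M')
      (ModuleCat.of (Localization W) N') n) ↔
      Subsingleton (Ext.{u} ((ModuleCat.localizedModuleFunctor.{u} W).obj (ModuleCat.of S M))
        ((ModuleCat.localizedModuleFunctor.{u} W).obj (ModuleCat.of S N)) n) := by
    constructor
    · intro h
      apply Groth.Agent.Lib.H29Depth.subsingleton_ext_of_iso (locFIso W M M' ιM) n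
      exact subsingleton_ext_of_iso_right (locFIso W N N' ιN) n h
    · intro h
      apply Groth.Agent.Lib.H29Depth.subsingleton_ext_of_iso (locFIso W M M' ιM).symm n
      exact subsingleton_ext_of_iso_right (locFIso W N N' ιN).symm n h
  rw [hiff]
  constructor
  · intro h e
    obtain ⟨s, hs⟩ := (Groth.Agent.Lib.H29ExtLocalization.mapExactFunctor_eq_zero_iff W
      (ModuleCat.of S M) (ModuleCat.of S N) n e).mp (Subsingleton.elim _ _)
    exact ⟨s, s.2, hs⟩
  · intro h
    refine subsingleton_of_forall_eq 0 fun y => ?_
    obtain ⟨e, s, hs⟩ := Groth.Agent.Lib.H29ExtLocalization.exists_smul_eq_mapExactFunctor W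
      (ModuleCat.of S M) (ModuleCat.of S N) n y
    obtain ⟨t, ht, hte⟩ := h e
    have h0 : e.mapExactFunctor (ModuleCat.localizedModuleFunctor.{u} W) = 0 :=
      (Groth.Agent.Lib.H29ExtLocalization.mapExactFunctor_eq_zero_iff W
        (ModuleCat.of S M) (ModuleCat.of S N) n e).mpr ⟨⟨t, ht⟩, hte⟩
    rw [h0] at hs
    exact (IsUnit.smul_eq_zero (IsLocalization.map_units (Localization W) s)).mp hs

end extloc

section transfer

/-- local cohomology at the maximal ideal does not see a surjective change of local rings. -/
theorem subsingleton_H_iff_of_surjective {A B : Type u} [CommRing A] [CommRing B] [IsLocalRing A]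
    [IsLocalRing B] [IsNoetherianRing A] [IsNoetherianRing B] [Algebra A B]
    (hsurj : Function.Surjective (algebraMap A B))
    (X : Type u) [AddCommGroup X] [Module A X] [Module B X] [IsScalarTower A B X] (j : ℕ) :
    Subsingleton (LocCoh.H (IsLocalRing.maximalIdeal A) j X) ↔
      Subsingleton (LocCoh.H (IsLocalRing.maximalIdeal B) j X) := by
  obtain ⟨ψ, -⟩ := Groth.Agent.Lib.LocCohIndepBase.indep_base (R := A) (R' := B)
    (IsLocalRing.maximalIdeal A) j X
  have hmap : (IsLocalRing.maximalIdeal A).map (algebraMap A B) = IsLocalRing.maximalIdeal B :=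
    IsLocalRing.map_maximalIdeal_of_surjective _ hsurj
  rw [← hmap]
  exact ⟨fun h => @Equiv.subsingleton _ _ ψ.toEquiv h, fun h => @Equiv.subsingleton _ _ ψ.symm.toEquiv h⟩

end transfer

section key
variable (S : Type u) [CommRing S] [LocCoh.IsGorensteinLocalRing S] (r : ℕ)
  (hr : ringKrullDim S = r) (P : Ideal S) [P.IsPrime] (e : ℕ) (he : ringKrullDim (S ⧸ P) = e)
  (M : Type u) [AddCommGroup M] [Module S M] [Module.Finite S M]
  (B : Type u) [CommRing B] [IsLocalRing B] [IsNoetherianRing B]
  [Algebra (Localization.AtPrime P) B]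
  (hB : Function.Surjective (algebraMap (Localization.AtPrime P) B))
  (X : Type u) [AddCommGroup X] [Module S X] [Module (Localization.AtPrime P) X]
  [IsScalarTower S (Localization.AtPrime P) X] [Module B X]
  [IsScalarTower (Localization.AtPrime P) B X]

include hr he hB in
/-- **Key lemma**: the localization at `P` of `Ext^q_S(M, S)` vanishes iff the local cohomology
of the localization of `M` vanishes in the complementary degree. -/
theorem key_abstract (ι : M →ₗ[S] X) [IsLocalizedModule P.primeCompl ι] (q : ℕ) :
    (∀ x : Ext.{u} (ModuleCat.of S M) (ModuleCat.of S S) q, ∃ s ∈ P.primeCompl, s • x = 0) ↔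
      (∀ j : ℕ, j + e + q = r → Subsingleton (LocCoh.H (IsLocalRing.maximalIdeal B) j X)) := by
  haveI : LocCoh.IsGorensteinLocalRing (Localization.AtPrime P) :=
    isGorensteinLocalRing_localization S P
  obtain ⟨her, hdim⟩ := ringKrullDim_localization S r hr P e he
  haveI : Module.Finite (Localization.AtPrime P) X :=
    Module.Finite.of_isLocalizedModule P.primeCompl ι
  rw [← subsingleton_ext_iff_of_isLocalizedModule P.primeCompl M S X ι (Localization.AtPrime P)
    (Algebra.linearMap S (Localization.AtPrime P)) q]
  by_cases hq : r - e < q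
  · constructor
    · intro _ j hj
      omega
    · intro _
      exact gor_subsingleton_ext_of_gt (Localization.AtPrime P) (r - e) hdim X q hq
  · have hq' : q + (r - e - q) = r - e := by omega
    rw [← gor_subsingleton_H_iff (Localization.AtPrime P) (r - e) hdim X q (r - e - q) hq',
      subsingleton_H_iff_of_surjective hB X (r - e - q)]
    constructor
    · intro h j hj
      have : j = r - e - q := by omega
      rw [this]
      exact h
    · intro h
      exact h (r - e - q) (by omega)

end key

section concrete
variable (S : Type u) [CommRing S] [LocCoh.IsGorensteinLocalRing S] (r : ℕ)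
  (hr : ringKrullDim S = r) (R : Type u) [CommRing R] [IsNoetherianRing R] [Algebra S R]
  (hg : Function.Surjective (algebraMap S R))
  (M : Type u) [AddCommGroup M] [Module R M] [Module S M] [IsScalarTower S R M]
  [Module.Finite R M] (p : Ideal R) [p.IsPrime] (e : ℕ) (he : ringKrullDim (R ⧸ p) = e)

include hg in
theorem ringKrullDim_quotient_comap :
    ringKrullDim (S ⧸ p.comap (algebraMap S R)) = ringKrullDim (R ⧸ p) := by
  have hsurj : Function.Surjective ((Ideal.Quotient.mk p).comp (algebraMap S R)) :=
    Ideal.Quotient.mk_surjective.comp hg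
  have hker : p.comap (algebraMap S R) = RingHom.ker ((Ideal.Quotient.mk p).comp (algebraMap S R)) := by
    ext x
    rw [Ideal.mem_comap, RingHom.mem_ker, RingHom.comp_apply, Ideal.Quotient.eq_zero_iff_mem]
  exact ringKrullDim_eq_of_ringEquiv
    ((Ideal.quotEquivOfEq hker).trans (RingHom.quotientKerEquivOfSurjective hsurj))

include hr hg he in
/-- **Key lemma**, concrete form for a quotient `S ↠ R` of a Gorenstein local ring and a prime `p`
of `R`. -/
theorem key (q : ℕ) :
    (∀ x : Ext.{u} (ModuleCat.of S M) (ModuleCat.of S S) q,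
        ∃ s : S, algebraMap S R s ∉ p ∧ s • x = 0) ↔
      (∀ j : ℕ, j + e + q = r →
        Subsingleton (LocCoh.H (IsLocalRing.maximalIdeal (Localization.AtPrime p)) j
          (LocalizedModule p.primeCompl M))) := by
  haveI : Module.Finite S R := Module.Finite.of_surjective (Algebra.linearMap S R) hg
  haveI : Module.Finite S M := Module.Finite.trans R M
  have heP : ringKrullDim (S ⧸ p.comap (algebraMap S R)) = e := by
    rw [ringKrullDim_quotient_comap S R hg p, he]
  let φ : Localization.AtPrime (p.comap (algebraMap S R)) →+* Localization.AtPrime p :=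
    Localization.localRingHom (p.comap (algebraMap S R)) p (algebraMap S R) rfl
  have hφ : Function.Surjective φ :=
    RingHom.surjective_localRingHom_of_surjective (algebraMap S R) hg p
  letI : Algebra (Localization.AtPrime (p.comap (algebraMap S R))) (Localization.AtPrime p) :=
    φ.toAlgebra
  letI : Module (Localization.AtPrime (p.comap (algebraMap S R)))
      (LocalizedModule p.primeCompl M) := Module.compHom _ φ
  haveI : IsScalarTower (Localization.AtPrime (p.comap (algebraMap S R))) (Localization.AtPrime p)
      (LocalizedModule p.primeCompl M) := IsScalarTower.of_algebraMap_smul (fun _ _ => rfl)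
  haveI : IsScalarTower S (Localization.AtPrime (p.comap (algebraMap S R)))
      (LocalizedModule p.primeCompl M) := IsScalarTower.of_algebraMap_smul (fun s x => by
    change φ (algebraMap S _ s) • x = s • x
    rw [Localization.localRingHom_to_map, algebraMap_smul, algebraMap_smul])
  let ι : M →ₗ[S] LocalizedModule p.primeCompl M :=
    (LocalizedModule.mkLinearMap p.primeCompl M).restrictScalars S
  haveI : IsLocalizedModule (p.comap (algebraMap S R)).primeCompl ι :=
    { map_units := by
        intro s
        have hs : algebraMap S R s ∈ p.primeCompl := s.2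
        have h1 := IsLocalizedModule.map_units (LocalizedModule.mkLinearMap p.primeCompl M)
          ⟨algebraMap S R s, hs⟩
        rw [Module.End.isUnit_iff] at h1 ⊢
        have hfun : ⇑(algebraMap S (Module.End S (LocalizedModule p.primeCompl M)) (s : S)) =
            ⇑(algebraMap R (Module.End R (LocalizedModule p.primeCompl M))
              (algebraMap S R (s : S))) := by
          funext x
          rw [Module.algebraMap_end_apply, Module.algebraMap_end_apply, algebraMap_smul]
        rw [hfun]
        exact h1
      surj := by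
        intro x
        obtain ⟨⟨m, t⟩, h⟩ := IsLocalizedModule.surj p.primeCompl
          (LocalizedModule.mkLinearMap p.primeCompl M) x
        obtain ⟨s, hs⟩ := hg t
        have hsP : s ∈ (p.comap (algebraMap S R)).primeCompl := by
          change algebraMap S R s ∉ p
          rw [hs]
          exact t.2
        refine ⟨⟨m, ⟨s, hsP⟩⟩, ?_⟩
        change s • x = _
        rw [← algebraMap_smul R s x, hs]
        exact h
      exists_of_eq := by
        intro m₁ m₂ h
        obtain ⟨t, ht⟩ := IsLocalizedModule.exists_of_eq (S := p.primeCompl)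
          (f := LocalizedModule.mkLinearMap p.primeCompl M) h
        obtain ⟨s, hs⟩ := hg t
        have hsP : s ∈ (p.comap (algebraMap S R)).primeCompl := by
          change algebraMap S R s ∉ p
          rw [hs]
          exact t.2
        refine ⟨⟨s, hsP⟩, ?_⟩
        change s • m₁ = s • m₂
        rw [← algebraMap_smul R s m₁, ← algebraMap_smul R s m₂, hs]
        exact ht }
  rw [← key_abstract S r hr (p.comap (algebraMap S R)) e heP M (Localization.AtPrime p) hφ
    (LocalizedModule p.primeCompl M) ι q]
  constructor
  · intro h x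
    obtain ⟨s, hs, hx⟩ := h x
    exact ⟨s, hs, hx⟩
  · intro h x
    obtain ⟨s, hs, hx⟩ := h x
    exact ⟨s, hs, hx⟩

include hr hg he in
/-- Grothendieck vanishing above `r - e` for the localization at `p`. -/
theorem subsingleton_H_localization_of_gt (j : ℕ) (hj : r < j + e) (X : Type u) [AddCommGroup X]
    [Module (Localization.AtPrime p) X] :
    Subsingleton (LocCoh.H (IsLocalRing.maximalIdeal (Localization.AtPrime p)) j X) := by
  have heP : ringKrullDim (S ⧸ p.comap (algebraMap S R)) = e := by
    rw [ringKrullDim_quotient_comap S R hg p, he]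
  obtain ⟨her, hdim⟩ := ringKrullDim_localization S r hr (p.comap (algebraMap S R)) e heP
  have hφ : Function.Surjective (Localization.localRingHom (p.comap (algebraMap S R)) p
      (algebraMap S R) rfl) :=
    RingHom.surjective_localRingHom_of_surjective (algebraMap S R) hg p
  have hle : ringKrullDim (Localization.AtPrime p) ≤ ((r - e : ℕ) : WithBot ℕ∞) := by
    rw [← hdim]
    exact ringKrullDim_le_of_surjective _ hφ
  exact Groth.Agent.Lib.LocCohVanishing.cdLE_of_ringKrullDim_le _ (r - e) hle X j (by omega)

end concrete

end Groth.Agent.Lib.H26GorLoc
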