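/-
Helper library (helper26): `Ext` commutes with localization, in the form of a localization map
`Ext_S(M, N) → Ext_{W⁻¹S}(M', N')` for arbitrary models `M'`, `N'` of the localized modules.
-/
import Mathlib.Tactic
import Groth.Agent.Lib.H26GorLoc

set_option autoImplicit false
universe u
open CategoryTheory Abelian

namespace Groth.Agent.Lib.H26ExtLocIso

section congr
variable {R : Type*} [CommRing R] {C : Type*} [Category C] [Abelian C] [Linear R C] [HasExt C]

/-- transport of `Ext` along isomorphisms in both variables. -/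
noncomputable def extCongr {X X' Y Y' : C} (a : X ≅ X') (b : Y ≅ Y') (n : ℕ) :
    Ext X Y n ≃ₗ[R] Ext X' Y' n where
  toFun x := (Ext.mk₀ a.inv).comp (x.comp (Ext.mk₀ b.hom) (add_zero n)) (zero_add n)
  invFun y := (Ext.mk₀ a.hom).comp (y.comp (Ext.mk₀ b.inv) (add_zero n)) (zero_add n)
  map_add' x y := by rw [Ext.add_comp, Ext.comp_add]
  map_smul' r x := by
    rw [Ext.smul_comp, Ext.comp_smul]
    rfl
  left_inv x := by
    dsimp only
    rw [Ext.comp_assoc (Ext.mk₀ a.inv) (x.comp (Ext.mk₀ b.hom) (add_zero n)) (Ext.mk₀ b.inv)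
        (zero_add n) (add_zero n) (by omega),
      Ext.comp_assoc x (Ext.mk₀ b.hom) (Ext.mk₀ b.inv) (add_zero n) (add_zero 0) (by omega),
      Ext.mk₀_comp_mk₀, b.hom_inv_id, Ext.comp_mk₀_id,
      ← Ext.comp_assoc (Ext.mk₀ a.hom) (Ext.mk₀ a.inv) x (zero_add 0) (zero_add n) (by omega),
      Ext.mk₀_comp_mk₀, a.hom_inv_id, Ext.mk₀_id_comp]
  right_inv y := by
    dsimp only
    rw [Ext.comp_assoc (Ext.mk₀ a.hom) (y.comp (Ext.mk₀ b.inv) (add_zero n)) (Ext.mk₀ b.hom)
        (zero_add n) (add_zero n) (by omega),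
      Ext.comp_assoc y (Ext.mk₀ b.inv) (Ext.mk₀ b.hom) (add_zero n) (add_zero 0) (by omega),
      Ext.mk₀_comp_mk₀, b.inv_hom_id, Ext.comp_mk₀_id,
      ← Ext.comp_assoc (Ext.mk₀ a.inv) (Ext.mk₀ a.hom) y (zero_add 0) (zero_add n) (by omega),
      Ext.mk₀_comp_mk₀, a.inv_hom_id, Ext.mk₀_id_comp]

end congr

section locmap
variable {S : Type u} [CommRing S] [IsNoetherianRing S] (W : Submonoid S)
  (M N : Type u) [AddCommGroup M] [Module S M] [Module.Finite S M] [AddCommGroup N] [Module S N]
  (M' : Type u) [AddCommGroup M'] [Module S M'] [Module (Localization W) M']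
  [IsScalarTower S (Localization W) M'] (ιM : M →ₗ[S] M') [IsLocalizedModule W ιM]
  (N' : Type u) [AddCommGroup N'] [Module S N'] [Module (Localization W) N']
  [IsScalarTower S (Localization W) N'] (ιN : N →ₗ[S] N') [IsLocalizedModule W ιN] (n : ℕ)

open Groth.Agent.Lib.H26GorLoc Groth.Agent.Lib.H29ExtLocalization Groth.Agent.Lib.H29ExtBaseChange

/-- the localization map on `Ext`, as a function. -/
noncomputable def extLocFun (e : Ext.{u} (ModuleCat.of S M) (ModuleCat.of S N) n) :
    Ext.{u} (ModuleCat.of (Localization W) M') (ModuleCat.of (Localization W) N') n :=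
  extCongr (R := Localization W) (locFIso W M M' ιM) (locFIso W N N' ιN) n
    (e.mapExactFunctor (ModuleCat.localizedModuleFunctor.{u} W))

theorem extLocFun_add (e₁ e₂ : Ext.{u} (ModuleCat.of S M) (ModuleCat.of S N) n) :
    extLocFun W M N M' ιM N' ιN n (e₁ + e₂) =
      extLocFun W M N M' ιM N' ιN n e₁ + extLocFun W M N M' ιM N' ιN n e₂ := by
  unfold extLocFun
  rw [Ext.mapExactFunctor_add, map_add]

theorem extLocFun_smul (s : S) (e : Ext.{u} (ModuleCat.of S M) (ModuleCat.of S N) n) :
    extLocFun W M N M' ιM N' ιN n (s • e) =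
      algebraMap S (Localization W) s • extLocFun W M N M' ιM N' ιN n e := by
  unfold extLocFun
  rw [mapExactFunctor_smul (locF_scalarCompat W), map_smul]

theorem extLocFun_eq_zero_iff (e : Ext.{u} (ModuleCat.of S M) (ModuleCat.of S N) n) :
    extLocFun W M N M' ιM N' ιN n e = 0 ↔ ∃ s : W, (s : S) • e = 0 := by
  unfold extLocFun
  rw [LinearEquiv.map_eq_zero_iff]
  exact mapExactFunctor_eq_zero_iff W (ModuleCat.of S M) (ModuleCat.of S N) n e

theorem exists_smul_eq_extLocFun
    (y : Ext.{u} (ModuleCat.of (Localization W) M') (ModuleCat.of (Localization W) N') n) :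
    ∃ (e : Ext.{u} (ModuleCat.of S M) (ModuleCat.of S N) n) (s : W),
      algebraMap S (Localization W) (s : S) • y = extLocFun W M N M' ιM N' ιN n e := by
  obtain ⟨e, s, hs⟩ := exists_smul_eq_mapExactFunctor W (ModuleCat.of S M) (ModuleCat.of S N) n
    ((extCongr (R := Localization W) (locFIso W M M' ιM) (locFIso W N N' ιN) n).symm y)
  refine ⟨e, s, ?_⟩
  unfold extLocFun
  rw [← hs, map_smul, LinearEquiv.apply_symm_apply]

end locmap

end Groth.Agent.Lib.H26ExtLocIso
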