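import Mathlib
import Groth.Agent.Lib.H87GrMod

/-!
# Graded modules killed by a homogeneous prime: bases up to homogeneous units (helper74)

`R` a `ι`-graded ring, `P₀` a homogeneous prime, `X` a graded `R`-module with `P₀ X = 0`.  Then `X`,
after inverting the homogeneous elements outside `P₀`, is a graded module over a "graded field",
hence free: there is a set `T` of homogeneous elements of `X` which is independent modulo `P₀`
(`Indep`) and spans `X` up to homogeneous elements outside `P₀` (`exists_smul_mem_span`).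
-/

set_option autoImplicit false
set_option linter.unusedSectionVars false

universe u

namespace Groth.Agent.Lib.H74BassCore

open DirectSum Groth.Agent.Lib.H87GrMod

section Basis

variable {ι : Type} [AddCommGroup ι] [DecidableEq ι]
variable {R : Type u} [CommRing R] (𝒜 : ι → AddSubgroup R) [GradedRing 𝒜]
variable (P₀ : Ideal R)
variable {X : Type u} [AddCommGroup X] [Module R X] (𝒳 : ι → AddSubgroup X) [Decomposition 𝒳]
  [SetLike.GradedSMul 𝒜 𝒳]

/-- Independence modulo `P₀`. -/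
def Indep (T : Set X) : Prop :=
  ∀ (s : Finset X) (c : X → R), (s : Set X) ⊆ T → ∑ x ∈ s, c x • x = 0 → ∀ x ∈ s, c x ∈ P₀

theorem indep_empty : Indep P₀ (∅ : Set X) := by
  intro s c hs _ x hx
  exact absurd (hs hx) (Set.notMem_empty x)

theorem indep_sUnion (c : Set (Set X)) (hc : IsChain (· ⊆ ·) c) (hne : c.Nonempty)
    (h : ∀ T ∈ c, Indep P₀ T) : Indep P₀ (⋃₀ c) := by
  intro s f hs hsum x hx
  obtain ⟨T, hT, hsT⟩ := DirectedOn.exists_mem_subset_of_finite_of_subset_sUnion hne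
    hc.directedOn s.finite_toSet hs
  exact h T hT s f hsT hsum x hx

/-- A maximal independent set of homogeneous elements. -/
theorem exists_maximal_indep : ∃ T : Set X, (∀ x ∈ T, SetLike.IsHomogeneousElem 𝒳 x) ∧
    Indep P₀ T ∧ ∀ T' : Set X, (∀ x ∈ T', SetLike.IsHomogeneousElem 𝒳 x) → Indep P₀ T' →
      T ⊆ T' → T' ⊆ T := by
  obtain ⟨T, hT, hmax⟩ := zorn_subset
    {T : Set X | (∀ x ∈ T, SetLike.IsHomogeneousElem 𝒳 x) ∧ Indep P₀ T} (by
      intro c hcS hc
      rcases c.eq_empty_or_nonempty with rfl | hne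
      · exact ⟨∅, ⟨fun x hx => absurd hx (Set.notMem_empty x), indep_empty P₀⟩,
          fun s hs => absurd hs (Set.notMem_empty s)⟩
      · refine ⟨⋃₀ c, ⟨?_, indep_sUnion P₀ c hc hne (fun T hT => (hcS hT).2)⟩,
          fun s hs => Set.subset_sUnion_of_mem hs⟩
        rintro x ⟨T, hT, hxT⟩
        exact (hcS hT).1 x hxT)
  exact ⟨T, hT.1, hT.2, fun T' h1 h2 h3 => hmax ⟨h1, h2⟩ h3⟩

/-- Components of `r • x` for homogeneous `x`. -/
theorem coe_decompose_smul_of_mem {n : ι} {x : X} (hx : x ∈ 𝒳 n) (r : R) (m : ι) :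
    (decompose 𝒳 (r • x) m : X) = (decompose 𝒜 r (m - n) : R) • x := by
  have := decompose_smul_of_mem_right 𝒳 𝒜 hx r (m - n)
  rwa [sub_add_cancel] at this

variable {𝒜 P₀ 𝒳}

theorem exists_decompose_notMem {r : R} (hr : r ∉ P₀) : ∃ k, (decompose 𝒜 r k : R) ∉ P₀ := by
  classical
  by_contra hcon
  push Not at hcon
  apply hr
  rw [← sum_support_decompose 𝒜 r]
  exact Ideal.sum_mem _ (fun k _ => hcon k)

section Max

variable [hP : P₀.IsPrime] (hkill : ∀ a ∈ P₀, ∀ x : X, a • x = 0)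
  {T : Set X} (hT : ∀ x ∈ T, SetLike.IsHomogeneousElem 𝒳 x) (hind : Indep P₀ T)
  (hmax : ∀ T' : Set X, (∀ x ∈ T', SetLike.IsHomogeneousElem 𝒳 x) → Indep P₀ T' →
      T ⊆ T' → T' ⊆ T)

include hkill hT hind hmax in
theorem exists_smul_mem_span_of_mem {n : ι} {y : X} (hy : y ∈ 𝒳 n) :
    ∃ s, SetLike.IsHomogeneousElem 𝒜 s ∧ s ∉ P₀ ∧ s • y ∈ Submodule.span R T := by
  classical
  have h1 : (1 : R) ∉ P₀ := (Ideal.ne_top_iff_one P₀).mp hP.ne_top
  by_cases hyT : y ∈ T
  · exact ⟨1, ⟨0, SetLike.GradedOne.one_mem⟩, h1, by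
      rw [one_smul]; exact Submodule.subset_span hyT⟩
  have hT' : ∀ x ∈ insert y T, SetLike.IsHomogeneousElem 𝒳 x := by
    rintro x (rfl | hx)
    · exact ⟨n, hy⟩
    · exact hT x hx
  have hnot : ¬ Indep P₀ (insert y T) := fun h =>
    hyT (hmax _ hT' h (Set.subset_insert y T) (Set.mem_insert y T))
  unfold Indep at hnot
  push Not at hnot
  obtain ⟨s, c, hs, hsum, x₀, hx₀, hcx₀⟩ := hnot
  have key : y ∈ s ∧ c y ∉ P₀ := by
    by_contra hcon
    have hsum' : ∑ x ∈ s.erase y, c x • x = 0 := by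
      by_cases hys : y ∈ s
      · have hcy : c y ∈ P₀ := by
          by_contra h
          exact hcon ⟨hys, h⟩
        rw [← Finset.add_sum_erase s _ hys, hkill _ hcy, zero_add] at hsum
        exact hsum
      · rw [Finset.erase_eq_of_notMem hys]
        exact hsum
    have hsub : ((s.erase y : Finset X) : Set X) ⊆ T := by
      intro x hx
      have hx' := Finset.mem_erase.mp hx
      rcases hs hx'.2 with h | h
      · exact absurd h hx'.1
      · exact h
    have hall := hind (s.erase y) c hsub hsum'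
    by_cases hxy : x₀ = y
    · subst hxy
      exact hcon ⟨hx₀, hcx₀⟩
    · exact hcx₀ (hall x₀ (Finset.mem_erase.mpr ⟨hxy, hx₀⟩))
  obtain ⟨hys, hcy⟩ := key
  obtain ⟨k, hk⟩ := exists_decompose_notMem (𝒜 := 𝒜) hcy
  -- degrees of the elements of `s`
  let dg : X → ι := fun x => if h : SetLike.IsHomogeneousElem 𝒳 x then h.choose else 0
  have hdg : ∀ x ∈ s, x ∈ 𝒳 (dg x) := by
    intro x hx
    have h := hT' x (hs hx)
    simp only [dg, dif_pos h]
    exact h.choose_spec
  have hcomp : ∑ x ∈ s, (decompose 𝒜 (c x) (k + n - dg x) : R) • x = 0 := by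
    have h2 : (decompose 𝒳 (∑ x ∈ s, c x • x) (k + n) : X) = 0 := by
      rw [hsum, decompose_zero]; rfl
    rw [decompose_sum, DFinsupp.finsetSum_apply, AddSubgroup.val_finsetSum] at h2
    rw [← h2]
    exact Finset.sum_congr rfl (fun x hx =>
      (coe_decompose_smul_of_mem 𝒜 𝒳 (hdg x hx) (c x) (k + n)).symm)
  rw [← Finset.add_sum_erase s _ hys] at hcomp
  have hdy : (decompose 𝒜 (c y) (k + n - dg y) : R) • y = (decompose 𝒜 (c y) k : R) • y := by
    by_cases hy0 : y = 0
    · rw [hy0, smul_zero, smul_zero]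
    · have : dg y = n := by
        by_contra hne
        exact hy0 (DirectSum.Decomposition.isInternal 𝒳 |>.addSubgroup_iSupIndep.pairwiseDisjoint
          hne |>.le_bot ⟨hdg y hys, hy⟩)
      rw [this, add_sub_cancel_right]
  rw [hdy] at hcomp
  refine ⟨(decompose 𝒜 (c y) k : R), ⟨k, (decompose 𝒜 (c y) k).2⟩, hk, ?_⟩
  rw [eq_neg_of_add_eq_zero_left hcomp]
  refine Submodule.neg_mem _ (Submodule.sum_mem _ (fun x hx => ?_))
  have hx' := Finset.mem_erase.mp hx
  refine Submodule.smul_mem _ _ (Submodule.subset_span ?_)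
  rcases hs hx'.2 with h | h
  · exact absurd h hx'.1
  · exact h

include hkill hT hind hmax in
/-- A maximal independent set spans up to homogeneous elements outside `P₀`. -/
theorem exists_smul_mem_span (y : X) :
    ∃ s, SetLike.IsHomogeneousElem 𝒜 s ∧ s ∉ P₀ ∧ s • y ∈ Submodule.span R T := by
  have h1 : (1 : R) ∉ P₀ := (Ideal.ne_top_iff_one P₀).mp hP.ne_top
  induction y using Decomposition.inductionOn 𝒳 with
  | zero => exact ⟨1, ⟨0, SetLike.GradedOne.one_mem⟩, h1, by rw [smul_zero]; exact zero_mem _⟩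
  | @homogeneous i y => exact exists_smul_mem_span_of_mem (𝒜 := 𝒜) hkill hT hind hmax y.2
  | add y y' ih ih' =>
    obtain ⟨s, hs, hsP, hsy⟩ := ih
    obtain ⟨s', hs', hsP', hsy'⟩ := ih'
    refine ⟨s * s', hs.mul hs', fun h => (hP.mem_or_mem h).elim hsP hsP', ?_⟩
    rw [smul_add]
    refine Submodule.add_mem _ ?_ ?_
    · rw [mul_comm, mul_smul]
      exact Submodule.smul_mem _ _ hsy
    · rw [mul_smul]
      exact Submodule.smul_mem _ _ hsy'

include hkill hT hind hmax in
/-- Representation: `s • y = Σ c x • x` over a finite subset of `T`. -/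
theorem exists_repr (y : X) :
    ∃ s, SetLike.IsHomogeneousElem 𝒜 s ∧ s ∉ P₀ ∧ ∃ (t : Finset X) (c : X → R),
      (t : Set X) ⊆ T ∧ s • y = ∑ x ∈ t, c x • x := by
  obtain ⟨s, hs, hsP, hsy⟩ := exists_smul_mem_span (𝒜 := 𝒜) hkill hT hind hmax y
  obtain ⟨f, t, ht, -, hsum⟩ := Submodule.mem_span_iff_exists_finset_subset.mp hsy
  exact ⟨s, hs, hsP, t, f, ht, hsum.symm⟩

include hkill hT hind hmax in
/-- `X` is torsion-free up to homogeneous elements outside `P₀`. -/
theorem exists_smul_eq_zero_of_smul_eq_zero {u : R} (hu : u ∉ P₀) {y : X} (huy : u • y = 0) :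
    ∃ s, SetLike.IsHomogeneousElem 𝒜 s ∧ s ∉ P₀ ∧ s • y = 0 := by
  obtain ⟨s, hs, hsP, t, c, ht, hsum⟩ := exists_repr (𝒜 := 𝒜) hkill hT hind hmax y
  refine ⟨s, hs, hsP, ?_⟩
  have h0 : ∑ x ∈ t, (u * c x) • x = 0 := by
    simp_rw [mul_smul]
    rw [← Finset.smul_sum, ← hsum, smul_comm, huy, smul_zero]
  have hall := hind t (fun x => u * c x) ht h0
  rw [hsum]
  refine Finset.sum_eq_zero (fun x hx => ?_)
  have hcx : c x ∈ P₀ := (hP.mem_or_mem (hall x hx)).resolve_left hu
  exact hkill _ hcx x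

end Max

end Basis

end Groth.Agent.Lib.H74BassCore
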