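import Mathlib
import Groth.Agent.Lib.H74BassCore1

/-!
# Lengths of fibres of localized graded modules killed by a homogeneous prime (helper74)
-/

set_option autoImplicit false
set_option linter.unusedSectionVars false

universe u

namespace Groth.Agent.Lib.H74BassCore

open DirectSum

section LengthBasis

variable {A : Type*} [CommRing A] (𝔪 : Ideal A) [h𝔪 : 𝔪.IsMaximal]
variable {V : Type*} [AddCommGroup V] [Module A V]

/-- A module killed by a maximal ideal with a basis modulo that ideal indexed by `B` has length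
`card B`. -/
theorem length_eq_card_of_basis (hkill : ∀ a ∈ 𝔪, ∀ v : V, a • v = 0) {B : Type*} (v : B → V)
    (hspan : Submodule.span A (Set.range v) = ⊤)
    (hind : ∀ (s : Finset B) (c : B → A), ∑ b ∈ s, c b • v b = 0 → ∀ b ∈ s, c b ∈ 𝔪) :
    Module.length A V = ENat.card B := by
  classical
  let f : B → (A ⧸ 𝔪) →ₗ[A] V := fun b =>
    Submodule.liftQ 𝔪 (LinearMap.toSpanSingleton A V (v b)) (fun a ha => by
      rw [LinearMap.mem_ker, LinearMap.toSpanSingleton_apply]
      exact hkill a ha (v b))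
  have hf : ∀ b (a : A), f b (Ideal.Quotient.mk 𝔪 a) = a • v b := fun b a => rfl
  let Φ : (B →₀ A ⧸ 𝔪) →ₗ[A] V := Finsupp.lsum A f
  have hΦ : ∀ c : B →₀ A ⧸ 𝔪, Φ c = c.sum fun b a => f b a := fun c => rfl
  have hsurj : Function.Surjective Φ := by
    rw [← LinearMap.range_eq_top, eq_top_iff, ← hspan, Submodule.span_le]
    rintro _ ⟨b, rfl⟩
    refine ⟨Finsupp.single b 1, ?_⟩
    rw [hΦ, Finsupp.sum_single_index (h := fun b a => f b a) (map_zero _)]
    show f b (Ideal.Quotient.mk 𝔪 1) = v b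
    rw [hf, one_smul]
  have hinj : Function.Injective Φ := by
    rw [injective_iff_map_eq_zero]
    intro c hc
    let c' : B → A := fun b => (Ideal.Quotient.mk_surjective (c b)).choose
    have hc' : ∀ b, Ideal.Quotient.mk 𝔪 (c' b) = c b :=
      fun b => (Ideal.Quotient.mk_surjective (c b)).choose_spec
    have hsum : ∑ b ∈ c.support, c' b • v b = 0 := by
      rw [← hc, hΦ, Finsupp.sum]
      exact Finset.sum_congr rfl (fun b _ => by rw [← hc' b, hf])
    have hall := hind c.support c' hsum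
    ext b
    by_cases hb : b ∈ c.support
    · rw [← hc' b, Finsupp.zero_apply]
      exact Ideal.Quotient.eq_zero_iff_mem.mpr (hall b hb)
    · rw [Finsupp.notMem_support_iff.mp hb, Finsupp.zero_apply]
  have hsimple : IsSimpleModule A (A ⧸ 𝔪) :=
    isSimpleModule_iff_isCoatom.mpr (Ideal.isMaximal_def.mp h𝔪)
  rw [← (LinearEquiv.ofBijective Φ ⟨hinj, hsurj⟩).length_eq, Module.length_finsupp,
    Module.length_eq_one, mul_one]

end LengthBasis

section LocMap

variable {R : Type u} [CommRing R] (W : Submonoid R) (A : Type*) [CommRing A] [Algebra R A]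
variable {X : Type*} [AddCommGroup X] [Module R X] {Y : Type*} [AddCommGroup Y] [Module A Y]

/-- `ι : X → Y` exhibits the `A`-module `Y` as the localization of the `R`-module `X` at `W`
(no `R`-module structure on `Y` is needed). -/
structure IsLocMap (ι : X → Y) : Prop where
  map_add : ∀ x x', ι (x + x') = ι x + ι x'
  map_smul : ∀ (r : R) (x : X), ι (r • x) = algebraMap R A r • ι x
  eq_zero_iff : ∀ x, ι x = 0 ↔ ∃ s : W, (s : R) • x = 0
  surj : ∀ y : Y, ∃ (x : X) (s : W), algebraMap R A (s : R) • y = ι x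

variable {W A}

namespace IsLocMap

variable {ι : X → Y} (hι : IsLocMap W A ι)

include hι in
theorem map_zero : ι 0 = 0 := by
  have := hι.map_add 0 0
  rw [add_zero] at this
  exact left_eq_add.mp this

include hι in
theorem map_sum {κ : Type*} (t : Finset κ) (f : κ → X) : ι (∑ i ∈ t, f i) = ∑ i ∈ t, ι (f i) := by
  classical
  induction t using Finset.induction_on with
  | empty => rw [Finset.sum_empty, Finset.sum_empty, hι.map_zero]
  | insert a t ha ih => rw [Finset.sum_insert ha, Finset.sum_insert ha, hι.map_add, ih]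

include hι in
theorem map_neg (x : X) : ι (-x) = -ι x := by
  have := hι.map_add x (-x)
  rw [add_neg_cancel, hι.map_zero] at this
  exact (neg_eq_of_add_eq_zero_right this.symm).symm

include hι in
theorem map_sub (x x' : X) : ι (x - x') = ι x - ι x' := by
  rw [sub_eq_add_neg, hι.map_add, hι.map_neg, sub_eq_add_neg]

end IsLocMap

end LocMap

section Fibre

variable {ι' : Type} [AddCommGroup ι'] [DecidableEq ι']
variable {R : Type u} [CommRing R] {𝒜 : ι' → AddSubgroup R} [GradedRing 𝒜]
variable {P₀ : Ideal R} [hP : P₀.IsPrime]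
variable {X : Type u} [AddCommGroup X] [Module R X] {𝒳 : ι' → AddSubgroup X} [Decomposition 𝒳]
  [SetLike.GradedSMul 𝒜 𝒳]
  (hkill : ∀ a ∈ P₀, ∀ x : X, a • x = 0)
  {T : Set X} (hT : ∀ x ∈ T, SetLike.IsHomogeneousElem 𝒳 x) (hind : Indep P₀ T)
  (hmax : ∀ T' : Set X, (∀ x ∈ T', SetLike.IsHomogeneousElem 𝒳 x) → Indep P₀ T' →
      T ⊆ T' → T' ⊆ T)

include hind in
theorem indep_finsupp (d : T →₀ R)
    (h : Finsupp.linearCombination R (Subtype.val : T → X) d = 0) : ∀ b, d b ∈ P₀ := by
  classical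
  intro b
  by_cases hb : b ∈ d.support
  · have key := hind (d.support.map ⟨Subtype.val, Subtype.val_injective⟩)
      (fun x => if h : x ∈ T then d ⟨x, h⟩ else 0) (by
        intro x hx
        obtain ⟨b, -, rfl⟩ := Finset.mem_map.mp hx
        exact b.2) (by
        rw [Finset.sum_map, ← h, Finsupp.linearCombination_apply, Finsupp.sum]
        refine Finset.sum_congr rfl (fun b _ => ?_)
        show (if h : (b : X) ∈ T then d ⟨b, h⟩ else 0) • (b : X) = d b • (b : X)
        rw [dif_pos b.2]) b (Finset.mem_map.mpr ⟨b, hb, rfl⟩)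
    rw [dif_pos b.2] at key
    exact key
  · rw [Finsupp.notMem_support_iff.mp hb]
    exact zero_mem _

include hkill hT hind hmax in
theorem exists_repr_finsupp (y : X) :
    ∃ s, SetLike.IsHomogeneousElem 𝒜 s ∧ s ∉ P₀ ∧ ∃ c : T →₀ R,
      s • y = Finsupp.linearCombination R (Subtype.val : T → X) c := by
  obtain ⟨s, hs, hsP, hsy⟩ := exists_smul_mem_span (𝒜 := 𝒜) hkill hT hind hmax y
  rw [← Subtype.range_val (s := T), Finsupp.mem_span_range_iff_exists_finsupp] at hsy
  obtain ⟨c, hc⟩ := hsy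
  exact ⟨s, hs, hsP, c, by rw [Finsupp.linearCombination_apply]; exact hc.symm⟩

variable (𝔭 : Ideal R) [h𝔭 : 𝔭.IsPrime] (hle : P₀ ≤ 𝔭)
  (hcore : ∀ s, SetLike.IsHomogeneousElem 𝒜 s → s ∉ P₀ → s ∉ 𝔭)
  {g : R} (hg𝔭 : g ∈ 𝔭)
  (hgen : ∀ u ∈ 𝔭, ∃ s, SetLike.IsHomogeneousElem 𝒜 s ∧ s ∉ P₀ ∧ ∃ h : R, s * u - g * h ∈ P₀)
variable {A : Type*} [CommRing A] [Algebra R A] [IsLocalization.AtPrime A 𝔭]
  {Y : Type*} [AddCommGroup Y] [Module A Y] {ι : X → Y} (hι : IsLocMap 𝔭.primeCompl A ι)

theorem mem_of_isUnit_smul_mem {N : Submodule A Y} {u : A} (hu : IsUnit u) {y : Y}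
    (h : u • y ∈ N) : y ∈ N := by
  obtain ⟨u', rfl⟩ := hu
  have := N.smul_mem (↑u'⁻¹ : A) h
  rwa [smul_smul, Units.inv_mul, one_smul] at this

include hkill hT hind hmax hle hcore hι in
/-- `g ∉ P₀` acts injectively on the localization at `𝔭` of a graded module killed by `P₀`. -/
theorem eq_zero_of_smul_eq_zero (hgP : g ∉ P₀) (y : Y) (h : algebraMap R A g • y = 0) :
    y = 0 := by
  obtain ⟨x, s₁, hx⟩ := hι.surj y
  have h1 : ι (g • x) = 0 := by
    rw [hι.map_smul, ← hx, smul_comm, h, smul_zero]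
  obtain ⟨s₂, hs₂⟩ := (hι.eq_zero_iff _).mp h1
  rw [← mul_smul] at hs₂
  have hs₂P : (s₂ : R) * g ∉ P₀ := fun hc =>
    (hP.mem_or_mem hc).elim (fun h' => s₂.2 (hle h')) hgP
  obtain ⟨s₃, hs₃, hs₃P, hs₃x⟩ :=
    exists_smul_eq_zero_of_smul_eq_zero (𝒜 := 𝒜) hkill hT hind hmax hs₂P hs₂
  have hx0 : ι x = 0 := (hι.eq_zero_iff x).mpr ⟨⟨s₃, hcore s₃ hs₃ hs₃P⟩, hs₃x⟩
  rw [hx0] at hx
  exact (IsUnit.smul_eq_zero (IsLocalization.map_units A s₁)).mp hx

include hkill hT hind hmax hle hcore hg𝔭 hgen hι in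
/-- The fibre at `𝔭` of (the localization of) a graded module killed by `P₀`, where
`𝔭 = P₀ + (g)` up to homogeneous units, has length the cardinality of a homogeneous basis. -/
theorem length_quot_eq_card :
    Module.length A (Y ⧸ LinearMap.range (algebraMap R A g • (LinearMap.id : Y →ₗ[A] Y))) =
      ENat.card T := by
  classical
  have hloc : IsLocalRing A := IsLocalization.AtPrime.isLocalRing A 𝔭
  set N : Submodule A Y := LinearMap.range (algebraMap R A g • (LinearMap.id : Y →ₗ[A] Y))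
    with hN
  have hNmem : ∀ y : Y, algebraMap R A g • y ∈ N := fun y => ⟨y, rfl⟩
  have hunit : ∀ w : R, w ∉ 𝔭 → IsUnit (algebraMap R A w) := fun w hw =>
    IsLocalization.map_units A (⟨w, hw⟩ : 𝔭.primeCompl)
  refine length_eq_card_of_basis (IsLocalRing.maximalIdeal A) ?_
    (fun b : T => N.mkQ (ι (b : X))) ?_ ?_
  · -- killed by the maximal ideal
    intro a ha z
    obtain ⟨y, rfl⟩ := N.mkQ_surjective z
    rw [← map_smul, Submodule.mkQ_apply, Submodule.Quotient.mk_eq_zero]
    obtain ⟨⟨r, w⟩, hrw⟩ := IsLocalization.surj 𝔭.primeCompl a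
    have hrw' : a * algebraMap R A (w : R) = algebraMap R A r := hrw
    have hr : r ∈ 𝔭 := by
      rw [← IsLocalization.AtPrime.to_map_mem_maximal_iff A 𝔭 r, ← hrw']
      exact Ideal.mul_mem_right _ _ ha
    obtain ⟨s, hs, hsP, h, hh⟩ := hgen r hr
    obtain ⟨x, s₁, hx⟩ := hι.surj y
    have hu : IsUnit (algebraMap R A s * algebraMap R A (w : R) * algebraMap R A (s₁ : R)) :=
      ((hunit s (hcore s hs hsP)).mul (hunit w w.2)).mul (hunit s₁ s₁.2)
    refine mem_of_isUnit_smul_mem hu ?_
    have e1 : (algebraMap R A s * algebraMap R A (w : R) * algebraMap R A (s₁ : R)) • a • y =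
        algebraMap R A (s * r) • (algebraMap R A (s₁ : R) • y) := by
      rw [map_mul, ← hrw', smul_smul, smul_smul]
      congr 1
      ring
    have e2 : (s * r) • x = g • h • x := by
      have : (s * r) • x = (g * h) • x + (s * r - g * h) • x := by
        rw [← add_smul]; congr 1; ring
      rw [this, hkill _ hh, add_zero, mul_smul]
    rw [e1, hx, ← hι.map_smul, e2, hι.map_smul]
    exact hNmem _
  · -- spanning
    have hall : ∀ y : Y, y ∈ Submodule.span A (Set.range fun b : T => ι (b : X)) := by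
      intro y
      obtain ⟨x, s₁, hx⟩ := hι.surj y
      obtain ⟨s', hs', hs'P, c, hc⟩ := exists_repr_finsupp (𝒜 := 𝒜) hkill hT hind hmax x
      have hu : IsUnit (algebraMap R A s' * algebraMap R A (s₁ : R)) :=
        (hunit s' (hcore s' hs' hs'P)).mul (hunit s₁ s₁.2)
      refine mem_of_isUnit_smul_mem hu ?_
      rw [mul_smul, hx, ← hι.map_smul, hc, Finsupp.linearCombination_apply, Finsupp.sum,
        hι.map_sum]
      refine Submodule.sum_mem _ (fun b _ => ?_)
      rw [hι.map_smul]
      exact Submodule.smul_mem _ _ (Submodule.subset_span ⟨b, rfl⟩)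
    rw [eq_top_iff]
    intro z _
    obtain ⟨y, rfl⟩ := N.mkQ_surjective z
    have h1 : N.mkQ y ∈ (Submodule.span A (Set.range fun b : T => ι (b : X))).map N.mkQ :=
      ⟨y, hall y, rfl⟩
    rw [Submodule.map_span, ← Set.range_comp] at h1
    exact h1
  · -- independence
    intro s c hsum b hb
    have hsum' : ∑ b ∈ s, c b • ι (b : X) ∈ N := by
      rw [← Submodule.Quotient.mk_eq_zero, ← Submodule.mkQ_apply, map_sum, ← hsum]
      exact Finset.sum_congr rfl (fun b _ => map_smul _ _ _)
    obtain ⟨y, hy⟩ := hsum'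
    have hy' : algebraMap R A g • y = ∑ b ∈ s, c b • ι (b : X) := hy
    obtain ⟨w, hw⟩ := IsLocalization.exist_integer_multiples 𝔭.primeCompl s c
    let rfs : T →₀ R := Finsupp.onFinset s (fun b => if h : b ∈ s then (hw b h).choose else 0)
      (fun b hb' => by
        by_contra hbs
        exact hb' (dif_neg hbs))
    have hrfs : ∀ b ∈ s, algebraMap R A (rfs b) = algebraMap R A (w : R) * c b := by
      intro b hb'
      have h1 : rfs b = (hw b hb').choose := by
        show (if h : b ∈ s then (hw b h).choose else 0) = _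
        rw [dif_pos hb']
      rw [h1, (hw b hb').choose_spec, Algebra.smul_def]
    have hsupp : rfs.support ⊆ s := Finsupp.support_onFinset_subset
    have hLC : ι (Finsupp.linearCombination R (Subtype.val : T → X) rfs) =
        algebraMap R A (w : R) • ∑ b ∈ s, c b • ι (b : X) := by
      rw [Finsupp.linearCombination_apply, Finsupp.sum_of_support_subset _ hsupp _
        (fun b _ => zero_smul R (b : X)), hι.map_sum, Finset.smul_sum]
      refine Finset.sum_congr rfl (fun b hb' => ?_)
      rw [hι.map_smul, hrfs b hb', mul_smul]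
    obtain ⟨x', s₁, hx'⟩ := hι.surj y
    obtain ⟨s', hs', hs'P, c', hc'⟩ := exists_repr_finsupp (𝒜 := 𝒜) hkill hT hind hmax x'
    have hs'𝔭 : s' ∉ 𝔭 := hcore s' hs' hs'P
    let d : T →₀ R := ((s₁ : R) * s') • rfs - (g * (w : R)) • c'
    have hd : ι (Finsupp.linearCombination R (Subtype.val : T → X) d) = 0 := by
      rw [map_sub, map_smul, map_smul, hι.map_sub, hι.map_smul, hι.map_smul, hLC, ← hy', ← hc',
        hι.map_smul, ← hx', sub_eq_zero]
      simp only [smul_smul, map_mul]
      congr 1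
      ring
    obtain ⟨s₂, hs₂⟩ := (hι.eq_zero_iff _).mp hd
    rw [← map_smul] at hs₂
    have hmem := indep_finsupp hind _ hs₂ b
    have hs₂P : (s₂ : R) ∉ P₀ := fun h' => s₂.2 (hle h')
    have hdb : d b ∈ P₀ := by
      have : (s₂ : R) * d b ∈ P₀ := hmem
      exact (hP.mem_or_mem this).resolve_left hs₂P
    have hdb' : (s₁ : R) * s' * rfs b - g * (w : R) * c' b ∈ 𝔭 := hle hdb
    have h3 : (s₁ : R) * s' * rfs b ∈ 𝔭 := by
      have h4 : g * (w : R) * c' b ∈ 𝔭 := Ideal.mul_mem_right _ _ (Ideal.mul_mem_right _ _ hg𝔭)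
      have := 𝔭.add_mem hdb' h4
      rwa [sub_add_cancel] at this
    have hrb : rfs b ∈ 𝔭 := by
      rcases h𝔭.mem_or_mem h3 with h5 | h5
      · rcases h𝔭.mem_or_mem h5 with h6 | h6
        · exact absurd h6 s₁.2
        · exact absurd h6 hs'𝔭
      · exact h5
    have h7 : algebraMap R A (w : R) * c b ∈ IsLocalRing.maximalIdeal A := by
      rw [← hrfs b hb, IsLocalization.AtPrime.to_map_mem_maximal_iff A 𝔭]
      exact hrb
    by_contra hcb
    have hcu : IsUnit (c b) := by
      by_contra hnu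
      exact hcb ((IsLocalRing.mem_maximalIdeal _).mpr hnu)
    exact (IsLocalRing.mem_maximalIdeal _).mp h7 ((hunit w w.2).mul hcu)

end Fibre

end Groth.Agent.Lib.H74BassCore
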