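import Mathlib
import Groth.Agent.Lib.H74BassCore2

/-!
# The long exact sequence of `Ext(-, N)` for `0 → D --g--> D → κ → 0` (helper74)
-/

set_option autoImplicit false
set_option linter.unusedSectionVars false

universe u

open CategoryTheory Abelian

namespace Groth.Agent.Lib.H74BassCore

section LES

variable {A : Type u} [CommRing A] {D κ N : Type u} [AddCommGroup D] [Module A D]
  [AddCommGroup κ] [Module A κ] [AddCommGroup N] [Module A N]
  (g : A) (π : D →ₗ[A] κ) (hπ : Function.Surjective π)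
  (hker : LinearMap.ker π = LinearMap.range (g • (LinearMap.id : D →ₗ[A] D)))
  (hginj : ∀ d : D, g • d = 0 → d = 0)

include hker in
theorem comp_eq_zero_of_ker : π ∘ₗ (g • (LinearMap.id : D →ₗ[A] D)) = 0 := by
  ext d
  have : (g • (LinearMap.id : D →ₗ[A] D)) d ∈ LinearMap.ker π := by
    rw [hker]; exact ⟨d, rfl⟩
  exact this

/-- The short complex `D --g--> D --π--> κ`. -/
noncomputable abbrev sesSC (hc : π ∘ₗ (g • (LinearMap.id : D →ₗ[A] D)) = 0) :
    ShortComplex (ModuleCat.{u} A) :=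
  ModuleCat.shortComplexOfCompEqZero (g • (LinearMap.id : D →ₗ[A] D)) π hc

include hπ hker hginj in
theorem sesSC_shortExact (hc : π ∘ₗ (g • (LinearMap.id : D →ₗ[A] D)) = 0) :
    (sesSC g π hc).ShortExact := by
  refine ModuleCat.shortComplex_shortExact _ ?_ ?_ hπ
  · intro (d : D)
    show π d = 0 ↔ d ∈ Set.range (g • (LinearMap.id : D →ₗ[A] D))
    rw [← LinearMap.mem_ker, hker]
    rfl
  · intro (d : D) (d' : D) h
    have h' : g • d = g • d' := h
    have := hginj (d - d') (by rw [smul_sub, h', sub_self])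
    exact sub_eq_zero.mp this

theorem mk₀_f_comp (hc : π ∘ₗ (g • (LinearMap.id : D →ₗ[A] D)) = 0) {n : ℕ}
    (x : Ext.{u} (ModuleCat.of A D) (ModuleCat.of A N) n) :
    (Ext.mk₀ (sesSC g π hc).f).comp x (zero_add n) = g • x := by
  have hf : (sesSC g π hc).f = (g • 𝟙 (ModuleCat.of A D) : ModuleCat.of A D ⟶ ModuleCat.of A D) := by
    ext d
    rfl
  have h1 : (Ext.mk₀ (sesSC g π hc).f).comp x (zero_add n) =
      (Ext.mk₀ (g • 𝟙 (ModuleCat.of A D) : ModuleCat.of A D ⟶ ModuleCat.of A D)).comp x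
        (zero_add n) := by
    rw [hf]
  rw [h1, Ext.mk₀_smul, Ext.smul_comp, Ext.mk₀_id_comp]

include hπ hker hginj in
/-- `Ext^0(κ, N) = 0` if `g` acts injectively on `Ext^0(D, N)`. -/
theorem ext_zero_eq_zero
    (h0 : ∀ x : Ext.{u} (ModuleCat.of A D) (ModuleCat.of A N) 0, g • x = 0 → x = 0)
    (z : Ext.{u} (ModuleCat.of A κ) (ModuleCat.of A N) 0) : z = 0 := by
  have hc := comp_eq_zero_of_ker g π hker
  have hS := sesSC_shortExact g π hπ hker hginj hc
  have hepi : Epi (sesSC g π hc).g := hS.epi_g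
  have h1 : (Ext.mk₀ (sesSC g π hc).g).comp z (zero_add 0) = 0 := by
    apply h0
    rw [← mk₀_f_comp g π hc, ← Ext.comp_assoc_of_second_deg_zero]
    rw [Ext.mk₀_comp_mk₀, (sesSC g π hc).zero, Ext.mk₀_zero, Ext.zero_comp]
  have hinj := Ext.precomp_mk₀_injective_of_epi (ModuleCat.of A N) (sesSC g π hc).g
  apply hinj
  show (Ext.mk₀ (sesSC g π hc).g).comp z (zero_add 0) =
    (Ext.mk₀ (sesSC g π hc).g).comp 0 (zero_add 0)
  rw [h1, Ext.comp_zero]

include hπ hker hginj in
/-- `Ext^{n+1}(κ, N) ≅ Ext^n(D, N) / g Ext^n(D, N)` if `g` acts injectively on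
`Ext^{n+1}(D, N)`. -/
theorem nonempty_ext_succ_equiv (n : ℕ)
    (h1 : ∀ x : Ext.{u} (ModuleCat.of A D) (ModuleCat.of A N) (n + 1), g • x = 0 → x = 0) :
    Nonempty (Ext.{u} (ModuleCat.of A κ) (ModuleCat.of A N) (n + 1) ≃ₗ[A]
      (Ext.{u} (ModuleCat.of A D) (ModuleCat.of A N) n ⧸
        LinearMap.range (g • (LinearMap.id :
          Ext.{u} (ModuleCat.of A D) (ModuleCat.of A N) n →ₗ[A] _)))) := by
  have hc := comp_eq_zero_of_ker g π hker
  have hS := sesSC_shortExact g π hπ hker hginj hc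
  let δ : Ext.{u} (ModuleCat.of A D) (ModuleCat.of A N) n →ₗ[A]
      Ext.{u} (ModuleCat.of A κ) (ModuleCat.of A N) (n + 1) :=
    Ext.precompOfLinear hS.extClass A (ModuleCat.of A N) (add_comm 1 n)
  have hδ : ∀ x, δ x = hS.extClass.comp x (add_comm 1 n) := fun x => rfl
  have hsurj : Function.Surjective δ := by
    intro z
    have h2 : (Ext.mk₀ (sesSC g π hc).g).comp z (zero_add (n + 1)) = 0 := by
      apply h1
      rw [← mk₀_f_comp g π hc, ← Ext.comp_assoc_of_second_deg_zero]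
      rw [Ext.mk₀_comp_mk₀, (sesSC g π hc).zero, Ext.mk₀_zero, Ext.zero_comp]
    obtain ⟨x, hx⟩ := Ext.contravariant_sequence_exact₃ hS (ModuleCat.of A N) z h2
      (add_comm 1 n)
    exact ⟨x, hx⟩
  have hkerδ : LinearMap.ker δ = LinearMap.range (g • (LinearMap.id :
      Ext.{u} (ModuleCat.of A D) (ModuleCat.of A N) n →ₗ[A] _)) := by
    ext x
    rw [LinearMap.mem_ker, hδ, LinearMap.mem_range]
    constructor
    · intro hx
      obtain ⟨y, hy⟩ := Ext.contravariant_sequence_exact₁ hS (ModuleCat.of A N) x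
        (add_comm 1 n) hx
      rw [mk₀_f_comp g π hc] at hy
      exact ⟨y, hy⟩
    · rintro ⟨y, rfl⟩
      show hS.extClass.comp (g • y) (add_comm 1 n) = 0
      rw [← mk₀_f_comp g π hc]
      exact hS.extClass_comp_assoc _
  exact ⟨((Submodule.quotEquivOfEq _ _ hkerδ.symm).trans
    (δ.quotKerEquivOfSurjective hsurj)).symm⟩

end LES

end Groth.Agent.Lib.H74BassCore
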