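import Mathlib
import Groth.Agent.Lib.H74BassCore3
import Groth.Agent.S13216
import Groth.Agent.S13215

/-!
# `Ext^n_R(R/P₀, M)` of a graded module carries a grading (helper74)

For a homogeneous ideal `P₀` of a Noetherian graded ring and a graded module `M`, the module
`Ext^n_R(R/P₀, M)` is `R`-linearly isomorphic to a graded module killed by `P₀` (`gradable_ext`).
-/

set_option autoImplicit false
set_option linter.unusedSectionVars false

universe u

open CategoryTheory Abelian DirectSum GrLC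

namespace Groth.Agent.Lib.H74BassCore

open Groth.Agent.Lib.H87GrMod

section AnnSub

variable {ι : Type} [AddCommGroup ι] [DecidableEq ι]
variable {R : Type u} [CommRing R] (𝒜 : ι → AddSubgroup R) [GradedRing 𝒜]
variable (P₀ : Ideal R)
variable (M : Type u) [AddCommGroup M] [Module R M]

/-- The elements of `M` killed by `P₀`. -/
def annSub : Submodule R M where
  carrier := {x | ∀ a ∈ P₀, a • x = 0}
  zero_mem' := fun a _ => smul_zero a
  add_mem' := fun {x y} hx hy a ha => by rw [smul_add, hx a ha, hy a ha, add_zero]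
  smul_mem' := fun c x hx a ha => by rw [smul_comm, hx a ha, smul_zero]

variable {P₀ M}

theorem mem_annSub {x : M} : x ∈ annSub P₀ M ↔ ∀ a ∈ P₀, a • x = 0 := Iff.rfl

theorem smul_mk_one (P₀ : Ideal R) (r : R) :
    r • (Ideal.Quotient.mk P₀ 1) = Ideal.Quotient.mk P₀ r := by
  rw [Algebra.smul_def, Ideal.Quotient.algebraMap_eq, map_one, mul_one]

variable (P₀ M) in
/-- `Hom_R(R/P₀, M) ≅ (0 :_M P₀)`. -/
noncomputable def homQuotEquiv : ((R ⧸ P₀) →ₗ[R] M) ≃ₗ[R] annSub P₀ M where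
  toFun f := ⟨f (Ideal.Quotient.mk P₀ 1), fun a ha => by
    rw [← map_smul]
    have : a • (Ideal.Quotient.mk P₀ 1) = 0 := by
      rw [smul_mk_one]
      exact Ideal.Quotient.eq_zero_iff_mem.mpr ha
    rw [this, map_zero]⟩
  map_add' f f' := Subtype.ext (LinearMap.add_apply f f' _)
  map_smul' c f := Subtype.ext (LinearMap.smul_apply c f _)
  invFun x := Submodule.liftQ P₀ (LinearMap.toSpanSingleton R M x.1) (fun a ha => by
    rw [LinearMap.mem_ker, LinearMap.toSpanSingleton_apply]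
    exact x.2 a ha)
  left_inv f := by
    apply LinearMap.ext
    intro z
    obtain ⟨r, rfl⟩ := Ideal.Quotient.mk_surjective z
    show r • f (Ideal.Quotient.mk P₀ 1) = f (Ideal.Quotient.mk P₀ r)
    rw [← map_smul, smul_mk_one]
  right_inv x := by
    apply Subtype.ext
    show (1 : R) • x.1 = x.1
    rw [one_smul]

theorem homQuotEquiv_apply (f : (R ⧸ P₀) →ₗ[R] M) :
    ((homQuotEquiv P₀ M f : annSub P₀ M) : M) = f (Ideal.Quotient.mk P₀ 1) := rfl

variable {𝒜}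
variable (ℳ : ι → AddSubgroup M) [Decomposition ℳ] [SetLike.GradedSMul 𝒜 ℳ]

include 𝒜 in
theorem annSub_isHomogeneous (hP₀ : P₀.IsHomogeneous 𝒜) : (annSub P₀ M).IsHomogeneous ℳ := by
  classical
  intro i x hx a ha
  rw [← sum_support_decompose 𝒜 a, Finset.sum_smul]
  refine Finset.sum_eq_zero (fun k _ => ?_)
  have hk : (decompose 𝒜 a k : R) ∈ P₀ := hP₀ k ha
  rw [← decompose_smul_of_mem_left ℳ 𝒜 (decompose 𝒜 a k).2 x i, hx _ hk, decompose_zero]
  rfl

variable {M' : Type u} [AddCommGroup M'] [Module R M'] (ℳ' : ι → AddSubgroup M')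
  [Decomposition ℳ'] [SetLike.GradedSMul 𝒜 ℳ']

theorem isHomogeneous_map {q : M →ₗ[R] M'} (hq : IsGrHom ℳ ℳ' q) {K : Submodule R M}
    (hK : K.IsHomogeneous ℳ) : (K.map q).IsHomogeneous ℳ' := by
  rintro i _ ⟨w, hw, rfl⟩
  rw [decompose_map ℳ ℳ' hq]
  exact ⟨_, hK i hw, rfl⟩

end AnnSub

section Ext0

variable {R : Type u} [CommRing R] (P₀ : Ideal R)
variable (M : Type u) [AddCommGroup M] [Module R M]

/-- `Ext^0_R(R/P₀, M) ≅ (0 :_M P₀)`. -/
noncomputable def ext0Equiv :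
    Ext.{u} (ModuleCat.of R (R ⧸ P₀)) (ModuleCat.of R M) 0 ≃ₗ[R] annSub P₀ M :=
  (Ext.linearEquiv₀.trans ModuleCat.homLinearEquiv).trans (homQuotEquiv P₀ M)

variable {M}
variable {M' : Type u} [AddCommGroup M'] [Module R M']

theorem ext0Equiv_mk₀ (φ : ModuleCat.of R (R ⧸ P₀) ⟶ ModuleCat.of R M) :
    ((ext0Equiv P₀ M (Ext.mk₀ φ) : annSub P₀ M) : M) = φ.hom (Ideal.Quotient.mk P₀ 1) := by
  have h1 : (Ext.linearEquiv₀ (R := R) (Ext.mk₀ φ)) = φ := by
    apply (Ext.mk₀_bijective _ _).1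
    exact Ext.mk₀_linearEquiv₀_apply _
  show ((homQuotEquiv P₀ M (ModuleCat.homLinearEquiv (S := R)
    (Ext.linearEquiv₀ (R := R) (Ext.mk₀ φ))) : annSub P₀ M) : M) = _
  rw [h1]
  rfl

theorem ext0Equiv_comp (q : M →ₗ[R] M')
    (x : Ext.{u} (ModuleCat.of R (R ⧸ P₀)) (ModuleCat.of R M) 0) :
    ((ext0Equiv P₀ M' (x.comp (Ext.mk₀ (ModuleCat.ofHom q)) (add_zero 0)) : annSub P₀ M') : M') =
      q ((ext0Equiv P₀ M x : annSub P₀ M) : M) := by
  obtain ⟨φ, rfl⟩ := (Ext.mk₀_bijective _ _).2 x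
  rw [Ext.mk₀_comp_mk₀, ext0Equiv_mk₀, ext0Equiv_mk₀]
  rfl

end Ext0

section Gradable

variable {ι : Type} [AddCommGroup ι] [DecidableEq ι]
variable {R : Type u} [CommRing R] (𝒜 : ι → AddSubgroup R) [GradedRing 𝒜]
variable (P₀ : Ideal R)

/-- `Y` is isomorphic to (the underlying module of) a graded module killed by `P₀`. -/
def Gradable (Y : Type u) [AddCommGroup Y] [Module R Y] : Prop :=
  ∃ X : GMod.{u} 𝒜, (∀ a ∈ P₀, ∀ x : X.carrier, a • x = 0) ∧ Nonempty (Y ≃ₗ[R] X.carrier)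

variable {𝒜 P₀}

theorem Gradable.of_equiv {Y Y' : Type u} [AddCommGroup Y] [Module R Y] [AddCommGroup Y']
    [Module R Y'] (e : Y ≃ₗ[R] Y') (h : Gradable 𝒜 P₀ Y') : Gradable 𝒜 P₀ Y := by
  obtain ⟨X, hX, ⟨e'⟩⟩ := h
  exact ⟨X, hX, ⟨e.trans e'⟩⟩

theorem gradable_sq {U : Type u} [AddCommGroup U] [Module R U] (𝒰 : ι → AddSubgroup U)
    [Decomposition 𝒰] [SetLike.GradedSMul 𝒜 𝒰] (Z B : Submodule R U)
    (hZ : Z.IsHomogeneous 𝒰) (hB : B.IsHomogeneous 𝒰)
    (hkill : ∀ a ∈ P₀, ∀ z ∈ Z, a • z = 0) :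
    Gradable 𝒜 P₀ (↥Z ⧸ B.comap Z.subtype) := by
  refine ⟨Groth.Agent.S18661.sqGMod 𝒜 𝒰 Z B hZ hB, ?_, ⟨LinearEquiv.refl R _⟩⟩
  intro a ha x
  obtain ⟨z, rfl⟩ := (B.comap Z.subtype).mkQ_surjective x
  have : a • z = 0 := Subtype.ext (hkill a ha z.1 z.2)
  show a • (B.comap Z.subtype).mkQ z = 0
  rw [← map_smul, this, map_zero]

variable (𝒜) in
/-- Every graded module embeds in a `*`injective one with graded cokernel. -/
theorem exists_ses (M : GMod.{u} 𝒜) : ∃ (I M' : GMod.{u} 𝒜) (i : M.carrier →ₗ[R] I.carrier)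
    (q : I.carrier →ₗ[R] M'.carrier), IsStarInj 𝒜 I.gr ∧ IsGrHom I.gr M'.gr q ∧
      Function.Injective i ∧ Function.Surjective q ∧ ∀ x, q x = 0 ↔ x ∈ LinearMap.range i := by
  obtain ⟨I, i, hI, hi, hinj⟩ := Groth.Agent.Lib.H74Coind.exists_starInj_embedding 𝒜 M.gr
  have hB := isHomogeneous_range M.gr I.gr hi
  exact ⟨I, Groth.Agent.S13215.quotGMod 𝒜 I.gr _ hB, i, Groth.Agent.S13215.quotMap 𝒜 I.gr _ hB,
    hI, Groth.Agent.S13215.quotMap_isGrHom 𝒜 I.gr _ hB, hinj,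
    Groth.Agent.S13215.quotMap_surjective 𝒜 I.gr _ hB,
    Groth.Agent.S13215.quotMap_eq_zero_iff 𝒜 I.gr _ hB⟩

end Gradable

section Shift

variable {R : Type u} [CommRing R] (P₀ : Ideal R)
variable {M I M' : Type u} [AddCommGroup M] [Module R M] [AddCommGroup I] [Module R I]
  [AddCommGroup M'] [Module R M']
  (i : M →ₗ[R] I) (q : I →ₗ[R] M') (hinj : Function.Injective i) (hsurj : Function.Surjective q)
  (hex : ∀ x, q x = 0 ↔ x ∈ LinearMap.range i)
  (hvan : ∀ n : ℕ, Subsingleton (Ext.{u} (ModuleCat.of R (R ⧸ P₀)) (ModuleCat.of R I) (n + 1)))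

include hex in
theorem comp_eq_zero_of_hex : q ∘ₗ i = 0 := by
  ext m
  exact (hex (i m)).mpr ⟨m, rfl⟩

/-- The short complex `M → I → M'`. -/
noncomputable abbrev sc (hc : q ∘ₗ i = 0) : ShortComplex (ModuleCat.{u} R) :=
  ModuleCat.shortComplexOfCompEqZero i q hc

include hinj hsurj hex in
theorem sc_shortExact (hc : q ∘ₗ i = 0) : (sc i q hc).ShortExact := by
  refine ModuleCat.shortComplex_shortExact _ ?_ hinj hsurj
  intro (x : I)
  show q x = 0 ↔ x ∈ Set.range i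
  rw [hex]
  rfl

/-- The connecting map `Ext^n(R/P₀, M') → Ext^{n+1}(R/P₀, M)`, `R`-linear. -/
noncomputable def δL (hc : q ∘ₗ i = 0) (hS : (sc i q hc).ShortExact) (n : ℕ) :
    Ext.{u} (ModuleCat.of R (R ⧸ P₀)) (ModuleCat.of R M') n →ₗ[R]
      Ext.{u} (ModuleCat.of R (R ⧸ P₀)) (ModuleCat.of R M) (n + 1) :=
  Ext.postcompOfLinear hS.extClass R (ModuleCat.of R (R ⧸ P₀)) rfl

theorem δL_apply (hc : q ∘ₗ i = 0) (hS : (sc i q hc).ShortExact) (n : ℕ)
    (x : Ext.{u} (ModuleCat.of R (R ⧸ P₀)) (ModuleCat.of R M') n) :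
    δL P₀ i q hc hS n x = x.comp hS.extClass rfl := rfl

include hvan in
theorem δL_surjective (hc : q ∘ₗ i = 0) (hS : (sc i q hc).ShortExact) (n : ℕ) :
    Function.Surjective (δL P₀ i q hc hS n) := by
  intro x
  have := hvan n
  exact Ext.covariant_sequence_exact₁ (ModuleCat.of R (R ⧸ P₀)) hS x (Subsingleton.elim _ _) rfl

include hvan in
theorem δL_injective (hc : q ∘ₗ i = 0) (hS : (sc i q hc).ShortExact) (n : ℕ) :
    Function.Injective (δL P₀ i q hc hS (n + 1)) := by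
  rw [injective_iff_map_eq_zero]
  intro x hx
  have := hvan n
  obtain ⟨y, rfl⟩ := Ext.covariant_sequence_exact₃ (ModuleCat.of R (R ⧸ P₀)) hS x rfl hx
  rw [Subsingleton.elim y 0, Ext.zero_comp]

theorem mem_ker_δL_zero (hc : q ∘ₗ i = 0) (hS : (sc i q hc).ShortExact)
    (x : Ext.{u} (ModuleCat.of R (R ⧸ P₀)) (ModuleCat.of R M') 0) :
    x ∈ LinearMap.ker (δL P₀ i q hc hS 0) ↔
      ∃ y : Ext.{u} (ModuleCat.of R (R ⧸ P₀)) (ModuleCat.of R I) 0,
        y.comp (Ext.mk₀ (ModuleCat.ofHom q)) (add_zero 0) = x := by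
  rw [LinearMap.mem_ker, δL_apply]
  constructor
  · intro hx
    exact Ext.covariant_sequence_exact₃ (ModuleCat.of R (R ⧸ P₀)) hS x rfl hx
  · rintro ⟨y, rfl⟩
    show (y.comp (Ext.mk₀ (sc i q hc).g) (add_zero 0)).comp hS.extClass rfl = 0
    rw [Ext.comp_assoc_of_second_deg_zero, hS.comp_extClass, Ext.comp_zero]

end Shift

section Main

variable {ι : Type} [AddCommGroup ι] [DecidableEq ι]
variable {R : Type u} [CommRing R] [IsNoetherianRing R] (𝒜 : ι → AddSubgroup R) [GradedRing 𝒜]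
variable (P₀ : Ideal R) (hP₀ : P₀.IsHomogeneous 𝒜)

include hP₀ in
theorem gradable_ext_zero (M : GMod.{u} 𝒜) :
    Gradable 𝒜 P₀ (Ext.{u} (ModuleCat.of R (R ⧸ P₀)) (ModuleCat.of R M.carrier) 0) := by
  have hK := annSub_isHomogeneous (M := M.carrier) M.gr hP₀
  have hbot : (⊥ : Submodule R M.carrier).IsHomogeneous M.gr := fun i x hx => by
    rw [(Submodule.mem_bot R).mp hx, decompose_zero]
    exact zero_mem _
  have hb : (⊥ : Submodule R M.carrier).comap (annSub P₀ M.carrier).subtype = ⊥ := by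
    rw [Submodule.comap_bot, Submodule.ker_subtype]
  have e : annSub P₀ M.carrier ≃ₗ[R]
      (↥(annSub P₀ M.carrier) ⧸ (⊥ : Submodule R M.carrier).comap (annSub P₀ M.carrier).subtype) :=
    (Submodule.quotEquivOfEqBot _ hb).symm
  exact Gradable.of_equiv ((ext0Equiv P₀ M.carrier).trans e)
    (gradable_sq M.gr (annSub P₀ M.carrier) ⊥ hK hbot (fun a ha z hz => hz a ha))

include hP₀ in
theorem gradable_ext_one (M : GMod.{u} 𝒜) :
    Gradable 𝒜 P₀ (Ext.{u} (ModuleCat.of R (R ⧸ P₀)) (ModuleCat.of R M.carrier) 1) := by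
  obtain ⟨I, M', i, q, hI, hq, hinj, hsurj, hex⟩ := exists_ses 𝒜 M
  have hvan : ∀ n : ℕ, Subsingleton
      (Ext.{u} (ModuleCat.of R (R ⧸ P₀)) (ModuleCat.of R I.carrier) (n + 1)) :=
    fun n => Groth.Agent.S13216.extVanish_cyclic 𝒜 I.gr hI n P₀ hP₀
  have hc := comp_eq_zero_of_hex i q hex
  have hS := sc_shortExact i q hinj hsurj hex hc
  have hKI := annSub_isHomogeneous (M := I.carrier) I.gr hP₀
  have hKM' := annSub_isHomogeneous (M := M'.carrier) M'.gr hP₀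
  have hB : ((annSub P₀ I.carrier).map q).IsHomogeneous M'.gr := isHomogeneous_map I.gr M'.gr hq hKI
  refine Gradable.of_equiv ?_
    (gradable_sq M'.gr (annSub P₀ M'.carrier) ((annSub P₀ I.carrier).map q) hKM' hB
      (fun a ha z hz => hz a ha))
  refine ((δL P₀ i q hc hS 0).quotKerEquivOfSurjective (δL_surjective P₀ i q hvan hc hS 0)).symm.trans
    (Submodule.Quotient.equiv _ _ (ext0Equiv P₀ M'.carrier) ?_)
  ext z
  constructor
  · rintro ⟨x, hx, rfl⟩
    obtain ⟨y, rfl⟩ := (mem_ker_δL_zero P₀ i q hc hS x).mp hx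
    show ((ext0Equiv P₀ M'.carrier _ : annSub P₀ M'.carrier) : M'.carrier) ∈
      (annSub P₀ I.carrier).map q
    rw [ext0Equiv_comp]
    exact ⟨_, (ext0Equiv P₀ I.carrier y).2, rfl⟩
  · rintro ⟨w, hw, hwz⟩
    refine ⟨(ext0Equiv P₀ M'.carrier).symm z, ?_, LinearEquiv.apply_symm_apply _ _⟩
    rw [SetLike.mem_coe, mem_ker_δL_zero]
    refine ⟨(ext0Equiv P₀ I.carrier).symm ⟨w, hw⟩, ?_⟩
    apply (ext0Equiv P₀ M'.carrier).injective
    apply Subtype.ext
    rw [ext0Equiv_comp, LinearEquiv.apply_symm_apply, LinearEquiv.apply_symm_apply]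
    exact hwz

include hP₀ in
/-- `Ext^n_R(R/P₀, M)` of a graded module is (isomorphic to) a graded module killed by `P₀`. -/
theorem gradable_ext (n : ℕ) : ∀ M : GMod.{u} 𝒜,
    Gradable 𝒜 P₀ (Ext.{u} (ModuleCat.of R (R ⧸ P₀)) (ModuleCat.of R M.carrier) n) := by
  induction n using Nat.twoStepInduction with
  | zero => exact gradable_ext_zero 𝒜 P₀ hP₀
  | one => exact gradable_ext_one 𝒜 P₀ hP₀
  | more n _ ih =>
    intro M
    obtain ⟨I, M', i, q, hI, hq, hinj, hsurj, hex⟩ := exists_ses 𝒜 M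
    have hvan : ∀ n : ℕ, Subsingleton
        (Ext.{u} (ModuleCat.of R (R ⧸ P₀)) (ModuleCat.of R I.carrier) (n + 1)) :=
      fun n => Groth.Agent.S13216.extVanish_cyclic 𝒜 I.gr hI n P₀ hP₀
    have hc := comp_eq_zero_of_hex i q hex
    have hS := sc_shortExact i q hinj hsurj hex hc
    exact Gradable.of_equiv (LinearEquiv.ofBijective (δL P₀ i q hc hS (n + 1))
      ⟨δL_injective P₀ i q hvan hc hS n, δL_surjective P₀ i q hvan hc hS (n + 1)⟩).symm (ih M')

end Main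

end Groth.Agent.Lib.H74BassCore
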