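import Mathlib
import Groth.Agent.Lib.H74BassCore4
import Groth.Agent.Lib.H26ExtLocIso

/-!
# Bass numbers at a non-homogeneous prime, assembly (helper74)
-/

set_option autoImplicit false
set_option linter.unusedSectionVars false

universe u

open CategoryTheory Abelian DirectSum GrLC IsLocalRing

namespace Groth.Agent.Lib.H74BassCore

section Pi

variable {A : Type u} [CommRing A] [IsLocalRing A] {D' : Type u} [AddCommGroup D'] [Module A D']
  (e₁ : D') (hspan : ∀ y : D', ∃ a : A, a • e₁ = y)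
  (hann : ∀ a : A, a • e₁ = 0 → a ∈ maximalIdeal A)

include hspan in
theorem toSpanSingleton_surjective : Function.Surjective (LinearMap.toSpanSingleton A D' e₁) := by
  intro y
  obtain ⟨a, ha⟩ := hspan y
  exact ⟨a, by rw [LinearMap.toSpanSingleton_apply]; exact ha⟩

/-- The map `D' → κ`, `a • e₁ ↦ residue a`, for a cyclic module whose annihilator lies in the
maximal ideal. -/
noncomputable def piMap : D' →ₗ[A] ResidueField A :=
  (Submodule.liftQ (LinearMap.ker (LinearMap.toSpanSingleton A D' e₁))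
    (Algebra.linearMap A (ResidueField A)) (by
      intro a ha
      rw [LinearMap.mem_ker, LinearMap.toSpanSingleton_apply] at ha
      rw [LinearMap.mem_ker, Algebra.linearMap_apply]
      exact (residue_eq_zero_iff a).mpr (hann a ha))) ∘ₗ
    ((LinearMap.toSpanSingleton A D' e₁).quotKerEquivOfSurjective
      (toSpanSingleton_surjective e₁ hspan)).symm.toLinearMap

theorem piMap_smul (a : A) : piMap e₁ hspan hann (a • e₁) = residue A a := by
  have h1 : ((LinearMap.toSpanSingleton A D' e₁).quotKerEquivOfSurjective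
      (toSpanSingleton_surjective e₁ hspan)).symm (a • e₁) =
      Submodule.Quotient.mk a := by
    rw [LinearEquiv.symm_apply_eq]
    rw [LinearMap.quotKerEquivOfSurjective_apply_mk, LinearMap.toSpanSingleton_apply]
  unfold piMap
  rw [LinearMap.comp_apply, LinearEquiv.coe_coe, h1, Submodule.liftQ_apply,
    Algebra.linearMap_apply]
  rfl

theorem piMap_surjective : Function.Surjective (piMap e₁ hspan hann) := by
  intro z
  obtain ⟨a, rfl⟩ := residue_surjective z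
  exact ⟨a • e₁, piMap_smul e₁ hspan hann a⟩

theorem piMap_eq_zero_iff (y : D') :
    piMap e₁ hspan hann y = 0 ↔ ∃ a ∈ maximalIdeal A, a • e₁ = y := by
  constructor
  · intro h
    obtain ⟨a, rfl⟩ := hspan y
    rw [piMap_smul] at h
    exact ⟨a, (residue_eq_zero_iff a).mp h, rfl⟩
  · rintro ⟨a, ha, rfl⟩
    rw [piMap_smul]
    exact (residue_eq_zero_iff a).mpr ha

end Pi

section LocQuot

variable {R : Type u} [CommRing R]

theorem isLocMap_of_isLocalizedModule (W : Submonoid R) {A : Type*} [CommRing A] [Algebra R A]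
    {X Y : Type*} [AddCommGroup X] [Module R X] [AddCommGroup Y] [Module R Y] [Module A Y]
    [IsScalarTower R A Y] (f : X →ₗ[R] Y) [IsLocalizedModule W f] : IsLocMap W A f where
  map_add := map_add f
  map_smul r x := by rw [map_smul, algebraMap_smul]
  eq_zero_iff x := by
    rw [IsLocalizedModule.eq_zero_iff W f]
    rfl
  surj y := by
    obtain ⟨⟨x, s⟩, h⟩ := IsLocalizedModule.surj W f y
    refine ⟨x, s, ?_⟩
    rw [algebraMap_smul]
    exact h

theorem IsLocMap.comp_equiv {W : Submonoid R} {A : Type*} [CommRing A] [Algebra R A]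
    {X X' Y : Type*} [AddCommGroup X] [Module R X] [AddCommGroup X'] [Module R X']
    [AddCommGroup Y] [Module A Y] {ι : X → Y} (hι : IsLocMap W A ι) (e : X' ≃ₗ[R] X) :
    IsLocMap W A (fun x' => ι (e x')) where
  map_add x y := by rw [_root_.map_add, hι.map_add]
  map_smul r x := by rw [_root_.map_smul, hι.map_smul]
  eq_zero_iff x := by
    rw [hι.eq_zero_iff]
    constructor
    · rintro ⟨s, hs⟩
      exact ⟨s, e.injective (by rw [_root_.map_smul, hs, _root_.map_zero])⟩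
    · rintro ⟨s, hs⟩
      exact ⟨s, by rw [← _root_.map_smul, hs, _root_.map_zero]⟩
  surj y := by
    obtain ⟨x, s, h⟩ := hι.surj y
    exact ⟨e.symm x, s, by rw [LinearEquiv.apply_symm_apply]; exact h⟩

variable (P₀ 𝔭 : Ideal R) [hP : P₀.IsPrime] [h𝔭 : 𝔭.IsPrime] (hle : P₀ ≤ 𝔭)

/-- The generator of `(R/P₀)_𝔭`. -/
noncomputable def e1 : LocalizedModule 𝔭.primeCompl (R ⧸ P₀) :=
  LocalizedModule.mkLinearMap 𝔭.primeCompl (R ⧸ P₀) (Ideal.Quotient.mk P₀ 1)

theorem isLocMap_mk :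
    IsLocMap 𝔭.primeCompl (Localization.AtPrime 𝔭)
      (LocalizedModule.mkLinearMap 𝔭.primeCompl (R ⧸ P₀)) :=
  isLocMap_of_isLocalizedModule 𝔭.primeCompl _

theorem mk_apply_mk (r : R) :
    LocalizedModule.mkLinearMap 𝔭.primeCompl (R ⧸ P₀) (Ideal.Quotient.mk P₀ r) =
      algebraMap R (Localization.AtPrime 𝔭) r • e1 P₀ 𝔭 := by
  unfold e1
  rw [← (isLocMap_mk P₀ 𝔭).map_smul, smul_mk_one]

theorem isUnit_algebraMap {w : R} (hw : w ∉ 𝔭) :
    IsUnit (algebraMap R (Localization.AtPrime 𝔭) w) :=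
  IsLocalization.map_units (Localization.AtPrime 𝔭) (⟨w, hw⟩ : 𝔭.primeCompl)

theorem e1_span (y : LocalizedModule 𝔭.primeCompl (R ⧸ P₀)) :
    ∃ a : Localization.AtPrime 𝔭, a • e1 P₀ 𝔭 = y := by
  obtain ⟨d, s, hs⟩ := (isLocMap_mk P₀ 𝔭).surj y
  obtain ⟨r, rfl⟩ := Ideal.Quotient.mk_surjective d
  rw [mk_apply_mk] at hs
  refine ⟨IsLocalization.mk' (Localization.AtPrime 𝔭) r s, ?_⟩
  apply (IsUnit.smul_left_cancel (isUnit_algebraMap 𝔭 s.2)).mp
  rw [hs, smul_smul, mul_comm, IsLocalization.mk'_spec]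

include hle in
theorem mk_eq_zero_of_smul {s r : R} (hs : s ∉ 𝔭) (h : s • (Ideal.Quotient.mk P₀ r) = 0) :
    r ∈ P₀ := by
  have h1 : Ideal.Quotient.mk P₀ (s * r) = 0 := by
    rw [← h, ← smul_mk_one P₀ (s * r), mul_smul, smul_mk_one]
  have h2 : s * r ∈ P₀ := Ideal.Quotient.eq_zero_iff_mem.mp h1
  exact (hP.mem_or_mem h2).resolve_left (fun h' => hs (hle h'))

include hle in
theorem e1_ann (a : Localization.AtPrime 𝔭) (ha : a • e1 P₀ 𝔭 = 0) :
    a ∈ maximalIdeal (Localization.AtPrime 𝔭) := by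
  obtain ⟨⟨r, w⟩, hrw⟩ := IsLocalization.surj 𝔭.primeCompl a
  have hrw' : a * algebraMap R (Localization.AtPrime 𝔭) (w : R) =
    algebraMap R (Localization.AtPrime 𝔭) r := hrw
  have h1 : LocalizedModule.mkLinearMap 𝔭.primeCompl (R ⧸ P₀) (Ideal.Quotient.mk P₀ r) = 0 := by
    rw [mk_apply_mk, ← hrw', mul_comm, mul_smul, ha, smul_zero]
  obtain ⟨s, hs⟩ := ((isLocMap_mk P₀ 𝔭).eq_zero_iff _).mp h1
  have hr : r ∈ 𝔭 := hle (mk_eq_zero_of_smul P₀ 𝔭 hle s.2 hs)
  have h2 : a * algebraMap R (Localization.AtPrime 𝔭) (w : R) ∈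
      maximalIdeal (Localization.AtPrime 𝔭) := by
    rw [hrw']
    exact (IsLocalization.AtPrime.to_map_mem_maximal_iff _ 𝔭 r).mpr hr
  rcases (Ideal.IsPrime.mem_or_mem inferInstance h2) with h3 | h3
  · exact h3
  · exact absurd (isUnit_algebraMap 𝔭 w.2) ((mem_maximalIdeal _).mp h3)

include hle in
theorem smul_injective_Dloc {g : R} (hgP : g ∉ P₀) (y : LocalizedModule 𝔭.primeCompl (R ⧸ P₀))
    (h : algebraMap R (Localization.AtPrime 𝔭) g • y = 0) : y = 0 := by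
  obtain ⟨d, s, hs⟩ := (isLocMap_mk P₀ 𝔭).surj y
  obtain ⟨r, rfl⟩ := Ideal.Quotient.mk_surjective d
  have h1 : LocalizedModule.mkLinearMap 𝔭.primeCompl (R ⧸ P₀)
      (g • Ideal.Quotient.mk P₀ r) = 0 := by
    rw [(isLocMap_mk P₀ 𝔭).map_smul, ← hs, smul_comm, h, smul_zero]
  obtain ⟨s₂, hs₂⟩ := ((isLocMap_mk P₀ 𝔭).eq_zero_iff _).mp h1
  have h2 : (g * r) ∈ P₀ := by
    refine mk_eq_zero_of_smul P₀ 𝔭 hle s₂.2 ?_
    rw [← smul_mk_one P₀ (g * r), mul_smul, smul_mk_one]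
    exact hs₂
  have hr : r ∈ P₀ := (hP.mem_or_mem h2).resolve_left hgP
  rw [Ideal.Quotient.eq_zero_iff_mem.mpr hr, (isLocMap_mk P₀ 𝔭).map_zero] at hs
  exact (IsUnit.smul_eq_zero (isUnit_algebraMap 𝔭 s.2)).mp hs

end LocQuot

section Ker

variable {ι' : Type} [AddCommGroup ι'] [DecidableEq ι']
variable {R : Type u} [CommRing R] (𝒜 : ι' → AddSubgroup R) [GradedRing 𝒜]
variable (P₀ 𝔭 : Ideal R) [hP : P₀.IsPrime] [h𝔭 : 𝔭.IsPrime] (hle : P₀ ≤ 𝔭)
  (hcore : ∀ s, SetLike.IsHomogeneousElem 𝒜 s → s ∉ P₀ → s ∉ 𝔭)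
  {g : R} (hg𝔭 : g ∈ 𝔭)
  (hgen : ∀ u ∈ 𝔭, ∃ s, SetLike.IsHomogeneousElem 𝒜 s ∧ s ∉ P₀ ∧ ∃ h : R, s * u - g * h ∈ P₀)

/-- The projection `(R/P₀)_𝔭 → κ(𝔭)`. -/
noncomputable def piLoc : LocalizedModule 𝔭.primeCompl (R ⧸ P₀) →ₗ[Localization.AtPrime 𝔭]
    ResidueField (Localization.AtPrime 𝔭) :=
  piMap (e1 P₀ 𝔭) (e1_span P₀ 𝔭) (e1_ann P₀ 𝔭 hle)

theorem piLoc_surjective : Function.Surjective (piLoc P₀ 𝔭 hle) :=
  piMap_surjective _ _ _

include hcore hg𝔭 hgen in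
theorem ker_piLoc : LinearMap.ker (piLoc P₀ 𝔭 hle) =
    LinearMap.range (algebraMap R (Localization.AtPrime 𝔭) g •
      (LinearMap.id : LocalizedModule 𝔭.primeCompl (R ⧸ P₀) →ₗ[Localization.AtPrime 𝔭] _)) := by
  ext y
  rw [LinearMap.mem_ker]
  unfold piLoc
  rw [piMap_eq_zero_iff]
  constructor
  · rintro ⟨a, ha, rfl⟩
    obtain ⟨⟨r, w⟩, hrw⟩ := IsLocalization.surj 𝔭.primeCompl a
    have hrw' : a * algebraMap R (Localization.AtPrime 𝔭) (w : R) =
      algebraMap R (Localization.AtPrime 𝔭) r := hrw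
    have hr : r ∈ 𝔭 := by
      rw [← IsLocalization.AtPrime.to_map_mem_maximal_iff (Localization.AtPrime 𝔭) 𝔭 r, ← hrw']
      exact Ideal.mul_mem_right _ _ ha
    obtain ⟨s, hs, hsP, h, hh⟩ := hgen r hr
    have hu : IsUnit (algebraMap R (Localization.AtPrime 𝔭) s *
        algebraMap R (Localization.AtPrime 𝔭) (w : R)) :=
      (isUnit_algebraMap 𝔭 (hcore s hs hsP)).mul (isUnit_algebraMap 𝔭 w.2)
    refine mem_of_isUnit_smul_mem hu ?_
    have e1' : (algebraMap R (Localization.AtPrime 𝔭) s *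
        algebraMap R (Localization.AtPrime 𝔭) (w : R)) • a • e1 P₀ 𝔭 =
        algebraMap R (Localization.AtPrime 𝔭) (s * r) • e1 P₀ 𝔭 := by
      rw [map_mul, ← hrw', smul_smul]
      congr 1
      ring
    have e2 : Ideal.Quotient.mk P₀ (s * r) = Ideal.Quotient.mk P₀ (g * h) :=
      (Ideal.Quotient.mk_eq_mk_iff_sub_mem _ _).mpr hh
    rw [e1', ← mk_apply_mk, e2, ← smul_mk_one P₀ (g * h), mul_smul, smul_mk_one,
      (isLocMap_mk P₀ 𝔭).map_smul]
    exact ⟨_, rfl⟩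
  · rintro ⟨z, rfl⟩
    obtain ⟨b, rfl⟩ := e1_span P₀ 𝔭 z
    refine ⟨algebraMap R (Localization.AtPrime 𝔭) g * b, ?_, ?_⟩
    · exact Ideal.mul_mem_right _ _
        ((IsLocalization.AtPrime.to_map_mem_maximal_iff _ 𝔭 g).mpr hg𝔭)
    · show _ = algebraMap R (Localization.AtPrime 𝔭) g • (b • e1 P₀ 𝔭)
      rw [mul_smul]

end Ker

end Groth.Agent.Lib.H74BassCore
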