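import Mathlib
import Groth.Agent.Lib.H74BassCore5
import Groth.Prelude.Def_GrLC2

/-!
# Bass numbers at a non-homogeneous prime: `μ^{i+1}(p, M) = μ^i(p*, M)` (helper74)
-/

set_option autoImplicit false
set_option linter.unusedSectionVars false

universe u

open CategoryTheory Abelian DirectSum GrLC IsLocalRing

namespace Groth.Agent.Lib.H74BassCore

open Groth.Agent.Lib.H26ExtLocIso

section Assembly

variable {ι' : Type} [AddCommGroup ι'] [DecidableEq ι']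
variable {R : Type u} [CommRing R] [IsNoetherianRing R] (𝒜 : ι' → AddSubgroup R) [GradedRing 𝒜]
variable (P₀ : Ideal R) [hP : P₀.IsPrime] (hP₀ : P₀.IsHomogeneous 𝒜)
variable (M : Type u) [AddCommGroup M] [Module R M]

/-- `Ext^n` over `R_𝔭` of `(R/P₀)_𝔭` into `M_𝔭`. -/
abbrev ELoc (𝔭 : Ideal R) [𝔭.IsPrime] (n : ℕ) : Type u :=
  Ext.{u} (ModuleCat.of (Localization.AtPrime 𝔭) (LocalizedModule 𝔭.primeCompl (R ⧸ P₀)))
    (ModuleCat.of (Localization.AtPrime 𝔭) (LocalizedModule 𝔭.primeCompl M)) n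

/-- The localization map `Ext^n_R(R/P₀, M) → Ext^n_{R_𝔭}((R/P₀)_𝔭, M_𝔭)`. -/
noncomputable def extLoc (𝔭 : Ideal R) [𝔭.IsPrime] (n : ℕ)
    (x : Ext.{u} (ModuleCat.of R (R ⧸ P₀)) (ModuleCat.of R M) n) : ELoc P₀ M 𝔭 n :=
  extLocFun 𝔭.primeCompl (R ⧸ P₀) M (LocalizedModule 𝔭.primeCompl (R ⧸ P₀))
    (LocalizedModule.mkLinearMap 𝔭.primeCompl (R ⧸ P₀)) (LocalizedModule 𝔭.primeCompl M)
    (LocalizedModule.mkLinearMap 𝔭.primeCompl M) n x

theorem isLocMap_extLoc (𝔭 : Ideal R) [𝔭.IsPrime] (n : ℕ) :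
    IsLocMap 𝔭.primeCompl (Localization.AtPrime 𝔭) (extLoc P₀ M 𝔭 n) where
  map_add x y := extLocFun_add _ _ _ _ _ _ _ n x y
  map_smul r x := extLocFun_smul _ _ _ _ _ _ _ n r x
  eq_zero_iff x := extLocFun_eq_zero_iff _ _ _ _ _ _ _ n x
  surj y := exists_smul_eq_extLocFun _ _ _ _ _ _ _ n y

end Assembly

section Count

variable {ι' : Type} [AddCommGroup ι'] [DecidableEq ι']
variable {R : Type u} [CommRing R] [IsNoetherianRing R] (𝒜 : ι' → AddSubgroup R) [GradedRing 𝒜]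
variable (P₀ : Ideal R) [hP : P₀.IsPrime] (hP₀ : P₀.IsHomogeneous 𝒜)
variable (M : Type u) [AddCommGroup M] [Module R M]
variable (ℳ : ι' → AddSubgroup M) [Decomposition ℳ] [SetLike.GradedSMul 𝒜 ℳ]

include hP₀ ℳ in
/-- The localizations of `Ext^n_R(R/P₀, M)` at primes with core `P₀` have constant "rank". -/
theorem exists_length_eq (n : ℕ) : ∃ c : ℕ∞, ∀ (𝔭 : Ideal R) [𝔭.IsPrime] (_ : P₀ ≤ 𝔭)
    (_ : ∀ s, SetLike.IsHomogeneousElem 𝒜 s → s ∉ P₀ → s ∉ 𝔭)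
    (g : R) (_ : g ∈ 𝔭)
    (_ : ∀ u ∈ 𝔭, ∃ s, SetLike.IsHomogeneousElem 𝒜 s ∧ s ∉ P₀ ∧ ∃ h : R, s * u - g * h ∈ P₀),
    (g ∉ P₀ → ∀ x : ELoc P₀ M 𝔭 n,
      algebraMap R (Localization.AtPrime 𝔭) g • x = 0 → x = 0) ∧
    Module.length (Localization.AtPrime 𝔭) (ELoc P₀ M 𝔭 n ⧸
      LinearMap.range (algebraMap R (Localization.AtPrime 𝔭) g •
        (LinearMap.id : ELoc P₀ M 𝔭 n →ₗ[Localization.AtPrime 𝔭] _))) = c := by
  obtain ⟨X, hkill, ⟨e⟩⟩ := gradable_ext 𝒜 P₀ hP₀ n (GMod.of 𝒜 M ℳ)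
  obtain ⟨T, hT, hind, hmax⟩ := exists_maximal_indep P₀ X.gr
  refine ⟨ENat.card T, ?_⟩
  intro 𝔭 _ hle hcore g hg𝔭 hgen
  have hι : IsLocMap 𝔭.primeCompl (Localization.AtPrime 𝔭)
      (fun x : X.carrier => extLoc P₀ M 𝔭 n (e.symm x)) :=
    (isLocMap_extLoc P₀ M 𝔭 n).comp_equiv e.symm
  exact ⟨fun hgP => eq_zero_of_smul_eq_zero (𝒜 := 𝒜) hkill hT hind hmax 𝔭 hle hcore hι hgP,
    length_quot_eq_card (𝒜 := 𝒜) hkill hT hind hmax 𝔭 hle hcore hg𝔭 hgen hι⟩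

end Count

section Final

variable {ι' : Type} [AddCommGroup ι'] [DecidableEq ι']
variable {R : Type u} [CommRing R] [IsNoetherianRing R] (𝒜 : ι' → AddSubgroup R) [GradedRing 𝒜]
variable (P₀ : Ideal R) [hP : P₀.IsPrime] (hP₀ : P₀.IsHomogeneous 𝒜)
variable (M : Type u) [AddCommGroup M] [Module R M]
variable (ℳ : ι' → AddSubgroup M) [Decomposition ℳ] [SetLike.GradedSMul 𝒜 ℳ]

theorem trivial_gen : ∀ u ∈ P₀, ∃ s, SetLike.IsHomogeneousElem 𝒜 s ∧ s ∉ P₀ ∧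
    ∃ h : R, s * u - (0 : R) * h ∈ P₀ := by
  intro u hu
  refine ⟨1, ⟨0, SetLike.GradedOne.one_mem⟩, (Ideal.ne_top_iff_one P₀).mp hP.ne_top, 0, ?_⟩
  rw [one_mul, mul_zero, sub_zero]
  exact hu

include 𝒜 in
theorem piLoc_self_injective : Function.Injective (piLoc P₀ P₀ le_rfl) := by
  rw [← LinearMap.ker_eq_bot, ker_piLoc 𝒜 P₀ P₀ le_rfl (fun s _ h => h) (zero_mem _)
    (trivial_gen 𝒜 P₀), _root_.map_zero, zero_smul, LinearMap.range_zero]

/-- `(R/P₀)_{P₀} ≅ κ(P₀)`. -/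
noncomputable def piLocEquiv : LocalizedModule P₀.primeCompl (R ⧸ P₀) ≃ₗ[Localization.AtPrime P₀]
    ResidueField (Localization.AtPrime P₀) :=
  LinearEquiv.ofBijective (piLoc P₀ P₀ le_rfl)
    ⟨piLoc_self_injective 𝒜 P₀, piLoc_surjective P₀ P₀ le_rfl⟩

include hP₀ ℳ in
/-- **Bass numbers at a prime over `P₀` with homogeneous core `P₀`**. -/
theorem bassNum_zero_and_succ (p : Ideal R) [p.IsPrime] (hle : P₀ ≤ p)
    (hcore : ∀ s, SetLike.IsHomogeneousElem 𝒜 s → s ∉ P₀ → s ∉ p)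
    (g : R) (hgp : g ∈ p) (hgP : g ∉ P₀)
    (hgen : ∀ u ∈ p, ∃ s, SetLike.IsHomogeneousElem 𝒜 s ∧ s ∉ P₀ ∧
      ∃ h : R, s * u - g * h ∈ P₀) :
    bassNum p M 0 = 0 ∧ ∀ i : ℕ, bassNum p M (i + 1) = bassNum P₀ M i := by
  have hker := ker_piLoc 𝒜 P₀ p hle hcore hgp hgen
  have hsurj := piLoc_surjective P₀ p hle
  have hDinj := smul_injective_Dloc P₀ p hle hgP
  constructor
  · obtain ⟨c, hc⟩ := exists_length_eq 𝒜 P₀ hP₀ M ℳ 0
    have h0 := (hc p hle hcore g hgp hgen).1 hgP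
    have hz := ext_zero_eq_zero (N := LocalizedModule p.primeCompl M)
      (algebraMap R (Localization.AtPrime p) g) (piLoc P₀ p hle) hsurj hker hDinj h0
    unfold bassNum bassNumLocal
    rw [Module.length_eq_zero_iff]
    exact ⟨fun a b => by rw [hz a, hz b]⟩
  · intro i
    obtain ⟨c, hc⟩ := exists_length_eq 𝒜 P₀ hP₀ M ℳ i
    obtain ⟨c', hc'⟩ := exists_length_eq 𝒜 P₀ hP₀ M ℳ (i + 1)
    have h1 := (hc' p hle hcore g hgp hgen).1 hgP
    obtain ⟨eq1⟩ := nonempty_ext_succ_equiv (N := LocalizedModule p.primeCompl M)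
      (algebraMap R (Localization.AtPrime p) g) (piLoc P₀ p hle) hsurj hker hDinj i h1
    have hp : bassNum p M (i + 1) = c := by
      unfold bassNum bassNumLocal
      rw [eq1.length_eq]
      exact (hc p hle hcore g hgp hgen).2
    have hP₀' : bassNum P₀ M i = c := by
      have h2 := (hc P₀ le_rfl (fun s _ h => h) 0 (zero_mem _) (trivial_gen 𝒜 P₀)).2
      rw [_root_.map_zero, zero_smul, LinearMap.range_zero] at h2
      unfold bassNum bassNumLocal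
      rw [← h2]
      have e2 := extCongr (R := Localization.AtPrime P₀)
        (X := ModuleCat.of (Localization.AtPrime P₀) (LocalizedModule P₀.primeCompl (R ⧸ P₀)))
        (X' := ModuleCat.of (Localization.AtPrime P₀) (ResidueField (Localization.AtPrime P₀)))
        (piLocEquiv 𝒜 P₀).toModuleIso
        (Iso.refl (ModuleCat.of (Localization.AtPrime P₀) (LocalizedModule P₀.primeCompl M))) i
      rw [← e2.length_eq]
      exact ((Submodule.quotEquivOfEqBot _ rfl).length_eq).symm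
    rw [hp, hP₀']

end Final

end Groth.Agent.Lib.H74BassCore
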