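import Mathlib

set_option autoImplicit false
set_option linter.unusedSectionVars false
set_option linter.style.haveILetI false

namespace Groth.Agent.Lib.H74GrDim

open DirectSum

variable {R : Type*} [CommRing R] (𝒜 : ℤ → AddSubgroup R) [GradedRing 𝒜]

/-- `f` modulo `P₀` is supported in the window `[a, c]`. -/
def Win (P₀ : Ideal R) (f : R) (a c : ℤ) : Prop :=
  ∀ n : ℤ, (n < a ∨ c < n) → (decompose 𝒜 f n : R) ∈ P₀

theorem coe_decompose_mul_left {i : ℤ} {s : R} (hs : s ∈ 𝒜 i) (u : R) (n : ℤ) :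
    (decompose 𝒜 (s * u) n : R) = s * (decompose 𝒜 u (n - i) : R) := by
  have e : n = i + (n - i) := by ring
  conv_lhs => rw [e]
  exact coe_decompose_mul_add_of_left_mem 𝒜 hs

variable {𝒜}
variable {P₀ : Ideal R}

theorem mem_of_forall_decompose_mem {f : R} (h : ∀ n, (decompose 𝒜 f n : R) ∈ P₀) : f ∈ P₀ := by
  classical
  have e := sum_support_decompose 𝒜 f
  rw [← e]
  exact Ideal.sum_mem _ fun n _ => h n

theorem mem_of_win_lt {f : R} {a c : ℤ} (h : Win 𝒜 P₀ f a c) (hca : c < a) : f ∈ P₀ := by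
  apply mem_of_forall_decompose_mem (𝒜 := 𝒜)
  intro n
  apply h
  by_cases hn : n < a
  · exact Or.inl hn
  · right; omega

theorem exists_win (f : R) : ∃ a c : ℤ, Win 𝒜 P₀ f a c := by
  classical
  obtain ⟨B, hB⟩ : ∃ B : ℕ, ∀ n ∈ (decompose 𝒜 f).support, n.natAbs ≤ B :=
    ⟨(decompose 𝒜 f).support.sup Int.natAbs, fun n hn => Finset.le_sup (f := Int.natAbs) hn⟩
  refine ⟨-B, B, fun n hn => ?_⟩
  have : n ∉ (decompose 𝒜 f).support := by
    intro h
    have := hB n h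
    omega
  rw [DFinsupp.notMem_support_iff] at this
  rw [this]
  exact zero_mem _

theorem win_shrink_right {f : R} {a c : ℤ} (h : Win 𝒜 P₀ f a c)
    (hc : (decompose 𝒜 f c : R) ∈ P₀) : Win 𝒜 P₀ f a (c - 1) := by
  intro n hn
  by_cases hnc : n = c
  · rw [hnc]; exact hc
  · apply h
    rcases hn with hn | hn
    · exact Or.inl hn
    · right; omega

/-- The key reduction step. -/
theorem win_reduce {g u : R} {a c b b' : ℤ} (hg : Win 𝒜 P₀ g b b') (hu : Win 𝒜 P₀ u a c)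
    (hle : b' - b ≤ c - a) :
    Win 𝒜 P₀ ((decompose 𝒜 g b' : R) * u - (decompose 𝒜 u c : R) * g) (a + b') (c + b' - 1) := by
  intro n hn
  rw [decompose_sub, DirectSum.sub_apply, AddSubgroup.coe_sub,
    coe_decompose_mul_left 𝒜 (decompose 𝒜 g b').2, coe_decompose_mul_left 𝒜 (decompose 𝒜 u c).2]
  rcases hn with hn | hn
  · refine P₀.sub_mem (P₀.mul_mem_left _ (hu _ (Or.inl (by omega))))
      (P₀.mul_mem_left _ (hg _ (Or.inl (by omega))))
  · by_cases hn' : n = c + b'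
    · have e1 : n - b' = c := by omega
      have e2 : n - c = b' := by omega
      rw [e1, e2, mul_comm, sub_self]
      exact zero_mem _
    · refine P₀.sub_mem (P₀.mul_mem_left _ (hu _ (Or.inr (by omega))))
        (P₀.mul_mem_left _ (hg _ (Or.inr (by omega))))


/-- Division lemma. -/
theorem exists_div [P₀.IsPrime] (J : Ideal R) {g : R} (hgJ : g ∈ J) {b b' : ℤ}
    (hg : Win 𝒜 P₀ g b b') (hg' : (decompose 𝒜 g b' : R) ∉ P₀)
    (hmin : ∀ u ∈ J, u ∉ P₀ → ∀ a c, Win 𝒜 P₀ u a c → b' - b ≤ c - a) :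
    ∀ (w : ℕ) (u : R), u ∈ J → ∀ a c, Win 𝒜 P₀ u a c → c - a < w →
      ∃ s : R, SetLike.IsHomogeneousElem 𝒜 s ∧ s ∉ P₀ ∧ ∃ h : R, s * u - g * h ∈ P₀ := by
  have h1P : (1 : R) ∉ P₀ := (Ideal.ne_top_iff_one P₀).mp (Ideal.IsPrime.ne_top ‹_›)
  have triv : ∀ u : R, u ∈ P₀ →
      ∃ s : R, SetLike.IsHomogeneousElem 𝒜 s ∧ s ∉ P₀ ∧ ∃ h : R, s * u - g * h ∈ P₀ := by
    intro u hu
    refine ⟨1, ⟨0, SetLike.GradedOne.one_mem⟩, h1P, 0, ?_⟩
    simpa using hu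
  intro w
  induction w with
  | zero =>
    intro u _ a c hu hw
    exact triv u (mem_of_win_lt hu (by omega))
  | succ w ih =>
    intro u huJ a c hu hw
    by_cases huP : u ∈ P₀
    · exact triv u huP
    · have hle := hmin u huJ huP a c hu
      have hu1J : (decompose 𝒜 g b' : R) * u - (decompose 𝒜 u c : R) * g ∈ J :=
        J.sub_mem (J.mul_mem_left _ huJ) (J.mul_mem_left _ hgJ)
      have hu1 := win_reduce hg hu hle
      obtain ⟨s1, hs1, hs1P, h1, hh1⟩ := ih _ hu1J _ _ hu1 (by omega)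
      refine ⟨s1 * (decompose 𝒜 g b' : R), hs1.mul ⟨b', (decompose 𝒜 g b').2⟩, ?_,
        s1 * (decompose 𝒜 u c : R) + h1, ?_⟩
      · intro h
        rcases Ideal.IsPrime.mem_or_mem ‹_› h with h | h
        · exact hs1P h
        · exact hg' h
      · have : s1 * (decompose 𝒜 g b' : R) * u - g * (s1 * (decompose 𝒜 u c : R) + h1) =
            s1 * ((decompose 𝒜 g b' : R) * u - (decompose 𝒜 u c : R) * g) - g * h1 := by ring
        rw [this]
        exact hh1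

theorem exists_min [P₀.IsPrime] (J : Ideal R) (hJ : ¬ J ≤ P₀) :
    ∃ g ∈ J, g ∉ P₀ ∧ ∃ b b' : ℤ, Win 𝒜 P₀ g b b' ∧ (decompose 𝒜 g b' : R) ∉ P₀ ∧
      ∀ u ∈ J, u ∉ P₀ → ∀ a c, Win 𝒜 P₀ u a c → b' - b ≤ c - a := by
  classical
  have hne : ∃ w : ℕ, ∃ u ∈ J, u ∉ P₀ ∧ ∃ a c, Win 𝒜 P₀ u a c ∧ (c - a).toNat = w := by
    obtain ⟨u, huJ, huP⟩ := Set.not_subset.mp hJ
    obtain ⟨a, c, hu⟩ := exists_win (𝒜 := 𝒜) (P₀ := P₀) u
    exact ⟨_, u, huJ, huP, a, c, hu, rfl⟩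
  obtain ⟨g, hgJ, hgP, b, b', hg, hw⟩ := Nat.find_spec hne
  have hmin := fun w hw => Nat.find_min' hne (m := w) hw
  have hbb : b ≤ b' := by
    by_contra hcon
    exact hgP (mem_of_win_lt hg (by omega))
  have key : ∀ u ∈ J, u ∉ P₀ → ∀ a c, Win 𝒜 P₀ u a c → b' - b ≤ c - a := by
    intro u huJ huP a c hu
    have h1 := hmin _ ⟨u, huJ, huP, a, c, hu, rfl⟩
    rw [← hw] at h1
    have hac : a ≤ c := by
      by_contra hcon
      exact huP (mem_of_win_lt hu (by omega))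
    omega
  refine ⟨g, hgJ, hgP, b, b', hg, ?_, key⟩
  intro hcon
  have h2 := win_shrink_right hg hcon
  have h3 := key g hgJ hgP b (b' - 1) h2
  omega

theorem exists_gen [P₀.IsPrime] (J : Ideal R) (hJ : ¬ J ≤ P₀) :
    ∃ g ∈ J, g ∉ P₀ ∧ ∀ u ∈ J, ∃ s : R, SetLike.IsHomogeneousElem 𝒜 s ∧ s ∉ P₀ ∧
      ∃ h : R, s * u - g * h ∈ P₀ := by
  obtain ⟨g, hgJ, hgP, b, b', hg, hg', hmin⟩ := exists_min (𝒜 := 𝒜) J hJ
  refine ⟨g, hgJ, hgP, fun u hu => ?_⟩
  obtain ⟨a, c, huw⟩ := exists_win (𝒜 := 𝒜) (P₀ := P₀) u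
  exact exists_div J hgJ hg hg' hmin ((c - a).toNat + 1) u hu a c huw (by omega)

/-- There is no prime strictly between a homogeneous prime `P₀` and a prime `P` all of whose
homogeneous elements lie in `P₀`. -/
theorem no_prime_between (P₀ Q P : Ideal R) [P₀.IsPrime] [Q.IsPrime] [P.IsPrime]
    (h1 : P₀ ≤ Q) (h1' : ¬ Q ≤ P₀) (h2 : Q ≤ P) (h2' : ¬ P ≤ Q)
    (hcore : ∀ x ∈ P, SetLike.IsHomogeneousElem 𝒜 x → x ∈ P₀) : False := by
  have hPP₀ : ¬ P ≤ P₀ := fun h => h1' (h2.trans h)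
  obtain ⟨g, hgP, hgP₀, hgdiv⟩ := exists_gen (𝒜 := 𝒜) P hPP₀
  obtain ⟨f, hfQ, hfP₀, hfdiv⟩ := exists_gen (𝒜 := 𝒜) Q h1'
  have hsQ : ∀ s : R, SetLike.IsHomogeneousElem 𝒜 s → s ∉ P₀ → s ∉ Q :=
    fun s hs hsP hsQ => hsP (hcore s (h2 hsQ) hs)
  obtain ⟨s, hs, hsP₀, h, hh⟩ := hgdiv f (h2 hfQ)
  have hghQ : g * h ∈ Q := by
    have : g * h = s * f - (s * f - g * h) := by ring
    rw [this]
    exact Q.sub_mem (Q.mul_mem_left _ hfQ) (h1 hh)
  rcases Ideal.IsPrime.mem_or_mem ‹Q.IsPrime› hghQ with hgQ | hhQ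
  · apply h2'
    intro u hu
    obtain ⟨s', hs', hs'P₀, h', hh'⟩ := hgdiv u hu
    have : s' * u ∈ Q := by
      have : s' * u = (s' * u - g * h') + g * h' := by ring
      rw [this]
      exact Q.add_mem (h1 hh') (Q.mul_mem_right _ hgQ)
    rcases Ideal.IsPrime.mem_or_mem ‹Q.IsPrime› this with h | h
    · exact absurd h (hsQ s' hs' hs'P₀)
    · exact h
  · obtain ⟨s', hs', hs'P₀, h', hh'⟩ := hfdiv h hhQ
    have h3 : f * (s' * s - g * h') ∈ P₀ := by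
      have : f * (s' * s - g * h') = s' * (s * f - g * h) + g * (s' * h - f * h') := by ring
      rw [this]
      exact P₀.add_mem (P₀.mul_mem_left _ hh) (P₀.mul_mem_left _ hh')
    rcases Ideal.IsPrime.mem_or_mem ‹P₀.IsPrime› h3 with h | h
    · exact hfP₀ h
    · have h4 : s' * s ∈ P := by
        have : s' * s = (s' * s - g * h') + g * h' := by ring
        rw [this]
        exact P.add_mem (h2 (h1 h)) (P.mul_mem_right _ hgP)
      have h5 := hcore _ h4 (hs'.mul hs)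
      rcases Ideal.IsPrime.mem_or_mem ‹P₀.IsPrime› h5 with h | h
      · exact hs'P₀ h
      · exact hsP₀ h

end Groth.Agent.Lib.H74GrDim
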