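import Mathlib
import Groth.Agent.S18636
import Groth.Agent.Lib.H74Core3
import Groth.Agent.Lib.H74QuotGr2

/-!
# Bass numbers at an arbitrary prime of a multigraded Noetherian ring (helper74)

`μ^i(p, M) = 0` for `i < d` and `μ^i(p, M) = μ^{i-d}(p*, M)` for `i ≥ d`, `d = ht(p/p*)`.
-/

set_option autoImplicit false
set_option linter.unusedSectionVars false
set_option linter.style.haveILetI false

universe u

open DirectSum GrLC

namespace Groth.Agent.Lib.H74BassCore

open Groth.Agent.Lib.H74Coarse Groth.Agent.Lib.H74Core Groth.Agent.Lib.H74QuotGr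

theorem bassNum_congr {R : Type u} [CommRing R] (M : Type u) [AddCommGroup M] [Module R M]
    (p q : Ideal R) [p.IsPrime] [q.IsPrime] (h : p = q) (i : ℕ) :
    bassNum p M i = bassNum q M i := by
  subst h
  rfl

section Height

variable {R : Type u} [CommRing R] [IsNoetherianRing R] (𝒜 : ℤ → AddSubgroup R) [GradedRing 𝒜]

/-- `ht(p/c) = ht(q/c) + 1` for `c ⊆ q = p* ⊊ p`, `c` a homogeneous prime (`ℤ`-graded). -/
theorem height_quot_succ (p c : Ideal R) [p.IsPrime] [c.IsPrime] (hc : c.IsHomogeneous 𝒜)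
    (hcq : c ≤ (p.homogeneousCore 𝒜).toIdeal)
    (hne : (p.homogeneousCore 𝒜).toIdeal ≠ p) :
    (p.map (Ideal.Quotient.mk c)).height =
      ((p.homogeneousCore 𝒜).toIdeal.map (Ideal.Quotient.mk c)).height + 1 := by
  set q : Ideal R := (p.homogeneousCore 𝒜).toIdeal with hq
  have hqprime : q.IsPrime := Ideal.IsPrime.homogeneousCore inferInstance
  have hqp : q ≤ p := Ideal.toIdeal_homogeneousCore_le 𝒜 p
  have hcp : c ≤ p := hcq.trans hqp
  have i1 := isPrime_map_mk c q hcq
  have i2 := isPrime_map_mk c p hcp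
  apply le_antisymm
  · letI : GradedRing (quotPiece 𝒜 c) := quotGradedRing 𝒜 hc
    have h1 := Groth.Agent.Lib.H74GrDim.height_le_core_add_one (quotPiece 𝒜 c)
      (p.map (Ideal.Quotient.mk c))
    rw [core_map_mk 𝒜 c p hcp] at h1
    exact h1
  · have hlt : q.map (Ideal.Quotient.mk c) < p.map (Ideal.Quotient.mk c) := by
      refine lt_of_le_of_ne (Ideal.map_mono hqp) (fun h => hne ?_)
      rw [← comap_map_mk c q hcq, h, comap_map_mk c p hcp]
    exact Ideal.height_add_one_le_of_lt_of_isPrime hlt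

end Height

section Main

attribute [local instance] coarseDecomposition coarseGradedRing

theorem bass_core (n : ℕ) :
    ∀ {ι : Type} [AddCommGroup ι] [DecidableEq ι] (_ : ι ≃+ (Fin n → ℤ))
      {R : Type u} [CommRing R] [IsNoetherianRing R] (𝒜 : ι → AddSubgroup R) [GradedRing 𝒜]
      (M : Type u) [AddCommGroup M] [Module R M] (ℳ : ι → AddSubgroup M) [Decomposition ℳ]
      [SetLike.GradedSMul 𝒜 ℳ]
      (p : Ideal R) [p.IsPrime] (c : Ideal R) [c.IsPrime]
      (_ : c = (p.homogeneousCore 𝒜).toIdeal) (d : ℕ)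
      (_ : (p.map (Ideal.Quotient.mk c)).height = d),
      (∀ i : ℕ, i < d → bassNum p M i = 0) ∧
        (∀ i : ℕ, d ≤ i → bassNum p M i = bassNum c M (i - d)) := by
  classical
  induction n with
  | zero =>
    intro ι _ _ e R _ _ 𝒜 _ M _ _ ℳ _ _ p hp c hcprime hc d hd
    have hsub : Subsingleton ι := e.toEquiv.subsingleton
    have hhom : p.IsHomogeneous 𝒜 := by
      intro g x hx
      have hxg : x ∈ 𝒜 g := by
        rw [← DirectSum.sum_support_decompose 𝒜 x]
        refine sum_mem (fun i _ => ?_)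
        rw [Subsingleton.elim g i]
        exact (decompose 𝒜 x i).2
      rw [decompose_of_mem_same 𝒜 hxg]
      exact hx
    have hcp : c = p := by rw [hc]; exact hhom.toIdeal_homogeneousCore_eq_self
    have hd0 : d = 0 := by
      have h1 : p.map (Ideal.Quotient.mk c) = ⊥ := by
        rw [hcp]; exact Ideal.map_quotient_self p
      rw [h1] at hd
      have h2 : (⊥ : Ideal (R ⧸ c)).height = 0 := Ideal.height_bot
      rw [h2] at hd
      exact_mod_cast hd.symm
    subst hd0
    refine ⟨fun i hi => absurd hi (Nat.not_lt_zero i), fun i _ => ?_⟩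
    exact bassNum_congr M p c hcp.symm i
  | succ n ih =>
    intro ι _ _ e R _ _ 𝒜 _ M _ _ ℳ _ _ p hp c hcprime hc d hd
    let ψ : ι →+ ℤ := (Pi.evalAddMonoidHom (fun _ : Fin (n + 1) => ℤ) 0).comp e.toAddMonoidHom
    let π : ι →+ (Fin n → ℤ) := (tailHom n).comp e.toAddMonoidHom
    have hψ : ∀ g, ψ g = e g 0 := fun g => rfl
    have hπ : ∀ g i, π g i = e g i.succ := fun g i => rfl
    have hinj : ∀ g g' : ι, π g = π g' → ψ g = ψ g' → g = g' := by
      intro g g' h1 h2
      apply e.injective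
      funext i
      refine Fin.cases ?_ (fun j => ?_) i
      · rw [← hψ, ← hψ, h2]
      · rw [← hπ, ← hπ, h1]
    set q : Ideal R := (p.homogeneousCore (coarse ψ 𝒜)).toIdeal with hq
    haveI hqprime : q.IsPrime := Ideal.IsPrime.homogeneousCore hp
    have hcore : (p.homogeneousCore 𝒜).toIdeal = (q.homogeneousCore (coarse π 𝒜)).toIdeal :=
      core_eq_core_core 𝒜 π ψ hinj p
    have hcq' : c = (q.homogeneousCore (coarse π 𝒜)).toIdeal := hc.trans hcore
    haveI : SetLike.GradedSMul (coarse π 𝒜) (coarse π ℳ) :=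
      coarse_gradedSMul π 𝒜 (coarse π 𝒜) (fun _ => rfl) ℳ
    haveI : SetLike.GradedSMul (coarse ψ 𝒜) (coarse ψ ℳ) :=
      coarse_gradedSMul ψ 𝒜 (coarse ψ 𝒜) (fun _ => rfl) ℳ
    have hcq : c ≤ q := by
      rw [hcq']; exact Ideal.toIdeal_homogeneousCore_le (coarse π 𝒜) q
    have hqp : q ≤ p := Ideal.toIdeal_homogeneousCore_le (coarse ψ 𝒜) p
    by_cases hqp' : q = p
    · have hd' : (q.map (Ideal.Quotient.mk c)).height = d := by rw [hqp']; exact hd
      obtain ⟨h1, h2⟩ := ih (AddEquiv.refl _) (coarse π 𝒜) M (coarse π ℳ) q c hcq' d hd'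
      refine ⟨fun i hi => ?_, fun i hi => ?_⟩
      · rw [bassNum_congr M p q hqp'.symm i]; exact h1 i hi
      · rw [bassNum_congr M p q hqp'.symm i]; exact h2 i hi
    · have hchom : c.IsHomogeneous (coarse ψ 𝒜) := by
        rw [hc]; exact isHomogeneous_coarse 𝒜 ψ (p.homogeneousCore 𝒜).isHomogeneous
      have hht := height_quot_succ (coarse ψ 𝒜) p c hchom hcq hqp'
      rw [hd] at hht
      have i1 := isPrime_map_mk c q hcq
      obtain ⟨d', hd'⟩ : ∃ d' : ℕ, (d' : ℕ∞) = (q.map (Ideal.Quotient.mk c)).height :=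
        ENat.ne_top_iff_exists.mp Ideal.height_ne_top_of_isPrime
      rw [← hd'] at hht
      have hdd : d = d' + 1 := by exact_mod_cast hht
      obtain ⟨h1, h2⟩ := ih (AddEquiv.refl _) (coarse π 𝒜) M (coarse π ℳ) q c hcq' d' hd'.symm
      have hnh : ¬ Ideal.IsHomogeneous (coarse ψ 𝒜) p := fun h =>
        hqp' h.toIdeal_homogeneousCore_eq_self
      obtain ⟨h3, h4⟩ := Groth.Agent.S18636.result R (coarse ψ 𝒜) M (coarse ψ ℳ) p hnh
      subst hdd
      refine ⟨fun i hi => ?_, fun i hi => ?_⟩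
      · rcases i with _ | j
        · exact h3
        · rw [h4 j]; exact h1 j (by omega)
      · rcases i with _ | j
        · omega
        · rw [h4 j, h2 j (by omega)]
          congr 1
          omega

/-- **Bass numbers at an arbitrary prime** of a Noetherian ring graded by a free abelian group of
finite rank. -/
theorem bassNum_eq_core {ι : Type} [AddCommGroup ι] [DecidableEq ι] [Module.Free ℤ ι]
    [Module.Finite ℤ ι] (R : Type u) [CommRing R] [IsNoetherianRing R] (𝒜 : ι → AddSubgroup R)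
    [GradedRing 𝒜] (M : Type u) [AddCommGroup M] [Module R M] (ℳ : ι → AddSubgroup M)
    [DirectSum.Decomposition ℳ] [SetLike.GradedSMul 𝒜 ℳ] (p : Ideal R) [p.IsPrime]
    [(Ideal.homogeneousCore 𝒜 p).toIdeal.IsPrime] (d : ℕ)
    (hd : (p.map (Ideal.Quotient.mk (Ideal.homogeneousCore 𝒜 p).toIdeal)).height = d) :
    (∀ i : ℕ, i < d → bassNum p M i = 0) ∧
      (∀ i : ℕ, d ≤ i → bassNum p M i = bassNum (Ideal.homogeneousCore 𝒜 p).toIdeal M (i - d)) := by
  let b := (Module.Free.chooseBasis ℤ ι).reindex (Fintype.equivFin _)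
  let e : ι ≃+ (Fin _ → ℤ) := b.equivFun.toAddEquiv
  exact bass_core _ e 𝒜 M ℳ p _ rfl d hd

end Main

end Groth.Agent.Lib.H74BassCore
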