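import Mathlib
import Groth.Agent.Lib.H74BassCore7
import Groth.Agent.Lib.H29Depth

/-!
# Depth at an arbitrary prime of a multigraded Noetherian ring (helper74)

`depth M_p = depth M_{p*} + ht(p/p*)`.
-/

set_option autoImplicit false
set_option linter.unusedSectionVars false

universe u

open DirectSum GrLC CategoryTheory Abelian

namespace Groth.Agent.Lib.H74BassCore

theorem natCast_le_depth_iff (A : Type u) [CommRing A] [IsLocalRing A] [IsNoetherianRing A]
    (N : Type u) [AddCommGroup N] [Module A N] [Module.Finite A N] (n : ℕ) :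
    (n : ℕ∞) ≤ LocCoh.depth A N ↔ ∀ i : ℕ, i < n → bassNumLocal A N i = 0 := by
  unfold LocCoh.depth bassNumLocal
  rw [Groth.Agent.Lib.H29Depth.le_idealDepth_iff_ext']
  refine forall₂_congr fun i hi => ?_
  rw [Module.length_eq_zero_iff]
  exact Iff.rfl

theorem depth_eq_core_add {ι : Type} [AddCommGroup ι] [DecidableEq ι] [Module.Free ℤ ι]
    [Module.Finite ℤ ι] (R : Type u) [CommRing R] [IsNoetherianRing R] (𝒜 : ι → AddSubgroup R)
    [GradedRing 𝒜] (M : Type u) [AddCommGroup M] [Module R M] (ℳ : ι → AddSubgroup M)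
    [DirectSum.Decomposition ℳ] [SetLike.GradedSMul 𝒜 ℳ] [Module.Finite R M]
    (p : Ideal R) [p.IsPrime]
    [(Ideal.homogeneousCore 𝒜 p).toIdeal.IsPrime] (d : ℕ)
    (hd : (p.map (Ideal.Quotient.mk (Ideal.homogeneousCore 𝒜 p).toIdeal)).height = d) :
    LocCoh.depth (Localization.AtPrime p) (LocalizedModule p.primeCompl M) =
      LocCoh.depth (Localization.AtPrime (Ideal.homogeneousCore 𝒜 p).toIdeal)
        (LocalizedModule (Ideal.homogeneousCore 𝒜 p).toIdeal.primeCompl M) + d := by
  obtain ⟨h1, h2⟩ := bassNum_eq_core R 𝒜 M ℳ p d hd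
  apply ENat.eq_of_forall_natCast_le_iff
  intro n
  rw [natCast_le_depth_iff]
  have hb : ∀ i, bassNumLocal (Localization.AtPrime p) (LocalizedModule p.primeCompl M) i =
      bassNum p M i := fun i => rfl
  have hb' : ∀ i, bassNumLocal (Localization.AtPrime (Ideal.homogeneousCore 𝒜 p).toIdeal)
      (LocalizedModule (Ideal.homogeneousCore 𝒜 p).toIdeal.primeCompl M) i =
      bassNum (Ideal.homogeneousCore 𝒜 p).toIdeal M i := fun i => rfl
  by_cases hnd : n ≤ d
  · constructor
    · intro _
      calc (n : ℕ∞) ≤ (d : ℕ∞) := by exact_mod_cast hnd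
        _ ≤ _ := le_add_self
    · intro _ i hi
      rw [hb]
      exact h1 i (by omega)
  · obtain ⟨m, rfl⟩ : ∃ m, n = m + d := ⟨n - d, by omega⟩
    have e1 : (((m + d : ℕ) : ℕ∞)) = (m : ℕ∞) + (d : ℕ∞) := by push_cast; rfl
    rw [e1, ENat.add_le_add_iff_right (ENat.natCast_ne_top d), natCast_le_depth_iff]
    constructor
    · intro h j hj
      rw [hb']
      have := h (j + d) (by omega)
      rw [hb, h2 (j + d) (by omega), Nat.add_sub_cancel] at this
      exact this
    · intro h i hi
      rw [hb]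
      by_cases hid : i < d
      · exact h1 i hid
      · rw [h2 i (by omega), ← hb']
        exact h (i - d) (by omega)

end Groth.Agent.Lib.H74BassCore
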