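import Mathlib
import Groth.Agent.Lib.H74GrDim1

set_option autoImplicit false
set_option linter.unusedSectionVars false
set_option linter.style.haveILetI false

namespace Groth.Agent.Lib.H74GrDim

open DirectSum

variable {R : Type*} [CommRing R] (𝒜 : ℤ → AddSubgroup R) [GradedRing 𝒜]

/-- `ht p ≤ ht p* + 1` for a prime of a Noetherian `ℤ`-graded ring. -/
theorem height_le_core_add_one [IsNoetherianRing R] (p : Ideal R) [hp : p.IsPrime] :
    p.height ≤ (p.homogeneousCore 𝒜).toIdeal.height + 1 := by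
  induction' hn : p.height.toNat using Nat.strong_induction_on with n ih generalizing p
  haveI hcp : (p.homogeneousCore 𝒜).toIdeal.IsPrime := Ideal.IsPrime.homogeneousCore hp
  obtain ⟨k, hk⟩ : ∃ k : ℕ, (k : ℕ∞) = (p.homogeneousCore 𝒜).toIdeal.height :=
    ENat.ne_top_iff_exists.mp Ideal.height_ne_top_of_isPrime
  rw [← hk]
  have e1 : ((k : ℕ∞) + 1) = ((k + 1 : ℕ) : ℕ∞) := by push_cast; rfl
  rw [e1, Ideal.height_le_iff]
  intro q hq hqp
  haveI := hq
  have hqk : q.height ≤ k → q.height < ((k + 1 : ℕ) : ℕ∞) := fun h =>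
    lt_of_le_of_lt h (by exact_mod_cast Nat.lt_succ_self k)
  by_cases hqh : q.IsHomogeneous 𝒜
  · apply hqk
    rw [hk]
    apply Ideal.height_mono
    rw [← hqh.toIdeal_homogeneousCore_eq_self]
    exact Ideal.homogeneousCore_mono 𝒜 hqp.le
  · have hlt : q.height.toNat < n := by
      rw [← hn]
      have h1 := Ideal.height_strict_mono_of_isPrime_of_isPrime hqp
      obtain ⟨a, ha⟩ := ENat.ne_top_iff_exists.mp (Ideal.height_ne_top_of_isPrime (I := q))
      obtain ⟨b, hb⟩ := ENat.ne_top_iff_exists.mp (Ideal.height_ne_top_of_isPrime (I := p))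
      rw [← ha, ← hb] at h1 ⊢
      rw [ENat.toNat_natCast, ENat.toNat_natCast]
      exact_mod_cast h1
    have ihq := ih _ hlt q rfl
    haveI hcq : (q.homogeneousCore 𝒜).toIdeal.IsPrime := Ideal.IsPrime.homogeneousCore hq
    have hle : (q.homogeneousCore 𝒜).toIdeal ≤ (p.homogeneousCore 𝒜).toIdeal :=
      Ideal.homogeneousCore_mono 𝒜 hqp.le
    by_cases heq : (p.homogeneousCore 𝒜).toIdeal ≤ (q.homogeneousCore 𝒜).toIdeal
    · exfalso
      have hP₀q : (p.homogeneousCore 𝒜).toIdeal ≤ q :=
        heq.trans (Ideal.toIdeal_homogeneousCore_le 𝒜 q)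
      refine no_prime_between (𝒜 := 𝒜) (p.homogeneousCore 𝒜).toIdeal q p hP₀q ?_ hqp.le
        (not_le_of_gt hqp) ?_
      · intro hcon
        apply hqh
        have : q = (p.homogeneousCore 𝒜).toIdeal := le_antisymm hcon hP₀q
        rw [this]
        exact (p.homogeneousCore 𝒜).isHomogeneous
      · intro x hx hxh
        exact Ideal.mem_homogeneousCore_of_homogeneous_of_mem hxh hx
    · have h3 : (q.homogeneousCore 𝒜).toIdeal < (p.homogeneousCore 𝒜).toIdeal :=
        lt_of_le_not_ge hle heq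
      have h4 := Ideal.height_add_one_le_of_lt_of_isPrime h3
      apply hqk
      rw [hk]
      exact ihq.trans h4

end Groth.Agent.Lib.H74GrDim
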