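import Groth.Agent.Lib.GrCMCrit
import Groth.Agent.Lib.H74BassCore8
import Groth.Agent.Lib.H74GrDim2
import Groth.Agent.Lib.CanonShift

/-!
# The graded local-global principle for Cohen–Macaulay rings (helper12)

`R` a Noetherian `ℤ`-graded ring.

* `isCMLocalRing_of_core` : if `R_{p*}` is Cohen–Macaulay (`p*` the homogeneous core) so is `R_p`;
* `isCohenMacaulayRing_of_loc` : a `*`local ring `(R, m)` with `m` maximal and `R_m`
  Cohen–Macaulay is a Cohen–Macaulay ring.
-/

set_option autoImplicit false
set_option linter.unusedSectionVars false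
set_option linter.style.haveILetI false
universe u

namespace Groth.Agent.Lib.GrCMLoc12

open DirectSum LocCoh Module IsLocalRing Groth.Agent.Lib.H8CM Groth.Agent.Lib.DepthRees

variable {R : Type u} [CommRing R] [IsNoetherianRing R]

theorem isCMLocalRing_congr {p q : Ideal R} [p.IsPrime] [q.IsPrime] (h : p = q)
    (hq : IsCohenMacaulayLocalRing (Localization.AtPrime q)) :
    IsCohenMacaulayLocalRing (Localization.AtPrime p) := by
  subst h
  exact hq

/-- `depth R_p` computed on the localized module. -/
theorem depth_localizedModule_self (p : Ideal R) [p.IsPrime] :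
    depth (Localization.AtPrime p) (LocalizedModule p.primeCompl R) =
      depth (Localization.AtPrime p) (Localization.AtPrime p) :=
  depth_eq_of_equiv (localizedModuleSelfEquiv p)

/-- A Noetherian local ring is CM iff `ht 𝔪 ≤ depth`. -/
theorem isCMLocalRing_atPrime_of_height_le (p : Ideal R) [p.IsPrime]
    (h : p.height ≤ depth (Localization.AtPrime p) (Localization.AtPrime p)) :
    IsCohenMacaulayLocalRing (Localization.AtPrime p) := by
  refine ⟨le_antisymm ?_ ?_⟩
  · rw [supportDim_self_eq_ringKrullDim,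
      IsLocalization.AtPrime.ringKrullDim_eq_height p (Localization.AtPrime p)]
    exact WithBot.coe_le_coe.2 h
  · exact depth_le_supportDim (R := Localization.AtPrime p) (Localization.AtPrime p)

theorem height_eq_depth_of_isCMLocalRing (p : Ideal R) [p.IsPrime]
    (h : IsCohenMacaulayLocalRing (Localization.AtPrime p)) :
    p.height = depth (Localization.AtPrime p) (Localization.AtPrime p) := by
  have h1 := h.supportDim_eq_depth
  rw [supportDim_self_eq_ringKrullDim,
    IsLocalization.AtPrime.ringKrullDim_eq_height p (Localization.AtPrime p)] at h1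
  exact WithBot.coe_injective h1

variable (𝒜 : ℤ → AddSubgroup R) [GradedRing 𝒜]

/-- Cohen–Macaulayness at the homogeneous core of a prime implies it at the prime. -/
theorem isCMLocalRing_of_core (p : Ideal R) [hp : p.IsPrime]
    [hc : (p.homogeneousCore 𝒜).toIdeal.IsPrime]
    (hCM : IsCohenMacaulayLocalRing (Localization.AtPrime (p.homogeneousCore 𝒜).toIdeal)) :
    IsCohenMacaulayLocalRing (Localization.AtPrime p) := by
  by_cases hpc : p = (p.homogeneousCore 𝒜).toIdeal
  · exact isCMLocalRing_congr hpc hCM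
  have hle : (p.homogeneousCore 𝒜).toIdeal ≤ p := Ideal.toIdeal_homogeneousCore_le 𝒜 p
  have hlt : (p.homogeneousCore 𝒜).toIdeal < p := lt_of_le_of_ne hle (Ne.symm hpc)
  set c := (p.homogeneousCore 𝒜).toIdeal with hcdef
  -- the image of `p` in `R/c`
  have hker : RingHom.ker (Ideal.Quotient.mk c) ≤ p := by rw [Ideal.mk_ker]; exact hle
  haveI hP' : (p.map (Ideal.Quotient.mk c)).IsPrime :=
    Ideal.map_isPrime_of_surjective Ideal.Quotient.mk_surjective hker
  obtain ⟨d, hd⟩ : ∃ d : ℕ, (p.map (Ideal.Quotient.mk c)).height = d := by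
    have := Ideal.height_ne_top (I := p.map (Ideal.Quotient.mk c)) hP'.ne_top
    exact ⟨_, (ENat.natCast_toNat this).symm⟩
  have hd1 : 1 ≤ d := by
    have hbot : (⊥ : Ideal (R ⧸ c)) < p.map (Ideal.Quotient.mk c) := by
      rw [bot_lt_iff_ne_bot]
      intro h0
      apply hpc
      apply le_antisymm _ hle
      intro x hx
      have : Ideal.Quotient.mk c x ∈ p.map (Ideal.Quotient.mk c) := Ideal.mem_map_of_mem _ hx
      rw [h0, Ideal.mem_bot, Ideal.Quotient.eq_zero_iff_mem] at this
      exact this
    haveI : (⊥ : Ideal (R ⧸ c)).IsPrime := Ideal.isPrime_bot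
    have h1 := Ideal.height_strict_mono_of_isPrime_of_isPrime hbot
    rw [hd] at h1
    have h2 : (0 : ℕ∞) < (d : ℕ∞) := lt_of_le_of_lt bot_le h1
    exact_mod_cast h2
  have hdepth := Groth.Agent.Lib.H74BassCore.depth_eq_core_add R 𝒜 R 𝒜 p d hd
  rw [depth_localizedModule_self, depth_localizedModule_self] at hdepth
  apply isCMLocalRing_atPrime_of_height_le
  rw [hdepth, ← height_eq_depth_of_isCMLocalRing c hCM]
  calc p.height ≤ c.height + 1 := Groth.Agent.Lib.H74GrDim.height_le_core_add_one 𝒜 p
    _ ≤ c.height + d := by gcongr; exact_mod_cast hd1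

variable (m : HomogeneousIdeal 𝒜) (hm : GrLC.IsStarLocal 𝒜 m) [hmax : m.toIdeal.IsMaximal]

include hm in
/-- A Noetherian `*`local graded ring (with `m` maximal) which is Cohen–Macaulay at `m` is a
Cohen–Macaulay ring. -/
theorem isCohenMacaulayRing_of_loc
    [hCM : IsCohenMacaulayLocalRing (Localization.AtPrime m.toIdeal)] :
    IsCohenMacaulayRing R := by
  refine ⟨fun p hp => ?_⟩
  haveI hc : (p.homogeneousCore 𝒜).toIdeal.IsPrime := Ideal.IsPrime.homogeneousCore hp
  apply isCMLocalRing_of_core 𝒜 p
  -- the core lies in `m`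
  have hne : p.homogeneousCore 𝒜 ≠ ⊤ := by
    intro h
    have h1 := congrArg HomogeneousIdeal.toIdeal h
    rw [HomogeneousIdeal.toIdeal_top] at h1
    exact hc.ne_top h1
  have hle : (p.homogeneousCore 𝒜).toIdeal ≤ m.toIdeal :=
    Groth.Agent.Lib.CanonShift.le_of_isStarLocal 𝒜 hm _ hne
  -- localize the CM module `R_m`
  have hmCM : IsCohenMacaulayModule (Localization.AtPrime m.toIdeal)
      (LocalizedModule m.toIdeal.primeCompl R) :=
    isCM_of_equiv (localizedModuleSelfEquiv m.toIdeal).symm isCM_self_of_isCMLocalRing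
  have hnt : Nontrivial (LocalizedModule (p.homogeneousCore 𝒜).toIdeal.primeCompl R) :=
    (localizedModuleSelfEquiv (p.homogeneousCore 𝒜).toIdeal).toEquiv.nontrivial
  have h1 := Groth.Agent.Lib.GrCMCrit.isCM_of_le m.toIdeal hmCM
    (p.homogeneousCore 𝒜).toIdeal hle hnt
  exact isCMLocalRing_of_isCM_self
    (isCM_of_equiv (localizedModuleSelfEquiv (p.homogeneousCore 𝒜).toIdeal) h1)

end Groth.Agent.Lib.GrCMLoc12
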