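import Groth.Agent.Lib.CMQuotLoc12b
import Groth.Agent.Lib.GrCMLoc12
import Groth.Agent.Lib.DepthFlat33
import Groth.Agent.Lib.H74BassCore8
import Groth.Agent.Lib.H74GrDim2

/-!
# Serre's conditions `(S_k)` for rings, prime by prime (helper12)

* `SkAt k R p` : `min (k, ht p) ≤ depth R_p`;
* `hasSk_self_iff` : `LocCoh.HasSk k R R ↔ ∀ p, SkAt k R p`;
* `depth_quotient_regular`, `depth_atPrime_comap`, `height_comap` : depth and height drop by one
  along a surjection with principal regular kernel.
-/

set_option autoImplicit false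
set_option linter.unusedSectionVars false
set_option linter.style.haveILetI false
universe u

namespace Groth.Agent.Lib.SkTools12

open IsLocalRing LocCoh Module Groth.Agent.Lib.H8CM Groth.Agent.Lib.GrCMLoc12 Pointwise

section Def

variable (R : Type u) [CommRing R]

/-- Serre's condition `(S_k)` at the prime `p`, in ring form. -/
def SkAt (k : ℕ) (p : Ideal R) [p.IsPrime] : Prop :=
  min (k : ℕ∞) p.height ≤ depth (Localization.AtPrime p) (Localization.AtPrime p)

variable {R}

theorem skAt_congr {k : ℕ} {p q : Ideal R} [p.IsPrime] [q.IsPrime] (h : p = q) :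
    SkAt R k p ↔ SkAt R k q := by
  subst h; rfl

variable [IsNoetherianRing R]

theorem hasSk_self_iff (k : ℕ) :
    HasSk k R R ↔ ∀ (p : Ideal R) [p.IsPrime], SkAt R k p := by
  unfold HasSk SkAt
  refine forall₂_congr fun p hp => ?_
  rw [depth_localizedModule_self, supportDim_eq_of_equiv (localizedModuleSelfEquiv p),
    supportDim_self_eq_ringKrullDim,
    IsLocalization.AtPrime.ringKrullDim_eq_height p (Localization.AtPrime p)]
  have : ((k : ℕ) : WithBot ℕ∞) = (((k : ℕ∞)) : WithBot ℕ∞) := rfl
  rw [this, ← WithBot.coe_min, WithBot.coe_le_coe]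

end Def

section Quot

/-- Depth drops by one modulo a regular element of the maximal ideal. -/
theorem depth_quotient_regular (S : Type u) [CommRing S] [IsLocalRing S] [IsNoetherianRing S]
    {x : S} (hx : x ∈ maximalIdeal S) (reg : IsSMulRegular S x)
    [IsLocalRing (S ⧸ Ideal.span {x})] :
    depth (S ⧸ Ideal.span {x}) (S ⧸ Ideal.span {x}) + 1 = depth S S := by
  have hsub : x • (⊤ : Submodule S S) = (Ideal.span {x} : Ideal S) := by
    rw [← Submodule.ideal_span_singleton_smul]
    simp
  rw [← Groth.Agent.Lib.CMFlat33.depth_quotient_eq (Ideal.span {x}),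
    ← Groth.Agent.Lib.DepthFlat33.depth_quotSMulTop_add_one' S hx reg]
  congr 1
  exact (depth_eq_of_equiv (Submodule.quotEquivOfEq _ _ hsub)).symm

variable {R G : Type u} [CommRing R] [CommRing G] (φ : R →+* G) (hφ : Function.Surjective φ)
  (x : R) (hker : RingHom.ker φ = Ideal.span {x}) (p : Ideal G) [hp : p.IsPrime]
  [IsNoetherianRing R] (hreg : IsSMulRegular R x)

include hφ hker hreg in
theorem depth_and_dim_atPrime_comap :
    depth (Localization.AtPrime (p.comap φ)) (Localization.AtPrime (p.comap φ)) =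
        depth (Localization.AtPrime p) (Localization.AtPrime p) + 1 ∧
      ringKrullDim (Localization.AtPrime (p.comap φ)) =
        ringKrullDim (Localization.AtPrime p) + 1 := by
  obtain ⟨e⟩ := Groth.Agent.Lib.CMQuotLoc12.nonempty_quotient_equiv φ hφ x hker p
  have hxP : x ∈ p.comap φ := by
    rw [Ideal.mem_comap]
    have : x ∈ RingHom.ker φ := by rw [hker]; exact Ideal.subset_span rfl
    rw [RingHom.mem_ker] at this
    rw [this]; exact p.zero_mem
  have hmem : algebraMap R (Localization.AtPrime (p.comap φ)) x ∈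
      maximalIdeal (Localization.AtPrime (p.comap φ)) :=
    (IsLocalization.AtPrime.to_map_mem_maximal_iff _ (p.comap φ) x).2 hxP
  have hreg' : IsSMulRegular (Localization.AtPrime (p.comap φ))
      (algebraMap R (Localization.AtPrime (p.comap φ)) x) := hreg.of_flat
  haveI : IsLocalRing (Localization.AtPrime (p.comap φ) ⧸
      Ideal.span {algebraMap R (Localization.AtPrime (p.comap φ)) x}) := e.symm.isLocalRing
  constructor
  · rw [← depth_quotient_regular _ hmem hreg',
      Groth.Agent.Lib.CMRingEquiv96.depth_eq e]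
  · rw [← ringKrullDim_quotient_span_singleton_succ_eq_ringKrullDim hreg' hmem,
      ringKrullDim_eq_of_ringEquiv e]

include hφ hker hreg in
theorem height_comap : (p.comap φ).height = p.height + 1 := by
  have h := (depth_and_dim_atPrime_comap φ hφ x hker p hreg).2
  rw [IsLocalization.AtPrime.ringKrullDim_eq_height (p.comap φ) (Localization.AtPrime (p.comap φ)),
    IsLocalization.AtPrime.ringKrullDim_eq_height p (Localization.AtPrime p)] at h
  exact_mod_cast h

include hφ hker hreg in
/-- `(S_{k+1})` at `φ⁻¹ p` iff `(S_k)` at `p`. -/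
theorem skAt_comap_iff (k : ℕ) : SkAt R (k + 1) (p.comap φ) ↔ SkAt G k p := by
  unfold SkAt
  rw [(depth_and_dim_atPrime_comap φ hφ x hker p hreg).1, height_comap φ hφ x hker p hreg]
  have : ((k + 1 : ℕ) : ℕ∞) = (k : ℕ∞) + 1 := by push_cast; rfl
  rw [this, min_add_add_right, ENat.add_le_add_iff_right ENat.one_ne_top]

omit hp in
include hφ hker hreg in
/-- If `G = R/(x)` has `(S_k)` at every prime, `R` has `(S_{k+1})` at every prime containing
`x`. -/
theorem skAt_of_mem (k : ℕ) (H : ∀ (q : Ideal G) [q.IsPrime], SkAt G k q)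
    (P : Ideal R) [hP : P.IsPrime] (hx : x ∈ P) : SkAt R (k + 1) P := by
  have hkerle : RingHom.ker φ ≤ P := by
    rw [hker, Ideal.span_le, Set.singleton_subset_iff]; exact hx
  have hcm : (P.map φ).comap φ = P := by
    rw [Ideal.comap_map_of_surjective _ hφ, ← RingHom.ker_eq_comap_bot]
    exact sup_eq_left.2 hkerle
  haveI : (P.map φ).IsPrime := Ideal.map_isPrime_of_surjective hφ hkerle
  have h1 := H (P.map φ)
  have h3 := (skAt_comap_iff φ hφ x hker (P.map φ) hreg k).2 h1
  exact (skAt_congr hcm).1 h3

end Quot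

section Graded

open DirectSum

variable {R : Type u} [CommRing R] [IsNoetherianRing R] (𝒜 : ℤ → AddSubgroup R) [GradedRing 𝒜]

/-- `(S_k)` at the homogeneous core of a prime implies `(S_k)` at the prime. -/
theorem skAt_of_core (k : ℕ) (p : Ideal R) [hp : p.IsPrime]
    [hc : (p.homogeneousCore 𝒜).toIdeal.IsPrime]
    (h : SkAt R k (p.homogeneousCore 𝒜).toIdeal) : SkAt R k p := by
  by_cases hpc : p = (p.homogeneousCore 𝒜).toIdeal
  · exact (skAt_congr hpc).2 h
  have hle : (p.homogeneousCore 𝒜).toIdeal ≤ p := Ideal.toIdeal_homogeneousCore_le 𝒜 p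
  set c := (p.homogeneousCore 𝒜).toIdeal with hcdef
  have hker : RingHom.ker (Ideal.Quotient.mk c) ≤ p := by rw [Ideal.mk_ker]; exact hle
  haveI hP' : (p.map (Ideal.Quotient.mk c)).IsPrime :=
    Ideal.map_isPrime_of_surjective Ideal.Quotient.mk_surjective hker
  obtain ⟨d, hd⟩ : ∃ d : ℕ, (p.map (Ideal.Quotient.mk c)).height = d := by
    have := Ideal.height_ne_top (I := p.map (Ideal.Quotient.mk c)) hP'.ne_top
    exact ⟨_, (ENat.natCast_toNat this).symm⟩
  have hd1 : 1 ≤ d := by
    have hbot : (⊥ : Ideal (R ⧸ c)) < p.map (Ideal.Quotient.mk c) := by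
      rw [bot_lt_iff_ne_bot]
      intro h0
      apply hpc
      apply le_antisymm _ hle
      intro x hx
      have : Ideal.Quotient.mk c x ∈ p.map (Ideal.Quotient.mk c) := Ideal.mem_map_of_mem _ hx
      rw [h0, Ideal.mem_bot, Ideal.Quotient.eq_zero_iff_mem] at this
      exact this
    haveI : (⊥ : Ideal (R ⧸ c)).IsPrime := Ideal.isPrime_bot
    have h1 := Ideal.height_strict_mono_of_isPrime_of_isPrime hbot
    rw [hd] at h1
    have h2 : (0 : ℕ∞) < (d : ℕ∞) := lt_of_le_of_lt bot_le h1
    exact_mod_cast h2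
  have hdepth := Groth.Agent.Lib.H74BassCore.depth_eq_core_add R 𝒜 R 𝒜 p d hd
  rw [depth_localizedModule_self, depth_localizedModule_self] at hdepth
  unfold SkAt at h ⊢
  rw [hdepth]
  have hht : p.height ≤ c.height + 1 := Groth.Agent.Lib.H74GrDim.height_le_core_add_one 𝒜 p
  calc min (k : ℕ∞) p.height ≤ min ((k : ℕ∞) + 1) (c.height + 1) :=
        min_le_min le_self_add hht
    _ = min (k : ℕ∞) c.height + 1 := min_add_add_right _ _ _
    _ ≤ depth (Localization.AtPrime c) (Localization.AtPrime c) + 1 := by gcongr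
    _ ≤ depth (Localization.AtPrime c) (Localization.AtPrime c) + d := by
        gcongr; exact_mod_cast hd1

end Graded

end Groth.Agent.Lib.SkTools12
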