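import Groth.Agent.Lib.ExtRees12f
import Groth.Agent.Lib.SkTools12

/-!
# Serre's conditions at the primes `Qq` of the extended Rees algebra (helper12)

* `skAt_Qq_iff : SkAt 𝓕.extRees k (Qq 𝓕 q) ↔ SkAt A k q`.
-/

set_option autoImplicit false
set_option linter.unusedSectionVars false
set_option linter.style.haveILetI false
universe u

namespace Groth.Agent.Lib.ExtRees12

open FiltBl LaurentPolynomial AddMonoidAlgebra DirectSum IsLocalRing LocCoh
  Groth.Agent.Lib.SkTools12

variable {A : Type u} [CommRing A] [IsNoetherianRing A] (𝓕 : IdealFiltration A)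
  (q : Ideal A) [q.IsPrime]

theorem depth_Qq :
    depth (Localization.AtPrime (Qq 𝓕 q)) (Localization.AtPrime (Qq 𝓕 q)) =
      depth (Localization.AtPrime q) (Localization.AtPrime q) := by
  rw [← Groth.Agent.Lib.FlatLocField12.depth_eq (locC q) (locC_flat q) (map_locC_maximalIdeal q)]
  exact Groth.Agent.Lib.CMRingEquiv96.depth_eq
    (R := Localization.AtPrime (Qq 𝓕 q)) (R' := Localization.AtPrime (coeffIdeal q)) (QqEquiv 𝓕 q)

theorem height_Qq : (Qq 𝓕 q).height = q.height := by
  have h1 := Groth.Agent.Lib.FlatLocField12.ringKrullDim_eq (locC q) (locC_flat q)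
    (map_locC_maximalIdeal q)
  have h2 := ringKrullDim_eq_of_ringEquiv (QqEquiv 𝓕 q)
  rw [h1, IsLocalization.AtPrime.ringKrullDim_eq_height (Qq 𝓕 q) (Localization.AtPrime (Qq 𝓕 q)),
    IsLocalization.AtPrime.ringKrullDim_eq_height q (Localization.AtPrime q)] at h2
  exact_mod_cast h2

theorem skAt_Qq_iff (k : ℕ) : SkAt 𝓕.extRees k (Qq 𝓕 q) ↔ SkAt A k q := by
  unfold SkAt
  rw [depth_Qq, height_Qq]

end Groth.Agent.Lib.ExtRees12
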