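import Mathlib
import Groth.Prelude.Def_W4c2filtblowupsingRees

/-!
# The extended Rees algebra: localization at `u = T⁻¹`, Noetherianity, unique factorization
(helper99)
-/

set_option autoImplicit false
universe u

namespace Groth.Agent.Lib.ExtReesUFD99

open Polynomial FiltBl LaurentPolynomial

variable {A : Type u} [CommRing A] (𝓕 : FiltBl.IdealFiltration A)

lemma mem_extRees_iff (f : A[T;T⁻¹]) :
    f ∈ 𝓕.extRees ↔ ∀ n : ℤ, f.coeff n ∈ 𝓕.F n.toNat := Iff.rfl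

lemma single_mem_extRees {n : ℤ} {a : A} (ha : a ∈ 𝓕.F n.toNat) :
    (AddMonoidAlgebra.single n a : A[T;T⁻¹]) ∈ 𝓕.extRees := by
  classical
  intro m
  rw [AddMonoidAlgebra.coeff_single, Finsupp.single_apply]
  split_ifs with h
  · subst h; exact ha
  · exact Ideal.zero_mem _

lemma F_zero_eq_top : 𝓕.F 0 = ⊤ := 𝓕.zero_eq

lemma single_nonpos_mem_extRees {n : ℤ} (hn : n ≤ 0) (a : A) :
    (AddMonoidAlgebra.single n a : A[T;T⁻¹]) ∈ 𝓕.extRees := by
  apply single_mem_extRees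
  rw [Int.toNat_of_nonpos hn, 𝓕.zero_eq]
  exact Submodule.mem_top

lemma u_val : ((𝓕.u : 𝓕.extRees) : A[T;T⁻¹]) = T (-1) := rfl

lemma u_pow_val (N : ℕ) : (((𝓕.u : 𝓕.extRees) ^ N : 𝓕.extRees) : A[T;T⁻¹]) = T (-(N : ℤ)) := by
  rw [SubmonoidClass.coe_pow, u_val, T_pow]
  congr 1
  ring

/-- For every Laurent polynomial `z`, `z * T^{-N}` lies in the extended Rees algebra for `N` large. -/
lemma exists_mul_T_mem (z : A[T;T⁻¹]) : ∃ N : ℕ, z * T (-(N : ℤ)) ∈ 𝓕.extRees := by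
  classical
  obtain ⟨N, hN⟩ : ∃ N : ℕ, ∀ m ∈ z.coeff.support, m ≤ (N : ℤ) := by
    refine ⟨(z.coeff.support.sup (fun m : ℤ => m.toNat)), fun m hm => ?_⟩
    have := Finset.le_sup (f := fun m : ℤ => m.toNat) hm
    have h2 : m ≤ (m.toNat : ℤ) := Int.self_le_toNat m
    exact h2.trans (by exact_mod_cast this)
  refine ⟨N, fun n => ?_⟩
  rw [T, AddMonoidAlgebra.coeff_mul_single_apply, mul_one]
  by_cases hn : n ≤ 0
  · rw [Int.toNat_of_nonpos hn, 𝓕.zero_eq]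
    exact Submodule.mem_top
  · have : z.coeff (n + - -(N : ℤ)) = 0 := by
      by_contra hne
      have := hN _ (Finsupp.mem_support_iff.mpr hne)
      omega
    rw [this]
    exact Ideal.zero_mem _

instance isLocalizationAway : IsLocalization.Away (𝓕.u : 𝓕.extRees) A[T;T⁻¹] where
  map_units := by
    rintro ⟨y, N, rfl⟩
    change IsUnit (((𝓕.u : 𝓕.extRees) ^ N : 𝓕.extRees) : A[T;T⁻¹])
    rw [u_pow_val]
    exact isUnit_T _
  surj := by
    intro z
    obtain ⟨N, hN⟩ := exists_mul_T_mem 𝓕 z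
    refine ⟨(⟨_, hN⟩, ⟨𝓕.u ^ N, N, rfl⟩), ?_⟩
    change z * (((𝓕.u : 𝓕.extRees) ^ N : 𝓕.extRees) : A[T;T⁻¹]) = z * T (-(N : ℤ))
    rw [u_pow_val]
  exists_of_eq := by
    intro x y h
    refine ⟨1, ?_⟩
    have : x = y := Subtype.ext h
    rw [this]


omit 𝓕 in
/-- Over a domain, a factor of a power of `T` is a unit constant times a power of `T`. -/
lemma eq_C_mul_T_of_mul_eq_T [IsDomain A] (a b : A[T;T⁻¹]) (n : ℤ) (h : a * b = T n) :
    ∃ (c : Aˣ) (e : ℤ), a = LaurentPolynomial.C (c : A) * T e := by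
  obtain ⟨m, a₀, ha⟩ := exists_T_pow a
  obtain ⟨l, b₀, hb⟩ := exists_T_pow b
  set k : ℕ := (-n).toNat with hk
  set N : ℕ := (n + m + l + k).toNat with hN
  have hNnonneg : 0 ≤ n + m + l + k := by
    have : -n ≤ ((-n).toNat : ℤ) := Int.self_le_toNat _
    omega
  have hprod : toLaurent (a₀ * (b₀ * X ^ k)) = toLaurent (X ^ N : A[X]) := by
    rw [map_mul, map_mul, ha, hb, toLaurent_X_pow, toLaurent_X_pow]
    calc a * T m * (b * T l * T k) = (a * b) * (T m * T l * T k) := by ring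
      _ = T n * (T m * T l * T k) := by rw [h]
      _ = T (n + m + l + k) := by rw [← T_add, ← T_add, ← T_add]; congr 1; ring
      _ = T (N : ℤ) := by rw [hN, Int.toNat_of_nonneg hNnonneg]
  have hdvd : a₀ ∣ (X : A[X]) ^ N := ⟨_, (toLaurent_injective hprod).symm⟩
  obtain ⟨i, -, hi⟩ := (dvd_prime_pow Polynomial.prime_X N).mp hdvd
  obtain ⟨w, hw⟩ := hi.symm
  obtain ⟨c, hc, hcw⟩ := Polynomial.isUnit_iff.mp w.isUnit
  refine ⟨hc.unit, (i : ℤ) - m, ?_⟩
  have h1 : a * T m = LaurentPolynomial.C c * T i := by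
    rw [← ha, ← hw, ← hcw, map_mul, toLaurent_X_pow, Polynomial.toLaurent_C, mul_comm]
  calc a = a * T m * T (-(m : ℤ)) := by rw [mul_T_assoc, add_neg_cancel, T_zero, mul_one]
    _ = LaurentPolynomial.C c * T i * T (-(m : ℤ)) := by rw [h1]
    _ = LaurentPolynomial.C c * T ((i : ℤ) - m) := by rw [mul_T_assoc, sub_eq_add_neg]

lemma not_isUnit_u [Nontrivial A] (h1 : 𝓕.F 1 ≠ ⊤) : ¬ IsUnit (𝓕.u : 𝓕.extRees) := by
  rintro ⟨⟨_, w, huw, -⟩, rfl⟩
  have h2 : ((𝓕.u * w : 𝓕.extRees) : A[T;T⁻¹]) = 1 := by rw [huw]; rfl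
  rw [Subalgebra.coe_mul, u_val] at h2
  have hw : (w : A[T;T⁻¹]) = T 1 := by
    calc (w : A[T;T⁻¹]) = (T 1 : A[T;T⁻¹]) * (T (-1) * (w : A[T;T⁻¹])) := by
          rw [← mul_assoc, ← T_add]; simp
      _ = T 1 := by rw [h2, mul_one]
  have hmem := w.2 1
  rw [hw, T_apply] at hmem
  simp only [if_true] at hmem
  apply h1
  rw [Ideal.eq_top_iff_one]
  exact hmem


lemma isUnit_of_eq_C (a : 𝓕.extRees) (c : Aˣ)
    (ha : (a : A[T;T⁻¹]) = LaurentPolynomial.C (c : A)) : IsUnit a := by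
  have hmem : LaurentPolynomial.C ((c⁻¹ : Aˣ) : A) ∈ 𝓕.extRees :=
    single_nonpos_mem_extRees 𝓕 le_rfl _
  refine isUnit_iff_exists_inv.mpr ⟨⟨_, hmem⟩, Subtype.ext ?_⟩
  change (a : A[T;T⁻¹]) * LaurentPolynomial.C ((c⁻¹ : Aˣ) : A) = 1
  rw [ha, ← map_mul, Units.mul_inv, map_one]

lemma le_zero_of_mem (h1 : 𝓕.F 1 ≠ ⊤) (a : 𝓕.extRees) (c : Aˣ) (e : ℤ)
    (hc : (a : A[T;T⁻¹]) = LaurentPolynomial.C (c : A) * T e) : e ≤ 0 := by
  classical
  by_contra hpos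
  push Not at hpos
  have hmem := a.2 e
  rw [hc, ← single_eq_C_mul_T, AddMonoidAlgebra.coeff_single, Finsupp.single_eq_same] at hmem
  have hle : 𝓕.F e.toNat ≤ 𝓕.F 1 := 𝓕.antitone (by omega)
  exact h1 (Ideal.eq_top_of_isUnit_mem _ (hle hmem) c.isUnit)

lemma irreducible_u [IsDomain A] (h1 : 𝓕.F 1 ≠ ⊤) : Irreducible (𝓕.u : 𝓕.extRees) := by
  classical
  refine ⟨not_isUnit_u 𝓕 h1, fun a b hab => ?_⟩
  have hab' : (a : A[T;T⁻¹]) * (b : A[T;T⁻¹]) = T (-1) := by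
    rw [← Subalgebra.coe_mul, ← hab]; rfl
  obtain ⟨c, e, hc⟩ := eq_C_mul_T_of_mul_eq_T _ _ _ hab'
  obtain ⟨d, e', hd⟩ := eq_C_mul_T_of_mul_eq_T (b : A[T;T⁻¹]) (a : A[T;T⁻¹]) (-1)
    (by rw [mul_comm]; exact hab')
  have hprod : LaurentPolynomial.C ((c * d : Aˣ) : A) * T (e + e') = T (-1) := by
    rw [← hab', hc, hd, Units.val_mul, map_mul, T_add]; ring
  have hee : e + e' = -1 := by
    have := congrArg (fun f : A[T;T⁻¹] => f.coeff (e + e')) hprod
    simp only [← single_eq_C_mul_T, AddMonoidAlgebra.coeff_single, Finsupp.single_eq_same,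
      T_apply] at this
    by_contra hne
    rw [if_neg (fun h => hne h.symm)] at this
    exact (c * d).ne_zero this
  have he : e ≤ 0 := le_zero_of_mem 𝓕 h1 a c e hc
  have he' : e' ≤ 0 := le_zero_of_mem 𝓕 h1 b d e' hd
  rcases (by omega : e = 0 ∨ e' = 0) with h0 | h0
  · left
    apply isUnit_of_eq_C 𝓕 a c
    rw [hc, h0, T_zero, mul_one]
  · right
    apply isUnit_of_eq_C 𝓕 b d
    rw [hd, h0, T_zero, mul_one]


/-! ### Noetherianity of the extended Rees algebra -/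

lemma toLaurent_mem_extRees (p : 𝓕.rees) : toLaurent (p : A[X]) ∈ 𝓕.extRees := by
  have hp : (p : A[X]) = ∑ n ∈ (p : A[X]).support, Polynomial.monomial n ((p : A[X]).coeff n) :=
    (p : A[X]).as_sum_support
  rw [hp, map_sum]
  refine Subalgebra.sum_mem _ (fun n _ => ?_)
  rw [Polynomial.toLaurent_C_mul_T, ← single_eq_C_mul_T]
  apply single_mem_extRees
  rw [Int.toNat_natCast]
  exact p.2 n

/-- `rees → extRees`. -/
noncomputable def phi0 : 𝓕.rees →+* 𝓕.extRees :=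
  ((toLaurent : A[X] →+* A[T;T⁻¹]).comp (algebraMap 𝓕.rees A[X])).codRestrict 𝓕.extRees
    (fun p => toLaurent_mem_extRees 𝓕 p)

lemma phi0_val (p : 𝓕.rees) : ((phi0 𝓕 p : 𝓕.extRees) : A[T;T⁻¹]) = toLaurent (p : A[X]) := rfl

/-- `rees[Y] → extRees`, `Y ↦ u`. -/
noncomputable def gmap : (𝓕.rees)[X] →+* 𝓕.extRees := Polynomial.eval₂RingHom (phi0 𝓕) 𝓕.u

lemma single_mem_range_gmap {n : ℤ} {a : A} (ha : a ∈ 𝓕.F n.toNat) :
    (⟨AddMonoidAlgebra.single n a, single_mem_extRees 𝓕 ha⟩ : 𝓕.extRees) ∈ (gmap 𝓕).rangeS := by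
  rcases le_or_gt 0 n with hn | hn
  · obtain ⟨k, rfl⟩ := Int.eq_ofNat_of_zero_le hn
    rw [Int.toNat_natCast] at ha
    have hmem : Polynomial.monomial k a ∈ 𝓕.rees := by
      intro m
      rw [Polynomial.coeff_monomial]
      split_ifs with h
      · subst h; exact ha
      · exact Ideal.zero_mem _
    refine ⟨Polynomial.C ⟨_, hmem⟩, Subtype.ext ?_⟩
    change ((Polynomial.eval₂ (phi0 𝓕) 𝓕.u (Polynomial.C ⟨_, hmem⟩) : 𝓕.extRees) : A[T;T⁻¹]) = _
    rw [Polynomial.eval₂_C, phi0_val]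
    change toLaurent (Polynomial.monomial k a) = _
    rw [Polynomial.toLaurent_C_mul_T, ← single_eq_C_mul_T]
  · obtain ⟨k, hk⟩ : ∃ k : ℕ, n = -(k : ℤ) := ⟨(-n).toNat, by omega⟩
    subst hk
    have hmem : Polynomial.C a ∈ 𝓕.rees := Subalgebra.algebraMap_mem _ a
    refine ⟨Polynomial.C ⟨_, hmem⟩ * Polynomial.X ^ k, Subtype.ext ?_⟩
    change ((Polynomial.eval₂ (phi0 𝓕) 𝓕.u (Polynomial.C ⟨_, hmem⟩ * Polynomial.X ^ k) :
      𝓕.extRees) : A[T;T⁻¹]) = _
    rw [Polynomial.eval₂_mul, Polynomial.eval₂_C, Polynomial.eval₂_X_pow, Subalgebra.coe_mul,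
      phi0_val, u_pow_val]
    change toLaurent (Polynomial.C a) * T (-(k : ℤ)) = _
    rw [Polynomial.toLaurent_C, ← single_eq_C_mul_T]

lemma gmap_surjective : Function.Surjective (gmap 𝓕) := by
  classical
  intro f
  have hf : f = ∑ n ∈ (f : A[T;T⁻¹]).coeff.support,
      (⟨AddMonoidAlgebra.single n ((f : A[T;T⁻¹]).coeff n), single_mem_extRees 𝓕 (f.2 n)⟩ :
        𝓕.extRees) := by
    apply Subtype.ext
    rw [AddSubmonoidClass.coe_finsetSum]
    conv_lhs => rw [← AddMonoidAlgebra.sum_coeff_single (f : A[T;T⁻¹])]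
    rfl
  have : f ∈ (gmap 𝓕).rangeS := by
    rw [hf]
    exact Subsemiring.sum_mem _ (fun n _ => single_mem_range_gmap 𝓕 (f.2 n))
  exact this

lemma isNoetherianRing_extRees [IsNoetherianRing A] (hfg : Algebra.FiniteType A 𝓕.rees) :
    IsNoetherianRing 𝓕.extRees := by
  have : IsNoetherianRing 𝓕.rees := Algebra.FiniteType.isNoetherianRing A 𝓕.rees
  exact isNoetherianRing_of_surjective (𝓕.rees)[X] 𝓕.extRees (gmap 𝓕) (gmap_surjective 𝓕)


/-! ### Unique factorization -/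

omit 𝓕 in
lemma irreducible_C_of_irreducible [IsDomain A] {a : A} (ha : Irreducible a) :
    Irreducible (Polynomial.C a) := by
  refine ⟨fun h => ha.not_isUnit (Polynomial.isUnit_C.mp h), fun f g hfg => ?_⟩
  have hne : Polynomial.C a ≠ 0 := by
    rw [Ne, Polynomial.C_eq_zero]; exact ha.ne_zero
  have hf0 : f ≠ 0 := fun h => hne (by rw [hfg, h, zero_mul])
  have hg0 : g ≠ 0 := fun h => hne (by rw [hfg, h, mul_zero])
  have hdeg : f.natDegree + g.natDegree = 0 := by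
    rw [← Polynomial.natDegree_mul hf0 hg0, ← hfg, Polynomial.natDegree_C]
  have hf : f.natDegree = 0 := by omega
  have hg : g.natDegree = 0 := by omega
  rw [Polynomial.eq_C_of_natDegree_eq_zero hf, Polynomial.eq_C_of_natDegree_eq_zero hg,
    ← Polynomial.C_mul, Polynomial.C_inj] at hfg
  rcases ha.isUnit_or_isUnit hfg with h | h
  · left; rw [Polynomial.eq_C_of_natDegree_eq_zero hf]; exact Polynomial.isUnit_C.mpr h
  · right; rw [Polynomial.eq_C_of_natDegree_eq_zero hg]; exact Polynomial.isUnit_C.mpr h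

omit 𝓕 in
/-- For a Noetherian domain, `A[X]` a UFD implies `A` a UFD. -/
lemma ufm_of_ufm_polynomial [IsDomain A] [IsNoetherianRing A]
    (h : UniqueFactorizationMonoid A[X]) : UniqueFactorizationMonoid A :=
  { (inferInstance : WfDvdMonoid A) with
    irreducible_iff_prime := fun {a} =>
      ⟨fun ha => Polynomial.prime_C_iff.mp
        (UniqueFactorizationMonoid.irreducible_iff_prime.mp (irreducible_C_of_irreducible ha)),
       Prime.irreducible⟩ }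

omit 𝓕 in
/-- For a Noetherian domain, `A[T;T⁻¹]` a UFD implies `A` a UFD. -/
lemma ufm_of_ufm_laurent [IsDomain A] [IsNoetherianRing A]
    (h : UniqueFactorizationMonoid A[T;T⁻¹]) : UniqueFactorizationMonoid A :=
  ufm_of_ufm_polynomial
    ((UniqueFactorizationMonoid.iff_of_isLocalizationAway_of_prime
      (Polynomial.prime_X (R := A)) A[T;T⁻¹]).mpr h)

lemma F_one_ne_top [Nontrivial A] (hsep : ⨅ n, 𝓕.F n = ⊥) : 𝓕.F 1 ≠ ⊤ := by
  intro h1
  have hall : ∀ n, 𝓕.F n = ⊤ := by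
    intro n
    induction n with
    | zero => exact 𝓕.zero_eq
    | succ n ih =>
      rw [eq_top_iff]
      calc (⊤ : Ideal A) = 𝓕.F n * 𝓕.F 1 := by rw [ih, h1, Ideal.mul_top]
        _ ≤ 𝓕.F (n + 1) := 𝓕.mul_le n 1
  have : (⨅ n, 𝓕.F n) = ⊤ := by
    rw [iInf_eq_top]; exact hall
  rw [hsep] at this
  exact bot_ne_top this

lemma u_ne_zero [Nontrivial A] : (𝓕.u : 𝓕.extRees) ≠ 0 := by
  intro h
  have h2 : ((𝓕.u : 𝓕.extRees) : A[T;T⁻¹]) = 0 := by rw [h]; rfl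
  rw [u_val] at h2
  exact (isUnit_T (R := A) (-1)).ne_zero h2

theorem main [IsDomain A] [IsNoetherianRing A] (hsep : ⨅ n, 𝓕.F n = ⊥)
    (hfg : Algebra.FiniteType A 𝓕.rees) [IsDomain 𝓕.extRees] :
    UniqueFactorizationMonoid 𝓕.extRees ↔ (UniqueFactorizationMonoid A ∧ IsDomain 𝓕.Gr) := by
  have h1 : 𝓕.F 1 ≠ ⊤ := F_one_ne_top 𝓕 hsep
  have hu0 : (𝓕.u : 𝓕.extRees) ≠ 0 := u_ne_zero 𝓕
  have hGr : IsDomain 𝓕.Gr ↔ Prime (𝓕.u : 𝓕.extRees) := by
    rw [Ideal.Quotient.isDomain_iff_prime, Ideal.span_singleton_prime hu0]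
  have hnoeth : IsNoetherianRing 𝓕.extRees := isNoetherianRing_extRees 𝓕 hfg
  constructor
  · intro hufd
    refine ⟨?_, hGr.mpr (UniqueFactorizationMonoid.irreducible_iff_prime.mp (irreducible_u 𝓕 h1))⟩
    apply ufm_of_ufm_laurent
    exact UniqueFactorizationMonoid.of_isLocalization (Submonoid.powers (𝓕.u : 𝓕.extRees))
      A[T;T⁻¹]
  · rintro ⟨hA, hdom⟩
    have hprime : Prime (𝓕.u : 𝓕.extRees) := hGr.mp hdom
    have hL : UniqueFactorizationMonoid A[T;T⁻¹] :=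
      UniqueFactorizationMonoid.of_isLocalization (Submonoid.powers (Polynomial.X : A[X]))
        A[T;T⁻¹]
    exact (UniqueFactorizationMonoid.iff_of_isLocalizationAway_of_prime hprime A[T;T⁻¹]).mpr hL

end Groth.Agent.Lib.ExtReesUFD99
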