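import Groth.Agent.S5665
import Mathlib.Algebra.Category.ModuleCat.Biproducts

/-!
# `Ext^i_A(A/J, M) ≅ M^(p choose i)` for `J` generated by a weakly regular sequence and `JM = 0`

Universal-element induction: we construct `t ∈ Ext^n(A/J, F)` with `F ≅ (A/K)^c` such that
`φ ↦ t ∘ φ : Hom(F, M) → Ext^n(A/J, M)` is bijective for all `M` killed by `K`.  Naturality in `M`
is what makes the short exact sequences coming from the long exact sequence split.
-/

set_option autoImplicit false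
universe u
open CategoryTheory Abelian Limits

namespace Groth.Agent.Lib.ExtRegSeq

variable {A : Type u} [CommRing A]

/-- `M` is killed by `K`. -/
def Killed (K : Ideal A) (M : ModuleCat.{u} A) : Prop := ∀ a ∈ K, ∀ m : M, a • m = 0

/-- `t` is a universal element for modules killed by `K`. -/
def IsUniv (K : Ideal A) {X F : ModuleCat.{u} A} {n : ℕ} (t : Ext X F n) : Prop :=
  ∀ M : ModuleCat.{u} A, Killed K M →
    Function.Bijective (fun φ : F ⟶ M => t.comp (Ext.mk₀ φ) (add_zero n))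

lemma comp_sub' {X Y Z : ModuleCat.{u} A} {n m p : ℕ} (α : Ext X Y n) (β₁ β₂ : Ext Y Z m)
    (h : n + m = p) : α.comp (β₁ - β₂) h = α.comp β₁ h - α.comp β₂ h := by
  rw [sub_eq_add_neg, Ext.comp_add, Ext.comp_neg, ← sub_eq_add_neg]

lemma smul_eq_zero_of_killed {X M : ModuleCat.{u} A} (x : A) (hxM : ∀ m : M, x • m = 0) {n : ℕ}
    (e : Ext X M n) : x • e = 0 := by
  rw [Ext.smul_eq_comp_mk₀]
  have : x • 𝟙 M = 0 := by
    ext m
    exact hxM m
  rw [this, Ext.mk₀_zero, Ext.comp_zero]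

section Step

variable {X Z : ModuleCat.{u} A} (x : A) (g : X ⟶ Z)
  (w : (x • 𝟙 X) ≫ g = 0) (hS : (ShortComplex.mk (x • 𝟙 X) g w).ShortExact)

include hS

lemma delta_injective {M : ModuleCat.{u} A} (hxM : ∀ m : M, x • m = 0) {n n' : ℕ} (h : 1 + n = n')
    (y : Ext X M n) (hy : hS.extClass.comp y h = 0) : y = 0 := by
  obtain ⟨x₂, hx₂⟩ := Ext.contravariant_sequence_exact₁ hS M y h hy
  have : (Ext.mk₀ (x • 𝟙 X)).comp x₂ (zero_add n) = y := hx₂
  rw [Groth.Agent.S5665.mk₀_smul_id_comp, smul_eq_zero_of_killed x hxM] at this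
  exact this.symm

lemma pi_surjective {M : ModuleCat.{u} A} (hxM : ∀ m : M, x • m = 0) {n : ℕ}
    (y : Ext X M n) : ∃ z : Ext Z M n, (Ext.mk₀ g).comp z (zero_add n) = y := by
  refine Ext.contravariant_sequence_exact₂ hS M y ?_
  change (Ext.mk₀ (x • 𝟙 X)).comp y (zero_add n) = 0
  rw [Groth.Agent.S5665.mk₀_smul_id_comp, smul_eq_zero_of_killed x hxM]

lemma pi_delta {M : ModuleCat.{u} A} {n n' : ℕ} (h : 1 + n = n') (y : Ext X M n) :
    (Ext.mk₀ g).comp (hS.extClass.comp y h) (zero_add n') = 0 := by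
  have := hS.comp_extClass_assoc y h
  exact this

/-- The universal element for `Z` built from those for `X` in degrees `n`, `n + 1`. -/
lemma exists_isUniv_step (K : Ideal A) (hxK : x ∈ K) {Fa Fb : ModuleCat.{u} A}
    (hFb : Killed K Fb) {n : ℕ} (ta : Ext X Fa n) (tb : Ext X Fb (n + 1))
    (ha : IsUniv K ta) (hb : IsUniv K tb) :
    ∃ t : Ext Z (Fa ⊞ Fb) (n + 1), IsUniv K t := by
  have hn : 1 + n = n + 1 := by omega
  obtain ⟨s, hs⟩ := pi_surjective x g w hS (fun m => hFb x hxK m) tb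
  refine ⟨(hS.extClass.comp ta hn).comp (Ext.mk₀ biprod.inl) (add_zero _) +
    s.comp (Ext.mk₀ biprod.inr) (add_zero _), ?_⟩
  intro M hM
  have hxM : ∀ m : M, x • m = 0 := fun m => hM x hxK m
  -- formula
  have key : ∀ φ : Fa ⊞ Fb ⟶ M,
      ((hS.extClass.comp ta hn).comp (Ext.mk₀ biprod.inl) (add_zero _) +
        s.comp (Ext.mk₀ biprod.inr) (add_zero _)).comp (Ext.mk₀ φ) (add_zero _) =
      hS.extClass.comp (ta.comp (Ext.mk₀ (biprod.inl ≫ φ)) (add_zero _)) hn +
        s.comp (Ext.mk₀ (biprod.inr ≫ φ)) (add_zero _) := by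
    intro φ
    rw [Ext.add_comp]
    congr 1
    · rw [Ext.comp_assoc_of_third_deg_zero, Ext.comp_assoc_of_third_deg_zero, Ext.mk₀_comp_mk₀]
    · rw [Ext.comp_assoc_of_third_deg_zero, Ext.mk₀_comp_mk₀]
  have key2 : ∀ φ : Fa ⊞ Fb ⟶ M,
      (Ext.mk₀ g).comp (((hS.extClass.comp ta hn).comp (Ext.mk₀ biprod.inl) (add_zero _) +
        s.comp (Ext.mk₀ biprod.inr) (add_zero _)).comp (Ext.mk₀ φ) (add_zero _)) (zero_add _) =
      tb.comp (Ext.mk₀ (biprod.inr ≫ φ)) (add_zero _) := by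
    intro φ
    rw [key, Ext.comp_add, pi_delta x g w hS, zero_add, ← Ext.comp_assoc_of_third_deg_zero, hs]
  constructor
  · intro φ ψ hφψ
    dsimp only at hφψ
    have h1 : biprod.inr ≫ φ = biprod.inr ≫ ψ := by
      apply (hb M hM).1
      dsimp only
      rw [← key2, ← key2, hφψ]
    have h2 : biprod.inl ≫ φ = biprod.inl ≫ ψ := by
      apply (ha M hM).1
      dsimp only
      rw [key, key, h1] at hφψ
      have h3 := add_right_cancel hφψ
      rw [← sub_eq_zero, ← comp_sub'] at h3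
      have h4 := delta_injective x g w hS hxM hn _ h3
      exact sub_eq_zero.mp h4
    exact biprod.hom_ext' _ _ h2 h1
  · intro z
    obtain ⟨φb, hφb⟩ := (hb M hM).2 ((Ext.mk₀ g).comp z (zero_add _))
    dsimp only at hφb
    have h1 : (Ext.mk₀ g).comp (z - s.comp (Ext.mk₀ φb) (add_zero _)) (zero_add _) = 0 := by
      rw [comp_sub', ← Ext.comp_assoc_of_third_deg_zero, hs, hφb, sub_self]
    obtain ⟨y, hy⟩ := Ext.contravariant_sequence_exact₃ hS M _ h1 hn
    obtain ⟨φa, hφa⟩ := (ha M hM).2 y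
    dsimp only at hφa
    refine ⟨biprod.desc φa φb, ?_⟩
    dsimp only
    rw [key, biprod.inl_desc, biprod.inr_desc, hφa, hy, sub_add_cancel]

end Step

/-- The inductive statement: a universal element in `Ext^n(A/J, F)` with `F ≅ (A/K)^c`. -/
def Q (J K : Ideal A) (n c : ℕ) : Prop :=
  ∃ (F : ModuleCat.{u} A) (_ : F ≃ₗ[A] (Fin c → A ⧸ K))
    (t : Ext (ModuleCat.of A (A ⧸ J)) F n), IsUniv K t

lemma killed_of_equiv (K : Ideal A) {c : ℕ} {F : ModuleCat.{u} A}
    (e : F ≃ₗ[A] (Fin c → A ⧸ K)) : Killed K F := by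
  intro a ha m
  apply e.injective
  rw [map_smul, map_zero]
  funext i
  obtain ⟨b, hb⟩ := Ideal.Quotient.mk_surjective (e m i)
  rw [Pi.smul_apply, ← hb, Pi.zero_apply, Algebra.smul_def]
  change Ideal.Quotient.mk K a * _ = 0
  rw [Ideal.Quotient.eq_zero_iff_mem.mpr ha, zero_mul]

lemma Q_zero (J K : Ideal A) (hJK : J ≤ K) : Q J K 0 1 := by
  refine ⟨ModuleCat.of A (A ⧸ K), (LinearEquiv.funUnique (Fin 1) A (A ⧸ K)).symm,
    Ext.mk₀ (ModuleCat.ofHom (Submodule.factor hJK)), ?_⟩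
  intro M hM
  have hbij : Function.Bijective
      (fun φ : ModuleCat.of A (A ⧸ K) ⟶ M => ModuleCat.ofHom (Submodule.factor hJK) ≫ φ) := by
    constructor
    · intro φ ψ h
      dsimp only at h
      have : Epi (ModuleCat.ofHom (Submodule.factor hJK)) := by
        rw [ModuleCat.epi_iff_surjective]
        intro y
        obtain ⟨a, rfl⟩ := Submodule.Quotient.mk_surjective _ y
        exact ⟨Submodule.Quotient.mk a, rfl⟩
      exact (cancel_epi _).mp h
    · intro h
      have hker : K ≤ LinearMap.ker (h.hom ∘ₗ Submodule.mkQ J) := by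
        intro a ha
        rw [LinearMap.mem_ker]
        have : a • (h.hom (Submodule.Quotient.mk 1)) = 0 := hM a ha _
        rw [← map_smul, ← Submodule.Quotient.mk_smul, smul_eq_mul, mul_one] at this
        exact this
      refine ⟨ModuleCat.ofHom (Submodule.liftQ K (h.hom ∘ₗ Submodule.mkQ J) hker), ?_⟩
      dsimp only
      apply ModuleCat.hom_ext
      apply LinearMap.ext
      intro z
      obtain ⟨a, rfl⟩ := Submodule.Quotient.mk_surjective _ z
      rfl
  have h2 : Function.Bijective (fun f : ModuleCat.of A (A ⧸ J) ⟶ M => Ext.mk₀ f) :=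
    (Ext.linearEquiv₀ (R := A)).symm.bijective
  convert h2.comp hbij using 1
  funext φ
  simp only [Function.comp, Ext.mk₀_comp_mk₀]

lemma Q_bot_succ (K : Ideal A) (n : ℕ) : Q (⊥ : Ideal A) K (n + 1) 0 := by
  refine ⟨ModuleCat.of A (Fin 0 → A ⧸ K), LinearEquiv.refl _ _, 0, ?_⟩
  intro M hM
  have hproj : Projective (ModuleCat.of A (A ⧸ (⊥ : Ideal A))) :=
    (IsProjective.iff_projective (A ⧸ (⊥ : Ideal A))).mp
      (Module.Projective.of_equiv (Submodule.quotEquivOfEqBot (⊥ : Ideal A) rfl).symm)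
  have h1 : Subsingleton (Ext (ModuleCat.of A (A ⧸ (⊥ : Ideal A))) M (n + 1)) :=
    Ext.subsingleton_of_projective _ _ n
  have h2 : Subsingleton (ModuleCat.of A (Fin 0 → A ⧸ K) ⟶ M) := by
    have : IsZero (ModuleCat.of A (Fin 0 → A ⧸ K)) := ModuleCat.isZero_of_subsingleton _
    exact ⟨fun f g => this.eq_of_src f g⟩
  exact ⟨fun _ _ _ => Subsingleton.elim _ _, fun z => ⟨0, Subsingleton.elim _ _⟩⟩

lemma Q_step (J J' K : Ideal A) (x : A) (hJ' : J' = J ⊔ Ideal.span {x})
    (hx : IsSMulRegular (A ⧸ J) x) (hJ'K : J' ≤ K) (n a b : ℕ)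
    (ha : Q J K n a) (hb : Q J K (n + 1) b) : Q J' K (n + 1) (a + b) := by
  have hle : J ≤ J' := hJ' ▸ le_sup_left
  have w := Groth.Agent.S5665.w_quot J J' x hJ' hle
  have hS := Groth.Agent.S5665.shortExact_quot J J' x hJ' hx hle w
  have hxK : x ∈ K := hJ'K (hJ' ▸ Ideal.mem_sup_right (Ideal.mem_span_singleton_self x))
  obtain ⟨Fa, ea, ta, hta⟩ := ha
  obtain ⟨Fb, eb, tb, htb⟩ := hb
  obtain ⟨t, ht⟩ := exists_isUniv_step x _ w hS K hxK (killed_of_equiv K eb) ta tb hta htb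
  refine ⟨Fa ⊞ Fb, ?_, t, ht⟩
  exact (ModuleCat.biprodIsoProd Fa Fb).toLinearEquiv ≪≫ₗ (LinearEquiv.prodCongr ea eb) ≪≫ₗ
    (LinearEquiv.sumArrowLequivProdArrow (Fin a) (Fin b) A (A ⧸ K)).symm ≪≫ₗ
    (LinearEquiv.funCongrLeft A (A ⧸ K) finSumFinEquiv.symm)

lemma main (K : Ideal A) (xs : List A) (hreg : RingTheory.Sequence.IsWeaklyRegular A xs)
    (hK : Ideal.ofList xs ≤ K) (n : ℕ) : Q (Ideal.ofList xs) K n (xs.length.choose n) := by
  induction xs using List.reverseRecOn generalizing n with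
  | nil =>
    cases n with
    | zero => exact Q_zero _ _ hK
    | succ n =>
      rw [Ideal.ofList_nil]
      exact Q_bot_succ K n
  | append_singleton ys x ih =>
    rw [RingTheory.Sequence.isWeaklyRegular_append_iff] at hreg
    obtain ⟨h1, h2⟩ := hreg
    have hx0 : IsSMulRegular (A ⧸ Ideal.ofList ys • (⊤ : Submodule A A)) x :=
      ((RingTheory.Sequence.isWeaklyRegular_cons_iff _ x []).mp h2).1
    have e : Ideal.ofList ys • (⊤ : Submodule A A) = Ideal.ofList ys := by simp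
    have hx : IsSMulRegular (A ⧸ Ideal.ofList ys) x :=
      ((Submodule.quotEquivOfEq _ _ e).isSMulRegular_congr x).mp hx0
    have hlen : (ys ++ [x]).length = ys.length + 1 := by simp
    have hJ' : Ideal.ofList (ys ++ [x]) = Ideal.ofList ys ⊔ Ideal.span {x} := by
      rw [Ideal.ofList_append, Ideal.ofList_singleton]
    have hys : Ideal.ofList ys ≤ K := le_trans (hJ' ▸ le_sup_left) hK
    cases n with
    | zero =>
      rw [Nat.choose_zero_right]
      exact Q_zero _ _ hK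
    | succ n =>
      rw [hlen, Nat.choose_succ_succ]
      exact Q_step _ _ K x hJ' hx hK n _ _ (ih h1 hys n) (ih h1 hys (n + 1))

/-- `Hom_A(A/K, M) ≅ M` for `M` killed by `K`. -/
noncomputable def quotHomEquiv (K : Ideal A) (M : Type u) [AddCommGroup M] [Module A M]
    (hM : ∀ a ∈ K, ∀ m : M, a • m = 0) : ((A ⧸ K) →ₗ[A] M) ≃ₗ[A] M where
  toFun f := f (Submodule.Quotient.mk 1)
  map_add' f g := rfl
  map_smul' a f := rfl
  invFun m := Submodule.liftQ K (LinearMap.toSpanSingleton A M m) (by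
    intro a ha
    rw [LinearMap.mem_ker, LinearMap.toSpanSingleton_apply]
    exact hM a ha m)
  left_inv f := by
    apply LinearMap.ext
    intro z
    obtain ⟨a, rfl⟩ := Submodule.Quotient.mk_surjective _ z
    change a • f (Submodule.Quotient.mk 1) = f (Submodule.Quotient.mk a)
    rw [← map_smul, ← Submodule.Quotient.mk_smul, smul_eq_mul, mul_one]
  right_inv m := by
    change (1 : A) • m = m
    rw [one_smul]

theorem nonempty_linearEquiv (xs : List A) (hreg : RingTheory.Sequence.IsWeaklyRegular A xs)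
    (M : Type u) [AddCommGroup M] [Module A M]
    (hJM : Ideal.ofList xs • (⊤ : Submodule A M) = ⊥) (i : ℕ) :
    Nonempty (Ext (ModuleCat.of A (A ⧸ Ideal.ofList xs)) (ModuleCat.of A M) i ≃ₗ[A]
      (Fin (xs.length.choose i) → M)) := by
  have hM : ∀ a ∈ Ideal.ofList xs, ∀ m : M, a • m = 0 := by
    intro a ha m
    have : a • m ∈ Ideal.ofList xs • (⊤ : Submodule A M) :=
      Submodule.smul_mem_smul ha trivial
    rw [hJM] at this
    exact this
  obtain ⟨F, e, t, ht⟩ := main (Ideal.ofList xs) xs hreg le_rfl i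
  have hbij := ht (ModuleCat.of A M) hM
  let Φ : (F ⟶ ModuleCat.of A M) →ₗ[A] Ext (ModuleCat.of A (A ⧸ Ideal.ofList xs)) (ModuleCat.of A M) i :=
    (Ext.precompOfLinear t A (ModuleCat.of A M) (add_zero i)) ∘ₗ
      (Ext.linearEquiv₀ (R := A)).symm.toLinearMap
  have hΦ : Function.Bijective Φ := hbij
  exact ⟨(LinearEquiv.ofBijective Φ hΦ).symm ≪≫ₗ (ModuleCat.homLinearEquiv (S := A)) ≪≫ₗ
    (LinearEquiv.arrowCongr e (LinearEquiv.refl A M)) ≪≫ₗ
    (LinearMap.lsum A (fun _ : Fin (xs.length.choose i) => A ⧸ Ideal.ofList xs) A).symm ≪≫ₗ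
    (LinearEquiv.piCongrRight fun _ => quotHomEquiv (Ideal.ofList xs) M hM)⟩

end Groth.Agent.Lib.ExtRegSeq
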