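import Mathlib.Algebra.Homology.DerivedCategory.Ext.ExactSequences
import Mathlib.CategoryTheory.Abelian.GrothendieckAxioms.Colim
import Groth.Agent.Lib.KInjAcyc31
import Groth.Agent.Lib.CompactBdd31

/-!
# `Ext^k(Z, -)` and coproducts: dimension shifting (helper31)

Let `𝒜` be an abelian category with enough injectives and exact `ι`-indexed coproducts, and `Z` an
object.  Call a class in `Ext^k(Z, ∐ F)` *finitely supported* if it lies in the subgroup generated
by the images of the `Ext^k(Z, F i)` (`fin Z F k`).  If all morphisms `Z ⟶ ∐ F` are finitely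
supported and `Ext^{k}(Z, ∐ I) = 0` (`k > 0`) for families of injectives, then all classes in all
`Ext^k(Z, ∐ F)` are finitely supported (`fin_eq_top`).  Consequently `Z[0]` satisfies the base case
`CompactBdd31.Base` of the dévissage in `D(𝒜)` (`base`).
-/

set_option autoImplicit false

open CategoryTheory CategoryTheory.Limits Abelian

universe w'' w' w v u

namespace Groth.Agent.ExtSigma31

variable {𝒜 : Type u} [Category.{v} 𝒜] [Abelian 𝒜] {ι : Type w'}
  [HasColimitsOfShape (Discrete ι) 𝒜] [HasExactColimitsOfShape (Discrete ι) 𝒜]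

/-- the coproduct of a family of short complexes -/
noncomputable def sigmaSC (S : ι → ShortComplex 𝒜) : ShortComplex 𝒜 :=
  ShortComplex.mk (Limits.Sigma.map fun i => (S i).f) (Limits.Sigma.map fun i => (S i).g) (by
    apply Sigma.hom_ext
    intro i
    rw [Sigma.ι_map_assoc, Sigma.ι_map, ← Category.assoc, (S i).zero, zero_comp, comp_zero])

/-- the inclusion of a member into the coproduct short complex -/
noncomputable def sigmaSCι (S : ι → ShortComplex 𝒜) (i : ι) : S i ⟶ sigmaSC S where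
  τ₁ := Sigma.ι (fun i => (S i).X₁) i
  τ₂ := Sigma.ι (fun i => (S i).X₂) i
  τ₃ := Sigma.ι (fun i => (S i).X₃) i
  comm₁₂ := Sigma.ι_map (fun i => (S i).f) i
  comm₂₃ := Sigma.ι_map (fun i => (S i).g) i

/-- coproducts of short exact sequences are short exact (AB4) -/
theorem sigmaSC_shortExact (S : ι → ShortComplex 𝒜) (hS : ∀ i, (S i).ShortExact) :
    (sigmaSC S).ShortExact := by
  let T : ShortComplex (Discrete ι ⥤ 𝒜) :=
    ShortComplex.mk
      (Discrete.natTrans (fun k => (S k.as).f) :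
        Discrete.functor (fun i => (S i).X₁) ⟶ Discrete.functor (fun i => (S i).X₂))
      (Discrete.natTrans (fun k => (S k.as).g) :
        Discrete.functor (fun i => (S i).X₂) ⟶ Discrete.functor (fun i => (S i).X₃)) (by
        ext ⟨k⟩
        exact (S k).zero)
  have hT : T.Exact := Groth.Agent.KInjAcyc31.exact_of_pointwise T (fun ⟨k⟩ => (hS k).exact)
  have hmono : Mono T.f := by
    have : ∀ k, Mono (T.f.app k) := fun ⟨k⟩ => (hS k).mono_f
    exact NatTrans.mono_of_mono_app T.f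
  have hex := colim.exact_mapShortComplex (S := T) hT (colimit.isColimit _)
    (colimit.isColimit _) (colimit.isColimit _)
    (Limits.Sigma.map fun i => (S i).f) (Limits.Sigma.map fun i => (S i).g)
    (fun ⟨k⟩ => Sigma.ι_map (fun i => (S i).f) k) (fun ⟨k⟩ => Sigma.ι_map (fun i => (S i).g) k)
  have hm : Mono (Limits.Sigma.map fun i => (S i).f) :=
    colim.map_mono' T.f (colimit.isColimit _) (colimit.isColimit _)
      (Limits.Sigma.map fun i => (S i).f) (fun ⟨k⟩ => Sigma.ι_map (fun i => (S i).f) k)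
  have he : Epi (Limits.Sigma.map fun i => (S i).g) := by
    have : ∀ i, Epi (S i).g := fun i => (hS i).epi_g
    infer_instance
  exact { exact := hex, mono_f := hm, epi_g := he }

section Ext

variable [HasExt.{w} 𝒜] (Z : 𝒜)

/-- the subgroup of finitely supported classes in `Ext^k(Z, ∐ F)` -/
noncomputable def fin (F : ι → 𝒜) (k : ℕ) : AddSubgroup (Ext.{w} Z (∐ F) k) :=
  AddSubgroup.closure {x | ∃ (i : ι) (y : Ext.{w} Z (F i) k),
    x = y.comp (Ext.mk₀ (Sigma.ι F i)) (add_zero k)}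

variable [EnoughInjectives 𝒜]

/-- the inductive step -/
theorem fin_succ (k : ℕ) (hk : ∀ F : ι → 𝒜, fin.{w', w} Z F k = ⊤)
    (hvan : ∀ I : ι → 𝒜, (∀ i, Injective (I i)) → Subsingleton (Ext.{w} Z (∐ I) (k + 1)))
    (F : ι → 𝒜) : fin.{w', w} Z F (k + 1) = ⊤ := by
  let S : ι → ShortComplex 𝒜 := fun i =>
    ShortComplex.mk (Injective.ι (F i)) (cokernel.π (Injective.ι (F i))) (cokernel.condition _)
  have hS : ∀ i, (S i).ShortExact := fun i =>
    { exact := ShortComplex.exact_cokernel _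
      mono_f := inferInstanceAs (Mono (Injective.ι (F i)))
      epi_g := inferInstanceAs (Epi (cokernel.π (Injective.ι (F i)))) }
  have hT := sigmaSC_shortExact S hS
  have hsub : Subsingleton (Ext.{w} Z (sigmaSC S).X₂ (k + 1)) :=
    hvan (fun i => Injective.under (F i)) (fun i => inferInstance)
  rw [eq_top_iff]
  intro x _
  obtain ⟨y, hxy⟩ := Ext.covariant_sequence_exact₁ (n₁ := k + 1) Z hT x
    (Subsingleton.elim _ _) (n₀ := k) rfl
  have hy : y ∈ fin.{w', w} Z (fun i => (S i).X₃) k := by rw [hk]; trivial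
  have hle : fin.{w', w} Z (fun i => (S i).X₃) k ≤
      AddSubgroup.comap (hT.extClass.postcomp Z (rfl : k + 1 = k + 1))
        (fin.{w', w} Z F (k + 1)) := by
    rw [fin, AddSubgroup.closure_le]
    rintro _ ⟨i, z, rfl⟩
    have hnat := ShortComplex.ShortExact.extClass_naturality (hS i) hT (sigmaSCι S i)
    have e : (z.comp (Ext.mk₀ (sigmaSCι S i).τ₃) (add_zero k)).comp hT.extClass
        (rfl : k + 1 = k + 1) =
        (z.comp (hS i).extClass (rfl : k + 1 = k + 1)).comp (Ext.mk₀ (sigmaSCι S i).τ₁)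
          (add_zero (k + 1)) := by
      rw [Ext.comp_assoc z _ _ (add_zero k) (zero_add 1) (by omega), ← hnat,
        ← Ext.comp_assoc z (hS i).extClass (Ext.mk₀ (sigmaSCι S i).τ₁) (a₁₂ := k + 1) (a₂₃ := 1)
          (a := k + 1) rfl (add_zero 1) (by omega)]
    exact AddSubgroup.subset_closure ⟨i, z.comp (hS i).extClass rfl, e⟩
  have := hle hy
  rw [← hxy]
  exact this

/-- **all `Ext` classes into coproducts are finitely supported** -/
theorem fin_eq_top (h0 : ∀ F : ι → 𝒜, fin.{w', w} Z F 0 = ⊤)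
    (hvan : ∀ I : ι → 𝒜, (∀ i, Injective (I i)) → ∀ k : ℕ,
      Subsingleton (Ext.{w} Z (∐ I) (k + 1))) :
    ∀ (k : ℕ) (F : ι → 𝒜), fin.{w', w} Z F k = ⊤ := by
  intro k
  induction k with
  | zero => exact h0
  | succ k ih => exact fin_succ Z k ih (fun I hI => hvan I hI k)

omit [EnoughInjectives 𝒜] [HasExactColimitsOfShape (Discrete ι) 𝒜] in
/-- degree zero: finitely supported morphisms -/
lemma fin_zero_eq_top
    (h : ∀ (F : ι → 𝒜), AddSubgroup.closure
      {f : Z ⟶ ∐ F | ∃ (i : ι) (g : Z ⟶ F i), f = g ≫ Sigma.ι F i} = ⊤)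
    (F : ι → 𝒜) : fin.{w', w} Z F 0 = ⊤ := by
  rw [eq_top_iff]
  intro x _
  obtain ⟨f, rfl⟩ := Ext.mk₀_bijective.{w} Z (∐ F) |>.2 x
  have hf : f ∈ AddSubgroup.closure
      {f : Z ⟶ ∐ F | ∃ (i : ι) (g : Z ⟶ F i), f = g ≫ Sigma.ι F i} := by rw [h]; trivial
  induction hf using AddSubgroup.closure_induction with
  | mem f hf =>
    obtain ⟨i, g, rfl⟩ := hf
    refine AddSubgroup.subset_closure ⟨i, Ext.mk₀ g, ?_⟩
    rw [Ext.mk₀_comp_mk₀]
  | zero => rw [Ext.mk₀_zero]; exact zero_mem _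
  | add f g _ _ hf hg => rw [Ext.mk₀_add]; exact add_mem (hf trivial) (hg trivial)
  | neg f _ hf => rw [Ext.mk₀_neg]; exact neg_mem (hf trivial)

end Ext

section Derived

open DerivedCategory Groth.Agent.FinSupp31 Groth.Agent.CompactBdd31 DerivedCategory.TStructure

variable [HasExt.{w} 𝒜] [HasDerivedCategory.{w''} 𝒜]
  [HasCoproductsOfShape ι (DerivedCategory 𝒜)]
  [PreservesColimitsOfShape (Discrete ι) (singleFunctor 𝒜 0)] (Z : 𝒜)

/-- maps from `Z[0]` to `(∐ F i)[0]⟦k⟧` are finitely supported -/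
lemma finSupp_shift_single (h : ∀ (k : ℕ) (F : ι → 𝒜), fin.{w', w} Z F k = ⊤)
    (F : ι → 𝒜) (k : ℕ) :
    FinSupp (fun i => ((singleFunctor 𝒜 0).obj (F i))⟦(k : ℤ)⟧) ((singleFunctor 𝒜 0).obj Z) := by
  let G : 𝒜 ⥤ DerivedCategory 𝒜 := singleFunctor 𝒜 0 ⋙ shiftFunctor _ (k : ℤ)
  let c : Cofan (fun i => ((singleFunctor 𝒜 0).obj (F i))⟦(k : ℤ)⟧) :=
    Cofan.mk (G.obj (∐ F)) (fun i => G.map (Sigma.ι F i))
  have hc : IsColimit c := isColimitCofanMkObjOfIsColimit G _ _ (coproductIsCoproduct F)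
  refine finSupp_of_cofan c hc ?_
  rw [eq_top_iff]
  intro f _
  let x : Ext.{w} Z (∐ F) k := (Ext.homEquiv (X := Z) (Y := ∐ F) (n := k)).symm f
  have hx : x.hom = f := Equiv.apply_symm_apply _ _
  have hxmem : x ∈ fin.{w', w} Z F k := by rw [h]; trivial
  have key : ∀ y : Ext.{w} Z (∐ F) k, y ∈ fin.{w', w} Z F k →
      (y.hom : (singleFunctor 𝒜 0).obj Z ⟶ c.pt) ∈ AddSubgroup.closure
        {f : (singleFunctor 𝒜 0).obj Z ⟶ c.pt | ∃ (i : ι) (g : (singleFunctor 𝒜 0).obj Z ⟶
          ((singleFunctor 𝒜 0).obj (F i))⟦(k : ℤ)⟧), f = g ≫ c.inj i} := by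
    intro y hy
    induction hy using AddSubgroup.closure_induction with
    | mem y hy =>
      obtain ⟨i, z, rfl⟩ := hy
      refine AddSubgroup.subset_closure ⟨i, z.hom, ?_⟩
      rw [Ext.comp_hom, Ext.mk₀_hom, ShiftedHom.comp_mk₀]
      rfl
    | zero =>
      rw [Ext.zero_hom]
      exact zero_mem _
    | add y z _ _ hy hz =>
      rw [Ext.add_hom]
      exact add_mem hy hz
    | neg y _ hy =>
      rw [Ext.neg_hom]
      exact neg_mem hy
  have := key x hxmem
  rw [hx] at this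
  exact this

/-- **the base case of the dévissage** for `Z[0]` -/
theorem base [∀ n : ℤ, PreservesColimitsOfShape (Discrete ι) (homologyFunctor 𝒜 n)]
    (h : ∀ (k : ℕ) (F : ι → 𝒜), fin.{w', w} Z F k = ⊤) :
    Base ι ((singleFunctor 𝒜 0).obj Z) := by
  intro F p
  by_cases hp : 0 < p
  · refine finSupp_of_forall_eq_zero _ _ (fun f => ?_)
    have hGE : (∐ fun i => (singleFunctor 𝒜 p).obj (F i)).IsGE p :=
      isGE_sigma _ p (fun i => inferInstance)
    have hLE : ((singleFunctor 𝒜 0).obj Z).IsLE 0 := inferInstance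
    exact t.zero_of_isLE_of_isGE f 0 p hp hLE hGE
  · obtain ⟨k, hk⟩ : ∃ k : ℕ, (k : ℤ) + p = 0 := ⟨(-p).toNat, by omega⟩
    refine finSupp_of_iso (fun i => ?_) (finSupp_shift_single Z h F k)
    exact ((singleFunctors 𝒜).shiftIso (k : ℤ) p 0 hk).app (F i)

end Derived

end Groth.Agent.ExtSigma31
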