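import Groth.Agent.Lib.LocCohConcrete

/-!
# Universal `Ext` classes and uniform vanishing of transition maps above `cd` (helper25)

* `exists_universal_class`: for a finite module `M` over a Noetherian ring and `i : ℕ` there are a
  finite module `Z` and `ξ : Ext^i(M, Z)` such that every class in `Ext^i(M, N)` is `ξ ≫ g` for
  some `g : Z ⟶ N`.
* `exists_transition_zero`: if `cd(A, I) ≤ e`, for every `n` there is `m > n` such that
  `Ext^i(A/I^n, N) → Ext^i(A/I^m, N)` is zero for all `N` and `i > e`.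
-/

set_option autoImplicit false
set_option maxHeartbeats 400000
universe u
open CategoryTheory CategoryTheory.Limits Opposite

namespace Groth.Agent.Lib.ExtUniv25

open Groth.Agent.Lib.LocCohConcrete

variable {A : Type u} [CommRing A]

open Abelian in
theorem exists_universal_class [IsNoetherianRing A] (i : ℕ) :
    ∀ (M : ModuleCat.{u} A), Module.Finite A M →
      ∃ (Z : ModuleCat.{u} A) (_ : Module.Finite A Z) (ξ : Ext.{u} M Z i),
        ∀ (N : ModuleCat.{u} A) (φ : Ext.{u} M N i), ∃ g : Z ⟶ N, φ = ξ.comp (Ext.mk₀ g) (add_zero i) := by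
  induction i with
  | zero =>
    intro M hM
    refine ⟨M, hM, Ext.mk₀ (𝟙 M), fun N φ => ⟨Ext.homEquiv₀ φ, ?_⟩⟩
    rw [Ext.mk₀_comp_mk₀, Category.id_comp, Ext.mk₀_homEquiv₀_apply]
  | succ i ih =>
    intro M hM
    obtain ⟨k, p, hp⟩ := Module.Finite.exists_fin' A M
    let P : ModuleCat.{u} A := ModuleCat.of A (Fin k → A)
    let K : ModuleCat.{u} A := ModuleCat.of A (LinearMap.ker p)
    let S : ShortComplex (ModuleCat.{u} A) :=
      ShortComplex.mk (X₁ := K) (X₂ := P) (X₃ := M) (ModuleCat.ofHom (LinearMap.ker p).subtype)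
        (ModuleCat.ofHom p) (by
          ext x
          exact x.2)
    have hS : S.ShortExact :=
      { exact := by
          rw [ShortComplex.ShortExact.moduleCat_exact_iff_function_exact]
          exact LinearMap.exact_subtype_ker_map p
        mono_f := (ModuleCat.mono_iff_injective _).mpr Subtype.val_injective
        epi_g := (ModuleCat.epi_iff_surjective _).mpr hp }
    have hK : Module.Finite A K := by
      change Module.Finite A (LinearMap.ker p)
      infer_instance
    obtain ⟨Z, hZ, ξK, hξK⟩ := ih K hK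
    refine ⟨Z, hZ, hS.extClass.comp ξK (Nat.add_comm 1 i), fun N φ => ?_⟩
    have hP : Projective P := (IsProjective.iff_projective (R := A) (Fin k → A)).mp inferInstance
    have h0 : (Ext.mk₀ S.g).comp φ (zero_add (i + 1)) = 0 := Ext.eq_zero_of_projective _
    obtain ⟨ψ, hψ⟩ := Ext.contravariant_sequence_exact₃ hS N φ h0 (Nat.add_comm 1 i)
    obtain ⟨g, hg⟩ := hξK N ψ
    refine ⟨g, ?_⟩
    rw [← hψ, hg, Ext.comp_assoc_of_third_deg_zero]

open Abelian in
/-- dimension shifting: a transition map killing `Ext^i(X, -)` (`i ≥ 1`) kills `Ext^{i+1}(X, -)` -/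
lemma transition_zero_succ {X X' : ModuleCat.{u} A} (t : X' ⟶ X) (i : ℕ)
    (h : ∀ (N : ModuleCat.{u} A) (φ : Ext.{u} X N i), (Ext.mk₀ t).comp φ (zero_add i) = 0)
    (N : ModuleCat.{u} A) (φ : Ext.{u} X N (i + 1)) :
    (Ext.mk₀ t).comp φ (zero_add (i + 1)) = 0 := by
  let S : ShortComplex (ModuleCat.{u} A) :=
    ShortComplex.mk (Injective.ι N) (cokernel.π (Injective.ι N)) (cokernel.condition _)
  have hS : S.ShortExact :=
    { exact := ShortComplex.exact_of_g_is_cokernel _ (cokernelIsCokernel _)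
      mono_f := inferInstanceAs (Mono (Injective.ι N))
      epi_g := inferInstanceAs (Epi (cokernel.π (Injective.ι N))) }
  have h0 : φ.comp (Ext.mk₀ S.f) (add_zero (i + 1)) = 0 :=
    Ext.eq_zero_of_injective (I := Injective.under N) _
  obtain ⟨ψ, hψ⟩ := Ext.covariant_sequence_exact₁ X hS φ h0 rfl
  rw [← hψ, ← Ext.comp_assoc (Ext.mk₀ t) ψ hS.extClass (zero_add i) rfl (by omega), h S.X₃ ψ,
    Ext.zero_comp]

open Abelian in
theorem exists_transition_zero [IsNoetherianRing A] (I : Ideal A) (e : ℕ)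
    (he : LocCoh.CdLE A I e) (n : ℕ) :
    ∃ (m : ℕ) (hm : n < m), ∀ (i : ℕ), e < i → ∀ (N : ModuleCat.{u} A) (φ : Ext.{u} (Q I n) N i),
      (Ext.mk₀ (proj I hm.le)).comp φ (zero_add i) = 0 := by
  obtain ⟨Z, hZ, ξ, hξ⟩ := exists_universal_class (A := A) (e + 1) (Q I n) (by
    change Module.Finite A (A ⧸ I ^ n)
    infer_instance)
  have hsub : Subsingleton (LocCoh.H I (e + 1) Z) := he Z (e + 1) (Nat.lt_succ_self e)
  have h0 : HιE I Z (e + 1) n ξ = 0 := Subsingleton.elim _ _
  obtain ⟨k, hk, hk0⟩ := (HιE_eq_zero_iff I Z (e + 1) ξ).mp h0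
  have hm : n < max k (n + 1) := lt_of_lt_of_le (Nat.lt_succ_self n) (le_max_right _ _)
  refine ⟨max k (n + 1), hm, ?_⟩
  have hproj : proj I hm.le = proj I (le_max_left k (n + 1)) ≫ proj I hk := by
    apply ModuleCat.hom_ext
    apply LinearMap.ext
    intro x
    obtain ⟨a, rfl⟩ := Submodule.Quotient.mk_surjective _ x
    rfl
  have hξ0 : (Ext.mk₀ (proj I hm.le)).comp ξ (zero_add (e + 1)) = 0 := by
    rw [hproj, ← Ext.mk₀_comp_mk₀, Ext.comp_assoc_of_second_deg_zero, hk0, Ext.comp_zero]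
  have base : ∀ (N : ModuleCat.{u} A) (φ : Ext.{u} (Q I n) N (e + 1)),
      (Ext.mk₀ (proj I hm.le)).comp φ (zero_add (e + 1)) = 0 := by
    intro N φ
    obtain ⟨g, rfl⟩ := hξ N φ
    rw [← Ext.comp_assoc_of_third_deg_zero, hξ0, Ext.zero_comp]
  intro i hi
  obtain ⟨j, rfl⟩ : ∃ j, i = e + 1 + j := ⟨i - (e + 1), by omega⟩
  clear hi
  induction j with
  | zero => exact base
  | succ j ih => exact transition_zero_succ _ _ ih

end Groth.Agent.Lib.ExtUniv25
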