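import Mathlib
import Groth.Agent.Lib.ExtVal2

/-!
# Lifting at a valuation-ring point along a closed map

`exists_lift_of_isClosedMap`: if `f : X ⟶ Y` is a closed map, `y : Y` has valuation-ring stalk
`R` with fraction field `K`, and `t : Spec K ⟶ X` lies over `Spec K ⟶ Spec R ⟶ Y`, then `t` extends
to `φ : Spec R ⟶ X` over `Y`.

`exists_section_extension_codim_one`: sections of a separated, locally of finite type, closed map
over a dense open extend over all points of codimension `≤ 1` (regular in codimension `≤ 1`).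
-/

set_option autoImplicit false

universe u

open CategoryTheory CategoryTheory.Limits AlgebraicGeometry TopologicalSpace

namespace Groth.Agent.Lib.ExtVal

lemma isLocalHom_stalkSpecializes_of_eq {Y : Scheme.{u}} {y' y : Y} (e : y' = y) (h : y' ⤳ y) :
    IsLocalHom (Y.presheaf.stalkSpecializes h).hom := by
  subst e
  rw [TopCat.Presheaf.stalkSpecializes_refl]
  exact ⟨fun a ha => ha⟩

set_option maxHeartbeats 800000 in
theorem exists_lift_of_isClosedMap {X Y : Scheme.{u}} (f : X ⟶ Y) (hcl : IsClosedMap f)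
    (y : Y) [IsDomain (Y.presheaf.stalk y)] [ValuationRing (Y.presheaf.stalk y)]
    {K : Type u} [Field K] [Algebra (Y.presheaf.stalk y) K] [IsFractionRing (Y.presheaf.stalk y) K]
    (t : Spec (CommRingCat.of K) ⟶ X)
    (ht : t ≫ f =
      Spec.map (CommRingCat.ofHom (algebraMap (Y.presheaf.stalk y) K)) ≫ Y.fromSpecStalk y) :
    ∃ φ : Spec (Y.presheaf.stalk y) ⟶ X, φ ≫ f = Y.fromSpecStalk y ∧
      Spec.map (CommRingCat.ofHom (algebraMap (Y.presheaf.stalk y) K)) ≫ φ = t := by
  have hinj : Function.Injective (algebraMap (Y.presheaf.stalk y) K) :=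
    IsFractionRing.injective _ K
  let cl : ↥(Spec (CommRingCat.of K)) := IsLocalRing.closedPoint (CommRingCat.of K)
  let x₀ : X := t cl
  have hfx₀ : f x₀ = genPt y := by
    change f (t cl) = _
    rw [← Scheme.Hom.comp_apply, ht, Scheme.Hom.comp_apply, SpecMap_algebraMap_apply y hinj cl]
    rfl
  have hy : y ∈ closure ({f x₀} : Set Y) := by
    rw [hfx₀]; exact specializes_iff_mem_closure.mp (genPt_specializes y)
  have hsub : closure ({f x₀} : Set Y) ⊆ f '' closure ({x₀} : Set X) :=
    closure_minimal (Set.singleton_subset_iff.mpr ⟨x₀, subset_closure rfl, rfl⟩)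
      (hcl _ isClosed_closure)
  obtain ⟨x₁, hx₁, hfx₁⟩ := hsub hy
  have hspec : x₀ ⤳ x₁ := specializes_iff_mem_closure.mpr hx₁
  have hyx : f x₁ ⤳ y := hfx₁ ▸ specializes_rfl
  let α : Y.presheaf.stalk y ⟶ X.presheaf.stalk x₁ :=
    Y.presheaf.stalkSpecializes hyx ≫ f.stalkMap x₁
  let δ : X.presheaf.stalk x₁ ⟶ CommRingCat.of K :=
    X.presheaf.stalkSpecializes hspec ≫ Scheme.stalkClosedPointTo t
  have F1 : Spec.map α ≫ Y.fromSpecStalk y = X.fromSpecStalk x₁ ≫ f := by
    change Spec.map (Y.presheaf.stalkSpecializes hyx ≫ f.stalkMap x₁) ≫ _ = _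
    rw [Spec.map_comp, Category.assoc, Scheme.SpecMap_stalkSpecializes_fromSpecStalk,
      Scheme.SpecMap_stalkMap_fromSpecStalk]
  have F2 : Spec.map δ ≫ X.fromSpecStalk x₁ = t := by
    change Spec.map (X.presheaf.stalkSpecializes hspec ≫ Scheme.stalkClosedPointTo t) ≫ _ = _
    rw [Spec.map_comp, Category.assoc, Scheme.SpecMap_stalkSpecializes_fromSpecStalk,
      Scheme.Spec_stalkClosedPointTo_fromSpecStalk]
  have F3 : α ≫ δ = CommRingCat.ofHom (algebraMap (Y.presheaf.stalk y) K) := by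
    apply Spec.map_injective
    rw [← cancel_mono (Y.fromSpecStalk y), Spec.map_comp, Category.assoc, F1, reassoc_of% F2, ht]
  have F3' : ∀ r : Y.presheaf.stalk y, δ.hom (α.hom r) = algebraMap (Y.presheaf.stalk y) K r := by
    intro r
    have := congrArg (fun g => g.hom r) F3
    exact this
  have hαloc : IsLocalHom α.hom := by
    have h1 : IsLocalHom (Y.presheaf.stalkSpecializes hyx).hom :=
      isLocalHom_stalkSpecializes_of_eq hfx₁ hyx
    have h2 : IsLocalHom (f.stalkMap x₁).hom := inferInstance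
    change IsLocalHom ((Y.presheaf.stalkSpecializes hyx ≫ f.stalkMap x₁).hom)
    rw [CommRingCat.hom_comp]
    exact RingHom.isLocalHom_comp _ _
  have F4 : ∀ a : X.presheaf.stalk x₁, ∃ r : Y.presheaf.stalk y,
      algebraMap (Y.presheaf.stalk y) K r = δ.hom a := by
    intro a
    by_cases hk0 : δ.hom a = 0
    · exact ⟨0, by rw [map_zero, hk0]⟩
    rcases ValuationRing.isInteger_or_isInteger (Y.presheaf.stalk y) (δ.hom a) with ⟨r, hr⟩ | ⟨r, hr⟩
    · exact ⟨r, hr⟩
    · by_cases hu : IsUnit r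
      · obtain ⟨u, rfl⟩ := hu
        refine ⟨(↑u⁻¹ : Y.presheaf.stalk y), ?_⟩
        have h1 : (algebraMap (Y.presheaf.stalk y) K) (↑u⁻¹ : Y.presheaf.stalk y) =
            ((algebraMap (Y.presheaf.stalk y) K) ↑u)⁻¹ := map_units_inv _ u
        rw [h1]
        change (algebraMap (Y.presheaf.stalk y) K) ↑u = (δ.hom a)⁻¹ at hr
        rw [hr, inv_inv]
      · exfalso
        have h1 : ¬ IsUnit (α.hom r) := fun h => hu (hαloc.map_nonunit r h)
        have h2 : α.hom r * a ∈ nonunits (X.presheaf.stalk x₁) := by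
          have : α.hom r ∈ IsLocalRing.maximalIdeal (X.presheaf.stalk x₁) := h1
          exact Ideal.mul_mem_right a _ this
        have h3 : IsUnit (1 - α.hom r * a) :=
          IsLocalRing.isUnit_one_sub_self_of_mem_nonunits _ h2
        have h4 : δ.hom (1 - α.hom r * a) = 0 := by
          rw [map_sub, map_one, map_mul, F3' r]
          change 1 - (algebraMap (Y.presheaf.stalk y) K) r * δ.hom a = 0
          have : (algebraMap (Y.presheaf.stalk y) K) r = (δ.hom a)⁻¹ := hr
          rw [this, inv_mul_cancel₀ hk0, sub_self]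
        exact (h3.map δ.hom).ne_zero h4
  -- the factorization `δ' : O_{X,x₁} ⟶ R`
  choose ρ hρ using F4
  let δ' : X.presheaf.stalk x₁ →+* Y.presheaf.stalk y :=
    { toFun := ρ
      map_one' := hinj (by rw [hρ, map_one, map_one])
      map_mul' := fun a b => hinj (by rw [hρ, map_mul, map_mul, hρ, hρ])
      map_zero' := hinj (by rw [hρ, map_zero, map_zero])
      map_add' := fun a b => hinj (by rw [hρ, map_add, map_add, hρ, hρ]) }
  let δc : X.presheaf.stalk x₁ ⟶ Y.presheaf.stalk y := CommRingCat.ofHom δ'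
  let ac : Y.presheaf.stalk y ⟶ CommRingCat.of K :=
    CommRingCat.ofHom (algebraMap (Y.presheaf.stalk y) K)
  have hδ' : δc ≫ ac = δ := by
    ext a
    exact hρ a
  have hαδ' : α ≫ δc = 𝟙 _ := by
    ext r
    apply hinj
    change algebraMap _ K (ρ (α.hom r)) = algebraMap _ K r
    rw [hρ, F3']
  have e1 : Spec.map δc ≫ Spec.map α = 𝟙 _ := by
    rw [← Spec.map_comp, hαδ', Spec.map_id]
  have e2 : Spec.map ac ≫ Spec.map δc = Spec.map δ := by
    rw [← Spec.map_comp, hδ']
  refine ⟨Spec.map δc ≫ X.fromSpecStalk x₁, ?_, ?_⟩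
  · rw [Category.assoc, ← F1, reassoc_of% e1]
  · change Spec.map ac ≫ Spec.map δc ≫ X.fromSpecStalk x₁ = t
    rw [reassoc_of% e2, F2]

/-- The generic point of `Spec O_{X,x}` as a `Frac O_{X,x}`-point of an open `U` with `x` in its
closure (`x` having an integral open neighbourhood). -/
theorem exists_genPt_lift {X : Scheme.{u}} (x : X) [IsDomain (X.presheaf.stalk x)]
    (U : X.Opens) (W₀ : X.Opens) [IsIntegral W₀] (hxW₀ : x ∈ W₀)
    (hxU : x ∈ closure (U : Set X)) :
    ∃ ξU : Spec (CommRingCat.of (FractionRing (X.presheaf.stalk x))) ⟶ U,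
      ξU ≫ U.ι = Spec.map (CommRingCat.ofHom (algebraMap (X.presheaf.stalk x)
        (FractionRing (X.presheaf.stalk x)))) ≫ X.fromSpecStalk x := by
  have hinj : Function.Injective (algebraMap (X.presheaf.stalk x)
      (FractionRing (X.presheaf.stalk x))) := IsFractionRing.injective _ _
  have hgU : genPt x ∈ U := genPt_mem_of_mem_closure x W₀ hxW₀ U hxU
  have hξrange : Set.range (Spec.map (CommRingCat.ofHom (algebraMap (X.presheaf.stalk x)
      (FractionRing (X.presheaf.stalk x)))) ≫ X.fromSpecStalk x) ⊆ Set.range U.ι := by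
    rw [Scheme.Opens.range_ι]
    rintro _ ⟨z, rfl⟩
    rw [Scheme.Hom.comp_apply, SpecMap_algebraMap_apply x hinj z]
    exact hgU
  exact ⟨IsOpenImmersion.lift U.ι _ hξrange, IsOpenImmersion.lift_fac _ _ _⟩

/-- Sections of a separated, locally of finite type, closed map over a dense open extend over
all points of codimension at most one (the base being reduced, locally Noetherian and regular in
codimension at most one). -/
theorem exists_section_extension_codim_one {X Y : Scheme.{u}} [IsLocallyNoetherian Y] [IsReduced Y]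
    (hreg : ∀ y : Y, ringKrullDim (Y.presheaf.stalk y) ≤ 1 →
      IsRegularLocalRing (Y.presheaf.stalk y))
    (f : X ⟶ Y) [IsSeparated f] [LocallyOfFiniteType f] (hcl : IsClosedMap f)
    (V : Y.Opens) (hV : Dense (V : Set Y)) (s : (V : Scheme.{u}) ⟶ X) (hs : s ≫ f = V.ι) :
    ∃ (U : Y.Opens) (hVU : V ≤ U) (s' : (U : Scheme.{u}) ⟶ X), s' ≫ f = U.ι ∧
      Y.homOfLE hVU ≫ s' = s ∧ ∀ y : Y, ringKrullDim (Y.presheaf.stalk y) ≤ 1 → y ∈ U := by
  have hs' : s ≫ f = V.ι ≫ 𝟙 Y := by rw [hs, Category.comp_id]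
  obtain ⟨U, hVU, s', h1, h2, h3⟩ := exists_glue_extensions f (𝟙 Y) V hV s hs'
    {y | ringKrullDim (Y.presheaf.stalk y) ≤ 1} (by
      intro y hy
      have hR : IsRegularLocalRing (Y.presheaf.stalk y) := hreg y hy
      obtain ⟨hdom, hval⟩ := valuationRing_of_regular_of_dim_le_one (Y.presheaf.stalk y) hy
      obtain ⟨W₀, hyW₀, -, hW₀⟩ := exists_isIntegral_nbhd y
      obtain ⟨ξV, hξV⟩ := exists_genPt_lift y V W₀ hyW₀ (hV y)
      have ht : (ξV ≫ s) ≫ f = Spec.map (CommRingCat.ofHom (algebraMap (Y.presheaf.stalk y)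
          (FractionRing (Y.presheaf.stalk y)))) ≫ Y.fromSpecStalk y := by
        rw [Category.assoc, hs, hξV]
      obtain ⟨φ, hφ1, hφ2⟩ := exists_lift_of_isClosedMap f hcl y (ξV ≫ s) ht
      have hφ1' : φ ≫ f = Y.fromSpecStalk y ≫ 𝟙 Y := by rw [hφ1, Category.comp_id]
      exact exists_extension (𝟙 Y) f y V s hs' W₀ hyW₀ (IsFractionRing.injective _ _) ξV hξV φ
        hφ1' hφ2)
  refine ⟨U, hVU, s', ?_, h2, h3⟩
  rw [h1, Category.comp_id]

end Groth.Agent.Lib.ExtVal
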