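import Mathlib.Algebra.Homology.DerivedCategory.Ext.ExactSequences

/-!
# Vanishing of `Ext^p(X₃, Y)` for `p < n` in terms of `Ext^p(X₂, Y) → Ext^p(X₁, Y)` (helper65)
-/

set_option autoImplicit false
universe w v u
open CategoryTheory CategoryTheory.Limits CategoryTheory.Abelian

namespace Groth.Agent.Lib.ExtVanLES65

variable {C : Type u} [Category.{v} C] [Abelian C] [HasExt.{w} C]
  {S : ShortComplex C} (hS : S.ShortExact) (Y : C)

include hS in
/-- For a short exact sequence `0 → X₁ → X₂ → X₃ → 0`: `Ext^p(X₃, Y) = 0` for all `p < n` iff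
`Ext^p(X₂, Y) → Ext^p(X₁, Y)` is bijective for `p + 1 < n` and injective for `p + 1 = n`. -/
theorem forall_ext_eq_zero_iff (n : ℕ) :
    (∀ p : ℕ, p < n → ∀ x : Ext S.X₃ Y p, x = 0) ↔
      (∀ p : ℕ, p + 1 < n → Function.Bijective ((Ext.mk₀ S.f).precomp Y (zero_add p))) ∧
      (∀ p : ℕ, p + 1 = n → Function.Injective ((Ext.mk₀ S.f).precomp Y (zero_add p))) := by
  have hinj : (∀ p : ℕ, p < n → ∀ x : Ext S.X₃ Y p, x = 0) → ∀ p : ℕ, p < n →
      Function.Injective ((Ext.mk₀ S.f).precomp Y (zero_add p)) := by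
    intro h p hp
    rw [injective_iff_map_eq_zero]
    intro x hx
    obtain ⟨x₁, rfl⟩ := Ext.contravariant_sequence_exact₂ hS Y x hx
    rw [h p hp x₁, Ext.comp_zero]
  constructor
  · intro h
    refine ⟨fun p hp => ⟨hinj h p (by omega), ?_⟩, fun p hp => hinj h p (by omega)⟩
    intro y
    exact Ext.contravariant_sequence_exact₁ hS Y y (add_comm 1 p) (h (p + 1) hp _)
  · rintro ⟨hb, hi⟩ p hp x₃
    have hinj' : Function.Injective ((Ext.mk₀ S.f).precomp Y (zero_add p)) := by
      by_cases hp' : p + 1 = n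
      · exact hi p hp'
      · exact (hb p (by omega)).1
    have h0 : (Ext.mk₀ S.g).comp x₃ (zero_add p) = 0 := by
      apply hinj'
      rw [map_zero]
      show (Ext.mk₀ S.f).comp ((Ext.mk₀ S.g).comp x₃ (zero_add p)) (zero_add p) = 0
      rw [Ext.mk₀_comp_mk₀_assoc, S.zero, Ext.mk₀_zero, Ext.zero_comp]
    rcases p with _ | q
    · have : Epi S.g := hS.epi_g
      exact Ext.precomp_mk₀_injective_of_epi Y S.g (h0.trans (map_zero _).symm)
    · obtain ⟨x₁, rfl⟩ := Ext.contravariant_sequence_exact₃ hS Y x₃ h0 (add_comm 1 q)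
      obtain ⟨x₂, rfl⟩ := (hb q (by omega)).2 x₁
      show hS.extClass.comp ((Ext.mk₀ S.f).comp x₂ (zero_add q)) _ = 0
      rw [ShortComplex.ShortExact.extClass_comp_assoc]

end Groth.Agent.Lib.ExtVanLES65
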