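import Groth.Agent.Lib.ModCounitMono65
import Groth.Agent.Lib.AdjTripleInj65
import Groth.Agent.Lib.FunctorSESNat
import Groth.Agent.Lib.DerivedCompExact
import Groth.Prelude.Def_ModSite2

/-!
# `ℋ^{q+1}_Z ≅ (-)|_U ⋙ R^q j_{U*}` on a ringed site, `U` subterminal (helper65)
-/

set_option autoImplicit false
universe u
open CategoryTheory CategoryTheory.Limits Opposite

namespace Groth.Agent.Lib.ModHZshShift65

open Groth.Agent.Lib.FunctorSESNat

variable {C : Type u} [SmallCategory C] {J : GrothendieckTopology C}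
  (O : Sheaf J CommRingCat.{u}) (U : C)

/-- the counit `j_! (F|_U) ⟶ F` is mono for `U` subterminal -/
theorem mono_counit (hU : ∀ V : C, Subsingleton (V ⟶ U)) (F : ModSite.Mod O) :
    Mono ((ModSite.extZeroAdj O U).counit.app F) :=
  Groth.Agent.Lib.ModCounitMono65.mono_counit_app J (ModSite.ringSh O) U hU F

variable [ModSite.HasPushOver O U]

/-- the unit `𝟭 ⟶ (-)|_U ⋙ j_{U*}` -/
noncomputable abbrev β : 𝟭 (ModSite.Mod O) ⟶ ModSite.restr O U ⋙ ModSite.pushOver O U :=
  (ModSite.restrPushOverAdj O U).unit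

instance : (ModSite.restr O U).Additive :=
  inferInstanceAs (SheafOfModules.overFunctor.{u} (ModSite.ringSh O) U).Additive

variable [(ModSite.pushOver O U).Additive]

lemma exactOnInj (hU : ∀ V : C, Subsingleton (V ⟶ U)) :
    ExactOnInj (ModSite.sectOnι O U) (β O U) := by
  intro I hI
  have hw : (ModSite.sectOnι O U).app I ≫ (β O U).app I = 0 :=
    kernel.condition ((ModSite.restrPushOverAdj O U).unit.app I)
  refine ⟨hw, ?_⟩
  have hepi : Epi ((β O U).app I) :=
    Groth.Agent.Lib.AdjTripleInj65.epi_unit (ModSite.extZeroAdj O U) (ModSite.restrPushOverAdj O U) I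
      (mono_counit O U hU _)
  have hmono : Mono ((ModSite.sectOnι O U).app I) :=
    inferInstanceAs (Mono (kernel.ι ((ModSite.restrPushOverAdj O U).unit.app I)))
  exact { exact := ShortComplex.exact_of_f_is_kernel _
            (kernelIsKernel ((ModSite.restrPushOverAdj O U).unit.app I))
          mono_f := hmono
          epi_g := hepi }

instance : PreservesFiniteLimits (ModSite.restr O U) :=
  have := (ModSite.extZeroAdj O U).rightAdjoint_preservesLimits
  inferInstance

instance : PreservesFiniteColimits (ModSite.restr O U) :=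
  have := (ModSite.restrPushOverAdj O U).leftAdjoint_preservesColimits
  inferInstance

instance : PreservesFiniteLimits (ModSite.pushOver O U) :=
  have := (ModSite.restrPushOverAdj O U).rightAdjoint_preservesLimits
  inferInstance

instance : (ModSite.extZero O U).PreservesMonomorphisms :=
  Groth.Agent.Lib.ModShriek.preservesMonomorphisms_of_adjunction J (ModSite.ringSh O) U _
    (ModSite.extZeroAdj O U)

variable [HasInjectiveResolutions (ModSite.Mod O)]

lemma isZero_id_rightDerived (n : ℕ) (F : ModSite.Mod O) :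
    IsZero (((𝟭 (ModSite.Mod O)).rightDerived (n + 1)).obj F) :=
  Groth.Agent.Lib.DerivedBaseChange.isZero_rightDerived_succ_of_exact (𝟭 (ModSite.Mod O)) F n

theorem nonempty_HZsh_one_iso (hU : ∀ V : C, Subsingleton (V ⟶ U)) :
    Nonempty (ModSite.HZsh O U 1 ≅ cokernel (ModSite.restrPushOverAdj O U).unit) :=
  nonempty_rightDerived_one_iso_cokernel (exactOnInj O U hU)
    (fun F => isZero_id_rightDerived O 0 F)

theorem nonempty_HZsh_succ_iso [HasInjectiveResolutions (ModSite.Mod (O.over U))]
    (hU : ∀ V : C, Subsingleton (V ⟶ U)) (q : ℕ) (hq : 1 ≤ q) :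
    Nonempty (ModSite.HZsh O U (q + 1) ≅
      ModSite.restr O U ⋙ (ModSite.pushOver O U).rightDerived q) := by
  obtain ⟨n, rfl⟩ : ∃ n, q = n + 1 := ⟨q - 1, by omega⟩
  have := isIso_δ_succ (exactOnInj O U hU) (fun n F => isZero_id_rightDerived O n F) n
  exact ⟨(asIso (δ (exactOnInj O U hU) (n + 1))).symm ≪≫
    Groth.Agent.Lib.DerivedCompExact.rightDerivedCompIso (ModSite.restr O U) (ModSite.pushOver O U)
      (ModSite.extZeroAdj O U) (n + 1)⟩

end Groth.Agent.Lib.ModHZshShift65
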