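import Groth.Agent.Lib.SectOnRestr95
import Groth.Agent.Lib.ModHZshShift65
import Groth.Agent.Lib.ExtCompare95
import Groth.Agent.S0485
import Groth.Prelude.Def_ExtSupp
import Mathlib.CategoryTheory.Adjunction.Mates

/-!
# Excision for `Ext` with supports on a ringed site (helper95)
-/

set_option autoImplicit false
universe w w' u
open CategoryTheory CategoryTheory.Limits Opposite

namespace Groth.Agent.Lib.ExtZExcision95

open Groth.Agent.Lib.SuppAdj21 Groth.Agent.Lib.SectOnSections95 Groth.Agent.Lib.SectOnRestr95

section OverProducts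

variable {C : Type u} [Category.{u} C] [HasBinaryProducts C] (V : C)
  (hV : ∀ X : C, Subsingleton (X ⟶ V))

include hV in
/-- the slice over a subterminal object has binary products -/
lemma hasBinaryProducts_over : HasBinaryProducts (Over V) := by
  have key : ∀ Y Z : Over V, HasLimit (pair Y Z) := by
    intro Y Z
    let P : Over V := Over.mk (Limits.prod.fst ≫ Y.hom : Y.left ⨯ Z.left ⟶ V)
    let p₁ : P ⟶ Y := Over.homMk Limits.prod.fst rfl
    let p₂ : P ⟶ Z := Over.homMk Limits.prod.snd ((hV _).elim _ _)
    refine HasLimit.mk ⟨BinaryFan.mk p₁ p₂, BinaryFan.isLimitMk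
      (fun s => Over.homMk (prod.lift s.fst.left s.snd.left) ((hV _).elim _ _)) ?_ ?_ ?_⟩
    · intro s
      ext
      exact prod.lift_fst _ _
    · intro s
      ext
      exact prod.lift_snd _ _
    · intro s m h1 h2
      ext
      apply Limits.prod.hom_ext
      · exact (congrArg CommaMorphism.left h1).trans (prod.lift_fst _ _).symm
      · exact (congrArg CommaMorphism.left h2).trans (prod.lift_snd _ _).symm
  exact hasBinaryProducts_of_hasLimit_pair _

end OverProducts

section ExtIso

variable {A : Type*} [Category* A] [Abelian A] [HasExt.{w} A]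

/-- `Ext` is invariant under isomorphisms of the first variable -/
noncomputable def extCongrLeft {X Y : A} (e : X ≅ Y) (Z : A) (n : ℕ) :
    Abelian.Ext.{w} Y Z n ≃+ Abelian.Ext.{w} X Z n where
  toFun x := (Abelian.Ext.mk₀ e.hom).comp x (zero_add n)
  invFun y := (Abelian.Ext.mk₀ e.inv).comp y (zero_add n)
  left_inv x := by
    beta_reduce
    rw [Abelian.Ext.mk₀_comp_mk₀_assoc, e.inv_hom_id, Abelian.Ext.mk₀_id_comp]
  right_inv y := by
    beta_reduce
    rw [Abelian.Ext.mk₀_comp_mk₀_assoc, e.hom_inv_id, Abelian.Ext.mk₀_id_comp]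
  map_add' x y := Abelian.Ext.comp_add _ _ _ _

end ExtIso

section Main

variable {C : Type u} [SmallCategory C] [HasBinaryProducts C] {J : GrothendieckTopology C}
  (O : Sheaf J CommRingCat.{u}) (U V : C)

omit [HasBinaryProducts C] in
/-- a module null on two objects covering the site is zero -/
lemma isZero_of_isNullOn_of_coversTop (hUV : J.CoversTop (fun b : Bool => cond b U V))
    (N : ModSite.Mod O) (h1 : ModSite.IsNullOn O U N) (h2 : ModSite.IsNullOn O V N) : IsZero N := by
  rw [IsZero.iff_id_eq_zero]
  apply (SheafOfModules.forget _).map_injective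
  apply Groth.Agent.Lib.ModShriekPre.hom_ext_apply
  intro X x
  change x = 0
  apply Sheaf.isSeparated (ModSite.toAb N) X.unop _ (hUV X.unop)
  rintro W g ⟨b, ⟨a⟩⟩
  have h0 : rs N g x = 0 := by
    cases b
    · exact (ExtSupp.isNullOn_iff O V N).1 h2 a _
    · exact (ExtSupp.isNullOn_iff O U N).1 h1 a _
  exact h0.trans (rs_zero N g).symm

/-- quotients of modules null on `V` are null on `V` -/
lemma isNullOn_of_epi {Q Q' : ModSite.Mod O} (p : Q ⟶ Q') [Epi p] (h : ModSite.IsNullOn O V Q) :
    ModSite.IsNullOn O V Q' := by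
  have : Epi ((ModSite.restr O V).map p) := inferInstance
  exact IsZero.of_epi ((ModSite.restr O V).map p) h

/-- for `V` subterminal covering the site together with `U`, `M/M_U` only depends on `M|_V` -/
lemma isIso_quotOn_map_counit (hV : ∀ X : C, Subsingleton (X ⟶ V))
    (hUV : J.CoversTop (fun b : Bool => cond b U V)) (M : ModSite.Mod O) :
    IsIso ((ModSite.quotOn O U).map ((ModSite.extZeroAdj O V).counit.app M)) := by
  let ε := (ModSite.extZeroAdj O V).counit.app M
  have hm : Mono ε := Groth.Agent.Lib.ModHZshShift65.mono_counit O V hV M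
  have hm' : Mono ((ModSite.quotOn O U).map ε) := inferInstance
  have he' : Epi ((ModSite.quotOn O U).map ε) := by
    apply Preadditive.epi_of_isZero_cokernel
    have : PreservesColimitsOfSize.{0, 0} (ModSite.quotOn O U) :=
      (adj O U).leftAdjoint_preservesColimits
    have : (ModSite.quotOn O U).Additive := (adj O U).left_adjoint_additive
    refine IsZero.of_iso ?_ (PreservesCokernel.iso (ModSite.quotOn O U) ε).symm
    change IsZero ((ModSite.quotOn O U).obj ((ModSite.quotOn O V).obj M))
    apply isZero_of_isNullOn_of_coversTop O U V hUV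
    · exact ExtSupp.isNullOn_quotOn O U _
    · exact isNullOn_of_epi O V ((ModSite.quotOnπ O U).app ((ModSite.quotOn O V).obj M))
        (ExtSupp.isNullOn_quotOn O V M)
  exact isIso_of_mono_of_epi _

variable [ModSite.HasPushOver (O.over V) (UX U V)]

/-- `j_{V!}` commutes with `M ↦ M/M_U` -/
noncomputable def quotOnExtZeroIso :
    ModSite.quotOn (O.over V) (UX U V) ⋙ ModSite.extZero O V ≅
      ModSite.extZero O V ⋙ ModSite.quotOn O U :=
  (conjugateIsoEquiv ((ModSite.extZeroAdj O V).comp (adj O U))
    ((adj (O.over V) (UX U V)).comp (ModSite.extZeroAdj O V))).symm (sectOnRestrIso O U V)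

/-- `Ext` out of `j_{V!} A` is `Ext` out of `A` on the localised site -/
theorem nonempty_ext_extZero_addEquiv [HasExt.{w} (ModSite.Mod O)]
    [HasExt.{w'} (ModSite.Mod (O.over V))] (A : ModSite.Mod (O.over V)) (N : ModSite.Mod O)
    (i : ℕ) :
    Nonempty (Abelian.Ext.{w} ((ModSite.extZero O V).obj A) N i ≃+
      Abelian.Ext.{w'} A ((ModSite.restr O V).obj N) i) := by
  have : EnoughInjectives (ModSite.Mod O) := Groth.Agent.S0485.result J (ModSite.ringSh O)
  have h3 : PreservesFiniteLimits (ModSite.restr O V) := by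
    have : PreservesLimitsOfSize.{0, 0} (ModSite.restr O V) :=
      (ModSite.extZeroAdj O V).rightAdjoint_preservesLimits
    exact ⟨fun K _ _ => inferInstance⟩
  have h4 : PreservesFiniteColimits (ModSite.restr O V) := by
    have : PreservesColimitsOfSize.{0, 0} (ModSite.restr O V) :=
      (ModSite.restrPushOverAdj O V).leftAdjoint_preservesColimits
    exact ⟨fun K _ _ => inferInstance⟩
  refine Groth.Agent.Lib.ExtCompare95.nonempty_addEquiv (ModSite.restr O V)
    ((ModSite.extZeroAdj O V).unit.app A) ?_ ?_ i N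
  · intro F
    have e : (fun φ : (ModSite.extZero O V).obj A ⟶ F =>
        (ModSite.extZeroAdj O V).unit.app A ≫ (ModSite.restr O V).map φ) =
        (ModSite.extZeroAdj O V).homEquiv A F := by
      funext φ
      exact ((ModSite.extZeroAdj O V).homEquiv_unit (f := φ)).symm
    rw [e]
    exact Equiv.bijective _
  · intro I hI p
    have := injective_restr O V I
    exact ⟨fun a b => (Abelian.Ext.eq_zero_of_injective a).trans
      (Abelian.Ext.eq_zero_of_injective b).symm⟩

/-- **Excision for `Ext` with supports.** -/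
theorem nonempty_extZ_addEquiv_extZover [HasExt.{w} (ModSite.Mod O)]
    [HasExt.{w'} (ModSite.Mod (O.over V))] (hV : ∀ X : C, Subsingleton (X ⟶ V))
    (hUV : J.CoversTop (fun b : Bool => cond b U V)) (M N : ModSite.Mod O) (i : ℕ) :
    Nonempty (ExtSupp.ExtZ.{w} U M N i ≃+ ExtSupp.ExtZover.{w'} V (UX U V) M N i) := by
  have := isIso_quotOn_map_counit O U V hV hUV M
  let e1 : (ModSite.quotOn O U).obj ((ModSite.extZero O V).obj ((ModSite.restr O V).obj M)) ≅
      (ModSite.quotOn O U).obj M :=
    asIso ((ModSite.quotOn O U).map ((ModSite.extZeroAdj O V).counit.app M))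
  let e2 := (quotOnExtZeroIso O U V).app ((ModSite.restr O V).obj M)
  obtain ⟨e3⟩ := nonempty_ext_extZero_addEquiv.{w, w'} O V
    ((ModSite.quotOn (O.over V) (UX U V)).obj ((ModSite.restr O V).obj M)) N i
  exact ⟨(extCongrLeft e1 N i).trans ((extCongrLeft e2 N i).trans e3)⟩

end Main

end Groth.Agent.Lib.ExtZExcision95
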