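import Groth.Agent.Lib.EtOverSite22c
import Groth.Prelude.Def_PBC

/-!
# Bridge between the over-site extension by zero `EtPBC.extZero U` and `EtShriek.extZero U.hom`
(helper34)

* `overRestrIso U : overPullback U ⋙ overToEt U ≅ EtShriek.restrAlong (homX U)`;
* `extZeroBridge U : (overToEt U).inv ⋙ EtPBC.extZero U ≅ EtShriek.extZero (homX U)`;
* `extZeroConstIso U M : EtPBC.extZeroConst U M ≅ (EtShriek.extZero (homX U)).obj (EtCoh.const U.left M)`.
-/

set_option autoImplicit false
universe u

open CategoryTheory CategoryTheory.Limits AlgebraicGeometry Opposite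

namespace Groth.Agent.Lib.ExtZeroBridge34

open Groth.Agent.Lib.EtOverSite22

variable {X : Scheme.{u}} (U : X.Etale)

/-- abbreviation for the coefficient category -/
abbrev Ab1 := AddCommGrpCat.{u + 1}

/-- restriction to the over-site followed by transport to `U.left` is restriction along
`compEtale U.hom` -/
noncomputable def overRestrIso :
    X.smallEtaleTopology.overPullback Ab1.{u} U ⋙ overToEt U Ab1.{u} ≅
      EtShriek.restrAlong (homX U) :=
  NatIso.ofComponents (fun F => overToEtOverIso U Ab1.{u} F) (by
    intro F G φ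
    apply (sheafToPresheaf _ _).map_injective
    rw [Functor.map_comp, Functor.map_comp]
    simp only [overToEtOverIso, Functor.preimageIso_hom, Functor.map_preimage]
    rfl)

/-- the equivalence `overToEt` -/
noncomputable abbrev eqv :
    Sheaf (X.smallEtaleTopology.over U) Ab1.{u} ≌ Sheaf U.left.smallEtaleTopology Ab1.{u} :=
  (overToEt U Ab1.{u}).asEquivalence

/-- the composite adjunction -/
noncomputable def bridgeAdj :
    (eqv U).inverse ⋙ EtPBC.extZero U ⊣ EtShriek.restrAlong (homX U) :=
  (((eqv U).symm.toAdjunction).comp (EtPBC.extZeroAdj U)).ofNatIsoRight (overRestrIso U)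

/-- the two extensions by zero agree -/
noncomputable def extZeroBridge :
    (eqv U).inverse ⋙ EtPBC.extZero U ≅ EtShriek.extZero (homX U) :=
  (bridgeAdj U).leftAdjointUniq (EtShriek.extZeroAdj (homX U))

/-- `j_! M` in the over-site form is `j_! M` in the `compEtale` form -/
noncomputable def extZeroConstIso (M : Type) [AddCommGroup M] :
    EtPBC.extZeroConst U M ≅ (EtShriek.extZero (homX U)).obj (EtCoh.const U.left M) :=
  (EtPBC.extZero U).mapIso
      (((eqv U).unitIso.app (EtPBC.constOver U M)) ≪≫
        (eqv U).inverse.mapIso (overToEtConstIso U Ab1.{u} (AddCommGrpCat.of (ULift.{u + 1} M)))) ≪≫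
    (extZeroBridge U).app (EtCoh.const U.left M)

end Groth.Agent.Lib.ExtZeroBridge34
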