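import Groth.Prelude.Def_PBC
import Groth.Agent.Lib.EtSuppGlue
import Mathlib.CategoryTheory.Sites.ConstantSheaf

/-!
# Mayer–Vietoris presentation of `j_! M` (helper34)

For `W : X.Etale` write `R W = EtPBC.extZeroConst W M`.  Then `Hom (R W, G) ≃ Hom (M, G(W))`
(`repEquiv`), `R` is functorial in `W` (`Rmap`), and for a two-element Zariski-type cover
`a : A ⟶ P`, `b : B ⟶ P` with "intersection" `C`, the sequence `R C ⟶ R A ⊞ R B ⟶ R P ⟶ 0` is
exact (`isColimitMV`, `cokernelIso`).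
-/

set_option autoImplicit false
universe u

open CategoryTheory CategoryTheory.Limits AlgebraicGeometry Opposite

namespace Groth.Agent.Lib.ExtZeroMV34

open Groth.Agent.Lib.EtSuppGlue

variable {X : Scheme.{u}} (M : Type) [AddCommGroup M]

/-- the coefficient group, lifted -/
abbrev E : AddCommGrpCat.{u + 1} := AddCommGrpCat.of (ULift.{u + 1} M)

/-- `j_! M` for `W` etale over `X` -/
noncomputable abbrev R (W : X.Etale) : EtCoh.Ab X := EtPBC.extZeroConst W M

/-- `Hom (j_! M, G) = Hom (M, G(W))` -/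
noncomputable def repEquiv (W : X.Etale) (G : EtCoh.Ab X) :
    (R M W ⟶ G) ≃ (E.{u} M ⟶ G.obj.obj (op W)) :=
  ((EtPBC.extZeroAdj W).homEquiv (EtPBC.constOver W M) G).trans
    ((constantSheafAdj (X.smallEtaleTopology.over W) AddCommGrpCat.{u + 1}
      Over.mkIdTerminal).homEquiv (E.{u} M)
      ((X.smallEtaleTopology.overPullback AddCommGrpCat.{u + 1} W).obj G))

lemma repEquiv_comp (W : X.Etale) {G G' : EtCoh.Ab X} (h : R M W ⟶ G') (g : G' ⟶ G) :
    repEquiv M W G (h ≫ g) = repEquiv M W G' h ≫ g.hom.app (op W) := by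
  simp only [repEquiv, Equiv.trans_apply, Adjunction.homEquiv_naturality_right]
  rfl

/-- the universal section of `R W` over `W` -/
noncomputable def univ (W : X.Etale) : E.{u} M ⟶ (R M W).obj.obj (op W) :=
  repEquiv M W (R M W) (𝟙 _)

lemma repEquiv_eq (W : X.Etale) {G : EtCoh.Ab X} (g : R M W ⟶ G) :
    repEquiv M W G g = univ M W ≫ g.hom.app (op W) := by
  have := repEquiv_comp M W (𝟙 (R M W)) g
  rwa [Category.id_comp] at this

/-- functoriality of `W ↦ j_{W!} M` -/
noncomputable def Rmap {W' W : X.Etale} (a : W' ⟶ W) : R M W' ⟶ R M W :=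
  (repEquiv M W' (R M W)).symm (univ M W ≫ (R M W).obj.map a.op)

lemma repEquiv_Rmap_comp {W' W : X.Etale} (a : W' ⟶ W) {G : EtCoh.Ab X} (g : R M W ⟶ G) :
    repEquiv M W' G (Rmap M a ≫ g) = repEquiv M W G g ≫ G.obj.map a.op := by
  rw [repEquiv_comp, Rmap, Equiv.apply_symm_apply, repEquiv_eq M W g, Category.assoc,
    Category.assoc]
  congr 1
  exact g.hom.naturality a.op

lemma Rmap_id (W : X.Etale) : Rmap M (𝟙 W) = 𝟙 (R M W) := by
  apply (repEquiv M W (R M W)).injective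
  rw [Rmap, Equiv.apply_symm_apply, op_id, CategoryTheory.Functor.map_id, Category.comp_id]
  rfl

lemma Rmap_comp {W'' W' W : X.Etale} (a' : W'' ⟶ W') (a : W' ⟶ W) :
    Rmap M (a' ≫ a) = Rmap M a' ≫ Rmap M a := by
  apply (repEquiv M W'' (R M W)).injective
  rw [repEquiv_Rmap_comp, Rmap, Equiv.apply_symm_apply, Rmap, Equiv.apply_symm_apply,
    Category.assoc, op_comp, Functor.map_comp]

/-- isomorphic etale `X`-schemes have isomorphic `j_! M` -/
noncomputable def RIso {W' W : X.Etale} (e : W' ≅ W) : R M W' ≅ R M W where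
  hom := Rmap M e.hom
  inv := Rmap M e.inv
  hom_inv_id := by rw [← Rmap_comp, e.hom_inv_id, Rmap_id]
  inv_hom_id := by rw [← Rmap_comp, e.inv_hom_id, Rmap_id]

section MV

variable {P A B C : X.Etale} (a : A ⟶ P) (b : B ⟶ P) (p : C ⟶ A) (q : C ⟶ B)

/-- the first map of the Mayer–Vietoris presentation -/
noncomputable def mvφ : R M C ⟶ R M A ⊞ R M B := biprod.lift (Rmap M p) (-Rmap M q)

/-- the second map of the Mayer–Vietoris presentation -/
noncomputable def mvπ : R M A ⊞ R M B ⟶ R M P := biprod.desc (Rmap M a) (Rmap M b)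

lemma mv_w (w : p ≫ a = q ≫ b) : mvφ M p q ≫ mvπ M a b = 0 := by
  rw [mvφ, mvπ, biprod.lift_desc, Preadditive.neg_comp, ← Rmap_comp, ← Rmap_comp, w]
  exact add_neg_cancel _

variable (hcov : ∀ x : P.left, x ∈ Set.range a.left ∨ x ∈ Set.range b.left)
  (ha : Mono a) (hb : Mono b) (w : p ≫ a = q ≫ b)
  (hpb : ∀ (Z : X.Etale) (g : Z ⟶ A) (h : Z ⟶ B), g ≫ a = h ≫ b →
    ∃ k : Z ⟶ C, k ≫ p = g ∧ k ≫ q = h)

include hcov ha hb hpb in
/-- gluing of homomorphisms `M → G(A)`, `M → G(B)` agreeing on `C` -/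
lemma existsUnique_glue (G : EtCoh.Ab X) (sA : E.{u} M ⟶ G.obj.obj (op A))
    (sB : E.{u} M ⟶ G.obj.obj (op B)) (hs : sA ≫ G.obj.map p.op = sB ≫ G.obj.map q.op) :
    ∃! s : E.{u} M ⟶ G.obj.obj (op P), s ≫ G.obj.map a.op = sA ∧ s ≫ G.obj.map b.op = sB := by
  have h1 := (G.2 (E.{u} M)).isSheafFor _ (generate_fam2_mem a b hcov)
  rw [Presieve.isSheafFor_arrows_iff] at h1
  let x : (i : Bool) → (G.obj ⋙ coyoneda.obj (op (E.{u} M))).obj (op (fam2 A B i)) :=
    fun i => Bool.rec sB sA i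
  have hAB : ∀ (Z : X.Etale) (g : Z ⟶ A) (h : Z ⟶ B), g ≫ a = h ≫ b →
      sA ≫ G.obj.map g.op = sB ≫ G.obj.map h.op := by
    intro Z g h hgh
    obtain ⟨k, rfl, rfl⟩ := hpb Z g h hgh
    rw [op_comp, op_comp, Functor.map_comp, Functor.map_comp, reassoc_of% hs]
  have hx : Presieve.Arrows.Compatible (G.obj ⋙ coyoneda.obj (op (E.{u} M))) (fam2ι a b) x := by
    intro i j Z gi gj hij
    cases i <;> cases j
    · have : gi = gj := (cancel_mono b).1 hij
      subst this; rfl
    · exact (hAB Z gj gi hij.symm).symm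
    · exact hAB Z gi gj hij
    · have : gi = gj := (cancel_mono a).1 hij
      subst this; rfl
  obtain ⟨r, hr, hr'⟩ := h1 x hx
  refine ⟨r, ⟨hr true, hr false⟩, fun r' h' => hr' r' fun i => ?_⟩
  cases i
  · exact h'.2
  · exact h'.1

include hcov ha hb hpb w in
/-- **Mayer–Vietoris**: `R C ⟶ R A ⊞ R B ⟶ R P ⟶ 0` is exact. -/
theorem isColimitMV :
    Nonempty (IsColimit (CokernelCofork.ofπ (mvπ M a b) (mv_w M a b p q w))) := by
  -- description of maps out of the biproduct
  have key : ∀ (G : EtCoh.Ab X) (g : R M A ⊞ R M B ⟶ G), mvφ M p q ≫ g = 0 →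
      ∃! m : R M P ⟶ G, mvπ M a b ≫ m = g := by
    intro G g hg
    let gA : R M A ⟶ G := biprod.inl ≫ g
    let gB : R M B ⟶ G := biprod.inr ≫ g
    have hgAB : Rmap M p ≫ gA = Rmap M q ≫ gB := by
      have h0 : mvφ M p q ≫ g = Rmap M p ≫ gA - Rmap M q ≫ gB := by
        have hdec : g = biprod.desc gA gB := by
          apply biprod.hom_ext' <;> simp [gA, gB]
        rw [hdec, mvφ, biprod.lift_desc, Preadditive.neg_comp, sub_eq_add_neg]
      rw [h0] at hg
      exact sub_eq_zero.1 hg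
    have hs : repEquiv M A G gA ≫ G.obj.map p.op = repEquiv M B G gB ≫ G.obj.map q.op := by
      rw [← repEquiv_Rmap_comp, ← repEquiv_Rmap_comp, hgAB]
    obtain ⟨s, ⟨hsA, hsB⟩, hsu⟩ := existsUnique_glue M a b p q hcov ha hb hpb G _ _ hs
    have hiff : ∀ m : R M P ⟶ G, mvπ M a b ≫ m = g ↔
        (repEquiv M P G m ≫ G.obj.map a.op = repEquiv M A G gA ∧
          repEquiv M P G m ≫ G.obj.map b.op = repEquiv M B G gB) := by
      intro m
      rw [← repEquiv_Rmap_comp, ← repEquiv_Rmap_comp, (repEquiv M A G).apply_eq_iff_eq,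
        (repEquiv M B G).apply_eq_iff_eq]
      constructor
      · intro hm
        subst hm
        constructor
        · simp [gA, mvπ]
        · simp [gB, mvπ]
      · rintro ⟨h1, h2⟩
        apply biprod.hom_ext'
        · simpa [gA, mvπ] using h1
        · simpa [gB, mvπ] using h2
    refine ⟨(repEquiv M P G).symm s, (hiff _).2 ?_, fun m hm => ?_⟩
    · rw [Equiv.apply_symm_apply]; exact ⟨hsA, hsB⟩
    · apply (repEquiv M P G).injective
      rw [Equiv.apply_symm_apply]
      exact hsu _ ((hiff m).1 hm)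
  choose d hd hd' using key
  exact ⟨CokernelCofork.IsColimit.ofπ _ _ (fun {G} g hg => d G g hg) (fun {G} g hg => hd G g hg)
    (fun {G} g hg m hm => hd' G g hg m hm)⟩

include hcov ha hb hpb w in
/-- `R P` is the cokernel of the Mayer–Vietoris map -/
theorem nonempty_cokernelIso : Nonempty (cokernel (mvφ M p q) ≅ R M P) := by
  obtain ⟨hc⟩ := isColimitMV M a b p q hcov ha hb w hpb
  exact ⟨(colimit.isColimit _).coconePointUniqueUpToIso hc⟩

end MV

end Groth.Agent.Lib.ExtZeroMV34
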