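import Groth.Agent.Lib.FibDegRetro6
import Groth.Agent.Lib.EtExtZeroBC
import Groth.Agent.Lib.EtFinEtTrace95
import Groth.Agent.Lib.EtFinEtPushConstr22
import Groth.Agent.Lib.EtConstr22k
import Groth.Agent.Lib.EtExt22a

/-!
# `j_! M` is constructible for `j` separated etale quasi-compact (helper34)

Degree stratification of the base of a separated quasi-compact etale morphism `j : V ⟶ X`
(`X` qcqs, `V` compact): strata `T r ⟶ X` (immersions with constructible range, covering `X`) over
which `j` becomes finite etale.  Consequently `j_! M` is constructible for finite `M`.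
-/

set_option autoImplicit false
universe u

open CategoryTheory CategoryTheory.Limits AlgebraicGeometry Opposite Topology

namespace Groth.Agent.Lib.ExtZeroSep34

open Groth.Agent.Lib.FibDeg6 Groth.Agent.Lib.FibDegRetro6 Groth.Agent.Lib.FibDegAlg6

/-- Étale morphisms are locally quasi-finite. -/
instance (priority := low) locallyQuasiFinite_of_etale {X Y : Scheme.{u}} (f : X ⟶ Y) [Etale f] :
    LocallyQuasiFinite f where
  quasiFinite_appLE {U} hU {V} hV e := by
    have h := f.etale_appLE hU hV e
    algebraize [(f.appLE U V e).hom]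
    rw [RingHom.QuasiFinite]
    infer_instance

section strata

variable {V X : Scheme.{u}} (j : V ⟶ X) [Etale j] [IsSeparated j]

/-- the open locus where the fibre degree is at least `d` -/
def D (d : ℕ) : X.Opens := ⟨{s | DegGE j s d}, isOpen_degGE j d⟩

lemma mem_D (d : ℕ) (s : X) : s ∈ D j d ↔ DegGE j s d := Iff.rfl

/-- the closed subset of `D r` where the degree is exactly `r` -/
def C (r : ℕ) : TopologicalSpace.Closeds (D j r).toScheme :=
  ⟨(D j r).ι ⁻¹' ((D j (r + 1) : Set X)ᶜ),
    ((D j (r + 1)).isOpen.isClosed_compl).preimage (D j r).ι.continuous⟩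

/-- the stratum of degree `r`, with its reduced structure -/
noncomputable abbrev T (r : ℕ) : Scheme.{u} :=
  (Scheme.IdealSheafData.vanishingIdeal (C j r)).subscheme

/-- the immersion of the stratum of degree `r` -/
noncomputable def g (r : ℕ) : T j r ⟶ X :=
  (Scheme.IdealSheafData.vanishingIdeal (C j r)).subschemeι ≫ (D j r).ι

instance (r : ℕ) : IsImmersion (g j r) := by
  unfold g; infer_instance

lemma range_g (r : ℕ) : Set.range (g j r) = {s | DegGE j s r ∧ ¬ DegGE j s (r + 1)} := by
  unfold g
  rw [Scheme.Hom.comp_base, TopCat.coe_comp, Set.range_comp,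
    Scheme.IdealSheafData.range_subschemeι, Scheme.IdealSheafData.coe_support_vanishingIdeal]
  change (D j r).ι '' ((D j r).ι ⁻¹' ((D j (r + 1) : Set X)ᶜ)) = _
  rw [Set.image_preimage_eq_inter_range, Scheme.Opens.range_ι]
  ext s
  simp only [Set.mem_inter_iff, Set.mem_compl_iff, SetLike.mem_coe, mem_D, Set.mem_setOf_eq]
  tauto

variable [CompactSpace V] [QuasiSeparatedSpace X]

lemma isRetrocompact_D (d : ℕ) : IsRetrocompact (D j d : Set X) := by
  obtain ⟨n, hn⟩ := exists_bound_of_compactSpace j
  intro K hKc hKo
  exact isCompact_degGE_inter n j ⊤ (fun s _ d hd => hn s d hd) d K hKc hKo (fun _ _ => trivial)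

lemma isConstructible_D (d : ℕ) : IsConstructible (D j d : Set X) :=
  (isRetrocompact_D j d).isConstructible (D j d).isOpen

lemma isConstructible_range_g (r : ℕ) : IsConstructible (Set.range (g j r)) := by
  have : Set.range (g j r) = (D j r : Set X) ∩ (D j (r + 1) : Set X)ᶜ := by
    rw [range_g]; rfl
  rw [this]
  exact (isConstructible_D j r).inter (isConstructible_D j (r + 1)).compl

open Classical in
lemma exists_mem_range_g (x : X) : ∃ r, x ∈ Set.range (g j r) := by
  obtain ⟨n, hn⟩ := exists_bound_of_compactSpace j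
  have hiff := iff_le_findGreatest (fun d => DegGE j x d) n (DegGE.zero j x)
    (fun d d' hdd hd => hd.mono hdd) (hn x)
  refine ⟨Nat.findGreatest (fun d => DegGE j x d) n, ?_⟩
  rw [range_g]
  refine ⟨(hiff _).2 le_rfl, fun h => ?_⟩
  have := (hiff _).1 h
  omega

lemma degGE_iff_of_mem_range_g {r : ℕ} {x : X} (hx : x ∈ Set.range (g j r)) (d : ℕ) :
    DegGE j x d ↔ d ≤ r := by
  rw [range_g] at hx
  constructor
  · intro hd
    by_contra hcon
    exact hx.2 (hd.mono (by omega))
  · intro hd
    exact hx.1.mono hd

/-- over the stratum of degree `r` the morphism `j` becomes finite -/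
instance isFinite_fst (r : ℕ) : IsFinite (pullback.fst (g j r) j) := by
  apply isFinite_of_degree_const (pullback.fst (g j r) j) r
  intro t d
  rw [degGE_snd_iff_of_isPullback (IsPullback.of_hasPullback (g j r) j).flip t d]
  exact degGE_iff_of_mem_range_g j ⟨t, rfl⟩ d

end strata

section main

open Groth.Agent.Lib.EtOverSite22 Groth.Agent.Lib.EtLocConst22 Groth.Agent.Lib.EtConstr22
  Groth.Agent.Lib.EtExt22 Groth.Agent.Lib.EtFinEtPush22 Groth.Agent.Lib.EtExtZeroBC
  Groth.Agent.Lib.EtShriekToPush95 Groth.Agent.Lib.EtFinEtTrace95 Groth.Agent.Lib.EtConst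

variable {V X : Scheme.{u}} (j : V ⟶ X) [Etale j]

instance jCont_all {V X : Scheme.{u}} (j : V ⟶ X) [Etale j] : EtShriek.JCont j :=
  Groth.Agent.Lib.EtJCont.jCont j

/-- base change of `j_! M` to `T`, when `j` becomes finite over `T`, is locally constant -/
theorem isLC_pull_extZero_const {T : Scheme.{u}} (f : T ⟶ X) [IsFinite (pullback.fst f j)]
    (N : Ab1.{u}) (hN : PFin N) :
    IsLC Ab1.{u} PFin ((pullA Ab1.{u} f).obj ((EtShriek.extZero j).obj (constSh V N))) := by
  have e1 : (pullA Ab1.{u} f).obj ((EtShriek.extZero j).obj (constSh V N)) ≅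
      (EtShriek.extZero (pullback.fst f j)).obj
        ((pullA Ab1.{u} (pullback.snd f j)).obj (constSh V N)) :=
    (extZeroPullIso f j).app (constSh V N)
  have e2 : (pullA Ab1.{u} (pullback.snd f j)).obj (constSh V N) ≅ constSh (pullback f j) N :=
    (pullConstIsoA Ab1.{u} (pullback.snd f j)).app N
  have e3 : (EtShriek.extZero (pullback.fst f j)).obj (constSh (pullback f j) N) ≅
      (EtCoh.push (pullback.fst f j)).obj (constSh (pullback f j) N) :=
    asIso ((shriekToPush (pullback.fst f j)).app _)
  have h := isLC_push_of_finite_etale (pullback.fst f j) (isLC_const (T := pullback f j) N hN)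
  exact h.of_iso (e1 ≪≫ (EtShriek.extZero (pullback.fst f j)).mapIso e2 ≪≫ e3).symm

variable [IsSeparated j] [CompactSpace V] [CompactSpace X] [QuasiSeparatedSpace X]

/-- **`j_! N` is constructible** for `j : V ⟶ X` separated etale, `V` compact, `X` qcqs and `N`
finite. -/
theorem isConstructibleA_extZero_const (N : Ab1.{u}) (hN : PFin N) :
    IsConstructibleA Ab1.{u} PFin ((EtShriek.extZero j).obj (constSh V N)) :=
  IsConstructibleA.of_lc_cover (fun r : ℕ => T j r) (fun r => g j r) (fun r => inferInstance)
    (fun r => isConstructible_range_g j r) (fun x => exists_mem_range_g j x)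
    (fun r => isLC_pull_extZero_const j (g j r) N hN)

end main

end Groth.Agent.Lib.ExtZeroSep34
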