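import Groth.Agent.Lib.ExtZeroBridge34
import Groth.Agent.Lib.ExtZeroMV34
import Groth.Agent.Lib.ExtZeroSep34
import Groth.Agent.Lib.EtGermB
import Groth.Agent.Lib.EtConstr22e

/-!
# `j_! M` is constructible for `j : U ⟶ X` etale, `U` and `X` qcqs, `M` finite (helper34)

* `isConstructible_of_isSeparated`: the case of separated `j` (degree stratification);
* `openSubLE`, Mayer–Vietoris for `openSub U (A ⊔ B)`;
* `isConstructible_extZeroConst`: the general case by induction on a finite affine cover.
-/

set_option autoImplicit false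
universe u

open CategoryTheory CategoryTheory.Limits AlgebraicGeometry Opposite

namespace Groth.Agent.Lib.ExtZeroConstr34

open Groth.Agent.Lib.EtOverSite22 Groth.Agent.Lib.EtLocConst22 Groth.Agent.Lib.EtConstr22
  Groth.Agent.Lib.ExtZeroBridge34 Groth.Agent.Lib.ExtZeroMV34 Groth.Agent.Lib.ExtZeroSep34
  Groth.Agent.Lib.EtGerm

variable {X : Scheme.{u}}

section sep

variable [CompactSpace X] [QuasiSeparatedSpace X] (M : Type) [AddCommGroup M] [Finite M]

/-- the separated case -/
theorem isConstructible_of_isSeparated (W : X.Etale) [IsSeparated W.hom] [CompactSpace W.left] :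
    EtPBC.IsConstructible (EtPBC.extZeroConst W M) := by
  rw [isConstructible_iff]
  have h := isConstructibleA_extZero_const (homX W) (AddCommGrpCat.of (ULift.{u + 1} M))
    ⟨M, inferInstance, inferInstance, rfl⟩
  exact h.of_iso (extZeroConstIso W M).symm

end sep

/-- an open subscheme of an affine open is a separated scheme -/
lemma isSeparated_of_le {Y : Scheme.{u}} {W A : Y.Opens} (h : W ≤ A) (hA : IsAffineOpen A) :
    (W : Scheme.{u}).IsSeparated := by
  haveI : IsAffine (A : Scheme.{u}) := hA
  refine ⟨?_⟩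
  have : terminal.from (W : Scheme.{u}) = Y.homOfLE h ≫ terminal.from (A : Scheme.{u}) :=
    Subsingleton.elim _ _
  rw [this]
  infer_instance

variable (U : X.Etale)

/-- inclusions of open subschemes of an etale `X`-scheme -/
noncomputable def openSubLE {A B : U.left.Opens} (h : A ≤ B) : openSub U A ⟶ openSub U B :=
  MorphismProperty.Over.homMk (U.left.homOfLE h)
    (by show U.left.homOfLE h ≫ B.ι ≫ U.hom = A.ι ≫ U.hom
        rw [Scheme.homOfLE_ι_assoc]) trivial

lemma openSubLE_left {A B : U.left.Opens} (h : A ≤ B) :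
    (openSubLE U h).left = U.left.homOfLE h := rfl

set_option backward.isDefEq.respectTransparency false in
instance mono_openSubLE {A B : U.left.Opens} (h : A ≤ B) : Mono (openSubLE U h) where
  right_cancellation {Z} g g' hgg' := by
    apply MorphismProperty.Over.Hom.ext
    have h1 : g.left ≫ U.left.homOfLE h = g'.left ≫ U.left.homOfLE h :=
      congrArg (fun k => k.left) hgg'
    have h2 : (g.left ≫ U.left.homOfLE h) ≫ B.ι = (g'.left ≫ U.left.homOfLE h) ≫ B.ι := by
      rw [h1]
    rw [Category.assoc, Category.assoc, Scheme.homOfLE_ι] at h2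
    exact (cancel_mono A.ι).1 h2

lemma openSubLE_comp {A B C : U.left.Opens} (h : A ≤ B) (h' : B ≤ C) :
    openSubLE U h ≫ openSubLE U h' = openSubLE U (h.trans h') := by
  apply MorphismProperty.Over.Hom.ext
  exact U.left.homOfLE_homOfLE h h'

/-- `openSub U ⊤` is `U` -/
noncomputable def openSubTopIso : openSub U ⊤ ≅ U :=
  MorphismProperty.Over.isoMk (Scheme.topIso U.left) rfl

section MV

variable (A B : U.left.Opens)

lemma cover_sup (x : (openSub U (A ⊔ B)).left) :
    x ∈ Set.range (openSubLE U (le_sup_left : A ≤ A ⊔ B)).left ∨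
      x ∈ Set.range (openSubLE U (le_sup_right : B ≤ A ⊔ B)).left := by
  obtain ⟨y, hy⟩ := x
  rcases hy with hy | hy
  · refine Or.inl ⟨⟨y, hy⟩, ?_⟩
    exact Scheme.homOfLE_apply' (X := U.left) (le_sup_left : A ≤ A ⊔ B) y hy
  · refine Or.inr ⟨⟨y, hy⟩, ?_⟩
    exact Scheme.homOfLE_apply' (X := U.left) (le_sup_right : B ≤ A ⊔ B) y hy

set_option backward.isDefEq.respectTransparency false in
lemma exists_lift_inf (Z : X.Etale) (g : Z ⟶ openSub U A) (h : Z ⟶ openSub U B)
    (w : g ≫ openSubLE U (le_sup_left : A ≤ A ⊔ B) = h ≫ openSubLE U (le_sup_right : B ≤ A ⊔ B)) :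
    ∃ k : Z ⟶ openSub U (A ⊓ B), k ≫ openSubLE U (inf_le_left : A ⊓ B ≤ A) = g ∧
      k ≫ openSubLE U (inf_le_right : A ⊓ B ≤ B) = h := by
  have w1 : g.left ≫ A.ι = h.left ≫ B.ι := by
    have h1 : g.left ≫ U.left.homOfLE (le_sup_left : A ≤ A ⊔ B) =
        h.left ≫ U.left.homOfLE (le_sup_right : B ≤ A ⊔ B) := congrArg (fun k => k.left) w
    have h2 : (g.left ≫ U.left.homOfLE (le_sup_left : A ≤ A ⊔ B)) ≫ (A ⊔ B).ι =
        (h.left ≫ U.left.homOfLE (le_sup_right : B ≤ A ⊔ B)) ≫ (A ⊔ B).ι := by rw [h1]
    rw [Category.assoc, Category.assoc, Scheme.homOfLE_ι, Scheme.homOfLE_ι] at h2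
    exact h2
  have hr : Set.range (g.left ≫ A.ι) ⊆ Set.range (A ⊓ B).ι := by
    rintro _ ⟨z, rfl⟩
    rw [Scheme.Opens.range_ι]
    refine ⟨?_, ?_⟩
    · rw [Scheme.Hom.comp_apply]; exact (g.left z).2
    · rw [w1, Scheme.Hom.comp_apply]; exact (h.left z).2
  let kL : Z.left ⟶ ((A ⊓ B : U.left.Opens) : Scheme.{u}) :=
    IsOpenImmersion.lift (A ⊓ B).ι (g.left ≫ A.ι) hr
  have hkL : kL ≫ (A ⊓ B).ι = g.left ≫ A.ι := IsOpenImmersion.lift_fac _ _ _
  let k : Z ⟶ openSub U (A ⊓ B) := MorphismProperty.Over.homMk kL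
    (by show kL ≫ (A ⊓ B).ι ≫ U.hom = Z.hom
        rw [reassoc_of% hkL]
        exact Over.w g.hom) trivial
  refine ⟨k, ?_, ?_⟩
  · apply MorphismProperty.Over.Hom.ext
    show kL ≫ U.left.homOfLE (inf_le_left : A ⊓ B ≤ A) = g.left
    rw [← cancel_mono A.ι, Category.assoc, Scheme.homOfLE_ι, hkL]
  · apply MorphismProperty.Over.Hom.ext
    show kL ≫ U.left.homOfLE (inf_le_right : A ⊓ B ≤ B) = h.left
    rw [← cancel_mono B.ι, Category.assoc, Scheme.homOfLE_ι, hkL, w1]

variable [CompactSpace X] [QuasiSeparatedSpace X] (M : Type) [AddCommGroup M] [Finite M]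

/-- Mayer–Vietoris step for constructibility -/
theorem isConstructible_sup
    (hA : EtPBC.IsConstructible (EtPBC.extZeroConst (openSub U A) M))
    (hB : EtPBC.IsConstructible (EtPBC.extZeroConst (openSub U B) M))
    (hAB : EtPBC.IsConstructible (EtPBC.extZeroConst (openSub U (A ⊓ B)) M)) :
    EtPBC.IsConstructible (EtPBC.extZeroConst (openSub U (A ⊔ B)) M) := by
  obtain ⟨e⟩ := nonempty_cokernelIso M (openSubLE U (le_sup_left : A ≤ A ⊔ B))
    (openSubLE U (le_sup_right : B ≤ A ⊔ B)) (openSubLE U (inf_le_left : A ⊓ B ≤ A))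
    (openSubLE U (inf_le_right : A ⊓ B ≤ B)) (cover_sup U A B) inferInstance inferInstance
    (by rw [openSubLE_comp, openSubLE_comp]) (exists_lift_inf U A B)
  have h1 : EtPBC.IsConstructible (R M (openSub U A) ⊞ R M (openSub U B)) := by
    rw [isConstructible_iff] at hA hB ⊢
    exact Groth.Agent.Lib.EtFinEtPush22.isConstructibleA_biprod hA hB
  exact isConstructible_of_iso e (isConstructible_ker_coker _ hAB h1).2

end MV

section main

variable [CompactSpace X] [QuasiSeparatedSpace X] (M : Type) [AddCommGroup M] [Finite M]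
  [QuasiSeparatedSpace U.left]

lemma isCompact_sup (s : Finset U.left.affineOpens) :
    IsCompact ((s.sup fun A => A.1 : U.left.Opens) : Set U.left) := by
  classical
  induction s using Finset.induction_on with
  | empty => simp
  | insert A s _ ih =>
    rw [Finset.sup_insert, TopologicalSpace.Opens.coe_sup]
    exact A.2.isCompact.union ih

theorem isConstructible_sup_affine (s : Finset U.left.affineOpens) :
    EtPBC.IsConstructible (EtPBC.extZeroConst (openSub U (s.sup fun A => A.1)) M) := by
  classical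
  induction s using Finset.induction_on with
  | empty =>
    rw [Finset.sup_empty]
    haveI : ((⊥ : U.left.Opens) : Scheme.{u}).IsSeparated :=
      isSeparated_of_le (le_refl _) (isAffineOpen_bot _)
    haveI : IsSeparated (openSub U ⊥).hom := inferInstanceAs (IsSeparated ((⊥ : U.left.Opens).ι ≫ U.hom))
    haveI : CompactSpace (openSub U ⊥).left :=
      isCompact_iff_compactSpace.mp (isAffineOpen_bot U.left).isCompact
    exact isConstructible_of_isSeparated M _
  | insert A s _ ih =>
    rw [Finset.sup_insert]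
    refine isConstructible_sup U A.1 _ M ?_ ih ?_
    · haveI : (A.1 : Scheme.{u}).IsSeparated := isSeparated_of_le (le_refl _) A.2
      haveI : IsSeparated (openSub U A.1).hom := inferInstanceAs (IsSeparated (A.1.ι ≫ U.hom))
      haveI : CompactSpace (openSub U A.1).left := isCompact_iff_compactSpace.mp A.2.isCompact
      exact isConstructible_of_isSeparated M _
    · set V : U.left.Opens := s.sup fun A => A.1 with hV
      haveI : ((A.1 ⊓ V : U.left.Opens) : Scheme.{u}).IsSeparated :=
        isSeparated_of_le inf_le_left A.2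
      haveI : IsSeparated (openSub U (A.1 ⊓ V)).hom :=
        inferInstanceAs (IsSeparated ((A.1 ⊓ V).ι ≫ U.hom))
      haveI : CompactSpace (openSub U (A.1 ⊓ V)).left :=
        isCompact_iff_compactSpace.mp (QuasiSeparatedSpace.inter_isCompact _ _ A.1.isOpen
          A.2.isCompact V.isOpen (isCompact_sup U s))
      exact isConstructible_of_isSeparated M _

variable [CompactSpace U.left]

/-- **`j_! M` is constructible** for `j : U ⟶ X` etale with `U`, `X` qcqs and `M` finite. -/
theorem isConstructible_extZeroConst :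
    EtPBC.IsConstructible (EtPBC.extZeroConst U M) := by
  obtain ⟨t, ht⟩ := isCompact_univ.elim_finite_subcover
    (fun W : U.left.affineOpens => (W.1 : Set U.left)) (fun W => W.1.isOpen) (fun x _ => by
      have : x ∈ (⨆ i : U.left.affineOpens, (i : U.left.Opens) : U.left.Opens) := by
        rw [iSup_affineOpens_eq_top]; trivial
      simpa [TopologicalSpace.Opens.mem_iSup] using this)
  have htop : (t.sup fun A => A.1 : U.left.Opens) = ⊤ := by
    apply top_le_iff.1
    intro x _
    have := ht (Set.mem_univ x)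
    simp only [Set.mem_iUnion, exists_prop] at this
    obtain ⟨W, hW, hxW⟩ := this
    exact (Finset.le_sup (f := fun A : U.left.affineOpens => A.1) hW) hxW
  have h := isConstructible_sup_affine U M t
  rw [htop] at h
  exact isConstructible_of_iso (RIso M (openSubTopIso U)) h

end main

end Groth.Agent.Lib.ExtZeroConstr34
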