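/-
helper66: tools for relative resolutions of complexes in an abelian category:
* five lemma for the middle term of a morphism of short exact sequences of cochain complexes;
* pullback of a short exact sequence of complexes along a morphism to the third term;
* factorization of a morphism as a monomorphism followed by a termwise epi quasi-isomorphism.
-/
import Mathlib.Algebra.Homology.HomologySequenceLemmas
import Mathlib.Algebra.Homology.HomotopyCategory.MappingCone
import Mathlib.Algebra.Homology.HomologicalComplexLimits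
import Mathlib.Algebra.Homology.HomologicalComplexAbelian
import Mathlib.CategoryTheory.Abelian.Basic
import Mathlib.Algebra.Homology.Embedding.CochainComplex
import Groth.Agent.Lib.ConeQuasiIso

universe v u
open CategoryTheory Limits HomologicalComplex ComposableArrows Abelian ZeroObject

namespace Groth.Agent.Lib.RelResolution66

variable {A : Type u} [Category.{v} A] [Abelian A]

section FiveLemma

variable {S₁ S₂ : ShortComplex (CochainComplex A ℤ)} (φ : S₁ ⟶ S₂)
  (hS₁ : S₁.ShortExact) (hS₂ : S₂.ShortExact)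

include hS₁ hS₂

open HomologySequence

lemma mono_homologyMap_τ₂ (i j : ℤ) (hij : i + 1 = j)
    (h₁ : Epi (homologyMap φ.τ₃ i)) (h₂ : Mono (homologyMap φ.τ₁ j))
    (h₃ : Mono (homologyMap φ.τ₃ j)) : Mono (homologyMap φ.τ₂ j) := by
  have hij' : (ComplexShape.up ℤ).Rel i j := hij
  apply mono_of_epi_of_mono_of_mono
    ((δ₀Functor ⋙ δ₀Functor).map (mapComposableArrows₅ φ hS₁ hS₂ i j hij'))
  · exact (composableArrows₅_exact hS₁ i j hij').δ₀.δ₀
  · exact (composableArrows₅_exact hS₂ i j hij').δ₀.δ₀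
  · exact h₁
  · exact h₂
  · exact h₃

lemma epi_homologyMap_τ₂ (j k : ℤ) (hjk : j + 1 = k)
    (h₁ : Epi (homologyMap φ.τ₁ j)) (h₂ : Epi (homologyMap φ.τ₃ j))
    (h₃ : Mono (homologyMap φ.τ₁ k)) : Epi (homologyMap φ.τ₂ j) := by
  have hjk' : (ComplexShape.up ℤ).Rel j k := hjk
  apply epi_of_epi_of_epi_of_mono
    ((δlastFunctor ⋙ δlastFunctor).map (mapComposableArrows₅ φ hS₁ hS₂ j k hjk'))
  · exact (composableArrows₅_exact hS₁ j k hjk').δlast.δlast
  · exact (composableArrows₅_exact hS₂ j k hjk').δlast.δlast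
  · exact h₁
  · exact h₂
  · exact h₃

/-- five lemma: if `φ.τ₁` and `φ.τ₃` are quasi-isomorphisms, so is `φ.τ₂` -/
lemma quasiIso_τ₂ (h₁ : QuasiIso φ.τ₁) (h₃ : QuasiIso φ.τ₃) : QuasiIso φ.τ₂ := by
  rw [quasiIso_iff]
  intro j
  rw [quasiIsoAt_iff_isIso_homologyMap]
  have := mono_homologyMap_τ₂ φ hS₁ hS₂ (j - 1) j (by omega) inferInstance inferInstance
    inferInstance
  have := epi_homologyMap_τ₂ φ hS₁ hS₂ j (j + 1) rfl inferInstance inferInstance inferInstance
  apply isIso_of_mono_of_epi

end FiveLemma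

section Pullback

variable {B : Type*} [Category B] [Abelian B] (S : ShortComplex B) {M : B} (r : M ⟶ S.X₃)

/-- the inclusion of `X₁` in the pullback -/
noncomputable def pbι : S.X₁ ⟶ pullback S.g r :=
  pullback.lift S.f 0 (by rw [S.zero, zero_comp])

@[reassoc (attr := simp)]
lemma pbι_fst : pbι S r ≫ pullback.fst S.g r = S.f := pullback.lift_fst _ _ _

@[reassoc (attr := simp)]
lemma pbι_snd : pbι S r ≫ pullback.snd S.g r = 0 := pullback.lift_snd _ _ _

/-- the pullback of a short complex `X₁ ⟶ X₂ ⟶ X₃` along `r : M ⟶ X₃` -/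
noncomputable def pbSC : ShortComplex B :=
  ShortComplex.mk (pbι S r) (pullback.snd S.g r) (pbι_snd S r)

/-- the morphism from the pulled back sequence -/
noncomputable def pbSCHom : pbSC S r ⟶ S where
  τ₁ := 𝟙 _
  τ₂ := pullback.fst S.g r
  τ₃ := r
  comm₁₂ := by
    dsimp [pbSC]
    rw [Category.id_comp, pbι_fst]
  comm₂₃ := by
    dsimp [pbSC]
    exact pullback.condition

variable {S}

/-- `X₁` is the kernel of the projection from the pullback -/
noncomputable def isLimitPbι (hS : S.ShortExact) :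
    IsLimit (KernelFork.ofι (pbι S r) (pbι_snd S r)) := by
  have := hS.mono_f
  have hlift : ∀ {T : B} (g : T ⟶ pullback S.g r) (_ : g ≫ pullback.snd S.g r = 0),
      (g ≫ pullback.fst S.g r) ≫ S.g = 0 := by
    intro T g hg
    rw [Category.assoc, pullback.condition, reassoc_of% hg, zero_comp]
  refine KernelFork.IsLimit.ofι _ _
    (fun {T} g hg => hS.exact.lift (g ≫ pullback.fst S.g r) (hlift g hg)) ?_ ?_
  · intro T g hg
    apply pullback.hom_ext
    · rw [Category.assoc, pbι_fst]
      exact hS.exact.lift_f _ _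
    · rw [Category.assoc, pbι_snd, comp_zero]
      exact hg.symm
  · intro T g hg m hm
    rw [← cancel_mono S.f, hS.exact.lift_f, ← hm, Category.assoc, pbι_fst]

lemma pbSC_shortExact (hS : S.ShortExact) : (pbSC S r).ShortExact := by
  have := hS.mono_f
  have := hS.epi_g
  have hmono : Mono (pbι S r) := mono_of_mono_fac (pbι_fst S r)
  refine ShortComplex.ShortExact.mk' ?_ hmono ?_
  · exact ShortComplex.exact_of_f_is_kernel _ (isLimitPbι r hS)
  · exact Abelian.epi_pullback_of_epi_f S.g r

end Pullback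

section Complexes

variable {S : ShortComplex (CochainComplex A ℤ)} (hS : S.ShortExact) {M : CochainComplex A ℤ}
  (r : M ⟶ S.X₃)

include hS in
lemma quasiIso_pullback_fst (hr : QuasiIso r) : QuasiIso (pullback.fst S.g r) :=
  quasiIso_τ₂ (pbSCHom S r) (pbSC_shortExact r hS) hS
    (show QuasiIso (𝟙 S.X₁) from inferInstance) (show QuasiIso r from hr)

lemma epi_pullback_fst_f (hr : ∀ n, Epi (r.f n)) (n : ℤ) :
    Epi ((pullback.fst S.g r).f n) := by
  have : Epi r := HomologicalComplex.epi_of_epi_f _ hr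
  have : Epi (pullback.fst S.g r) := Abelian.epi_pullback_of_epi_g S.g r
  infer_instance

include hS in
/-- in a short exact sequence of complexes with acyclic kernel the epimorphism is a
quasi-isomorphism -/
lemma quasiIso_g_of_acyclic (h : S.X₁.Acyclic) : QuasiIso S.g := by
  let S₂ : ShortComplex (CochainComplex A ℤ) :=
    ShortComplex.mk (0 : (0 : CochainComplex A ℤ) ⟶ S.X₃) (𝟙 S.X₃) (by simp)
  have hS₂ : S₂.ShortExact := by
    refine ShortComplex.Splitting.shortExact
      { r := 0
        s := 𝟙 _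
        f_r := (isZero_zero (CochainComplex A ℤ)).eq_of_src _ _
        s_g := by simp [S₂]
        id := by simp [S₂] }
  let φ : S ⟶ S₂ :=
    { τ₁ := 0
      τ₂ := S.g
      τ₃ := 𝟙 _
      comm₁₂ := by simp [S₂]
      comm₂₃ := by simp [S₂] }
  have h1 : QuasiIso φ.τ₁ := by
    rw [quasiIso_iff]
    intro i
    rw [quasiIsoAt_iff_exactAt _ _ (h i)]
    exact ShortComplex.exact_of_isZero_X₂ _
      ((HomologicalComplex.eval A (ComplexShape.up ℤ) i).map_isZero
        (Limits.isZero_zero (CochainComplex A ℤ)))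
  have h3 : QuasiIso φ.τ₃ := by dsimp [φ]; infer_instance
  exact quasiIso_τ₂ φ hS hS₂ h1 h3

end Complexes

section Factor

open CochainComplex

variable (K L : CochainComplex A ℤ)

/-- the target of the mono part of the factorization: `L ⊞ Cone(𝟙 K)` -/
noncomputable abbrev cylT : CochainComplex A ℤ := L ⊞ mappingCone (𝟙 K)

/-- the quasi-isomorphism part of the factorization -/
noncomputable def cylπ : cylT K L ⟶ L := biprod.fst

variable {K L} (β : K ⟶ L)

/-- the mono part of the factorization -/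
noncomputable def cylι : K ⟶ cylT K L := biprod.lift β (mappingCone.inr (𝟙 K))

@[reassoc (attr := simp)]
lemma cylι_π : cylι β ≫ cylπ K L = β := by simp [cylι, cylπ]

instance : Mono (cylι β) := by
  have h : cylι β ≫ biprod.snd = mappingCone.inr (𝟙 K) := by simp [cylι]
  have : Mono (mappingCone.inr (𝟙 K)) := by
    apply HomologicalComplex.mono_of_mono_f
    intro n
    exact mono_of_mono_fac (mappingCone.inr_f_snd_v (𝟙 K) n)
  exact mono_of_mono_fac h

variable (K L)

instance : QuasiIso (cylπ K L) := by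
  let S : ShortComplex (CochainComplex A ℤ) :=
    ShortComplex.mk (biprod.inr : mappingCone (𝟙 K) ⟶ cylT K L) (cylπ K L) (by simp [cylπ])
  have hS : S.ShortExact := by
    refine ShortComplex.Splitting.shortExact
      { r := biprod.snd
        s := biprod.inl
        f_r := by simp [S]
        s_g := by simp [S, cylπ]
        id := by
          dsimp [S, cylπ]
          rw [add_comm]
          exact biprod.total }
  exact quasiIso_g_of_acyclic hS
    ((Groth.Agent.Lib.ConeQuasiIso.quasiIso_iff_acyclic_mappingCone (𝟙 K)).1 inferInstance)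

instance (n : ℤ) : Epi ((cylπ K L).f n) := by
  have : IsSplitEpi (cylπ K L) := ⟨⟨biprod.inl, by simp [cylπ]⟩⟩
  infer_instance

end Factor

section Bounds

open CochainComplex

lemma isStrictlyLE_biprod (K L : CochainComplex A ℤ) (b : ℤ) [K.IsStrictlyLE b]
    [L.IsStrictlyLE b] : (K ⊞ L).IsStrictlyLE b := by
  rw [isStrictlyLE_iff]
  intro i hi
  rw [IsZero.iff_id_eq_zero]
  have h : 𝟙 (K ⊞ L) = biprod.fst ≫ biprod.inl + biprod.snd ≫ biprod.inr := biprod.total.symm
  have h' := congrArg (fun φ => φ.f i) h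
  simp only [HomologicalComplex.id_f, HomologicalComplex.add_f_apply,
    HomologicalComplex.comp_f] at h'
  rw [h', (K.isZero_of_isStrictlyLE b i hi).eq_of_tgt ((biprod.fst : K ⊞ L ⟶ K).f i) 0,
    (L.isZero_of_isStrictlyLE b i hi).eq_of_tgt ((biprod.snd : K ⊞ L ⟶ L).f i) 0]
  simp

lemma isStrictlyLE_mappingCone {K L : CochainComplex A ℤ} (φ : K ⟶ L) (b : ℤ)
    [K.IsStrictlyLE (b + 1)] [L.IsStrictlyLE b] : (mappingCone φ).IsStrictlyLE b := by
  rw [isStrictlyLE_iff]
  intro i hi
  rw [IsZero.iff_id_eq_zero, ← mappingCone.id_X φ i (i + 1) rfl,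
    (K.isZero_of_isStrictlyLE (b + 1) (i + 1) (by omega)).eq_of_tgt
      ((mappingCone.fst φ).1.v i (i + 1) rfl) 0,
    (L.isZero_of_isStrictlyLE b i hi).eq_of_tgt ((mappingCone.snd φ).v i i (add_zero i)) 0]
  simp

lemma isStrictlyLE_of_epi {K L : CochainComplex A ℤ} (π : K ⟶ L) [Epi π] (b : ℤ)
    [K.IsStrictlyLE b] : L.IsStrictlyLE b := by
  rw [isStrictlyLE_iff]
  intro i hi
  rw [IsZero.iff_id_eq_zero, ← cancel_epi (π.f i)]
  exact (K.isZero_of_isStrictlyLE b i hi).eq_of_src _ _

lemma isStrictlyLE_of_shortExact {S : ShortComplex (CochainComplex A ℤ)} (hS : S.ShortExact)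
    (b : ℤ) [S.X₁.IsStrictlyLE b] [S.X₃.IsStrictlyLE b] : S.X₂.IsStrictlyLE b := by
  rw [isStrictlyLE_iff]
  intro i hi
  have h := (hS.map_of_exact (HomologicalComplex.eval A (ComplexShape.up ℤ) i)).exact
  exact h.isZero_X₂ ((S.X₁.isZero_of_isStrictlyLE b i hi).eq_of_src _ _)
    ((S.X₃.isZero_of_isStrictlyLE b i hi).eq_of_tgt _ _)

instance (K L : CochainComplex A ℤ) (b : ℤ) [K.IsStrictlyLE b] [L.IsStrictlyLE b] :
    (cylT K L).IsStrictlyLE b := by
  have : K.IsStrictlyLE (b + 1) := K.isStrictlyLE_of_le b (b + 1) (by omega)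
  have := isStrictlyLE_mappingCone (𝟙 K) b
  exact isStrictlyLE_biprod _ _ b

end Bounds

section RelFactor

variable {K L : CochainComplex A ℤ} (β : K ⟶ L)

/-- the cokernel of `K ⟶ L ⊞ Cone(𝟙 K)` -/
noncomputable abbrev relW : CochainComplex A ℤ := cokernel (cylι β)

/-- the short exact sequence `K ⟶ L ⊞ Cone(𝟙 K) ⟶ relW β` -/
noncomputable abbrev relSC : ShortComplex (CochainComplex A ℤ) :=
  ShortComplex.mk (cylι β) (cokernel.π (cylι β)) (cokernel.condition _)

lemma relSC_shortExact : (relSC β).ShortExact :=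
  ShortComplex.ShortExact.mk' (ShortComplex.exact_of_g_is_cokernel _ (cokernelIsCokernel _))
    (inferInstanceAs (Mono (cylι β))) (inferInstanceAs (Epi (cokernel.π (cylι β))))

instance (b : ℤ) [K.IsStrictlyLE b] [L.IsStrictlyLE b] : (relW β).IsStrictlyLE b :=
  isStrictlyLE_of_epi (cokernel.π (cylι β)) b

variable {M : CochainComplex A ℤ} (r : M ⟶ relW β)

/-- the relative resolution -/
noncomputable abbrev relN : CochainComplex A ℤ := pullback (relSC β).g r

/-- inclusion `K ⟶ relN` -/
noncomputable def relι : K ⟶ relN β r := pbι (relSC β) r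

/-- projection `relN ⟶ M` -/
noncomputable def relp : relN β r ⟶ M := pullback.snd (relSC β).g r

/-- the map `relN ⟶ L` -/
noncomputable def relπ : relN β r ⟶ L := pullback.fst (relSC β).g r ≫ cylπ K L

@[reassoc (attr := simp)]
lemma relι_π : relι β r ≫ relπ β r = β := by
  dsimp only [relι, relπ]
  rw [pbι_fst_assoc]
  exact cylι_π β

@[reassoc (attr := simp)]
lemma relι_p : relι β r ≫ relp β r = 0 := pbι_snd _ _

lemma rel_shortExact : (ShortComplex.mk (relι β r) (relp β r) (relι_p β r)).ShortExact :=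
  pbSC_shortExact (S := relSC β) r (relSC_shortExact β)

lemma quasiIso_relπ (hr : QuasiIso r) : QuasiIso (relπ β r) := by
  have := quasiIso_pullback_fst (relSC_shortExact β) r hr
  exact quasiIso_comp _ _

lemma epi_relπ_f (hr : ∀ n, Epi (r.f n)) (n : ℤ) : Epi ((relπ β r).f n) := by
  have := epi_pullback_fst_f (S := relSC β) r hr n
  dsimp only [relπ]
  rw [HomologicalComplex.comp_f]
  exact epi_comp _ _

lemma isStrictlyLE_relN (b : ℤ) [K.IsStrictlyLE b] [M.IsStrictlyLE b] :
    (relN β r).IsStrictlyLE b :=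
  isStrictlyLE_of_shortExact (rel_shortExact β r) b

end RelFactor

end Groth.Agent.Lib.RelResolution66
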