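import Mathlib.Algebra.Homology.HomotopyCategory.ShortExact
import Mathlib.Algebra.Homology.HomotopyCategory.DegreewiseSplit
import Mathlib.Algebra.Homology.HomotopyCategory.ShiftSequence
import Mathlib.Algebra.Homology.HomologicalComplexAbelian
import Mathlib.Algebra.Homology.Augment
import Groth.Agent.Lib.ConeQuasiIso
import Groth.Agent.Lib.RelResolution66

/-!
# Unbounded right resolutions by a class of objects of finite dimension (helper11)

`exists_resolution`: `P` a class of objects of an abelian category such that every object embeds in a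
member of `P`, `P` is closed under extensions/cokernels of monos from `P` (two-out-of-three with
`X₁ ∈ P`), and there is `n ≥ 1` such that the `n`-th cosyzygy of any partial `P`-resolution lies in
`P`: every (unbounded) cochain complex admits a quasi-isomorphism to a complex with terms in `P`.

Method: `exists_embedding` (termwise mono into the acyclic complex `cone(𝟙 Z)`, `Z` with zero
differential), `hasRes_X₃` (quotient lemma through `L ⊞ E`), `hasRes_of_cokernel`
(`cone(j) ⟶ coker j` quasi-iso, rotated short exact sequence, shift), `Dim`/`dim_X₃` (dimension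
drops for cosyzygies, via `CochainComplex.augment`).
-/

set_option autoImplicit false
universe v u
open CategoryTheory Limits HomologicalComplex
open scoped ZeroObject

namespace Groth.Agent.Lib.UnbddClassRes11

variable {A : Type u} [Category.{v} A] [Abelian A] (P : ObjectProperty A)

section Closure

variable (h1 : ∀ X : A, ∃ (Y : A) (i : X ⟶ Y), P Y ∧ Mono i)
  (h2 : ∀ S : ShortComplex A, S.ShortExact → P S.X₁ → (P S.X₂ ↔ P S.X₃))

include h1 h2 in
lemma prop_of_isZero {Z : A} (hZ : IsZero Z) : P Z := by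
  obtain ⟨Y, i, hY, _⟩ := h1 Z
  let S : ShortComplex A := ShortComplex.mk (𝟙 Y) (0 : Y ⟶ Z) (by simp)
  have hS : S.ShortExact := ShortComplex.Splitting.shortExact
    { r := 𝟙 Y
      s := 0
      f_r := by simp [S]
      s_g := hZ.eq_of_src _ _
      id := by simp [S] }
  exact (h2 S hS hY).1 hY

include h1 h2 in
lemma prop_of_iso' {X Y : A} (e : X ≅ Y) (hX : P X) : P Y := by
  let S : ShortComplex A := ShortComplex.mk (0 : (0 : A) ⟶ X) e.hom (by simp)
  have hS : S.ShortExact := ShortComplex.Splitting.shortExact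
    { r := 0
      s := e.inv
      f_r := (Limits.isZero_zero A).eq_of_src _ _
      s_g := by simp [S]
      id := by simp [S] }
  exact (h2 S hS (prop_of_isZero P h1 h2 (Limits.isZero_zero A))).1 hX

include h2 in
lemma prop_biprod {X Y : A} (hX : P X) (hY : P Y) : P (X ⊞ Y) := by
  let S : ShortComplex A := ShortComplex.mk (biprod.inl : X ⟶ X ⊞ Y) biprod.snd (by simp)
  have hS : S.ShortExact := ShortComplex.Splitting.shortExact
    { r := biprod.fst
      s := biprod.inr
      f_r := by simp [S]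
      s_g := by simp [S]
      id := by simp [S] }
  exact (h2 S hS hX).2 hY

end Closure

section Embedding

open CochainComplex HomComplex

/-- the complex with given terms and zero differential -/
def zeroD (Q : ℤ → A) : CochainComplex A ℤ where
  X := Q
  d _ _ := 0
  shape _ _ _ := rfl
  d_comp_d' _ _ _ _ _ := by simp

variable (h1 : ∀ X : A, ∃ (Y : A) (i : X ⟶ Y), P Y ∧ Mono i)
  (h2 : ∀ S : ShortComplex A, S.ShortExact → P S.X₁ → (P S.X₂ ↔ P S.X₃))

include h1 h2 in
/-- every complex embeds termwise into an acyclic complex with terms in `P` -/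
lemma exists_embedding (X : CochainComplex A ℤ) :
    ∃ (G : CochainComplex A ℤ) (j : X ⟶ G), (∀ m, Mono (j.f m)) ∧ G.Acyclic ∧ ∀ m, P (G.X m) := by
  choose Q ι hQ hι using fun m => h1 (X.X m)
  let Z := zeroD Q
  let β : Cochain X Z 0 := Cochain.ofHoms (fun m => ι m)
  let α : Cocycle X Z 1 := Cocycle.mk (-δ 0 1 β) 2 rfl (by simp [δ_δ])
  let j : X ⟶ mappingCone (𝟙 Z) := mappingCone.lift (𝟙 Z) α β (by simp [α])
  refine ⟨mappingCone (𝟙 Z), j, fun m => ?_, ?_, fun m => ?_⟩
  · have h : j.f m ≫ (mappingCone.snd (𝟙 Z)).v m m (add_zero m) = ι m := by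
      rw [mappingCone.lift_f_snd_v]
      exact Cochain.ofHoms_v _ _
    have : Mono (j.f m ≫ (mappingCone.snd (𝟙 Z)).v m m (add_zero m)) := by rw [h]; exact hι m
    exact mono_of_mono _ ((mappingCone.snd (𝟙 Z)).v m m (add_zero m))
  · exact (Groth.Agent.Lib.ConeQuasiIso.quasiIso_iff_acyclic_mappingCone (𝟙 Z)).1 inferInstance
  · exact prop_of_iso' P h1 h2 (homotopyCofiber.XIsoBiprod (𝟙 Z) m (m + 1) rfl).symm
      (prop_biprod P h2 (hQ (m + 1)) (hQ m))

end Embedding

section Quotient

variable (h1 : ∀ X : A, ∃ (Y : A) (i : X ⟶ Y), P Y ∧ Mono i)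
  (h2 : ∀ S : ShortComplex A, S.ShortExact → P S.X₁ → (P S.X₂ ↔ P S.X₃))

/-- `X` admits a quasi-isomorphism to a complex with terms in `P` -/
def HasRes (X : CochainComplex A ℤ) : Prop :=
  ∃ (I : CochainComplex A ℤ) (f : X ⟶ I), QuasiIso f ∧ ∀ k : ℤ, P (I.X k)

variable {P} in
lemma HasRes.of_iso {X Y : CochainComplex A ℤ} (e : X ≅ Y) (h : HasRes P X) : HasRes P Y := by
  obtain ⟨I, f, hf, hI⟩ := h
  exact ⟨I, e.inv ≫ f, inferInstance, hI⟩

variable {P} in
lemma HasRes.of_quasiIso {X Y : CochainComplex A ℤ} (g : X ⟶ Y) [QuasiIso g] (h : HasRes P Y) :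
    HasRes P X := by
  obtain ⟨I, f, hf, hI⟩ := h
  exact ⟨I, g ≫ f, inferInstance, hI⟩

include h1 h2 in
/-- the quotient of a complex with a `P`-resolution by a subcomplex with terms in `P` has a
`P`-resolution -/
lemma hasRes_X₃ (S : ShortComplex (CochainComplex A ℤ)) (hS : S.ShortExact)
    (hG : ∀ m, P (S.X₁.X m)) (hW : HasRes P S.X₂) : HasRes P S.X₃ := by
  obtain ⟨L, a, ha, hL⟩ := hW
  obtain ⟨E, e, he, hE, hEP⟩ := exists_embedding P h1 h2 S.X₂
  let b : S.X₂ ⟶ L ⊞ E := biprod.lift a e
  -- `b` is a quasi-isomorphism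
  have hfst : QuasiIso (biprod.fst : L ⊞ E ⟶ L) := by
    let T : ShortComplex (CochainComplex A ℤ) :=
      ShortComplex.mk (biprod.inr : E ⟶ L ⊞ E) (biprod.fst : L ⊞ E ⟶ L) (by simp)
    have hT : T.ShortExact := ShortComplex.Splitting.shortExact
      { r := biprod.snd
        s := biprod.inl
        f_r := by simp [T]
        s_g := by simp [T]
        id := by
          dsimp [T]
          rw [add_comm]
          exact biprod.total }
    exact Groth.Agent.Lib.RelResolution66.quasiIso_g_of_acyclic hT hE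
  have hb : QuasiIso b := by
    have : QuasiIso (b ≫ (biprod.fst : L ⊞ E ⟶ L)) := by
      have e1 : b ≫ (biprod.fst : L ⊞ E ⟶ L) = a := biprod.lift_fst _ _
      rw [e1]; exact ha
    exact quasiIso_of_comp_right b (biprod.fst : L ⊞ E ⟶ L)
  -- `b` is termwise mono
  have hbm : ∀ m, Mono (b.f m) := by
    intro m
    have e1 : b.f m ≫ (biprod.snd : L ⊞ E ⟶ E).f m = e.f m := by
      rw [← HomologicalComplex.comp_f, biprod.lift_snd]
    have : Mono (b.f m ≫ (biprod.snd : L ⊞ E ⟶ E).f m) := by rw [e1]; exact he m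
    exact mono_of_mono _ ((biprod.snd : L ⊞ E ⟶ E).f m)
  have : Mono b := HomologicalComplex.mono_of_mono_f _ hbm
  have : Mono S.f := hS.mono_f
  let S' : ShortComplex (CochainComplex A ℤ) :=
    ShortComplex.mk (S.f ≫ b) (cokernel.π (S.f ≫ b)) (cokernel.condition _)
  have hS' : S'.ShortExact :=
    { exact := ShortComplex.exact_cokernel _
      mono_f := by dsimp [S']; infer_instance
      epi_g := by dsimp [S']; infer_instance }
  have := hS.epi_g
  let c : S.X₃ ⟶ cokernel (S.f ≫ b) := hS.exact.desc (b ≫ cokernel.π (S.f ≫ b)) (by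
    rw [← Category.assoc]; exact cokernel.condition _)
  let φ : S ⟶ S' :=
    { τ₁ := 𝟙 _
      τ₂ := b
      τ₃ := c
      comm₁₂ := by simp [S']
      comm₂₃ := by
        dsimp [S', c]
        rw [hS.exact.g_desc] }
  have hc : QuasiIso c :=
    HomologicalComplex.HomologySequence.quasiIso_τ₃ φ hS hS' (by dsimp [φ]; infer_instance) hb
  refine ⟨cokernel (S.f ≫ b), c, hc, fun m => ?_⟩
  have hm := hS'.map_of_exact (HomologicalComplex.eval A (ComplexShape.up ℤ) m)
  refine (h2 _ hm (hG m)).1 ?_
  exact prop_of_iso' P h1 h2 ((HomologicalComplex.eval A (ComplexShape.up ℤ) m).mapBiprod L E).symm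
    (prop_biprod P h2 (hL m) (hEP m))

end Quotient

section Step

open CochainComplex

variable (h1 : ∀ X : A, ∃ (Y : A) (i : X ⟶ Y), P Y ∧ Mono i)
  (h2 : ∀ S : ShortComplex A, S.ShortExact → P S.X₁ → (P S.X₂ ↔ P S.X₃))

variable {P} in
lemma HasRes.of_shift {X : CochainComplex A ℤ} (h : HasRes P (X⟦(1 : ℤ)⟧)) : HasRes P X := by
  obtain ⟨I, f, hf, hI⟩ := h
  refine ⟨I⟦(-1 : ℤ)⟧, (shiftFunctorCompIsoId (CochainComplex A ℤ) (1 : ℤ) (-1) (by omega)).inv.app X ≫
    f⟦(-1 : ℤ)⟧', ?_, fun k => hI _⟩
  have : QuasiIso (f⟦(-1 : ℤ)⟧') := (quasiIso_shift_iff f (-1)).2 hf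
  infer_instance

include h1 h2 in
/-- if the cokernel of a termwise monomorphism `X ⟶ G` (with `G` having terms in `P`) has a
`P`-resolution, so does `X` -/
lemma hasRes_of_cokernel {X G : CochainComplex A ℤ} (j : X ⟶ G) (hj : ∀ m, Mono (j.f m))
    (hG : ∀ m, P (G.X m)) (hY : HasRes P (cokernel j)) : HasRes P X := by
  have : Mono j := HomologicalComplex.mono_of_mono_f _ hj
  let S₀ : ShortComplex (CochainComplex A ℤ) := ShortComplex.mk j (cokernel.π j) (cokernel.condition j)
  have hS₀ : S₀.ShortExact :=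
    { exact := ShortComplex.exact_cokernel _
      mono_f := by dsimp [S₀]; infer_instance
      epi_g := by dsimp [S₀]; infer_instance }
  have hq : QuasiIso (mappingCone.descShortComplex S₀) := mappingCone.quasiIso_descShortComplex hS₀
  have hW : HasRes P (mappingCone j) := HasRes.of_quasiIso (mappingCone.descShortComplex S₀) hY
  have hS : (mappingCone.triangleRotateShortComplex j).ShortExact :=
    HomologicalComplex.shortExact_of_degreewise_shortExact _
      (fun n => (mappingCone.triangleRotateShortComplexSplitting j n).shortExact)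
  exact HasRes.of_shift (hasRes_X₃ P h1 h2 (mappingCone.triangleRotateShortComplex j) hS hG hW)

end Step

section Dim

/-- `a : M ⟶ K.X 0` exhibits `K` as a right resolution of `M` of length `j` with terms in `P` in
degrees `< j`. -/
structure IsRes (j : ℕ) (K : CochainComplex A ℕ) {M : A} (a : M ⟶ K.X 0) : Prop where
  mono : Mono a
  w : a ≫ K.d 0 1 = 0
  exact₀ : (ShortComplex.mk a (K.d 0 1) w).Exact
  exact : ∀ i, 1 ≤ i → i ≤ j → K.ExactAt i
  zero : ∀ i, j < i → IsZero (K.X i)
  epi : 1 ≤ j → Epi (K.d (j - 1) j)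
  mem : ∀ i, i < j → P (K.X i)

/-- "`P`-dimension `≤ j`" -/
def Dim (j : ℕ) (M : A) : Prop :=
  ∀ (K : CochainComplex A ℕ) (a : M ⟶ K.X 0), IsRes P j K a → P (K.X j)

lemma dim_of_h3 (n : ℕ) (hn : 1 ≤ n)
    (h3 : ∀ K : CochainComplex A ℕ, (∀ i : ℕ, 1 ≤ i → i ≤ n → K.ExactAt i) →
      (∀ i : ℕ, n < i → IsZero (K.X i)) →
      Epi (K.d (n - 1) n) → (∀ i : ℕ, i < n → P (K.X i)) → P (K.X n)) (M : A) : Dim P n M :=
  fun K _ hK => h3 K hK.exact hK.zero (hK.epi hn) hK.mem

variable (h1 : ∀ X : A, ∃ (Y : A) (i : X ⟶ Y), P Y ∧ Mono i)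
  (h2 : ∀ S : ShortComplex A, S.ShortExact → P S.X₁ → (P S.X₂ ↔ P S.X₃))

lemma prop_of_dim_zero {M : A} (h : Dim P 0 M) : P M := by
  refine h ((CochainComplex.single₀ A).obj M) (𝟙 M) ?_
  have hd : ((CochainComplex.single₀ A).obj M).d 0 1 = 0 := by simp
  exact
    { mono := (inferInstance : Mono (𝟙 M))
      w := by rw [hd, comp_zero]
      exact₀ := by
        rw [ShortComplex.exact_iff_epi _ hd]
        dsimp
        infer_instance
      exact := fun i hi hi' => by omega
      zero := fun i hi => by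
        obtain ⟨i, rfl⟩ : ∃ k, i = k + 1 := ⟨i - 1, by omega⟩
        exact isZero_single_obj_X (ComplexShape.up ℕ) 0 M (i + 1) (by omega)
      epi := fun h => by omega
      mem := fun i hi => by omega }

lemma dim_X₃ {j : ℕ} (S : ShortComplex A) (hS : S.ShortExact) (h : Dim P (j + 1) S.X₁)
    (hX₂ : P S.X₂) : Dim P j S.X₃ := by
  intro K y hK
  have := hK.mono
  have := hS.mono_f
  have := hS.epi_g
  have w' : (S.g ≫ y) ≫ K.d 0 1 = 0 := by rw [Category.assoc, hK.w, comp_zero]
  let K' := K.augment (S.g ≫ y) w'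
  have hd01 : K'.d 0 1 = S.g ≫ y := rfl
  have hfg : S.f ≫ (S.g ≫ y) = 0 := by rw [← Category.assoc, S.zero, zero_comp]
  have hex0 : (ShortComplex.mk S.f (S.g ≫ y) hfg).Exact := by
    let φ : S ⟶ ShortComplex.mk S.f (S.g ≫ y) hfg :=
      { τ₁ := 𝟙 _
        τ₂ := 𝟙 _
        τ₃ := y
        comm₁₂ := by simp
        comm₂₃ := by simp }
    exact (ShortComplex.exact_iff_of_epi_of_isIso_of_mono φ).1 hS.exact
  have hex1 : (ShortComplex.mk (S.g ≫ y) (K.d 0 1) w').Exact := by
    let φ : ShortComplex.mk (S.g ≫ y) (K.d 0 1) w' ⟶ ShortComplex.mk y (K.d 0 1) hK.w :=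
      { τ₁ := S.g
        τ₂ := 𝟙 _
        τ₃ := 𝟙 _
        comm₁₂ := by simp
        comm₂₃ := by simp }
    exact (ShortComplex.exact_iff_of_epi_of_isIso_of_mono φ).2 hK.exact₀
  refine h K' S.f ?_
  exact
    { mono := hS.mono_f
      w := hfg
      exact₀ := hex0
      exact := fun i hi hi' => by
        obtain ⟨i, rfl⟩ : ∃ k, i = k + 1 := ⟨i - 1, by omega⟩
        rw [HomologicalComplex.exactAt_iff' K' i (i + 1) (i + 2) (by simp) (by simp)]
        rcases i with _ | i
        · exact hex1
        · have := hK.exact (i + 1) (by omega) (by omega)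
          rw [HomologicalComplex.exactAt_iff' K i (i + 1) (i + 2) (by simp) (by simp)] at this
          exact this
      zero := fun i hi => by
        obtain ⟨i, rfl⟩ : ∃ k, i = k + 1 := ⟨i - 1, by omega⟩
        exact hK.zero i (by omega)
      epi := fun _ => by
        rcases j with _ | j
        · have hz : K.d 0 1 = 0 := (hK.zero 1 (by omega)).eq_of_tgt _ _
          have hy : Epi y := by
            have := hK.exact₀
            rw [ShortComplex.exact_iff_epi _ hz] at this
            exact this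
          have : Epi (S.g ≫ y) := inferInstance
          exact this
        · have := hK.epi (by omega)
          exact this
      mem := fun i hi => by
        rcases i with _ | i
        · exact hX₂
        · exact hK.mem i (by omega) }

include h1 h2 in
theorem hasRes_of_dim (j : ℕ) :
    ∀ X : CochainComplex A ℤ, (∀ m, Dim P j (X.X m)) → HasRes P X := by
  induction j with
  | zero =>
    intro X hX
    exact ⟨X, 𝟙 X, inferInstance, fun k => prop_of_dim_zero P (hX k)⟩
  | succ j ih =>
    intro X hX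
    obtain ⟨G, emb, hemb, _, hGP⟩ := exists_embedding P h1 h2 X
    refine hasRes_of_cokernel P h1 h2 emb hemb hGP (ih _ (fun m => ?_))
    have : Mono emb := HomologicalComplex.mono_of_mono_f _ hemb
    let S₀ : ShortComplex (CochainComplex A ℤ) :=
      ShortComplex.mk emb (cokernel.π emb) (cokernel.condition emb)
    have hS₀ : S₀.ShortExact :=
      { exact := ShortComplex.exact_cokernel _
        mono_f := by dsimp [S₀]; infer_instance
        epi_g := by dsimp [S₀]; infer_instance }
    have hm := hS₀.map_of_exact (HomologicalComplex.eval A (ComplexShape.up ℤ) m)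
    exact dim_X₃ P _ hm (hX m) (hGP m)

include h1 h2 in
/-- **Unbounded right resolutions** by a class of objects of finite "dimension". -/
theorem exists_resolution (n : ℕ) (hn : 1 ≤ n)
    (h3 : ∀ K : CochainComplex A ℕ, (∀ i : ℕ, 1 ≤ i → i ≤ n → K.ExactAt i) →
      (∀ i : ℕ, n < i → IsZero (K.X i)) →
      Epi (K.d (n - 1) n) → (∀ i : ℕ, i < n → P (K.X i)) → P (K.X n))
    (X : CochainComplex A ℤ) :
    ∃ (I : CochainComplex A ℤ) (f : X ⟶ I), QuasiIso f ∧ ∀ k : ℤ, P (I.X k) :=
  hasRes_of_dim P h1 h2 n X (fun _ => dim_of_h3 P n hn h3 _)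

end Dim

end Groth.Agent.Lib.UnbddClassRes11
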