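import Groth.Agent.Lib.RDLES31
import Groth.Agent.Lib.UnbddClassRes11

/-!
# `F`-acyclic objects for a functor of finite cohomological dimension (helper11)

`F : A ⥤ B` additive, `A` with injective resolutions. `Dm F j X` says `RⁱF X = 0` for `i > j`;
`Dm F 0` is the class of `F`-acyclic objects. If `RⁿF = 0` then every complex has a
quasi-isomorphism to a complex of `F`-acyclic objects (`exists_acyclic_resolution`), and if `F` is
left exact, `F` maps acyclic complexes of `F`-acyclics to acyclic complexes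
(`acyclic_map_of_acyclic`).
-/

set_option autoImplicit false

universe v v' u u'

open CategoryTheory Limits

namespace Groth.Agent.Lib.FAcyclic11

open Groth.Agent.Lib.UnbddClassRes11

variable {A : Type u} [Category.{v} A] [Abelian A] [HasInjectiveResolutions A]
  {B : Type u'} [Category.{v'} B] [Abelian B] (F : A ⥤ B) [F.Additive]

lemma enoughInjectives : EnoughInjectives A where
  presentation X :=
    ⟨{ J := (injectiveResolution X).cocomplex.X 0
       injective := inferInstance
       f := (injectiveResolution X).ι.f 0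
       mono := (inferInstance : Mono ((injectiveResolution X).ι.f 0)) }⟩

/-- `RⁱF X = 0` for all `i > j`. -/
def Dm (j : ℕ) : ObjectProperty A := fun X => ∀ i : ℕ, j < i → IsZero ((F.rightDerived i).obj X)

lemma dm_of_injective (X : A) [Injective X] (j : ℕ) : Dm F j X := by
  intro i hi
  obtain ⟨i, rfl⟩ : ∃ k, i = k + 1 := ⟨i - 1, by omega⟩
  exact F.isZero_rightDerived_obj_injective_succ i X

/-- exactness in the middle spots of the long exact sequence -/
lemma isZero_X₂ {S : ShortComplex A} (hS : S.ShortExact) (i : ℕ)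
    (h1 : IsZero ((F.rightDerived i).obj S.X₁)) (h3 : IsZero ((F.rightDerived i).obj S.X₃)) :
    IsZero ((F.rightDerived i).obj S.X₂) := by
  have := enoughInjectives (A := A)
  obtain ⟨δ, _, h⟩ := Groth.Agent.RDPlus31.rightDerived_les F hS
  obtain ⟨⟨w, hw⟩, _, _⟩ := h i
  exact hw.isZero_of_both_zeros (h1.eq_of_src _ _) (h3.eq_of_tgt _ _)

lemma isZero_X₃ {S : ShortComplex A} (hS : S.ShortExact) (i : ℕ)
    (h2 : IsZero ((F.rightDerived i).obj S.X₂)) (h1 : IsZero ((F.rightDerived (i + 1)).obj S.X₁)) :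
    IsZero ((F.rightDerived i).obj S.X₃) := by
  have := enoughInjectives (A := A)
  obtain ⟨δ, _, h⟩ := Groth.Agent.RDPlus31.rightDerived_les F hS
  obtain ⟨_, ⟨w, hw⟩, _⟩ := h i
  exact hw.isZero_of_both_zeros (h2.eq_of_src _ _) (h1.eq_of_tgt _ _)

lemma isZero_X₁_succ {S : ShortComplex A} (hS : S.ShortExact) (i : ℕ)
    (h3 : IsZero ((F.rightDerived i).obj S.X₃)) (h2 : IsZero ((F.rightDerived (i + 1)).obj S.X₂)) :
    IsZero ((F.rightDerived (i + 1)).obj S.X₁) := by
  have := enoughInjectives (A := A)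
  obtain ⟨δ, _, h⟩ := Groth.Agent.RDPlus31.rightDerived_les F hS
  obtain ⟨_, _, ⟨w, hw⟩⟩ := h i
  exact hw.isZero_of_both_zeros (h3.eq_of_src _ _) (h2.eq_of_tgt _ _)

lemma epi_rightDerived_zero_map_g {S : ShortComplex A} (hS : S.ShortExact)
    (h1 : IsZero ((F.rightDerived 1).obj S.X₁)) : Epi ((F.rightDerived 0).map S.g) := by
  have := enoughInjectives (A := A)
  obtain ⟨δ, _, h⟩ := Groth.Agent.RDPlus31.rightDerived_les F hS
  obtain ⟨_, ⟨w, hw⟩, _⟩ := h 0
  exact hw.epi_f (h1.eq_of_tgt _ _)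

lemma h1 (j : ℕ) : ∀ X : A, ∃ (Y : A) (i : X ⟶ Y), Dm F j Y ∧ Mono i := by
  intro X
  have := enoughInjectives (A := A)
  exact ⟨Injective.under X, Injective.ι X, dm_of_injective F _ j, inferInstance⟩

lemma h2 : ∀ S : ShortComplex A, S.ShortExact → Dm F 0 S.X₁ → (Dm F 0 S.X₂ ↔ Dm F 0 S.X₃) := by
  intro S hS hX₁
  constructor
  · intro hX₂ i hi
    exact isZero_X₃ F hS i (hX₂ i hi) (hX₁ (i + 1) (by omega))
  · intro hX₃ i hi
    exact isZero_X₂ F hS i (hX₁ i hi) (hX₃ i hi)

lemma dm_X₃ (j : ℕ) (S : ShortComplex A) (hS : S.ShortExact) (hX₁ : Dm F (j + 1) S.X₁)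
    (hX₂ : Dm F 0 S.X₂) : Dm F j S.X₃ := by
  intro i hi
  exact isZero_X₃ F hS i (hX₂ i (by omega)) (hX₁ (i + 1) (by omega))

/-- if `RⁿF = 0` then `RⁱF = 0` for all `i ≥ n` -/
lemma isZero_of_le (n : ℕ) (hn : ∀ X : A, IsZero ((F.rightDerived n).obj X)) (i : ℕ) (hi : n ≤ i)
    (X : A) : IsZero ((F.rightDerived i).obj X) := by
  obtain ⟨k, rfl⟩ : ∃ k, i = n + k := ⟨i - n, by omega⟩
  clear hi
  induction k generalizing X with
  | zero => exact hn X
  | succ k ih =>
    have := enoughInjectives (A := A)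
    let S : ShortComplex A := ShortComplex.mk (Injective.ι X) (cokernel.π (Injective.ι X))
      (cokernel.condition _)
    have hS : S.ShortExact :=
      { exact := ShortComplex.exact_cokernel _
        mono_f := by dsimp [S]; infer_instance
        epi_g := by dsimp [S]; infer_instance }
    exact isZero_X₁_succ F hS (n + k) (ih _)
      (F.isZero_rightDerived_obj_injective_succ (n + k) (Injective.under X))

lemma dm_of_le (n : ℕ) (hn : ∀ X : A, IsZero ((F.rightDerived n).obj X)) (X : A) : Dm F n X :=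
  fun i hi => isZero_of_le F n hn i (by omega) X

section Res

variable (P : ObjectProperty A)
  (h1 : ∀ X : A, ∃ (Y : A) (i : X ⟶ Y), P Y ∧ Mono i)
  (h2 : ∀ S : ShortComplex A, S.ShortExact → P S.X₁ → (P S.X₂ ↔ P S.X₃))

omit [HasInjectiveResolutions A] in
include h1 h2 in
/-- variant of `UnbddClassRes11.hasRes_of_dim` for an abstract "dimension" filtration -/
theorem hasRes_of_family (D : ℕ → ObjectProperty A) (hD0 : ∀ M, D 0 M → P M)
    (hDs : ∀ (j : ℕ) (S : ShortComplex A), S.ShortExact → D (j + 1) S.X₁ → P S.X₂ → D j S.X₃)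
    (j : ℕ) : ∀ X : CochainComplex A ℤ, (∀ m, D j (X.X m)) → HasRes P X := by
  induction j with
  | zero =>
    intro X hX
    exact ⟨X, 𝟙 X, inferInstance, fun k => hD0 _ (hX k)⟩
  | succ j ih =>
    intro X hX
    obtain ⟨G, emb, hemb, _, hGP⟩ := exists_embedding P h1 h2 X
    refine hasRes_of_cokernel P h1 h2 emb hemb hGP (ih _ (fun m => ?_))
    have : Mono emb := HomologicalComplex.mono_of_mono_f _ hemb
    let S₀ : ShortComplex (CochainComplex A ℤ) :=
      ShortComplex.mk emb (cokernel.π emb) (cokernel.condition emb)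
    have hS₀ : S₀.ShortExact :=
      { exact := ShortComplex.exact_cokernel _
        mono_f := by dsimp [S₀]; infer_instance
        epi_g := by dsimp [S₀]; infer_instance }
    have hm := hS₀.map_of_exact (HomologicalComplex.eval A (ComplexShape.up ℤ) m)
    exact hDs j _ hm (hX m) (hGP m)

end Res

/-- **Unbounded resolutions by `F`-acyclic objects** when `RⁿF = 0`. -/
theorem exists_acyclic_resolution (n : ℕ) (hn : ∀ X : A, IsZero ((F.rightDerived n).obj X))
    (X : CochainComplex A ℤ) :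
    ∃ (I : CochainComplex A ℤ) (f : X ⟶ I), QuasiIso f ∧ ∀ k : ℤ, Dm F 0 (I.X k) :=
  hasRes_of_family (Dm F 0) (h1 F 0) (h2 F) (Dm F) (fun _ h => h) (dm_X₃ F) n X
    (fun _ => dm_of_le F n hn _)

section Cycles

variable (K : CochainComplex A ℤ)

/-- the cycles of `K` in degree `j` -/
noncomputable abbrev Zc (j : ℤ) : A := kernel (K.d j (j + 1))

/-- the canonical map `Kʲ ⟶ Zʲ⁺¹` -/
noncomputable def toZc (j : ℤ) : K.X j ⟶ Zc K (j + 1) :=
  kernel.lift (K.d (j + 1) (j + 1 + 1)) (K.d j (j + 1)) (K.d_comp_d _ _ _)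

omit [HasInjectiveResolutions A] in
@[reassoc (attr := simp)]
lemma toZc_ι (j : ℤ) : toZc K j ≫ kernel.ι (K.d (j + 1) (j + 1 + 1)) = K.d j (j + 1) :=
  kernel.lift_ι _ _ _

/-- `0 ⟶ Zʲ ⟶ Kʲ ⟶ Zʲ⁺¹ ⟶ 0` -/
noncomputable def sesZ (j : ℤ) : ShortComplex A :=
  ShortComplex.mk (kernel.ι (K.d j (j + 1))) (toZc K j) (by
    rw [← cancel_mono (kernel.ι (K.d (j + 1) (j + 1 + 1))), Category.assoc, toZc_ι,
      kernel.condition, zero_comp])

omit [HasInjectiveResolutions A] in
lemma sesZ_shortExact (hK : K.Acyclic) (j : ℤ) : (sesZ K j).ShortExact := by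
  have hex : (sesZ K j).Exact := by
    let φ : sesZ K j ⟶ ShortComplex.mk (kernel.ι (K.d j (j + 1))) (K.d j (j + 1))
        (kernel.condition _) :=
      { τ₁ := 𝟙 _
        τ₂ := 𝟙 _
        τ₃ := kernel.ι (K.d (j + 1) (j + 1 + 1))
        comm₁₂ := by simp [sesZ]
        comm₂₃ := by simp [sesZ] }
    have : IsIso φ.τ₂ := (inferInstance : IsIso (𝟙 (K.X j)))
    have : Epi φ.τ₁ := (inferInstance : Epi (𝟙 (kernel (K.d j (j + 1)))))
    have : Mono φ.τ₃ := (inferInstance : Mono (kernel.ι (K.d (j + 1) (j + 1 + 1))))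
    exact (ShortComplex.exact_iff_of_epi_of_isIso_of_mono φ).2 (ShortComplex.exact_kernel _)
  have hepi : Epi (toZc K j) := by
    have := (K.exactAt_iff' j (j + 1) (j + 1 + 1) (by simp) (by simp)).1 (hK (j + 1))
    exact (ShortComplex.exact_iff_epi_kernel_lift _).1 this
  exact
    { exact := hex
      mono_f := by dsimp [sesZ]; infer_instance
      epi_g := hepi }

include F in
lemma dm_Zc (hK : K.Acyclic) (hKP : ∀ m, Dm F 0 (K.X m)) (n : ℕ)
    (hn : ∀ X : A, IsZero ((F.rightDerived n).obj X)) : ∀ m, Dm F 0 (Zc K m) := by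
  have step : ∀ j : ℕ, (∀ m, Dm F (j + 1) (Zc K m)) → ∀ m, Dm F j (Zc K m) := by
    intro j h m
    have := dm_X₃ F j (sesZ K (m - 1)) (sesZ_shortExact K hK (m - 1)) (h (m - 1)) (hKP (m - 1))
    dsimp [sesZ] at this
    rwa [sub_add_cancel] at this
  have key : ∀ k : ℕ, ∀ m, Dm F (n - k) (Zc K m) := by
    intro k
    induction k with
    | zero => exact fun m => dm_of_le F n hn _
    | succ k ih =>
      by_cases hk : n - k = 0
      · have : n - (k + 1) = 0 := by omega
        rw [this]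
        rw [hk] at ih
        exact ih
      · have e : n - k = (n - (k + 1)) + 1 := by omega
        rw [e] at ih
        exact step _ ih
  intro m
  have := key n m
  rwa [Nat.sub_self] at this

variable [PreservesFiniteLimits F]

/-- a left exact functor with `RⁿF = 0` maps acyclic complexes of `F`-acyclic objects to acyclic
complexes -/
theorem acyclic_map_of_acyclic (hK : K.Acyclic) (hKP : ∀ m, Dm F 0 (K.X m)) (n : ℕ)
    (hn : ∀ X : A, IsZero ((F.rightDerived n).obj X)) :
    ((F.mapHomologicalComplex (ComplexShape.up ℤ)).obj K).Acyclic := by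
  have hZ := dm_Zc F K hK hKP n hn
  have key : ∀ j : ℤ, ((F.mapHomologicalComplex (ComplexShape.up ℤ)).obj K).ExactAt (j + 1) := by
    intro j
    rw [HomologicalComplex.exactAt_iff' _ j (j + 1) (j + 1 + 1) (by simp) (by simp)]
    -- `F (toZc K j)` is an epimorphism
    have hepi : Epi (F.map (toZc K j)) := by
      have h0 := epi_rightDerived_zero_map_g F (sesZ_shortExact K hK j) (hZ j 1 (by omega))
      have e := F.rightDerivedZeroIsoSelf.hom.naturality (toZc K j)
      have : Epi ((F.rightDerived 0).map (toZc K j) ≫ F.rightDerivedZeroIsoSelf.hom.app _) := by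
        have : Epi ((F.rightDerived 0).map (toZc K j)) := h0
        infer_instance
      rw [e] at this
      exact epi_of_epi (F.rightDerivedZeroIsoSelf.hom.app _) _
    -- `F` preserves the kernel
    let S₀ : ShortComplex A := ShortComplex.mk (kernel.ι (K.d (j + 1) (j + 1 + 1)))
      (K.d (j + 1) (j + 1 + 1)) (kernel.condition _)
    have hS₀ : (S₀.map F).Exact :=
      (ShortComplex.exact_kernel _).map_of_mono_of_preservesKernel F
        (by dsimp [S₀]; infer_instance) inferInstance
    let φ : ((F.mapHomologicalComplex (ComplexShape.up ℤ)).obj K).sc' j (j + 1) (j + 1 + 1) ⟶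
        S₀.map F :=
      { τ₁ := F.map (toZc K j)
        τ₂ := 𝟙 _
        τ₃ := 𝟙 _
        comm₁₂ := by
          show F.map (toZc K j) ≫ F.map (kernel.ι (K.d (j + 1) (j + 1 + 1))) =
            F.map (K.d j (j + 1)) ≫ 𝟙 _
          rw [Category.comp_id, ← F.map_comp, toZc_ι]
        comm₂₃ := by
          show 𝟙 _ ≫ F.map (K.d (j + 1) (j + 1 + 1)) = F.map (K.d (j + 1) (j + 1 + 1)) ≫ 𝟙 _
          rw [Category.comp_id, Category.id_comp] }
    have : Epi φ.τ₁ := hepi
    have : IsIso φ.τ₂ := (inferInstance : IsIso (𝟙 (F.obj (K.X (j + 1)))))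
    have : Mono φ.τ₃ := (inferInstance : Mono (𝟙 (F.obj (K.X (j + 1 + 1)))))
    exact (ShortComplex.exact_iff_of_epi_of_isIso_of_mono φ).2 hS₀
  intro m
  have := key (m - 1)
  rwa [sub_add_cancel] at this

end Cycles

end Groth.Agent.Lib.FAcyclic11
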