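import Groth.Agent.Lib.AcyclicDerive11
import Groth.Agent.Lib.FAcyclic11

/-!
# The unbounded right derived functor of a left exact functor of finite cohomological dimension
(helper11)

`F : A ⥤ B` additive left exact, `A` with injective resolutions, `RⁿF = 0`. Then
`K(A) ⥤ K(B) ⥤ D(B)` has a (pointwise) right derived functor with respect to quasi-isomorphisms,
and the unit is an isomorphism on complexes of `F`-acyclic objects.
-/

set_option autoImplicit false

universe w w' v v' u u'

open CategoryTheory Limits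

namespace Groth.Agent.Lib.FAcyclicDerive11

open Groth.Agent.Lib.TermwiseTri11 Groth.Agent.Lib.FAcyclic11 Groth.Agent.Lib.UnbddClassRes11

variable {A : Type u} [Category.{v} A] [Abelian A] [HasInjectiveResolutions A]
  {B : Type u'} [Category.{v'} B] [Abelian B] [HasDerivedCategory.{w'} B]
  (F : A ⥤ B) [F.Additive]

lemma isClosedUnderIsomorphisms : (Dm F 0).IsClosedUnderIsomorphisms :=
  ⟨fun e h => prop_of_iso' (Dm F 0) (h1 F 0) (h2 F) e h⟩

lemma isTriangulated : (termwise (Dm F 0)).IsTriangulated :=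
  have := isClosedUnderIsomorphisms F
  TermwiseTri11.isTriangulated (Dm F 0)
    (fun _ hZ => prop_of_isZero (Dm F 0) (h1 F 0) (h2 F) hZ)
    (fun _ _ hX hY => prop_biprod (Dm F 0) (h2 F) hX hY)

omit [HasInjectiveResolutions A] [F.Additive] in
lemma isZero_Q_obj_of_acyclic (L : CochainComplex B ℤ) (hL : L.Acyclic) :
    IsZero (DerivedCategory.Q.obj L) := by
  have h : QuasiIso (0 : L ⟶ L) := by
    rw [quasiIso_iff]
    intro i
    rw [quasiIsoAt_iff_exactAt _ _ (hL i)]
    exact hL i
  have : IsIso (DerivedCategory.Q.map (0 : L ⟶ L)) := by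
    rw [DerivedCategory.isIso_Q_map_iff_quasiIso]; exact h
  rw [IsZero.iff_id_eq_zero]
  have h0 : DerivedCategory.Q.map (0 : L ⟶ L) = 0 := Functor.map_zero _ _ _
  rw [← cancel_mono (DerivedCategory.Q.map (0 : L ⟶ L)), h0, comp_zero, comp_zero]

variable [PreservesFiniteLimits F] (n : ℕ) (hn : ∀ X : A, IsZero ((F.rightDerived n).obj X))

include hn in
lemma isZero_obj (K : CochainComplex A ℤ) (hKP : ∀ m, Dm F 0 (K.X m)) (hK : K.Acyclic) :
    IsZero ((F.mapHomotopyCategory (ComplexShape.up ℤ) ⋙ DerivedCategory.Qh).obj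
      ((HomotopyCategory.quotient _ _).obj K)) :=
  isZero_Q_obj_of_acyclic _ (acyclic_map_of_acyclic F K hK hKP n hn)

include hn in
theorem hasPointwiseRightDerivedFunctor :
    (F.mapHomotopyCategory (ComplexShape.up ℤ) ⋙
      DerivedCategory.Qh).HasPointwiseRightDerivedFunctor
      (HomotopyCategory.quasiIso A (ComplexShape.up ℤ)) := by
  have := isTriangulated F
  exact AcyclicDerive11.hasPointwiseRightDerivedFunctor (Dm F 0)
    (exists_acyclic_resolution F n hn) _ (isZero_obj F n hn)

include hn in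
theorem isIso_unit_app {D : Type*} [Category* D]
    (L : HomotopyCategory A (ComplexShape.up ℤ) ⥤ D)
    [L.IsLocalization (HomotopyCategory.quasiIso A (ComplexShape.up ℤ))]
    (RG : D ⥤ DerivedCategory B)
    (α : F.mapHomotopyCategory (ComplexShape.up ℤ) ⋙ DerivedCategory.Qh ⟶ L ⋙ RG)
    [RG.IsRightDerivedFunctor α (HomotopyCategory.quasiIso A (ComplexShape.up ℤ))]
    (K : CochainComplex A ℤ)
    (hK : ∀ (m : ℤ) (i : ℕ), 0 < i → IsZero ((F.rightDerived i).obj (K.X m))) :
    IsIso (α.app ((HomotopyCategory.quotient _ _).obj K)) := by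
  have := isTriangulated F
  exact AcyclicDerive11.isIso_unit_app (Dm F 0)
    (exists_acyclic_resolution F n hn) _ (isZero_obj F n hn) L RG α K hK

end Groth.Agent.Lib.FAcyclicDerive11
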