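import Groth.Agent.Lib.LocFreeFP
import Groth.Agent.Lib.QCohFlat
import Groth.Agent.Lib.H90OXModPush
import Groth.Agent.Lib.H90OXModFP
import Groth.Agent.Lib.H90InvertibleFP
import Groth.Agent.Lib.StructureModule
import Groth.Prelude.Def_Mor2
import Mathlib.AlgebraicGeometry.Morphisms.Finite
import Mathlib.AlgebraicGeometry.Morphisms.Flat
import Mathlib.AlgebraicGeometry.Morphisms.FinitePresentation
import Mathlib.RingTheory.Finiteness.ModuleFinitePresentation

set_option autoImplicit false
set_option linter.style.haveILetI false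
universe u
open CategoryTheory AlgebraicGeometry TopologicalSpace Opposite

namespace Groth.Agent.Lib.FinLocFreeMor

variable {X S : Scheme.{u}} (f : X ⟶ S)

/-- For an affine morphism, a ring-hom-property `P` (with `Q` stable under composition and
containing identities) holds iff `Q` holds for `f.app U` for all affine opens `U` of the target. -/
theorem iff_forall_app_of_isAffineHom {P : MorphismProperty Scheme.{u}}
    {Q : ∀ {R S : Type u} [CommRing R] [CommRing S], (R →+* S) → Prop} [HasRingHomProperty P Q]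
    (hQc : RingHom.StableUnderComposition Q) (hQi : RingHom.ContainsIdentities Q)
    [IsAffineHom f] :
    P f ↔ ∀ U : S.affineOpens, Q (f.app U.1).hom := by
  constructor
  · intro H U
    have := HasRingHomProperty.appLE (P := P) (f := f) H U ⟨f ⁻¹ᵁ U.1, U.2.preimage f⟩ le_rfl
    rwa [Scheme.Hom.appLE_eq_app] at this
  · intro h
    rw [HasRingHomProperty.iff_appLE (P := P)]
    intro U V e
    rw [Scheme.Hom.appLE, CommRingCat.hom_comp]
    refine hQc _ _ (h U) ?_
    have h1 : P (𝟙 X) := HasRingHomProperty.of_isOpenImmersion (P := P) hQi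
    have := HasRingHomProperty.appLE (P := P) (f := 𝟙 X) h1 ⟨f ⁻¹ᵁ U.1, U.2.preimage f⟩ V e
    have e2 : (𝟙 X : X ⟶ X).appLE (f ⁻¹ᵁ U.1) V.1 e = X.presheaf.map (homOfLE e).op := by
      unfold Scheme.Hom.appLE
      exact Category.id_comp _
    rwa [e2] at this

/-- the identity as a linear equiv -/
noncomputable def secEquiv (U : S.Opens) :
    letI : Algebra Γ(S, U) Γ(X, f ⁻¹ᵁ U) := (f.app U).hom.toAlgebra
    Γ((Scheme.Modules.pushforward f).obj (Coh.structureModule X), U) ≃ₗ[Γ(S, U)] Γ(X, f ⁻¹ᵁ U) :=
  letI : Algebra Γ(S, U) Γ(X, f ⁻¹ᵁ U) := (f.app U).hom.toAlgebra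
  { toFun := fun x => x
    invFun := fun x => x
    map_add' := fun _ _ => rfl
    map_smul' := fun _ _ => rfl
    left_inv := fun _ => rfl
    right_inv := fun _ => rfl }

theorem isFinLocFree_mor_iff :
    (IsAffineHom f ∧ FlatMod.IsFinLocFree ((Scheme.Modules.pushforward f).obj (Coh.structureModule X))) ↔
      Mor2.IsFinLocFree f := by
  haveI := Groth.Agent.Lib.StructureModule.isQuasicoherent_structureModule X
  constructor
  · rintro ⟨hA, hLF⟩
    haveI := hA
    haveI : ((Scheme.Modules.pushforward f).obj (Coh.structureModule X)).IsQuasicoherent :=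
      Groth.Agent.Lib.H90OXModPush.isQuasicoherent_pushforward f _
    have hfp := Groth.Agent.Lib.H90Invertible.isFinitePresentation_of_isFinLocFree hLF
    have hfp' := (Groth.Agent.Lib.H90OXModFP.isFinitePresentation_iff_forall_affine _).mp hfp
    have hflat : FlatMod.IsFlat ((Scheme.Modules.pushforward f).obj (Coh.structureModule X)) := by
      intro x
      haveI := Groth.Agent.Lib.LocFreeFP.free_stalk_of_isFinLocFree hLF x
      exact Module.Flat.of_free
    have hflat' := (Groth.Agent.Lib.QCohFlat.isFlat_iff_forall_affine _).mp hflat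
    -- transfer
    have key : ∀ U : S.affineOpens,
        letI : Algebra Γ(S, U.1) Γ(X, f ⁻¹ᵁ U.1) := (f.app U.1).hom.toAlgebra
        Module.FinitePresentation Γ(S, U.1) Γ(X, f ⁻¹ᵁ U.1) ∧ Module.Flat Γ(S, U.1) Γ(X, f ⁻¹ᵁ U.1) := by
      intro U
      letI : Algebra Γ(S, U.1) Γ(X, f ⁻¹ᵁ U.1) := (f.app U.1).hom.toAlgebra
      haveI := hfp' U
      haveI := hflat' U
      exact ⟨Module.FinitePresentation.of_equiv (secEquiv f U.1),
        Module.Flat.of_linearEquiv (secEquiv f U.1).symm⟩
    refine ⟨?_, ?_, ?_⟩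
    · rw [isFinite_iff]
      refine ⟨hA, fun U hU => ?_⟩
      letI : Algebra Γ(S, U) Γ(X, f ⁻¹ᵁ U) := (f.app U).hom.toAlgebra
      haveI := (key ⟨U, hU⟩).1
      show Module.Finite Γ(S, U) Γ(X, f ⁻¹ᵁ U)
      infer_instance
    · refine (iff_forall_app_of_isAffineHom (P := @Flat) f RingHom.Flat.stableUnderComposition
        RingHom.Flat.containsIdentities).mpr ?_
      intro U
      exact (key U).2
    · refine (iff_forall_app_of_isAffineHom (P := @LocallyOfFinitePresentation) f
        RingHom.finitePresentation_stableUnderComposition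
        RingHom.finitePresentation_holdsForLocalizationAway.containsIdentities).mpr ?_
      intro U
      letI : Algebra Γ(S, U.1) Γ(X, f ⁻¹ᵁ U.1) := (f.app U.1).hom.toAlgebra
      haveI := (key U).1
      show Algebra.FinitePresentation Γ(S, U.1) Γ(X, f ⁻¹ᵁ U.1)
      exact (Module.FinitePresentation.iff_finitePresentation_of_finite _ _).mp inferInstance
  · rintro ⟨hfin, hflat, hfp⟩
    haveI : IsAffineHom f := inferInstance
    refine ⟨inferInstance, ?_⟩
    haveI : ((Scheme.Modules.pushforward f).obj (Coh.structureModule X)).IsQuasicoherent :=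
      Groth.Agent.Lib.H90OXModPush.isQuasicoherent_pushforward f _
    have h1 := (iff_forall_app_of_isAffineHom (P := @Flat) f RingHom.Flat.stableUnderComposition
        RingHom.Flat.containsIdentities).mp hflat
    have h2 := (iff_forall_app_of_isAffineHom (P := @LocallyOfFinitePresentation) f RingHom.finitePresentation_stableUnderComposition
        RingHom.finitePresentation_holdsForLocalizationAway.containsIdentities).mp hfp
    apply Groth.Agent.Lib.LocFreeFP.isFinLocFree_of_isFP_of_flat
    · rw [Groth.Agent.Lib.H90OXModFP.isFP_iff_forall_affine]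
      refine ⟨inferInstance, fun U => ?_⟩
      letI : Algebra Γ(S, U.1) Γ(X, f ⁻¹ᵁ U.1) := (f.app U.1).hom.toAlgebra
      haveI : Module.Finite Γ(S, U.1) Γ(X, f ⁻¹ᵁ U.1) := hfin.finite_app U.1 U.2
      haveI : Algebra.FinitePresentation Γ(S, U.1) Γ(X, f ⁻¹ᵁ U.1) := h2 U
      haveI : Module.FinitePresentation Γ(S, U.1) Γ(X, f ⁻¹ᵁ U.1) :=
        (Module.FinitePresentation.iff_finitePresentation_of_finite _ _).mpr inferInstance
      exact Module.FinitePresentation.of_equiv (secEquiv f U.1).symm
    · rw [Groth.Agent.Lib.QCohFlat.isFlat_iff_forall_affine]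
      intro U
      letI : Algebra Γ(S, U.1) Γ(X, f ⁻¹ᵁ U.1) := (f.app U.1).hom.toAlgebra
      haveI : Module.Flat Γ(S, U.1) Γ(X, f ⁻¹ᵁ U.1) := h1 U
      exact Module.Flat.of_linearEquiv (secEquiv f U.1)

end Groth.Agent.Lib.FinLocFreeMor
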