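/-
helper42: restriction of finite etale covers along `f : X ⟶ S` with `O_S ≅ f_*O_X` is fully faithful
(ns Groth.Agent.Lib.FEtFF42).
* `bijective_app_of_isIso`: an isomorphism of `O_X`-modules is bijective on sections.
* `bijective_app_fst` (Lemma K): `a : Y ⟶ S` affine with `a_*O_Y` finite locally free, `q : Y ×_S X ⟶ Y` the base change of
  `f`: `q^♯` is bijective over the opens `a⁻¹V`.
* `isIso_appTop_snd` (Lemma T): transfer of bijectivity over the range of an open immersion to global sections of the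
  base change.
* `ExtOver j a`, `existsUnique_extension`: relative extension of morphisms to schemes affine over the base, when the
  extension property is only known over the preimages of the affine opens of the base (uses `Scheme.directedAffineCover`).
* `extOver_fst`, `existsUnique_extension_fst`, `full_faithful` (= S7757).
-/
import Groth.Agent.Lib.AffineBaseChange
import Groth.Agent.Lib.UnitFinLocFree
import Groth.Agent.Lib.H78PullSec
import Groth.Agent.Lib.StructureModule
import Groth.Agent.Lib.HartogsRel2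
import Groth.Agent.Lib.FinLocFreeMor
import Groth.Prelude.Def_FEt
import Mathlib.AlgebraicGeometry.Cover.Directed
import Mathlib.AlgebraicGeometry.Morphisms.Affine
import Mathlib.AlgebraicGeometry.Morphisms.Etale
import Mathlib.AlgebraicGeometry.PullbackCarrier

set_option autoImplicit false
set_option linter.style.haveILetI false
universe u
open CategoryTheory CategoryTheory.Limits AlgebraicGeometry Opposite TopologicalSpace
open Groth.Agent.Lib.StructureModule Groth.Agent.Lib.H78PullSec Groth.Agent.Lib.AffineBaseChange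

namespace Groth.Agent.Lib.FEtFF42

variable {X S Y P : Scheme.{u}}

theorem bijective_app_of_isIso {M N : X.Modules} (φ : M ⟶ N) [IsIso φ] (U : X.Opens) :
    Function.Bijective (φ.app U) := by
  refine ⟨fun x y hxy => ?_, fun y => ⟨(inv φ).app U y, ?_⟩⟩
  · have h1 := iso_inv_hom_app (asIso φ) U x
    have h2 := iso_inv_hom_app (asIso φ) U y
    change (inv φ).app U (φ.app U x) = x at h1
    change (inv φ).app U (φ.app U y) = y at h2
    rw [← h1, ← h2, hxy]
  · exact iso_hom_inv_app (asIso φ) U y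

/-- **Lemma K**: if `O_S ≅ f_*O_X` and `a : Y ⟶ S` is affine with `a_*O_Y` finite locally free, then the base
change `q : Y ×_S X ⟶ Y` of `f` induces bijections on sections over the opens `a⁻¹V`. -/
theorem bijective_app_fst (f : X ⟶ S) (hf : ∀ U : S.Opens, Function.Bijective (f.app U))
    (a : Y ⟶ S) [IsAffineHom a]
    (hY : FlatMod.IsFinLocFree ((Scheme.Modules.pushforward a).obj (Coh.structureModule Y)))
    (q : P ⟶ Y) (p₂ : P ⟶ X) (h : IsPullback q p₂ a f) (V : S.Opens) :
    Function.Bijective (q.app (a ⁻¹ᵁ V)) := by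
  haveI := isQuasicoherent_structureModule Y
  haveI := isIso_uMap a f q p₂ h (Coh.structureModule Y)
  haveI := Groth.Agent.Lib.UnitFinLocFree.isIso_unit_of_isFinLocFree f hf hY
  haveI : IsIso (vMap a f q p₂ h (Coh.structureModule Y)) := by
    rw [← unit_comp_uMap]
    infer_instance
  have h1 := bijective_app_of_isIso (vMap a f q p₂ h (Coh.structureModule Y)) V
  have hpb : Function.Bijective
      (fun m : Γ(Coh.structureModule Y, a ⁻¹ᵁ V) => pb q (Coh.structureModule Y) m) := by
    have hc : ((vMap a f q p₂ h (Coh.structureModule Y)).app V :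
        Γ((Scheme.Modules.pushforward a).obj (Coh.structureModule Y), V) → _) =
        (((Scheme.Modules.pullback q).obj (Coh.structureModule Y)).presheaf.map (eqToHom (by
          change (p₂ ≫ f) ⁻¹ᵁ V = (q ≫ a) ⁻¹ᵁ V
          rw [h.w])).op) ∘ (fun m => pb q (Coh.structureModule Y) m) :=
      funext (vMap_app a f q p₂ h (Coh.structureModule Y) V)
    rw [hc] at h1
    exact (Function.Bijective.of_comp_iff'
      (ConcreteCategory.bijective_of_isIso _) _).mp h1
  have hu := bijective_app_of_isIso (unitHom q) (q ⁻¹ᵁ (a ⁻¹ᵁ V))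
  have hts : ∀ W : P.Opens, Function.Bijective (toSec (X := P) W) := fun W =>
    ⟨toSec_injective W, fun b => ⟨b, rfl⟩⟩
  have hts' : ∀ W : Y.Opens, Function.Bijective (toSec (X := Y) W) := fun W =>
    ⟨toSec_injective W, fun b => ⟨b, rfl⟩⟩
  have hcomp : (toSec (q ⁻¹ᵁ (a ⁻¹ᵁ V))) ∘ (fun y => q.app (a ⁻¹ᵁ V) y) =
      (fun m => (unitHom q).app (q ⁻¹ᵁ (a ⁻¹ᵁ V)) m) ∘
        (fun m : Γ(Coh.structureModule Y, a ⁻¹ᵁ V) => pb q (Coh.structureModule Y) m) ∘
          (toSec (a ⁻¹ᵁ V)) := by
    funext y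
    exact (unitHom_pb q (a ⁻¹ᵁ V) y).symm
  have hb : Function.Bijective ((toSec (q ⁻¹ᵁ (a ⁻¹ᵁ V))) ∘ (fun y => q.app (a ⁻¹ᵁ V) y)) := by
    rw [hcomp]
    exact hu.comp (hpb.comp (hts' _))
  exact (Function.Bijective.of_comp_iff' (hts _) _).mp hb


/-- **Lemma T**: if `q^♯` is bijective over the range of an open immersion `ι : T ⟶ Y`, then the base change
`P ×_Y T ⟶ T` of `q` induces an isomorphism on global sections. -/
theorem isIso_appTop_snd {P Y T : Scheme.{u}} (q : P ⟶ Y) (ι : T ⟶ Y) [IsOpenImmersion ι]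
    (hq : Function.Bijective (q.app ι.opensRange)) : IsIso (pullback.snd q ι).appTop := by
  haveI h1 : IsIso (q.app ι.opensRange) := (ConcreteCategory.isIso_iff_bijective _).2 hq
  haveI h2 : IsIso (ι.app ι.opensRange) := Scheme.Hom.isIso_app ι _ le_rfl
  haveI h3 : IsIso ((pullback.fst q ι).app (q ⁻¹ᵁ ι.opensRange)) := by
    refine Scheme.Hom.isIso_app (pullback.fst q ι) _ ?_
    intro x hx
    change x ∈ Set.range (pullback.fst q ι)
    rw [Scheme.Pullback.range_fst]
    exact hx
  have key : ι.app ι.opensRange ≫ (pullback.snd q ι).app (ι ⁻¹ᵁ ι.opensRange) =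
      q.app ι.opensRange ≫ (pullback.fst q ι).app (q ⁻¹ᵁ ι.opensRange) ≫
        (pullback q ι).presheaf.map (eqToHom (by
          change (pullback.snd q ι ≫ ι) ⁻¹ᵁ ι.opensRange = (pullback.fst q ι ≫ q) ⁻¹ᵁ ι.opensRange
          rw [pullback.condition])).op := by
    exact Scheme.Hom.congr_app (pullback.condition (f := q) (g := ι)).symm ι.opensRange
  have h4 : IsIso ((pullback.snd q ι).app (ι ⁻¹ᵁ ι.opensRange)) := by
    have : (pullback.snd q ι).app (ι ⁻¹ᵁ ι.opensRange) = inv (ι.app ι.opensRange) ≫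
        q.app ι.opensRange ≫ (pullback.fst q ι).app (q ⁻¹ᵁ ι.opensRange) ≫
        (pullback q ι).presheaf.map (eqToHom (by
          change (pullback.snd q ι ≫ ι) ⁻¹ᵁ ι.opensRange = (pullback.fst q ι ≫ q) ⁻¹ᵁ ι.opensRange
          rw [pullback.condition])).op := by
      rw [← key, IsIso.inv_hom_id_assoc]
    rw [this]
    infer_instance
  have h5 : ι ⁻¹ᵁ ι.opensRange = ⊤ := Scheme.Hom.preimage_opensRange ι
  rw [h5] at h4
  exact h4


/-- `j : V ⟶ Y` has the unique extension property for morphisms to affine schemes over each affine open of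
the base `S` of `a : Y ⟶ S`. -/
def ExtOver {V Y S : Scheme.{u}} (j : V ⟶ Y) (a : Y ⟶ S) : Prop :=
  ∀ (W : S.affineOpens) ⦃Z : Scheme.{u}⦄ [IsAffine Z] (ψ : pullback j (pullback.fst a W.1.ι) ⟶ Z),
    ∃! φ : pullback a W.1.ι ⟶ Z, pullback.snd j (pullback.fst a W.1.ι) ≫ φ = ψ

section Relative

variable {V Y S Y' : Scheme.{u}} (j : V ⟶ Y) (a : Y ⟶ S) (h : ExtOver j a) (b : Y' ⟶ S)
  [IsAffineHom b] (ψ : V ⟶ Y')

/-- the local property characterising the restriction of the extension to `a⁻¹W` -/
def LP (W : S.affineOpens) (φW : pullback a W.1.ι ⟶ Y') : Prop :=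
  φW ≫ b = pullback.fst a W.1.ι ≫ a ∧
    pullback.snd j (pullback.fst a W.1.ι) ≫ φW = pullback.fst j (pullback.fst a W.1.ι) ≫ ψ

include h in
theorem loc_exists (hψ : ψ ≫ b = j ≫ a) (W : S.affineOpens) : ∃ φW, LP j a b ψ W φW := by
  haveI : IsAffine (pullback b W.1.ι) := isAffine_of_isAffineHom (pullback.snd b W.1.ι)
  let ψW : pullback j (pullback.fst a W.1.ι) ⟶ pullback b W.1.ι :=
    pullback.lift (pullback.fst j (pullback.fst a W.1.ι) ≫ ψ)
      (pullback.snd j (pullback.fst a W.1.ι) ≫ pullback.snd a W.1.ι) (by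
        rw [Category.assoc, hψ, pullback.condition_assoc, Category.assoc, pullback.condition])
  obtain ⟨φ', hφ', -⟩ := h W ψW
  have hsnd : φ' ≫ pullback.snd b W.1.ι = pullback.snd a W.1.ι := by
    obtain ⟨χ, _, hχ⟩ := h W
      (pullback.snd j (pullback.fst a W.1.ι) ≫ pullback.snd a W.1.ι)
    rw [hχ (φ' ≫ pullback.snd b W.1.ι)
      (by beta_reduce; rw [← Category.assoc, hφ', pullback.lift_snd]),
      hχ (pullback.snd a W.1.ι) rfl]
  refine ⟨φ' ≫ pullback.fst b W.1.ι, ?_, ?_⟩
  · rw [Category.assoc, pullback.condition, ← Category.assoc, hsnd, pullback.condition]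
  · rw [← Category.assoc, hφ', pullback.lift_fst]

include h in
theorem loc_unique (W : S.affineOpens) (φ₁ φ₂ : pullback a W.1.ι ⟶ Y')
    (h₁ : LP j a b ψ W φ₁) (h₂ : LP j a b ψ W φ₂) : φ₁ = φ₂ := by
  haveI : IsAffine (pullback b W.1.ι) := isAffine_of_isAffineHom (pullback.snd b W.1.ι)
  let l₁ : pullback a W.1.ι ⟶ pullback b W.1.ι :=
    pullback.lift φ₁ (pullback.snd a W.1.ι) (by rw [h₁.1, pullback.condition])
  let l₂ : pullback a W.1.ι ⟶ pullback b W.1.ι :=
    pullback.lift φ₂ (pullback.snd a W.1.ι) (by rw [h₂.1, pullback.condition])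
  have key : l₁ = l₂ := by
    obtain ⟨φ, _, huniq⟩ := h W (pullback.snd j (pullback.fst a W.1.ι) ≫ l₁)
    rw [huniq l₁ rfl]
    refine (huniq l₂ ?_).symm
    beta_reduce
    apply pullback.hom_ext
    · simp only [Category.assoc, l₁, l₂, pullback.lift_fst]
      rw [h₁.2, h₂.2]
    · simp only [Category.assoc, l₁, l₂, pullback.lift_snd]
  have e₁ : φ₁ = l₁ ≫ pullback.fst b W.1.ι := by simp only [l₁, pullback.lift_fst]
  have e₂ : φ₂ = l₂ ≫ pullback.fst b W.1.ι := by simp only [l₂, pullback.lift_fst]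
  rw [e₁, e₂, key]

include h in
/-- **Relative extension over the base.** -/
theorem existsUnique_extension (hψ : ψ ≫ b = j ≫ a) :
    ∃! φ : Y ⟶ Y', φ ≫ b = a ∧ j ≫ φ = ψ := by
  let 𝒰 : Y.OpenCover := S.directedAffineCover.pullback₁ a
  choose φW hφW using loc_exists j a h b ψ hψ
  have helper : ∀ (W : S.affineOpens) {P : Scheme.{u}} (p : P ⟶ V) (r : P ⟶ pullback a W.1.ι),
      p ≫ j = r ≫ pullback.fst a W.1.ι → r ≫ φW W = p ≫ ψ := by
    intro W P p r hpr
    have : r = pullback.lift p r hpr ≫ pullback.snd j (pullback.fst a W.1.ι) :=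
      (pullback.lift_snd _ _ _).symm
    rw [this, Category.assoc, (hφW W).2, ← Category.assoc, pullback.lift_fst]
  have compat' : ∀ (W W' : S.affineOpens) (tr : pullback a W.1.ι ⟶ pullback a W'.1.ι),
      tr ≫ pullback.fst a W'.1.ι = pullback.fst a W.1.ι → tr ≫ φW W' = φW W := by
    intro W W' tr htr
    refine loc_unique j a h b ψ W _ _ ⟨?_, ?_⟩ (hφW W)
    · rw [Category.assoc, (hφW W').1, ← Category.assoc, htr]
    · rw [← Category.assoc]
      refine helper W' (pullback.fst j _) (pullback.snd j _ ≫ tr) ?_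
      rw [Category.assoc, htr]
      exact pullback.condition
  have compat : ∀ {W W' : 𝒰.I₀} (hWW' : W ⟶ W'), 𝒰.trans hWW' ≫ φW W' = φW W :=
    fun {W W'} hWW' => compat' W W' (𝒰.trans hWW') (𝒰.trans_map hWW')
  have hglue : ∀ W : S.affineOpens,
      pullback.fst a W.1.ι ≫ 𝒰.glueMorphismsOfLocallyDirected φW compat = φW W := fun W =>
    𝒰.map_glueMorphismsOfLocallyDirected φW compat W
  refine ⟨𝒰.glueMorphismsOfLocallyDirected φW compat, ⟨?_, ?_⟩, ?_⟩
  · refine Scheme.Cover.hom_ext 𝒰 _ _ fun W => ?_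
    rw [← Category.assoc]
    exact (congrArg (· ≫ b) (hglue W)).trans (hφW W).1
  · refine Scheme.Cover.hom_ext (𝒰.pullback₁ j) _ _ fun W => ?_
    change pullback.fst j (pullback.fst a W.1.ι) ≫ j ≫ _ = pullback.fst j (pullback.fst a W.1.ι) ≫ ψ
    rw [pullback.condition_assoc]
    exact (congrArg (pullback.snd j _ ≫ ·) (hglue W)).trans (hφW W).2
  · rintro φ' ⟨h1, h2⟩
    have hLP : ∀ W : S.affineOpens, LP j a b ψ W (pullback.fst a W.1.ι ≫ φ') := by
      intro W
      refine ⟨?_, ?_⟩
      · rw [Category.assoc, h1]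
      · rw [← pullback.condition_assoc, h2]
    refine Scheme.Cover.hom_ext 𝒰 _ _ fun W => ?_
    exact (loc_unique j a h b ψ W _ _ (hLP W) (hφW W)).trans (hglue W).symm

end Relative


section Main

variable {X S : Scheme.{u}} (f : X ⟶ S) (hf : ∀ U : S.Opens, Function.Bijective (f.app U))

include hf in
theorem extOver_fst {Y : Scheme.{u}} (a : Y ⟶ S) [IsAffineHom a]
    (hY : FlatMod.IsFinLocFree ((Scheme.Modules.pushforward a).obj (Coh.structureModule Y))) :
    ExtOver (pullback.fst a f) a := by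
  intro W Z _ ψ
  have hr : (pullback.fst a W.1.ι).opensRange = a ⁻¹ᵁ W.1 := by
    apply Opens.ext
    change Set.range (pullback.fst a W.1.ι) = a ⁻¹' (W.1 : Set S)
    rw [Scheme.Pullback.range_fst, Scheme.Opens.range_ι]
  haveI := isIso_appTop_snd (pullback.fst a f) (pullback.fst a W.1.ι) (by
    rw [hr]
    exact bijective_app_fst f hf a hY _ _ (IsPullback.of_hasPullback a f) W.1)
  exact Groth.Agent.Lib.HartogsRel2.existsUnique_of_isIso_appTop
    (pullback.snd (pullback.fst a f) (pullback.fst a W.1.ι)) ψ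

include hf in
theorem existsUnique_extension_fst {Y Y' : Scheme.{u}} (a : Y ⟶ S) (b : Y' ⟶ S) [IsAffineHom a]
    (hY : FlatMod.IsFinLocFree ((Scheme.Modules.pushforward a).obj (Coh.structureModule Y)))
    [IsAffineHom b] (ψ : pullback a f ⟶ Y') (hψ : ψ ≫ b = pullback.fst a f ≫ a) :
    ∃! φ : Y ⟶ Y', φ ≫ b = a ∧ pullback.fst a f ≫ φ = ψ :=
  existsUnique_extension (pullback.fst a f) a (extOver_fst f hf a hY) b ψ hψ

theorem isFinLocFree_push_of_finite_etale {Y : Scheme.{u}} (a : Y ⟶ S) [IsFinite a] [Etale a] :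
    FlatMod.IsFinLocFree ((Scheme.Modules.pushforward a).obj (Coh.structureModule Y)) :=
  ((Groth.Agent.Lib.FinLocFreeMor.isFinLocFree_mor_iff a).2
    ⟨inferInstance, inferInstance, inferInstance⟩).2

include hf in
/-- **S7757**: restriction of finite étale covers along `f` with `O_S ≅ f_*O_X` is fully faithful. -/
theorem full_faithful : (FEt.restrict f).Full ∧ (FEt.restrict f).Faithful := by
  constructor
  · constructor
    intro A B ψ
    let a : A.left ⟶ S := A.hom
    let b : B.left ⟶ S := B.hom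
    haveI : IsFinite a := A.prop.1
    haveI : Etale a := A.prop.2
    haveI : IsFinite b := B.prop.1
    let ψl : pullback a f ⟶ pullback b f := ψ.left
    have hw : ψl ≫ pullback.snd b f = pullback.snd a f :=
      MorphismProperty.Over.w ψ
    obtain ⟨φ, ⟨h1, h2⟩, -⟩ := existsUnique_extension_fst f hf a b
      (isFinLocFree_push_of_finite_etale a) (ψl ≫ pullback.fst b f)
      (by rw [Category.assoc, pullback.condition, ← Category.assoc, hw, pullback.condition])
    refine ⟨MorphismProperty.Over.homMk φ h1 trivial, ?_⟩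
    apply MorphismProperty.Over.Hom.ext
    have key : pullback.lift (pullback.fst a f ≫ φ) (pullback.snd a f)
        (by rw [Category.assoc, h1, pullback.condition]) = ψl := by
      apply pullback.hom_ext
      · rw [pullback.lift_fst, h2]
      · rw [pullback.lift_snd, hw]
    exact key
  · constructor
    intro A B φ₁ φ₂ heq
    let a : A.left ⟶ S := A.hom
    let b : B.left ⟶ S := B.hom
    haveI : IsFinite a := A.prop.1
    haveI : Etale a := A.prop.2
    haveI : IsFinite b := B.prop.1
    apply MorphismProperty.Over.Hom.ext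
    have e1 : ((FEt.restrict f).map φ₁).left ≫ pullback.fst b f = pullback.fst a f ≫ φ₁.left :=
      pullback.lift_fst _ _ _
    have e2 : ((FEt.restrict f).map φ₂).left ≫ pullback.fst b f = pullback.fst a f ≫ φ₂.left :=
      pullback.lift_fst _ _ _
    have h1 : pullback.fst a f ≫ φ₁.left = pullback.fst a f ≫ φ₂.left :=
      e1.symm.trans ((congrArg (fun x => x.left ≫ pullback.fst b f) heq).trans e2)
    have w1 : φ₁.left ≫ b = a := MorphismProperty.Over.w φ₁
    have w2 : φ₂.left ≫ b = a := MorphismProperty.Over.w φ₂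
    obtain ⟨φ, -, huniq⟩ := existsUnique_extension_fst f hf a b
      (isFinLocFree_push_of_finite_etale a) (pullback.fst a f ≫ φ₁.left)
      (by rw [Category.assoc, w1])
    rw [huniq φ₁.left ⟨w1, rfl⟩, huniq φ₂.left ⟨w2, h1.symm⟩]

end Main

end Groth.Agent.Lib.FEtFF42
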