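-- Helper lemmas: faithfulness of base change of finite etale covers.
import Groth.Prelude.Def_FEt
import Mathlib.AlgebraicGeometry.Morphisms.Separated
import Mathlib.AlgebraicGeometry.Morphisms.FormallyUnramified
import Mathlib.AlgebraicGeometry.Morphisms.UniversallyOpen
import Mathlib.AlgebraicGeometry.Morphisms.IsIso
import Mathlib.AlgebraicGeometry.PullbackCarrier

set_option autoImplicit false
universe u

namespace Groth.Agent.Lib.FEtFaithful

open CategoryTheory CategoryTheory.Limits AlgebraicGeometry

/-- Two morphisms `φ ψ : A ⟶ B` over `Y`, with `B ⟶ Y` separated and with open diagonal,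
agree as soon as they agree after precomposition with a morphism `p : P ⟶ A` whose range is
contained in no proper clopen subset of `A`. -/
lemma eq_of_comp_eq {A B Y P : Scheme.{u}} (b : B ⟶ Y) [IsSeparated b]
    [IsOpenImmersion (pullback.diagonal b)] (φ ψ : A ⟶ B) (hφψ : φ ≫ b = ψ ≫ b)
    (p : P ⟶ A) (hp : ∀ Z : Set A, IsClopen Z → Set.range p ⊆ Z → Z = Set.univ)
    (h : p ≫ φ = p ≫ ψ) : φ = ψ := by
  let Δ := pullback.diagonal b
  let φψ : A ⟶ pullback b b := pullback.lift φ ψ hφψ
  let e : pullback Δ φψ ⟶ A := pullback.snd Δ φψ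
  have he1 : IsOpenImmersion e := inferInstance
  have he2 : IsClosedImmersion e := inferInstance
  let l : P ⟶ pullback Δ φψ := pullback.lift (p ≫ φ) p (by
    apply pullback.hom_ext
    · simp only [Category.assoc, Δ, φψ]
      erw [pullback.diagonal_fst, pullback.lift_fst]
      simp
    · simp only [Category.assoc, Δ, φψ]
      erw [pullback.diagonal_snd, pullback.lift_snd]
      simp [h])
  have hl : l ≫ e = p := pullback.lift_snd _ _ _
  have hsurj : Function.Surjective e := by
    rw [← Set.range_eq_univ]
    apply hp
    · exact ⟨e.isClosedEmbedding.isClosed_range, e.isOpenEmbedding.isOpen_range⟩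
    · rw [← hl]
      simp only [Scheme.Hom.comp_base, TopCat.hom_comp, ContinuousMap.coe_comp]
      exact Set.range_comp_subset_range _ _
  have : Surjective e := ⟨hsurj⟩
  have : IsIso e := (isIso_iff_isOpenImmersion_and_surjective e).mpr ⟨he1, this⟩
  rw [← cancel_epi e]
  have hc := pullback.condition (f := Δ) (g := φψ)
  have h1 := congr($hc ≫ pullback.fst b b)
  have h2 := congr($hc ≫ pullback.snd b b)
  simp only [Category.assoc, Δ, φψ, pullback.diagonal_fst, pullback.diagonal_snd,
    pullback.lift_fst, pullback.lift_snd, Category.comp_id] at h1 h2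
  exact h1.symm.trans h2

end Groth.Agent.Lib.FEtFaithful
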