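import Groth.Agent.Lib.EtAlgConn42
import Groth.Agent.Lib.H0Const13
import Groth.Agent.Lib.FEtFF42

/-!
# Finite étale covers of `Spec k` restricted to a geometrically connected qcqs `k`-scheme (helper42)
-/

set_option autoImplicit false
universe u
open CategoryTheory CategoryTheory.Limits AlgebraicGeometry Opposite TopologicalSpace

namespace Groth.Agent.Lib.FEtField42

/-- unique extension of a morphism to an affine scheme along `p` when `p^♯` is injective on global sections and
the global sections of the morphism factor through `p^♯` -/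
theorem existsUnique_of_injective_appTop {P T Z : Scheme.{u}} (p : P ⟶ T) [IsAffine Z] (ψ : P ⟶ Z)
    (hinj : Function.Injective p.appTop) (hfac : ∀ z, ∃ t, p.appTop t = ψ.appTop z) :
    ∃! φ : T ⟶ Z, p ≫ φ = ψ := by
  choose g hg using hfac
  let φr : Γ(Z, ⊤) →+* Γ(T, ⊤) :=
    { toFun := g
      map_one' := hinj (by rw [hg, map_one, map_one])
      map_mul' := fun x y => hinj (by rw [hg, map_mul, map_mul, hg, hg])
      map_zero' := hinj (by rw [hg, map_zero, map_zero])
      map_add' := fun x y => hinj (by rw [hg, map_add, map_add, hg, hg]) }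
  have hφr : CommRingCat.ofHom φr ≫ p.appTop = ψ.appTop := by
    ext z
    exact hg z
  have key : p ≫ T.toSpecΓ ≫ Spec.map (CommRingCat.ofHom φr) ≫ inv Z.toSpecΓ = ψ := by
    rw [← cancel_mono Z.toSpecΓ]
    simp only [Category.assoc, IsIso.inv_hom_id, Category.comp_id]
    rw [← Category.assoc, Scheme.toSpecΓ_naturality, Category.assoc, ← Spec.map_comp, hφr,
      ← Scheme.toSpecΓ_naturality]
  refine ⟨T.toSpecΓ ≫ Spec.map (CommRingCat.ofHom φr) ≫ inv Z.toSpecΓ, key, ?_⟩
  intro φ hφ
  apply ext_of_isAffine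
  have h1 : φ.appTop ≫ p.appTop = ψ.appTop := by
    rw [← Scheme.Hom.comp_appTop, hφ]
  have h2 : (T.toSpecΓ ≫ Spec.map (CommRingCat.ofHom φr) ≫ inv Z.toSpecΓ).appTop ≫
      p.appTop = ψ.appTop := by
    rw [← Scheme.Hom.comp_appTop, key]
  ext z
  apply hinj
  have e1 := congr($h1 z)
  have e2 := congr($h2 z)
  exact e1.trans e2.symm

/-- global idempotents on a connected quasi-compact scheme are trivial (no reducedness needed) -/
theorem eq_zero_or_eq_one_of_isIdempotentElem {X : Scheme.{u}} [CompactSpace X] [PreconnectedSpace X]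
    (e : Γ(X, ⊤)) (he : IsIdempotentElem e) : e = 0 ∨ e = 1 := by
  have hnil : ∀ e' : Γ(X, ⊤), IsIdempotentElem e' → X.basicOpen e' = ⊥ → e' = 0 := by
    intro e' he' hb
    obtain ⟨n, hn⟩ := (Scheme.isNilpotent_iff_basicOpen_eq_bot e').mpr hb
    rcases n with _ | n
    · rw [pow_zero] at hn
      rw [← mul_one e', hn, mul_zero]
    · rw [he'.pow_succ_eq] at hn
      exact hn
  have h1 : X.basicOpen e ⊓ X.basicOpen (1 - e) = ⊥ := by
    rw [← Scheme.basicOpen_mul]
    have : e * (1 - e) = 0 := by rw [mul_sub, mul_one, he.eq, sub_self]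
    rw [this, Scheme.basicOpen_zero]
  have h2 : X.basicOpen e ⊔ X.basicOpen (1 - e) = ⊤ := by
    rw [eq_top_iff]
    intro x _
    have hx : x ∈ (⊤ : X.Opens) := trivial
    have hsum : X.presheaf.germ ⊤ x hx e + X.presheaf.germ ⊤ x hx (1 - e) = 1 := by
      rw [← map_add, add_sub_cancel, map_one]
    rcases IsLocalRing.isUnit_or_isUnit_of_add_one hsum with h | h
    · exact Or.inl ((Scheme.mem_basicOpen X e x hx).mpr h)
    · exact Or.inr ((Scheme.mem_basicOpen X (1 - e) x hx).mpr h)
  have hclopen : IsClopen ((X.basicOpen e : X.Opens) : Set X) := by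
    refine ⟨?_, (X.basicOpen e).2⟩
    have : ((X.basicOpen e : X.Opens) : Set X) = ((X.basicOpen (1 - e) : X.Opens) : Set X)ᶜ := by
      have h1' := congrArg (fun U : X.Opens => (U : Set X)) h1
      have h2' := congrArg (fun U : X.Opens => (U : Set X)) h2
      simp only [TopologicalSpace.Opens.coe_inf, TopologicalSpace.Opens.coe_bot,
        TopologicalSpace.Opens.coe_sup, TopologicalSpace.Opens.coe_top] at h1' h2'
      ext x
      constructor
      · intro hx hx'
        have : x ∈ (∅ : Set X) := h1' ▸ ⟨hx, hx'⟩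
        exact this
      · intro hx
        have : x ∈ (Set.univ : Set X) := trivial
        rw [← h2'] at this
        exact this.resolve_right hx
    rw [this]
    exact (X.basicOpen (1 - e)).2.isClosed_compl
  rcases isClopen_iff.mp hclopen with h | h
  · left
    apply hnil e he
    ext1
    exact h
  · right
    have : X.basicOpen (1 - e) = ⊥ := by
      ext1
      have h1' := congrArg (fun U : X.Opens => (U : Set X)) h1
      simp only [TopologicalSpace.Opens.coe_inf, TopologicalSpace.Opens.coe_bot] at h1'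
      rw [h, Set.univ_inter] at h1'
      exact h1'
    have h0 := hnil (1 - e) he.one_sub this
    rw [sub_eq_zero] at h0
    exact h0.symm

/-- abstract form of `FEtFF42.full_faithful`: the unique extension property for morphisms between covers gives
full faithfulness of restriction -/
theorem full_faithful_of_ext {X S : Scheme.{u}} (f : X ⟶ S)
    (hext : ∀ (A B : FEt.Cat S) (ψ : pullback A.hom f ⟶ B.left),
      ψ ≫ B.hom = pullback.fst A.hom f ≫ A.hom →
        ∃! φ : A.left ⟶ B.left, φ ≫ B.hom = A.hom ∧ pullback.fst A.hom f ≫ φ = ψ) :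
    (FEt.restrict f).Full ∧ (FEt.restrict f).Faithful := by
  constructor
  · constructor
    intro A B ψ
    let a : A.left ⟶ S := A.hom
    let b : B.left ⟶ S := B.hom
    let ψl : pullback a f ⟶ pullback b f := ψ.left
    have hw : ψl ≫ pullback.snd b f = pullback.snd a f :=
      MorphismProperty.Over.w ψ
    obtain ⟨φ, ⟨h1, h2⟩, -⟩ := hext A B (ψl ≫ pullback.fst b f)
      (by rw [Category.assoc, pullback.condition, ← Category.assoc, hw, pullback.condition])
    refine ⟨MorphismProperty.Over.homMk φ h1 trivial, ?_⟩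
    apply MorphismProperty.Over.Hom.ext
    have key : pullback.lift (pullback.fst a f ≫ φ) (pullback.snd a f)
        (by rw [Category.assoc, h1, pullback.condition]) = ψl := by
      apply pullback.hom_ext
      · rw [pullback.lift_fst, h2]
      · rw [pullback.lift_snd, hw]
    exact key
  · constructor
    intro A B φ₁ φ₂ heq
    let a : A.left ⟶ S := A.hom
    let b : B.left ⟶ S := B.hom
    apply MorphismProperty.Over.Hom.ext
    have e1 : ((FEt.restrict f).map φ₁).left ≫ pullback.fst b f = pullback.fst a f ≫ φ₁.left :=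
      pullback.lift_fst _ _ _
    have e2 : ((FEt.restrict f).map φ₂).left ≫ pullback.fst b f = pullback.fst a f ≫ φ₂.left :=
      pullback.lift_fst _ _ _
    have h1 : pullback.fst a f ≫ φ₁.left = pullback.fst a f ≫ φ₂.left :=
      e1.symm.trans ((congrArg (fun x => x.left ≫ pullback.fst b f) heq).trans e2)
    have w1 : φ₁.left ≫ b = a := MorphismProperty.Over.w φ₁
    have w2 : φ₂.left ≫ b = a := MorphismProperty.Over.w φ₂
    obtain ⟨φ, -, huniq⟩ := hext A B (pullback.fst a f ≫ φ₁.left)
      (by rw [Category.assoc, w1])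
    rw [huniq φ₁.left ⟨w1, rfl⟩, huniq φ₂.left ⟨w2, h1.symm⟩]


section Field

variable (k : Type u) [Field k] {X : Scheme.{u}} (f : X ⟶ Spec (CommRingCat.of k)) [CompactSpace X]
  [QuasiSeparatedSpace X]
  [ConnectedSpace ↥(pullback f (Spec.map (CommRingCat.ofHom (algebraMap k (AlgebraicClosure k)))))]

/-- over a field: morphisms `A ×_k X ⟶ B` between finite étale `k`-schemes come from morphisms `A ⟶ B`, for `X` qcqs
and geometrically connected -/
theorem existsUnique_extension_field {A B : Scheme.{u}} (a : A ⟶ Spec (CommRingCat.of k))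
    (b : B ⟶ Spec (CommRingCat.of k)) [IsFinite a] [Etale a] [IsFinite b] [Etale b]
    (ψ : pullback a f ⟶ B) (hψ : ψ ≫ b = pullback.fst a f ≫ a) :
    ∃! φ : A ⟶ B, φ ≫ b = a ∧ pullback.fst a f ≫ φ = ψ := by
  let Ω := AlgebraicClosure k
  let jj : CommRingCat.of k ⟶ CommRingCat.of Ω := CommRingCat.ofHom (algebraMap k Ω)
  haveI : IsAffine A := isAffine_of_isAffineHom a
  haveI : IsAffine B := isAffine_of_isAffineHom b
  haveI : QuasiCompact f := (quasiCompact_iff_compactSpace f).mpr inferInstance
  haveI : CompactSpace ↥(pullback f (Spec.map jj)) :=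
    (quasiCompact_iff_compactSpace (pullback.snd f (Spec.map jj))).mp inferInstance
  have hid : ∀ e : Γ(pullback f (Spec.map jj), ⊤), IsIdempotentElem e → e = 0 ∨ e = 1 :=
    fun e he => eq_zero_or_eq_one_of_isIdempotentElem e he
  obtain ⟨x₀⟩ : Nonempty ↥(pullback f (Spec.map jj)) := inferInstance
  haveI : Nontrivial Γ(X, ⊤) := by
    haveI : Nonempty (⊤ : X.Opens) := ⟨⟨(pullback.fst f (Spec.map jj)) x₀, trivial⟩⟩
    exact Scheme.component_nontrivial X ⊤
  -- the two pushout squares
  have pushA := Groth.Agent.Lib.H0Const13.isPushout_appTop_of_isPullback_of_flat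
    (IsPullback.of_hasPullback a f).flip
  haveI hflat : Flat (Spec.map jj) := by
    rw [Flat.SpecMap_iff]
    algebraize [jj.hom]
    exact (RingHom.flat_algebraMap_iff).mpr inferInstance
  have pushΩ := Groth.Agent.Lib.H0Const13.isPushout_appTop_of_isPullback_of_flat
    (IsPullback.of_hasPullback f (Spec.map jj))
  let i₀ := (Scheme.ΓSpecIso (CommRingCat.of k)).inv
  have hT : IsPushout (CommRingCat.ofHom (i₀ ≫ a.appTop).hom) (CommRingCat.ofHom (i₀ ≫ f.appTop).hom)
      (CommRingCat.ofHom (pullback.fst a f).appTop.hom)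
      (CommRingCat.ofHom (pullback.snd a f).appTop.hom) := by
    refine pushA.flip.of_iso (Scheme.ΓSpecIso (CommRingCat.of k)) (Iso.refl _) (Iso.refl _)
      (Iso.refl _) ?_ ?_ ?_ ?_
    all_goals simp [i₀]
  have hΩ : IsPushout (CommRingCat.ofHom (algebraMap k Ω)) (CommRingCat.ofHom (i₀ ≫ f.appTop).hom)
      (CommRingCat.ofHom ((Scheme.ΓSpecIso (CommRingCat.of Ω)).inv ≫
        (pullback.snd f (Spec.map jj)).appTop).hom)
      (CommRingCat.ofHom (pullback.fst f (Spec.map jj)).appTop.hom) := by
    refine pushΩ.flip.of_iso (Scheme.ΓSpecIso (CommRingCat.of k))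
      (Scheme.ΓSpecIso (CommRingCat.of Ω)) (Iso.refl _) (Iso.refl _) ?_ ?_ ?_ ?_
    · exact Scheme.ΓSpecIso_naturality jj
    all_goals simp [i₀]
  -- étaleness on rings
  have hetA : (i₀ ≫ a.appTop).hom.Etale :=
    (RingHom.Etale.respectsIso.cancel_left_isIso i₀ a.appTop).mpr
      ((HasRingHomProperty.iff_of_isAffine (P := @Etale)).mp inferInstance)
  have hetB : (i₀ ≫ b.appTop).hom.Etale :=
    (RingHom.Etale.respectsIso.cancel_left_isIso i₀ b.appTop).mpr
      ((HasRingHomProperty.iff_of_isAffine (P := @Etale)).mp inferInstance)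
  have hθ : ψ.appTop.hom.comp (i₀ ≫ b.appTop).hom =
      (pullback.fst a f).appTop.hom.comp (i₀ ≫ a.appTop).hom := by
    have h1 : b.appTop ≫ ψ.appTop = a.appTop ≫ (pullback.fst a f).appTop := by
      rw [← Scheme.Hom.comp_appTop, ← Scheme.Hom.comp_appTop, hψ]
    have h2 : (i₀ ≫ b.appTop) ≫ ψ.appTop = (i₀ ≫ a.appTop) ≫ (pullback.fst a f).appTop := by
      rw [Category.assoc, h1, Category.assoc]
    exact congr($(h2).hom)
  obtain ⟨hinj, hfac⟩ := Groth.Agent.Lib.EtAlgConn42.mem_range_of_isPushout (algebraMap k Ω)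
    (i₀ ≫ f.appTop).hom (i₀ ≫ a.appTop).hom (i₀ ≫ b.appTop).hom (pullback.fst a f).appTop.hom
    (pullback.snd a f).appTop.hom hT _ _ hΩ hetA hetB hid ψ.appTop.hom hθ
  obtain ⟨φ, hφ, huniq⟩ := existsUnique_of_injective_appTop (pullback.fst a f) ψ hinj
    (fun z => by
      obtain ⟨l, hl⟩ := hfac z
      exact ⟨l, hl.symm⟩)
  refine ⟨φ, ⟨?_, hφ⟩, ?_⟩
  · apply ext_of_isAffine
    have h1 : (φ ≫ b).appTop ≫ (pullback.fst a f).appTop = a.appTop ≫ (pullback.fst a f).appTop := by
      rw [← Scheme.Hom.comp_appTop, ← Scheme.Hom.comp_appTop, ← Category.assoc, hφ, hψ]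
    ext z
    apply hinj
    exact congr($h1 z)
  · rintro φ' ⟨-, h2⟩
    exact huniq φ' h2

/-- **S0268**: restriction of finite étale covers of `Spec k` to a qcqs geometrically connected `k`-scheme is fully
faithful -/
theorem full_faithful_field : (FEt.restrict f).Full ∧ (FEt.restrict f).Faithful := by
  refine full_faithful_of_ext f fun A B ψ hψ => ?_
  haveI : IsFinite A.hom := A.prop.1
  haveI : Etale A.hom := A.prop.2
  haveI : IsFinite B.hom := B.prop.1
  haveI : Etale B.hom := B.prop.2
  exact existsUnique_extension_field k f A.hom B.hom ψ hψ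

end Field

end Groth.Agent.Lib.FEtField42
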