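import Mathlib

/-!
# Algebra for the coordinate change of the adjoint divisor (helper58)

* `chain_rule_aeval`: `d (f(Y)) = ∑ fᵢ(Y) d(Yᵢ)` for a derivation `d`.
* `pderiv_aeval_linear`: `∂ⱼ (f ∘ A) = ∑ᵢ (fᵢ ∘ A) Aᵢⱼ`.
* `aeval_smul_of_isHomogeneous`: `f(c Y) = c ^ n f(Y)`.
* `cross_identity`: third coordinate of `Aᵀ ((Au) × (A du)) = det A (u × du)`.
-/

set_option autoImplicit false

namespace Groth.Agent.Lib.FFAdj58

open MvPolynomial

theorem chain_rule_aeval {R A : Type*} [CommRing R] [CommRing A] [Algebra R A] {σ : Type*}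
    [Fintype σ] (d : Derivation R A A) (Y : σ → A) (f : MvPolynomial σ R) :
    d (aeval Y f) = ∑ i, aeval Y (pderiv i f) * d (Y i) := by
  classical
  induction f using MvPolynomial.induction_on with
  | C a =>
    simp only [aeval_C, pderiv_C, map_zero, zero_mul, Finset.sum_const_zero]
    exact d.map_algebraMap a
  | add p q hp hq =>
    simp only [map_add, hp, hq, add_mul, Finset.sum_add_distrib]
  | mul_X p j hp =>
    rw [map_mul, aeval_X, Derivation.leibniz, hp, smul_eq_mul, smul_eq_mul]
    simp only [pderiv_mul, pderiv_X, map_add, map_mul, aeval_X, add_mul]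
    rw [Finset.sum_add_distrib, Finset.mul_sum, add_comm]
    congr 1
    · apply Finset.sum_congr rfl
      intro i _
      ring
    · rw [Finset.sum_eq_single j]
      · simp
      · intro i _ hij
        simp [Pi.single_apply, hij]
      · intro h
        exact absurd (Finset.mem_univ j) h

theorem pderiv_aeval_linear {R : Type*} [CommRing R] {σ : Type*} [Fintype σ]
    (A : Matrix σ σ R) (f : MvPolynomial σ R) (j : σ) :
    pderiv j (aeval (fun i : σ => ∑ l, C (A i l) * X l) f) =
      ∑ i, aeval (fun i : σ => ∑ l, C (A i l) * X l) (pderiv i f) * C (A i j) := by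
  classical
  have h := chain_rule_aeval (pderiv j : Derivation R (MvPolynomial σ R) (MvPolynomial σ R))
    (fun i : σ => ∑ l, C (A i l) * X l) f
  rw [h]
  apply Finset.sum_congr rfl
  intro i _
  congr 1
  rw [map_sum, Finset.sum_eq_single j]
  · rw [pderiv_C_mul, pderiv_X_self, mul_one]
  · intro l _ hlj
    rw [pderiv_C_mul, pderiv_X_of_ne hlj, mul_zero]
  · intro h
    exact absurd (Finset.mem_univ j) h

theorem aeval_smul_of_isHomogeneous {R A : Type*} [CommRing R] [CommRing A] [Algebra R A]
    {σ : Type*} {f : MvPolynomial σ R} {n : ℕ} (hf : f.IsHomogeneous n) (c : A) (Y : σ → A) :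
    aeval (fun i => c * Y i) f = c ^ n * aeval Y f := by
  classical
  rw [f.as_sum, map_sum, map_sum, Finset.mul_sum]
  apply Finset.sum_congr rfl
  intro m hm
  have hdeg : n = ∑ i ∈ m.support, m i := hf.degree_eq_sum_deg_support hm
  rw [aeval_monomial, aeval_monomial, Finsupp.prod, Finsupp.prod, hdeg, ← Finset.prod_pow_eq_pow_sum]
  simp only [mul_pow, Finset.prod_mul_distrib]
  ring

theorem cross_identity {R : Type*} [CommRing R] (A : Matrix (Fin 3) (Fin 3) R)
    (u du : Fin 3 → R) :
    ∑ i, A i 2 * (![(A.mulVec u) 1 * (A.mulVec du) 2 - (A.mulVec u) 2 * (A.mulVec du) 1,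
        (A.mulVec u) 2 * (A.mulVec du) 0 - (A.mulVec u) 0 * (A.mulVec du) 2,
        (A.mulVec u) 0 * (A.mulVec du) 1 - (A.mulVec u) 1 * (A.mulVec du) 0] : Fin 3 → R) i =
      A.det * (u 0 * du 1 - u 1 * du 0) := by
  rw [Matrix.det_fin_three]
  simp only [Fin.sum_univ_three, Matrix.mulVec, dotProduct, Matrix.cons_val_zero,
    Matrix.cons_val_one, Matrix.cons_val_two, Matrix.head_cons, Matrix.tail_cons]
  ring

end Groth.Agent.Lib.FFAdj58
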