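import Groth.Agent.Lib.FFAdj58a

/-!
# The differential `dx / f_y` under a projective coordinate change (helper58)

`local_identity`: for a homogeneous `f` of degree `e` with `f(1, x, y) = 0`, `(1, x, y)ᵗ = A u`,
`x' = u₁/u₀`, `y' = u₂/u₀`, `f' = f ∘ A`:
`dx' / f'_{y'}(1, x', y') = u₀^{e-1} / (u₀² det A) · dx / f_y(1, x, y)`, read through any algebra map
`φ` to a field with a derivation `d`.
-/

set_option autoImplicit false

namespace Groth.Agent.Lib.FFAdj58

open MvPolynomial

variable {k K L : Type*} [Field k] [Field K] [Algebra k K] [Field L] [Algebra k L]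

theorem one_le_of_pderiv_ne_zero {σ : Type*} {f : MvPolynomial σ k} {e : ℕ}
    (hf : f.IsHomogeneous e) {i : σ} (h : pderiv i f ≠ 0) : 1 ≤ e := by
  by_contra hlt
  have he : e = 0 := by omega
  subst he
  apply h
  have h1 : f.totalDegree = 0 := Nat.le_zero.mp hf.totalDegree_le
  rw [totalDegree_eq_zero_iff_eq_C] at h1
  rw [h1, pderiv_C]

theorem local_identity_aux (φ : K →ₐ[k] L) (d : Derivation k L L)
    (f : MvPolynomial (Fin 3) k) (e : ℕ) (hf : f.IsHomogeneous e)
    (x y : K) (hfxy : aeval ![(1 : K), x, y] f = 0)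
    (A : Matrix (Fin 3) (Fin 3) k) (hA : A.det ≠ 0)
    (u : Fin 3 → K) (hu : ∀ i, ∑ j, algebraMap k K (A i j) * u j = ![(1 : K), x, y] i)
    (hu0 : u 0 ≠ 0)
    (hfy : (aeval ![(1 : K), x, y] (pderiv 2 f)) ≠ 0)
    (hfy' : (aeval ![(1 : K), u 1 / u 0, u 2 / u 0]
      (pderiv 2 (aeval (fun i : Fin 3 => ∑ j, C (A i j) * X j) f))) ≠ 0) :
    φ (aeval ![(1 : K), u 1 / u 0, u 2 / u 0]
        (pderiv 2 (aeval (fun i : Fin 3 => ∑ j, C (A i j) * X j) f)))⁻¹ * d (φ (u 1 / u 0)) =
      φ (u 0 ^ (e - 1) / (u 0 ^ 2 * algebraMap k K A.det)) *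
        (φ (aeval ![(1 : K), x, y] (pderiv 2 f))⁻¹ * d (φ x)) := by
  classical
  set lin : Fin 3 → MvPolynomial (Fin 3) k := fun i : Fin 3 => ∑ j, C (A i j) * X j with hlin
  set f' : MvPolynomial (Fin 3) k := aeval lin f with hf'
  set Xv : Fin 3 → L := fun i => φ (![(1 : K), x, y] i) with hXv
  set uv : Fin 3 → L := fun i => φ (u i) with huv
  set Av : Matrix (Fin 3) (Fin 3) L := A.map (algebraMap k L) with hAv
  set F : Fin 3 → L := fun i => aeval Xv (pderiv i f) with hF
  set F' : Fin 3 → L := fun j => aeval uv (pderiv j f') with hF'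
  have hXu : Xv = Av.mulVec uv := by
    funext i
    change φ (![(1 : K), x, y] i) = _
    rw [← hu i, map_sum]
    simp only [Matrix.mulVec, dotProduct, hAv, Matrix.map_apply, huv, map_mul, AlgHom.commutes]
  have hdXu : (fun i => d (Xv i)) = Av.mulVec (fun i => d (uv i)) := by
    funext i
    rw [hXu]
    simp only [Matrix.mulVec, dotProduct, hAv, Matrix.map_apply, map_sum]
    apply Finset.sum_congr rfl
    intro j _
    rw [Derivation.leibniz, Derivation.map_algebraMap, smul_zero, add_zero, smul_eq_mul]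
  have hφaeval : ∀ (Y : Fin 3 → K) (p : MvPolynomial (Fin 3) k),
      φ (aeval Y p) = aeval (fun i => φ (Y i)) p := by
    intro Y p
    rw [← AlgHom.comp_apply, comp_aeval]
  -- Euler
  have hEuler : ∑ i, Xv i * F i = 0 := by
    have h1 := congrArg (aeval Xv) hf.sum_X_mul_pderiv
    rw [map_sum] at h1
    simp only [map_mul, aeval_X] at h1
    rw [h1, map_nsmul]
    have h2 : aeval Xv f = 0 := by
      rw [hXv, ← hφaeval, hfxy, map_zero]
    rw [h2, smul_zero]
  -- chain rule
  have hchain : ∑ i, F i * d (Xv i) = 0 := by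
    rw [← chain_rule_aeval d Xv f]
    have h2 : aeval Xv f = 0 := by
      rw [hXv, ← hφaeval, hfxy, map_zero]
    rw [h2, map_zero]
  have hX0 : Xv 0 = 1 := by simp [hXv]
  have hdX0 : d (Xv 0) = 0 := by rw [hX0]; exact d.map_one_eq_zero
  have hX1 : Xv 1 = φ x := by simp [hXv]
  -- F' in terms of F
  have hlinuv : (fun i => aeval uv (lin i)) = Xv := by
    funext i
    rw [hXu, hlin]
    simp only [map_sum, map_mul, aeval_C, aeval_X, Matrix.mulVec, dotProduct, hAv,
      Matrix.map_apply]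
  have hcomp : ∀ p : MvPolynomial (Fin 3) k, aeval uv (aeval lin p) = aeval Xv p := by
    intro p
    rw [← AlgHom.comp_apply, comp_aeval, hlinuv]
  have hF'F : ∀ j, F' j = ∑ i, F i * Av i j := by
    intro j
    rw [hF', hf']
    simp only
    rw [pderiv_aeval_linear A f j, map_sum]
    apply Finset.sum_congr rfl
    intro i _
    rw [map_mul, hcomp, aeval_C, hAv, Matrix.map_apply]
  -- cross identity
  have hcross := cross_identity Av uv (fun i => d (uv i))
  rw [← hXu, ← hdXu] at hcross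
  simp only [Fin.sum_univ_three, Matrix.cons_val_zero, Matrix.cons_val_one,
    Matrix.cons_val_two, Matrix.head_cons, Matrix.tail_cons] at hcross
  have hE := hEuler
  have hC := hchain
  rw [Fin.sum_univ_three] at hE hC
  rw [hX0, one_mul] at hE
  rw [hdX0, mul_zero, zero_add] at hC
  rw [hdX0, hX0] at hcross
  have hF'2 := hF'F 2
  rw [Fin.sum_univ_three] at hF'2
  set W : L := uv 0 * d (uv 1) - uv 1 * d (uv 0) with hW
  have hkey : d (Xv 1) * F' 2 = Av.det * W * F 2 := by
    rw [← hcross, hF'2]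
    linear_combination (Av 0 2 * d (Xv 1)) * hE + (Av 1 2 - Av 0 2 * Xv 1) * hC
  -- nonvanishing
  have huv0 : uv 0 ≠ 0 := by
    rw [huv]; exact (map_ne_zero φ).mpr hu0
  have hdet : Av.det = algebraMap k L A.det := by
    rw [hAv, ← RingHom.mapMatrix_apply, ← RingHom.map_det]
  have hdet0 : Av.det ≠ 0 := by
    rw [hdet]; exact (map_ne_zero _).mpr hA
  have hF2 : F 2 = φ (aeval ![(1 : K), x, y] (pderiv 2 f)) := by
    rw [hF, hφaeval]
  have hF20 : F 2 ≠ 0 := by
    rw [hF2]; exact (map_ne_zero φ).mpr hfy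
  -- homogeneity
  have hf'hom : f'.IsHomogeneous e := by
    have := hf.aeval lin (n := 1) (fun i => by
      rw [hlin]
      exact IsHomogeneous.sum _ _ _ (fun j _ => isHomogeneous_C_mul_X _ _))
    rwa [one_mul] at this
  have hp2hom : (pderiv 2 f').IsHomogeneous (e - 1) := hf'hom.pderiv
  have hX' : (fun i => φ (![(1 : K), u 1 / u 0, u 2 / u 0] i)) = fun i => (uv 0)⁻¹ * uv i := by
    funext i
    fin_cases i
    · simp [huv, inv_mul_cancel₀ ((map_ne_zero φ).mpr hu0)]
    · simp [huv, div_eq_inv_mul]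
    · simp [huv, div_eq_inv_mul]
  have hg' : φ (aeval ![(1 : K), u 1 / u 0, u 2 / u 0] (pderiv 2 f')) =
      ((uv 0)⁻¹) ^ (e - 1) * F' 2 := by
    rw [hφaeval, hX', aeval_smul_of_isHomogeneous hp2hom]
  have hF'20 : F' 2 ≠ 0 := by
    intro h0
    apply hfy'
    apply φ.toRingHom.injective
    rw [map_zero]
    change φ _ = 0
    rw [hg', h0, mul_zero]
  have hdx' : d (φ (u 1 / u 0)) = (uv 0)⁻¹ ^ 2 * W := by
    rw [map_div₀, Derivation.leibniz_div, smul_eq_mul, smul_eq_mul, smul_eq_mul]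
  rw [map_inv₀, hg', hdx', map_div₀, map_mul, map_pow, map_pow, AlgHom.commutes, ← hdet, map_inv₀,
    ← hF2, ← hX1]
  change _ = uv 0 ^ (e - 1) / (uv 0 ^ 2 * Av.det) * ((F 2)⁻¹ * d (Xv 1))
  have hW' : W = d (Xv 1) * F' 2 / (Av.det * F 2) := by
    rw [hkey]; field_simp
  rw [hW', inv_pow, inv_pow]
  field_simp

/-- The same identity for a derivation given as a bare function. -/
theorem local_identity (φ : K →ₐ[k] L) (d : L → L) (hadd : ∀ a b, d (a + b) = d a + d b)
    (hleib : ∀ a b, d (a * b) = a * d b + b * d a) (hconst : ∀ c : k, d (algebraMap k L c) = 0)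
    (f : MvPolynomial (Fin 3) k) (e : ℕ) (hf : f.IsHomogeneous e)
    (x y : K) (hfxy : aeval ![(1 : K), x, y] f = 0)
    (A : Matrix (Fin 3) (Fin 3) k) (hA : A.det ≠ 0)
    (u : Fin 3 → K) (hu : ∀ i, ∑ j, algebraMap k K (A i j) * u j = ![(1 : K), x, y] i)
    (hu0 : u 0 ≠ 0)
    (hfy : (aeval ![(1 : K), x, y] (pderiv 2 f)) ≠ 0)
    (hfy' : (aeval ![(1 : K), u 1 / u 0, u 2 / u 0]
      (pderiv 2 (aeval (fun i : Fin 3 => ∑ j, C (A i j) * X j) f))) ≠ 0) :
    φ (aeval ![(1 : K), u 1 / u 0, u 2 / u 0]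
        (pderiv 2 (aeval (fun i : Fin 3 => ∑ j, C (A i j) * X j) f)))⁻¹ * d (φ (u 1 / u 0)) =
      φ (u 0 ^ (e - 1) / (u 0 ^ 2 * algebraMap k K A.det)) *
        (φ (aeval ![(1 : K), x, y] (pderiv 2 f))⁻¹ * d (φ x)) := by
  let d' : Derivation k L L :=
    { toFun := d
      map_add' := hadd
      map_smul' := fun c a => by
        rw [Algebra.smul_def, hleib, hconst, mul_zero, add_zero, RingHom.id_apply,
          Algebra.smul_def]
      map_one_eq_zero' := by
        have := hconst 1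
        rwa [map_one] at this
      leibniz' := fun a b => by
        rw [smul_eq_mul, smul_eq_mul]
        exact hleib a b }
  exact local_identity_aux φ d' f e hf x y hfxy A hA u hu hu0 hfy hfy'

end Groth.Agent.Lib.FFAdj58
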