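import Groth.Agent.Lib.H40FunFldPlucker
import Mathlib.Data.Set.Card
import Mathlib.FieldTheory.IntermediateField.Algebraic

set_option autoImplicit false
open FunFld Polynomial

namespace Groth.Agent.Lib.H40FunFld

open Groth.Agent.Lib.H40QuotChain IntermediateField

universe u v w
variable {k : Type u} {K : Type v} [Field k] [Field K] [Algebra k K]

/-- The place `P ∘ σ` for an automorphism `σ`. -/
def comapPlace (P : FunFld.Place k K) (σ : K ≃ₐ[k] K) : FunFld.Place k K :=
  ⟨P.1.comap (σ : K →+* K), fun c => by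
      rw [Valuation.comap_apply]
      have : (σ : K →+* K) (algebraMap k K c) = algebraMap k K c := σ.commutes c
      rw [this]; exact P.2.1 c,
    fun γ => by
      obtain ⟨x, hx⟩ := P.2.2 γ
      refine ⟨σ.symm x, ?_⟩
      rw [Valuation.comap_apply]
      have : (σ : K →+* K) (σ.symm x) = x := σ.apply_symm_apply x
      rw [this, hx]⟩

theorem comapPlace_apply (P : FunFld.Place k K) (σ : K ≃ₐ[k] K) (x : K) :
    (comapPlace P σ).1 x = P.1 (σ x) := rfl

/-- An automorphism mapping the maximal ideal of `P` into itself preserves the valuation at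
`P`. -/
theorem val_map_eq_of_fixed {P : FunFld.Place k K} {σ : K ≃ₐ[k] K}
    (h : ∀ x : K, P.1 x < 1 → P.1 (σ x) < 1) (x : K) : P.1 (σ x) = P.1 x := by
  have heq : comapPlace P σ = P := by
    apply eq_of_forall_le_one
    intro a ha
    rw [comapPlace_apply] at ha
    by_contra hlt
    push Not at hlt
    have ha0 : P.1 a ≠ 0 := fun h0 => by rw [h0] at hlt; exact not_lt.2 zero_le hlt
    have h1 : P.1 a⁻¹ < 1 := by
      rw [map_inv₀, inv_lt_one₀ (zero_lt_iff.2 ha0)]; exact hlt
    have h2 := h a⁻¹ h1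
    rw [map_inv₀, map_inv₀] at h2
    have hσ0 : P.1 (σ a) ≠ 0 := by
      have ha' : a ≠ 0 := (Valuation.ne_zero_iff _).1 ha0
      exact (Valuation.ne_zero_iff _).2 ((map_ne_zero_iff σ σ.injective).2 ha')
    rw [inv_lt_one₀ (zero_lt_iff.2 hσ0)] at h2
    exact not_lt.2 ha h2
  have := congrArg (fun Q : FunFld.Place k K => Q.1 x) heq
  simpa [comapPlace_apply] using this

/-- An automorphism fixing the places of `T ∪ {P}` fixes every function with a pole of order
less than `|T|` at `P` and no other pole. -/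
theorem map_eq_self_of_mem_L [IsAlgClosed k] (hK : FunFld.IsFunctionField k K) (σ : K ≃ₐ[k] K)
    {P : FunFld.Place k K} (hP : ∀ x : K, P.1 x < 1 → P.1 (σ x) < 1)
    {T : Finset (FunFld.Place k K)} (hT : ∀ Q ∈ T, ∀ x : K, Q.1 x < 1 → Q.1 (σ x) < 1)
    (hPT : P ∉ T) {n : ℕ} (hn : n < T.card) {x : K}
    (hx : x ∈ FunFld.L (Finsupp.single P (n : ℤ) : FunFld.Divisor k K)) : σ x = x := by
  classical
  rw [mem_L_single_iff] at hx
  have hfix := val_map_eq_of_fixed hP
  set u := σ x - x with hu
  have huL : u ∈ FunFld.L (Finsupp.single P (n : ℤ) - ∑ Q ∈ T, Finsupp.single Q (1 : ℤ) :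
      FunFld.Divisor k K) := by
    rw [mem_L_iff]
    intro R
    rw [Finsupp.sub_apply, sum_single_one_apply, Finsupp.single_apply]
    by_cases hRP : R = P
    · subst hRP
      rw [if_pos rfl, if_neg hPT, sub_zero]
      refine le_trans (Valuation.map_sub _ _ _) (max_le ?_ hx.1)
      rw [hfix]; exact hx.1
    · rw [if_neg (Ne.symm hRP), zero_sub]
      have hxR : R.1 x ≤ 1 := hx.2 R hRP
      by_cases hRT : R ∈ T
      · rw [if_pos hRT]
        obtain ⟨c, hc⟩ := exists_const_val_sub_lt_one (deg_eq_one_of_isAlgClosed hK R) hxR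
        have h1 := hT R hRT _ hc
        have h2 : u = σ (x - algebraMap k K c) - (x - algebraMap k K c) := by
          rw [hu, map_sub, σ.commutes]; ring
        rw [h2, ← lt_one_iff_le_exp_neg_one]
        exact lt_of_le_of_lt (Valuation.map_sub _ _ _) (max_lt h1 hc)
      · rw [if_neg hRT, neg_zero, WithZero.exp_zero]
        refine le_trans (Valuation.map_sub _ _ _) (max_le ?_ hxR)
        rw [← comapPlace_apply]
        apply hx.2
        intro hcon
        apply hRP
        apply Subtype.ext
        apply Valuation.ext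
        intro w
        have h1 : R.1 (σ (σ.symm w)) = P.1 (σ.symm w) := by
          rw [← comapPlace_apply, hcon]
        rw [σ.apply_symm_apply] at h1
        rw [h1, ← hfix (σ.symm w), σ.apply_symm_apply]
  have hdeg : FunFld.Divisor.deg (Finsupp.single P (n : ℤ) - ∑ Q ∈ T, Finsupp.single Q (1 : ℤ) :
      FunFld.Divisor k K) < 0 := by
    rw [deg_sub, deg_single, deg_eq_one_of_isAlgClosed hK P, deg_sum_single_one hK]
    push_cast
    have : (n : ℤ) < T.card := by exact_mod_cast hn
    linarith
  rw [L_eq_bot_of_deg_neg hK _ hdeg, Submodule.mem_bot] at huL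
  exact sub_eq_zero.1 huL

/-- The fixed field of an automorphism. -/
def fixedFieldOf (σ : K ≃ₐ[k] K) : IntermediateField k K where
  carrier := {z | σ z = z}
  mul_mem' := fun {a b} ha hb => by
    change σ (a * b) = a * b
    rw [map_mul, ha, hb]
  add_mem' := fun {a b} ha hb => by
    change σ (a + b) = a + b
    rw [map_add, ha, hb]
  algebraMap_mem' := fun c => σ.commutes c
  inv_mem' := fun a ha => by
    change σ a⁻¹ = a⁻¹
    rw [map_inv₀, ha]

theorem mem_fixedFieldOf (σ : K ≃ₐ[k] K) (z : K) : z ∈ fixedFieldOf σ ↔ σ z = z := Iff.rfl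

/-- Over an algebraically closed constant field an automorphism fixing more than `2g + 2` places
is the identity. -/
theorem algEquiv_eq_one_of_fixed [IsAlgClosed k] (hK : FunFld.IsFunctionField k K)
    (σ : K ≃ₐ[k] K)
    (h : ((2 * FunFld.genus k K + 2 : ℕ) : ℕ∞) <
      Set.encard {P : FunFld.Place k K | ∀ x : K, P.1 x < 1 → P.1 (σ x) < 1}) :
    σ = 1 := by
  classical
  set g := FunFld.genus k K with hg
  set F := {P : FunFld.Place k K | ∀ x : K, P.1 x < 1 → P.1 (σ x) < 1} with hF
  have hne : F.Nonempty := by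
    rw [← Set.encard_pos]
    exact lt_of_le_of_lt zero_le h
  obtain ⟨P, hPF⟩ := hne
  have h1 : ((2 * g + 2 : ℕ) : ℕ∞) ≤ (F \ {P}).encard := by
    have h2 := Set.encard_sdiff_singleton_add_one hPF
    rw [← h2] at h
    exact Order.le_of_lt_add_one h
  obtain ⟨T', hT'F, hT'card⟩ := Set.exists_subset_encard_eq h1
  have hT'fin : T'.Finite := Set.finite_of_encard_eq_coe hT'card
  set T := hT'fin.toFinset with hT
  have hTcard : T.card = 2 * g + 2 := by
    have := hT'fin.encard_eq_coe_toFinset_card
    rw [hT'card] at this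
    exact_mod_cast this.symm
  have hTF : ∀ Q ∈ T, ∀ x : K, Q.1 x < 1 → Q.1 (σ x) < 1 := by
    intro Q hQ
    have : Q ∈ T' := hT'fin.mem_toFinset.1 hQ
    exact (hT'F this).1
  have hPT : P ∉ T := by
    intro hP
    have : P ∈ T' := hT'fin.mem_toFinset.1 hP
    exact (hT'F this).2 rfl
  have hdegP := deg_eq_one_of_isAlgClosed hK P
  have hfixL : ∀ n : ℕ, n ≤ 2 * g + 1 → ∀ x ∈ FunFld.L (Finsupp.single P (n : ℤ) :
      FunFld.Divisor k K), x ∈ fixedFieldOf σ := by
    intro n hn x hx
    exact map_eq_self_of_mem_L hK σ hPF hTF hPT (by rw [hTcard]; omega) hx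
  have hell : ∀ n : ℕ, 2 * g ≤ n + 1 →
      (FunFld.ell (Finsupp.single P (n : ℤ) : FunFld.Divisor k K) : ℤ) = n + 1 - g := by
    intro n hn
    have hdeg : FunFld.Divisor.deg (Finsupp.single P (n : ℤ) : FunFld.Divisor k K) = n := by
      rw [deg_single, hdegP]; simp
    have := ell_eq_of_deg_ge hK (Finsupp.single P (n : ℤ)) (by rw [hdeg]; omega)
    rw [hdeg] at this
    exact this
  -- a function with exact pole order `n + 1` for `n + 1 ≥ 2g`
  have hexists : ∀ n : ℕ, 2 * g ≤ n + 1 → n + 1 ≤ 2 * g + 1 →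
      Module.finrank ↥(fixedFieldOf σ) K ∣ n + 1 := by
    intro n hn1 hn2
    have hfin := finiteDimensional_L hK (Finsupp.single P (n : ℤ) : FunFld.Divisor k K)
    have e1 := hell n (by omega)
    have e2 := hell (n + 1) (by omega)
    obtain ⟨x, hxB, hxA⟩ := exists_mem_not_mem_of_finrank_lt
      (A := FunFld.L (Finsupp.single P (n : ℤ) : FunFld.Divisor k K))
      (B := FunFld.L (Finsupp.single P ((n + 1 : ℕ) : ℤ) : FunFld.Divisor k K)) (by
        unfold FunFld.ell at e1 e2
        omega)
    have hxE := hfixL (n + 1) hn2 x hxB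
    have hxB' : x ∈ FunFld.L (Finsupp.single P ((n : ℤ) + 1) : FunFld.Divisor k K) := by
      have : ((n + 1 : ℕ) : ℤ) = (n : ℤ) + 1 := by push_cast; ring
      rwa [this] at hxB
    have hval := val_eq_of_mem_L_of_not_mem_L hxB' hxA
    have hval' : P.1 x = WithZero.exp ((n + 1 : ℕ) : ℤ) := by
      rw [hval]; congr 1
    have hrank := finrank_adjoin_eq_of_single_pole hK hdegP (Nat.succ_pos n) hval'
      ((mem_L_single_iff _ _ _).1 hxB).2
    have hle : k⟮x⟯ ≤ fixedFieldOf σ := by
      rw [adjoin_simple_le_iff]; exact hxE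
    have := finrank_dvd_of_le_left (L := K) hle
    rwa [hrank] at this
  have hd1 : Module.finrank ↥(fixedFieldOf σ) K ∣ 2 * g + 1 := hexists (2 * g) (by omega) le_rfl
  have hd : Module.finrank ↥(fixedFieldOf σ) K = 1 := by
    rcases Nat.eq_zero_or_pos g with h0 | hpos
    · rw [h0] at hd1
      exact Nat.dvd_one.1 hd1
    · have hd2 : Module.finrank ↥(fixedFieldOf σ) K ∣ 2 * g := by
        have := hexists (2 * g - 1) (by omega) (by omega)
        rwa [show 2 * g - 1 + 1 = 2 * g by omega] at this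
      have := (Nat.dvd_add_right hd2).1 hd1
      exact Nat.dvd_one.1 this
  have htop := finrank_eq_one_iff_eq_top.1 hd
  ext z
  have : z ∈ fixedFieldOf σ := by rw [htop]; exact mem_top
  exact this

end Groth.Agent.Lib.H40FunFld
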