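import Groth.Agent.Lib.H40FunFldWeil

/-!
# Function fields of one variable (`FunFld`): rational function fields, genus zero.
-/

set_option autoImplicit false
open FunFld Polynomial

namespace Groth.Agent.Lib.H40FunFld

open Groth.Agent.Lib.H40QuotChain IntermediateField

universe u v
variable {k : Type u} {K : Type v} [Field k] [Field K] [Algebra k K]

/-- An effective divisor of degree one is a place of degree one. -/
theorem exists_eq_single_of_deg_eq_one (hK : FunFld.IsFunctionField k K) {E : FunFld.Divisor k K}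
    (hE : 0 ≤ E) (hdeg : E.deg = 1) : ∃ P : FunFld.Place k K, E = Finsupp.single P 1 ∧ P.deg = 1 := by
  classical
  have hne : E ≠ 0 := by
    rintro rfl; rw [deg_zero] at hdeg; omega
  obtain ⟨P, hP⟩ : ∃ P, E P ≠ 0 := by
    by_contra h
    push Not at h
    exact hne (Finsupp.ext h)
  have hP' : 1 ≤ E P := by
    have := hE P
    rw [Finsupp.zero_apply] at this
    omega
  have h1 : Finsupp.single P 1 ≤ E := by
    intro Q
    rw [Finsupp.single_apply]
    split_ifs with h
    · subst h; exact hP'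
    · exact hE Q
  have h3 : (1 : ℤ) ≤ P.deg := by exact_mod_cast deg_pos hK P
  have h4 : (0 : FunFld.Divisor k K) ≤ E - Finsupp.single P 1 := sub_nonneg.2 h1
  have h5 := deg_nonneg h4
  rw [deg_sub, deg_single, hdeg, one_mul] at h5
  have h6 : (P.deg : ℤ) = 1 := by omega
  have h7 : (E - Finsupp.single P 1).deg = 0 := by
    rw [deg_sub, deg_single, hdeg, one_mul, h6]; ring
  have h8 := eq_zero_of_nonneg_of_deg_eq_zero hK h4 h7
  exact ⟨P, sub_eq_zero.1 h8, by exact_mod_cast h6⟩

theorem ord_zero (P : FunFld.Place k K) : P.ord (0 : K) = 0 := by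
  simp [FunFld.Place.ord]

theorem transcendental_of_ord_ne_zero (hK : FunFld.IsFunctionField k K) {x : K}
    {P : FunFld.Place k K} (h : P.ord x ≠ 0) : Transcendental k x := by
  intro halg
  apply h
  rw [← div_apply hK, div_eq_zero_of_isAlgebraic hK halg, Finsupp.zero_apply]

/-- An element with a single simple pole at a place of degree one generates `K`. -/
theorem adjoin_eq_top_of_simple_pole (hK : FunFld.IsFunctionField k K) {x : K}
    {P : FunFld.Place k K} (hP : P.deg = 1) (hx : P.ord x = -1)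
    (hQ : ∀ Q : FunFld.Place k K, Q ≠ P → 0 ≤ Q.ord x) : k⟮x⟯ = ⊤ := by
  classical
  have htr : Transcendental k x := transcendental_of_ord_ne_zero hK (P := P) (by rw [hx]; omega)
  have hpd : poleDiv (k := k) x = Finsupp.single P 1 := by
    ext Q
    rw [poleDiv_apply hK, Finsupp.single_apply]
    split_ifs with h
    · subst h; rw [hx]; rfl
    · have := hQ Q (Ne.symm h)
      omega
  have h1 := (deg_zeroDiv_eq_and_deg_poleDiv_eq hK htr).2
  rw [hpd, deg_single, hP] at h1
  apply finrank_eq_one_iff_eq_top.1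
  have : (Module.finrank k⟮x⟯ K : ℤ) = 1 := by rw [← h1]; simp
  exact_mod_cast this

theorem transcendental_of_adjoin_eq_top (hK : FunFld.IsFunctionField k K) {x : K}
    (h : k⟮x⟯ = ⊤) : Transcendental k x := by
  intro halg
  obtain ⟨c, rfl⟩ := hK.2 x halg
  obtain ⟨t, ht, -⟩ := hK.1
  have h1 : k⟮algebraMap k K c⟯ = ⊥ := by
    rw [IntermediateField.adjoin_simple_eq_bot_iff]
    exact IntermediateField.algebraMap_mem _ c
  have h2 : t ∈ (⊥ : IntermediateField k K) := by
    rw [← h1, h]; exact IntermediateField.mem_top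
  obtain ⟨d, rfl⟩ := IntermediateField.mem_bot.1 h2
  exact ht (isAlgebraic_algebraMap d)

theorem deg_poleDiv_of_adjoin_eq_top (hK : FunFld.IsFunctionField k K) {x : K}
    (h : k⟮x⟯ = ⊤) : (poleDiv (k := k) x).deg = 1 := by
  have htr := transcendental_of_adjoin_eq_top hK h
  have h1 := (deg_zeroDiv_eq_and_deg_poleDiv_eq hK htr).2
  rw [h1, finrank_eq_one_iff_eq_top.2 h]
  rfl

theorem exists_simple_pole_of_adjoin_eq_top (hK : FunFld.IsFunctionField k K) {x : K}
    (h : k⟮x⟯ = ⊤) : ∃ P : FunFld.Place k K, P.deg = 1 ∧ P.ord x = -1 ∧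
      ∀ Q : FunFld.Place k K, Q ≠ P → 0 ≤ Q.ord x := by
  classical
  obtain ⟨P, hP, hdeg⟩ := exists_eq_single_of_deg_eq_one hK (poleDiv_nonneg x)
    (deg_poleDiv_of_adjoin_eq_top hK h)
  refine ⟨P, hdeg, ?_, fun Q hQ => ?_⟩
  · have := poleDiv_apply hK x P
    rw [hP, Finsupp.single_eq_same] at this
    omega
  · have := poleDiv_apply hK x Q
    rw [hP, Finsupp.single_apply, if_neg (Ne.symm hQ)] at this
    omega

theorem pow_mem_L_nsmul_poleDiv (hK : FunFld.IsFunctionField k K) (x : K) {r i : ℕ} (hi : i ≤ r) :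
    x ^ i ∈ FunFld.L (r • poleDiv (k := k) x) := by
  intro P
  have hB0 : (0 : ℤ) ≤ poleDiv (k := k) x P := poleDiv_nonneg x P
  have h1 : P.1 x ≤ WithZero.exp (poleDiv (k := k) x P) := val_le_exp_poleDiv hK x P
  have h2 : (1 : WithZero (Multiplicative ℤ)) ≤ WithZero.exp (poleDiv (k := k) x P) := by
    rw [← WithZero.exp_zero, WithZero.exp_le_exp]; exact hB0
  rw [map_pow, Finsupp.smul_apply]
  calc P.1 x ^ i ≤ WithZero.exp (poleDiv (k := k) x P) ^ i := pow_le_pow_left₀ zero_le h1 _
    _ ≤ WithZero.exp (poleDiv (k := k) x P) ^ r := pow_le_pow_right₀ h2 hi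
    _ = WithZero.exp (r • poleDiv (k := k) x P) := by rw [WithZero.exp_nsmul]

theorem succ_le_ell_nsmul_poleDiv (hK : FunFld.IsFunctionField k K) {x : K}
    (hx : Transcendental k x) (r : ℕ) : r + 1 ≤ FunFld.ell (r • poleDiv (k := k) x) := by
  have := finiteDimensional_L hK (r • poleDiv (k := k) x)
  have h1 := (linearIndependent_pow_of_transcendental hx).comp (fun i : Fin (r + 1) => (i : ℕ))
    Fin.val_injective
  let w : Fin (r + 1) → ↥(FunFld.L (r • poleDiv (k := k) x)) :=
    fun i => ⟨x ^ (i : ℕ), pow_mem_L_nsmul_poleDiv hK x (by have := i.2; omega)⟩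
  have hw : LinearIndependent k w := by
    apply LinearIndependent.of_comp (FunFld.L (r • poleDiv (k := k) x)).subtype
    exact h1
  have := hw.fintype_card_le_finrank
  rwa [Fintype.card_fin] at this

/-- A rational function field has genus zero. -/
theorem genus_eq_zero_of_adjoin_eq_top (hK : FunFld.IsFunctionField k K) {x : K}
    (h : k⟮x⟯ = ⊤) : FunFld.genus k K = 0 := by
  have htr := transcendental_of_adjoin_eq_top hK h
  obtain ⟨N, hN⟩ := exists_forall_delta_eq_genus hK
  have hdeg : ((N.toNat) • poleDiv (k := k) x).deg = N.toNat := by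
    rw [deg_nsmul, deg_poleDiv_of_adjoin_eq_top hK h, mul_one]
  have h1 := hN (N.toNat • poleDiv (k := k) x) (by rw [hdeg]; exact Int.self_le_toNat N)
  have h2 := succ_le_ell_nsmul_poleDiv hK htr N.toNat
  unfold delta at h1
  rw [hdeg] at h1
  have h3 : ((N.toNat + 1 : ℕ) : ℤ) ≤ FunFld.ell (N.toNat • poleDiv (k := k) x) := by
    exact_mod_cast h2
  push_cast at h3
  have : (FunFld.genus k K : ℤ) ≤ 0 := by linarith
  have h4 : (0 : ℤ) ≤ FunFld.genus k K := Int.natCast_nonneg _
  have : (FunFld.genus k K : ℤ) = 0 := le_antisymm this h4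
  exact_mod_cast this

/-- In genus zero, a place of degree one is the simple pole of some function. -/
theorem exists_simple_pole_of_genus_eq_zero (hK : FunFld.IsFunctionField k K)
    (hg : FunFld.genus k K = 0) {P : FunFld.Place k K} (hP : P.deg = 1) :
    ∃ x : K, P.ord x = -1 ∧ ∀ Q : FunFld.Place k K, Q ≠ P → 0 ≤ Q.ord x := by
  classical
  have hdeg : FunFld.Divisor.deg (Finsupp.single P 1 : FunFld.Divisor k K) = 1 := by
    rw [deg_single, hP]; rfl
  have h1 := ell_eq_of_deg_ge hK (Finsupp.single P 1) (by rw [hg, hdeg]; norm_num)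
  rw [hdeg, hg] at h1
  have h2 : FunFld.ell (Finsupp.single P 1 : FunFld.Divisor k K) = 2 := by
    have : (FunFld.ell (Finsupp.single P 1 : FunFld.Divisor k K) : ℤ) = 2 := by
      rw [h1]; norm_num
    exact_mod_cast this
  -- an element of `L(P)` outside `k`
  have hex : ∃ x ∈ FunFld.L (Finsupp.single P 1 : FunFld.Divisor k K),
      x ∉ FunFld.L (0 : FunFld.Divisor k K) := by
    by_contra hcon
    push Not at hcon
    have hle : FunFld.L (Finsupp.single P 1 : FunFld.Divisor k K) ≤ FunFld.L 0 := hcon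
    have := finiteDimensional_L hK (0 : FunFld.Divisor k K)
    have h3 := Submodule.finrank_mono hle
    have h4 := ell_zero hK
    unfold FunFld.ell at h2 h4
    omega
  obtain ⟨x, hxL, hx0⟩ := hex
  have hxk : x ∉ Set.range (algebraMap k K) := by
    rw [L_zero_eq_one hK] at hx0
    intro hx
    exact hx0 (Submodule.mem_one.2 hx)
  have hxne : x ≠ 0 := fun h => hxk ⟨0, by rw [map_zero, h]⟩
  have hnn := (mem_L_iff_nonneg hK _ hxne).1 hxL
  have hord : ∀ Q : FunFld.Place k K, 0 ≤ (if P = Q then 1 else 0) + Q.ord x := by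
    intro Q
    have := hnn Q
    rwa [Finsupp.add_apply, Finsupp.single_apply, div_apply hK, Finsupp.zero_apply] at this
  obtain ⟨-, ⟨Q, hQ⟩⟩ := exists_zero_and_exists_pole hK x hxk
  have hQP : P = Q := by
    by_contra hne
    have := hord Q
    rw [if_neg hne] at this
    omega
  subst hQP
  refine ⟨x, ?_, fun Q hQ' => ?_⟩
  · have := hord P
    rw [if_pos rfl] at this
    omega
  · have := hord Q
    rw [if_neg (Ne.symm hQ')] at this
    omega

end Groth.Agent.Lib.H40FunFld
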