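import Groth.Agent.Lib.H40FunFldWeil
import Groth.Agent.Lib.H40FunFldRational

set_option autoImplicit false
set_option linter.style.haveILetI false
set_option linter.unusedSectionVars false
open FunFld Polynomial

namespace Groth.Agent.Lib.H40FunFld

open IntermediateField

universe u v
variable {k : Type u} {K : Type v} [Field k] [Field K] [Algebra k K]

/-- Polynomials of degree `≤ r` in `x` lie in `L(r (x)_∞)`. -/
theorem aeval_mem_L_nsmul_poleDiv (hK : FunFld.IsFunctionField k K) (x : K) {r : ℕ} {p : k[X]}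
    (hp : p ∈ Polynomial.degreeLT k (r + 1)) :
    aeval x p ∈ FunFld.L (r • poleDiv (k := k) x) := by
  rw [Polynomial.mem_degreeLT] at hp
  rw [aeval_eq_sum_range' (n := r + 1) (by
    rcases eq_or_ne p 0 with h0 | h0
    · rw [h0, natDegree_zero]; omega
    · exact (natDegree_lt_iff_degree_lt h0).2 hp)]
  apply Submodule.sum_mem
  intro i hi
  apply Submodule.smul_mem
  exact pow_mem_L_nsmul_poleDiv hK x (by have := Finset.mem_range.1 hi; omega)

/-- Products: `L(D) · L(E) ⊆ L(D + E)`. -/
theorem mul_mem_L_add {D E : FunFld.Divisor k K} {a b : K} (ha : a ∈ FunFld.L D)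
    (hb : b ∈ FunFld.L E) : a * b ∈ FunFld.L (D + E) := by
  intro P
  rw [map_mul, Finsupp.add_apply, WithZero.exp_add]
  exact mul_le_mul' (ha P) (hb P)

/-- A case of Riemann's inequality: if `[K : k(x)] = 2` and `y ∉ k(x)` then
`g ≤ [K : k(y)] - 1`. -/
theorem genus_add_one_le_deg_poleDiv (hK : FunFld.IsFunctionField k K) {x y : K}
    (hx : Transcendental k x) (hy : y ∉ k⟮x⟯) (h2 : (poleDiv (k := k) x).deg = 2) :
    (FunFld.genus k K : ℤ) + 1 ≤ (poleDiv (k := k) y).deg := by
  set g := FunFld.genus k K with hg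
  set A := poleDiv (k := k) x with hA
  set B := poleDiv (k := k) y with hB
  have hB0 : 0 ≤ B.deg := deg_nonneg (poleDiv_nonneg y)
  set l : ℕ := g with hl
  set D : FunFld.Divisor k K := l • A + B with hD
  have hdegD : D.deg = 2 * l + B.deg := by
    rw [hD, deg_add, deg_nsmul, h2]; ring
  have hfin := finiteDimensional_L hK D
  -- the injective map
  let V := Polynomial.degreeLT k (l + 1)
  let φ : (V × V) →ₗ[k] K :=
    ((aeval x : k[X] →ₐ[k] K).toLinearMap ∘ₗ V.subtype) ∘ₗ LinearMap.fst k V V +
      (LinearMap.mulRight k y ∘ₗ (aeval x : k[X] →ₐ[k] K).toLinearMap ∘ₗ V.subtype) ∘ₗ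
        LinearMap.snd k V V
  have hφ : ∀ v : V × V, φ v = aeval x (v.1 : k[X]) + aeval x (v.2 : k[X]) * y := fun v => rfl
  have hmem : ∀ v : V × V, φ v ∈ FunFld.L D := by
    intro v
    rw [hφ]
    apply Submodule.add_mem
    · apply L_mono (show l • A ≤ D from ?_) (aeval_mem_L_nsmul_poleDiv hK x v.1.2)
      rw [hD]
      exact le_add_of_nonneg_right (poleDiv_nonneg y)
    · apply mul_mem_L_add (aeval_mem_L_nsmul_poleDiv hK x v.2.2)
      intro P
      exact val_le_exp_poleDiv hK y P
  have hinj : Function.Injective (φ.codRestrict (FunFld.L D) hmem) := by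
    rw [← LinearMap.ker_eq_bot, LinearMap.ker_eq_bot']
    intro v hv
    have hv' : φ v = 0 := congrArg Subtype.val hv
    rw [hφ] at hv'
    have hq : (v.2 : k[X]) = 0 := by
      by_contra hq0
      have h1 : aeval x (v.2 : k[X]) ≠ 0 := by
        intro h0
        exact hq0 ((transcendental_iff_injective.1 hx) (by rw [h0, map_zero]))
      apply hy
      have h3 : y = -(aeval x (v.1 : k[X])) / aeval x (v.2 : k[X]) := by
        field_simp
        linear_combination hv'
      rw [h3]
      have hmemx : ∀ p : k[X], aeval x p ∈ k⟮x⟯ := fun p =>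
        IntermediateField.algebra_adjoin_le_adjoin k {x} (aeval_mem_adjoin_singleton k x)
      exact div_mem (neg_mem (hmemx _)) (hmemx _)
    have hp : (v.1 : k[X]) = 0 := by
      rw [hq, map_zero, zero_mul, add_zero] at hv'
      exact (transcendental_iff_injective.1 hx) (by rw [hv', map_zero])
    exact Prod.ext (Subtype.ext hp) (Subtype.ext hq)
  have hdim := LinearMap.finrank_le_finrank_of_injective hinj
  have hV : Module.finrank k V = l + 1 := by
    rw [(Polynomial.degreeLTEquiv k (l + 1)).finrank_eq, Module.finrank_fin_fun]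
  haveI : Module.Finite k V := Module.Finite.equiv (Polynomial.degreeLTEquiv k (l + 1)).symm
  rw [Module.finrank_prod, hV] at hdim
  have hRR := ell_eq_of_deg_ge hK D (by rw [hdegD]; linarith)
  have hdim' : ((l + 1 + (l + 1) : ℕ) : ℤ) ≤ (FunFld.ell D : ℤ) := by
    exact_mod_cast hdim
  rw [hRR, hdegD] at hdim'
  push_cast at hdim'
  linarith

/-- If `K` has finite degree `> 1` over `k(x)` then `x` is transcendental. -/
theorem transcendental_of_one_lt_finrank_adjoin (hK : FunFld.IsFunctionField k K) {x : K}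
    (h : 1 < Module.finrank k⟮x⟯ K) : Transcendental k x := by
  intro halg
  have hxk : x ∈ (⊥ : IntermediateField k K) := by
    rw [IntermediateField.mem_bot]
    exact hK.2 x halg
  have hbot : k⟮x⟯ = ⊥ := adjoin_simple_eq_bot_iff.2 hxk
  rw [hbot, IntermediateField.finrank_bot'] at h
  haveI : FiniteDimensional k K := Module.finite_of_finrank_pos (by omega)
  obtain ⟨t, ht, -⟩ := hK.1
  exact ht (Algebra.IsAlgebraic.isAlgebraic t)

/-- A function field of genus `≥ 2` has at most one rational subfield of index two. -/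
theorem adjoin_eq_adjoin_of_finrank_eq_two (hK : FunFld.IsFunctionField k K)
    (hg : 2 ≤ FunFld.genus k K) {x x' : K} (hx : Module.finrank k⟮x⟯ K = 2)
    (hx' : Module.finrank k⟮x'⟯ K = 2) : k⟮x⟯ = k⟮x'⟯ := by
  by_contra hne
  have htr : Transcendental k x := transcendental_of_one_lt_finrank_adjoin hK (by omega)
  have htr' : Transcendental k x' := transcendental_of_one_lt_finrank_adjoin hK (by omega)
  haveI : FiniteDimensional k⟮x'⟯ K := Module.finite_of_finrank_pos (by omega)
  have hnot : x' ∉ k⟮x⟯ := by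
    intro hmem
    have hle : k⟮x'⟯ ≤ k⟮x⟯ := adjoin_simple_le_iff.2 hmem
    exact hne (IntermediateField.eq_of_le_of_finrank_eq' hle (by rw [hx, hx'])).symm
  have h1 := (deg_zeroDiv_eq_and_deg_poleDiv_eq hK htr).2
  have h2 := (deg_zeroDiv_eq_and_deg_poleDiv_eq hK htr').2
  rw [hx] at h1
  rw [hx'] at h2
  have h3 := genus_add_one_le_deg_poleDiv hK htr hnot (by exact_mod_cast h1)
  rw [h2] at h3
  have : (FunFld.genus k K : ℤ) ≤ 1 := by push_cast at h3; linarith
  have : FunFld.genus k K ≤ 1 := by exact_mod_cast this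
  omega

end Groth.Agent.Lib.H40FunFld
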