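import Groth.Agent.Lib.FFWP58c
import Groth.Agent.Lib.H40FunFldAut
import Groth.Agent.Lib.H40FunFldRiemannIneq

/-!
# The Weierstrass points dichotomy (helper58)

`weierstrass_dichotomy` (S12618).
-/

set_option autoImplicit false

namespace Groth.Agent.Lib.FFExp58

open FunFld Groth.Agent.Lib.H40FunFld IntermediateField

universe u v

variable {k : Type u} {K : Type v} [Field k] [Field K] [Algebra k K]

/-- A function with a double pole at `P` and no other pole generates a subfield of index `2`. -/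
theorem finrank_adjoin_of_double_pole [IsAlgClosed k] (hK : FunFld.IsFunctionField k K)
    (P : FunFld.Place k K) {x : K} (hv : P.1 x = WithZero.exp (2 : ℤ))
    (hQ : ∀ Q : FunFld.Place k K, Q ≠ P → Q.1 x ≤ 1) :
    Module.finrank k⟮x⟯ K = 2 := by
  classical
  have htr : Transcendental k x := by
    intro halg
    obtain ⟨c, rfl⟩ := hK.2 x halg
    have h1 := P.2.1 c
    rw [hv, ← WithZero.exp_zero, WithZero.exp_le_exp] at h1
    omega
  have hpole : poleDiv (k := k) x = Finsupp.single P 2 := by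
    ext Q
    rw [poleDiv_apply hK x Q]
    by_cases hQP : Q = P
    · subst hQP
      rw [Finsupp.single_eq_same]
      unfold FunFld.Place.ord
      rw [hv, WithZero.log_exp]
      norm_num
    · rw [Finsupp.single_eq_of_ne hQP]
      have := ord_nonneg (P := Q) (hQ Q hQP)
      omega
  have h2 := (deg_zeroDiv_eq_and_deg_poleDiv_eq hK htr).2
  rw [hpole, deg_single, deg_eq_one_of_isAlgClosed hK P] at h2
  have : (2 : ℤ) = (Module.finrank k⟮x⟯ K : ℤ) := by simpa using h2
  exact_mod_cast this.symm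

theorem weierstrass_dichotomy [IsAlgClosed k]
    (hK : FunFld.IsFunctionField k K) (hg : 1 < FunFld.genus k K)
    (hchar : ringChar k = 0 ∨ 2 * FunFld.genus k K - 2 < ringChar k)
    (C : FunFld.Divisor k K) (hC : FunFld.IsCanonical k K C)
    {n : ℕ} (φ : Fin (n + 1) → K) (hφ : LinearIndependent k φ)
    (hspan : Submodule.span k (Set.range φ) = FunFld.L C)
    (s : K) (H : K →ₐ[k] PowerSeries K) (hH : LocRes.IsHasseFamily s H)
    (J : Fin n → ℕ) (hJ : FunFld.IsOrders K (FunFld.hcol (AlgHom.id k K) H φ) J)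
    (Φ : FunFld.Place k K → (K →ₐ[k] LaurentSeries k))
    (hΦ : ∀ P : FunFld.Place k K, LocRes.IsExpansionAt P.1 (Φ P)) :
    (2 * FunFld.genus k K + 2 < Set.ncard {P : FunFld.Place k K | FunFld.wDiv (AlgHom.id k K) H Φ s φ J P ≠ 0} ∧
      ∀ σ : K ≃ₐ[k] K, (∀ P : FunFld.Place k K, FunFld.wDiv (AlgHom.id k K) H Φ s φ J P ≠ 0 →
        FunFld.IsFixedPt (σ : K →ₐ[k] K) P) → σ = AlgEquiv.refl) ∨
    (Set.ncard {P : FunFld.Place k K | FunFld.wDiv (AlgHom.id k K) H Φ s φ J P ≠ 0} = 2 * FunFld.genus k K + 2 ∧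
      ∃ x : K, Module.finrank (IntermediateField.adjoin k ({x} : Set K)) K = 2 ∧
        ∀ σ : K ≃ₐ[k] K, (∀ P : FunFld.Place k K, FunFld.wDiv (AlgHom.id k K) H Φ s φ J P ≠ 0 →
          FunFld.IsFixedPt (σ : K →ₐ[k] K) P) ↔ σ x = x) := by
  classical
  have hgen : 0 < FunFld.genus k K := by omega
  have hcharZ : ringChar k = 0 ∨ 2 * (FunFld.genus k K : ℤ) - 2 < ringChar k := by
    rcases hchar with h | h
    · exact Or.inl h
    · right
      have : ((2 * FunFld.genus k K - 2 : ℕ) : ℤ) < (ringChar k : ℤ) := by exact_mod_cast h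
      rw [Nat.cast_sub (by omega)] at this
      push_cast at this
      exact this
  have hdegφ : (FunFld.mapDiv k φ).deg = 2 * (FunFld.genus k K : ℤ) - 2 := by
    rw [mapDiv_canonical hK hgen C hC φ hφ hspan, deg_canonical hK hC]
  have hJeq : J = fun l : Fin n => (l : ℕ) + 1 :=
    orders_classical hK φ hφ (by rw [hdegφ]; exact hcharZ) s H hH J hJ
  subst hJeq
  obtain ⟨hn, hdegW⟩ := deg_wDiv_canonical hK hgen C hC φ hφ hspan s H hH Φ hΦ
  set W := FunFld.wDiv (AlgHom.id k K) H Φ s φ (fun l : Fin n => (l : ℕ) + 1) with hWdef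
  set M : ℤ := ∑ l : Fin n, (((l : ℕ) + 1 : ℕ) : ℤ) with hM
  have hn0 : 0 < n := by omega
  have hMpos : 0 < M := by
    apply Finset.sum_pos
    · intro l _
      positivity
    · exact ⟨⟨0, hn0⟩, Finset.mem_univ _⟩
  -- weights
  have hw : ∀ P, W P ≤ M ∧ (W P = M → ¬ IsGap P 2) := by
    intro P
    obtain ⟨J', hJ's, hJ'1, hiff, hWP⟩ :=
      canonical_weight hK hgen hcharZ C hC φ hφ hspan s H hH hJ Φ hΦ P
    have := weight_le (isGap_one hK hgen P) hn0 J' hJ's hJ'1 hiff
    rw [hWP]
    exact this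
  -- the set of Weierstrass points
  have hseteq : {P : FunFld.Place k K | W P ≠ 0} = ↑W.support := by
    ext P
    simp [Finsupp.mem_support_iff]
  have hcard : Set.ncard {P : FunFld.Place k K | W P ≠ 0} = W.support.card := by
    rw [hseteq, Set.ncard_coe_finset]
  -- counting
  have hsum : W.deg = ∑ P ∈ W.support, W P :=
    deg_eq_sum_of_support_subset hK W (Finset.Subset.refl _)
  have hcount : (2 * (FunFld.genus k K : ℤ) + 2) * M ≤ (W.support.card : ℤ) * M := by
    rw [← hdegW, hsum]
    calc ∑ P ∈ W.support, W P ≤ ∑ _P ∈ W.support, M := Finset.sum_le_sum fun P _ => (hw P).1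
      _ = (W.support.card : ℤ) * M := by rw [Finset.sum_const, nsmul_eq_mul]
  have hcard_ge : 2 * FunFld.genus k K + 2 ≤ W.support.card := by
    have := le_of_mul_le_mul_right hcount hMpos
    exact_mod_cast this
  rcases Nat.lt_or_eq_of_le hcard_ge with hgt | heq
  · left
    refine ⟨by rw [hcard]; exact hgt, ?_⟩
    intro σ hσ
    have h1 : σ = 1 := by
      apply algEquiv_eq_one_of_fixed hK σ
      calc ((2 * FunFld.genus k K + 2 : ℕ) : ℕ∞) < (W.support.card : ℕ∞) := by exact_mod_cast hgt
        _ = (↑W.support : Set (FunFld.Place k K)).encard :=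
            (Set.encard_coe_eq_coe_finsetCard _).symm
        _ ≤ _ := Set.encard_le_encard fun P hP =>
            hσ P (Finsupp.mem_support_iff.mp (Finset.mem_coe.mp hP))
    exact h1
  · right
    refine ⟨by rw [hcard, ← heq], ?_⟩
    -- all weights are maximal
    have hall : ∀ P ∈ W.support, W P = M := by
      have hz : ∑ P ∈ W.support, (M - W P) = 0 := by
        rw [Finset.sum_sub_distrib, Finset.sum_const, nsmul_eq_mul, ← hsum, hdegW, ← heq]
        push_cast
        ring
      have hnn : ∀ P ∈ W.support, 0 ≤ M - W P := fun P _ => sub_nonneg.mpr (hw P).1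
      intro P hP
      have := (Finset.sum_eq_zero_iff_of_nonneg hnn).mp hz P hP
      omega
    have hnogap : ∀ P ∈ W.support, ¬ IsGap P 2 := fun P hP => (hw P).2 (hall P hP)
    have hne : W.support.Nonempty := Finset.card_pos.mp (by omega)
    obtain ⟨P₁, hP₁⟩ := hne
    obtain ⟨x, hvx, hQx⟩ := (not_isGap_iff P₁ 2).mp (hnogap P₁ hP₁)
    have hfin2 : Module.finrank k⟮x⟯ K = 2 :=
      finrank_adjoin_of_double_pole hK P₁ (by simpa using hvx) hQx
    refine ⟨x, hfin2, fun σ => ⟨fun hσ => ?_, fun hσx P hP => ?_⟩⟩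
    · -- `σ x = x`
      have hfix : ∀ Q ∈ W.support, ∀ z : K, Q.1 z < 1 → Q.1 (σ z) < 1 := fun Q hQ =>
        hσ Q (Finsupp.mem_support_iff.mp hQ)
      apply map_eq_self_of_mem_L hK σ (hfix P₁ hP₁) (T := W.support.erase P₁)
        (fun Q hQ => hfix Q (Finset.mem_of_mem_erase hQ)) (Finset.notMem_erase _ _) (n := 2)
        (by rw [Finset.card_erase_of_mem hP₁, ← heq]; omega)
      intro Q
      by_cases hQP : Q = P₁
      · subst hQP
        rw [Finsupp.single_eq_same]
        exact hvx.le
      · rw [Finsupp.single_eq_of_ne hQP, WithZero.exp_zero]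
        exact hQx Q hQP
    · -- `σ` fixes `P`
      have hP' : P ∈ W.support := Finsupp.mem_support_iff.mpr hP
      obtain ⟨x', hvx', hQx'⟩ := (not_isGap_iff P 2).mp (hnogap P hP')
      have hfin2' : Module.finrank k⟮x'⟯ K = 2 :=
        finrank_adjoin_of_double_pole hK P (by simpa using hvx') hQx'
      have heqF := adjoin_eq_adjoin_of_finrank_eq_two hK (by omega) hfin2 hfin2'
      have hx'mem : x' ∈ k⟮x⟯ := heqF ▸ IntermediateField.mem_adjoin_simple_self k x'
      have hle : k⟮x⟯ ≤ fixedFieldOf σ := by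
        rw [IntermediateField.adjoin_simple_le_iff]
        exact hσx
      have hσx' : σ x' = x' := hle hx'mem
      have hQ : comapPlace P σ = P := by
        by_contra hne
        have h1 := hQx' (comapPlace P σ) hne
        rw [comapPlace_apply, hσx', hvx', ← WithZero.exp_zero, WithZero.exp_le_exp] at h1
        omega
      intro z hz
      have h2 := congrArg (fun Q : FunFld.Place k K => Q.1 z) hQ
      simp only [comapPlace_apply] at h2
      show P.1 (σ z) < 1
      rw [h2]
      exact hz

end Groth.Agent.Lib.FFExp58
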