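import Groth.Agent.Lib.FFWeil58g

/-!
# Weil differentials are the differentials `u dv` (helper58)

* `mulW_omegaDiff`: `x · ω_{u dv} = ω_{xu dv}`.
* `existsUnique_omegaDiff` (S12628): every Weil differential is `ω_{u dv}` for exactly one `u`.
* `finrank_differentials_ge` (S12629): `dim {y | (y dv) ≥ D} = dim W(D)`.
* `genus_one_differential` (S12631).
-/

set_option autoImplicit false

namespace Groth.Agent.Lib.FPTr58

open FunFld LaurentSeries HahnSeries Groth.Agent.Lib.H40FunFld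

universe u v w

variable {k : Type u} {K : Type v} [Field k] [Field K] [Algebra k K]
  {F : FunFld.Place k K → Type w} [∀ P, Field (F P)] [∀ P, Algebra k (F P)]
  [∀ P, FiniteDimensional k (F P)]
  {φ : ∀ P, K →ₐ[k] LaurentSeries (F P)}

theorem mulW_omegaDiff (hK : FunFld.IsFunctionField k K)
    (hφ : ∀ P, LocRes.IsExpansionAt P.1 (φ P)) (u v x : K)
    (hx : ∀ a ∈ FunFld.adele k K, x • a ∈ FunFld.adele k K) :
    FunFld.mulW x hx (omegaDiff hK hφ u v) = omegaDiff hK hφ (x * u) v := by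
  apply LinearMap.ext
  intro a
  rw [mulW_apply, omegaDiff_apply, omegaDiff_apply]
  refine finsum_congr fun P => ?_
  show LocRes.locRes (φ P) (x • (a : FunFld.Place k K → K) P * u) v = _
  rw [smul_eq_mul, mul_comm x, mul_assoc]

/-- The canonical divisor `(dv)`. -/
theorem exists_divisor_of_differential (hK : FunFld.IsFunctionField k K)
    (hg : FunFld.IsGeometric k K) (hφ : ∀ P, LocRes.IsExpansionAt P.1 (φ P))
    {v : K} (hv : KaehlerDifferential.D k K v ≠ 0) :
    ∃ C : FunFld.Divisor k K, (∀ P, C P = LocRes.ordDiff (φ P) 1 v) ∧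
      FunFld.IsDivOf (omegaDiff hK hφ 1 v) C ∧ FunFld.IsCanonical k K C ∧
      ∀ y : K, y ∈ FunFld.L C ↔ ∀ P, LocRes.vDiff (φ P) y v ≤ 1 := by
  classical
  obtain ⟨hfin, hdiv⟩ := weil_of_differential hK hg hφ (one_ne_zero (α := K)) hv
  refine ⟨Finsupp.ofSupportFinite _ hfin, fun P => rfl, hdiv _ (fun P => rfl),
    ⟨omegaDiff hK hφ 1 v, omegaDiff_ne_zero hK hg hφ one_ne_zero hv, hdiv _ (fun P => rfl)⟩, ?_⟩
  intro y
  show (∀ P : FunFld.Place k K, P.1 y ≤ WithZero.exp (LocRes.ordDiff (φ P) 1 v)) ↔ _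
  refine forall_congr' fun P => ?_
  rw [vDiff_eq_mul hφ P y v, vDiff_eq_exp P (vDiff_ne_zero hK hg hφ one_ne_zero hv P),
    WithZero.exp_neg, ← div_eq_mul_inv,
    div_le_iff₀ (zero_lt_iff.mpr WithZero.exp_ne_zero), one_mul]

theorem existsUnique_omegaDiff (hK : FunFld.IsFunctionField k K)
    (hg : FunFld.IsGeometric k K) (hφ : ∀ P, LocRes.IsExpansionAt P.1 (φ P))
    {v : K} (hv : KaehlerDifferential.D k K v ≠ 0)
    (ω : Module.Dual k (FunFld.adele k K)) (hω : FunFld.IsWeil ω) :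
    ∃! u : K, ∀ a : FunFld.adele k K,
      (Function.support fun P => LocRes.locRes (φ P) ((a : FunFld.Place k K → K) P * u) v).Finite ∧
        ω a = ∑ᶠ P, LocRes.locRes (φ P) ((a : FunFld.Place k K → K) P * u) v := by
  have h : ∀ (x : K), ∀ a ∈ FunFld.adele k K, x • a ∈ FunFld.adele k K :=
    fun x a ha => smul_mem_adele hK x ha
  have hW := omegaDiff_isWeil hK hg hφ (one_ne_zero (α := K)) hv
  have h0 := omegaDiff_ne_zero hK hg hφ (one_ne_zero (α := K)) hv
  have hmul : ∀ u : K, mulWLin h (omegaDiff hK hφ 1 v) u = omegaDiff hK hφ u v := by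
    intro u
    rw [mulWLin_apply, mulW_omegaDiff, mul_one]
  obtain ⟨x, hx⟩ := exists_mulW_eq hK h hW h0 hω
  refine ⟨x, fun a => ⟨finite_support_locRes_adele hK hφ x v a.2, ?_⟩, ?_⟩
  · rw [← hx, mulW_omegaDiff, mul_one]
    rfl
  · intro u hu
    apply mulWLin_injective hK h h0
    rw [hmul, hmul]
    apply LinearMap.ext
    intro a
    rw [omegaDiff_apply, ← (hu a).2, ← hx, mulW_omegaDiff, mul_one]

theorem finrank_differentials_ge (hK : FunFld.IsFunctionField k K)
    (hg : FunFld.IsGeometric k K) (hφ : ∀ P, LocRes.IsExpansionAt P.1 (φ P))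
    {v : K} (hv : KaehlerDifferential.D k K v ≠ 0) (D : FunFld.Divisor k K) :
    Module.finrank k
        (Submodule.span k {y : K | ∀ P, LocRes.vDiff (φ P) y v ≤ WithZero.exp (-(D P))}) =
      Module.finrank k (FunFld.WD D) := by
  have h : ∀ (x : K), ∀ a ∈ FunFld.adele k K, x • a ∈ FunFld.adele k K :=
    fun x a ha => smul_mem_adele hK x ha
  obtain ⟨C, hC, hdiv, hcan, -⟩ := exists_divisor_of_differential hK hg hφ hv
  have h0 := omegaDiff_ne_zero hK hg hφ (one_ne_zero (α := K)) hv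
  have hset : {y : K | ∀ P, LocRes.vDiff (φ P) y v ≤ WithZero.exp (-(D P))} =
      (FunFld.L (C - D) : Set K) := by
    ext y
    simp only [Set.mem_ofPred_eq, SetLike.mem_coe]
    show _ ↔ ∀ P : FunFld.Place k K, P.1 y ≤ WithZero.exp ((C - D) P)
    refine forall_congr' fun P => ?_
    rw [vDiff_eq_mul hφ P y v, vDiff_eq_exp P (vDiff_ne_zero hK hg hφ one_ne_zero hv P),
      ← hC P, WithZero.exp_neg, ← div_eq_mul_inv,
      div_le_iff₀ (zero_lt_iff.mpr WithZero.exp_ne_zero), ← WithZero.exp_add, Finsupp.sub_apply]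
    rw [show -(D P) + C P = C P - D P by ring]
  rw [hset, Submodule.span_eq, ← map_mulWLin_eq hK h hdiv D, finrank_map_mulWLin hK h h0]
  rfl

theorem genus_one_differential (hK : FunFld.IsFunctionField k K)
    (hg : FunFld.IsGeometric k K) (h1 : FunFld.genus k K = 1)
    (hφ : ∀ P, LocRes.IsExpansionAt P.1 (φ P))
    {v : K} (hv : KaehlerDifferential.D k K v ≠ 0) :
    (∃ u : K, u ≠ 0 ∧ ∀ P, LocRes.vDiff (φ P) u v = 1) ∧
      ∀ u u' : K, u ≠ 0 → (∀ P, LocRes.vDiff (φ P) u v = 1) → (∀ P, LocRes.vDiff (φ P) u' v = 1) →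
        ∃ c : k, u' = c • u := by
  obtain ⟨C, hC, hdiv, hcan, hL⟩ := exists_divisor_of_differential hK hg hφ hv
  have hell : FunFld.ell C = 1 := by rw [ell_canonical hK hcan, h1]
  have hdeg : C.deg = 0 := by rw [deg_canonical hK hcan, h1]; norm_num
  have hval : ∀ (y : K) (P : FunFld.Place k K),
      LocRes.vDiff (φ P) y v = P.1 y * WithZero.exp (-(C P)) := by
    intro y P
    rw [vDiff_eq_mul hφ P y v, vDiff_eq_exp P (vDiff_ne_zero hK hg hφ one_ne_zero hv P), hC P]
  constructor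
  · obtain ⟨z, hzL, hz0⟩ := exists_ne_zero_mem_L_of_ell_pos (D := C) (by rw [hell]; exact one_pos)
    have h5 := (mem_L_iff_nonneg hK _ hz0).1 hzL
    have h6 : (C + FunFld.div k z).deg = 0 := by rw [deg_add, deg_div_eq_zero hK, hdeg, add_zero]
    have h7 := eq_zero_of_nonneg_of_deg_eq_zero hK h5 h6
    refine ⟨z, hz0, fun P => ?_⟩
    have h8 : C P + P.ord z = 0 := by
      have := congrArg (fun E : FunFld.Divisor k K => E P) h7
      simpa [Finsupp.add_apply, div_apply hK] using this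
    have hvz : P.1 z = WithZero.exp (-(P.ord z)) := by
      unfold FunFld.Place.ord
      rw [neg_neg, WithZero.exp_log ((Valuation.ne_zero_iff P.1).mpr hz0)]
    rw [hval, hvz, ← WithZero.exp_add, ← WithZero.exp_zero]
    congr 1
    omega
  · intro u u' hu0 hu hu'
    have hmem : ∀ y : K, (∀ P, LocRes.vDiff (φ P) y v = 1) → y ∈ FunFld.L C :=
      fun y hy => (hL y).mpr fun P => (hy P).le
    have hfd := finiteDimensional_L hK C
    have hne : (⟨u, hmem u hu⟩ : FunFld.L C) ≠ 0 := by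
      intro h
      exact hu0 (congrArg Subtype.val h)
    obtain ⟨c, hc⟩ := (finrank_eq_one_iff_of_nonzero' (⟨u, hmem u hu⟩ : FunFld.L C) hne).mp hell
      ⟨u', hmem u' hu'⟩
    exact ⟨c, (congrArg Subtype.val hc).symm⟩

end Groth.Agent.Lib.FPTr58
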