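import Groth.Agent.Lib.H40FunFldRational

/-!
# Function fields of one variable (`FunFld`): genus one (Weierstrass form, group of points).
-/

set_option autoImplicit false
open FunFld Polynomial

namespace Groth.Agent.Lib.H40FunFld

open Groth.Agent.Lib.H40QuotChain IntermediateField

universe u v
variable {k : Type u} {K : Type v} [Field k] [Field K] [Algebra k K]

theorem ord_mul (P : FunFld.Place k K) {x y : K} (hx : x ≠ 0) (hy : y ≠ 0) :
    P.ord (x * y) = P.ord x + P.ord y := by
  simp only [FunFld.Place.ord]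
  rw [log_val_mul P hx hy]; ring

theorem div_mul (hK : FunFld.IsFunctionField k K) {x y : K} (hx : x ≠ 0) (hy : y ≠ 0) :
    FunFld.div k (x * y) = FunFld.div k x + FunFld.div k y := by
  ext P
  rw [Finsupp.add_apply, div_apply hK, div_apply hK, div_apply hK, ord_mul P hx hy]

/-- In positive genus, distinct places of degree one are not linearly equivalent. -/
theorem eq_of_single_sub_single_eq_div (hK : FunFld.IsFunctionField k K)
    (hg : 0 < FunFld.genus k K) {P P' : FunFld.Place k K} (hP' : P'.deg = 1)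
    {x : K} (h : Finsupp.single P 1 - Finsupp.single P' 1 = FunFld.div k x) : P = P' := by
  classical
  by_contra hne
  have hord : ∀ Q : FunFld.Place k K,
      Q.ord x = (if P = Q then 1 else 0) - (if P' = Q then 1 else 0) := by
    intro Q
    rw [← div_apply hK, ← h, Finsupp.sub_apply, Finsupp.single_apply, Finsupp.single_apply]
  have h1 : P'.ord x = -1 := by
    rw [hord P', if_neg hne, if_pos rfl]; rfl
  have h2 : ∀ Q : FunFld.Place k K, Q ≠ P' → 0 ≤ Q.ord x := by
    intro Q hQ
    rw [hord Q, if_neg (Ne.symm hQ)]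
    split_ifs <;> norm_num
  have h3 := adjoin_eq_top_of_simple_pole hK hP' h1 h2
  have h4 := genus_eq_zero_of_adjoin_eq_top hK h3
  omega

/-- In genus one, every divisor class of degree zero is `P - P₀` for a unique place `P` of degree
one. -/
theorem existsUnique_place_of_genus_one (hK : FunFld.IsFunctionField k K)
    (hg : FunFld.genus k K = 1) (P₀ : FunFld.Place k K) (hP : P₀.deg = 1)
    (D : FunFld.Divisor k K) (hD : D.deg = 0) :
    ∃! P : FunFld.Place k K, P.deg = 1 ∧
      ∃ x : K, x ≠ 0 ∧ D = Finsupp.single P 1 - Finsupp.single P₀ 1 + FunFld.div k x := by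
  have hdeg : (D + Finsupp.single P₀ 1).deg = 1 := by
    rw [deg_add_single, hD, hP]; rfl
  have h1 := ell_eq_of_deg_ge hK (D + Finsupp.single P₀ 1) (by rw [hg, hdeg]; norm_num)
  rw [hdeg, hg] at h1
  have h2 : 0 < FunFld.ell (D + Finsupp.single P₀ 1) := by
    have : (0 : ℤ) < FunFld.ell (D + Finsupp.single P₀ 1) := by rw [h1]; norm_num
    exact_mod_cast this
  obtain ⟨z, hzL, hz0⟩ := exists_ne_zero_mem_L_of_ell_pos h2
  have h3 := (mem_L_iff_nonneg hK _ hz0).1 hzL
  have h4 : (D + Finsupp.single P₀ 1 + FunFld.div k z).deg = 1 := by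
    rw [deg_add, hdeg, deg_div_eq_zero hK, add_zero]
  obtain ⟨P, hPe, hPdeg⟩ := exists_eq_single_of_deg_eq_one hK h3 h4
  refine ⟨P, ⟨hPdeg, z⁻¹, inv_ne_zero hz0, ?_⟩, ?_⟩
  · rw [div_inv hK, ← hPe]; abel
  · rintro P' ⟨hP'deg, x', hx'0, hx'⟩
    have hgpos : 0 < FunFld.genus k K := by omega
    have e : Finsupp.single P' 1 - Finsupp.single P 1 = FunFld.div k (z⁻¹ * x'⁻¹) := by
      rw [div_mul hK (inv_ne_zero hz0) (inv_ne_zero hx'0), div_inv hK, div_inv hK]
      have e1 : Finsupp.single P 1 = D + Finsupp.single P₀ 1 + FunFld.div k z := hPe.symm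
      have e2 : FunFld.div k x' = D - Finsupp.single P' 1 + Finsupp.single P₀ 1 := by
        rw [hx']; abel
      rw [e1, e2]; abel
    exact eq_of_single_sub_single_eq_div hK hgpos hPdeg e

/-- Nonzero elements with pairwise distinct valuations at a place are linearly independent over
the constants. -/
theorem linearIndependent_of_val_injective (P : FunFld.Place k K) {ι : Type*} [Fintype ι]
    (z : ι → K) (hz : ∀ i, z i ≠ 0) (hinj : Function.Injective fun i => P.1 (z i)) :
    LinearIndependent k z := by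
  classical
  rw [Fintype.linearIndependent_iff]
  intro c hc
  by_contra hne
  push Not at hne
  obtain ⟨j, hj⟩ := hne
  have hS : (Finset.univ.filter fun i => c i ≠ 0).Nonempty := ⟨j, by simp [hj]⟩
  obtain ⟨i₀, hi₀, hmax⟩ := Finset.exists_max_image _ (fun i => P.1 (z i)) hS
  have hci₀ : c i₀ ≠ 0 := (Finset.mem_filter.1 hi₀).2
  have hval : ∀ i, c i ≠ 0 → P.1 (c i • z i) = P.1 (z i) := by
    intro i hi
    rw [Algebra.smul_def, map_mul, val_algebraMap P hi, one_mul]
  have h0 : P.1 (c i₀ • z i₀) ≠ 0 := by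
    rw [hval i₀ hci₀]; exact (Valuation.ne_zero_iff _).2 (hz i₀)
  have hlt : ∀ i ∈ Finset.univ.erase i₀, P.1 (c i • z i) < P.1 (c i₀ • z i₀) := by
    intro i hi
    have hii₀ : i ≠ i₀ := Finset.ne_of_mem_erase hi
    by_cases hci : c i = 0
    · rw [hci, zero_smul, map_zero]; exact zero_lt_iff.2 h0
    · rw [hval i hci, hval i₀ hci₀]
      have h1 := hmax i (Finset.mem_filter.2 ⟨Finset.mem_univ _, hci⟩)
      exact lt_of_le_of_ne h1 (fun h => hii₀ (hinj h))
  have h2 := P.1.map_sum_lt h0 hlt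
  have h3 : ∑ i, c i • z i = c i₀ • z i₀ + ∑ i ∈ Finset.univ.erase i₀, c i • z i := by
    exact (Finset.add_sum_erase Finset.univ (fun i => c i • z i) (Finset.mem_univ i₀)).symm
  have h4 : P.1 (∑ i, c i • z i) = P.1 (c i₀ • z i₀) := by
    rw [h3]; exact Valuation.map_add_eq_of_lt_left _ h2
  rw [hc, map_zero] at h4
  exact h0 h4.symm

theorem exists_mem_not_mem_of_finrank_lt {V : Type*} [AddCommGroup V] [Module k V]
    {A B : Submodule k V} [FiniteDimensional k A]
    (h : Module.finrank k A < Module.finrank k B) : ∃ x ∈ B, x ∉ A := by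
  by_contra hcon
  push Not at hcon
  have hle : B ≤ A := hcon
  have := Submodule.finrank_mono hle
  omega

theorem ord_nonneg_iff (P : FunFld.Place k K) (x : K) : 0 ≤ P.ord x ↔ P.1 x ≤ 1 := by
  by_cases hx : x = 0
  · subst hx; rw [ord_zero, map_zero]; simp
  · have h0 : P.1 x ≠ 0 := (Valuation.ne_zero_iff _).2 hx
    have h1 : P.1 x ≤ 1 ↔ WithZero.log (P.1 x) ≤ 0 := by
      rw [WithZero.log_le_iff_le_exp h0, WithZero.exp_zero]
    rw [h1, FunFld.Place.ord]
    omega

theorem mem_L_single_iff (P : FunFld.Place k K) (n : ℤ) (x : K) :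
    x ∈ FunFld.L (Finsupp.single P n : FunFld.Divisor k K) ↔
      P.1 x ≤ WithZero.exp n ∧ ∀ Q : FunFld.Place k K, Q ≠ P → Q.1 x ≤ 1 := by
  classical
  constructor
  · intro h
    refine ⟨by simpa using h P, fun Q hQ => ?_⟩
    have := h Q
    rwa [Finsupp.single_apply, if_neg (Ne.symm hQ), WithZero.exp_zero] at this
  · rintro ⟨h1, h2⟩ Q
    by_cases hQ : Q = P
    · subst hQ; simpa using h1
    · rw [Finsupp.single_apply, if_neg (Ne.symm hQ), WithZero.exp_zero]; exact h2 Q hQ

/-- An element of `L((n+1)P) \ L(nP)` has exact pole order `n + 1` at `P`. -/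
theorem val_eq_of_mem_L_of_not_mem_L {P : FunFld.Place k K} {n : ℤ} {x : K}
    (h1 : x ∈ FunFld.L (Finsupp.single P (n + 1) : FunFld.Divisor k K))
    (h2 : x ∉ FunFld.L (Finsupp.single P n : FunFld.Divisor k K)) :
    P.1 x = WithZero.exp (n + 1) := by
  rw [mem_L_single_iff] at h1 h2
  have h3 : ¬ P.1 x ≤ WithZero.exp n := fun h => h2 ⟨h, h1.2⟩
  have h4 : WithZero.exp n < P.1 x := not_le.1 h3
  rw [← lt_exp_add_one_iff] at h3
  exact le_antisymm h1.1 (not_lt.1 h3)

theorem poleDiv_eq_single (hK : FunFld.IsFunctionField k K) {x : K} {P : FunFld.Place k K}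
    {n : ℤ} (hn : 0 ≤ n) (hx : P.ord x = -n) (hQ : ∀ Q : FunFld.Place k K, Q ≠ P → Q.1 x ≤ 1) :
    poleDiv (k := k) x = Finsupp.single P n := by
  classical
  ext Q
  rw [poleDiv_apply hK, Finsupp.single_apply]
  split_ifs with h
  · subst h; rw [hx, neg_neg]; exact max_eq_left hn
  · have := (ord_nonneg_iff Q x).2 (hQ Q (Ne.symm h))
    omega

theorem finrank_adjoin_eq_of_single_pole (hK : FunFld.IsFunctionField k K) {x : K}
    {P : FunFld.Place k K} (hP : P.deg = 1) {n : ℕ} (hn : 0 < n) (hx : P.1 x = WithZero.exp (n : ℤ))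
    (hQ : ∀ Q : FunFld.Place k K, Q ≠ P → Q.1 x ≤ 1) : Module.finrank k⟮x⟯ K = n := by
  have hx0 : x ≠ 0 := by
    rintro rfl; rw [map_zero] at hx; exact WithZero.exp_ne_zero hx.symm
  have hord : P.ord x = -(n : ℤ) := by
    rw [FunFld.Place.ord, hx, WithZero.log_exp]
  have htr : Transcendental k x := transcendental_of_ord_ne_zero hK (P := P) (by rw [hord]; omega)
  have h1 := (deg_zeroDiv_eq_and_deg_poleDiv_eq hK htr).2
  rw [poleDiv_eq_single hK (Int.natCast_nonneg n) hord hQ, deg_single, hP] at h1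
  have : ((n : ℕ) : ℤ) = Module.finrank k⟮x⟯ K := by rw [← h1]; simp
  exact_mod_cast this.symm

theorem ell_single_of_genus_one (hK : FunFld.IsFunctionField k K) (hg : FunFld.genus k K = 1)
    {P₀ : FunFld.Place k K} (hP : P₀.deg = 1) {n : ℕ} (hn : 0 < n) :
    FunFld.ell (Finsupp.single P₀ (n : ℤ) : FunFld.Divisor k K) = n := by
  have hdeg : FunFld.Divisor.deg (Finsupp.single P₀ (n : ℤ) : FunFld.Divisor k K) = n := by
    rw [deg_single, hP]; simp
  have h1 := ell_eq_of_deg_ge hK (Finsupp.single P₀ (n : ℤ)) (by rw [hg, hdeg]; push_cast; omega)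
  rw [hdeg, hg] at h1
  have : (FunFld.ell (Finsupp.single P₀ (n : ℤ) : FunFld.Divisor k K) : ℤ) = n := by
    rw [h1]; push_cast; ring
  exact_mod_cast this

/-- Weierstrass form of a genus-one function field with a rational place. -/
theorem weierstrass_form (hK : FunFld.IsFunctionField k K) (hg : FunFld.genus k K = 1)
    (P₀ : FunFld.Place k K) (hP : P₀.deg = 1) :
    ∃ x y : K, x ∈ FunFld.L (Finsupp.single P₀ 2 : FunFld.Divisor k K) ∧
      y ∈ FunFld.L (Finsupp.single P₀ 3 : FunFld.Divisor k K) ∧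
      P₀.ord x = -2 ∧ P₀.ord y = -3 ∧
      IntermediateField.adjoin k ({x, y} : Set K) = ⊤ ∧
      ∃ f g : Polynomial k, f.natDegree ≤ 1 ∧ g.natDegree = 3 ∧
        y ^ 2 + Polynomial.aeval x f * y + Polynomial.aeval x g = 0 := by
  classical
  have hell1 := ell_single_of_genus_one hK hg hP (n := 1) (by norm_num)
  have hell2 := ell_single_of_genus_one hK hg hP (n := 2) (by norm_num)
  have hell3 := ell_single_of_genus_one hK hg hP (n := 3) (by norm_num)
  have hell6 := ell_single_of_genus_one hK hg hP (n := 6) (by norm_num)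
  have hfin := fun D : FunFld.Divisor k K => finiteDimensional_L hK D
  -- the element `x`
  obtain ⟨x, hx2, hx1⟩ := exists_mem_not_mem_of_finrank_lt
    (A := FunFld.L (Finsupp.single P₀ ((1 : ℕ) : ℤ) : FunFld.Divisor k K))
    (B := FunFld.L (Finsupp.single P₀ ((2 : ℕ) : ℤ) : FunFld.Divisor k K))
    (by unfold FunFld.ell at hell1 hell2; rw [hell1, hell2]; norm_num)
  obtain ⟨y, hy3, hy2⟩ := exists_mem_not_mem_of_finrank_lt
    (A := FunFld.L (Finsupp.single P₀ ((2 : ℕ) : ℤ) : FunFld.Divisor k K))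
    (B := FunFld.L (Finsupp.single P₀ ((3 : ℕ) : ℤ) : FunFld.Divisor k K))
    (by unfold FunFld.ell at hell2 hell3; rw [hell2, hell3]; norm_num)
  have vx : P₀.1 x = WithZero.exp (2 : ℤ) :=
    val_eq_of_mem_L_of_not_mem_L (P := P₀) (n := 1) (by exact_mod_cast hx2) (by exact_mod_cast hx1)
  have vy : P₀.1 y = WithZero.exp (3 : ℤ) :=
    val_eq_of_mem_L_of_not_mem_L (P := P₀) (n := 2) (by exact_mod_cast hy3) (by exact_mod_cast hy2)
  have hx2' : x ∈ FunFld.L (Finsupp.single P₀ 2 : FunFld.Divisor k K) := by exact_mod_cast hx2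
  have hy3' : y ∈ FunFld.L (Finsupp.single P₀ 3 : FunFld.Divisor k K) := by exact_mod_cast hy3
  have hxQ : ∀ Q : FunFld.Place k K, Q ≠ P₀ → Q.1 x ≤ 1 := ((mem_L_single_iff _ _ _).1 hx2').2
  have hyQ : ∀ Q : FunFld.Place k K, Q ≠ P₀ → Q.1 y ≤ 1 := ((mem_L_single_iff _ _ _).1 hy3').2
  have ox : P₀.ord x = -2 := by rw [FunFld.Place.ord, vx, WithZero.log_exp]
  have oy : P₀.ord y = -3 := by rw [FunFld.Place.ord, vy, WithZero.log_exp]
  refine ⟨x, y, hx2', hy3', ox, oy, ?_, ?_⟩
  · -- `k(x, y) = K`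
    have h2 : Module.finrank k⟮x⟯ K = 2 :=
      finrank_adjoin_eq_of_single_pole hK hP (n := 2) (by norm_num) (by exact_mod_cast vx) hxQ
    have h3 : Module.finrank k⟮y⟯ K = 3 :=
      finrank_adjoin_eq_of_single_pole hK hP (n := 3) (by norm_num) (by exact_mod_cast vy) hyQ
    have hxle : k⟮x⟯ ≤ IntermediateField.adjoin k ({x, y} : Set K) :=
      IntermediateField.adjoin.mono _ _ _ (by simp)
    have hyle : k⟮y⟯ ≤ IntermediateField.adjoin k ({x, y} : Set K) :=
      IntermediateField.adjoin.mono _ _ _ (by simp)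
    have d2 := IntermediateField.finrank_dvd_of_le_left hxle
    have d3 := IntermediateField.finrank_dvd_of_le_left hyle
    rw [h2] at d2
    rw [h3] at d3
    apply finrank_eq_one_iff_eq_top.1
    have d1 : Module.finrank (IntermediateField.adjoin k ({x, y} : Set K)) K ∣ 1 := by
      have := Nat.dvd_sub d3 d2
      simpa using this
    exact Nat.dvd_one.1 d1
  · -- the cubic equation
    let u : Fin 6 → K := ![1, x, y, x ^ 2, x * y, x ^ 3]
    let e : Fin 6 → ℤ := ![0, 2, 3, 4, 5, 6]
    have hu : ∀ i, P₀.1 (u i) = WithZero.exp (e i) := by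
      intro i
      fin_cases i
      · change P₀.1 1 = WithZero.exp (0 : ℤ)
        rw [map_one, WithZero.exp_zero]
      · exact vx
      · exact vy
      · change P₀.1 (x ^ 2) = WithZero.exp (4 : ℤ)
        rw [map_pow, vx, ← WithZero.exp_nsmul]; rfl
      · change P₀.1 (x * y) = WithZero.exp (5 : ℤ)
        rw [map_mul, vx, vy, ← WithZero.exp_add]; rfl
      · change P₀.1 (x ^ 3) = WithZero.exp (6 : ℤ)
        rw [map_pow, vx, ← WithZero.exp_nsmul]; rfl
    have he : Function.Injective e := by decide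
    have he6 : ∀ i, e i ≤ 6 := by decide
    have he5 : ∀ i : Fin 6, i ≠ 5 → e i ≤ 5 := by decide
    have hinj : Function.Injective fun i => P₀.1 (u i) := by
      intro i j h
      simp only [hu] at h
      exact he (WithZero.exp_injective h)
    have hu0 : ∀ i, u i ≠ 0 := by
      intro i h
      have := hu i
      rw [h, map_zero] at this
      exact WithZero.exp_ne_zero this.symm
    have huQ : ∀ i, ∀ Q : FunFld.Place k K, Q ≠ P₀ → Q.1 (u i) ≤ 1 := by
      intro i Q hQ
      have h1 := hxQ Q hQ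
      have h2 := hyQ Q hQ
      fin_cases i
      · change Q.1 1 ≤ 1
        rw [map_one]
      · exact h1
      · exact h2
      · change Q.1 (x ^ 2) ≤ 1
        rw [map_pow]; exact pow_le_one' h1 2
      · change Q.1 (x * y) ≤ 1
        rw [map_mul]; exact mul_le_one' h1 h2
      · change Q.1 (x ^ 3) ≤ 1
        rw [map_pow]; exact pow_le_one' h1 3
    have humem : ∀ i, u i ∈ FunFld.L (Finsupp.single P₀ ((6 : ℕ) : ℤ) : FunFld.Divisor k K) := by
      intro i
      rw [mem_L_single_iff]
      refine ⟨?_, huQ i⟩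
      rw [hu i, WithZero.exp_le_exp]
      exact_mod_cast he6 i
    have hy2mem : y ^ 2 ∈ FunFld.L (Finsupp.single P₀ ((6 : ℕ) : ℤ) : FunFld.Divisor k K) := by
      rw [mem_L_single_iff]
      refine ⟨?_, fun Q hQ => ?_⟩
      · rw [map_pow, vy, ← WithZero.exp_nsmul]; exact le_of_eq rfl
      · rw [map_pow]; exact pow_le_one' (hyQ Q hQ) 2
    have hli : LinearIndependent k u := linearIndependent_of_val_injective P₀ u hu0 hinj
    let u' : Fin 6 → ↥(FunFld.L (Finsupp.single P₀ ((6 : ℕ) : ℤ) : FunFld.Divisor k K)) :=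
      fun i => ⟨u i, humem i⟩
    have hli' : LinearIndependent k u' := by
      apply LinearIndependent.of_comp (FunFld.L _).subtype
      exact hli
    have hspan := hli'.span_eq_top_of_card_eq_finrank' (by
      rw [Fintype.card_fin]; exact hell6.symm)
    have hmem : (⟨y ^ 2, hy2mem⟩ :
        ↥(FunFld.L (Finsupp.single P₀ ((6 : ℕ) : ℤ) : FunFld.Divisor k K))) ∈
        Submodule.span k (Set.range u') := by rw [hspan]; trivial
    obtain ⟨b, hb⟩ := (Submodule.mem_span_range_iff_exists_fun k).1 hmem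
    have hb' : ∑ i, b i • u i = y ^ 2 := by
      have := congrArg (FunFld.L (Finsupp.single P₀ ((6 : ℕ) : ℤ) : FunFld.Divisor k K)).subtype hb
      rw [map_sum] at this
      simpa [u'] using this
    -- the leading coefficient is nonzero
    have hb5 : b 5 ≠ 0 := by
      intro h5
      have hle : P₀.1 (∑ i, b i • u i) ≤ WithZero.exp (5 : ℤ) := by
        apply Valuation.map_sum_le
        intro i _
        by_cases hi : i = 5
        · rw [hi, h5, zero_smul, map_zero]; exact zero_le
        · rw [Algebra.smul_def, map_mul, hu i]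
          have h1 : P₀.1 (algebraMap k K (b i)) ≤ 1 := P₀.2.1 _
          have h2 : e i ≤ 5 := he5 i hi
          calc P₀.1 (algebraMap k K (b i)) * WithZero.exp (e i) ≤ 1 * WithZero.exp (5 : ℤ) :=
                mul_le_mul' h1 (WithZero.exp_le_exp.2 h2)
            _ = WithZero.exp (5 : ℤ) := one_mul _
      rw [hb', map_pow, vy, ← WithZero.exp_nsmul, WithZero.exp_le_exp] at hle
      norm_num at hle
    refine ⟨-(C (b 4) * X + C (b 2)), -(C (b 5) * X ^ 3 + C (b 3) * X ^ 2 + C (b 1) * X + C (b 0)),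
      ?_, ?_, ?_⟩
    · rw [natDegree_neg]; exact natDegree_linear_le
    · rw [natDegree_neg]; exact natDegree_cubic hb5
    · rw [Fin.sum_univ_six] at hb'
      simp only [u, Matrix.cons_val_zero, Matrix.cons_val_one, Matrix.cons_val, Algebra.smul_def]
        at hb'
      simp only [map_neg, map_add, map_mul, map_pow, aeval_C, aeval_X]
      linear_combination (-1 : K) * hb'

end Groth.Agent.Lib.H40FunFld
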