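import Groth.Agent.Lib.H40FunFldConorm2
import Mathlib.FieldTheory.RatFunc.IntermediateField
import Mathlib.FieldTheory.RatFunc.AsPolynomial

set_option autoImplicit false
set_option linter.style.haveILetI false
open FunFld Polynomial

namespace Groth.Agent.Lib.H40FunFld

open Groth.Agent.Lib.H40QuotChain IntermediateField

universe u v w
variable {k : Type u} [Field k]

section RatFuncPlaces

variable (k) in
/-- The rational function field is a function field of one variable. -/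
theorem isFunctionField_ratFunc : FunFld.IsFunctionField k (RatFunc k) := by
  refine ⟨⟨RatFunc.X, RatFunc.transcendental_X, ?_⟩, ?_⟩
  · rw [RatFunc.adjoin_X]
    apply Module.finite_of_finrank_pos
    rw [IntermediateField.finrank_top]
    exact Nat.one_pos
  · intro y hy
    by_contra hne
    have : ¬ ∃ c, y = RatFunc.C c := by
      rintro ⟨c, rfl⟩
      exact hne ⟨c, by rw [RatFunc.algebraMap_eq_C]⟩
    exact RatFunc.transcendental_of_ne_C y this hy

local notation "ι" => algebraMap k[X] (RatFunc k)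

theorem isTrivialOn_ratFunc (P₀ : FunFld.Place k (RatFunc k)) : P₀.1.IsTrivialOn k :=
  ⟨fun _ ha => val_algebraMap P₀ ha⟩

theorem ord_pow (P : FunFld.Place k (RatFunc k)) (x : RatFunc k) (n : ℕ) :
    P.ord (x ^ n) = n * P.ord x := by
  unfold FunFld.Place.ord
  have := log_val_zpow P x n
  rw [zpow_natCast] at this
  rw [this]; ring

theorem ratFunc_val_X_le_one {P₀ : FunFld.Place k (RatFunc k)} {p : k[X]} (hp0 : p ≠ 0)
    (hp : P₀.1 (ι p) < 1) : P₀.1 RatFunc.X ≤ 1 := by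
  by_contra hlt
  push Not at hlt
  haveI := isTrivialOn_ratFunc P₀
  have h1 := Polynomial.valuation_eq_valuation_X_pow_natDegree_of_one_lt_valuation_X k hlt hp0
  rw [RatFunc.coePolynomial_eq_algebraMap] at h1
  rw [h1] at hp
  exact absurd hp (not_lt.2 (one_le_pow₀ hlt.le))

theorem ratFunc_val_poly_le_one {P₀ : FunFld.Place k (RatFunc k)} (hX : P₀.1 RatFunc.X ≤ 1)
    (q : k[X]) : P₀.1 (ι q) ≤ 1 := by
  haveI := isTrivialOn_ratFunc P₀
  have h1 := Polynomial.valuation_le_one_of_valuation_X_le_one k hX q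
  rwa [RatFunc.coePolynomial_eq_algebraMap] at h1

theorem ratFunc_val_eq_one_of_isCoprime {P₀ : FunFld.Place k (RatFunc k)} {p g : k[X]}
    (hX : P₀.1 RatFunc.X ≤ 1) (hp : P₀.1 (ι p) < 1) (hpg : IsCoprime p g) : P₀.1 (ι g) = 1 := by
  refine le_antisymm (ratFunc_val_poly_le_one hX g) ?_
  by_contra hlt
  push Not at hlt
  obtain ⟨a, b, hab⟩ := hpg
  have h1 : ι a * ι p + ι b * ι g = 1 := by
    rw [← map_mul, ← map_mul, ← map_add, hab, map_one]
  have h2 : P₀.1 (ι a * ι p) < 1 := by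
    rw [map_mul]
    exact mul_lt_one_of_nonneg_of_lt_one_right (ratFunc_val_poly_le_one hX a) zero_le hp
  have h3 : P₀.1 (ι b * ι g) < 1 := by
    rw [map_mul]
    exact mul_lt_one_of_nonneg_of_lt_one_right (ratFunc_val_poly_le_one hX b) zero_le hlt
  have h4 := P₀.1.map_add (ι a * ι p) (ι b * ι g)
  rw [h1, map_one] at h4
  exact absurd h4 (not_le.2 (max_lt h2 h3))

theorem ratFunc_map_ne_zero {q : k[X]} (hq : q ≠ 0) : ι q ≠ 0 :=
  (_root_.map_ne_zero_iff _ (IsFractionRing.injective k[X] (RatFunc k))).2 hq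

/-- If the orders of all polynomials are divisible by `j`, then `j` is a unit. -/
theorem ratFunc_dvd_one (P₀ : FunFld.Place k (RatFunc k)) (j : ℤ)
    (h : ∀ q : k[X], q ≠ 0 → j ∣ P₀.ord (ι q)) : j ∣ 1 := by
  obtain ⟨r, hr⟩ := exists_uniformizer P₀
  have hr0 : r ≠ 0 := by
    rintro rfl
    rw [map_zero] at hr
    exact WithZero.exp_ne_zero hr.symm
  have h1 : P₀.ord r = 1 := by
    unfold FunFld.Place.ord
    rw [hr, WithZero.log_exp]; ring
  have hnum : r.num ≠ 0 := RatFunc.num_ne_zero hr0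
  have hden : r.denom ≠ 0 := RatFunc.denom_ne_zero r
  have h2 : r = ι r.num * (ι r.denom)⁻¹ := by
    rw [← div_eq_mul_inv, RatFunc.num_div_denom]
  rw [h2, ord_mul P₀ (ratFunc_map_ne_zero hnum) (inv_ne_zero (ratFunc_map_ne_zero hden)),
    ord_inv] at h1
  rw [← h1]
  exact dvd_add (h _ hnum) ((dvd_neg).2 (h _ hden))

/-- At the place of `k(x)` where the irreducible polynomial `p` vanishes, `p` has order `1`. -/
theorem ratFunc_ord_irreducible {P₀ : FunFld.Place k (RatFunc k)} {p : k[X]}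
    (hp : Irreducible p) (hlt : P₀.1 (ι p) < 1) : P₀.ord (ι p) = 1 := by
  have hX := ratFunc_val_X_le_one hp.ne_zero hlt
  have hp0 := ratFunc_map_ne_zero hp.ne_zero
  have hpos : 0 < P₀.ord (ι p) := (ord_pos_iff P₀ hp0).2 hlt
  have hdvd : P₀.ord (ι p) ∣ 1 := by
    apply ratFunc_dvd_one P₀
    intro q hq
    obtain ⟨n, a, hna, rfl⟩ := WfDvdMonoid.max_power_factor hq hp
    have ha0 : a ≠ 0 := right_ne_zero_of_mul hq
    have hcop : IsCoprime p a := (Irreducible.coprime_iff_not_dvd hp).2 hna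
    have h1 := ratFunc_val_eq_one_of_isCoprime hX hlt hcop
    have h2 : P₀.ord (ι a) = 0 := by
      unfold FunFld.Place.ord
      rw [h1, WithZero.log_one, neg_zero]
    rw [map_mul, map_pow, ord_mul P₀ (pow_ne_zero _ hp0) (ratFunc_map_ne_zero ha0), ord_pow, h2,
      add_zero]
    exact Dvd.intro_left _ rfl
  exact Int.eq_one_of_dvd_one hpos.le hdvd

theorem ratFunc_ord_of_squarefree {P₀ : FunFld.Place k (RatFunc k)} {p f : k[X]}
    (hp : Irreducible p) (hlt : P₀.1 (ι p) < 1) (hf : Squarefree f) (hpf : p ∣ f) :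
    P₀.ord (ι f) = 1 := by
  have hX := ratFunc_val_X_le_one hp.ne_zero hlt
  obtain ⟨a, rfl⟩ := hpf
  have hf0 : p * a ≠ 0 := hf.ne_zero
  have ha0 : a ≠ 0 := right_ne_zero_of_mul hf0
  have hna : ¬ p ∣ a := by
    intro hdvd
    obtain ⟨b, rfl⟩ := hdvd
    have : p * p ∣ p * (p * b) := ⟨b, by ring⟩
    exact hp.not_isUnit (hf p this)
  have hcop : IsCoprime p a := (Irreducible.coprime_iff_not_dvd hp).2 hna
  have h1 := ratFunc_val_eq_one_of_isCoprime hX hlt hcop
  have h2 : P₀.ord (ι a) = 0 := by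
    unfold FunFld.Place.ord
    rw [h1, WithZero.log_one, neg_zero]
  rw [map_mul, ord_mul P₀ (ratFunc_map_ne_zero hp.ne_zero) (ratFunc_map_ne_zero ha0), h2,
    add_zero, ratFunc_ord_irreducible hp hlt]

theorem ratFunc_exists_irreducible_of_val_lt_one {P₀ : FunFld.Place k (RatFunc k)}
    (hX : P₀.1 RatFunc.X ≤ 1) (f : k[X]) (hf0 : f ≠ 0) (hlt : P₀.1 (ι f) < 1) :
    ∃ p : k[X], Irreducible p ∧ p ∣ f ∧ P₀.1 (ι p) < 1 := by
  induction f using UniqueFactorizationMonoid.induction_on_prime with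
  | h₁ => exact absurd rfl hf0
  | h₂ x hx =>
    exfalso
    obtain ⟨c, hc, rfl⟩ := Polynomial.isUnit_iff.1 hx
    rw [RatFunc.algebraMap_C, ← RatFunc.algebraMap_eq_C, val_algebraMap P₀ hc.ne_zero] at hlt
    exact lt_irrefl _ hlt
  | h₃ a p ha0 hp ih =>
    by_cases hpl : P₀.1 (ι p) < 1
    · exact ⟨p, hp.irreducible, dvd_mul_right p a, hpl⟩
    · have hp1 : P₀.1 (ι p) = 1 :=
        le_antisymm (ratFunc_val_poly_le_one hX p) (not_lt.1 hpl)
      rw [map_mul, map_mul, hp1, one_mul] at hlt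
      obtain ⟨q, hq, hqa, hql⟩ := ih ha0 hlt
      exact ⟨q, hq, hqa.mul_left p, hql⟩

/-- At the infinite place, a polynomial has order `deg · ord X`. -/
theorem ratFunc_inf_ord_poly' {P₀ : FunFld.Place k (RatFunc k)}
    (hX : P₀.ord (RatFunc.X : RatFunc k) < 0) {q : k[X]} (hq : q ≠ 0) :
    P₀.ord (ι q) = q.natDegree * P₀.ord (RatFunc.X : RatFunc k) := by
  haveI := isTrivialOn_ratFunc P₀
  have hX0 : (RatFunc.X : RatFunc k) ≠ 0 := RatFunc.X_ne_zero
  have hlt : 1 < P₀.1 RatFunc.X := by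
    by_contra hle
    push Not at hle
    have := (ord_nonneg_iff P₀ _).2 hle
    omega
  have h1 := Polynomial.valuation_eq_valuation_X_pow_natDegree_of_one_lt_valuation_X k hlt hq
  rw [RatFunc.coePolynomial_eq_algebraMap] at h1
  rw [← ord_pow]
  unfold FunFld.Place.ord
  rw [h1, map_pow]

theorem ratFunc_inf_ord_X {P₀ : FunFld.Place k (RatFunc k)}
    (hX : P₀.ord (RatFunc.X : RatFunc k) < 0) : P₀.ord (RatFunc.X : RatFunc k) = -1 := by
  have hdvd : P₀.ord (RatFunc.X : RatFunc k) ∣ 1 := by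
    apply ratFunc_dvd_one P₀
    intro q hq
    rw [ratFunc_inf_ord_poly' hX hq]
    exact Dvd.intro_left _ rfl
  have h1 : -P₀.ord (RatFunc.X : RatFunc k) ∣ 1 := (neg_dvd).2 hdvd
  have := Int.eq_one_of_dvd_one (by omega) h1
  omega

theorem ratFunc_inf_ord_poly {P₀ : FunFld.Place k (RatFunc k)}
    (hX : P₀.ord (RatFunc.X : RatFunc k) < 0) {q : k[X]} (hq : q ≠ 0) :
    P₀.ord (ι q) = -(q.natDegree : ℤ) := by
  rw [ratFunc_inf_ord_poly' hX hq, ratFunc_inf_ord_X hX]; ring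

theorem ratFunc_inf_deg {P₀ : FunFld.Place k (RatFunc k)}
    (hX : P₀.ord (RatFunc.X : RatFunc k) < 0) : P₀.deg = 1 := by
  have hK := isFunctionField_ratFunc k
  have hX0 : (RatFunc.X : RatFunc k) ≠ 0 := RatFunc.X_ne_zero
  have hinv0 : (RatFunc.X : RatFunc k)⁻¹ ≠ 0 := inv_ne_zero hX0
  have hlt : P₀.1 (RatFunc.X : RatFunc k)⁻¹ < 1 := by
    rw [← ord_pos_iff P₀ hinv0, ord_inv]
    omega
  have htop : k⟮(RatFunc.X : RatFunc k)⁻¹⟯ = ⊤ := by
    rw [eq_top_iff, ← RatFunc.adjoin_X, adjoin_simple_le_iff]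
    have := inv_mem (mem_adjoin_simple_self k (RatFunc.X : RatFunc k)⁻¹)
    rwa [inv_inv] at this
  haveI : FiniteDimensional ↥k⟮(RatFunc.X : RatFunc k)⁻¹⟯ (RatFunc k) := by
    apply Module.finite_of_finrank_pos
    rw [htop, IntermediateField.finrank_top]
    exact Nat.one_pos
  have h1 := deg_le_finrank P₀ hinv0 hlt
  rw [htop, IntermediateField.finrank_top] at h1
  have h2 := deg_pos hK P₀
  omega

end RatFuncPlaces

end Groth.Agent.Lib.H40FunFld
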