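import Groth.Agent.Lib.H40FunFldResDeg
import Groth.Agent.Lib.H40FunFldRatPlaces

set_option autoImplicit false
set_option linter.style.haveILetI false
open FunFld Polynomial

namespace Groth.Agent.Lib.H40FunFld

open Groth.Agent.Lib.H40QuotChain IntermediateField

universe u v w
variable {k : Type u} [Field k]

section Kummer

variable {K : Type v} [Field K] [Algebra k K] {K' : Type w} [Field K'] [Algebra K K']
  [Algebra k K']

theorem ord_pow' (P : FunFld.Place k K) (x : K) (n : ℕ) :
    P.ord (x ^ n) = n * P.ord x := by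
  unfold FunFld.Place.ord
  have := log_val_zpow P x n
  rw [zpow_natCast] at this
  rw [this]; ring

/-- `2 ord_Q z = e ord_P g` when `z² = g`. -/
theorem two_mul_ord_eq_of_sq_eq {Q : FunFld.Place k K'} {P : FunFld.Place k K} {e : ℕ}
    (h : FunFld.IsOverWith Q P e) {z : K'} {g : K} (hz : z ^ 2 = algebraMap K K' g) :
    2 * Q.ord z = e * P.ord g := by
  rw [← ord_algebraMap_of_isOverWith h, ← hz, ord_pow']
  norm_num

/-- The key parity computation: if `e` is even and `g` is a unit at `P`, all `z - c` have even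
order. -/
theorem even_ord_sub_of_even {Q : FunFld.Place k K'} {P : FunFld.Place k K} {e : ℕ}
    (h : FunFld.IsOverWith Q P e) (he : Even e) (h2 : (2 : k) ≠ 0) {z : K'} {g : K}
    (hz : z ^ 2 = algebraMap K K' g) (hg : P.1 g = 1) (c : K) :
    Even (Q.ord (z - algebraMap K K' c)) := by
  have hmap : ∀ a : K, Even (Q.ord (algebraMap K K' a)) := by
    intro a
    rw [ord_algebraMap_of_isOverWith h]
    exact (Int.even_coe_nat e |>.2 he).mul_right _
  have hQz : Q.1 z = 1 := by
    have h1 : Q.1 z ^ 2 = 1 := by rw [← map_pow, hz, h g, hg, one_pow]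
    exact (pow_eq_one_iff_of_nonneg zero_le two_ne_zero).1 h1
  have hord0 : ∀ a : K', Q.1 a = 1 → Q.ord a = 0 := by
    intro a ha
    unfold FunFld.Place.ord
    rw [ha, WithZero.log_one, neg_zero]
  rcases lt_trichotomy (P.1 c) 1 with hc | hc | hc
  · have h1 : Q.1 (algebraMap K K' c) < 1 := (isOverWith_lt_one_iff h c).2 hc
    have h3 : Q.1 (z - algebraMap K K' c) = Q.1 z :=
      Valuation.map_sub_eq_of_lt_left _ (by rw [hQz]; exact h1)
    rw [hord0 _ (h3.trans hQz)]
    exact Even.zero
  · have hQc : Q.1 (algebraMap K K' c) = 1 := by rw [h c, hc, one_pow]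
    have hle : Q.1 (z - algebraMap K K' c) ≤ 1 := by
      refine (Valuation.map_sub _ _ _).trans ?_
      rw [hQz, hQc, max_self]
    rcases hle.lt_or_eq with hlt | heq
    · -- `z + c` is a unit
      have h2' : Q.1 (2 * algebraMap K K' c) = 1 := by
        have : (2 : K') = algebraMap k K' 2 := by rw [map_ofNat]
        rw [map_mul, hQc, mul_one, this, val_algebraMap Q h2]
      have h3 : Q.1 (z + algebraMap K K' c) = 1 := by
        have : z + algebraMap K K' c = (z - algebraMap K K' c) + 2 * algebraMap K K' c := by ring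
        rw [this, Valuation.map_add_eq_of_lt_right _ (by rw [h2']; exact hlt), h2']
      have h4 : (z - algebraMap K K' c) * (z + algebraMap K K' c) =
          algebraMap K K' (g - c ^ 2) := by
        rw [map_sub, map_pow, ← hz]; ring
      have h5 : Q.1 (z - algebraMap K K' c) = Q.1 (algebraMap K K' (g - c ^ 2)) := by
        rw [← h4, map_mul, h3, mul_one]
      have h6 : Q.ord (z - algebraMap K K' c) = Q.ord (algebraMap K K' (g - c ^ 2)) := by
        unfold FunFld.Place.ord
        rw [h5]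
      rw [h6]
      exact hmap _
    · rw [hord0 _ heq]
      exact Even.zero
  · have h1 : 1 < Q.1 (algebraMap K K' c) := by
      rw [h c]
      exact one_lt_pow₀ hc (isOverWith_pos h).ne'
    have h3 : Q.1 (z - algebraMap K K' c) = Q.1 (algebraMap K K' c) :=
      Valuation.map_sub_eq_of_lt_right _ (by rw [hQz]; exact h1)
    have h6 : Q.ord (z - algebraMap K K' c) = Q.ord (algebraMap K K' c) := by
      unfold FunFld.Place.ord
      rw [h3]
    rw [h6]
    exact hmap _

/-- In a quadratic extension `K' = K(z)`, `z² = g` with `g` a unit at `P` and `char ≠ 2`, the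
ramification index of every place above `P` is odd. -/
theorem odd_ramIdx_of_sq_eq_unit (hdeg : Module.finrank K K' = 2)
    {Q : FunFld.Place k K'} {P : FunFld.Place k K} {e : ℕ}
    (h : FunFld.IsOverWith Q P e) (h2 : (2 : k) ≠ 0) {z : K'} {g : K}
    (hz : z ^ 2 = algebraMap K K' g) (hzK : z ∉ Set.range (algebraMap K K')) (hg : P.1 g = 1) :
    Odd e := by
  rw [← Nat.not_even_iff_odd]
  intro he
  haveI : FiniteDimensional K K' := Module.finite_of_finrank_pos (by rw [hdeg]; norm_num)
  have hmap : ∀ a : K, Even (Q.ord (algebraMap K K' a)) := by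
    intro a
    rw [ord_algebraMap_of_isOverWith h]
    exact (Int.even_coe_nat e |>.2 he).mul_right _
  -- `1, z` span `K'`
  have hli : LinearIndependent K ![(1 : K'), z] := by
    rw [LinearIndependent.pair_iff]
    intro s t hst
    have ht : t = 0 := by
      by_contra ht
      apply hzK
      refine ⟨-s / t, ?_⟩
      have h1 : t • z = -(s • (1 : K')) := by
        rw [eq_neg_iff_add_eq_zero, add_comm]; exact hst
      rw [Algebra.smul_def, Algebra.smul_def, mul_one] at h1
      rw [map_div₀, map_neg, ← h1]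
      field_simp [(_root_.map_ne_zero (algebraMap K K')).2 ht]
    subst ht
    rw [zero_smul, add_zero, Algebra.smul_def, mul_one] at hst
    exact ⟨(_root_.map_eq_zero (algebraMap K K')).1 hst, rfl⟩
  have hspan : Submodule.span K (Set.range ![(1 : K'), z]) = ⊤ :=
    hli.span_eq_top_of_card_eq_finrank' (by rw [hdeg]; rfl)
  have hall : ∀ α : K', α ≠ 0 → Even (Q.ord α) := by
    intro α hα
    have hmem : α ∈ Submodule.span K (Set.range ![(1 : K'), z]) := by rw [hspan]; trivial
    rw [Matrix.range_cons, Matrix.range_cons, Matrix.range_empty, Set.union_empty,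
      Set.singleton_union] at hmem
    obtain ⟨a, b, hab⟩ := Submodule.mem_span_pair.1 hmem
    rw [Algebra.smul_def, Algebra.smul_def, mul_one] at hab
    by_cases hb : b = 0
    · subst hb
      rw [map_zero, zero_mul, add_zero] at hab
      rw [← hab]; exact hmap a
    · have hb' : algebraMap K K' b ≠ 0 := (_root_.map_ne_zero (algebraMap K K')).2 hb
      have h1 : α = algebraMap K K' b * (z - algebraMap K K' (-a / b)) := by
        rw [← hab, map_div₀, map_neg]
        field_simp
        ring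
      have h3 : z - algebraMap K K' (-a / b) ≠ 0 := by
        intro h0
        exact hzK ⟨-a / b, (sub_eq_zero.1 h0).symm⟩
      rw [h1, ord_mul Q hb' h3]
      exact (hmap b).add (even_ord_sub_of_even h he h2 hz hg _)
  obtain ⟨π, hπ⟩ := exists_uniformizer Q
  have hπ0 : π ≠ 0 := by
    rintro rfl
    rw [map_zero] at hπ
    exact WithZero.exp_ne_zero hπ.symm
  have h1 : Q.ord π = 1 := by
    unfold FunFld.Place.ord
    rw [hπ, WithZero.log_exp]; ring
  have := hall π hπ0
  rw [h1] at this
  exact Int.not_even_one this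

/-- In a quadratic extension `K' = K(z)`, `z² = g` with `g` of even order at `P` and `char ≠ 2`,
the ramification index of every place above `P` is odd. -/
theorem odd_ramIdx_of_sq_eq_even (hdeg : Module.finrank K K' = 2)
    {Q : FunFld.Place k K'} {P : FunFld.Place k K} {e : ℕ}
    (h : FunFld.IsOverWith Q P e) (h2 : (2 : k) ≠ 0) {z : K'} {g : K}
    (hz : z ^ 2 = algebraMap K K' g) (hzK : z ∉ Set.range (algebraMap K K')) (hg0 : g ≠ 0)
    (hg : Even (P.ord g)) : Odd e := by
  obtain ⟨m, hm⟩ := hg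
  obtain ⟨π, hπ⟩ := exists_uniformizer P
  have hπ0 : π ≠ 0 := by
    rintro rfl
    rw [map_zero] at hπ
    exact WithZero.exp_ne_zero hπ.symm
  set u : K := π ^ (-m) with hu
  have hu0 : u ≠ 0 := zpow_ne_zero _ hπ0
  have hordu : P.ord u = -m := by
    unfold FunFld.Place.ord
    rw [hu, log_val_zpow, hπ, WithZero.log_exp]; ring
  have hg' : P.1 (g * u ^ 2) = 1 := by
    have hne : g * u ^ 2 ≠ 0 := mul_ne_zero hg0 (pow_ne_zero _ hu0)
    rw [val_eq_exp_neg_ord P hne, ord_mul P hg0 (pow_ne_zero _ hu0), ord_pow', hordu, hm]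
    have : -(m + m + ((2 : ℕ) : ℤ) * -m) = 0 := by push_cast; ring
    rw [this, WithZero.exp_zero]
  have hz' : (z * algebraMap K K' u) ^ 2 = algebraMap K K' (g * u ^ 2) := by
    rw [mul_pow, hz, map_mul, map_pow]
  have hzK' : z * algebraMap K K' u ∉ Set.range (algebraMap K K') := by
    rintro ⟨a, ha⟩
    apply hzK
    refine ⟨a / u, ?_⟩
    rw [map_div₀, ha]
    field_simp [(_root_.map_ne_zero (algebraMap K K')).2 hu0]
  exact odd_ramIdx_of_sq_eq_unit hdeg h h2 hz' hzK' hg'

variable [IsScalarTower k K K']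

/-- Unramified case: `e = 1`. -/
theorem isOverWith_one_of_sq_eq_even (hK : FunFld.IsFunctionField k K)
    (hdeg : Module.finrank K K' = 2)
    {Q : FunFld.Place k K'} {P : FunFld.Place k K} {e : ℕ}
    (h : FunFld.IsOverWith Q P e) (h2 : (2 : k) ≠ 0) {z : K'} {g : K}
    (hz : z ^ 2 = algebraMap K K' g) (hzK : z ∉ Set.range (algebraMap K K')) (hg0 : g ≠ 0)
    (hg : Even (P.ord g)) : FunFld.IsOverWith Q P 1 := by
  haveI : FiniteDimensional K K' := Module.finite_of_finrank_pos (by rw [hdeg]; norm_num)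
  have h1 := odd_ramIdx_of_sq_eq_even hdeg h h2 hz hzK hg0 hg
  have h3 := ramIdx_le_finrank hK h
  rw [hdeg] at h3
  obtain ⟨j, hj⟩ := h1
  have : e = 1 := by omega
  rw [← this]; exact h

/-- Ramified case: `e = 2`. -/
theorem isOverWith_two_of_sq_eq_odd (hK : FunFld.IsFunctionField k K)
    (hdeg : Module.finrank K K' = 2)
    {Q : FunFld.Place k K'} {P : FunFld.Place k K} {e : ℕ}
    (h : FunFld.IsOverWith Q P e) {z : K'} {g : K}
    (hz : z ^ 2 = algebraMap K K' g) (hg : Odd (P.ord g)) : FunFld.IsOverWith Q P 2 := by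
  haveI : FiniteDimensional K K' := Module.finite_of_finrank_pos (by rw [hdeg]; norm_num)
  have h1 := two_mul_ord_eq_of_sq_eq h hz
  have h3 := ramIdx_le_finrank hK h
  rw [hdeg] at h3
  have h4 := isOverWith_pos h
  obtain ⟨j, hj⟩ := hg
  have : e = 2 := by
    by_contra hne
    have he1 : e = 1 := by omega
    rw [he1, hj] at h1
    omega
  rw [← this]; exact h

end Kummer

section Hyper

local notation "ι" => algebraMap k[X] (RatFunc k)

theorem exists_irreducible_place {f : k[X]} (hd : 1 ≤ f.natDegree) :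
    ∃ (p : k[X]) (P₀ : FunFld.Place k (RatFunc k)), Irreducible p ∧ p ∣ f ∧ P₀.1 (ι p) < 1 := by
  have hf0 : f ≠ 0 := by
    rintro rfl
    simp at hd
  have hfu : ¬ IsUnit f := by
    intro hu
    have := Polynomial.natDegree_eq_zero_of_isUnit hu
    omega
  obtain ⟨p, hp, hpf⟩ := WfDvdMonoid.exists_irreducible_factor hfu hf0
  have htr : Transcendental k (ι p) := by
    apply RatFunc.transcendental_of_ne_C
    rintro ⟨c, hc⟩
    rw [← RatFunc.algebraMap_C] at hc
    have h1 : p = Polynomial.C c := IsFractionRing.injective k[X] (RatFunc k) hc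
    by_cases hc0 : c = 0
    · rw [hc0, map_zero] at h1
      exact hp.ne_zero h1
    · exact hp.not_isUnit (h1 ▸ Polynomial.isUnit_C.2 (isUnit_iff_ne_zero.2 hc0))
  obtain ⟨P₀, hP₀⟩ := exists_place_val_lt_one (isFunctionField_ratFunc k) htr
  exact ⟨p, P₀, hp, hpf, hP₀⟩

variable {K : Type v} [Field K] [Algebra (RatFunc k) K]

theorem not_mem_range_of_sq_eq {y : K} {f : k[X]} (hf : Squarefree f) (hd : 1 ≤ f.natDegree)
    (heq : y ^ 2 = algebraMap (RatFunc k) K (ι f)) :
    y ∉ Set.range (algebraMap (RatFunc k) K) := by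
  rintro ⟨r, rfl⟩
  rw [← map_pow] at heq
  have h1 : r ^ 2 = ι f := (algebraMap (RatFunc k) K).injective heq
  obtain ⟨p, P₀, hp, hpf, hP₀⟩ := exists_irreducible_place hd
  have h3 := ratFunc_ord_of_squarefree hp hP₀ hf hpf
  rw [← h1, ord_pow'] at h3
  omega

variable [Algebra k K] [IsScalarTower k (RatFunc k) K]

/-- Finite ramified places of a hyperelliptic function field. -/
theorem hyper_finite
    (hdeg : Module.finrank (RatFunc k) K = 2) (y : K) (f : k[X]) (hf : Squarefree f)
    (heq : y ^ 2 = algebraMap (RatFunc k) K (ι f))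
    (p : k[X]) (hp : Irreducible p) (hpf : p ∣ f)
    (P₀ : FunFld.Place k (RatFunc k)) (hP₀ : P₀.1 (ι p) < 1) :
    (∃! P : FunFld.Place k K, FunFld.IsOver P P₀) ∧
    ∀ P : FunFld.Place k K, FunFld.IsOver P P₀ → FunFld.IsOverWith P P₀ 2 ∧ P.deg = P₀.deg := by
  have hK := isFunctionField_ratFunc k
  haveI : FiniteDimensional (RatFunc k) K :=
    Module.finite_of_finrank_pos (by rw [hdeg]; norm_num)
  have hord := ratFunc_ord_of_squarefree hp hP₀ hf hpf
  have key : ∀ P : FunFld.Place k K, FunFld.IsOver P P₀ → FunFld.IsOverWith P P₀ 2 := by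
    rintro P ⟨e, he⟩
    exact isOverWith_two_of_sq_eq_odd hK hdeg he heq (by rw [hord]; exact odd_one)
  have key2 : ∀ P : FunFld.Place k K, FunFld.IsOver P P₀ →
      P.deg = P₀.deg ∧ ∀ Q' : FunFld.Place k K, FunFld.IsOver Q' P₀ → Q' = P := by
    intro P hP
    have h := key P hP
    rw [← hdeg] at h
    exact deg_eq_and_unique_of_ramIdx_eq_finrank hK h
  obtain ⟨P, hP⟩ := exists_isOver (K' := K) hK P₀
  refine ⟨⟨P, hP, fun Q' hQ' => (key2 P hP).2 Q' hQ'⟩, fun P' hP' => ⟨key P' hP', (key2 P' hP').1⟩⟩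

/-- The zeros of `y` in a hyperelliptic function field. -/
theorem hyper_ord_y
    (hdeg : Module.finrank (RatFunc k) K = 2) (y : K) (f : k[X]) (hf : Squarefree f)
    (heq : y ^ 2 = algebraMap (RatFunc k) K (ι f)) (P : FunFld.Place k K) :
    (0 < P.ord y → P.ord y = 1) ∧
    (0 < P.ord y ↔ ∃ P₀ : FunFld.Place k (RatFunc k), FunFld.IsOver P P₀ ∧
      0 ≤ P₀.ord (RatFunc.X : RatFunc k) ∧ 0 < P₀.ord (ι f)) := by
  have hK := isFunctionField_ratFunc k
  haveI : FiniteDimensional (RatFunc k) K :=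
    Module.finite_of_finrank_pos (by rw [hdeg]; norm_num)
  have hf0 : f ≠ 0 := hf.ne_zero
  have hιf0 : ι f ≠ 0 := ratFunc_map_ne_zero hf0
  obtain ⟨P₀, e, he⟩ := exists_isOverWith hK P
  have h1 := two_mul_ord_eq_of_sq_eq he heq
  have hepos := isOverWith_pos he
  have main : 0 < P.ord y → P.ord y = 1 ∧ 0 ≤ P₀.ord (RatFunc.X : RatFunc k) ∧
      0 < P₀.ord (ι f) := by
    intro hpos
    have h3 : 0 < (e : ℤ) * P₀.ord (ι f) := by rw [← h1]; omega
    have h4 : 0 < P₀.ord (ι f) := by
      by_contra hle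
      push Not at hle
      have : (e : ℤ) * P₀.ord (ι f) ≤ 0 :=
        mul_nonpos_of_nonneg_of_nonpos (Int.natCast_nonneg _) hle
      omega
    have hlt : P₀.1 (ι f) < 1 := (ord_pos_iff P₀ hιf0).1 h4
    have hX := ratFunc_val_X_le_one hf0 hlt
    obtain ⟨p, hp, hpf, hpl⟩ := ratFunc_exists_irreducible_of_val_lt_one hX f hf0 hlt
    have hord := ratFunc_ord_of_squarefree hp hpl hf hpf
    have he2 := isOverWith_two_of_sq_eq_odd hK hdeg he heq (by rw [hord]; exact odd_one)
    have := (isOverWith_unique he he2).2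
    subst this
    rw [hord] at h1
    refine ⟨by push_cast at h1; omega, (ord_nonneg_iff P₀ _).2 hX, h4⟩
  refine ⟨fun hpos => (main hpos).1, ⟨fun hpos => ⟨P₀, ⟨e, he⟩, (main hpos).2⟩, ?_⟩⟩
  rintro ⟨P₀', ⟨e', he'⟩, -, hpos'⟩
  have h1' := two_mul_ord_eq_of_sq_eq he' heq
  have : 0 < (e' : ℤ) * P₀'.ord (ι f) :=
    mul_pos (by exact_mod_cast isOverWith_pos he') hpos'
  omega

/-- The places at infinity of a hyperelliptic function field. -/
theorem hyper_inf (h2 : ringChar k ≠ 2)
    (hdeg : Module.finrank (RatFunc k) K = 2) (y : K) (f : k[X]) (hf : Squarefree f)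
    (hd : 1 ≤ f.natDegree)
    (heq : y ^ 2 = algebraMap (RatFunc k) K (ι f))
    (Pinf : FunFld.Place k (RatFunc k)) (hinf : Pinf.ord (RatFunc.X : RatFunc k) < 0) :
    (Odd f.natDegree → (∃! P : FunFld.Place k K, FunFld.IsOver P Pinf) ∧
      ∀ P : FunFld.Place k K, FunFld.IsOver P Pinf → FunFld.IsOverWith P Pinf 2 ∧ P.deg = 1) ∧
    (Even f.natDegree → (FunFld.conorm K (Finsupp.single Pinf 1)).deg = 2 ∧
      ∀ P : FunFld.Place k K, FunFld.IsOver P Pinf → FunFld.IsOverWith P Pinf 1) := by
  have hK := isFunctionField_ratFunc k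
  haveI : FiniteDimensional (RatFunc k) K :=
    Module.finite_of_finrank_pos (by rw [hdeg]; norm_num)
  have hf0 : f ≠ 0 := hf.ne_zero
  have hιf0 : ι f ≠ 0 := ratFunc_map_ne_zero hf0
  have hord := ratFunc_inf_ord_poly hinf hf0
  have hdeg1 := ratFunc_inf_deg hinf
  have h2' : (2 : k) ≠ 0 := Ring.two_ne_zero h2
  constructor
  · intro hodd
    have hodd' : Odd (Pinf.ord (ι f)) := by
      rw [hord]
      exact ((Int.odd_coe_nat _).2 hodd).neg
    have key : ∀ P : FunFld.Place k K, FunFld.IsOver P Pinf → FunFld.IsOverWith P Pinf 2 := by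
      rintro P ⟨e, he⟩
      exact isOverWith_two_of_sq_eq_odd hK hdeg he heq hodd'
    have key2 : ∀ P : FunFld.Place k K, FunFld.IsOver P Pinf →
        P.deg = Pinf.deg ∧ ∀ Q' : FunFld.Place k K, FunFld.IsOver Q' Pinf → Q' = P := by
      intro P hP
      have h := key P hP
      rw [← hdeg] at h
      exact deg_eq_and_unique_of_ramIdx_eq_finrank hK h
    obtain ⟨P, hP⟩ := exists_isOver (K' := K) hK Pinf
    refine ⟨⟨P, hP, fun Q' hQ' => (key2 P hP).2 Q' hQ'⟩, fun P' hP' => ⟨key P' hP', ?_⟩⟩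
    rw [(key2 P' hP').1, hdeg1]
  · intro heven
    have heven' : Even (Pinf.ord (ι f)) := by
      rw [hord]
      exact ((Int.even_coe_nat _).2 heven).neg
    constructor
    · rw [deg_conorm hK, hdeg, deg_single, hdeg1]
      norm_num
    · rintro P ⟨e, he⟩
      exact isOverWith_one_of_sq_eq_even hK hdeg he h2' heq
        (not_mem_range_of_sq_eq hf hd heq) hιf0 heven'

end Hyper

end Groth.Agent.Lib.H40FunFld
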