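import Groth.Agent.Lib.FFAdj58b
import Groth.Agent.Lib.FFWeil58h
import Groth.Agent.Lib.FFWP58d
import Groth.Agent.Lib.H40FunFldKummer
import Groth.Agent.Lib.H40FunFldGenusOne

/-!
# The adjoint divisor is invariant under projective coordinate changes (helper58)
-/

set_option autoImplicit false

namespace Groth.Agent.Lib.FFAdj58

open MvPolynomial FunFld Groth.Agent.Lib.H40FunFld Groth.Agent.Lib.FFExp58 Groth.Agent.Lib.FPTr58

universe u v

variable {k : Type u} {K : Type v} [Field k] [Field K] [Algebra k K]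

/-- For a tuple containing `1`, the coefficient of the divisor of the tuple is the logarithm of the
largest valuation of an entry. -/
theorem mapDiv_apply_log (hK : FunFld.IsFunctionField k K) (ψ : Fin 3 → K) (h0 : ψ 0 = 1)
    (P : FunFld.Place k K) :
    FunFld.mapDiv k ψ P =
      WithZero.log (Finset.univ.sup' Finset.univ_nonempty (fun i => P.1 (ψ i))) := by
  rw [mapDiv_apply' hK]
  set V := Finset.univ.sup' Finset.univ_nonempty (fun i => P.1 (ψ i)) with hV
  have hV1 : 1 ≤ V := by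
    calc (1 : WithZero (Multiplicative ℤ)) = P.1 (ψ 0) := by rw [h0, map_one]
      _ ≤ V := Finset.le_sup' (fun i => P.1 (ψ i)) (Finset.mem_univ (0 : Fin 3))
  have hV0 : V ≠ 0 := (lt_of_lt_of_le zero_lt_one hV1).ne'
  have hlogV : 0 ≤ WithZero.log V := by
    have := (WithZero.log_le_log one_ne_zero hV0).mpr hV1
    simpa using this
  apply le_antisymm
  · rw [neg_le, Finset.le_inf'_iff]
    intro i _
    unfold FunFld.Place.ord
    rw [neg_le_neg_iff]
    by_cases hi : ψ i = 0
    · rw [hi, map_zero, WithZero.log_zero]; exact hlogV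
    · exact (WithZero.log_le_log ((Valuation.ne_zero_iff P.1).mpr hi) hV0).mpr
        (Finset.le_sup' (fun i => P.1 (ψ i)) (Finset.mem_univ i))
  · obtain ⟨i₀, -, hi₀⟩ := Finset.exists_mem_eq_sup' Finset.univ_nonempty (fun i => P.1 (ψ i))
    rw [le_neg]
    calc Finset.univ.inf' Finset.univ_nonempty (fun i => P.ord (ψ i)) ≤ P.ord (ψ i₀) :=
          Finset.inf'_le _ (Finset.mem_univ i₀)
      _ = -WithZero.log V := by
          unfold FunFld.Place.ord
          rw [hV, hi₀]

theorem sup_val_le_of_mulVec (P : FunFld.Place k K) (A : Matrix (Fin 3) (Fin 3) k)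
    (u X : Fin 3 → K) (hu : ∀ i, ∑ j, algebraMap k K (A i j) * u j = X i) :
    Finset.univ.sup' Finset.univ_nonempty (fun i => P.1 (X i)) ≤
      Finset.univ.sup' Finset.univ_nonempty (fun i => P.1 (u i)) := by
  rw [Finset.sup'_le_iff]
  intro i _
  rw [← hu i]
  apply Valuation.map_sum_le
  intro j _
  rw [map_mul]
  calc P.1 (algebraMap k K (A i j)) * P.1 (u j) ≤ 1 * P.1 (u j) :=
        mul_le_mul' (P.2.1 _) le_rfl
    _ = P.1 (u j) := one_mul _
    _ ≤ _ := Finset.le_sup' (fun i => P.1 (u i)) (Finset.mem_univ j)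

theorem mapDiv_coord_change (hK : FunFld.IsFunctionField k K) (x y : K)
    (A : Matrix (Fin 3) (Fin 3) k) (hA : A.det ≠ 0)
    (u : Fin 3 → K) (hu : ∀ i, ∑ j, algebraMap k K (A i j) * u j = ![(1 : K), x, y] i)
    (hu0 : u 0 ≠ 0) :
    FunFld.mapDiv k ![(1 : K), u 1 / u 0, u 2 / u 0] =
      FunFld.mapDiv k ![(1 : K), x, y] + FunFld.div k (u 0) := by
  classical
  ext P
  rw [Finsupp.add_apply, mapDiv_apply_log hK _ (by simp), mapDiv_apply_log hK _ (by simp),
    div_apply hK]
  -- inverse relation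
  have hu' : ∀ i, ∑ j, algebraMap k K (A⁻¹ i j) * ![(1 : K), x, y] j = u i := by
    intro i
    have h1 : (A.map (algebraMap k K)).mulVec u = ![(1 : K), x, y] := by
      funext i
      rw [← hu i]
      simp [Matrix.mulVec, dotProduct]
    have h2 : (A⁻¹.map (algebraMap k K)).mulVec ((A.map (algebraMap k K)).mulVec u) = u := by
      rw [Matrix.mulVec_mulVec, ← Matrix.map_mul,
        Matrix.nonsing_inv_mul A (isUnit_iff_ne_zero.mpr hA)]
      simp
    rw [h1] at h2
    have := congrFun h2 i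
    simpa [Matrix.mulVec, dotProduct] using this
  have hVeq : Finset.univ.sup' Finset.univ_nonempty (fun i => P.1 (u i)) =
      Finset.univ.sup' Finset.univ_nonempty (fun i => P.1 (![(1 : K), x, y] i)) :=
    le_antisymm (sup_val_le_of_mulVec P A⁻¹ _ _ hu') (sup_val_le_of_mulVec P A _ _ hu)
  have hX' : ∀ i, ![(1 : K), u 1 / u 0, u 2 / u 0] i = u i / u 0 := by
    intro i
    fin_cases i
    · simp [div_self hu0]
    · simp
    · simp
  have hv0 : P.1 (u 0) ≠ 0 := (Valuation.ne_zero_iff P.1).mpr hu0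
  have hV' : Finset.univ.sup' Finset.univ_nonempty
        (fun i => P.1 (![(1 : K), u 1 / u 0, u 2 / u 0] i)) =
      Finset.univ.sup' Finset.univ_nonempty (fun i => P.1 (u i)) / P.1 (u 0) := by
    apply le_antisymm
    · rw [Finset.sup'_le_iff]
      intro i _
      rw [hX', map_div₀]
      rw [div_eq_mul_inv, div_eq_mul_inv]
      exact mul_le_mul' (Finset.le_sup' (fun i => P.1 (u i)) (Finset.mem_univ i)) le_rfl
    · obtain ⟨i₀, -, hi₀⟩ := Finset.exists_mem_eq_sup' Finset.univ_nonempty (fun i => P.1 (u i))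
      rw [hi₀, ← map_div₀, ← hX']
      exact Finset.le_sup' (fun i => P.1 (![(1 : K), u 1 / u 0, u 2 / u 0] i)) (Finset.mem_univ i₀)
  rw [hV', hVeq]
  have hV0 : Finset.univ.sup' Finset.univ_nonempty (fun i => P.1 (![(1 : K), x, y] i)) ≠ 0 := by
    have := Finset.le_sup' (fun i => P.1 (![(1 : K), x, y] i)) (Finset.mem_univ (0 : Fin 3))
    simp only [Matrix.cons_val_zero, map_one] at this
    exact (lt_of_lt_of_le zero_lt_one this).ne'
  rw [WithZero.log_div hV0 hv0]
  unfold FunFld.Place.ord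
  ring

theorem ord_algebraMap_eq_zero (P : FunFld.Place k K) {c : k} (hc : c ≠ 0) :
    P.ord (algebraMap k K c) = 0 := by
  unfold FunFld.Place.ord
  rw [val_algebraMap P hc, WithZero.log_one, neg_zero]

/-- S12616: the adjoint divisor does not depend on the projective coordinates. -/
theorem adjointDiv_coord_change [IsAlgClosed k]
    (hK : FunFld.IsFunctionField k K) (f : MvPolynomial (Fin 3) k) (e : ℕ) (hf : f.IsHomogeneous e)
    (x y : K) (hfxy : aeval ![(1 : K), x, y] f = 0)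
    (hdx : KaehlerDifferential.D k K x ≠ 0)
    (he : (FunFld.mapDiv k ![(1 : K), x, y]).deg = e)
    (A : Matrix (Fin 3) (Fin 3) k) (hA : A.det ≠ 0)
    (u : Fin 3 → K) (hu : ∀ i, ∑ j, algebraMap k K (A i j) * u j = ![(1 : K), x, y] i)
    (hu0 : u 0 ≠ 0)
    (hfy : (aeval ![(1 : K), x, y] (pderiv 2 f)) ≠ 0)
    (hfy' : (aeval ![(1 : K), u 1 / u 0, u 2 / u 0]
      (pderiv 2 (aeval (fun i : Fin 3 => ∑ j, C (A i j) * X j) f))) ≠ 0)
    (Φ : FunFld.Place k K → (K →ₐ[k] LaurentSeries k))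
    (hΦ : ∀ P : FunFld.Place k K, LocRes.IsExpansionAt P.1 (Φ P)) :
    ((FunFld.mapDiv k ![(1 : K), x, y]).deg - 3) • FunFld.mapDiv k ![(1 : K), x, y] -
        FunFld.divDiff Φ (aeval ![(1 : K), x, y] (pderiv 2 f))⁻¹ x =
      ((FunFld.mapDiv k ![(1 : K), u 1 / u 0, u 2 / u 0]).deg - 3) •
          FunFld.mapDiv k ![(1 : K), u 1 / u 0, u 2 / u 0] -
        FunFld.divDiff Φ (aeval ![(1 : K), u 1 / u 0, u 2 / u 0]
          (pderiv 2 (aeval (fun i : Fin 3 => ∑ j, C (A i j) * X j) f)))⁻¹ (u 1 / u 0) := by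
  classical
  have hg : FunFld.IsGeometric k K := isGeometric_of_isAlgClosed'
  have hM' := mapDiv_coord_change hK x y A hA u hu hu0
  have hdeg' : (FunFld.mapDiv k ![(1 : K), u 1 / u 0, u 2 / u 0]).deg =
      (FunFld.mapDiv k ![(1 : K), x, y]).deg := by
    rw [hM', deg_add, deg_div_eq_zero hK, add_zero]
  set g : K := aeval ![(1 : K), x, y] (pderiv 2 f) with hgdef
  set g' : K := aeval ![(1 : K), u 1 / u 0, u 2 / u 0]
    (pderiv 2 (aeval (fun i : Fin 3 => ∑ j, C (A i j) * X j) f)) with hg'def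
  have he1 : 1 ≤ e := by
    apply one_le_of_pderiv_ne_zero hf (i := (2 : Fin 3))
    intro h0
    apply hfy
    rw [hgdef, h0, map_zero]
  set h : K := u 0 ^ (e - 1) / (u 0 ^ 2 * algebraMap k K A.det) with hh
  have hdetK : algebraMap k K A.det ≠ 0 := (map_ne_zero _).mpr hA
  have hh0 : h ≠ 0 := by
    rw [hh]
    exact div_ne_zero (pow_ne_zero _ hu0) (mul_ne_zero (pow_ne_zero _ hu0) hdetK)
  have hordh : ∀ P : FunFld.Place k K, P.ord h = ((e : ℤ) - 3) * P.ord (u 0) := by
    intro P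
    rw [hh, div_eq_mul_inv, ord_mul P (pow_ne_zero _ hu0)
      (inv_ne_zero (mul_ne_zero (pow_ne_zero _ hu0) hdetK)), ord_inv,
      ord_mul P (pow_ne_zero _ hu0) hdetK, ord_pow', ord_pow', ord_algebraMap_eq_zero P hA]
    have : ((e - 1 : ℕ) : ℤ) = (e : ℤ) - 1 := by omega
    rw [this]
    push_cast
    ring
  have hfin := (weil_of_differential (φ := Φ) hK hg hΦ (inv_ne_zero hfy) hdx).1
  have hne : ∀ P, LocRes.vDiff (Φ P) g⁻¹ x ≠ 0 :=
    fun P => vDiff_ne_zero (φ := Φ) hK hg hΦ (inv_ne_zero hfy) hdx P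
  have hloc : ∀ P, LocRes.vDiff (Φ P) g'⁻¹ (u 1 / u 0) = P.1 h * LocRes.vDiff (Φ P) g⁻¹ x := by
    intro P
    unfold LocRes.vDiff
    rw [local_identity (Φ P) (fun z => LocRes.D k z) (fun a b => map_add _ a b)
      (fun a b => by
        have := (LocRes.D k).leibniz a b
        rwa [smul_eq_mul, smul_eq_mul] at this)
      (fun c => (LocRes.D k).map_algebraMap c)
      f e hf x y hfxy A hA u hu hu0 hfy hfy', map_mul, (hΦ P).1]
  have hord : ∀ P, LocRes.ordDiff (Φ P) g'⁻¹ (u 1 / u 0) =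
      ((e : ℤ) - 3) * P.ord (u 0) + LocRes.ordDiff (Φ P) g⁻¹ x := by
    intro P
    rw [← hordh P]
    unfold LocRes.ordDiff FunFld.Place.ord
    rw [hloc P, WithZero.log_mul ((Valuation.ne_zero_iff P.1).mpr hh0) (hne P)]
    ring
  have hfin' : (Function.support fun P => LocRes.ordDiff (Φ P) g'⁻¹ (u 1 / u 0)).Finite := by
    apply ((finite_support_ord hK (u 0)).union hfin).subset
    intro P hP
    rw [Function.mem_support, hord P] at hP
    by_contra hcon
    rw [Set.mem_union, not_or, Function.mem_support, Function.mem_support, not_not, not_not]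
      at hcon
    apply hP
    rw [hcon.1, hcon.2, mul_zero, add_zero]
  ext P
  rw [hdeg', he, hM']
  simp only [Finsupp.sub_apply, Finsupp.smul_apply, Finsupp.add_apply, smul_eq_mul]
  have h1 : FunFld.divDiff Φ g⁻¹ x P = LocRes.ordDiff (Φ P) g⁻¹ x := by
    unfold FunFld.divDiff
    rw [dif_pos hfin]
    rfl
  have h2 : FunFld.divDiff Φ g'⁻¹ (u 1 / u 0) P = LocRes.ordDiff (Φ P) g'⁻¹ (u 1 / u 0) := by
    unfold FunFld.divDiff
    rw [dif_pos hfin']
    rfl
  rw [h1, h2, hord P, div_apply hK]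
  ring

end Groth.Agent.Lib.FFAdj58
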