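import Groth.Agent.Lib.FFWeil58f
import Mathlib.RingTheory.Smooth.AdicCompletion
import Mathlib.RingTheory.Etale.Field
import Mathlib.RingTheory.AdicCompletion.Completeness
import Mathlib.FieldTheory.RatFunc.AsPolynomial

/-!
# Existence of a total Hasse derivative (helper58)

`exists_hasseFamily_of_isSeparable`: for `s : K` transcendental over `k` with `K / k(s)` separable
algebraic, there is a `k`-algebra map `H : K → K⟦T⟧` with `H s = s + T` and constant term the identity.
`exists_hasseFamily`: hence one exists over an algebraically closed constant field.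
-/

set_option autoImplicit false

namespace Groth.Agent.Lib.FFExp58

open FunFld Groth.Agent.Lib.H40FunFld IntermediateField

universe u v

variable {k : Type u} {K : Type v} [Field k] [Field K] [Algebra k K]

/-- The Taylor shift on polynomials `p ↦ p(s + T)`. -/
noncomputable def polyShift (s : K) : Polynomial k →ₐ[k] PowerSeries K :=
  Polynomial.aeval (PowerSeries.C s + PowerSeries.X)

theorem constantCoeff_polyShift (s : K) (p : Polynomial k) :
    PowerSeries.constantCoeff (polyShift (k := k) s p) = Polynomial.aeval s p := by
  unfold polyShift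
  induction p using Polynomial.induction_on' with
  | add p q hp hq => rw [map_add, map_add, map_add, hp, hq]
  | monomial n a =>
    rw [Polynomial.aeval_monomial, Polynomial.aeval_monomial, map_mul, map_pow, map_add]
    simp [PowerSeries.algebraMap_apply]

theorem isUnit_polyShift {s : K} (hs : Transcendental k s)
    (p : nonZeroDivisors (Polynomial k)) : IsUnit (polyShift (k := k) s (p : Polynomial k)) := by
  rw [PowerSeries.isUnit_iff_constantCoeff, constantCoeff_polyShift, isUnit_iff_ne_zero]
  intro h0
  exact nonZeroDivisors.ne_zero p.2 ((transcendental_iff.mp hs) _ h0)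

/-- The Taylor shift on rational functions. -/
noncomputable def ratShift {s : K} (hs : Transcendental k s) : RatFunc k →ₐ[k] PowerSeries K :=
  IsLocalization.liftAlgHom (M := nonZeroDivisors (Polynomial k)) (f := polyShift (k := k) s)
    (isUnit_polyShift hs)

theorem ratShift_algebraMap {s : K} (hs : Transcendental k s) (p : Polynomial k) :
    ratShift hs (algebraMap (Polynomial k) (RatFunc k) p) = polyShift s p := by
  unfold ratShift
  exact IsLocalization.lift_eq _ p

theorem constantCoeff_ratShift {s : K} (hs : Transcendental k s) (r : RatFunc k) :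
    PowerSeries.constantCoeff (ratShift hs r) =
      ((RatFunc.algEquivOfTranscendental s hs r : k⟮s⟯) : K) := by
  have h : (PowerSeries.constantCoeff (R := K)).comp (ratShift hs).toRingHom =
      (algebraMap k⟮s⟯ K).comp (RatFunc.algEquivOfTranscendental s hs).toAlgHom.toRingHom := by
    apply IsLocalization.ringHom_ext (nonZeroDivisors (Polynomial k))
    apply RingHom.ext
    intro p
    simp only [RingHom.coe_comp, Function.comp_apply, AlgHom.toRingHom_eq_coe, RingHom.coe_coe]
    rw [ratShift_algebraMap, constantCoeff_polyShift]
    show Polynomial.aeval s p = algebraMap k⟮s⟯ K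
      ((RatFunc.algEquivOfTranscendental s hs) (algebraMap (Polynomial k) (RatFunc k) p))
    rw [RatFunc.algEquivOfTranscendental_algebraMap, ← Polynomial.aeval_algebraMap_apply]
    rfl
  exact congrArg (fun f => f r) h

/-- The Taylor shift on `k(s)`. -/
noncomputable def adjShift {s : K} (hs : Transcendental k s) : k⟮s⟯ →ₐ[k] PowerSeries K :=
  (ratShift hs).comp (RatFunc.algEquivOfTranscendental s hs).symm.toAlgHom

theorem constantCoeff_adjShift {s : K} (hs : Transcendental k s) (x : k⟮s⟯) :
    PowerSeries.constantCoeff (adjShift hs x) = (x : K) := by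
  unfold adjShift
  rw [AlgHom.comp_apply, constantCoeff_ratShift]
  simp

theorem adjShift_gen {s : K} (hs : Transcendental k s) :
    adjShift hs (AdjoinSimple.gen k s) = PowerSeries.C s + PowerSeries.X := by
  unfold adjShift
  rw [AlgHom.comp_apply]
  show ratShift hs ((RatFunc.algEquivOfTranscendental s hs).symm (AdjoinSimple.gen k s)) = _
  rw [RatFunc.algEquivOfTranscendental_symm_gen, ← RatFunc.algebraMap_X, ratShift_algebraMap]
  unfold polyShift
  rw [Polynomial.aeval_X]

/-- A copy of `k(s)` that does not see the `K`-algebra structure of `K⟦T⟧`. -/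
def AdjS (k : Type u) {K : Type v} [Field k] [Field K] [Algebra k K] (s : K) : Type v := k⟮s⟯

noncomputable instance (s : K) : Field (AdjS k s) := inferInstanceAs (Field k⟮s⟯)
noncomputable instance (s : K) : Algebra k (AdjS k s) := inferInstanceAs (Algebra k k⟮s⟯)
noncomputable instance (s : K) : Algebra (AdjS k s) K := inferInstanceAs (Algebra k⟮s⟯ K)
instance (s : K) : IsScalarTower k (AdjS k s) K := inferInstanceAs (IsScalarTower k k⟮s⟯ K)
instance (s : K) [h : Algebra.IsSeparable k⟮s⟯ K] : Algebra.IsSeparable (AdjS k s) K := h

/-- The Taylor shift on the copy of `k(s)`. -/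
noncomputable def adjShift' {s : K} (hs : Transcendental k s) : AdjS k s →ₐ[k] PowerSeries K :=
  adjShift hs

/-- Existence of the total Hasse derivative with respect to a separating variable. -/
theorem exists_hasseFamily_of_isSeparable {s : K} (hs : Transcendental k s)
    [Algebra.IsSeparable k⟮s⟯ K] :
    ∃ H : K →ₐ[k] PowerSeries K, LocRes.IsHasseFamily s H := by
  classical
  let H₀ : AdjS k s →ₐ[k] PowerSeries K := adjShift' hs
  letI algE : Algebra (AdjS k s) (PowerSeries K) := H₀.toRingHom.toAlgebra
  have tower : IsScalarTower k (AdjS k s) (PowerSeries K) :=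
    IsScalarTower.of_algebraMap_eq fun c => (H₀.commutes c).symm
  have : Algebra.FormallyEtale (AdjS k s) K := Algebra.FormallyEtale.of_isSeparable (AdjS k s) K
  set I : Ideal (PowerSeries K) := Ideal.span {(PowerSeries.X : PowerSeries K)} with hI
  have hmem : ∀ φ : PowerSeries K, φ ∈ I ↔ PowerSeries.constantCoeff φ = 0 := by
    intro φ
    rw [hI, Ideal.mem_span_singleton, PowerSeries.X_dvd_iff]
  have hcc : ∀ x : AdjS k s, PowerSeries.constantCoeff (H₀ x) = algebraMap (AdjS k s) K x :=
    fun x => constantCoeff_adjShift hs x
  let f : K →ₐ[AdjS k s] PowerSeries K ⧸ I :=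
    { toRingHom := (Ideal.Quotient.mk I).comp (PowerSeries.C (R := K))
      commutes' := by
        intro x
        show Ideal.Quotient.mk I (PowerSeries.C (algebraMap (AdjS k s) K x)) =
          Ideal.Quotient.mk I (H₀ x)
        rw [Ideal.Quotient.eq, hmem, map_sub, PowerSeries.constantCoeff_C, hcc]
        exact sub_self _ }
  obtain ⟨g, hg⟩ := Algebra.FormallySmooth.exists_mkₐ_comp_eq_of_isAdicComplete (I := I) f
  let gen : AdjS k s := AdjoinSimple.gen k s
  refine ⟨g.restrictScalars k, ?_, ?_⟩
  · show g s = _
    have h1 : g (algebraMap (AdjS k s) K gen) = algebraMap (AdjS k s) (PowerSeries K) gen :=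
      g.commutes _
    have h2 : algebraMap (AdjS k s) (PowerSeries K) gen = adjShift hs (AdjoinSimple.gen k s) :=
      rfl
    rw [h2, adjShift_gen] at h1
    exact h1
  · intro y
    show PowerSeries.constantCoeff (g y) = y
    have h1 : Ideal.Quotient.mk I (g y) = Ideal.Quotient.mk I (PowerSeries.C y) :=
      congrArg (fun F => F y) hg
    rw [Ideal.Quotient.eq, hmem, map_sub, PowerSeries.constantCoeff_C, sub_eq_zero] at h1
    exact h1

/-- Over an algebraically closed constant field, a total Hasse derivative exists. -/
theorem exists_hasseFamily [IsAlgClosed k] (hK : FunFld.IsFunctionField k K) :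
    ∃ (s : K) (H : K →ₐ[k] PowerSeries K), LocRes.IsHasseFamily s H := by
  have hg : FunFld.IsGeometric k K := isGeometric_of_isAlgClosed'
  obtain ⟨s, hs, hsep⟩ := exists_separating_of_isGeometric hK hg
  obtain ⟨H, hH⟩ := exists_hasseFamily_of_isSeparable hs
  exact ⟨s, H, hH⟩

end Groth.Agent.Lib.FFExp58
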