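import Groth.Agent.Lib.FFWP58d
import Groth.Agent.Lib.FFHasseEx58

/-!
# Finiteness of the automorphism group of a function field of genus `> 1` (helper58)

`finite_algEquiv` (S11048): over an algebraically closed constant field of characteristic `0` or
`> 2g - 2`, a function field of genus `g > 1` has finitely many automorphisms.
-/

set_option autoImplicit false

namespace Groth.Agent.Lib.FFExp58

open FunFld Groth.Agent.Lib.H40FunFld IntermediateField

universe u v

variable {k : Type u} {K : Type v} [Field k] [Field K] [Algebra k K]

theorem comapPlace_comapPlace (P : FunFld.Place k K) (σ τ : K ≃ₐ[k] K) :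
    comapPlace (comapPlace P σ) τ = comapPlace P (σ * τ) := by
  apply Subtype.ext
  apply Valuation.ext
  intro z
  rfl

theorem comapPlace_one (P : FunFld.Place k K) : comapPlace P (1 : K ≃ₐ[k] K) = P := by
  apply Subtype.ext
  apply Valuation.ext
  intro z
  rfl

theorem comapPlace_injective (σ : K ≃ₐ[k] K) :
    Function.Injective fun P : FunFld.Place k K => comapPlace P σ := by
  intro P Q h
  have h2 := congrArg (fun R => comapPlace R σ⁻¹) h
  simp only [comapPlace_comapPlace, mul_inv_cancel, comapPlace_one] at h2
  exact h2

theorem not_isGap_comapPlace (σ : K ≃ₐ[k] K) (P : FunFld.Place k K) (m : ℕ)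
    (h : ¬ IsGap P m) : ¬ IsGap (comapPlace P σ) m := by
  rw [not_isGap_iff] at h ⊢
  obtain ⟨x, hv, hQ⟩ := h
  refine ⟨σ.symm x, ?_, fun Q hQne => ?_⟩
  · rw [comapPlace_apply, σ.apply_symm_apply, hv]
  · have hne : comapPlace Q σ⁻¹ ≠ P := by
      intro heq
      apply hQne
      rw [← heq, comapPlace_comapPlace, inv_mul_cancel, comapPlace_one]
    exact hQ _ hne

theorem isGap_comapPlace (σ : K ≃ₐ[k] K) (P : FunFld.Place k K) (m : ℕ) :
    IsGap (comapPlace P σ) m ↔ IsGap P m := by
  constructor
  · intro h
    by_contra hn
    exact not_isGap_comapPlace σ P m hn h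
  · intro h
    by_contra hn
    have := not_isGap_comapPlace σ⁻¹ (comapPlace P σ) m hn
    rw [comapPlace_comapPlace, mul_inv_cancel, comapPlace_one] at this
    exact this h

/-- A strictly increasing enumeration is determined by its range. -/
theorem strictMono_eq_of_range_eq {n : ℕ} {a b : Fin n → ℕ} (ha : StrictMono a) (hb : StrictMono b)
    (h : Set.range a = Set.range b) : a = b := by
  have h1 : (Finset.univ.image a) = (Finset.univ.image b) := by
    apply Finset.coe_injective
    simpa using h
  have hcard : (Finset.univ.image a).card = n := by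
    rw [Finset.card_image_of_injective _ ha.injective, Finset.card_fin]
  have e1 := Finset.orderEmbOfFin_unique hcard
    (fun x => Finset.mem_image_of_mem a (Finset.mem_univ x)) ha
  have e2 := Finset.orderEmbOfFin_unique hcard
    (fun x => by rw [h1]; exact Finset.mem_image_of_mem b (Finset.mem_univ x)) hb
  exact (e1 : a = _).trans e2.symm

end Groth.Agent.Lib.FFExp58
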