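import Groth.Agent.Lib.FFAut58a
import Mathlib.FieldTheory.Fixed

/-!
# Finiteness of the automorphism group, assembly (helper58)
-/

set_option autoImplicit false

namespace Groth.Agent.Lib.FFExp58

open FunFld Groth.Agent.Lib.H40FunFld IntermediateField

universe u v

variable {k : Type u} {K : Type v} [Field k] [Field K] [Algebra k K]

/-- The automorphisms fixing `x` form a finite set when `K / k(x)` is finite. -/
theorem finite_fixing {x : K} (hx : Module.finrank k⟮x⟯ K = 2) :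
    {ρ : K ≃ₐ[k] K | ρ x = x}.Finite := by
  classical
  haveI : FiniteDimensional k⟮x⟯ K := Module.finite_of_finrank_pos (by omega)
  have hfix : ∀ ρ : {ρ : K ≃ₐ[k] K | ρ x = x}, ∀ e : k⟮x⟯, ρ.1 (e : K) = e := by
    intro ρ e
    have hle : k⟮x⟯ ≤ fixedFieldOf ρ.1 := by
      rw [IntermediateField.adjoin_simple_le_iff]
      exact ρ.2
    exact hle e.2
  let F : {ρ : K ≃ₐ[k] K | ρ x = x} → (K ≃ₐ[k⟮x⟯] K) := fun ρ =>
    AlgEquiv.ofRingEquiv (f := ρ.1.toRingEquiv) (fun e => hfix ρ e)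
  have hF : Function.Injective F := by
    intro ρ ρ' h
    apply Subtype.ext
    apply AlgEquiv.ext
    intro z
    have := congrArg (fun G : K ≃ₐ[k⟮x⟯] K => G z) h
    exact this
  have : Finite {ρ : K ≃ₐ[k] K | ρ x = x} := Finite.of_injective F hF
  exact Set.toFinite _

theorem wDiv_comapPlace [IsAlgClosed k] (hK : FunFld.IsFunctionField k K)
    (hgen : 0 < FunFld.genus k K)
    (hchar : ringChar k = 0 ∨ 2 * (FunFld.genus k K : ℤ) - 2 < ringChar k)
    (C : FunFld.Divisor k K) (hC : FunFld.IsCanonical k K C)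
    {n : ℕ} (φ : Fin (n + 1) → K) (hφ : LinearIndependent k φ)
    (hspan : Submodule.span k (Set.range φ) = FunFld.L C)
    (s : K) (H : K →ₐ[k] PowerSeries K) (hH : LocRes.IsHasseFamily s H)
    (hJ : FunFld.IsOrders K (FunFld.hcol (AlgHom.id k K) H φ) (fun l : Fin n => (l : ℕ) + 1))
    (Φ : FunFld.Place k K → (K →ₐ[k] LaurentSeries k))
    (hΦ : ∀ P : FunFld.Place k K, LocRes.IsExpansionAt P.1 (Φ P)) (P : FunFld.Place k K)
    (σ : K ≃ₐ[k] K) :
    FunFld.wDiv (AlgHom.id k K) H Φ s φ (fun l : Fin n => (l : ℕ) + 1) (comapPlace P σ) =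
      FunFld.wDiv (AlgHom.id k K) H Φ s φ (fun l : Fin n => (l : ℕ) + 1) P := by
  obtain ⟨J', hJ's, hJ'1, hiff, hWP⟩ :=
    canonical_weight hK hgen hchar C hC φ hφ hspan s H hH hJ Φ hΦ P
  obtain ⟨J'', hJ''s, hJ''1, hiff', hWP'⟩ :=
    canonical_weight hK hgen hchar C hC φ hφ hspan s H hH hJ Φ hΦ (comapPlace P σ)
  have hrange : Set.range J'' = Set.range J' := by
    ext j
    constructor
    · rintro ⟨l, rfl⟩
      have h1 := hJ''1 l
      rw [hiff (J'' l) h1, ← isGap_comapPlace σ P, ← hiff' (J'' l) h1]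
      exact ⟨l, rfl⟩
    · rintro ⟨l, rfl⟩
      have h1 := hJ'1 l
      rw [hiff' (J' l) h1, isGap_comapPlace σ P, ← hiff (J' l) h1]
      exact ⟨l, rfl⟩
  have heq := strictMono_eq_of_range_eq hJ''s hJ's hrange
  rw [hWP, hWP', heq]

theorem finite_algEquiv [IsAlgClosed k]
    (hK : FunFld.IsFunctionField k K) (hg : 1 < FunFld.genus k K)
    (hp : ringChar k = 0 ∨ 2 * FunFld.genus k K - 2 < ringChar k) :
    Finite (K ≃ₐ[k] K) := by
  classical
  have hgen : 0 < FunFld.genus k K := by omega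
  have hcharZ : ringChar k = 0 ∨ 2 * (FunFld.genus k K : ℤ) - 2 < ringChar k := by
    rcases hp with h | h
    · exact Or.inl h
    · right
      have : ((2 * FunFld.genus k K - 2 : ℕ) : ℤ) < (ringChar k : ℤ) := by exact_mod_cast h
      rw [Nat.cast_sub (by omega)] at this
      push_cast at this
      exact this
  obtain ⟨C, hC⟩ := exists_isCanonical hK
  have hell : FunFld.ell C = FunFld.genus k K := ell_canonical hK hC
  obtain ⟨n, hn⟩ : ∃ n, FunFld.genus k K = n + 1 := ⟨FunFld.genus k K - 1, by omega⟩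
  have hfd : FiniteDimensional k (FunFld.L C) := finiteDimensional_L hK C
  let b : Module.Basis (Fin (n + 1)) k (FunFld.L C) :=
    Module.finBasisOfFinrankEq k (FunFld.L C) (hell.trans hn)
  set φ : Fin (n + 1) → K := fun i => ((b i : FunFld.L C) : K) with hφdef
  have hφ : LinearIndependent k φ :=
    b.linearIndependent.map' (FunFld.L C).subtype (Submodule.ker_subtype _)
  have hspan : Submodule.span k (Set.range φ) = FunFld.L C := by
    have h1 : Set.range φ = (FunFld.L C).subtype '' Set.range b := by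
      rw [← Set.range_comp]; rfl
    rw [h1, Submodule.span_image, b.span_eq, Submodule.map_subtype_top]
  obtain ⟨s, H, hH⟩ := exists_hasseFamily hK
  obtain ⟨J, hJ, -⟩ := Groth.Agent.S12600.result k K hK φ hφ (AlgHom.id k K) s H hH
  obtain ⟨Φ, hΦ⟩ := exists_expansions hK
  have hdegφ : (FunFld.mapDiv k φ).deg = 2 * (FunFld.genus k K : ℤ) - 2 := by
    rw [mapDiv_canonical hK hgen C hC φ hφ hspan, deg_canonical hK hC]
  have hJeq : J = fun l : Fin n => (l : ℕ) + 1 :=
    orders_classical hK φ hφ (by rw [hdegφ]; exact hcharZ) s H hH J hJ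
  subst hJeq
  set W := FunFld.wDiv (AlgHom.id k K) H Φ s φ (fun l : Fin n => (l : ℕ) + 1) with hWdef
  have hinv : ∀ (σ : K ≃ₐ[k] K) (P : FunFld.Place k K), W (comapPlace P σ) = W P :=
    fun σ P => wDiv_comapPlace hK hgen hcharZ C hC φ hφ hspan s H hH hJ Φ hΦ P σ
  have hdich := weierstrass_dichotomy hK hg hp C hC φ hφ hspan s H hH _ hJ Φ hΦ
  -- the finite set of automorphisms fixing all Weierstrass points
  obtain ⟨N, hNfin, hN⟩ : ∃ N : Set (K ≃ₐ[k] K), N.Finite ∧ ∀ ρ : K ≃ₐ[k] K,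
      (∀ P : FunFld.Place k K, W P ≠ 0 → FunFld.IsFixedPt (ρ : K →ₐ[k] K) P) → ρ ∈ N := by
    rcases hdich with ⟨-, h⟩ | ⟨-, x, hx2, h⟩
    · exact ⟨{AlgEquiv.refl}, Set.finite_singleton _, fun ρ hρ => h ρ hρ⟩
    · exact ⟨{ρ | ρ x = x}, finite_fixing hx2, fun ρ hρ => (h ρ).mp hρ⟩
  -- the action on the Weierstrass points
  let Ψ : (K ≃ₐ[k] K) → (↥W.support → ↥W.support) := fun σ P =>
    ⟨comapPlace P.1 σ, by
      rw [Finsupp.mem_support_iff, hinv]
      exact Finsupp.mem_support_iff.mp P.2⟩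
  have hfib : ∀ τ : K ≃ₐ[k] K, {σ | Ψ σ = Ψ τ} ⊆ (fun ρ => ρ * τ) '' N := by
    intro τ σ hσ
    refine ⟨σ * τ⁻¹, hN _ ?_, by simp⟩
    intro P hP z hz
    have hPS : P ∈ W.support := Finsupp.mem_support_iff.mpr hP
    have h0 : Ψ σ ⟨P, hPS⟩ = Ψ τ ⟨P, hPS⟩ := congrFun hσ ⟨P, hPS⟩
    have h1 : comapPlace P σ = comapPlace P τ := congrArg Subtype.val h0
    have h2 := congrArg (fun Q : FunFld.Place k K => Q.1 (τ⁻¹ z)) h1
    simp only [comapPlace_apply] at h2
    show P.1 (σ (τ⁻¹ z)) < 1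
    rw [h2]
    have : τ (τ⁻¹ z) = z := τ.apply_symm_apply z
    rw [this]
    exact hz
  rw [← Set.finite_univ_iff]
  have hcover : (Set.univ : Set (K ≃ₐ[k] K)) = ⋃ v ∈ Set.range Ψ, Ψ ⁻¹' {v} := by
    ext σ
    simp
  rw [hcover]
  apply Set.Finite.biUnion (Set.toFinite _)
  rintro _ ⟨τ, rfl⟩
  exact (hNfin.image _).subset (hfib τ)

end Groth.Agent.Lib.FFExp58
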