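import Groth.Agent.Lib.H40FunFldGenusOne

/-!
# Function fields of one variable (`FunFld`): places of degree one, Weierstrass gaps, Clifford's
bound for multiples of a point, bases of `L(nP)` in genus one.
-/

set_option autoImplicit false
open FunFld Polynomial

namespace Groth.Agent.Lib.H40FunFld

open Groth.Agent.Lib.H40QuotChain IntermediateField

universe u v
variable {k : Type u} {K : Type v} [Field k] [Field K] [Algebra k K]

/-- Over an algebraically closed constant field every place has degree one. -/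
theorem deg_eq_one_of_isAlgClosed [IsAlgClosed k] (hK : FunFld.IsFunctionField k K)
    (P : FunFld.Place k K) : P.deg = 1 := by
  have hfin := finiteDimensional_residueField hK P
  have hfin' : @Module.Finite k (IsLocalRing.ResidueField P.O) _ _
      (@Algebra.toModule k (IsLocalRing.ResidueField P.O) _ _ (Place.algRes P)) := hfin
  have hint : Algebra.IsIntegral k (IsLocalRing.ResidueField P.O) := Algebra.IsIntegral.of_finite _ _
  have h1 : Function.Bijective (algebraMap k (IsLocalRing.ResidueField P.O)) :=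
    IsAlgClosed.algebraMap_bijective_of_isIntegral
  have h2 : (⊥ : Subalgebra k (IsLocalRing.ResidueField P.O)) = ⊤ := by
    rw [eq_top_iff]
    intro x _
    obtain ⟨c, rfl⟩ := h1.2 x
    exact Subalgebra.algebraMap_mem _ c
  have h3 : @Module.finrank k (IsLocalRing.ResidueField P.O) _ _
      (@Algebra.toModule k (IsLocalRing.ResidueField P.O) _ _ (Place.algRes P)) = 1 :=
    Subalgebra.bot_eq_top_iff_finrank_eq_one.1 h2
  exact h3

/-- If `ℓ(P) ≥ 2` for a place `P`, some function has a simple pole at `P` and no other pole. -/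
theorem exists_simple_pole_of_two_le_ell (hK : FunFld.IsFunctionField k K)
    {P : FunFld.Place k K}
    (h2 : 2 ≤ FunFld.ell (Finsupp.single P 1 : FunFld.Divisor k K)) :
    ∃ x : K, P.ord x = -1 ∧ ∀ Q : FunFld.Place k K, Q ≠ P → 0 ≤ Q.ord x := by
  classical
  have hex : ∃ x ∈ FunFld.L (Finsupp.single P 1 : FunFld.Divisor k K),
      x ∉ FunFld.L (0 : FunFld.Divisor k K) := by
    have := finiteDimensional_L hK (0 : FunFld.Divisor k K)
    apply exists_mem_not_mem_of_finrank_lt
    have h4 := ell_zero hK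
    unfold FunFld.ell at h2 h4
    omega
  obtain ⟨x, hxL, hx0⟩ := hex
  have hxk : x ∉ Set.range (algebraMap k K) := by
    rw [L_zero_eq_one hK] at hx0
    intro hx
    exact hx0 (Submodule.mem_one.2 hx)
  have hxne : x ≠ 0 := fun h => hxk ⟨0, by rw [map_zero, h]⟩
  have hnn := (mem_L_iff_nonneg hK _ hxne).1 hxL
  have hord : ∀ Q : FunFld.Place k K, 0 ≤ (if P = Q then 1 else 0) + Q.ord x := by
    intro Q
    have := hnn Q
    rwa [Finsupp.add_apply, Finsupp.single_apply, div_apply hK, Finsupp.zero_apply] at this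
  obtain ⟨-, ⟨Q, hQ⟩⟩ := exists_zero_and_exists_pole hK x hxk
  have hQP : P = Q := by
    by_contra hne
    have := hord Q
    rw [if_neg hne] at this
    omega
  subst hQP
  refine ⟨x, ?_, fun Q hQ' => ?_⟩
  · have := hord P
    rw [if_pos rfl] at this
    omega
  · have := hord Q
    rw [if_neg (Ne.symm hQ')] at this
    omega

/-- In positive genus, `ℓ(P) = 1` for a place `P` of degree one. -/
theorem ell_single_one_of_genus_pos (hK : FunFld.IsFunctionField k K)
    (hg : 0 < FunFld.genus k K) {P : FunFld.Place k K} (hP : P.deg = 1) :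
    FunFld.ell (Finsupp.single P 1 : FunFld.Divisor k K) = 1 := by
  classical
  have h1 : 1 ≤ FunFld.ell (Finsupp.single P 1 : FunFld.Divisor k K) := by
    apply one_le_ell_of_nonneg hK
    intro Q
    rw [Finsupp.single_apply]
    split_ifs <;> simp
  by_contra hne
  have h2 : 2 ≤ FunFld.ell (Finsupp.single P 1 : FunFld.Divisor k K) := by omega
  obtain ⟨x, hx, hQ⟩ := exists_simple_pole_of_two_le_ell hK h2
  have h3 := adjoin_eq_top_of_simple_pole hK hP hx hQ
  have h4 := genus_eq_zero_of_adjoin_eq_top hK h3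
  omega

theorem ell_sub_single_lt_ell (hK : FunFld.IsFunctionField k K) (hg : 0 < FunFld.genus k K)
    (D : FunFld.Divisor k K)
    (hD : 2 * (FunFld.genus k K : ℤ) ≤ D.deg ∨ FunFld.IsCanonical k K D) {P : FunFld.Place k K}
    (hP : P.deg = 1) :
    FunFld.ell (D - Finsupp.single P 1) < FunFld.ell D := by
  have hdeg : (D - Finsupp.single P 1).deg = D.deg - 1 := by
    rw [deg_sub, deg_single, hP]; simp
  rcases hD with hD | hD
  · have h1 := ell_eq_of_deg_ge hK D (by linarith)
    have h2 := ell_eq_of_deg_ge hK (D - Finsupp.single P 1) (by rw [hdeg]; linarith)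
    rw [hdeg] at h2
    have : (FunFld.ell (D - Finsupp.single P 1) : ℤ) < FunFld.ell D := by rw [h1, h2]; linarith
    exact_mod_cast this
  · have h1 := riemann_roch hK hD (D - Finsupp.single P 1)
    have e : D - (D - Finsupp.single P 1) = Finsupp.single P 1 := by abel
    rw [e, ell_single_one_of_genus_pos hK hg hP, hdeg, deg_canonical hK hD] at h1
    have h2 := ell_canonical hK hD
    have : (FunFld.ell (D - Finsupp.single P 1) : ℤ) < FunFld.ell D := by
      rw [h1, h2]; push_cast; linarith
    exact_mod_cast this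

/-- `m` is a (Weierstrass) gap at `P`: `L(mP) = L((m-1)P)`. -/
def IsGap (P : FunFld.Place k K) (m : ℕ) : Prop :=
  FunFld.L (Finsupp.single P (m : ℤ) : FunFld.Divisor k K) =
    FunFld.L (Finsupp.single P ((m : ℤ) - 1))

theorem single_mono (P : FunFld.Place k K) {a b : ℤ} (h : a ≤ b) :
    (Finsupp.single P a : FunFld.Divisor k K) ≤ Finsupp.single P b := by
  classical
  intro Q
  rw [Finsupp.single_apply, Finsupp.single_apply]
  split_ifs
  · exact h
  · exact le_rfl

/-- `m` is a nongap iff some function has exact pole order `m` at `P` and no other poles. -/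
theorem not_isGap_iff (P : FunFld.Place k K) (m : ℕ) :
    ¬ IsGap P m ↔ ∃ x : K, P.1 x = WithZero.exp (m : ℤ) ∧
      ∀ Q : FunFld.Place k K, Q ≠ P → Q.1 x ≤ 1 := by
  have hle : FunFld.L (Finsupp.single P ((m : ℤ) - 1) : FunFld.Divisor k K) ≤
      FunFld.L (Finsupp.single P (m : ℤ)) := L_mono (single_mono P (by omega))
  constructor
  · intro h
    have hne : ¬ FunFld.L (Finsupp.single P (m : ℤ) : FunFld.Divisor k K) ≤
        FunFld.L (Finsupp.single P ((m : ℤ) - 1)) := fun h' => h (le_antisymm h' hle)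
    obtain ⟨x, hx1, hx2⟩ := Set.not_subset.1 hne
    have hx1' : x ∈ FunFld.L (Finsupp.single P (((m : ℤ) - 1) + 1) : FunFld.Divisor k K) := by
      rw [sub_add_cancel]; exact hx1
    have hv := val_eq_of_mem_L_of_not_mem_L hx1' hx2
    rw [sub_add_cancel] at hv
    exact ⟨x, hv, ((mem_L_single_iff _ _ _).1 hx1).2⟩
  · rintro ⟨x, hv, hQ⟩ h
    have hx1 : x ∈ FunFld.L (Finsupp.single P (m : ℤ) : FunFld.Divisor k K) :=
      (mem_L_single_iff _ _ _).2 ⟨hv.le, hQ⟩
    rw [h, mem_L_single_iff, hv, WithZero.exp_le_exp] at hx1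
    omega

/-- Nongaps are closed under addition. -/
theorem not_isGap_add {P : FunFld.Place k K} {m₁ m₂ : ℕ} (h1 : ¬ IsGap P m₁)
    (h2 : ¬ IsGap P m₂) : ¬ IsGap P (m₁ + m₂) := by
  rw [not_isGap_iff] at h1 h2 ⊢
  obtain ⟨x₁, hv₁, hQ₁⟩ := h1
  obtain ⟨x₂, hv₂, hQ₂⟩ := h2
  refine ⟨x₁ * x₂, ?_, fun Q hQ => ?_⟩
  · rw [map_mul, hv₁, hv₂, ← WithZero.exp_add]; push_cast; rfl
  · rw [map_mul]; exact mul_le_one' (hQ₁ Q hQ) (hQ₂ Q hQ)

open Classical in
/-- The number of gaps in `[1, n]`. -/
noncomputable def gapCount (P : FunFld.Place k K) (n : ℕ) : ℕ :=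
  ((Finset.Icc 1 n).filter fun m => IsGap P m).card

theorem ncard_gaps_le (P : FunFld.Place k K) (n : ℕ) :
    Set.ncard {m : ℕ | 1 ≤ m ∧ m ≤ n ∧ IsGap P m} = gapCount P n := by
  classical
  rw [gapCount, ← Set.ncard_coe_finset]
  congr 1
  ext m
  simp [and_assoc]

theorem ncard_gaps_lt (P : FunFld.Place k K) (n : ℕ) :
    Set.ncard {m : ℕ | 1 ≤ m ∧ m < n ∧ IsGap P m} = gapCount P (n - 1) := by
  rw [← ncard_gaps_le]
  congr 1
  ext m
  simp only [Set.mem_ofPred_eq]
  constructor
  · rintro ⟨h1, h2, h3⟩; exact ⟨h1, by omega, h3⟩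
  · rintro ⟨h1, h2, h3⟩; exact ⟨h1, by omega, h3⟩

theorem gapCount_zero (P : FunFld.Place k K) : gapCount P 0 = 0 := by
  classical
  simp [gapCount]

theorem gapCount_succ (P : FunFld.Place k K) (n : ℕ) [Decidable (IsGap P (n + 1))] :
    gapCount P (n + 1) = gapCount P n + if IsGap P (n + 1) then 1 else 0 := by
  classical
  unfold gapCount
  have h : Finset.Icc 1 (n + 1) = insert (n + 1) (Finset.Icc 1 n) := by
    ext m; simp only [Finset.mem_Icc, Finset.mem_insert]; omega
  rw [h, Finset.filter_insert]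
  split_ifs with hg
  · rw [Finset.card_insert_of_notMem]
    simp
  · rfl

theorem gapCount_mono (P : FunFld.Place k K) {m n : ℕ} (h : m ≤ n) :
    gapCount P m ≤ gapCount P n := by
  classical
  unfold gapCount
  apply Finset.card_le_card
  intro x hx
  rw [Finset.mem_filter, Finset.mem_Icc] at hx ⊢
  exact ⟨⟨hx.1.1, hx.1.2.trans h⟩, hx.2⟩

/-- `ℓ(nP) + #gaps ≤ n = n + 1` for a place of degree one. -/
theorem ell_add_gapCount (hK : FunFld.IsFunctionField k K) {P : FunFld.Place k K}
    (hP : P.deg = 1) (n : ℕ) :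
    FunFld.ell (Finsupp.single P (n : ℤ) : FunFld.Divisor k K) + gapCount P n = n + 1 := by
  classical
  induction n with
  | zero =>
    rw [gapCount_zero]
    have : (Finsupp.single P ((0 : ℕ) : ℤ) : FunFld.Divisor k K) = 0 := by simp
    rw [this, ell_zero hK]
  | succ n ih =>
    rw [gapCount_succ]
    have hle : (Finsupp.single P (n : ℤ) : FunFld.Divisor k K) ≤
        Finsupp.single P ((n + 1 : ℕ) : ℤ) := single_mono P (by push_cast; omega)
    have e2 : ((n + 1 : ℕ) : ℤ) - 1 = (n : ℤ) := by push_cast; ring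
    have hfin := finiteDimensional_L hK (Finsupp.single P ((n + 1 : ℕ) : ℤ))
    have h2 : FunFld.ell (Finsupp.single P (n : ℤ) : FunFld.Divisor k K) ≤
        FunFld.ell (Finsupp.single P ((n + 1 : ℕ) : ℤ) : FunFld.Divisor k K) :=
      Submodule.finrank_mono (L_mono hle)
    have h1 := ell_sub_ell_le hK hle
    rw [deg_single, deg_single, hP] at h1
    have hgap_iff : IsGap P (n + 1) ↔
        FunFld.ell (Finsupp.single P ((n + 1 : ℕ) : ℤ) : FunFld.Divisor k K) =
          FunFld.ell (Finsupp.single P (n : ℤ) : FunFld.Divisor k K) := by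
      unfold IsGap
      rw [e2]
      constructor
      · intro hg
        unfold FunFld.ell
        rw [hg]
      · intro e
        exact (Submodule.eq_of_le_of_finrank_eq (L_mono hle) e.symm).symm
    rw [hgap_iff]
    generalize FunFld.ell (Finsupp.single P ((n + 1 : ℕ) : ℤ) : FunFld.Divisor k K) = a at *
    generalize FunFld.ell (Finsupp.single P (n : ℤ) : FunFld.Divisor k K) = b at *
    push_cast at h1
    have h3 : a ≤ b + 1 := by
      have : (a : ℤ) ≤ b + 1 := by linarith
      exact_mod_cast this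
    split_ifs with hg
    · omega
    · omega

/-- There are exactly `g` gaps. -/
theorem gapCount_eq_genus (hK : FunFld.IsFunctionField k K) {P : FunFld.Place k K}
    (hP : P.deg = 1) {n : ℕ} (hn : 2 * (FunFld.genus k K : ℤ) - 1 ≤ n) :
    gapCount P n = FunFld.genus k K := by
  have h1 := ell_add_gapCount hK hP n
  have hdeg : FunFld.Divisor.deg (Finsupp.single P (n : ℤ) : FunFld.Divisor k K) = n := by
    rw [deg_single, hP]; simp
  have h2 := ell_eq_of_deg_ge hK (Finsupp.single P (n : ℤ)) (by rw [hdeg]; exact hn)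
  rw [hdeg] at h2
  have h3 : (FunFld.ell (Finsupp.single P (n : ℤ) : FunFld.Divisor k K) : ℤ) + gapCount P n =
      n + 1 := by exact_mod_cast h1
  have : (gapCount P n : ℤ) = FunFld.genus k K := by linarith
  exact_mod_cast this

/-- If `n ≥ 1` is a gap then at least half of `1, …, n - 1` are gaps. -/
theorem sub_one_le_two_mul_gapCount {P : FunFld.Place k K} {n : ℕ} (hn : 1 ≤ n)
    (hgap : IsGap P n) : n - 1 ≤ 2 * gapCount P (n - 1) := by
  classical
  set G := (Finset.Icc 1 (n - 1)).filter fun m => IsGap P m with hG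
  have hsub : Finset.Icc 1 (n - 1) ⊆ G ∪ G.image (fun m => n - m) := by
    intro m hm
    rw [Finset.mem_Icc] at hm
    rw [Finset.mem_union]
    by_cases h1 : IsGap P m
    · left
      exact Finset.mem_filter.2 ⟨Finset.mem_Icc.2 hm, h1⟩
    · right
      have h2 : IsGap P (n - m) := by
        by_contra h2
        have := not_isGap_add h1 h2
        rw [show m + (n - m) = n by omega] at this
        exact this hgap
      rw [Finset.mem_image]
      refine ⟨n - m, Finset.mem_filter.2 ⟨Finset.mem_Icc.2 ⟨by omega, by omega⟩, h2⟩, by omega⟩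
  have h1 := Finset.card_le_card hsub
  rw [Nat.card_Icc] at h1
  have h2 := Finset.card_union_le G (G.image fun m => n - m)
  have h3 : (G.image fun m => n - m).card ≤ G.card := Finset.card_image_le
  have h4 : gapCount P (n - 1) = G.card := rfl
  omega

theorem gapCount_eq_of_forall_not_isGap (P : FunFld.Place k K) {n N : ℕ} (hnN : n ≤ N)
    (h : ∀ m, n < m → m ≤ N → ¬ IsGap P m) : gapCount P N = gapCount P n := by
  classical
  unfold gapCount
  congr 1
  ext m
  simp only [Finset.mem_filter, Finset.mem_Icc]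
  constructor
  · rintro ⟨⟨a, b⟩, c⟩
    refine ⟨⟨a, ?_⟩, c⟩
    by_contra hlt
    exact h m (by omega) b c
  · rintro ⟨⟨a, b⟩, c⟩
    exact ⟨⟨a, by omega⟩, c⟩

/-- Clifford's bound for multiples of a point of degree one. -/
theorem two_mul_ell_single_le (hK : FunFld.IsFunctionField k K) {P : FunFld.Place k K}
    (hP : P.deg = 1) (n : ℕ) (hn : (n : ℤ) ≤ 2 * (FunFld.genus k K : ℤ) - 2) :
    2 * FunFld.ell (Finsupp.single P (n : ℤ) : FunFld.Divisor k K) ≤ n + 2 := by
  classical
  have h1 := ell_add_gapCount hK hP n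
  suffices n ≤ 2 * gapCount P n by omega
  by_cases hex : ∃ n', n < n' ∧ IsGap P n'
  · obtain ⟨hlt, hgap⟩ := Nat.find_spec hex
    have hmin : ∀ m, n < m → m ≤ Nat.find hex - 1 → ¬ IsGap P m := fun m h1 h2 hg =>
      Nat.find_min hex (by omega) ⟨h1, hg⟩
    have h2 := sub_one_le_two_mul_gapCount (by omega : 1 ≤ Nat.find hex) hgap
    have h3 := gapCount_eq_of_forall_not_isGap P (by omega : n ≤ Nat.find hex - 1) hmin
    omega
  · push Not at hex
    have h3 := gapCount_eq_of_forall_not_isGap P (le_max_left n (2 * FunFld.genus k K))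
      (fun m hm _ => hex m hm)
    have h4 := gapCount_eq_genus hK hP (n := max n (2 * FunFld.genus k K)) (by
      have : 2 * FunFld.genus k K ≤ max n (2 * FunFld.genus k K) := le_max_right _ _
      have : ((2 * FunFld.genus k K : ℕ) : ℤ) ≤ (max n (2 * FunFld.genus k K) : ℕ) := by
        exact_mod_cast this
      push_cast at this ⊢
      linarith)
    rw [h3] at h4
    have : (n : ℤ) ≤ 2 * gapCount P n := by rw [h4]; linarith
    exact_mod_cast this

/-- The `l`-th gap is at most `2l - 1`. -/
theorem le_gapCount_two_mul_sub_one (hK : FunFld.IsFunctionField k K) {P : FunFld.Place k K}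
    (hP : P.deg = 1) (l : ℕ) (hl : 1 ≤ l) (hlg : l ≤ FunFld.genus k K) :
    l ≤ gapCount P (2 * l - 1) := by
  classical
  have hex : ∃ n, l ≤ gapCount P n := ⟨2 * FunFld.genus k K, by
    rw [gapCount_eq_genus hK hP (by push_cast; omega)]; exact hlg⟩
  have hn := Nat.find_spec hex
  have hn0 : Nat.find hex ≠ 0 := by
    intro h; rw [h, gapCount_zero] at hn; omega
  obtain ⟨m, hm⟩ : ∃ m, Nat.find hex = m + 1 := Nat.exists_eq_succ_of_ne_zero hn0
  have hm' : ¬ l ≤ gapCount P m := Nat.find_min hex (by omega)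
  have hs := gapCount_succ P m
  rw [hm] at hn
  have hgap : IsGap P (m + 1) := by
    by_contra h; rw [if_neg h] at hs; omega
  have h2 := sub_one_le_two_mul_gapCount (n := m + 1) (by omega) hgap
  rw [if_pos hgap] at hs
  rw [Nat.add_sub_cancel] at h2
  calc l ≤ gapCount P (m + 1) := hn
    _ ≤ gapCount P (2 * l - 1) := gapCount_mono P (by omega)

theorem val_of_ord_eq (P : FunFld.Place k K) {x : K} {n : ℤ} (hn : n ≠ 0) (h : P.ord x = -n) :
    P.1 x = WithZero.exp n := by
  have hx : x ≠ 0 := by
    rintro rfl; rw [ord_zero] at h; omega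
  rw [val_eq_exp_neg_ord P hx, h, neg_neg]

/-- A family in `L(D)` that is linearly independent and has `ℓ(D)` members spans `L(D)`. -/
theorem span_eq_L_of_linearIndependent (hK : FunFld.IsFunctionField k K) (D : FunFld.Divisor k K)
    {ι : Type*} [Fintype ι] (w : ι → K) (hw : ∀ i, w i ∈ FunFld.L D) (hli : LinearIndependent k w)
    (hcard : Fintype.card ι = FunFld.ell D) : Submodule.span k (Set.range w) = FunFld.L D := by
  have := finiteDimensional_L hK D
  let w' : ι → ↥(FunFld.L D) := fun i => ⟨w i, hw i⟩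
  have hli' : LinearIndependent k w' := by
    apply LinearIndependent.of_comp (FunFld.L D).subtype
    exact hli
  have hspan := hli'.span_eq_top_of_card_eq_finrank' hcard
  have e : Set.range w = (FunFld.L D).subtype '' Set.range w' := by
    rw [← Set.range_comp]; rfl
  rw [e, ← Submodule.map_span, hspan, Submodule.map_subtype_top]

theorem basis_L_genus_one (hK : FunFld.IsFunctionField k K) (hgen : FunFld.genus k K = 1)
    (P : FunFld.Place k K) (hP : P.deg = 1) (f g : K)
    (hf : f ∈ FunFld.L (Finsupp.single P 2 : FunFld.Divisor k K)) (hf2 : P.ord f = -2)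
    (hg : g ∈ FunFld.L (Finsupp.single P 3 : FunFld.Divisor k K)) (hg3 : P.ord g = -3) (n : ℕ)
    (hn : 2 ≤ n) :
    LinearIndependent k
        (Sum.elim (fun i : Fin (n / 2 + 1) => f ^ (i : ℕ))
          (fun i : Fin ((n - 1) / 2) => f ^ (i : ℕ) * g)) ∧
      Submodule.span k (Set.range
        (Sum.elim (fun i : Fin (n / 2 + 1) => f ^ (i : ℕ))
          (fun i : Fin ((n - 1) / 2) => f ^ (i : ℕ) * g))) =
        FunFld.L (Finsupp.single P (n : ℤ)) := by
  classical
  set w : Fin (n / 2 + 1) ⊕ Fin ((n - 1) / 2) → K :=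
    Sum.elim (fun i : Fin (n / 2 + 1) => f ^ (i : ℕ))
      (fun i : Fin ((n - 1) / 2) => f ^ (i : ℕ) * g) with hw
  have vf : P.1 f = WithZero.exp (2 : ℤ) := val_of_ord_eq P (by norm_num) hf2
  have vg : P.1 g = WithZero.exp (3 : ℤ) := val_of_ord_eq P (by norm_num) hg3
  have hfQ : ∀ Q : FunFld.Place k K, Q ≠ P → Q.1 f ≤ 1 := ((mem_L_single_iff _ _ _).1 hf).2
  have hgQ : ∀ Q : FunFld.Place k K, Q ≠ P → Q.1 g ≤ 1 := ((mem_L_single_iff _ _ _).1 hg).2
  let e : Fin (n / 2 + 1) ⊕ Fin ((n - 1) / 2) → ℤ :=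
    Sum.elim (fun i => 2 * (i : ℤ)) (fun i => 2 * (i : ℤ) + 3)
  have hv : ∀ j, P.1 (w j) = WithZero.exp (e j) := by
    rintro (i | i)
    · change P.1 (f ^ (i : ℕ)) = WithZero.exp (2 * (i : ℤ))
      rw [map_pow, vf, ← WithZero.exp_nsmul]; congr 1; simp [mul_comm]
    · change P.1 (f ^ (i : ℕ) * g) = WithZero.exp (2 * (i : ℤ) + 3)
      rw [map_mul, map_pow, vf, vg, ← WithZero.exp_nsmul, ← WithZero.exp_add]; congr 1
      simp [mul_comm]
  have he : Function.Injective e := by
    rintro (i | i) (j | j) h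
    · have : (i : ℤ) = j := by simpa [e] using h
      congr 1; exact Fin.ext (by exact_mod_cast this)
    · exfalso
      have : 2 * (i : ℤ) = 2 * (j : ℤ) + 3 := h
      omega
    · exfalso
      have : 2 * (i : ℤ) + 3 = 2 * (j : ℤ) := h
      omega
    · have : 2 * (i : ℤ) + 3 = 2 * (j : ℤ) + 3 := h
      congr 1; exact Fin.ext (by omega)
  have hen : ∀ j, e j ≤ n := by
    rintro (i | i)
    · change 2 * (i : ℤ) ≤ n
      have := i.2
      omega
    · change 2 * (i : ℤ) + 3 ≤ n
      have := i.2
      omega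
  have hinj : Function.Injective fun j => P.1 (w j) := by
    intro i j h
    simp only [hv] at h
    exact he (WithZero.exp_injective h)
  have hw0 : ∀ j, w j ≠ 0 := by
    intro j h
    have := hv j
    rw [h, map_zero] at this
    exact WithZero.exp_ne_zero this.symm
  have hli : LinearIndependent k w := linearIndependent_of_val_injective P w hw0 hinj
  refine ⟨hli, ?_⟩
  apply span_eq_L_of_linearIndependent hK _ w _ hli
  · rw [Fintype.card_sum, Fintype.card_fin, Fintype.card_fin,
      ell_single_of_genus_one hK hgen hP (by omega : 0 < n)]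
    omega
  · intro j
    rw [mem_L_single_iff]
    refine ⟨?_, fun Q hQ => ?_⟩
    · rw [hv j, WithZero.exp_le_exp]; exact hen j
    · rcases j with i | i
      · change Q.1 (f ^ (i : ℕ)) ≤ 1
        rw [map_pow]; exact pow_le_one' (hfQ Q hQ) _
      · change Q.1 (f ^ (i : ℕ) * g) ≤ 1
        rw [map_mul, map_pow]; exact mul_le_one' (pow_le_one' (hfQ Q hQ) _) (hgQ Q hQ)

end Groth.Agent.Lib.H40FunFld
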