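import Groth.Agent.Lib.FFOrd58b
import Groth.Agent.Lib.H40FunFldGaps

/-!
# Canonical orders at a place and Weierstrass gaps (helper58)

`canonical_orders_iff_gap`: for the canonical map normalized at `P` (after multiplication by `y`),
`j ≥ 1` is an order at `P` iff `j + 1` is a gap at `P`.
-/

set_option autoImplicit false

namespace Groth.Agent.Lib.FFExp58

open FunFld Groth.Agent.Lib.H40FunFld LaurentSeries

universe u v

variable {k : Type u} {K : Type v} [Field k] [Field K] [Algebra k K]

theorem sub_single_apply_self (D : FunFld.Divisor k K) (P : FunFld.Place k K) (a : ℤ) :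
    (D - Finsupp.single P a) P = D P - a := by
  classical
  rw [Finsupp.sub_apply, Finsupp.single_eq_same]

theorem sub_single_apply_ne (D : FunFld.Divisor k K) {P Q : FunFld.Place k K} (h : Q ≠ P) (a : ℤ) :
    (D - Finsupp.single P a) Q = D Q := by
  classical
  rw [Finsupp.sub_apply, Finsupp.single_eq_of_ne h, sub_zero]

/-- Exact valuation at `P` of a function in `L(D - aP)` but not in `L(D - (a+1)P)`. -/
theorem val_eq_of_mem_L_sub (D : FunFld.Divisor k K) (P : FunFld.Place k K) (a : ℤ) {g : K}
    (h1 : g ∈ FunFld.L (D - Finsupp.single P a))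
    (h2 : g ∉ FunFld.L (D - Finsupp.single P (a + 1))) :
    P.1 g = WithZero.exp (D P - a) := by
  rw [eq_exp_iff_le_and_not_le]
  constructor
  · have := h1 P
    rwa [sub_single_apply_self] at this
  · intro h3
    apply h2
    intro Q
    by_cases hQ : Q = P
    · subst hQ
      rw [sub_single_apply_self]
      have e : D Q - (a + 1) = D Q - a - 1 := by ring
      rw [e]; exact h3
    · rw [sub_single_apply_ne D hQ]
      have := h1 Q
      rwa [sub_single_apply_ne D hQ] at this

/-- Conversely. -/
theorem mem_L_sub_of_val (D : FunFld.Divisor k K) (P : FunFld.Place k K) (a : ℤ) {g : K}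
    (hg : g ∈ FunFld.L D) (hv : P.1 g = WithZero.exp (D P - a)) :
    g ∈ FunFld.L (D - Finsupp.single P a) ∧ g ∉ FunFld.L (D - Finsupp.single P (a + 1)) := by
  constructor
  · intro Q
    by_cases hQ : Q = P
    · subst hQ
      rw [sub_single_apply_self, hv]
    · rw [sub_single_apply_ne D hQ]
      exact hg Q
  · intro h
    have := h P
    rw [sub_single_apply_self, hv, WithZero.exp_le_exp] at this
    omega

theorem canonical_orders_iff_gap [IsAlgClosed k]
    (hK : FunFld.IsFunctionField k K) (C : FunFld.Divisor k K) (hC : FunFld.IsCanonical k K C)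
    {n : ℕ} (φ : Fin (n + 1) → K) (hφ : LinearIndependent k φ)
    (hspan : Submodule.span k (Set.range φ) = FunFld.L C)
    (P : FunFld.Place k K) (y : K) (hy : y ≠ 0)
    (heff : (1 : K) ∈ Submodule.span k (Set.range (y • φ))) (hnorm : ∀ i, P.1 (y * φ i) ≤ 1)
    (t : K) (ht : P.1 t = WithZero.exp (-1))
    (Ht : K →ₐ[k] PowerSeries K) (hHt : LocRes.IsHasseFamily t Ht) (j : ℕ) (hj : 1 ≤ j) :
    FunFld.IsJump (IsLocalRing.ResidueField P.O) (FunFld.hcolAt P Ht (y • φ)) (j + 1) ↔
      FunFld.L (Finsupp.single P ((j : ℤ) + 1)) = FunFld.L (Finsupp.single P (j : ℤ)) := by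
  classical
  obtain ⟨E⟩ := exists_expData hK P t ht Ht hHt
  have hint : ∀ i, P.1 ((y • φ) i) ≤ 1 := fun i => by simpa using hnorm i
  rw [E.isJump_hcolAt_iff hHt (y • φ) hint j]
  -- the span of `y • φ` is `y · L(C)`
  have hmem : ∀ f, f ∈ Submodule.span k (Set.range (y • φ)) ↔ ∃ g ∈ FunFld.L C, f = y * g := by
    intro f
    rw [Submodule.mem_span_range_iff_exists_fun]
    constructor
    · rintro ⟨a, rfl⟩
      refine ⟨∑ i, a i • φ i, ?_, ?_⟩
      · rw [← hspan]
        exact Submodule.sum_mem _ fun i _ => Submodule.smul_mem _ _ (Submodule.subset_span ⟨i, rfl⟩)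
      · rw [Finset.mul_sum]
        refine Finset.sum_congr rfl fun i _ => ?_
        rw [Pi.smul_apply, smul_eq_mul, mul_smul_comm]
    · rintro ⟨g, hg, rfl⟩
      rw [← hspan, Submodule.mem_span_range_iff_exists_fun] at hg
      obtain ⟨a, rfl⟩ := hg
      refine ⟨a, ?_⟩
      rw [Finset.mul_sum]
      refine Finset.sum_congr rfl fun i _ => ?_
      rw [Pi.smul_apply, smul_eq_mul, mul_smul_comm]
  have hintspan : ∀ f ∈ Submodule.span k (Set.range (y • φ)), P.1 f ≤ 1 := by
    intro f hf
    obtain ⟨a, rfl⟩ := (Submodule.mem_span_range_iff_exists_fun k).mp hf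
    exact ExpData.val_sum_smul_le _ a (y • φ) hint
  -- positivity of the genus
  have hfdC := finiteDimensional_L hK C
  have hellC : FunFld.ell C = n + 1 := by
    unfold FunFld.ell
    rw [← hspan, finrank_span_eq_card hφ, Fintype.card_fin]
  have hgen : 0 < FunFld.genus k K := by
    rw [← ell_canonical hK hC, hellC]; omega
  have hPdeg : P.deg = 1 := deg_eq_one_of_isAlgClosed hK P
  -- the valuation of `y`
  have hey : P.1 y = WithZero.exp (-(C P)) := by
    apply le_antisymm
    · have hlt := ell_sub_single_lt_ell hK hgen C (Or.inr hC) hPdeg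
      have hle : FunFld.L (C - Finsupp.single P 1) ≤ FunFld.L C := by
        apply L_mono
        intro Q
        by_cases hQ : Q = P
        · subst hQ; rw [sub_single_apply_self]; omega
        · rw [sub_single_apply_ne C hQ]
      have hne : ¬ FunFld.L C ≤ FunFld.L (C - Finsupp.single P 1) := by
        intro h
        have hfd0 := finiteDimensional_L hK (C - Finsupp.single P 1)
        have := Submodule.finrank_mono h
        unfold FunFld.ell at hlt
        omega
      obtain ⟨g₁, hg1, hg2⟩ := Set.not_subset.1 hne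
      have hg1' : g₁ ∈ FunFld.L (C - Finsupp.single P 0) := by
        rw [Finsupp.single_zero, sub_zero]; exact hg1
      have hv := val_eq_of_mem_L_sub C P 0 hg1' (by rw [zero_add]; exact hg2)
      rw [sub_zero] at hv
      have h1 := hintspan (y * g₁) ((hmem _).mpr ⟨g₁, hg1, rfl⟩)
      rw [map_mul, hv] at h1
      calc P.1 y = P.1 y * WithZero.exp (C P) * WithZero.exp (-(C P)) := by
            rw [mul_assoc, ← WithZero.exp_add, add_neg_cancel, WithZero.exp_zero, mul_one]
        _ ≤ 1 * WithZero.exp (-(C P)) := mul_le_mul_left h1 _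
        _ = WithZero.exp (-(C P)) := one_mul _
    · obtain ⟨g₀, hg0, h1⟩ := (hmem 1).mp heff
      have h2 : P.1 g₀ ≤ WithZero.exp (C P) := hg0 P
      have h3 : (1 : WithZero (Multiplicative ℤ)) = P.1 y * P.1 g₀ := by
        rw [← map_mul, ← h1, map_one]
      calc WithZero.exp (-(C P)) = 1 * WithZero.exp (-(C P)) := (one_mul _).symm
        _ = P.1 y * P.1 g₀ * WithZero.exp (-(C P)) := by rw [← h3]
        _ ≤ P.1 y * WithZero.exp (C P) * WithZero.exp (-(C P)) :=
            mul_le_mul_left (mul_le_mul_right h2 _) _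
        _ = P.1 y := by
            rw [mul_assoc, ← WithZero.exp_add, add_neg_cancel, WithZero.exp_zero, mul_one]
  -- reformulate in terms of `L(C)`
  have hiff1 : (∃ f ∈ Submodule.span k (Set.range (y • φ)), P.1 f = WithZero.exp (-(j : ℤ))) ↔
      ∃ g ∈ FunFld.L C, P.1 g = WithZero.exp (C P - j) := by
    constructor
    · rintro ⟨f, hf, hfv⟩
      obtain ⟨g, hg, rfl⟩ := (hmem f).mp hf
      refine ⟨g, hg, ?_⟩
      rw [map_mul, hey] at hfv
      calc P.1 g = WithZero.exp (C P) * (WithZero.exp (-(C P)) * P.1 g) := by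
            rw [← mul_assoc, ← WithZero.exp_add, add_neg_cancel, WithZero.exp_zero, one_mul]
        _ = WithZero.exp (C P - j) := by
            rw [hfv, ← WithZero.exp_add]; congr 1
    · rintro ⟨g, hg, hgv⟩
      refine ⟨y * g, (hmem _).mpr ⟨g, hg, rfl⟩, ?_⟩
      rw [map_mul, hey, hgv, ← WithZero.exp_add]
      congr 1; ring
  rw [hiff1]
  -- Riemann-Roch
  have hdeg : ∀ m : ℤ, FunFld.Divisor.deg (Finsupp.single P m : FunFld.Divisor k K) = m := by
    intro m; rw [deg_single, hPdeg]; simp
  have hrr1 := riemann_roch hK hC (Finsupp.single P (j : ℤ))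
  have hrr2 := riemann_roch hK hC (Finsupp.single P ((j : ℤ) + 1))
  rw [hdeg] at hrr1 hrr2
  have hLle : FunFld.L (Finsupp.single P (j : ℤ) : FunFld.Divisor k K) ≤
      FunFld.L (Finsupp.single P ((j : ℤ) + 1)) := L_mono (single_mono P (by omega))
  have hCle : FunFld.L (C - Finsupp.single P ((j : ℤ) + 1)) ≤
      FunFld.L (C - Finsupp.single P (j : ℤ)) := by
    apply L_mono
    intro Q
    by_cases hQ : Q = P
    · subst hQ; rw [sub_single_apply_self, sub_single_apply_self]; omega
    · rw [sub_single_apply_ne C hQ, sub_single_apply_ne C hQ]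
  have hfd1 := finiteDimensional_L hK (Finsupp.single P ((j : ℤ) + 1) : FunFld.Divisor k K)
  have hfd2 := finiteDimensional_L hK (C - Finsupp.single P (j : ℤ))
  constructor
  · rintro ⟨-, g, hg, hgv⟩
    obtain ⟨h1, h2⟩ := mem_L_sub_of_val C P j hg hgv
    have hlt : FunFld.L (C - Finsupp.single P ((j : ℤ) + 1)) <
        FunFld.L (C - Finsupp.single P (j : ℤ)) :=
      lt_of_le_of_ne hCle fun h => h2 (h ▸ h1)
    have hfin := Submodule.finrank_lt_finrank_of_lt hlt
    have hle : FunFld.ell (Finsupp.single P ((j : ℤ) + 1) : FunFld.Divisor k K) ≤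
        FunFld.ell (Finsupp.single P (j : ℤ) : FunFld.Divisor k K) := by
      unfold FunFld.ell at hrr1 hrr2 ⊢
      omega
    exact (Submodule.eq_of_le_of_finrank_le hLle hle).symm
  · intro h
    refine ⟨hj, ?_⟩
    have hell : FunFld.ell (Finsupp.single P ((j : ℤ) + 1) : FunFld.Divisor k K) =
        FunFld.ell (Finsupp.single P (j : ℤ) : FunFld.Divisor k K) := by
      unfold FunFld.ell; rw [h]
    have hne : ¬ FunFld.L (C - Finsupp.single P (j : ℤ)) ≤
        FunFld.L (C - Finsupp.single P ((j : ℤ) + 1)) := by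
      intro hle
      have hfd3 := finiteDimensional_L hK (C - Finsupp.single P ((j : ℤ) + 1))
      have := Submodule.finrank_mono hle
      unfold FunFld.ell at hrr1 hrr2 hell
      omega
    obtain ⟨g, hg1, hg2⟩ := Set.not_subset.1 hne
    refine ⟨g, ?_, val_eq_of_mem_L_sub C P j hg1 hg2⟩
    refine L_mono ?_ hg1
    intro Q
    by_cases hQ : Q = P
    · subst hQ; rw [sub_single_apply_self]; omega
    · rw [sub_single_apply_ne C hQ]

end Groth.Agent.Lib.FFExp58
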