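import Groth.Agent.Lib.FFDiff58e
import Mathlib.LinearAlgebra.Vandermonde
import Mathlib.RingTheory.Polynomial.Pochhammer

/-!
# Binomial determinants and the degree bound for orders at a place (helper58)

* `det_choose_ne_zero`: `det (a_r choose s) ≠ 0` when the `a_r` are distinct in the field.
* `ExpData.order_le_deg`: every order at `P` of a normalized effective tuple is at most the degree
  of the tuple.
-/

set_option autoImplicit false

namespace Groth.Agent.Lib.FFExp58

open FunFld Groth.Agent.Lib.H40FunFld LaurentSeries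

universe u v

variable {k : Type u} {K : Type v} [Field k] [Field K] [Algebra k K]

/-- The determinant of the matrix of binomial coefficients `(a_r choose s)` is nonzero as soon as
the `a_r` are pairwise distinct in the field. -/
theorem det_choose_ne_zero {m : ℕ} (a : Fin m → ℕ)
    (ha : Function.Injective fun r => (a r : k)) :
    (Matrix.of fun r s : Fin m => (((a r).choose (s : ℕ) : ℕ) : k)).det ≠ 0 := by
  classical
  intro hdet
  have hV : (Matrix.vandermonde fun r => (a r : k)).det ≠ 0 :=
    Matrix.det_vandermonde_ne_zero_iff.mpr ha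
  apply hV
  rw [Matrix.det_eval_matrixOfPolynomials_eq_det_vandermonde (fun r => (a r : k))
    (fun s : Fin m => descPochhammer k (s : ℕ)) (fun s => descPochhammer_natDegree k _)
    (fun s => monic_descPochhammer k _)]
  have hM : (Matrix.of fun r s : Fin m => ((descPochhammer k (s : ℕ)).eval ((a r : ℕ) : k))) =
      Matrix.of fun r s : Fin m => (((s : ℕ).factorial : ℕ) : k) *
        (Matrix.of fun r s : Fin m => (((a r).choose (s : ℕ) : ℕ) : k)) r s := by
    ext r s
    simp only [Matrix.of_apply]
    rw [descPochhammer_eval_eq_descFactorial, Nat.descFactorial_eq_factorial_mul_choose]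
    push_cast
    rfl
  rw [hM, Matrix.det_mul_row, hdet, mul_zero]

/-- The divisor of the rescaled tuple `y • φ` has the same degree as that of `φ`. -/
theorem deg_mapDiv_smul (hK : FunFld.IsFunctionField k K) {ι : Type*} [Fintype ι] [Nonempty ι]
    (φ : ι → K) (hφ : ∀ i, φ i ≠ 0) {y : K} (hy : y ≠ 0) :
    (FunFld.mapDiv k (fun i => y * φ i)).deg = (FunFld.mapDiv k φ).deg := by
  have h1 : FunFld.mapDiv k (fun i => y * φ i) = FunFld.mapDiv k φ - FunFld.div k y := by
    ext Q
    rw [Finsupp.sub_apply, mapDiv_apply' hK, mapDiv_apply' hK, div_apply hK,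
      inf_ord_mul Q φ hφ hy]
    ring
  rw [h1, deg_sub, deg_div_eq_zero hK, sub_zero]

namespace ExpData

variable {P : FunFld.Place k K} {t : K} {Ht : K →ₐ[k] PowerSeries K} (E : ExpData P t Ht)
include E

/-- Every order at `P` of a normalized effective tuple is at most the degree of the tuple. -/
theorem order_le_deg [IsAlgClosed k] (hK : FunFld.IsFunctionField k K)
    (hHt : LocRes.IsHasseFamily t Ht)
    {n : ℕ} (φ : Fin (n + 1) → K) (hφ : ∀ i, φ i ≠ 0)
    (heff : (1 : K) ∈ Submodule.span k (Set.range φ)) (hnorm : ∀ i, P.1 (φ i) ≤ 1)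
    (J : Fin n → ℕ)
    (hJ : FunFld.IsOrders (IsLocalRing.ResidueField P.O) (FunFld.hcolAt P Ht φ) J) (l : Fin n) :
    (J l : ℤ) ≤ (FunFld.mapDiv k φ).deg := by
  classical
  obtain ⟨-, f, hf, hvf⟩ := (E.isJump_hcolAt_iff hHt φ hnorm (J l)).mp ((hJ.2 (J l)).mp ⟨l, rfl⟩)
  have hf0 : f ≠ 0 := by
    intro h
    rw [h, map_zero] at hvf
    exact WithZero.exp_ne_zero hvf.symm
  set D : FunFld.Divisor k K := FunFld.div k f + FunFld.mapDiv k φ with hD
  have hDnn : ∀ Q : FunFld.Place k K, 0 ≤ D Q := by
    intro Q
    rw [hD, Finsupp.add_apply, div_apply hK, mapDiv_apply' hK]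
    have := inf_ord_le_of_mem_span Q φ hφ hf0 hf
    linarith
  have hDP : D P = (J l : ℤ) := by
    rw [hD, Finsupp.add_apply, div_apply hK, mapDiv_apply_eq_zero φ heff hnorm, add_zero]
    unfold FunFld.Place.ord
    rw [hvf, WithZero.log_exp]
    ring
  have hle : (Finsupp.single P (D P) : FunFld.Divisor k K) ≤ D := by
    intro Q
    by_cases hQ : Q = P
    · subst hQ
      rw [Finsupp.single_eq_same]
    · rw [Finsupp.single_eq_of_ne hQ]
      exact hDnn Q
  have h1 := deg_mono hle
  rw [deg_single, deg_eq_one_of_isAlgClosed hK P, hDP, hD, deg_add, deg_div_eq_zero hK] at h1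
  simpa using h1

end ExpData

end Groth.Agent.Lib.FFExp58
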