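import Groth.Agent.Lib.FFClass58a

/-!
# Classicality of orders in characteristic `0` or `> deg φ` (helper58)

`orders_le_of_binom`: if the binomial matrices `(J' r choose I s)` are nonsingular for all possible
order sequences `J'` at a fixed point `P` of `τ`, then the `τ`-orders are bounded by `I`.
-/

set_option autoImplicit false

namespace Groth.Agent.Lib.FFExp58

open FunFld Groth.Agent.Lib.H40FunFld LaurentSeries IntermediateField

universe u v

variable {k : Type u} {K : Type v} [Field k] [Field K] [Algebra k K]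

/-- Natural numbers up to `d` have distinct images in `k` when `char k = 0` or `d < char k`. -/
theorem natCast_inj_of_char {d : ℤ} (hchar : ringChar k = 0 ∨ d < ringChar k) {a b : ℕ}
    (ha : (a : ℤ) ≤ d) (hb : (b : ℤ) ≤ d) (hab : (a : k) = (b : k)) : a = b := by
  have hcp : CharP k (ringChar k) := ringChar.charP k
  rw [CharP.natCast_eq_natCast k (ringChar k)] at hab
  rcases hchar with h0 | hlt
  · rw [h0] at hab
    exact Nat.modEq_zero_iff.mp hab
  · exact Nat.ModEq.eq_of_lt_of_lt hab (by omega) (by omega)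

theorem le_of_strictMono_fin {n : ℕ} (J : Fin n → ℕ) (hJ : StrictMono J) (c : ℕ)
    (h0 : ∀ l, c ≤ J l) (l : Fin n) : (l : ℕ) + c ≤ J l := by
  obtain ⟨m, hm⟩ := l
  induction m with
  | zero => simpa using h0 ⟨0, hm⟩
  | succ m ih =>
    have h1 := ih (by omega)
    have h2 : J ⟨m, by omega⟩ < J ⟨m + 1, hm⟩ := hJ (by simp [Fin.lt_def])
    simp only at h1 ⊢
    omega

/-- At a fixed point `P` of `τ`: if `(J' r choose I s)` is nonsingular over `k` for every strictly
increasing positive sequence `J'` bounded by the degree of `φ`, then the `τ`-orders of `φ` are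
bounded by `I`. -/
theorem orders_le_of_binom [IsAlgClosed k] (hK : FunFld.IsFunctionField k K)
    {n : ℕ} (φ : Fin (n + 1) → K) (hφ : LinearIndependent k φ)
    (τ : K →ₐ[k] K) (P : FunFld.Place k K) (hP : FunFld.IsFixedPt τ P)
    (s : K) (H : K →ₐ[k] PowerSeries K) (hH : LocRes.IsHasseFamily s H)
    (J : Fin n → ℕ) (hJ : FunFld.IsOrders K (FunFld.hcol τ H φ) J)
    (I : Fin n → ℕ) (hI : StrictMono I)
    (hcase : (∀ l, 0 < I l) ∨ FunFld.IsStrongFixedPt τ P)
    (hbin : ∀ J' : Fin n → ℕ, StrictMono J' → (∀ l, 1 ≤ J' l) →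
      (∀ l, (J' l : ℤ) ≤ (FunFld.mapDiv k φ).deg) → (FunFld.binomMat k J' I).det ≠ 0) :
    ∀ l, J l ≤ I l := by
  classical
  -- local parameter, expansion and Hasse family
  obtain ⟨t, ht⟩ := exists_uniformizer P
  obtain ⟨Ψ, hΨ, -, -⟩ := exists_expansion ht (hres_of_isAlgClosed hK P)
  obtain ⟨Ht, hHt⟩ := exists_hasse_of_uniformizer hK H hH Ψ hΨ ht
  obtain ⟨E⟩ := exists_expData hK P t ht Ht hHt
  -- normalization
  obtain ⟨i₀, -, hi₀⟩ := Finset.exists_max_image Finset.univ (fun i => P.1 (φ i))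
    Finset.univ_nonempty
  have hφi₀ : φ i₀ ≠ 0 := hφ.ne_zero i₀
  set y : K := (φ i₀)⁻¹ with hy
  have hy0 : y ≠ 0 := inv_ne_zero hφi₀
  set φ' : Fin (n + 1) → K := fun i => y * φ i with hφ'def
  have hφ'smul : φ' = y • φ := by
    funext i; simp [hφ'def]
  have hφ'li : LinearIndependent k φ' := by rw [hφ'smul]; exact linearIndependent_smul hφ hy0
  have heff : (1 : K) ∈ Submodule.span k (Set.range φ') := by
    have : φ' i₀ = 1 := by simp [hφ'def, hy, inv_mul_cancel₀ hφi₀]
    rw [← this]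
    exact Submodule.subset_span ⟨i₀, rfl⟩
  have hnorm : ∀ i, P.1 (φ' i) ≤ 1 := by
    intro i
    have hv0 : P.1 (φ i₀) ≠ 0 := (Valuation.ne_zero_iff P.1).mpr hφi₀
    simp only [hφ'def, hy, map_mul, map_inv₀]
    rw [inv_mul_le_iff₀ (zero_lt_iff.mpr hv0), mul_one]
    exact hi₀ i (Finset.mem_univ i)
  -- `τ`-orders of `φ'` with respect to `Ht`
  have hJ1 : FunFld.IsOrders K (FunFld.hcol τ H φ') J := by
    rw [hφ'smul]
    exact ((Groth.Agent.S12597.result k K hK φ hφ τ s H hH y hy0).1 J).mpr hJ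
  have hJ2 : FunFld.IsOrders K (FunFld.hcol τ Ht φ') J :=
    ((Groth.Agent.S12598.result k K hK φ' hφ'li τ s H hH t Ht hHt).1 J).mpr hJ1
  -- orders at `P`
  obtain ⟨J', hJ'⟩ := exists_orders_at hK P φ' hφ'li heff hnorm t ht Ht hHt
  have hJ'1 : ∀ l, 1 ≤ J' l := fun l =>
    ((E.isJump_hcolAt_iff hHt φ' hnorm (J' l)).mp ((hJ'.2 (J' l)).mp ⟨l, rfl⟩)).1
  have hdeg : (FunFld.mapDiv k φ').deg = (FunFld.mapDiv k φ).deg :=
    deg_mapDiv_smul hK φ (fun i => hφ.ne_zero i) hy0
  have hJ'd : ∀ l, (J' l : ℤ) ≤ (FunFld.mapDiv k φ).deg := fun l => by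
    rw [← hdeg]
    exact E.order_le_deg hK hHt φ' (fun i => hφ'li.ne_zero i) heff hnorm J' hJ' l
  have hb := hbin J' hJ'.1 hJ'1 hJ'd
  have hval := ((E.wronskian_val_main hK τ hP ht hHt φ' hφ'li heff hnorm J' hJ' I).2 hcase).mpr hb
  have hdet : (FunFld.wrMat τ Ht φ' I).det ≠ 0 := by
    intro h
    rw [h, map_zero] at hval
    exact WithZero.exp_ne_zero hval.symm
  exact Groth.Agent.S12601.result k K hK φ' hφ'li τ t Ht hHt J hJ2 I hI hdet

end Groth.Agent.Lib.FFExp58
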