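import Groth.Agent.Lib.FFStage64
import Mathlib.RingTheory.Extension.Presentation.Core

/-!
# Descent of a faithfully flat finitely presented algebra to a finitely presented base (helper64)

`exists_descent` (Stacks 02JO-type): `R → A → B` with `B` faithfully flat and of finite
presentation over `A`, `F` a finite subset of `B`. Then there are an `R`-algebra `A₀` of finite
presentation with a map to `A`, a faithfully flat finitely presented `A₀`-algebra `B₀` and an
isomorphism `B ≃ A ⊗[A₀] B₀` of `A`-algebras under which all elements of `F` come from `B₀`.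
-/

set_option autoImplicit false
set_option maxHeartbeats 400000

namespace Groth.Agent.Lib.FFDescent64

open TensorProduct Function Groth.Agent.Lib.FlatLimStage88 Groth.Agent.Lib.FlatLimCore88
  Groth.Agent.Lib.FlatLimGlobal64 Groth.Agent.Lib.FFStage64

universe u

section Layer1

variable {R A k A₃ S₀ : Type u} [CommRing R] [CommRing A] [Algebra R A] [CommRing k] [CommRing A₃]
  [Algebra k A₃] [Algebra k A] [Algebra A₃ A] [IsScalarTower k A₃ A] [CommRing S₀] [Algebra k S₀]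

set_option synthInstance.maxHeartbeats 400000 in
theorem exists_descent_of_stage [Algebra.FinitePresentation ℤ A₃] [Algebra.FinitePresentation k S₀]
    [Module.FaithfullyFlat A₃ (A₃ ⊗[k] S₀)] :
    ∃ (A₀ B₀ : Type u) (_ : CommRing A₀) (_ : CommRing B₀) (_ : Algebra R A₀) (_ : Algebra A₀ A)
      (_ : IsScalarTower R A₀ A) (_ : Algebra A₀ B₀), Algebra.FinitePresentation R A₀ ∧
      Algebra.FinitePresentation A₀ B₀ ∧ Module.FaithfullyFlat A₀ B₀ ∧
      ∃ e : (A ⊗[k] S₀) ≃ₐ[A] A ⊗[A₀] B₀, ∀ x : A₃ ⊗[k] S₀, ∃ c : B₀,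
        e (sMap (IsScalarTower.toAlgHom k A₃ A) S₀ x) = 1 ⊗ₜ c := by
  let ψ : R ⊗[ℤ] A₃ →ₐ[R] A := Algebra.TensorProduct.lift (Algebra.ofId R A)
    ((algebraMap A₃ A).toIntAlgHom) (fun _ _ => Commute.all _ _)
  let _ : Algebra (R ⊗[ℤ] A₃) A := ψ.toRingHom.toAlgebra
  have hT : IsScalarTower R (R ⊗[ℤ] A₃) A :=
    IsScalarTower.of_algebraMap_eq (fun r => (ψ.commutes r).symm)
  let ι₃ : A₃ →+* R ⊗[ℤ] A₃ :=
    (Algebra.TensorProduct.includeRight : A₃ →ₐ[ℤ] R ⊗[ℤ] A₃).toRingHom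
  let _ : Algebra k (R ⊗[ℤ] A₃) := (ι₃.comp (algebraMap k A₃)).toAlgebra
  have hψ : ∀ a : A₃, ψ ((1 : R) ⊗ₜ[ℤ] a) = algebraMap A₃ A a := by
    intro a
    simp [ψ]
  have hT' : IsScalarTower k (R ⊗[ℤ] A₃) A := by
    refine IsScalarTower.of_algebraMap_eq (fun c => ?_)
    change algebraMap k A c = ψ ((1 : R) ⊗ₜ[ℤ] (algebraMap k A₃ c))
    rw [hψ, ← IsScalarTower.algebraMap_apply]
  let φ₃ : A₃ →ₐ[k] R ⊗[ℤ] A₃ := { ι₃ with commutes' := fun c => rfl }
  have hff : Module.FaithfullyFlat (R ⊗[ℤ] A₃) ((R ⊗[ℤ] A₃) ⊗[k] S₀) :=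
    faithfullyFlat_of_stage φ₃
  refine ⟨R ⊗[ℤ] A₃, (R ⊗[ℤ] A₃) ⊗[k] S₀, inferInstance, inferInstance, inferInstance,
    inferInstance, hT, inferInstance, inferInstance, inferInstance, hff,
    (Algebra.TensorProduct.cancelBaseChange k (R ⊗[ℤ] A₃) A A S₀).symm, ?_⟩
  intro x
  refine ⟨sMap φ₃ S₀ x, ?_⟩
  rw [AlgEquiv.symm_apply_eq, cancelBaseChange_one_tmul']
  simp only [sMap_eq_mMap, mMap_mMap]
  congr 2
  ext a
  change algebraMap A₃ A a = ψ ((1 : R) ⊗ₜ[ℤ] a)
  rw [hψ]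

end Layer1

section Main

variable {R A B : Type u} [CommRing R] [CommRing A] [CommRing B] [Algebra R A] [Algebra A B]

set_option synthInstance.maxHeartbeats 400000 in
/-- **Descent of a faithfully flat finitely presented algebra** (Stacks 02JO-type), keeping track
of a finite set of elements. -/
theorem exists_descent [Algebra.FinitePresentation A B] [Module.FaithfullyFlat A B]
    (F : Finset B) :
    ∃ (A₀ B₀ : Type u) (_ : CommRing A₀) (_ : CommRing B₀) (_ : Algebra R A₀) (_ : Algebra A₀ A)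
      (_ : IsScalarTower R A₀ A) (_ : Algebra A₀ B₀), Algebra.FinitePresentation R A₀ ∧
      Algebra.FinitePresentation A₀ B₀ ∧ Module.FaithfullyFlat A₀ B₀ ∧
      ∃ e : B ≃ₐ[A] A ⊗[A₀] B₀, ∀ b ∈ F, ∃ c : B₀, e b = 1 ⊗ₜ c := by
  classical
  let P := Algebra.Presentation.ofFinitePresentation A B
  let k := P.Core
  let S₀ := P.ModelOfHasCoeffs k
  let e₀ : A ⊗[k] S₀ ≃ₐ[A] B := P.tensorModelOfHasCoeffsEquiv k
  have : IsNoetherianRing k := Algebra.FiniteType.isNoetherianRing ℤ k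
  have hffA : Module.FaithfullyFlat A (A ⊗[k] S₀) :=
    Module.FaithfullyFlat.of_linearEquiv A B e₀.toLinearEquiv
  obtain ⟨A₁, hA₁, hff₁⟩ := exists_fg_faithfullyFlat (k := k) (R := A) (S₀ := S₀)
  obtain ⟨A₂, hA₂, hx⟩ := exists_fg_lift S₀ (fun b : F => e₀.symm b)
  choose x hx using hx
  let A₃ : Subalgebra k A := A₁ ⊔ A₂
  have hA₃ : A₃.FG := hA₁.sup hA₂
  have hle₁ : A₁ ≤ A₃ := le_sup_left
  have hle₂ : A₂ ≤ A₃ := le_sup_right
  have hff₃ : Module.FaithfullyFlat A₃ (A₃ ⊗[k] S₀) :=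
    faithfullyFlat_of_stage (Subalgebra.inclusion hle₁)
  have : Algebra.FiniteType k A₃ := (Subalgebra.fg_iff_finiteType A₃).mp hA₃
  have : Algebra.FiniteType ℤ A₃ := Algebra.FiniteType.trans (S := k) inferInstance inferInstance
  have : Algebra.FinitePresentation ℤ A₃ := Algebra.FinitePresentation.of_finiteType.mp inferInstance
  obtain ⟨A₀, B₀, _, _, _, _, hT, _, h1, h2, h3, e₁, he₁⟩ :=
    exists_descent_of_stage (R := R) (A := A) (k := k) (A₃ := A₃) (S₀ := S₀)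
  refine ⟨A₀, B₀, inferInstance, inferInstance, inferInstance, inferInstance, hT, inferInstance,
    h1, h2, h3, e₀.symm.trans e₁, ?_⟩
  intro b hb
  obtain ⟨c, hc⟩ := he₁ (sMap (Subalgebra.inclusion hle₂) S₀ (x ⟨b, hb⟩))
  refine ⟨c, ?_⟩
  rw [AlgEquiv.trans_apply, ← hc]
  congr 1
  have := hx ⟨b, hb⟩
  simp only at this
  rw [← this, sMap_eq_mMap, sMap_eq_mMap, mMap_mMap]
  rfl

end Main

end Groth.Agent.Lib.FFDescent64
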