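import Mathlib

/-!
# Geometric field extensions preserve linear independence under `p`-th powers (helper58)

If `k' ⊗[k] K` is a field for every finite extension `k'/k`, then `k`-linearly independent
elements of `K` have `k`-linearly independent `p`-th powers (char `p`).  This is the hypothesis
of Mathlib's `exists_isTranscendenceBasis_and_isSeparable_of_linearIndepOn_pow_of_essFiniteType`.
-/

namespace Groth.Agent.Lib.FFSep58

open IntermediateField
open scoped TensorProduct

universe u v

variable {k : Type u} {K : Type v} [Field k] [Field K] [Algebra k K]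

/-- Auxiliary: with `p`-th roots `r x` of the coefficients available in a field `k'` with
`k' ⊗ K` a domain. -/
theorem eq_zero_of_sum_smul_pow_eq_zero (p : ℕ) [hp : Fact p.Prime] [CharP k p]
    {k' : Type*} [Field k'] [Algebra k k'] (hT : IsDomain (k' ⊗[k] K))
    {ι : Type*} [Fintype ι] (v : ι → K) (hv : LinearIndependent k v)
    (g : ι → k) (hg0 : ∑ i, g i • v i ^ p = 0)
    (r : ι → k') (hr : ∀ x, r x ^ p = algebraMap k k' (g x)) : ∀ i, g i = 0 := by
  classical
  have hchar : CharP (k' ⊗[k] K) p :=
    charP_of_injective_algebraMap (algebraMap k (k' ⊗[k] K)).injective p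
  set z : k' ⊗[k] K := ∑ x, r x ⊗ₜ[k] v x with hz
  have hzp : z ^ p = 0 := by
    rw [hz, sum_pow_char p]
    have : ∀ x, (r x ⊗ₜ[k] v x) ^ p = (1 : k') ⊗ₜ[k] (g x • v x ^ p) := by
      intro x
      rw [Algebra.TensorProduct.tmul_pow, hr, Algebra.algebraMap_eq_smul_one,
        TensorProduct.smul_tmul]
    simp only [this]
    rw [← TensorProduct.tmul_sum, hg0, TensorProduct.tmul_zero]
  have hz0 : z = 0 := eq_zero_of_pow_eq_zero hzp
  have hli : LinearIndependent k' (fun x => (1 : k') ⊗ₜ[k] v x) :=
    Module.Flat.linearIndependent_one_tmul (S := k') hv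
  rw [Fintype.linearIndependent_iff] at hli
  have hz' : ∑ x, r x • ((1 : k') ⊗ₜ[k] v x) = 0 := by
    rw [← hz0, hz]
    refine Finset.sum_congr rfl fun x _ => ?_
    rw [TensorProduct.smul_tmul', smul_eq_mul, mul_one]
  intro x
  have h1 := hli r hz' x
  have h2 : algebraMap k k' (g x) = 0 := by
    rw [← hr, h1, zero_pow hp.out.ne_zero]
  exact (map_eq_zero _).mp h2

theorem linearIndepOn_pow_of_isField_tensor (p : ℕ) [hp : Fact p.Prime] [CharP k p]
    (hg : ∀ (k' : Type u) [Field k'] [Algebra k k'], FiniteDimensional k k' →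
      IsField (k' ⊗[k] K))
    (s : Finset K) (hs : LinearIndepOn k id (s : Set K)) :
    LinearIndepOn k (· ^ p) (s : Set K) := by
  classical
  rw [LinearIndepOn, Fintype.linearIndependent_iff]
  intro g hg0
  -- p-th roots of the coefficients in an algebraic closure
  have hroot : ∀ x : ↥(s : Set K), ∃ z : AlgebraicClosure k,
      z ^ p = algebraMap k (AlgebraicClosure k) (g x) :=
    fun x => IsAlgClosed.exists_pow_nat_eq _ hp.out.pos
  choose r hr using hroot
  obtain ⟨k', hk'⟩ : ∃ k' : IntermediateField k (AlgebraicClosure k), k' = adjoin k (Set.range r) :=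
    ⟨_, rfl⟩
  have hfin : FiniteDimensional k k' := by
    rw [hk']
    exact finiteDimensional_adjoin (fun x _ => (Algebra.IsAlgebraic.isAlgebraic x).isIntegral)
  have hT := hg k' hfin
  have hmem : ∀ x, r x ∈ k' := by
    intro x; rw [hk']; exact subset_adjoin k _ ⟨x, rfl⟩
  refine eq_zero_of_sum_smul_pow_eq_zero p hT.isDomain (fun x : ↥(s : Set K) => (x : K)) hs g hg0
    (fun x => ⟨r x, hmem x⟩) ?_
  intro x
  apply Subtype.ext
  simp only [SubmonoidClass.mk_pow]
  exact hr x

end Groth.Agent.Lib.FFSep58
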