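import Mathlib
import Groth.Agent.Lib.FFSep58a

/-!
# Separating elements via derivations (helper58)

`isSeparable_adjoin_simple_of_derivation`: if `K/k(s)` is separable algebraic, `K/k(t)` is finite
and some `k`-derivation `δ` of `K` into a torsion-free module has `δ t ≠ 0`, then `K/k(t)` is
separable.
-/

namespace Groth.Agent.Lib.FFSep58

open IntermediateField Polynomial
open scoped KaehlerDifferential

variable {k K : Type*} [Field k] [Field K] [Algebra k K]

section derivation

variable {M : Type*} [AddCommGroup M] [Module K M] [Module k M]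

/-- Derivation of a polynomial expression with coefficients in an intermediate field. -/
theorem derivation_aeval (E : IntermediateField k K) (d : Derivation k K M) (q : Polynomial E)
    (y : K) :
    d (aeval y q) = q.sum (fun i c => y ^ i • d (c : K)) + aeval y (derivative q) • d y := by
  induction q using Polynomial.induction_on' with
  | add p q hp hq =>
    rw [map_add, map_add, hp, hq, derivative_add, map_add, add_smul,
      Polynomial.sum_add_index]
    · abel
    · intro i; simp
    · intro i a b; simp [smul_add]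
  | monomial n c =>
    rw [aeval_monomial, Polynomial.sum_monomial_index, derivative_monomial, aeval_monomial,
      Derivation.leibniz, Derivation.leibniz_pow]
    · have h1 : algebraMap E K c = (c : K) := rfl
      rw [h1, map_mul, h1, map_natCast]
      rw [add_comm]
      congr 1
      rw [← Nat.cast_smul_eq_nsmul K, smul_smul, smul_smul]
    · simp

/-- A derivation vanishing on `E` vanishes at every element separable over `E`. -/
theorem derivation_eq_zero_of_isSeparable (E : IntermediateField k K) (d : Derivation k K M)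
    (hE : ∀ c : E, d (c : K) = 0) {z : K} (hz : IsSeparable E z) : d z = 0 := by
  have h1 := derivation_aeval E d (minpoly E z) z
  rw [minpoly.aeval, map_zero] at h1
  have h2 : (minpoly E z).sum (fun i c => z ^ i • d (c : K)) = 0 := by
    rw [Polynomial.sum]
    exact Finset.sum_eq_zero fun i _ => by rw [hE, smul_zero]
  rw [h2, zero_add] at h1
  have h3 : aeval z (derivative (minpoly E z)) ≠ 0 :=
    hz.aeval_derivative_ne_zero (minpoly.aeval E z)
  exact (smul_eq_zero.mp h1.symm).resolve_left h3

end derivation

section two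

variable {M₁ : Type*} [AddCommGroup M₁] [Module K M₁] [Module k M₁]
variable {M₂ : Type*} [AddCommGroup M₂] [Module K M₂] [Module k M₂]

/-- On `k(s)` every `k`-derivation is `c ↦ c' • d s` with `c'` independent of the derivation. -/
theorem exists_deriv_coeff (d₁ : Derivation k K M₁) (d₂ : Derivation k K M₂) (s : K) (c : K)
    (hc : c ∈ k⟮s⟯) : ∃ c' : K, d₁ c = c' • d₁ s ∧ d₂ c = c' • d₂ s := by
  obtain ⟨p, q, rfl⟩ := (mem_adjoin_simple_iff k c).mp hc
  refine ⟨(aeval s q)⁻¹ ^ 2 * (aeval s q * aeval s (derivative p)
    - aeval s p * aeval s (derivative q)), ?_, ?_⟩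
  · rw [Derivation.leibniz_div, Derivation.map_aeval, Derivation.map_aeval, smul_smul, smul_smul,
      ← sub_smul, smul_smul]
  · rw [Derivation.leibniz_div, Derivation.map_aeval, Derivation.map_aeval, smul_smul, smul_smul,
      ← sub_smul, smul_smul]

/-- If `K/k(s)` is separable, `d t = 0` and `δ t` is torsion-free, then `d = 0`. -/
theorem derivation_eq_zero_of_apply_eq_zero (s t : K) [Algebra.IsSeparable k⟮s⟯ K]
    (d : Derivation k K M₁) (hd : d t = 0)
    (δ : Derivation k K M₂) (hδ : ∀ a : K, a • δ t = 0 → a = 0) : ∀ z : K, d z = 0 := by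
  classical
  have hch : ∀ c : k⟮s⟯, ∃ c' : K, d (c : K) = c' • d s ∧ δ (c : K) = c' • δ s :=
    fun c => exists_deriv_coeff d δ s c c.2
  choose c' hc1 hc2 using hch
  set m := minpoly k⟮s⟯ t with hm
  have hsep : IsSeparable k⟮s⟯ t := Algebra.IsSeparable.isSeparable k⟮s⟯ t
  have e1 := derivation_aeval k⟮s⟯ d m t
  have e2 := derivation_aeval k⟮s⟯ δ m t
  rw [hm, minpoly.aeval, map_zero, ← hm] at e1 e2
  set μ : K := m.sum (fun i c => t ^ i * c' c) with hμ
  have s1 : m.sum (fun i c => t ^ i • d (c : K)) = μ • d s := by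
    rw [hμ, Polynomial.sum, Polynomial.sum, Finset.sum_smul]
    exact Finset.sum_congr rfl fun i _ => by rw [hc1, smul_smul]
  have s2 : m.sum (fun i c => t ^ i • δ (c : K)) = μ • δ s := by
    rw [hμ, Polynomial.sum, Polynomial.sum, Finset.sum_smul]
    exact Finset.sum_congr rfl fun i _ => by rw [hc2, smul_smul]
  rw [s1, hd, smul_zero, add_zero] at e1
  rw [s2] at e2
  have hm' : aeval t (derivative m) ≠ 0 :=
    hsep.aeval_derivative_ne_zero (minpoly.aeval k⟮s⟯ t)
  have hμ0 : μ ≠ 0 := by
    intro h0
    rw [h0, zero_smul, zero_add] at e2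
    exact hm' (hδ _ e2.symm)
  have hds : d s = 0 := (smul_eq_zero.mp e1.symm).resolve_left hμ0
  have hE : ∀ c : k⟮s⟯, d (c : K) = 0 := fun c => by rw [hc1, hds, smul_zero]
  intro z
  exact derivation_eq_zero_of_isSeparable k⟮s⟯ d hE (Algebra.IsSeparable.isSeparable k⟮s⟯ z)

end two

section main

variable {M₂ : Type*} [AddCommGroup M₂] [Module K M₂] [Module k M₂]

theorem isSeparable_adjoin_simple_of_derivation (s t : K) [Algebra.IsSeparable k⟮s⟯ K]
    [FiniteDimensional k⟮t⟯ K]
    (δ : Derivation k K M₂) (hδ : ∀ a : K, a • δ t = 0 → a = 0) :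
    Algebra.IsSeparable k⟮t⟯ K := by
  have hunr : Algebra.FormallyUnramified k⟮t⟯ K := by
    constructor
    let d : Derivation k K (Ω[K⁄k⟮t⟯]) := (KaehlerDifferential.D k⟮t⟯ K).restrictScalars k
    have hdt : d t = 0 := by
      exact (KaehlerDifferential.D k⟮t⟯ K).map_algebraMap ⟨t, mem_adjoin_simple_self k t⟩
    have hd0 := derivation_eq_zero_of_apply_eq_zero s t d hdt δ hδ
    have hspan := KaehlerDifferential.span_range_derivation k⟮t⟯ K
    have hrange : Set.range (KaehlerDifferential.D k⟮t⟯ K) ⊆ {0} := by
      rintro _ ⟨z, rfl⟩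
      exact hd0 z
    have hbot : (⊤ : Submodule K (Ω[K⁄k⟮t⟯])) = ⊥ := by
      rw [← hspan, Submodule.span_eq_bot]
      intro x hx
      exact hrange hx
    exact (Submodule.subsingleton_iff K).mp (subsingleton_of_bot_eq_top hbot.symm)
  exact Algebra.FormallyUnramified.isSeparable k⟮t⟯ K

end main

end Groth.Agent.Lib.FFSep58
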