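import Groth.Agent.Lib.H40FunFldDiffUnif
import Mathlib.FieldTheory.SeparablyGenerated
import Mathlib.FieldTheory.IsAlgClosed.AlgebraicClosure
import Mathlib.RingTheory.Flat.Basic
import Groth.Prelude.Def_LocRes

set_option autoImplicit false
set_option linter.style.haveILetI false
set_option linter.unusedSectionVars false
open FunFld Polynomial

namespace Groth.Agent.Lib.H40FunFld

open Groth.Agent.Lib.H40QuotChain IntermediateField

universe u v w

section SepGen

open scoped TensorProduct

variable {k : Type u} [Field k] {K : Type v} [Field K] [Algebra k K]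

/-- Auxiliary: if the coefficients `c i` have `p`-th roots in a finite extension `k'` of `k` and
`K/k` is geometric, then a relation `∑ c i • v i ^ p = 0` among `p`-th powers of linearly
independent elements is trivial. -/
theorem eq_zero_of_sum_smul_pow_eq_zero (hg : FunFld.IsGeometric k K) (p : ℕ) [hp : Fact p.Prime]
    [CharP k p] {ι : Type*} [Fintype ι] {v : ι → K} (hv : LinearIndependent k v) (c : ι → k)
    (k' : Type u) [Field k'] [Algebra k k'] [FiniteDimensional k k'] (γ' : ι → k')
    (hγ' : ∀ i, γ' i ^ p = algebraMap k k' (c i)) (hc : ∑ i, c i • v i ^ p = 0) :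
    ∀ i, c i = 0 := by
  classical
  have hF := hg k' inferInstance
  haveI := hF.nontrivial
  haveI := hF.isDomain
  haveI : CharP (k' ⊗[k] K) p := charP_of_injective_algebraMap (algebraMap k _).injective p
  have hw : (∑ i, γ' i ⊗ₜ[k] v i) ^ p = 0 := by
    have hsp : (∑ i, γ' i ⊗ₜ[k] v i) ^ p = ∑ i, (γ' i ⊗ₜ[k] v i) ^ p :=
      sum_pow_char p Finset.univ (fun i : ι => γ' i ⊗ₜ[k] v i)
    rw [hsp]
    have : ∀ i : ι, (γ' i ⊗ₜ[k] v i) ^ p = (1 : k') ⊗ₜ[k] (c i • v i ^ p) := by
      intro i
      rw [Algebra.TensorProduct.tmul_pow, hγ', Algebra.algebraMap_eq_smul_one,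
        TensorProduct.smul_tmul]
    simp_rw [this]
    rw [← TensorProduct.tmul_sum, hc, TensorProduct.tmul_zero]
  have hw0 : ∑ i, γ' i ⊗ₜ[k] v i = 0 := (pow_eq_zero_iff hp.out.ne_zero).1 hw
  have hli := Module.Flat.linearIndependent_one_tmul (S := k') hv
  rw [Fintype.linearIndependent_iff] at hli
  have hγ0 := hli γ' (by
    rw [← hw0]
    refine Finset.sum_congr rfl fun i _ => ?_
    rw [TensorProduct.smul_tmul', smul_eq_mul, mul_one])
  intro i
  have h1 := hγ' i
  rw [hγ0 i, zero_pow hp.out.ne_zero] at h1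
  exact ((_root_.map_eq_zero _).1 h1.symm)

/-- MacLane's condition for a geometric extension: `p`-th powers of linearly independent elements
are linearly independent. -/
theorem linearIndepOn_pow_of_isGeometric (hg : FunFld.IsGeometric k K) (p : ℕ) [hp : Fact p.Prime]
    [CharP k p] (s : Finset K) (hs : LinearIndepOn k _root_.id (s : Set K)) :
    LinearIndepOn k (· ^ p) (s : Set K) := by
  classical
  unfold LinearIndepOn at hs ⊢
  rw [Fintype.linearIndependent_iff]
  intro c hc
  have hex : ∀ i : ↥(s : Set K), ∃ z : AlgebraicClosure k, z ^ p = algebraMap k _ (c i) :=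
    fun i => IsAlgClosed.exists_pow_nat_eq _ hp.out.pos
  choose γ hγ using hex
  haveI : FiniteDimensional k ↥(IntermediateField.adjoin k (Set.range γ)) :=
    IntermediateField.finiteDimensional_adjoin (fun x _ => Algebra.IsIntegral.isIntegral x)
  exact eq_zero_of_sum_smul_pow_eq_zero hg p hs c ↥(IntermediateField.adjoin k (Set.range γ))
    (fun i => ⟨γ i, IntermediateField.subset_adjoin k _ ⟨i, rfl⟩⟩)
    (fun i => Subtype.ext (hγ i)) hc

open IntermediateField.algebraAdjoinAdjoin in
/-- A geometric function field of one variable is separably generated. -/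
theorem exists_separating_of_isGeometric (hK : FunFld.IsFunctionField k K)
    (hg : FunFld.IsGeometric k K) :
    ∃ x : K, Transcendental k x ∧ Algebra.IsSeparable ↥k⟮x⟯ K := by
  classical
  obtain ⟨t, ht, hfin⟩ := hK.1
  obtain ⟨p, hp⟩ := ExpChar.exists k
  rcases hp with _ | ⟨hprime⟩
  · -- characteristic zero
    refine ⟨t, ht, ?_⟩
    haveI : CharZero ↥k⟮t⟯ := charZero_of_injective_algebraMap (algebraMap k ↥k⟮t⟯).injective
    haveI : Algebra.IsAlgebraic ↥k⟮t⟯ K := Algebra.IsAlgebraic.of_finite _ _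
    infer_instance
  · haveI : Fact p.Prime := ⟨hprime⟩
    haveI : ExpChar k p := ExpChar.prime hprime
    have e1 : Algebra.EssFiniteType k ↥k⟮t⟯ :=
      IntermediateField.essFiniteType_iff.2 (fg_adjoin_of_finite (Set.finite_singleton t))
    have e2 : Algebra.EssFiniteType ↥k⟮t⟯ K := inferInstance
    haveI e3 : Algebra.EssFiniteType k K := Algebra.EssFiniteType.comp k ↥k⟮t⟯ K
    obtain ⟨s, hs, hsep⟩ :=
      exists_isTranscendenceBasis_and_isSeparable_of_linearIndepOn_pow_of_essFiniteType
        (k := k) (K := K) p hprime (fun s hs => linearIndepOn_pow_of_isGeometric hg p s hs)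
    -- the transcendence basis has one element
    have ind_t : AlgebraicIndependent k (fun _ : PUnit.{v + 1} => t) :=
      algebraicIndependent_unique_type_iff.2 ht
    have alg_t : Algebra.IsAlgebraic (Algebra.adjoin k (Set.range fun _ : PUnit.{v + 1} => t)) K := by
      rw [Set.range_const]
      have h1 : Algebra.IsAlgebraic ↥k⟮t⟯ K := Algebra.IsAlgebraic.of_finite _ _
      exact Algebra.IsAlgebraic.trans (Algebra.adjoin k {t}) ↥k⟮t⟯ K
    have hB_t : IsTranscendenceBasis k (fun _ : PUnit.{v + 1} => t) :=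
      ind_t.isTranscendenceBasis_iff_isAlgebraic.2 alg_t
    have hcard : Cardinal.mk ↥s = Cardinal.mk PUnit.{v + 1} := by
      rw [hs.cardinalMk_eq_trdeg, hB_t.cardinalMk_eq_trdeg]
    rw [Cardinal.mk_fintype, Cardinal.mk_fintype, Nat.cast_inj, Fintype.card_coe,
      Fintype.card_punit] at hcard
    obtain ⟨x, rfl⟩ := Finset.card_eq_one.1 hcard
    refine ⟨x, ?_, ?_⟩
    · have := hs.1.transcendental ⟨x, Finset.mem_singleton_self x⟩
      exact this
    · rw [Finset.coe_singleton] at hsep
      exact hsep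

end SepGen

section RankOne

variable {k : Type u} [Field k] {K : Type v} [Field K] [Algebra k K]

open scoped TensorProduct
open KaehlerDifferential

/-- If `K/k(t)` is separable algebraic with `t` transcendental, every differential is a multiple
of `dt`. -/
theorem exists_eq_smul_D_of_isSeparable_adjoin {t : K} (htr : Transcendental k t)
    [Algebra.IsSeparable ↥k⟮t⟯ K] (ω : Ω[K⁄k]) :
    ∃ a : K, ω = a • KaehlerDifferential.D k K t := by
  let e₁ : RatFunc k ≃ₐ[k] ↥k⟮t⟯ := RatFunc.algEquivOfTranscendental t htr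
  letI alg1 : Algebra (RatFunc k) K :=
    ((algebraMap ↥k⟮t⟯ K).comp e₁.toAlgHom.toRingHom).toAlgebra
  haveI : IsScalarTower k (RatFunc k) K := IsScalarTower.of_algebraMap_eq (fun c => by
    change algebraMap k K c = algebraMap ↥k⟮t⟯ K (e₁ (algebraMap k (RatFunc k) c))
    rw [e₁.commutes]; rfl)
  haveI : Algebra.IsSeparable (RatFunc k) K :=
    Algebra.IsSeparable.of_equiv_equiv e₁.symm.toRingEquiv (RingEquiv.refl K) (by
      ext a
      change algebraMap ↥k⟮t⟯ K (e₁ (e₁.symm a)) = algebraMap ↥k⟮t⟯ K a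
      rw [e₁.apply_symm_apply])
  letI alg2 : Algebra k[X] K :=
    ((algebraMap (RatFunc k) K).comp (algebraMap k[X] (RatFunc k))).toAlgebra
  haveI : IsScalarTower k[X] (RatFunc k) K := IsScalarTower.of_algebraMap_eq (fun _ => rfl)
  haveI : IsScalarTower k k[X] K := IsScalarTower.of_algebraMap_eq (fun c => by
    change algebraMap k K c =
      algebraMap (RatFunc k) K (algebraMap k[X] (RatFunc k) (algebraMap k k[X] c))
    rw [← IsScalarTower.algebraMap_apply k k[X] (RatFunc k),
      ← IsScalarTower.algebraMap_apply k (RatFunc k) K])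
  haveI : Algebra.FormallyEtale k[X] (RatFunc k) :=
    Algebra.FormallyEtale.of_isLocalization (nonZeroDivisors k[X])
  haveI : Algebra.FormallyEtale (RatFunc k) K := Algebra.FormallyEtale.of_isSeparable (RatFunc k) K
  haveI : Algebra.FormallyEtale k[X] K := Algebra.FormallyEtale.comp k[X] (RatFunc k) K
  have hX : algebraMap k[X] K X = t := by
    change algebraMap ↥k⟮t⟯ K (e₁ (algebraMap k[X] (RatFunc k) X)) = t
    rw [RatFunc.algebraMap_X]
    exact RatFunc.algEquivOfTranscendental_X t htr
  let Ψ : Ω[K⁄k] ≃ₗ[K] K := (tensorKaehlerEquivOfFormallyEtale k k[X] K).symm ≪≫ₗ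
    (LinearEquiv.baseChange k[X] K _ _ (polynomialEquiv k)) ≪≫ₗ
      TensorProduct.AlgebraTensorModule.rid k[X] K K
  have hΨ : Ψ (D k K t) = 1 := by
    change TensorProduct.AlgebraTensorModule.rid k[X] K K
      ((LinearEquiv.baseChange k[X] K _ _ (polynomialEquiv k))
        ((tensorKaehlerEquivOfFormallyEtale k k[X] K).symm (D k K t))) = 1
    rw [← hX, tensorKaehlerEquivOfFormallyEtale_symm_D_algebraMap, LinearEquiv.baseChange_tmul,
      polynomialEquiv_D, derivative_X, TensorProduct.AlgebraTensorModule.rid_tmul, one_smul]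
  refine ⟨Ψ ω, Ψ.injective ?_⟩
  rw [map_smul, hΨ, smul_eq_mul, mul_one]

end RankOne

section DiffExp

variable {k : Type u} {K : Type v} [Field k] [Field K] [Algebra k K] {F : Type w} [Field F]
  [Algebra k F]

/-- A derivation read through an expansion respects proportionality of differentials. -/
theorem D_expansion_eq (φ : K →ₐ[k] LaurentSeries F) {x x₀ a : K}
    (h : KaehlerDifferential.D k K x = a • KaehlerDifferential.D k K x₀) :
    LocRes.D F (φ x) = φ a * LocRes.D F (φ x₀) := by
  letI := φ.toRingHom.toAlgebra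
  haveI : IsScalarTower k K (LaurentSeries F) := LocRes.isScalarTower_exp φ
  have h1 := congrArg (LocRes.dExp φ).liftKaehlerDifferential h
  rw [map_smul, Derivation.liftKaehlerDifferential_comp_D,
    Derivation.liftKaehlerDifferential_comp_D] at h1
  exact h1

theorem vDiff_one_eq (φ : K →ₐ[k] LaurentSeries F) {w : Valuation K (WithZero (Multiplicative ℤ))}
    (hφ : LocRes.IsExpansionAt w φ) {x x₀ a : K}
    (h : KaehlerDifferential.D k K x = a • KaehlerDifferential.D k K x₀) :
    LocRes.vDiff φ 1 x = w a * Valued.v (LocRes.D F (φ x₀)) := by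
  unfold LocRes.vDiff
  rw [map_one, one_mul, D_expansion_eq φ h, map_mul, hφ.1]

variable {K' : Type v} [Field K'] [Algebra K K'] [Algebra k K'] [IsScalarTower k K K']
  {F' : Type w} [Field F'] [Algebra k F']

/-- The different exponent computed on `dx`, in terms of a fixed generator `dx₀` of the
differentials. -/
theorem diffExp_eq_of_D_eq_smul {P : FunFld.Place k K} {Q : FunFld.Place k K'} {e : ℕ}
    (he : FunFld.IsOverWith Q P e)
    (φ : K →ₐ[k] LaurentSeries F) (hφ : LocRes.IsExpansionAt P.1 φ)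
    (ψ : K' →ₐ[k] LaurentSeries F') (hψ : LocRes.IsExpansionAt Q.1 ψ) {x x₀ a : K}
    (h : KaehlerDifferential.D k K x = a • KaehlerDifferential.D k K x₀)
    (hx : LocRes.vDiff φ 1 x ≠ 0) (hx' : LocRes.vDiff ψ 1 (algebraMap K K' x) ≠ 0) :
    LocRes.diffExp φ ψ e x =
      -WithZero.log (Valued.v (LocRes.D F' (ψ (algebraMap K K' x₀)))) +
        e * WithZero.log (Valued.v (LocRes.D F (φ x₀))) := by
  have h1 := vDiff_one_eq φ hφ h
  have h2 : LocRes.vDiff ψ 1 (algebraMap K K' x) =
      P.1 a ^ e * Valued.v (LocRes.D F' (ψ (algebraMap K K' x₀))) := by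
    unfold LocRes.vDiff
    have := D_expansion_eq (ψ.comp (IsScalarTower.toAlgHom k K K')) h
    change LocRes.D F' (ψ (algebraMap K K' x)) =
      ψ (algebraMap K K' a) * LocRes.D F' (ψ (algebraMap K K' x₀)) at this
    rw [map_one, one_mul, this, map_mul, hψ.1, he a]
  rw [h1] at hx
  rw [h2] at hx'
  have ha : P.1 a ≠ 0 := left_ne_zero_of_mul hx
  have hc : Valued.v (LocRes.D F (φ x₀)) ≠ 0 := right_ne_zero_of_mul hx
  have hc' : Valued.v (LocRes.D F' (ψ (algebraMap K K' x₀))) ≠ 0 := right_ne_zero_of_mul hx'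
  unfold LocRes.diffExp LocRes.ordDiff
  rw [h1, h2, WithZero.log_mul ha hc, WithZero.log_mul (pow_ne_zero _ ha) hc', WithZero.log_pow]
  simp only [nsmul_eq_mul]
  ring

/-- The different exponent does not depend on the differential used to compute it. -/
theorem diffExp_eq_diffExp (hK : FunFld.IsFunctionField k K) (hg : FunFld.IsGeometric k K)
    {P : FunFld.Place k K} {Q : FunFld.Place k K'} {e : ℕ} (he : FunFld.IsOverWith Q P e)
    (φ : K →ₐ[k] LaurentSeries F) (hφ : LocRes.IsExpansionAt P.1 φ)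
    (ψ : K' →ₐ[k] LaurentSeries F') (hψ : LocRes.IsExpansionAt Q.1 ψ) (x : K)
    (hx : LocRes.vDiff φ 1 x ≠ 0) (hx' : LocRes.vDiff ψ 1 (algebraMap K K' x) ≠ 0)
    (x' : K) (hx2 : LocRes.vDiff φ 1 x' ≠ 0) (hx2' : LocRes.vDiff ψ 1 (algebraMap K K' x') ≠ 0) :
    LocRes.diffExp φ ψ e x = LocRes.diffExp φ ψ e x' := by
  obtain ⟨x₀, htr, hsep⟩ := exists_separating_of_isGeometric hK hg
  obtain ⟨a, ha⟩ := exists_eq_smul_D_of_isSeparable_adjoin htr (KaehlerDifferential.D k K x)
  obtain ⟨a', ha'⟩ := exists_eq_smul_D_of_isSeparable_adjoin htr (KaehlerDifferential.D k K x')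
  rw [diffExp_eq_of_D_eq_smul he φ hφ ψ hψ ha hx hx',
    diffExp_eq_of_D_eq_smul he φ hφ ψ hψ ha' hx2 hx2']

end DiffExp

end Groth.Agent.Lib.H40FunFld
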