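import Groth.Agent.Lib.H40FunFldKerD
import Mathlib.FieldTheory.PrimitiveElement
import Mathlib.GroupTheory.CosetCover
import Mathlib.FieldTheory.IsAlgClosed.Basic

set_option autoImplicit false
set_option linter.style.haveILetI false
set_option linter.unusedSectionVars false
open FunFld Polynomial

namespace Groth.Agent.Lib.H40FunFld

open Groth.Agent.Lib.H40QuotChain IntermediateField

universe u v w

section SepVar

variable {k : Type u} [Field k] {K : Type v} [Field K] [Algebra k K]

open scoped TensorProduct in
/-- Over an algebraically closed constant field every extension is geometric. -/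
theorem isGeometric_of_isAlgClosed [IsAlgClosed k] : FunFld.IsGeometric k K := by
  intro k' _ _ hfd
  have hbij : Function.Bijective (algebraMap k k') :=
    IsAlgClosed.algebraMap_bijective_of_isIntegral
  let e : k ≃ₐ[k] k' := AlgEquiv.ofBijective (Algebra.ofId k k') hbij
  let e2 : k' ⊗[k] K ≃ₐ[k] K :=
    (Algebra.TensorProduct.congr e.symm AlgEquiv.refl).trans (Algebra.TensorProduct.lid k K)
  exact MulEquiv.isField (Field.toIsField K) e2.toMulEquiv

/-- A finite-dimensional generating subspace contains a separating variable. -/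
theorem exists_separating_mem (hK : FunFld.IsFunctionField k K) (hg : FunFld.IsGeometric k K)
    (W : Submodule k K) (hW : IntermediateField.adjoin k (W : Set K) = ⊤) :
    ∃ x ∈ W, Transcendental k x ∧ Algebra.IsSeparable ↥k⟮x⟯ K := by
  by_contra hcon
  push Not at hcon
  have hD : ∀ x ∈ W, KaehlerDifferential.D k K x = 0 := by
    intro x hx
    by_contra hne
    obtain ⟨htr, hsep⟩ := isSeparable_adjoin_of_D_ne_zero hK hg hne
    exact hcon x hx htr hsep
  obtain ⟨x₀, htr₀, hsep₀⟩ := exists_separating_of_isGeometric hK hg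
  have hDx : KaehlerDifferential.D k K x₀ ≠ 0 := D_ne_zero_of_isSeparable_adjoin htr₀
  apply hDx
  refine D_eq_zero_of_mem_adjoin (F := k) (S := (W : Set K))
    (fun c => Derivation.map_algebraMap _ c) (fun s hs => hD s hs) ?_
  rw [hW]
  trivial

/-- For a separating variable `x`, a generating subspace contains `y` with `K = k(x, y)`. -/
theorem exists_mem_adjoin_pair_eq_top [Infinite k] (hK : FunFld.IsFunctionField k K)
    (W : Submodule k K) (hW : IntermediateField.adjoin k (W : Set K) = ⊤)
    {x : K} (hsep : Algebra.IsSeparable ↥k⟮x⟯ K) :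
    ∃ y ∈ W, IntermediateField.adjoin k ({x, y} : Set K) = ⊤ := by
  classical
  -- `x` is transcendental
  have htr : Transcendental k x := by
    intro halg
    obtain ⟨t, ht, -⟩ := hK.1
    apply ht
    haveI : Algebra.IsAlgebraic k ↥k⟮x⟯ :=
      IntermediateField.isAlgebraic_adjoin_simple halg.isIntegral
    haveI : Algebra.IsAlgebraic ↥k⟮x⟯ K := inferInstance
    exact (Algebra.IsAlgebraic.trans k ↥k⟮x⟯ K).isAlgebraic t
  haveI hfd : FiniteDimensional ↥k⟮x⟯ K := finiteDimensional_adjoin_of_transcendental hK htr
  haveI hfin : Finite (IntermediateField ↥k⟮x⟯ K) :=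
    Field.finite_intermediateField_of_exists_primitive_element ↥k⟮x⟯ K
      (Field.exists_primitive_element ↥k⟮x⟯ K)
  by_contra hcon
  push Not at hcon
  -- every element of `W` lies in a proper intermediate field
  have hcov : ⋃ E : {E : IntermediateField ↥k⟮x⟯ K // E ≠ ⊤},
      ((Submodule.comap W.subtype (E.1.restrictScalars k).toSubalgebra.toSubmodule :
        Submodule k ↥W) : Set ↥W) = Set.univ := by
    rw [Set.eq_univ_iff_forall]
    intro w
    rw [Set.mem_iUnion]
    have hne : (↥k⟮x⟯)⟮(w : K)⟯ ≠ ⊤ := by
      intro htop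
      apply hcon (w : K) w.2
      rw [← IntermediateField.adjoin_simple_adjoin_simple, htop]
      rfl
    refine ⟨⟨_, hne⟩, ?_⟩
    change (w : K) ∈ (↥k⟮x⟯)⟮(w : K)⟯
    exact IntermediateField.mem_adjoin_simple_self _ _
  obtain ⟨⟨E, hE⟩, hEtop⟩ := Subspace.exists_eq_top_of_iUnion_eq_univ hcov
  apply hE
  rw [← IntermediateField.restrictScalars_eq_top_iff (K := k), eq_top_iff, ← hW,
    IntermediateField.adjoin_le_iff]
  intro w hw
  have : (⟨w, hw⟩ : ↥W) ∈ (⊤ : Submodule k ↥W) := trivial
  rw [← hEtop] at this
  exact this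

end SepVar

end Groth.Agent.Lib.H40FunFld
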