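import Groth.Agent.Lib.FFOrd58k
import Groth.Agent.Lib.H40FunFldSepGen
import Groth.Agent.Lib.H40FunFldSepVar
import Groth.Agent.S12600
import Groth.Agent.Lib.FFSep58b

/-!
# The derivation of a Hasse family; differentials read through expansions (helper58)

* `hasseDer H hH : Derivation k K K`, the first Hasse derivative `d/dx`.
* `isSeparable_of_hasse`: the variable of a Hasse family is a separating variable.
* `kaehler_D_eq_smul_of_hasse`: `dy = (dy/dx) dx` in `Ω[K/k]`.
* `vDiff_one_of_hasse`: the order of `dy` through an expansion at `P`.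
-/

set_option autoImplicit false

namespace Groth.Agent.Lib.FFExp58

open FunFld Groth.Agent.Lib.H40FunFld LaurentSeries IntermediateField

universe u v

variable {k : Type u} {K : Type v} [Field k] [Field K] [Algebra k K]

/-- The first Hasse derivative of a Hasse family, as a derivation. -/
noncomputable def hasseDer {x : K} (H : K →ₐ[k] PowerSeries K) (hH : LocRes.IsHasseFamily x H) :
    Derivation k K K where
  toFun y := LocRes.hasseD H 1 y
  map_add' a b := by simp only [LocRes.hasseD_apply, map_add]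
  map_smul' c a := by
    simp only [LocRes.hasseD_apply, map_smul, RingHom.id_apply]
    rfl
  map_one_eq_zero' := by
    show LocRes.hasseD H 1 1 = 0
    rw [LocRes.hasseD_apply, map_one]
    simp
  leibniz' a b := by
    show LocRes.hasseD H 1 (a * b) = a • LocRes.hasseD H 1 b + b • LocRes.hasseD H 1 a
    simp only [LocRes.hasseD_apply, map_mul, smul_eq_mul]
    rw [PowerSeries.coeff_mul, Finset.Nat.sum_antidiagonal_eq_sum_range_succ_mk,
      Finset.sum_range_succ, Finset.sum_range_one]
    simp only [Nat.sub_zero, Nat.sub_self, PowerSeries.coeff_zero_eq_constantCoeff_apply]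
    rw [hH.2, hH.2]
    ring

@[simp] theorem hasseDer_apply {x : K} (H : K →ₐ[k] PowerSeries K) (hH : LocRes.IsHasseFamily x H)
    (y : K) : hasseDer H hH y = LocRes.hasseD H 1 y := rfl

theorem hasseD_one_self {x : K} (H : K →ₐ[k] PowerSeries K) (hH : LocRes.IsHasseFamily x H) :
    LocRes.hasseD H 1 x = 1 := by
  rw [LocRes.hasseD_apply, hH.1]
  simp

/-- The variable of a Hasse family is a separating variable (algebraically closed constants). -/
theorem isSeparable_of_hasse [IsAlgClosed k] (hK : FunFld.IsFunctionField k K) {x : K}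
    (H : K →ₐ[k] PowerSeries K) (hH : LocRes.IsHasseFamily x H) :
    Transcendental k x ∧ FiniteDimensional k⟮x⟯ K ∧ Algebra.IsSeparable k⟮x⟯ K := by
  have htr := Groth.Agent.S12600.transcendental_of_hasse hK hH
  have hfd := finiteDimensional_adjoin_of_transcendental hK htr
  refine ⟨htr, hfd, ?_⟩
  have hg : FunFld.IsGeometric k K := isGeometric_of_isAlgClosed'
  obtain ⟨s, hs, hsep⟩ := exists_separating_of_isGeometric hK hg
  apply Groth.Agent.Lib.FFSep58.isSeparable_adjoin_simple_of_derivation s x (hasseDer H hH)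
  intro a ha
  rw [hasseDer_apply, hasseD_one_self H hH, smul_eq_mul, mul_one] at ha
  exact ha

/-- `dy = (dy/dx) dx` in the module of Kähler differentials. -/
theorem kaehler_D_eq_smul_of_hasse [IsAlgClosed k] (hK : FunFld.IsFunctionField k K) {x : K}
    (H : K →ₐ[k] PowerSeries K) (hH : LocRes.IsHasseFamily x H) (y : K) :
    KaehlerDifferential.D k K y = LocRes.hasseD H 1 y • KaehlerDifferential.D k K x := by
  obtain ⟨htr, hfd, hsep⟩ := isSeparable_of_hasse hK H hH
  obtain ⟨a, ha⟩ := exists_eq_smul_D_of_isSeparable_adjoin htr (KaehlerDifferential.D k K y)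
  have h1 := congrArg (hasseDer H hH).liftKaehlerDifferential ha
  rw [map_smul, Derivation.liftKaehlerDifferential_comp_D,
    Derivation.liftKaehlerDifferential_comp_D, hasseDer_apply, hasseDer_apply,
    hasseD_one_self H hH, smul_eq_mul, mul_one] at h1
  rw [ha, h1]

/-- The valuation of `dy` read through an expansion at `P`. -/
theorem vDiff_one_of_hasse [IsAlgClosed k] (hK : FunFld.IsFunctionField k K) {x : K}
    (H : K →ₐ[k] PowerSeries K) (hH : LocRes.IsHasseFamily x H) (y : K)
    {P : FunFld.Place k K} (Ψ : K →ₐ[k] LaurentSeries k) (hΨ : LocRes.IsExpansionAt P.1 Ψ) :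
    LocRes.vDiff Ψ 1 y = P.1 (LocRes.hasseD H 1 y) * LocRes.vDiff Ψ 1 x := by
  rw [vDiff_one_eq Ψ hΨ (kaehler_D_eq_smul_of_hasse hK H hH y)]
  unfold LocRes.vDiff
  rw [map_one, one_mul]

/-- Through an expansion at `P`, the differential of the variable of a Hasse family is nonzero. -/
theorem vDiff_one_ne_zero_of_hasse [IsAlgClosed k] (hK : FunFld.IsFunctionField k K) {x : K}
    (H : K →ₐ[k] PowerSeries K) (hH : LocRes.IsHasseFamily x H)
    {P : FunFld.Place k K} (Ψ : K →ₐ[k] LaurentSeries k) (hΨ : LocRes.IsExpansionAt P.1 Ψ) :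
    LocRes.vDiff Ψ 1 x ≠ 0 := by
  intro h0
  obtain ⟨π, hπ⟩ := hΨ.2.2
  have h1 := vDiff_one_of_hasse hK H hH π Ψ hΨ
  rw [h0, mul_zero] at h1
  have h2 := ordDiff_one_uniformizer Ψ hΨ hπ
  -- the order of `dπ` is `0`, so its valuation is `1`, not `0`
  have hv : Valued.v (Ψ π) = WithZero.exp (-(1 : ℤ)) := by rw [hΨ.1, hπ]
  rw [valued_eq_exp_iff] at hv
  have h3 : Valued.v (LocRes.D k (Ψ π)) = WithZero.exp (-(0 : ℤ)) := by
    rw [valued_eq_exp_iff]
    constructor
    · intro m hm
      show (LaurentSeries.derivative k (Ψ π)).coeff m = 0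
      rw [LocRes.derivative_coeff, hv.1 (m + 1) (by omega), smul_zero]
    · show (LaurentSeries.derivative k (Ψ π)).coeff 0 ≠ 0
      rw [LocRes.derivative_coeff]
      simpa using hv.2
  unfold LocRes.vDiff at h1
  rw [map_one, one_mul, h3] at h1
  exact WithZero.exp_ne_zero h1

/-- The order of `dy` read through an expansion at `P`: chain rule. -/
theorem ordDiff_one_of_hasse [IsAlgClosed k] (hK : FunFld.IsFunctionField k K) {x : K}
    (H : K →ₐ[k] PowerSeries K) (hH : LocRes.IsHasseFamily x H) {y : K}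
    (hy : LocRes.hasseD H 1 y ≠ 0)
    {P : FunFld.Place k K} (Ψ : K →ₐ[k] LaurentSeries k) (hΨ : LocRes.IsExpansionAt P.1 Ψ) :
    LocRes.ordDiff Ψ 1 y = P.ord (LocRes.hasseD H 1 y) + LocRes.ordDiff Ψ 1 x := by
  unfold LocRes.ordDiff FunFld.Place.ord
  rw [vDiff_one_of_hasse hK H hH y Ψ hΨ,
    WithZero.log_mul ((Valuation.ne_zero_iff P.1).mpr hy) (vDiff_one_ne_zero_of_hasse hK H hH Ψ hΨ)]
  ring

end Groth.Agent.Lib.FFExp58
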