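import Groth.Agent.Lib.H40FunFldPlaneNonsing

/-!
# The affine coordinate ring `k[x, y]` of a plane curve as the intersection of the rings `O_P[y]`
over the finite places `P` of `k(x)`.
-/

set_option autoImplicit false
set_option linter.style.haveILetI false
set_option linter.unusedSectionVars false
open FunFld Polynomial

namespace Groth.Agent.Lib.H40FunFld

open Groth.Agent.Lib.H40QuotChain IntermediateField

universe u v
variable {k : Type u} [Field k] {K : Type v} [Field K] [Algebra k K]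

section AffineRing

/-- `k(x)` is a function field over `k`. -/
theorem isFunctionField_adjoin_simple (hK : FunFld.IsFunctionField k K) {x : K}
    (hx : Transcendental k x) : FunFld.IsFunctionField k ↥k⟮x⟯ := by
  refine ⟨⟨AdjoinSimple.gen k x, ?_, ?_⟩, ?_⟩
  · intro halg
    apply hx
    have := halg.algebraMap (A := K)
    rwa [AdjoinSimple.algebraMap_gen] at this
  · have htop : k⟮AdjoinSimple.gen k x⟯ = ⊤ := by
      apply IntermediateField.lift_injective k⟮x⟯
      rw [IntermediateField.lift_adjoin_simple, IntermediateField.lift_top]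
      rfl
    rw [htop]
    exact Module.finite_of_finrank_pos (by rw [IntermediateField.finrank_top]; exact one_pos)
  · intro y hy
    have h1 : IsAlgebraic k (y : K) := by
      have := hy.algebraMap (A := K)
      exact this
    obtain ⟨c, hc⟩ := hK.2 _ h1
    exact ⟨c, Subtype.ext hc⟩

open scoped IntermediateField.algebraAdjoinAdjoin in
/-- A rational function in `x` with no finite poles is a polynomial in `x`. -/
theorem mem_adjoin_of_forall_finite_place (hK : FunFld.IsFunctionField k K) {x : K}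
    (hx : Transcendental k x) (a : ↥k⟮x⟯)
    (h : ∀ P : FunFld.Place k ↥k⟮x⟯, P.1 (AdjoinSimple.gen k x) ≤ 1 → P.1 a ≤ 1) :
    ∃ r : ↥(Algebra.adjoin k ({x} : Set K)),
      algebraMap ↥(Algebra.adjoin k ({x} : Set K)) ↥k⟮x⟯ r = a := by
  have hF := isFunctionField_adjoin_simple hK hx
  haveI := finiteDimensional_adjoin_of_transcendental hK hx
  haveI : IsIntegrallyClosed ↥(Algebra.adjoin k ({x} : Set K)) :=
    IsIntegrallyClosed.of_equiv (Polynomial.algEquivOfTranscendental k x hx).toRingEquiv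
  have hint : IsIntegral ↥(Algebra.adjoin k ({x} : Set K)) ((a : ↥k⟮x⟯) : K) := by
    apply isIntegral_of_forall_place hK
    intro Q hQ
    obtain ⟨P, e, he⟩ := exists_isOverWith hF Q
    have h1 : P.1 (AdjoinSimple.gen k x) ≤ 1 := by
      rw [← isOverWith_le_one_iff he]
      exact hQ x (Algebra.self_mem_adjoin_singleton k x)
    exact (isOverWith_le_one_iff he a).2 (h P h1)
  have hint' : IsIntegral ↥(Algebra.adjoin k ({x} : Set K)) a :=
    (isIntegral_algebraMap_iff (algebraMap ↥k⟮x⟯ K).injective).1 hint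
  exact IsIntegrallyClosed.isIntegral_iff.1 hint'

/-- Elements of `A[y]`, `y` integral over `A`, are `A`-combinations of `1, y, …, y^(d-1)`. -/
theorem exists_coeffs_of_aeval {A : Type*} [CommRing A] [Nontrivial A] [Algebra A K] {y z : K}
    (hy : IsIntegral A y) (hz : ∃ f : A[X], z = aeval y f) :
    ∃ c : ℕ → A, z = ∑ j ∈ Finset.range (minpoly A y).natDegree, algebraMap A K (c j) * y ^ j := by
  have hspan := IsIntegral.mem_span_pow hy hz
  obtain ⟨c', hc'⟩ := (Submodule.mem_span_range_iff_exists_fun _).1 hspan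
  refine ⟨fun j => if h : j < (minpoly A y).natDegree then c' ⟨j, h⟩ else 0, ?_⟩
  rw [← hc', ← Fin.sum_univ_eq_sum_range
    (fun j => algebraMap A K (if h : j < (minpoly A y).natDegree then c' ⟨j, h⟩ else 0) * y ^ j)]
  refine Finset.sum_congr rfl fun j _ => ?_
  rw [dif_pos j.2, Algebra.smul_def]

open scoped IntermediateField.algebraAdjoinAdjoin in
/-- At a place `P` of `k(x)` where `x` is integral, every element of the ring `O_P[y]` (`y`
integral over `k[x]`) is an `O_P`-combination of `1, y, …, y^(d-1)`. -/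
theorem exists_coeffs_of_mem_closure {x y : K}
    (hy : IsIntegral ↥(Algebra.adjoin k ({x} : Set K)) y) (P : FunFld.Place k ↥k⟮x⟯)
    (hP : P.1 (AdjoinSimple.gen k x) ≤ 1) {z : K}
    (hz : z ∈ Subring.closure ((algebraMap ↥k⟮x⟯ K '' (P.O : Set ↥k⟮x⟯)) ∪ {y})) :
    ∃ r : ℕ → K, (∀ j, ∃ a : ↥k⟮x⟯, P.1 a ≤ 1 ∧ r j = a) ∧
      z = ∑ j ∈ Finset.range (minpoly ↥k⟮x⟯ y).natDegree, r j * y ^ j := by
  letI : Algebra ↥P.O K := ((algebraMap ↥k⟮x⟯ K).comp P.O.subtype).toAlgebra
  haveI : IsScalarTower ↥P.O ↥k⟮x⟯ K := IsScalarTower.of_algebraMap_eq (fun _ => rfl)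
  -- `k[x] ⊆ O_P`
  have hRP : ∀ b : ↥(Algebra.adjoin k ({x} : Set K)),
      P.1 (algebraMap ↥(Algebra.adjoin k ({x} : Set K)) ↥k⟮x⟯ b) ≤ 1 := by
    intro b
    have h1 : (b : K) ∈ (aeval x : k[X] →ₐ[k] K).range := by
      rw [← Algebra.adjoin_singleton_eq_range_aeval]; exact b.2
    obtain ⟨p, hp⟩ := h1
    have h2 : algebraMap ↥(Algebra.adjoin k ({x} : Set K)) ↥k⟮x⟯ b =
        aeval (AdjoinSimple.gen k x) p := by
      apply Subtype.ext
      rw [IntermediateField.algebraAdjoinAdjoin.coe_algebraMap]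
      have : ((aeval (AdjoinSimple.gen k x) p : ↥k⟮x⟯) : K) = aeval x p := by
        rw [← AdjoinSimple.algebraMap_gen k x, aeval_algebraMap_apply]
        rfl
      rw [this]
      exact hp.symm
    rw [h2]
    exact val_aeval_le_one P hP p
  let φ : ↥(Algebra.adjoin k ({x} : Set K)) →+* ↥P.O :=
    (algebraMap ↥(Algebra.adjoin k ({x} : Set K)) ↥k⟮x⟯).codRestrict P.O.toSubring hRP
  have hyP : IsIntegral ↥P.O y := by
    refine ⟨(minpoly ↥(Algebra.adjoin k ({x} : Set K)) y).map φ, (minpoly.monic hy).map φ, ?_⟩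
    rw [eval₂_map]
    have : (algebraMap ↥P.O K).comp φ = algebraMap ↥(Algebra.adjoin k ({x} : Set K)) K := by
      ext b
      rfl
    rw [this]
    exact minpoly.aeval _ y
  have hpoly : ∃ f : (↥P.O)[X], z = aeval y f := by
    induction hz using Subring.closure_induction with
    | mem s hs =>
      rcases hs with ⟨a, ha, rfl⟩ | hs
      · exact ⟨C ⟨a, ha⟩, by rw [aeval_C]; rfl⟩
      · rw [Set.mem_singleton_iff] at hs
        subst hs
        exact ⟨X, by rw [aeval_X]⟩
    | zero => exact ⟨0, by rw [map_zero]⟩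
    | one => exact ⟨1, by rw [map_one]⟩
    | add a b _ _ ha hb =>
      obtain ⟨f, rfl⟩ := ha
      obtain ⟨g, rfl⟩ := hb
      exact ⟨f + g, by rw [map_add]⟩
    | neg a _ ha =>
      obtain ⟨f, rfl⟩ := ha
      exact ⟨-f, by rw [map_neg]⟩
    | mul a b _ _ ha hb =>
      obtain ⟨f, rfl⟩ := ha
      obtain ⟨g, rfl⟩ := hb
      exact ⟨f * g, by rw [map_mul]⟩
  obtain ⟨c, hc⟩ := exists_coeffs_of_aeval hyP hpoly
  have hdeg : (minpoly ↥P.O y).natDegree = (minpoly ↥k⟮x⟯ y).natDegree := by
    rw [minpoly.isIntegrallyClosed_eq_field_fractions' ↥k⟮x⟯ hyP, (minpoly.monic hyP).natDegree_map]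
  rw [hdeg] at hc
  exact ⟨fun j => algebraMap ↥P.O K (c j), fun j => ⟨(c j : ↥k⟮x⟯), (c j).2, rfl⟩, hc⟩

open scoped IntermediateField.algebraAdjoinAdjoin in
/-- `k[x, y]` is the intersection of the rings `O_P[y]` over the places `P` of `k(x)` at which `x`
is integral (`y` integral over `k[x]`, `K = k(x, y)`). -/
theorem adjoin_pair_eq_iInter (hK : FunFld.IsFunctionField k K) {x y : K}
    (hx : Transcendental k x) (hxy : IntermediateField.adjoin k ({x, y} : Set K) = ⊤)
    (hy : IsIntegral ↥(Algebra.adjoin k ({x} : Set K)) y) :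
    (Algebra.adjoin k ({x, y} : Set K) : Set K) =
      ⋂ (P : FunFld.Place k ↥k⟮x⟯) (_ : P.1 ⟨x, mem_adjoin_simple_self k x⟩ ≤ 1),
        (Subring.closure ((algebraMap ↥k⟮x⟯ K '' (P.O : Set ↥k⟮x⟯)) ∪ {y}) : Set K) := by
  apply Set.Subset.antisymm
  · intro z hz
    rw [Set.mem_iInter₂]
    intro P hP
    rw [SetLike.mem_coe] at hz ⊢
    induction hz using Algebra.adjoin_induction with
    | mem s hs =>
      rcases hs with rfl | hs
      · exact Subring.subset_closure (Or.inl ⟨⟨s, mem_adjoin_simple_self k s⟩, hP, rfl⟩)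
      · rw [Set.mem_singleton_iff] at hs
        subst hs
        exact Subring.subset_closure (Or.inr rfl)
    | algebraMap c =>
      exact Subring.subset_closure (Or.inl ⟨algebraMap k ↥k⟮x⟯ c, P.2.1 c, rfl⟩)
    | add a b _ _ ha hb => exact Subring.add_mem _ ha hb
    | mul a b _ _ ha hb => exact Subring.mul_mem _ ha hb
  · intro z hz
    rw [Set.mem_iInter₂] at hz
    rw [SetLike.mem_coe]
    have hyF : IsIntegral ↥k⟮x⟯ y := hy.tower_top
    -- `K = k(x)[y]`
    have htop : Algebra.adjoin ↥k⟮x⟯ {y} = ⊤ := by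
      have h1 : IntermediateField.adjoin ↥k⟮x⟯ {y} = ⊤ := by
        apply IntermediateField.restrictScalars_injective k
        rw [IntermediateField.adjoin_adjoin_left, IntermediateField.restrictScalars_top,
          Set.union_singleton, Set.pair_comm]
        exact hxy
      rw [← IntermediateField.adjoin_simple_toSubalgebra_of_isAlgebraic hyF.isAlgebraic, h1,
        IntermediateField.top_toSubalgebra]
    have hzF : ∃ f : (↥k⟮x⟯)[X], z = aeval y f := by
      have h1 : z ∈ Algebra.adjoin ↥k⟮x⟯ {y} := by rw [htop]; trivial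
      rw [Algebra.adjoin_singleton_eq_range_aeval] at h1
      obtain ⟨f, hf⟩ := h1
      exact ⟨f, hf.symm⟩
    obtain ⟨a, ha⟩ := exists_coeffs_of_aeval hyF hzF
    -- each coefficient has no finite poles
    have hcoef : ∀ j < (minpoly ↥k⟮x⟯ y).natDegree, ∀ P : FunFld.Place k ↥k⟮x⟯,
        P.1 (AdjoinSimple.gen k x) ≤ 1 → P.1 (a j) ≤ 1 := by
      intro j hj P hP
      obtain ⟨r, hr, hzr⟩ := exists_coeffs_of_mem_closure hy P hP (hz P hP)
      have hsum : ∑ i ∈ Finset.range (minpoly ↥k⟮x⟯ y).natDegree,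
          (algebraMap ↥k⟮x⟯ K (a i) - r i) * y ^ i = 0 := by
        simp only [sub_mul, Finset.sum_sub_distrib]
        rw [← ha, ← hzr, sub_self]
      have hmem : ∀ i, algebraMap ↥k⟮x⟯ K (a i) - r i ∈ k⟮x⟯ := by
        intro i
        obtain ⟨b, -, hb⟩ := hr i
        rw [hb]
        exact sub_mem (a i).2 b.2
      have h0 := eq_zero_of_sum_mul_pow_eq_zero (F := k⟮x⟯) rfl _ hmem hsum j hj
      obtain ⟨b, hb1, hb2⟩ := hr j
      have : a j = b := by
        apply Subtype.ext
        have := sub_eq_zero.1 h0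
        rw [hb2] at this
        exact this
      rw [this]
      exact hb1
    have hmemR : ∀ j < (minpoly ↥k⟮x⟯ y).natDegree,
        algebraMap ↥k⟮x⟯ K (a j) ∈ Algebra.adjoin k ({x, y} : Set K) := by
      intro j hj
      obtain ⟨ρ, hρ⟩ := mem_adjoin_of_forall_finite_place hK hx (a j) (hcoef j hj)
      rw [← hρ]
      have : (algebraMap ↥k⟮x⟯ K (algebraMap ↥(Algebra.adjoin k ({x} : Set K)) ↥k⟮x⟯ ρ)) =
          (ρ : K) := rfl
      rw [this]
      exact Algebra.adjoin_mono (Set.singleton_subset_iff.2 (Set.mem_insert _ _)) ρ.2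
    have hymem : y ∈ Algebra.adjoin k ({x, y} : Set K) :=
      Algebra.subset_adjoin (Set.mem_insert_of_mem _ rfl)
    have hfinal : ∑ j ∈ Finset.range (minpoly ↥k⟮x⟯ y).natDegree,
        algebraMap ↥k⟮x⟯ K (a j) * y ^ j ∈ Algebra.adjoin k ({x, y} : Set K) :=
      Subalgebra.sum_mem (Algebra.adjoin k ({x, y} : Set K)) (fun j hj =>
        Subalgebra.mul_mem (Algebra.adjoin k ({x, y} : Set K)) (hmemR j (Finset.mem_range.1 hj))
          (Subalgebra.pow_mem (Algebra.adjoin k ({x, y} : Set K)) hymem j))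
    rw [ha]
    exact hfinal

end AffineRing

end Groth.Agent.Lib.H40FunFld
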