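import Groth.Agent.Lib.H40FunFldInertia3
import Mathlib.FieldTheory.Normal.Closure
import Mathlib.FieldTheory.SeparableClosure
import Mathlib.FieldTheory.IsAlgClosed.AlgebraicClosure

set_option autoImplicit false
set_option linter.style.haveILetI false
set_option linter.unusedSectionVars false
open FunFld Polynomial

namespace Groth.Agent.Lib.H40FunFld

open Groth.Agent.Lib.H40QuotChain IntermediateField

universe u v w
variable {k : Type u} [Field k] {K : Type v} [Field K] [Algebra k K]

section GaloisCase

variable {N : Type w} [Field N] [Algebra K N] [Algebra k N] [IsScalarTower k K N]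
  [FiniteDimensional K N] [IsGalois K N]

/-- `e ≤ |G₁|` without any separability assumption on residue fields. -/
theorem le_card_ramGroup_one (hK : FunFld.IsFunctionField k K)
    {Q : FunFld.Place k N} {P : FunFld.Place k K} {e : ℕ} (he : FunFld.IsOverWith Q P e) :
    e ≤ Nat.card ↥(ramGroup (K := K) Q 1) := by
  have h1 := card_decomposition_mul_deg hK he
  have h2 := card_decomposition_mul_deg_le hK he
  rw [h1] at h2
  exact Nat.le_of_mul_le_mul_right h2 (deg_pos_ext hK Q)

/-- In a finite Galois extension only finitely many places are ramified. -/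
theorem finite_ramified_of_isGalois (hK : FunFld.IsFunctionField k K) :
    {Q : FunFld.Place k N | ∃ (P : FunFld.Place k K) (e : ℕ),
      FunFld.IsOverWith Q P e ∧ 2 ≤ e}.Finite := by
  classical
  have hx : ∀ σ : N ≃ₐ[K] N, σ ≠ 1 → ∃ x : N, σ x ≠ x := by
    intro σ hσ
    by_contra hall
    push Not at hall
    exact hσ (AlgEquiv.ext hall)
  choose! x hx using hx
  let S : (N ≃ₐ[K] N) → Set (FunFld.Place k N) := fun σ =>
    (Function.support fun Q : FunFld.Place k N => Q.ord (x σ)) ∪
      (Function.support fun Q : FunFld.Place k N => Q.ord (σ (x σ) - x σ))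
  have hS : ∀ σ, (S σ).Finite := fun σ =>
    (finite_support_ord_ext hK _).union (finite_support_ord_ext hK _)
  refine (Set.finite_iUnion hS).subset ?_
  rintro Q ⟨P, e, he, h2⟩
  have hcard := le_card_ramGroup_one hK he
  have hne : ramGroup (K := K) Q 1 ≠ ⊥ := by
    intro hbot
    rw [hbot, Subgroup.card_bot] at hcard
    omega
  obtain ⟨⟨σ, hσ⟩, hσ1⟩ := (Subgroup.ne_bot_iff_exists_ne_one).1 hne
  have hσ1' : σ ≠ 1 := fun h => hσ1 (Subtype.ext h)
  have hxσ := hx σ hσ1'
  rw [Set.mem_iUnion]
  refine ⟨σ, ?_⟩
  by_contra hnot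
  simp only [S, Set.mem_union, Function.mem_support, not_or, not_not] at hnot
  obtain ⟨h1, h2'⟩ := hnot
  have hx0 : x σ ≠ 0 := by
    intro h0
    rw [h0, map_zero] at hxσ
    exact hxσ rfl
  have hd0 : σ (x σ) - x σ ≠ 0 := sub_ne_zero.2 hxσ
  have hv1 : Q.1 (x σ) = 1 := by
    rw [val_eq_exp_neg_ord Q hx0, h1, neg_zero, WithZero.exp_zero]
  have hv2 : Q.1 (σ (x σ) - x σ) = 1 := by
    rw [val_eq_exp_neg_ord Q hd0, h2', neg_zero, WithZero.exp_zero]
  have h3 : Q.1 (σ (x σ) - x σ) ≤ WithZero.exp (-1 : ℤ) := hσ (x σ) hv1.le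
  rw [hv2, ← lt_one_iff_le_exp_neg_one] at h3
  exact lt_irrefl _ h3

end GaloisCase

section WeakUp

variable {K' : Type v} [Field K'] [Algebra k K'] {N : Type w} [Field N] [Algebra K' N]
  [Algebra k N] [IsScalarTower k K' N]

/-- Existence of a place above a given place, over a base in which `k` need not be algebraically
closed. -/
theorem exists_isOver_weak {t : K'} (ht : Transcendental k t) [FiniteDimensional k⟮t⟯ K']
    [FiniteDimensional K' N] (Q : FunFld.Place k K') :
    ∃ Q' : FunFld.Place k N, FunFld.IsOver Q' Q := by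
  have hA := isFunctionField_constField ht
  obtain ⟨QA, e, he⟩ := exists_isOver (K' := N) hA (placeUp Q)
  refine ⟨⟨QA.1, fun c => ?_, QA.2.2⟩, e, fun x => he x⟩
  have h1 : algebraMap k N c =
      algebraMap ↥(constField k K') N (algebraMap k ↥(constField k K') c) := by
    rw [IsScalarTower.algebraMap_apply k K' N]
    rfl
  rw [h1]
  exact QA.2.1 _

end WeakUp

section Separable

variable {K' : Type w} [Field K'] [Algebra K K'] [Algebra k K'] [IsScalarTower k K K']
  [FiniteDimensional K K'] [Algebra.IsSeparable K K']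

/-- In a finite separable extension of function fields only finitely many places are ramified. -/
theorem finite_ramified_of_isSeparable (hK : FunFld.IsFunctionField k K) :
    {Q : FunFld.Place k K' | ¬ Function.Surjective (Q.1.comap (algebraMap K K'))}.Finite := by
  classical
  haveI : Normal K (AlgebraicClosure K') := IsAlgClosure.normal K (AlgebraicClosure K')
  haveI hsepN : Algebra.IsSeparable K ↥(normalClosure K K' (AlgebraicClosure K')) := by
    haveI : ∀ f : K' →ₐ[K] AlgebraicClosure K', Algebra.IsSeparable K ↥f.fieldRange := fun f =>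
      AlgEquiv.Algebra.isSeparable (AlgEquiv.ofInjectiveField f)
    rw [normalClosure_def]
    infer_instance
  haveI : IsGalois K ↥(normalClosure K K' (AlgebraicClosure K')) := ⟨⟩
  haveI : IsScalarTower k K ↥(normalClosure K K' (AlgebraicClosure K')) :=
    IsScalarTower.of_algebraMap_eq (fun c => by
      apply Subtype.ext
      exact IsScalarTower.algebraMap_apply k K (AlgebraicClosure K') c)
  haveI : IsScalarTower k K' ↥(normalClosure K K' (AlgebraicClosure K')) :=
    IsScalarTower.of_algebraMap_eq (fun c => by
      apply Subtype.ext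
      exact IsScalarTower.algebraMap_apply k K' (AlgebraicClosure K') c)
  haveI : FiniteDimensional K' ↥(normalClosure K K' (AlgebraicClosure K')) :=
    Module.Finite.of_restrictScalars_finite K K' _
  have hfinN := finite_ramified_of_isGalois
    (N := ↥(normalClosure K K' (AlgebraicClosure K'))) hK
  obtain ⟨t, htr, -⟩ := hK.1
  have htr' : Transcendental k (algebraMap K K' t) := by
    intro halg
    exact htr ((isAlgebraic_algebraMap_iff (algebraMap K K').injective).1 halg)
  obtain ⟨hfin', -⟩ := finrank_adjoin_algebraMap (K' := K') hK htr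
  have hres : ∀ Q' : FunFld.Place k ↥(normalClosure K K' (AlgebraicClosure K')),
      ∃ Q : FunFld.Place k K', FunFld.IsOver Q' Q := fun Q' => by
    obtain ⟨Q, e, h⟩ := exists_isOverWith_weak htr' Q'
    exact ⟨Q, e, h⟩
  choose f hf using hres
  refine (hfinN.image f).subset ?_
  intro Q hQ
  obtain ⟨P, e, he⟩ := exists_isOverWith hK Q
  have he2 : 2 ≤ e := by
    by_contra hlt
    have he1 : e = 1 := by have := isOverWith_pos he; omega
    subst he1
    apply hQ
    intro γ
    obtain ⟨x, rfl⟩ := P.2.2 γ
    exact ⟨x, by rw [Valuation.comap_apply, he x, pow_one]⟩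
  obtain ⟨Q', e', he'⟩ := exists_isOver_weak
    (N := ↥(normalClosure K K' (AlgebraicClosure K'))) htr' Q
  refine ⟨Q', ⟨P, e * e', isOverWith_trans he' he, ?_⟩, ?_⟩
  · have := isOverWith_pos he'
    nlinarith
  · obtain ⟨e'', he''⟩ := hf Q'
    exact (isOverWith_unique he'' he').1

end Separable

end Groth.Agent.Lib.H40FunFld
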