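import Groth.Agent.Lib.FFDiff58a
import Groth.Agent.Lib.H40FunFldUnram
import Groth.Agent.Lib.H40FunFldAffineRing

/-!
# Finite support of the divisor of `dx` read through expansions (helper58)

* `exists_uniformizer_of_unramified`: at a place `Q` of `K` unramified over `k(x)` where `x` is
  integral, some `x - a` is a local parameter.
* `finite_support_ordDiff`: for the variable `x` of a Hasse family, `ord_Q (dx) = 0` for all but
  finitely many places `Q`.
* `divDiff_apply`, `divDiff_eq_add_div`.
-/

set_option autoImplicit false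

namespace Groth.Agent.Lib.FFExp58

open FunFld Groth.Agent.Lib.H40FunFld LaurentSeries IntermediateField Polynomial

universe u v

variable {k : Type u} {K : Type v} [Field k] [Field K] [Algebra k K]

theorem val_aeval_le_one (Q : FunFld.Place k K) {x : K} (hx : Q.1 x ≤ 1) (p : k[X]) :
    Q.1 (aeval x p) ≤ 1 := by
  have hmem : aeval x p ∈ Q.O := by
    rw [Polynomial.aeval_eq_sum_range]
    apply Subring.sum_mem
    intro i _
    rw [Algebra.smul_def]
    exact Subring.mul_mem _ (Q.2.1 _) (Subring.pow_mem _ hx i)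
  exact hmem

/-- The valuation of a polynomial in `x` at a place where `x ≡ a`. -/
theorem val_aeval_eq_pow (Q : FunFld.Place k K) {x : K} (hx : Q.1 x ≤ 1) (a : k) (p : k[X])
    (hp : p ≠ 0) :
    Q.1 (aeval x p) = Q.1 (x - algebraMap k K a) ^ p.rootMultiplicity a ∨
      ¬ Q.1 (x - algebraMap k K a) < 1 := by
  by_cases hlt : Q.1 (x - algebraMap k K a) < 1
  · left
    obtain ⟨q, hq1, hq2⟩ := Polynomial.exists_eq_pow_rootMultiplicity_mul_and_not_dvd p hp a
    have hqa : q.eval a ≠ 0 := by
      intro h0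
      exact hq2 (Polynomial.dvd_iff_isRoot.mpr h0)
    obtain ⟨r, hr⟩ := Polynomial.X_sub_C_dvd_sub_C_eval (a := a) (p := q)
    have hq3 : aeval x q = (x - algebraMap k K a) * aeval x r + algebraMap k K (q.eval a) := by
      have := congrArg (aeval x) hr
      rw [map_sub, map_mul, map_sub, aeval_X, aeval_C, aeval_C] at this
      rw [← this]; ring
    have hq4 : Q.1 (aeval x q) = 1 := by
      rw [hq3, Valuation.map_add_eq_of_lt_right, val_algebraMap Q hqa]
      rw [val_algebraMap Q hqa, map_mul]
      calc Q.1 (x - algebraMap k K a) * Q.1 (aeval x r) ≤ Q.1 (x - algebraMap k K a) * 1 :=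
            mul_le_mul_right (val_aeval_le_one Q hx r) _
        _ = Q.1 (x - algebraMap k K a) := mul_one _
        _ < 1 := hlt
    conv_lhs => rw [hq1]
    rw [map_mul, map_pow, map_sub, aeval_X, aeval_C, map_mul, map_pow, hq4, mul_one]
  · exact Or.inr hlt

theorem exists_uniformizer_of_unramified [IsAlgClosed k] (hK : FunFld.IsFunctionField k K)
    (Q : FunFld.Place k K) {x : K} (htr : Transcendental k x) (hx : Q.1 x ≤ 1)
    (hsurj : Function.Surjective (Q.1.comap (algebraMap k⟮x⟯ K))) :
    ∃ a : k, Q.1 (x - algebraMap k K a) = WithZero.exp (-1) := by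
  obtain ⟨a, ha⟩ := hres_of_isAlgClosed hK Q x hx
  refine ⟨a, ?_⟩
  set z := x - algebraMap k K a with hz
  have hz0 : z ≠ 0 := by
    intro h0
    apply htr
    rw [sub_eq_zero] at h0
    rw [h0]
    exact isAlgebraic_algebraMap a
  have hv0 : Q.1 z ≠ 0 := (Valuation.ne_zero_iff Q.1).mpr hz0
  obtain ⟨f, hf⟩ := hsurj (WithZero.exp (-1))
  rw [Valuation.comap_apply] at hf
  obtain ⟨r, s, hrs⟩ := (IntermediateField.mem_adjoin_simple_iff k (f : K)).mp f.2
  have hfK : algebraMap k⟮x⟯ K f = aeval x r / aeval x s := hrs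
  rw [hfK, map_div₀] at hf
  have hr0 : r ≠ 0 := by
    intro h0
    rw [h0, map_zero, map_zero, zero_div] at hf
    exact WithZero.exp_ne_zero hf.symm
  have hs0 : s ≠ 0 := by
    intro h0
    rw [h0, map_zero, map_zero, div_zero] at hf
    exact WithZero.exp_ne_zero hf.symm
  have h1 := (val_aeval_eq_pow Q hx a r hr0).resolve_right (fun h => h ha)
  have h2 := (val_aeval_eq_pow Q hx a s hs0).resolve_right (fun h => h ha)
  rw [h1, h2] at hf
  -- write the valuation of `z` as `exp (-d)`
  set d := -WithZero.log (Q.1 z) with hd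
  have hzd : Q.1 z = WithZero.exp (-d) := by
    rw [hd, neg_neg, WithZero.exp_log hv0]
  have hd1 : 1 ≤ d := by
    have : Q.1 z ≤ WithZero.exp (-1) := lt_one_iff_le_exp_neg_one.mp ha
    rw [hzd, WithZero.exp_le_exp] at this
    omega
  rw [hzd, ← WithZero.exp_nsmul, ← WithZero.exp_nsmul, ← WithZero.exp_sub, WithZero.exp_inj] at hf
  simp only [nsmul_eq_mul] at hf
  have hd' : d = 1 := by
    have h3 : d * ((r.rootMultiplicity a : ℤ) - s.rootMultiplicity a) = 1 := by linarith
    have h4 : d ∣ 1 := Dvd.intro _ h3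
    have h5 := Int.eq_one_or_neg_one_of_mul_eq_one h3
    omega
  rw [hzd, hd']

/-- For the variable `x` of a Hasse family, `dx` has order `0` at almost all places. -/
theorem finite_support_ordDiff [IsAlgClosed k] (hK : FunFld.IsFunctionField k K) {x : K}
    (H : K →ₐ[k] PowerSeries K) (hH : LocRes.IsHasseFamily x H)
    (Φ : FunFld.Place k K → (K →ₐ[k] LaurentSeries k))
    (hΦ : ∀ P : FunFld.Place k K, LocRes.IsExpansionAt P.1 (Φ P)) :
    (Function.support fun P : FunFld.Place k K => LocRes.ordDiff (Φ P) 1 x).Finite := by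
  obtain ⟨htr, hfd, hsep⟩ := isSeparable_of_hasse hK H hH
  have hK₀ : FunFld.IsFunctionField k k⟮x⟯ := isFunctionField_adjoin_simple hK htr
  have hram := finite_ramified_of_isSeparable (K := k⟮x⟯) (K' := K) hK₀
  have hpole := finite_support_ord hK x
  refine (hram.union hpole).subset ?_
  intro Q hQ
  rw [Function.mem_support] at hQ
  by_contra hnot
  rw [Set.mem_union, not_or] at hnot
  obtain ⟨h1, h2⟩ := hnot
  rw [Set.mem_ofPred_eq, not_not] at h1
  rw [Function.mem_support, not_not] at h2
  have hx : Q.1 x ≤ 1 := by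
    have hx0 : x ≠ 0 := fun h0 => htr (h0 ▸ isAlgebraic_zero)
    have hv0 : Q.1 x ≠ 0 := (Valuation.ne_zero_iff Q.1).mpr hx0
    unfold FunFld.Place.ord at h2
    have : WithZero.log (Q.1 x) = 0 := by omega
    rw [(log_eq_zero_iff hv0).mp this]
  obtain ⟨a, ha⟩ := exists_uniformizer_of_unramified hK Q htr hx h1
  apply hQ
  have h3 := ordDiff_one_uniformizer (Φ Q) (hΦ Q) ha
  unfold LocRes.ordDiff LocRes.vDiff at h3 ⊢
  have hC : LocRes.D k (HahnSeries.C a : LaurentSeries k) = 0 := LocRes.derivative_C (R := k) a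
  rw [map_sub, map_sub, (Φ Q).commutes, LocRes.algebraMap_eq_C, hC, sub_zero] at h3
  exact h3

end Groth.Agent.Lib.FFExp58
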