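import Groth.Agent.Lib.FFDiff58b
import Groth.Agent.Lib.H40FunFldKummer
import Groth.Agent.S12598

/-!
# Invariance of the Weierstrass divisor (helper58)

* `divDiff_apply`, `divDiff_eq_add_div`: the divisor of `ds` versus that of `dt`.
* `mapDiv_apply'`, `inf_ord_eq_of_span`, `inf_ord_mul`: the divisor of a tuple under scaling and
  invertible linear change.
* `wDiv_invariant` (S12614).
-/

set_option autoImplicit false

namespace Groth.Agent.Lib.FFExp58

open FunFld Groth.Agent.Lib.H40FunFld LaurentSeries IntermediateField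

universe u v

variable {k : Type u} {K : Type v} [Field k] [Field K] [Algebra k K]

theorem divDiff_apply [IsAlgClosed k] (hK : FunFld.IsFunctionField k K) {x : K}
    (H : K →ₐ[k] PowerSeries K) (hH : LocRes.IsHasseFamily x H)
    (Φ : FunFld.Place k K → (K →ₐ[k] LaurentSeries k))
    (hΦ : ∀ P : FunFld.Place k K, LocRes.IsExpansionAt P.1 (Φ P)) (P : FunFld.Place k K) :
    FunFld.divDiff Φ 1 x P = LocRes.ordDiff (Φ P) 1 x := by
  classical
  unfold FunFld.divDiff
  rw [dif_pos (finite_support_ordDiff hK H hH Φ hΦ)]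
  rfl

theorem mapDiv_apply' (hK : FunFld.IsFunctionField k K) {ι : Type*} [Fintype ι] [Nonempty ι]
    (ψ : ι → K) (P : FunFld.Place k K) :
    FunFld.mapDiv k ψ P = -Finset.univ.inf' Finset.univ_nonempty (fun i => P.ord (ψ i)) :=
  mapDiv_apply_of_finite ψ (fun i => finite_support_ord hK (ψ i)) P

theorem ord_le_ord_of_val_le (P : FunFld.Place k K) {a b : K} (ha : a ≠ 0) (hb : b ≠ 0)
    (h : P.1 a ≤ P.1 b) : P.ord b ≤ P.ord a := by
  unfold FunFld.Place.ord
  have := (WithZero.log_le_log ((Valuation.ne_zero_iff P.1).mpr ha)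
    ((Valuation.ne_zero_iff P.1).mpr hb)).mpr h
  omega

/-- The least order of a tuple of nonzero functions only depends on the span. -/
theorem inf_ord_le_of_mem_span (P : FunFld.Place k K) {ι : Type*} [Fintype ι] [Nonempty ι]
    (ψ : ι → K) (hψ : ∀ i, ψ i ≠ 0) {f : K} (hf0 : f ≠ 0)
    (hf : f ∈ Submodule.span k (Set.range ψ)) :
    Finset.univ.inf' Finset.univ_nonempty (fun i => P.ord (ψ i)) ≤ P.ord f := by
  classical
  obtain ⟨a, rfl⟩ := (Submodule.mem_span_range_iff_exists_fun k).mp hf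
  -- the maximal valuation
  obtain ⟨j₀, -, hj₀⟩ := Finset.exists_max_image Finset.univ (fun i => P.1 (ψ i))
    Finset.univ_nonempty
  have hle : P.1 (∑ i, a i • ψ i) ≤ P.1 (ψ j₀) := by
    apply Valuation.map_sum_le
    intro i _
    rw [Algebra.smul_def, map_mul]
    calc P.1 (algebraMap k K (a i)) * P.1 (ψ i) ≤ 1 * P.1 (ψ i) :=
          mul_le_mul_left (P.2.1 (a i)) _
      _ = P.1 (ψ i) := one_mul _
      _ ≤ P.1 (ψ j₀) := hj₀ i (Finset.mem_univ i)
  calc Finset.univ.inf' Finset.univ_nonempty (fun i => P.ord (ψ i)) ≤ P.ord (ψ j₀) :=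
        Finset.inf'_le _ (Finset.mem_univ j₀)
    _ ≤ P.ord (∑ i, a i • ψ i) := ord_le_ord_of_val_le P hf0 (hψ j₀) hle

theorem inf_ord_eq_of_span (P : FunFld.Place k K) {ι : Type*} [Fintype ι] [Nonempty ι]
    (ψ ψ' : ι → K) (hψ : ∀ i, ψ i ≠ 0) (hψ' : ∀ i, ψ' i ≠ 0)
    (h1 : ∀ i, ψ' i ∈ Submodule.span k (Set.range ψ))
    (h2 : ∀ i, ψ i ∈ Submodule.span k (Set.range ψ')) :
    Finset.univ.inf' Finset.univ_nonempty (fun i => P.ord (ψ' i)) =
      Finset.univ.inf' Finset.univ_nonempty (fun i => P.ord (ψ i)) := by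
  apply le_antisymm
  · rw [Finset.le_inf'_iff]
    intro i _
    exact inf_ord_le_of_mem_span P ψ' hψ' (hψ i) (h2 i)
  · rw [Finset.le_inf'_iff]
    intro i _
    exact inf_ord_le_of_mem_span P ψ hψ (hψ' i) (h1 i)

theorem inf_ord_mul (P : FunFld.Place k K) {ι : Type*} [Fintype ι] [Nonempty ι]
    (ψ : ι → K) (hψ : ∀ i, ψ i ≠ 0) {y : K} (hy : y ≠ 0) :
    Finset.univ.inf' Finset.univ_nonempty (fun i => P.ord (y * ψ i)) =
      P.ord y + Finset.univ.inf' Finset.univ_nonempty (fun i => P.ord (ψ i)) := by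
  have h1 : (fun i => P.ord (y * ψ i)) = fun i => P.ord y + P.ord (ψ i) := by
    funext i
    exact ord_mul P hy (hψ i)
  rw [h1]
  apply le_antisymm
  · obtain ⟨j, -, hj⟩ := Finset.exists_mem_eq_inf' Finset.univ_nonempty (fun i => P.ord (ψ i))
    rw [hj]
    exact Finset.inf'_le _ (Finset.mem_univ j)
  · rw [Finset.le_inf'_iff]
    intro i _
    exact add_le_add_right (Finset.inf'_le _ (Finset.mem_univ i)) _

theorem ord_algebraMap (P : FunFld.Place k K) {c : k} (hc : c ≠ 0) :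
    P.ord (algebraMap k K c) = 0 := by
  unfold FunFld.Place.ord
  rw [val_algebraMap P hc]
  simp

/-- Invariance of the Weierstrass divisor under change of the separating variable and of the
projective coordinates. -/
theorem wDiv_invariant [IsAlgClosed k] (hK : FunFld.IsFunctionField k K)
    {n : ℕ} (φ : Fin (n + 1) → K) (hφ : LinearIndependent k φ)
    (τ : K →ₐ[k] K) (s : K) (Hs : K →ₐ[k] PowerSeries K) (hHs : LocRes.IsHasseFamily s Hs)
    (t : K) (Ht : K →ₐ[k] PowerSeries K) (hHt : LocRes.IsHasseFamily t Ht)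
    (J : Fin n → ℕ) (hJ : FunFld.IsOrders K (FunFld.hcol τ Hs φ) J)
    (A : Matrix (Fin (n + 1)) (Fin (n + 1)) k) (hA : A.det ≠ 0) (y : K) (hy : y ≠ 0)
    (φ' : Fin (n + 1) → K) (hφ' : ∀ i, φ' i = y * ∑ j, A i j • φ j)
    (Φ : FunFld.Place k K → (K →ₐ[k] LaurentSeries k))
    (hΦ : ∀ P : FunFld.Place k K, LocRes.IsExpansionAt P.1 (Φ P)) :
    FunFld.wDiv τ Ht Φ t φ' J = FunFld.wDiv τ Hs Φ s φ J := by
  classical
  -- the intermediate tuple
  set ψ : Fin (n + 1) → K := fun i => ∑ j, A i j • φ j with hψ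
  have hφ'ψ : φ' = y • ψ := by
    funext i
    rw [hφ' i, Pi.smul_apply, smul_eq_mul]
  -- linear independence
  have hψmem : ∀ i, ψ i ∈ Submodule.span k (Set.range φ) := fun i =>
    Submodule.sum_mem _ fun j _ => Submodule.smul_mem _ _ (Submodule.subset_span ⟨j, rfl⟩)
  have hAinv : A⁻¹ * A = 1 := Matrix.nonsing_inv_mul A (IsUnit.mk0 _ hA)
  have hφmem : ∀ j, φ j ∈ Submodule.span k (Set.range ψ) := by
    intro j
    have : φ j = ∑ i, A⁻¹ j i • ψ i := by
      simp only [hψ, Finset.smul_sum, smul_smul]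
      rw [Finset.sum_comm]
      have h1 : ∀ l, ∑ i, (A⁻¹ j i * A i l) • φ l = ((A⁻¹ * A) j l) • φ l := by
        intro l
        rw [← Finset.sum_smul, Matrix.mul_apply]
      simp only [h1, hAinv, Matrix.one_apply, ite_smul, one_smul, zero_smul, Finset.sum_ite_eq,
        Finset.mem_univ, if_true]
    rw [this]
    exact Submodule.sum_mem _ fun i _ => Submodule.smul_mem _ _ (Submodule.subset_span ⟨i, rfl⟩)
  have hspan : Submodule.span k (Set.range ψ) = Submodule.span k (Set.range φ) := by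
    apply le_antisymm
    · rw [Submodule.span_le]; rintro _ ⟨i, rfl⟩; exact hψmem i
    · rw [Submodule.span_le]; rintro _ ⟨i, rfl⟩; exact hφmem i
  have hψli : LinearIndependent k ψ := linearIndependent_of_span_eq hφ hspan
  have hφ'li : LinearIndependent k φ' := by
    rw [hφ'ψ]; exact linearIndependent_smul hψli hy
  -- orders
  have hJψ : FunFld.IsOrders K (FunFld.hcol τ Hs ψ) J :=
    ((Groth.Agent.S12596.result k K hK φ hφ τ s Hs hHs A hA ψ (fun i => rfl)).1 J).mpr hJ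
  have hJφ' : FunFld.IsOrders K (FunFld.hcol τ Hs φ') J := by
    rw [hφ'ψ]
    exact ((Groth.Agent.S12597.result k K hK ψ hψli τ s Hs hHs y hy).1 J).mpr hJψ
  -- determinants
  have hd1 := (Groth.Agent.S12598.result k K hK φ' hφ'li τ s Hs hHs t Ht hHt).2 J hJφ'
  have hd2 : (FunFld.wrMat τ Hs φ' J).det = τ y * y ^ n * (FunFld.wrMat τ Hs ψ J).det := by
    rw [hφ'ψ]
    exact (Groth.Agent.S12597.result k K hK ψ hψli τ s Hs hHs y hy).2 J hJψ
  have hd3 := (Groth.Agent.S12596.result k K hK φ hφ τ s Hs hHs A hA ψ (fun i => rfl)).2 J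
  -- nonvanishing
  have hc0 : FunFld.hcol τ Hs φ 0 ≠ 0 := by
    intro h0
    have h1 : τ (φ 0) = 0 := congrFun h0 0
    exact hφ.ne_zero 0 ((map_eq_zero τ).mp h1)
  have hW0 : (FunFld.wrMat τ Hs φ J).det ≠ 0 :=
    (det_ne_zero_iff_linearIndependent _ J _ (wrMat_apply τ Hs φ J)).mpr
      (linearIndependent_orders _ J hJ hc0)
  have hst : LocRes.hasseD Ht 1 s ≠ 0 := Groth.Agent.S12598.hasseD_one_ne_zero hK hHs hHt
  have hτy : τ y ≠ 0 := (map_ne_zero τ).mpr hy
  have hcA : algebraMap k K A.det ≠ 0 := (map_ne_zero _).mpr hA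
  -- pointwise comparison
  ext P
  unfold FunFld.wDiv
  simp only [Finsupp.add_apply, Finsupp.smul_apply]
  rw [H40FunFld.div_apply hK, H40FunFld.div_apply hK, mapDiv_apply' hK, mapDiv_apply' hK,
    mapDiv_apply' hK, mapDiv_apply' hK, divDiff_apply hK Ht hHt Φ hΦ, divDiff_apply hK Hs hHs Φ hΦ]
  -- the determinant
  have hordW : P.ord (FunFld.wrMat τ Ht φ' J).det =
      (∑ l, (J l : ℤ)) * P.ord (LocRes.hasseD Ht 1 s) + P.ord (τ y) + n * P.ord y +
        P.ord (FunFld.wrMat τ Hs φ J).det := by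
    rw [hd1, hd2, hd3]
    rw [ord_mul P (pow_ne_zero _ hst)
      (mul_ne_zero (mul_ne_zero hτy (pow_ne_zero _ hy)) (mul_ne_zero hcA hW0)),
      ord_mul P (mul_ne_zero hτy (pow_ne_zero _ hy)) (mul_ne_zero hcA hW0),
      ord_mul P hτy (pow_ne_zero _ hy), ord_mul P hcA hW0, ord_pow', ord_pow',
      ord_algebraMap P hA]
    push_cast
    ring
  -- the tuples
  have hψ0 : ∀ i, ψ i ≠ 0 := fun i => hψli.ne_zero i
  have hφ0 : ∀ i, φ i ≠ 0 := fun i => hφ.ne_zero i
  have hinf1 : Finset.univ.inf' Finset.univ_nonempty (fun i => P.ord (φ' i)) =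
      P.ord y + Finset.univ.inf' Finset.univ_nonempty (fun i => P.ord (φ i)) := by
    have : (fun i => P.ord (φ' i)) = fun i => P.ord (y * ψ i) := by
      funext i; rw [hφ' i]
    rw [this, inf_ord_mul P ψ hψ0 hy, inf_ord_eq_of_span P φ ψ hφ0 hψ0 hψmem hφmem]
  have hτψ : ∀ i, τ (ψ i) = ∑ j, A i j • τ (φ j) := by
    intro i
    simp only [hψ, map_sum, map_smul]
  have hτφmem : ∀ j, τ (φ j) ∈ Submodule.span k (Set.range fun i => τ (ψ i)) := by
    intro j
    obtain ⟨a, ha⟩ := (Submodule.mem_span_range_iff_exists_fun k).mp (hφmem j)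
    rw [Submodule.mem_span_range_iff_exists_fun]
    refine ⟨a, ?_⟩
    rw [← ha, map_sum]
    exact Finset.sum_congr rfl fun i _ => (map_smul τ _ _).symm
  have hτψmem : ∀ i, τ (ψ i) ∈ Submodule.span k (Set.range fun j => τ (φ j)) := by
    intro i
    rw [hτψ i]
    exact Submodule.sum_mem _ fun j _ => Submodule.smul_mem _ _ (Submodule.subset_span ⟨j, rfl⟩)
  have hinf2 : Finset.univ.inf' Finset.univ_nonempty (fun i => P.ord ((⇑τ ∘ φ') i)) =
      P.ord (τ y) + Finset.univ.inf' Finset.univ_nonempty (fun i => P.ord ((⇑τ ∘ φ) i)) := by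
    have : (fun i => P.ord ((⇑τ ∘ φ') i)) = fun i => P.ord (τ y * τ (ψ i)) := by
      funext i
      simp only [Function.comp_apply]
      rw [hφ' i, map_mul]
    rw [this, inf_ord_mul P (fun i => τ (ψ i)) (fun i => (map_ne_zero τ).mpr (hψ0 i)) hτy]
    congr 1
    exact inf_ord_eq_of_span P (fun j => τ (φ j)) (fun i => τ (ψ i))
      (fun i => (map_ne_zero τ).mpr (hφ0 i)) (fun i => (map_ne_zero τ).mpr (hψ0 i)) hτψmem hτφmem
  -- the differentials
  have hdiff := ordDiff_one_of_hasse hK Ht hHt hst (Φ P) (hΦ P)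
  rw [hordW, hinf1, hinf2, hdiff]
  simp only [smul_eq_mul]
  push_cast
  ring

end Groth.Agent.Lib.FFExp58
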