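import Groth.Agent.Lib.FFDiff58c

/-!
# Existence of Hasse families for local parameters; existence of orders at a place (helper58)

* `exists_hasse_of_ne_zero`: from a Hasse family w.r.t. `s`, construct one w.r.t. any `t` with
  `dt/ds ≠ 0` (substitution of the compositional inverse).
* `hasseD_one_ne_zero_of_uniformizer`, `exists_hasse_of_uniformizer`.
* `exists_orders_at`: a normalized effective tuple has an order sequence at `P`.
-/

set_option autoImplicit false

namespace Groth.Agent.Lib.FFExp58

open FunFld Groth.Agent.Lib.H40FunFld LaurentSeries IntermediateField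

universe u v

variable {k : Type u} {K : Type v} [Field k] [Field K] [Algebra k K]

/-- Change of variable for Hasse families. -/
theorem exists_hasse_of_ne_zero {s : K} (Hs : K →ₐ[k] PowerSeries K)
    (hHs : LocRes.IsHasseFamily s Hs) {t : K} (ht : LocRes.hasseD Hs 1 t ≠ 0) :
    ∃ Ht : K →ₐ[k] PowerSeries K, LocRes.IsHasseFamily t Ht := by
  set g : PowerSeries K := Hs t - PowerSeries.C t with hg
  have hg0 : PowerSeries.constantCoeff g = 0 := by
    rw [hg, map_sub, hHs.2, PowerSeries.constantCoeff_C, sub_self]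
  have hg1 : IsUnit (PowerSeries.coeff 1 g) := by
    rw [hg, map_sub, PowerSeries.coeff_C, if_neg one_ne_zero, sub_zero]
    exact IsUnit.mk0 _ ht
  set u : PowerSeries K := PowerSeries.substInvOfIsUnit g hg1 with hu
  have hu0 : PowerSeries.constantCoeff u = 0 := PowerSeries.constantCoeff_substInvOfIsUnit g hg1
  have hsub : PowerSeries.HasSubst u := PowerSeries.HasSubst.substInvOfIsUnit g hg1
  let Ht : K →ₐ[k] PowerSeries K :=
    ((PowerSeries.substAlgHom hsub : PowerSeries K →ₐ[K] PowerSeries K).restrictScalars k).comp Hs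
  have hHt : ∀ z, Ht z = (Hs z).subst u := by
    intro z
    simp only [Ht, AlgHom.comp_apply, AlgHom.restrictScalars_apply, PowerSeries.coe_substAlgHom]
  refine ⟨Ht, ?_, fun z => ?_⟩
  · have h1 : Hs t = PowerSeries.C t + g := by rw [hg]; ring
    rw [hHt, h1, PowerSeries.subst_add hsub,
      PowerSeries.subst_substInvOfIsUnit_right g hg0 hg1]
    congr 1
    exact PowerSeries.subst_C (a := u) t
  · rw [hHt, Groth.Agent.S12598.constantCoeff_subst' hu0, hHs.2]

/-- The derivative of a local parameter with respect to a separating variable is nonzero. -/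
theorem hasseD_one_ne_zero_of_uniformizer [IsAlgClosed k] (hK : FunFld.IsFunctionField k K)
    {s : K} (Hs : K →ₐ[k] PowerSeries K) (hHs : LocRes.IsHasseFamily s Hs)
    {P : FunFld.Place k K} (Ψ : K →ₐ[k] LaurentSeries k) (hΨ : LocRes.IsExpansionAt P.1 Ψ)
    {t : K} (ht : P.1 t = WithZero.exp (-1)) : LocRes.hasseD Hs 1 t ≠ 0 := by
  intro h0
  have h1 := vDiff_one_of_hasse hK Hs hHs t Ψ hΨ
  rw [h0, map_zero, zero_mul] at h1
  have h2 := ordDiff_one_uniformizer Ψ hΨ ht
  have hv : Valued.v (Ψ t) = WithZero.exp (-(1 : ℤ)) := by rw [hΨ.1, ht]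
  rw [valued_eq_exp_iff] at hv
  have h3 : Valued.v (LocRes.D k (Ψ t)) = WithZero.exp (-(0 : ℤ)) := by
    rw [valued_eq_exp_iff]
    constructor
    · intro m hm
      show (LaurentSeries.derivative k (Ψ t)).coeff m = 0
      rw [LocRes.derivative_coeff, hv.1 (m + 1) (by omega), smul_zero]
    · show (LaurentSeries.derivative k (Ψ t)).coeff 0 ≠ 0
      rw [LocRes.derivative_coeff]
      simpa using hv.2
  unfold LocRes.vDiff at h1
  rw [map_one, one_mul, h3] at h1
  exact WithZero.exp_ne_zero h1

theorem exists_hasse_of_uniformizer [IsAlgClosed k] (hK : FunFld.IsFunctionField k K)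
    {s : K} (Hs : K →ₐ[k] PowerSeries K) (hHs : LocRes.IsHasseFamily s Hs)
    {P : FunFld.Place k K} (Ψ : K →ₐ[k] LaurentSeries k) (hΨ : LocRes.IsExpansionAt P.1 Ψ)
    {t : K} (ht : P.1 t = WithZero.exp (-1)) :
    ∃ Ht : K →ₐ[k] PowerSeries K, LocRes.IsHasseFamily t Ht :=
  exists_hasse_of_ne_zero Hs hHs (hasseD_one_ne_zero_of_uniformizer hK Hs hHs Ψ hΨ ht)

/-- Existence of the order sequence at `P` of a normalized effective tuple. -/
theorem exists_orders_at [IsAlgClosed k] (hK : FunFld.IsFunctionField k K)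
    (P : FunFld.Place k K) {n : ℕ} (φ : Fin (n + 1) → K) (hφ : LinearIndependent k φ)
    (heff : (1 : K) ∈ Submodule.span k (Set.range φ)) (hnorm : ∀ i, P.1 (φ i) ≤ 1)
    (t : K) (ht : P.1 t = WithZero.exp (-1))
    (Ht : K →ₐ[k] PowerSeries K) (hHt : LocRes.IsHasseFamily t Ht) :
    ∃ J' : Fin n → ℕ,
      FunFld.IsOrders (IsLocalRing.ResidueField P.O) (FunFld.hcolAt P Ht φ) J' := by
  classical
  set κ := IsLocalRing.ResidueField P.O with hκ
  have hrows := linearIndependent_evalP_hasseD hK φ hφ P hnorm t ht Ht hHt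
  have h0 := ExpData.hcolAt_zero_ne_zero (Ht := Ht) φ heff hnorm
  have htop : Submodule.span κ (Set.range (FunFld.hcolAt P Ht φ)) = ⊤ := by
    by_contra hne
    obtain ⟨L, hL0, hLker⟩ := Submodule.exists_le_ker_of_lt_top _ (lt_top_iff_ne_top.mpr hne)
    apply hL0
    -- `L` is the pairing with a vector `b`, which must vanish by independence of the rows
    set b : Fin (n + 1) → κ := fun i => L (fun i' => if i = i' then 1 else 0) with hb
    have hLb : ∀ v : Fin (n + 1) → κ, L v = ∑ i, v i * b i := by
      intro v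
      rw [LinearMap.pi_apply_eq_sum_univ L v]
      rfl
    have hsum : ∑ i, b i • (fun j : ℕ => FunFld.evalP P (LocRes.hasseD Ht j (φ i))) = 0 := by
      funext j
      have h1 : FunFld.hcolAt P Ht φ (j + 1) ∈
          Submodule.span κ (Set.range (FunFld.hcolAt P Ht φ)) :=
        Submodule.subset_span ⟨j + 1, rfl⟩
      have h2 := hLker h1
      rw [LinearMap.mem_ker, hLb] at h2
      simp only [Finset.sum_apply, Pi.smul_apply, smul_eq_mul, Pi.zero_apply]
      rw [← h2]
      refine Finset.sum_congr rfl fun i _ => ?_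
      rw [mul_comm]
      rfl
    have hb0 := Fintype.linearIndependent_iff.mp hrows b hsum
    apply LinearMap.ext
    intro v
    rw [hLb, LinearMap.zero_apply]
    exact Finset.sum_eq_zero fun i _ => by rw [hb0 i, mul_zero]
  obtain ⟨J', hJ', -⟩ := Groth.Agent.S12600.exists_orders (FunFld.hcolAt P Ht φ) h0 htop
  exact ⟨J', hJ'⟩

end Groth.Agent.Lib.FFExp58
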