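import Groth.Agent.Lib.FFDiff58d

/-!
# Fixed points of `τ ≠ 1` are Weierstrass points (helper58)

`wDiv_pos_at_fixed_point` (S12610).
-/

set_option autoImplicit false

namespace Groth.Agent.Lib.FFExp58

open FunFld Groth.Agent.Lib.H40FunFld LaurentSeries IntermediateField

universe u v

variable {k : Type u} {K : Type v} [Field k] [Field K] [Algebra k K]

theorem wDiv_pos_at_fixed_point [IsAlgClosed k] (hK : FunFld.IsFunctionField k K)
    {n : ℕ} (φ : Fin (n + 1) → K) (hφ : LinearIndependent k φ)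
    (h0 : φ 0 ≠ 0) (hbir : IntermediateField.adjoin k (Set.range fun i => φ i / φ 0) = ⊤)
    (τ : K →ₐ[k] K) (hτ : τ ≠ AlgHom.id k K) (P : FunFld.Place k K) (hP : FunFld.IsFixedPt τ P)
    (s : K) (H : K →ₐ[k] PowerSeries K) (hH : LocRes.IsHasseFamily s H)
    (J : Fin n → ℕ) (hJ : FunFld.IsOrders K (FunFld.hcol τ H φ) J)
    (Φ : FunFld.Place k K → (K →ₐ[k] LaurentSeries k))
    (hΦ : ∀ P : FunFld.Place k K, LocRes.IsExpansionAt P.1 (Φ P)) :
    0 < FunFld.wDiv τ H Φ s φ J P := by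
  classical
  -- `n ≥ 1`
  have hn : 0 < n := by
    by_contra hn0
    have hn' : n = 0 := by omega
    subst hn'
    obtain ⟨⟨x, hx, -⟩, -⟩ := hK
    have hxtop : x ∈ (⊤ : IntermediateField k K) := IntermediateField.mem_top
    rw [← hbir] at hxtop
    have hrange : (Set.range fun i : Fin (0 + 1) => φ i / φ 0) = {1} := by
      ext z
      simp only [Set.mem_range, Set.mem_singleton_iff]
      constructor
      · rintro ⟨i, rfl⟩
        have : i = 0 := Fin.ext (by have := i.2; omega)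
        rw [this, div_self h0]
      · rintro rfl
        exact ⟨0, div_self h0⟩
    rw [hrange] at hxtop
    have hbot : IntermediateField.adjoin k ({1} : Set K) = ⊥ := by
      rw [IntermediateField.adjoin_simple_eq_bot_iff]
      exact one_mem _
    rw [hbot, IntermediateField.mem_bot] at hxtop
    obtain ⟨c, rfl⟩ := hxtop
    exact hx (isAlgebraic_algebraMap c)
  -- local parameter and its Hasse family
  obtain ⟨t, ht⟩ := exists_uniformizer P
  obtain ⟨Ht, hHt⟩ := exists_hasse_of_uniformizer hK H hH (Φ P) (hΦ P) ht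
  obtain ⟨E⟩ := exists_expData hK P t ht Ht hHt
  -- normalization
  obtain ⟨i₀, -, hi₀⟩ := Finset.exists_max_image Finset.univ (fun i => P.1 (φ i))
    Finset.univ_nonempty
  have hφi₀ : φ i₀ ≠ 0 := hφ.ne_zero i₀
  set y : K := (φ i₀)⁻¹ with hy
  have hy0 : y ≠ 0 := inv_ne_zero hφi₀
  set φ' : Fin (n + 1) → K := fun i => y * φ i with hφ'def
  have hφ'smul : φ' = y • φ := by
    funext i; simp [hφ'def]
  have hφ' : ∀ i, φ' i = y * ∑ j, (1 : Matrix (Fin (n + 1)) (Fin (n + 1)) k) i j • φ j := by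
    intro i
    simp [hφ'def, Matrix.one_apply, ite_smul]
  have hinv := wDiv_invariant hK φ hφ τ s H hH t Ht hHt J hJ 1
    (by rw [Matrix.det_one]; exact one_ne_zero) y hy0 φ' hφ' Φ hΦ
  rw [← hinv]
  have hφ'li : LinearIndependent k φ' := by rw [hφ'smul]; exact linearIndependent_smul hφ hy0
  have heff : (1 : K) ∈ Submodule.span k (Set.range φ') := by
    have : φ' i₀ = 1 := by simp [hφ'def, hy, inv_mul_cancel₀ hφi₀]
    rw [← this]
    exact Submodule.subset_span ⟨i₀, rfl⟩
  have hnorm : ∀ i, P.1 (φ' i) ≤ 1 := by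
    intro i
    have hv0 : P.1 (φ i₀) ≠ 0 := (Valuation.ne_zero_iff P.1).mpr hφi₀
    simp only [hφ'def, hy, map_mul, map_inv₀]
    rw [inv_mul_le_iff₀ (zero_lt_iff.mpr hv0), mul_one]
    exact hi₀ i (Finset.mem_univ i)
  -- `τ`-orders of `φ'` with respect to `Ht`
  have hJ1 : FunFld.IsOrders K (FunFld.hcol τ H φ') J := by
    rw [hφ'smul]
    exact ((Groth.Agent.S12597.result k K hK φ hφ τ s H hH y hy0).1 J).mpr hJ
  have hJ2 : FunFld.IsOrders K (FunFld.hcol τ Ht φ') J :=
    ((Groth.Agent.S12598.result k K hK φ' hφ'li τ s H hH t Ht hHt).1 J).mpr hJ1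
  -- orders of `φ'`
  obtain ⟨ε, hε, -⟩ := Groth.Agent.S12600.result k K hK φ' hφ'li (AlgHom.id k K) t Ht hHt
  have hε1 : ∀ l, 1 ≤ ε l := by
    intro l
    by_contra hlt
    have hεl : ε l = 0 := by omega
    have hjump := (hε.2 (ε l)).mp ⟨l, rfl⟩
    rw [hεl] at hjump
    apply hjump
    have h01 : FunFld.hcol (AlgHom.id k K) Ht φ' (0 + 1) = FunFld.hcol (AlgHom.id k K) Ht φ' 0 := by
      funext i
      simp only [FunFld.hcol]
      rw [ExpData.hasseD_zero hHt]
      rfl
    rw [h01]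
    exact Submodule.subset_span ⟨0, by simp, rfl⟩
  -- birationality of `φ'`
  have h0' : φ' 0 ≠ 0 := mul_ne_zero hy0 h0
  have hbir' : IntermediateField.adjoin k (Set.range fun i => φ' i / φ' 0) = ⊤ := by
    have : (fun i => φ' i / φ' 0) = fun i => φ i / φ 0 := by
      funext i
      simp only [hφ'def]
      rw [mul_div_mul_left _ _ hy0]
    rw [this, hbir]
  obtain ⟨m, hm⟩ := Groth.Agent.S12602.result k K hK hn φ' hφ'li h0' hbir' τ hτ t Ht hHt ε hε
  -- orders at `P`
  obtain ⟨J', hJ'⟩ := exists_orders_at hK P φ' hφ'li heff hnorm t ht Ht hHt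
  have hle := (E.orders_main hK ht hHt φ' hφ'li heff hnorm ε hε J' hJ' Φ hΦ).1
  have hW := (E.wDiv_at_fixed_point hK τ hP ht hHt φ' hφ'li heff hnorm J hJ2 J' hJ' Φ hΦ).1
  -- the sum of the `τ`-orders
  have himage : Finset.univ.image J = insert 0 ((Finset.univ.erase m).image ε) := by
    ext j
    simp only [Finset.mem_image, Finset.mem_univ, true_and, Finset.mem_insert, Finset.mem_erase,
      ne_eq, and_true]
    have h1 : (∃ l, J l = j) ↔ FunFld.IsJump K (FunFld.hcol τ Ht φ') (j + 1) := hJ2.2 j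
    rw [h1, hm j]
  have hsumJ : ∑ l, J l + ε m = ∑ l, ε l := by
    have h1 : ∑ l, J l = ∑ j ∈ Finset.univ.image J, j := by
      rw [Finset.sum_image]
      intro a _ b _ hab
      exact hJ2.1.injective hab
    have h2 : (0 : ℕ) ∉ (Finset.univ.erase m).image ε := by
      intro h
      obtain ⟨l, -, hl⟩ := Finset.mem_image.mp h
      have := hε1 l
      omega
    rw [h1, himage, Finset.sum_insert h2, zero_add, Finset.sum_image]
    · rw [add_comm]
      exact Finset.add_sum_erase Finset.univ ε (Finset.mem_univ m)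
    · intro a _ b _ hab
      exact hε.1.injective hab
  have hsum1 : ∑ l, ((J' l : ℤ) - J l) = ∑ l, (J' l : ℤ) - ∑ l, (J l : ℤ) :=
    Finset.sum_sub_distrib _ _
  have hsum2 : ∑ l, (ε l : ℤ) ≤ ∑ l, (J' l : ℤ) :=
    Finset.sum_le_sum fun l _ => by exact_mod_cast hle l
  have hsum3 : (∑ l, (J l : ℤ)) + ε m = ∑ l, (ε l : ℤ) := by exact_mod_cast hsumJ
  have hεm : (1 : ℤ) ≤ ε m := by exact_mod_cast hε1 m
  rw [hsum1] at hW
  omega

end Groth.Agent.Lib.FFExp58
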