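import Groth.Agent.Lib.H40FunFld

/-!
# Function fields of one variable (`FunFld`): weak approximation with prescribed precision.
-/

set_option autoImplicit false
open FunFld

namespace Groth.Agent.Lib.H40FunFld

universe u v
variable {k : Type u} {K : Type v} [Field k] [Field K] [Algebra k K]

theorem lt_one_iff_le_exp_neg_one {γ : WithZero (Multiplicative ℤ)} :
    γ < 1 ↔ γ ≤ WithZero.exp (-1 : ℤ) := by
  have := lt_exp_add_one_iff' (x := γ) (-1)
  simpa using this
where
  lt_exp_add_one_iff' {x : WithZero (Multiplicative ℤ)} (n : ℤ) :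
      x < WithZero.exp (n + 1) ↔ x ≤ WithZero.exp n := by
    rw [WithZero.exp_add, WithZero.lt_mul_exp_iff_le WithZero.exp_ne_zero]

theorem one_lt_iff_exp_one_le {γ : WithZero (Multiplicative ℤ)} :
    1 < γ ↔ WithZero.exp (1 : ℤ) ≤ γ := by
  rw [← not_iff_not, not_lt, not_le]
  have := lt_one_iff_le_exp_neg_one.lt_exp_add_one_iff' (x := γ) 0
  simpa using this.symm

/-- For `P ∉ s` and `N ≥ 0` there is `w` with `w ≡ 1` to precision `N` at `P` and `w ≡ 0` to
precision `N` at all `Q ∈ s`. -/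
theorem exists_approx_one_zero (s : Finset (FunFld.Place k K)) (P : FunFld.Place k K)
    (hP : P ∉ s) (N : ℕ) :
    ∃ w : K, P.1 (w - 1) ≤ WithZero.exp (-(N : ℤ)) ∧ ∀ Q ∈ s, Q.1 w ≤ WithZero.exp (-(N : ℤ)) := by
  obtain ⟨u, hu1, hu2⟩ := exists_lt_one_forall_one_lt s P hP
  -- use exponent `N + 1` to make sure it is positive
  set m : ℕ := N + 1 with hm
  have hm0 : m ≠ 0 := by omega
  have hPum : P.1 (u ^ m) < 1 := by rw [map_pow]; exact pow_lt_one₀ zero_le hu1 hm0
  have h1 : P.1 (1 + u ^ m) = 1 := by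
    have := Valuation.map_add_eq_of_lt_left P.1 (x := (1 : K)) (y := u ^ m)
      (by rw [map_one]; exact hPum)
    rw [this, map_one]
  have h10 : (1 + u ^ m) ≠ 0 := by
    intro h0; rw [h0, map_zero] at h1; exact zero_ne_one h1
  refine ⟨(1 + u ^ m)⁻¹, ?_, ?_⟩
  · have e : (1 + u ^ m)⁻¹ - 1 = -(u ^ m) * (1 + u ^ m)⁻¹ := by
      field_simp
      ring
    rw [e, map_mul, Valuation.map_neg, map_inv₀, h1, inv_one, mul_one, map_pow]
    have h2 : P.1 u ≤ WithZero.exp (-1 : ℤ) := lt_one_iff_le_exp_neg_one.1 hu1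
    calc P.1 u ^ m ≤ WithZero.exp (-1 : ℤ) ^ m := pow_le_pow_left₀ zero_le h2 m
      _ = WithZero.exp (-(m : ℤ)) := by
          rw [← WithZero.exp_nsmul]; congr 1; simp
      _ ≤ WithZero.exp (-(N : ℤ)) := by
          rw [WithZero.exp_le_exp]; omega
  · intro Q hQ
    have h2 : WithZero.exp (1 : ℤ) ≤ Q.1 u := one_lt_iff_exp_one_le.1 (hu2 Q hQ)
    have h3 : WithZero.exp (m : ℤ) ≤ Q.1 (u ^ m) := by
      rw [map_pow]
      calc WithZero.exp (m : ℤ) = WithZero.exp (1 : ℤ) ^ m := by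
            rw [← WithZero.exp_nsmul]; congr 1; simp
        _ ≤ Q.1 u ^ m := pow_le_pow_left₀ zero_le h2 m
    have h4 : 1 < Q.1 (u ^ m) := by
      refine lt_of_lt_of_le ?_ h3
      rw [← WithZero.exp_zero, WithZero.exp_lt_exp]; omega
    have h5 : Q.1 (1 + u ^ m) = Q.1 (u ^ m) := by
      apply Valuation.map_add_eq_of_lt_right
      rw [map_one]; exact h4
    rw [map_inv₀, h5]
    have h6 : (0 : WithZero (Multiplicative ℤ)) < Q.1 (u ^ m) := lt_trans zero_lt_one h4
    rw [inv_le_comm₀ h6 WithZero.exp_pos, ← WithZero.exp_neg, neg_neg]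
    refine le_trans ?_ h3
    rw [WithZero.exp_le_exp]; omega

/-- Weak approximation: for a finite set `s` of places, a family `x P` and a precision `N`,
there is `z` with `v_P (z - x P) ≤ exp (-N)` for all `P ∈ s`. -/
theorem exists_approx (s : Finset (FunFld.Place k K)) (x : FunFld.Place k K → K) (N : ℕ) :
    ∃ z : K, ∀ P ∈ s, P.1 (z - x P) ≤ WithZero.exp (-(N : ℤ)) := by
  classical
  -- a bound `M` on the valuations of the `x Q` at all `P ∈ s`
  obtain ⟨M, hM⟩ : ∃ M : ℕ, ∀ P ∈ s, ∀ Q ∈ s, P.1 (x Q) ≤ WithZero.exp (M : ℤ) := by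
    refine ⟨(s ×ˢ s).sup (fun pq => (WithZero.log (pq.1.1 (x pq.2))).toNat), ?_⟩
    intro P hP Q hQ
    have hle : (WithZero.log (P.1 (x Q))).toNat ≤
        (s ×ˢ s).sup (fun pq => (WithZero.log (pq.1.1 (x pq.2))).toNat) :=
      Finset.le_sup (f := fun pq : FunFld.Place k K × FunFld.Place k K =>
        (WithZero.log (pq.1.1 (x pq.2))).toNat) (Finset.mk_mem_product hP hQ)
    apply WithZero.le_exp_of_log_le
    have := Int.self_le_toNat (WithZero.log (P.1 (x Q)))
    exact this.trans (by exact_mod_cast hle)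
  have hw := fun P : FunFld.Place k K =>
    exists_approx_one_zero (s.erase P) P (Finset.notMem_erase P s) (N + M)
  choose w hw1 hw2 using hw
  refine ⟨∑ Q ∈ s, x Q * w Q, ?_⟩
  intro P hP
  have e : (∑ Q ∈ s, x Q * w Q) - x P =
      x P * (w P - 1) + ∑ Q ∈ s.erase P, x Q * w Q := by
    rw [← Finset.add_sum_erase s _ hP]; ring
  rw [e]
  have hexp : WithZero.exp (M : ℤ) * WithZero.exp (-((N + M : ℕ) : ℤ)) =
      WithZero.exp (-(N : ℤ)) := by
    rw [← WithZero.exp_add]; congr 1; push_cast; ring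
  apply Valuation.map_add_le
  · rw [map_mul, ← hexp]
    exact mul_le_mul' (hM P hP P hP) (hw1 P)
  · apply Valuation.map_sum_le
    intro Q hQ
    have hQs : Q ∈ s := Finset.mem_of_mem_erase hQ
    have hPQ : P ∈ s.erase Q := Finset.mem_erase.2 ⟨(Finset.mem_erase.1 hQ).1.symm, hP⟩
    rw [map_mul, ← hexp]
    exact mul_le_mul' (hM P hP Q hQs) (hw2 Q P hPQ)

end Groth.Agent.Lib.H40FunFld
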