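import Groth.Prelude.Def_W4bk4goldsch23FF
import Groth.Agent.Lib.H40FunFld
import Groth.Agent.Lib.H40FunFldApprox
import Mathlib.RingTheory.PowerSeries.Trunc
import Mathlib.RingTheory.LaurentSeries

/-!
# `t`-adic expansions at a place with residue field `k` (helper58)

For a place `P` of `K/k`, a uniformizer `t`, and the hypothesis that every element of `O_P` is
congruent to a constant modulo the maximal ideal: every `z ∈ O_P` has a unique power series
expansion `s` (`Expands P t z s`), and expansions are compatible with the ring operations.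
-/

set_option autoImplicit false

namespace Groth.Agent.Lib.FFExp58

open FunFld Polynomial Groth.Agent.Lib.H40FunFld

universe u v

variable {k : Type u} {K : Type v} [Field k] [Field K] [Algebra k K]

/-- `s` is a `t`-adic expansion of `z` at `P`. -/
def Expands (P : FunFld.Place k K) (t : K) (z : K) (s : PowerSeries k) : Prop :=
  ∀ n : ℕ, P.1 (z - aeval t (s.trunc n)) ≤ WithZero.exp (-(n : ℤ))

variable {P : FunFld.Place k K} {t : K}

theorem Expands.add {z z' : K} {s s' : PowerSeries k} (h : Expands P t z s)
    (h' : Expands P t z' s') : Expands P t (z + z') (s + s') := by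
  intro n
  have e : z + z' - aeval t ((s + s').trunc n)
      = (z - aeval t (s.trunc n)) + (z' - aeval t (s'.trunc n)) := by
    rw [map_add, map_add]; ring
  rw [e]
  exact (Valuation.map_add _ _ _).trans (max_le (h n) (h' n))

theorem expands_algebraMap (c : k) : Expands P t (algebraMap k K c) (PowerSeries.C c) := by
  intro n
  rcases n with _ | n
  · simp only [PowerSeries.trunc_zero', map_zero, sub_zero, Nat.cast_zero, neg_zero,
      WithZero.exp_zero]
    exact P.2.1 c
  · rw [PowerSeries.trunc_C, aeval_C, sub_self, map_zero]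
    exact zero_le

section basic

variable (ht : P.1 t = WithZero.exp (-1 : ℤ))
include ht

theorem val_t_le_one : P.1 t ≤ 1 := by
  rw [ht, ← WithZero.exp_zero, WithZero.exp_le_exp]; omega

theorem val_t_lt_one : P.1 t < 1 := by
  rw [ht, ← WithZero.exp_zero, WithZero.exp_lt_exp]; omega

theorem val_t_pow (n : ℕ) : P.1 (t ^ n) = WithZero.exp (-(n : ℤ)) := by
  rw [map_pow, ht, ← WithZero.exp_nsmul, nsmul_eq_mul, mul_neg, mul_one]

theorem val_aeval_le_of_coeff (q : k[X]) (n : ℕ) (hq : ∀ i < n, q.coeff i = 0) :
    P.1 (aeval t q) ≤ WithZero.exp (-(n : ℤ)) := by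
  obtain ⟨q', rfl⟩ := (Polynomial.X_pow_dvd_iff).mpr hq
  rw [map_mul, map_pow, aeval_X, map_mul, val_t_pow ht]
  calc WithZero.exp (-(n : ℤ)) * P.1 (aeval t q') ≤ WithZero.exp (-(n : ℤ)) * 1 := by
        gcongr
        exact val_aeval_le_one P (val_t_le_one ht) q'
    _ = _ := mul_one _

theorem Expands.unique {z : K} {s s' : PowerSeries k} (h : Expands P t z s)
    (h' : Expands P t z s') : s = s' := by
  ext m
  set n := m + 1 with hn
  set p : k[X] := s.trunc n - s'.trunc n with hp
  have hval : P.1 (aeval t p) ≤ WithZero.exp (-(n : ℤ)) := by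
    have e : aeval t p = (z - aeval t (s'.trunc n)) - (z - aeval t (s.trunc n)) := by
      rw [hp, map_sub]; ring
    rw [e]
    exact (Valuation.map_sub _ _ _).trans (max_le (h' n) (h n))
  have hp0 : p = 0 := by
    by_contra hne
    have h1 := val_aeval_eq_pow P (val_t_lt_one ht) hne
    rw [← map_pow, val_t_pow ht] at h1
    rw [h1, WithZero.exp_le_exp] at hval
    have hdeg : p.natDegree < n := by
      have hd : p.degree < n := by
        rw [hp]
        exact (Polynomial.degree_sub_le _ _).trans_lt
          (max_lt (PowerSeries.degree_trunc_lt s n) (PowerSeries.degree_trunc_lt s' n))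
      exact (Polynomial.natDegree_lt_iff_degree_lt hne).mpr hd
    have hrm : p.rootMultiplicity 0 ≤ p.natDegree := by
      have hdvd := Polynomial.pow_rootMultiplicity_dvd p 0
      rw [C_0, sub_zero] at hdvd
      have := Polynomial.natDegree_le_of_dvd hdvd hne
      rwa [Polynomial.natDegree_X_pow] at this
    omega
  have h2 : (s.trunc n).coeff m = (s'.trunc n).coeff m := by
    have := congrArg (fun q : k[X] => q.coeff m) hp0
    simp only [hp, Polynomial.coeff_sub, Polynomial.coeff_zero] at this
    exact sub_eq_zero.mp this
  simp only [PowerSeries.coeff_trunc, if_pos (show m < n by omega)] at h2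
  exact h2

theorem Expands.mul {z z' : K} {s s' : PowerSeries k} (h : Expands P t z s)
    (h' : Expands P t z' s') (hz' : P.1 z' ≤ 1) : Expands P t (z * z') (s * s') := by
  intro n
  set a := aeval t (s.trunc n) with ha
  set a' := aeval t (s'.trunc n) with ha'
  set q : k[X] := s.trunc n * s'.trunc n - (s * s').trunc n with hq
  have e : z * z' - aeval t ((s * s').trunc n)
      = (z - a) * z' + a * (z' - a') + aeval t q := by
    have e1 : aeval t q = a * a' - aeval t ((s * s').trunc n) := by
      rw [hq, map_sub, ha, ha']
      congr 1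
      exact map_mul (aeval t) _ _
    rw [e1]; ring
  have hqc : ∀ i < n, q.coeff i = 0 := by
    intro i hi
    rw [hq, Polynomial.coeff_sub, sub_eq_zero]
    have h1 := PowerSeries.trunc_trunc_mul_trunc (n := n) s s'
    have h2 := congrArg (fun r : k[X] => r.coeff i) h1
    simp only [PowerSeries.coeff_trunc, if_pos hi] at h2
    rw [PowerSeries.coeff_trunc, if_pos hi, ← h2, ← Polynomial.coe_mul, Polynomial.coeff_coe]
  rw [e]
  refine (Valuation.map_add _ _ _).trans (max_le ((Valuation.map_add _ _ _).trans
    (max_le ?_ ?_)) (val_aeval_le_of_coeff ht q n hqc))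
  · rw [map_mul]
    calc P.1 (z - a) * P.1 z' ≤ WithZero.exp (-(n : ℤ)) * 1 := by
          gcongr
          exact h n
      _ = _ := mul_one _
  · rw [map_mul]
    calc P.1 a * P.1 (z' - a') ≤ 1 * WithZero.exp (-(n : ℤ)) := by
          gcongr
          · exact val_aeval_le_one P (val_t_le_one ht) _
          · exact h' n
      _ = _ := one_mul _

theorem expands_t : Expands P t t (PowerSeries.X) := by
  intro n
  rcases n with _ | _ | n
  · simp only [PowerSeries.trunc_zero', map_zero, sub_zero, Nat.cast_zero, neg_zero,
      WithZero.exp_zero]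
    exact val_t_le_one ht
  · have : (PowerSeries.X : PowerSeries k).trunc (0 + 1) = 0 := by
      rw [PowerSeries.trunc_succ]
      simp
    rw [this, map_zero, sub_zero, ht]
    simp
  · rw [PowerSeries.trunc_X, aeval_X, sub_self, map_zero]
    exact zero_le

end basic

end Groth.Agent.Lib.FFExp58
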