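import Groth.Agent.Lib.FFExp58a

/-!
# Existence of `t`-adic expansions and the expansion homomorphism `O_P → k⟦X⟧` (helper58)
-/

set_option autoImplicit false

namespace Groth.Agent.Lib.FFExp58

open FunFld Polynomial Groth.Agent.Lib.H40FunFld

universe u v

variable {k : Type u} {K : Type v} [Field k] [Field K] [Algebra k K]
variable {P : FunFld.Place k K} {t : K}

section exist

variable (ht : P.1 t = WithZero.exp (-1 : ℤ))
variable (hres : ∀ z : K, P.1 z ≤ 1 → ∃ c : k, P.1 (z - algebraMap k K c) < 1)
include ht hres

theorem exists_expands (z : K) (hz : P.1 z ≤ 1) : ∃ s : PowerSeries k, Expands P t z s := by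
  classical
  have ht0 : t ≠ 0 := by
    intro h; rw [h, map_zero] at ht; exact WithZero.exp_ne_zero ht.symm
  -- one step
  have hstep : ∀ w : K, P.1 w ≤ 1 → ∃ c : k, ∃ w' : K, P.1 w' ≤ 1 ∧
      w = algebraMap k K c + t * w' := by
    intro w hw
    obtain ⟨c, hc⟩ := hres w hw
    refine ⟨c, (w - algebraMap k K c) / t, ?_, ?_⟩
    · rw [map_div₀, ht, div_le_iff₀ WithZero.exp_pos, one_mul]
      exact lt_one_iff_le_exp_neg_one.mp hc
    · field_simp
      ring
  choose! cf nx hnx hcf using hstep
  set zs : ℕ → K := fun n => nx^[n] z with hzs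
  have hzs1 : ∀ n, P.1 (zs n) ≤ 1 := by
    intro n
    induction n with
    | zero => exact hz
    | succ n ih =>
      have : zs (n + 1) = nx (zs n) := Function.iterate_succ_apply' nx n z
      rw [this]; exact hnx _ ih
  set s : PowerSeries k := PowerSeries.mk fun n => cf (zs n) with hs
  have key : ∀ n, z = aeval t (s.trunc n) + t ^ n * zs n := by
    intro n
    induction n with
    | zero => simp [hzs]
    | succ n ih =>
      have h1 : zs (n + 1) = nx (zs n) := Function.iterate_succ_apply' nx n z
      have h2 := hcf (zs n) (hzs1 n)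
      rw [PowerSeries.trunc_succ, map_add, aeval_monomial, hs, PowerSeries.coeff_mk, ← hs, h1]
      conv_lhs => rw [ih]
      conv_lhs => rw [h2]
      ring
  refine ⟨s, fun n => ?_⟩
  have e : z - aeval t (s.trunc n) = t ^ n * zs n := by
    conv_lhs => rw [key n]
    ring
  rw [e, map_mul, val_t_pow ht]
  calc WithZero.exp (-(n : ℤ)) * P.1 (zs n) ≤ WithZero.exp (-(n : ℤ)) * 1 := by
        gcongr
        exact hzs1 n
    _ = _ := mul_one _

/-- The expansion of an element of `O_P`. -/
noncomputable def expO (z : P.O) : PowerSeries k :=
  (exists_expands ht hres (z : K) z.2).choose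

theorem expands_expO (z : P.O) : Expands P t (z : K) (expO ht hres z) :=
  (exists_expands ht hres (z : K) z.2).choose_spec

theorem expO_eq {z : P.O} {s : PowerSeries k} (h : Expands P t (z : K) s) :
    expO ht hres z = s :=
  (expands_expO ht hres z).unique ht h

/-- The expansion homomorphism `O_P →+* k⟦X⟧`. -/
noncomputable def expHom : P.O →+* PowerSeries k where
  toFun := expO ht hres
  map_one' := by
    apply expO_eq
    have := expands_algebraMap (P := P) (t := t) (1 : k)
    simpa using this
  map_mul' a b := by
    apply expO_eq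
    exact (expands_expO ht hres a).mul ht (expands_expO ht hres b) b.2
  map_zero' := by
    apply expO_eq
    have := expands_algebraMap (P := P) (t := t) (0 : k)
    simpa using this
  map_add' a b := by
    apply expO_eq
    exact (expands_expO ht hres a).add (expands_expO ht hres b)

theorem expands_expHom (z : P.O) : Expands P t (z : K) (expHom ht hres z) :=
  expands_expO ht hres z

theorem expHom_eq {z : P.O} {s : PowerSeries k} (h : Expands P t (z : K) s) :
    expHom ht hres z = s := expO_eq ht hres h

theorem expHom_injective : Function.Injective (expHom ht hres) := by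
  rw [injective_iff_map_eq_zero]
  intro z hz
  have h := expands_expHom ht hres z
  rw [hz] at h
  by_contra hne
  have hne' : (z : K) ≠ 0 := fun h0 => hne (Subtype.ext h0)
  have hv : P.1 (z : K) ≠ 0 := (Valuation.ne_zero_iff _).mpr hne'
  obtain ⟨n, hn⟩ := WithZero.exists_exp_neg_natCast_lt hv
  have := h n
  simp only [map_zero, sub_zero] at this
  exact absurd (lt_of_lt_of_le hn this) (lt_irrefl _)

end exist

end Groth.Agent.Lib.FFExp58
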