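import Groth.Prelude.Def_LocRes
import Groth.Agent.Lib.FFExp58b

/-!
# Laurent expansions at a place with residue field `k` (helper58)

`exists_expansion`: for a place `P` of `K/k` whose residue field is `k`, and a uniformizer `t`,
there is a `k`-algebra map `ψ : K → k((X))` which is an expansion at `P` (`LocRes.IsExpansionAt`),
has `ψ t = X`, and whose constant coefficient computes residues.
-/

set_option autoImplicit false

namespace Groth.Agent.Lib.FFExp58

open FunFld Polynomial Groth.Agent.Lib.H40FunFld LaurentSeries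

universe u v

variable {k : Type u} {K : Type v} [Field k] [Field K] [Algebra k K]
variable {P : FunFld.Place k K} {t : K}

theorem lt_exp_add_one_iff' {x : WithZero (Multiplicative ℤ)} (n : ℤ) :
    x < WithZero.exp (n + 1) ↔ x ≤ WithZero.exp n := by
  rw [WithZero.exp_add, WithZero.lt_mul_exp_iff_le WithZero.exp_ne_zero]

theorem eq_of_forall_le_exp_iff {x y : WithZero (Multiplicative ℤ)} (hx : x ≤ 1) (hy : y ≤ 1)
    (h : ∀ d : ℕ, x ≤ WithZero.exp (-(d : ℤ)) ↔ y ≤ WithZero.exp (-(d : ℤ))) : x = y := by
  have key : ∀ {x y : WithZero (Multiplicative ℤ)}, x ≤ 1 →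
      (∀ d : ℕ, x ≤ WithZero.exp (-(d : ℤ)) ↔ y ≤ WithZero.exp (-(d : ℤ))) → x ≤ y := by
    intro x y hx1 h
    by_contra hlt
    rw [not_le] at hlt
    have hx0 : x ≠ 0 := fun h0 => by rw [h0] at hlt; exact not_lt_zero hlt
    have hlog : WithZero.log x ≤ 0 := by
      rw [WithZero.log_le_iff_le_exp hx0, WithZero.exp_zero]; exact hx1
    obtain ⟨d, hd⟩ : ∃ d : ℕ, (d : ℤ) = -WithZero.log x := ⟨(-WithZero.log x).toNat, by omega⟩
    have hxe : x = WithZero.exp (-(d : ℤ)) := by
      rw [hd, neg_neg, WithZero.exp_log hx0]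
    have h1 : y ≤ WithZero.exp (-((d + 1 : ℕ) : ℤ)) := by
      rw [← lt_exp_add_one_iff']
      have : -((d + 1 : ℕ) : ℤ) + 1 = -(d : ℤ) := by push_cast; ring
      rw [this, ← hxe]
      exact hlt
    have h2 := (h (d + 1)).mpr h1
    rw [hxe, WithZero.exp_le_exp] at h2
    push_cast at h2
    omega
  exact le_antisymm (key hx h) (key hy fun d => (h d).symm)

section

variable (ht : P.1 t = WithZero.exp (-1 : ℤ))
variable (hres : ∀ z : K, P.1 z ≤ 1 → ∃ c : k, P.1 (z - algebraMap k K c) < 1)
include ht hres

theorem val_le_iff_coeff (z : P.O) (d : ℕ) :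
    P.1 (z : K) ≤ WithZero.exp (-(d : ℤ)) ↔
      ∀ n < d, PowerSeries.coeff n (expHom ht hres z) = 0 := by
  set s := expHom ht hres z with hs
  have hexp := expands_expHom ht hres z
  constructor
  · intro hz n hn
    have hv : P.1 (aeval t (s.trunc d)) ≤ WithZero.exp (-(d : ℤ)) := by
      have e : aeval t (s.trunc d) = (z : K) - ((z : K) - aeval t (s.trunc d)) := by ring
      rw [e]
      exact (Valuation.map_sub _ _ _).trans (max_le hz (hexp d))
    have hp0 : s.trunc d = 0 := by
      by_contra hne
      have h1 := val_aeval_eq_pow P (val_t_lt_one ht) hne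
      rw [← map_pow, val_t_pow ht] at h1
      rw [h1, WithZero.exp_le_exp] at hv
      have hdeg : (s.trunc d).natDegree < d :=
        (Polynomial.natDegree_lt_iff_degree_lt hne).mpr (PowerSeries.degree_trunc_lt s d)
      have hrm : (s.trunc d).rootMultiplicity 0 ≤ (s.trunc d).natDegree := by
        have hdvd := Polynomial.pow_rootMultiplicity_dvd (s.trunc d) 0
        rw [C_0, sub_zero] at hdvd
        have := Polynomial.natDegree_le_of_dvd hdvd hne
        rwa [Polynomial.natDegree_X_pow] at this
      omega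
    have := congrArg (fun q : k[X] => q.coeff n) hp0
    simpa [PowerSeries.coeff_trunc, hn] using this
  · intro hc
    have hp0 : s.trunc d = 0 := by
      ext n
      rw [PowerSeries.coeff_trunc, Polynomial.coeff_zero]
      split_ifs with hn
      · exact hc n hn
      · rfl
    have := hexp d
    rwa [hp0, map_zero, sub_zero] at this

theorem valued_expHom (z : P.O) :
    Valued.v ((expHom ht hres z : PowerSeries k) : LaurentSeries k) = P.1 (z : K) := by
  apply eq_of_forall_le_exp_iff
  · have := (intValuation_le_iff_coeff_lt_eq_zero k (d := 0) (expHom ht hres z)).mpr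
      (fun n hn => absurd hn (Nat.not_lt_zero n))
    simpa using this
  · exact z.2
  · intro d
    rw [intValuation_le_iff_coeff_lt_eq_zero, val_le_iff_coeff ht hres]

/-- The expansion homomorphism on `K`. -/
noncomputable def expRingHom : K →+* LaurentSeries k :=
  IsFractionRing.lift (A := P.O) (K := K)
    (g := (HahnSeries.ofPowerSeries ℤ k).comp (expHom ht hres))
    ((HahnSeries.ofPowerSeries_injective).comp (expHom_injective ht hres))

theorem expRingHom_coe (z : P.O) :
    expRingHom ht hres (z : K) = ((expHom ht hres z : PowerSeries k) : LaurentSeries k) :=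
  IsFractionRing.lift_algebraMap _ z

theorem expRingHom_algebraMap (c : k) :
    expRingHom ht hres (algebraMap k K c) = algebraMap k (LaurentSeries k) c := by
  have h1 : algebraMap k K c = ((⟨algebraMap k K c, P.2.1 c⟩ : P.O) : K) := rfl
  rw [h1, expRingHom_coe, expHom_eq ht hres (expands_algebraMap c), LocRes.algebraMap_eq_C]
  exact HahnSeries.ofPowerSeries_C c

/-- The expansion as a `k`-algebra homomorphism. -/
noncomputable def expAlgHom : K →ₐ[k] LaurentSeries k :=
  { expRingHom ht hres with commutes' := expRingHom_algebraMap ht hres }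

theorem expAlgHom_coe (z : P.O) :
    expAlgHom ht hres (z : K) = ((expHom ht hres z : PowerSeries k) : LaurentSeries k) :=
  expRingHom_coe ht hres z

theorem expAlgHom_t : expAlgHom ht hres t = HahnSeries.single 1 1 := by
  have h1 := expAlgHom_coe ht hres ⟨t, val_t_le_one ht⟩
  rw [expHom_eq ht hres (expands_t ht)] at h1
  exact h1.trans HahnSeries.ofPowerSeries_X

theorem valued_expAlgHom (z : K) : Valued.v (expAlgHom ht hres z) = P.1 z := by
  by_cases hz : P.1 z ≤ 1
  · have h1 := valued_expHom ht hres ⟨z, hz⟩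
    rw [← expAlgHom_coe] at h1
    exact h1
  · have hz0 : z ≠ 0 := fun h => hz (by rw [h, map_zero]; exact zero_le)
    have hz' : P.1 z⁻¹ ≤ 1 := by
      rw [map_inv₀]
      exact inv_le_one_of_one_le₀ (not_le.mp hz).le
    have h1 := valued_expHom ht hres ⟨z⁻¹, hz'⟩
    rw [← expAlgHom_coe] at h1
    simp only [map_inv₀] at h1
    exact inv_injective h1

theorem expAlgHom_residue (z : K) (hz : P.1 z ≤ 1) :
    P.1 (z - algebraMap k K ((expAlgHom ht hres z).coeff 0)) < 1 := by
  have hexp := expands_expHom ht hres ⟨z, hz⟩ 1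
  have h1 := expAlgHom_coe ht hres ⟨z, hz⟩
  set s := expHom ht hres ⟨z, hz⟩ with hs
  have h2 : (expAlgHom ht hres z).coeff 0 = PowerSeries.coeff 0 s := by
    have h3 := congrArg (fun f : LaurentSeries k => f.coeff 0) h1
    simp only [PowerSeries.coeff_coe] at h3
    simpa using h3
  have h3 : s.trunc (0 + 1) = Polynomial.C (PowerSeries.coeff 0 s) := by
    rw [PowerSeries.trunc_succ]
    simp
  rw [h2]
  rw [h3, aeval_C] at hexp
  exact lt_one_iff_le_exp_neg_one.mpr hexp

theorem exists_expansion : ∃ ψ : K →ₐ[k] LaurentSeries k, LocRes.IsExpansionAt P.1 ψ ∧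
    ψ t = HahnSeries.single 1 1 ∧
    ∀ z, P.1 z ≤ 1 → P.1 (z - algebraMap k K ((ψ z).coeff 0)) < 1 := by
  refine ⟨expAlgHom ht hres, ⟨valued_expAlgHom ht hres, ?_, ⟨t, ht⟩⟩, expAlgHom_t ht hres,
    expAlgHom_residue ht hres⟩
  intro a
  refine ⟨algebraMap k K a, P.2.1 a, ?_⟩
  have : expAlgHom ht hres (algebraMap k K a) = algebraMap k (LaurentSeries k) a :=
    (expAlgHom ht hres).commutes a
  rw [this, LocRes.algebraMap_eq_C]
  simp

end

end Groth.Agent.Lib.FFExp58
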