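import Groth.Prelude.Def_W4bk4goldsch23FF
import Groth.Prelude.Def_LocRes
import Groth.Agent.Lib.H40FunFld
import Groth.Agent.Lib.FFSep58b

/-!
# A local parameter with a Laurent expansion over `k` is a separating element (helper58)

For a geometric function field `K/k` and a `k`-algebra map `φ : K → F((X))` with `φ t = X`,
the element `t` is transcendental and `K/k(t)` is finite separable.
-/

set_option autoImplicit false

namespace Groth.Agent.Lib.FFSep58

open IntermediateField Polynomial FunFld

universe u v w

variable {k : Type u} {K : Type v} [Field k] [Field K] [Algebra k K]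

theorem transcendental_of_expansion (hK : FunFld.IsFunctionField k K)
    {F : Type w} [Field F] [Algebra k F] (φ : K →ₐ[k] LaurentSeries F)
    (t : K) (ht : φ t = HahnSeries.single 1 1) : Transcendental k t := by
  intro halg
  obtain ⟨c, rfl⟩ := hK.2 t halg
  rw [LocRes.map_algebraMap] at ht
  have h1 := congrArg (fun f : LaurentSeries F => f.coeff 1) ht
  simp at h1

theorem essFiniteType_of_isFunctionField (hK : FunFld.IsFunctionField k K) :
    Algebra.EssFiniteType k K := by
  obtain ⟨⟨x, -, hfin⟩, -⟩ := hK
  have e1 : Algebra.EssFiniteType k k⟮x⟯ :=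
    IntermediateField.essFiniteType_iff.2 (fg_adjoin_of_finite (Set.finite_singleton x))
  have e2 : Algebra.EssFiniteType k⟮x⟯ K := inferInstance
  exact Algebra.EssFiniteType.comp k k⟮x⟯ K

open IntermediateField.algebraAdjoinAdjoin in
/-- A geometric function field of one variable has a separating element. -/
theorem exists_separating (hK : FunFld.IsFunctionField k K) (hg : FunFld.IsGeometric k K) :
    ∃ s : K, Algebra.IsSeparable k⟮s⟯ K := by
  obtain ⟨⟨x, hx, hfin⟩, -⟩ := id hK
  rcases CharP.exists' k with h0 | ⟨p, hp, hchar⟩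
  · refine ⟨x, ?_⟩
    have : CharZero k⟮x⟯ := charZero_of_injective_algebraMap (algebraMap k k⟮x⟯).injective
    have : Algebra.IsAlgebraic k⟮x⟯ K := Algebra.IsAlgebraic.of_finite _ _
    infer_instance
  · have hess := essFiniteType_of_isFunctionField hK
    have H := linearIndepOn_pow_of_isField_tensor (K := K) p hg
    obtain ⟨s, hs, hsep⟩ :=
      exists_isTranscendenceBasis_and_isSeparable_of_linearIndepOn_pow_of_essFiniteType
        p hp.out H
    -- the transcendence degree is one
    have ind_x : AlgebraicIndependent k (fun _ : PUnit.{v + 1} => x) :=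
      algebraicIndependent_unique_type_iff.2 hx
    have alg_x : Algebra.IsAlgebraic (Algebra.adjoin k (Set.range fun _ : PUnit.{v + 1} => x)) K := by
      rw [Set.range_const]
      have h1 : Algebra.IsAlgebraic k⟮x⟯ K := Algebra.IsAlgebraic.of_finite _ _
      exact Algebra.IsAlgebraic.trans (Algebra.adjoin k {x}) k⟮x⟯ K
    have hB_x : IsTranscendenceBasis k (fun _ : PUnit.{v + 1} => x) :=
      ind_x.isTranscendenceBasis_iff_isAlgebraic.2 alg_x
    have hcard : Cardinal.mk (↥s) = 1 := by
      rw [hs.cardinalMk_eq_trdeg, ← hB_x.cardinalMk_eq_trdeg]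
      simp
    have hcard' : s.card = 1 := by
      have := hcard
      rw [Cardinal.mk_coe_finset] at this
      exact_mod_cast this
    obtain ⟨a, rfl⟩ := Finset.card_eq_one.mp hcard'
    refine ⟨a, ?_⟩
    rw [Finset.coe_singleton] at hsep
    exact hsep

theorem isSeparable_adjoin_of_expansion (hK : FunFld.IsFunctionField k K)
    (hg : FunFld.IsGeometric k K)
    {F : Type w} [Field F] [Algebra k F] (φ : K →ₐ[k] LaurentSeries F)
    (t : K) (ht : φ t = HahnSeries.single 1 1) :
    FiniteDimensional k⟮t⟯ K ∧ Algebra.IsSeparable k⟮t⟯ K := by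
  have htr := transcendental_of_expansion hK φ t ht
  have hfin : FiniteDimensional k⟮t⟯ K :=
    Groth.Agent.Lib.H40FunFld.finiteDimensional_adjoin_of_transcendental hK htr
  refine ⟨hfin, ?_⟩
  obtain ⟨s, hs⟩ := exists_separating hK hg
  let _ : Algebra K (LaurentSeries F) := φ.toRingHom.toAlgebra
  have htower : IsScalarTower k K (LaurentSeries F) := LocRes.isScalarTower_exp φ
  have hδt : LocRes.dExp φ t = 1 := by
    change LocRes.D F (φ t) = 1
    rw [ht]
    ext n
    rw [LocRes.D_coeff]
    by_cases hn : n = 0
    · subst hn; simp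
    · have : n + 1 ≠ 1 := by omega
      simp [HahnSeries.coeff_single_of_ne this, HahnSeries.coeff_one, hn]
  refine isSeparable_adjoin_simple_of_derivation s t (LocRes.dExp φ) ?_
  intro a ha
  rw [hδt] at ha
  have h1 : a • (1 : LaurentSeries F) = φ a := by
    rw [Algebra.smul_def, mul_one]; rfl
  rw [h1] at ha
  exact (map_eq_zero φ).mp ha

end Groth.Agent.Lib.FFSep58
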