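import Mathlib

/-!
# Leibniz rule for Hasse derivatives of Laurent series (helper58)

`hasseDeriv_mul`: `hasseDeriv n (f * g) = ∑_{i+j=n} hasseDeriv i f * hasseDeriv j g`, and the
resulting ring homomorphism `taylor : F⸨X⸩ →+* (F⸨X⸩)⟦T⟧`, `f ↦ ∑ₙ hasseDeriv n f · Tⁿ`.
-/

namespace Groth.Agent.Lib.FFTaylor58

open HahnSeries LaurentSeries Finset

variable {F : Type*} [CommRing F]

theorem coeff_mul_eq_sum_Icc (f g : LaurentSeries F) (a0 b0 c : ℤ)
    (hf : ∀ a < a0, f.coeff a = 0) (hg : ∀ b < b0, g.coeff b = 0) :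
    (f * g).coeff c = ∑ a ∈ Finset.Icc a0 (c - b0), f.coeff a * g.coeff (c - a) := by
  rw [HahnSeries.coeff_mul]
  refine Finset.sum_bij_ne_zero (fun ij _ _ => ij.1) ?_ ?_ ?_ ?_
  · intro ij h1 _
    rw [Finset.mem_antidiagonal] at h1
    obtain ⟨h1, h2, h3⟩ := h1
    rw [Finset.mem_Icc]
    constructor
    · by_contra hlt
      exact h1 (hf _ (not_le.mp hlt))
    · by_contra hlt
      apply h2
      apply hg
      omega
  · intro ij h1 _ ij' h1' _ heq
    rw [Finset.mem_antidiagonal] at h1 h1'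
    have e1 : ij.1 = ij'.1 := heq
    have e2 : ij.2 = ij'.2 := by
      have := h1.2.2; have := h1'.2.2; omega
    exact Prod.ext e1 e2
  · intro b _ hne
    refine ⟨(b, c - b), ?_, ?_, rfl⟩
    · rw [Finset.mem_antidiagonal]
      refine ⟨?_, ?_, by simp⟩
      · exact left_ne_zero_of_mul hne
      · exact right_ne_zero_of_mul hne
    · exact hne
  · intro ij h1 _
    rw [Finset.mem_antidiagonal] at h1
    have : ij.2 = c - ij.1 := by have := h1.2.2; omega
    rw [this]

theorem hasseDeriv_mul (n : ℕ) (f g : LaurentSeries F) :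
    hasseDeriv F n (f * g) = ∑ p ∈ antidiagonal n, hasseDeriv F p.1 f * hasseDeriv F p.2 g := by
  ext m
  rw [hasseDeriv_coeff, HahnSeries.coeff_sum]
  set a0 := f.order with ha0
  set b0 := g.order with hb0
  have hf : ∀ a < a0, f.coeff a = 0 := fun a ha => coeff_eq_zero_of_lt_order ha
  have hg : ∀ b < b0, g.coeff b = 0 := fun b hb => coeff_eq_zero_of_lt_order hb
  rw [coeff_mul_eq_sum_Icc f g a0 b0 (m + n) hf hg]
  -- each summand on the right
  have hterm : ∀ p ∈ antidiagonal n,
      (hasseDeriv F p.1 f * hasseDeriv F p.2 g).coeff m =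
      ∑ a ∈ Finset.Icc a0 (m + n - b0),
        ((Ring.choose a p.1 : ℤ) : F) * ((Ring.choose (m + n - a) p.2 : ℤ) : F)
          * (f.coeff a * g.coeff (m + n - a)) := by
    intro p hp
    have hpn : p.1 + p.2 = n := mem_antidiagonal.mp hp
    have hf' : ∀ a < a0 - p.1, (hasseDeriv F p.1 f).coeff a = 0 := by
      intro a ha
      rw [hasseDeriv_coeff, hf _ (by omega), smul_zero]
    have hg' : ∀ b < b0 - p.2, (hasseDeriv F p.2 g).coeff b = 0 := by
      intro b hb
      rw [hasseDeriv_coeff, hg _ (by omega), smul_zero]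
    rw [coeff_mul_eq_sum_Icc _ _ (a0 - p.1) (b0 - p.2) m hf' hg']
    refine Finset.sum_nbij' (fun a' => a' + p.1) (fun a => a - p.1) ?_ ?_ ?_ ?_ ?_
    · intro a' ha'
      rw [Finset.mem_Icc] at ha' ⊢
      omega
    · intro a ha
      rw [Finset.mem_Icc] at ha ⊢
      omega
    · intro a' _; omega
    · intro a _; omega
    · intro a' _
      rw [hasseDeriv_coeff, hasseDeriv_coeff, zsmul_eq_mul, zsmul_eq_mul]
      have e1 : m - a' + (p.2 : ℤ) = m + n - (a' + p.1) := by
        have : (n : ℤ) = p.1 + p.2 := by exact_mod_cast hpn.symm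
        omega
      rw [e1]
      ring
  rw [Finset.sum_congr rfl hterm, Finset.sum_comm, Finset.smul_sum]
  refine Finset.sum_congr rfl fun a _ => ?_
  rw [← Finset.sum_mul, zsmul_eq_mul]
  congr 1
  have hv := Ring.add_choose_eq (R := ℤ) (r := a) (s := m + n - a) n (Commute.all _ _)
  have e2 : a + (m + n - a) = m + n := by ring
  rw [e2] at hv
  rw [hv]
  push_cast
  rfl

end Groth.Agent.Lib.FFTaylor58
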