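import Mathlib
import Groth.Agent.Lib.FFTaylor58a

/-!
# The Taylor homomorphism of Laurent series and a Hensel-type uniqueness lemma (helper58)
-/

namespace Groth.Agent.Lib.FFTaylor58

open HahnSeries LaurentSeries Finset

section taylor

variable (F : Type*) [CommRing F]

theorem hasseDeriv_single_zero_of_pos {n : ℕ} (hn : 0 < n) (a : F) :
    hasseDeriv F n (single (0 : ℤ) a) = 0 := by
  rw [hasseDeriv_single, Ring.choose_zero_pos ℤ hn, zero_smul, single_eq_zero]

/-- The Taylor homomorphism `f ↦ ∑ₙ hasseDeriv n f · Tⁿ`. -/
noncomputable def taylor : LaurentSeries F →+* PowerSeries (LaurentSeries F) where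
  toFun f := PowerSeries.mk fun n => hasseDeriv F n f
  map_one' := by
    refine PowerSeries.ext fun n => ?_
    rw [PowerSeries.coeff_mk, PowerSeries.coeff_one]
    by_cases hn : n = 0
    · subst hn; simp
    · rw [if_neg hn]
      exact hasseDeriv_single_zero_of_pos F (Nat.pos_of_ne_zero hn) 1
  map_mul' f g := by
    refine PowerSeries.ext fun n => ?_
    rw [PowerSeries.coeff_mk, PowerSeries.coeff_mul, hasseDeriv_mul]
    simp only [PowerSeries.coeff_mk]
  map_zero' := by
    ext n; simp
  map_add' f g := by
    ext n; simp

@[simp] theorem coeff_taylor (n : ℕ) (f : LaurentSeries F) :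
    PowerSeries.coeff n (taylor F f) = hasseDeriv F n f := by
  simp [taylor]

theorem taylor_C (a : F) : taylor F (HahnSeries.C a) = PowerSeries.C (HahnSeries.C a) := by
  refine PowerSeries.ext fun n => ?_
  rw [coeff_taylor, PowerSeries.coeff_C]
  by_cases hn : n = 0
  · subst hn; simp
  · rw [if_neg hn]
    exact hasseDeriv_single_zero_of_pos F (Nat.pos_of_ne_zero hn) a

theorem taylor_X : taylor F (single (1 : ℤ) (1 : F)) =
    PowerSeries.C (single (1 : ℤ) (1 : F)) + PowerSeries.X := by
  refine PowerSeries.ext fun n => ?_
  rw [coeff_taylor, map_add, PowerSeries.coeff_C, PowerSeries.coeff_X, hasseDeriv_single]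
  rcases n with _ | _ | n
  · simp
  · have : Ring.choose (1 : ℤ) 1 = 1 := Ring.choose_one_right 1
    simp [this]
  · have h1 : Ring.choose (1 : ℤ) (n + 1 + 1) = 0 := by
      have := Ring.choose_natCast (R := ℤ) 1 (n + 1 + 1)
      rw [Nat.cast_one] at this
      rw [this, Nat.choose_eq_zero_of_lt (by omega)]
      rfl
    simp [h1]

end taylor

section uniqueness

open Polynomial

/-- Two ring homomorphisms from a separable algebraic extension into a power series ring over
a field which agree on the base field and modulo `T` are equal. -/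
theorem ringHom_ext_of_isSeparable {E K L : Type*} [Field E] [Field K] [Algebra E K]
    [Algebra.IsSeparable E K] [Field L] (α β : K →+* PowerSeries L)
    (h0 : ∀ x, PowerSeries.constantCoeff (α x) = PowerSeries.constantCoeff (β x))
    (hE : ∀ c : E, α (algebraMap E K c) = β (algebraMap E K c)) : α = β := by
  ext1 y
  set m := minpoly E y with hm
  have hsep : IsSeparable E y := Algebra.IsSeparable.isSeparable E y
  set γ : E →+* PowerSeries L := α.comp (algebraMap E K) with hγ
  have hγ' : γ = β.comp (algebraMap E K) := RingHom.ext hE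
  set P : Polynomial (PowerSeries L) := m.map γ with hP
  have hPa : P.eval (α y) = 0 := by
    rw [hP, eval_map, hγ, ← hom_eval₂]
    have : eval₂ (algebraMap E K) y m = 0 := minpoly.aeval E y
    rw [this, map_zero]
  have hPb : P.eval (β y) = 0 := by
    rw [hP, eval_map, hγ', ← hom_eval₂]
    have : eval₂ (algebraMap E K) y m = 0 := minpoly.aeval E y
    rw [this, map_zero]
  have hPd : P.derivative.eval (α y) = α (aeval y (derivative m)) := by
    rw [hP, derivative_map, eval_map, hγ, ← hom_eval₂]
    rfl
  obtain ⟨c, hc⟩ := binomExpansion P (α y) (β y - α y)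
  rw [add_sub_cancel, hPa, hPb, zero_add] at hc
  have hfac : (β y - α y) * (P.derivative.eval (α y) + c * (β y - α y)) = 0 := by
    rw [hc]; ring
  rcases mul_eq_zero.mp hfac with h | h
  · exact (sub_eq_zero.mp h).symm
  · exfalso
    have h1 := congrArg PowerSeries.constantCoeff h
    rw [map_add, map_mul, map_sub, h0 y, sub_self, mul_zero, add_zero, map_zero, hPd] at h1
    have hne : aeval y (derivative m) ≠ 0 := hsep.aeval_derivative_ne_zero (minpoly.aeval E y)
    have hinj : Function.Injective ((PowerSeries.constantCoeff (R := L)).comp α) :=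
      RingHom.injective _
    apply hne
    apply hinj
    rw [RingHom.comp_apply, h1, map_zero]

end uniqueness

end Groth.Agent.Lib.FFTaylor58
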