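import Groth.Prelude.Def_W4bk4goldsch23FF
import Groth.Prelude.Def_LocRes
import Groth.Agent.Lib.FFSep58c
import Groth.Agent.Lib.FFTaylor58b

/-!
# Hasse derivatives read through a Laurent expansion (helper58)

For a geometric function field `K/k`, an expansion `φ : K → F((X))` with `φ t = X` and the total
Hasse derivative `H` with respect to `t`: `φ (D_t^{(n)} x) = hasseDeriv n (φ x)`.
-/

set_option autoImplicit false

namespace Groth.Agent.Lib.FFHasse58

open IntermediateField Polynomial FunFld Groth.Agent.Lib.FFSep58 Groth.Agent.Lib.FFTaylor58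

universe u v w

variable {k : Type u} {K : Type v} [Field k] [Field K] [Algebra k K]

/-- Two ring homomorphisms into a domain agreeing on `k` and at `t` agree on `k(t)`. -/
theorem ringHom_eqOn_adjoin_simple {B : Type*} [CommRing B] [IsDomain B] (α β : K →+* B)
    (hk : ∀ a : k, α (algebraMap k K a) = β (algebraMap k K a)) (t : K) (ht : α t = β t)
    (c : K) (hc : c ∈ k⟮t⟯) : α c = β c := by
  have hpoly : ∀ p : k[X], α (aeval t p) = β (aeval t p) := by
    intro p
    have h1 : ∀ γ : K →+* B, γ (aeval t p) = p.eval₂ (γ.comp (algebraMap k K)) (γ t) := by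
      intro γ
      rw [aeval_def, hom_eval₂]
    rw [h1 α, h1 β, ht]
    congr 1
    exact RingHom.ext hk
  obtain ⟨p, q, rfl⟩ := (mem_adjoin_simple_iff k c).mp hc
  by_cases hq : aeval t q = 0
  · rw [hq, div_zero, map_zero, map_zero]
  · have hαq : α (aeval t q) ≠ 0 := by
      rw [Ne, map_eq_zero_iff α α.injective]; exact hq
    have e1 : α (aeval t p / aeval t q) * α (aeval t q) = α (aeval t p) := by
      rw [← map_mul, div_mul_cancel₀ _ hq]
    have e2 : β (aeval t p / aeval t q) * β (aeval t q) = β (aeval t p) := by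
      rw [← map_mul, div_mul_cancel₀ _ hq]
    rw [← hpoly q, ← hpoly p, ← e1] at e2
    exact (mul_right_cancel₀ hαq e2).symm

theorem expansion_hasseD (hK : FunFld.IsFunctionField k K) (hg : FunFld.IsGeometric k K)
    {F : Type w} [Field F] [Algebra k F] (φ : K →ₐ[k] LaurentSeries F)
    (t : K) (ht : φ t = HahnSeries.single 1 1)
    (H : K →ₐ[k] PowerSeries K) (hH : LocRes.IsHasseFamily t H) (x : K) (n : ℕ) :
    φ (LocRes.hasseD H n x) = LaurentSeries.hasseDeriv F n (φ x) := by
  obtain ⟨hfin, hsep⟩ := isSeparable_adjoin_of_expansion hK hg φ t ht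
  let α : K →+* PowerSeries (LaurentSeries F) :=
    (PowerSeries.map (φ : K →+* LaurentSeries F)).comp (H : K →+* PowerSeries K)
  let β : K →+* PowerSeries (LaurentSeries F) := (taylor F).comp (φ : K →+* LaurentSeries F)
  have hα : ∀ y, α y = PowerSeries.map (φ : K →+* LaurentSeries F) (H y) := fun y => rfl
  have hβ : ∀ y, β y = taylor F (φ y) := fun y => rfl
  have h0 : ∀ y, PowerSeries.constantCoeff (α y) = PowerSeries.constantCoeff (β y) := by
    intro y
    rw [hα, hβ, ← PowerSeries.coeff_zero_eq_constantCoeff_apply,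
      ← PowerSeries.coeff_zero_eq_constantCoeff_apply, PowerSeries.coeff_map, coeff_taylor,
      PowerSeries.coeff_zero_eq_constantCoeff_apply, hH.2 y]
    simp
  have hk : ∀ a : k, α (algebraMap k K a) = β (algebraMap k K a) := by
    intro a
    rw [hα, hβ, H.commutes, LocRes.map_algebraMap, taylor_C]
    rw [PowerSeries.algebraMap_apply, PowerSeries.map_C]
    congr 1
    exact LocRes.map_algebraMap φ a
  have htt : α t = β t := by
    rw [hα, hβ, hH.1, ht, taylor_X, map_add, PowerSeries.map_C, PowerSeries.map_X]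
    congr 2
  have hE : ∀ c : k⟮t⟯, α (algebraMap k⟮t⟯ K c) = β (algebraMap k⟮t⟯ K c) :=
    fun c => ringHom_eqOn_adjoin_simple α β hk t htt c c.2
  have key : α = β := ringHom_ext_of_isSeparable (E := k⟮t⟯) α β h0 hE
  have h1 := congrArg (PowerSeries.coeff n) (RingHom.congr_fun key x)
  rw [hα, hβ, PowerSeries.coeff_map, coeff_taylor] at h1
  exact h1

end Groth.Agent.Lib.FFHasse58
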