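import Groth.Agent.Lib.H40FunFld
import Mathlib.LinearAlgebra.Dimension.Free

/-!
# Function fields of one variable (`FunFld`): residue fields of places are finite over `k`.
-/

set_option autoImplicit false
open FunFld Polynomial

namespace Groth.Agent.Lib.H40FunFld

universe u v
variable {k : Type u} {K : Type v} [Field k] [Field K] [Algebra k K]

theorem mem_O_iff (P : FunFld.Place k K) (a : K) : a ∈ P.O ↔ P.1 a ≤ 1 := Iff.rfl

theorem residue_eq_zero_iff (P : FunFld.Place k K) (a : P.O) :
    IsLocalRing.residue P.O a = 0 ↔ P.1 (a : K) < 1 := by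
  rw [IsLocalRing.residue_eq_zero_iff, ValuationSubring.valuation_lt_one_iff]
  exact (Valuation.isEquiv_valuation_valuationSubring P.1).symm.lt_one_iff_lt_one

theorem algebraMap_residue (P : FunFld.Place k K) (c : k) :
    algebraMap k (IsLocalRing.ResidueField P.O) c =
      IsLocalRing.residue P.O ⟨algebraMap k K c, P.2.1 c⟩ := rfl

/-- A uniformizer (or any element with `0 < v < 1`) is transcendental over `k`. -/
theorem transcendental_of_val_lt_one (hK : FunFld.IsFunctionField k K) (P : FunFld.Place k K)
    {t : K} (ht0 : t ≠ 0) (ht : P.1 t < 1) : Transcendental k t := by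
  intro halg
  obtain ⟨c, rfl⟩ := hK.2 t halg
  have hc : c ≠ 0 := fun h => ht0 (by rw [h, map_zero])
  rw [val_algebraMap P hc] at ht
  exact lt_irrefl _ ht

open IntermediateField IntermediateField.algebraAdjoinAdjoin in
/-- Elements of `O_P` with `k`-linearly independent residues are linearly independent over `k[t]`
for `t` with `0 < v_P t < 1`. -/
theorem linearIndependent_of_residue {ι : Type*} [Fintype ι] (P : FunFld.Place k K) {t : K}
    (ht0 : t ≠ 0) (ht : P.1 t < 1) (z : ι → P.O)
    (hz : LinearIndependent k (fun i => IsLocalRing.residue P.O (z i))) :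
    LinearIndependent (Algebra.adjoin k {t}) (fun i => (z i : K)) := by
  classical
  rw [Fintype.linearIndependent_iff]
  intro g hg
  have hrep : ∀ a : Algebra.adjoin k {t}, ∃ p : k[X], aeval t p = (a : K) := by
    intro a
    have h1 : (a : K) ∈ (aeval t : k[X] →ₐ[k] K).range := by
      rw [← Algebra.adjoin_singleton_eq_range_aeval]; exact a.2
    exact h1
  choose p hp using hrep
  by_contra hne
  push Not at hne
  obtain ⟨i₀, hi₀⟩ := hne
  have hpi₀ : p (g i₀) ≠ 0 := by
    intro h0
    apply hi₀
    apply Subtype.ext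
    rw [← hp, h0, map_zero]; rfl
  let T : Finset ι := Finset.univ.filter (fun i => p (g i) ≠ 0)
  have hT : T.Nonempty := ⟨i₀, by simp [T, hpi₀]⟩
  obtain ⟨j, hjT, hmin⟩ := Finset.exists_min_image T (fun i => (p (g i)).rootMultiplicity 0) hT
  have hpj : p (g j) ≠ 0 := (Finset.mem_filter.1 hjT).2
  set m := (p (g j)).rootMultiplicity 0 with hm
  -- factor out `X ^ m`
  have hdvd : ∀ i, ∃ r : k[X], p (g i) = X ^ m * r := by
    intro i
    by_cases hpi : p (g i) = 0
    · exact ⟨0, by rw [hpi, mul_zero]⟩
    · have hle : m ≤ (p (g i)).rootMultiplicity 0 := hmin i (by simp [T, hpi])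
      have h1 : (X - C (0 : k)) ^ m ∣ p (g i) := (Polynomial.le_rootMultiplicity_iff hpi).1 hle
      rw [C_0, sub_zero] at h1
      exact h1
  choose r hr using hdvd
  have hrj : (r j).coeff 0 ≠ 0 := by
    intro h0
    have h1 : X ∣ r j := Polynomial.X_dvd_iff.2 h0
    obtain ⟨q, hq⟩ := h1
    have h2 : (X - C (0 : k)) ^ (m + 1) ∣ p (g j) := by
      rw [C_0, sub_zero, hr j, hq, pow_succ, ← mul_assoc]
      exact dvd_mul_right _ _
    have h3 := (Polynomial.le_rootMultiplicity_iff hpj).2 h2
    omega
  -- the relation after dividing by `t ^ m`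
  have hsum : ∑ i, aeval t (p (g i)) * (z i : K) = 0 := by
    rw [← hg]
    refine Finset.sum_congr rfl fun i _ => ?_
    rw [hp]
    rfl
  have hsum2 : ∑ i, aeval t (r i) * (z i : K) = 0 := by
    have h1 : t ^ m * ∑ i, aeval t (r i) * (z i : K) = 0 := by
      rw [← hsum, Finset.mul_sum]
      refine Finset.sum_congr rfl fun i _ => ?_
      rw [hr i, map_mul, map_pow, aeval_X, mul_assoc]
    exact (mul_eq_zero.1 h1).resolve_left (pow_ne_zero _ ht0)
  have hsplit : ∀ i, aeval t (r i) = aeval t (r i).divX * t + algebraMap k K ((r i).coeff 0) := by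
    intro i
    conv_lhs => rw [← Polynomial.divX_mul_X_add (r i)]
    simp
  have hlin : ∑ i, algebraMap k K ((r i).coeff 0) * (z i : K) =
      -(t * ∑ i, aeval t (r i).divX * (z i : K)) := by
    rw [eq_neg_iff_add_eq_zero, ← hsum2, Finset.mul_sum, ← Finset.sum_add_distrib]
    refine Finset.sum_congr rfl fun i _ => ?_
    rw [hsplit i]; ring
  have hval : P.1 (∑ i, algebraMap k K ((r i).coeff 0) * (z i : K)) < 1 := by
    rw [hlin, Valuation.map_neg, map_mul]
    have h1 : P.1 (∑ i, aeval t (r i).divX * (z i : K)) ≤ 1 := by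
      apply Valuation.map_sum_le
      intro i _
      rw [map_mul]
      exact mul_le_one' (val_aeval_le_one P ht.le _) (z i).2
    calc P.1 t * P.1 (∑ i, aeval t (r i).divX * (z i : K)) ≤ P.1 t * 1 := by gcongr
      _ = P.1 t := mul_one _
      _ < 1 := ht
  -- pass to the residue field
  have hres : ∑ i, (r i).coeff 0 • IsLocalRing.residue P.O (z i) = 0 := by
    have h1 : IsLocalRing.residue P.O
        (∑ i, (⟨algebraMap k K ((r i).coeff 0), P.2.1 _⟩ : P.O) * z i) = 0 := by
      rw [residue_eq_zero_iff]
      convert hval using 2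
      simp
    rw [map_sum] at h1
    rw [← h1]
    refine Finset.sum_congr rfl fun i _ => ?_
    rw [map_mul, Algebra.smul_def, algebraMap_residue]
  have := (Fintype.linearIndependent_iff.1 hz) (fun i => (r i).coeff 0) hres j
  exact hrj this

open IntermediateField IntermediateField.algebraAdjoinAdjoin in
/-- `deg P ≤ [K : k(t)]` for `t` with `0 < v_P t < 1`: bound on independent families. -/
theorem card_le_finrank_of_residue {ι : Type*} [Fintype ι] (P : FunFld.Place k K) {t : K}
    (ht0 : t ≠ 0) (ht : P.1 t < 1) [FiniteDimensional k⟮t⟯ K]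
    (w : ι → IsLocalRing.ResidueField P.O) (hw : LinearIndependent k w) :
    Fintype.card ι ≤ Module.finrank k⟮t⟯ K := by
  have hsurj := IsLocalRing.residue_surjective (R := P.O)
  choose z hz using fun i => hsurj (w i)
  have hw' : LinearIndependent k (fun i => IsLocalRing.residue P.O (z i)) := by
    simpa [hz] using hw
  have hli := linearIndependent_of_residue P ht0 ht z hw'
  have hli' : LinearIndependent k⟮t⟯ (fun i => (z i : K)) :=
    (LinearIndependent.iff_fractionRing (Algebra.adjoin k {t}) k⟮t⟯).1 hli
  exact hli'.fintype_card_le_finrank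

open IntermediateField in
/-- The residue field of a place of a function field of one variable is finite over `k`, of degree
at most `[K : k(t)]` for any `t` with `0 < v_P t < 1`. -/
theorem rank_residueField_le (P : FunFld.Place k K) {t : K}
    (ht0 : t ≠ 0) (ht : P.1 t < 1) [FiniteDimensional k⟮t⟯ K] :
    Module.rank k (IsLocalRing.ResidueField P.O) ≤ (Module.finrank k⟮t⟯ K : ℕ) := by
  apply rank_le
  intro s hs
  simpa using card_le_finrank_of_residue P ht0 ht _ hs

theorem finiteDimensional_residueField (hK : FunFld.IsFunctionField k K) (P : FunFld.Place k K) :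
    FiniteDimensional k (IsLocalRing.ResidueField P.O) := by
  obtain ⟨t, ht⟩ := exists_uniformizer P
  have ht0 : t ≠ 0 := by
    intro h0; rw [h0, map_zero] at ht; exact WithZero.exp_ne_zero ht.symm
  have ht1 : P.1 t < 1 := by
    rw [ht, ← WithZero.exp_zero, WithZero.exp_lt_exp]; omega
  have := finiteDimensional_adjoin_of_transcendental hK (transcendental_of_val_lt_one hK P ht0 ht1)
  exact Module.rank_lt_aleph0_iff.1
    (lt_of_le_of_lt (rank_residueField_le P ht0 ht1) Cardinal.natCast_lt_aleph0)

open IntermediateField in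
theorem deg_le_finrank (P : FunFld.Place k K) {t : K}
    (ht0 : t ≠ 0) (ht : P.1 t < 1) [FiniteDimensional k⟮t⟯ K] :
    P.deg ≤ Module.finrank k⟮t⟯ K := by
  have h := rank_residueField_le P ht0 ht
  have hfin : Module.rank k (IsLocalRing.ResidueField P.O) < Cardinal.aleph0 :=
    lt_of_le_of_lt h Cardinal.natCast_lt_aleph0
  rw [FunFld.Place.deg]
  exact Module.finrank_le_of_rank_le h

end Groth.Agent.Lib.H40FunFld
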