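import Groth.Prelude.Def_W4bk4goldsch45p2
import Groth.Agent.Lib.FFExp58c
import Groth.Agent.Lib.FFHasse58
import Groth.Agent.Lib.H40FunFldRes
import Mathlib.FieldTheory.IsAlgClosed.Basic

/-!
# Values of Hasse derivatives at a place through a Laurent expansion (helper58)

Over an algebraically closed constant field every place has residue field `k`, so the expansion
`ψ : K → k((X))` at a uniformizer `t` exists (`FFExp58c.exists_expansion`).  Through it, the value at
`P` of the `j`-th Hasse derivative (with respect to `t`) of an integral `y` is the `j`-th coefficient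
of `ψ y`.
-/

set_option autoImplicit false

namespace Groth.Agent.Lib.FFExp58

open FunFld Groth.Agent.Lib.H40FunFld LaurentSeries

universe u v

variable {k : Type u} {K : Type v} [Field k] [Field K] [Algebra k K]

/-- Over an algebraically closed field every place is rational: residues are represented by
constants. -/
theorem hres_of_isAlgClosed [IsAlgClosed k] (hK : FunFld.IsFunctionField k K)
    (P : FunFld.Place k K) :
    ∀ z : K, P.1 z ≤ 1 → ∃ c : k, P.1 (z - algebraMap k K c) < 1 := by
  have hfin := finiteDimensional_residueField hK P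
  have hfin' : @Module.Finite k (IsLocalRing.ResidueField P.O) _ _
      (@Algebra.toModule k (IsLocalRing.ResidueField P.O) _ _ (Place.algRes P)) := hfin
  have hint : Algebra.IsIntegral k (IsLocalRing.ResidueField P.O) := Algebra.IsIntegral.of_finite _ _
  have h1 : Function.Bijective (algebraMap k (IsLocalRing.ResidueField P.O)) :=
    IsAlgClosed.algebraMap_bijective_of_isIntegral
  intro z hz
  obtain ⟨c, hc⟩ := h1.2 (IsLocalRing.residue P.O ⟨z, hz⟩)
  refine ⟨c, ?_⟩
  rw [algebraMap_residue] at hc
  have h2 : IsLocalRing.residue P.O (⟨z, hz⟩ - ⟨algebraMap k K c, P.2.1 c⟩) = 0 := by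
    rw [map_sub, hc, sub_self]
  exact (residue_eq_zero_iff P _).mp h2

open scoped TensorProduct in
/-- Over an algebraically closed constant field every extension is geometric. -/
theorem isGeometric_of_isAlgClosed' [IsAlgClosed k] : FunFld.IsGeometric k K := by
  intro k' _ _ hfd
  have hbij : Function.Bijective (algebraMap k k') :=
    IsAlgClosed.algebraMap_bijective_of_isIntegral
  let e : k ≃ₐ[k] k' := AlgEquiv.ofBijective (Algebra.ofId k k') hbij
  let e2 : k' ⊗[k] K ≃ₐ[k] K :=
    (Algebra.TensorProduct.congr e.symm AlgEquiv.refl).trans (Algebra.TensorProduct.lid k K)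
  exact MulEquiv.isField (Field.toIsField K) e2.toMulEquiv

/-- `evalP` on an integral element is its residue. -/
theorem evalP_of_le (P : FunFld.Place k K) {z : K} (hz : P.1 z ≤ 1) :
    FunFld.evalP P z = IsLocalRing.residue P.O ⟨z, hz⟩ := by
  unfold FunFld.evalP
  rw [dif_pos hz]

/-- `evalP` of an element congruent to a constant. -/
theorem evalP_eq_algebraMap (P : FunFld.Place k K) {z : K} (hz : P.1 z ≤ 1) (c : k)
    (hc : P.1 (z - algebraMap k K c) < 1) :
    FunFld.evalP P z = algebraMap k (IsLocalRing.ResidueField P.O) c := by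
  rw [evalP_of_le P hz, algebraMap_residue, ← sub_eq_zero, ← map_sub]
  exact (residue_eq_zero_iff P _).mpr hc

/-- A Laurent series of valuation `≤ 1` has no negative coefficients. -/
theorem coeff_neg_of_valued_le_one {f : LaurentSeries k} (hf : Valued.v f ≤ 1) (n : ℤ)
    (hn : n < 0) : f.coeff n = 0 := by
  have h := (valuation_le_iff_coeff_lt_eq_zero (K := k) (D := 0) (f := f)).mp (by simpa using hf)
  exact h n hn

theorem valued_le_one_of_coeff_neg {f : LaurentSeries k} (hf : ∀ n : ℤ, n < 0 → f.coeff n = 0) :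
    Valued.v f ≤ 1 := by
  have h := (valuation_le_iff_coeff_lt_eq_zero (K := k) (D := 0) (f := f)).mpr hf
  simpa using h

/-- Hasse derivatives preserve integrality of Laurent series. -/
theorem hasseDeriv_coeff_neg {f : LaurentSeries k} (hf : ∀ n : ℤ, n < 0 → f.coeff n = 0) (j : ℕ)
    (n : ℤ) (hn : n < 0) : (LaurentSeries.hasseDeriv k j f).coeff n = 0 := by
  rw [LaurentSeries.hasseDeriv_coeff]
  rcases lt_or_ge (n + j) 0 with h | h
  · rw [hf _ h, smul_zero]
  · obtain ⟨m, hm⟩ := Int.eq_ofNat_of_zero_le h
    rw [hm, Ring.choose_natCast, Nat.choose_eq_zero_of_lt (by omega)]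
    simp

theorem hasseDeriv_coeff_zero (f : LaurentSeries k) (j : ℕ) :
    (LaurentSeries.hasseDeriv k j f).coeff 0 = f.coeff j := by
  rw [LaurentSeries.hasseDeriv_coeff, zero_add, Ring.choose_natCast, Nat.choose_self]
  simp

section

variable {P : FunFld.Place k K} {t : K}

/-- Through an expansion `ψ` at `P` with `ψ t = X`, Hasse derivatives w.r.t. `t` of integral
elements are integral and their values at `P` are the coefficients of the expansion. -/
theorem evalP_hasseD (hK : FunFld.IsFunctionField k K) (hg : FunFld.IsGeometric k K)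
    (ψ : K →ₐ[k] LaurentSeries k) (hv : ∀ f : K, Valued.v (ψ f) = P.1 f)
    (hψt : ψ t = HahnSeries.single 1 1)
    (hψr : ∀ z, P.1 z ≤ 1 → P.1 (z - algebraMap k K ((ψ z).coeff 0)) < 1)
    (Ht : K →ₐ[k] PowerSeries K) (hHt : LocRes.IsHasseFamily t Ht)
    {y : K} (hy : P.1 y ≤ 1) (j : ℕ) :
    P.1 (LocRes.hasseD Ht j y) ≤ 1 ∧
      FunFld.evalP P (LocRes.hasseD Ht j y) =
        algebraMap k (IsLocalRing.ResidueField P.O) ((ψ y).coeff j) := by
  have hexp := Groth.Agent.Lib.FFHasse58.expansion_hasseD hK hg ψ t hψt Ht hHt y j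
  have hneg : ∀ n : ℤ, n < 0 → (ψ y).coeff n = 0 :=
    coeff_neg_of_valued_le_one (by rw [hv]; exact hy)
  have h1 : P.1 (LocRes.hasseD Ht j y) ≤ 1 := by
    rw [← hv, hexp]
    exact valued_le_one_of_coeff_neg (hasseDeriv_coeff_neg hneg j)
  refine ⟨h1, ?_⟩
  have h2 := hψr _ h1
  rw [hexp, hasseDeriv_coeff_zero] at h2
  exact evalP_eq_algebraMap P h1 _ h2

end

end Groth.Agent.Lib.FFExp58

namespace Groth.Agent.Lib.FFExp58

open FunFld Groth.Agent.Lib.H40FunFld LaurentSeries

universe u v

variable {k : Type u} {K : Type v} [Field k] [Field K] [Algebra k K]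

/-- Over an algebraically closed field the residue field of a place is `k`. -/
theorem algebraMap_residueField_bijective [IsAlgClosed k] (hK : FunFld.IsFunctionField k K)
    (P : FunFld.Place k K) :
    Function.Bijective (algebraMap k (IsLocalRing.ResidueField P.O)) := by
  have hfin := finiteDimensional_residueField hK P
  have hfin' : @Module.Finite k (IsLocalRing.ResidueField P.O) _ _
      (@Algebra.toModule k (IsLocalRing.ResidueField P.O) _ _ (Place.algRes P)) := hfin
  have hint : Algebra.IsIntegral k (IsLocalRing.ResidueField P.O) := Algebra.IsIntegral.of_finite _ _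
  exact IsAlgClosed.algebraMap_bijective_of_isIntegral

/-- The rows `(D_t^(j) φ_i (P))_j` of a linearly independent integral tuple are linearly independent
over the residue field (algebraically closed constant field). -/
theorem linearIndependent_evalP_hasseD [IsAlgClosed k]
    (hK : FunFld.IsFunctionField k K) {ι : Type*} [Fintype ι] (φ : ι → K)
    (hφ : LinearIndependent k φ)
    (P : FunFld.Place k K) (hint : ∀ i, P.1 (φ i) ≤ 1) (t : K) (ht : P.1 t = WithZero.exp (-1))
    (Ht : K →ₐ[k] PowerSeries K) (hHt : LocRes.IsHasseFamily t Ht) :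
    LinearIndependent (IsLocalRing.ResidueField P.O)
      (fun i : ι => fun j : ℕ => FunFld.evalP P (LocRes.hasseD Ht j (φ i))) := by
  classical
  have hres := hres_of_isAlgClosed hK P
  have hg : FunFld.IsGeometric k K := isGeometric_of_isAlgClosed'
  obtain ⟨ψ, ⟨hv, -, -⟩, hψt, hψr⟩ := exists_expansion ht hres
  have hbij := algebraMap_residueField_bijective hK P
  rw [Fintype.linearIndependent_iff]
  intro g hg0 i₀
  choose a ha using fun i => hbij.2 (g i)
  have hy : P.1 (∑ i, a i • φ i) ≤ 1 := by
    have : (∑ i, a i • φ i) ∈ P.O := by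
      apply Subring.sum_mem
      intro i _
      rw [Algebra.smul_def]
      exact Subring.mul_mem _ (P.2.1 (a i)) (hint i)
    exact this
  have hcoeff : ∀ j : ℕ, (ψ (∑ i, a i • φ i)).coeff j = 0 := by
    intro j
    apply hbij.1
    rw [map_zero]
    have h1 := congrFun hg0 j
    simp only [Finset.sum_apply, Pi.smul_apply, Pi.zero_apply] at h1
    rw [← h1, map_sum, HahnSeries.coeff_sum, map_sum]
    apply Finset.sum_congr rfl
    intro i _
    rw [Algebra.smul_def, map_mul, ψ.commutes, LocRes.algebraMap_eq_C, HahnSeries.C_mul_eq_smul,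
      HahnSeries.coeff_smul, smul_eq_mul, map_mul, ha i,
      (evalP_hasseD hK hg ψ hv hψt hψr Ht hHt (hint i) j).2, smul_eq_mul]
  have hneg : ∀ n : ℤ, n < 0 → (ψ (∑ i, a i • φ i)).coeff n = 0 :=
    coeff_neg_of_valued_le_one (by rw [hv]; exact hy)
  have hψ0 : ψ (∑ i, a i • φ i) = 0 := by
    ext n
    rcases lt_or_ge n 0 with h | h
    · rw [hneg n h]; rfl
    · obtain ⟨m, rfl⟩ := Int.eq_ofNat_of_zero_le h
      rw [hcoeff m]; rfl
  have hy0 : ∑ i, a i • φ i = 0 := by
    have := hv (∑ i, a i • φ i)
    rw [hψ0, map_zero] at this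
    exact (map_eq_zero P.1).mp this.symm
  have := Fintype.linearIndependent_iff.mp hφ a hy0 i₀
  rw [← ha i₀, this, map_zero]

end Groth.Agent.Lib.FFExp58
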