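import Groth.Agent.Lib.FFExp58d

/-!
# Orders at a place through the Laurent expansion (helper58)

`ExpData P t Ht` packages an expansion `ψ : K → k((X))` at the place `P` (uniformizer `t`, residue
field `k`) together with the computation of values of Hasse derivatives w.r.t. `t`.
Main results: `ExpData.val_eq_exp_iff` (valuation in terms of coefficients) and
`ExpData.isJump_hcolAt_iff` (the orders at `P` of a normalized tuple are the positive orders at `P` of
the functions in its span).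
-/

set_option autoImplicit false

namespace Groth.Agent.Lib.FFExp58

open FunFld Groth.Agent.Lib.H40FunFld LaurentSeries

universe u v

variable {k : Type u} {K : Type v} [Field k] [Field K] [Algebra k K]

theorem eq_exp_iff_le_and_not_le {x : WithZero (Multiplicative ℤ)} (n : ℤ) :
    x = WithZero.exp n ↔ x ≤ WithZero.exp n ∧ ¬ x ≤ WithZero.exp (n - 1) := by
  constructor
  · rintro rfl
    refine ⟨le_rfl, ?_⟩
    rw [WithZero.exp_le_exp]
    omega
  · rintro ⟨h1, h2⟩
    refine le_antisymm h1 ?_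
    have h3 := (lt_exp_add_one_iff' (x := x) (n - 1)).not.mpr h2
    rw [sub_add_cancel] at h3
    exact not_lt.mp h3

/-- Expansion data at a place `P` with uniformizer `t` and total Hasse derivative `Ht` w.r.t. `t`. -/
structure ExpData (P : FunFld.Place k K) (t : K) (Ht : K →ₐ[k] PowerSeries K) where
  /-- the expansion -/
  ψ : K →ₐ[k] LaurentSeries k
  hv : ∀ f : K, Valued.v (ψ f) = P.1 f
  hψt : ψ t = HahnSeries.single 1 1
  hψr : ∀ z, P.1 z ≤ 1 → P.1 (z - algebraMap k K ((ψ z).coeff 0)) < 1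
  hbij : Function.Bijective (algebraMap k (IsLocalRing.ResidueField P.O))
  hexp : ∀ (y : K) (j : ℕ), ψ (LocRes.hasseD Ht j y) = LaurentSeries.hasseDeriv k j (ψ y)
  heval : ∀ y : K, P.1 y ≤ 1 → ∀ j : ℕ, P.1 (LocRes.hasseD Ht j y) ≤ 1 ∧
    FunFld.evalP P (LocRes.hasseD Ht j y) =
      algebraMap k (IsLocalRing.ResidueField P.O) ((ψ y).coeff j)

theorem exists_expData [IsAlgClosed k] (hK : FunFld.IsFunctionField k K) (P : FunFld.Place k K)
    (t : K) (ht : P.1 t = WithZero.exp (-1)) (Ht : K →ₐ[k] PowerSeries K)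
    (hHt : LocRes.IsHasseFamily t Ht) : Nonempty (ExpData P t Ht) := by
  have hres := hres_of_isAlgClosed hK P
  have hg : FunFld.IsGeometric k K := isGeometric_of_isAlgClosed'
  obtain ⟨ψ, ⟨hv, -, -⟩, hψt, hψr⟩ := exists_expansion ht hres
  exact ⟨⟨ψ, hv, hψt, hψr, algebraMap_residueField_bijective hK P,
    fun y j => Groth.Agent.Lib.FFHasse58.expansion_hasseD hK hg ψ t hψt Ht hHt y j,
    fun y hy j => evalP_hasseD hK hg ψ hv hψt hψr Ht hHt hy j⟩⟩

namespace ExpData

variable {P : FunFld.Place k K} {t : K} {Ht : K →ₐ[k] PowerSeries K} (E : ExpData P t Ht)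
include E

theorem coeff_neg {y : K} (hy : P.1 y ≤ 1) (n : ℤ) (hn : n < 0) : (E.ψ y).coeff n = 0 :=
  coeff_neg_of_valued_le_one (by rw [E.hv]; exact hy) n hn

theorem val_le_exp_iff (y : K) (D : ℤ) :
    P.1 y ≤ WithZero.exp (-D) ↔ ∀ m : ℤ, m < D → (E.ψ y).coeff m = 0 := by
  rw [← E.hv]
  exact valuation_le_iff_coeff_lt_eq_zero k

/-- `ord_P y = j` in terms of the coefficients of the expansion. -/
theorem val_eq_exp_iff (y : K) (j : ℤ) :
    P.1 y = WithZero.exp (-j) ↔
      (∀ m : ℤ, m < j → (E.ψ y).coeff m = 0) ∧ (E.ψ y).coeff j ≠ 0 := by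
  rw [eq_exp_iff_le_and_not_le, E.val_le_exp_iff]
  have h1 : -j - 1 = -(j + 1) := by ring
  rw [h1, E.val_le_exp_iff]
  constructor
  · rintro ⟨h2, h3⟩
    refine ⟨h2, fun h0 => h3 fun m hm => ?_⟩
    rcases lt_or_eq_of_le (Int.lt_add_one_iff.mp hm) with h | h
    · exact h2 m h
    · rw [h]; exact h0
  · rintro ⟨h2, h3⟩
    exact ⟨h2, fun h => h3 (h j (by omega))⟩

theorem smul_coeff (a : k) (y : K) (m : ℤ) : (E.ψ (a • y)).coeff m = a * (E.ψ y).coeff m := by
  rw [Algebra.smul_def, map_mul, E.ψ.commutes, LocRes.algebraMap_eq_C, HahnSeries.C_mul_eq_smul,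
    HahnSeries.coeff_smul, smul_eq_mul]

theorem sum_smul_coeff {ι : Type*} (s : Finset ι) (a : ι → k) (φ : ι → K) (m : ℤ) :
    (E.ψ (∑ i ∈ s, a i • φ i)).coeff m = ∑ i ∈ s, a i * (E.ψ (φ i)).coeff m := by
  rw [map_sum, HahnSeries.coeff_sum]
  exact Finset.sum_congr rfl fun i _ => E.smul_coeff (a i) (φ i) m

omit E in
theorem val_sum_smul_le {ι : Type*} (s : Finset ι) (a : ι → k) (φ : ι → K)
    (hint : ∀ i, P.1 (φ i) ≤ 1) : P.1 (∑ i ∈ s, a i • φ i) ≤ 1 := by
  have : (∑ i ∈ s, a i • φ i) ∈ P.O := by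
    apply Subring.sum_mem
    intro i _
    rw [Algebra.smul_def]
    exact Subring.mul_mem _ (P.2.1 (a i)) (hint i)
  exact this

omit E in
theorem hasseD_zero (hHt : LocRes.IsHasseFamily t Ht) (y : K) : LocRes.hasseD Ht 0 y = y := by
  rw [LocRes.hasseD_apply, PowerSeries.coeff_zero_eq_constantCoeff_apply, hHt.2]

/-- The columns of values at `P` in terms of expansion coefficients. -/
theorem hcolAt_succ {ι : Type*} (φ : ι → K) (hint : ∀ i, P.1 (φ i) ≤ 1) (j : ℕ) :
    FunFld.hcolAt P Ht φ (j + 1) = fun i =>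
      algebraMap k (IsLocalRing.ResidueField P.O) ((E.ψ (φ i)).coeff j) := by
  funext i
  exact (E.heval (φ i) (hint i) j).2

theorem hcolAt_zero (hHt : LocRes.IsHasseFamily t Ht) {ι : Type*} (φ : ι → K)
    (hint : ∀ i, P.1 (φ i) ≤ 1) :
    FunFld.hcolAt P Ht φ 0 = fun i =>
      algebraMap k (IsLocalRing.ResidueField P.O) ((E.ψ (φ i)).coeff 0) := by
  funext i
  have := (E.heval (φ i) (hint i) 0).2
  rw [hasseD_zero hHt] at this
  exact this

theorem hcolAt_zero_eq_one (hHt : LocRes.IsHasseFamily t Ht) {ι : Type*} (φ : ι → K)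
    (hint : ∀ i, P.1 (φ i) ≤ 1) : FunFld.hcolAt P Ht φ 0 = FunFld.hcolAt P Ht φ 1 := by
  rw [E.hcolAt_zero hHt φ hint, E.hcolAt_succ φ hint 0]
  rfl

/-- The functional "pair with `a`" applied to the column of `m`-th coefficients is the `m`-th
coefficient of `∑ a i • φ i`. -/
theorem dot_col {ι : Type*} [Fintype ι] (φ : ι → K) (a : ι → k) (m : ℕ) :
    ∑ i, algebraMap k (IsLocalRing.ResidueField P.O) (a i) *
        algebraMap k (IsLocalRing.ResidueField P.O) ((E.ψ (φ i)).coeff m) =
      algebraMap k (IsLocalRing.ResidueField P.O) ((E.ψ (∑ i, a i • φ i)).coeff m) := by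
  rw [E.sum_smul_coeff, map_sum]
  exact Finset.sum_congr rfl fun i _ => (map_mul _ _ _).symm

/-- `j` is an order at `P` of the normalized tuple `φ` iff `j ≥ 1` and some function in the span of
`φ` has order `j` at `P`. -/
theorem isJump_hcolAt_iff (hHt : LocRes.IsHasseFamily t Ht) {ι : Type*} [Fintype ι] (φ : ι → K)
    (hint : ∀ i, P.1 (φ i) ≤ 1) (j : ℕ) :
    FunFld.IsJump (IsLocalRing.ResidueField P.O) (FunFld.hcolAt P Ht φ) (j + 1) ↔
      1 ≤ j ∧ ∃ f ∈ Submodule.span k (Set.range φ), P.1 f = WithZero.exp (-(j : ℤ)) := by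
  classical
  set κ := IsLocalRing.ResidueField P.O with hκ
  set c := FunFld.hcolAt P Ht φ with hc
  have hcs : ∀ j : ℕ, c (j + 1) = fun i => algebraMap k κ ((E.ψ (φ i)).coeff j) :=
    E.hcolAt_succ φ hint
  have hc01 : c 0 = c 1 := E.hcolAt_zero_eq_one hHt φ hint
  -- the functional attached to `a`
  let L : (ι → k) → ((ι → κ) →ₗ[κ] κ) := fun a =>
    ∑ i, algebraMap k κ (a i) • LinearMap.proj i
  have hL : ∀ (a : ι → k) (v : ι → κ), L a v = ∑ i, algebraMap k κ (a i) * v i := by
    intro a v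
    simp only [L, LinearMap.sum_apply, LinearMap.smul_apply, LinearMap.proj_apply, smul_eq_mul]
  have hLc : ∀ (a : ι → k) (m : ℕ), L a (c (m + 1)) =
      algebraMap k κ ((E.ψ (∑ i, a i • φ i)).coeff m) := by
    intro a m
    rw [hL, hcs m]
    exact E.dot_col φ a m
  have hLc0 : ∀ (a : ι → k), L a (c 0) =
      algebraMap k κ ((E.ψ (∑ i, a i • φ i)).coeff (0 : ℕ)) := by
    intro a
    rw [hc01]
    exact hLc a 0
  unfold FunFld.IsJump
  constructor
  · intro hjump
    have hj1 : 1 ≤ j := by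
      by_contra h0
      have hj0 : j = 0 := by omega
      subst hj0
      apply hjump
      rw [zero_add, ← hc01]
      exact Submodule.subset_span ⟨0, by simp, rfl⟩
    refine ⟨hj1, ?_⟩
    obtain ⟨L', hL'1, hL'2⟩ := Submodule.exists_le_ker_of_notMem hjump
    -- `L'` is `L a` for some `a`
    choose a ha using fun i => E.hbij.2 (L' fun i' => if i = i' then 1 else 0)
    have hLa : ∀ v, L' v = L a v := by
      intro v
      rw [LinearMap.pi_apply_eq_sum_univ L' v, hL]
      refine Finset.sum_congr rfl fun i _ => ?_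
      rw [ha i, smul_eq_mul, mul_comm]
    refine ⟨∑ i, a i • φ i, ?_, ?_⟩
    · exact Submodule.sum_mem _ fun i _ => Submodule.smul_mem _ _
        (Submodule.subset_span ⟨i, rfl⟩)
    · rw [E.val_eq_exp_iff]
      constructor
      · intro m hm
        rcases lt_or_ge m 0 with h | h
        · exact E.coeff_neg (val_sum_smul_le _ a φ hint) m h
        · obtain ⟨m', rfl⟩ := Int.eq_ofNat_of_zero_le h
          have hm' : m' < j := by exact_mod_cast hm
          have h1 : c (m' + 1) ∈ Submodule.span κ (c '' Set.Iio (j + 1)) :=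
            Submodule.subset_span ⟨m' + 1, by simp [hm'], rfl⟩
          have h2 := hL'2 h1
          rw [LinearMap.mem_ker, hLa, hLc] at h2
          exact E.hbij.1 (h2.trans (map_zero _).symm)
      · intro h0
        apply hL'1
        rw [hLa, hLc, h0, map_zero]
  · rintro ⟨hj1, f, hf, hfv⟩ hmem
    obtain ⟨a, rfl⟩ := (Submodule.mem_span_range_iff_exists_fun k).mp hf
    rw [E.val_eq_exp_iff] at hfv
    have hker : Submodule.span κ (c '' Set.Iio (j + 1)) ≤ LinearMap.ker (L a) := by
      rw [Submodule.span_le]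
      rintro _ ⟨i, hi, rfl⟩
      rw [SetLike.mem_coe, LinearMap.mem_ker]
      rcases i with _ | i
      · rw [hLc0, hfv.1 _ (by exact_mod_cast hj1), map_zero]
      · have hij : i < j := by simpa using hi
        rw [hLc, hfv.1 _ (by exact_mod_cast hij), map_zero]
    have h1 := hker hmem
    rw [LinearMap.mem_ker, hLc] at h1
    exact hfv.2 (E.hbij.1 (h1.trans (map_zero _).symm))

end ExpData

end Groth.Agent.Lib.FFExp58
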