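import Groth.Agent.Lib.FFOrd58a
import Mathlib.LinearAlgebra.Dimension.Constructions
import Mathlib.LinearAlgebra.FiniteDimensional.Lemmas

/-!
# Adapted (Hermite) basis at a place (helper58)

`linearIndependent_of_strictAnti_val`: functions with pairwise distinct (strictly decreasing)
valuations at a place are linearly independent over the constants.
`ExpData.exists_adapted_basis`: the span of a normalized effective tuple has a basis
`φ'₀ = 1 + …, φ'ₗ = t^(j'ₗ) (1 + …)`, `j'` the orders at `P`.
-/

set_option autoImplicit false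

namespace Groth.Agent.Lib.FFExp58

open FunFld Groth.Agent.Lib.H40FunFld LaurentSeries

universe u v

variable {k : Type u} {K : Type v} [Field k] [Field K] [Algebra k K]

theorem val_smul (P : FunFld.Place k K) {a : k} (ha : a ≠ 0) (y : K) : P.1 (a • y) = P.1 y := by
  rw [Algebra.smul_def, map_mul, val_algebraMap P ha, one_mul]

/-- Nonzero functions with strictly decreasing valuations are linearly independent over `k`. -/
theorem linearIndependent_of_strictAnti_val (P : FunFld.Place k K) {m : ℕ} (f : Fin m → K)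
    (hf0 : ∀ i, f i ≠ 0) (hf : StrictAnti fun i => P.1 (f i)) : LinearIndependent k f := by
  classical
  rw [Fintype.linearIndependent_iff]
  intro a hsum
  by_contra hne
  push Not at hne
  have hS : (Finset.univ.filter fun i => a i ≠ 0).Nonempty := by
    obtain ⟨i, hi⟩ := hne
    exact ⟨i, by simp [hi]⟩
  set i₀ := (Finset.univ.filter fun i => a i ≠ 0).min' hS with hi₀
  have hi₀mem : a i₀ ≠ 0 := by
    have := Finset.min'_mem _ hS
    simpa using this
  have hmin : ∀ i, a i ≠ 0 → i₀ ≤ i := fun i hi => Finset.min'_le _ i (by simp [hi])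
  have hsplit : a i₀ • f i₀ = -∑ i ∈ Finset.univ.erase i₀, a i • f i := by
    rw [eq_neg_iff_add_eq_zero,
      Finset.add_sum_erase Finset.univ (fun i => a i • f i) (Finset.mem_univ i₀)]
    exact hsum
  have hv0 : P.1 (f i₀) ≠ 0 := (Valuation.ne_zero_iff P.1).mpr (hf0 i₀)
  have hlt : P.1 (∑ i ∈ Finset.univ.erase i₀, a i • f i) < P.1 (f i₀) := by
    apply Valuation.map_sum_lt P.1 hv0
    intro i hi
    by_cases hai : a i = 0
    · rw [hai, zero_smul, map_zero]
      exact zero_lt_iff.mpr hv0
    · rw [val_smul P hai]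
      have h1 : i₀ ≤ i := hmin i hai
      have h2 : i ≠ i₀ := (Finset.mem_erase.mp hi).1
      exact hf (lt_of_le_of_ne h1 (Ne.symm h2))
  have := congrArg P.1 hsplit
  rw [Valuation.map_neg, val_smul P hi₀mem] at this
  rw [this] at hlt
  exact lt_irrefl _ hlt

/-- A linearly independent family of `n + 1` vectors inside the span of another such family spans the
same subspace. -/
theorem span_eq_of_linearIndependent_of_mem {n : ℕ} {φ φ' : Fin (n + 1) → K}
    (hφ : LinearIndependent k φ) (hφ' : LinearIndependent k φ')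
    (hmem : ∀ i, φ' i ∈ Submodule.span k (Set.range φ)) :
    Submodule.span k (Set.range φ') = Submodule.span k (Set.range φ) := by
  have hle : Submodule.span k (Set.range φ') ≤ Submodule.span k (Set.range φ) := by
    rw [Submodule.span_le]
    rintro _ ⟨i, rfl⟩
    exact hmem i
  have hfd : FiniteDimensional k (Submodule.span k (Set.range φ)) :=
    FiniteDimensional.span_of_finite k (Set.finite_range φ)
  apply Submodule.eq_of_le_of_finrank_eq hle
  rw [finrank_span_eq_card hφ, finrank_span_eq_card hφ']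

namespace ExpData

variable {P : FunFld.Place k K} {t : K} {Ht : K →ₐ[k] PowerSeries K} (E : ExpData P t Ht)
include E

/-- Normalizing a function of order `j` at `P`: some constant multiple has leading coefficient `1`
with respect to `t`. -/
theorem exists_normalized (ht : P.1 t = WithZero.exp (-1)) {f : K} {j : ℕ}
    (hf : P.1 f = WithZero.exp (-(j : ℤ))) :
    ∃ c : k, c ≠ 0 ∧ P.1 (c • f) = WithZero.exp (-(j : ℤ)) ∧
      FunFld.evalP P (c • f / t ^ j) = 1 := by
  have ht0 : t ≠ 0 := by
    intro h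
    rw [h, map_zero] at ht
    exact WithZero.exp_ne_zero ht.symm
  have htj : P.1 (t ^ j) = WithZero.exp (-(j : ℤ)) := val_t_pow ht j
  have hg : P.1 (f / t ^ j) = 1 := by
    rw [map_div₀, hf, htj, div_self WithZero.exp_ne_zero]
  obtain hr := E.hψr (f / t ^ j) hg.le
  set c := (E.ψ (f / t ^ j)).coeff 0 with hc
  have hc0 : c ≠ 0 := by
    intro h0
    rw [h0, map_zero, sub_zero, hg] at hr
    exact lt_irrefl _ hr
  refine ⟨c⁻¹, inv_ne_zero hc0, ?_, ?_⟩
  · rw [val_smul P (inv_ne_zero hc0), hf]
  · have h1 : c⁻¹ • f / t ^ j = c⁻¹ • (f / t ^ j) := by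
      rw [smul_div_assoc]
    have h2 : P.1 (c⁻¹ • (f / t ^ j)) ≤ 1 := by
      rw [val_smul P (inv_ne_zero hc0), hg]
    have h3 : P.1 (c⁻¹ • (f / t ^ j) - algebraMap k K 1) < 1 := by
      have : c⁻¹ • (f / t ^ j) - algebraMap k K 1 = c⁻¹ • (f / t ^ j - algebraMap k K c) := by
        rw [smul_sub, Algebra.smul_def c⁻¹ (algebraMap k K c), ← map_mul, inv_mul_cancel₀ hc0]
      rw [this, val_smul P (inv_ne_zero hc0)]
      exact hr
    rw [h1, evalP_eq_algebraMap P h2 1 h3, map_one]

/-- The adapted basis at `P`. -/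
theorem exists_adapted_basis (ht : P.1 t = WithZero.exp (-1)) (hHt : LocRes.IsHasseFamily t Ht)
    {n : ℕ} (φ : Fin (n + 1) → K) (hφ : LinearIndependent k φ)
    (heff : (1 : K) ∈ Submodule.span k (Set.range φ)) (hnorm : ∀ i, P.1 (φ i) ≤ 1)
    (J' : Fin n → ℕ)
    (hJ' : FunFld.IsOrders (IsLocalRing.ResidueField P.O) (FunFld.hcolAt P Ht φ) J') :
    ∃ φ' : Fin (n + 1) → K,
      Submodule.span k (Set.range φ') = Submodule.span k (Set.range φ) ∧
      P.1 (φ' 0) = 1 ∧ FunFld.evalP P (φ' 0) = 1 ∧
      ∀ l : Fin n, P.1 (φ' l.succ) = WithZero.exp (-(J' l : ℤ)) ∧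
        FunFld.evalP P (φ' l.succ / t ^ J' l) = 1 := by
  classical
  have hjump : ∀ l : Fin n, 1 ≤ J' l ∧
      ∃ f ∈ Submodule.span k (Set.range φ), P.1 f = WithZero.exp (-(J' l : ℤ)) := fun l =>
    (E.isJump_hcolAt_iff hHt φ hnorm (J' l)).mp ((hJ'.2 (J' l)).mp ⟨l, rfl⟩)
  choose hJ1 f hfmem hfv using hjump
  choose c hc0 hcv hce using fun l => E.exists_normalized ht (hfv l)
  let φ' : Fin (n + 1) → K := Fin.cons 1 fun l => c l • f l
  have hφ'0 : φ' 0 = 1 := rfl
  have hφ's : ∀ l : Fin n, φ' l.succ = c l • f l := fun l => by simp [φ']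
  have hval : ∀ i : Fin (n + 1), P.1 (φ' i) =
      WithZero.exp (-((Fin.cons 0 J' : Fin (n + 1) → ℕ) i : ℤ)) := by
    intro i
    refine Fin.cases ?_ (fun l => ?_) i
    · simp [φ']
    · rw [hφ's, hcv l]; simp
  have hmono : StrictMono (Fin.cons 0 J' : Fin (n + 1) → ℕ) := by
    intro i j hij
    revert hij
    refine Fin.cases ?_ (fun l => ?_) i <;> refine Fin.cases ?_ (fun l' => ?_) j
    · intro h; exact absurd h (lt_irrefl _)
    · intro _; simp only [Fin.cons_zero, Fin.cons_succ]; exact hJ1 l'
    · intro h; exact absurd h (Fin.not_lt_zero _)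
    · intro h
      simp only [Fin.cons_succ]
      exact hJ'.1 (Fin.succ_lt_succ_iff.mp h)
  have hli : LinearIndependent k φ' := by
    apply linearIndependent_of_strictAnti_val P
    · intro i h0
      have := hval i
      rw [h0, map_zero] at this
      exact WithZero.exp_ne_zero this.symm
    · intro i j hij
      show P.1 (φ' j) < P.1 (φ' i)
      rw [hval, hval, WithZero.exp_lt_exp]
      have := hmono hij
      omega
  refine ⟨φ', ?_, ?_, ?_, ?_⟩
  · apply span_eq_of_linearIndependent_of_mem hφ hli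
    intro i
    refine Fin.cases ?_ (fun l => ?_) i
    · exact heff
    · rw [hφ's]
      exact Submodule.smul_mem _ _ (hfmem l)
  · rw [hφ'0, map_one]
  · rw [hφ'0]
    have h1 : P.1 ((1 : K) - algebraMap k K 1) < 1 := by
      rw [map_one, sub_self, map_zero]; exact zero_lt_one
    rw [evalP_eq_algebraMap P (by rw [map_one]) 1 h1, map_one]
  · intro l
    rw [hφ's]
    exact ⟨hcv l, hce l⟩

end ExpData

end Groth.Agent.Lib.FFExp58
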