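import Groth.Prelude.Def_W4bk4goldsch45p2
import Groth.Agent.S12601
import Groth.Agent.S12602

/-!
# Generic linear algebra of order sequences (helper58)

For a sequence of columns `c : ℕ → M` over a field with order sequence `J` (`FunFld.IsOrders`):
* `isOrders_le_of_linearIndependent`: if `T` is strictly increasing and the columns `c 0`,
  `c (T l + 1)` are linearly independent then `J l ≤ T l` for all `l`;
* `linearIndependent_orders`: the columns `c 0`, `c (J l + 1)` are linearly independent when
  `c 0 ≠ 0`.
-/

set_option autoImplicit false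

namespace Groth.Agent.Lib.FFExp58

open FunFld

variable {R M : Type*} [Field R] [AddCommGroup M] [Module R M]

/-- The index map `0 ↦ 0`, `l + 1 ↦ T l + 1`. -/
def idx {n : ℕ} (T : Fin n → ℕ) : Fin (n + 1) → ℕ :=
  fun x => Fin.cases (motive := fun _ => ℕ) 0 (fun m => T m + 1) x

@[simp] theorem idx_zero {n : ℕ} (T : Fin n → ℕ) : idx T 0 = 0 := rfl

@[simp] theorem idx_succ {n : ℕ} (T : Fin n → ℕ) (l : Fin n) : idx T l.succ = T l + 1 := by
  simp [idx]

theorem idx_strictMono {n : ℕ} {T : Fin n → ℕ} (hT : StrictMono T) : StrictMono (idx T) := by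
  intro i j hij
  revert hij
  refine Fin.cases ?_ (fun l => ?_) i <;> refine Fin.cases ?_ (fun l' => ?_) j
  · intro h; exact absurd h (lt_irrefl _)
  · intro _; simp
  · intro h; exact absurd h (Fin.not_lt_zero _)
  · intro h
    simp only [idx_succ]
    have := hT (Fin.succ_lt_succ_iff.mp h)
    omega

theorem isOrders_le_of_linearIndependent (c : ℕ → M) {n : ℕ} (J : Fin n → ℕ)
    (hJ : FunFld.IsOrders R c J) (T : Fin n → ℕ) (hT : StrictMono T)
    (hli : LinearIndependent R (fun x : Fin (n + 1) => c (idx T x))) : ∀ l, J l ≤ T l := by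
  classical
  intro l
  by_contra hlt
  rw [not_le] at hlt
  set W := Submodule.span R (c '' Set.Iio (T l + 2)) with hW
  have hW1 : Module.finrank R W ≤ (l : ℕ) + 1 := by
    let S : Finset ℕ := insert 0 ((Finset.Iio l).image (fun i => J i + 1))
    have hsub : {j | j < T l + 2 ∧ FunFld.IsJump R c j} ⊆ (S : Set ℕ) := by
      rintro j ⟨hj, hjump⟩
      rcases j with _ | j
      · simp [S]
      · obtain ⟨i, rfl⟩ : j ∈ Set.range J := (hJ.2 j).mpr hjump
        have hil : i < l := by
          have : J i < J l := by omega
          exact hJ.1.lt_iff_lt.mp this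
        simp only [S, Finset.coe_insert, Finset.coe_image, Finset.coe_Iio, Set.mem_insert_iff,
          Set.mem_image, Set.mem_Iio]
        exact Or.inr ⟨i, hil, rfl⟩
    have hle : W ≤ Submodule.span R ((S.image c : Finset _) : Set M) := by
      rw [hW, Groth.Agent.S12601.span_Iio_eq_span_jumps, Finset.coe_image]
      exact Submodule.span_mono (Set.image_mono hsub)
    calc Module.finrank R W ≤ Module.finrank R
          (Submodule.span R ((S.image c : Finset _) : Set M)) :=
          Submodule.finrank_mono hle
      _ ≤ (S.image c).card := finrank_span_finset_le_card _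
      _ ≤ S.card := Finset.card_image_le
      _ ≤ ((Finset.Iio l).image (fun i => J i + 1)).card + 1 := Finset.card_insert_le _ _
      _ ≤ (Finset.Iio l).card + 1 := Nat.add_le_add_right Finset.card_image_le 1
      _ = (l : ℕ) + 1 := by rw [Fin.card_Iio]
  have hl : (l : ℕ) + 2 ≤ n + 1 := by have := l.2; omega
  let e : Fin ((l : ℕ) + 2) → Fin (n + 1) := Fin.castLE hl
  have he : Function.Injective e := Fin.castLE_injective hl
  have hmemW : ∀ x : Fin ((l : ℕ) + 2), c (idx T (e x)) ∈ W := by
    intro x
    refine Submodule.subset_span ⟨idx T (e x), ?_, rfl⟩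
    simp only [Set.mem_Iio]
    have hx : (e x : ℕ) ≤ (l : ℕ) + 1 := by
      have := x.2
      simp only [e, Fin.val_castLE]; omega
    revert hx
    refine Fin.cases ?_ (fun m => ?_) (e x)
    · intro _; simp
    · intro hm
      have hml : m ≤ l := by
        rw [Fin.le_def]; simp only [Fin.val_succ] at hm; omega
      have := hT.monotone hml
      simp only [idx_succ]; omega
  have hfdW : FiniteDimensional R W :=
    FiniteDimensional.span_of_finite R ((Set.finite_Iio _).image c)
  have hliW : LinearIndependent R (fun x : Fin ((l : ℕ) + 2) => (⟨c (idx T (e x)), hmemW x⟩ : W)) := by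
    apply LinearIndependent.of_comp W.subtype
    have : (W.subtype ∘ fun x : Fin ((l : ℕ) + 2) => (⟨c (idx T (e x)), hmemW x⟩ : W)) =
        (fun x : Fin (n + 1) => c (idx T x)) ∘ e := by
      funext x
      simp
    rw [this]
    exact hli.comp e he
  have := hliW.fintype_card_le_finrank
  simp only [Fintype.card_fin] at this
  omega

theorem linearIndependent_orders (c : ℕ → M) {n : ℕ} (J : Fin n → ℕ)
    (hJ : FunFld.IsOrders R c J) (h0 : c 0 ≠ 0) :
    LinearIndependent R (fun x : Fin (n + 1) => c (idx J x)) := by
  have hmono := idx_strictMono hJ.1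
  have hjump : ∀ x, FunFld.IsJump R c (idx J x) := by
    intro x
    refine Fin.cases ?_ (fun l => ?_) x
    · unfold FunFld.IsJump
      have : c '' Set.Iio 0 = ∅ := by ext y; simp
      rw [idx_zero, this, Submodule.span_empty]
      exact h0
    · rw [idx_succ]
      exact (hJ.2 (J l)).mp ⟨l, rfl⟩
  -- bound for all indices
  obtain ⟨N, hN⟩ : ∃ N, ∀ x, idx J x < N := by
    refine ⟨(Finset.univ.sup (idx J)) + 1, fun x => ?_⟩
    exact Nat.lt_succ_of_le (Finset.le_sup (f := idx J) (Finset.mem_univ x))
  have h1 := Groth.Agent.S12602.linearIndepOn_jumps (K := R) c N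
  have h2 : LinearIndependent R (fun y : {j | j < N ∧ FunFld.IsJump R c j} => c y) := h1
  let g : Fin (n + 1) → {j | j < N ∧ FunFld.IsJump R c j} := fun x => ⟨idx J x, hN x, hjump x⟩
  have hg : Function.Injective g := by
    intro x y hxy
    have : idx J x = idx J y := congrArg Subtype.val hxy
    exact hmono.injective this
  exact h2.comp g hg

end Groth.Agent.Lib.FFExp58
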