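import Groth.Agent.Lib.H40FunFldConorm2
import Groth.Prelude.Def_W4bk4goldsch45

set_option autoImplicit false
open FunFld Polynomial

namespace Groth.Agent.Lib.H40FunFld

open Groth.Agent.Lib.H40QuotChain IntermediateField

universe u v w
variable {k : Type u} [Field k]

section MapDiv

variable {K : Type v} [Field K] [Algebra k K]

theorem mapDiv_apply_of_finite {ι : Type*} [Fintype ι] [Nonempty ι] (φ : ι → K)
    (h : ∀ i, (Function.support fun P : FunFld.Place k K => P.ord (φ i)).Finite)
    (P : FunFld.Place k K) :
    FunFld.mapDiv k φ P = -Finset.univ.inf' Finset.univ_nonempty (fun i => P.ord (φ i)) := by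
  classical
  have hfin : (Function.support fun P : FunFld.Place k K =>
      -Finset.univ.inf' Finset.univ_nonempty (fun i => P.ord (φ i))).Finite := by
    refine (Set.finite_iUnion h).subset ?_
    intro P hP
    rw [Set.mem_iUnion]
    by_contra hcon
    push Not at hcon
    apply hP
    have h0 : ∀ i, P.ord (φ i) = 0 := fun i => by
      have := hcon i
      rwa [Function.mem_support, not_not] at this
    simp [h0]
  unfold FunFld.mapDiv
  rw [dif_pos hfin]
  rfl

variable {K' : Type w} [Field K'] [Algebra K K'] [Algebra k K'] [IsScalarTower k K K']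
  [FiniteDimensional K K']

/-- The divisor of a projective map, viewed in a finite extension, is the conorm of its divisor. -/
theorem mapDiv_algebraMap_eq_conorm (hK : FunFld.IsFunctionField k K) {ι : Type*} [Fintype ι]
    [Nonempty ι] (φ : ι → K) :
    FunFld.mapDiv k (fun i => algebraMap K K' (φ i)) = FunFld.conorm K' (FunFld.mapDiv k φ) := by
  ext Q
  obtain ⟨P, e, he⟩ := exists_isOverWith hK Q
  rw [conorm_apply hK _ he, mapDiv_apply_of_finite φ (fun i => finite_support_ord hK (φ i)),
    mapDiv_apply_of_finite _ (fun i => finite_support_ord_ext hK (algebraMap K K' (φ i)))]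
  simp only [ord_algebraMap_of_isOverWith he]
  rw [mul_neg, neg_inj]
  have := Finset.apply_inf'_eq_inf'_comp (s := (Finset.univ : Finset ι)) Finset.univ_nonempty
    (f := fun i => P.ord (φ i)) (fun x : ℤ => (e : ℤ) * x)
    (fun x y => mul_min_of_nonneg x y (Int.natCast_nonneg e))
  exact this.symm

end MapDiv

end Groth.Agent.Lib.H40FunFld
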