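import Groth.Agent.Lib.FFOrd58b
import Groth.Agent.Lib.FFOrd58c
import Groth.Agent.Lib.H40FunFldMapDiv
import Mathlib.LinearAlgebra.Matrix.NonsingularInverse
import Mathlib.LinearAlgebra.Matrix.ToLin

/-!
# Orders versus orders at a place; the Wronskian at a place (helper58)

* `evalP_det`: the value at `P` of the determinant of a matrix with integral entries.
* `ExpData.orders_le`, `orders_eq_iff_evalP_det`, `orders_eq_iff_wDiv`: generic orders are at most
  the orders at `P`, with equality iff the Wronskian does not vanish at `P` iff the Weierstrass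
  divisor has coefficient `0` at `P`.
-/

set_option autoImplicit false

namespace Groth.Agent.Lib.FFExp58

open FunFld Groth.Agent.Lib.H40FunFld LaurentSeries

universe u v

variable {k : Type u} {K : Type v} [Field k] [Field K] [Algebra k K]

theorem evalP_zero (P : FunFld.Place k K) : FunFld.evalP P 0 = 0 := by
  have h1 : P.1 ((0 : K) - algebraMap k K 0) < 1 := by
    rw [map_zero, sub_self, map_zero]; exact zero_lt_one
  rw [evalP_eq_algebraMap P (by rw [map_zero]; exact zero_le) 0 h1, map_zero]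

theorem evalP_eq_zero_iff (P : FunFld.Place k K) {z : K} (hz : P.1 z ≤ 1) :
    FunFld.evalP P z = 0 ↔ P.1 z < 1 := by
  rw [evalP_of_le P hz, residue_eq_zero_iff]

theorem evalP_ne_zero_iff (P : FunFld.Place k K) {z : K} (hz : P.1 z ≤ 1) :
    FunFld.evalP P z ≠ 0 ↔ P.1 z = 1 := by
  rw [Ne, evalP_eq_zero_iff P hz, not_lt]
  exact ⟨fun h => le_antisymm hz h, fun h => h.ge⟩

/-- The value at `P` of the determinant of a matrix with entries integral at `P`. -/
theorem evalP_det (P : FunFld.Place k K) {ι : Type*} [Fintype ι] [DecidableEq ι]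
    (W : Matrix ι ι K) (hW : ∀ i j, P.1 (W i j) ≤ 1) :
    P.1 W.det ≤ 1 ∧
      FunFld.evalP P W.det = (Matrix.of fun i j => FunFld.evalP P (W i j)).det := by
  let WO : Matrix ι ι P.O := Matrix.of fun i j => ⟨W i j, hW i j⟩
  have h1 : W = (P.O.subtype : P.O →+* K).mapMatrix WO := by
    ext i j; rfl
  have h2 : W.det = ((WO.det : P.O) : K) := by
    rw [h1, ← RingHom.map_det]; rfl
  have h3 : P.1 W.det ≤ 1 := by
    rw [h2]; exact WO.det.2
  refine ⟨h3, ?_⟩
  rw [evalP_of_le P h3]
  have h4 : (⟨W.det, h3⟩ : P.O) = WO.det := Subtype.ext h2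
  rw [h4, RingHom.map_det]
  congr 1
  ext i j
  simp only [RingHom.mapMatrix_apply, Matrix.map_apply, Matrix.of_apply, WO]
  exact (evalP_of_le P (hW i j)).symm

/-- A square matrix whose columns are `c (idx I x)` is nonsingular iff these columns are linearly
independent. -/
theorem det_ne_zero_iff_linearIndependent {R : Type*} [Field R] {n : ℕ}
    (c : ℕ → Fin (n + 1) → R) (I : Fin n → ℕ) (A : Matrix (Fin (n + 1)) (Fin (n + 1)) R)
    (hA : ∀ i x, A i x = c (idx I x) i) :
    A.det ≠ 0 ↔ LinearIndependent R (fun x : Fin (n + 1) => c (idx I x)) := by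
  have hcol : A.col = fun x : Fin (n + 1) => c (idx I x) := by
    funext x i
    exact hA i x
  rw [← hcol, Matrix.linearIndependent_cols_iff_isUnit, Matrix.isUnit_iff_isUnit_det,
    isUnit_iff_ne_zero]

theorem wrMat_apply {n : ℕ} (τ : K →ₐ[k] K) (H : K →ₐ[k] PowerSeries K) (φ : Fin (n + 1) → K)
    (I : Fin n → ℕ) (i x : Fin (n + 1)) :
    FunFld.wrMat τ H φ I i x = FunFld.hcol τ H φ (idx I x) i := by
  refine Fin.cases ?_ (fun l => ?_) x
  · simp [FunFld.wrMat, FunFld.hcol]
  · simp [FunFld.wrMat, FunFld.hcol]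

theorem log_eq_zero_iff {x : WithZero (Multiplicative ℤ)} (hx : x ≠ 0) :
    WithZero.log x = 0 ↔ x = 1 := by
  constructor
  · intro h
    rw [← WithZero.exp_log hx, h, WithZero.exp_zero]
  · rintro rfl
    exact WithZero.log_one

/-- Valuation of a Laurent series in terms of coefficients. -/
theorem valued_eq_exp_iff (f : LaurentSeries k) (j : ℤ) :
    Valued.v f = WithZero.exp (-j) ↔ (∀ m : ℤ, m < j → f.coeff m = 0) ∧ f.coeff j ≠ 0 := by
  rw [eq_exp_iff_le_and_not_le, valuation_le_iff_coeff_lt_eq_zero]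
  have h1 : -j - 1 = -(j + 1) := by ring
  rw [h1, valuation_le_iff_coeff_lt_eq_zero]
  constructor
  · rintro ⟨h2, h3⟩
    refine ⟨h2, fun h0 => h3 fun m hm => ?_⟩
    rcases lt_or_eq_of_le (Int.lt_add_one_iff.mp hm) with h | h
    · exact h2 m h
    · rw [h]; exact h0
  · rintro ⟨h2, h3⟩
    exact ⟨h2, fun h => h3 (h j (by omega))⟩

/-- The differential `dt` of a uniformizer has order `0`, read through any expansion. -/
theorem ordDiff_one_uniformizer {P : FunFld.Place k K} (Ψ : K →ₐ[k] LaurentSeries k)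
    (hΨ : LocRes.IsExpansionAt P.1 Ψ) {t : K} (ht : P.1 t = WithZero.exp (-1)) :
    LocRes.ordDiff Ψ 1 t = 0 := by
  have h1 : Valued.v (Ψ t) = WithZero.exp (-(1 : ℤ)) := by rw [hΨ.1, ht]
  rw [valued_eq_exp_iff] at h1
  have h2 : Valued.v (LocRes.D k (Ψ t)) = WithZero.exp (-(0 : ℤ)) := by
    rw [valued_eq_exp_iff]
    constructor
    · intro m hm
      show (LaurentSeries.derivative k (Ψ t)).coeff m = 0
      rw [LocRes.derivative_coeff, h1.1 (m + 1) (by omega), smul_zero]
    · show (LaurentSeries.derivative k (Ψ t)).coeff 0 ≠ 0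
      rw [LocRes.derivative_coeff]
      simpa using h1.2
  unfold LocRes.ordDiff LocRes.vDiff
  rw [map_one, one_mul, h2]
  simp

section

variable {P : FunFld.Place k K}

theorem exists_val_eq_one {ι : Type*} [Fintype ι] (φ : ι → K)
    (heff : (1 : K) ∈ Submodule.span k (Set.range φ)) (hnorm : ∀ i, P.1 (φ i) ≤ 1) :
    ∃ i, P.1 (φ i) = 1 := by
  by_contra hcon
  push Not at hcon
  obtain ⟨a, ha⟩ := (Submodule.mem_span_range_iff_exists_fun k).mp heff
  have hlt : P.1 (∑ i, a i • φ i) < 1 := by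
    apply Valuation.map_sum_lt P.1 one_ne_zero
    intro i _
    rw [Algebra.smul_def, map_mul]
    calc P.1 (algebraMap k K (a i)) * P.1 (φ i) ≤ 1 * P.1 (φ i) :=
          mul_le_mul_left (P.2.1 (a i)) _
      _ = P.1 (φ i) := one_mul _
      _ < 1 := lt_of_le_of_ne (hnorm i) (hcon i)
  rw [ha, map_one] at hlt
  exact lt_irrefl _ hlt

theorem ord_nonneg {z : K} (hz : P.1 z ≤ 1) : 0 ≤ P.ord z := by
  unfold FunFld.Place.ord
  by_cases h0 : P.1 z = 0
  · rw [h0]; simp
  · have : WithZero.log (P.1 z) ≤ 0 := by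
      rw [WithZero.log_le_iff_le_exp h0, WithZero.exp_zero]; exact hz
    omega

theorem ord_eq_zero_of_val_eq_one {z : K} (hz : P.1 z = 1) : P.ord z = 0 := by
  unfold FunFld.Place.ord
  rw [hz]; simp

/-- The divisor of a normalized effective tuple has coefficient `0` at `P`. -/
theorem mapDiv_apply_eq_zero {ι : Type*} [Fintype ι] [Nonempty ι] (φ : ι → K)
    (heff : (1 : K) ∈ Submodule.span k (Set.range φ)) (hnorm : ∀ i, P.1 (φ i) ≤ 1) :
    FunFld.mapDiv k φ P = 0 := by
  classical
  unfold FunFld.mapDiv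
  have hval : -Finset.univ.inf' Finset.univ_nonempty (fun i => P.ord (φ i)) = 0 := by
    rw [neg_eq_zero]
    apply le_antisymm
    · obtain ⟨i, hi⟩ := exists_val_eq_one φ heff hnorm
      calc Finset.univ.inf' Finset.univ_nonempty (fun i => P.ord (φ i)) ≤ P.ord (φ i) :=
            Finset.inf'_le _ (Finset.mem_univ i)
        _ = 0 := ord_eq_zero_of_val_eq_one hi
    · rw [Finset.le_inf'_iff]
      intro i _
      exact ord_nonneg (hnorm i)
  split_ifs with h
  · rw [Finsupp.ofSupportFinite_coe]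
    exact hval
  · rfl

theorem divDiff_apply_eq_zero (Φ : FunFld.Place k K → (K →ₐ[k] LaurentSeries k))
    (hΦ : ∀ P : FunFld.Place k K, LocRes.IsExpansionAt P.1 (Φ P)) {t : K}
    (ht : P.1 t = WithZero.exp (-1)) : FunFld.divDiff Φ 1 t P = 0 := by
  classical
  unfold FunFld.divDiff
  split_ifs with h
  · rw [Finsupp.ofSupportFinite_coe]
    exact ordDiff_one_uniformizer (Φ P) (hΦ P) ht
  · rfl

end

end Groth.Agent.Lib.FFExp58
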