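import Groth.Agent.Lib.FFOrd58d

/-!
# Generic orders versus orders at a place (helper58)

`ExpData.orders_main`: for a normalized effective tuple, the generic orders are at most the orders at
`P`, with equality iff the Wronskian does not vanish at `P` iff the Weierstrass divisor has
coefficient `0` at `P`.
-/

set_option autoImplicit false

namespace Groth.Agent.Lib.FFExp58

open FunFld Groth.Agent.Lib.H40FunFld LaurentSeries

universe u v

variable {k : Type u} {K : Type v} [Field k] [Field K] [Algebra k K]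

namespace ExpData

variable {P : FunFld.Place k K} {t : K} {Ht : K →ₐ[k] PowerSeries K} (E : ExpData P t Ht)
include E

theorem wrMat_val_le {n : ℕ} (φ : Fin (n + 1) → K) (hnorm : ∀ i, P.1 (φ i) ≤ 1)
    (I : Fin n → ℕ) (i x : Fin (n + 1)) :
    P.1 (FunFld.wrMat (AlgHom.id k K) Ht φ I i x) ≤ 1 := by
  refine Fin.cases ?_ (fun l => ?_) x
  · simpa [FunFld.wrMat] using hnorm i
  · simpa [FunFld.wrMat] using (E.heval (φ i) (hnorm i) (I l)).1

omit E in
theorem evalP_wrMat {n : ℕ} (φ : Fin (n + 1) → K)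
    (I : Fin n → ℕ) (i x : Fin (n + 1)) :
    FunFld.evalP P (FunFld.wrMat (AlgHom.id k K) Ht φ I i x) =
      FunFld.hcolAt P Ht φ (idx I x) i := by
  refine Fin.cases ?_ (fun l => ?_) x
  · simp [FunFld.wrMat, FunFld.hcolAt]
  · simp [FunFld.wrMat, FunFld.hcolAt]

/-- The Wronskian with index sequence `I` does not vanish at `P` iff the corresponding columns of
values at `P` are linearly independent. -/
theorem evalP_det_wrMat {n : ℕ} (φ : Fin (n + 1) → K) (hnorm : ∀ i, P.1 (φ i) ≤ 1)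
    (I : Fin n → ℕ) :
    P.1 (FunFld.wrMat (AlgHom.id k K) Ht φ I).det ≤ 1 ∧
    (FunFld.evalP P (FunFld.wrMat (AlgHom.id k K) Ht φ I).det ≠ 0 ↔
      LinearIndependent (IsLocalRing.ResidueField P.O)
        (fun x : Fin (n + 1) => FunFld.hcolAt P Ht φ (idx I x))) := by
  obtain ⟨h1, h2⟩ := evalP_det P (FunFld.wrMat (AlgHom.id k K) Ht φ I) (E.wrMat_val_le φ hnorm I)
  refine ⟨h1, ?_⟩
  rw [h2]
  exact det_ne_zero_iff_linearIndependent (FunFld.hcolAt P Ht φ) I _
    (fun i x => by rw [Matrix.of_apply]; exact evalP_wrMat φ I i x)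

omit E in
theorem hcolAt_zero_ne_zero {n : ℕ} (φ : Fin (n + 1) → K)
    (heff : (1 : K) ∈ Submodule.span k (Set.range φ)) (hnorm : ∀ i, P.1 (φ i) ≤ 1) :
    FunFld.hcolAt P Ht φ 0 ≠ 0 := by
  intro h0
  obtain ⟨i, hi⟩ := exists_val_eq_one φ heff hnorm
  have h1 : FunFld.evalP P (φ i) = 0 := congrFun h0 i
  rw [evalP_eq_zero_iff P (hnorm i), hi] at h1
  exact lt_irrefl _ h1

theorem orders_main [IsAlgClosed k] (hK : FunFld.IsFunctionField k K)
    (ht : P.1 t = WithZero.exp (-1)) (hHt : LocRes.IsHasseFamily t Ht)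
    {n : ℕ} (φ : Fin (n + 1) → K) (hφ : LinearIndependent k φ)
    (heff : (1 : K) ∈ Submodule.span k (Set.range φ)) (hnorm : ∀ i, P.1 (φ i) ≤ 1)
    (J : Fin n → ℕ) (hJ : FunFld.IsOrders K (FunFld.hcol (AlgHom.id k K) Ht φ) J)
    (J' : Fin n → ℕ)
    (hJ' : FunFld.IsOrders (IsLocalRing.ResidueField P.O) (FunFld.hcolAt P Ht φ) J')
    (Φ : FunFld.Place k K → (K →ₐ[k] LaurentSeries k))
    (hΦ : ∀ P : FunFld.Place k K, LocRes.IsExpansionAt P.1 (Φ P)) :
    (∀ l, J l ≤ J' l) ∧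
    ((∀ l, J' l = J l) ↔ FunFld.evalP P (FunFld.wrMat (AlgHom.id k K) Ht φ J).det ≠ 0) ∧
    ((∀ l, J' l = J l) ↔ FunFld.wDiv (AlgHom.id k K) Ht Φ t φ J P = 0) := by
  classical
  have hc'0 := hcolAt_zero_ne_zero (Ht := Ht) φ heff hnorm
  have hc0 : FunFld.hcol (AlgHom.id k K) Ht φ 0 ≠ 0 := by
    intro h0
    have : φ 0 = 0 := congrFun h0 0
    exact hφ.ne_zero 0 this
  have hliJ' := linearIndependent_orders _ J' hJ' hc'0
  have hliJ := linearIndependent_orders _ J hJ hc0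
  have hdetK : ∀ I : Fin n → ℕ, (FunFld.wrMat (AlgHom.id k K) Ht φ I).det ≠ 0 ↔
      LinearIndependent K (fun x : Fin (n + 1) => FunFld.hcol (AlgHom.id k K) Ht φ (idx I x)) :=
    fun I => det_ne_zero_iff_linearIndependent _ I _ (wrMat_apply _ _ _ I)
  have hdetJ' : (FunFld.wrMat (AlgHom.id k K) Ht φ J').det ≠ 0 := by
    intro h0
    have := (E.evalP_det_wrMat φ hnorm J').2.mpr hliJ'
    rw [h0, evalP_zero] at this
    exact this rfl
  have h1 : ∀ l, J l ≤ J' l :=
    Groth.Agent.S12601.result k K hK φ hφ (AlgHom.id k K) t Ht hHt J hJ J' hJ'.1 hdetJ'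
  have h2 : (∀ l, J' l = J l) ↔
      FunFld.evalP P (FunFld.wrMat (AlgHom.id k K) Ht φ J).det ≠ 0 := by
    rw [(E.evalP_det_wrMat φ hnorm J).2]
    constructor
    · intro h
      have : J' = J := funext h
      rw [← this]; exact hliJ'
    · intro hli l
      exact le_antisymm (isOrders_le_of_linearIndependent _ J' hJ' J hJ.1 hli l) (h1 l)
  refine ⟨h1, h2, ?_⟩
  rw [h2]
  have hdetJ : (FunFld.wrMat (AlgHom.id k K) Ht φ J).det ≠ 0 := (hdetK J).mpr hliJ
  have hdetle := (E.evalP_det_wrMat φ hnorm J).1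
  have hid : (⇑(AlgHom.id k K) ∘ φ) = φ := by
    funext i; rfl
  unfold FunFld.wDiv
  rw [hid]
  simp only [Finsupp.add_apply, Finsupp.smul_apply]
  rw [div_apply_of_finite _ (finite_support_ord hK _), mapDiv_apply_eq_zero φ heff hnorm,
    divDiff_apply_eq_zero Φ hΦ ht, smul_zero, smul_zero, add_zero, add_zero, add_zero]
  rw [evalP_ne_zero_iff P hdetle]
  unfold FunFld.Place.ord
  rw [neg_eq_zero, log_eq_zero_iff ((Valuation.ne_zero_iff P.1).mpr hdetJ)]

end ExpData

end Groth.Agent.Lib.FFExp58
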