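import Groth.Agent.Lib.FFOrd58e

/-!
# Weighted Hasse derivatives, fixed points, weighted determinants at a place (helper58)

* `ExpData.weighted_hasseD`: for `y` with `ord_P y ≥ w`, the function `D_t^(m) y · t^(m - w)` is
  integral at `P` with value `(w choose m) · (coefficient of X^w in the expansion of y)`.
* `ExpData.val_tau_le_one`, `val_tau_le`, `val_tau_le_strong`: behaviour of an endomorphism at a
  (strong) fixed point.
* `val_det_weighted`: valuation of a determinant whose entries have weighted valuations.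
-/

set_option autoImplicit false

namespace Groth.Agent.Lib.FFExp58

open FunFld Groth.Agent.Lib.H40FunFld LaurentSeries

universe u v

variable {k : Type u} {K : Type v} [Field k] [Field K] [Algebra k K]

theorem exp_sum {ι : Type*} (s : Finset ι) (f : ι → ℤ) :
    (WithZero.exp (∑ i ∈ s, f i) : WithZero (Multiplicative ℤ)) = ∏ i ∈ s, WithZero.exp (f i) := by
  classical
  induction s using Finset.induction_on with
  | empty => simp
  | insert a s ha ih => rw [Finset.sum_insert ha, Finset.prod_insert ha, WithZero.exp_add, ih]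

section

variable {P : FunFld.Place k K} {t : K}

theorem t_ne_zero (ht : P.1 t = WithZero.exp (-1)) : t ≠ 0 := by
  intro h
  rw [h, map_zero] at ht
  exact WithZero.exp_ne_zero ht.symm

theorem val_t_zpow (ht : P.1 t = WithZero.exp (-1)) (i : ℤ) :
    P.1 (t ^ i) = WithZero.exp (-i) := by
  rw [map_zpow₀, ht, ← WithZero.exp_zsmul, smul_eq_mul, mul_neg, mul_one]

/-- Valuation of a determinant with weighted entries: if `B r s = M r s · t^(b s - a r)` then
`v(det M) = exp(-(∑ a - ∑ b)) · v(det B)`. -/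
theorem val_det_weighted (ht : P.1 t = WithZero.exp (-1)) {N : ℕ}
    (M : Matrix (Fin N) (Fin N) K) (a b : Fin N → ℤ) :
    P.1 M.det = WithZero.exp (-(∑ r, a r - ∑ s, b s)) *
      P.1 (Matrix.of fun r s => M r s * t ^ (b s - a r)).det := by
  have ht0 := t_ne_zero ht
  set B : Matrix (Fin N) (Fin N) K := Matrix.of fun r s => M r s * t ^ (b s - a r) with hB
  have hM : M = Matrix.of fun r s => t ^ (a r) *
      (Matrix.of fun r' s' => t ^ (-b s') * B r' s') r s := by
    ext r s
    simp only [Matrix.of_apply, hB]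
    rw [zpow_sub₀ ht0, zpow_neg]
    have h1 : t ^ (a r) ≠ 0 := zpow_ne_zero _ ht0
    have h2 : t ^ (b s) ≠ 0 := zpow_ne_zero _ ht0
    field_simp
  have hdet : M.det = (∏ r, t ^ (a r)) * ((∏ s, t ^ (-b s)) * B.det) := by
    conv_lhs => rw [hM]
    rw [Matrix.det_mul_column, Matrix.det_mul_row]
  rw [hdet, map_mul, map_mul, map_prod, map_prod, ← mul_assoc]
  congr 1
  have h3 : -(∑ r, a r - ∑ s, b s) = ∑ r, (-a r) + ∑ s, (- -b s) := by
    rw [Finset.sum_neg_distrib, Finset.sum_neg_distrib, Finset.sum_neg_distrib]; ring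
  rw [h3, WithZero.exp_add, exp_sum, exp_sum]
  congr 1
  · exact Finset.prod_congr rfl fun r _ => val_t_zpow ht (a r)
  · exact Finset.prod_congr rfl fun s _ => val_t_zpow ht (-b s)

end

namespace ExpData

variable {P : FunFld.Place k K} {t : K} {Ht : K →ₐ[k] PowerSeries K} (E : ExpData P t Ht)
include E

/-- The value at `P` of an integral function is the constant coefficient of its expansion. -/
theorem evalP_eq {z : K} (hz : P.1 z ≤ 1) :
    FunFld.evalP P z = algebraMap k (IsLocalRing.ResidueField P.O) ((E.ψ z).coeff 0) :=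
  evalP_eq_algebraMap P hz _ (E.hψr z hz)

theorem psi_t_zpow (i : ℤ) : E.ψ (t ^ i) = HahnSeries.single i 1 := by
  rw [map_zpow₀, E.hψt, ← RatFunc.single_zpow]

theorem val_le_one_iff (z : K) : P.1 z ≤ 1 ↔ ∀ m : ℤ, m < 0 → (E.ψ z).coeff m = 0 := by
  have := E.val_le_exp_iff z 0
  simpa using this

/-- Weighted Hasse derivative: if `ord_P y ≥ w` then `D_t^(m) y · t^(m - w)` is integral at `P`
with value `(w choose m)` times the coefficient of `X^w` in the expansion of `y`. -/
theorem weighted_hasseD (y : K) (w : ℤ) (hy : P.1 y ≤ WithZero.exp (-w)) (m : ℕ) :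
    P.1 (LocRes.hasseD Ht m y * t ^ ((m : ℤ) - w)) ≤ 1 ∧
    FunFld.evalP P (LocRes.hasseD Ht m y * t ^ ((m : ℤ) - w)) =
      algebraMap k (IsLocalRing.ResidueField P.O) (Ring.choose w m • (E.ψ y).coeff w) := by
  have hcoef : ∀ i : ℤ, (E.ψ (LocRes.hasseD Ht m y * t ^ ((m : ℤ) - w))).coeff i =
      Ring.choose (i + w) m • (E.ψ y).coeff (i + w) := by
    intro i
    rw [map_mul, E.hexp, E.psi_t_zpow, HahnSeries.coeff_mul_single, mul_one,
      LaurentSeries.hasseDeriv_coeff]
    have : i - ((m : ℤ) - w) + (m : ℤ) = i + w := by ring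
    rw [this]
  have hy' := (E.val_le_exp_iff y w).mp hy
  have h1 : P.1 (LocRes.hasseD Ht m y * t ^ ((m : ℤ) - w)) ≤ 1 := by
    rw [E.val_le_one_iff]
    intro i hi
    rw [hcoef, hy' (i + w) (by omega), smul_zero]
  refine ⟨h1, ?_⟩
  rw [E.evalP_eq h1, hcoef, zero_add]

/-- An endomorphism with fixed point `P` preserves integrality and values at `P`. -/
theorem val_tau_le_one {τ : K →ₐ[k] K} (hP : FunFld.IsFixedPt τ P) {z : K} (hz : P.1 z ≤ 1) :
    P.1 (τ z) ≤ 1 ∧ FunFld.evalP P (τ z) = FunFld.evalP P z := by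
  have hr := E.hψr z hz
  set c := (E.ψ z).coeff 0 with hc
  have h1 : P.1 (τ z - algebraMap k K c) < 1 := by
    have : τ z - algebraMap k K c = τ (z - algebraMap k K c) := by
      rw [map_sub, τ.commutes]
    rw [this]
    exact hP _ hr
  have h2 : P.1 (τ z) ≤ 1 := by
    have : τ z = (τ z - algebraMap k K c) + algebraMap k K c := by ring
    rw [this]
    exact (Valuation.map_add _ _ _).trans (max_le h1.le (P.2.1 c))
  refine ⟨h2, ?_⟩
  rw [evalP_eq_algebraMap P h2 c h1, evalP_eq_algebraMap P hz c hr]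

/-- At a fixed point, `ord_P (τ y) ≥ j` whenever `ord_P y ≥ j`. -/
theorem val_tau_le {τ : K →ₐ[k] K} (hP : FunFld.IsFixedPt τ P) (ht : P.1 t = WithZero.exp (-1))
    {y : K} (j : ℕ) (hy : P.1 y ≤ WithZero.exp (-(j : ℤ))) :
    P.1 (τ y) ≤ WithZero.exp (-(j : ℤ)) := by
  have ht0 := t_ne_zero ht
  have htj : P.1 (t ^ j) = WithZero.exp (-(j : ℤ)) := val_t_pow ht j
  have hu : P.1 (y / t ^ j) ≤ 1 := by
    rw [map_div₀, htj]
    exact div_le_one_of_le₀ hy zero_le
  have h1 := (E.val_tau_le_one hP hu).1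
  have h2 : τ y = τ t ^ j * τ (y / t ^ j) := by
    rw [← map_pow, ← map_mul, mul_div_cancel₀ _ (pow_ne_zero _ ht0)]
  have h3 : P.1 (τ t) ≤ WithZero.exp (-1) := by
    rw [← lt_one_iff_le_exp_neg_one]
    apply hP
    rw [ht, lt_one_iff_le_exp_neg_one]
  rw [h2, map_mul, map_pow]
  calc P.1 (τ t) ^ j * P.1 (τ (y / t ^ j)) ≤ WithZero.exp (-1) ^ j * 1 :=
        mul_le_mul' (pow_le_pow_left₀ zero_le h3 j) h1
    _ = WithZero.exp (-(j : ℤ)) := by
        rw [mul_one, ← WithZero.exp_nsmul, nsmul_eq_mul, mul_neg, mul_one]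

omit E in
theorem isFixedPt_of_strong {τ : K →ₐ[k] K} (hP : FunFld.IsStrongFixedPt τ P) :
    FunFld.IsFixedPt τ P := by
  intro z hz
  refine lt_of_le_of_lt (hP z hz) ?_
  rw [← WithZero.exp_zero, WithZero.exp_lt_exp]
  omega

/-- At a strong fixed point, `ord_P (τ y) ≥ 2 j` whenever `ord_P y ≥ j`. -/
theorem val_tau_le_strong {τ : K →ₐ[k] K} (hP : FunFld.IsStrongFixedPt τ P)
    (ht : P.1 t = WithZero.exp (-1))
    {y : K} (j : ℕ) (hy : P.1 y ≤ WithZero.exp (-(j : ℤ))) :
    P.1 (τ y) ≤ WithZero.exp (-(2 * j : ℤ)) := by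
  have ht0 := t_ne_zero ht
  have htj : P.1 (t ^ j) = WithZero.exp (-(j : ℤ)) := val_t_pow ht j
  have hu : P.1 (y / t ^ j) ≤ 1 := by
    rw [map_div₀, htj]
    exact div_le_one_of_le₀ hy zero_le
  have h1 := (E.val_tau_le_one (isFixedPt_of_strong hP) hu).1
  have h2 : τ y = τ t ^ j * τ (y / t ^ j) := by
    rw [← map_pow, ← map_mul, mul_div_cancel₀ _ (pow_ne_zero _ ht0)]
  have h3 : P.1 (τ t) ≤ WithZero.exp (-2) := by
    apply hP
    rw [ht, lt_one_iff_le_exp_neg_one]
  rw [h2, map_mul, map_pow]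
  calc P.1 (τ t) ^ j * P.1 (τ (y / t ^ j)) ≤ WithZero.exp (-2) ^ j * 1 :=
        mul_le_mul' (pow_le_pow_left₀ zero_le h3 j) h1
    _ = WithZero.exp (-(2 * j : ℤ)) := by
        rw [mul_one, ← WithZero.exp_nsmul, nsmul_eq_mul]
        congr 1; ring

end ExpData

end Groth.Agent.Lib.FFExp58
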