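import Groth.Agent.Lib.FFOrd58f
import Groth.Agent.S12596

/-!
# Change of basis between two bases of the same span; leading coefficients of an adapted basis
(helper58)
-/

set_option autoImplicit false

namespace Groth.Agent.Lib.FFExp58

open FunFld Groth.Agent.Lib.H40FunFld LaurentSeries

universe u v

variable {k : Type u} {K : Type v} [Field k] [Field K] [Algebra k K]

/-- Two families of `m` vectors, the second linearly independent, spanning each other: the change of
basis matrix is invertible. -/
theorem exists_matrix_of_span_eq {m : ℕ} {φ φ' : Fin m → K} (hφ' : LinearIndependent k φ')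
    (hmem : ∀ i, φ' i ∈ Submodule.span k (Set.range φ))
    (hmem' : ∀ j, φ j ∈ Submodule.span k (Set.range φ')) :
    ∃ A : Matrix (Fin m) (Fin m) k, A.det ≠ 0 ∧ ∀ i, φ' i = ∑ j, A i j • φ j := by
  classical
  choose A hA using fun i => (Submodule.mem_span_range_iff_exists_fun k).mp (hmem i)
  choose A' hA' using fun j => (Submodule.mem_span_range_iff_exists_fun k).mp (hmem' j)
  refine ⟨Matrix.of A, ?_, fun i => (hA i).symm⟩
  have hprod : Matrix.of A * Matrix.of A' = 1 := by
    ext i l
    have h1 : ∑ l', ((Matrix.of A * Matrix.of A') i l' - (1 : Matrix (Fin m) (Fin m) k) i l') •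
        φ' l' = 0 := by
      simp only [sub_smul, Finset.sum_sub_distrib]
      rw [sub_eq_zero]
      have h2 : ∑ l', (1 : Matrix (Fin m) (Fin m) k) i l' • φ' l' = φ' i := by
        simp [Matrix.one_apply, ite_smul]
      rw [h2]
      calc ∑ l', (Matrix.of A * Matrix.of A') i l' • φ' l'
          = ∑ l', ∑ j, (A i j * A' j l') • φ' l' := by
            refine Finset.sum_congr rfl fun l' _ => ?_
            rw [Matrix.mul_apply, Finset.sum_smul]
            rfl
        _ = ∑ j, ∑ l', (A i j * A' j l') • φ' l' := Finset.sum_comm
        _ = ∑ j, A i j • φ j := by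
            refine Finset.sum_congr rfl fun j _ => ?_
            rw [← hA' j, Finset.smul_sum]
            exact Finset.sum_congr rfl fun l' _ => mul_smul _ _ _
        _ = φ' i := hA i
    have h3 := Fintype.linearIndependent_iff.mp hφ' _ h1 l
    exact sub_eq_zero.mp h3
  intro h0
  have := congrArg Matrix.det hprod
  rw [Matrix.det_mul, h0, zero_mul, Matrix.det_one] at this
  exact zero_ne_one this

/-- Linear independence from equality of spans with a linearly independent family of the same
size. -/
theorem linearIndependent_of_span_eq {m : ℕ} {φ φ' : Fin m → K} (hφ : LinearIndependent k φ)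
    (hsp : Submodule.span k (Set.range φ') = Submodule.span k (Set.range φ)) :
    LinearIndependent k φ' := by
  rw [linearIndependent_iff_card_eq_finrank_span, Set.finrank, hsp, finrank_span_eq_card hφ]

namespace ExpData

variable {P : FunFld.Place k K} {t : K} {Ht : K →ₐ[k] PowerSeries K} (E : ExpData P t Ht)
include E

/-- Leading coefficient of a normalized function of order `j`. -/
theorem coeff_eq_one_of_evalP (ht : P.1 t = WithZero.exp (-1)) (y : K) (j : ℕ)
    (hv : P.1 y = WithZero.exp (-(j : ℤ)))
    (he : FunFld.evalP P (y / t ^ j) = 1) : (E.ψ y).coeff j = 1 := by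
  have h1 : y / t ^ j = y * t ^ (-(j : ℤ)) := by
    rw [zpow_neg, zpow_natCast, div_eq_mul_inv]
  have h2 : P.1 (y / t ^ j) ≤ 1 := by
    rw [map_div₀, hv, val_t_pow ht, div_self WithZero.exp_ne_zero]
  rw [E.evalP_eq h2, h1, map_mul, E.psi_t_zpow, HahnSeries.coeff_mul_single, mul_one, zero_sub,
    neg_neg] at he
  exact E.hbij.1 (he.trans (map_one _).symm)

end ExpData

end Groth.Agent.Lib.FFExp58
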