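import Groth.Agent.Lib.FFOrd58g

/-!
# Valuation of generalized Wronskians at a fixed point (helper58)

`ExpData.wronskian_val_main`: at a fixed point `P` of `τ`, for a normalized effective tuple with
orders `J` at `P`, `ord_P det [τφ | D^(I₁)φ | ⋯ | D^(Iₙ)φ] ≥ ∑ (J l - I l)`, with equality iff the
binomial matrix `(J r choose I s)` is nonsingular over `k` (when all `I l > 0` or `P` is a strong
fixed point).
-/

set_option autoImplicit false

namespace Groth.Agent.Lib.FFExp58

open FunFld Groth.Agent.Lib.H40FunFld LaurentSeries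

universe u v

variable {k : Type u} {K : Type v} [Field k] [Field K] [Algebra k K]

theorem det_of_row_zero {R : Type*} [CommRing R] {n : ℕ}
    (N : Matrix (Fin (n + 1)) (Fin (n + 1)) R) (h00 : N 0 0 = 1)
    (h0 : ∀ l : Fin n, N 0 l.succ = 0) : N.det = (N.submatrix Fin.succ Fin.succ).det := by
  rw [Matrix.det_succ_row_zero, Fin.sum_univ_succ]
  simp [h00, h0]

theorem det_of_col_zero {R : Type*} [CommRing R] {n : ℕ}
    (N : Matrix (Fin (n + 1)) (Fin (n + 1)) R) (h00 : N 0 0 = 1)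
    (h0 : ∀ l : Fin n, N l.succ 0 = 0) : N.det = (N.submatrix Fin.succ Fin.succ).det := by
  rw [Matrix.det_succ_column_zero, Fin.sum_univ_succ]
  simp [h00, h0]

/-- Row/column weights: `0 ↦ 0`, `l + 1 ↦ T l`. -/
def wt {n : ℕ} (T : Fin n → ℕ) : Fin (n + 1) → ℤ :=
  fun x => Fin.cases (motive := fun _ => ℤ) 0 (fun m => (T m : ℤ)) x

@[simp] theorem wt_zero {n : ℕ} (T : Fin n → ℕ) : wt T 0 = 0 := rfl

@[simp] theorem wt_succ {n : ℕ} (T : Fin n → ℕ) (l : Fin n) : wt T l.succ = T l := by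
  simp [wt]

theorem sum_wt {n : ℕ} (T : Fin n → ℕ) : ∑ x, wt T x = ∑ l, (T l : ℤ) := by
  rw [Fin.sum_univ_succ]
  simp

namespace ExpData

variable {P : FunFld.Place k K} {t : K} {Ht : K →ₐ[k] PowerSeries K} (E : ExpData P t Ht)
include E

theorem wronskian_val_main [IsAlgClosed k] (hK : FunFld.IsFunctionField k K)
    (τ : K →ₐ[k] K) (hP : FunFld.IsFixedPt τ P)
    (ht : P.1 t = WithZero.exp (-1)) (hHt : LocRes.IsHasseFamily t Ht)
    {n : ℕ} (φ : Fin (n + 1) → K) (hφ : LinearIndependent k φ)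
    (heff : (1 : K) ∈ Submodule.span k (Set.range φ)) (hnorm : ∀ i, P.1 (φ i) ≤ 1)
    (J : Fin n → ℕ)
    (hJ : FunFld.IsOrders (IsLocalRing.ResidueField P.O) (FunFld.hcolAt P Ht φ) J)
    (I : Fin n → ℕ) :
    P.1 (FunFld.wrMat τ Ht φ I).det ≤ WithZero.exp (-(∑ l, ((J l : ℤ) - I l))) ∧
    (((∀ l, 0 < I l) ∨ FunFld.IsStrongFixedPt τ P) →
      (P.1 (FunFld.wrMat τ Ht φ I).det = WithZero.exp (-(∑ l, ((J l : ℤ) - I l))) ↔
        (FunFld.binomMat k J I).det ≠ 0)) := by
  classical
  set κ := IsLocalRing.ResidueField P.O with hκ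
  -- the adapted basis
  obtain ⟨φ', hsp, h0v, h0e, hl⟩ := E.exists_adapted_basis ht hHt φ hφ heff hnorm J hJ
  have hφ' : LinearIndependent k φ' := linearIndependent_of_span_eq hφ hsp
  obtain ⟨A, hAdet, hA⟩ := exists_matrix_of_span_eq (φ := φ) (φ' := φ') hφ'
    (fun i => hsp ▸ Submodule.subset_span ⟨i, rfl⟩)
    (fun j => hsp.symm ▸ Submodule.subset_span ⟨j, rfl⟩)
  have hdetA := (Groth.Agent.S12596.result k K hK φ hφ τ t Ht hHt A hAdet φ' hA).2 I
  have hvaldet : P.1 (FunFld.wrMat τ Ht φ' I).det = P.1 (FunFld.wrMat τ Ht φ I).det := by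
    rw [hdetA, map_mul, val_algebraMap P hAdet, one_mul]
  -- orders are positive
  have hJ1 : ∀ l, 1 ≤ J l := fun l =>
    ((E.isJump_hcolAt_iff hHt φ hnorm (J l)).mp ((hJ.2 (J l)).mp ⟨l, rfl⟩)).1
  -- valuations and leading coefficients of the adapted basis
  have hv' : ∀ r, P.1 (φ' r) = WithZero.exp (-(wt J r)) := by
    intro r
    refine Fin.cases ?_ (fun l => ?_) r
    · simpa using h0v
    · rw [wt_succ]; exact (hl l).1
  have hlead : ∀ r, (E.ψ (φ' r)).coeff (wt J r) = 1 := by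
    intro r
    refine Fin.cases ?_ (fun l => ?_) r
    · have := E.coeff_eq_one_of_evalP ht (φ' 0) 0 (by simpa using h0v) (by simpa using h0e)
      simpa using this
    · rw [wt_succ]
      exact E.coeff_eq_one_of_evalP ht _ (J l) (hl l).1 (hl l).2
  -- the weighted matrix
  set W' := FunFld.wrMat τ Ht φ' I with hW'
  set B : Matrix (Fin (n + 1)) (Fin (n + 1)) K :=
    Matrix.of fun r s => W' r s * t ^ (wt I s - wt J r) with hB
  have hwt_nat : ∀ r, ∃ j : ℕ, wt J r = (j : ℤ) := by
    intro r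
    refine Fin.cases ⟨0, rfl⟩ (fun l => ⟨J l, wt_succ J l⟩) r
  -- the `τ`-column
  have hBτ : ∀ r, P.1 (B r 0) ≤ 1 := by
    intro r
    obtain ⟨j, hj⟩ := hwt_nat r
    have h1 : P.1 (τ (φ' r)) ≤ WithZero.exp (-(j : ℤ)) :=
      E.val_tau_le hP ht j (by rw [hv' r, hj])
    have h2 : B r 0 = τ (φ' r) * t ^ (-(j : ℤ)) := by
      simp [hB, hW', FunFld.wrMat, hj]
    rw [h2, map_mul, val_t_zpow ht, neg_neg]
    calc P.1 (τ (φ' r)) * WithZero.exp (j : ℤ)
        ≤ WithZero.exp (-(j : ℤ)) * WithZero.exp (j : ℤ) := mul_le_mul_left h1 _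
      _ = 1 := by rw [← WithZero.exp_add, neg_add_cancel, WithZero.exp_zero]
  -- the Hasse derivative columns
  have hBD : ∀ r (l : Fin n), P.1 (B r l.succ) ≤ 1 ∧
      FunFld.evalP P (B r l.succ) = algebraMap k κ (((wt J r).toNat.choose (I l) : ℕ) : k) := by
    intro r l
    have h1 := E.weighted_hasseD (φ' r) (wt J r) (hv' r).le (I l)
    have h2 : B r l.succ = LocRes.hasseD Ht (I l) (φ' r) * t ^ ((I l : ℤ) - wt J r) := by
      simp [hB, hW', FunFld.wrMat]
    rw [h2]
    refine ⟨h1.1, ?_⟩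
    rw [h1.2, hlead r]
    obtain ⟨j, hj⟩ := hwt_nat r
    rw [hj, Ring.choose_natCast, Int.toNat_natCast]
    simp
  have hBint : ∀ r s, P.1 (B r s) ≤ 1 := by
    intro r s
    refine Fin.cases ?_ (fun l => ?_) s
    · exact hBτ r
    · exact (hBD r l).1
  -- determinant identities
  have hval := val_det_weighted ht W' (wt J) (wt I)
  rw [sum_wt, sum_wt, ← Finset.sum_sub_distrib] at hval
  obtain ⟨hdetB1, hdetB2⟩ := evalP_det P B hBint
  have hexp0 : (WithZero.exp (-(∑ l, ((J l : ℤ) - I l))) : WithZero (Multiplicative ℤ)) ≠ 0 :=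
    WithZero.exp_ne_zero
  rw [← hvaldet, hval]
  constructor
  · calc WithZero.exp (-(∑ l, ((J l : ℤ) - I l))) * P.1 B.det
        ≤ WithZero.exp (-(∑ l, ((J l : ℤ) - I l))) * 1 := mul_le_mul_right hdetB1 _
      _ = _ := mul_one _
  · intro hcase
    have hiff1 : WithZero.exp (-(∑ l, ((J l : ℤ) - I l))) * P.1 B.det =
        WithZero.exp (-(∑ l, ((J l : ℤ) - I l))) ↔ P.1 B.det = 1 := by
      constructor
      · intro h
        have h' : WithZero.exp (-(∑ l, ((J l : ℤ) - I l))) * P.1 B.det =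
            WithZero.exp (-(∑ l, ((J l : ℤ) - I l))) * 1 := by rw [h, mul_one]
        exact mul_left_cancel₀ hexp0 h'
      · intro h; rw [h, mul_one]
    rw [hiff1, ← evalP_ne_zero_iff P hdetB1, hdetB2]
    set N : Matrix (Fin (n + 1)) (Fin (n + 1)) κ :=
      Matrix.of fun r s => FunFld.evalP P (B r s) with hN
    -- the value of the corner
    have hN00 : N 0 0 = 1 := by
      have h2 : B 0 0 = τ (φ' 0) := by
        simp [hB, hW', FunFld.wrMat]
      have h3 : P.1 (φ' 0) ≤ 1 := h0v.le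
      simp only [hN, Matrix.of_apply]
      rw [h2, (E.val_tau_le_one hP h3).2, h0e]
    have hsub : N.submatrix Fin.succ Fin.succ =
        (algebraMap k κ).mapMatrix (FunFld.binomMat k J I) := by
      ext r s
      simp only [hN, Matrix.submatrix_apply, Matrix.of_apply, RingHom.mapMatrix_apply,
        Matrix.map_apply, FunFld.binomMat]
      rw [(hBD r.succ s).2, wt_succ, Int.toNat_natCast]
    have hdetN : N.det = algebraMap k κ (FunFld.binomMat k J I).det := by
      rw [RingHom.map_det, ← hsub]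
      rcases hcase with hI | hS
      · apply det_of_row_zero N hN00
        intro l
        simp only [hN, Matrix.of_apply]
        rw [(hBD 0 l).2, wt_zero, Int.toNat_zero, Nat.choose_eq_zero_of_lt (hI l)]
        simp
      · apply det_of_col_zero N hN00
        intro l
        simp only [hN, Matrix.of_apply]
        rw [evalP_eq_zero_iff P (hBτ l.succ)]
        have h1 : P.1 (τ (φ' l.succ)) ≤ WithZero.exp (-(2 * (J l : ℕ) : ℤ)) :=
          E.val_tau_le_strong hS ht (J l) (hl l).1.le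
        have h2 : B l.succ 0 = τ (φ' l.succ) * t ^ (-(J l : ℤ)) := by
          simp [hB, hW', FunFld.wrMat]
        rw [h2, map_mul, val_t_zpow ht, neg_neg]
        calc P.1 (τ (φ' l.succ)) * WithZero.exp (J l : ℤ)
            ≤ WithZero.exp (-(2 * (J l : ℕ) : ℤ)) * WithZero.exp (J l : ℤ) :=
              mul_le_mul_left h1 _
          _ = WithZero.exp (-(J l : ℤ)) := by
              rw [← WithZero.exp_add]; congr 1; ring
          _ < 1 := by
              rw [← WithZero.exp_zero, WithZero.exp_lt_exp]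
              have := hJ1 l
              omega
    rw [hdetN]
    exact (map_ne_zero_iff _ E.hbij.1)

end ExpData

end Groth.Agent.Lib.FFExp58
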