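import Groth.Agent.Lib.FFOrd58h
import Groth.Agent.S12597
import Mathlib.LinearAlgebra.Matrix.Block

/-!
# `τ`-orders at a strong fixed point (helper58)

`ExpData.tau_orders_le`: at a strong fixed point `P` of `τ`, the `τ`-orders `J` of a normalized
effective tuple and its orders `J'` at `P` satisfy `J l + J' 0 ≤ J' l`.
-/

set_option autoImplicit false

namespace Groth.Agent.Lib.FFExp58

open FunFld Groth.Agent.Lib.H40FunFld LaurentSeries

universe u v

variable {k : Type u} {K : Type v} [Field k] [Field K] [Algebra k K]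

theorem evalP_mul (P : FunFld.Place k K) {u v : K} (hu : P.1 u ≤ 1) (hv : P.1 v ≤ 1) :
    FunFld.evalP P (u * v) = FunFld.evalP P u * FunFld.evalP P v := by
  have huv : P.1 (u * v) ≤ 1 := by
    rw [map_mul]; exact mul_le_one' hu hv
  rw [evalP_of_le P huv, evalP_of_le P hu, evalP_of_le P hv, ← map_mul]
  rfl

theorem evalP_one (P : FunFld.Place k K) : FunFld.evalP P 1 = 1 := by
  have h1 : P.1 ((1 : K) - algebraMap k K 1) < 1 := by
    rw [map_one, sub_self, map_zero]; exact zero_lt_one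
  rw [evalP_eq_algebraMap P (by rw [map_one]) 1 h1, map_one]

theorem evalP_inv (P : FunFld.Place k K) {u : K} (hu : P.1 u = 1) (he : FunFld.evalP P u = 1) :
    FunFld.evalP P u⁻¹ = 1 := by
  have hu0 : u ≠ 0 := by
    intro h; rw [h, map_zero] at hu; exact zero_ne_one hu
  have hui : P.1 u⁻¹ ≤ 1 := by rw [map_inv₀, hu, inv_one]
  have := evalP_mul P hui hu.le
  rw [inv_mul_cancel₀ hu0, evalP_one, he, mul_one] at this
  exact this.symm

theorem linearIndependent_smul {m : ℕ} {φ : Fin m → K} (hφ : LinearIndependent k φ) {y : K}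
    (hy : y ≠ 0) : LinearIndependent k (y • φ) := by
  rw [Fintype.linearIndependent_iff] at hφ ⊢
  intro a ha
  apply hφ a
  have h1 : ∑ i, a i • (y • φ) i = y * ∑ i, a i • φ i := by
    rw [Finset.mul_sum]
    refine Finset.sum_congr rfl fun i _ => ?_
    rw [Pi.smul_apply, smul_eq_mul, mul_smul_comm]
  rw [h1] at ha
  exact (mul_eq_zero.mp ha).resolve_left hy

namespace ExpData

variable {P : FunFld.Place k K} {t : K} {Ht : K →ₐ[k] PowerSeries K} (E : ExpData P t Ht)
include E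

/-- Leading coefficient of a function of order `w ∈ ℤ` normalized w.r.t. `t`. -/
theorem coeff_eq_one_of_evalP_zpow (y : K) (w : ℤ)
    (hv : P.1 (y * t ^ (-w)) ≤ 1)
    (he : FunFld.evalP P (y * t ^ (-w)) = 1) : (E.ψ y).coeff w = 1 := by
  rw [E.evalP_eq hv, map_mul, E.psi_t_zpow, HahnSeries.coeff_mul_single, mul_one, zero_sub,
    neg_neg] at he
  exact E.hbij.1 (he.trans (map_one _).symm)

theorem tau_orders_le [IsAlgClosed k] (hK : FunFld.IsFunctionField k K)
    (τ : K →ₐ[k] K) (hP : FunFld.IsStrongFixedPt τ P)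
    (ht : P.1 t = WithZero.exp (-1)) (hHt : LocRes.IsHasseFamily t Ht)
    {n : ℕ} (hn : 0 < n) (φ : Fin (n + 1) → K) (hφ : LinearIndependent k φ)
    (heff : (1 : K) ∈ Submodule.span k (Set.range φ)) (hnorm : ∀ i, P.1 (φ i) ≤ 1)
    (J : Fin n → ℕ) (hJ : FunFld.IsOrders K (FunFld.hcol τ Ht φ) J)
    (J' : Fin n → ℕ)
    (hJ' : FunFld.IsOrders (IsLocalRing.ResidueField P.O) (FunFld.hcolAt P Ht φ) J') :
    ∀ l, J l + J' ⟨0, hn⟩ ≤ J' l := by
  classical
  set κ := IsLocalRing.ResidueField P.O with hκ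
  have ht0 := t_ne_zero ht
  -- the adapted basis
  obtain ⟨φ', hsp, h0v, h0e, hl⟩ := E.exists_adapted_basis ht hHt φ hφ heff hnorm J' hJ'
  have hφ' : LinearIndependent k φ' := linearIndependent_of_span_eq hφ hsp
  obtain ⟨A, hAdet, hA⟩ := exists_matrix_of_span_eq (φ := φ) (φ' := φ') hφ'
    (fun i => hsp ▸ Submodule.subset_span ⟨i, rfl⟩)
    (fun j => hsp.symm ▸ Submodule.subset_span ⟨j, rfl⟩)
  have hJφ' : FunFld.IsOrders K (FunFld.hcol τ Ht φ') J :=
    ((Groth.Agent.S12596.result k K hK φ hφ τ t Ht hHt A hAdet φ' hA).1 J).mpr hJ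
  -- divide by `φ' 1`
  set l₀ : Fin n := ⟨0, hn⟩ with hl₀
  set j₀ : ℕ := J' l₀ with hj₀
  have hf1 : φ' l₀.succ ≠ 0 := hφ'.ne_zero _
  set y : K := (φ' l₀.succ)⁻¹ with hy
  have hy0 : y ≠ 0 := inv_ne_zero hf1
  have hJy : FunFld.IsOrders K (FunFld.hcol τ Ht (y • φ')) J :=
    ((Groth.Agent.S12597.result k K hK φ' hφ' τ t Ht hHt y hy0).1 J).mpr hJφ'
  have hφy : LinearIndependent k (y • φ') := linearIndependent_smul hφ' hy0
  -- the index sequence
  have hmonoJ' : ∀ l, j₀ ≤ J' l := fun l => hJ'.1.monotone (Fin.mk_le_of_le_val (Nat.zero_le _))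
  set m : Fin n → ℕ := fun l => J' l - j₀ with hm
  have hmm : StrictMono m := by
    intro a b hab
    have h1 := hJ'.1 hab
    have h2 := hmonoJ' a
    simp only [hm]
    omega
  suffices hdet : (FunFld.wrMat τ Ht (y • φ') m).det ≠ 0 by
    intro l
    have := Groth.Agent.S12601.result k K hK (y • φ') hφy τ t Ht hHt J hJy m hmm hdet l
    have h2 := hmonoJ' l
    simp only [hm] at this
    omega
  -- factor out `τ y` from the first column
  set M : Matrix (Fin (n + 1)) (Fin (n + 1)) K := Matrix.of fun r s =>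
    Fin.cases (motive := fun _ => K) (τ (φ' r)) (fun l => LocRes.hasseD Ht (m l) (y * φ' r)) s
    with hM
  have hwr : FunFld.wrMat τ Ht (y • φ') m = Matrix.of fun r s =>
      (Fin.cases (motive := fun _ => K) (τ y) (fun _ => 1) s) * M r s := by
    ext r s
    refine Fin.cases ?_ (fun l => ?_) s
    · simp [FunFld.wrMat, hM]
    · simp [FunFld.wrMat, hM]
  have hdetwr : (FunFld.wrMat τ Ht (y • φ') m).det = τ y * M.det := by
    rw [hwr, Matrix.det_mul_row, Fin.prod_univ_succ]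
    simp
  rw [hdetwr]
  refine mul_ne_zero ((map_ne_zero τ).mpr hy0) ?_
  -- weights
  set a : Fin (n + 1) → ℤ := fun r => wt J' r - j₀ with ha
  set b : Fin (n + 1) → ℤ := fun s => wt m s - Fin.cases (motive := fun _ => ℤ) (j₀ : ℤ) (fun _ => 0) s
    with hb
  have hb0 : b 0 = -(j₀ : ℤ) := by simp [hb]
  have hbs : ∀ l : Fin n, b l.succ = m l := fun l => by simp [hb]
  have hval := val_det_weighted ht M a b
  set B : Matrix (Fin (n + 1)) (Fin (n + 1)) K :=
    Matrix.of fun r s => M r s * t ^ (b s - a r) with hB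
  -- valuations and normalizations of the adapted basis
  have hJ'1 : ∀ l, 1 ≤ J' l := fun l =>
    ((E.isJump_hcolAt_iff hHt φ hnorm (J' l)).mp ((hJ'.2 (J' l)).mp ⟨l, rfl⟩)).1
  have hv' : ∀ r, P.1 (φ' r) = WithZero.exp (-(wt J' r)) := by
    intro r
    refine Fin.cases ?_ (fun l => ?_) r
    · simpa using h0v
    · rw [wt_succ]; exact (hl l).1
  have hwt_nat : ∀ r, ∃ j : ℕ, wt J' r = (j : ℤ) := by
    intro r
    refine Fin.cases ⟨0, rfl⟩ (fun l => ⟨J' l, wt_succ J' l⟩) r
  -- normalized units `u r = φ' r · t^(-wt J' r)`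
  have hu : ∀ r, P.1 (φ' r * t ^ (-(wt J' r))) = 1 ∧
      FunFld.evalP P (φ' r * t ^ (-(wt J' r))) = 1 := by
    intro r
    refine Fin.cases ?_ (fun l => ?_) r
    · simp only [wt_zero, neg_zero, zpow_zero, mul_one]
      exact ⟨h0v, h0e⟩
    · rw [wt_succ]
      have h1 : φ' l.succ * t ^ (-(J' l : ℤ)) = φ' l.succ / t ^ J' l := by
        rw [zpow_neg, zpow_natCast, div_eq_mul_inv]
      rw [h1]
      refine ⟨?_, (hl l).2⟩
      rw [map_div₀, (hl l).1, val_t_pow ht, div_self WithZero.exp_ne_zero]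
  -- `y φ' r` normalized
  have hyφ : ∀ r, P.1 (y * φ' r * t ^ (-(a r))) = 1 ∧
      FunFld.evalP P (y * φ' r * t ^ (-(a r))) = 1 := by
    intro r
    have h1 : y * φ' r * t ^ (-(a r)) =
        (φ' l₀.succ * t ^ (-(wt J' l₀.succ)))⁻¹ * (φ' r * t ^ (-(wt J' r))) := by
      simp only [ha, hy, wt_succ, ← hj₀]
      rw [mul_inv, ← zpow_neg, neg_neg, neg_sub, zpow_sub₀ ht0, zpow_neg]
      have h2 : t ^ (j₀ : ℤ) ≠ 0 := zpow_ne_zero _ ht0
      have h3 : t ^ (wt J' r) ≠ 0 := zpow_ne_zero _ ht0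
      field_simp
    obtain ⟨hu1, hu2⟩ := hu l₀.succ
    obtain ⟨hr1, hr2⟩ := hu r
    have hui : P.1 (φ' l₀.succ * t ^ (-(wt J' l₀.succ)))⁻¹ = 1 := by
      rw [map_inv₀, hu1, inv_one]
    rw [h1]
    refine ⟨by rw [map_mul, hui, hr1, one_mul], ?_⟩
    rw [evalP_mul P hui.le hr1.le, evalP_inv P hu1 hu2, hr2, one_mul]
  have hyφv : ∀ r, P.1 (y * φ' r) ≤ WithZero.exp (-(a r)) := by
    intro r
    have h1 := (hyφ r).1
    rw [map_mul, val_t_zpow ht, neg_neg] at h1
    have h2 : P.1 (y * φ' r) = P.1 (y * φ' r) * WithZero.exp (a r) * WithZero.exp (-(a r)) := by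
      rw [mul_assoc, ← WithZero.exp_add, add_neg_cancel, WithZero.exp_zero, mul_one]
    rw [h2, h1, one_mul]
  have hlead : ∀ r, (E.ψ (y * φ' r)).coeff (a r) = 1 := fun r =>
    E.coeff_eq_one_of_evalP_zpow (y * φ' r) (a r) (hyφ r).1.le (hyφ r).2
  -- the `τ`-column of `B`
  have hBτ0 : ∀ r, B r 0 = τ (φ' r) * t ^ (-(wt J' r)) := by
    intro r
    have : b 0 - a r = -(wt J' r) := by rw [hb0]; simp only [ha]; ring
    simp only [hB, hM, Matrix.of_apply, Fin.cases_zero, this]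
  have hBτ : ∀ r, P.1 (B r 0) ≤ 1 := by
    intro r
    obtain ⟨j, hj⟩ := hwt_nat r
    have h1 : P.1 (τ (φ' r)) ≤ WithZero.exp (-(j : ℤ)) :=
      E.val_tau_le (isFixedPt_of_strong hP) ht j (by rw [hv' r, hj])
    rw [hBτ0, hj, map_mul, val_t_zpow ht, neg_neg]
    calc P.1 (τ (φ' r)) * WithZero.exp (j : ℤ)
        ≤ WithZero.exp (-(j : ℤ)) * WithZero.exp (j : ℤ) := mul_le_mul_left h1 _
      _ = 1 := by rw [← WithZero.exp_add, neg_add_cancel, WithZero.exp_zero]
  -- the Hasse derivative columns of `B`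
  have hBD : ∀ r (l : Fin n), P.1 (B r l.succ) ≤ 1 ∧
      FunFld.evalP P (B r l.succ) = algebraMap k κ (Ring.choose (a r) (m l) • (1 : k)) := by
    intro r l
    have h1 := E.weighted_hasseD (y * φ' r) (a r) (hyφv r) (m l)
    have h2 : B r l.succ = LocRes.hasseD Ht (m l) (y * φ' r) * t ^ ((m l : ℤ) - a r) := by
      simp only [hB, hM, Matrix.of_apply, Fin.cases_succ, hbs]
    rw [h2]
    refine ⟨h1.1, ?_⟩
    rw [h1.2, hlead r]
  have hBint : ∀ r s, P.1 (B r s) ≤ 1 := by
    intro r s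
    refine Fin.cases ?_ (fun l => ?_) s
    · exact hBτ r
    · exact (hBD r l).1
  obtain ⟨hdetB1, hdetB2⟩ := evalP_det P B hBint
  set N : Matrix (Fin (n + 1)) (Fin (n + 1)) κ :=
    Matrix.of fun r s => FunFld.evalP P (B r s) with hN
  have hN00 : N 0 0 = 1 := by
    simp only [hN, Matrix.of_apply]
    rw [hBτ0, wt_zero, neg_zero, zpow_zero, mul_one,
      (E.val_tau_le_one (isFixedPt_of_strong hP) h0v.le).2, h0e]
  have hNcol : ∀ l : Fin n, N l.succ 0 = 0 := by
    intro l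
    simp only [hN, Matrix.of_apply]
    rw [evalP_eq_zero_iff P (hBτ l.succ)]
    have h1 : P.1 (τ (φ' l.succ)) ≤ WithZero.exp (-(2 * (J' l : ℕ) : ℤ)) :=
      E.val_tau_le_strong hP ht (J' l) (hl l).1.le
    rw [hBτ0, wt_succ, map_mul, val_t_zpow ht, neg_neg]
    calc P.1 (τ (φ' l.succ)) * WithZero.exp (J' l : ℤ)
        ≤ WithZero.exp (-(2 * (J' l : ℕ) : ℤ)) * WithZero.exp (J' l : ℤ) :=
          mul_le_mul_left h1 _
      _ = WithZero.exp (-(J' l : ℤ)) := by
          rw [← WithZero.exp_add]; congr 1; ring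
      _ < 1 := by
          rw [← WithZero.exp_zero, WithZero.exp_lt_exp]
          have := hJ'1 l
          omega
  have hsubentry : ∀ r s : Fin n, (N.submatrix Fin.succ Fin.succ) r s =
      algebraMap k κ (((m r).choose (m s) : ℕ) : k) := by
    intro r s
    simp only [hN, Matrix.submatrix_apply, Matrix.of_apply]
    rw [(hBD r.succ s).2]
    have har : a r.succ = ((m r : ℕ) : ℤ) := by
      simp only [ha, wt_succ, hm]
      have := hmonoJ' r
      omega
    rw [har, Ring.choose_natCast]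
    simp
  have hdetsub : (N.submatrix Fin.succ Fin.succ).det = 1 := by
    rw [Matrix.det_of_isLowerTriangular]
    · apply Finset.prod_eq_one
      intro r _
      rw [hsubentry, Nat.choose_self]
      simp
    · intro r s hrs
      have hrs' : r < s := hrs
      rw [hsubentry, Nat.choose_eq_zero_of_lt (hmm hrs')]
      simp
  have hdetN : N.det = 1 := by
    rw [det_of_col_zero N hN00 hNcol, hdetsub]
  have hdetB : B.det ≠ 0 := by
    intro h0
    rw [h0, evalP_zero] at hdetB2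
    rw [hdetN] at hdetB2
    exact zero_ne_one hdetB2
  intro h0
  rw [h0, map_zero] at hval
  have := mul_eq_zero.mp hval.symm
  rcases this with h | h
  · exact WithZero.exp_ne_zero h
  · exact hdetB ((map_eq_zero P.1).mp h)

end ExpData

end Groth.Agent.Lib.FFExp58
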