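import Groth.Agent.Lib.FFOrd58i

/-!
# The Weierstrass divisor at a fixed point (helper58)

`ExpData.wDiv_at_fixed_point`: coefficient of `W(φ, τ)` at a fixed point `P` versus `∑ (j'ₗ - jₗ)`.
-/

set_option autoImplicit false

namespace Groth.Agent.Lib.FFExp58

open FunFld Groth.Agent.Lib.H40FunFld LaurentSeries

universe u v

variable {k : Type u} {K : Type v} [Field k] [Field K] [Algebra k K]

namespace ExpData

variable {P : FunFld.Place k K} {t : K} {Ht : K →ₐ[k] PowerSeries K} (E : ExpData P t Ht)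
include E

theorem wDiv_at_fixed_point [IsAlgClosed k] (hK : FunFld.IsFunctionField k K)
    (τ : K →ₐ[k] K) (hP : FunFld.IsFixedPt τ P)
    (ht : P.1 t = WithZero.exp (-1)) (hHt : LocRes.IsHasseFamily t Ht)
    {n : ℕ} (φ : Fin (n + 1) → K) (hφ : LinearIndependent k φ)
    (heff : (1 : K) ∈ Submodule.span k (Set.range φ)) (hnorm : ∀ i, P.1 (φ i) ≤ 1)
    (J : Fin n → ℕ) (hJ : FunFld.IsOrders K (FunFld.hcol τ Ht φ) J)
    (J' : Fin n → ℕ)
    (hJ' : FunFld.IsOrders (IsLocalRing.ResidueField P.O) (FunFld.hcolAt P Ht φ) J')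
    (Φ : FunFld.Place k K → (K →ₐ[k] LaurentSeries k))
    (hΦ : ∀ P : FunFld.Place k K, LocRes.IsExpansionAt P.1 (Φ P)) :
    (∑ l, ((J' l : ℤ) - J l)) ≤ FunFld.wDiv τ Ht Φ t φ J P ∧
    ((τ = AlgHom.id k K ∨ FunFld.IsStrongFixedPt τ P) →
      (FunFld.wDiv τ Ht Φ t φ J P = ∑ l, ((J' l : ℤ) - J l) ↔
        (FunFld.binomMat k J' J).det ≠ 0)) := by
  classical
  obtain ⟨hmain1, hmain2⟩ := E.wronskian_val_main hK τ hP ht hHt φ hφ heff hnorm J' hJ' J
  -- the Wronskian is nonzero
  have hc0 : FunFld.hcol τ Ht φ 0 ≠ 0 := by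
    intro h0
    have h1 : τ (φ 0) = 0 := congrFun h0 0
    exact hφ.ne_zero 0 ((map_eq_zero τ).mp h1)
  have hdet : (FunFld.wrMat τ Ht φ J).det ≠ 0 :=
    (det_ne_zero_iff_linearIndependent _ J _ (wrMat_apply τ Ht φ J)).mpr
      (linearIndependent_orders _ J hJ hc0)
  have hv0 : P.1 (FunFld.wrMat τ Ht φ J).det ≠ 0 := (Valuation.ne_zero_iff P.1).mpr hdet
  -- the value of the Weierstrass divisor
  have hnormτ : ∀ i, P.1 ((⇑τ ∘ φ) i) ≤ 1 := fun i => (E.val_tau_le_one hP (hnorm i)).1
  have heffτ : (1 : K) ∈ Submodule.span k (Set.range (⇑τ ∘ φ)) := by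
    obtain ⟨a, ha⟩ := (Submodule.mem_span_range_iff_exists_fun k).mp heff
    rw [Submodule.mem_span_range_iff_exists_fun]
    refine ⟨a, ?_⟩
    have := congrArg τ ha
    rw [map_sum, map_one] at this
    rw [← this]
    exact Finset.sum_congr rfl fun i _ => by rw [map_smul]; rfl
  have hW : FunFld.wDiv τ Ht Φ t φ J P = P.ord (FunFld.wrMat τ Ht φ J).det := by
    unfold FunFld.wDiv
    simp only [Finsupp.add_apply, Finsupp.smul_apply]
    rw [div_apply_of_finite _ (finite_support_ord hK _), mapDiv_apply_eq_zero φ heff hnorm,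
      mapDiv_apply_eq_zero (⇑τ ∘ φ) heffτ hnormτ,
      divDiff_apply_eq_zero Φ hΦ ht, smul_zero, smul_zero, add_zero, add_zero, add_zero]
  rw [hW]
  unfold FunFld.Place.ord
  constructor
  · have := (WithZero.log_le_iff_le_exp hv0).mpr hmain1
    omega
  · intro hcase
    have hcase' : (∀ l, 0 < J l) ∨ FunFld.IsStrongFixedPt τ P := by
      rcases hcase with hid | hS
      · left
        intro l
        by_contra h0
        have hJl : J l = 0 := by omega
        have hjump := (hJ.2 (J l)).mp ⟨l, rfl⟩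
        rw [hJl] at hjump
        apply hjump
        have h01 : FunFld.hcol τ Ht φ (0 + 1) = FunFld.hcol τ Ht φ 0 := by
          funext i
          simp only [FunFld.hcol, zero_add]
          rw [hasseD_zero hHt, hid]
          rfl
        rw [h01]
        exact Submodule.subset_span ⟨0, by simp, rfl⟩
      · exact Or.inr hS
    rw [← hmain2 hcase']
    constructor
    · intro h
      rw [← WithZero.exp_log hv0]
      congr 1
      omega
    · intro h
      rw [h, WithZero.log_exp]
      ring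

end ExpData

end Groth.Agent.Lib.FFExp58
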