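import Groth.Agent.Lib.FFOrd58j

/-!
# First order at a nonsingular point (helper58)

`first_order_expansion`: elements of `k[g₁, …, g_m]` (all `gᵢ` integral at `P`, with residues `cᵢ`)
are congruent modulo `𝔪_P²` to `c₀ + ∑ bᵢ (gᵢ - cᵢ)`.
`ExpData.first_order_eq_one`: if a normalized effective tuple is nonsingular at `P` then its first
order at `P` is `1`.
-/

set_option autoImplicit false

namespace Groth.Agent.Lib.FFExp58

open FunFld Groth.Agent.Lib.H40FunFld LaurentSeries

universe u v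

variable {k : Type u} {K : Type v} [Field k] [Field K] [Algebra k K]

section

variable {P : FunFld.Place k K}

theorem val_mul_le_exp {x y : K} {a b : ℤ} (hx : P.1 x ≤ WithZero.exp a)
    (hy : P.1 y ≤ WithZero.exp b) : P.1 (x * y) ≤ WithZero.exp (a + b) := by
  rw [map_mul, WithZero.exp_add]
  exact mul_le_mul' hx hy

theorem val_algebraMap_mul_le {c : k} {y : K} {b : ℤ} (hy : P.1 y ≤ WithZero.exp b) :
    P.1 (algebraMap k K c * y) ≤ WithZero.exp b := by
  rw [map_mul]
  calc P.1 (algebraMap k K c) * P.1 y ≤ 1 * WithZero.exp b := mul_le_mul' (P.2.1 c) hy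
    _ = WithZero.exp b := one_mul _

theorem first_order_expansion {ι : Type*} [Fintype ι] [DecidableEq ι] (g : ι → K) (c : ι → k)
    (hgc : ∀ i, P.1 (g i - algebraMap k K (c i)) < 1) {a : K}
    (ha : a ∈ Algebra.adjoin k (Set.range g)) :
    ∃ (c₀ : k) (b : ι → k), P.1 (a - algebraMap k K c₀ -
      Fintype.linearCombination k (fun i => g i - algebraMap k K (c i)) b) ≤ WithZero.exp (-2) := by
  set v : ι → K := fun i => g i - algebraMap k K (c i) with hv
  set L := Fintype.linearCombination k v with hL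
  have hLval : ∀ b : ι → k, P.1 (L b) ≤ WithZero.exp (-1) := by
    intro b
    rw [← lt_one_iff_le_exp_neg_one, hL, Fintype.linearCombination_apply]
    apply Valuation.map_sum_lt P.1 one_ne_zero
    intro i _
    rw [Algebra.smul_def, map_mul]
    calc P.1 (algebraMap k K (b i)) * P.1 (v i) ≤ 1 * P.1 (v i) :=
          mul_le_mul_left (P.2.1 (b i)) _
      _ = P.1 (v i) := one_mul _
      _ < 1 := hgc i
  induction ha using Algebra.adjoin_induction with
  | mem x hx =>
    obtain ⟨i, rfl⟩ := hx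
    refine ⟨c i, Pi.single i 1, ?_⟩
    have : L (Pi.single i 1) = v i := by
      rw [hL, Fintype.linearCombination_apply]
      simp [Pi.single_apply, ite_smul]
    rw [this, hv]
    simp
  | algebraMap r =>
    refine ⟨r, 0, ?_⟩
    rw [map_zero, sub_self, sub_zero, map_zero]
    exact zero_le
  | add x y _ _ hx hy =>
    obtain ⟨c₁, b₁, h₁⟩ := hx
    obtain ⟨c₂, b₂, h₂⟩ := hy
    refine ⟨c₁ + c₂, b₁ + b₂, ?_⟩
    have : x + y - algebraMap k K (c₁ + c₂) - L (b₁ + b₂) =
        (x - algebraMap k K c₁ - L b₁) + (y - algebraMap k K c₂ - L b₂) := by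
      rw [map_add, map_add]; ring
    rw [this]
    exact (Valuation.map_add _ _ _).trans (max_le h₁ h₂)
  | mul x y _ _ hx hy =>
    obtain ⟨c₁, b₁, h₁⟩ := hx
    obtain ⟨c₂, b₂, h₂⟩ := hy
    refine ⟨c₁ * c₂, c₁ • b₂ + c₂ • b₁, ?_⟩
    set r₁ := x - algebraMap k K c₁ - L b₁ with hr₁
    set r₂ := y - algebraMap k K c₂ - L b₂ with hr₂
    have hid : x * y - algebraMap k K (c₁ * c₂) - L (c₁ • b₂ + c₂ • b₁) =
        algebraMap k K c₁ * r₂ + algebraMap k K c₂ * r₁ + L b₁ * L b₂ + L b₁ * r₂ + L b₂ * r₁ +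
          r₁ * r₂ := by
      rw [map_add, map_smul, map_smul, Algebra.smul_def, Algebra.smul_def, map_mul, hr₁, hr₂]
      ring
    rw [hid]
    have e1 : P.1 (algebraMap k K c₁ * r₂) ≤ WithZero.exp (-2) := val_algebraMap_mul_le h₂
    have e2 : P.1 (algebraMap k K c₂ * r₁) ≤ WithZero.exp (-2) := val_algebraMap_mul_le h₁
    have e3 : P.1 (L b₁ * L b₂) ≤ WithZero.exp (-2) := val_mul_le_exp (hLval b₁) (hLval b₂)
    have hexp : (WithZero.exp (-3) : WithZero (Multiplicative ℤ)) ≤ WithZero.exp (-2) := by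
      rw [WithZero.exp_le_exp]; omega
    have hexp4 : (WithZero.exp (-4) : WithZero (Multiplicative ℤ)) ≤ WithZero.exp (-2) := by
      rw [WithZero.exp_le_exp]; omega
    have e4 : P.1 (L b₁ * r₂) ≤ WithZero.exp (-2) := (val_mul_le_exp (hLval b₁) h₂).trans hexp
    have e5 : P.1 (L b₂ * r₁) ≤ WithZero.exp (-2) := (val_mul_le_exp (hLval b₂) h₁).trans hexp
    have e6 : P.1 (r₁ * r₂) ≤ WithZero.exp (-2) := (val_mul_le_exp h₁ h₂).trans hexp4
    refine (Valuation.map_add _ _ _).trans (max_le ?_ e6)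
    refine (Valuation.map_add _ _ _).trans (max_le ?_ e5)
    refine (Valuation.map_add _ _ _).trans (max_le ?_ e4)
    refine (Valuation.map_add _ _ _).trans (max_le ?_ e3)
    exact (Valuation.map_add _ _ _).trans (max_le e1 e2)

end

namespace ExpData

variable {P : FunFld.Place k K} {t : K} {Ht : K →ₐ[k] PowerSeries K} (E : ExpData P t Ht)
include E

/-- A normalized effective tuple nonsingular at `P` has a function of order `1` in its span. -/
theorem exists_order_one_of_nonsingular (ht : P.1 t = WithZero.exp (-1))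
    {n : ℕ} (φ : Fin (n + 1) → K)
    (heff : (1 : K) ∈ Submodule.span k (Set.range φ)) (hnorm : ∀ i, P.1 (φ i) ≤ 1)
    (hns : FunFld.IsNonsingularAt φ P) :
    ∃ f ∈ Submodule.span k (Set.range φ), P.1 f = WithZero.exp (-((1 : ℕ) : ℤ)) := by
  classical
  have ht1 : P.1 t ≤ 1 := by
    rw [ht, ← WithZero.exp_zero, WithZero.exp_le_exp]; omega
  obtain ⟨j, hj0, hjmax, u, hu, w, hw, hwv, htw⟩ := hns t ht1
  have hφj : P.1 (φ j) = 1 := by
    apply le_antisymm (hnorm j)
    obtain ⟨i, hi⟩ := exists_val_eq_one φ heff hnorm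
    exact hi.symm.le.trans (hjmax i)
  set g : Fin (n + 1) → K := fun i => φ i / φ j with hg
  have hg1 : ∀ i, P.1 (g i) ≤ 1 := by
    intro i
    rw [hg, map_div₀, hφj, div_one]
    exact hnorm i
  set c : Fin (n + 1) → k := fun i => (E.ψ (g i)).coeff 0 with hc
  have hgc : ∀ i, P.1 (g i - algebraMap k K (c i)) < 1 := fun i => E.hψr (g i) (hg1 i)
  obtain ⟨cu, bu, hu2⟩ := first_order_expansion g c hgc hu
  set L := Fintype.linearCombination k (fun i => g i - algebraMap k K (c i)) with hL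
  have hLval : P.1 (L bu) < 1 := by
    rw [hL, Fintype.linearCombination_apply]
    apply Valuation.map_sum_lt P.1 one_ne_zero
    intro i _
    rw [Algebra.smul_def, map_mul]
    calc P.1 (algebraMap k K (bu i)) * P.1 (g i - algebraMap k K (c i))
        ≤ 1 * P.1 (g i - algebraMap k K (c i)) := mul_le_mul_left (P.2.1 (bu i)) _
      _ = P.1 (g i - algebraMap k K (c i)) := one_mul _
      _ < 1 := hgc i
  have huv : P.1 u = WithZero.exp (-1) := by
    rw [← htw, map_mul, ht, hwv, mul_one]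
  have hlt21 : (WithZero.exp (-2) : WithZero (Multiplicative ℤ)) < WithZero.exp (-1) := by
    rw [WithZero.exp_lt_exp]; omega
  have hlt1 : (WithZero.exp (-1) : WithZero (Multiplicative ℤ)) < 1 := by
    rw [← WithZero.exp_zero, WithZero.exp_lt_exp]; omega
  -- the constant term of `u` vanishes
  have hcu : cu = 0 := by
    by_contra hne
    have h1 : algebraMap k K cu = u - L bu - (u - algebraMap k K cu - L bu) := by ring
    have h2 : P.1 (algebraMap k K cu) < 1 := by
      rw [h1]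
      refine lt_of_le_of_lt (Valuation.map_sub _ _ _) (max_lt ?_ ?_)
      · refine lt_of_le_of_lt (Valuation.map_sub _ _ _) (max_lt ?_ hLval)
        rw [huv]; exact hlt1
      · exact lt_of_le_of_lt hu2 (hlt21.trans hlt1)
    rw [val_algebraMap P hne] at h2
    exact lt_irrefl _ h2
  rw [hcu, map_zero, sub_zero] at hu2
  have hLv : P.1 (L bu) = WithZero.exp (-1) := by
    have h1 : L bu = u - (u - L bu) := by ring
    rw [h1, Valuation.map_sub_eq_of_lt_left, huv]
    rw [huv]
    exact lt_of_le_of_lt hu2 hlt21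
  refine ⟨∑ i, bu i • (φ i - c i • φ j), ?_, ?_⟩
  · refine Submodule.sum_mem _ fun i _ => Submodule.smul_mem _ _ (Submodule.sub_mem _ ?_ ?_)
    · exact Submodule.subset_span ⟨i, rfl⟩
    · exact Submodule.smul_mem _ _ (Submodule.subset_span ⟨j, rfl⟩)
  · have h1 : ∑ i, bu i • (φ i - c i • φ j) = φ j * L bu := by
      rw [hL, Fintype.linearCombination_apply, Finset.mul_sum]
      refine Finset.sum_congr rfl fun i _ => ?_
      rw [mul_smul_comm, hg]
      congr 1
      rw [mul_sub, mul_div_cancel₀ _ hj0, Algebra.smul_def, mul_comm]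
    rw [h1, map_mul, hφj, one_mul, hLv]
    rfl

theorem first_order_eq_one (ht : P.1 t = WithZero.exp (-1)) (hHt : LocRes.IsHasseFamily t Ht)
    {n : ℕ} (hn : 0 < n) (φ : Fin (n + 1) → K)
    (heff : (1 : K) ∈ Submodule.span k (Set.range φ)) (hnorm : ∀ i, P.1 (φ i) ≤ 1)
    (hns : FunFld.IsNonsingularAt φ P) (J' : Fin n → ℕ)
    (hJ' : FunFld.IsOrders (IsLocalRing.ResidueField P.O) (FunFld.hcolAt P Ht φ) J') :
    J' ⟨0, hn⟩ = 1 := by
  obtain ⟨f, hf, hfv⟩ := E.exists_order_one_of_nonsingular ht φ heff hnorm hns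
  have h1 : (1 : ℕ) ∈ Set.range J' :=
    (hJ'.2 1).mpr ((E.isJump_hcolAt_iff hHt φ hnorm 1).mpr ⟨le_rfl, f, hf, hfv⟩)
  obtain ⟨l, hl⟩ := h1
  have h2 : 1 ≤ J' ⟨0, hn⟩ :=
    ((E.isJump_hcolAt_iff hHt φ hnorm _).mp ((hJ'.2 _).mp ⟨⟨0, hn⟩, rfl⟩)).1
  have h3 : J' ⟨0, hn⟩ ≤ J' l := hJ'.1.monotone (Fin.mk_le_of_le_val (Nat.zero_le _))
  omega

end ExpData

end Groth.Agent.Lib.FFExp58
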