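import Groth.Agent.Lib.FFHasseEx58
import Groth.Agent.Lib.FFCanon58
import Groth.Agent.Lib.FFClass58b

/-!
# `τ`-orders of the complete linear system `|mP₀|` at a strong fixed point `P₀` (helper58)

`sum_tau_orders_le`: for `m = n + g`, `n > g`, and `φ` a basis of `L(mP₀)` with `P₀` a strong fixed point of
`τ`, the `τ`-orders satisfy `∑ J ≤ ∑_{l<n} l + g²`.
-/

set_option autoImplicit false

namespace Groth.Agent.Lib.FFExp58

open FunFld Groth.Agent.Lib.H40FunFld LaurentSeries IntermediateField

universe u v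

variable {k : Type u} {K : Type v} [Field k] [Field K] [Algebra k K]

/-- For `r ≥ 2g` there is a function with a pole of exact order `r` at `P` and no other pole. -/
theorem exists_val_eq_exp_of_two_genus_le [IsAlgClosed k] (hK : FunFld.IsFunctionField k K)
    (P : FunFld.Place k K) (r : ℤ) (hr : 2 * (FunFld.genus k K : ℤ) ≤ r) :
    ∃ h ∈ FunFld.L (Finsupp.single P r : FunFld.Divisor k K), P.1 h = WithZero.exp r := by
  classical
  set D : FunFld.Divisor k K := Finsupp.single P r with hD
  have hPdeg : P.deg = 1 := deg_eq_one_of_isAlgClosed hK P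
  have hdegD : D.deg = r := by rw [hD, deg_single, hPdeg]; simp
  have hdegD' : (D - Finsupp.single P 1).deg = r - 1 := by
    rw [deg_sub, hdegD, deg_single, hPdeg]; simp
  have h1 := ell_eq_of_deg_ge hK D (by rw [hdegD]; omega)
  have h2 := ell_eq_of_deg_ge hK (D - Finsupp.single P 1) (by rw [hdegD']; omega)
  rw [hdegD] at h1
  rw [hdegD'] at h2
  have hlt : FunFld.ell (D - Finsupp.single P 1) < FunFld.ell D := by
    have : (FunFld.ell (D - Finsupp.single P 1) : ℤ) < FunFld.ell D := by omega
    exact_mod_cast this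
  have hne : ¬ FunFld.L D ≤ FunFld.L (D - Finsupp.single P 1) := by
    intro h
    have hfd0 := finiteDimensional_L hK (D - Finsupp.single P 1)
    have := Submodule.finrank_mono h
    unfold FunFld.ell at hlt
    omega
  obtain ⟨g₁, hg1, hg2⟩ := Set.not_subset.1 hne
  have hg1' : g₁ ∈ FunFld.L (D - Finsupp.single P 0) := by
    rw [Finsupp.single_zero, sub_zero]; exact hg1
  have hv := val_eq_of_mem_L_sub D P 0 hg1' (by rw [zero_add]; exact hg2)
  rw [sub_zero, hD, Finsupp.single_eq_same] at hv
  exact ⟨g₁, hg1, hv⟩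

/-- A nonzero function whose only pole is at `P` does not vanish at `P`. -/
theorem one_le_val_of_mem_L_single (hK : FunFld.IsFunctionField k K)
    (P : FunFld.Place k K) (m : ℤ) {h : K}
    (hh : h ∈ FunFld.L (Finsupp.single P m : FunFld.Divisor k K)) (h0 : h ≠ 0) : 1 ≤ P.1 h := by
  classical
  by_contra hlt
  rw [not_le] at hlt
  have hL0 : h ∈ FunFld.L (0 : FunFld.Divisor k K) := by
    intro Q
    rw [Finsupp.zero_apply, WithZero.exp_zero]
    by_cases hQ : Q = P
    · subst hQ; exact hlt.le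
    · have := hh Q
      rwa [Finsupp.single_eq_of_ne hQ, WithZero.exp_zero] at this
  rw [L_zero_eq_one hK, Submodule.mem_one] at hL0
  obtain ⟨c, rfl⟩ := hL0
  have hc : c ≠ 0 := by
    rintro rfl
    exact h0 (map_zero _)
  rw [val_algebraMap P hc] at hlt
  exact lt_irrefl _ hlt

theorem sum_fin_ite_ge (n g : ℕ) (hg : g ≤ n) :
    ∑ l : Fin n, (if (l : ℕ) < n - g then (0 : ℤ) else (g : ℤ)) = (g : ℤ) * g := by
  rw [Fin.sum_univ_eq_sum_range (fun i => if i < n - g then (0 : ℤ) else (g : ℤ)) n]
  obtain ⟨a, rfl⟩ : ∃ a, n = a + g := ⟨n - g, by omega⟩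
  rw [Nat.add_sub_cancel, Finset.sum_range_add]
  have h1 : ∑ x ∈ Finset.range a, (if x < a then (0 : ℤ) else (g : ℤ)) = 0 := by
    apply Finset.sum_eq_zero
    intro x hx
    rw [if_pos (Finset.mem_range.mp hx)]
  have h2 : ∑ x ∈ Finset.range g, (if a + x < a then (0 : ℤ) else (g : ℤ)) =
      ∑ _x ∈ Finset.range g, (g : ℤ) := by
    apply Finset.sum_congr rfl
    intro x _
    rw [if_neg (by omega)]
  rw [h1, h2, Finset.sum_const, Finset.card_range, zero_add, nsmul_eq_mul]

end Groth.Agent.Lib.FFExp58
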