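import Groth.Agent.Lib.FFSV58a

/-!
# Bound for the sum of the `τ`-orders of `|(n+g)P₀|` at a strong fixed point (helper58)
-/

set_option autoImplicit false

namespace Groth.Agent.Lib.FFExp58

open FunFld Groth.Agent.Lib.H40FunFld LaurentSeries IntermediateField

universe u v

variable {k : Type u} {K : Type v} [Field k] [Field K] [Algebra k K]

theorem sum_tau_orders_le [IsAlgClosed k] (hK : FunFld.IsFunctionField k K)
    (τ : K →ₐ[k] K) (P : FunFld.Place k K) (hP : FunFld.IsStrongFixedPt τ P)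
    {n : ℕ} (g : ℕ) (hgen : FunFld.genus k K = g) (hgn : g < n)
    (φ : Fin (n + 1) → K) (hφ : LinearIndependent k φ)
    (hspan : Submodule.span k (Set.range φ) =
      FunFld.L (Finsupp.single P ((n : ℤ) + g) : FunFld.Divisor k K))
    (s : K) (H : K →ₐ[k] PowerSeries K) (hH : LocRes.IsHasseFamily s H)
    (J : Fin n → ℕ) (hJ : FunFld.IsOrders K (FunFld.hcol τ H φ) J) :
    ∑ l, (J l : ℤ) ≤ ∑ l : Fin n, ((l : ℕ) : ℤ) + (g : ℤ) * g := by
  classical
  set m : ℤ := (n : ℤ) + g with hm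
  have hn : 0 < n := by omega
  -- local parameter
  obtain ⟨t, ht⟩ := exists_uniformizer P
  obtain ⟨Ψ, hΨ, -, -⟩ := exists_expansion ht (hres_of_isAlgClosed hK P)
  obtain ⟨Ht, hHt⟩ := exists_hasse_of_uniformizer hK H hH Ψ hΨ ht
  obtain ⟨E⟩ := exists_expData hK P t ht Ht hHt
  -- functions with prescribed pole order
  have hpole : ∀ r : ℤ, 2 * (g : ℤ) ≤ r → r ≤ m →
      ∃ h ∈ Submodule.span k (Set.range φ), P.1 h = WithZero.exp r := by
    intro r hr hrm
    obtain ⟨h, hh, hv⟩ := exists_val_eq_exp_of_two_genus_le hK P r (by rw [hgen]; exact hr)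
    refine ⟨h, ?_, hv⟩
    rw [hspan]
    refine L_mono ?_ hh
    exact Finsupp.single_le_single.mpr hrm
  -- normalization
  obtain ⟨hm0, hhm, hvm⟩ := hpole m (by omega) le_rfl
  have hhm0 : hm0 ≠ 0 := by
    rintro rfl
    rw [map_zero] at hvm
    exact WithZero.exp_ne_zero hvm.symm
  set y : K := hm0⁻¹ with hy
  have hy0 : y ≠ 0 := inv_ne_zero hhm0
  have hvy : P.1 y = WithZero.exp (-m) := by rw [hy, map_inv₀, hvm, ← WithZero.exp_neg]
  have hφ'li : LinearIndependent k (y • φ) := linearIndependent_smul hφ hy0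
  have hmem : ∀ f, f ∈ Submodule.span k (Set.range (y • φ)) ↔
      ∃ h ∈ Submodule.span k (Set.range φ), f = y * h := by
    intro f
    rw [Submodule.mem_span_range_iff_exists_fun]
    constructor
    · rintro ⟨a, rfl⟩
      refine ⟨∑ i, a i • φ i, ?_, ?_⟩
      · exact Submodule.sum_mem _ fun i _ => Submodule.smul_mem _ _ (Submodule.subset_span ⟨i, rfl⟩)
      · rw [Finset.mul_sum]
        refine Finset.sum_congr rfl fun i _ => ?_
        rw [Pi.smul_apply, smul_eq_mul, mul_smul_comm]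
    · rintro ⟨h, hh, rfl⟩
      rw [Submodule.mem_span_range_iff_exists_fun] at hh
      obtain ⟨a, rfl⟩ := hh
      refine ⟨a, ?_⟩
      rw [Finset.mul_sum]
      refine Finset.sum_congr rfl fun i _ => ?_
      rw [Pi.smul_apply, smul_eq_mul, mul_smul_comm]
  have heff : (1 : K) ∈ Submodule.span k (Set.range (y • φ)) := by
    rw [hmem]
    exact ⟨hm0, hhm, by rw [hy, inv_mul_cancel₀ hhm0]⟩
  have hnorm : ∀ i, P.1 ((y • φ) i) ≤ 1 := by
    intro i
    have h1 : φ i ∈ FunFld.L (Finsupp.single P m : FunFld.Divisor k K) := by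
      rw [← hspan]; exact Submodule.subset_span ⟨i, rfl⟩
    have h2 := h1 P
    rw [Finsupp.single_eq_same] at h2
    rw [Pi.smul_apply, smul_eq_mul, map_mul, hvy]
    calc WithZero.exp (-m) * P.1 (φ i) ≤ WithZero.exp (-m) * WithZero.exp m :=
          mul_le_mul' le_rfl h2
      _ = 1 := by rw [← WithZero.exp_add, neg_add_cancel, WithZero.exp_zero]
  -- `τ`-orders
  have hJ1 : FunFld.IsOrders K (FunFld.hcol τ H (y • φ)) J :=
    ((Groth.Agent.S12597.result k K hK φ hφ τ s H hH y hy0).1 J).mpr hJ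
  have hJ2 : FunFld.IsOrders K (FunFld.hcol τ Ht (y • φ)) J :=
    ((Groth.Agent.S12598.result k K hK (y • φ) hφ'li τ s H hH t Ht hHt).1 J).mpr hJ1
  obtain ⟨J', hJ'⟩ := exists_orders_at hK P (y • φ) hφ'li heff hnorm t ht Ht hHt
  have hJ'1 : ∀ l, 1 ≤ J' l := fun l =>
    ((E.isJump_hcolAt_iff hHt (y • φ) hnorm (J' l)).mp ((hJ'.2 (J' l)).mp ⟨l, rfl⟩)).1
  have hle := E.tau_orders_le hK τ hP ht hHt hn (y • φ) hφ'li heff hnorm J hJ2 J' hJ'
  have hord : ∀ j : ℕ, j ∈ Set.range J' ↔ 1 ≤ j ∧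
      ∃ f ∈ Submodule.span k (Set.range (y • φ)), P.1 f = WithZero.exp (-(j : ℤ)) :=
    fun j => (hJ'.2 j).trans (E.isJump_hcolAt_iff hHt (y • φ) hnorm j)
  -- (a) `J' l ≤ m`
  have hJ'm : ∀ l, (J' l : ℤ) ≤ m := by
    intro l
    obtain ⟨-, f, hf, hvf⟩ := (hord (J' l)).mp ⟨l, rfl⟩
    obtain ⟨h, hh, rfl⟩ := (hmem f).mp hf
    have hh0 : h ≠ 0 := by
      rintro rfl
      rw [mul_zero, map_zero] at hvf
      exact WithZero.exp_ne_zero hvf.symm
    have h1 := one_le_val_of_mem_L_single hK P m (hspan ▸ hh) hh0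
    rw [map_mul, hvy] at hvf
    have h2 : WithZero.exp (-m) ≤ WithZero.exp (-(J' l : ℤ)) := by
      rw [← hvf]
      calc WithZero.exp (-m) = WithZero.exp (-m) * 1 := (mul_one _).symm
        _ ≤ WithZero.exp (-m) * P.1 h := mul_le_mul' le_rfl h1
    rw [WithZero.exp_le_exp] at h2
    omega
  -- (b) every `j ∈ [1, n - g]` is an order
  have hsmall : ∀ j : ℕ, 1 ≤ j → j ≤ n - g → j ∈ Set.range J' := by
    intro j hj1 hj2
    rw [hord]
    refine ⟨hj1, ?_⟩
    obtain ⟨h, hh, hv⟩ := hpole (m - j) (by omega) (by omega)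
    refine ⟨y * h, (hmem _).mpr ⟨h, hh, rfl⟩, ?_⟩
    rw [map_mul, hvy, hv, ← WithZero.exp_add]
    congr 1
    ring
  -- (c) `J' l = l + 1` for `l < n - g`
  have hJ'small : ∀ (l : ℕ) (hl : l < n), l < n - g → J' ⟨l, hl⟩ = l + 1 := by
    intro l
    induction l with
    | zero =>
      intro hl _
      obtain ⟨a, ha⟩ := hsmall 1 le_rfl (by omega)
      have h1 : J' ⟨0, hl⟩ ≤ J' a := hJ'.1.monotone (Fin.mk_le_of_le_val (Nat.zero_le _))
      have h2 := hJ'1 ⟨0, hl⟩
      omega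
    | succ l ih =>
      intro hl h
      have ih' := ih (by omega) (by omega)
      obtain ⟨a, ha⟩ := hsmall (l + 2) (by omega) (by omega)
      have hlt : (⟨l, by omega⟩ : Fin n) < a := by
        by_contra hna
        have h1 := hJ'.1.monotone (not_lt.mp hna)
        omega
      have h2 : J' ⟨l + 1, hl⟩ ≤ J' a :=
        hJ'.1.monotone (by rw [Fin.le_def]; exact Nat.succ_le_of_lt (Fin.lt_def.mp hlt))
      have h3 : J' ⟨l, by omega⟩ < J' ⟨l + 1, hl⟩ := hJ'.1 (by simp [Fin.lt_def])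
      omega
  -- (d) `J' l ≤ l + g + 1`
  have hJ'big : ∀ l : Fin n, (J' l : ℤ) ≤ (l : ℕ) + g + 1 := by
    have key : ∀ d : ℕ, ∀ l : Fin n, (l : ℕ) + d = n - 1 → (J' l : ℤ) + d ≤ m := by
      intro d
      induction d with
      | zero =>
        intro l _
        simpa using hJ'm l
      | succ d ih =>
        intro l hl
        have hl' : (l : ℕ) + 1 < n := by omega
        have h1 := ih ⟨l + 1, hl'⟩ (by simp only; omega)
        have h2 : J' l < J' ⟨l + 1, hl'⟩ := hJ'.1 (by simp [Fin.lt_def])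
        push_cast
        omega
    intro l
    have h1 := key (n - 1 - l) l (by have := l.2; omega)
    have h2 : ((n - 1 - (l : ℕ) : ℕ) : ℤ) = (n : ℤ) - 1 - (l : ℕ) := by
      have := l.2
      omega
    rw [h2] at h1
    omega
  -- conclusion
  have hJ'0 : J' ⟨0, hn⟩ = 1 := by
    have := hJ'small 0 hn (by omega)
    simpa using this
  have hbound : ∀ l : Fin n,
      (J l : ℤ) ≤ ((l : ℕ) : ℤ) + (if (l : ℕ) < n - g then (0 : ℤ) else (g : ℤ)) := by
    intro l
    have h1 := hle l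
    rw [hJ'0] at h1
    split_ifs with hl
    · have := hJ'small l l.2 hl
      have h3 : J' l = (l : ℕ) + 1 := this
      omega
    · have := hJ'big l
      omega
  calc ∑ l, (J l : ℤ)
      ≤ ∑ l : Fin n, (((l : ℕ) : ℤ) + (if (l : ℕ) < n - g then (0 : ℤ) else (g : ℤ))) :=
        Finset.sum_le_sum fun l _ => hbound l
    _ = ∑ l : Fin n, ((l : ℕ) : ℤ) + (g : ℤ) * g := by
        rw [Finset.sum_add_distrib, sum_fin_ite_ge n g (by omega)]

end Groth.Agent.Lib.FFExp58
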