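import Groth.Agent.Lib.FFSV58b

/-!
# The Stöhr–Voloch bound on strong fixed points in terms of the genus (helper58)

`strong_fixed_points_card_le` (S11053): for `n > g` the number of strong fixed points of `τ` is at most
`1 + deg τ + (n + deg τ / n) g + 2g²(g-1)/n`.
-/

set_option autoImplicit false

namespace Groth.Agent.Lib.FFExp58

open FunFld Groth.Agent.Lib.H40FunFld LaurentSeries IntermediateField

universe u v

variable {k : Type u} {K : Type v} [Field k] [Field K] [Algebra k K]

theorem two_mul_sum_fin (n : ℕ) : 2 * ∑ l : Fin n, ((l : ℕ) : ℤ) = (n : ℤ) * ((n : ℤ) - 1) := by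
  rw [Fin.sum_univ_eq_sum_range (fun i => (i : ℤ)) n]
  induction n with
  | zero => simp
  | succ n ih =>
    rw [Finset.sum_range_succ, mul_add, ih]
    push_cast
    ring

/-- The integral form of the bound. -/
theorem strong_fixed_points_int_bound [IsAlgClosed k] (hK : FunFld.IsFunctionField k K)
    (τ : K →ₐ[k] K) (n : ℕ) (g : ℕ) (hgen : FunFld.genus k K = g) (hn : g < n)
    (P₀ : FunFld.Place k K) (hP₀ : FunFld.IsStrongFixedPt τ P₀) :
    {P : FunFld.Place k K | FunFld.IsStrongFixedPt τ P}.Finite ∧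
    (n : ℤ) * (Set.ncard {P : FunFld.Place k K | FunFld.IsStrongFixedPt τ P} : ℤ) ≤
      ((n : ℤ) + Module.finrank τ.fieldRange K) * ((n : ℤ) + g) +
        ((g : ℤ) - 1) * ((n : ℤ) * ((n : ℤ) - 1)) + 2 * (g : ℤ) ^ 2 * ((g : ℤ) - 1) := by
  classical
  set m : ℤ := (n : ℤ) + g with hm
  set D : FunFld.Divisor k K := Finsupp.single P₀ m with hD
  have hPdeg : P₀.deg = 1 := deg_eq_one_of_isAlgClosed hK P₀
  have hdegD : D.deg = m := by rw [hD, deg_single, hPdeg]; simp
  -- a basis of `L(D)`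
  have hell : FunFld.ell D = n + 1 := by
    have h1 := ell_eq_of_deg_ge hK D (by rw [hdegD, hgen]; omega)
    rw [hdegD, hgen] at h1
    have : (FunFld.ell D : ℤ) = (n : ℤ) + 1 := by omega
    exact_mod_cast this
  have hfd : FiniteDimensional k (FunFld.L D) := finiteDimensional_L hK D
  let b : Module.Basis (Fin (n + 1)) k (FunFld.L D) := Module.finBasisOfFinrankEq k (FunFld.L D) hell
  set φ : Fin (n + 1) → K := fun i => ((b i : FunFld.L D) : K) with hφdef
  have hφ : LinearIndependent k φ :=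
    b.linearIndependent.map' (FunFld.L D).subtype (Submodule.ker_subtype _)
  have hspan : Submodule.span k (Set.range φ) = FunFld.L D := by
    have h1 : Set.range φ = (FunFld.L D).subtype '' Set.range b := by
      rw [← Set.range_comp]; rfl
    rw [h1, Submodule.span_image, b.span_eq, Submodule.map_subtype_top]
  -- functions with prescribed pole order
  have hpole : ∀ r : ℤ, 2 * (g : ℤ) ≤ r → r ≤ m →
      ∃ h ∈ Submodule.span k (Set.range φ), P₀.1 h = WithZero.exp r := by
    intro r hr hrm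
    obtain ⟨h, hh, hv⟩ := exists_val_eq_exp_of_two_genus_le hK P₀ r (by rw [hgen]; exact hr)
    refine ⟨h, ?_, hv⟩
    rw [hspan]
    refine L_mono ?_ hh
    exact Finsupp.single_le_single.mpr hrm
  -- `τ(φ)` is not proportional to `φ`
  have hτφ : ¬ ∃ y : K, ∀ i, τ (φ i) = y * φ i := by
    rintro ⟨y, hy⟩
    have hall : ∀ f ∈ Submodule.span k (Set.range φ), τ f = y * f := by
      intro f hf
      induction hf using Submodule.span_induction with
      | mem x hx => obtain ⟨i, rfl⟩ := hx; exact hy i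
      | zero => simp
      | add a b _ _ ha hb => rw [map_add, ha, hb, mul_add]
      | smul c a _ ha => rw [map_smul, ha, mul_smul_comm]
    have h1mem : (1 : K) ∈ Submodule.span k (Set.range φ) := by
      rw [hspan]
      intro Q
      rw [map_one, ← WithZero.exp_zero, WithZero.exp_le_exp, hD]
      by_cases hQ : Q = P₀
      · subst hQ; rw [Finsupp.single_eq_same]; omega
      · rw [Finsupp.single_eq_of_ne hQ]
    have hy1 : y = 1 := by
      have := hall 1 h1mem
      rw [map_one, mul_one] at this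
      exact this.symm
    obtain ⟨a, ha, hva⟩ := hpole m (by omega) le_rfl
    obtain ⟨c, hc, hvc⟩ := hpole (m - 1) (by omega) (by omega)
    have hτa : τ a = a := by rw [hall a ha, hy1, one_mul]
    have hτc : τ c = c := by rw [hall c hc, hy1, one_mul]
    have hvz : P₀.1 (c / a) = WithZero.exp (-1) := by
      rw [map_div₀, hva, hvc, ← WithZero.exp_sub]
      congr 1
      ring
    have h2 := hP₀ (c / a) (by rw [hvz, ← WithZero.exp_zero, WithZero.exp_lt_exp]; omega)
    rw [map_div₀, hτa, hτc, hvz, WithZero.exp_le_exp] at h2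
    omega
  -- Hasse family and `τ`-orders
  obtain ⟨s, H, hH⟩ := exists_hasseFamily hK
  obtain ⟨J, hJ, -⟩ := Groth.Agent.S12600.result k K hK φ hφ τ s H hH
  obtain ⟨hfin, hbound⟩ := strong_fixed_points_bound hK τ φ hφ hτφ s H hH J hJ
  refine ⟨hfin, ?_⟩
  rw [hgen] at hbound
  -- the degree of `φ`
  have hdegφ : (FunFld.mapDiv k φ).deg ≤ m := by
    have hle : FunFld.mapDiv k φ ≤ D := by
      rw [Finsupp.le_def]
      intro Q
      rw [mapDiv_apply' hK φ Q, neg_le, Finset.le_inf'_iff]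
      intro i _
      have h1 : φ i ∈ FunFld.L D := (b i).2
      have h2 := h1 Q
      have h0 : Q.1 (φ i) ≠ 0 := (Valuation.ne_zero_iff Q.1).mpr (hφ.ne_zero i)
      have h3 := (WithZero.log_le_iff_le_exp h0).mpr h2
      unfold FunFld.Place.ord
      linarith
    calc (FunFld.mapDiv k φ).deg ≤ D.deg := deg_mono hle
      _ = m := hdegD
  -- the sum of the `τ`-orders
  have hS := two_mul_sum_fin n
  have hsumJ : (2 * (g : ℤ) - 2) * ∑ l, (J l : ℤ) ≤
      ((g : ℤ) - 1) * ((n : ℤ) * ((n : ℤ) - 1)) + 2 * (g : ℤ) ^ 2 * ((g : ℤ) - 1) := by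
    rcases Nat.eq_zero_or_pos g with hg0 | hgpos
    · -- genus zero: lower bound for the orders
      have hlow : ∑ l : Fin n, ((l : ℕ) : ℤ) ≤ ∑ l, (J l : ℤ) := by
        apply Finset.sum_le_sum
        intro l _
        have := le_of_strictMono_fin J hJ.1 0 (fun _ => Nat.zero_le _) l
        exact_mod_cast (by omega : (l : ℕ) ≤ J l)
      rw [hg0]
      push_cast
      nlinarith
    · have hup := sum_tau_orders_le hK τ P₀ hP₀ g hgen hn φ hφ (by rw [hspan]) s H hH J hJ
      have hg1 : (0 : ℤ) ≤ 2 * (g : ℤ) - 2 := by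
        have : (1 : ℤ) ≤ g := by exact_mod_cast hgpos
        omega
      calc (2 * (g : ℤ) - 2) * ∑ l, (J l : ℤ)
          ≤ (2 * (g : ℤ) - 2) * (∑ l : Fin n, ((l : ℕ) : ℤ) + (g : ℤ) * g) :=
            mul_le_mul_of_nonneg_left hup hg1
        _ = ((g : ℤ) - 1) * (2 * ∑ l : Fin n, ((l : ℕ) : ℤ)) + 2 * (g : ℤ) ^ 2 * ((g : ℤ) - 1) := by
            ring
        _ = _ := by rw [hS]
  have hd0 : (0 : ℤ) ≤ (n : ℤ) + Module.finrank τ.fieldRange K := by positivity
  calc (n : ℤ) * (Set.ncard {P : FunFld.Place k K | FunFld.IsStrongFixedPt τ P} : ℤ)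
      ≤ ((n : ℤ) + Module.finrank τ.fieldRange K) * (FunFld.mapDiv k φ).deg +
        (2 * (g : ℤ) - 2) * ∑ l, (J l : ℤ) := hbound
    _ ≤ ((n : ℤ) + Module.finrank τ.fieldRange K) * m +
        (((g : ℤ) - 1) * ((n : ℤ) * ((n : ℤ) - 1)) + 2 * (g : ℤ) ^ 2 * ((g : ℤ) - 1)) :=
        add_le_add (mul_le_mul_of_nonneg_left hdegφ hd0) hsumJ
    _ = _ := by rw [hm]; ring

end Groth.Agent.Lib.FFExp58
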