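import Groth.Agent.Lib.FFSV58c

/-!
# The Stöhr–Voloch bound on strong fixed points, real form (helper58)
-/

set_option autoImplicit false

namespace Groth.Agent.Lib.FFExp58

open FunFld Groth.Agent.Lib.H40FunFld

universe u v

variable {k : Type u} {K : Type v} [Field k] [Field K] [Algebra k K]

theorem strong_fixed_points_card_le [IsAlgClosed k] (hK : FunFld.IsFunctionField k K)
    (τ : K →ₐ[k] K) (n : ℕ) (hn : FunFld.genus k K < n) :
    {P : FunFld.Place k K | ∀ x : K, P.1 x < 1 → P.1 (τ x) ≤ WithZero.exp (-2)}.Finite ∧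
    (Set.ncard {P : FunFld.Place k K | ∀ x : K, P.1 x < 1 → P.1 (τ x) ≤ WithZero.exp (-2)} : ℝ) ≤
      1 + Module.finrank τ.fieldRange K +
        (n + (Module.finrank τ.fieldRange K : ℝ) / n) * FunFld.genus k K +
        2 * (FunFld.genus k K : ℝ) ^ 2 * (FunFld.genus k K - 1) / n := by
  classical
  have hset : {P : FunFld.Place k K | ∀ x : K, P.1 x < 1 → P.1 (τ x) ≤ WithZero.exp (-2)} =
      {P : FunFld.Place k K | FunFld.IsStrongFixedPt τ P} := rfl
  rw [hset]
  set g := FunFld.genus k K with hg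
  set d := Module.finrank τ.fieldRange K with hd
  have hn0 : 0 < n := by omega
  have hnR : (0 : ℝ) < n := by exact_mod_cast hn0
  have hgR : (0 : ℝ) ≤ g := Nat.cast_nonneg _
  have hdR : (0 : ℝ) ≤ d := Nat.cast_nonneg _
  by_cases hex : ∃ P₀ : FunFld.Place k K, FunFld.IsStrongFixedPt τ P₀
  · obtain ⟨P₀, hP₀⟩ := hex
    obtain ⟨hfin, hb⟩ := strong_fixed_points_int_bound hK τ n g rfl hn P₀ hP₀
    refine ⟨hfin, ?_⟩
    set N := Set.ncard {P : FunFld.Place k K | FunFld.IsStrongFixedPt τ P} with hN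
    have hbR : (n : ℝ) * N ≤ ((n : ℝ) + d) * ((n : ℝ) + g) +
        ((g : ℝ) - 1) * ((n : ℝ) * ((n : ℝ) - 1)) + 2 * (g : ℝ) ^ 2 * ((g : ℝ) - 1) := by
      exact_mod_cast hb
    have e : (1 + (d : ℝ) + ((n : ℝ) + (d : ℝ) / n) * g + 2 * (g : ℝ) ^ 2 * ((g : ℝ) - 1) / n) * n =
        ((n : ℝ) + d) * ((n : ℝ) + g) +
        ((g : ℝ) - 1) * ((n : ℝ) * ((n : ℝ) - 1)) + 2 * (g : ℝ) ^ 2 * ((g : ℝ) - 1) := by
      field_simp
      ring
    apply le_of_mul_le_mul_right _ hnR
    rw [e, mul_comm]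
    exact hbR
  · have hempty : {P : FunFld.Place k K | FunFld.IsStrongFixedPt τ P} = ∅ := by
      rw [Set.eq_empty_iff_forall_notMem]
      intro P hP
      exact hex ⟨P, hP⟩
    rw [hempty]
    refine ⟨Set.finite_empty, ?_⟩
    rw [Set.ncard_empty, Nat.cast_zero]
    rcases Nat.eq_zero_or_pos g with hg0 | hgpos
    · rw [hg0]
      simp only [Nat.cast_zero, mul_zero, add_zero]
      have : (0 : ℝ) ≤ 2 * (0 : ℝ) ^ 2 * (0 - 1) / n := by norm_num
      linarith
    · have hg1 : (1 : ℝ) ≤ g := by exact_mod_cast hgpos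
      have h1 : (0 : ℝ) ≤ ((n : ℝ) + (d : ℝ) / n) * g := by positivity
      have h2 : (0 : ℝ) ≤ 2 * (g : ℝ) ^ 2 * ((g : ℝ) - 1) / n := by
        apply div_nonneg _ hnR.le
        apply mul_nonneg (by positivity)
        linarith
      linarith

end Groth.Agent.Lib.FFExp58
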