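import Groth.Agent.Lib.FlatLimGlobal64
import Groth.Agent.Lib.SrcLocalRing

/-!
# Descent of faithful flatness to a finitely generated stage (helper64)

* `faithfullyFlat_of_stage`: base change of faithful flatness of `A ⊗[k] S₀` over `A` to any
  `k`-algebra `T` receiving a map from `A`.
* `exists_fg_faithfullyFlat`: `k` Noetherian, `S₀` of finite type over `k`, `R` a `k`-algebra with
  `R ⊗[k] S₀` faithfully flat over `R`. Then there is a finitely generated subalgebra `A ⊆ R` with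
  `A ⊗[k] S₀` faithfully flat over `A` (Stacks 02JO-type limit argument).
-/

set_option autoImplicit false
set_option maxHeartbeats 400000

namespace Groth.Agent.Lib.FFStage64

open TensorProduct Function Groth.Agent.Lib.FlatLimStage88 Groth.Agent.Lib.FlatLimCore88
  Groth.Agent.Lib.FlatLimGlobal64

universe u

section BC

variable {k A T S₀ : Type u} [CommRing k] [CommRing A] [Algebra k A] [CommRing T] [Algebra k T]
  [CommRing S₀] [Algebra k S₀]

/-- Faithful flatness of a stage persists after base change. -/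
theorem faithfullyFlat_of_stage (φ : A →ₐ[k] T) [Module.FaithfullyFlat A (A ⊗[k] S₀)] :
    Module.FaithfullyFlat T (T ⊗[k] S₀) := by
  let _ : Algebra A T := φ.toRingHom.toAlgebra
  have : IsScalarTower k A T := IsScalarTower.of_algebraMap_eq (fun x => (φ.commutes x).symm)
  exact Module.FaithfullyFlat.of_linearEquiv T (T ⊗[A] (A ⊗[k] S₀))
    (Algebra.TensorProduct.cancelBaseChange k A T T S₀).symm.toLinearEquiv

/-- Flatness of a stage persists after base change. -/
theorem flat_of_stage (φ : A →ₐ[k] T) [Module.Flat A (A ⊗[k] S₀)] :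
    Module.Flat T (T ⊗[k] S₀) := by
  let _ : Algebra A T := φ.toRingHom.toAlgebra
  have : IsScalarTower k A T := IsScalarTower.of_algebraMap_eq (fun x => (φ.commutes x).symm)
  exact Module.Flat.of_linearEquiv
    (Algebra.TensorProduct.cancelBaseChange k A T T S₀).symm.toLinearEquiv

end BC

section Main

variable {k R S₀ : Type u} [CommRing k] [IsNoetherianRing k] [CommRing R] [Algebra k R]
  [CommRing S₀] [Algebra k S₀] [Algebra.FiniteType k S₀]

theorem exists_fg_faithfullyFlat [Module.FaithfullyFlat R (R ⊗[k] S₀)] :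
    ∃ A : Subalgebra k R, A.FG ∧ Module.FaithfullyFlat A (A ⊗[k] S₀) := by
  classical
  have hfp : Algebra.FinitePresentation k S₀ := Algebra.FinitePresentation.of_finiteType.mp inferInstance
  obtain ⟨A₁, hA₁, hflat⟩ := exists_fg_flat_global (k := k) (R := R) S₀ (M₀ := S₀)
  have hfl₁ : Module.Flat A₁ (A₁ ⊗[k] S₀) := hflat A₁ (AlgHom.id k A₁)
  -- the open image at stage `A₁`
  have hopen : IsOpenMap (PrimeSpectrum.comap (algebraMap A₁ (A₁ ⊗[k] S₀))) :=
    PrimeSpectrum.isOpenMap_comap_of_hasGoingDown_of_finitePresentation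
  set W₁ := Set.range (PrimeSpectrum.comap (algebraMap A₁ (A₁ ⊗[k] S₀))) with hW₁def
  have hW₁ : IsOpen W₁ := hopen.isOpen_range
  let I₁ : Ideal A₁ := PrimeSpectrum.vanishingIdeal W₁ᶜ
  have hI₁ : PrimeSpectrum.zeroLocus (I₁ : Set A₁) = W₁ᶜ := by
    rw [PrimeSpectrum.zeroLocus_vanishingIdeal_eq_closure, hW₁.isClosed_compl.closure_eq]
  have hrange : ∀ p : PrimeSpectrum R, PrimeSpectrum.comap (algebraMap A₁ R) p ∈ W₁ := by
    intro p
    obtain ⟨q, rfl⟩ := PrimeSpectrum.comap_surjective_of_faithfullyFlat (B := R ⊗[k] S₀) p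
    refine ⟨PrimeSpectrum.comap (sMap A₁.val S₀).toRingHom q, ?_⟩
    rw [← PrimeSpectrum.comap_comp_apply, ← PrimeSpectrum.comap_comp_apply]
    congr 1
  have htop : I₁.map (algebraMap A₁ R) = ⊤ := by
    rw [← PrimeSpectrum.zeroLocus_empty_iff_eq_top, Ideal.map, PrimeSpectrum.zeroLocus_span,
      ← PrimeSpectrum.preimage_comap_zeroLocus, hI₁]
    ext q
    simp [hrange q]
  have h1mem : (1 : R) ∈ Submodule.span R ((algebraMap A₁ R) '' (I₁ : Set A₁)) := by
    have h2 : (1 : R) ∈ I₁.map (algebraMap A₁ R) := by rw [htop]; trivial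
    exact h2
  obtain ⟨l, hl, hl1⟩ := (Finsupp.mem_span_image_iff_linearCombination R).1 h1mem
  -- the bigger stage
  let F : Set R := l '' (l.support : Set A₁)
  have hF : F.Finite := l.support.finite_toSet.image _
  let A₂ : Subalgebra k R := A₁ ⊔ Algebra.adjoin k F
  have hA₂ : A₂.FG := hA₁.sup (Subalgebra.fg_def.mpr ⟨F, hF, rfl⟩)
  have hle : A₁ ≤ A₂ := le_sup_left
  have hFA₂ : ∀ i ∈ l.support, l i ∈ A₂ := fun i hi =>
    (le_sup_right : Algebra.adjoin k F ≤ A₂) (Algebra.subset_adjoin ⟨i, hi, rfl⟩)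
  refine ⟨A₂, hA₂, ?_⟩
  have hfl₂ : Module.Flat A₂ (A₂ ⊗[k] S₀) := hflat A₂ (Subalgebra.inclusion hle)
  refine Module.FaithfullyFlat.of_comap_surjective ?_
  intro p₂
  let _ : Algebra A₁ A₂ := (Subalgebra.inclusion hle).toRingHom.toAlgebra
  have : IsScalarTower k A₁ A₂ := IsScalarTower.of_algebraMap_eq (fun x => rfl)
  have hp₁ : PrimeSpectrum.comap (algebraMap A₁ A₂) p₂ ∈ W₁ := by
    by_contra hcon
    have h1 : PrimeSpectrum.comap (algebraMap A₁ A₂) p₂ ∈ PrimeSpectrum.zeroLocus (I₁ : Set A₁) := by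
      rw [hI₁]; exact hcon
    have hmem : ∀ i ∈ l.support, algebraMap A₁ A₂ i ∈ p₂.asIdeal := fun i hi => by
      have h2 : i ∈ (I₁ : Set A₁) := (Finsupp.mem_supported _ _).1 hl hi
      exact ((PrimeSpectrum.mem_zeroLocus _ _).1 h1) h2
    let c' : A₁ → A₂ := fun i => if h : l i ∈ A₂ then ⟨l i, h⟩ else 0
    have hu : (∑ i ∈ l.support, c' i * algebraMap A₁ A₂ i) ∈ p₂.asIdeal :=
      Ideal.sum_mem _ (fun i hi => Ideal.mul_mem_left _ _ (hmem i hi))
    have hu1 : (∑ i ∈ l.support, c' i * algebraMap A₁ A₂ i) = 1 := by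
      apply Subtype.ext
      rw [OneMemClass.coe_one, ← hl1, Finsupp.linearCombination_apply, Finsupp.sum]
      simp only [AddSubmonoidClass.coe_finsetSum, MulMemClass.coe_mul]
      refine Finset.sum_congr rfl (fun i hi => ?_)
      simp only [c', dif_pos (hFA₂ i hi), smul_eq_mul]
      rfl
    rw [hu1] at hu
    exact p₂.isPrime.ne_top ((Ideal.eq_top_iff_one _).2 hu)
  obtain ⟨q₁, hq₁⟩ := hp₁
  obtain ⟨z, hz, -⟩ := Groth.Agent.Lib.SrcLocalRing.exists_prime_tensorProduct (R := A₁)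
    (S := A₂) (T := A₁ ⊗[k] S₀) p₂ q₁ hq₁.symm
  let e := Algebra.TensorProduct.cancelBaseChange k A₁ A₂ A₂ S₀
  refine ⟨PrimeSpectrum.comap e.symm.toAlgHom.toRingHom z, ?_⟩
  rw [← hz, ← PrimeSpectrum.comap_comp_apply]
  congr 1

end Main

end Groth.Agent.Lib.FFStage64
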