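import Groth.Agent.Lib.FFWeil58f
import Groth.Agent.Lib.FFCanon58
import Groth.Agent.S12611

/-!
# The canonical map: divisor, classical orders, degree of the Weierstrass divisor (helper58)
-/

set_option autoImplicit false

namespace Groth.Agent.Lib.FFExp58

open FunFld Groth.Agent.Lib.H40FunFld LaurentSeries IntermediateField

universe u v

variable {k : Type u} {K : Type v} [Field k] [Field K] [Algebra k K]

/-- The divisor of the canonical map is the canonical divisor. -/
theorem mapDiv_canonical [IsAlgClosed k] (hK : FunFld.IsFunctionField k K)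
    (hgen : 0 < FunFld.genus k K)
    (C : FunFld.Divisor k K) (hC : FunFld.IsCanonical k K C)
    {n : ℕ} (φ : Fin (n + 1) → K) (hφ : LinearIndependent k φ)
    (hspan : Submodule.span k (Set.range φ) = FunFld.L C) :
    FunFld.mapDiv k φ = C := by
  classical
  ext P
  rw [mapDiv_apply' hK φ P]
  have hPdeg : P.deg = 1 := deg_eq_one_of_isAlgClosed hK P
  have hφ0 : ∀ i, φ i ≠ 0 := fun i => hφ.ne_zero i
  have hmemL : ∀ i, φ i ∈ FunFld.L C := fun i => by
    rw [← hspan]; exact Submodule.subset_span ⟨i, rfl⟩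
  -- a function of exact order `-C P`
  have hlt := ell_sub_single_lt_ell hK hgen C (Or.inr hC) hPdeg
  have hne : ¬ FunFld.L C ≤ FunFld.L (C - Finsupp.single P 1) := by
    intro h
    have hfd0 := finiteDimensional_L hK (C - Finsupp.single P 1)
    have := Submodule.finrank_mono h
    unfold FunFld.ell at hlt
    omega
  obtain ⟨g₁, hg1, hg2⟩ := Set.not_subset.1 hne
  have hg1' : g₁ ∈ FunFld.L (C - Finsupp.single P 0) := by
    rw [Finsupp.single_zero, sub_zero]; exact hg1
  have hv := val_eq_of_mem_L_sub C P 0 hg1' (by rw [zero_add]; exact hg2)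
  rw [sub_zero] at hv
  have hg10 : g₁ ≠ 0 := by
    rintro rfl
    rw [map_zero] at hv
    exact WithZero.exp_ne_zero hv.symm
  have hordg : P.ord g₁ = -(C P) := by
    unfold FunFld.Place.ord
    rw [hv, WithZero.log_exp]
  have h1 := inf_ord_le_of_mem_span P φ hφ0 hg10 (by rw [hspan]; exact hg1)
  have h2 : -(C P) ≤ Finset.univ.inf' Finset.univ_nonempty (fun i => P.ord (φ i)) := by
    rw [Finset.le_inf'_iff]
    intro i _
    have h3 := hmemL i P
    have h0 : P.1 (φ i) ≠ 0 := (Valuation.ne_zero_iff P.1).mpr (hφ0 i)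
    have h4 := (WithZero.log_le_iff_le_exp h0).mpr h3
    unfold FunFld.Place.ord
    omega
  omega

/-- The orders of a tuple are classical when the characteristic is `0` or larger than its degree. -/
theorem orders_classical [IsAlgClosed k] (hK : FunFld.IsFunctionField k K)
    {n : ℕ} (φ : Fin (n + 1) → K) (hφ : LinearIndependent k φ)
    (hchar : ringChar k = 0 ∨ (FunFld.mapDiv k φ).deg < ringChar k)
    (s : K) (H : K →ₐ[k] PowerSeries K) (hH : LocRes.IsHasseFamily s H)
    (J : Fin n → ℕ) (hJ : FunFld.IsOrders K (FunFld.hcol (AlgHom.id k K) H φ) J) :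
    J = fun l : Fin n => (l : ℕ) + 1 := by
  classical
  obtain ⟨P⟩ := exists_place hK
  have hP : FunFld.IsFixedPt (AlgHom.id k K) P := fun z hz => hz
  have hle := orders_le_of_binom hK φ hφ (AlgHom.id k K) P hP s H hH J hJ
    (fun l : Fin n => (l : ℕ) + 1) (fun a b hab => by simpa using hab)
    (Or.inl fun l => Nat.succ_pos _)
    (fun J' hJ' h1 hd => Groth.Agent.S12611.binom_succ_ne_zero hchar J' hJ' h1 hd)
  have hJ1 : ∀ l, 1 ≤ J l := by
    intro l
    by_contra hlt
    have hJl : J l = 0 := by omega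
    have hjump := (hJ.2 (J l)).mp ⟨l, rfl⟩
    rw [hJl] at hjump
    apply hjump
    have h01 : FunFld.hcol (AlgHom.id k K) H φ (0 + 1) = FunFld.hcol (AlgHom.id k K) H φ 0 := by
      funext i
      simp only [FunFld.hcol]
      rw [ExpData.hasseD_zero hH]
      rfl
    rw [h01]
    exact Submodule.subset_span ⟨0, by simp, rfl⟩
  have hge := le_of_strictMono_fin J hJ.1 1 hJ1
  funext l
  exact le_antisymm (hle l) (hge l)

theorem finrank_fieldRange_id : Module.finrank (AlgHom.id k K).fieldRange K = 1 := by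
  have h : (AlgHom.id k K).fieldRange = ⊤ := by
    rw [AlgHom.fieldRange_eq_top]
    exact Function.surjective_id
  rw [h]
  exact IntermediateField.finrank_top

theorem two_mul_sum_fin_succ (n : ℕ) :
    2 * ∑ l : Fin n, (((l : ℕ) + 1 : ℕ) : ℤ) = (n : ℤ) * ((n : ℤ) + 1) := by
  rw [Fin.sum_univ_eq_sum_range (fun i => ((i + 1 : ℕ) : ℤ)) n]
  induction n with
  | zero => simp
  | succ n ih =>
    rw [Finset.sum_range_succ, mul_add, ih]
    push_cast
    ring

/-- The degree of the Weierstrass divisor of the canonical map is `(g - 1) g (g + 1)`,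
written as `(2g + 2) · ∑_{l < n} (l + 1)` with `n = g - 1`. -/
theorem deg_wDiv_canonical [IsAlgClosed k] (hK : FunFld.IsFunctionField k K)
    (hgen : 0 < FunFld.genus k K)
    (C : FunFld.Divisor k K) (hC : FunFld.IsCanonical k K C)
    {n : ℕ} (φ : Fin (n + 1) → K) (hφ : LinearIndependent k φ)
    (hspan : Submodule.span k (Set.range φ) = FunFld.L C)
    (s : K) (H : K →ₐ[k] PowerSeries K) (hH : LocRes.IsHasseFamily s H)
    (Φ : FunFld.Place k K → (K →ₐ[k] LaurentSeries k))
    (hΦ : ∀ P : FunFld.Place k K, LocRes.IsExpansionAt P.1 (Φ P)) :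
    n + 1 = FunFld.genus k K ∧
    (FunFld.wDiv (AlgHom.id k K) H Φ s φ (fun l : Fin n => (l : ℕ) + 1)).deg =
      (2 * (FunFld.genus k K : ℤ) + 2) * ∑ l : Fin n, (((l : ℕ) + 1 : ℕ) : ℤ) := by
  have hn : n + 1 = FunFld.genus k K := by
    rw [← ell_canonical hK hC]
    unfold FunFld.ell
    rw [← hspan, finrank_span_eq_card hφ, Fintype.card_fin]
  refine ⟨hn, ?_⟩
  rw [deg_wDiv hK φ (AlgHom.id k K) s H hH _ Φ hΦ, finrank_fieldRange_id,
    mapDiv_canonical hK hgen C hC φ hφ hspan, deg_canonical hK hC]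
  have h2 := two_mul_sum_fin_succ n
  have hg : (FunFld.genus k K : ℤ) = (n : ℤ) + 1 := by exact_mod_cast hn.symm
  rw [hg]
  push_cast at h2 ⊢
  nlinarith

end Groth.Agent.Lib.FFExp58
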