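import Groth.Agent.Lib.FFWP58a

/-!
# The Weierstrass weight of a place for the canonical map (helper58)

`canonical_weight`: at every place `P`, the coefficient of `W(φ)` (canonical map, classical orders) is
`∑ (j'ₗ - (l+1))` where `j'ₗ + 1` runs through the gaps at `P` other than `1`.
-/

set_option autoImplicit false

namespace Groth.Agent.Lib.FFExp58

open FunFld Groth.Agent.Lib.H40FunFld LaurentSeries IntermediateField

universe u v

variable {k : Type u} {K : Type v} [Field k] [Field K] [Algebra k K]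

theorem canonical_weight [IsAlgClosed k] (hK : FunFld.IsFunctionField k K)
    (hgen : 0 < FunFld.genus k K)
    (hchar : ringChar k = 0 ∨ 2 * (FunFld.genus k K : ℤ) - 2 < ringChar k)
    (C : FunFld.Divisor k K) (hC : FunFld.IsCanonical k K C)
    {n : ℕ} (φ : Fin (n + 1) → K) (hφ : LinearIndependent k φ)
    (hspan : Submodule.span k (Set.range φ) = FunFld.L C)
    (s : K) (H : K →ₐ[k] PowerSeries K) (hH : LocRes.IsHasseFamily s H)
    (hJ : FunFld.IsOrders K (FunFld.hcol (AlgHom.id k K) H φ) (fun l : Fin n => (l : ℕ) + 1))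
    (Φ : FunFld.Place k K → (K →ₐ[k] LaurentSeries k))
    (hΦ : ∀ P : FunFld.Place k K, LocRes.IsExpansionAt P.1 (Φ P)) (P : FunFld.Place k K) :
    ∃ J' : Fin n → ℕ, StrictMono J' ∧ (∀ l, 1 ≤ J' l) ∧
      (∀ j : ℕ, 1 ≤ j → (j ∈ Set.range J' ↔ IsGap P (j + 1))) ∧
      FunFld.wDiv (AlgHom.id k K) H Φ s φ (fun l : Fin n => (l : ℕ) + 1) P =
        ∑ l, ((J' l : ℤ) - (((l : ℕ) + 1 : ℕ) : ℤ)) := by
  classical
  set J : Fin n → ℕ := fun l : Fin n => (l : ℕ) + 1 with hJdef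
  -- local parameter and its Hasse family
  obtain ⟨t, ht⟩ := exists_uniformizer P
  obtain ⟨Ht, hHt⟩ := exists_hasse_of_uniformizer hK H hH (Φ P) (hΦ P) ht
  obtain ⟨E⟩ := exists_expData hK P t ht Ht hHt
  -- normalization
  obtain ⟨i₀, -, hi₀⟩ := Finset.exists_max_image Finset.univ (fun i => P.1 (φ i))
    Finset.univ_nonempty
  have hφi₀ : φ i₀ ≠ 0 := hφ.ne_zero i₀
  set y : K := (φ i₀)⁻¹ with hy
  have hy0 : y ≠ 0 := inv_ne_zero hφi₀
  have hφ' : ∀ i, (y • φ) i = y * ∑ j, (1 : Matrix (Fin (n + 1)) (Fin (n + 1)) k) i j • φ j := by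
    intro i
    simp [Matrix.one_apply, ite_smul]
  have hinv := wDiv_invariant hK φ hφ (AlgHom.id k K) s H hH t Ht hHt J hJ 1
    (by rw [Matrix.det_one]; exact one_ne_zero) y hy0 (y • φ) hφ' Φ hΦ
  have hφ'li : LinearIndependent k (y • φ) := linearIndependent_smul hφ hy0
  have heff : (1 : K) ∈ Submodule.span k (Set.range (y • φ)) := by
    have : (y • φ) i₀ = 1 := by simp [hy, inv_mul_cancel₀ hφi₀]
    rw [← this]
    exact Submodule.subset_span ⟨i₀, rfl⟩
  have hnorm' : ∀ i, P.1 (y * φ i) ≤ 1 := by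
    intro i
    have hv0 : P.1 (φ i₀) ≠ 0 := (Valuation.ne_zero_iff P.1).mpr hφi₀
    simp only [hy, map_mul, map_inv₀]
    rw [inv_mul_le_iff₀ (zero_lt_iff.mpr hv0), mul_one]
    exact hi₀ i (Finset.mem_univ i)
  have hnorm : ∀ i, P.1 ((y • φ) i) ≤ 1 := fun i => by simpa using hnorm' i
  -- orders of `y • φ` with respect to `Ht`
  have hJ1 : FunFld.IsOrders K (FunFld.hcol (AlgHom.id k K) H (y • φ)) J :=
    ((Groth.Agent.S12597.result k K hK φ hφ (AlgHom.id k K) s H hH y hy0).1 J).mpr hJ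
  have hJ2 : FunFld.IsOrders K (FunFld.hcol (AlgHom.id k K) Ht (y • φ)) J :=
    ((Groth.Agent.S12598.result k K hK (y • φ) hφ'li (AlgHom.id k K) s H hH t Ht hHt).1 J).mpr hJ1
  -- orders at `P`
  obtain ⟨J', hJ'⟩ := exists_orders_at hK P (y • φ) hφ'li heff hnorm t ht Ht hHt
  have hJ'1 : ∀ l, 1 ≤ J' l := fun l =>
    ((E.isJump_hcolAt_iff hHt (y • φ) hnorm (J' l)).mp ((hJ'.2 (J' l)).mp ⟨l, rfl⟩)).1
  -- degree bound
  have hdegφ : (FunFld.mapDiv k φ).deg = 2 * (FunFld.genus k K : ℤ) - 2 := by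
    rw [mapDiv_canonical hK hgen C hC φ hφ hspan, deg_canonical hK hC]
  have hdeg : (FunFld.mapDiv k (y • φ)).deg = (FunFld.mapDiv k φ).deg :=
    deg_mapDiv_smul hK φ (fun i => hφ.ne_zero i) hy0
  have hJ'd : ∀ l, (J' l : ℤ) ≤ 2 * (FunFld.genus k K : ℤ) - 2 := fun l => by
    rw [← hdegφ, ← hdeg]
    exact E.order_le_deg hK hHt (y • φ) (fun i => hφ'li.ne_zero i) heff hnorm J' hJ' l
  have hb : (FunFld.binomMat k J' J).det ≠ 0 :=
    Groth.Agent.S12611.binom_succ_ne_zero hchar J' hJ'.1 hJ'1 hJ'd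
  have hW := ((E.wDiv_at_fixed_point hK (AlgHom.id k K) (fun z hz => hz) ht hHt (y • φ) hφ'li
    heff hnorm J hJ2 J' hJ' Φ hΦ).2 (Or.inl rfl)).mpr hb
  refine ⟨J', hJ'.1, hJ'1, ?_, ?_⟩
  · intro j hj
    rw [hJ'.2 j, canonical_orders_iff_gap hK C hC φ hφ hspan P y hy0 heff hnorm' t ht Ht hHt j hj]
    unfold IsGap
    push_cast
    rw [add_sub_cancel_right]
  · rw [← hinv, hW]

end Groth.Agent.Lib.FFExp58
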