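import Groth.Agent.Lib.FFWP58b

/-!
# Bound for the Weierstrass weight (helper58)

For an increasing enumeration `J'` of the numbers `j ≥ 1` such that `j + 1` is a gap at `P`:
`J' l ≤ 2 l + 2`; if `J' 0 = 2` then `2` is not a gap.
-/

set_option autoImplicit false

namespace Groth.Agent.Lib.FFExp58

open FunFld Groth.Agent.Lib.H40FunFld

universe u v

variable {k : Type u} {K : Type v} [Field k] [Field K] [Algebra k K]

theorem isGap_one [IsAlgClosed k] (hK : FunFld.IsFunctionField k K)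
    (hgen : 0 < FunFld.genus k K) (P : FunFld.Place k K) : IsGap P 1 := by
  classical
  have hPdeg : P.deg = 1 := deg_eq_one_of_isAlgClosed hK P
  have h1 := ell_single_one_of_genus_pos hK hgen hPdeg
  unfold IsGap
  have hle : FunFld.L (Finsupp.single P (((1 : ℕ) : ℤ) - 1) : FunFld.Divisor k K) ≤
      FunFld.L (Finsupp.single P ((1 : ℕ) : ℤ)) := L_mono (single_mono P (by omega))
  have hfd := finiteDimensional_L hK (Finsupp.single P ((1 : ℕ) : ℤ) : FunFld.Divisor k K)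
  have h0 : FunFld.ell (Finsupp.single P (((1 : ℕ) : ℤ) - 1) : FunFld.Divisor k K) = 1 := by
    have : (Finsupp.single P (((1 : ℕ) : ℤ) - 1) : FunFld.Divisor k K) = 0 := by simp
    rw [this, ell_zero hK]
  refine (Submodule.eq_of_le_of_finrank_le hle ?_).symm
  have h1' : FunFld.ell (Finsupp.single P ((1 : ℕ) : ℤ) : FunFld.Divisor k K) = 1 := by
    simpa using h1
  unfold FunFld.ell at h0 h1'
  omega

theorem gapCount_orders {P : FunFld.Place k K} (hgap1 : IsGap P 1) {n : ℕ} (J' : Fin n → ℕ)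
    (hJ' : StrictMono J') (h1 : ∀ l, 1 ≤ J' l)
    (hiff : ∀ j : ℕ, 1 ≤ j → (j ∈ Set.range J' ↔ IsGap P (j + 1))) (l : Fin n) :
    gapCount P (J' l) = (l : ℕ) + 1 := by
  classical
  unfold gapCount
  have hset : (Finset.Icc 1 (J' l)).filter (fun m => IsGap P m) =
      insert 1 ((Finset.Iio l).image fun a => J' a + 1) := by
    ext m
    simp only [Finset.mem_filter, Finset.mem_Icc, Finset.mem_insert, Finset.mem_image,
      Finset.mem_Iio]
    constructor
    · rintro ⟨⟨hm1, hm2⟩, hgap⟩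
      rcases Nat.eq_or_lt_of_le hm1 with h | h
      · left; exact h.symm
      · right
        have hj : 1 ≤ m - 1 := by omega
        have hg' : IsGap P (m - 1 + 1) := by rwa [Nat.sub_add_cancel hm1]
        obtain ⟨a, ha⟩ := (hiff (m - 1) hj).mpr hg'
        refine ⟨a, ?_, by omega⟩
        rw [← hJ'.lt_iff_lt]
        omega
    · rintro (rfl | ⟨a, ha, rfl⟩)
      · exact ⟨⟨le_rfl, h1 l⟩, hgap1⟩
      · have := hJ' ha
        exact ⟨⟨by omega, by omega⟩, (hiff (J' a) (h1 a)).mp ⟨a, rfl⟩⟩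
  rw [hset, Finset.card_insert_of_notMem, Finset.card_image_of_injective, Fin.card_Iio]
  · intro a b hab
    exact hJ'.injective (by simpa using hab)
  · intro h
    obtain ⟨a, -, ha⟩ := Finset.mem_image.mp h
    have := h1 a
    omega

theorem orders_le_two_mul {P : FunFld.Place k K} (hgap1 : IsGap P 1) {n : ℕ} (J' : Fin n → ℕ)
    (hJ' : StrictMono J') (h1 : ∀ l, 1 ≤ J' l)
    (hiff : ∀ j : ℕ, 1 ≤ j → (j ∈ Set.range J' ↔ IsGap P (j + 1))) (l : Fin n) :
    J' l ≤ 2 * ((l : ℕ) + 1) := by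
  have hgap : IsGap P (J' l + 1) := (hiff (J' l) (h1 l)).mp ⟨l, rfl⟩
  have h2 := sub_one_le_two_mul_gapCount (n := J' l + 1) (by omega) hgap
  rw [Nat.add_sub_cancel, gapCount_orders hgap1 J' hJ' h1 hiff l] at h2
  exact h2

/-- The weight is at most `∑ (l + 1)`, and if it is equal then `2` is not a gap. -/
theorem weight_le {P : FunFld.Place k K} (hgap1 : IsGap P 1) {n : ℕ} (hn : 0 < n)
    (J' : Fin n → ℕ)
    (hJ' : StrictMono J') (h1 : ∀ l, 1 ≤ J' l)
    (hiff : ∀ j : ℕ, 1 ≤ j → (j ∈ Set.range J' ↔ IsGap P (j + 1))) :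
    ∑ l, ((J' l : ℤ) - (((l : ℕ) + 1 : ℕ) : ℤ)) ≤ ∑ l : Fin n, (((l : ℕ) + 1 : ℕ) : ℤ) ∧
    (∑ l, ((J' l : ℤ) - (((l : ℕ) + 1 : ℕ) : ℤ)) = ∑ l : Fin n, (((l : ℕ) + 1 : ℕ) : ℤ) →
      ¬ IsGap P 2) := by
  classical
  have hterm : ∀ l : Fin n, (J' l : ℤ) - (((l : ℕ) + 1 : ℕ) : ℤ) ≤ (((l : ℕ) + 1 : ℕ) : ℤ) := by
    intro l
    have := orders_le_two_mul hgap1 J' hJ' h1 hiff l
    push_cast
    omega
  refine ⟨Finset.sum_le_sum fun l _ => hterm l, fun heq => ?_⟩
  have hall := (Finset.sum_eq_sum_iff_of_le (fun l _ => hterm l)).mp heq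
  have h0 := hall ⟨0, hn⟩ (Finset.mem_univ _)
  have hJ0 : J' ⟨0, hn⟩ = 2 := by
    push_cast at h0
    omega
  intro hgap2
  obtain ⟨a, ha⟩ := (hiff 1 le_rfl).mpr hgap2
  have hmono : J' ⟨0, hn⟩ ≤ J' a := hJ'.monotone (Fin.mk_le_of_le_val (Nat.zero_le _))
  omega

end Groth.Agent.Lib.FFExp58
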