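import Groth.Agent.Lib.H40FunFldSepGen
import Mathlib.RingTheory.Unramified.Field

set_option autoImplicit false
set_option linter.style.haveILetI false
set_option linter.unusedSectionVars false
open FunFld Polynomial

namespace Groth.Agent.Lib.H40FunFld

open Groth.Agent.Lib.H40QuotChain IntermediateField

universe u v w

section SepCrit

variable {k : Type u} [Field k] {K : Type v} [Field K] [Algebra k K]

open KaehlerDifferential

/-- In a geometric function field, `dx ≠ 0` implies that `x` is a separating variable. -/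
theorem isSeparable_adjoin_of_D_ne_zero (hK : FunFld.IsFunctionField k K)
    (hg : FunFld.IsGeometric k K) {x : K} (hx : KaehlerDifferential.D k K x ≠ 0) :
    Transcendental k x ∧ Algebra.IsSeparable ↥k⟮x⟯ K := by
  obtain ⟨x₀, htr₀, hsep₀⟩ := exists_separating_of_isGeometric hK hg
  obtain ⟨a, ha⟩ := exists_eq_smul_D_of_isSeparable_adjoin htr₀ (KaehlerDifferential.D k K x)
  have ha0 : a ≠ 0 := by
    rintro rfl
    rw [zero_smul] at ha
    exact hx ha
  have htr : Transcendental k x := by
    intro halg
    obtain ⟨c, rfl⟩ := hK.2 x halg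
    exact hx (Derivation.map_algebraMap _ c)
  refine ⟨htr, ?_⟩
  haveI := finiteDimensional_adjoin_of_transcendental hK htr
  rw [← Algebra.FormallyUnramified.iff_isSeparable]
  refine ⟨?_⟩
  have hzero : ∀ z : K, KaehlerDifferential.D ↥k⟮x⟯ K z = 0 := by
    intro z
    obtain ⟨c, hc⟩ := exists_eq_smul_D_of_isSeparable_adjoin htr₀ (KaehlerDifferential.D k K z)
    have h1 : KaehlerDifferential.D k K z = (c * a⁻¹) • KaehlerDifferential.D k K x := by
      rw [ha, smul_smul, mul_assoc, inv_mul_cancel₀ ha0, mul_one, hc]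
    have h2 := congrArg (KaehlerDifferential.map k ↥k⟮x⟯ K K) h1
    rw [KaehlerDifferential.map_D, map_smul, KaehlerDifferential.map_D] at h2
    change KaehlerDifferential.D ↥k⟮x⟯ K z = (c * a⁻¹) • KaehlerDifferential.D ↥k⟮x⟯ K x at h2
    have h3 : KaehlerDifferential.D ↥k⟮x⟯ K x = 0 :=
      Derivation.map_algebraMap (KaehlerDifferential.D ↥k⟮x⟯ K)
        (⟨x, mem_adjoin_simple_self k x⟩ : ↥k⟮x⟯)
    rw [h2, h3, smul_zero]
  have htop : (⊤ : Submodule K Ω[K⁄↥k⟮x⟯]) = ⊥ := by
    rw [← KaehlerDifferential.span_range_derivation, Submodule.span_eq_bot]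
    rintro _ ⟨z, rfl⟩
    exact hzero z
  refine subsingleton_of_forall_eq 0 (fun ω => ?_)
  have hω : ω ∈ (⊤ : Submodule K Ω[K⁄↥k⟮x⟯]) := trivial
  rw [htop] at hω
  exact (Submodule.mem_bot _).1 hω

end SepCrit

section WeaklySep

variable {k k' : Type u} {K K' : Type v} [Field k] [Field k'] [Field K] [Field K']
  [Algebra k k'] [Algebra k K] [Algebra K K'] [Algebra k' K'] [Algebra k K']
  [IsScalarTower k k' K'] [IsScalarTower k K K']

/-- A weakly separable extension `K'/k'` of a geometric function field `K/k` is separable over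
the compositum `k'K`. -/
theorem isSeparable_over_compositum_of_weaklySeparable
    (hK : FunFld.IsFunctionField k K) (hg : FunFld.IsGeometric k K)
    (hK' : FunFld.IsFunctionField k' K') (hg' : FunFld.IsGeometric k' K')
    (hw : Function.Injective (KaehlerDifferential.map k k' K K')) :
    Algebra.IsSeparable ↥(IntermediateField.adjoin K (Set.range (algebraMap k' K'))) K' := by
  obtain ⟨x, htr, hsep⟩ := exists_separating_of_isGeometric hK hg
  have hDx : KaehlerDifferential.D k K x ≠ 0 := D_ne_zero_of_isSeparable_adjoin htr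
  have hDx' : KaehlerDifferential.D k' K' (algebraMap K K' x) ≠ 0 := by
    rw [← KaehlerDifferential.map_D k k' K K']
    intro h0
    exact hDx (hw (h0.trans (map_zero _).symm))
  obtain ⟨htr', hsep'⟩ := isSeparable_adjoin_of_D_ne_zero hK' hg' hDx'
  have hle : ∀ a : K', a ∈ k'⟮algebraMap K K' x⟯ →
      a ∈ IntermediateField.adjoin K (Set.range (algebraMap k' K')) := by
    intro a ha
    let E' : IntermediateField k' K' :=
      { (IntermediateField.adjoin K (Set.range (algebraMap k' K'))).toSubfield with
        algebraMap_mem' := fun c => IntermediateField.subset_adjoin K _ ⟨c, rfl⟩ }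
    have h1 : k'⟮algebraMap K K' x⟯ ≤ E' :=
      adjoin_simple_le_iff.2 (IntermediateField.algebraMap_mem
        (IntermediateField.adjoin K (Set.range (algebraMap k' K'))) x)
    exact h1 ha
  let i : ↥k'⟮algebraMap K K' x⟯ →+*
      ↥(IntermediateField.adjoin K (Set.range (algebraMap k' K'))) :=
    { toFun := fun a => ⟨a.1, hle a.1 a.2⟩
      map_one' := rfl
      map_mul' := fun _ _ => rfl
      map_zero' := rfl
      map_add' := fun _ _ => rfl }
  letI := i.toAlgebra
  haveI : IsScalarTower ↥k'⟮algebraMap K K' x⟯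
      ↥(IntermediateField.adjoin K (Set.range (algebraMap k' K'))) K' :=
    IsScalarTower.of_algebraMap_eq fun _ => rfl
  exact Algebra.isSeparable_tower_top_of_isSeparable ↥k'⟮algebraMap K K' x⟯
    ↥(IntermediateField.adjoin K (Set.range (algebraMap k' K'))) K'

end WeaklySep

end Groth.Agent.Lib.H40FunFld
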