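import Groth.Agent.Lib.H40FunFldDiffExp
import Groth.Agent.Lib.H40FunFldWeakSep

set_option autoImplicit false
set_option linter.style.haveILetI false
set_option linter.unusedSectionVars false
open FunFld Polynomial

namespace Groth.Agent.Lib.H40FunFld

open Groth.Agent.Lib.H40QuotChain IntermediateField

universe u v w

section Ultra

theorem exists_ne_val_eq_of_sum_eq_zero {R Γ : Type*} [CommRing R]
    [LinearOrderedCommGroupWithZero Γ] (v : Valuation R Γ) {ι : Type*} [DecidableEq ι]
    (I : Finset ι) (z : ι → R) (hsum : ∑ i ∈ I, z i = 0) {i₀ : ι} (hi₀ : i₀ ∈ I)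
    (h0 : v (z i₀) ≠ 0) (hmax : ∀ j ∈ I, v (z j) ≤ v (z i₀)) :
    ∃ j ∈ I, j ≠ i₀ ∧ v (z j) = v (z i₀) := by
  by_contra hcon
  push Not at hcon
  have hlt : ∀ j ∈ I.erase i₀, v (z j) < v (z i₀) := fun j hj =>
    lt_of_le_of_ne (hmax j (Finset.mem_of_mem_erase hj))
      (hcon j (Finset.mem_of_mem_erase hj) (Finset.ne_of_mem_erase hj))
  have h1 := Valuation.map_sum_lt v h0 hlt
  have h2 : z i₀ = -∑ j ∈ I.erase i₀, z j := by
    rw [← Finset.add_sum_erase I z hi₀] at hsum
    exact eq_neg_of_add_eq_zero_left hsum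
  rw [h2, Valuation.map_neg] at h1
  exact lt_irrefl _ h1

theorem arith_aux (e a b : ℕ) (oa ob : ℤ) (hab : a < b) (hbe : b ≤ e)
    (h : (e : ℤ) * oa + a = e * ob + b) : a = 0 ∧ b = e ∧ oa = ob + 1 := by
  have he : (0 : ℤ) < e := by omega
  have h1 : ((b : ℤ) - a) = e * (oa - ob) := by linarith
  have h2 : (0 : ℤ) < (b : ℤ) - a := by omega
  have h3 : (b : ℤ) - a ≤ e := by omega
  have h4 : 1 ≤ oa - ob := by
    by_contra hc
    push Not at hc
    have : oa - ob ≤ 0 := by omega
    nlinarith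
  have h5 : oa - ob ≤ 1 := by
    by_contra hc
    push Not at hc
    have : 2 ≤ oa - ob := by omega
    nlinarith
  have h6 : oa - ob = 1 := le_antisymm h5 h4
  rw [h6, mul_one] at h1
  refine ⟨by omega, by omega, by omega⟩

end Ultra

section Eisenstein

variable {k : Type u} [Field k] {K : Type v} [Field K] [Algebra k K]
  {K' : Type w} [Field K'] [Algebra K K'] [Algebra k K']

theorem ord_one (P : FunFld.Place k K) : P.ord (1 : K) = 0 := by
  simp [FunFld.Place.ord]

/-- If `Q | P` has ramification index `e` and a local parameter `s` at `Q` is a root of a monic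
polynomial `f` over `K` of degree at most `e`, then `f` is an Eisenstein polynomial of degree
`e` at `P`. -/
theorem eisenstein_of_totally_ramified {Q : FunFld.Place k K'} {P : FunFld.Place k K} {e : ℕ}
    (he : FunFld.IsOverWith Q P e) {s : K'} (hs : Q.1 s = WithZero.exp (-1 : ℤ)) {f : K[X]}
    (hm : f.Monic) (hroot : aeval s f = 0) (hdeg : f.natDegree ≤ e) :
    f.natDegree = e ∧ P.1 (f.coeff 0) = WithZero.exp (-1 : ℤ) ∧ ∀ i, P.1 (f.coeff i) ≤ 1 := by
  classical
  have he1 : 1 ≤ e := isOverWith_pos he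
  have hsum : ∑ i ∈ Finset.range (f.natDegree + 1), algebraMap K K' (f.coeff i) * s ^ i = 0 := by
    rw [← hroot, aeval_eq_sum_range]
    refine Finset.sum_congr rfl fun i _ => ?_
    rw [Algebra.smul_def]
  have hw : ∀ i, Q.1 (algebraMap K K' (f.coeff i) * s ^ i) =
      P.1 (f.coeff i) ^ e * WithZero.exp (-(i : ℤ)) := by
    intro i
    rw [map_mul, he, map_pow, hs, ← WithZero.exp_nsmul]
    congr 2
    simp
  have hwne : ∀ i, f.coeff i ≠ 0 → Q.1 (algebraMap K K' (f.coeff i) * s ^ i) =
      WithZero.exp (-((e : ℤ) * P.ord (f.coeff i) + i)) := by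
    intro i hi
    rw [hw, val_eq_exp_neg_ord P hi, ← WithZero.exp_nsmul, ← WithZero.exp_add]
    congr 1
    simp only [nsmul_eq_mul]
    ring
  have hcm : f.coeff f.natDegree = 1 := hm.coeff_natDegree
  obtain ⟨i₀, hi₀, hmax⟩ := Finset.exists_max_image (Finset.range (f.natDegree + 1))
    (fun i => Q.1 (algebraMap K K' (f.coeff i) * s ^ i))
    ⟨f.natDegree, Finset.self_mem_range_succ _⟩
  have hwm : Q.1 (algebraMap K K' (f.coeff f.natDegree) * s ^ f.natDegree) =
      WithZero.exp (-(f.natDegree : ℤ)) := by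
    rw [hw, hcm, map_one, one_pow, one_mul]
  have h0 : Q.1 (algebraMap K K' (f.coeff i₀) * s ^ i₀) ≠ 0 := by
    have h1 := hmax f.natDegree (Finset.self_mem_range_succ _)
    simp only [hwm] at h1
    intro h
    rw [h] at h1
    exact WithZero.exp_ne_zero (le_zero_iff.1 h1)
  obtain ⟨j₀, hj₀, hne, heq⟩ := exists_ne_val_eq_of_sum_eq_zero Q.1 _ _ hsum hi₀ h0 hmax
  have hci : f.coeff i₀ ≠ 0 := by
    intro h
    apply h0
    rw [h, map_zero, zero_mul, map_zero]
  have hcj : f.coeff j₀ ≠ 0 := by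
    intro h
    apply h0
    rw [← heq, h, map_zero, zero_mul, map_zero]
  have hwi := hwne _ hci
  rw [hwne _ hci, hwne _ hcj, WithZero.exp_inj, neg_inj] at heq
  have hi₀' : i₀ ≤ f.natDegree := by have := Finset.mem_range.1 hi₀; omega
  have hj₀' : j₀ ≤ f.natDegree := by have := Finset.mem_range.1 hj₀; omega
  have helper : ∀ a b : ℕ, a ≤ f.natDegree → b ≤ f.natDegree → a < b →
      (e : ℤ) * P.ord (f.coeff a) + a = e * P.ord (f.coeff b) + b →
      f.natDegree = e ∧ P.ord (f.coeff 0) = 1 ∧ (e : ℤ) * P.ord (f.coeff a) + a = e := by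
    intro a b _ hb hab h
    obtain ⟨ha0, hbe, ho⟩ := arith_aux e a b _ _ hab (hb.trans hdeg) h
    have hdeg' : f.natDegree = e := le_antisymm hdeg (hbe ▸ hb)
    have hbm : b = f.natDegree := by omega
    rw [hbm, hcm, ord_one, zero_add] at ho
    refine ⟨hdeg', ?_, ?_⟩
    · rw [← ha0, ho]
    · rw [ho, ha0]; simp
  have key : f.natDegree = e ∧ P.ord (f.coeff 0) = 1 ∧
      (e : ℤ) * P.ord (f.coeff i₀) + i₀ = e := by
    rcases lt_or_gt_of_ne hne with h | h
    · obtain ⟨h1, h2, h3⟩ := helper j₀ i₀ hj₀' hi₀' h heq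
      exact ⟨h1, h2, by rw [← heq]; exact h3⟩
    · exact helper i₀ j₀ hi₀' hj₀' h heq.symm
  obtain ⟨hdeg', ho0, hmaxval⟩ := key
  have hc0 : f.coeff 0 ≠ 0 := by
    intro h
    rw [h] at ho0
    simp [FunFld.Place.ord] at ho0
  refine ⟨hdeg', ?_, ?_⟩
  · rw [val_eq_exp_neg_ord P hc0, ho0]
  · intro i
    by_cases hi : f.coeff i = 0
    · rw [hi, map_zero]; exact zero_le_one
    by_contra hlt
    rw [not_le] at hlt
    have hile : i ≤ f.natDegree := le_natDegree_of_ne_zero hi
    have h1 := hmax i (Finset.mem_range.2 (by omega))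
    simp only [hwne _ hi, hwi, hmaxval, WithZero.exp_le_exp, neg_le_neg_iff] at h1
    rw [val_eq_exp_neg_ord P hi, ← WithZero.exp_zero, WithZero.exp_lt_exp] at hlt
    have h2 : P.ord (f.coeff i) ≤ -1 := by omega
    have h3 : (i : ℤ) ≤ e := by omega
    nlinarith

end Eisenstein

section DerivEval

/-- A derivation applied to a polynomial expression `p(S)` whose coefficients come through a ring
homomorphism `g`. -/
theorem derivation_eval₂ {A R : Type*} [CommRing A] [CommRing R] (δ : R → R)
    (hadd : ∀ a b, δ (a + b) = δ a + δ b) (hmul : ∀ a b, δ (a * b) = a * δ b + b * δ a)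
    (g : A →+* R) (S : R) (p : A[X]) :
    δ (p.eval₂ g S) = (p.sum fun i a => δ (g a) * S ^ i) + (derivative p).eval₂ g S * δ S := by
  have h1 : δ 1 = 0 := by
    have := hmul 1 1
    simp only [mul_one, one_mul] at this
    have h2 : δ 1 + 0 = δ 1 + δ 1 := by rw [add_zero]; exact this
    exact (add_left_cancel h2).symm
  have h0 : δ 0 = 0 := by
    have := hadd 0 0
    simp only [add_zero] at this
    have h2 : δ 0 + 0 = δ 0 + δ 0 := by rw [add_zero]; exact this
    exact (add_left_cancel h2).symm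
  have hpow : ∀ n : ℕ, δ (S ^ n) = n * S ^ (n - 1) * δ S := by
    intro n
    induction n with
    | zero => simp [h1]
    | succ n ih =>
      rw [pow_succ, hmul, ih]
      rcases n with _ | n
      · simp
      · simp only [Nat.add_sub_cancel]
        push_cast
        ring
  induction p using Polynomial.induction_on' with
  | add p q hp hq =>
    rw [eval₂_add, hadd, hp, hq, derivative_add, eval₂_add,
      Polynomial.sum_add_index p q _ (fun i => by simp [h0]) (fun i a b => by
        simp only [map_add, hadd, add_mul])]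
    · ring
  | monomial n a =>
    rw [Polynomial.sum_monomial_index a _ (by simp [h0]), eval₂_monomial, derivative_monomial,
      eval₂_monomial, hmul, hpow]
    simp only [map_mul, map_natCast]
    ring

theorem valuation_D_le_one {F : Type*} [Field F] {g : LaurentSeries F} (h : Valued.v g ≤ 1) :
    Valued.v (LocRes.D F g) ≤ 1 := by
  have e1 : (1 : WithZero (Multiplicative ℤ)) = WithZero.exp (-(0 : ℤ)) := by simp
  rw [e1] at h ⊢
  rw [LaurentSeries.valuation_le_iff_coeff_lt_eq_zero] at h ⊢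
  intro n hn
  rw [LocRes.D_coeff]
  rcases (Int.add_one_le_iff.2 hn).lt_or_eq with hlt | heq
  · rw [h (n + 1) hlt, smul_zero]
  · rw [heq, zero_smul]

end DerivEval

section TotRam

variable {k : Type u} [Field k] {K : Type v} [Field K] [Algebra k K]
  {K' : Type v} [Field K'] [Algebra K K'] [Algebra k K'] [IsScalarTower k K K']
  {F : Type w} [Field F] [Algebra k F] {F' : Type w} [Field F'] [Algebra k F']

/-- The different exponent is the order of `dt` above, for a local parameter `t` below. -/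
theorem diffExp_eq_neg_log_of_uniformizer (hK : FunFld.IsFunctionField k K)
    (hg : FunFld.IsGeometric k K)
    {P : FunFld.Place k K} {Q : FunFld.Place k K'} {e : ℕ} (he : FunFld.IsOverWith Q P e)
    (φ : K →ₐ[k] LaurentSeries F) (hφ : LocRes.IsExpansionAt P.1 φ)
    (ψ : K' →ₐ[k] LaurentSeries F') (hψ : LocRes.IsExpansionAt Q.1 ψ) (x : K)
    (hx : LocRes.vDiff φ 1 x ≠ 0) (hx' : LocRes.vDiff ψ 1 (algebraMap K K' x) ≠ 0)
    {t : K} (ht : P.1 t = WithZero.exp (-1 : ℤ)) :
    Valued.v (LocRes.D F (φ t)) = 1 ∧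
    Valued.v (LocRes.D F' (ψ (algebraMap K K' t))) ≠ 0 ∧
    LocRes.diffExp φ ψ e x =
      -WithZero.log (Valued.v (LocRes.D F' (ψ (algebraMap K K' t)))) := by
  have hvφ : Valued.v (φ t) = WithZero.exp (-(1 : ℤ)) := by rw [hφ.1, ht]
  have hDφ : Valued.v (LocRes.D F (φ t)) = 1 := by
    have := valuation_D_of_cast_ne_zero hvφ (by simp)
    simpa using this
  have ht1 : LocRes.vDiff φ 1 t ≠ 0 := by
    unfold LocRes.vDiff
    rw [map_one, one_mul, hDφ]
    exact one_ne_zero
  have ht2 := vDiff_ne_zero_of_vDiff_ne_zero hK hg he φ hφ ψ hψ hx' ht1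
  refine ⟨hDφ, ?_, ?_⟩
  · unfold LocRes.vDiff at ht2
    rwa [map_one, one_mul] at ht2
  · rw [diffExp_eq_diffExp hK hg he φ hφ ψ hψ x hx hx' t ht1 ht2]
    have hord : LocRes.ordDiff φ 1 t = 0 := by
      unfold LocRes.ordDiff LocRes.vDiff
      rw [map_one, one_mul, hDφ, WithZero.log_one, neg_zero]
    unfold LocRes.diffExp
    rw [hord, mul_zero, sub_zero]
    unfold LocRes.ordDiff LocRes.vDiff
    rw [map_one, one_mul]

/-- Totally ramified case: `v_Q(f'(s)) = d(Q|P)` for a local parameter `s` at `Q` with minimal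
polynomial `f`. -/
theorem ord_derivative_minpoly_eq_diffExp_of_totallyRamified [FiniteDimensional K K']
    (hK : FunFld.IsFunctionField k K) (hg : FunFld.IsGeometric k K)
    {P : FunFld.Place k K} {Q : FunFld.Place k K'} {e : ℕ} (he : FunFld.IsOverWith Q P e)
    (φ : K →ₐ[k] LaurentSeries F) (hφ : LocRes.IsExpansionAt P.1 φ)
    (ψ : K' →ₐ[k] LaurentSeries F') (hψ : LocRes.IsExpansionAt Q.1 ψ) (x : K)
    (hx : LocRes.vDiff φ 1 x ≠ 0) (hx' : LocRes.vDiff ψ 1 (algebraMap K K' x) ≠ 0)
    (hn : e = Module.finrank K K') {s : K'} (hs : Q.1 s = WithZero.exp (-1 : ℤ)) :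
    Q.ord (aeval s (derivative (minpoly K s))) = LocRes.diffExp φ ψ e x := by
  classical
  obtain ⟨t, ht⟩ := hφ.2.2
  obtain ⟨hDφ, hDT0, hdiff⟩ := diffExp_eq_neg_log_of_uniformizer hK hg he φ hφ ψ hψ x hx hx' ht
  rw [hdiff]
  have hint : IsIntegral K s := Algebra.IsIntegral.isIntegral s
  have hmonic := minpoly.monic hint
  have hroot := minpoly.aeval K s
  have hdeg : (minpoly K s).natDegree ≤ e := by rw [hn]; exact minpoly.natDegree_le s
  obtain ⟨hdeg', hc0, hcint⟩ := eisenstein_of_totally_ramified he hs hmonic hroot hdeg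
  have hDt : KaehlerDifferential.D k K t ≠ 0 := by
    intro h0
    have h1 := D_expansion_eq φ (x := t) (x₀ := t) (a := 0) (by rw [h0, zero_smul])
    rw [map_zero, zero_mul] at h1
    rw [h1, map_zero] at hDφ
    exact zero_ne_one hDφ
  obtain ⟨htr, hsep⟩ := isSeparable_adjoin_of_D_ne_zero hK hg hDt
  choose da hda using fun a : K =>
    exists_eq_smul_D_of_isSeparable_adjoin htr (KaehlerDifferential.D k K a)
  have hda_int : ∀ a : K, P.1 a ≤ 1 → P.1 (da a) ≤ 1 := by
    intro a ha
    have h1 := D_expansion_eq φ (hda a)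
    have h2 : Valued.v (LocRes.D F (φ a)) ≤ 1 := valuation_D_le_one (by rw [hφ.1]; exact ha)
    rw [h1, map_mul, hDφ, mul_one, hφ.1] at h2
    exact h2
  have hda0 : P.1 (da ((minpoly K s).coeff 0)) = 1 := by
    have h1 := D_expansion_eq φ (hda ((minpoly K s).coeff 0))
    have h2 : Valued.v (LocRes.D F (φ ((minpoly K s).coeff 0))) = 1 := by
      have h3 : Valued.v (φ ((minpoly K s).coeff 0)) = WithZero.exp (-(1 : ℤ)) := by
        rw [hφ.1, hc0]
      have := valuation_D_of_cast_ne_zero h3 (by simp)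
      simpa using this
    rw [h1, map_mul, hDφ, mul_one, hφ.1] at h2
    exact h2
  -- the derivative identity in `F'((X))`
  have hid := derivation_eval₂ (fun a => LocRes.D F' a) (fun a b => map_add _ a b)
    (fun a b => by simp only [Derivation.leibniz, smul_eq_mul])
    ((ψ : K' →+* LaurentSeries F').comp (algebraMap K K')) (ψ s) (minpoly K s)
  have hev : ∀ p : K[X],
      p.eval₂ ((ψ : K' →+* LaurentSeries F').comp (algebraMap K K')) (ψ s) = ψ (aeval s p) := by
    intro p
    rw [aeval_def]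
    exact (Polynomial.hom_eval₂ p (algebraMap K K') (ψ : K' →+* LaurentSeries F') s).symm
  rw [hev, hev, hroot, map_zero, map_zero] at hid
  have hδg : ∀ a : K, LocRes.D F' (ψ (algebraMap K K' a)) =
      ψ (algebraMap K K' (da a)) * LocRes.D F' (ψ (algebraMap K K' t)) := by
    intro a
    exact D_expansion_eq (ψ.comp (IsScalarTower.toAlgHom k K K')) (hda a)
  have hsum : ((minpoly K s).sum fun i a =>
      LocRes.D F' (((ψ : K' →+* LaurentSeries F').comp (algebraMap K K')) a) * ψ s ^ i) =
      LocRes.D F' (ψ (algebraMap K K' t)) *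
        ψ ((minpoly K s).sum fun i a => algebraMap K K' (da a) * s ^ i) := by
    rw [Polynomial.sum_def, Polynomial.sum_def, map_sum, Finset.mul_sum]
    refine Finset.sum_congr rfl fun i _ => ?_
    change LocRes.D F' (ψ (algebraMap K K' _)) * ψ s ^ i = _
    rw [hδg, map_mul, map_pow]
    ring
  rw [hsum] at hid
  -- valuations
  have hvS : Valued.v (LocRes.D F' (ψ s)) = 1 := by
    have h3 : Valued.v (ψ s) = WithZero.exp (-(1 : ℤ)) := by rw [hψ.1, hs]
    have := valuation_D_of_cast_ne_zero h3 (by simp)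
    simpa using this
  have hG : Q.1 ((minpoly K s).sum fun i a => algebraMap K K' (da a) * s ^ i) = 1 := by
    rw [Polynomial.sum_def]
    have hc0ne : (minpoly K s).coeff 0 ≠ 0 := by
      intro h
      rw [h, map_zero] at hc0
      exact WithZero.exp_ne_zero hc0.symm
    have h0mem : 0 ∈ (minpoly K s).support := Polynomial.mem_support_iff.2 hc0ne
    rw [← Finset.add_sum_erase _ _ h0mem]
    have hterm0 : Q.1 (algebraMap K K' (da ((minpoly K s).coeff 0)) * s ^ 0) = 1 := by
      rw [pow_zero, mul_one, he, hda0, one_pow]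
    rw [Valuation.map_add_eq_of_lt_left, hterm0]
    rw [hterm0]
    apply Valuation.map_sum_lt _ one_ne_zero
    intro i hi
    have hi0 : i ≠ 0 := Finset.ne_of_mem_erase hi
    rw [map_mul, map_pow, he, hs]
    calc P.1 (da ((minpoly K s).coeff i)) ^ e * WithZero.exp (-1 : ℤ) ^ i
        ≤ 1 * WithZero.exp (-1 : ℤ) ^ i :=
          mul_le_mul' (pow_le_one' (hda_int _ (hcint i)) e) le_rfl
      _ < 1 := by
          rw [one_mul, ← WithZero.exp_nsmul, ← WithZero.exp_zero, WithZero.exp_lt_exp]
          simp only [nsmul_eq_mul]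
          have : (1 : ℤ) ≤ i := by omega
          linarith
  have hval : Valued.v (ψ (aeval s (derivative (minpoly K s)))) * Valued.v (LocRes.D F' (ψ s)) =
      Valued.v (LocRes.D F' (ψ (algebraMap K K' t))) *
        Valued.v (ψ ((minpoly K s).sum fun i a => algebraMap K K' (da a) * s ^ i)) := by
    rw [← map_mul, ← map_mul]
    have h5 : ψ (aeval s (derivative (minpoly K s))) * LocRes.D F' (ψ s) =
        -(LocRes.D F' (ψ (algebraMap K K' t)) *
          ψ ((minpoly K s).sum fun i a => algebraMap K K' (da a) * s ^ i)) := by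
      exact eq_neg_of_add_eq_zero_right hid.symm
    rw [h5, Valuation.map_neg]
  rw [hvS, mul_one, hψ.1, hψ.1, hG, mul_one] at hval
  unfold FunFld.Place.ord
  rw [hval]

end TotRam

end Groth.Agent.Lib.H40FunFld
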