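import Groth.Agent.Lib.H40FunFldDiffExp
import Groth.Agent.Lib.H40FunFldTotRam
import Mathlib.RingTheory.Unramified.Field
import Mathlib.LinearAlgebra.Dual.Lemmas

set_option autoImplicit false
set_option linter.style.haveILetI false
set_option linter.unusedSectionVars false
open FunFld Polynomial

namespace Groth.Agent.Lib.H40FunFld

open IntermediateField

universe u v w

section CoeffDeriv

variable {k : Type u} [Field k] {F : Type w} [Field F] [Algebra k F]

open LaurentSeries HahnSeries

/-- Coefficientwise application of a derivation of the coefficient field to a Laurent series. -/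
noncomputable def coeffDer (δ : Derivation k F F) (g : LaurentSeries F) : LaurentSeries F :=
  g.map (δ : F →+ F)

theorem coeffDer_coeff (δ : Derivation k F F) (g : LaurentSeries F) (n : ℤ) :
    (coeffDer δ g).coeff n = δ (g.coeff n) := rfl

theorem coeffDer_add (δ : Derivation k F F) (g h : LaurentSeries F) :
    coeffDer δ (g + h) = coeffDer δ g + coeffDer δ h := by
  ext n
  simp [coeffDer_coeff]

theorem coeffDer_mul (δ : Derivation k F F) (g h : LaurentSeries F) :
    coeffDer δ (g * h) = g * coeffDer δ h + h * coeffDer δ g := by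
  ext n
  rw [coeffDer_coeff, HahnSeries.coeff_add, HahnSeries.coeff_mul,
    HahnSeries.coeff_mul_right' (x := g) (y := coeffDer δ h) h.isPWO_support
      (HahnSeries.support_map_subset h _),
    mul_comm h, HahnSeries.coeff_mul_left' (x := coeffDer δ g) (y := h) g.isPWO_support
      (HahnSeries.support_map_subset g _), map_sum, ← Finset.sum_add_distrib]
  refine Finset.sum_congr rfl fun ij _ => ?_
  rw [Derivation.leibniz, coeffDer_coeff, coeffDer_coeff, smul_eq_mul, smul_eq_mul]
  ring

theorem coeffDer_C (δ : Derivation k F F) (c : k) :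
    coeffDer δ (HahnSeries.C (algebraMap k F c)) = 0 := by
  ext n
  rw [coeffDer_coeff, HahnSeries.coeff_zero, HahnSeries.C_apply, HahnSeries.coeff_single]
  split_ifs
  · exact δ.map_algebraMap c
  · exact map_zero _

theorem valuation_coeffDer_le (δ : Derivation k F F) (g : LaurentSeries F) {m : ℤ}
    (h : Valued.v g ≤ WithZero.exp (-m)) : Valued.v (coeffDer δ g) ≤ WithZero.exp (-m) := by
  rw [LaurentSeries.valuation_le_iff_coeff_lt_eq_zero] at h ⊢
  intro n hn
  rw [coeffDer_coeff, h n hn, map_zero]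

end CoeffDeriv

section SepResidue

variable {k : Type u} [Field k] {K : Type v} [Field K] [Algebra k K] {F : Type w} [Field F]
  [Algebra k F]

open LaurentSeries HahnSeries

theorem coeffDer_one (δ : Derivation k F F) : coeffDer δ (1 : LaurentSeries F) = 0 := by
  have : (1 : LaurentSeries F) = HahnSeries.C (algebraMap k F 1) := by
    rw [map_one, map_one]
  rw [this, coeffDer_C]

/-- The derivation `y ↦ δ̃(φ y)` of `K` into Laurent series. -/
noncomputable def coeffDerExp (δ : Derivation k F F) (φ : K →ₐ[k] LaurentSeries F) :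
    letI := φ.toRingHom.toAlgebra
    Derivation k K (LaurentSeries F) :=
  letI := φ.toRingHom.toAlgebra
  { toFun := fun a => coeffDer δ (φ a)
    map_add' := fun a b => show coeffDer δ (φ (a + b)) = coeffDer δ (φ a) + coeffDer δ (φ b) by
      rw [map_add, coeffDer_add]
    map_smul' := fun c a => show coeffDer δ (φ (c • a)) = c • coeffDer δ (φ a) by
      rw [Algebra.smul_def, map_mul, coeffDer_mul, LocRes.map_algebraMap, coeffDer_C, mul_zero,
        add_zero, HahnSeries.C_mul_eq_smul, algebraMap_smul]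
    map_one_eq_zero' := show coeffDer δ (φ 1) = 0 by rw [map_one, coeffDer_one]
    leibniz' := fun a b => show coeffDer δ (φ (a * b)) =
        φ a * coeffDer δ (φ b) + φ b * coeffDer δ (φ a) by
      rw [map_mul, coeffDer_mul] }

theorem coeffDer_expansion_eq (δ : Derivation k F F) (φ : K →ₐ[k] LaurentSeries F) {x x₀ a : K}
    (h : KaehlerDifferential.D k K x = a • KaehlerDifferential.D k K x₀) :
    coeffDer δ (φ x) = φ a * coeffDer δ (φ x₀) := by
  letI := φ.toRingHom.toAlgebra
  haveI : IsScalarTower k K (LaurentSeries F) := LocRes.isScalarTower_exp φ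
  have h1 := congrArg (coeffDerExp δ φ).liftKaehlerDifferential h
  rw [map_smul, Derivation.liftKaehlerDifferential_comp_D,
    Derivation.liftKaehlerDifferential_comp_D] at h1
  exact h1

theorem laurent_coeff_mul_of_le {g₁ g₂ : LaurentSeries F} {m₁ m₂ : ℤ}
    (h₁ : ∀ n < m₁, g₁.coeff n = 0) (h₂ : ∀ n < m₂, g₂.coeff n = 0) :
    (g₁ * g₂).coeff (m₁ + m₂) = g₁.coeff m₁ * g₂.coeff m₂ := by
  rw [HahnSeries.coeff_mul]
  apply Finset.sum_eq_single (m₁, m₂)
  · rintro ⟨i, j⟩ hij hne
    rw [Finset.mem_antidiagonal] at hij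
    obtain ⟨hi, hj, hsum⟩ := hij
    exfalso
    have hi' : m₁ ≤ i := by
      by_contra hlt
      push Not at hlt
      exact hi (h₁ i hlt)
    have hj' : m₂ ≤ j := by
      by_contra hlt
      push Not at hlt
      exact hj (h₂ j hlt)
    simp only at hsum
    apply hne
    rw [Prod.mk.injEq]
    constructor <;> omega
  · intro hnot
    rw [Finset.mem_antidiagonal] at hnot
    by_cases h1 : g₁.coeff m₁ = 0
    · rw [h1, zero_mul]
    · by_cases h2 : g₂.coeff m₂ = 0
      · rw [h2, mul_zero]
      · exact absurd ⟨h1, h2, rfl⟩ hnot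

/-- The differential of a separating variable expands to a nonzero series, and the residue field
is separable: core computation. -/
theorem isSeparable_and_D_ne_zero_of_isExpansionAt (P : FunFld.Place k K) [FiniteDimensional k F]
    (φ : K →ₐ[k] LaurentSeries F) (hφ : LocRes.IsExpansionAt P.1 φ) {x₀ : K}
    (htr : Transcendental k x₀) [Algebra.IsSeparable ↥k⟮x₀⟯ K] :
    Valued.v (LocRes.D F (φ x₀)) ≠ 0 ∧ Algebra.IsSeparable k F := by
  obtain ⟨t, ht⟩ := hφ.2.2
  obtain ⟨at', hat⟩ := exists_eq_smul_D_of_isSeparable_adjoin htr (KaehlerDifferential.D k K t)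
  set B := LocRes.D F (φ x₀) with hB
  have hvt : Valued.v (φ t) = WithZero.exp (-(1 : ℤ)) := by rw [hφ.1, ht]
  have hDt : Valued.v (LocRes.D F (φ t)) = 1 := by
    have := valuation_D_of_cast_ne_zero hvt (by simp)
    rw [this]; simp
  have hDt' : Valued.v (φ at') * Valued.v B = 1 := by
    rw [← map_mul, ← D_expansion_eq φ hat, hDt]
  have hB0 : Valued.v B ≠ 0 := right_ne_zero_of_mul (hDt'.symm ▸ one_ne_zero)
  refine ⟨hB0, ?_⟩
  by_contra hns
  have hnu : ¬ Algebra.FormallyUnramified k F :=
    fun h => hns (Algebra.FormallyUnramified.isSeparable k F)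
  rw [Algebra.formallyUnramified_iff, not_subsingleton_iff_nontrivial] at hnu
  obtain ⟨ω, hω⟩ := exists_ne (0 : Ω[F⁄k])
  obtain ⟨ℓ, hℓ⟩ : ∃ ℓ : Module.Dual F Ω[F⁄k], ℓ ω ≠ 0 := by
    by_contra hcon
    push Not at hcon
    exact hω ((Module.forall_dual_apply_eq_zero_iff F ω).1 hcon)
  set δ : Derivation k F F := ℓ.compDer (KaehlerDifferential.D k F) with hδ
  obtain ⟨α, hα⟩ : ∃ α : F, δ α ≠ 0 := by
    by_contra hcon
    push Not at hcon
    apply hℓ
    have htop : ω ∈ Submodule.span F (Set.range (KaehlerDifferential.D k F)) := by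
      rw [KaehlerDifferential.span_range_derivation]; trivial
    refine Submodule.span_induction (p := fun ω _ => ℓ ω = 0) ?_ ?_ ?_ ?_ htop
    · rintro _ ⟨a, rfl⟩
      exact hcon a
    · exact map_zero _
    · intro x y _ _ hx hy
      rw [map_add, hx, hy, add_zero]
    · intro c x _ hx
      rw [map_smul, hx, smul_zero]
  obtain ⟨f, hf1, hf0⟩ := hφ.2.1 α
  obtain ⟨af, haf⟩ := exists_eq_smul_D_of_isSeparable_adjoin htr (KaehlerDifferential.D k K f)
  set A := coeffDer δ (φ x₀) with hA
  have e1 : coeffDer δ (φ t) = φ at' * A := coeffDer_expansion_eq δ φ hat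
  have e2 : coeffDer δ (φ f) = φ af * A := coeffDer_expansion_eq δ φ haf
  have e3 : LocRes.D F (φ f) = φ af * B := D_expansion_eq φ haf
  have hvf : Valued.v (φ f) ≤ WithZero.exp (-(0 : ℤ)) := by
    rw [hφ.1]; simpa using hf1
  have hcf : Valued.v (coeffDer δ (φ f)) = 1 := by
    have h1 := (LaurentSeries.valuation_le_iff_coeff_lt_eq_zero F).1 hvf
    have := laurent_valuation_eq_of_coeff (g := coeffDer δ (φ f)) (m := 0)
      (fun n hn => by rw [coeffDer_coeff, h1 n hn, map_zero])
      (by rw [coeffDer_coeff, hf0]; exact hα)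
    rw [this]; simp
  have hct : Valued.v (coeffDer δ (φ t)) ≤ WithZero.exp (-(1 : ℤ)) :=
    valuation_coeffDer_le δ _ hvt.le
  have hDf : Valued.v (LocRes.D F (φ f)) ≤ 1 := valuation_D_le_one (by simpa using hvf)
  rw [e1, map_mul] at hct
  rw [e2, map_mul] at hcf
  rw [e3, map_mul] at hDf
  -- v(A) ≤ exp(-1) v(B)
  have hAB : Valued.v A ≤ WithZero.exp (-(1 : ℤ)) * Valued.v B := by
    calc Valued.v A = (Valued.v (φ at') * Valued.v A) * Valued.v B := by
          rw [mul_comm (Valued.v (φ at')), mul_assoc, hDt', mul_one]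
      _ ≤ WithZero.exp (-(1 : ℤ)) * Valued.v B := mul_le_mul_left hct _
  have hlt : (1 : WithZero (Multiplicative ℤ)) ≤ WithZero.exp (-(1 : ℤ)) := by
    calc (1 : WithZero (Multiplicative ℤ)) = Valued.v (φ af) * Valued.v A := hcf.symm
      _ ≤ Valued.v (φ af) * (WithZero.exp (-(1 : ℤ)) * Valued.v B) := mul_le_mul_right hAB _
      _ = WithZero.exp (-(1 : ℤ)) * (Valued.v (φ af) * Valued.v B) := by
          rw [← mul_assoc, mul_comm (Valued.v (φ af)), mul_assoc]
      _ ≤ WithZero.exp (-(1 : ℤ)) * 1 := mul_le_mul_right hDf _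
      _ = WithZero.exp (-(1 : ℤ)) := mul_one _
  rw [← WithZero.exp_zero, WithZero.exp_le_exp] at hlt
  omega

end SepResidue

section LocResNeZero

variable {k : Type u} [Field k] {K : Type v} [Field K] [Algebra k K] {F : Type w} [Field F]
  [Algebra k F]

open LaurentSeries HahnSeries

/-- The residue field of a place of a geometric function field carrying an expansion over `k`
is separable over `k`. -/
theorem isSeparable_of_isExpansionAt (hK : FunFld.IsFunctionField k K)
    (hg : FunFld.IsGeometric k K) (P : FunFld.Place k K) [FiniteDimensional k F]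
    (φ : K →ₐ[k] LaurentSeries F) (hφ : LocRes.IsExpansionAt P.1 φ) :
    Algebra.IsSeparable k F := by
  obtain ⟨x₀, htr, hsep⟩ := exists_separating_of_isGeometric hK hg
  haveI := hsep
  exact (isSeparable_and_D_ne_zero_of_isExpansionAt P φ hφ htr).2

/-- A nonzero differential expands to a nonzero series. -/
theorem valuation_D_expansion_ne_zero (hK : FunFld.IsFunctionField k K)
    (hg : FunFld.IsGeometric k K) (P : FunFld.Place k K) [FiniteDimensional k F]
    (φ : K →ₐ[k] LaurentSeries F) (hφ : LocRes.IsExpansionAt P.1 φ) {x : K}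
    (hx : KaehlerDifferential.D k K x ≠ 0) : Valued.v (LocRes.D F (φ x)) ≠ 0 := by
  obtain ⟨x₀, htr, hsep⟩ := exists_separating_of_isGeometric hK hg
  haveI := hsep
  obtain ⟨hB0, -⟩ := isSeparable_and_D_ne_zero_of_isExpansionAt P φ hφ htr
  obtain ⟨a, ha⟩ := exists_eq_smul_D_of_isSeparable_adjoin htr (KaehlerDifferential.D k K x)
  have ha0 : a ≠ 0 := by
    rintro rfl; rw [zero_smul] at ha; exact hx ha
  rw [D_expansion_eq φ ha, map_mul]
  exact mul_ne_zero ((Valuation.ne_zero_iff _).2 ((map_ne_zero φ).2 ha0)) hB0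

theorem exists_locRes_ne_zero (hK : FunFld.IsFunctionField k K)
    (hg : FunFld.IsGeometric k K) (P : FunFld.Place k K) [FiniteDimensional k F]
    (φ : K →ₐ[k] LaurentSeries F) (hφ : LocRes.IsExpansionAt P.1 φ) (x : K)
    (hx : KaehlerDifferential.D k K x ≠ 0) : ∃ y : K, LocRes.locRes φ y x ≠ 0 := by
  haveI := isSeparable_of_isExpansionAt hK hg P φ hφ
  set g := LocRes.D F (φ x) with hg'
  have hg0 : Valued.v g ≠ 0 := valuation_D_expansion_ne_zero hK hg P φ hφ hx
  set m : ℤ := -WithZero.log (Valued.v g) with hm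
  have hvg : Valued.v g = WithZero.exp (-m) := by rw [hm, neg_neg, WithZero.exp_log hg0]
  obtain ⟨hgl, hgc⟩ := laurent_coeff_of_valuation_eq hvg
  obtain ⟨t, ht⟩ := hφ.2.2
  set u := t ^ (-1 - m) with hu
  have hvu : Valued.v (φ u) = WithZero.exp (-(-1 - m)) := by
    rw [hφ.1, hu, map_zpow₀, ht, ← WithZero.exp_zsmul]
    congr 1
    simp
  obtain ⟨hul, huc⟩ := laurent_coeff_of_valuation_eq hvu
  obtain ⟨β, hβ⟩ : ∃ β : F, Algebra.trace k F β ≠ 0 := by
    obtain ⟨β, hβ⟩ := Algebra.trace_surjective k F 1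
    exact ⟨β, by rw [hβ]; exact one_ne_zero⟩
  obtain ⟨f, hf1, hf0⟩ := hφ.2.1 (β / ((φ u).coeff (-1 - m) * g.coeff m))
  refine ⟨f * u, ?_⟩
  unfold LocRes.locRes LocRes.resExp
  rw [LocRes.res_apply, map_mul]
  have hfl : ∀ n < 0, (φ f).coeff n = 0 := by
    apply (LaurentSeries.valuation_le_iff_coeff_lt_eq_zero F (D := 0)).1
    rw [hφ.1]; simpa using hf1
  have h1 : ∀ n < 0 + (-1 - m), (φ f * φ u).coeff n = 0 := by
    apply (LaurentSeries.valuation_le_iff_coeff_lt_eq_zero F).1
    rw [map_mul, hvu, zero_add, hφ.1]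
    calc P.1 f * WithZero.exp (-(-1 - m)) ≤ 1 * WithZero.exp (-(-1 - m)) :=
          mul_le_mul_left hf1 _
      _ = WithZero.exp (-(-1 - m)) := one_mul _
  have h2 : (φ f * φ u).coeff (0 + (-1 - m)) = (φ f).coeff 0 * (φ u).coeff (-1 - m) :=
    laurent_coeff_mul_of_le hfl hul
  have h3 : (φ f * φ u * g).coeff ((0 + (-1 - m)) + m) =
      (φ f * φ u).coeff (0 + (-1 - m)) * g.coeff m := laurent_coeff_mul_of_le h1 hgl
  have e : (0 + (-1 - m)) + m = -1 := by ring
  rw [e] at h3
  rw [h3, h2, hf0]
  have : β / ((φ u).coeff (-1 - m) * g.coeff m) * (φ u).coeff (-1 - m) * g.coeff m = β := by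
    field_simp
  rw [this]
  exact hβ

end LocResNeZero

end Groth.Agent.Lib.H40FunFld
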