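import Groth.Agent.Lib.H40FunFldADK

/-!
# Function fields of one variable (`FunFld`): Weil differentials, their divisors, `dim_K W_K = 1`,
Riemann-Roch.
-/

set_option autoImplicit false
open FunFld Polynomial

namespace Groth.Agent.Lib.H40FunFld

open Groth.Agent.Lib.H40QuotChain

universe u v
variable {k : Type u} {K : Type v} [Field k] [Field K] [Algebra k K]

theorem mem_ADK_iff (D : FunFld.Divisor k K) (a : FunFld.adele k K) :
    a ∈ FunFld.ADK D ↔ (a : FunFld.Place k K → K) ∈ ADKbig D := Iff.rfl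

theorem mem_WD_iff (D : FunFld.Divisor k K) (ω : Module.Dual k (FunFld.adele k K)) :
    ω ∈ FunFld.WD D ↔ ∀ a : FunFld.adele k K, (a : FunFld.Place k K → K) ∈ ADKbig D → ω a = 0 := by
  unfold FunFld.WD
  rw [Submodule.mem_dualAnnihilator]
  rfl

theorem WD_antitone {D₁ D₂ : FunFld.Divisor k K} (h : D₁ ≤ D₂) : FunFld.WD D₂ ≤ FunFld.WD D₁ := by
  intro ω hω
  rw [mem_WD_iff] at hω ⊢
  exact fun a ha => hω a (ADKbig_mono h ha)

theorem AD_sup (D₁ D₂ : FunFld.Divisor k K) :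
    FunFld.AD (D₁ ⊔ D₂) = FunFld.AD D₁ ⊔ FunFld.AD D₂ := by
  classical
  apply le_antisymm
  · intro a ha
    rw [Submodule.mem_sup]
    refine ⟨fun P => if P.1 (a P) ≤ WithZero.exp (D₁ P) then a P else 0, ?_,
      fun P => if P.1 (a P) ≤ WithZero.exp (D₁ P) then 0 else a P, ?_, ?_⟩
    · intro P
      change P.1 (if P.1 (a P) ≤ WithZero.exp (D₁ P) then a P else 0) ≤ _
      split_ifs with h
      · exact h
      · simp
    · intro P
      change P.1 (if P.1 (a P) ≤ WithZero.exp (D₁ P) then 0 else a P) ≤ _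
      split_ifs with h
      · simp
      · have h1 : P.1 (a P) ≤ WithZero.exp ((D₁ ⊔ D₂) P) := ha P
        rw [Finsupp.sup_apply] at h1
        rcases le_total (D₁ P) (D₂ P) with h2 | h2
        · rwa [sup_eq_right.mpr h2] at h1
        · rw [sup_eq_left.mpr h2] at h1
          exact absurd h1 h
    · funext P
      change (if P.1 (a P) ≤ WithZero.exp (D₁ P) then a P else 0) +
        (if P.1 (a P) ≤ WithZero.exp (D₁ P) then 0 else a P) = a P
      split_ifs <;> simp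
  · exact sup_le (AD_mono le_sup_left) (AD_mono le_sup_right)

theorem mem_WD_sup {D₁ D₂ : FunFld.Divisor k K} {ω : Module.Dual k (FunFld.adele k K)}
    (h1 : ω ∈ FunFld.WD D₁) (h2 : ω ∈ FunFld.WD D₂) : ω ∈ FunFld.WD (D₁ ⊔ D₂) := by
  rw [mem_WD_iff] at h1 h2 ⊢
  intro a ha
  obtain ⟨b, hb, d, hd, hsum⟩ := Submodule.mem_sup.1 ha
  rw [AD_sup] at hb
  obtain ⟨b₁, hb₁, b₂, hb₂, rfl⟩ := Submodule.mem_sup.1 hb
  have hb₁' : b₁ ∈ FunFld.adele k K := AD_le_adele D₁ hb₁
  have hrest : b₂ + d ∈ FunFld.adele k K := by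
    have : b₂ + d = (a : FunFld.Place k K → K) - b₁ := by rw [← hsum]; abel
    rw [this]
    exact Submodule.sub_mem _ a.2 hb₁'
  have e : a = ⟨b₁, hb₁'⟩ + ⟨b₂ + d, hrest⟩ := by
    apply Subtype.ext
    change (a : FunFld.Place k K → K) = b₁ + (b₂ + d)
    rw [← hsum]; abel
  rw [e, map_add, h1 _ (Submodule.mem_sup_left hb₁), h2 _ (Submodule.add_mem _
    (Submodule.mem_sup_left hb₂) (Submodule.mem_sup_right hd)), add_zero]

theorem deg_pos_of_pos (hK : FunFld.IsFunctionField k K) {E : FunFld.Divisor k K}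
    (hE : 0 ≤ E) (hne : E ≠ 0) : 0 < E.deg := by
  classical
  obtain ⟨P, hP⟩ : ∃ P, E P ≠ 0 := by
    by_contra h
    push Not at h
    exact hne (Finsupp.ext h)
  have hP' : 1 ≤ E P := by
    have := hE P
    rw [Finsupp.zero_apply] at this
    omega
  have h1 : Finsupp.single P 1 ≤ E := by
    intro Q
    rw [Finsupp.single_apply]
    split_ifs with h
    · subst h; exact hP'
    · exact hE Q
  have h2 := deg_mono h1
  rw [deg_single] at h2
  have h3 : (1 : ℤ) ≤ P.deg := by exact_mod_cast deg_pos hK P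
  linarith

theorem WD_eq_bot_of_delta_eq (hK : FunFld.IsFunctionField k K) {D : FunFld.Divisor k K}
    (h : delta D = FunFld.genus k K) : FunFld.WD D = ⊥ := by
  obtain ⟨hfin, hrank⟩ := finrank_WD hK D
  rw [h, sub_self] at hrank
  have h0 : Module.finrank k (FunFld.WD D) = 0 := by exact_mod_cast hrank
  exact Submodule.finrank_eq_zero.1 h0

/-- The degrees of divisors `D` for which a nonzero Weil differential vanishes on `A(D) + K` are
bounded. -/
theorem exists_deg_lt_of_mem_WD (hK : FunFld.IsFunctionField k K) :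
    ∃ N : ℤ, ∀ (D : FunFld.Divisor k K) (ω : Module.Dual k (FunFld.adele k K)),
      ω ≠ 0 → ω ∈ FunFld.WD D → D.deg < N := by
  obtain ⟨N, hN⟩ := exists_forall_delta_eq_genus hK
  refine ⟨N, fun D ω h0 hω => ?_⟩
  by_contra hlt
  push Not at hlt
  rw [WD_eq_bot_of_delta_eq hK (hN D hlt), Submodule.mem_bot] at hω
  exact h0 hω

/-- A nonzero Weil differential has a divisor. -/
theorem exists_isDivOf (hK : FunFld.IsFunctionField k K) {ω : Module.Dual k (FunFld.adele k K)}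
    (hω : FunFld.IsWeil ω) (h0 : ω ≠ 0) : ∃ C : FunFld.Divisor k K, FunFld.IsDivOf ω C := by
  obtain ⟨N, hN⟩ := exists_deg_lt_of_mem_WD hK
  obtain ⟨D₀, hD₀⟩ := hω
  obtain ⟨d, ⟨W, hW, rfl⟩, hmax⟩ := Int.exists_greatest_of_bdd
    (P := fun d => ∃ D : FunFld.Divisor k K, ω ∈ FunFld.WD D ∧ D.deg = d)
    ⟨N, fun d ⟨D, hD, hd⟩ => hd ▸ (hN D ω h0 hD).le⟩ ⟨D₀.deg, D₀, hD₀, rfl⟩
  refine ⟨W, fun E => ⟨fun hE => ?_, fun hE => WD_antitone hE hW⟩⟩
  have h1 : ω ∈ FunFld.WD (W ⊔ E) := mem_WD_sup hW hE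
  have h2 : (W ⊔ E).deg ≤ W.deg := hmax _ ⟨_, h1, rfl⟩
  have h3 : (0 : FunFld.Divisor k K) ≤ W ⊔ E - W := sub_nonneg.2 le_sup_left
  have h4 : W ⊔ E - W = 0 := by
    by_contra hne
    have := deg_pos_of_pos hK h3 hne
    rw [deg_sub] at this
    linarith
  have h5 : W ⊔ E = W := sub_eq_zero.1 h4
  exact sup_eq_left.1 h5

theorem isDivOf_unique {ω : Module.Dual k (FunFld.adele k K)} {C C' : FunFld.Divisor k K}
    (h : FunFld.IsDivOf ω C) (h' : FunFld.IsDivOf ω C') : C = C' :=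
  le_antisymm ((h' C).1 ((h C).2 le_rfl)) ((h C').1 ((h' C').2 le_rfl))

theorem smul_mem_adele (hK : FunFld.IsFunctionField k K) (x : K) {a : FunFld.Place k K → K}
    (ha : a ∈ FunFld.adele k K) : x • a ∈ FunFld.adele k K := by
  rw [mem_adele_iff] at ha ⊢
  have hx := (mem_adele_iff _).1 (diag_mem_adele hK x)
  refine (ha.union hx).subset ?_
  intro P hP
  by_contra hcon
  rw [Set.mem_union, not_or] at hcon
  apply hP
  have h1 : P.1 (a P) ≤ 1 := not_not.1 hcon.1
  have h2 : P.1 x ≤ 1 := not_not.1 hcon.2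
  change P.1 (x • a P) ≤ 1
  rw [smul_eq_mul, map_mul]
  exact mul_le_one' h2 h1

theorem mulW_apply (x : K) (hx : ∀ a ∈ FunFld.adele k K, x • a ∈ FunFld.adele k K)
    (ω : Module.Dual k (FunFld.adele k K)) (a : FunFld.adele k K) :
    FunFld.mulW x hx ω a = ω ⟨x • (a : FunFld.Place k K → K), hx a.1 a.2⟩ := rfl

theorem mulW_mulW (x y : K) (hx : ∀ a ∈ FunFld.adele k K, x • a ∈ FunFld.adele k K)
    (hy : ∀ a ∈ FunFld.adele k K, y • a ∈ FunFld.adele k K)
    (hxy : ∀ a ∈ FunFld.adele k K, (y * x) • a ∈ FunFld.adele k K)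
    (ω : Module.Dual k (FunFld.adele k K)) :
    FunFld.mulW x hx (FunFld.mulW y hy ω) = FunFld.mulW (y * x) hxy ω := by
  ext a
  rw [mulW_apply, mulW_apply, mulW_apply]
  congr 1
  apply Subtype.ext
  change y • x • (a : FunFld.Place k K → K) = (y * x) • (a : FunFld.Place k K → K)
  rw [smul_smul]

theorem mulW_one (h1 : ∀ a ∈ FunFld.adele k K, (1 : K) • a ∈ FunFld.adele k K)
    (ω : Module.Dual k (FunFld.adele k K)) : FunFld.mulW 1 h1 ω = ω := by
  ext a
  rw [mulW_apply]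
  congr 1
  apply Subtype.ext
  change (1 : K) • (a : FunFld.Place k K → K) = a
  rw [one_smul]

theorem mulW_zero (h0 : ∀ a ∈ FunFld.adele k K, (0 : K) • a ∈ FunFld.adele k K)
    (ω : Module.Dual k (FunFld.adele k K)) : FunFld.mulW 0 h0 ω = 0 := by
  ext a
  rw [mulW_apply]
  have : (⟨(0 : K) • (a : FunFld.Place k K → K), h0 a.1 a.2⟩ : FunFld.adele k K) = 0 := by
    apply Subtype.ext
    change (0 : K) • (a : FunFld.Place k K → K) = 0
    rw [zero_smul]
  rw [this, map_zero]; rfl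

theorem mulW_add (x y : K) (hx : ∀ a ∈ FunFld.adele k K, x • a ∈ FunFld.adele k K)
    (hy : ∀ a ∈ FunFld.adele k K, y • a ∈ FunFld.adele k K)
    (hxy : ∀ a ∈ FunFld.adele k K, (x + y) • a ∈ FunFld.adele k K)
    (ω : Module.Dual k (FunFld.adele k K)) :
    FunFld.mulW (x + y) hxy ω = FunFld.mulW x hx ω + FunFld.mulW y hy ω := by
  ext a
  rw [LinearMap.add_apply, mulW_apply, mulW_apply, mulW_apply, ← map_add]
  congr 1
  apply Subtype.ext
  change (x + y) • (a : FunFld.Place k K → K) = x • (a : FunFld.Place k K → K) + y • (a : FunFld.Place k K → K)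
  rw [add_smul]

theorem mulW_smul (c : k) (x : K) (hx : ∀ a ∈ FunFld.adele k K, x • a ∈ FunFld.adele k K)
    (hcx : ∀ a ∈ FunFld.adele k K, (c • x) • a ∈ FunFld.adele k K)
    (ω : Module.Dual k (FunFld.adele k K)) :
    FunFld.mulW (c • x) hcx ω = c • FunFld.mulW x hx ω := by
  ext a
  rw [LinearMap.smul_apply, mulW_apply, mulW_apply, ← map_smul]
  congr 1
  apply Subtype.ext
  change (c • x) • (a : FunFld.Place k K → K) = c • x • (a : FunFld.Place k K → K)
  rw [smul_assoc]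

theorem mulW_congr {x y : K} (hxy : x = y)
    (hx : ∀ a ∈ FunFld.adele k K, x • a ∈ FunFld.adele k K)
    (hy : ∀ a ∈ FunFld.adele k K, y • a ∈ FunFld.adele k K)
    (ω : Module.Dual k (FunFld.adele k K)) : FunFld.mulW x hx ω = FunFld.mulW y hy ω := by
  subst hxy; rfl

theorem div_apply (hK : FunFld.IsFunctionField k K) (x : K) (P : FunFld.Place k K) :
    FunFld.div k x P = P.ord x := div_apply_of_finite x (finite_support_ord hK x) P

/-- `x • (A(E) + K) ⊆ A(E - (x)) + K`. -/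
theorem smul_mem_ADKbig (hK : FunFld.IsFunctionField k K) {x : K} (hx : x ≠ 0)
    {E : FunFld.Divisor k K} {a : FunFld.Place k K → K} (ha : a ∈ ADKbig E) :
    x • a ∈ ADKbig (E - FunFld.div k x) := by
  obtain ⟨b, hb, d, ⟨y, rfl⟩, rfl⟩ := Submodule.mem_sup.1 ha
  rw [smul_add]
  refine Submodule.add_mem _ (Submodule.mem_sup_left ?_) (Submodule.mem_sup_right ⟨x * y, ?_⟩)
  · intro P
    change P.1 (x • b P) ≤ _
    rw [smul_eq_mul, map_mul, Finsupp.sub_apply, div_apply hK, sub_eq_add_neg, add_comm,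
      WithZero.exp_add, ← val_eq_exp_neg_ord P hx]
    exact mul_le_mul' le_rfl (hb P)
  · funext P
    rfl

/-- `xω` vanishes on `A(E) + K` iff `ω` vanishes on `A(E - (x)) + K`. -/
theorem mulW_mem_WD_iff (hK : FunFld.IsFunctionField k K) {x : K} (h0 : x ≠ 0)
    (hx : ∀ a ∈ FunFld.adele k K, x • a ∈ FunFld.adele k K)
    (ω : Module.Dual k (FunFld.adele k K)) (E : FunFld.Divisor k K) :
    FunFld.mulW x hx ω ∈ FunFld.WD E ↔ ω ∈ FunFld.WD (E - FunFld.div k x) := by
  rw [mem_WD_iff, mem_WD_iff]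
  constructor
  · intro h b hb
    have h1 : x⁻¹ • (b : FunFld.Place k K → K) ∈ ADKbig E := by
      have := smul_mem_ADKbig hK (inv_ne_zero h0) hb
      rw [div_inv hK] at this
      have e : E - FunFld.div k x - -FunFld.div k x = E := by abel
      rwa [e] at this
    have h2 := h ⟨x⁻¹ • (b : FunFld.Place k K → K), smul_mem_adele hK x⁻¹ b.2⟩ h1
    rw [mulW_apply] at h2
    have e : (⟨x • (x⁻¹ • (b : FunFld.Place k K → K)), hx _ (smul_mem_adele hK x⁻¹ b.2)⟩ :
        FunFld.adele k K) = b := by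
      apply Subtype.ext
      change x • (x⁻¹ • (b : FunFld.Place k K → K)) = b
      rw [smul_smul, mul_inv_cancel₀ h0, one_smul]
    change ω ⟨x • (x⁻¹ • (b : FunFld.Place k K → K)), _⟩ = 0 at h2
    rwa [e] at h2
  · intro h a ha
    rw [mulW_apply]
    exact h _ (smul_mem_ADKbig hK h0 ha)

theorem isDivOf_mulW (hK : FunFld.IsFunctionField k K) {x : K} (h0 : x ≠ 0)
    (hx : ∀ a ∈ FunFld.adele k K, x • a ∈ FunFld.adele k K)
    {ω : Module.Dual k (FunFld.adele k K)} {C : FunFld.Divisor k K} (hω : FunFld.IsDivOf ω C) :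
    FunFld.IsDivOf (FunFld.mulW x hx ω) (C + FunFld.div k x) := by
  intro E
  rw [mulW_mem_WD_iff hK h0, hω, sub_le_iff_le_add]

theorem mulW_zero_right (x : K) (hx : ∀ a ∈ FunFld.adele k K, x • a ∈ FunFld.adele k K) :
    FunFld.mulW x hx (0 : Module.Dual k (FunFld.adele k K)) = 0 := by
  ext a
  rw [mulW_apply]; rfl

theorem mulW_inv_mulW {x : K} (h0 : x ≠ 0)
    (hx : ∀ a ∈ FunFld.adele k K, x • a ∈ FunFld.adele k K)
    (hx' : ∀ a ∈ FunFld.adele k K, x⁻¹ • a ∈ FunFld.adele k K)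
    (ω : Module.Dual k (FunFld.adele k K)) :
    FunFld.mulW x⁻¹ hx' (FunFld.mulW x hx ω) = ω := by
  have h1 : ∀ a ∈ FunFld.adele k K, (1 : K) • a ∈ FunFld.adele k K := by
    intro a ha; rwa [one_smul]
  rw [mulW_mulW x⁻¹ x hx' hx (by rw [mul_inv_cancel₀ h0]; exact h1),
    mulW_congr (mul_inv_cancel₀ h0) _ h1, mulW_one]

theorem mulW_ne_zero (hK : FunFld.IsFunctionField k K) {x : K} (h0 : x ≠ 0)
    (hx : ∀ a ∈ FunFld.adele k K, x • a ∈ FunFld.adele k K)
    {ω : Module.Dual k (FunFld.adele k K)} (hω : ω ≠ 0) : FunFld.mulW x hx ω ≠ 0 := by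
  intro h
  apply hω
  rw [← mulW_inv_mulW h0 hx (fun a ha => smul_mem_adele hK x⁻¹ ha) ω, h, mulW_zero_right]

/-- `L(D) · W(C) ⊆ W(C - D)`. -/
theorem mulW_mem_WD_of_mem_L (hK : FunFld.IsFunctionField k K) {C D : FunFld.Divisor k K} {x : K}
    (hxD : x ∈ FunFld.L D) (hx : ∀ a ∈ FunFld.adele k K, x • a ∈ FunFld.adele k K)
    {ω : Module.Dual k (FunFld.adele k K)} (hω : ω ∈ FunFld.WD C) :
    FunFld.mulW x hx ω ∈ FunFld.WD (C - D) := by
  by_cases h0 : x = 0
  · subst h0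
    rw [mulW_zero]
    exact Submodule.zero_mem _
  · rw [mulW_mem_WD_iff hK h0]
    refine WD_antitone ?_ hω
    have h1 := (mem_L_iff_nonneg hK D h0).1 hxD
    have : C - (C - D - FunFld.div k x) = D + FunFld.div k x := by abel
    rw [← sub_nonneg, this]
    exact h1

/-- The `k`-linear map `x ↦ xω`. -/
noncomputable def mulWLin (h : ∀ (x : K), ∀ a ∈ FunFld.adele k K, x • a ∈ FunFld.adele k K)
    (ω : Module.Dual k (FunFld.adele k K)) : K →ₗ[k] Module.Dual k (FunFld.adele k K) where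
  toFun x := FunFld.mulW x (h x) ω
  map_add' x y := mulW_add x y _ _ _ ω
  map_smul' c x := mulW_smul c x _ _ ω

theorem mulWLin_apply (h : ∀ (x : K), ∀ a ∈ FunFld.adele k K, x • a ∈ FunFld.adele k K)
    (ω : Module.Dual k (FunFld.adele k K)) (x : K) :
    mulWLin h ω x = FunFld.mulW x (h x) ω := rfl

theorem mulWLin_injective (hK : FunFld.IsFunctionField k K)
    (h : ∀ (x : K), ∀ a ∈ FunFld.adele k K, x • a ∈ FunFld.adele k K)
    {ω : Module.Dual k (FunFld.adele k K)} (hω : ω ≠ 0) : Function.Injective (mulWLin h ω) := by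
  rw [← LinearMap.ker_eq_bot, LinearMap.ker_eq_bot']
  intro x hx
  by_contra h0
  exact mulW_ne_zero hK h0 (h x) hω hx

theorem map_mulWLin_le (hK : FunFld.IsFunctionField k K)
    (h : ∀ (x : K), ∀ a ∈ FunFld.adele k K, x • a ∈ FunFld.adele k K)
    {ω : Module.Dual k (FunFld.adele k K)} {C D : FunFld.Divisor k K} (hω : ω ∈ FunFld.WD C) :
    (FunFld.L D).map (mulWLin h ω) ≤ FunFld.WD (C - D) := by
  rintro _ ⟨x, hx, rfl⟩
  exact mulW_mem_WD_of_mem_L hK hx (h x) hω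

theorem finrank_map_mulWLin (hK : FunFld.IsFunctionField k K)
    (h : ∀ (x : K), ∀ a ∈ FunFld.adele k K, x • a ∈ FunFld.adele k K)
    {ω : Module.Dual k (FunFld.adele k K)} (hω : ω ≠ 0) (D : FunFld.Divisor k K) :
    Module.finrank k ((FunFld.L D).map (mulWLin h ω)) = FunFld.ell D :=
  (LinearEquiv.finrank_eq (Submodule.equivMapOfInjective _ (mulWLin_injective hK h hω) _)).symm

/-- `dim_K W_K ≤ 1`. -/
theorem exists_mulW_eq (hK : FunFld.IsFunctionField k K)
    (h : ∀ (x : K), ∀ a ∈ FunFld.adele k K, x • a ∈ FunFld.adele k K)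
    {ω₁ ω₂ : Module.Dual k (FunFld.adele k K)} (h₁ : FunFld.IsWeil ω₁) (h0 : ω₁ ≠ 0)
    (h₂ : FunFld.IsWeil ω₂) : ∃ x : K, FunFld.mulW x (h x) ω₁ = ω₂ := by
  by_cases h20 : ω₂ = 0
  · exact ⟨0, by rw [h20, mulW_zero]⟩
  obtain ⟨D₁, hD₁⟩ := h₁
  obtain ⟨D₂, hD₂⟩ := h₂
  set g : ℤ := (FunFld.genus k K : ℤ) with hg
  obtain ⟨B, hB0, hBdeg⟩ := exists_ge_deg_ge hK (0 : FunFld.Divisor k K)
    (max 1 (3 * g - 2 - D₁.deg - D₂.deg))
  have hB1 : 1 ≤ B.deg := (le_max_left _ _).trans hBdeg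
  have hB2 : 3 * g - 2 - D₁.deg - D₂.deg ≤ B.deg := (le_max_right _ _).trans hBdeg
  -- the ambient space `W(-B)`
  obtain ⟨hfin, hrank⟩ := finrank_WD hK (-B)
  have hLB : FunFld.ell (-B) = 0 := by
    rw [FunFld.ell, L_eq_bot_of_deg_neg hK (-B) (by rw [deg_neg]; linarith), finrank_bot]
  unfold delta at hrank
  rw [hLB, deg_neg] at hrank
  -- the two subspaces
  set U₁ := (FunFld.L (D₁ + B)).map (mulWLin h ω₁) with hU₁
  set U₂ := (FunFld.L (D₂ + B)).map (mulWLin h ω₂) with hU₂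
  have hU₁le : U₁ ≤ FunFld.WD (-B) := by
    have := map_mulWLin_le hK h (D := D₁ + B) hD₁
    have e : D₁ - (D₁ + B) = -B := by abel
    rwa [e] at this
  have hU₂le : U₂ ≤ FunFld.WD (-B) := by
    have := map_mulWLin_le hK h (D := D₂ + B) hD₂
    have e : D₂ - (D₂ + B) = -B := by abel
    rwa [e] at this
  have hf1 : FiniteDimensional k U₁ := Submodule.finiteDimensional_of_le hU₁le
  have hf2 : FiniteDimensional k U₂ := Submodule.finiteDimensional_of_le hU₂le
  have hr1 : Module.finrank k U₁ = FunFld.ell (D₁ + B) := finrank_map_mulWLin hK h h0 _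
  have hr2 : Module.finrank k U₂ = FunFld.ell (D₂ + B) := finrank_map_mulWLin hK h h20 _
  have hd1 := delta_le_genus hK (D₁ + B)
  have hd2 := delta_le_genus hK (D₂ + B)
  unfold delta at hd1 hd2
  rw [deg_add] at hd1 hd2
  have hsum := Submodule.finrank_sup_add_finrank_inf_eq U₁ U₂
  have hsup : Module.finrank k ↥(U₁ ⊔ U₂) ≤ Module.finrank k (FunFld.WD (-B)) :=
    Submodule.finrank_mono (sup_le hU₁le hU₂le)
  have hpos : 0 < Module.finrank k ↥(U₁ ⊓ U₂) := by
    have e1 : (Module.finrank k ↥(U₁ ⊔ U₂) : ℤ) + Module.finrank k ↥(U₁ ⊓ U₂) =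
        FunFld.ell (D₁ + B) + FunFld.ell (D₂ + B) := by
      rw [← hr1, ← hr2]; exact_mod_cast hsum
    have e2 : (Module.finrank k ↥(U₁ ⊔ U₂) : ℤ) ≤ Module.finrank k (FunFld.WD (-B)) := by
      exact_mod_cast hsup
    have : (0 : ℤ) < Module.finrank k ↥(U₁ ⊓ U₂) := by
      rw [hrank] at e2
      push_cast at e2
      linarith
    exact_mod_cast this
  have hnt : Nontrivial ↥(U₁ ⊓ U₂) := Module.finrank_pos_iff.1 hpos
  obtain ⟨η, hη⟩ := exists_ne (0 : ↥(U₁ ⊓ U₂))
  obtain ⟨⟨x₁, hx₁, e₁⟩, ⟨x₂, hx₂, e₂⟩⟩ := η.2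
  have hη0 : (η : Module.Dual k (FunFld.adele k K)) ≠ 0 := fun h => hη (Subtype.ext h)
  rw [mulWLin_apply] at e₁ e₂
  have hx₂0 : x₂ ≠ 0 := by
    rintro rfl
    rw [mulW_zero] at e₂
    exact hη0 e₂.symm
  refine ⟨x₁ * x₂⁻¹, ?_⟩
  rw [← mulW_mulW x₂⁻¹ x₁ (h _) (h _) (h _) ω₁, e₁, ← e₂, mulW_inv_mulW hx₂0]

theorem isWeil_of_isDivOf {ω : Module.Dual k (FunFld.adele k K)} {C : FunFld.Divisor k K}
    (h : FunFld.IsDivOf ω C) : FunFld.IsWeil ω := ⟨C, (h C).2 le_rfl⟩

theorem ne_zero_of_isDivOf (hK : FunFld.IsFunctionField k K)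
    {ω : Module.Dual k (FunFld.adele k K)} {C : FunFld.Divisor k K}
    (h : FunFld.IsDivOf ω C) : ω ≠ 0 := by
  classical
  rintro rfl
  obtain ⟨P⟩ := exists_place hK
  have h1 := (h (C + Finsupp.single P 1)).1 (Submodule.zero_mem _)
  have h2 := h1 P
  rw [Finsupp.add_apply, Finsupp.single_eq_same] at h2
  omega

theorem isCanonical_add_div (hK : FunFld.IsFunctionField k K) {C : FunFld.Divisor k K}
    (hC : FunFld.IsCanonical k K C) {x : K} (hx : x ≠ 0) :
    FunFld.IsCanonical k K (C + FunFld.div k x) := by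
  obtain ⟨ω, hω0, hω⟩ := hC
  exact ⟨_, mulW_ne_zero hK hx (fun a ha => smul_mem_adele hK x ha) hω0,
    isDivOf_mulW hK hx _ hω⟩

theorem exists_isCanonical (hK : FunFld.IsFunctionField k K) :
    ∃ C : FunFld.Divisor k K, FunFld.IsCanonical k K C := by
  obtain ⟨P⟩ := exists_place hK
  have hP : (1 : ℤ) ≤ P.deg := by exact_mod_cast deg_pos hK P
  have hlt : delta (Finsupp.single P (-2) : FunFld.Divisor k K) < FunFld.genus k K := by
    unfold delta
    rw [deg_single]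
    have h1 : (0 : ℤ) ≤ FunFld.ell (Finsupp.single P (-2) : FunFld.Divisor k K) :=
      Int.natCast_nonneg _
    have h2 : (0 : ℤ) ≤ FunFld.genus k K := Int.natCast_nonneg _
    linarith
  obtain ⟨ω, hω0, hω⟩ := exists_ne_zero_mem_WD hK hlt
  obtain ⟨C, hC⟩ := exists_isDivOf hK ⟨_, hω⟩ hω0
  exact ⟨C, ω, hω0, hC⟩

theorem isCanonical_sub (hK : FunFld.IsFunctionField k K) {C₁ C₂ : FunFld.Divisor k K}
    (h₁ : FunFld.IsCanonical k K C₁) (h₂ : FunFld.IsCanonical k K C₂) :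
    ∃ x : K, x ≠ 0 ∧ C₂ = C₁ + FunFld.div k x := by
  obtain ⟨ω₁, h10, hω₁⟩ := h₁
  obtain ⟨ω₂, h20, hω₂⟩ := h₂
  have h : ∀ (x : K), ∀ a ∈ FunFld.adele k K, x • a ∈ FunFld.adele k K :=
    fun x a ha => smul_mem_adele hK x ha
  obtain ⟨x, hx⟩ := exists_mulW_eq hK h (isWeil_of_isDivOf hω₁) h10 (isWeil_of_isDivOf hω₂)
  have hx0 : x ≠ 0 := by
    rintro rfl
    rw [mulW_zero] at hx
    exact h20 hx.symm
  refine ⟨x, hx0, ?_⟩
  have := isDivOf_mulW hK hx0 (h x) hω₁
  rw [hx] at this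
  exact isDivOf_unique hω₂ this

/-- Multiplication by `ω` is a bijection `L(C - D) → W(D)` when `C = (ω)`. -/
theorem existsUnique_mulW_eq (hK : FunFld.IsFunctionField k K)
    (h : ∀ (x : K), ∀ a ∈ FunFld.adele k K, x • a ∈ FunFld.adele k K)
    {ω : Module.Dual k (FunFld.adele k K)} {C : FunFld.Divisor k K} (hω : FunFld.IsDivOf ω C)
    (D : FunFld.Divisor k K) {ω' : Module.Dual k (FunFld.adele k K)} (hω' : ω' ∈ FunFld.WD D) :
    ∃! x : K, x ∈ FunFld.L (C - D) ∧ FunFld.mulW x (h x) ω = ω' := by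
  have hω0 := ne_zero_of_isDivOf hK hω
  obtain ⟨x, hx⟩ := exists_mulW_eq hK h (isWeil_of_isDivOf hω) hω0 ⟨D, hω'⟩
  refine ⟨x, ⟨?_, hx⟩, ?_⟩
  · by_cases hx0 : x = 0
    · rw [hx0]; exact Submodule.zero_mem _
    · rw [mem_L_iff_nonneg hK _ hx0]
      have h1 := isDivOf_mulW hK hx0 (h x) hω
      rw [hx] at h1
      have h2 := (h1 D).1 hω'
      have : C - D + FunFld.div k x = C + FunFld.div k x - D := by abel
      rw [this]
      exact sub_nonneg.2 h2
  · rintro y ⟨-, hy⟩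
    apply mulWLin_injective hK h hω0
    rw [mulWLin_apply, mulWLin_apply, hy, hx]

theorem map_mulWLin_eq (hK : FunFld.IsFunctionField k K)
    (h : ∀ (x : K), ∀ a ∈ FunFld.adele k K, x • a ∈ FunFld.adele k K)
    {ω : Module.Dual k (FunFld.adele k K)} {C : FunFld.Divisor k K} (hω : FunFld.IsDivOf ω C)
    (D : FunFld.Divisor k K) : (FunFld.L (C - D)).map (mulWLin h ω) = FunFld.WD D := by
  apply le_antisymm
  · have := map_mulWLin_le hK h (D := C - D) ((hω C).2 le_rfl)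
    have e : C - (C - D) = D := by abel
    rwa [e] at this
  · intro ω' hω'
    obtain ⟨x, ⟨hx, hx'⟩, -⟩ := existsUnique_mulW_eq hK h hω D hω'
    exact ⟨x, hx, hx'⟩

/-- `i(D) = ℓ(C - D)` for a canonical divisor `C`. -/
theorem ell_canonical_sub (hK : FunFld.IsFunctionField k K) {C : FunFld.Divisor k K}
    (hC : FunFld.IsCanonical k K C) (D : FunFld.Divisor k K) :
    (FunFld.ell (C - D) : ℤ) = FunFld.genus k K - delta D := by
  obtain ⟨ω, hω0, hω⟩ := hC
  have h : ∀ (x : K), ∀ a ∈ FunFld.adele k K, x • a ∈ FunFld.adele k K :=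
    fun x a ha => smul_mem_adele hK x ha
  rw [← (finrank_WD hK D).2, ← finrank_map_mulWLin hK h hω0, map_mulWLin_eq hK h hω]

/-- Riemann-Roch. -/
theorem riemann_roch (hK : FunFld.IsFunctionField k K) {C : FunFld.Divisor k K}
    (hC : FunFld.IsCanonical k K C) (D : FunFld.Divisor k K) :
    (FunFld.ell D : ℤ) = D.deg + 1 - FunFld.genus k K + FunFld.ell (C - D) := by
  rw [ell_canonical_sub hK hC D]
  unfold delta
  ring

theorem ell_zero (hK : FunFld.IsFunctionField k K) : FunFld.ell (0 : FunFld.Divisor k K) = 1 := by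
  rw [FunFld.ell, L_zero_eq_one hK, Submodule.one_eq_span, finrank_span_singleton (one_ne_zero)]

theorem ell_canonical (hK : FunFld.IsFunctionField k K) {C : FunFld.Divisor k K}
    (hC : FunFld.IsCanonical k K C) : FunFld.ell C = FunFld.genus k K := by
  have h := riemann_roch hK hC 0
  rw [ell_zero hK, deg_zero, sub_zero] at h
  have : (FunFld.ell C : ℤ) = FunFld.genus k K := by push_cast at h; linarith
  exact_mod_cast this

theorem deg_canonical (hK : FunFld.IsFunctionField k K) {C : FunFld.Divisor k K}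
    (hC : FunFld.IsCanonical k K C) : C.deg = 2 * FunFld.genus k K - 2 := by
  have h := riemann_roch hK hC C
  rw [sub_self, ell_zero hK, ell_canonical hK hC] at h
  push_cast at h
  linarith

theorem ell_eq_of_deg_ge (hK : FunFld.IsFunctionField k K) (D : FunFld.Divisor k K)
    (h : 2 * (FunFld.genus k K : ℤ) - 1 ≤ D.deg) :
    (FunFld.ell D : ℤ) = D.deg + 1 - FunFld.genus k K := by
  obtain ⟨C, hC⟩ := exists_isCanonical hK
  have h1 := riemann_roch hK hC D
  have h2 : FunFld.ell (C - D) = 0 := by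
    rw [FunFld.ell, L_eq_bot_of_deg_neg hK (C - D) (by rw [deg_sub, deg_canonical hK hC]; linarith),
      finrank_bot]
  rw [h2] at h1
  push_cast at h1
  linarith

theorem exists_ne_zero_mem_L_of_ell_pos {D : FunFld.Divisor k K} (h : 0 < FunFld.ell D) :
    ∃ z : K, z ∈ FunFld.L D ∧ z ≠ 0 := by
  have hne : FunFld.L D ≠ ⊥ := by
    intro h0
    rw [FunFld.ell, h0, finrank_bot] at h
    exact lt_irrefl _ h
  exact Submodule.exists_mem_ne_zero_of_ne_bot hne

theorem eq_zero_of_nonneg_of_deg_eq_zero (hK : FunFld.IsFunctionField k K)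
    {E : FunFld.Divisor k K} (hE : 0 ≤ E) (hdeg : E.deg = 0) : E = 0 := by
  by_contra hne
  have := deg_pos_of_pos hK hE hne
  omega

theorem isCanonical_iff (hK : FunFld.IsFunctionField k K) (C : FunFld.Divisor k K) :
    FunFld.IsCanonical k K C ↔
      (FunFld.ell C = FunFld.genus k K ∧ C.deg = 2 * FunFld.genus k K - 2) := by
  constructor
  · intro hC
    exact ⟨ell_canonical hK hC, deg_canonical hK hC⟩
  · rintro ⟨h1, h2⟩
    obtain ⟨W, hW⟩ := exists_isCanonical hK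
    have h3 := riemann_roch hK hW C
    rw [h1, h2] at h3
    have h4 : 0 < FunFld.ell (W - C) := by
      have : (0 : ℤ) < FunFld.ell (W - C) := by linarith
      exact_mod_cast this
    obtain ⟨z, hzL, hz0⟩ := exists_ne_zero_mem_L_of_ell_pos h4
    have h5 := (mem_L_iff_nonneg hK _ hz0).1 hzL
    have h6 : (W - C + FunFld.div k z).deg = 0 := by
      rw [deg_add, deg_sub, deg_div_eq_zero hK, deg_canonical hK hW, h2]; ring
    have h7 := eq_zero_of_nonneg_of_deg_eq_zero hK h5 h6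
    have h8 : C = W + FunFld.div k z := by
      have : W + FunFld.div k z - C = 0 := by rw [← h7]; abel
      exact (sub_eq_zero.1 this).symm
    rw [h8]
    exact isCanonical_add_div hK hW hz0

end Groth.Agent.Lib.H40FunFld
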