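import Groth.Agent.Lib.FPTr58j
import Groth.Agent.Lib.H40FunFldWeil
import Groth.Agent.Lib.H40FunFldSepResidue

/-!
# Local residue functionals: vanishing and non-degeneracy (helper58)

`locResLin φ u v : K →ₗ[k] k`, `x ↦ Res (x u dv)`; it vanishes on `x` of order `≥ -ord (u dv)`
and does not vanish identically on the `x` of order `≥ -ord (u dv) - 1`.
-/

set_option autoImplicit false

namespace Groth.Agent.Lib.FPTr58

open FunFld LaurentSeries HahnSeries Groth.Agent.Lib.H40FunFld

universe u v w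

variable {k : Type u} {K : Type v} [Field k] [Field K] [Algebra k K]
  {F : Type w} [Field F] [Algebra k F]

/-- The local residue functional `x ↦ Res (x u dv)`. -/
noncomputable def locResLin (φ : K →ₐ[k] LaurentSeries F) (u v : K) : K →ₗ[k] k where
  toFun x := LocRes.locRes φ (x * u) v
  map_add' x y := by
    unfold LocRes.locRes LocRes.resExp
    rw [add_mul, map_add, add_mul, map_add, map_add]
  map_smul' c x := by
    unfold LocRes.locRes LocRes.resExp
    have e : φ (c • x * u) * LocRes.D F (φ v) =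
        (algebraMap k F c) • (φ (x * u) * LocRes.D F (φ v)) := by
      rw [smul_mul_assoc, Algebra.smul_def, map_mul φ, LocRes.map_algebraMap, mul_assoc,
        HahnSeries.C_mul_eq_smul]
    rw [e, map_smul, smul_eq_mul, ← Algebra.smul_def, map_smul]
    rfl

theorem locResLin_apply (φ : K →ₐ[k] LaurentSeries F) (u v x : K) :
    locResLin φ u v x = LocRes.locRes φ (x * u) v := rfl

theorem locRes_eq_zero_of_val_le (P : FunFld.Place k K) (φ : K →ₐ[k] LaurentSeries F)
    (hφ : LocRes.IsExpansionAt P.1 φ) {u v x : K} {m : ℤ}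
    (hm : LocRes.vDiff φ u v ≤ WithZero.exp (-m)) (hx : P.1 x ≤ WithZero.exp m) :
    LocRes.locRes φ (x * u) v = 0 := by
  unfold LocRes.vDiff at hm
  have h1 : Valued.v (φ (x * u) * LocRes.D F (φ v)) ≤ 1 := by
    rw [map_mul φ, mul_assoc, map_mul, hφ.1]
    calc P.1 x * Valued.v (φ u * LocRes.D F (φ v)) ≤ WithZero.exp m * WithZero.exp (-m) :=
          mul_le_mul' hx hm
      _ = 1 := by rw [← WithZero.exp_add, add_neg_cancel, WithZero.exp_zero]
  rw [← WithZero.exp_zero, ← neg_zero, valuation_le_iff_coeff_lt_eq_zero] at h1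
  unfold LocRes.locRes LocRes.resExp
  rw [LocRes.res_apply, h1 (-1) (by norm_num), map_zero]

theorem exists_locRes_ne_zero_of_val (P : FunFld.Place k K) [FiniteDimensional k F]
    [Algebra.IsSeparable k F] (φ : K →ₐ[k] LaurentSeries F)
    (hφ : LocRes.IsExpansionAt P.1 φ) {u v : K} {m : ℤ}
    (hm : LocRes.vDiff φ u v = WithZero.exp (-m)) :
    ∃ y : K, P.1 y ≤ WithZero.exp (m + 1) ∧ LocRes.locRes φ (y * u) v ≠ 0 := by
  unfold LocRes.vDiff at hm
  set g := φ u * LocRes.D F (φ v) with hg'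
  obtain ⟨hgl, hgc⟩ := laurent_coeff_of_valuation_eq hm
  obtain ⟨t, ht⟩ := hφ.2.2
  set U := t ^ (-1 - m) with hU
  have hPU : P.1 U = WithZero.exp (m + 1) := by
    rw [hU, map_zpow₀, ht, ← WithZero.exp_zsmul]
    congr 1
    simp only [smul_eq_mul]
    ring
  have hvU : Valued.v (φ U) = WithZero.exp (-(-1 - m)) := by
    rw [hφ.1, hPU]
    congr 1
    ring
  obtain ⟨hul, huc⟩ := laurent_coeff_of_valuation_eq hvU
  obtain ⟨β, hβ⟩ : ∃ β : F, Algebra.trace k F β ≠ 0 := by
    obtain ⟨β, hβ⟩ := Algebra.trace_surjective k F 1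
    exact ⟨β, by rw [hβ]; exact one_ne_zero⟩
  obtain ⟨f, hf1, hf0⟩ := hφ.2.1 (β / ((φ U).coeff (-1 - m) * g.coeff m))
  refine ⟨f * U, ?_, ?_⟩
  · rw [map_mul, hPU]
    exact (mul_le_mul' hf1 le_rfl).trans_eq (one_mul _)
  unfold LocRes.locRes LocRes.resExp
  have e0 : φ (f * U * u) * LocRes.D F (φ v) = φ f * φ U * g := by
    rw [hg', map_mul, map_mul]
    ring
  rw [LocRes.res_apply, e0]
  have hfl : ∀ n < 0, (φ f).coeff n = 0 := by
    apply (LaurentSeries.valuation_le_iff_coeff_lt_eq_zero F (D := 0)).1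
    rw [hφ.1]; simpa using hf1
  have h1 : ∀ n < 0 + (-1 - m), (φ f * φ U).coeff n = 0 := by
    apply (LaurentSeries.valuation_le_iff_coeff_lt_eq_zero F).1
    rw [map_mul, hvU, zero_add, hφ.1]
    calc P.1 f * WithZero.exp (-(-1 - m)) ≤ 1 * WithZero.exp (-(-1 - m)) :=
          mul_le_mul' hf1 le_rfl
      _ = WithZero.exp (-(-1 - m)) := one_mul _
  have h2 : (φ f * φ U).coeff (0 + (-1 - m)) = (φ f).coeff 0 * (φ U).coeff (-1 - m) :=
    laurent_coeff_mul_of_le hfl hul
  have h3 : (φ f * φ U * g).coeff ((0 + (-1 - m)) + m) =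
      (φ f * φ U).coeff (0 + (-1 - m)) * g.coeff m := laurent_coeff_mul_of_le h1 hgl
  have e : (0 + (-1 - m)) + m = -1 := by ring
  rw [e] at h3
  rw [h3, h2, hf0]
  have : β / ((φ U).coeff (-1 - m) * g.coeff m) * (φ U).coeff (-1 - m) * g.coeff m = β := by
    field_simp
  rw [this]
  exact hβ

end Groth.Agent.Lib.FPTr58
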