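import Groth.Agent.Lib.FFWeil58a

/-!
# The Weil differential of `u dv` (helper58)

`omegaDiff hK hφ u v : Module.Dual k (adele k K)`, `a ↦ ∑_P Res_P (a_P u dv)`; it vanishes on `K`
(residue theorem) and `isDivOf_omegaDiff`: its divisor is `P ↦ ord_P (u dv)`.
-/

set_option autoImplicit false

namespace Groth.Agent.Lib.FPTr58

open FunFld LaurentSeries HahnSeries Groth.Agent.Lib.H40FunFld

universe u v w

variable {k : Type u} {K : Type v} [Field k] [Field K] [Algebra k K]
  {F : FunFld.Place k K → Type w} [∀ P, Field (F P)] [∀ P, Algebra k (F P)]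
  [∀ P, FiniteDimensional k (F P)]
  {φ : ∀ P, K →ₐ[k] LaurentSeries (F P)}

theorem finite_support_locRes_adele (hK : FunFld.IsFunctionField k K)
    (hφ : ∀ P, LocRes.IsExpansionAt P.1 (φ P)) (u v : K) {a : FunFld.Place k K → K}
    (ha : a ∈ FunFld.adele k K) :
    (Function.support fun P => LocRes.locRes (φ P) (a P * u) v).Finite := by
  rw [mem_adele_iff] at ha
  refine ((ha.union (finite_support_ord hK u)).union (finite_support_ord hK v)).subset ?_
  intro P hP
  by_contra hnot
  simp only [Set.mem_union, Set.mem_setOf_eq, Function.mem_support, not_or, not_not] at hnot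
  obtain ⟨⟨h1, h2⟩, h3⟩ := hnot
  apply hP
  apply locRes_eq_zero_of_le_one P (φ P) (hφ P)
  · rw [map_mul]
    exact (mul_le_mul' h1 (val_le_one_of_ord_eq_zero P h2)).trans_eq (one_mul _)
  · exact val_le_one_of_ord_eq_zero P h3

/-- The linear form `a ↦ ∑_P Res_P (a_P u dv)` on the adele space. -/
noncomputable def omegaDiff (hK : FunFld.IsFunctionField k K)
    (hφ : ∀ P, LocRes.IsExpansionAt P.1 (φ P)) (u v : K) : Module.Dual k (FunFld.adele k K) where
  toFun a := ∑ᶠ P, LocRes.locRes (φ P) ((a : FunFld.Place k K → K) P * u) v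
  map_add' a b := by
    rw [← finsum_add_distrib (finite_support_locRes_adele hK hφ u v a.2)
      (finite_support_locRes_adele hK hφ u v b.2)]
    refine finsum_congr fun P => ?_
    exact (locResLin (φ P) u v).map_add _ _
  map_smul' c a := by
    rw [RingHom.id_apply, smul_finsum' c (finite_support_locRes_adele hK hφ u v a.2)]
    refine finsum_congr fun P => ?_
    exact (locResLin (φ P) u v).map_smul c _

theorem omegaDiff_apply (hK : FunFld.IsFunctionField k K)
    (hφ : ∀ P, LocRes.IsExpansionAt P.1 (φ P)) (u v : K) (a : FunFld.adele k K) :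
    omegaDiff hK hφ u v a = ∑ᶠ P, LocRes.locRes (φ P) ((a : FunFld.Place k K → K) P * u) v := rfl

/-- The form vanishes on the diagonal (residue theorem). -/
theorem omegaDiff_diag (hK : FunFld.IsFunctionField k K)
    (hφ : ∀ P, LocRes.IsExpansionAt P.1 (φ P)) (u v z : K) (a : FunFld.adele k K)
    (ha : (a : FunFld.Place k K → K) = FunFld.diag k K z) : omegaDiff hK hφ u v a = 0 := by
  rw [omegaDiff_apply, ha]
  exact (residue_theorem hK hφ (z * u) v).2

/-- The form vanishes on `A(E)` when `E ≤ (u dv)`. -/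
theorem omegaDiff_eq_zero_of_mem_AD (hK : FunFld.IsFunctionField k K)
    (hφ : ∀ P, LocRes.IsExpansionAt P.1 (φ P)) (u v : K) (E : FunFld.Divisor k K)
    (hE : ∀ P, LocRes.vDiff (φ P) u v ≤ WithZero.exp (-(E P))) (a : FunFld.adele k K)
    (ha : (a : FunFld.Place k K → K) ∈ FunFld.AD E) : omegaDiff hK hφ u v a = 0 := by
  rw [omegaDiff_apply]
  refine finsum_eq_zero_of_forall_eq_zero fun P => ?_
  exact locRes_eq_zero_of_val_le P (φ P) (hφ P) (hE P) (ha P)

theorem omegaDiff_mem_WD (hK : FunFld.IsFunctionField k K)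
    (hφ : ∀ P, LocRes.IsExpansionAt P.1 (φ P)) (u v : K) (E : FunFld.Divisor k K)
    (hE : ∀ P, LocRes.vDiff (φ P) u v ≤ WithZero.exp (-(E P))) :
    omegaDiff hK hφ u v ∈ FunFld.WD E := by
  rw [mem_WD_iff]
  intro a ha
  obtain ⟨b, hb, d, ⟨z, rfl⟩, hsum⟩ := Submodule.mem_sup.mp ha
  have hb' : b ∈ FunFld.adele k K := AD_le_adele E hb
  have hd' : FunFld.diag k K z ∈ FunFld.adele k K := diag_mem_adele hK z
  have e : a = ⟨b, hb'⟩ + ⟨FunFld.diag k K z, hd'⟩ := Subtype.ext hsum.symm
  rw [e, map_add, omegaDiff_eq_zero_of_mem_AD hK hφ u v E hE ⟨b, hb'⟩ hb,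
    omegaDiff_diag hK hφ u v z ⟨_, hd'⟩ rfl, add_zero]

open Classical in
/-- The adele with the single component `y` at `P`. -/
noncomputable def singleAd (P : FunFld.Place k K) (y : K) : FunFld.adele k K :=
  ⟨Pi.single P y, by
    rw [mem_adele_iff]
    refine (Set.finite_singleton P).subset ?_
    intro Q hQ
    by_contra hne
    apply hQ
    rw [Pi.single_apply, if_neg (fun h => hne (Set.mem_singleton_iff.2 h)), map_zero]
    exact zero_le_one⟩

open Classical in
theorem singleAd_apply (P Q : FunFld.Place k K) (y : K) :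
    (singleAd P y : FunFld.Place k K → K) Q = if Q = P then y else 0 := by
  unfold singleAd
  simp only [Pi.single_apply]

theorem omegaDiff_singleAd (hK : FunFld.IsFunctionField k K)
    (hφ : ∀ P, LocRes.IsExpansionAt P.1 (φ P)) (u v : K) (P : FunFld.Place k K) (y : K) :
    omegaDiff hK hφ u v (singleAd P y) = LocRes.locRes (φ P) (y * u) v := by
  classical
  rw [omegaDiff_apply, finsum_eq_single _ P]
  · rw [singleAd_apply, if_pos rfl]
  · intro Q hQ
    rw [singleAd_apply, if_neg hQ]
    exact (locResLin (φ Q) u v).map_zero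

end Groth.Agent.Lib.FPTr58
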