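import Groth.Agent.Lib.FFWeil58b

/-!
# `u dv` gives a Weil differential with divisor `(u dv)` (helper58)

`weil_of_differential`: for a geometric function field with expansions at all places and a nonzero
differential `u dv`, `omegaDiff` is a nonzero Weil differential whose divisor is
`P ↦ ord_P (u dv)`; in particular that function has finite support and is a canonical divisor.
-/

set_option autoImplicit false

namespace Groth.Agent.Lib.FPTr58

open FunFld LaurentSeries HahnSeries Groth.Agent.Lib.H40FunFld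

universe u v w

variable {k : Type u} {K : Type v} [Field k] [Field K] [Algebra k K]
  {F : FunFld.Place k K → Type w} [∀ P, Field (F P)] [∀ P, Algebra k (F P)]
  [∀ P, FiniteDimensional k (F P)]
  {φ : ∀ P, K →ₐ[k] LaurentSeries (F P)}

theorem vDiff_ne_zero (hK : FunFld.IsFunctionField k K) (hg : FunFld.IsGeometric k K)
    (hφ : ∀ P, LocRes.IsExpansionAt P.1 (φ P)) {u v : K} (hu : u ≠ 0)
    (hv : KaehlerDifferential.D k K v ≠ 0) (P : FunFld.Place k K) :
    LocRes.vDiff (φ P) u v ≠ 0 := by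
  unfold LocRes.vDiff
  rw [map_mul]
  refine mul_ne_zero ?_ (valuation_D_expansion_ne_zero hK hg P (φ P) (hφ P) hv)
  rw [(hφ P).1]
  exact (Valuation.ne_zero_iff P.1).mpr hu

theorem vDiff_eq_exp (P : FunFld.Place k K) {u v : K} (h : LocRes.vDiff (φ P) u v ≠ 0) :
    LocRes.vDiff (φ P) u v = WithZero.exp (-(LocRes.ordDiff (φ P) u v)) := by
  unfold LocRes.ordDiff
  rw [neg_neg, WithZero.exp_log h]

theorem vDiff_le_one_of_le_one (hφ : ∀ P, LocRes.IsExpansionAt P.1 (φ P))
    (P : FunFld.Place k K) {u v : K} (hu : P.1 u ≤ 1) (hv : P.1 v ≤ 1) :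
    LocRes.vDiff (φ P) u v ≤ 1 := by
  unfold LocRes.vDiff
  rw [map_mul]
  have h1 : Valued.v (φ P u) ≤ 1 := by rw [(hφ P).1]; exact hu
  have h2 : Valued.v (φ P v) ≤ 1 := by rw [(hφ P).1]; exact hv
  exact (mul_le_mul' h1 (valued_D_le_one h2)).trans_eq (one_mul _)

/-- The local criterion: `ω_{u dv}` vanishes on `A(E) + K` iff `E ≤ (u dv)`. -/
theorem omegaDiff_mem_WD_iff (hK : FunFld.IsFunctionField k K) (hg : FunFld.IsGeometric k K)
    (hφ : ∀ P, LocRes.IsExpansionAt P.1 (φ P)) {u v : K} (hu : u ≠ 0)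
    (hv : KaehlerDifferential.D k K v ≠ 0) (E : FunFld.Divisor k K) :
    omegaDiff hK hφ u v ∈ FunFld.WD E ↔ ∀ P, E P ≤ LocRes.ordDiff (φ P) u v := by
  classical
  constructor
  · intro hω P
    by_contra hlt
    rw [not_le] at hlt
    have hsep : Algebra.IsSeparable k (F P) := isSeparable_of_isExpansionAt hK hg P (φ P) (hφ P)
    obtain ⟨y, hy1, hy2⟩ := exists_locRes_ne_zero_of_val P (φ P) (hφ P)
      (vDiff_eq_exp P (vDiff_ne_zero hK hg hφ hu hv P))
    apply hy2
    rw [← omegaDiff_singleAd hK hφ u v P y]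
    rw [mem_WD_iff] at hω
    apply hω
    refine Submodule.mem_sup_left ?_
    intro Q
    rw [singleAd_apply]
    split_ifs with hQ
    · subst hQ
      refine le_trans hy1 ?_
      rw [WithZero.exp_le_exp]
      omega
    · rw [map_zero]
      exact zero_le
  · intro h
    apply omegaDiff_mem_WD
    intro P
    rw [vDiff_eq_exp P (vDiff_ne_zero hK hg hφ hu hv P), WithZero.exp_le_exp]
    have := h P
    omega

theorem omegaDiff_ne_zero (hK : FunFld.IsFunctionField k K) (hg : FunFld.IsGeometric k K)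
    (hφ : ∀ P, LocRes.IsExpansionAt P.1 (φ P)) {u v : K} (hu : u ≠ 0)
    (hv : KaehlerDifferential.D k K v ≠ 0) : omegaDiff hK hφ u v ≠ 0 := by
  obtain ⟨P⟩ := exists_place hK
  have hsep : Algebra.IsSeparable k (F P) := isSeparable_of_isExpansionAt hK hg P (φ P) (hφ P)
  obtain ⟨y, -, hy2⟩ := exists_locRes_ne_zero_of_val P (φ P) (hφ P)
    (vDiff_eq_exp P (vDiff_ne_zero hK hg hφ hu hv P))
  intro h0
  apply hy2
  rw [← omegaDiff_singleAd hK hφ u v P y, h0]
  rfl

theorem omegaDiff_isWeil (hK : FunFld.IsFunctionField k K) (hg : FunFld.IsGeometric k K)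
    (hφ : ∀ P, LocRes.IsExpansionAt P.1 (φ P)) {u v : K} (hu : u ≠ 0)
    (hv : KaehlerDifferential.D k K v ≠ 0) : FunFld.IsWeil (omegaDiff hK hφ u v) := by
  classical
  set S₀ : Finset (FunFld.Place k K) :=
    (finite_support_ord hK u).toFinset ∪ (finite_support_ord hK v).toFinset with hS₀
  set D₀ : FunFld.Divisor k K := ∑ P ∈ S₀, Finsupp.single P (LocRes.ordDiff (φ P) u v) with hD₀
  have hD₀apply : ∀ Q, D₀ Q = if Q ∈ S₀ then LocRes.ordDiff (φ Q) u v else 0 := by
    intro Q
    rw [hD₀, Finsupp.finset_sum_apply]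
    simp only [Finsupp.single_apply]
    rw [Finset.sum_ite_eq' S₀ Q]
  refine ⟨D₀, (omegaDiff_mem_WD_iff hK hg hφ hu hv D₀).mpr ?_⟩
  intro P
  rw [hD₀apply]
  split_ifs with hP
  · exact le_rfl
  · have hu1 : P.1 u ≤ 1 := by
      apply val_le_one_of_ord_eq_zero
      by_contra h
      apply hP
      rw [hS₀, Finset.mem_union]
      left
      rw [Set.Finite.mem_toFinset]
      exact h
    have hv1 : P.1 v ≤ 1 := by
      apply val_le_one_of_ord_eq_zero
      by_contra h
      apply hP
      rw [hS₀, Finset.mem_union]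
      right
      rw [Set.Finite.mem_toFinset]
      exact h
    have h1 := vDiff_le_one_of_le_one hφ P hu1 hv1
    rw [vDiff_eq_exp P (vDiff_ne_zero hK hg hφ hu hv P), ← WithZero.exp_zero,
      WithZero.exp_le_exp] at h1
    omega

/-- The divisor of `ω_{u dv}` is `P ↦ ord_P (u dv)`. -/
theorem weil_of_differential (hK : FunFld.IsFunctionField k K) (hg : FunFld.IsGeometric k K)
    (hφ : ∀ P, LocRes.IsExpansionAt P.1 (φ P)) {u v : K} (hu : u ≠ 0)
    (hv : KaehlerDifferential.D k K v ≠ 0) :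
    (Function.support fun P => LocRes.ordDiff (φ P) u v).Finite ∧
      ∀ C : FunFld.Divisor k K, (∀ P, C P = LocRes.ordDiff (φ P) u v) →
        FunFld.IsDivOf (omegaDiff hK hφ u v) C := by
  classical
  have hW := omegaDiff_isWeil hK hg hφ hu hv
  have h0 := omegaDiff_ne_zero hK hg hφ hu hv
  have hiff := omegaDiff_mem_WD_iff hK hg hφ hu hv
  have hdiv : ∀ C : FunFld.Divisor k K, (∀ P, C P = LocRes.ordDiff (φ P) u v) →
      FunFld.IsDivOf (omegaDiff hK hφ u v) C := by
    intro C hC E
    rw [hiff E, Finsupp.le_def]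
    refine forall_congr' fun P => ?_
    rw [hC P]
  refine ⟨?_, hdiv⟩
  obtain ⟨C', hC'⟩ := exists_isDivOf hK hW h0
  have h1 : ∀ P, C' P ≤ LocRes.ordDiff (φ P) u v := (hiff C').mp ((hC' C').mpr le_rfl)
  have h2 : ∀ P, LocRes.ordDiff (φ P) u v ≤ C' P := by
    intro P
    by_contra hlt
    rw [not_le] at hlt
    set E : FunFld.Divisor k K := C' + Finsupp.single P 1 with hE
    have hE1 : ∀ Q, E Q ≤ LocRes.ordDiff (φ Q) u v := by
      intro Q
      rw [hE, Finsupp.add_apply, Finsupp.single_apply]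
      split_ifs with hQ
      · subst hQ
        omega
      · rw [add_zero]
        exact h1 Q
    have hE2 : E ≤ C' := (hC' E).mp ((hiff E).mpr hE1)
    have := hE2 P
    rw [hE, Finsupp.add_apply, Finsupp.single_eq_same] at this
    omega
  have h3 : ∀ P, C' P = LocRes.ordDiff (φ P) u v := fun P => le_antisymm (h1 P) (h2 P)
  refine (Finset.finite_toSet C'.support).subset ?_
  intro P hP
  rw [Function.mem_support, ← h3 P] at hP
  exact Finsupp.mem_support_iff.mpr hP

end Groth.Agent.Lib.FPTr58
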