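import Groth.Agent.Lib.FFWeil58c
import Groth.Agent.Lib.FFDiff58c

/-!
# The divisor of `ds` is canonical (helper58)

For an algebraically closed constant field, a Hasse family `H` in the variable `s` and a family of
expansions `Φ` at all places: `divDiff Φ 1 s` is a canonical divisor, of degree `2g - 2`.
-/

set_option autoImplicit false

namespace Groth.Agent.Lib.FFExp58

open FunFld LaurentSeries Groth.Agent.Lib.H40FunFld

universe u v

variable {k : Type u} {K : Type v} [Field k] [Field K] [Algebra k K]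

/-- The variable of a Hasse family has nonzero differential. -/
theorem kaehler_D_ne_zero_of_hasse {s : K} (H : K →ₐ[k] PowerSeries K)
    (hH : LocRes.IsHasseFamily s H) : KaehlerDifferential.D k K s ≠ 0 := by
  intro h0
  have h1 := congrArg (hasseDer H hH).liftKaehlerDifferential h0
  rw [Derivation.liftKaehlerDifferential_comp_D, hasseDer_apply, hasseD_one_self H hH,
    map_zero] at h1
  exact one_ne_zero h1

theorem isCanonical_divDiff [IsAlgClosed k] (hK : FunFld.IsFunctionField k K) {s : K}
    (H : K →ₐ[k] PowerSeries K) (hH : LocRes.IsHasseFamily s H)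
    (Φ : FunFld.Place k K → (K →ₐ[k] LaurentSeries k))
    (hΦ : ∀ P : FunFld.Place k K, LocRes.IsExpansionAt P.1 (Φ P)) :
    FunFld.IsCanonical k K (FunFld.divDiff Φ 1 s) := by
  have hg : FunFld.IsGeometric k K := isGeometric_of_isAlgClosed'
  have hv := kaehler_D_ne_zero_of_hasse H hH
  refine ⟨Groth.Agent.Lib.FPTr58.omegaDiff (F := fun _ => k) hK hΦ 1 s,
    Groth.Agent.Lib.FPTr58.omegaDiff_ne_zero (F := fun _ => k) hK hg hΦ one_ne_zero hv,
    (Groth.Agent.Lib.FPTr58.weil_of_differential (F := fun _ => k) hK hg hΦ one_ne_zero hv).2 _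
      (fun P => divDiff_apply hK H hH Φ hΦ P)⟩

theorem deg_divDiff [IsAlgClosed k] (hK : FunFld.IsFunctionField k K) {s : K}
    (H : K →ₐ[k] PowerSeries K) (hH : LocRes.IsHasseFamily s H)
    (Φ : FunFld.Place k K → (K →ₐ[k] LaurentSeries k))
    (hΦ : ∀ P : FunFld.Place k K, LocRes.IsExpansionAt P.1 (Φ P)) :
    (FunFld.divDiff Φ 1 s).deg = 2 * (FunFld.genus k K : ℤ) - 2 :=
  deg_canonical hK (isCanonical_divDiff hK H hH Φ hΦ)

end Groth.Agent.Lib.FFExp58
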