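import Groth.Agent.Lib.H40FunFldMapDiv

set_option autoImplicit false
set_option linter.style.haveILetI false
open FunFld Polynomial

namespace Groth.Agent.Lib.H40FunFld

open Groth.Agent.Lib.H40QuotChain IntermediateField

universe u v w
variable {k : Type u} [Field k] {K : Type v} [Field K] [Algebra k K]

/-- A copy of `K`, viewed as an extension of `K` through the embedding `τ`. -/
def TauCopy (_τ : K →ₐ[k] K) : Type v := K

namespace TauCopy

variable (τ : K →ₐ[k] K)

noncomputable instance : Field (TauCopy τ) := inferInstanceAs (Field K)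
noncomputable instance : Algebra k (TauCopy τ) := inferInstanceAs (Algebra k K)
noncomputable instance algK : Algebra K (TauCopy τ) := τ.toRingHom.toAlgebra
instance : IsScalarTower k K (TauCopy τ) :=
  IsScalarTower.of_algebraMap_eq fun c => (τ.commutes c).symm

theorem algebraMap_apply (x : K) : algebraMap K (TauCopy τ) x = τ x := rfl

end TauCopy

theorem finiteDimensional_fieldRange (hK : FunFld.IsFunctionField k K) (τ : K →ₐ[k] K) :
    FiniteDimensional ↥τ.fieldRange K := by
  obtain ⟨x, hx, -⟩ := hK.1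
  have hτx : Transcendental k (τ x) := by
    intro halg
    exact hx ((isAlgebraic_algHom_iff τ τ.toRingHom.injective).1 halg)
  have hfin := finiteDimensional_adjoin_of_transcendental hK hτx
  have hle : ∀ a : K, a ∈ k⟮τ x⟯ → a ∈ τ.fieldRange := by
    intro a ha
    have h1 : k⟮τ x⟯ ≤ τ.fieldRange := by
      rw [adjoin_simple_le_iff]
      exact ⟨x, rfl⟩
    exact h1 ha
  let i : ↥k⟮τ x⟯ →+* ↥τ.fieldRange :=
    { toFun := fun a => ⟨a.1, hle a.1 a.2⟩
      map_one' := rfl
      map_mul' := fun _ _ => rfl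
      map_zero' := rfl
      map_add' := fun _ _ => rfl }
  letI := i.toAlgebra
  haveI : IsScalarTower ↥k⟮τ x⟯ ↥τ.fieldRange K := IsScalarTower.of_algebraMap_eq fun _ => rfl
  exact Module.Finite.of_restrictScalars_finite ↥k⟮τ x⟯ ↥τ.fieldRange K

theorem tauCopy_finite (hK : FunFld.IsFunctionField k K) (τ : K →ₐ[k] K) :
    FiniteDimensional K (TauCopy τ) ∧
      Module.finrank K (TauCopy τ) = Module.finrank ↥τ.fieldRange K := by
  have hfin := finiteDimensional_fieldRange hK τ
  let i : K ≃+* ↥τ.fieldRange := τ.equivFieldRange.toRingEquiv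
  let j : TauCopy τ ≃+* K := RingEquiv.refl K
  have hc : (algebraMap ↥τ.fieldRange K).comp i.toRingHom =
      j.toRingHom.comp (algebraMap K (TauCopy τ)) := by
    ext a
    rfl
  refine ⟨?_, Algebra.finrank_eq_of_equiv_equiv i j hc⟩
  have hc' : RingHom.comp (algebraMap K (TauCopy τ)) (i.symm : ↥τ.fieldRange →+* K) =
      RingHom.comp (j.symm : K →+* TauCopy τ) (algebraMap ↥τ.fieldRange K) := by
    ext a
    obtain ⟨b, rfl⟩ := i.surjective a
    simp only [RingHom.coe_comp, RingHom.coe_coe, Function.comp_apply, RingEquiv.symm_apply_apply]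
    rfl
  exact Module.Finite.of_equiv_equiv i.symm j.symm hc'

/-- The degree of `τ(φ)` is `[K : τ(K)]` times the degree of `φ`. -/
theorem deg_mapDiv_comp_algHom (hK : FunFld.IsFunctionField k K) (τ : K →ₐ[k] K) {ι : Type*}
    [Fintype ι] [Nonempty ι] (φ : ι → K) :
    (FunFld.mapDiv k (τ ∘ φ)).deg = Module.finrank ↥τ.fieldRange K * (FunFld.mapDiv k φ).deg := by
  obtain ⟨hfin, hrank⟩ := tauCopy_finite hK τ
  have h1 := mapDiv_algebraMap_eq_conorm (K' := TauCopy τ) hK φ
  have h2 := deg_conorm (K' := TauCopy τ) hK (FunFld.mapDiv k φ)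
  rw [← h1, hrank] at h2
  exact h2

end Groth.Agent.Lib.H40FunFld
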