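import Groth.Agent.Lib.FFWeil58d
import Groth.Agent.Lib.FFDiff58e
import Groth.Agent.Lib.H40FunFldTau

/-!
# The Weierstrass divisor `W(φ, τ)` is effective, and its degree (helper58)

`wDiv_nonneg`, `deg_wDiv` (S12603).
-/

set_option autoImplicit false

namespace Groth.Agent.Lib.FFExp58

open FunFld Groth.Agent.Lib.H40FunFld LaurentSeries IntermediateField

universe u v

variable {k : Type u} {K : Type v} [Field k] [Field K] [Algebra k K]

/-- `W(φ, τ)` has nonnegative coefficient at every place. -/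
theorem wDiv_nonneg_at [IsAlgClosed k] (hK : FunFld.IsFunctionField k K)
    {n : ℕ} (φ : Fin (n + 1) → K) (hφ : LinearIndependent k φ)
    (τ : K →ₐ[k] K) (P : FunFld.Place k K)
    (s : K) (H : K →ₐ[k] PowerSeries K) (hH : LocRes.IsHasseFamily s H)
    (J : Fin n → ℕ) (hJ : FunFld.IsOrders K (FunFld.hcol τ H φ) J)
    (Φ : FunFld.Place k K → (K →ₐ[k] LaurentSeries k))
    (hΦ : ∀ P : FunFld.Place k K, LocRes.IsExpansionAt P.1 (Φ P)) :
    0 ≤ FunFld.wDiv τ H Φ s φ J P := by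
  classical
  -- local parameter and its Hasse family
  obtain ⟨t, ht⟩ := exists_uniformizer P
  obtain ⟨Ht, hHt⟩ := exists_hasse_of_uniformizer hK H hH (Φ P) (hΦ P) ht
  obtain ⟨E⟩ := exists_expData hK P t ht Ht hHt
  -- normalization
  obtain ⟨i₀, -, hi₀⟩ := Finset.exists_max_image Finset.univ (fun i => P.1 (φ i))
    Finset.univ_nonempty
  have hφi₀ : φ i₀ ≠ 0 := hφ.ne_zero i₀
  set y : K := (φ i₀)⁻¹ with hy
  have hy0 : y ≠ 0 := inv_ne_zero hφi₀
  set φ' : Fin (n + 1) → K := fun i => y * φ i with hφ'def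
  have hφ'smul : φ' = y • φ := by
    funext i; simp [hφ'def]
  have hφ' : ∀ i, φ' i = y * ∑ j, (1 : Matrix (Fin (n + 1)) (Fin (n + 1)) k) i j • φ j := by
    intro i
    simp [hφ'def, Matrix.one_apply, ite_smul]
  have hinv := wDiv_invariant hK φ hφ τ s H hH t Ht hHt J hJ 1
    (by rw [Matrix.det_one]; exact one_ne_zero) y hy0 φ' hφ' Φ hΦ
  rw [← hinv]
  have hφ'li : LinearIndependent k φ' := by rw [hφ'smul]; exact linearIndependent_smul hφ hy0
  have heff : (1 : K) ∈ Submodule.span k (Set.range φ') := by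
    have : φ' i₀ = 1 := by simp [hφ'def, hy, inv_mul_cancel₀ hφi₀]
    rw [← this]
    exact Submodule.subset_span ⟨i₀, rfl⟩
  have hnorm : ∀ i, P.1 (φ' i) ≤ 1 := by
    intro i
    have hv0 : P.1 (φ i₀) ≠ 0 := (Valuation.ne_zero_iff P.1).mpr hφi₀
    simp only [hφ'def, hy, map_mul, map_inv₀]
    rw [inv_mul_le_iff₀ (zero_lt_iff.mpr hv0), mul_one]
    exact hi₀ i (Finset.mem_univ i)
  -- `τ`-orders of `φ'` with respect to `Ht`
  have hJ1 : FunFld.IsOrders K (FunFld.hcol τ H φ') J := by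
    rw [hφ'smul]
    exact ((Groth.Agent.S12597.result k K hK φ hφ τ s H hH y hy0).1 J).mpr hJ
  have hJ2 : FunFld.IsOrders K (FunFld.hcol τ Ht φ') J :=
    ((Groth.Agent.S12598.result k K hK φ' hφ'li τ s H hH t Ht hHt).1 J).mpr hJ1
  -- the Wronskian is nonzero
  have hc0 : FunFld.hcol τ Ht φ' 0 ≠ 0 := by
    intro h0
    have h1 : τ (φ' 0) = 0 := congrFun h0 0
    exact hφ'li.ne_zero 0 ((map_eq_zero τ).mp h1)
  have hdet : (FunFld.wrMat τ Ht φ' J).det ≠ 0 :=
    (det_ne_zero_iff_linearIndependent _ J _ (wrMat_apply τ Ht φ' J)).mpr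
      (linearIndependent_orders _ J hJ2 hc0)
  -- the entry of `τ(φ')` of largest value
  obtain ⟨i₁, -, hi₁⟩ := Finset.exists_max_image Finset.univ (fun i => P.1 (τ (φ' i)))
    Finset.univ_nonempty
  have hτne : ∀ i, τ (φ' i) ≠ 0 := fun i h => hφ'li.ne_zero i ((map_eq_zero τ).mp h)
  set z : K := τ (φ' i₁) with hz
  have hz0 : z ≠ 0 := hτne i₁
  have hinf : Finset.univ.inf' Finset.univ_nonempty (fun i => P.ord ((⇑τ ∘ φ') i)) = P.ord z := by
    apply le_antisymm
    · exact Finset.inf'_le _ (Finset.mem_univ i₁)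
    · refine Finset.le_inf' _ _ fun i _ => ?_
      exact ord_le_ord_of_val_le P (hτne i) hz0 (hi₁ i (Finset.mem_univ i))
  have hW : FunFld.wDiv τ Ht Φ t φ' J P = P.ord (FunFld.wrMat τ Ht φ' J).det - P.ord z := by
    unfold FunFld.wDiv
    simp only [Finsupp.add_apply, Finsupp.smul_apply]
    rw [div_apply_of_finite _ (finite_support_ord hK _), mapDiv_apply_eq_zero φ' heff hnorm,
      mapDiv_apply' hK (⇑τ ∘ φ') P, hinf,
      divDiff_apply_eq_zero Φ hΦ ht, smul_zero, smul_zero, add_zero, add_zero]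
    ring
  rw [hW, sub_nonneg]
  apply ord_le_ord_of_val_le P hdet hz0
  -- scale the first column
  set v : Fin (n + 1) → K := fun c => Fin.cases (motive := fun _ => K) z (fun _ => 1) c with hv
  set M' : Matrix (Fin (n + 1)) (Fin (n + 1)) K := Matrix.of fun i c =>
    Fin.cases (motive := fun _ => K) (z⁻¹ * τ (φ' i)) (fun l => LocRes.hasseD Ht (J l) (φ' i)) c
    with hM'
  have hM : FunFld.wrMat τ Ht φ' J = Matrix.of fun i c => v c * M' i c := by
    ext i c
    refine Fin.cases ?_ (fun l => ?_) c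
    · simp [FunFld.wrMat, hv, hM', mul_inv_cancel_left₀ hz0]
    · simp [FunFld.wrMat, hv, hM']
  have hprod : ∏ c, v c = z := by
    rw [Fin.prod_univ_succ]
    simp [hv]
  have hM'le : ∀ i c, P.1 (M' i c) ≤ 1 := by
    intro i c
    refine Fin.cases ?_ (fun l => ?_) c
    · simp only [hM', Matrix.of_apply, Fin.cases_zero, map_mul, map_inv₀]
      have hv0 : P.1 z ≠ 0 := (Valuation.ne_zero_iff P.1).mpr hz0
      rw [inv_mul_le_iff₀ (zero_lt_iff.mpr hv0), mul_one]
      exact hi₁ i (Finset.mem_univ i)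
    · simp only [hM', Matrix.of_apply, Fin.cases_succ]
      exact (E.heval (φ' i) (hnorm i) (J l)).1
  rw [hM, Matrix.det_mul_row, hprod, map_mul]
  exact (mul_le_mul' le_rfl (evalP_det P M' hM'le).1).trans_eq (mul_one _)

theorem wDiv_nonneg [IsAlgClosed k] (hK : FunFld.IsFunctionField k K)
    {n : ℕ} (φ : Fin (n + 1) → K) (hφ : LinearIndependent k φ)
    (τ : K →ₐ[k] K)
    (s : K) (H : K →ₐ[k] PowerSeries K) (hH : LocRes.IsHasseFamily s H)
    (J : Fin n → ℕ) (hJ : FunFld.IsOrders K (FunFld.hcol τ H φ) J)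
    (Φ : FunFld.Place k K → (K →ₐ[k] LaurentSeries k))
    (hΦ : ∀ P : FunFld.Place k K, LocRes.IsExpansionAt P.1 (Φ P)) :
    0 ≤ FunFld.wDiv τ H Φ s φ J := by
  rw [Finsupp.le_def]
  intro P
  exact wDiv_nonneg_at hK φ hφ τ P s H hH J hJ Φ hΦ

theorem deg_wDiv [IsAlgClosed k] (hK : FunFld.IsFunctionField k K)
    {n : ℕ} (φ : Fin (n + 1) → K)
    (τ : K →ₐ[k] K)
    (s : K) (H : K →ₐ[k] PowerSeries K) (hH : LocRes.IsHasseFamily s H)
    (J : Fin n → ℕ)
    (Φ : FunFld.Place k K → (K →ₐ[k] LaurentSeries k))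
    (hΦ : ∀ P : FunFld.Place k K, LocRes.IsExpansionAt P.1 (Φ P)) :
    (FunFld.wDiv τ H Φ s φ J).deg =
      ((Module.finrank τ.fieldRange K : ℤ) + n) * (FunFld.mapDiv k φ).deg +
        (2 * (FunFld.genus k K : ℤ) - 2) * ∑ l, (J l : ℤ) := by
  unfold FunFld.wDiv
  rw [deg_add, deg_add, deg_add, deg_zsmul, deg_zsmul, deg_div_eq_zero hK,
    deg_mapDiv_comp_algHom hK τ φ, deg_divDiff hK H hH Φ hΦ]
  ring

end Groth.Agent.Lib.FFExp58
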