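import Groth.Agent.Lib.H40FunFldPluckerA

set_option autoImplicit false
open FunFld Polynomial

namespace Groth.Agent.Lib.H40FunFld

open Groth.Agent.Lib.H40QuotChain IntermediateField

universe u v w
variable {k : Type u} {K : Type v} [Field k] [Field K] [Algebra k K]

/-- Dimension of the image of a subspace under a derivation whose constants are `k`. -/
theorem finrank_map_deriv (δ : Derivation k K K)
    (hker : ∀ f : K, δ f = 0 → ∃ c : k, f = algebraMap k K c) (W : Submodule k K)
    [FiniteDimensional k W] [Decidable ((1 : K) ∈ W)] :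
    Module.finrank k ↥(W.map (δ : K →ₗ[k] K)) + (if (1 : K) ∈ W then 1 else 0) =
      Module.finrank k ↥W := by
  set g : ↥W →ₗ[k] K := (δ : K →ₗ[k] K).domRestrict W with hg
  have h1 := g.finrank_range_add_finrank_ker
  rw [hg, LinearMap.range_domRestrict] at h1
  rw [← h1]
  congr 1
  split_ifs with h
  · have hk : LinearMap.ker ((δ : K →ₗ[k] K).domRestrict W) =
        Submodule.span k {(⟨1, h⟩ : ↥W)} := by
      apply le_antisymm
      · intro w hw
        rw [LinearMap.mem_ker] at hw
        obtain ⟨c, hc⟩ := hker w.1 hw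
        rw [Submodule.mem_span_singleton]
        refine ⟨c, Subtype.ext ?_⟩
        rw [hc, Algebra.algebraMap_eq_smul_one]
        rfl
      · rw [Submodule.span_singleton_le_iff_mem, LinearMap.mem_ker]
        change δ 1 = 0
        exact Derivation.map_one_eq_zero δ
    rw [hk, finrank_span_singleton]
    intro h0
    have := congrArg Subtype.val h0
    exact one_ne_zero this
  · have hk : LinearMap.ker ((δ : K →ₗ[k] K).domRestrict W) = ⊥ := by
      rw [Submodule.eq_bot_iff]
      intro w hw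
      rw [LinearMap.mem_ker] at hw
      obtain ⟨c, hc⟩ := hker w.1 hw
      by_cases hc0 : c = 0
      · apply Subtype.ext
        rw [hc, hc0, map_zero]; rfl
      · exfalso
        apply h
        have h2 : (1 : K) = c⁻¹ • w.1 := by
          rw [hc, Algebra.smul_def, ← map_mul, inv_mul_cancel₀ hc0, map_one]
        rw [h2]
        exact W.smul_mem _ w.2
    rw [hk, finrank_bot]

theorem sum_range_ite_succ_le (M e : ℕ) (he : e ≤ M) :
    (∑ j ∈ Finset.range M, if ((j + 1 : ℕ) : ℤ) ≤ (e : ℤ) then 1 else 0) = e := by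
  have : ∀ j ∈ Finset.range M, (if ((j + 1 : ℕ) : ℤ) ≤ (e : ℤ) then 1 else 0) =
      if j ∈ Finset.range e then 1 else 0 := by
    intro j _
    simp only [Finset.mem_range]
    congr 1
    apply propext
    constructor <;> intro h <;> omega
  rw [Finset.sum_congr rfl this, Finset.sum_ite_mem, Finset.sum_const, smul_eq_mul, mul_one]
  rw [Finset.inter_eq_right.2 (Finset.range_mono he), Finset.card_range]


theorem sum_single_one_apply [DecidableEq (FunFld.Place k K)] (S' : Finset (FunFld.Place k K))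
    (R : FunFld.Place k K) :
    (∑ P ∈ S', Finsupp.single P (1 : ℤ) : FunFld.Divisor k K) R = if R ∈ S' then 1 else 0 := by
  rw [Finsupp.finsetSum_apply]
  simp only [Finsupp.single_apply]
  rw [Finset.sum_ite_eq']

section Step

variable [IsAlgClosed k] [CharZero k] (hK : FunFld.IsFunctionField k K) {t : K}
  {B : FunFld.Place k K} (hc : IsCoord t B) (δ : Derivation k K K) (hδ : δ t = 1)

include hK hc hδ

/-- Local comparison of the vanishing filtrations of `V` and of its derived system `δ V`. -/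
theorem IsCoord.map_deriv_inf_L {V : Submodule k K} {D D' : FunFld.Divisor k K}
    (hV : V ≤ FunFld.L D) (h1V : (1 : K) ∈ V)
    (hV' : V.map (δ : K →ₗ[k] K) ≤ FunFld.L D') {P : FunFld.Place k K} (hP : P ≠ B)
    (hD' : D' P = D P + 1) (n : ℕ) :
    V.map (δ : K →ₗ[k] K) ⊓ FunFld.L (D' - Finsupp.single P (n : ℤ)) =
      (V ⊓ FunFld.L (D - Finsupp.single P (n : ℤ))).map (δ : K →ₗ[k] K) := by
  classical
  have hsingle : ∀ (E : FunFld.Divisor k K) (R : FunFld.Place k K), R ≠ P →
      (E - Finsupp.single P (n : ℤ)) R = E R := by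
    intro E R hR
    rw [Finsupp.sub_apply, Finsupp.single_apply, if_neg (Ne.symm hR), sub_zero]
  have hsingleP : ∀ (E : FunFld.Divisor k K), (E - Finsupp.single P (n : ℤ)) P = E P - n := by
    intro E
    rw [Finsupp.sub_apply, Finsupp.single_apply, if_pos rfl]
  apply le_antisymm
  · rintro y ⟨hyV', hyL⟩
    obtain ⟨x, hxV, rfl⟩ := hyV'
    change δ x ∈ _ at hyL
    change δ x ∈ _
    by_cases hy0 : δ x = 0
    · rw [hy0]; exact Submodule.zero_mem _
    -- replace `x` by a primitive of nonzero order at `P`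
    obtain ⟨x₁, hx₁V, hx₁δ, hx₁0, hx₁ord⟩ : ∃ x₁ ∈ V, δ x₁ = δ x ∧ x₁ ≠ 0 ∧ P.ord x₁ ≠ 0 := by
      have hx0 : x ≠ 0 := by
        rintro rfl; exact hy0 (map_zero _)
      by_cases hord : P.ord x = 0
      · have hx1 : P.1 x = 1 := by
          rw [val_eq_exp_neg_ord P hx0, hord, neg_zero, WithZero.exp_zero]
        obtain ⟨c, hcx⟩ := exists_const_val_sub_lt_one (deg_eq_one_of_isAlgClosed hK P) hx1.le
        have hδ1 : δ (x - algebraMap k K c) = δ x := by
          rw [map_sub, Derivation.map_algebraMap, sub_zero]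
        have hne : x - algebraMap k K c ≠ 0 := by
          intro h0; rw [h0, map_zero] at hδ1; exact hy0 hδ1.symm
        refine ⟨x - algebraMap k K c, V.sub_mem hxV ?_, hδ1, hne, ?_⟩
        · rw [Algebra.algebraMap_eq_smul_one]; exact V.smul_mem c h1V
        · rw [ord_ne_zero_iff P hne]; exact hcx.ne
      · exact ⟨x, hxV, rfl, hx0, hord⟩
    rw [← hx₁δ] at hyL ⊢
    obtain ⟨hne, hordδ⟩ := hc.ord_deriv hK δ hδ hP hx₁0 hx₁ord
    refine Submodule.mem_map_of_mem ⟨hx₁V, ?_⟩
    rw [SetLike.mem_coe, mem_L_iff]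
    intro R
    by_cases hR : R = P
    · subst hR
      have h2 := hyL R
      rw [hsingleP, hD', val_eq_exp_neg_ord R hne, hordδ, WithZero.exp_le_exp] at h2
      rw [hsingleP, val_eq_exp_neg_ord R hx₁0, WithZero.exp_le_exp]
      linarith
    · rw [hsingle D R hR]
      exact hV hx₁V R
  · rintro y ⟨x, ⟨hxV, hxL⟩, rfl⟩
    change δ x ∈ _
    refine ⟨Submodule.mem_map_of_mem hxV, ?_⟩
    rw [SetLike.mem_coe, mem_L_iff]
    intro R
    by_cases hR : R = P
    · subst hR
      have h2 := hxL R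
      rw [hsingleP] at h2 ⊢
      refine le_trans (hc.val_deriv_le hK δ hδ hP x) ?_
      rw [hD']
      calc R.1 x * WithZero.exp (1 : ℤ) ≤ WithZero.exp (D R - n) * WithZero.exp (1 : ℤ) :=
            mul_le_mul' h2 le_rfl
        _ = WithZero.exp (D R + 1 - n) := by rw [← WithZero.exp_add]; congr 1; ring
    · rw [hsingle D' R hR]
      exact hV' (Submodule.mem_map_of_mem hxV) R


/-- Numerical form of the local comparison. -/
theorem IsCoord.vdim_map_deriv {V : Submodule k K} {D D' : FunFld.Divisor k K}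
    (hV : V ≤ FunFld.L D) (h1V : (1 : K) ∈ V)
    (hV' : V.map (δ : K →ₗ[k] K) ≤ FunFld.L D') {P : FunFld.Place k K} (hP : P ≠ B)
    (hD' : D' P = D P + 1) (n : ℕ) :
    vdim (V.map (δ : K →ₗ[k] K)) D' P n + (if (n : ℤ) ≤ D P then 1 else 0) = vdim V D P n := by
  classical
  unfold vdim
  rw [hc.map_deriv_inf_L hK δ hδ hV h1V hV' hP hD' n]
  have hfin : FiniteDimensional k ↥(V ⊓ FunFld.L (D - Finsupp.single P (n : ℤ))) := by
    have := finiteDimensional_L hK (D - Finsupp.single P (n : ℤ))
    exact Submodule.finiteDimensional_of_le inf_le_right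
  have h1 := finrank_map_deriv δ (fun f hf => hc.exists_const_of_deriv_eq_zero hK δ hδ hf)
    (V ⊓ FunFld.L (D - Finsupp.single P (n : ℤ)))
  rw [← h1]
  congr 1
  have hDnonneg : ∀ R : FunFld.Place k K, 0 ≤ D R := by
    intro R
    have := hV h1V R
    rwa [map_one, ← WithZero.exp_zero, WithZero.exp_le_exp] at this
  have hiff : (1 : K) ∈ V ⊓ FunFld.L (D - Finsupp.single P (n : ℤ)) ↔ (n : ℤ) ≤ D P := by
    rw [Submodule.mem_inf, mem_L_iff]
    constructor
    · rintro ⟨-, h⟩
      have := h P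
      rw [map_one, ← WithZero.exp_zero, WithZero.exp_le_exp, Finsupp.sub_apply,
        Finsupp.single_apply, if_pos rfl] at this
      linarith
    · intro h
      refine ⟨h1V, fun R => ?_⟩
      rw [map_one, ← WithZero.exp_zero, WithZero.exp_le_exp, Finsupp.sub_apply,
        Finsupp.single_apply]
      split_ifs with hR
      · subst hR; linarith
      · have := hDnonneg R; linarith
  simp only [hiff]

/-- Sum form of the local comparison. -/
theorem IsCoord.wsum_map_deriv {V : Submodule k K} {D D' : FunFld.Divisor k K}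
    (hV : V ≤ FunFld.L D) (h1V : (1 : K) ∈ V)
    (hV' : V.map (δ : K →ₗ[k] K) ≤ FunFld.L D') {P : FunFld.Place k K} (hP : P ≠ B)
    (hD' : D' P = D P + 1) {M e : ℕ} (he : D P = e) (heM : e ≤ M) :
    wsum (V.map (δ : K →ₗ[k] K)) D' M P + e = wsum V D M P := by
  rw [wsum_eq_sum_vdim, wsum_eq_sum_vdim]
  have h1 : ∀ j ∈ Finset.range M, vdim V D P (j + 1) =
      vdim (V.map (δ : K →ₗ[k] K)) D' P (j + 1) +
        (if ((j + 1 : ℕ) : ℤ) ≤ (e : ℤ) then 1 else 0) := by
    intro j _
    rw [← he]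
    exact (hc.vdim_map_deriv hK δ hδ hV h1V hV' hP hD' (j + 1)).symm
  rw [Finset.sum_congr rfl h1, Finset.sum_add_distrib, sum_range_ite_succ_le M e heM]


/-- The derived system `δ V` lies in `L(D + ∑_{P ∈ S'} P - 2B)`. -/
theorem IsCoord.map_deriv_le_L {V : Submodule k K} {D : FunFld.Divisor k K}
    (hV : V ≤ FunFld.L D)
    (S' : Finset (FunFld.Place k K)) (hB : B ∉ S') (hsupp : D.support ⊆ S') :
    V.map (δ : K →ₗ[k] K) ≤
      FunFld.L (D + (∑ P ∈ S', Finsupp.single P (1 : ℤ)) - Finsupp.single B (2 : ℤ)) := by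
  classical
  rintro y ⟨x, hxV, rfl⟩
  change δ x ∈ _
  rw [mem_L_iff]
  intro R
  have hx := hV hxV R
  rw [Finsupp.sub_apply, Finsupp.add_apply, sum_single_one_apply, Finsupp.single_apply]
  by_cases hRB : R = B
  · subst hRB
    have hD0 : D R = 0 := by
      by_contra h
      exact hB (hsupp (Finsupp.mem_support_iff.2 h))
    rw [if_neg hB, if_pos rfl, hD0]
    rw [hD0, WithZero.exp_zero] at hx
    have := hc.val_deriv_le_at_pole hK δ hδ hx
    simpa using this
  · rw [if_neg (Ne.symm hRB), sub_zero]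
    by_cases hRS : R ∈ S'
    · rw [if_pos hRS]
      refine le_trans (hc.val_deriv_le hK δ hδ hRB x) ?_
      rw [WithZero.exp_add]
      exact mul_le_mul' hx le_rfl
    · have hD0 : D R = 0 := by
        by_contra h
        exact hRS (hsupp (Finsupp.mem_support_iff.2 h))
      rw [if_neg hRS, hD0, add_zero, WithZero.exp_zero]
      rw [hD0, WithZero.exp_zero] at hx
      exact hc.val_deriv_le_one hK δ hδ hRB hx

end Step


theorem deg_sum_single_one [IsAlgClosed k] (hK : FunFld.IsFunctionField k K)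
    (S' : Finset (FunFld.Place k K)) :
    FunFld.Divisor.deg (∑ P ∈ S', Finsupp.single P (1 : ℤ) : FunFld.Divisor k K) = S'.card := by
  rw [deg_sum]
  have : ∀ P ∈ S', FunFld.Divisor.deg (Finsupp.single P (1 : ℤ) : FunFld.Divisor k K) = 1 := by
    intro P _
    rw [deg_single, deg_eq_one_of_isAlgClosed hK P]; norm_num
  rw [Finset.sum_congr rfl this]
  simp

theorem deg_eq_sum_of_support_subset [IsAlgClosed k] (hK : FunFld.IsFunctionField k K)
    (D : FunFld.Divisor k K) {S' : Finset (FunFld.Place k K)} (hsupp : D.support ⊆ S') :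
    D.deg = ∑ P ∈ S', D P := by
  unfold FunFld.Divisor.deg
  rw [Finsupp.sum_of_support_subset D hsupp (fun P n => n * (P.deg : ℤ)) (fun i _ => zero_mul _)]
  apply Finset.sum_congr rfl
  intro P _
  rw [deg_eq_one_of_isAlgClosed hK P]; norm_num

theorem apply_le_deg_of_nonneg [IsAlgClosed k] (hK : FunFld.IsFunctionField k K)
    {D : FunFld.Divisor k K} (hD : 0 ≤ D) (P : FunFld.Place k K) : D P ≤ D.deg := by
  classical
  have h1 : 0 ≤ D - Finsupp.single P (D P) := by
    rw [Finsupp.le_def]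
    intro R
    rw [Finsupp.zero_apply, Finsupp.sub_apply, Finsupp.single_apply]
    split_ifs with h
    · subst h; simp
    · have := hD R; simpa using this
  have h2 := deg_nonneg h1
  rw [deg_sub, deg_single, deg_eq_one_of_isAlgClosed hK P] at h2
  push_cast at h2
  linarith

/-- Inductive step of the Plücker inequality on a rational curve, for a linear system
containing the constants. -/
theorem plucker_step [IsAlgClosed k] [CharZero k] (hK : FunFld.IsFunctionField k K)
    (hg0 : FunFld.genus k K = 0) (r : ℕ)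
    (IH : ∀ (D : FunFld.Divisor k K) (V : Submodule k K), V ≤ FunFld.L D →
      Module.finrank k ↥V = r → ∀ (S : Finset (FunFld.Place k K)) (M : ℕ), D.deg ≤ M →
      ∑ P ∈ S, (2 * (wsum V D M P : ℤ) - r * (r - 1)) ≤ 2 * r * (D.deg - r + 1))
    (D : FunFld.Divisor k K) (V : Submodule k K) (hV : V ≤ FunFld.L D) (h1V : (1 : K) ∈ V)
    (hVr : Module.finrank k ↥V = r + 1) (S : Finset (FunFld.Place k K)) (M : ℕ)
    (hM : D.deg ≤ M) :
    ∑ P ∈ S, (2 * (wsum V D M P : ℤ) - (r + 1) * r) ≤ 2 * (r + 1) * (D.deg - r) := by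
  classical
  have hfinV : FiniteDimensional k ↥V := Module.finite_of_finrank_pos (by omega)
  have hDnonneg : 0 ≤ D := by
    rw [Finsupp.le_def]
    intro R
    have := hV h1V R
    rwa [map_one, ← WithZero.exp_zero, WithZero.exp_le_exp] at this
  obtain ⟨d, hd⟩ : ∃ d : ℕ, D.deg = d := ⟨D.deg.toNat, (Int.toNat_of_nonneg (deg_nonneg hDnonneg)).symm⟩
  have hdM : d ≤ M := by rw [hd] at hM; exact_mod_cast hM
  set S' := S ∪ D.support with hS'
  have hsupp : D.support ⊆ S' := Finset.subset_union_right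
  obtain ⟨B, hB⟩ := exists_place_notMem hK S'
  obtain ⟨t, hc⟩ := exists_isCoord hK hg0 B
  obtain ⟨δ, hδ⟩ := exists_derivation (hc.transcendental hK) (hc.adjoin_eq_top hK)
  set D' : FunFld.Divisor k K :=
    D + (∑ P ∈ S', Finsupp.single P (1 : ℤ)) - Finsupp.single B (2 : ℤ) with hD'
  have hV' := hc.map_deriv_le_L hK δ hδ hV S' hB hsupp
  rw [← hD'] at hV'
  have hD'P : ∀ P ∈ S', D' P = D P + 1 := by
    intro P hP
    have hPB : B ≠ P := fun h => hB (h ▸ hP)
    rw [hD', Finsupp.sub_apply, Finsupp.add_apply, sum_single_one_apply, if_pos hP,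
      Finsupp.single_apply, if_neg hPB, sub_zero]
  have hVr' : Module.finrank k ↥(V.map (δ : K →ₗ[k] K)) = r := by
    have := finrank_map_deriv δ (fun f hf => hc.exists_const_of_deriv_eq_zero hK δ hδ hf) V
    rw [if_pos h1V, hVr] at this
    omega
  have hdegD' : D'.deg = d + S'.card - 2 := by
    rw [hD', deg_sub, deg_add, deg_sum_single_one hK, deg_single,
      deg_eq_one_of_isAlgClosed hK B, hd]
    norm_num
  have hIH := IH D' (V.map (δ : K →ₗ[k] K)) hV' hVr' S' (M + S'.card)
    (by rw [hdegD']; push_cast; linarith [hdM, (by exact_mod_cast hdM : (d : ℤ) ≤ M)])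
  -- compare the weights of `V` and `δ V` at the places of `S'`
  have hcmp : ∀ P ∈ S', (wsum (V.map (δ : K →ₗ[k] K)) D' (M + S'.card) P : ℤ) =
      wsum V D M P - D P := by
    intro P hP
    have hPB : P ≠ B := fun h => hB (h ▸ hP)
    have he : D P = ((D P).toNat : ℤ) := (Int.toNat_of_nonneg (hDnonneg P)).symm
    have hle : (D P).toNat ≤ M + S'.card := by
      have h1 := apply_le_deg_of_nonneg hK hDnonneg P
      rw [hd] at h1
      omega
    have h2 := hc.wsum_map_deriv hK δ hδ hV h1V hV' hPB (hD'P P hP) he hle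
    have h3 := wsum_eq_of_le hK V D (deg_eq_one_of_isAlgClosed hK P) hM
      (Nat.le_add_right M S'.card)
    rw [h3] at h2
    rw [he]
    omega
  have hnonneg : ∀ P : FunFld.Place k K, 0 ≤ 2 * (wsum V D M P : ℤ) - (r + 1) * r := by
    intro P
    have h1 := le_two_mul_wsum hK hd hV hVr (deg_eq_one_of_isAlgClosed hK P)
    have h2 := wsum_eq_of_le hK V D (deg_eq_one_of_isAlgClosed hK P) (le_of_eq hd) hdM
    rw [h2]
    have : ((r * (r + 1) : ℕ) : ℤ) ≤ ((2 * wsum V D d P : ℕ) : ℤ) := by exact_mod_cast h1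
    push_cast at this
    linarith
  have hsub : ∑ P ∈ S, (2 * (wsum V D M P : ℤ) - (r + 1) * r) ≤
      ∑ P ∈ S', (2 * (wsum V D M P : ℤ) - (r + 1) * r) :=
    Finset.sum_le_sum_of_subset_of_nonneg Finset.subset_union_left (fun P _ _ => hnonneg P)
  refine le_trans hsub ?_
  have hsumD : ∑ P ∈ S', D P = d := by rw [← deg_eq_sum_of_support_subset hK D hsupp, hd]
  have h4 : ∑ P ∈ S', (2 * (wsum (V.map (δ : K →ₗ[k] K)) D' (M + S'.card) P : ℤ) - r * (r - 1)) =
      ∑ P ∈ S', (2 * (wsum V D M P : ℤ) - (r + 1) * r) - 2 * d + 2 * r * S'.card := by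
    rw [Finset.sum_congr rfl (fun P hP => by rw [hcmp P hP])]
    have : ∀ P ∈ S', 2 * ((wsum V D M P : ℤ) - D P) - r * (r - 1) =
        (2 * (wsum V D M P : ℤ) - (r + 1) * r) - 2 * D P + 2 * r := by
      intro P _; ring
    rw [Finset.sum_congr rfl this, Finset.sum_add_distrib, Finset.sum_sub_distrib,
      ← Finset.mul_sum, hsumD, Finset.sum_const, nsmul_eq_mul]
    ring
  rw [h4, hdegD'] at hIH
  rw [hd]
  nlinarith [hIH]


/-- The Plücker inequality on a rational curve in characteristic zero (integer form): for every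
finite set `S` of places the weights of a linear system `V` of dimension `n` sum to at most
`n (deg D - n + 1)`. -/
theorem plucker_aux [IsAlgClosed k] [CharZero k] (hK : FunFld.IsFunctionField k K)
    (hg0 : FunFld.genus k K = 0) : ∀ (n : ℕ) (D : FunFld.Divisor k K) (V : Submodule k K),
      V ≤ FunFld.L D → Module.finrank k ↥V = n → ∀ (S : Finset (FunFld.Place k K)) (M : ℕ),
      D.deg ≤ M →
      ∑ P ∈ S, (2 * (wsum V D M P : ℤ) - n * (n - 1)) ≤ 2 * n * (D.deg - n + 1) := by
  intro n
  induction n with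
  | zero =>
    intro D V hV hVn S M _
    have hfin : FiniteDimensional k ↥V := by
      have := finiteDimensional_L hK D
      exact Submodule.finiteDimensional_of_le hV
    have hbot : V = ⊥ := Submodule.finrank_eq_zero.1 hVn
    have h0 : ∀ P, wsum V D M P = 0 := by
      intro P
      unfold wsum
      apply Finset.sum_eq_zero
      intro j _
      rw [hbot, bot_inf_eq, finrank_bot]
    simp [h0]
  | succ r ih =>
    intro D V hV hVn S M hM
    have hne : V ≠ ⊥ := by
      intro h; rw [h, finrank_bot] at hVn; omega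
    obtain ⟨f₀, hf₀V, hf₀⟩ := Submodule.exists_mem_ne_zero_of_ne_bot hne
    set V₁ := V.map (mulInvEquiv (k := k) f₀ hf₀).toLinearMap with hV₁
    set D₁ := D + FunFld.div k f₀ with hD₁
    have hV₁L : V₁ ≤ FunFld.L D₁ := by
      rintro y ⟨x, hxV, rfl⟩
      change f₀⁻¹ * x ∈ FunFld.L D₁
      rw [hD₁, ← mul_mem_L_iff hK D hf₀, ← mul_assoc, mul_inv_cancel₀ hf₀, one_mul]
      exact hV hxV
    have h1 : (1 : K) ∈ V₁ := by
      refine ⟨f₀, hf₀V, ?_⟩
      change f₀⁻¹ * f₀ = 1
      exact inv_mul_cancel₀ hf₀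
    have hV₁n : Module.finrank k ↥V₁ = r + 1 := by
      rw [hV₁, ← hVn]
      exact LinearEquiv.finrank_map_eq (mulInvEquiv (k := k) f₀ hf₀) V
    have hdeg : D₁.deg = D.deg := by rw [hD₁, deg_add, deg_div_eq_zero hK, add_zero]
    have hstep := plucker_step hK hg0 r ih D₁ V₁ hV₁L h1 hV₁n S M (by rw [hdeg]; exact hM)
    rw [hdeg] at hstep
    have hw : ∀ P, wsum V₁ D₁ M P = wsum V D M P := fun P =>
      wsum_map_mulInvEquiv hK V D hf₀ P M
    simp only [hw] at hstep
    push_cast
    have e : ∀ P, 2 * (wsum V D M P : ℤ) - ((r : ℤ) + 1) * ((r : ℤ) + 1 - 1) =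
        2 * (wsum V D M P : ℤ) - ((r : ℤ) + 1) * r := by
      intro P; ring
    simp only [e]
    refine le_trans hstep (le_of_eq ?_)
    ring

/-- The Plücker inequality on a rational curve in characteristic zero: for every finite set `S`
of places, `∑_{P ∈ S} w(P) ≤ (r + 1) (d - r)`; here in a subtraction-free form. -/
theorem plucker [IsAlgClosed k] [CharZero k] (hK : FunFld.IsFunctionField k K)
    (hg0 : FunFld.genus k K = 0) {d r : ℕ} {D : FunFld.Divisor k K} (hD : D.deg = d)
    {V : Submodule k K} (hV : V ≤ FunFld.L D) (hVr : Module.finrank k ↥V = r + 1)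
    (S : Finset (FunFld.Place k K)) :
    2 * (∑ P ∈ S, wsum V D d P) + 2 * (r * (r + 1)) ≤
      2 * ((r + 1) * d) + S.card * (r * (r + 1)) := by
  have h := plucker_aux hK hg0 (r + 1) D V hV hVr S d (le_of_eq hD)
  rw [hD] at h
  have h2 : ∑ P ∈ S, (2 * (wsum V D d P : ℤ) - ((r + 1 : ℕ) : ℤ) * (((r + 1 : ℕ) : ℤ) - 1)) =
      2 * (∑ P ∈ S, (wsum V D d P : ℤ)) - S.card * ((r : ℤ) * (r + 1)) := by
    rw [Finset.sum_sub_distrib, ← Finset.mul_sum, Finset.sum_const, nsmul_eq_mul]
    push_cast
    ring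
  rw [h2] at h
  have h3 : (2 * (∑ P ∈ S, (wsum V D d P : ℤ)) + 2 * ((r : ℤ) * (r + 1)) : ℤ) ≤
      2 * (((r : ℤ) + 1) * d) + S.card * ((r : ℤ) * (r + 1)) := by
    push_cast at h
    linarith
  exact_mod_cast h3


/-- Three-point Plücker inequality on a rational curve. -/
theorem plucker_three [IsAlgClosed k] [CharZero k] (hK : FunFld.IsFunctionField k K)
    (hg0 : FunFld.genus k K = 0) {d r : ℕ} {D : FunFld.Divisor k K} (hD : D.deg = d)
    {V : Submodule k K} (hV : V ≤ FunFld.L D) (hVr : Module.finrank k ↥V = r + 1)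
    {A B C : FunFld.Place k K} (hAB : A ≠ B) (hAC : A ≠ C) (hBC : B ≠ C) :
    2 * (wsum V D d A + wsum V D d B + wsum V D d C) ≤ 2 * ((r + 1) * d) + r * (r + 1) := by
  classical
  have h := plucker hK hg0 hD hV hVr {A, B, C}
  have hcard : ({A, B, C} : Finset (FunFld.Place k K)).card = 3 := by
    rw [Finset.card_insert_of_notMem (by simp [hAB, hAC]),
      Finset.card_insert_of_notMem (by simp [hBC]), Finset.card_singleton]
  rw [hcard, Finset.sum_insert (by simp [hAB, hAC]), Finset.sum_insert (by simp [hBC]),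
    Finset.sum_singleton] at h
  linarith

/-- Four-point Plücker inequality on a rational curve. -/
theorem plucker_four [IsAlgClosed k] [CharZero k] (hK : FunFld.IsFunctionField k K)
    (hg0 : FunFld.genus k K = 0) {d r : ℕ} {D : FunFld.Divisor k K} (hD : D.deg = d)
    {V : Submodule k K} (hV : V ≤ FunFld.L D) (hVr : Module.finrank k ↥V = r + 1)
    {A B C E : FunFld.Place k K} (hAB : A ≠ B) (hAC : A ≠ C) (hAE : A ≠ E) (hBC : B ≠ C)
    (hBE : B ≠ E) (hCE : C ≠ E) :
    wsum V D d A + wsum V D d B + wsum V D d C + wsum V D d E ≤ (r + 1) * d + r * (r + 1) := by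
  classical
  have h := plucker hK hg0 hD hV hVr {A, B, C, E}
  have hcard : ({A, B, C, E} : Finset (FunFld.Place k K)).card = 4 := by
    rw [Finset.card_insert_of_notMem (by simp [hAB, hAC, hAE]),
      Finset.card_insert_of_notMem (by simp [hBC, hBE]),
      Finset.card_insert_of_notMem (by simp [hCE]), Finset.card_singleton]
  rw [hcard, Finset.sum_insert (by simp [hAB, hAC, hAE]), Finset.sum_insert (by simp [hBC, hBE]),
    Finset.sum_insert (by simp [hCE]), Finset.sum_singleton] at h
  linarith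

end Groth.Agent.Lib.H40FunFld
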