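import Groth.Agent.Lib.FFWeil58e
import Groth.Agent.Lib.H40FunFldPlucker

/-!
# Strong fixed points are Weierstrass points of weight at least `n`; the Stöhr–Voloch bound (helper58)

`wDiv_ge_at_strong_fixed_point`, `exists_expansions`, `strong_fixed_points_bound` (S12604).
-/

set_option autoImplicit false

namespace Groth.Agent.Lib.FFExp58

open FunFld Groth.Agent.Lib.H40FunFld LaurentSeries IntermediateField

universe u v

variable {k : Type u} {K : Type v} [Field k] [Field K] [Algebra k K]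

/-- A family of Laurent expansions at all places (algebraically closed constant field). -/
theorem exists_expansions [IsAlgClosed k] (hK : FunFld.IsFunctionField k K) :
    ∃ Φ : FunFld.Place k K → (K →ₐ[k] LaurentSeries k),
      ∀ P : FunFld.Place k K, LocRes.IsExpansionAt P.1 (Φ P) := by
  have h : ∀ P : FunFld.Place k K, ∃ Ψ : K →ₐ[k] LaurentSeries k, LocRes.IsExpansionAt P.1 Ψ := by
    intro P
    obtain ⟨t, ht⟩ := exists_uniformizer P
    obtain ⟨Ψ, hΨ, -, -⟩ := exists_expansion ht (hres_of_isAlgClosed hK P)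
    exact ⟨Ψ, hΨ⟩
  exact ⟨fun P => (h P).choose, fun P => (h P).choose_spec⟩

/-- At a strong fixed point of `τ` the Weierstrass divisor `W(φ, τ)` has coefficient at least `n`. -/
theorem wDiv_ge_at_strong_fixed_point [IsAlgClosed k] (hK : FunFld.IsFunctionField k K)
    {n : ℕ} (hn : 0 < n) (φ : Fin (n + 1) → K) (hφ : LinearIndependent k φ)
    (τ : K →ₐ[k] K) (P : FunFld.Place k K) (hP : FunFld.IsStrongFixedPt τ P)
    (s : K) (H : K →ₐ[k] PowerSeries K) (hH : LocRes.IsHasseFamily s H)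
    (J : Fin n → ℕ) (hJ : FunFld.IsOrders K (FunFld.hcol τ H φ) J)
    (Φ : FunFld.Place k K → (K →ₐ[k] LaurentSeries k))
    (hΦ : ∀ P : FunFld.Place k K, LocRes.IsExpansionAt P.1 (Φ P)) :
    (n : ℤ) ≤ FunFld.wDiv τ H Φ s φ J P := by
  classical
  -- local parameter and its Hasse family
  obtain ⟨t, ht⟩ := exists_uniformizer P
  obtain ⟨Ht, hHt⟩ := exists_hasse_of_uniformizer hK H hH (Φ P) (hΦ P) ht
  obtain ⟨E⟩ := exists_expData hK P t ht Ht hHt
  -- normalization
  obtain ⟨i₀, -, hi₀⟩ := Finset.exists_max_image Finset.univ (fun i => P.1 (φ i))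
    Finset.univ_nonempty
  have hφi₀ : φ i₀ ≠ 0 := hφ.ne_zero i₀
  set y : K := (φ i₀)⁻¹ with hy
  have hy0 : y ≠ 0 := inv_ne_zero hφi₀
  set φ' : Fin (n + 1) → K := fun i => y * φ i with hφ'def
  have hφ'smul : φ' = y • φ := by
    funext i; simp [hφ'def]
  have hφ' : ∀ i, φ' i = y * ∑ j, (1 : Matrix (Fin (n + 1)) (Fin (n + 1)) k) i j • φ j := by
    intro i
    simp [hφ'def, Matrix.one_apply, ite_smul]
  have hinv := wDiv_invariant hK φ hφ τ s H hH t Ht hHt J hJ 1
    (by rw [Matrix.det_one]; exact one_ne_zero) y hy0 φ' hφ' Φ hΦ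
  rw [← hinv]
  have hφ'li : LinearIndependent k φ' := by rw [hφ'smul]; exact linearIndependent_smul hφ hy0
  have heff : (1 : K) ∈ Submodule.span k (Set.range φ') := by
    have : φ' i₀ = 1 := by simp [hφ'def, hy, inv_mul_cancel₀ hφi₀]
    rw [← this]
    exact Submodule.subset_span ⟨i₀, rfl⟩
  have hnorm : ∀ i, P.1 (φ' i) ≤ 1 := by
    intro i
    have hv0 : P.1 (φ i₀) ≠ 0 := (Valuation.ne_zero_iff P.1).mpr hφi₀
    simp only [hφ'def, hy, map_mul, map_inv₀]
    rw [inv_mul_le_iff₀ (zero_lt_iff.mpr hv0), mul_one]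
    exact hi₀ i (Finset.mem_univ i)
  -- `τ`-orders of `φ'` with respect to `Ht`
  have hJ1 : FunFld.IsOrders K (FunFld.hcol τ H φ') J := by
    rw [hφ'smul]
    exact ((Groth.Agent.S12597.result k K hK φ hφ τ s H hH y hy0).1 J).mpr hJ
  have hJ2 : FunFld.IsOrders K (FunFld.hcol τ Ht φ') J :=
    ((Groth.Agent.S12598.result k K hK φ' hφ'li τ s H hH t Ht hHt).1 J).mpr hJ1
  -- orders at `P`
  obtain ⟨J', hJ'⟩ := exists_orders_at hK P φ' hφ'li heff hnorm t ht Ht hHt
  have hJ'1 : ∀ l, 1 ≤ J' l := fun l =>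
    ((E.isJump_hcolAt_iff hHt φ' hnorm (J' l)).mp ((hJ'.2 (J' l)).mp ⟨l, rfl⟩)).1
  have hle := E.tau_orders_le hK τ hP ht hHt hn φ' hφ'li heff hnorm J hJ2 J' hJ'
  have hW := (E.wDiv_at_fixed_point hK τ (ExpData.isFixedPt_of_strong hP) ht hHt φ' hφ'li heff hnorm
    J hJ2 J' hJ' Φ hΦ).1
  refine le_trans ?_ hW
  have h1 : ∀ l : Fin n, (1 : ℤ) ≤ (J' l : ℤ) - J l := by
    intro l
    have h2 := hle l
    have h3 := hJ'1 ⟨0, hn⟩
    have h4 : (J l : ℤ) + (J' ⟨0, hn⟩ : ℤ) ≤ J' l := by exact_mod_cast h2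
    have h5 : (1 : ℤ) ≤ (J' ⟨0, hn⟩ : ℤ) := by exact_mod_cast h3
    linarith
  calc (n : ℤ) = ∑ _l : Fin n, (1 : ℤ) := by simp
    _ ≤ ∑ l, ((J' l : ℤ) - J l) := Finset.sum_le_sum fun l _ => h1 l

/-- Sum of the coefficients of an effective divisor over a finite set of places is at most its
degree (algebraically closed constant field). -/
theorem sum_apply_le_deg [IsAlgClosed k] (hK : FunFld.IsFunctionField k K)
    {D : FunFld.Divisor k K} (hD : 0 ≤ D) (S : Finset (FunFld.Place k K)) :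
    ∑ P ∈ S, D P ≤ D.deg := by
  classical
  rw [deg_eq_sum_of_support_subset hK D (S' := S ∪ D.support) Finset.subset_union_right]
  apply Finset.sum_le_sum_of_subset_of_nonneg Finset.subset_union_left
  intro P _ _
  exact hD P

/-- The Stöhr–Voloch bound on the number of strong fixed points. -/
theorem strong_fixed_points_bound [IsAlgClosed k] (hK : FunFld.IsFunctionField k K)
    (τ : K →ₐ[k] K) {n : ℕ} (φ : Fin (n + 1) → K) (hφ : LinearIndependent k φ)
    (hτφ : ¬ ∃ y : K, ∀ i, τ (φ i) = y * φ i) (s : K) (H : K →ₐ[k] PowerSeries K)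
    (hH : LocRes.IsHasseFamily s H)
    (J : Fin n → ℕ) (hJ : FunFld.IsOrders K (FunFld.hcol τ H φ) J) :
    {P : FunFld.Place k K | FunFld.IsStrongFixedPt τ P}.Finite ∧
    (n : ℤ) * (Set.ncard {P : FunFld.Place k K | FunFld.IsStrongFixedPt τ P} : ℤ) ≤
      ((n : ℤ) + Module.finrank τ.fieldRange K) * (FunFld.mapDiv k φ).deg +
        (2 * (FunFld.genus k K : ℤ) - 2) * ∑ l, (J l : ℤ) := by
  classical
  -- `n ≥ 1`
  have hn : 0 < n := by
    by_contra hn0
    have hn' : n = 0 := by omega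
    subst hn'
    apply hτφ
    refine ⟨τ (φ 0) / φ 0, fun i => ?_⟩
    have : i = 0 := Fin.ext (by have := i.2; omega)
    rw [this, div_mul_cancel₀ _ (hφ.ne_zero 0)]
  obtain ⟨Φ, hΦ⟩ := exists_expansions hK
  have hW0 := wDiv_nonneg hK φ hφ τ s H hH J hJ Φ hΦ
  have hdeg := deg_wDiv hK φ τ s H hH J Φ hΦ
  set W := FunFld.wDiv τ H Φ s φ J with hWdef
  -- bound for finite subsets
  have hfin : ∀ S : Finset (FunFld.Place k K), (∀ P ∈ S, FunFld.IsStrongFixedPt τ P) →
      (n : ℤ) * (S.card : ℤ) ≤ W.deg := by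
    intro S hS
    refine le_trans ?_ (sum_apply_le_deg hK hW0 S)
    calc (n : ℤ) * (S.card : ℤ) = ∑ _P ∈ S, (n : ℤ) := by
          rw [Finset.sum_const, nsmul_eq_mul, mul_comm]
      _ ≤ ∑ P ∈ S, W P := Finset.sum_le_sum fun P hPS =>
          wDiv_ge_at_strong_fixed_point hK hn φ hφ τ P (hS P hPS) s H hH J hJ Φ hΦ
  have hfinite : {P : FunFld.Place k K | FunFld.IsStrongFixedPt τ P}.Finite := by
    by_contra hinf
    have hinf' : {P : FunFld.Place k K | FunFld.IsStrongFixedPt τ P}.Infinite := hinf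
    obtain ⟨S, hS, hcard⟩ := hinf'.exists_subset_card_eq (W.deg.toNat + 1)
    have h1 := hfin S (fun P hP => hS hP)
    rw [hcard] at h1
    have h2 : (1 : ℤ) ≤ n := by exact_mod_cast hn
    have h3 : W.deg ≤ (W.deg.toNat : ℤ) := Int.self_le_toNat _
    have h4 : (0 : ℤ) ≤ (W.deg.toNat : ℤ) := Int.natCast_nonneg _
    push_cast at h1
    nlinarith
  refine ⟨hfinite, ?_⟩
  have h1 := hfin hfinite.toFinset (fun P hP => by simpa using hP)
  rw [← Set.ncard_eq_toFinset_card _ hfinite] at h1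
  rw [hdeg] at h1
  linarith

end Groth.Agent.Lib.FFExp58
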