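import Groth.Agent.Lib.FFWeil58c

/-!
# The regular differentials `y dx` form a space of dimension `g` (helper58)

`finrank_regular_differentials` (S12582): `{y | y dx regular} = L((dx))` and `(dx)` is canonical.
-/

set_option autoImplicit false

namespace Groth.Agent.Lib.FPTr58

open FunFld LaurentSeries HahnSeries Groth.Agent.Lib.H40FunFld

universe u v w

variable {k : Type u} {K : Type v} [Field k] [Field K] [Algebra k K]
  {F : FunFld.Place k K → Type w} [∀ P, Field (F P)] [∀ P, Algebra k (F P)]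
  [∀ P, FiniteDimensional k (F P)]
  {φ : ∀ P, K →ₐ[k] LaurentSeries (F P)}

theorem vDiff_eq_mul (hφ : ∀ P, LocRes.IsExpansionAt P.1 (φ P)) (P : FunFld.Place k K)
    (y x : K) : LocRes.vDiff (φ P) y x = P.1 y * LocRes.vDiff (φ P) 1 x := by
  unfold LocRes.vDiff
  rw [map_mul, map_mul, map_one, map_one, one_mul, (hφ P).1]

theorem finrank_regular_differentials (hK : FunFld.IsFunctionField k K)
    (hg : FunFld.IsGeometric k K) (hφ : ∀ P, LocRes.IsExpansionAt P.1 (φ P))
    {x : K} (hx : KaehlerDifferential.D k K x ≠ 0) :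
    Module.finrank k (Submodule.span k {y : K | ∀ P, LocRes.vDiff (φ P) y x ≤ 1}) =
      FunFld.genus k K := by
  classical
  obtain ⟨hfin, hdiv⟩ := weil_of_differential hK hg hφ (one_ne_zero (α := K)) hx
  set C : FunFld.Divisor k K := Finsupp.ofSupportFinite _ hfin with hC
  have hCapply : ∀ P, C P = LocRes.ordDiff (φ P) 1 x := fun P => rfl
  have hcan : FunFld.IsCanonical k K C :=
    ⟨omegaDiff hK hφ 1 x, omegaDiff_ne_zero hK hg hφ one_ne_zero hx, hdiv C hCapply⟩
  have hset : {y : K | ∀ P, LocRes.vDiff (φ P) y x ≤ 1} = (FunFld.L C : Set K) := by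
    ext y
    simp only [Set.mem_setOf_eq, SetLike.mem_coe]
    show _ ↔ ∀ P : FunFld.Place k K, P.1 y ≤ WithZero.exp (C P)
    refine forall_congr' fun P => ?_
    rw [vDiff_eq_mul hφ P y x, vDiff_eq_exp P (vDiff_ne_zero hK hg hφ one_ne_zero hx P),
      hCapply P, WithZero.exp_neg, ← div_eq_mul_inv,
      div_le_iff₀ (zero_lt_iff.mpr WithZero.exp_ne_zero), one_mul]
  rw [hset, Submodule.span_eq]
  exact ell_canonical hK hcan

end Groth.Agent.Lib.FPTr58
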