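import Mathlib

/-!
# Logarithmic derivatives of power series with constant coefficient one (helper58)

`logD G = X · G' / G`.  For `G = ∏ (1 - βᵢ X)` its coefficients are minus the power sums of the `βᵢ`.
-/

set_option autoImplicit false

namespace Groth.Agent.Lib.FFZeta58

open PowerSeries

variable {F : Type*} [Field F]

/-- `X · G' / G`. -/
noncomputable def logD (G : F⟦X⟧) : F⟦X⟧ := X * d⁄dX F G * G⁻¹

theorem logD_one : logD (1 : F⟦X⟧) = 0 := by
  unfold logD
  rw [derivative_one, mul_zero, zero_mul]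

theorem logD_mul {G H : F⟦X⟧} (hG : constantCoeff G ≠ 0) (hH : constantCoeff H ≠ 0) :
    logD (G * H) = logD G + logD H := by
  unfold logD
  rw [Derivation.leibniz, PowerSeries.mul_inv_rev, smul_eq_mul, smul_eq_mul]
  have h1 := PowerSeries.mul_inv_cancel G hG
  have h2 := PowerSeries.mul_inv_cancel H hH
  calc X * (G * d⁄dX F H + H * d⁄dX F G) * (H⁻¹ * G⁻¹)
      = X * d⁄dX F G * G⁻¹ * (H * H⁻¹) + X * d⁄dX F H * H⁻¹ * (G * G⁻¹) := by ring
    _ = _ := by rw [h1, h2, mul_one, mul_one]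

theorem constantCoeff_prod_ne_zero {ι : Type*} (s : Finset ι) (G : ι → F⟦X⟧)
    (h : ∀ i ∈ s, constantCoeff (G i) ≠ 0) : constantCoeff (∏ i ∈ s, G i) ≠ 0 := by
  rw [map_prod]
  exact Finset.prod_ne_zero_iff.mpr h

theorem logD_prod {ι : Type*} (s : Finset ι) (G : ι → F⟦X⟧)
    (h : ∀ i ∈ s, constantCoeff (G i) ≠ 0) : logD (∏ i ∈ s, G i) = ∑ i ∈ s, logD (G i) := by
  classical
  induction s using Finset.induction_on with
  | empty => simp [logD_one]
  | insert a s ha ih =>
    rw [Finset.prod_insert ha, Finset.sum_insert ha,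
      logD_mul (h a (Finset.mem_insert_self a s))
        (constantCoeff_prod_ne_zero s G fun i hi => h i (Finset.mem_insert_of_mem hi)),
      ih fun i hi => h i (Finset.mem_insert_of_mem hi)]

/-- The geometric series `∑ βⁱ X^{id}`. -/
noncomputable def geo (β : F) (d : ℕ) : F⟦X⟧ := mk fun j => if d ∣ j then β ^ (j / d) else 0

theorem one_sub_mul_geo (β : F) {d : ℕ} (hd : 0 < d) : (1 - C β * X ^ d) * geo β d = 1 := by
  ext j
  rw [sub_mul, one_mul, map_sub, mul_assoc, coeff_C_mul, coeff_X_pow_mul', coeff_one]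
  unfold geo
  simp only [coeff_mk]
  by_cases hj : j = 0
  · subst hj
    simp [Nat.not_le.mpr hd]
  · rw [if_neg hj]
    by_cases hdj : d ≤ j
    · rw [if_pos hdj]
      by_cases hdvd : d ∣ j
      · obtain ⟨c, rfl⟩ := hdvd
        have hc : 0 < c := by
          rcases Nat.eq_zero_or_pos c with h | h
          · subst h; simp at hj
          · exact h
        have h2 : d * c - d = d * (c - 1) := by
          rw [Nat.mul_sub, mul_one]
        rw [if_pos (Dvd.intro _ rfl), h2, if_pos (Dvd.intro _ rfl), Nat.mul_div_cancel_left _ hd,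
          Nat.mul_div_cancel_left _ hd]
        obtain ⟨c', rfl⟩ : ∃ c', c = c' + 1 := ⟨c - 1, by omega⟩
        rw [Nat.add_sub_cancel, pow_succ]
        ring
      · have h2 : ¬ d ∣ j - d := by
          intro h
          apply hdvd
          have := (Nat.dvd_add_right h).mpr (dvd_refl d)
          rwa [Nat.sub_add_cancel hdj] at this
        rw [if_neg hdvd, if_neg h2]
        simp
    · rw [if_neg hdj]
      have : ¬ d ∣ j := fun h => hdj (Nat.le_of_dvd (Nat.pos_of_ne_zero hj) h)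
      rw [if_neg this]; simp

theorem constantCoeff_one_sub (β : F) {d : ℕ} (hd : 0 < d) :
    constantCoeff (1 - C β * X ^ d : F⟦X⟧) = 1 := by
  rw [map_sub, map_mul, map_pow, constantCoeff_X, zero_pow hd.ne', mul_zero, sub_zero,
    constantCoeff_one]

theorem inv_one_sub (β : F) {d : ℕ} (hd : 0 < d) : (1 - C β * X ^ d : F⟦X⟧)⁻¹ = geo β d := by
  rw [PowerSeries.inv_eq_iff_mul_eq_one (by rw [constantCoeff_one_sub β hd]; exact one_ne_zero),
    mul_comm]
  exact one_sub_mul_geo β hd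

theorem logD_one_sub (β : F) {d : ℕ} (hd : 0 < d) :
    logD (1 - C β * X ^ d : F⟦X⟧) =
      -mk fun j => if d ∣ j ∧ 0 < j then (d : F) * β ^ (j / d) else 0 := by
  unfold logD
  rw [inv_one_sub β hd, map_sub, derivative_one, zero_sub, Derivation.leibniz, derivative_C,
    smul_zero, add_zero, derivative_pow, derivative_X, mul_one, smul_eq_mul]
  have h1 : X * -(C β * ((d : F⟦X⟧) * X ^ (d - 1))) * geo β d =
      -(C ((d : F) * β) * (X ^ d * geo β d)) := by
    have hX : (X : F⟦X⟧) ^ d = X * X ^ (d - 1) := by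
      rw [← pow_succ', Nat.sub_add_cancel hd]
    rw [hX, map_mul, map_natCast]
    ring
  rw [h1]
  congr 1
  ext j
  rw [coeff_C_mul, coeff_X_pow_mul', coeff_mk]
  unfold geo
  by_cases hdj : d ≤ j
  · rw [if_pos hdj, coeff_mk]
    by_cases hdvd : d ∣ j
    · obtain ⟨c, rfl⟩ := hdvd
      have hc : 0 < c := by
        rcases Nat.eq_zero_or_pos c with h | h
        · subst h; omega
        · exact h
      have h2 : d * c - d = d * (c - 1) := by
        rw [Nat.mul_sub, mul_one]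
      rw [h2, if_pos (Dvd.intro _ rfl), if_pos ⟨Dvd.intro _ rfl, Nat.mul_pos hd hc⟩,
        Nat.mul_div_cancel_left _ hd, Nat.mul_div_cancel_left _ hd]
      obtain ⟨c', rfl⟩ : ∃ c', c = c' + 1 := ⟨c - 1, by omega⟩
      rw [Nat.add_sub_cancel, pow_succ]
      ring
    · have h2 : ¬ d ∣ j - d := by
        intro h
        apply hdvd
        have := (Nat.dvd_add_right h).mpr (dvd_refl d)
        rwa [Nat.sub_add_cancel hdj] at this
      rw [if_neg h2, if_neg (fun h => hdvd h.1), mul_zero]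
  · rw [if_neg hdj, mul_zero]
    rw [if_neg]
    rintro ⟨h1, h2⟩
    exact hdj (Nat.le_of_dvd h2 h1)

/-- If `W ≡ 1 mod X^{m+1}` then `logD W ≡ 0 mod X^{m+1}`. -/
theorem X_pow_dvd_logD {W : F⟦X⟧} {m : ℕ} (h : X ^ (m + 1) ∣ W - 1) : X ^ (m + 1) ∣ logD W := by
  obtain ⟨R, hR⟩ := h
  have hW : W = 1 + X ^ (m + 1) * R := by rw [← hR]; ring
  unfold logD
  have hd : d⁄dX F W = X ^ m * (((m + 1 : ℕ) : F⟦X⟧) * R + X * d⁄dX F R) := by
    rw [hW, map_add, derivative_one, zero_add, Derivation.leibniz, derivative_pow, derivative_X,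
      smul_eq_mul, smul_eq_mul, Nat.add_sub_cancel, pow_succ]
    ring
  rw [hd]
  refine ⟨(((m + 1 : ℕ) : F⟦X⟧) * R + X * d⁄dX F R) * W⁻¹, ?_⟩
  rw [pow_succ]
  ring

theorem coeff_logD_eq_zero {W : F⟦X⟧} {m : ℕ} (h : X ^ (m + 1) ∣ W - 1) {j : ℕ} (hj : j ≤ m) :
    coeff j (logD W) = 0 := by
  have := X_pow_dvd_logD h
  rw [X_pow_dvd_iff] at this
  exact this j (by omega)

/-- Two power series with constant coefficient one and the same logarithmic derivative agree
(characteristic zero). -/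
theorem eq_of_logD_eq [CharZero F] {G H : F⟦X⟧} (hG : constantCoeff G = 1)
    (hH : constantCoeff H = 1) (h : logD G = logD H) : G = H := by
  have hG0 : constantCoeff G ≠ 0 := by rw [hG]; exact one_ne_zero
  have hH0 : constantCoeff H ≠ 0 := by rw [hH]; exact one_ne_zero
  -- (G * H⁻¹)' = 0
  have h1 : X * (d⁄dX F G * H - G * d⁄dX F H) = 0 := by
    unfold logD at h
    have h2 : X * d⁄dX F G * G⁻¹ * (G * H) = X * d⁄dX F H * H⁻¹ * (G * H) := by rw [h]
    have e1 : X * d⁄dX F G * G⁻¹ * (G * H) = X * d⁄dX F G * H * (G * G⁻¹) := by ring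
    have e2 : X * d⁄dX F H * H⁻¹ * (G * H) = X * d⁄dX F H * G * (H * H⁻¹) := by ring
    rw [e1, e2, PowerSeries.mul_inv_cancel G hG0, PowerSeries.mul_inv_cancel H hH0, mul_one,
      mul_one] at h2
    linear_combination h2
  have h3 : d⁄dX F G * H - G * d⁄dX F H = 0 := by
    rcases mul_eq_zero.mp h1 with h | h
    · exact absurd h X_ne_zero
    · exact h
  have h4 : d⁄dX F (G * H⁻¹) = 0 := by
    rw [Derivation.leibniz, derivative_inv', smul_eq_mul, smul_eq_mul]
    have : G * (-H⁻¹ ^ 2 * d⁄dX F H) + H⁻¹ * d⁄dX F G =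
        H⁻¹ ^ 2 * (d⁄dX F G * H - G * d⁄dX F H) + H⁻¹ * d⁄dX F G * (1 - H * H⁻¹) := by ring
    rw [this, h3, mul_zero, zero_add, PowerSeries.mul_inv_cancel H hH0, sub_self, mul_zero]
  have h5 : G * H⁻¹ = 1 := by
    apply derivative.ext
    · rw [h4, derivative_one]
    · rw [map_mul, constantCoeff_inv, hG, hH, inv_one, mul_one, constantCoeff_one]
  calc G = G * (H⁻¹ * H) := by rw [PowerSeries.inv_mul_cancel H hH0, mul_one]
    _ = G * H⁻¹ * H := by ring
    _ = H := by rw [h5, one_mul]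

/-- Coefficients of `logD ∏ (1 - βᵢ X)`: minus the power sums. -/
theorem coeff_logD_prod_linear {ι : Type*} (s : Finset ι) (β : ι → F) {j : ℕ} (hj : 0 < j) :
    coeff j (logD (∏ i ∈ s, (1 - C (β i) * X : F⟦X⟧))) = -∑ i ∈ s, β i ^ j := by
  have h : ∀ i ∈ s, constantCoeff (1 - C (β i) * X ^ 1 : F⟦X⟧) ≠ 0 := by
    intro i _
    rw [constantCoeff_one_sub _ Nat.one_pos]
    exact one_ne_zero
  have h' : ∏ i ∈ s, (1 - C (β i) * X : F⟦X⟧) = ∏ i ∈ s, (1 - C (β i) * X ^ 1 : F⟦X⟧) := by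
    simp only [pow_one]
  rw [h', logD_prod s _ h, map_sum, ← Finset.sum_neg_distrib]
  apply Finset.sum_congr rfl
  intro i _
  rw [logD_one_sub _ Nat.one_pos, map_neg, coeff_mk, if_pos ⟨one_dvd j, hj⟩, Nat.div_one,
    Nat.cast_one, one_mul]

end Groth.Agent.Lib.FFZeta58
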