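import Groth.Agent.Lib.H40FunFldZeta4

/-!
# The truncated Euler product of the zeta series (helper58)

For a finite set `S` of places, `ZS S = ∑ #{effective divisors of degree m supported in S} Xᵐ`
satisfies `ZS S · ∏_{P ∈ S} (1 - X^{deg P}) = 1`; if `S` contains all places of degree `≤ m` then
`ZS S ≡ Z_K mod X^{m+1}`.
-/

set_option autoImplicit false

namespace Groth.Agent.Lib.FFZeta58

open FunFld PowerSeries Groth.Agent.Lib.H40FunFld

universe u v

variable {k : Type u} {K : Type v} [Field k] [Field K] [Algebra k K]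

/-- Effective divisors of degree `m` supported in `S`. -/
def effSupp (S : Finset (FunFld.Place k K)) (m : ℕ) : Set (FunFld.Divisor k K) :=
  {D | 0 ≤ D ∧ D.deg = m ∧ ∀ P, D P ≠ 0 → P ∈ S}

theorem effSupp_subset (S : Finset (FunFld.Place k K)) (m : ℕ) :
    effSupp S m ⊆ {D : FunFld.Divisor k K | 0 ≤ D ∧ D.deg = m} := fun _ hD => ⟨hD.1, hD.2.1⟩

theorem finite_effSupp [Finite k] (hK : FunFld.IsFunctionField k K)
    (S : Finset (FunFld.Place k K)) (m : ℕ) : (effSupp S m).Finite :=
  (finite_effDiv hK m).subset (effSupp_subset S m)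

theorem effSupp_empty_zero : effSupp (∅ : Finset (FunFld.Place k K)) 0 = {0} := by
  ext D
  simp only [effSupp, Set.mem_ofPred_eq, Set.mem_singleton_iff]
  constructor
  · rintro ⟨-, -, h3⟩
    ext P
    by_contra hne
    exact absurd (h3 P hne) (Finset.notMem_empty P)
  · rintro rfl
    refine ⟨le_rfl, ?_, fun P hP => absurd rfl hP⟩
    rw [deg_zero]; rfl

theorem effSupp_empty_succ (m : ℕ) : effSupp (∅ : Finset (FunFld.Place k K)) (m + 1) = ∅ := by
  ext D
  simp only [effSupp, Set.mem_ofPred_eq, Set.mem_empty_iff_false, iff_false]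
  rintro ⟨-, h2, h3⟩
  have hD : D = 0 := by
    ext P
    by_contra hne
    exact absurd (h3 P hne) (Finset.notMem_empty P)
  rw [hD, deg_zero] at h2
  have : (0 : ℤ) = ((m + 1 : ℕ) : ℤ) := h2
  omega

theorem effSupp_mono {S T : Finset (FunFld.Place k K)} (h : S ⊆ T) (m : ℕ) :
    effSupp S m ⊆ effSupp T m := fun _ hD => ⟨hD.1, hD.2.1, fun P hP => h (hD.2.2 P hP)⟩

theorem apply_eq_zero_of_mem_effSupp {S : Finset (FunFld.Place k K)} {m : ℕ}
    {D : FunFld.Divisor k K} (hD : D ∈ effSupp S m) {P : FunFld.Place k K} (hP : P ∉ S) :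
    D P = 0 := by
  by_contra hne
  exact hP (hD.2.2 P hne)

open scoped Classical in
theorem add_single_mem_effSupp {S : Finset (FunFld.Place k K)} {P : FunFld.Place k K} {m : ℕ}
    (hm : P.deg ≤ m) {D : FunFld.Divisor k K} (hD : D ∈ effSupp (insert P S) (m - P.deg)) :
    D + Finsupp.single P 1 ∈ effSupp (insert P S) m := by
  classical
  refine ⟨?_, ?_, ?_⟩
  · intro Q
    rw [Finsupp.add_apply]
    have h1 := hD.1 Q
    have h2 : (0 : ℤ) ≤ (Finsupp.single P (1 : ℤ)) Q := by
      rw [Finsupp.single_apply]; split_ifs <;> simp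
    have : (0 : FunFld.Divisor k K) Q = 0 := rfl
    rw [this] at h1 ⊢
    omega
  · rw [deg_add, hD.2.1, deg_single, one_mul]
    push_cast [Nat.cast_sub hm]
    ring
  · intro Q hQ
    rw [Finsupp.add_apply, Finsupp.single_apply] at hQ
    by_cases hQP : P = Q
    · subst hQP; exact Finset.mem_insert_self _ _
    · rw [if_neg hQP, add_zero] at hQ
      exact hD.2.2 Q hQ

open scoped Classical in
theorem effSupp_insert [Finite k] (hK : FunFld.IsFunctionField k K) {S : Finset (FunFld.Place k K)}
    {P : FunFld.Place k K} (hP : P ∉ S) (m : ℕ) :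
    effSupp (insert P S) m = effSupp S m ∪
      (if P.deg ≤ m then (fun D => D + Finsupp.single P 1) '' effSupp (insert P S) (m - P.deg)
        else ∅) := by
  classical
  apply Set.Subset.antisymm
  · intro D hD
    by_cases h0 : D P = 0
    · left
      refine ⟨hD.1, hD.2.1, fun Q hQ => ?_⟩
      rcases Finset.mem_insert.mp (hD.2.2 Q hQ) with h | h
      · subst h; exact absurd h0 hQ
      · exact h
    · right
      have h1 : 1 ≤ D P := by
        have := hD.1 P
        have h' : (0 : FunFld.Divisor k K) P = 0 := rfl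
        rw [h'] at this
        omega
      have h2 := apply_mul_deg_le hD.1 P
      rw [hD.2.1] at h2
      have hdm : P.deg ≤ m := by
        have : (P.deg : ℤ) ≤ D P * P.deg := by nlinarith [Int.natCast_nonneg P.deg]
        have : (P.deg : ℤ) ≤ m := le_trans this h2
        exact_mod_cast this
      rw [if_pos hdm]
      refine ⟨D - Finsupp.single P 1, ⟨?_, ?_, ?_⟩, ?_⟩
      · intro Q
        rw [Finsupp.sub_apply, Finsupp.single_apply]
        have h3 := hD.1 Q
        have h' : (0 : FunFld.Divisor k K) Q = 0 := rfl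
        rw [h'] at h3 ⊢
        by_cases hQP : P = Q
        · subst hQP; rw [if_pos rfl]; omega
        · rw [if_neg hQP]; omega
      · rw [deg_sub, hD.2.1, deg_single, one_mul]
        push_cast [Nat.cast_sub hdm]
        ring
      · intro Q hQ
        by_cases hQP : P = Q
        · subst hQP; exact Finset.mem_insert_self _ _
        · rw [Finsupp.sub_apply, Finsupp.single_apply, if_neg hQP, sub_zero] at hQ
          exact hD.2.2 Q hQ
      · simp
  · intro D hD
    rcases hD with hD | hD
    · exact effSupp_mono (Finset.subset_insert P S) m hD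
    · split_ifs at hD with hdm
      · obtain ⟨D', hD', rfl⟩ := hD
        exact add_single_mem_effSupp hdm hD'
      · exact absurd hD (Set.notMem_empty D)

open scoped Classical in
theorem ncard_effSupp_insert [Finite k] (hK : FunFld.IsFunctionField k K)
    {S : Finset (FunFld.Place k K)} {P : FunFld.Place k K} (hP : P ∉ S) (m : ℕ) :
    (effSupp (insert P S) m).ncard = (effSupp S m).ncard +
      (if P.deg ≤ m then (effSupp (insert P S) (m - P.deg)).ncard else 0) := by
  classical
  rw [effSupp_insert hK hP m]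
  split_ifs with hdm
  · have hinj : Function.Injective (fun D : FunFld.Divisor k K => D + Finsupp.single P 1) :=
      fun a b h => add_right_cancel h
    rw [Set.ncard_union_eq ?_ (finite_effSupp hK S m)
      ((finite_effSupp hK (insert P S) (m - P.deg)).image _), Set.ncard_image_of_injective _ hinj]
    rw [Set.disjoint_left]
    rintro D hD ⟨D', hD', rfl⟩
    have h0 := apply_eq_zero_of_mem_effSupp hD hP
    rw [Finsupp.add_apply, Finsupp.single_eq_same] at h0
    have h1 := hD'.1 P
    have h' : (0 : FunFld.Divisor k K) P = 0 := rfl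
    rw [h'] at h1
    omega
  · rw [Set.union_empty, add_zero]

/-- The generating series of effective divisors supported in `S`. -/
noncomputable def ZS (S : Finset (FunFld.Place k K)) : PowerSeries ℤ :=
  PowerSeries.mk fun m => ((effSupp S m).ncard : ℤ)

theorem ZS_empty : ZS (∅ : Finset (FunFld.Place k K)) = 1 := by
  ext m
  rw [ZS, coeff_mk, coeff_one]
  rcases m with _ | m
  · rw [effSupp_empty_zero, Set.ncard_singleton]; simp
  · rw [effSupp_empty_succ, Set.ncard_empty]; simp

open scoped Classical in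
theorem ZS_insert [Finite k] (hK : FunFld.IsFunctionField k K)
    {S : Finset (FunFld.Place k K)} {P : FunFld.Place k K} (hP : P ∉ S) :
    ZS (insert P S) * (1 - X ^ P.deg) = ZS S := by
  ext m
  rw [mul_sub, mul_one, map_sub, coeff_mul_X_pow']
  unfold ZS
  simp only [coeff_mk]
  rw [ncard_effSupp_insert hK hP m]
  split_ifs with h
  · push_cast; ring
  · push_cast; ring

theorem ZS_mul_prod [Finite k] (hK : FunFld.IsFunctionField k K)
    (S : Finset (FunFld.Place k K)) :
    ZS S * ∏ P ∈ S, (1 - X ^ P.deg : PowerSeries ℤ) = 1 := by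
  classical
  induction S using Finset.induction_on with
  | empty => rw [ZS_empty, Finset.prod_empty, mul_one]
  | insert P S hP ih =>
    rw [Finset.prod_insert hP, ← mul_assoc, ZS_insert hK hP, ih]

/-- If `S` contains all places of degree at most `m`, then `ZS S` agrees with the zeta series up
to degree `m`. -/
theorem coeff_ZS_eq [Finite k] (hK : FunFld.IsFunctionField k K)
    {S : Finset (FunFld.Place k K)} {m : ℕ} (hS : ∀ P : FunFld.Place k K, P.deg ≤ m → P ∈ S)
    {j : ℕ} (hj : j ≤ m) : coeff j (ZS S) = coeff j (FunFld.zetaZ k K) := by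
  rw [ZS, FunFld.zetaZ, coeff_mk, coeff_mk, FunFld.effDivCount]
  have hset : effSupp S j = {D : FunFld.Divisor k K | 0 ≤ D ∧ D.deg = j} := by
    apply Set.Subset.antisymm (effSupp_subset S j)
    intro D hD
    refine ⟨hD.1, hD.2, fun P hP => hS P ?_⟩
    have h1 : 1 ≤ D P := by
      have := hD.1 P
      have h' : (0 : FunFld.Divisor k K) P = 0 := rfl
      rw [h'] at this
      omega
    have h2 := apply_mul_deg_le hD.1 P
    rw [hD.2] at h2
    have : (P.deg : ℤ) ≤ D P * P.deg := by nlinarith [Int.natCast_nonneg P.deg]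
    have : (P.deg : ℤ) ≤ j := le_trans this h2
    have : P.deg ≤ j := by exact_mod_cast this
    omega
  rw [hset]
  rfl

theorem X_pow_dvd_zetaZ_sub_ZS [Finite k] (hK : FunFld.IsFunctionField k K)
    {S : Finset (FunFld.Place k K)} {m : ℕ} (hS : ∀ P : FunFld.Place k K, P.deg ≤ m → P ∈ S) :
    (X : PowerSeries ℤ) ^ (m + 1) ∣ FunFld.zetaZ k K - ZS S := by
  rw [X_pow_dvd_iff]
  intro j hj
  rw [map_sub, coeff_ZS_eq hK hS (by omega), sub_self]

/-- The truncated Euler product. -/
theorem X_pow_dvd_zetaZ_mul_prod_sub_one [Finite k] (hK : FunFld.IsFunctionField k K)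
    {S : Finset (FunFld.Place k K)} {m : ℕ} (hS : ∀ P : FunFld.Place k K, P.deg ≤ m → P ∈ S) :
    (X : PowerSeries ℤ) ^ (m + 1) ∣
      FunFld.zetaZ k K * ∏ P ∈ S, (1 - X ^ P.deg : PowerSeries ℤ) - 1 := by
  have h1 := X_pow_dvd_zetaZ_sub_ZS hK hS
  have h2 : FunFld.zetaZ k K * ∏ P ∈ S, (1 - X ^ P.deg : PowerSeries ℤ) - 1 =
      (FunFld.zetaZ k K - ZS S) * ∏ P ∈ S, (1 - X ^ P.deg : PowerSeries ℤ) := by
    rw [sub_mul, ZS_mul_prod hK S]
  rw [h2]
  exact Dvd.dvd.mul_right h1 _

end Groth.Agent.Lib.FFZeta58
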