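import Groth.Agent.Lib.FFZeta58a
import Groth.Agent.Lib.FFZeta58b

/-!
# Newton sums of the zeta numerator: `N_j = ∑_{deg P ∣ j} deg P` (helper58)

`coeff j (logD L_K) = -1 - q^j + N_j`.
-/

set_option autoImplicit false

namespace Groth.Agent.Lib.FFZeta58

open FunFld PowerSeries Groth.Agent.Lib.H40FunFld

universe u v

variable (k : Type u) (K : Type v) [Field k] [Field K] [Algebra k K]

open scoped Classical in
/-- The finite set of places of degree at most `m` (empty if there are infinitely many). -/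
noncomputable def placesLE (m : ℕ) : Finset (FunFld.Place k K) :=
  if h : {P : FunFld.Place k K | P.deg ≤ m}.Finite then h.toFinset else ∅

/-- `N_j = ∑_{deg P ∣ j} deg P`. -/
noncomputable def Nsum (j : ℕ) : ℕ := ∑ P ∈ placesLE k K j, if P.deg ∣ j then P.deg else 0

variable {k K}

theorem finite_places_deg_le [Finite k] (hK : FunFld.IsFunctionField k K) (m : ℕ) :
    {P : FunFld.Place k K | P.deg ≤ m}.Finite := by
  have hT : (⋃ d ∈ Finset.range (m + 1), {P : FunFld.Place k K | P.deg = d}).Finite :=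
    Set.Finite.biUnion (Finset.finite_toSet _) fun d _ => finite_places_deg_eq hK d
  apply hT.subset
  intro P hP
  simp only [Set.mem_iUnion, Set.mem_ofPred_eq, Finset.mem_range]
  exact ⟨P.deg, Nat.lt_succ_of_le hP, rfl⟩

theorem mem_placesLE [Finite k] (hK : FunFld.IsFunctionField k K) {m : ℕ}
    {P : FunFld.Place k K} : P ∈ placesLE k K m ↔ P.deg ≤ m := by
  unfold placesLE
  rw [dif_pos (finite_places_deg_le hK m), Set.Finite.mem_toFinset]
  rfl

theorem sum_placesLE_eq_Nsum [Finite k] (hK : FunFld.IsFunctionField k K) {j m : ℕ}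
    (hj : 0 < j) (hjm : j ≤ m) :
    ∑ P ∈ placesLE k K m, (if P.deg ∣ j then P.deg else 0) = Nsum k K j := by
  unfold Nsum
  symm
  apply Finset.sum_subset
  · intro P hP
    rw [mem_placesLE hK] at hP ⊢
    omega
  · intro P _ hP
    rw [mem_placesLE hK] at hP
    rw [if_neg]
    intro hdvd
    exact hP (Nat.le_of_dvd hj hdvd)

theorem constantCoeff_map_zetaZ (hK : FunFld.IsFunctionField k K) :
    constantCoeff (PowerSeries.map (Int.castRingHom ℂ) (FunFld.zetaZ k K)) = 1 := by
  rw [← coeff_zero_eq_constantCoeff_apply, coeff_map, FunFld.zetaZ, coeff_mk, effDivCount_zero hK]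
  simp

/-- The Newton sums of the zeta series. -/
theorem coeff_logD_zetaZ [Finite k] (hK : FunFld.IsFunctionField k K) {j : ℕ} (hj : 0 < j) :
    coeff j (logD (PowerSeries.map (Int.castRingHom ℂ) (FunFld.zetaZ k K))) = (Nsum k K j : ℂ) := by
  classical
  set S := placesLE k K j with hS
  set Zc := PowerSeries.map (Int.castRingHom ℂ) (FunFld.zetaZ k K) with hZc
  have hdvd := X_pow_dvd_zetaZ_mul_prod_sub_one hK (S := S) (m := j)
    (fun P hP => (mem_placesLE hK).mpr hP)
  have hdvd' := map_dvd (PowerSeries.map (Int.castRingHom ℂ)) hdvd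
  rw [map_pow, PowerSeries.map_X, map_sub, map_mul, map_one, map_prod] at hdvd'
  have hE : ∀ P ∈ S, PowerSeries.map (Int.castRingHom ℂ) (1 - X ^ P.deg : PowerSeries ℤ) =
      (1 - C (1 : ℂ) * X ^ P.deg : PowerSeries ℂ) := by
    intro P _
    rw [map_sub, map_one, map_pow, PowerSeries.map_X, map_one, one_mul]
  rw [Finset.prod_congr rfl hE] at hdvd'
  have h0 := coeff_logD_eq_zero hdvd' (le_refl j)
  have hZ0 : constantCoeff Zc ≠ 0 := by
    rw [hZc, constantCoeff_map_zetaZ hK]; exact one_ne_zero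
  have hP0 : ∀ P ∈ S, constantCoeff (1 - C (1 : ℂ) * X ^ P.deg : PowerSeries ℂ) ≠ 0 := by
    intro P _
    rw [constantCoeff_one_sub _ (deg_pos hK P)]
    exact one_ne_zero
  rw [logD_mul hZ0 (constantCoeff_prod_ne_zero S _ hP0), logD_prod S _ hP0, map_add, map_sum]
    at h0
  have h1 : ∀ P ∈ S, coeff j (logD (1 - C (1 : ℂ) * X ^ P.deg : PowerSeries ℂ)) =
      -(((if P.deg ∣ j then P.deg else 0 : ℕ) : ℂ)) := by
    intro P _
    rw [logD_one_sub _ (deg_pos hK P), map_neg, coeff_mk]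
    by_cases hd : P.deg ∣ j
    · rw [if_pos ⟨hd, hj⟩, if_pos hd, one_pow, mul_one]
    · rw [if_neg (fun h => hd h.1), if_neg hd, Nat.cast_zero]
  rw [Finset.sum_congr rfl h1, Finset.sum_neg_distrib] at h0
  have h2 : coeff j (logD Zc) = ∑ P ∈ S, (((if P.deg ∣ j then P.deg else 0 : ℕ)) : ℂ) := by
    linear_combination h0
  rw [h2, ← Nat.cast_sum]
  rfl

/-- The Newton sums of the numerator of the zeta series. -/
theorem coeff_logD_numerZ [Finite k] (hK : FunFld.IsFunctionField k K) {j : ℕ} (hj : 0 < j) :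
    coeff j (logD (PowerSeries.map (Int.castRingHom ℂ) (FunFld.numerZ k K))) =
      -1 - (Nat.card k : ℂ) ^ j + (Nsum k K j : ℂ) := by
  have hmap : PowerSeries.map (Int.castRingHom ℂ) (FunFld.numerZ k K) =
      (1 - C (1 : ℂ) * X ^ 1) * (1 - C (Nat.card k : ℂ) * X ^ 1) *
        PowerSeries.map (Int.castRingHom ℂ) (FunFld.zetaZ k K) := by
    unfold FunFld.numerZ
    rw [map_mul, map_mul, map_sub, map_sub, map_one, map_mul, PowerSeries.map_X,
      PowerSeries.map_C]
    simp
  have h1 : constantCoeff (1 - C (1 : ℂ) * X ^ 1 : PowerSeries ℂ) ≠ 0 := by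
    rw [constantCoeff_one_sub _ Nat.one_pos]; exact one_ne_zero
  have h2 : constantCoeff (1 - C (Nat.card k : ℂ) * X ^ 1 : PowerSeries ℂ) ≠ 0 := by
    rw [constantCoeff_one_sub _ Nat.one_pos]; exact one_ne_zero
  have h3 : constantCoeff (PowerSeries.map (Int.castRingHom ℂ) (FunFld.zetaZ k K)) ≠ 0 := by
    rw [constantCoeff_map_zetaZ hK]; exact one_ne_zero
  have h12 : constantCoeff ((1 - C (1 : ℂ) * X ^ 1) * (1 - C (Nat.card k : ℂ) * X ^ 1) :
      PowerSeries ℂ) ≠ 0 := by
    rw [map_mul]; exact mul_ne_zero h1 h2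
  rw [hmap, logD_mul h12 h3, logD_mul h1 h2, map_add, map_add, coeff_logD_zetaZ hK hj,
    logD_one_sub _ Nat.one_pos, logD_one_sub _ Nat.one_pos, map_neg, map_neg, coeff_mk, coeff_mk,
    if_pos ⟨one_dvd j, hj⟩, Nat.div_one, if_pos ⟨one_dvd j, hj⟩]
  simp
  ring

end Groth.Agent.Lib.FFZeta58
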