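import Groth.Agent.Lib.H40FunFldConstExt

/-!
# Splitting of places in constant-field extensions of finite fields (helper58)

`K'/K` generated by a constant `α` of degree `n` over the finite field `k`: a place `P` of degree
`d` has exactly `gcd n d` places above it, each of degree `lcm n d` over `k`.
-/

set_option autoImplicit false

namespace Groth.Agent.Lib.FFZeta58

open FunFld Polynomial IntermediateField Groth.Agent.Lib.H40FunFld

universe u v w

variable {k : Type u} [Field k] {K : Type v} [Field K] [Algebra k K] {K' : Type w} [Field K']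
  [Algebra K K'] [Algebra k K'] [IsScalarTower k K K']

/-- Regularity: a constant has the same degree over `K` as over `k`. -/
theorem natDegree_minpoly_eq (hK : FunFld.IsFunctionField k K) {β : K'} (hβ : IsIntegral k β) :
    (minpoly K β).natDegree = (minpoly k β).natDegree := by
  have hβK : IsIntegral K β := hβ.tower_top
  have hdvd : minpoly K β ∣ (minpoly k β).map (algebraMap k K) :=
    minpoly.dvd_map_of_isScalarTower k K β
  apply le_antisymm
  · have := natDegree_le_of_dvd hdvd ((minpoly.monic hβ).map _).ne_zero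
    rwa [natDegree_map] at this
  · have hl := integralClosure.mem_lifts_of_monic_of_dvd_map K (minpoly.monic hβ)
      (minpoly.monic hβK) hdvd
    -- coefficients lie in `k`
    have hl' : minpoly K β ∈ lifts (algebraMap k K) := by
      rw [lifts_iff_coeff_lifts] at hl ⊢
      intro i
      obtain ⟨c, hc⟩ := hl i
      obtain ⟨c', hc'⟩ := hK.2 (c : K) c.2.isAlgebraic
      exact ⟨c', by rw [hc', ← hc]; rfl⟩
    obtain ⟨q, hq, hqdeg, hqm⟩ := lifts_and_degree_eq_and_monic hl' (minpoly.monic hβK)
    have hroot : aeval β q = 0 := by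
      have h1 : aeval β (q.map (algebraMap k K)) = 0 := by rw [hq]; exact minpoly.aeval K β
      rwa [aeval_map_algebraMap] at h1
    have h2 := natDegree_le_of_dvd (minpoly.dvd k β hroot) hqm.ne_zero
    have h3 : q.natDegree = (minpoly K β).natDegree := natDegree_eq_of_degree_eq hqdeg
    omega

theorem finrank_adjoin_const (hK : FunFld.IsFunctionField k K) {β : K'} (hβ : IsIntegral k β) :
    Module.finrank K K⟮β⟯ = (minpoly k β).natDegree := by
  rw [adjoin.finrank hβ.tower_top, natDegree_minpoly_eq hK hβ]

section Decomp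

variable [Finite k]

/-- Elements of the decomposition group at `Q | P` fix the constants whose degree divides
`deg P`. -/
theorem decomposition_fixes_const (hK : FunFld.IsFunctionField k K) {β : K'}
    (hβ : IsIntegral k β) {P : FunFld.Place k K} {Q : FunFld.Place k K'} {e : ℕ}
    (he : FunFld.IsOverWith Q P e) (hdvd : (minpoly k β).natDegree ∣ P.deg)
    {σ : K' ≃ₐ[K] K'} (hσ : σ ∈ (Q.O).decompositionSubgroup K) : σ β = β := by
  have h1 : galPlace σ Q = Q := by
    apply place_ext_of_O_eq
    rw [galPlace_O]
    exact hσ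
  obtain ⟨a, -, ha⟩ := exists_sub_lt_one_of_dvd hK hβ hdvd he
  have h2 : Q.1 (σ.symm (β - algebraMap K K' a)) < 1 := by
    rw [← galPlace_apply, h1]; exact ha
  rw [map_sub, σ.symm.commutes] at h2
  have h3 : Q.1 (σ.symm β - β) < 1 := by
    have : σ.symm β - β = (σ.symm β - algebraMap K K' a) - (β - algebraMap K K' a) := by ring
    rw [this]
    exact (Valuation.map_sub _ _ _).trans_lt (max_lt h2 ha)
  have h4 : σ.symm β = β := by
    by_contra hne
    have hint : IsIntegral k (σ.symm β - β) :=
      (hβ.map ((σ.symm : K' ≃ₐ[K] K').toAlgHom.restrictScalars k)).sub hβ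
    have := val_eq_one_of_isIntegral Q hint (sub_ne_zero.2 hne)
    rw [this] at h3
    exact lt_irrefl _ h3
  rw [← h4, AlgEquiv.apply_symm_apply, h4]

theorem card_decomposition_mul_le (hK : FunFld.IsFunctionField k K) {α : K'}
    (hα : IsIntegral k α) (hgen : IntermediateField.adjoin K {α} = ⊤) {β : K'}
    (hβ : IsIntegral k β) {P : FunFld.Place k K} {Q : FunFld.Place k K'} {e : ℕ}
    (he : FunFld.IsOverWith Q P e) (hdvd : (minpoly k β).natDegree ∣ P.deg) :
    Nat.card ((Q.O).decompositionSubgroup K) * (minpoly k β).natDegree ≤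
      (minpoly k α).natDegree := by
  haveI := finiteDimensional_of_adjoin_eq_top hα hgen
  haveI := isGalois_of_adjoin_integral hα hgen
  have hle : (Q.O).decompositionSubgroup K ≤ K⟮β⟯.fixingSubgroup := by
    intro σ hσ
    rw [IntermediateField.mem_fixingSubgroup_iff]
    intro x hx
    have hfix := decomposition_fixes_const hK hβ he hdvd hσ
    induction hx using IntermediateField.adjoin_induction with
    | mem y hy =>
      rw [Set.mem_singleton_iff] at hy
      rw [hy]; exact hfix
    | algebraMap y => exact σ.commutes y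
    | add y z _ _ hy hz => rw [map_add, hy, hz]
    | inv y _ hy => rw [map_inv₀, hy]
    | mul y z _ _ hy hz => rw [map_mul, hy, hz]
  have h1 : Nat.card ((Q.O).decompositionSubgroup K) ≤ Nat.card K⟮β⟯.fixingSubgroup :=
    Subgroup.card_le_of_le hle
  have h2 : Nat.card K⟮β⟯.fixingSubgroup = Module.finrank K⟮β⟯ K' :=
    IsGalois.card_fixingSubgroup_eq_finrank K⟮β⟯
  have h3 : Module.finrank K K⟮β⟯ * Module.finrank K⟮β⟯ K' = Module.finrank K K' :=
    Module.finrank_mul_finrank K K⟮β⟯ K'
  have h4 : Module.finrank K K' = (minpoly k α).natDegree := by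
    rw [← finrank_adjoin_const hK hα, hgen, IntermediateField.finrank_top']
  rw [finrank_adjoin_const hK hβ] at h3
  calc Nat.card ((Q.O).decompositionSubgroup K) * (minpoly k β).natDegree
      ≤ Module.finrank K⟮β⟯ K' * (minpoly k β).natDegree := by
        rw [← h2]; exact Nat.mul_le_mul_right _ h1
    _ = (minpoly k α).natDegree := by rw [mul_comm, h3, h4]

/-- The splitting law: over a place `P` of degree `d` there are exactly `gcd n d` places, each of
degree `n / gcd n d * d` over `k`. -/
theorem splitting_law (hK : FunFld.IsFunctionField k K) {α : K'}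
    (hα : IsIntegral k α) (hgen : IntermediateField.adjoin K {α} = ⊤) {β : K'}
    (hβ : IsIntegral k β) {P : FunFld.Place k K} {Q : FunFld.Place k K'} {e : ℕ}
    (he : FunFld.IsOverWith Q P e)
    (hβdeg : (minpoly k β).natDegree = Nat.gcd (minpoly k α).natDegree P.deg)
    (hnQ : (minpoly k α).natDegree ∣ Q.deg) :
    Nat.card {Q' : FunFld.Place k K' // FunFld.IsOver Q' P} =
        Nat.gcd (minpoly k α).natDegree P.deg ∧
      Q.deg = (minpoly k α).natDegree / Nat.gcd (minpoly k α).natDegree P.deg * P.deg := by
  haveI := finiteDimensional_of_adjoin_eq_top hα hgen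
  haveI := isGalois_of_adjoin_integral hα hgen
  have he1 : e = 1 := isOverWith_one_of_adjoin_algebraic hK (S := {α})
    (fun s hs => by rw [Set.mem_singleton_iff] at hs; rw [hs]; exact hα.isAlgebraic) hgen he
  subst he1
  have hc1 := card_isOver_mul_card_decomposition he
  have hc2 := card_decomposition_mul_deg hK he
  rw [one_mul] at hc2
  have hn : Module.finrank K K' = (minpoly k α).natDegree := by
    rw [← finrank_adjoin_const hK hα, hgen, IntermediateField.finrank_top']
  rw [hn] at hc1
  have hle := card_decomposition_mul_le hK hα hgen hβ he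
    (by rw [hβdeg]; exact Nat.gcd_dvd_right _ _)
  rw [hβdeg] at hle
  set n := (minpoly k α).natDegree with hndef
  set d := P.deg with hddef
  set D := Nat.card ((Q.O).decompositionSubgroup K) with hDdef
  set r := Nat.card {Q' : FunFld.Place k K' // FunFld.IsOver Q' P} with hrdef
  have hnpos : 0 < n := minpoly.natDegree_pos hα
  have hg : 0 < n.gcd d := Nat.gcd_pos_of_pos_left _ hnpos
  have hDpos : 0 < D := by
    rcases Nat.eq_zero_or_pos D with h | h
    · rw [h, mul_zero] at hc1; omega
    · exact h
  obtain ⟨n', hn'⟩ : ∃ n', n = n' * n.gcd d := ⟨n / n.gcd d, (Nat.div_mul_cancel (Nat.gcd_dvd_left n d)).symm⟩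
  obtain ⟨d', hd'⟩ : ∃ d', d = d' * n.gcd d := ⟨d / n.gcd d, (Nat.div_mul_cancel (Nat.gcd_dvd_right n d)).symm⟩
  have hcop : Nat.Coprime n' d' := by
    have := Nat.coprime_div_gcd_div_gcd hg
    have e1 : n / n.gcd d = n' := Nat.div_eq_of_eq_mul_left hg hn'
    have e2 : d / n.gcd d = d' := Nat.div_eq_of_eq_mul_left hg hd'
    rwa [e1, e2] at this
  have hdiv : n' ∣ D := by
    have h1 : n ∣ D * d := by rw [hc2]; exact hnQ
    have h2 : n' * n.gcd d ∣ (D * d') * n.gcd d := by
      have : D * d = (D * d') * n.gcd d := by rw [mul_assoc, ← hd']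
      rw [← this, ← hn']; exact h1
    have h3 : n' ∣ D * d' := Nat.dvd_of_mul_dvd_mul_right hg h2
    exact hcop.dvd_of_dvd_mul_right h3
  have hD : D = n' := by
    apply le_antisymm
    · have : D * n.gcd d ≤ n' * n.gcd d := by rw [← hn']; exact hle
      exact Nat.le_of_mul_le_mul_right this hg
    · exact Nat.le_of_dvd hDpos hdiv
  have hn'div : n / n.gcd d = n' := Nat.div_eq_of_eq_mul_left hg hn'
  refine ⟨?_, ?_⟩
  · have : r * n' = n.gcd d * n' := by
      rw [← hD, hc1, hD, mul_comm]; exact hn'
    have hn'pos : 0 < n' := hD ▸ hDpos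
    exact Nat.eq_of_mul_eq_mul_right hn'pos this
  · rw [hn'div, ← hD, hc2]

end Decomp

end Groth.Agent.Lib.FFZeta58
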