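import Groth.Agent.Lib.FFZeta58d

/-!
# Constant-field extensions `K'/k'` of `K/k` over finite fields: places (helper58)

Places of `K'` over `k'` are the places of `K'` over `k`; degrees are divided by `[k' : k]`;
a place `P` of degree `d` of `K` has `gcd n d` places above it, each of degree `d / gcd n d`.
-/

set_option autoImplicit false

namespace Groth.Agent.Lib.FFZeta58

open FunFld Polynomial IntermediateField Groth.Agent.Lib.H40FunFld

universe u v u' v'

variable {k : Type u} {K : Type v} {k' : Type u'} {K' : Type v'} [Field k] [Field K]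
  [Algebra k K] [Field k'] [Field K'] [Algebra k k'] [Algebra K K'] [Algebra k' K']
  [Algebra k K'] [IsScalarTower k K K'] [IsScalarTower k k' K']

/-- A place over `k'` is a place over `k`. -/
def placeDown' (Q : FunFld.Place k' K') : FunFld.Place k K' :=
  ⟨Q.1, ⟨fun c => by rw [IsScalarTower.algebraMap_apply k k' K']; exact Q.2.1 _, Q.2.2⟩⟩

/-- A place over `k` is a place over the algebraic extension `k'`. -/
def placeUp' [Algebra.IsIntegral k k'] (Q : FunFld.Place k K') : FunFld.Place k' K' :=
  ⟨Q.1, ⟨fun c => val_le_one_of_isIntegral Q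
    ((Algebra.IsIntegral.isIntegral (R := k) c).map (IsScalarTower.toAlgHom k k' K')), Q.2.2⟩⟩

theorem placeDown'_placeUp' [Algebra.IsIntegral k k'] (Q : FunFld.Place k K') :
    placeDown' (placeUp' (k' := k') Q) = Q := rfl

theorem placeUp'_placeDown' [Algebra.IsIntegral k k'] (Q : FunFld.Place k' K') :
    placeUp' (placeDown' (k := k) Q) = Q := rfl

theorem placeDown'_injective : Function.Injective (placeDown' (k := k) (k' := k') (K' := K')) := by
  intro Q Q' h
  apply Subtype.ext
  exact congrArg (fun R : FunFld.Place k K' => R.1) h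

/-- Degrees over `k` and over `k'`. -/
theorem deg_placeDown' (Q : FunFld.Place k' K') :
    (placeDown' (k := k) Q).deg = Module.finrank k k' * Q.deg := by
  unfold FunFld.Place.deg
  have hst : @IsScalarTower k k' (IsLocalRing.ResidueField Q.O) _
      (FunFld.Place.algRes Q).toSMul (FunFld.Place.algRes (placeDown' (k := k) Q)).toSMul :=
    @IsScalarTower.of_algebraMap_eq k k' (IsLocalRing.ResidueField Q.O) _ _ _ _
      (FunFld.Place.algRes Q) (FunFld.Place.algRes (placeDown' (k := k) Q)) (fun c => by
        change IsLocalRing.residue Q.O _ = IsLocalRing.residue Q.O _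
        congr 1
        apply Subtype.ext
        exact IsScalarTower.algebraMap_apply k k' K' c)
  exact (@Module.finrank_mul_finrank k k' (IsLocalRing.ResidueField Q.O) _ _ _ _
    (FunFld.Place.algRes Q).toModule (FunFld.Place.algRes (placeDown' (k := k) Q)).toModule
    hst _ _).symm

/-- A finite field extension of degree `n` contains an element of each degree `g ∣ n`. -/
theorem exists_minpoly_natDegree_eq (F E : Type*) [Field F] [Field E] [Algebra F E] [Finite E]
    {g : ℕ} (hg : g ∣ Module.finrank F E) : ∃ β : E, (minpoly F β).natDegree = g := by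
  haveI : FiniteDimensional F E := Module.Finite.of_finite
  have hnpos : 0 < Module.finrank F E := Module.finrank_pos
  have hg0 : g ≠ 0 := by
    rintro rfl
    rw [zero_dvd_iff] at hg
    omega
  obtain ⟨σ, hσ⟩ := IsCyclic.exists_generator (α := E ≃ₐ[F] E)
  have hord : orderOf σ = Module.finrank F E := by
    rw [orderOf_eq_card_of_forall_mem_zpowers hσ, IsGalois.card_aut_eq_finrank]
  set H : Subgroup (E ≃ₐ[F] E) := Subgroup.zpowers (σ ^ g) with hH
  have hHcard : Nat.card H = Module.finrank F E / g := by
    rw [hH, Nat.card_zpowers, orderOf_pow' σ hg0, hord, Nat.gcd_eq_right hg]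
  have h1 : Module.finrank (IntermediateField.fixedField H) E = Module.finrank F E / g := by
    rw [IntermediateField.finrank_fixedField_eq_card, hHcard]
  have h2 : Module.finrank F (IntermediateField.fixedField H) *
      Module.finrank (IntermediateField.fixedField H) E = Module.finrank F E :=
    Module.finrank_mul_finrank F (IntermediateField.fixedField H) E
  have h3 : Module.finrank F (IntermediateField.fixedField H) = g := by
    rw [h1] at h2
    obtain ⟨c, hc⟩ := hg
    rw [hc, Nat.mul_div_cancel_left _ (Nat.pos_of_ne_zero hg0)] at h2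
    have hcpos : 0 < c := by
      rcases Nat.eq_zero_or_pos c with h | h
      · rw [h, mul_zero] at hc; omega
      · exact h
    exact Nat.eq_of_mul_eq_mul_right hcpos h2
  obtain ⟨β, hβ⟩ := Field.exists_primitive_element F (IntermediateField.fixedField H)
  refine ⟨(β : E), ?_⟩
  have hint : IsIntegral F β := Algebra.IsIntegral.isIntegral β
  have h4 : Module.finrank F F⟮β⟯ = (minpoly F β).natDegree := IntermediateField.adjoin.finrank hint
  rw [hβ, IntermediateField.finrank_top', h3] at h4
  rw [← IntermediateField.minpoly_eq, ← h4]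

section Split

variable [Finite k] [Finite k']

theorem isIntegral_algebraMap_const (c : k') : IsIntegral k (algebraMap k' K' c) := by
  haveI : FiniteDimensional k k' := Module.Finite.of_finite
  exact (Algebra.IsIntegral.isIntegral (R := k) c).map (IsScalarTower.toAlgHom k k' K')

theorem natDegree_minpoly_algebraMap_const (c : k') :
    (minpoly k (algebraMap k' K' c)).natDegree = (minpoly k c).natDegree := by
  rw [minpoly.algebraMap_eq (algebraMap k' K').injective c]

theorem exists_generator_constExt
    (hgenK : Algebra.adjoin K (Set.range (algebraMap k' K')) = ⊤) :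
    ∃ α₀ : k', IntermediateField.adjoin K {algebraMap k' K' α₀} = ⊤ ∧
      (minpoly k (algebraMap k' K' α₀)).natDegree = Module.finrank k k' := by
  haveI : FiniteDimensional k k' := Module.Finite.of_finite
  obtain ⟨α₀, hα₀⟩ := Field.exists_primitive_element k k'
  refine ⟨α₀, ?_, ?_⟩
  · have hmem : ∀ c : k', algebraMap k' K' c ∈ K⟮algebraMap k' K' α₀⟯ := by
      intro c
      have hc : c ∈ k⟮α₀⟯ := by rw [hα₀]; trivial
      induction hc using IntermediateField.adjoin_induction with
      | mem y hy =>
        rw [Set.mem_singleton_iff] at hy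
        rw [hy]; exact mem_adjoin_simple_self K _
      | algebraMap y =>
        rw [← IsScalarTower.algebraMap_apply k k' K', IsScalarTower.algebraMap_apply k K K']
        exact IntermediateField.algebraMap_mem _ _
      | add y z _ _ hy hz => rw [map_add]; exact add_mem hy hz
      | inv y _ hy => rw [map_inv₀]; exact inv_mem hy
      | mul y z _ _ hy hz => rw [map_mul]; exact mul_mem hy hz
    rw [eq_top_iff]
    intro z _
    have hz : z ∈ Algebra.adjoin K (Set.range (algebraMap k' K')) := by rw [hgenK]; trivial
    have hle : Algebra.adjoin K (Set.range (algebraMap k' K')) ≤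
        K⟮algebraMap k' K' α₀⟯.toSubalgebra := by
      apply Algebra.adjoin_le
      rintro _ ⟨c, rfl⟩
      exact hmem c
    exact hle hz
  · rw [natDegree_minpoly_algebraMap_const, ← IntermediateField.adjoin.finrank
      (Algebra.IsIntegral.isIntegral α₀), hα₀, IntermediateField.finrank_top']

/-- The splitting law for a constant-field extension: over a place `P` of degree `d` there are
`gcd n d` places, each of degree `d / gcd n d` over `k'`. -/
theorem splitting_constExt (hK : FunFld.IsFunctionField k K)
    (hgenK : Algebra.adjoin K (Set.range (algebraMap k' K')) = ⊤)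
    (Q' : FunFld.Place k' K') (P : FunFld.Place k K) {e : ℕ}
    (he : FunFld.IsOverWith (placeDown' (k := k) Q') P e) :
    Nat.card {Q : FunFld.Place k K' // FunFld.IsOver Q P} =
        Nat.gcd (Module.finrank k k') P.deg ∧
      Q'.deg * Nat.gcd (Module.finrank k k') P.deg = P.deg := by
  haveI : FiniteDimensional k k' := Module.Finite.of_finite
  obtain ⟨α₀, hgen, hdeg⟩ := exists_generator_constExt (k := k) (K := K) hgenK
  have hα : IsIntegral k (algebraMap k' K' α₀) := isIntegral_algebraMap_const α₀
  obtain ⟨β₀, hβ₀⟩ := exists_minpoly_natDegree_eq k k'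
    (Nat.gcd_dvd_left (Module.finrank k k') P.deg)
  have hβ : IsIntegral k (algebraMap k' K' β₀) := isIntegral_algebraMap_const β₀
  have hβdeg : (minpoly k (algebraMap k' K' β₀)).natDegree =
      Nat.gcd (minpoly k (algebraMap k' K' α₀)).natDegree P.deg := by
    rw [natDegree_minpoly_algebraMap_const, hβ₀, hdeg]
  have hnQ : (minpoly k (algebraMap k' K' α₀)).natDegree ∣ (placeDown' (k := k) Q').deg := by
    rw [hdeg, deg_placeDown']
    exact Dvd.intro _ rfl
  obtain ⟨h1, h2⟩ := splitting_law hK hα hgen hβ he hβdeg hnQ
  rw [hdeg] at h1 h2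
  refine ⟨h1, ?_⟩
  rw [deg_placeDown'] at h2
  set n := Module.finrank k k' with hn
  have hnpos : 0 < n := Module.finrank_pos
  have hg : n / n.gcd P.deg * n.gcd P.deg = n := Nat.div_mul_cancel (Nat.gcd_dvd_left _ _)
  have h3 : n * (Q'.deg * n.gcd P.deg) = n * P.deg := by
    calc n * (Q'.deg * n.gcd P.deg) = (n * Q'.deg) * n.gcd P.deg := by ring
      _ = (n / n.gcd P.deg * P.deg) * n.gcd P.deg := by rw [h2]
      _ = (n / n.gcd P.deg * n.gcd P.deg) * P.deg := by ring
      _ = n * P.deg := by rw [hg]
  exact Nat.eq_of_mul_eq_mul_left hnpos h3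

end Split

end Groth.Agent.Lib.FFZeta58
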