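import Groth.Agent.Lib.H40FunFldConorm2

set_option autoImplicit false
set_option linter.style.haveILetI false
open FunFld Polynomial

namespace Groth.Agent.Lib.H40FunFld

open Groth.Agent.Lib.H40QuotChain IntermediateField

universe u v w
variable {k : Type u} [Field k]

section ResDeg

variable {K : Type v} [Field K] [Algebra k K] {K' : Type w} [Field K'] [Algebra K K']
  [Algebra k K'] [IsScalarTower k K K']

/-- Places of a finite extension of a function field have positive (finite) degree over `k`. -/
theorem deg_pos_ext (hK : FunFld.IsFunctionField k K) [FiniteDimensional K K']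
    (Q : FunFld.Place k K') : 0 < Q.deg := by
  obtain ⟨t, htr, -⟩ := hK.1
  have htr' : Transcendental k (algebraMap K K' t) := by
    intro halg
    exact htr ((isAlgebraic_algebraMap_iff (algebraMap K K').injective).1 halg)
  obtain ⟨hfin', -⟩ := finrank_adjoin_algebraMap (K' := K') hK htr
  have hA := isFunctionField_constField htr'
  have h1 := deg_pos hA (placeUp Q)
  have h2 := deg_eq_mul_deg_placeUp Q
  have h3 := finrank_adjoin_eq_mul htr'
  have h4 : 0 < Module.finrank ↥k⟮algebraMap K K' t⟯ K' := Module.finrank_pos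
  rw [h3] at h4
  have h5 : 0 < Module.finrank k ↥(constField k K') := Nat.pos_of_mul_pos_right h4
  rw [h2]
  exact Nat.mul_pos h5 h1

/-- The residue field of the place below embeds: `deg P ≤ deg Q`. -/
theorem deg_le_deg_of_isOverWith (hK : FunFld.IsFunctionField k K) [FiniteDimensional K K']
    {Q : FunFld.Place k K'} {P : FunFld.Place k K} {e : ℕ} (h : FunFld.IsOverWith Q P e) :
    P.deg ≤ Q.deg := by
  have hpos := deg_pos_ext hK Q
  unfold FunFld.Place.deg at hpos ⊢
  haveI : Module.Finite k (IsLocalRing.ResidueField ↥Q.O) := Module.finite_of_finrank_pos hpos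
  let f : ↥P.O →+* ↥Q.O :=
    { toFun := fun x => ⟨algebraMap K K' x.1, (isOverWith_le_one_iff h x.1).2 x.2⟩
      map_one' := Subtype.ext (map_one _)
      map_mul' := fun x y => Subtype.ext (map_mul _ x.1 y.1)
      map_zero' := Subtype.ext (map_zero _)
      map_add' := fun x y => Subtype.ext (map_add _ x.1 y.1) }
  have hker : ∀ a ∈ IsLocalRing.maximalIdeal ↥P.O, ((IsLocalRing.residue ↥Q.O).comp f) a = 0 := by
    intro a ha
    have h1 : IsLocalRing.residue ↥P.O a = 0 := (IsLocalRing.residue_eq_zero_iff a).2 ha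
    rw [residue_eq_zero_iff] at h1
    change IsLocalRing.residue ↥Q.O (f a) = 0
    rw [residue_eq_zero_iff]
    exact (isOverWith_lt_one_iff h a.1).2 h1
  let g : IsLocalRing.ResidueField ↥P.O →+* IsLocalRing.ResidueField ↥Q.O :=
    Ideal.Quotient.lift _ ((IsLocalRing.residue ↥Q.O).comp f) hker
  let gl : IsLocalRing.ResidueField ↥P.O →ₗ[k] IsLocalRing.ResidueField ↥Q.O :=
    { toFun := g
      map_add' := map_add g
      map_smul' := fun c x => by
        change g (c • x) = c • g x
        rw [Algebra.smul_def, Algebra.smul_def, map_mul]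
        congr 1
        change g (IsLocalRing.residue _ (algebraMap k ↥P.O c)) =
          IsLocalRing.residue _ (algebraMap k ↥Q.O c)
        change IsLocalRing.residue ↥Q.O (f (algebraMap k ↥P.O c)) = _
        congr 1
        apply Subtype.ext
        change algebraMap K K' (algebraMap k K c) = algebraMap k K' c
        rw [← IsScalarTower.algebraMap_apply] }
  exact LinearMap.finrank_le_finrank_of_injective (f := gl) g.injective

/-- There is a place above every place. -/
theorem exists_isOver (hK : FunFld.IsFunctionField k K) [FiniteDimensional K K']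
    (P : FunFld.Place k K) : ∃ Q : FunFld.Place k K', FunFld.IsOver Q P := by
  classical
  obtain ⟨hfin, hsum⟩ := finite_isOver_and_sum_ramIdx_mul_deg (K' := K') hK P
  have h1 := hsum hfin.toFinset (fun Q' => hfin.mem_toFinset)
  by_contra hne
  push Not at hne
  have hempty : hfin.toFinset = ∅ := by
    rw [Finset.eq_empty_iff_forall_notMem]
    intro Q hQ
    exact hne Q (hfin.mem_toFinset.1 hQ)
  rw [hempty, Finset.sum_empty] at h1
  have h2 : 0 < Module.finrank K K' * P.deg := Nat.mul_pos Module.finrank_pos (deg_pos hK P)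
  omega

/-- A single term of the fundamental identity: `e deg Q ≤ [K' : K] deg P`. -/
theorem ramIdx_mul_deg_le (hK : FunFld.IsFunctionField k K) [FiniteDimensional K K']
    {Q : FunFld.Place k K'} {P : FunFld.Place k K} {e : ℕ} (h : FunFld.IsOverWith Q P e) :
    e * Q.deg ≤ Module.finrank K K' * P.deg := by
  classical
  obtain ⟨hfin, hsum⟩ := finite_isOver_and_sum_ramIdx_mul_deg (K' := K') hK P
  have h1 := hsum hfin.toFinset (fun Q' => hfin.mem_toFinset)
  have hQ : Q ∈ hfin.toFinset := hfin.mem_toFinset.2 ⟨e, h⟩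
  have h2 := Finset.single_le_sum (f := fun Q' : FunFld.Place k K' => FunFld.ramIdx Q' P * Q'.deg)
    (fun _ _ => Nat.zero_le _) hQ
  rw [h1, ramIdx_eq h] at h2
  exact h2

/-- `e ≤ [K' : K]`. -/
theorem ramIdx_le_finrank (hK : FunFld.IsFunctionField k K) [FiniteDimensional K K']
    {Q : FunFld.Place k K'} {P : FunFld.Place k K} {e : ℕ} (h : FunFld.IsOverWith Q P e) :
    e ≤ Module.finrank K K' := by
  have h1 := ramIdx_mul_deg_le hK h
  have h2 := deg_le_deg_of_isOverWith hK h
  have h3 := deg_pos hK P
  by_contra hlt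
  push Not at hlt
  have h4 : Module.finrank K K' * P.deg < e * Q.deg :=
    calc Module.finrank K K' * P.deg < e * P.deg := Nat.mul_lt_mul_of_pos_right hlt h3
      _ ≤ e * Q.deg := Nat.mul_le_mul_left e h2
  omega

/-- Total ramification: if `e = [K' : K]` then `Q` is the only place above `P` and has the same
degree. -/
theorem deg_eq_and_unique_of_ramIdx_eq_finrank (hK : FunFld.IsFunctionField k K)
    [FiniteDimensional K K']
    {Q : FunFld.Place k K'} {P : FunFld.Place k K}
    (h : FunFld.IsOverWith Q P (Module.finrank K K')) :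
    Q.deg = P.deg ∧ ∀ Q' : FunFld.Place k K', FunFld.IsOver Q' P → Q' = Q := by
  classical
  have hn : 0 < Module.finrank K K' := Module.finrank_pos
  have h1 := ramIdx_mul_deg_le hK h
  have h2 := deg_le_deg_of_isOverWith hK h
  have h3 : Q.deg ≤ P.deg := Nat.le_of_mul_le_mul_left h1 hn
  refine ⟨le_antisymm h3 h2, ?_⟩
  intro Q' hQ'
  by_contra hne
  obtain ⟨hfin, hsum⟩ := finite_isOver_and_sum_ramIdx_mul_deg (K' := K') hK P
  have h4 := hsum hfin.toFinset (fun Q' => hfin.mem_toFinset)
  have hsub : ({Q, Q'} : Finset (FunFld.Place k K')) ⊆ hfin.toFinset := by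
    intro x hx
    rw [Finset.mem_insert, Finset.mem_singleton] at hx
    rcases hx with rfl | rfl
    · exact hfin.mem_toFinset.2 ⟨_, h⟩
    · exact hfin.mem_toFinset.2 hQ'
  have h5 := Finset.sum_le_sum_of_subset
    (f := fun Q' : FunFld.Place k K' => FunFld.ramIdx Q' P * Q'.deg) hsub
  rw [h4, Finset.sum_pair (Ne.symm hne), ramIdx_eq h] at h5
  have h6 : 0 < FunFld.ramIdx Q' P * Q'.deg :=
    Nat.mul_pos (isOverWith_pos (isOverWith_ramIdx hQ')) (deg_pos_ext hK Q')
  have h7 : Module.finrank K K' * P.deg ≤ Module.finrank K K' * Q.deg :=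
    Nat.mul_le_mul_left _ h2
  omega

end ResDeg

end Groth.Agent.Lib.H40FunFld
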