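import Groth.Agent.Lib.FFZeta58c
import Groth.Agent.Lib.FFZeta58e
import Groth.Agent.Lib.H40FunFldResDeg

/-!
# Newton sums under a constant-field extension: `N'_j = N_{nj}` (helper58)
-/

set_option autoImplicit false

namespace Groth.Agent.Lib.FFZeta58

open FunFld Polynomial IntermediateField Groth.Agent.Lib.H40FunFld

universe u v u' v'

variable {k : Type u} {K : Type v} {k' : Type u'} {K' : Type v'} [Field k] [Field K]
  [Algebra k K] [Field k'] [Field K'] [Algebra k k'] [Algebra K K'] [Algebra k' K']
  [Algebra k K'] [IsScalarTower k K K'] [IsScalarTower k k' K'] [Finite k] [Finite k']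

theorem finiteDimensional_constExt (_hK : FunFld.IsFunctionField k K)
    (hgenK : Algebra.adjoin K (Set.range (algebraMap k' K')) = ⊤) : FiniteDimensional K K' := by
  obtain ⟨α₀, hgen, -⟩ := exists_generator_constExt (k := k) (K := K) hgenK
  exact finiteDimensional_of_adjoin_eq_top (k := k) (isIntegral_algebraMap_const α₀) hgen

theorem exists_below (hK : FunFld.IsFunctionField k K)
    (hgenK : Algebra.adjoin K (Set.range (algebraMap k' K')) = ⊤) (Q' : FunFld.Place k' K') :
    ∃ P : FunFld.Place k K, FunFld.IsOver (placeDown' (k := k) Q') P := by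
  haveI := finiteDimensional_constExt hK hgenK
  obtain ⟨P, e, he⟩ := exists_isOverWith hK (placeDown' (k := k) Q')
  exact ⟨P, e, he⟩

/-- The place of `K` below a place of `K'`. -/
noncomputable def below (hK : FunFld.IsFunctionField k K)
    (hgenK : Algebra.adjoin K (Set.range (algebraMap k' K')) = ⊤) (Q' : FunFld.Place k' K') :
    FunFld.Place k K := Classical.choose (exists_below hK hgenK Q')

theorem below_spec (hK : FunFld.IsFunctionField k K)
    (hgenK : Algebra.adjoin K (Set.range (algebraMap k' K')) = ⊤) (Q' : FunFld.Place k' K') :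
    FunFld.IsOver (placeDown' (k := k) Q') (below hK hgenK Q') :=
  Classical.choose_spec (exists_below hK hgenK Q')

theorem below_eq_iff (hK : FunFld.IsFunctionField k K)
    (hgenK : Algebra.adjoin K (Set.range (algebraMap k' K')) = ⊤) (Q' : FunFld.Place k' K')
    (P : FunFld.Place k K) :
    below hK hgenK Q' = P ↔ FunFld.IsOver (placeDown' (k := k) Q') P := by
  constructor
  · rintro rfl
    exact below_spec hK hgenK Q'
  · rintro ⟨e, he⟩
    obtain ⟨e', he'⟩ := below_spec hK hgenK Q'
    exact (isOverWith_unique he' he).1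

theorem deg_mul_gcd_below (hK : FunFld.IsFunctionField k K)
    (hgenK : Algebra.adjoin K (Set.range (algebraMap k' K')) = ⊤) (Q' : FunFld.Place k' K') :
    Q'.deg * Nat.gcd (Module.finrank k k') (below hK hgenK Q').deg = (below hK hgenK Q').deg := by
  obtain ⟨e, he⟩ := below_spec hK hgenK Q'
  exact (splitting_constExt hK hgenK Q' _ he).2

theorem card_fiber_below (hK : FunFld.IsFunctionField k K)
    (hgenK : Algebra.adjoin K (Set.range (algebraMap k' K')) = ⊤) (P : FunFld.Place k K) :
    Nat.card {Q' : FunFld.Place k' K' // below hK hgenK Q' = P} =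
      Nat.gcd (Module.finrank k k') P.deg := by
  haveI := finiteDimensional_constExt hK hgenK
  haveI : FiniteDimensional k k' := Module.Finite.of_finite
  obtain ⟨Q, e, he⟩ := exists_isOver (K' := K') hK P
  have h1 := (splitting_constExt hK hgenK (placeUp' (k' := k') Q) P
    (by rw [placeDown'_placeUp']; exact he)).1
  rw [← h1]
  refine Nat.card_congr ⟨fun Q' => ⟨placeDown' (k := k) Q'.1, (below_eq_iff hK hgenK _ _).mp Q'.2⟩,
    fun Q => ⟨placeUp' (k' := k') Q.1, (below_eq_iff hK hgenK _ _).mpr
      (by rw [placeDown'_placeUp']; exact Q.2)⟩, fun Q' => ?_, fun Q => ?_⟩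
  · apply Subtype.ext
    exact placeUp'_placeDown' (k := k) Q'.1
  · apply Subtype.ext
    exact placeDown'_placeUp' (k' := k') Q.1

/-- Arithmetic: with `g = gcd n d` and `d' g = d`: `d' ∣ j ↔ d ∣ n j`. -/
theorem dvd_iff_of_mul_gcd {n d d' j : ℕ} (hn : 0 < n) (h : d' * Nat.gcd n d = d) :
    d' ∣ j ↔ d ∣ n * j := by
  have hg : 0 < n.gcd d := Nat.gcd_pos_of_pos_left _ hn
  constructor
  · intro hj
    rw [← h]
    calc d' * n.gcd d ∣ j * n := Nat.mul_dvd_mul hj (Nat.gcd_dvd_left n d)
      _ = n * j := mul_comm _ _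
  · intro hj
    have e2 : d / n.gcd d = d' := Nat.div_eq_of_eq_mul_left hg h.symm
    have hcop : Nat.Coprime (n / n.gcd d) d' := by
      have := Nat.coprime_div_gcd_div_gcd hg
      rwa [e2] at this
    have hn' : n / n.gcd d * n.gcd d = n := Nat.div_mul_cancel (Nat.gcd_dvd_left n d)
    have h2 : d' * n.gcd d ∣ (n / n.gcd d * j) * n.gcd d := by
      have : (n / n.gcd d * j) * n.gcd d = n * j := by
        calc (n / n.gcd d * j) * n.gcd d = (n / n.gcd d * n.gcd d) * j := by ring
          _ = n * j := by rw [hn']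
      rw [this, h]; exact hj
    have h3 : d' ∣ n / n.gcd d * j := Nat.dvd_of_mul_dvd_mul_right hg h2
    exact hcop.symm.dvd_of_dvd_mul_left h3

/-- Newton sums of a constant-field extension of degree `n`: `N'_j = N_{nj}`. -/
theorem Nsum_constExt (hK : FunFld.IsFunctionField k K) (hK' : FunFld.IsFunctionField k' K')
    (hgenK : Algebra.adjoin K (Set.range (algebraMap k' K')) = ⊤) {j : ℕ} (hj : 0 < j) :
    Nsum k' K' j = Nsum k K (Module.finrank k k' * j) := by
  classical
  have : FiniteDimensional k k' := Module.Finite.of_finite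
  set n := Module.finrank k k' with hn
  have hnpos : 0 < n := Module.finrank_pos
  unfold Nsum
  have hmaps : ∀ Q' ∈ placesLE k' K' j, below hK hgenK Q' ∈ placesLE k K (n * j) := by
    intro Q' hQ'
    rw [mem_placesLE hK'] at hQ'
    rw [mem_placesLE hK, ← deg_mul_gcd_below hK hgenK Q']
    calc Q'.deg * n.gcd (below hK hgenK Q').deg ≤ j * n :=
          Nat.mul_le_mul hQ' (Nat.le_of_dvd hnpos (Nat.gcd_dvd_left _ _))
      _ = n * j := mul_comm _ _
  rw [← Finset.sum_fiberwise_of_maps_to hmaps]
  apply Finset.sum_congr rfl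
  intro P _
  by_cases hd : P.deg ∣ n * j
  · rw [if_pos hd]
    -- every place in the fibre has degree `d / g`, dividing `j`
    have hdeg : ∀ Q' : FunFld.Place k' K', below hK hgenK Q' = P →
        Q'.deg * n.gcd P.deg = P.deg := by
      intro Q' hQ'
      have := deg_mul_gcd_below hK hgenK Q'
      rwa [hQ'] at this
    have hterm : ∀ Q' ∈ (placesLE k' K' j).filter (fun Q' => below hK hgenK Q' = P),
        (if Q'.deg ∣ j then Q'.deg else 0) = P.deg / n.gcd P.deg := by
      intro Q' hQ'
      rw [Finset.mem_filter] at hQ'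
      have h1 := hdeg Q' hQ'.2
      rw [if_pos ((dvd_iff_of_mul_gcd hnpos h1).mpr hd)]
      exact (Nat.div_eq_of_eq_mul_left (Nat.gcd_pos_of_pos_left _ hnpos) h1.symm).symm
    rw [Finset.sum_congr rfl hterm, Finset.sum_const, smul_eq_mul]
    have hcard : ((placesLE k' K' j).filter (fun Q' => below hK hgenK Q' = P)).card =
        n.gcd P.deg := by
      rw [← card_fiber_below hK hgenK P]
      symm
      apply Nat.subtype_card
      intro Q'
      rw [Finset.mem_filter, mem_placesLE hK']
      constructor
      · exact fun h => h.2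
      · intro h
        refine ⟨?_, h⟩
        have h1 := hdeg Q' h
        exact Nat.le_of_dvd hj ((dvd_iff_of_mul_gcd hnpos h1).mpr hd)
    rw [hcard]
    exact Nat.mul_div_cancel' (Nat.gcd_dvd_right _ _)
  · rw [if_neg hd]
    apply Finset.sum_eq_zero
    intro Q' hQ'
    rw [Finset.mem_filter] at hQ'
    have h1 := deg_mul_gcd_below hK hgenK Q'
    rw [hQ'.2] at h1
    rw [if_neg]
    intro hdj
    exact hd ((dvd_iff_of_mul_gcd hnpos h1).mp hdj)

end Groth.Agent.Lib.FFZeta58
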