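import Groth.Agent.Lib.FFZeta58f

/-!
# The zeta numerator of a constant-field extension (helper58)

S11061: `L_{K'}(t) = ∏ (1 - αᵢⁿ t)`;  S11062: `N_1(K') = 1 + qⁿ - ∑ αᵢⁿ`.
-/

set_option autoImplicit false

namespace Groth.Agent.Lib.FFZeta58

open FunFld PowerSeries Groth.Agent.Lib.H40FunFld

universe u v u' v'

variable {k : Type u} {K : Type v} {k' : Type u'} {K' : Type v'} [Field k] [Field K]
  [Algebra k K] [Field k'] [Field K'] [Algebra k k'] [Algebra K K'] [Algebra k' K']
  [Algebra k K'] [IsScalarTower k K K'] [IsScalarTower k k' K'] [Finite k] [Finite k']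

theorem coe_prod_linear {ι : Type*} [Fintype ι] (β : ι → ℂ) :
    ((∏ i, (1 - Polynomial.C (β i) * Polynomial.X) : Polynomial ℂ) : PowerSeries ℂ) =
      ∏ i, (1 - C (β i) * X : PowerSeries ℂ) := by
  have h : ∀ p : Polynomial ℂ, (p : PowerSeries ℂ) = Polynomial.coeToPowerSeries.ringHom p :=
    fun _ => rfl
  rw [h, map_prod]
  apply Finset.prod_congr rfl
  intro i _
  rw [map_sub, map_one, map_mul]
  simp

theorem constantCoeff_prod_linear {ι : Type*} [Fintype ι] (β : ι → ℂ) :
    constantCoeff (∏ i, (1 - C (β i) * X : PowerSeries ℂ)) = 1 := by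
  rw [map_prod]
  apply Finset.prod_eq_one
  intro i _
  simp

theorem Nsum_one (hK : FunFld.IsFunctionField k K) :
    Nsum k K 1 = Nat.card {P : FunFld.Place k K // P.deg = 1} := by
  unfold Nsum
  have h1 : ∀ P ∈ placesLE k K 1, (if P.deg ∣ 1 then P.deg else 0) = 1 := by
    intro P hP
    rw [mem_placesLE hK] at hP
    have hpos := deg_pos hK P
    have : P.deg = 1 := by omega
    rw [this]; simp
  rw [Finset.sum_congr rfl h1, Finset.sum_const, smul_eq_mul, mul_one]
  symm
  apply Nat.subtype_card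
  intro P
  rw [mem_placesLE hK]
  have hpos := deg_pos hK P
  omega

/-- The power sums of the reciprocal roots count the places: `N_j = 1 + q^j - ∑ αᵢ^j`. -/
theorem Nsum_eq_of_roots (hK : FunFld.IsFunctionField k K) {ι : Type*} [Fintype ι] (α : ι → ℂ)
    (hα : PowerSeries.map (Int.castRingHom ℂ) (FunFld.numerZ k K) =
      ((∏ i, (1 - Polynomial.C (α i) * Polynomial.X) : Polynomial ℂ) : PowerSeries ℂ))
    {j : ℕ} (hj : 0 < j) :
    (Nsum k K j : ℂ) = 1 + (Nat.card k : ℂ) ^ j - ∑ i, α i ^ j := by
  have h1 := coeff_logD_numerZ hK hj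
  rw [hα, coe_prod_linear, coeff_logD_prod_linear Finset.univ α hj] at h1
  linear_combination -h1

/-- S11062. -/
theorem card_places_deg_one_constExt (hK : FunFld.IsFunctionField k K)
    (hK' : FunFld.IsFunctionField k' K')
    (hgenK : Algebra.adjoin K (Set.range (algebraMap k' K')) = ⊤) {ι : Type*} [Fintype ι]
    (α : ι → ℂ)
    (hα : PowerSeries.map (Int.castRingHom ℂ) (FunFld.numerZ k K) =
      ((∏ i, (1 - Polynomial.C (α i) * Polynomial.X) : Polynomial ℂ) : PowerSeries ℂ)) :
    (Nat.card {P : FunFld.Place k' K' // P.deg = 1} : ℂ) =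
      1 + (Nat.card k : ℂ) ^ Module.finrank k k' - ∑ i, α i ^ Module.finrank k k' := by
  have : FiniteDimensional k k' := Module.Finite.of_finite
  have hnpos : 0 < Module.finrank k k' := Module.finrank_pos
  rw [← Nsum_one hK', Nsum_constExt hK hK' hgenK Nat.one_pos, mul_one]
  exact Nsum_eq_of_roots hK α hα hnpos

/-- S11061. -/
theorem numerZ_constExt (hK : FunFld.IsFunctionField k K)
    (hK' : FunFld.IsFunctionField k' K')
    (hgenK : Algebra.adjoin K (Set.range (algebraMap k' K')) = ⊤) {ι : Type*} [Fintype ι]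
    (α : ι → ℂ)
    (hα : PowerSeries.map (Int.castRingHom ℂ) (FunFld.numerZ k K) =
      ((∏ i, (1 - Polynomial.C (α i) * Polynomial.X) : Polynomial ℂ) : PowerSeries ℂ)) :
    PowerSeries.map (Int.castRingHom ℂ) (FunFld.numerZ k' K') =
      ((∏ i, (1 - Polynomial.C (α i ^ Module.finrank k k') * Polynomial.X) : Polynomial ℂ) :
        PowerSeries ℂ) := by
  have : FiniteDimensional k k' := Module.Finite.of_finite
  have hnpos : 0 < Module.finrank k k' := Module.finrank_pos
  rw [coe_prod_linear]
  apply eq_of_logD_eq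
  · rw [← coeff_zero_eq_constantCoeff_apply, coeff_map, coeff_zero_numerZ, effDivCount_zero hK']
    simp
  · exact constantCoeff_prod_linear _
  · ext j
    rcases Nat.eq_zero_or_pos j with rfl | hj
    · unfold logD
      rw [mul_assoc, mul_assoc, coeff_zero_X_mul, coeff_zero_X_mul]
    · rw [coeff_logD_numerZ hK' hj, coeff_logD_prod_linear Finset.univ _ hj,
        Nsum_constExt hK hK' hgenK hj,
        Nsum_eq_of_roots hK α hα (Nat.mul_pos hnpos hj)]
      have hcard : (Nat.card k' : ℂ) = (Nat.card k : ℂ) ^ Module.finrank k k' := by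
        rw [Module.natCard_eq_pow_finrank (K := k) (V := k')]
        push_cast
        rfl
      rw [hcard]
      simp only [← pow_mul]
      ring

end Groth.Agent.Lib.FFZeta58
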