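import Groth.Prelude.Def_W4c61motalbdualityCompl
import Mathlib.CategoryTheory.CofilteredSystem

/-!
# Elements of the FI-completion from compatible families of nonempty subsets (helper97)

`exists_mem_FICompl`: if `S U ⊆ A ⧸ U` is nonempty for every open finite-index subgroup `U` and the
transition maps send `S U` into `S V` for `U ≤ V`, there is an element `x` of the completion `FICompl A`
with `x_U ∈ S U` for all `U` (Kőnig-type inverse limit argument).
-/

set_option autoImplicit false

universe u

open W4c61motalbduality CategoryTheory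

namespace Groth.Agent.Lib.FIComplLim97

variable {A : Type u} [AddCommGroup A] [TopologicalSpace A]

/-- `OpenFI A` ordered by reverse inclusion. -/
def Idx (A : Type u) [AddCommGroup A] [TopologicalSpace A] : Type u := OpenFI A

instance : Preorder (Idx A) where
  le U V := (V : OpenFI A).toAddSubgroup ≤ (U : OpenFI A).toAddSubgroup
  le_refl _ := le_rfl
  le_trans _ _ _ h₁ h₂ := le_trans h₂ h₁

/-- The intersection of two open subgroups of finite index. -/
def inter (U V : OpenFI A) : OpenFI A where
  toAddSubgroup := U.toAddSubgroup ⊓ V.toAddSubgroup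
  isOpen' := U.isOpen'.inter V.isOpen'
  finiteIndex' := by
    have := U.finiteIndex'
    have := V.finiteIndex'
    infer_instance

theorem inter_le_left (U V : OpenFI A) : (inter U V).toAddSubgroup ≤ U.toAddSubgroup := inf_le_left

theorem inter_le_right (U V : OpenFI A) : (inter U V).toAddSubgroup ≤ V.toAddSubgroup := inf_le_right

/-- The whole group as an open subgroup of finite index. -/
def top (A : Type u) [AddCommGroup A] [TopologicalSpace A] : OpenFI A where
  toAddSubgroup := ⊤
  isOpen' := isOpen_univ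
  finiteIndex' := inferInstance

instance : IsDirectedOrder (Idx A) :=
  ⟨fun U V => ⟨inter U V, inter_le_left U V, inter_le_right U V⟩⟩

instance : Nonempty (Idx A) := ⟨top A⟩

theorem finite_quotient (U : OpenFI A) : Finite (A ⧸ U.toAddSubgroup) := by
  have := U.finiteIndex'
  exact AddSubgroup.finite_quotient_of_finiteIndex

variable (S : ∀ U : OpenFI A, Set (A ⧸ U.toAddSubgroup))
  (hmap : ∀ (U V : OpenFI A) (h : U.toAddSubgroup ≤ V.toAddSubgroup) (x : A ⧸ U.toAddSubgroup),
    x ∈ S U → QuotientAddGroup.map U.toAddSubgroup V.toAddSubgroup (AddMonoidHom.id A) h x ∈ S V)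

/-- The transition maps of the inverse system of the sets `S U`. -/
def sysMap (U V : OpenFI A) (h : U.toAddSubgroup ≤ V.toAddSubgroup)
    (x : {x : A ⧸ U.toAddSubgroup // x ∈ S U}) : {x : A ⧸ V.toAddSubgroup // x ∈ S V} :=
  ⟨QuotientAddGroup.map U.toAddSubgroup V.toAddSubgroup (AddMonoidHom.id A) h x.1,
    hmap U V h x.1 x.2⟩

theorem sysMap_refl (U : OpenFI A) (x : {x : A ⧸ U.toAddSubgroup // x ∈ S U}) :
    sysMap S hmap U U le_rfl x = x := by
  apply Subtype.ext
  obtain ⟨a, ha⟩ := QuotientAddGroup.mk_surjective x.1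
  change QuotientAddGroup.map _ _ (AddMonoidHom.id A) _ x.1 = x.1
  rw [← ha, QuotientAddGroup.map_mk]
  rfl

theorem sysMap_trans (U V W : OpenFI A) (h₁ : U.toAddSubgroup ≤ V.toAddSubgroup)
    (h₂ : V.toAddSubgroup ≤ W.toAddSubgroup) (x : {x : A ⧸ U.toAddSubgroup // x ∈ S U}) :
    sysMap S hmap U W (h₁.trans h₂) x = sysMap S hmap V W h₂ (sysMap S hmap U V h₁ x) := by
  apply Subtype.ext
  obtain ⟨a, ha⟩ := QuotientAddGroup.mk_surjective x.1
  change QuotientAddGroup.map _ _ (AddMonoidHom.id A) _ x.1 =
    QuotientAddGroup.map _ _ (AddMonoidHom.id A) _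
      (QuotientAddGroup.map _ _ (AddMonoidHom.id A) _ x.1)
  rw [← ha, QuotientAddGroup.map_mk, QuotientAddGroup.map_mk, QuotientAddGroup.map_mk]
  rfl

/-- The inverse system of the sets `S U`. -/
def sys : (Idx A)ᵒᵖ ⥤ Type u where
  obj U := {x : A ⧸ (U.unop : OpenFI A).toAddSubgroup // x ∈ S U.unop}
  map {U V} f := TypeCat.ofHom (sysMap S hmap U.unop V.unop (leOfHom f.unop))
  map_id U := by
    ext x
    exact congrArg Subtype.val (sysMap_refl S hmap U.unop x)
  map_comp {U V W} f g := by
    ext x
    exact congrArg Subtype.val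
      (sysMap_trans S hmap U.unop V.unop W.unop (leOfHom f.unop) (leOfHom g.unop) x)

include hmap in
theorem exists_mem_FICompl (hne : ∀ U, (S U).Nonempty) :
    ∃ x : FICompl A, ∀ U, x.1 U ∈ S U := by
  have : ∀ j : (Idx A)ᵒᵖ, Finite ((sys S hmap).obj j) := fun j => by
    have := finite_quotient (A := A) j.unop
    exact Subtype.finite
  have : ∀ j : (Idx A)ᵒᵖ, Nonempty ((sys S hmap).obj j) := fun j => (hne j.unop).to_subtype
  obtain ⟨s, hs⟩ := nonempty_sections_of_finite_inverse_system (sys S hmap)
  refine ⟨⟨fun U => (s (Opposite.op U)).1, ?_⟩, fun U => (s (Opposite.op U)).2⟩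
  intro U V h
  have hVU : @LE.le (Idx A) _ V U := h
  have := hs (j := Opposite.op (U : Idx A)) (j' := Opposite.op (V : Idx A)) (homOfLE hVU).op
  exact congrArg Subtype.val this

end Groth.Agent.Lib.FIComplLim97
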