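import Groth.Agent.Lib.SigmaLinLocal
import Groth.Prelude.Def_WittGrp

/-!
# Truncated Witt vectors of a perfect field as a local ring with `𝔪 = (p)` (helper99)

`TruncatedWittVector p (n+1) k` for a perfect field `k` of characteristic `p`: coefficient-zero ring
map `c0`, locality, maximal ideal `(p)`, `p^(n+1) = 0`, residue field `≃ k`, compatibility with
`WittGrp.truncMap`.  Applications to semilinear endomorphisms for the Frobenius and its inverse.
-/

set_option autoImplicit false
universe u v

namespace Groth.Agent.Lib.SigmaLin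

open IsLocalRing

section Witt

variable (p : ℕ) [hp : Fact p.Prime] (k : Type u) [Field k] (n : ℕ)

/-- The coefficient-zero ring homomorphism `W_{n+1}(k) → k`. -/
noncomputable def c0 : TruncatedWittVector p (n + 1) k →+* k where
  toFun x := x.coeff 0
  map_one' := by
    rw [← map_one (WittVector.truncate (p := p) (R := k) (n + 1)), WittVector.coeff_truncate]
    exact WittVector.one_coeff_zero p k
  map_zero' := by
    rw [TruncatedWittVector.coeff_zero]
  map_mul' x y := by
    obtain ⟨X, rfl⟩ := WittVector.truncate_surjective p (n + 1) k x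
    obtain ⟨Y, rfl⟩ := WittVector.truncate_surjective p (n + 1) k y
    rw [← map_mul, WittVector.coeff_truncate, WittVector.coeff_truncate, WittVector.coeff_truncate]
    exact WittVector.mul_coeff_zero X Y
  map_add' x y := by
    obtain ⟨X, rfl⟩ := WittVector.truncate_surjective p (n + 1) k x
    obtain ⟨Y, rfl⟩ := WittVector.truncate_surjective p (n + 1) k y
    rw [← map_add, WittVector.coeff_truncate, WittVector.coeff_truncate, WittVector.coeff_truncate]
    exact WittVector.add_coeff_zero X Y

lemma c0_apply (x : TruncatedWittVector p (n + 1) k) : c0 p k n x = x.coeff 0 := rfl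

lemma c0_truncate (X : WittVector p k) :
    c0 p k n (WittVector.truncate (n + 1) X) = X.coeff 0 := by
  rw [c0_apply, WittVector.coeff_truncate]; rfl

lemma c0_surjective : Function.Surjective (c0 p k n) := by
  intro a
  refine ⟨TruncatedWittVector.mk p (fun i => if i = 0 then a else 0), ?_⟩
  rw [c0_apply, TruncatedWittVector.coeff_mk, if_pos rfl]

instance nontrivial_truncated : Nontrivial (TruncatedWittVector p (n + 1) k) :=
  (c0 p k n).domain_nontrivial

lemma c0_truncMap (f : k →+* k) (x : TruncatedWittVector p (n + 1) k) :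
    c0 p k n (WittGrp.truncMap p (n + 1) f x) = f (c0 p k n x) := by
  rw [c0_apply, c0_apply, WittGrp.coeff_truncMap]

variable [CharP k p]

lemma natCast_p_pow_eq_zero : ((p : TruncatedWittVector p (n + 1) k)) ^ (n + 1) = 0 := by
  have h : ((p : WittVector p k)) ^ (n + 1) ∈ RingHom.ker (WittVector.truncate (p := p) (n + 1)) := by
    rw [WittVector.mem_ker_truncate]
    intro i hi
    exact WittVector.coeff_p_pow_eq_zero p k (by omega)
  rw [RingHom.mem_ker, map_pow, map_natCast] at h
  exact h

variable [PerfectRing k p]

lemma ker_c0 : RingHom.ker (c0 p k n) = Ideal.span {(p : TruncatedWittVector p (n + 1) k)} := by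
  ext x
  rw [RingHom.mem_ker, Ideal.mem_span_singleton']
  constructor
  · intro hx
    obtain ⟨X, rfl⟩ := WittVector.truncate_surjective p (n + 1) k x
    rw [c0_truncate] at hx
    have := (WittVector.mem_span_p_iff_coeff_zero_eq_zero X).mpr hx
    rw [Ideal.mem_span_singleton'] at this
    obtain ⟨Y, rfl⟩ := this
    exact ⟨WittVector.truncate (n + 1) Y, by rw [map_mul, map_natCast]⟩
  · rintro ⟨y, rfl⟩
    rw [map_mul, map_natCast, CharP.cast_eq_zero, mul_zero]

instance isLocalRing_truncated : IsLocalRing (TruncatedWittVector p (n + 1) k) :=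
  IsLocalRing.of_surjective' (WittVector.truncate (p := p) (R := k) (n + 1))
    (WittVector.truncate_surjective p (n + 1) k)

lemma maximalIdeal_truncated :
    maximalIdeal (TruncatedWittVector p (n + 1) k) =
      Ideal.span {(p : TruncatedWittVector p (n + 1) k)} := by
  rw [← ker_c0]
  have : (RingHom.ker (c0 p k n)).IsMaximal :=
    RingHom.ker_isMaximal_of_surjective _ (c0_surjective p k n)
  exact (IsLocalRing.eq_maximalIdeal this).symm

/-- The residue field of `W_{n+1}(k)` is `k`. -/
noncomputable def resEquiv : ResidueField (TruncatedWittVector p (n + 1) k) ≃+* k :=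
  (Ideal.quotEquivOfEq ((maximalIdeal_truncated p k n).trans (ker_c0 p k n).symm)).trans
    (RingHom.quotientKerEquivOfSurjective (c0_surjective p k n))

lemma resEquiv_residue (x : TruncatedWittVector p (n + 1) k) :
    resEquiv p k n (residue _ x) = c0 p k n x := rfl

end Witt

section WittApp

variable (p : ℕ) [hp : Fact p.Prime] (k : Type u) [Field k] [CharP k p] [IsAlgClosed k] (n : ℕ)

/-- The endomorphism of the residue field of `W_{n+1}(k)` induced by `f : k →+* k`. -/
noncomputable def sigmaBar (f : k →+* k) :
    ResidueField (TruncatedWittVector p (n + 1) k) →+*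
      ResidueField (TruncatedWittVector p (n + 1) k) :=
  (resEquiv p k n).symm.toRingHom.comp (f.comp (resEquiv p k n).toRingHom)

lemma resEquiv_sigmaBar (f : k →+* k) (x : ResidueField (TruncatedWittVector p (n + 1) k)) :
    resEquiv p k n (sigmaBar p k n f x) = f (resEquiv p k n x) := by
  simp [sigmaBar]

lemma sigmaBar_residue (f : k →+* k) (r : TruncatedWittVector p (n + 1) k) :
    sigmaBar p k n f (residue _ r) = residue _ (WittGrp.truncMap p (n + 1) f r) := by
  apply (resEquiv p k n).injective
  rw [resEquiv_sigmaBar, resEquiv_residue, resEquiv_residue, c0_truncMap]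

lemma sigmaBar_surjective (f : k →+* k) (hf : Function.Surjective f) :
    Function.Surjective (sigmaBar p k n f) := by
  intro y
  obtain ⟨a, ha⟩ := hf (resEquiv p k n y)
  refine ⟨(resEquiv p k n).symm a, ?_⟩
  apply (resEquiv p k n).injective
  rw [resEquiv_sigmaBar, RingEquiv.apply_symm_apply, ha]

instance isAlgClosed_residue :
    IsAlgClosed (ResidueField (TruncatedWittVector p (n + 1) k)) :=
  IsAlgClosed.of_ringEquiv k _ (resEquiv p k n).symm

instance charP_residue : CharP (ResidueField (TruncatedWittVector p (n + 1) k)) p :=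
  charP_of_injective_ringHom (f := (resEquiv p k n).symm.toRingHom)
    (resEquiv p k n).symm.injective p

lemma sigmaBar_frobenius (x : ResidueField (TruncatedWittVector p (n + 1) k)) :
    sigmaBar p k n (frobenius k p) x = x ^ p := by
  apply (resEquiv p k n).injective
  rw [resEquiv_sigmaBar, frobenius_def, map_pow]

lemma sigmaBar_frobenius_symm (x : ResidueField (TruncatedWittVector p (n + 1) k)) :
    (sigmaBar p k n (frobeniusEquiv k p).symm.toRingHom x) ^ p = x := by
  apply (resEquiv p k n).injective
  rw [map_pow, resEquiv_sigmaBar]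
  exact frobeniusEquiv_symm_pow_p k p _

lemma sigmaBar_lift (f : k →+* k) (x : ResidueField (TruncatedWittVector p (n + 1) k))
    (hx : sigmaBar p k n f x = x) :
    ∃ r : TruncatedWittVector p (n + 1) k,
      WittGrp.truncMap p (n + 1) f r = r ∧ residue _ r = x := by
  have ha : f (resEquiv p k n x) = resEquiv p k n x := by
    rw [← resEquiv_sigmaBar, hx]
  refine ⟨TruncatedWittVector.mk p (fun i => if i = 0 then resEquiv p k n x else 0), ?_, ?_⟩
  · apply TruncatedWittVector.ext
    intro i
    rw [WittGrp.coeff_truncMap, TruncatedWittVector.coeff_mk]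
    split_ifs
    · exact ha
    · exact map_zero f
  · apply (resEquiv p k n).injective
    rw [resEquiv_residue, c0_apply, TruncatedWittVector.coeff_mk, if_pos rfl]

/-- The two solvability hypotheses for the Frobenius and its inverse on the residue field. -/
lemma solvable_sigmaBar (f : k →+* k)
    (hf : f = frobenius k p ∨ f = (frobeniusEquiv k p).symm.toRingHom) :
    Function.Surjective (sigmaBar p k n f) ∧ Solvable₂ (sigmaBar p k n f) ∧
      Solvable₃ (sigmaBar p k n f) := by
  rcases hf with rfl | rfl
  · exact ⟨sigmaBar_surjective p k n _ (surjective_frobenius k p),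
      solvable₂_of_pow p (sigmaBar_frobenius p k n), solvable₃_of_pow p (sigmaBar_frobenius p k n)⟩
  · exact ⟨sigmaBar_surjective p k n _ (frobeniusEquiv k p).symm.surjective,
      solvable₂_of_pow_eq p (sigmaBar_frobenius_symm p k n),
      solvable₃_of_pow_eq p (sigmaBar_frobenius_symm p k n)⟩

theorem witt_sub_surjective (f : k →+* k)
    (hf : f = frobenius k p ∨ f = (frobeniusEquiv k p).symm.toRingHom)
    {M : Type v} [AddCommGroup M] [Module (TruncatedWittVector p (n + 1) k) M]
    [Module.Finite (TruncatedWittVector p (n + 1) k) M]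
    (T : M →ₛₗ[WittGrp.truncMap p (n + 1) f] M) :
    Function.Surjective (fun m : M => m - T m) := by
  obtain ⟨h1, h2, h3⟩ := solvable_sigmaBar p k n f hf
  exact sub_surjective_of_local T (sigmaBar p k n f) (sigmaBar_residue p k n f) p
    (maximalIdeal_truncated p k n) (n + 1) (natCast_p_pow_eq_zero p k n) h1 h2 h3

theorem witt_fixed_finite_generation (f : k →+* k)
    (hf : f = frobenius k p ∨ f = (frobeniusEquiv k p).symm.toRingHom)
    {M : Type v} [AddCommGroup M] [Module (TruncatedWittVector p (n + 1) k) M]
    [Module.Finite (TruncatedWittVector p (n + 1) k) M]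
    (T : M →ₛₗ[WittGrp.truncMap p (n + 1) f] M) :
    ∃ s : Finset M, (∀ m ∈ s, T m = m) ∧
      ∀ m : M, T m = m → ∃ c : M → TruncatedWittVector p (n + 1) k,
        (∀ x ∈ s, WittGrp.truncMap p (n + 1) f (c x) = c x) ∧ m = ∑ x ∈ s, c x • x := by
  obtain ⟨h1, h2, h3⟩ := solvable_sigmaBar p k n f hf
  exact fixedPoints_finite_over_fixed_subring (sigmaBar p k n f) (sigmaBar_residue p k n f) p
    (maximalIdeal_truncated p k n) (n + 1) (natCast_p_pow_eq_zero p k n) h1 h2 h3
    (sigmaBar_lift p k n f) T

end WittApp

open IsLocalRing Polynomial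

section WittFinal

variable (p : ℕ) [hp : Fact p.Prime] (k : Type u) [Field k] [CharP k p] [IsAlgClosed k]

instance subsingleton_truncated_zero : Subsingleton (TruncatedWittVector p 0 k) :=
  ⟨fun _ _ => TruncatedWittVector.ext (fun i => i.elim0)⟩

theorem witt_sub_surjective' (n : ℕ)
    (σ : TruncatedWittVector p n k →+* TruncatedWittVector p n k)
    (hσ : σ = WittGrp.truncMap p n (frobenius k p) ∨
      σ = WittGrp.truncMap p n (frobeniusEquiv k p).symm.toRingHom)
    {M : Type v} [AddCommGroup M] [Module (TruncatedWittVector p n k) M]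
    [Module.Finite (TruncatedWittVector p n k) M] (T : M →ₛₗ[σ] M) :
    Function.Surjective (fun m : M => T m - m) := by
  have key : Function.Surjective (fun m : M => m - T m) := by
    cases n with
    | zero =>
      have : Subsingleton M := Module.subsingleton (TruncatedWittVector p 0 k) M
      intro y
      exact ⟨0, Subsingleton.elim _ _⟩
    | succ n =>
      rcases hσ with rfl | rfl
      · exact witt_sub_surjective p k n _ (Or.inl rfl) T
      · exact witt_sub_surjective p k n _ (Or.inr rfl) T
  intro y
  obtain ⟨m, hm⟩ := key (-y)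
  refine ⟨m, ?_⟩
  have hm' : m - T m = -y := hm
  show T m - m = y
  rw [← neg_sub, hm', neg_neg]

omit [CharP k p] [IsAlgClosed k] in
lemma finite_pow_eq_self : {a : k | a ^ p = a}.Finite := by
  have hne : (X ^ p - X : k[X]) ≠ 0 := FiniteField.X_pow_card_sub_X_ne_zero k hp.out.one_lt
  refine Set.Finite.subset (Polynomial.rootSet_finite (X ^ p - X : k[X]) k) ?_
  intro a ha
  rw [Polynomial.mem_rootSet]
  refine ⟨hne, ?_⟩
  have ha' : a ^ p = a := ha
  simp [ha']

omit [CharP k p] [IsAlgClosed k] in
lemma finite_fixed_truncMap (n : ℕ) (f : k →+* k) (hfin : {a : k | f a = a}.Finite) :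
    {r : TruncatedWittVector p n k | WittGrp.truncMap p n f r = r}.Finite := by
  refine Set.Finite.of_finite_image (f := fun r (i : Fin n) => r.coeff i) ?_ ?_
  · refine Set.Finite.subset (Set.Finite.pi (t := fun _ : Fin n => {a : k | f a = a})
      (fun _ => hfin)) ?_
    rintro _ ⟨r, hr, rfl⟩
    intro i _
    have hr' : WittGrp.truncMap p n f r = r := hr
    show f (r.coeff i) = r.coeff i
    rw [← WittGrp.coeff_truncMap, hr']
  · intro r _ r' _ h
    exact TruncatedWittVector.ext (fun i => congrFun h i)

theorem witt_fixed_finite (n : ℕ)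
    (σ : TruncatedWittVector p n k →+* TruncatedWittVector p n k)
    (hσ : σ = WittGrp.truncMap p n (frobenius k p) ∨
      σ = WittGrp.truncMap p n (frobeniusEquiv k p).symm.toRingHom)
    {M : Type v} [AddCommGroup M] [Module (TruncatedWittVector p n k) M]
    [Module.Finite (TruncatedWittVector p n k) M] (T : M →ₛₗ[σ] M) :
    {m : M | T m = m}.Finite := by
  classical
  cases n with
  | zero =>
    have : Subsingleton M := Module.subsingleton (TruncatedWittVector p 0 k) M
    exact Set.toFinite _
  | succ n =>
    -- the fixed ring is finite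
    have hA : {r : TruncatedWittVector p (n + 1) k | σ r = r}.Finite := by
      rcases hσ with rfl | rfl
      · refine finite_fixed_truncMap p k (n + 1) _ ((finite_pow_eq_self p k).subset ?_)
        intro a ha
        have ha' : frobenius k p a = a := ha
        rwa [frobenius_def] at ha'
      · refine finite_fixed_truncMap p k (n + 1) _ ((finite_pow_eq_self p k).subset ?_)
        intro a ha
        have ha' : (frobeniusEquiv k p).symm a = a := ha
        show a ^ p = a
        conv_lhs => rw [← ha']
        exact frobeniusEquiv_symm_pow_p k p a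
    obtain ⟨s, -, hs⟩ : ∃ s : Finset M, (∀ m ∈ s, T m = m) ∧
        ∀ m : M, T m = m → ∃ c : M → TruncatedWittVector p (n + 1) k,
          (∀ x ∈ s, σ (c x) = c x) ∧ m = ∑ x ∈ s, c x • x := by
      rcases hσ with rfl | rfl
      · exact witt_fixed_finite_generation p k n _ (Or.inl rfl) T
      · exact witt_fixed_finite_generation p k n _ (Or.inr rfl) T
    have : Finite ↥{r : TruncatedWittVector p (n + 1) k | σ r = r} := hA.to_subtype
    refine Set.Finite.subset (Set.finite_range
      (fun g : (↥s → ↥{r : TruncatedWittVector p (n + 1) k | σ r = r}) =>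
        ∑ x : ↥s, ((g x : TruncatedWittVector p (n + 1) k)) • (x : M))) ?_
    intro m hm
    obtain ⟨c, hc, hmc⟩ := hs m hm
    refine ⟨fun x => ⟨c x, hc x x.2⟩, ?_⟩
    show ∑ x : ↥s, c x • (x : M) = m
    rw [hmc, Finset.sum_coe_sort s (fun x => c x • x)]

end WittFinal

end Groth.Agent.Lib.SigmaLin
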