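import Groth.Agent.Lib.ArtinSocle88
import Groth.Agent.Lib.SigmaLinWitt

/-!
# Flatness over a local ring whose maximal ideal is principal of square zero (helper88)

e.g. `W₂(k)` for a perfect field `k`: `M` is flat iff every element killed by `π` lies in `πM`.
-/

set_option autoImplicit false
set_option linter.unusedSectionVars false
universe u v

namespace Groth.Agent.Lib.W2Flat88

open TensorProduct Function IsLocalRing Groth.Agent.Lib.ArtinSocle88

section General

variable {R : Type*} [CommRing R] [IsLocalRing R] (π : R)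
  (hm : maximalIdeal R = Ideal.span {π}) (hπ2 : π ^ 2 = 0) (hπ0 : π ≠ 0)
variable (M : Type*) [AddCommGroup M] [Module R M]

include hm hπ2

theorem flat_of_forall_smul_eq_zero (h : ∀ m : M, π • m = 0 → ∃ m' : M, m = π • m') :
    Module.Flat R M := by
  have hnil : IsNilpotent (maximalIdeal R) := by
    refine ⟨2, ?_⟩
    rw [hm, Ideal.span_singleton_pow, hπ2, Ideal.zero_eq_bot, Ideal.span_singleton_eq_bot]
  have hflat : Module.Flat (R ⧸ maximalIdeal R) ((R ⧸ maximalIdeal R) ⊗[R] M) :=
    inferInstanceAs (Module.Flat (ResidueField R) (ResidueField R ⊗[R] M))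
  refine Groth.Agent.Lib.FlatCrit.flat_of_isNilpotent (maximalIdeal R) hnil ?_
  have hπm : π ∈ maximalIdeal R := by
    rw [hm]
    exact Ideal.subset_span rfl
  -- every element of `𝔪 ⊗ M` is a pure tensor `π ⊗ x`
  have hpure : ∀ t : (maximalIdeal R) ⊗[R] M, ∃ x : M,
      t = (⟨π, hπm⟩ : maximalIdeal R) ⊗ₜ[R] x := by
    intro t
    induction t with
    | zero => exact ⟨0, (TensorProduct.tmul_zero _ _).symm⟩
    | add x y hx hy =>
      obtain ⟨x', rfl⟩ := hx
      obtain ⟨y', rfl⟩ := hy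
      exact ⟨x' + y', (TensorProduct.tmul_add _ _ _).symm⟩
    | tmul a m =>
      have ha : (a : R) ∈ Ideal.span {π} := hm ▸ a.2
      rw [Ideal.mem_span_singleton'] at ha
      obtain ⟨c, hc⟩ := ha
      refine ⟨c • m, ?_⟩
      rw [TensorProduct.tmul_smul, TensorProduct.smul_tmul']
      congr 1
      apply Subtype.ext
      simp [← hc]
  rw [injective_iff_map_eq_zero]
  intro t ht
  obtain ⟨x, rfl⟩ := hpure t
  rw [LinearMap.rTensor_tmul, Submodule.subtype_apply] at ht
  have h1 : π • x = 0 := by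
    have := congrArg (TensorProduct.lid R M) ht
    simpa using this
  obtain ⟨x', rfl⟩ := h x h1
  rw [TensorProduct.tmul_smul, TensorProduct.smul_tmul']
  have : π • (⟨π, hπm⟩ : maximalIdeal R) = 0 := by
    apply Subtype.ext
    show π * π = 0
    rw [← pow_two, hπ2]
  rw [this, TensorProduct.zero_tmul]

include hπ0

theorem exists_eq_smul_of_flat [Module.Flat R M] (m : M) (h : π • m = 0) :
    ∃ m' : M, m = π • m' := by
  have h1 : π • m ∈ ((⊥ : Ideal R) • ⊤ : Submodule R M) := by
    rw [h]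
    exact Submodule.zero_mem _
  have h2 := mem_colon_smul_top_of_smul_mem ⊥ π m h1
  have h3 : LinearMap.ker ((⊥ : Ideal R).mkQ ∘ₗ LinearMap.toSpanSingleton R R π) ≤
      Ideal.span {π} := by
    rw [← hm]
    apply IsLocalRing.le_maximalIdeal
    intro htop
    have h4 : (1 : R) ∈ LinearMap.ker ((⊥ : Ideal R).mkQ ∘ₗ LinearMap.toSpanSingleton R R π) :=
      htop ▸ Submodule.mem_top
    rw [LinearMap.mem_ker, LinearMap.comp_apply, LinearMap.toSpanSingleton_apply, one_smul,
      Submodule.mkQ_apply, Submodule.Quotient.mk_eq_zero] at h4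
    exact hπ0 ((Submodule.mem_bot R).mp h4)
  have h5 : m ∈ (Ideal.span {π} • ⊤ : Submodule R M) := Submodule.smul_mono h3 le_rfl h2
  rw [Submodule.ideal_span_singleton_smul, Submodule.mem_smul_pointwise_iff_exists] at h5
  obtain ⟨m', -, rfl⟩ := h5
  exact ⟨m', rfl⟩

theorem flat_iff : Module.Flat R M ↔ ∀ m : M, π • m = 0 → ∃ m' : M, m = π • m' :=
  ⟨fun _ m h => exists_eq_smul_of_flat π hm hπ2 hπ0 M m h,
    flat_of_forall_smul_eq_zero π hm hπ2 M⟩

end General

section Algebra

variable {R : Type*} [CommRing R] [IsLocalRing R] (π : R)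
  (hm : maximalIdeal R = Ideal.span {π}) (hπ2 : π ^ 2 = 0) (hπ0 : π ≠ 0)
variable (B : Type*) [CommRing B] [Algebra R B] [Module.Flat R B] (J : Ideal B)

include hm hπ2 hπ0

theorem flat_quotient_iff :
    Module.Flat R (B ⧸ J) ↔
      Ideal.span {algebraMap R B π} ⊓ J = Ideal.span {algebraMap R B π} * J := by
  have hϖ2 : algebraMap R B π * algebraMap R B π = 0 := by
    rw [← map_mul, ← pow_two, hπ2, map_zero]
  have hsm : ∀ b : B, π • (Ideal.Quotient.mk J b) = Ideal.Quotient.mk J (algebraMap R B π * b) := by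
    intro b
    rw [← Algebra.smul_def]
    rfl
  constructor
  · intro hflat
    refine le_antisymm ?_ Ideal.mul_le_inf
    rintro x ⟨hx1, hx2⟩
    have hx1' : x ∈ Ideal.span {algebraMap R B π} := hx1
    have hx2' : x ∈ J := hx2
    rw [Ideal.mem_span_singleton'] at hx1'
    obtain ⟨b, rfl⟩ := hx1'
    have h1 : π • (Ideal.Quotient.mk J b) = 0 := by
      rw [hsm, mul_comm, Ideal.Quotient.eq_zero_iff_mem]
      exact hx2'
    obtain ⟨m', hm'⟩ := exists_eq_smul_of_flat π hm hπ2 hπ0 (B ⧸ J) _ h1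
    obtain ⟨b', rfl⟩ := Ideal.Quotient.mk_surjective m'
    rw [hsm, Ideal.Quotient.eq] at hm'
    rw [Ideal.mem_span_singleton_mul]
    refine ⟨b - algebraMap R B π * b', hm', ?_⟩
    rw [mul_sub, ← mul_assoc, hϖ2, zero_mul, sub_zero, mul_comm]
  · intro h
    refine flat_of_forall_smul_eq_zero π hm hπ2 (B ⧸ J) ?_
    intro m hm0
    obtain ⟨b, rfl⟩ := Ideal.Quotient.mk_surjective m
    rw [hsm, Ideal.Quotient.eq_zero_iff_mem] at hm0
    have h1 : algebraMap R B π * b ∈ Ideal.span {algebraMap R B π} ⊓ J :=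
      ⟨Ideal.mul_mem_right _ _ (Ideal.subset_span rfl), hm0⟩
    rw [h, Ideal.mem_span_singleton_mul] at h1
    obtain ⟨j, hj, hjb⟩ := h1
    have h2 : π • (b - j) = 0 := by
      rw [Algebra.smul_def, mul_sub, hjb, sub_self]
    obtain ⟨b'', hb''⟩ := exists_eq_smul_of_flat π hm hπ2 hπ0 B _ h2
    refine ⟨Ideal.Quotient.mk J b'', ?_⟩
    rw [hsm, Ideal.Quotient.eq]
    rw [Algebra.smul_def] at hb''
    rw [← hb'']
    simpa using hj

end Algebra

section Witt

open Groth.Agent.Lib.SigmaLin

variable (p : ℕ) [Fact p.Prime] (k : Type u) [Field k] [CharP k p] [PerfectRing k p]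

instance : IsLocalRing (TruncatedWittVector p 2 k) := isLocalRing_truncated p k 1

theorem maximalIdeal_W2 : maximalIdeal (TruncatedWittVector p 2 k) =
    Ideal.span {(p : TruncatedWittVector p 2 k)} := maximalIdeal_truncated p k 1

theorem p_sq_W2 : (p : TruncatedWittVector p 2 k) ^ 2 = 0 := natCast_p_pow_eq_zero p k 1

theorem p_ne_zero_W2 : (p : TruncatedWittVector p 2 k) ≠ 0 := by
  intro h
  have h1 : (WittVector.truncate 2 (p : WittVector p k)).coeff (1 : Fin 2) = 0 := by
    rw [map_natCast, h, TruncatedWittVector.coeff_zero]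
  rw [WittVector.coeff_truncate] at h1
  have h2 : (p : WittVector p k).coeff 1 = 1 := WittVector.coeff_p_one p k
  have h3 : ((1 : Fin 2) : ℕ) = 1 := rfl
  rw [h3, h2] at h1
  exact one_ne_zero h1

theorem flat_W2_iff (M : Type v) [AddCommGroup M] [Module (TruncatedWittVector p 2 k) M] :
    Module.Flat (TruncatedWittVector p 2 k) M ↔
      ∀ m : M, (p : TruncatedWittVector p 2 k) • m = 0 →
        ∃ m' : M, m = (p : TruncatedWittVector p 2 k) • m' :=
  flat_iff _ (maximalIdeal_W2 p k) (p_sq_W2 p k) (p_ne_zero_W2 p k) M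

theorem flat_quotient_W2_iff (B : Type v) [CommRing B] [Algebra (TruncatedWittVector p 2 k) B]
    [Module.Flat (TruncatedWittVector p 2 k) B] (J : Ideal B) :
    Module.Flat (TruncatedWittVector p 2 k) (B ⧸ J) ↔
      Ideal.span {(p : B)} ⊓ J = Ideal.span {(p : B)} * J := by
  have := flat_quotient_iff _ (maximalIdeal_W2 p k) (p_sq_W2 p k) (p_ne_zero_W2 p k) B J
  rwa [map_natCast] at this

end Witt

end Groth.Agent.Lib.W2Flat88
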