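import Groth.Prelude.Def_W4c1liftfrobW2
import Groth.Agent.Lib.W2Flat88
import Mathlib.RingTheory.Smooth.Flat

/-!
# Frobenius lifts over `W₂(k)` (helper84)

* `lift_aux`: lifting a ring map along a square-zero surjection `π : C → A` from a formally smooth
  `W`-algebra `L`, where `C` carries its own `W`-algebra structure (used with `C = L` twisted by σ).
* `res_surjective`, `ker_res` (`= (p)`), `ker_res_sq`, `res_sigma` for `FrobAlg.res`/`FrobAlg.sigma`.
-/

set_option autoImplicit false
set_option linter.unusedSectionVars false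
set_option linter.style.haveILetI false
universe u
open FrobAlg

namespace Groth.Agent.Lib.FLift84

/-- lifting along a square-zero surjection `π : C → A` for a formally smooth algebra `L`. -/
theorem lift_aux {W L C A : Type*} [CommRing W] [CommRing L] [CommRing C] [CommRing A]
    [Algebra W L] [Algebra W C] [Algebra.FormallySmooth W L] (π : C →+* A)
    (hπ : Function.Surjective π) (hker : RingHom.ker π ^ 2 = ⊥)
    (g : L →+* A) (hg : ∀ w, g (algebraMap W L w) = π (algebraMap W C w)) :
    ∃ Φ : L →ₐ[W] C, ∀ b, π (Φ b) = g b := by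
  let e : C ⧸ RingHom.ker π ≃+* A := RingHom.quotientKerEquivOfSurjective hπ
  have he : ∀ c : C, e (Ideal.Quotient.mk _ c) = π c := fun c => rfl
  let g' : L →ₐ[W] C ⧸ RingHom.ker π :=
    { (e.symm.toRingHom.comp g) with
      commutes' := by
        intro w
        show e.symm (g (algebraMap W L w)) = _
        rw [hg, ← he, RingEquiv.symm_apply_apply]
        rfl }
  obtain ⟨Φ, hΦ⟩ := Algebra.FormallySmooth.comp_surjective W L (RingHom.ker π) hker g'
  refine ⟨Φ, fun b => ?_⟩
  have h1 : (Ideal.Quotient.mk (RingHom.ker π)) (Φ b) = g' b := by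
    rw [← hΦ]; rfl
  have h2 : g' b = e.symm (g b) := rfl
  rw [← he, h1, h2, RingEquiv.apply_symm_apply]

end Groth.Agent.Lib.FLift84

namespace Groth.Agent.Lib.FLift84

open Groth.Agent.Lib.W2Flat88

variable (p : ℕ) [Fact p.Prime] (k : Type u) [Field k] [CharP k p] [PerfectRing k p]

theorem res_surjective : Function.Surjective (FrobAlg.res p k) := by
  intro a
  refine ⟨WittVector.truncate 2 (WittVector.teichmuller p a), ?_⟩
  rw [FrobAlg.res_truncate, WittVector.teichmuller_coeff_zero]

theorem ker_res : RingHom.ker (FrobAlg.res p k) = Ideal.span {(p : FrobAlg.W2 p k)} := by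
  have hmax : (RingHom.ker (FrobAlg.res p k)).IsMaximal :=
    RingHom.ker_isMaximal_of_surjective _ (res_surjective p k)
  rw [IsLocalRing.eq_maximalIdeal hmax]
  exact maximalIdeal_W2 p k

theorem ker_res_sq : RingHom.ker (FrobAlg.res p k) ^ 2 = ⊥ := by
  rw [ker_res, Ideal.span_singleton_pow, p_sq_W2, Ideal.span_singleton_eq_bot]

theorem res_sigma (w : FrobAlg.W2 p k) :
    FrobAlg.res p k (FrobAlg.sigma p k w) = FrobAlg.res p k w ^ p := by
  rw [FrobAlg.res_apply, FrobAlg.res_apply]
  exact WittGrp.coeff_frob p 2 _ w 0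

end Groth.Agent.Lib.FLift84

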