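import Mathlib

/-!
A retract of a finitely presented algebra is finitely presented.
-/

set_option autoImplicit false
universe u

namespace Groth.Agent.Lib.FPRetractH52

/-- If `π : C → B` has a ring-theoretic section `ρ` and `C` is generated over (the image of) `A` by a
finite set `s`, then `ker π` is generated by the `c - ρ (π c)` for `c ∈ s`. -/
theorem ker_fg_of_retract {A B C : Type*} [CommRing A] [CommRing B] [CommRing C] [Algebra A C]
    (π : C →+* B) (ρ : B →+* C) (hπρ : ∀ b, π (ρ b) = b)
    (hA : ∀ a : A, ρ (π (algebraMap A C a)) = algebraMap A C a)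
    (s : Finset C) (hs : Algebra.adjoin A (s : Set C) = ⊤) : (RingHom.ker π).FG := by
  classical
  let I : Ideal C := Ideal.span ((fun c => c - ρ (π c)) '' (s : Set C))
  have hI : ∀ c : C, c - ρ (π c) ∈ I := by
    intro c
    have hc : c ∈ Algebra.adjoin A (s : Set C) := by rw [hs]; trivial
    induction hc using Algebra.adjoin_induction with
    | mem x hx => exact Ideal.subset_span ⟨x, hx, rfl⟩
    | algebraMap a => rw [hA, sub_self]; exact I.zero_mem
    | add x y _ _ hx hy =>
      have : x + y - ρ (π (x + y)) = (x - ρ (π x)) + (y - ρ (π y)) := by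
        rw [map_add, map_add]; ring
      rw [this]; exact I.add_mem hx hy
    | mul x y _ _ hx hy =>
      have : x * y - ρ (π (x * y)) = x * (y - ρ (π y)) + (x - ρ (π x)) * ρ (π y) := by
        rw [map_mul, map_mul]; ring
      rw [this]
      exact I.add_mem (I.mul_mem_left _ hy) (I.mul_mem_right _ hx)
  have hker : RingHom.ker π = I := by
    apply le_antisymm
    · intro c hc
      have := hI c
      rwa [RingHom.mem_ker.mp hc, map_zero, sub_zero] at this
    · rw [Ideal.span_le]
      rintro _ ⟨c, -, rfl⟩
      rw [SetLike.mem_coe, RingHom.mem_ker, map_sub, hπρ, sub_self]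
  rw [hker]
  exact ⟨(s.image fun c => c - ρ (π c)), by simp [I]⟩

/-- A retract of a finitely presented ring map is finitely presented. -/
theorem finitePresentation_of_retract {A B C : Type*} [CommRing A] [CommRing B] [CommRing C]
    (φ : A →+* B) (ψ : A →+* C) (π : C →+* B) (ρ : B →+* C) (hπ : π.comp ψ = φ)
    (hρ : ρ.comp φ = ψ) (hπρ : π.comp ρ = RingHom.id B) (hψ : ψ.FinitePresentation) :
    φ.FinitePresentation := by
  have hπρ' : ∀ b, π (ρ b) = b := fun b => congrArg (fun k => k b) hπρ
  have hsurj : Function.Surjective π := fun b => ⟨ρ b, hπρ' b⟩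
  have hker : (RingHom.ker π).FG := by
    let _ : Algebra A C := ψ.toAlgebra
    have hft : Algebra.FiniteType A C := RingHom.FiniteType.of_finitePresentation hψ
    obtain ⟨s, hs⟩ := hft.out
    refine ker_fg_of_retract (A := A) π ρ hπρ' (fun a => ?_) s hs
    change ρ (π (ψ a)) = ψ a
    have h1 : π (ψ a) = φ a := congrArg (fun k => k a) hπ
    rw [h1]
    exact congrArg (fun k => k a) hρ
  rw [← hπ]
  exact (RingHom.FinitePresentation.of_surjective π hsurj hker).comp hψ

end Groth.Agent.Lib.FPRetractH52
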