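import Groth.Agent.Lib.UHFPSysH52
import Groth.Agent.Lib.FPRetractH52

/-!
Converse of "locally of finite presentation ⇒ Hom commutes with cofiltered limits of affine schemes":
from the surjectivity hypothesis one gets that every affine chart algebra is a retract of a member
of any filtered system of algebras having it as colimit.
-/

set_option autoImplicit false
universe u

open CategoryTheory AlgebraicGeometry Limits Opposite

namespace Groth.Agent.Lib.FPLimitH52

/-- The hypothesis of S9208. -/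
def LimSurj {X S : Scheme.{u}} (f : X ⟶ S) : Prop :=
  ∀ (J : Type u) [Preorder J] [IsDirected J (· ≤ ·)] [Nonempty J] (D : Jᵒᵖ ⥤ Scheme.{u})
    (t : D ⟶ (Functor.const Jᵒᵖ).obj S) (c : Limits.Cone D) (_ : Limits.IsLimit c),
    (∀ j, IsAffine (D.obj j)) → ∀ (j₀ : Jᵒᵖ) (g : c.pt ⟶ X), g ≫ f = c.π.app j₀ ≫ t.app j₀ →
      ∃ (j : Jᵒᵖ) (gj : D.obj j ⟶ X), gj ≫ f = t.app j ∧ c.π.app j ≫ gj = g

theorem exists_retract {X S : Scheme.{u}} (f : X ⟶ S) (h : LimSurj f) (U : S.Opens)
    (hU : IsAffineOpen U) (J : Type u) [Preorder J] [IsDirected J (· ≤ ·)] [Nonempty J]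
    (F : J ⥤ Under Γ(S, U)) (cF : Cocone F) (hcF : IsColimit cF)
    (ι : Spec cF.pt.right ⟶ X) [IsOpenImmersion ι]
    (hι : ι ≫ f = Spec.map cF.pt.hom ≫ hU.fromSpec) :
    ∃ (k : J) (ρ : cF.pt.right ⟶ (F.obj k).right),
      cF.pt.hom ≫ ρ = (F.obj k).hom ∧ ρ ≫ (cF.ι.app k).right = 𝟙 _ := by
  classical
  let F' : J ⥤ CommRingCat := F ⋙ Under.forget _
  let D : Jᵒᵖ ⥤ Scheme.{u} := F'.op ⋙ Scheme.Spec
  let t : D ⟶ (Functor.const Jᵒᵖ).obj S :=
    { app := fun j => Spec.map (F.obj j.unop).hom ≫ hU.fromSpec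
      naturality := fun j j' φ => by
        simp only [Functor.const_obj_obj, Functor.const_obj_map, Category.comp_id]
        change Spec.map (F.map φ.unop).right ≫ Spec.map (F.obj j'.unop).hom ≫ hU.fromSpec = _
        rw [← Spec.map_comp_assoc, Under.w]
        rfl }
  let cF' : Cocone F' := (Under.forget _).mapCocone cF
  have hcF' : IsColimit cF' := isColimitOfPreserves (Under.forget _) hcF
  let c : Cone D := Scheme.Spec.mapCone cF'.op
  have hc : IsLimit c := isLimitOfPreserves Scheme.Spec hcF'.op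
  have haff : ∀ j, IsAffine (D.obj j) := fun j => inferInstanceAs (IsAffine (Spec _))
  obtain ⟨j₀⟩ := ‹Nonempty J›
  have hg : ι ≫ f = c.π.app (op j₀) ≫ t.app (op j₀) := by
    rw [hι]
    change _ = Spec.map (cF.ι.app j₀).right ≫ Spec.map (F.obj j₀).hom ≫ hU.fromSpec
    rw [← Spec.map_comp_assoc, Under.w]
    rfl
  obtain ⟨j, gj, hgj1, hgj2⟩ := h J D t c hc haff (op j₀) ι hg
  let W : (D.obj j).Opens := gj ⁻¹ᵁ ι.opensRange
  have hW : c.π.app j ⁻¹ᵁ W = ⊤ := by
    rw [← Scheme.Hom.comp_preimage, hgj2]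
    exact Scheme.Hom.preimage_opensRange ι
  have hDaff : ∀ {i j : Jᵒᵖ} (φ : i ⟶ j), IsAffineHom (D.map φ) := fun {i j} φ =>
    have : IsAffine (D.obj i) := haff i
    have : IsAffine (D.obj j) := haff j
    inferInstance
  have hDc : ∀ i, CompactSpace (D.obj i) := fun i =>
    have : IsAffine (D.obj i) := haff i
    inferInstance
  obtain ⟨k, fkj, hk⟩ := exists_map_eq_top D c hc W hW
  let gk : D.obj k ⟶ X := D.map fkj ≫ gj
  have hr : Set.range gk ⊆ Set.range ι := by
    rintro _ ⟨x, rfl⟩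
    have hx : x ∈ D.map fkj ⁻¹ᵁ W := by rw [hk]; trivial
    exact hx
  let r : Spec (F.obj k.unop).right ⟶ Spec cF.pt.right := IsOpenImmersion.lift ι gk hr
  have hrι : r ≫ ι = gk := IsOpenImmersion.lift_fac ι gk hr
  let ρ : cF.pt.right ⟶ (F.obj k.unop).right := Spec.preimage r
  have hρ : Spec.map ρ = r := Spec.map_preimage r
  refine ⟨k.unop, ρ, ?_, ?_⟩
  · apply Spec.map_injective
    rw [Spec.map_comp, hρ, ← cancel_mono hU.fromSpec, Category.assoc, ← hι]
    have h1 : r ≫ ι ≫ f = gk ≫ f :=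
      (Category.assoc r ι f).symm.trans (congrArg (· ≫ f) hrι)
    rw [h1]
    change (D.map fkj ≫ gj) ≫ f = t.app k
    rw [Category.assoc, hgj1]
    have hnat := t.naturality fkj
    simp only [Functor.const_obj_obj, Functor.const_obj_map, Category.comp_id] at hnat
    exact hnat
  · apply Spec.map_injective
    rw [Spec.map_comp, hρ, Spec.map_id, ← cancel_mono ι, Category.assoc, hrι]
    refine Eq.trans ?_ (Category.id_comp ι).symm
    change c.π.app k ≫ D.map fkj ≫ gj = ι
    rw [← Category.assoc, c.w fkj, hgj2]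

end Groth.Agent.Lib.FPLimitH52
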