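import Mathlib

/-!
# Descent of finitely presented modules along localizations and quotients (helper84)

* `exists_fp_map_bijective`: if `S⁻¹M` is f.p. over `S⁻¹R` there is a f.p. `M'` and `φ : M' → M`
  with `S⁻¹φ` bijective.
* `exists_fp_localizedModule_equiv`: f.p. modules over `T⁻¹A` descend to f.p. `A`-modules.
* `exists_fp_quotient_equiv`: f.p. modules over `R ⧸ I` are `M ⧸ I M` with `M` f.p. over `R`.
* `exists_fp_localization_quotient`: combination.
-/

set_option autoImplicit false
set_option linter.style.haveILetI false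
universe u

namespace Groth.Agent.Lib.FPLocDescend

open LocalizedModule in
/-- Every element of the kernel of a localized map is a scalar multiple of `mk k 1` with `k` in the
kernel of the original map. -/
theorem exists_smul_mk_of_mem_ker {R : Type*} [CommRing R] (S : Submonoid R)
    {M N : Type*} [AddCommGroup M] [Module R M] [AddCommGroup N] [Module R N]
    (ψ : M →ₗ[R] N) (y : LocalizedModule S M) (hy : LocalizedModule.map S ψ y = 0) :
    ∃ (k : M) (c : Localization S), ψ k = 0 ∧ y = c • LocalizedModule.mk k 1 := by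
  induction y using LocalizedModule.induction_on with
  | h m s =>
    rw [LocalizedModule.map_mk, ← LocalizedModule.zero_mk s, LocalizedModule.mk_eq] at hy
    obtain ⟨u, hu⟩ := hy
    refine ⟨((u * s : S) : R) • m, Localization.mk 1 ((u * s) * s), ?_, ?_⟩
    · have : (u : R) • (s : R) • ψ m = 0 := by
        have h0 : u • s • ψ m = 0 := by simpa using hu
        exact h0
      rw [map_smul, Submonoid.coe_mul, mul_smul]; exact this
    · rw [LocalizedModule.mk_smul_mk, one_smul, mul_one]
      exact (LocalizedModule.mk_cancel_common_left (u * s) s m).symm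

/-- If `S⁻¹M` is finitely presented over `S⁻¹R`, there is a finitely presented `M'` with a map to
`M` that becomes bijective after localization. -/
theorem exists_fp_map_bijective (R : Type u) [CommRing R] (S : Submonoid R)
    (M : Type u) [AddCommGroup M] [Module R M]
    [Module.FinitePresentation (Localization S) (LocalizedModule S M)] :
    ∃ (M' : Type u) (_ : AddCommGroup M') (_ : Module R M') (φ : M' →ₗ[R] M),
      Module.FinitePresentation R M' ∧ Function.Bijective (LocalizedModule.map S φ) := by
  classical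
  obtain ⟨n, g, hg⟩ := Module.Finite.exists_fin (R := Localization S) (M := LocalizedModule S M)
  have hx : ∀ i, ∃ x : M, ∃ t : S, g i = LocalizedModule.mk x t := fun i => by
    induction g i using LocalizedModule.induction_on with
    | h m s => exact ⟨m, s, rfl⟩
  choose x t hxt using hx
  let ψ : (Fin n → R) →ₗ[R] M := Fintype.linearCombination R x
  have hsurj : Function.Surjective (LocalizedModule.map S ψ) := by
    rw [← LinearMap.range_eq_top, ← top_le_iff, ← hg, Submodule.span_le]
    rintro _ ⟨i, rfl⟩
    have h1 : LocalizedModule.map S ψ (LocalizedModule.mk (Pi.single i 1) 1) =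
        LocalizedModule.mk (x i) 1 := by
      rw [LocalizedModule.map_mk]
      simp [ψ, Fintype.linearCombination_apply_single]
    have h2 : g i = Localization.mk 1 (t i) • LocalizedModule.mk (x i) (1 : S) := by
      rw [LocalizedModule.mk_smul_mk, one_smul, mul_one, hxt]
    rw [h2, ← h1]
    exact Submodule.smul_mem _ _ ⟨_, rfl⟩
  have hK : (LinearMap.ker (LocalizedModule.map S ψ)).FG :=
    Module.FinitePresentation.fg_ker _ hsurj
  obtain ⟨σ, hσ⟩ := hK
  have hk : ∀ y : σ, ∃ (k : Fin n → R) (c : Localization S), ψ k = 0 ∧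
      (y : LocalizedModule S (Fin n → R)) = c • LocalizedModule.mk k 1 := fun y =>
    exists_smul_mk_of_mem_ker S ψ y (by
      have : (y : LocalizedModule S (Fin n → R)) ∈ LinearMap.ker (LocalizedModule.map S ψ) := by
        rw [← hσ]; exact Submodule.subset_span y.2
      exact this)
  choose k c hk0 hkc using hk
  let N : Submodule R (Fin n → R) := Submodule.span R (Set.range k)
  have hN : N ≤ LinearMap.ker ψ := by
    rw [Submodule.span_le]; rintro _ ⟨y, rfl⟩; exact hk0 y
  have hNfg : N.FG := Submodule.fg_span (Set.finite_range k)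
  refine ⟨(Fin n → R) ⧸ N, inferInstance, inferInstance, N.liftQ ψ hN, ?_, ?_, ?_⟩
  · exact Module.finitePresentation_of_surjective N.mkQ N.mkQ_surjective (by rwa [N.ker_mkQ])
  · -- injective
    rw [← LinearMap.ker_eq_bot, eq_bot_iff]
    intro z hz
    obtain ⟨w, rfl⟩ := LocalizedModule.map_surjective S N.mkQ N.mkQ_surjective z
    have hw : w ∈ LinearMap.ker (LocalizedModule.map S ψ) := by
      rw [LinearMap.mem_ker] at hz ⊢
      rw [← hz]
      induction w using LocalizedModule.induction_on with
      | h m s => simp [LocalizedModule.map_mk]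
    rw [← hσ] at hw
    have : Submodule.span (Localization S) (σ : Set (LocalizedModule S (Fin n → R))) ≤
        LinearMap.ker (LocalizedModule.map S N.mkQ) := by
      rw [Submodule.span_le]
      intro y hy
      have hy' : y = c ⟨y, hy⟩ • LocalizedModule.mk (k ⟨y, hy⟩) 1 := hkc ⟨y, hy⟩
      rw [SetLike.mem_coe, LinearMap.mem_ker, hy', map_smul, LocalizedModule.map_mk]
      have : N.mkQ (k ⟨y, hy⟩) = 0 := by
        rw [Submodule.mkQ_apply, Submodule.Quotient.mk_eq_zero]
        exact Submodule.subset_span ⟨_, rfl⟩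
      rw [this, LocalizedModule.zero_mk, smul_zero]
    exact this hw
  · -- surjective
    intro y
    obtain ⟨w, rfl⟩ := hsurj y
    refine ⟨LocalizedModule.map S N.mkQ w, ?_⟩
    induction w using LocalizedModule.induction_on with
    | h m s => simp [LocalizedModule.map_mk]

/-- A finitely presented module over a localization descends to a finitely presented module. -/
theorem exists_fp_localizedModule_equiv (A : Type u) [CommRing A] (T : Submonoid A) (M' : Type u)
    [AddCommGroup M'] [Module (Localization T) M']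
    [Module.FinitePresentation (Localization T) M'] :
    ∃ (M₁ : Type u) (_ : AddCommGroup M₁) (_ : Module A M₁), Module.FinitePresentation A M₁ ∧
      Nonempty (LocalizedModule T M₁ ≃ₗ[Localization T] M') := by
  letI : Module A M' := Module.compHom M' (algebraMap A (Localization T))
  haveI : IsScalarTower A (Localization T) M' := IsScalarTower.of_algebraMap_smul fun r x => rfl
  haveI := isLocalizedModule_id T M' (Localization T)
  let e : LocalizedModule T M' ≃ₗ[Localization T] M' :=
    (IsLocalizedModule.iso T (LinearMap.id : M' →ₗ[A] M')).extendScalarsOfIsLocalization T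
      (Localization T)
  haveI : Module.FinitePresentation (Localization T) (LocalizedModule T M') :=
    Module.FinitePresentation.of_equiv e.symm
  obtain ⟨M₁, _, _, φ, hfp, hbij⟩ := exists_fp_map_bijective A T M'
  exact ⟨M₁, _, _, hfp, ⟨(LinearEquiv.ofBijective _ hbij).trans e⟩⟩

/-- A finitely presented module over a quotient ring `R ⧸ I` is `M ⧸ I M` for a finitely
presented `R`-module `M`. -/
theorem exists_fp_quotient_equiv (R : Type u) [CommRing R] (I : Ideal R) (M₁ : Type u)
    [AddCommGroup M₁] [Module (R ⧸ I) M₁] [Module.FinitePresentation (R ⧸ I) M₁] :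
    ∃ (M : Type u) (_ : AddCommGroup M) (_ : Module R M), Module.FinitePresentation R M ∧
      Nonempty ((M ⧸ (I • ⊤ : Submodule R M)) ≃ₗ[R ⧸ I] M₁) := by
  classical
  obtain ⟨n, K, e, hK⟩ := Module.FinitePresentation.exists_fin (R ⧸ I) M₁
  obtain ⟨τ, hτ⟩ := hK
  let q : (Fin n → R) →ₗ[R] (Fin n → R ⧸ I) :=
    (Ideal.Quotient.mkₐ R I).toLinearMap.compLeft (Fin n)
  have hq : Function.Surjective q := fun f =>
    ⟨fun i => (Ideal.Quotient.mk_surjective (f i)).choose,
      funext fun i => (Ideal.Quotient.mk_surjective (f i)).choose_spec⟩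
  have hqker : LinearMap.ker q ≤ (I • ⊤ : Submodule R (Fin n → R)) := by
    intro v hv
    have hv' : ∀ i, v i ∈ I := fun i => by
      have := congrFun hv i
      exact Ideal.Quotient.eq_zero_iff_mem.mp this
    have : v = ∑ i, (v i) • (Pi.single i (1 : R) : Fin n → R) := by
      ext j; simp [Finset.sum_apply, Pi.single_apply]
    rw [this]
    exact Submodule.sum_mem _ fun i _ => Submodule.smul_mem_smul (hv' i) Submodule.mem_top
  choose w hw using fun y : τ => hq y.1
  let N : Submodule R (Fin n → R) := Submodule.span R (Set.range w)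
  let ψ : (Fin n → R) →ₗ[R] (Fin n → R ⧸ I) ⧸ K := (K.mkQ.restrictScalars R) ∘ₗ q
  have hN : N ≤ LinearMap.ker ψ := by
    rw [Submodule.span_le]
    rintro _ ⟨y, rfl⟩
    change K.mkQ (q (w y)) = 0
    rw [hw, Submodule.mkQ_apply, Submodule.Quotient.mk_eq_zero, ← hτ]
    exact Submodule.subset_span y.2
  have hNfg : N.FG := Submodule.fg_span (Set.finite_range w)
  let φ : ((Fin n → R) ⧸ N) →ₗ[R] (Fin n → R ⧸ I) ⧸ K := N.liftQ ψ hN
  have hφs : Function.Surjective φ := by
    intro z
    obtain ⟨z, rfl⟩ := K.mkQ_surjective z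
    obtain ⟨v, rfl⟩ := hq z
    exact ⟨N.mkQ v, rfl⟩
  have hφk : LinearMap.ker φ = (I • ⊤ : Submodule R ((Fin n → R) ⧸ N)) := by
    apply le_antisymm
    · intro z hz
      obtain ⟨v, rfl⟩ := N.mkQ_surjective z
      have h1 : q v ∈ K := by
        have : K.mkQ (q v) = 0 := hz
        rwa [Submodule.mkQ_apply, Submodule.Quotient.mk_eq_zero] at this
      -- K = q '' N
      have h2 : K.restrictScalars R ≤ N.map q := by
        intro z hz
        have hz' : z ∈ Submodule.span (R ⧸ I) (τ : Set (Fin n → R ⧸ I)) := by rw [hτ]; exact hz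
        refine Submodule.span_induction (p := fun z _ => z ∈ N.map q) ?_ ?_ ?_ ?_ hz'
        · intro y hy
          exact ⟨w ⟨y, hy⟩, Submodule.subset_span ⟨_, rfl⟩, hw ⟨y, hy⟩⟩
        · exact Submodule.zero_mem _
        · intro a b _ _ ha hb; exact Submodule.add_mem _ ha hb
        · intro a b _ hb
          obtain ⟨a, rfl⟩ := Ideal.Quotient.mk_surjective a
          have : (Ideal.Quotient.mk I a) • b = a • b := rfl
          rw [this]
          exact Submodule.smul_mem _ _ hb
      obtain ⟨v', hv'N, hv'⟩ := h2 h1
      have h3 : v - v' ∈ LinearMap.ker q := by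
        rw [LinearMap.mem_ker, map_sub, hv', sub_self]
      have h4 := hqker h3
      have h5 : N.mkQ v = N.mkQ (v - v') := by
        rw [map_sub, Submodule.mkQ_apply _ v', (Submodule.Quotient.mk_eq_zero N).mpr hv'N, sub_zero]
      rw [h5]
      have : (I • ⊤ : Submodule R (Fin n → R)).map N.mkQ ≤ I • ⊤ := by
        rw [Submodule.map_smul'']; exact Submodule.smul_mono le_rfl le_top
      exact this ⟨_, h4, rfl⟩
    · rw [Submodule.smul_le]
      intro r hr z _
      rw [LinearMap.mem_ker, map_smul]
      obtain ⟨z', hz'⟩ := K.mkQ_surjective (φ z)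
      rw [← hz']
      have : r • K.mkQ z' = K.mkQ ((Ideal.Quotient.mk I r) • z') := rfl
      rw [this, Ideal.Quotient.eq_zero_iff_mem.mpr hr, zero_smul, map_zero]
  refine ⟨(Fin n → R) ⧸ N, inferInstance, inferInstance, ?_, ?_⟩
  · exact Module.finitePresentation_of_surjective N.mkQ N.mkQ_surjective (by rwa [N.ker_mkQ])
  · haveI : IsScalarTower R (R ⧸ I) (((Fin n → R) ⧸ N) ⧸ (I • ⊤ : Submodule R ((Fin n → R) ⧸ N))) :=
      IsScalarTower.of_algebraMap_smul fun r x => by
        obtain ⟨x, rfl⟩ := Submodule.mkQ_surjective _ x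
        rfl
    let e₀ : (((Fin n → R) ⧸ N) ⧸ (I • ⊤ : Submodule R ((Fin n → R) ⧸ N))) ≃ₗ[R]
        (Fin n → R ⧸ I) ⧸ K :=
      (Submodule.quotEquivOfEq _ _ hφk.symm).trans (LinearMap.quotKerEquivOfSurjective φ hφs)
    exact ⟨(e₀.extendScalarsOfSurjective Ideal.Quotient.mk_surjective).trans e.symm⟩

/-- With `R' = S⁻¹(R/I)`, every finitely presented `R'`-module is `S⁻¹(M/IM)` for a finitely
presented `R`-module `M`. -/
theorem exists_fp_localization_quotient (R : Type u) [CommRing R] (I : Ideal R)
    (S : Submonoid R) (M' : Type u) [AddCommGroup M']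
    [Module (Localization (S.map (Ideal.Quotient.mk I))) M']
    [Module.FinitePresentation (Localization (S.map (Ideal.Quotient.mk I))) M'] :
    ∃ (M : Type u) (_ : AddCommGroup M) (_ : Module R M), Module.FinitePresentation R M ∧
      Nonempty (LocalizedModule (S.map (Ideal.Quotient.mk I)) (M ⧸ (I • ⊤ : Submodule R M))
        ≃ₗ[Localization (S.map (Ideal.Quotient.mk I))] M') := by
  obtain ⟨M₁, _, _, hfp₁, ⟨e₁⟩⟩ :=
    exists_fp_localizedModule_equiv (R ⧸ I) (S.map (Ideal.Quotient.mk I)) M'
  obtain ⟨M, _, _, hfp, ⟨e₂⟩⟩ := exists_fp_quotient_equiv R I M₁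
  refine ⟨M, _, _, hfp, ⟨LinearEquiv.trans (LinearEquiv.ofBijective
    (LocalizedModule.map (S.map (Ideal.Quotient.mk I)) e₂.toLinearMap) ⟨?_, ?_⟩) e₁⟩⟩
  · exact LocalizedModule.map_injective _ _ e₂.injective
  · exact LocalizedModule.map_surjective _ _ e₂.surjective

end Groth.Agent.Lib.FPLocDescend
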