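import Groth.Agent.Lib.H15IndZariski
import Mathlib.RingTheory.FinitePresentation
import Mathlib.RingTheory.RingHom.FinitePresentation
import Mathlib.Algebra.MvPolynomial.Rename

/-!
A general machine writing an `A`-algebra `B` as a filtered colimit of finitely presented
`A`-algebras `A[X_s : s ∈ S] / I` (`S` a finite subset of `B`, `I` a finitely generated ideal
of relations holding in `B`) satisfying a given property `Q`, provided such presentations are
cofinal among all finite partial presentations.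
-/

set_option autoImplicit false
universe u

open CategoryTheory Limits MvPolynomial

namespace Groth.Agent.Lib.UHFPSysH52

variable (A : Type u) {B : Type u} [CommRing A] [CommRing B] [Algebra A B]

/-- Evaluation of polynomials in the variables `S ⊆ B`. -/
noncomputable def ev (S : Finset B) : MvPolynomial S A →ₐ[A] B :=
  MvPolynomial.aeval (fun s : S => (s : B))

/-- Inclusion of finite subsets. -/
def incl {S T : Finset B} (h : S ⊆ T) : S → T := fun s => ⟨s.1, h s.2⟩

/-- Renaming variables along an inclusion. -/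
noncomputable def ren {S T : Finset B} (h : S ⊆ T) : MvPolynomial S A →ₐ[A] MvPolynomial T A :=
  MvPolynomial.rename (incl h)

variable {A}

theorem ev_ren {S T : Finset B} (h : S ⊆ T) (f : MvPolynomial S A) :
    ev A T (ren A h f) = ev A S f := by
  unfold ev ren
  rw [aeval_rename]
  rfl

omit [CommRing B] [Algebra A B] in
theorem ren_refl {S : Finset B} (f : MvPolynomial S A) : ren A (Finset.Subset.refl S) f = f := by
  unfold ren
  have : incl (Finset.Subset.refl S) = id := rfl
  rw [this, rename_id]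
  rfl

omit [CommRing B] [Algebra A B] in
theorem ren_trans {S T U : Finset B} (h₁ : S ⊆ T) (h₂ : T ⊆ U) (f : MvPolynomial S A) :
    ren A (h₁.trans h₂) f = ren A h₂ (ren A h₁ f) := by
  unfold ren
  rw [rename_rename]
  rfl

omit [CommRing B] [Algebra A B] in
theorem ren_X {S T : Finset B} (h : S ⊆ T) (s : S) : ren A h (X s) = X (incl h s) :=
  rename_X _ _

variable (A) (B)

/-- Index type: finite partial presentations of `B` with property `Q`. -/
structure Idx (Q : ∀ (C : Type u) [CommRing C], (A →+* C) → Prop) where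
  S : Finset B
  I : Ideal (MvPolynomial S A)
  fg : I.FG
  le : I ≤ RingHom.ker (ev A S)
  good : Q (MvPolynomial S A ⧸ I) (algebraMap A (MvPolynomial S A ⧸ I))

variable {A B}
variable {Q : ∀ (C : Type u) [CommRing C], (A →+* C) → Prop}

instance : Preorder (Idx A B Q) where
  le i j := ∃ h : i.S ⊆ j.S, i.I ≤ j.I.comap (ren A h)
  le_refl i := ⟨Finset.Subset.refl _, fun f hf => by
    rw [Ideal.mem_comap, ren_refl]; exact hf⟩
  le_trans i j k := by
    rintro ⟨h₁, h₁'⟩ ⟨h₂, h₂'⟩
    refine ⟨h₁.trans h₂, fun f hf => ?_⟩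
    rw [Ideal.mem_comap, ren_trans h₁ h₂]
    exact h₂' (h₁' hf)

theorem le_def (i j : Idx A B Q) : i ≤ j ↔ ∃ h : i.S ⊆ j.S, i.I ≤ j.I.comap (ren A h) := Iff.rfl

/-- Cofinality of good presentations. -/
def Cofinal (Q : ∀ (C : Type u) [CommRing C], (A →+* C) → Prop) : Prop :=
  ∀ (S₀ : Finset B) (I₀ : Ideal (MvPolynomial S₀ A)), I₀.FG → I₀ ≤ RingHom.ker (ev A S₀) →
    ∃ (k : Idx A B Q) (h : S₀ ⊆ k.S), I₀ ≤ k.I.comap (ren A h)

/-- The ring attached to an index. -/
abbrev Cring (i : Idx A B Q) : Type u := MvPolynomial i.S A ⧸ i.I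

/-- Transition maps. -/
noncomputable def trans {i j : Idx A B Q} (h : i ≤ j) : Cring i →ₐ[A] Cring j :=
  Ideal.quotientMapₐ j.I (ren A h.choose) h.choose_spec

theorem trans_mk {i j : Idx A B Q} (h : i ≤ j) (h' : i.S ⊆ j.S) (f : MvPolynomial i.S A) :
    trans h (Ideal.Quotient.mk i.I f) = Ideal.Quotient.mk j.I (ren A h' f) := rfl

theorem trans_self {i : Idx A B Q} (h : i ≤ i) (x : Cring i) : trans h x = x := by
  obtain ⟨f, rfl⟩ := Ideal.Quotient.mk_surjective x
  rw [trans_mk h (Finset.Subset.refl _), ren_refl]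

theorem trans_trans {i j k : Idx A B Q} (h₁ : i ≤ j) (h₂ : j ≤ k) (h₃ : i ≤ k) (x : Cring i) :
    trans h₃ x = trans h₂ (trans h₁ x) := by
  obtain ⟨f, rfl⟩ := Ideal.Quotient.mk_surjective x
  obtain ⟨s₁, -⟩ := h₁
  obtain ⟨s₂, -⟩ := h₂
  rw [trans_mk _ (s₁.trans s₂), trans_mk _ s₁, trans_mk _ s₂, ren_trans s₁ s₂]

/-- Maps to `B`. -/
noncomputable def toB (i : Idx A B Q) : Cring i →ₐ[A] B :=
  Ideal.Quotient.liftₐ i.I (ev A i.S) (fun _ hf => i.le hf)

theorem toB_mk (i : Idx A B Q) (f : MvPolynomial i.S A) :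
    toB i (Ideal.Quotient.mk i.I f) = ev A i.S f := rfl

theorem toB_trans {i j : Idx A B Q} (h : i ≤ j) (x : Cring i) : toB j (trans h x) = toB i x := by
  obtain ⟨f, rfl⟩ := Ideal.Quotient.mk_surjective x
  obtain ⟨s, -⟩ := h
  rw [trans_mk _ s, toB_mk, toB_mk, ev_ren]

/-- The diagram. -/
noncomputable def diagram : Idx A B Q ⥤ Under (CommRingCat.of A) where
  obj i := Under.mk (CommRingCat.ofHom (algebraMap A (Cring i)))
  map {i j} f := Under.homMk (CommRingCat.ofHom (trans (leOfHom f)).toRingHom) (by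
    ext a
    exact (trans (leOfHom f)).commutes a)
  map_id i := by
    ext x
    exact trans_self (leOfHom (𝟙 i)) x
  map_comp {i j k} f g := by
    ext x
    exact trans_trans (leOfHom f) (leOfHom g) (leOfHom (f ≫ g)) x

/-- The cocone with vertex `B`. -/
noncomputable def cocone : Cocone (diagram (A := A) (B := B) (Q := Q)) where
  pt := Under.mk (CommRingCat.ofHom (algebraMap A B))
  ι :=
    { app := fun i => Under.homMk (CommRingCat.ofHom (toB i).toRingHom) (by
        ext a
        exact (toB i).commutes a)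
      naturality := fun i j f => by
        ext x
        exact toB_trans (leOfHom f) x }

theorem isDirected_of_cofinal (hQ : Cofinal (A := A) (B := B) Q) :
    IsDirectedOrder (Idx A B Q) := by
  classical
  constructor
  intro i j
  have hi : i.S ⊆ i.S ∪ j.S := Finset.subset_union_left
  have hj : j.S ⊆ i.S ∪ j.S := Finset.subset_union_right
  obtain ⟨k, h, hk⟩ := hQ (i.S ∪ j.S) (i.I.map (ren A hi) ⊔ j.I.map (ren A hj))
    (Submodule.FG.sup (Ideal.FG.map i.fg _) (Ideal.FG.map j.fg _)) (by
      rw [sup_le_iff, Ideal.map_le_iff_le_comap, Ideal.map_le_iff_le_comap]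
      refine ⟨fun f hf => ?_, fun f hf => ?_⟩
      · rw [Ideal.mem_comap, RingHom.mem_ker]
        exact (ev_ren hi f).trans (i.le hf)
      · rw [Ideal.mem_comap, RingHom.mem_ker]
        exact (ev_ren hj f).trans (j.le hf))
  refine ⟨k, ⟨hi.trans h, fun f hf => ?_⟩, ⟨hj.trans h, fun f hf => ?_⟩⟩
  · rw [Ideal.mem_comap, ren_trans hi h]
    exact hk (Ideal.mem_sup_left (Ideal.mem_map_of_mem _ hf))
  · rw [Ideal.mem_comap, ren_trans hj h]
    exact hk (Ideal.mem_sup_right (Ideal.mem_map_of_mem _ hf))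

theorem nonempty_of_cofinal (hQ : Cofinal (A := A) (B := B) Q) : Nonempty (Idx A B Q) := by
  obtain ⟨k, -, -⟩ := hQ ∅ ⊥ Submodule.fg_bot bot_le
  exact ⟨k⟩

theorem exists_isColimit (hQ : Cofinal (A := A) (B := B) Q) :
    ∃ (_ : IsFiltered (Idx A B Q)), Nonempty (IsColimit (cocone (A := A) (B := B) (Q := Q))) := by
  classical
  have h1 := isDirected_of_cofinal hQ
  have h2 := nonempty_of_cofinal hQ
  have hF : IsFiltered (Idx A B Q) := inferInstance
  refine ⟨hF, ?_⟩
  apply Groth.Agent.Lib.H15IndZariski.isColimit_under_of_elementwise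
  · intro b
    have hb : b ∈ ({b} : Finset B) := Finset.mem_singleton_self b
    obtain ⟨k, h, -⟩ := hQ {b} ⊥ Submodule.fg_bot bot_le
    refine ⟨k, Ideal.Quotient.mk k.I (X ⟨b, h hb⟩), ?_⟩
    change toB k (Ideal.Quotient.mk k.I (X ⟨b, h hb⟩)) = b
    rw [toB_mk]
    unfold ev
    rw [aeval_X]
  · intro i x y hxy
    obtain ⟨f, rfl⟩ := Ideal.Quotient.mk_surjective x
    obtain ⟨g, rfl⟩ := Ideal.Quotient.mk_surjective y
    have hfg : ev A i.S (f - g) = 0 := by
      have h3 : toB i (Ideal.Quotient.mk i.I f) = toB i (Ideal.Quotient.mk i.I g) := hxy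
      rw [toB_mk, toB_mk] at h3
      rw [map_sub, h3, sub_self]
    obtain ⟨k, h, hk⟩ := hQ i.S (i.I ⊔ Ideal.span {f - g})
      (Submodule.FG.sup i.fg ⟨{f - g}, by simp⟩) (by
        rw [sup_le_iff, Ideal.span_le]
        refine ⟨i.le, ?_⟩
        intro z hz
        rw [Set.mem_singleton_iff] at hz
        rw [hz]
        exact hfg)
    have hik : i ≤ k := ⟨h, fun p hp => hk (Ideal.mem_sup_left hp)⟩
    refine ⟨k, homOfLE hik, ?_⟩
    change trans hik (Ideal.Quotient.mk i.I f) = trans hik (Ideal.Quotient.mk i.I g)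
    rw [trans_mk _ h, trans_mk _ h, Ideal.Quotient.eq, ← map_sub]
    have := hk (Ideal.mem_sup_right (Ideal.subset_span (Set.mem_singleton (f - g))))
    exact this

theorem finitePresentation (i : Idx A B Q) :
    (algebraMap A (Cring i)).FinitePresentation := by
  have : Algebra.FinitePresentation A (MvPolynomial i.S A ⧸ i.I) :=
    Algebra.FinitePresentation.quotient i.fg
  exact RingHom.finitePresentation_algebraMap.mpr this

end Groth.Agent.Lib.UHFPSysH52
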