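import Mathlib
import Groth.Agent.Lib.UHFPSysH52

/-!
# Finite presentation via retracts and preservation of directed colimits (helper62)

* `finitePresentation_of_retract`: a retract (as an algebra) of a finitely presented algebra is
  finitely presented.
* `exists_retract_of_preservesColimit`: if `Hom_A(B, -)` preserves the colimit of the canonical
  directed system of finitely presented algebras with colimit `B`, then `B` is a retract of one of
  them.
-/

set_option autoImplicit false
universe u

open CategoryTheory Limits

namespace Groth.Agent.Lib.FPRetract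

/-- A retract of a finitely presented algebra is finitely presented. -/
theorem finitePresentation_of_retract {R C B : Type u} [CommRing R] [CommRing C] [CommRing B]
    [Algebra R C] [Algebra R B] [Algebra.FinitePresentation R C] (π : C →ₐ[R] B) (s : B →ₐ[R] C)
    (h : ∀ b, π (s b) = b) : Algebra.FinitePresentation R B := by
  classical
  have hsurj : Function.Surjective π := fun b => ⟨s b, h b⟩
  obtain ⟨G, hG⟩ := (inferInstance : Algebra.FiniteType R C).out
  refine Algebra.FinitePresentation.of_surjective (f := π) hsurj ?_
  let K : Ideal C := Ideal.span ((fun x => x - s (π x)) '' (G : Set C))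
  have hK : ∀ y : C, y - s (π y) ∈ K := by
    intro y
    have hy : y ∈ Algebra.adjoin R (G : Set C) := by rw [hG]; trivial
    induction hy using Algebra.adjoin_induction with
    | mem x hx => exact Ideal.subset_span ⟨x, hx, rfl⟩
    | algebraMap r =>
      rw [AlgHom.commutes, AlgHom.commutes, sub_self]
      exact K.zero_mem
    | add x y _ _ hx hy =>
      have : x + y - s (π (x + y)) = (x - s (π x)) + (y - s (π y)) := by
        rw [map_add, map_add]; ring
      rw [this]
      exact K.add_mem hx hy
    | mul x y _ _ hx hy =>
      have : x * y - s (π (x * y)) = x * (y - s (π y)) + s (π y) * (x - s (π x)) := by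
        rw [map_mul, map_mul]; ring
      rw [this]
      exact K.add_mem (K.mul_mem_left _ hy) (K.mul_mem_left _ hx)
  have hker : RingHom.ker π.toRingHom = K := by
    apply le_antisymm
    · intro y hy
      have hy0 : π y = 0 := hy
      have := hK y
      rwa [hy0, map_zero, sub_zero] at this
    · rw [Ideal.span_le]
      rintro _ ⟨x, -, rfl⟩
      change π (x - s (π x)) = 0
      rw [map_sub, h, sub_self]
  rw [hker]
  exact ⟨G.image (fun x => x - s (π x)), by rw [Finset.coe_image]⟩

open Groth.Agent.Lib.UHFPSysH52

/-- The trivial property. -/
abbrev QTriv (A : Type u) [CommRing A] : ∀ (C : Type u) [CommRing C], (A →+* C) → Prop :=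
  fun _ _ _ => True

theorem cofinal_QTriv (A B : Type u) [CommRing A] [CommRing B] [Algebra A B] :
    Cofinal (A := A) (B := B) (QTriv A) := by
  intro S₀ I₀ hfg hle
  refine ⟨⟨S₀, I₀, hfg, hle, trivial⟩, Finset.Subset.refl _, fun p hp => ?_⟩
  rw [Ideal.mem_comap, ren_refl]
  exact hp

/-- If `Hom_A(B, -)` preserves directed colimits then `B` is finitely presented over `A`. -/
theorem finitePresentation_of_preservesColimit {A B : CommRingCat.{u}} (f : A ⟶ B)
    (h : ∀ (J : Type u) [Preorder J] [IsDirected J (· ≤ ·)] [Nonempty J] (F : J ⥤ Under A),
      Limits.PreservesColimit F (coyoneda.obj (Opposite.op (Under.mk f)))) :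
    f.hom.FinitePresentation := by
  let _ : Algebra A B := f.hom.toAlgebra
  have hQ := cofinal_QTriv A B
  obtain ⟨hF, ⟨hcolim⟩⟩ := exists_isColimit hQ
  have := isDirected_of_cofinal hQ
  have := nonempty_of_cofinal hQ
  have := h (Idx A B (QTriv A)) (diagram (A := A) (B := B) (Q := QTriv A))
  have hcol2 := isColimitOfPreserves (coyoneda.obj (Opposite.op (Under.mk f))) hcolim
  obtain ⟨i, g, hg⟩ := Types.jointly_surjective_of_isColimit hcol2 (𝟙 (Under.mk f))
  have hw : ∀ a : A, g.right.hom (f.hom a) = algebraMap A (Cring i) a := by
    intro a
    have := Under.w g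
    exact congr($this a)
  let s : B →ₐ[A] Cring i := { g.right.hom with commutes' := hw }
  have hsec : ∀ b : B, toB i (s b) = b := by
    intro b
    have h1 : g ≫ (cocone (A := A) (B := B) (Q := QTriv A)).ι.app i = 𝟙 (Under.mk f) := hg
    have h2 := congrArg (fun m => m.right) h1
    exact congr($h2 b)
  have : Algebra.FinitePresentation A (Cring i) := Algebra.FinitePresentation.quotient i.fg
  exact finitePresentation_of_retract (toB i) s hsec

end Groth.Agent.Lib.FPRetract
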