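import Mathlib.LinearAlgebra.Trace
import Mathlib.LinearAlgebra.FiniteDimensional.Basic
import Mathlib.Algebra.Group.Semiconj.Basic

/-!
# Traces of finite-potent endomorphisms (helper58)

Tate's trace for finite-potent endomorphisms of a (possibly infinite-dimensional) vector space:
`θ` is finite-potent if some power `θ ^ n` has image in a finite-dimensional `θ`-stable subspace `W`
(a *witness*); its trace `fpTr θ` is the trace of `θ` on any witness.

Main results: `IsWit.fpTr_eq` (independence of the witness), `fpTr_eq_zero_of_pow_eq_zero`,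
`fpTr_add_of_isWit`, `fpTr_mul_comm`.
-/

set_option autoImplicit false

namespace Groth.Agent.Lib.FPTr58

open LinearMap

variable {k : Type*} [Field k] {V : Type*} [AddCommGroup V] [Module k V]

open Classical in
/-- Trace of `θ` on the subspace `W` (zero if `W` is not `θ`-stable). -/
noncomputable def trOn (θ : V →ₗ[k] V) (W : Submodule k V) : k :=
  if h : ∀ x ∈ W, θ x ∈ W then LinearMap.trace k W (θ.restrict h) else 0

theorem trOn_eq (θ : V →ₗ[k] V) (W : Submodule k V) (h : ∀ x ∈ W, θ x ∈ W) :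
    trOn θ W = LinearMap.trace k W (θ.restrict h) := by
  unfold trOn
  rw [dif_pos h]

/-- One step: if `θ` maps `W'` into `W ≤ W'`, the traces on `W` and `W'` agree. -/
theorem trOn_eq_of_maps (θ : V →ₗ[k] V) {W W' : Submodule k V} (hle : W ≤ W')
    [Module.Finite k W'] (h : ∀ x ∈ W', θ x ∈ W) : trOn θ W = trOn θ W' := by
  have hfin : Module.Finite k W := Submodule.finiteDimensional_of_le hle
  have hW : ∀ x ∈ W, θ x ∈ W := fun x hx => h x (hle hx)
  have hW' : ∀ x ∈ W', θ x ∈ W' := fun x hx => hle (h x hx)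
  rw [trOn_eq θ W hW, trOn_eq θ W' hW']
  let r : W' →ₗ[k] W := θ.restrict h
  let ι : W →ₗ[k] W' := Submodule.inclusion hle
  have h1 : θ.restrict hW = r ∘ₗ ι := by
    ext x
    rfl
  have h2 : θ.restrict hW' = ι ∘ₗ r := by
    ext x
    rfl
  rw [h1, h2, LinearMap.trace_comp_comm']

/-- If `W ≤ W'` are `θ`-stable, `W'` is finite-dimensional and `θ ^ n` maps `W'` into `W`, then the
traces on `W` and `W'` agree. -/
theorem trOn_eq_of_pow_maps (θ : V →ₗ[k] V) {W : Submodule k V} (hW : ∀ x ∈ W, θ x ∈ W) (n : ℕ) :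
    ∀ (W' : Submodule k V), W ≤ W' → Module.Finite k W' → (∀ x ∈ W', θ x ∈ W') →
      (∀ x ∈ W', (θ ^ n) x ∈ W) → trOn θ W = trOn θ W' := by
  induction n with
  | zero =>
    intro W' hle _ _ h0
    have : W = W' := le_antisymm hle (fun x hx => by simpa using h0 x hx)
    rw [this]
  | succ n ih =>
    intro W' hle hfin hW' hn
    set W'' : Submodule k V := W ⊔ W'.map θ with hW''
    have h1 : W ≤ W'' := le_sup_left
    have hmap : W'.map θ ≤ W' := by
      rintro _ ⟨y, hy, rfl⟩
      exact hW' y hy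
    have h2 : W'' ≤ W' := sup_le hle hmap
    have h3 : ∀ x ∈ W', θ x ∈ W'' := fun x hx =>
      (le_sup_right : W'.map θ ≤ W'') (Submodule.mem_map_of_mem hx)
    have hfin'' : Module.Finite k W'' := Submodule.finiteDimensional_of_le h2
    have e1 : trOn θ W'' = trOn θ W' := trOn_eq_of_maps θ h2 h3
    have hstab'' : ∀ x ∈ W'', θ x ∈ W'' := fun x hx => h3 x (h2 hx)
    have hn'' : ∀ x ∈ W'', (θ ^ n) x ∈ W := by
      intro x hx
      obtain ⟨w, hw, z, hz, rfl⟩ := Submodule.mem_sup.mp hx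
      obtain ⟨y, hy, rfl⟩ := hz
      rw [map_add]
      refine W.add_mem ?_ ?_
      · clear hn ih
        induction n with
        | zero => simpa using hw
        | succ m ihm =>
          rw [pow_succ', Module.End.mul_apply]
          exact hW _ ihm
      · have := hn y hy
        rwa [pow_succ, Module.End.mul_apply] at this
    rw [ih W'' h1 hfin'' hstab'' hn'', e1]

/-- `W` is a witness for the finite-potency of `θ`. -/
structure IsWit (θ : V →ₗ[k] V) (W : Submodule k V) : Prop where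
  fin : Module.Finite k W
  stable : ∀ x ∈ W, θ x ∈ W
  pot : ∃ n : ℕ, ∀ x, (θ ^ n) x ∈ W

theorem IsWit.trOn_eq_trOn {θ : V →ₗ[k] V} {W W' : Submodule k V} (h : IsWit θ W)
    (h' : IsWit θ W') : trOn θ W = trOn θ W' := by
  have hfin := h.fin
  have hfin' := h'.fin
  have hsup : Module.Finite k (W ⊔ W' : Submodule k V) := inferInstance
  have hst : ∀ x ∈ W ⊔ W', θ x ∈ W ⊔ W' := by
    intro x hx
    obtain ⟨w, hw, w', hw', rfl⟩ := Submodule.mem_sup.mp hx
    rw [map_add]
    exact Submodule.add_mem _ (Submodule.mem_sup_left (h.stable w hw))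
      (Submodule.mem_sup_right (h'.stable w' hw'))
  obtain ⟨n, hn⟩ := h.pot
  obtain ⟨n', hn'⟩ := h'.pot
  rw [trOn_eq_of_pow_maps θ h.stable n (W ⊔ W') le_sup_left hsup hst (fun x _ => hn x),
    trOn_eq_of_pow_maps θ h'.stable n' (W ⊔ W') le_sup_right hsup hst (fun x _ => hn' x)]

/-- `θ` is finite-potent. -/
def FinPot (θ : V →ₗ[k] V) : Prop := ∃ W, IsWit θ W

open Classical in
/-- The trace of a finite-potent endomorphism (zero if `θ` is not finite-potent). -/
noncomputable def fpTr (θ : V →ₗ[k] V) : k :=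
  if h : FinPot θ then trOn θ h.choose else 0

theorem IsWit.fpTr_eq {θ : V →ₗ[k] V} {W : Submodule k V} (h : IsWit θ W) :
    fpTr θ = trOn θ W := by
  have hfp : FinPot θ := ⟨W, h⟩
  unfold fpTr
  rw [dif_pos hfp]
  exact hfp.choose_spec.trOn_eq_trOn h

theorem isWit_bot_of_pow_eq_zero {θ : V →ₗ[k] V} {n : ℕ} (h : θ ^ n = 0) :
    IsWit θ (⊥ : Submodule k V) := by
  refine ⟨inferInstance, ?_, n, ?_⟩
  · intro x hx
    rw [(Submodule.mem_bot k).mp hx, map_zero]
    exact Submodule.zero_mem _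
  · intro x
    rw [h]
    exact Submodule.zero_mem _

theorem fpTr_eq_zero_of_pow_eq_zero {θ : V →ₗ[k] V} {n : ℕ} (h : θ ^ n = 0) : fpTr θ = 0 := by
  have hw := isWit_bot_of_pow_eq_zero h
  rw [hw.fpTr_eq, trOn_eq θ ⊥ hw.stable]
  have : θ.restrict hw.stable = 0 := by
    apply LinearMap.ext
    intro x
    exact Subsingleton.elim _ _
  rw [this, map_zero]

theorem fpTr_add_of_isWit {θ₁ θ₂ : V →ₗ[k] V} {W : Submodule k V} (h1 : IsWit θ₁ W)
    (h2 : IsWit θ₂ W) (h12 : IsWit (θ₁ + θ₂) W) : fpTr (θ₁ + θ₂) = fpTr θ₁ + fpTr θ₂ := by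
  have := h1.fin
  rw [h1.fpTr_eq, h2.fpTr_eq, h12.fpTr_eq, trOn_eq _ W h1.stable, trOn_eq _ W h2.stable,
    trOn_eq _ W h12.stable, ← map_add]
  congr 1

theorem IsWit.neg {θ : V →ₗ[k] V} {W : Submodule k V} (h : IsWit θ W) : IsWit (-θ) W := by
  refine ⟨h.fin, fun x hx => ?_, ?_⟩
  · rw [LinearMap.neg_apply]
    exact W.neg_mem (h.stable x hx)
  · obtain ⟨n, hn⟩ := h.pot
    refine ⟨n, fun x => ?_⟩
    rw [neg_pow]
    rcases neg_one_pow_eq_or (Module.End k V) n with h1 | h1
    · rw [h1, one_mul]; exact hn x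
    · rw [h1, neg_one_mul, LinearMap.neg_apply]; exact W.neg_mem (hn x)

theorem fpTr_neg {θ : V →ₗ[k] V} (h : FinPot θ) : fpTr (-θ) = -fpTr θ := by
  obtain ⟨W, hW⟩ := h
  have := hW.fin
  rw [hW.fpTr_eq, hW.neg.fpTr_eq, trOn_eq _ W hW.stable, trOn_eq _ W hW.neg.stable, ← map_neg]
  congr 1

/-- Semiconjugation of powers: `(β α)^n β = β (α β)^n`. -/
theorem pow_mul_apply (α β : V →ₗ[k] V) (n : ℕ) (x : V) :
    ((β * α) ^ n) (β x) = β (((α * β) ^ n) x) := by
  induction n generalizing x with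
  | zero => simp
  | succ n ih =>
    rw [pow_succ, Module.End.mul_apply, pow_succ, Module.End.mul_apply, Module.End.mul_apply,
      Module.End.mul_apply, ih]

/-- Cyclicity: a witness `W` for `α β` gives the witness `β W` for `β α`, with the same trace. -/
theorem IsWit.map_mul {α β : V →ₗ[k] V} {W : Submodule k V} (h : IsWit (α * β) W) :
    IsWit (β * α) (W.map β) := by
  have := h.fin
  refine ⟨inferInstance, ?_, ?_⟩
  · rintro _ ⟨w, hw, rfl⟩
    rw [Module.End.mul_apply]
    exact Submodule.mem_map_of_mem (h.stable w hw)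
  · obtain ⟨n, hn⟩ := h.pot
    refine ⟨n + 1, fun x => ?_⟩
    rw [pow_succ, Module.End.mul_apply, Module.End.mul_apply, pow_mul_apply]
    exact Submodule.mem_map_of_mem (hn _)

theorem fpTr_mul_comm {α β : V →ₗ[k] V} (h : FinPot (α * β)) : fpTr (α * β) = fpTr (β * α) := by
  obtain ⟨W, hW⟩ := h
  have hW' := hW.map_mul
  have := hW.fin
  have := hW'.fin
  rw [hW.fpTr_eq, hW'.fpTr_eq, trOn_eq _ W hW.stable, trOn_eq _ _ hW'.stable]
  have hb : ∀ x ∈ W, β x ∈ W.map β := fun x hx => Submodule.mem_map_of_mem hx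
  have ha : ∀ y ∈ W.map β, α y ∈ W := by
    rintro _ ⟨w, hw, rfl⟩
    exact hW.stable w hw
  have h1 : (α * β).restrict hW.stable = (α.restrict ha) ∘ₗ (β.restrict hb) := by
    ext x
    rfl
  have h2 : (β * α).restrict hW'.stable = (β.restrict hb) ∘ₗ (α.restrict ha) := by
    ext x
    rfl
  rw [h1, h2, LinearMap.trace_comp_comm']

theorem FinPot.mul_comm {α β : V →ₗ[k] V} (h : FinPot (α * β)) : FinPot (β * α) := by
  obtain ⟨W, hW⟩ := h
  exact ⟨_, hW.map_mul⟩

end Groth.Agent.Lib.FPTr58
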