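import Groth.Agent.Lib.FPTr58a
import Mathlib.LinearAlgebra.Projection
import Mathlib.RingTheory.Finiteness.Basic
import Mathlib.LinearAlgebra.FiniteDimensional.Lemmas

/-!
# Tate's abstract residue: independence of the projection and vanishing (helper58)

For a subspace `A` of `V`: `InE A f` (`f A ⊆ A + finite`), `InE1 A θ` (`θ V ⊆ A + finite`),
`InE2 A θ` (`θ A` finite-dimensional), `InE0 = InE1 ∧ InE2`.  The trace `fpTr` is additive on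
`InE0 A`; for commuting `f, g ∈ E` and quasi-projections `π` onto `A`, `fpTr [π f, g]` does not
depend on `π` (`fpTr_comm_indep`), and vanishes when there is an `f,g`-stable subspace `B` with
`A ∩ B` and `V / (A + B)` finite-dimensional (`fpTr_comm_eq_zero`).
-/

set_option autoImplicit false

namespace Groth.Agent.Lib.FPTr58

open LinearMap

variable {k : Type*} [Field k] {V : Type*} [AddCommGroup V] [Module k V]

def InE (A : Submodule k V) (f : V →ₗ[k] V) : Prop :=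
  ∃ W : Submodule k V, Module.Finite k W ∧ A.map f ≤ A ⊔ W

def InE1 (A : Submodule k V) (θ : V →ₗ[k] V) : Prop :=
  ∃ W : Submodule k V, Module.Finite k W ∧ LinearMap.range θ ≤ A ⊔ W

def InE2 (A : Submodule k V) (θ : V →ₗ[k] V) : Prop :=
  ∃ W : Submodule k V, Module.Finite k W ∧ A.map θ ≤ W

def InE0 (A : Submodule k V) (θ : V →ₗ[k] V) : Prop := InE1 A θ ∧ InE2 A θ

variable {A : Submodule k V}

theorem InE1.add {θ₁ θ₂ : V →ₗ[k] V} (h1 : InE1 A θ₁) (h2 : InE1 A θ₂) : InE1 A (θ₁ + θ₂) := by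
  obtain ⟨W1, hf1, hW1⟩ := h1
  obtain ⟨W2, hf2, hW2⟩ := h2
  refine ⟨W1 ⊔ W2, inferInstance, ?_⟩
  rintro _ ⟨x, rfl⟩
  rw [LinearMap.add_apply]
  have e1 : θ₁ x ∈ A ⊔ (W1 ⊔ W2) :=
    (sup_le_sup_left le_sup_left A : A ⊔ W1 ≤ A ⊔ (W1 ⊔ W2)) (hW1 ⟨x, rfl⟩)
  have e2 : θ₂ x ∈ A ⊔ (W1 ⊔ W2) :=
    (sup_le_sup_left le_sup_right A : A ⊔ W2 ≤ A ⊔ (W1 ⊔ W2)) (hW2 ⟨x, rfl⟩)
  exact Submodule.add_mem _ e1 e2

theorem InE1.neg {θ : V →ₗ[k] V} (h : InE1 A θ) : InE1 A (-θ) := by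
  obtain ⟨W, hf, hW⟩ := h
  refine ⟨W, hf, ?_⟩
  rintro _ ⟨x, rfl⟩
  rw [LinearMap.neg_apply]
  exact Submodule.neg_mem _ (hW ⟨x, rfl⟩)

theorem InE2.add {θ₁ θ₂ : V →ₗ[k] V} (h1 : InE2 A θ₁) (h2 : InE2 A θ₂) : InE2 A (θ₁ + θ₂) := by
  obtain ⟨W1, hf1, hW1⟩ := h1
  obtain ⟨W2, hf2, hW2⟩ := h2
  refine ⟨W1 ⊔ W2, inferInstance, ?_⟩
  rintro _ ⟨x, hx, rfl⟩
  rw [LinearMap.add_apply]
  exact Submodule.add_mem _ (Submodule.mem_sup_left (hW1 (Submodule.mem_map_of_mem hx)))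
    (Submodule.mem_sup_right (hW2 (Submodule.mem_map_of_mem hx)))

theorem InE2.neg {θ : V →ₗ[k] V} (h : InE2 A θ) : InE2 A (-θ) := by
  obtain ⟨W, hf, hW⟩ := h
  refine ⟨W, hf, ?_⟩
  rintro _ ⟨x, hx, rfl⟩
  rw [LinearMap.neg_apply]
  exact Submodule.neg_mem _ (hW (Submodule.mem_map_of_mem hx))

theorem InE0.add {θ₁ θ₂ : V →ₗ[k] V} (h1 : InE0 A θ₁) (h2 : InE0 A θ₂) : InE0 A (θ₁ + θ₂) :=
  ⟨h1.1.add h2.1, h1.2.add h2.2⟩

theorem InE0.neg {θ : V →ₗ[k] V} (h : InE0 A θ) : InE0 A (-θ) := ⟨h.1.neg, h.2.neg⟩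

theorem InE0.sub {θ₁ θ₂ : V →ₗ[k] V} (h1 : InE0 A θ₁) (h2 : InE0 A θ₂) : InE0 A (θ₁ - θ₂) := by
  rw [sub_eq_add_neg]
  exact h1.add h2.neg

theorem InE1.mul_right {θ : V →ₗ[k] V} (h : InE1 A θ) (φ : V →ₗ[k] V) : InE1 A (θ * φ) := by
  obtain ⟨W, hf, hW⟩ := h
  refine ⟨W, hf, ?_⟩
  rintro _ ⟨x, rfl⟩
  exact hW ⟨φ x, rfl⟩

theorem InE1.mul_left {θ : V →ₗ[k] V} (h : InE1 A θ) {φ : V →ₗ[k] V} (hφ : InE A φ) :
    InE1 A (φ * θ) := by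
  obtain ⟨W, hf, hW⟩ := h
  obtain ⟨Wφ, hfφ, hWφ⟩ := hφ
  refine ⟨Wφ ⊔ W.map φ, inferInstance, ?_⟩
  rintro _ ⟨x, rfl⟩
  rw [Module.End.mul_apply]
  obtain ⟨a, ha, w, hw, hxw⟩ := Submodule.mem_sup.mp (hW ⟨x, rfl⟩)
  rw [← hxw, map_add]
  have e1 : φ a ∈ A ⊔ (Wφ ⊔ W.map φ) :=
    (sup_le_sup_left le_sup_left A : A ⊔ Wφ ≤ _) (hWφ (Submodule.mem_map_of_mem ha))
  have e2 : φ w ∈ A ⊔ (Wφ ⊔ W.map φ) :=
    Submodule.mem_sup_right (Submodule.mem_sup_right (Submodule.mem_map_of_mem hw))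
  exact Submodule.add_mem _ e1 e2

theorem InE2.mul_left {θ : V →ₗ[k] V} (h : InE2 A θ) (φ : V →ₗ[k] V) : InE2 A (φ * θ) := by
  obtain ⟨W, hf, hW⟩ := h
  refine ⟨W.map φ, inferInstance, ?_⟩
  rintro _ ⟨x, hx, rfl⟩
  rw [Module.End.mul_apply]
  exact Submodule.mem_map_of_mem (hW (Submodule.mem_map_of_mem hx))

theorem InE2.mul_right {θ : V →ₗ[k] V} (h : InE2 A θ) {φ : V →ₗ[k] V} (hφ : InE A φ) :
    InE2 A (θ * φ) := by
  obtain ⟨W, hf, hW⟩ := h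
  obtain ⟨Wφ, hfφ, hWφ⟩ := hφ
  refine ⟨W ⊔ Wφ.map θ, inferInstance, ?_⟩
  rintro _ ⟨x, hx, rfl⟩
  rw [Module.End.mul_apply]
  obtain ⟨a, ha, w, hw, hxw⟩ := Submodule.mem_sup.mp (hWφ (Submodule.mem_map_of_mem hx))
  rw [← hxw, map_add]
  exact Submodule.add_mem _ (Submodule.mem_sup_left (hW (Submodule.mem_map_of_mem ha)))
    (Submodule.mem_sup_right (Submodule.mem_map_of_mem hw))

theorem InE0.mul_right {θ : V →ₗ[k] V} (h : InE0 A θ) {φ : V →ₗ[k] V} (hφ : InE A φ) :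
    InE0 A (θ * φ) := ⟨h.1.mul_right φ, h.2.mul_right hφ⟩

theorem InE0.mul_left {θ : V →ₗ[k] V} (h : InE0 A θ) {φ : V →ₗ[k] V} (hφ : InE A φ) :
    InE0 A (φ * θ) := ⟨h.1.mul_left hφ, h.2.mul_left φ⟩

/-- The product of two elements of `E₀` has finite rank. -/
theorem InE0.range_mul_le {θ₁ θ₂ : V →ₗ[k] V} (h1 : InE0 A θ₁) (h2 : InE0 A θ₂) :
    ∃ U : Submodule k V, Module.Finite k U ∧ LinearMap.range (θ₁ * θ₂) ≤ U := by
  obtain ⟨W2, hf2, hW2⟩ := h2.1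
  obtain ⟨W1, hf1, hW1⟩ := h1.2
  refine ⟨W1 ⊔ W2.map θ₁, inferInstance, ?_⟩
  rintro _ ⟨x, rfl⟩
  rw [Module.End.mul_apply]
  obtain ⟨a, ha, w, hw, hxw⟩ := Submodule.mem_sup.mp (hW2 ⟨x, rfl⟩)
  rw [← hxw, map_add]
  exact Submodule.add_mem _ (Submodule.mem_sup_left (hW1 (Submodule.mem_map_of_mem ha)))
    (Submodule.mem_sup_right (Submodule.mem_map_of_mem hw))

/-- Two elements of `E₀` have a common witness, also a witness for their sum. -/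
theorem InE0.exists_common_wit {θ₁ θ₂ : V →ₗ[k] V} (h1 : InE0 A θ₁) (h2 : InE0 A θ₂) :
    ∃ W : Submodule k V, IsWit θ₁ W ∧ IsWit θ₂ W ∧ IsWit (θ₁ + θ₂) W := by
  obtain ⟨U11, hf11, hU11⟩ := h1.range_mul_le h1
  obtain ⟨U12, hf12, hU12⟩ := h1.range_mul_le h2
  obtain ⟨U21, hf21, hU21⟩ := h2.range_mul_le h1
  obtain ⟨U22, hf22, hU22⟩ := h2.range_mul_le h2
  set W : Submodule k V := LinearMap.range (θ₁ * θ₁) ⊔ LinearMap.range (θ₁ * θ₂) ⊔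
    LinearMap.range (θ₂ * θ₁) ⊔ LinearMap.range (θ₂ * θ₂) with hW
  have hle : W ≤ U11 ⊔ U12 ⊔ U21 ⊔ U22 :=
    sup_le_sup (sup_le_sup (sup_le_sup hU11 hU12) hU21) hU22
  have hfin : Module.Finite k W := Submodule.finiteDimensional_of_le hle
  have m11 : ∀ x, θ₁ (θ₁ x) ∈ W := fun x =>
    Submodule.mem_sup_left (Submodule.mem_sup_left (Submodule.mem_sup_left ⟨x, rfl⟩))
  have m12 : ∀ x, θ₁ (θ₂ x) ∈ W := fun x =>
    Submodule.mem_sup_left (Submodule.mem_sup_left (Submodule.mem_sup_right ⟨x, rfl⟩))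
  have m21 : ∀ x, θ₂ (θ₁ x) ∈ W := fun x =>
    Submodule.mem_sup_left (Submodule.mem_sup_right ⟨x, rfl⟩)
  have m22 : ∀ x, θ₂ (θ₂ x) ∈ W := fun x => Submodule.mem_sup_right ⟨x, rfl⟩
  have st1 : ∀ x ∈ W, θ₁ x ∈ W := by
    intro x hx
    obtain ⟨y, hy, z4, ⟨x4, rfl⟩, rfl⟩ := Submodule.mem_sup.mp hx
    obtain ⟨y', hy', z3, ⟨x3, rfl⟩, rfl⟩ := Submodule.mem_sup.mp hy
    obtain ⟨z1, ⟨x1, rfl⟩, z2, ⟨x2, rfl⟩, rfl⟩ := Submodule.mem_sup.mp hy'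
    simp only [map_add, Module.End.mul_apply]
    exact W.add_mem (W.add_mem (W.add_mem (m11 _) (m11 _)) (m12 _)) (m12 _)
  have st2 : ∀ x ∈ W, θ₂ x ∈ W := by
    intro x hx
    obtain ⟨y, hy, z4, ⟨x4, rfl⟩, rfl⟩ := Submodule.mem_sup.mp hx
    obtain ⟨y', hy', z3, ⟨x3, rfl⟩, rfl⟩ := Submodule.mem_sup.mp hy
    obtain ⟨z1, ⟨x1, rfl⟩, z2, ⟨x2, rfl⟩, rfl⟩ := Submodule.mem_sup.mp hy'
    simp only [map_add, Module.End.mul_apply]
    exact W.add_mem (W.add_mem (W.add_mem (m21 _) (m21 _)) (m22 _)) (m22 _)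
  refine ⟨W, ⟨hfin, st1, 2, fun x => ?_⟩, ⟨hfin, st2, 2, fun x => ?_⟩, ⟨hfin, ?_, 2, fun x => ?_⟩⟩
  · rw [pow_two, Module.End.mul_apply]; exact m11 x
  · rw [pow_two, Module.End.mul_apply]; exact m22 x
  · intro x hx
    rw [LinearMap.add_apply]
    exact W.add_mem (st1 x hx) (st2 x hx)
  · rw [pow_two, Module.End.mul_apply]
    simp only [LinearMap.add_apply, map_add]
    exact W.add_mem (W.add_mem (m11 x) (m21 x)) (W.add_mem (m12 x) (m22 x))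

theorem InE0.finPot {θ : V →ₗ[k] V} (h : InE0 A θ) : FinPot θ := by
  obtain ⟨W, hW, -, -⟩ := h.exists_common_wit h
  exact ⟨W, hW⟩

theorem fpTr_add_of_E0 {θ₁ θ₂ : V →ₗ[k] V} (h1 : InE0 A θ₁) (h2 : InE0 A θ₂) :
    fpTr (θ₁ + θ₂) = fpTr θ₁ + fpTr θ₂ := by
  obtain ⟨W, hW1, hW2, hW12⟩ := h1.exists_common_wit h2
  exact fpTr_add_of_isWit hW1 hW2 hW12

theorem fpTr_sub_of_E0 {θ₁ θ₂ : V →ₗ[k] V} (h1 : InE0 A θ₁) (h2 : InE0 A θ₂) :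
    fpTr (θ₁ - θ₂) = fpTr θ₁ - fpTr θ₂ := by
  rw [sub_eq_add_neg, fpTr_add_of_E0 h1 h2.neg, fpTr_neg h2.finPot, sub_eq_add_neg]

/-- `fpTr [δ f, g] = 0` for `δ ∈ E₀` and `f, g ∈ E`. -/
theorem fpTr_comm_E0 {δ f g : V →ₗ[k] V} (hδ : InE0 A δ) (hf : InE A f) (hg : InE A g) :
    fpTr (δ * f * g - g * (δ * f)) = 0 := by
  have h1 : InE0 A (δ * f * g) := (hδ.mul_right hf).mul_right hg
  have h2 : InE0 A (g * (δ * f)) := (hδ.mul_right hf).mul_left hg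
  rw [fpTr_sub_of_E0 h1 h2, fpTr_mul_comm h1.finPot, sub_self]

/-- For commuting `f, g ∈ E` and a quasi-projection `π` onto `A`, `[π f, g] ∈ E₀`. -/
theorem inE0_comm {π f g : V →ₗ[k] V} (hπ1 : InE1 A π) (hπ2 : InE2 A (1 - π))
    (hf : InE A f) (hg : InE A g) (hfg : f * g = g * f) :
    InE0 A (π * f * g - g * (π * f)) := by
  constructor
  · have e1 : InE1 A (π * f * g) := by
      rw [mul_assoc]; exact hπ1.mul_right _
    have e2 : InE1 A (g * (π * f)) := (hπ1.mul_right f).mul_left hg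
    rw [sub_eq_add_neg]
    exact e1.add e2.neg
  · have e : π * f * g - g * (π * f) = g * ((1 - π) * f) - (1 - π) * f * g := by
      simp only [sub_mul, mul_sub, one_mul]
      rw [hfg]
      abel
    rw [e]
    have e1 : InE2 A (g * ((1 - π) * f)) := (hπ2.mul_right hf).mul_left g
    have e2 : InE2 A ((1 - π) * f * g) := (hπ2.mul_right hf).mul_right hg
    rw [sub_eq_add_neg]
    exact e1.add e2.neg

/-- Independence of the quasi-projection. -/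
theorem fpTr_comm_indep {π π' f g : V →ₗ[k] V} (hπ1 : InE1 A π) (hπ2 : InE2 A (1 - π))
    (hπ'1 : InE1 A π') (hπ'2 : InE2 A (1 - π'))
    (hf : InE A f) (hg : InE A g) (hfg : f * g = g * f) :
    fpTr (π * f * g - g * (π * f)) = fpTr (π' * f * g - g * (π' * f)) := by
  have hδ : InE0 A (π - π') := by
    constructor
    · rw [sub_eq_add_neg]; exact hπ1.add hπ'1.neg
    · have : π - π' = (1 - π') + -(1 - π) := by abel
      rw [this]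
      exact hπ'2.add hπ2.neg
  have h0 := fpTr_comm_E0 hδ hf hg
  have h1 := inE0_comm hπ1 hπ2 hf hg hfg
  have h2 := inE0_comm hπ'1 hπ'2 hf hg hfg
  have e : π * f * g - g * (π * f) =
      (π' * f * g - g * (π' * f)) + ((π - π') * f * g - g * ((π - π') * f)) := by
    simp only [sub_mul, mul_sub]
    abel
  have h3 : InE0 A ((π - π') * f * g - g * ((π - π') * f)) :=
    ((hδ.mul_right hf).mul_right hg).sub ((hδ.mul_right hf).mul_left hg)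
  rw [e, fpTr_add_of_E0 h2 h3, h0, add_zero]

end Groth.Agent.Lib.FPTr58
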