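import Groth.Agent.Lib.FPTr58b

/-!
# Tate's abstract residue theorem (helper58)

`fpTr_comm_eq_zero`: if `B` is stable under the commuting operators `f, g ∈ E(A)`, and `A ∩ B`,
`V / (A + B)` are finite-dimensional, then `fpTr [π f, g] = 0` for every quasi-projection `π`
onto `A`.
-/

set_option autoImplicit false

namespace Groth.Agent.Lib.FPTr58

open LinearMap

variable {k : Type*} [Field k] {V : Type*} [AddCommGroup V] [Module k V]

theorem finite_inf_sup {A B C₁ : Submodule k V} (hAB : Module.Finite k ↥(A ⊓ B))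
    (hC : Module.Finite k C₁) : Module.Finite k ↥(B ⊓ (A ⊔ C₁)) := by
  rw [Module.Finite.iff_fg]
  apply Submodule.fg_of_fg_map_of_fg_inf_ker A.mkQ
  · have hle : (B ⊓ (A ⊔ C₁)).map A.mkQ ≤ C₁.map A.mkQ := by
      rintro _ ⟨y, hy, rfl⟩
      obtain ⟨a, ha, c, hc, rfl⟩ := Submodule.mem_sup.mp hy.2
      refine ⟨c, hc, ?_⟩
      rw [map_add]
      have : A.mkQ a = 0 := by
        rw [Submodule.mkQ_apply, Submodule.Quotient.mk_eq_zero]
        exact ha
      rw [this, zero_add]
    have h1 : Module.Finite k ↥(C₁.map A.mkQ) := inferInstance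
    have h2 : Module.Finite k ↥((B ⊓ (A ⊔ C₁)).map A.mkQ) :=
      Submodule.finiteDimensional_of_le hle
    exact Module.Finite.iff_fg.mp h2
  · rw [Submodule.ker_mkQ]
    have hle : B ⊓ (A ⊔ C₁) ⊓ A ≤ A ⊓ B := fun x hx => ⟨hx.2, hx.1.1⟩
    have h2 : Module.Finite k ↥(B ⊓ (A ⊔ C₁) ⊓ A) := Submodule.finiteDimensional_of_le hle
    exact Module.Finite.iff_fg.mp h2

theorem fpTr_comm_eq_zero {A B C₁ : Submodule k V} (hAB : Module.Finite k ↥(A ⊓ B))
    (hC : Module.Finite k C₁) (htop : A ⊔ B ⊔ C₁ = ⊤) {π f g : V →ₗ[k] V}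
    (hπ1 : InE1 A π) (hπ2 : InE2 A (1 - π)) (hf : InE A f) (hg : InE A g)
    (hfg : f * g = g * f) (hfB : ∀ b ∈ B, f b ∈ B) (hgB : ∀ b ∈ B, g b ∈ B) :
    fpTr (π * f * g - g * (π * f)) = 0 := by
  set M : Submodule k V := A ⊔ C₁ with hM
  set Y : Submodule k V := B ⊓ M with hY
  have hYfin : Module.Finite k Y := finite_inf_sup hAB hC
  obtain ⟨N₁, hN₁⟩ := Submodule.exists_isCompl Y
  set N : Submodule k V := N₁ ⊓ M with hN
  have hNM : N ≤ M := inf_le_right
  have hYM : Y ≤ M := inf_le_right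
  have hYB : Y ≤ B := inf_le_left
  have hc : IsCompl B N := by
    constructor
    · rw [disjoint_iff]
      have : B ⊓ N = Y ⊓ N₁ := by
        rw [hN, hY]
        ac_rfl
      rw [this]
      exact hN₁.inf_eq_bot
    · rw [codisjoint_iff]
      have h1 : Y ⊔ N = M := by
        rw [hN, ← sup_inf_assoc_of_le N₁ hYM, hN₁.sup_eq_top, top_inf_eq]
      have h2 : M ≤ B ⊔ N := by
        rw [← h1]
        exact sup_le_sup_right hYB N
      have h3 : A ⊔ B ⊔ C₁ ≤ B ⊔ N := by
        refine sup_le (sup_le ?_ le_sup_left) ?_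
        · exact le_trans (le_sup_left : A ≤ M) h2
        · exact le_trans (le_sup_right : C₁ ≤ M) h2
      rw [htop] at h3
      exact top_le_iff.mp h3
  set πB : V →ₗ[k] V := B.projection N hc with hπB
  set π' : V →ₗ[k] V := N.projection B hc.symm with hπ'
  have hsum : π' = 1 - πB := Submodule.projection_eq_id_sub_projection hc
  have hπ'1 : InE1 A π' := by
    refine ⟨C₁, hC, ?_⟩
    rintro _ ⟨x, rfl⟩
    exact hNM (Submodule.projection_apply_mem hc.symm x)
  have hπ'2 : InE2 A (1 - π') := by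
    refine ⟨Y, hYfin, ?_⟩
    rintro _ ⟨a, ha, rfl⟩
    have e : (1 - π') a = πB a := by
      rw [hsum]; simp
    rw [e]
    refine ⟨Submodule.projection_apply_mem hc a, ?_⟩
    have e2 : πB a = a - π' a := by
      rw [hsum]; simp
    rw [e2]
    exact M.sub_mem ((le_sup_left : A ≤ M) ha) (hNM (Submodule.projection_apply_mem hc.symm a))
  rw [fpTr_comm_indep hπ1 hπ2 hπ'1 hπ'2 hf hg hfg]
  apply fpTr_eq_zero_of_pow_eq_zero (n := 2)
  have e : π' * f * g - g * (π' * f) = -(πB * f * g - g * (πB * f)) := by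
    rw [hsum]
    simp only [sub_mul, mul_sub, one_mul]
    rw [hfg]
    abel
  have hmemB : ∀ x, (πB * f * g - g * (πB * f)) x ∈ B := by
    intro x
    simp only [LinearMap.sub_apply, Module.End.mul_apply]
    exact B.sub_mem (Submodule.projection_apply_mem hc _)
      (hgB _ (Submodule.projection_apply_mem hc _))
  have hkill : ∀ b ∈ B, (πB * f * g - g * (πB * f)) b = 0 := by
    intro b hb
    simp only [LinearMap.sub_apply, Module.End.mul_apply]
    rw [Submodule.projection_apply_of_mem_left hc (hfB _ (hgB b hb)),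
      Submodule.projection_apply_of_mem_left hc (hfB b hb)]
    have := LinearMap.congr_fun hfg b
    simp only [Module.End.mul_apply] at this
    rw [this, sub_self]
  rw [e, neg_sq, pow_two]
  ext x
  rw [Module.End.mul_apply, hkill _ (hmemB x)]
  rfl

end Groth.Agent.Lib.FPTr58
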