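import Groth.Agent.Lib.FPTr58c
import Mathlib.RingTheory.LaurentSeries

/-!
# Finite products of Laurent series fields: filtration, truncation, multiplication (helper58)

`V = Π i, F i ⸨X⸩` as a `k`-vector space, with the subspaces `Afil j` (all components of order
`≥ j`), the principal-part map `lam`, the truncation `pr = 1 - lam` (a projection onto `Afil 0`),
the finite-dimensional windows `Lam M`, and the multiplication operators `mulL a ∈ E(Afil 0)`.
-/

set_option autoImplicit false

namespace Groth.Agent.Lib.FPTr58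

open LaurentSeries HahnSeries

universe u v w

variable {k : Type u} [Field k] {ι : Type v} [Fintype ι] {F : ι → Type w} [∀ i, Field (F i)]
  [∀ i, Algebra k (F i)]

/-- The product of the Laurent series fields. -/
abbrev LV (F : ι → Type w) [∀ i, Field (F i)] : Type (max v w) := (i : ι) → LaurentSeries (F i)

variable (k) in
/-- Tuples all of whose components have order `≥ j`. -/
def Afil (j : ℤ) : Submodule k (LV F) where
  carrier := {v | ∀ i, ∀ n : ℤ, n < j → (v i).coeff n = 0}
  add_mem' := by
    intro a b ha hb i n hn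
    rw [Pi.add_apply, HahnSeries.coeff_add, ha i n hn, hb i n hn, add_zero]
  zero_mem' := by
    intro i n _
    rfl
  smul_mem' := by
    intro c a ha i n hn
    rw [Pi.smul_apply, HahnSeries.coeff_smul, ha i n hn, smul_zero]

theorem mem_Afil {j : ℤ} {v : LV F} :
    v ∈ Afil k j ↔ ∀ i, ∀ n : ℤ, n < j → (v i).coeff n = 0 := Iff.rfl

theorem mem_Afil_iff_val {j : ℤ} {v : LV F} :
    v ∈ Afil k j ↔ ∀ i, Valued.v (v i) ≤ WithZero.exp (-j) := by
  rw [mem_Afil]
  refine forall_congr' fun i => ?_
  rw [valuation_le_iff_coeff_lt_eq_zero]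

theorem Afil_anti {j j' : ℤ} (h : j ≤ j') : Afil k (F := F) j' ≤ Afil k j := by
  intro v hv i n hn
  exact hv i n (lt_of_lt_of_le hn h)

theorem mul_mem_Afil {p q : ℤ} {a v : LV F} (ha : a ∈ Afil k p) (hv : v ∈ Afil k q) :
    a * v ∈ Afil k (p + q) := by
  rw [mem_Afil_iff_val] at ha hv ⊢
  intro i
  rw [Pi.mul_apply, map_mul, neg_add, WithZero.exp_add]
  exact mul_le_mul' (ha i) (hv i)

theorem exists_mem_Afil (v : LV F) : ∃ M : ℕ, v ∈ Afil k (-(M : ℤ)) := by
  have h1 : ∀ i, ∃ M : ℕ, Valued.v (v i) ≤ WithZero.exp ((M : ℤ)) := by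
    intro i
    by_cases h0 : Valued.v (v i) = 0
    · exact ⟨0, by rw [h0]; exact zero_le⟩
    · refine ⟨(WithZero.log (Valued.v (v i))).natAbs, ?_⟩
      conv_lhs => rw [← WithZero.exp_log h0]
      rw [WithZero.exp_le_exp]
      exact Int.le_natAbs
  choose M hM using h1
  refine ⟨∑ i, M i, ?_⟩
  rw [mem_Afil_iff_val]
  intro i
  refine le_trans (hM i) ?_
  rw [neg_neg, WithZero.exp_le_exp]
  exact_mod_cast Finset.single_le_sum (fun _ _ => Nat.zero_le _) (Finset.mem_univ i)

variable (k) in
/-- The principal part. -/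
noncomputable def lam : LV F →ₗ[k] LV F :=
  LinearMap.pi fun i => (HahnSeries.truncLTLinearMap k (0 : ℤ)) ∘ₗ LinearMap.proj i

variable (k) in
/-- The truncation: the projection onto `Afil 0` killing the principal parts. -/
noncomputable def pr : LV F →ₗ[k] LV F := LinearMap.id - lam k

theorem lam_coeff (v : LV F) (i : ι) (n : ℤ) :
    ((lam k v) i).coeff n = if n < 0 then (v i).coeff n else 0 := rfl

theorem pr_coeff (v : LV F) (i : ι) (n : ℤ) :
    ((pr k v) i).coeff n = if n < 0 then 0 else (v i).coeff n := by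
  simp only [pr, LinearMap.sub_apply, LinearMap.id_apply, Pi.sub_apply, HahnSeries.coeff_sub,
    lam_coeff]
  split_ifs <;> simp

theorem pr_mem (v : LV F) : pr k v ∈ Afil k 0 := by
  intro i n hn
  rw [pr_coeff, if_pos hn]

theorem lam_of_mem {v : LV F} (hv : v ∈ Afil k 0) : lam k v = 0 := by
  funext i
  ext n
  rw [lam_coeff]
  split_ifs with h
  · rw [hv i n h]; rfl
  · rfl

theorem pr_of_mem {v : LV F} (hv : v ∈ Afil k 0) : pr k v = v := by
  simp only [pr, LinearMap.sub_apply, LinearMap.id_apply, lam_of_mem hv, sub_zero]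

theorem pr_add_lam (v : LV F) : pr k v + lam k v = v := by
  simp only [pr, LinearMap.sub_apply, LinearMap.id_apply, sub_add_cancel]

variable (k) in
/-- Tuples of Laurent polynomials supported in degrees `[-M, 0)`. -/
def Lam (M : ℕ) : Submodule k (LV F) where
  carrier := {v | ∀ i, ∀ n : ℤ, (n < -(M : ℤ) ∨ 0 ≤ n) → (v i).coeff n = 0}
  add_mem' := by
    intro a b ha hb i n hn
    rw [Pi.add_apply, HahnSeries.coeff_add, ha i n hn, hb i n hn, add_zero]
  zero_mem' := by
    intro i n _
    rfl
  smul_mem' := by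
    intro c a ha i n hn
    rw [Pi.smul_apply, HahnSeries.coeff_smul, ha i n hn, smul_zero]

theorem finite_Lam [∀ i, FiniteDimensional k (F i)] (M : ℕ) : Module.Finite k (Lam k (F := F) M) := by
  let Φ : Lam k (F := F) M →ₗ[k] ((i : ι) → Fin M → F i) :=
    { toFun := fun v i j => ((v : LV F) i).coeff (-(M : ℤ) + (j : ℕ))
      map_add' := by
        intro a b
        funext i j
        simp [HahnSeries.coeff_add]
      map_smul' := by
        intro c a
        funext i j
        simp [HahnSeries.coeff_smul] }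
  have hinj : Function.Injective Φ := by
    rw [← LinearMap.ker_eq_bot, LinearMap.ker_eq_bot']
    intro v hv
    apply Subtype.ext
    funext i
    ext n
    by_cases hn : n < -(M : ℤ) ∨ 0 ≤ n
    · exact v.2 i n hn
    · have hn' : -(M : ℤ) ≤ n ∧ n < 0 := by omega
      have hj : (n + M).toNat < M := by omega
      have := congrFun (congrFun hv i) ⟨(n + M).toNat, hj⟩
      have e : -(M : ℤ) + ((n + M).toNat : ℕ) = n := by
        rw [Int.toNat_of_nonneg (by omega)]
        ring
      simp only [Φ, LinearMap.coe_mk, AddHom.coe_mk, e] at this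
      exact this
  exact Module.Finite.of_injective Φ hinj

theorem lam_mem_Lam {M : ℕ} {v : LV F} (hv : v ∈ Afil k (-(M : ℤ))) : lam k v ∈ Lam k M := by
  intro i n hn
  rw [lam_coeff]
  rcases hn with hn | hn
  · rw [hv i n hn]
    split_ifs <;> rfl
  · rw [if_neg (by omega)]

theorem Afil_le_sup (M : ℕ) : Afil k (F := F) (-(M : ℤ)) ≤ Afil k 0 ⊔ Lam k M := by
  intro v hv
  rw [← pr_add_lam (k := k) v]
  exact Submodule.add_mem _ (Submodule.mem_sup_left (pr_mem v))
    (Submodule.mem_sup_right (lam_mem_Lam hv))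

/-- The coefficientwise scalar action of `k` is multiplication by a constant series. -/
theorem smul_eq_C_mul {F : Type w} [Field F] [Algebra k F] (c : k) (x : LaurentSeries F) :
    c • x = HahnSeries.C (algebraMap k F c) * x := by
  rw [HahnSeries.C_mul_eq_smul]
  ext n
  simp [Algebra.smul_def]

variable (k) in
/-- Multiplication by `a` as a `k`-linear endomorphism. -/
noncomputable def mulL (a : LV F) : LV F →ₗ[k] LV F where
  toFun v := a * v
  map_add' := mul_add a
  map_smul' c v := by
    funext i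
    simp only [Pi.mul_apply, Pi.smul_apply, RingHom.id_apply]
    rw [smul_eq_C_mul, smul_eq_C_mul]
    ring

@[simp] theorem mulL_apply (a v : LV F) : mulL k a v = a * v := rfl

theorem mulL_mul (a b : LV F) : mulL k a * mulL k b = mulL k (a * b) := by
  ext v
  simp [mul_assoc]

theorem mulL_comm (a b : LV F) : mulL k a * mulL k b = mulL k b * mulL k a := by
  rw [mulL_mul, mulL_mul, mul_comm]

theorem mulL_add (a b : LV F) : mulL k (a + b) = mulL k a + mulL k b := by
  ext v
  simp [add_mul]

theorem inE_mulL [∀ i, FiniteDimensional k (F i)] (a : LV F) : InE (Afil k 0) (mulL k a) := by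
  obtain ⟨M, hM⟩ := exists_mem_Afil (k := k) a
  refine ⟨Lam k M, finite_Lam M, ?_⟩
  rintro _ ⟨v, hv, rfl⟩
  apply Afil_le_sup M
  have := mul_mem_Afil hM hv
  rwa [add_zero] at this

theorem inE1_pr : InE1 (Afil k (F := F) 0) (pr k) := by
  refine ⟨⊥, inferInstance, ?_⟩
  rintro _ ⟨v, rfl⟩
  exact Submodule.mem_sup_left (pr_mem v)

theorem inE2_one_sub_pr : InE2 (Afil k (F := F) 0) (1 - pr k) := by
  refine ⟨⊥, inferInstance, ?_⟩
  rintro _ ⟨v, hv, rfl⟩
  have : (1 - pr k : LV F →ₗ[k] LV F) v = lam k v := by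
    simp [pr]
  rw [this, lam_of_mem hv]
  exact Submodule.zero_mem _

end Groth.Agent.Lib.FPTr58
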