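import Groth.Agent.Lib.FPTr58d
import Mathlib.LinearAlgebra.StdBasis
import Mathlib.LinearAlgebra.Matrix.ToLin
import Mathlib.RingTheory.Trace.Defs

/-!
# Two trace computations (helper58)

* `fpTr_comp_eq_trace`: the finite-potent trace of an operator factoring through a
  finite-dimensional space `U` is the ordinary trace on `U` of the reversed composite.
* `trace_pi_diag`: the trace of a diagonal operator on a finite product.
-/

set_option autoImplicit false

namespace Groth.Agent.Lib.FPTr58

open LinearMap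

universe u v w

theorem fpTr_comp_eq_trace {k : Type*} [Field k] {V : Type*} [AddCommGroup V] [Module k V]
    {U : Type*} [AddCommGroup U] [Module k U] [Module.Finite k U]
    (ρ : V →ₗ[k] U) (j : U →ₗ[k] V) : fpTr (j ∘ₗ ρ) = LinearMap.trace k U (ρ ∘ₗ j) := by
  set W : Submodule k V := LinearMap.range j with hW
  have hfin : Module.Finite k W := inferInstance
  have hmem : ∀ x, (j ∘ₗ ρ) x ∈ W := fun x => ⟨ρ x, rfl⟩
  have hwit : IsWit (j ∘ₗ ρ) W := ⟨hfin, fun x _ => hmem x, 1, fun x => by simpa using hmem x⟩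
  rw [hwit.fpTr_eq, trOn_eq _ W hwit.stable]
  have e : (j ∘ₗ ρ).restrict hwit.stable = j.rangeRestrict ∘ₗ (ρ ∘ₗ W.subtype) := by
    ext x
    rfl
  rw [e, LinearMap.trace_comp_comm']
  congr 1

theorem trace_pi_diag {k : Type u} [Field k] {ι : Type v} [Fintype ι] [DecidableEq ι]
    {M : ι → Type w} [∀ i, AddCommGroup (M i)] [∀ i, Module k (M i)]
    [∀ i, Module.Finite k (M i)] (f : ∀ i, M i →ₗ[k] M i) :
    LinearMap.trace k ((i : ι) → M i) (LinearMap.pi fun i => f i ∘ₗ LinearMap.proj i) =
      ∑ i, LinearMap.trace k (M i) (f i) := by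
  classical
  let b : ∀ i, Module.Basis (Module.Free.ChooseBasisIndex k (M i)) k (M i) :=
    fun i => Module.Free.chooseBasis k (M i)
  rw [LinearMap.trace_eq_matrix_trace k (Pi.basis b), Matrix.trace, Fintype.sum_sigma]
  refine Finset.sum_congr rfl fun i _ => ?_
  rw [LinearMap.trace_eq_matrix_trace k (b i), Matrix.trace]
  refine Finset.sum_congr rfl fun j _ => ?_
  simp only [Matrix.diag_apply, LinearMap.toMatrix_apply, Pi.basis_apply, Pi.basis_repr,
    LinearMap.pi_apply, LinearMap.coe_comp, LinearMap.coe_proj, Function.comp_apply,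
    Function.eval, Pi.single_eq_same]

end Groth.Agent.Lib.FPTr58
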