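import Groth.Agent.Lib.FPTr58e
import Groth.Prelude.Def_LocRes

/-!
# The local computation of Tate's residue on a product of Laurent series fields (helper58)

`T a b = fpTr [pr a, b]` and `R a = ∑ i, Tr_{F i / k} (coeff_{-1} (a i))`.
Main result: `T_eq_R : T a b = R (a * dV b)`.
-/

set_option autoImplicit false

namespace Groth.Agent.Lib.FPTr58

open LaurentSeries HahnSeries

universe u v w

variable {k : Type u} [Field k] {ι : Type v} [Fintype ι] {F : ι → Type w} [∀ i, Field (F i)]
  [∀ i, Algebra k (F i)]

variable (k) in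
/-- `θ_{a,b} = [pr a, b]`. -/
noncomputable def theta (a b : LV F) : LV F →ₗ[k] LV F :=
  pr k * mulL k a * mulL k b - mulL k b * (pr k * mulL k a)

theorem theta_apply (a b v : LV F) :
    theta k a b v = pr k (a * (b * v)) - b * pr k (a * v) := rfl

variable (k) in
/-- Tate's residue pairing. -/
noncomputable def T (a b : LV F) : k := fpTr (theta k a b)

variable (k) in
/-- The sum of the traces of the coefficients of `X⁻¹`. -/
noncomputable def R (a : LV F) : k := ∑ i, Algebra.trace k (F i) ((a i).coeff (-1))

theorem R_add (a b : LV F) : R k (a + b) = R k a + R k b := by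
  simp [R, Finset.sum_add_distrib]

theorem R_neg (a : LV F) : R k (-a) = -R k a := by
  simp [R]

theorem R_eq_zero_of_mem {a : LV F} (ha : a ∈ Afil k 0) : R k a = 0 := by
  unfold R
  refine Finset.sum_eq_zero fun i _ => ?_
  rw [ha i (-1) (by norm_num), map_zero]

/-- The componentwise derivative. -/
noncomputable def dV (b : LV F) : LV F := fun i => LocRes.D (F i) (b i)

theorem dV_add (b c : LV F) : dV (b + c) = dV b + dV c := by
  funext i
  simp [dV]

theorem dV_mul (b c : LV F) : dV (b * c) = b * dV c + c * dV b := by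
  funext i
  simp only [dV, Pi.mul_apply, Pi.add_apply, Derivation.leibniz, smul_eq_mul]

theorem dV_one : dV (1 : LV F) = 0 := by
  funext i
  simp [dV]

theorem dV_mem {b : LV F} (hb : b ∈ Afil k 0) : dV b ∈ Afil k 0 := by
  intro i n hn
  rw [dV, LocRes.D_coeff]
  by_cases h : n + 1 < 0
  · rw [hb i (n + 1) h, smul_zero]
  · have : n + 1 = 0 := by omega
    rw [this, zero_smul]

/-- Constant tuples. -/
noncomputable def cst (r : (i : ι) → F i) : LV F := fun i => HahnSeries.C (r i)

theorem cst_mul_coeff (r : (i : ι) → F i) (v : LV F) (i : ι) (n : ℤ) :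
    ((cst r * v) i).coeff n = r i * (v i).coeff n := by
  rw [Pi.mul_apply, cst, HahnSeries.C_mul_eq_smul, HahnSeries.coeff_smul, smul_eq_mul]

theorem pr_cst_mul (r : (i : ι) → F i) (v : LV F) : pr k (cst r * v) = cst r * pr k v := by
  funext i
  ext n
  rw [pr_coeff, cst_mul_coeff, cst_mul_coeff, pr_coeff]
  split_ifs <;> simp

theorem dV_cst (r : (i : ι) → F i) : dV (cst r) = 0 := by
  funext i
  simp only [dV, cst, LocRes.D_apply, LocRes.derivative_C]
  rfl

theorem cst_mem (r : (i : ι) → F i) : cst r ∈ Afil k 0 := by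
  intro i n hn
  rw [cst, HahnSeries.C_apply, HahnSeries.coeff_single_of_ne (by omega)]

/-- The tuple of the variables. -/
noncomputable def XV : LV F := fun _ => HahnSeries.single 1 1

/-- The tuple of the inverses of the variables. -/
noncomputable def XinvV : LV F := fun _ => HahnSeries.single (-1) 1

theorem XV_mul_XinvV : (XV : LV F) * XinvV = 1 := by
  funext i
  simp [XV, XinvV, HahnSeries.single_mul_single]

theorem XV_mul_coeff (v : LV F) (i : ι) (n : ℤ) : ((XV * v : LV F) i).coeff n = (v i).coeff (n - 1) := by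
  rw [Pi.mul_apply, XV, HahnSeries.coeff_single_mul, one_mul]

theorem XinvV_mul_coeff (v : LV F) (i : ι) (n : ℤ) :
    ((XinvV * v : LV F) i).coeff n = (v i).coeff (n + 1) := by
  rw [Pi.mul_apply, XinvV, HahnSeries.coeff_single_mul, one_mul, sub_neg_eq_add]

theorem XV_mem : (XV : LV F) ∈ Afil k 1 := by
  intro i n hn
  rw [XV, HahnSeries.coeff_single_of_ne (by omega)]

theorem XinvV_mem : (XinvV : LV F) ∈ Afil k (-1) := by
  intro i n hn
  rw [XinvV, HahnSeries.coeff_single_of_ne (by omega)]

theorem dV_XV : dV (XV : LV F) = 1 := by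
  funext i
  ext n
  rw [dV, LocRes.D_coeff, XV, Pi.one_apply, HahnSeries.coeff_one]
  by_cases h : n = 0
  · subst h
    simp
  · rw [if_neg h, HahnSeries.coeff_single_of_ne (by omega), smul_zero]

variable [∀ i, FiniteDimensional k (F i)]

theorem theta_inE0 (a b : LV F) : InE0 (Afil k 0) (theta k a b) :=
  inE0_comm inE1_pr inE2_one_sub_pr (inE_mulL a) (inE_mulL b) (mulL_comm a b)

theorem T_add_right (a b c : LV F) : T k a (b + c) = T k a b + T k a c := by
  have e : theta k a (b + c) = theta k a b + theta k a c := by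
    apply LinearMap.ext
    intro v
    simp only [theta_apply, LinearMap.add_apply]
    have e1 : a * ((b + c) * v) = a * (b * v) + a * (c * v) := by ring
    rw [e1, map_add]
    ring
  unfold T
  rw [e, fpTr_add_of_E0 (theta_inE0 a b) (theta_inE0 a c)]

/-- The commutator `[c, pr]` lies in `E₀`. -/
theorem inE0_comm_pr (c : LV F) : InE0 (Afil k 0) (mulL k c * pr k - pr k * mulL k c) := by
  constructor
  · rw [sub_eq_add_neg]
    exact (inE1_pr.mul_left (inE_mulL c)).add (inE1_pr.mul_right _).neg
  · have e : mulL k c * pr k - pr k * mulL k c =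
        (1 - pr k) * mulL k c + -(mulL k c * (1 - pr k)) := by
      simp only [sub_mul, mul_sub, one_mul, mul_one]
      abel
    rw [e]
    exact (inE2_one_sub_pr.mul_right (inE_mulL c)).add (inE2_one_sub_pr.mul_left _).neg

theorem T_leibniz (a b c : LV F) : T k a (b * c) = T k (a * b) c + T k (a * c) b := by
  set δ : LV F →ₗ[k] LV F := mulL k c * pr k - pr k * mulL k c with hδ
  have hδ0 : InE0 (Afil k 0) δ := inE0_comm_pr c
  set ε : LV F →ₗ[k] LV F := δ * mulL k a * mulL k b - mulL k b * (δ * mulL k a) with hε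
  have hε0 : InE0 (Afil k 0) ε :=
    ((hδ0.mul_right (inE_mulL a)).mul_right (inE_mulL b)).sub
      ((hδ0.mul_right (inE_mulL a)).mul_left (inE_mulL b))
  have hεtr : fpTr ε = 0 := fpTr_comm_E0 hδ0 (inE_mulL a) (inE_mulL b)
  have e : theta k a (b * c) = theta k (a * b) c + theta k (a * c) b + ε := by
    apply LinearMap.ext
    intro v
    simp only [theta_apply, LinearMap.add_apply, hε, hδ, LinearMap.sub_apply,
      Module.End.mul_apply, mulL_apply, map_sub]
    have e1 : a * (b * c * v) = a * b * (c * v) := by ring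
    have e2 : a * c * (b * v) = c * (a * (b * v)) := by ring
    have e3 : a * c * v = c * (a * v) := by ring
    rw [e1, e2, e3]
    ring
  unfold T
  rw [e, fpTr_add_of_E0 ((theta_inE0 _ _).add (theta_inE0 _ _)) hε0,
    fpTr_add_of_E0 (theta_inE0 _ _) (theta_inE0 _ _), hεtr, add_zero]

theorem T_eq_zero_of_mem {a b : LV F} (ha : a ∈ Afil k 0) (hb : b ∈ Afil k 0) : T k a b = 0 := by
  apply fpTr_eq_zero_of_pow_eq_zero (n := 2)
  have hmem : ∀ v, theta k a b v ∈ Afil k 0 := by
    intro v
    rw [theta_apply]
    refine Submodule.sub_mem _ (pr_mem _) ?_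
    have := mul_mem_Afil hb (pr_mem (k := k) (a * v))
    rwa [add_zero] at this
  have hkill : ∀ v ∈ Afil k (F := F) 0, theta k a b v = 0 := by
    intro v hv
    have h1 : a * v ∈ Afil k 0 := by
      have := mul_mem_Afil ha hv
      rwa [add_zero] at this
    have h2 : b * v ∈ Afil k 0 := by
      have := mul_mem_Afil hb hv
      rwa [add_zero] at this
    have h3 : a * (b * v) ∈ Afil k 0 := by
      have := mul_mem_Afil ha h2
      rwa [add_zero] at this
    rw [theta_apply, pr_of_mem h3, pr_of_mem h1]
    ring
  rw [pow_two]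
  apply LinearMap.ext
  intro v
  rw [Module.End.mul_apply, hkill _ (hmem v)]
  rfl

theorem T_cst (a : LV F) (r : (i : ι) → F i) : T k a (cst r) = 0 := by
  apply fpTr_eq_zero_of_pow_eq_zero (n := 1)
  rw [pow_one]
  apply LinearMap.ext
  intro v
  rw [theta_apply]
  have e : a * (cst r * v) = cst r * (a * v) := by ring
  rw [e, pr_cst_mul, sub_self]
  rfl

theorem T_one (a : LV F) : T k a 1 = 0 := by
  have : (1 : LV F) = cst (fun _ => 1) := by
    funext i
    simp [cst]
  rw [this]
  exact T_cst a _

theorem theta_XV (a v : LV F) :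
    theta k a XV v = cst (fun i => (a i * v i).coeff (-1)) := by
  rw [theta_apply]
  funext i
  ext n
  rw [Pi.sub_apply, HahnSeries.coeff_sub, pr_coeff, XV_mul_coeff, pr_coeff, cst,
    HahnSeries.C_apply, HahnSeries.coeff_single]
  have e : ((a * (XV * v) : LV F) i).coeff n = ((a * v : LV F) i).coeff (n - 1) := by
    have : a * (XV * v) = XV * (a * v) := by ring
    rw [this, XV_mul_coeff]
  rw [e]
  by_cases h0 : n = 0
  · subst h0
    simp
  · rw [if_neg h0]
    by_cases hn : n < 0
    · rw [if_pos hn, if_pos (by omega), sub_zero]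
    · rw [if_neg hn, if_neg (by omega), sub_self]

theorem T_XV (a : LV F) : T k a XV = R k a := by
  classical
  let ρ : LV F →ₗ[k] ((i : ι) → F i) :=
    { toFun := fun v i => (a i * v i).coeff (-1)
      map_add' := by
        intro v w
        funext i
        simp [mul_add]
      map_smul' := by
        intro c v
        funext i
        simp only [Pi.smul_apply, RingHom.id_apply]
        rw [smul_eq_C_mul, ← mul_assoc, mul_comm (a i), mul_assoc, HahnSeries.C_mul_eq_smul,
          HahnSeries.coeff_smul, Algebra.smul_def (R := k), smul_eq_mul] }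
  let j : ((i : ι) → F i) →ₗ[k] LV F :=
    { toFun := fun r => cst r
      map_add' := by
        intro r s
        funext i
        simp [cst]
      map_smul' := by
        intro c r
        funext i
        simp only [cst, Pi.smul_apply, RingHom.id_apply]
        rw [smul_eq_C_mul, ← map_mul, Algebra.smul_def] }
  have e : theta k a XV = j ∘ₗ ρ := by
    apply LinearMap.ext
    intro v
    rw [theta_XV]
    rfl
  have e2 : ρ ∘ₗ j = LinearMap.pi fun i =>
      (LinearMap.mulLeft k ((a i).coeff (-1))) ∘ₗ LinearMap.proj i := by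
    apply LinearMap.ext
    intro r
    funext i
    simp only [LinearMap.coe_comp, Function.comp_apply, LinearMap.pi_apply, LinearMap.coe_proj,
      Function.eval, LinearMap.mulLeft_apply, ρ, j, LinearMap.coe_mk, AddHom.coe_mk, cst]
    rw [mul_comm (a i), HahnSeries.C_mul_eq_smul, HahnSeries.coeff_smul, smul_eq_mul, mul_comm]
  unfold T
  rw [e, fpTr_comp_eq_trace, e2, trace_pi_diag]
  rfl

end Groth.Agent.Lib.FPTr58
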