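import Groth.Agent.Lib.FPTr58f

/-!
# Tate's residue on a product of Laurent series fields is the classical residue (helper58)

`T_eq_R : T k a b = R k (a * dV b)`, i.e. `fpTr [pr a, b] = ∑ i, Tr_{F i / k} Res (a i d(b i))`.
-/

set_option autoImplicit false

namespace Groth.Agent.Lib.FPTr58

open LaurentSeries HahnSeries

universe u v w

variable {k : Type u} [Field k] {ι : Type v} [Fintype ι] {F : ι → Type w} [∀ i, Field (F i)]
  [∀ i, Algebra k (F i)] [∀ i, FiniteDimensional k (F i)]

variable (k) in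
/-- `b` is good if Tate's pairing against `b` is the classical residue pairing. -/
def Good (b : LV F) : Prop := ∀ a : LV F, T k a b = R k (a * dV b)

theorem R_zero : R k (0 : LV F) = 0 := by
  simp [R]

theorem good_mul {b c : LV F} (hb : Good k b) (hc : Good k c) : Good k (b * c) := by
  intro a
  rw [T_leibniz, hb (a * c), hc (a * b), dV_mul, ← R_add]
  congr 1
  ring

theorem good_cst (r : (i : ι) → F i) : Good k (cst r) := by
  intro a
  rw [T_cst, dV_cst, mul_zero, R_zero]

theorem good_one : Good k (1 : LV F) := by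
  intro a
  rw [T_one, dV_one, mul_zero, R_zero]

theorem good_XV : Good k (XV : LV F) := by
  intro a
  rw [T_XV, dV_XV, mul_one]

theorem good_aux (M : ℕ) : ∀ a : LV F, a ∈ Afil k (-(M : ℤ)) → ∀ b : LV F, b ∈ Afil k 0 →
    T k a b = R k (a * dV b) := by
  induction M with
  | zero =>
    intro a ha b hb
    rw [Nat.cast_zero, neg_zero] at ha
    rw [T_eq_zero_of_mem ha hb]
    have := mul_mem_Afil ha (dV_mem hb)
    rw [add_zero] at this
    rw [R_eq_zero_of_mem this]
  | succ M ih =>
    intro a ha b hb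
    set r : (i : ι) → F i := fun i => (b i).coeff 0 with hr
    set b₁ : LV F := XinvV * (b - cst r) with hb₁
    have hb₁mem : b₁ ∈ Afil k 0 := by
      intro i n hn
      rw [hb₁, XinvV_mul_coeff, Pi.sub_apply, HahnSeries.coeff_sub, cst, HahnSeries.C_apply,
        HahnSeries.coeff_single]
      by_cases h : n + 1 = 0
      · rw [if_pos h, h, hr, sub_self]
      · rw [if_neg h, hb i (n + 1) (by omega), sub_zero]
    have hb_eq : b = cst r + XV * b₁ := by
      rw [hb₁, ← mul_assoc, XV_mul_XinvV, one_mul]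
      ring
    have haX : a * XV ∈ Afil k (-(M : ℤ)) := by
      have := mul_mem_Afil ha (XV_mem (k := k) (F := F))
      have e : -((M + 1 : ℕ) : ℤ) + 1 = -(M : ℤ) := by push_cast; ring
      rwa [e] at this
    have hd : dV b = XV * dV b₁ + b₁ := by
      rw [hb_eq, dV_add, dV_cst, zero_add, dV_mul, dV_XV, mul_one]
    rw [hd]
    conv_lhs => rw [hb_eq]
    rw [T_add_right, T_cst, zero_add, T_leibniz, ih (a * XV) haX b₁ hb₁mem, T_XV, ← R_add]
    congr 1
    ring

theorem good_of_mem {b : LV F} (hb : b ∈ Afil k 0) : Good k b := by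
  intro a
  obtain ⟨M, hM⟩ := exists_mem_Afil (k := k) a
  exact good_aux M a hM b hb

theorem dV_XinvV : dV (XinvV : LV F) = -(XinvV * XinvV) := by
  have h1 : dV ((XV : LV F) * XinvV) = 0 := by rw [XV_mul_XinvV, dV_one]
  rw [dV_mul, dV_XV, mul_one] at h1
  have h2 : XinvV * (XV * dV (XinvV : LV F) + XinvV) = 0 := by rw [h1, mul_zero]
  have h3 : XinvV * (XV * dV (XinvV : LV F) + XinvV) =
      (XV * XinvV) * dV (XinvV : LV F) + XinvV * XinvV := by ring
  rw [h3, XV_mul_XinvV, one_mul] at h2
  exact eq_neg_of_add_eq_zero_left h2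

theorem good_XinvV : Good k (XinvV : LV F) := by
  intro a
  set a' : LV F := a * XinvV with ha'
  have h0 : T k a' (XV * XinvV) = 0 := by rw [XV_mul_XinvV]; exact T_one a'
  rw [T_leibniz, T_XV] at h0
  have e : a' * XV = a := by
    rw [ha', mul_assoc, mul_comm XinvV XV, XV_mul_XinvV, mul_one]
  rw [e] at h0
  rw [eq_neg_of_add_eq_zero_left h0, dV_XinvV, ← R_neg]
  congr 1
  rw [ha']
  ring

theorem good_XinvV_pow (m : ℕ) : Good k ((XinvV : LV F) ^ m) := by
  induction m with
  | zero => rw [pow_zero]; exact good_one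
  | succ m ih => rw [pow_succ]; exact good_mul ih good_XinvV

theorem XV_pow_mem (m : ℕ) : (XV : LV F) ^ m ∈ Afil k (m : ℤ) := by
  induction m with
  | zero =>
    intro i n hn
    rw [pow_zero, Pi.one_apply, HahnSeries.coeff_one, if_neg]
    rw [Nat.cast_zero] at hn
    omega
  | succ m ih =>
    rw [pow_succ]
    have := mul_mem_Afil ih (XV_mem (k := k) (F := F))
    exact_mod_cast this

/-- **Tate's pairing is the classical residue pairing.** -/
theorem T_eq_R (a b : LV F) : T k a b = R k (a * dV b) := by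
  obtain ⟨m, hm⟩ := exists_mem_Afil (k := k) b
  set b₁ : LV F := XV ^ m * b with hb₁
  have hb₁mem : b₁ ∈ Afil k 0 := by
    have := mul_mem_Afil (XV_pow_mem (k := k) (F := F) m) hm
    rwa [add_neg_cancel] at this
  have hb : b = XinvV ^ m * b₁ := by
    rw [hb₁, ← mul_assoc, ← mul_pow, mul_comm XinvV XV, XV_mul_XinvV, one_pow, one_mul]
  have hg : Good k (XinvV ^ m * b₁) := good_mul (good_XinvV_pow m) (good_of_mem hb₁mem)
  rw [hb]
  exact hg a

end Groth.Agent.Lib.FPTr58
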