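import Groth.Agent.Lib.H40FunFldRiemann

/-!
# Function fields of one variable (`FunFld`): the spaces `A(D) + K`, the adele space, and Weil
differentials.
-/

set_option autoImplicit false
open FunFld Polynomial

namespace Groth.Agent.Lib.H40FunFld

open Groth.Agent.Lib.H40QuotChain

universe u v
variable {k : Type u} {K : Type v} [Field k] [Field K] [Algebra k K]

/-- `A(D) + K` as a subspace of all functions `Place → K`. -/
abbrev ADKbig (D : FunFld.Divisor k K) : Submodule k (FunFld.Place k K → K) :=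
  FunFld.AD D ⊔ LinearMap.range (FunFld.diag k K)

theorem ADKbig_mono {D₁ D₂ : FunFld.Divisor k K} (h : D₁ ≤ D₂) :
    ADKbig D₁ ≤ ADKbig D₂ := sup_le_sup_right (AD_mono h) _

/-- The map `A(D₂)/A(D₁) → (A(D₂)+K)/(A(D₁)+K)`. -/
noncomputable def ADQuotToADKQuot (D₁ D₂ : FunFld.Divisor k K) :
    RelQuot (FunFld.AD D₁) (FunFld.AD D₂) →ₗ[k] RelQuot (ADKbig D₁) (ADKbig D₂) :=
  Submodule.mapQ _ _ (Submodule.inclusion (le_sup_left : FunFld.AD D₂ ≤ ADKbig D₂)) (by
    intro a ha
    exact Submodule.mem_sup_left ha)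

theorem ADQuotToADKQuot_surjective (D₁ D₂ : FunFld.Divisor k K) :
    Function.Surjective (ADQuotToADKQuot D₁ D₂) := by
  intro y
  obtain ⟨⟨b, hb⟩, rfl⟩ := Submodule.Quotient.mk_surjective _ y
  obtain ⟨a, ha, d, hd, rfl⟩ := Submodule.mem_sup.1 hb
  refine ⟨Submodule.Quotient.mk ⟨a, ha⟩, ?_⟩
  change Submodule.Quotient.mk _ = Submodule.Quotient.mk _
  rw [Submodule.Quotient.eq]
  change (a - (a + d)) ∈ ADKbig D₁
  have : a - (a + d) = -d := by abel
  rw [this]
  exact Submodule.neg_mem _ (Submodule.mem_sup_right hd)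

theorem exact_LQuot_ADQuot_ADKQuot {D₁ D₂ : FunFld.Divisor k K} (h : D₁ ≤ D₂) :
    Function.Exact (LQuotToADQuot D₁ D₂) (ADQuotToADKQuot D₁ D₂) := by
  rw [LinearMap.exact_iff]
  ext y
  obtain ⟨⟨a, ha⟩, rfl⟩ := Submodule.Quotient.mk_surjective _ y
  constructor
  · intro hy
    have h1 : (Submodule.Quotient.mk (Submodule.inclusion
        (le_sup_left : FunFld.AD D₂ ≤ ADKbig D₂) ⟨a, ha⟩) : RelQuot (ADKbig D₁) (ADKbig D₂)) = 0 :=
      hy
    have h2 : a ∈ ADKbig D₁ :=
      (Submodule.Quotient.mk_eq_zero (Submodule.comap (ADKbig D₂).subtype (ADKbig D₁))).1 h1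
    obtain ⟨a₁, ha₁, d, ⟨x, rfl⟩, hsum⟩ := Submodule.mem_sup.1 h2
    have hx : FunFld.diag k K x ∈ FunFld.AD D₂ := by
      have : FunFld.diag k K x = a - a₁ := by rw [← hsum]; abel
      rw [this]
      exact Submodule.sub_mem _ ha (AD_mono h ha₁)
    refine ⟨Submodule.Quotient.mk ⟨x, hx⟩, ?_⟩
    change Submodule.Quotient.mk _ = Submodule.Quotient.mk _
    rw [Submodule.Quotient.eq]
    change (FunFld.diag k K x - a) ∈ FunFld.AD D₁
    have : FunFld.diag k K x - a = -a₁ := by rw [← hsum]; abel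
    rw [this]
    exact Submodule.neg_mem _ ha₁
  · rintro ⟨z, hz⟩
    obtain ⟨⟨x, hx⟩, rfl⟩ := Submodule.Quotient.mk_surjective _ z
    rw [← hz]
    change (Submodule.Quotient.mk _ : RelQuot (ADKbig D₁) (ADKbig D₂)) = 0
    rw [Submodule.Quotient.mk_eq_zero]
    exact Submodule.mem_sup_right ⟨x, rfl⟩

/-- `dim (A(D₂)+K)/(A(D₁)+K) = δ(D₂) - δ(D₁)` for `D₁ ≤ D₂`. -/
theorem finrank_ADKbig_quot (hK : FunFld.IsFunctionField k K) {D₁ D₂ : FunFld.Divisor k K}
    (h : D₁ ≤ D₂) :
    FiniteDimensional k (RelQuot (ADKbig D₁) (ADKbig D₂)) ∧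
      (Module.finrank k (RelQuot (ADKbig D₁) (ADKbig D₂)) : ℤ) = delta D₂ - delta D₁ := by
  obtain ⟨hfin, hrank⟩ := adQuotFormula hK h
  have hfinL := finiteDimensional_L hK D₁
  obtain ⟨h2, -⟩ := finrank_LQuot_le hK h
  obtain ⟨h4, h5⟩ := finrank_of_relQuot (L_mono h)
  have hP : FiniteDimensional k (RelQuot (ADKbig D₁) (ADKbig D₂)) :=
    Module.Finite.of_surjective _ (ADQuotToADKQuot_surjective D₁ D₂)
  obtain ⟨-, h6⟩ := finrank_of_exact _ _ (LQuotToADQuot_injective D₁ D₂)
    (ADQuotToADKQuot_surjective D₁ D₂) (exact_LQuot_ADQuot_ADKQuot h)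
  refine ⟨hP, ?_⟩
  unfold delta
  rw [FunFld.ell, FunFld.ell, h5]
  have h7 : (Module.finrank k (RelQuot (FunFld.AD D₁) (FunFld.AD D₂)) : ℤ) =
      Module.finrank k (RelQuot (FunFld.L D₁) (FunFld.L D₂)) +
        Module.finrank k (RelQuot (ADKbig D₁) (ADKbig D₂)) := by exact_mod_cast h6
  push_cast
  linarith

theorem mem_adele_iff (a : FunFld.Place k K → K) :
    a ∈ FunFld.adele k K ↔ {P : FunFld.Place k K | ¬ P.1 (a P) ≤ 1}.Finite := by
  change (∀ᶠ P : FunFld.Place k K in Filter.cofinite, P.1 (a P) ≤ 1) ↔ _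
  rw [Filter.eventually_cofinite]

theorem AD_le_adele (D : FunFld.Divisor k K) : FunFld.AD D ≤ FunFld.adele k K := by
  intro a ha
  rw [mem_adele_iff]
  refine (Finset.finite_toSet D.support).subset ?_
  intro P hP
  rw [Finset.mem_coe, Finsupp.mem_support_iff]
  intro h0
  apply hP
  have := ha P
  rwa [h0, WithZero.exp_zero] at this

theorem diag_mem_adele (hK : FunFld.IsFunctionField k K) (x : K) :
    FunFld.diag k K x ∈ FunFld.adele k K := by
  rw [mem_adele_iff]
  by_cases hx : x = 0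
  · subst hx
    convert Set.finite_empty
    rw [Set.eq_empty_iff_forall_notMem]
    intro P hP
    apply hP
    change P.1 0 ≤ 1
    rw [map_zero]; exact zero_le_one
  refine (finite_support_ord hK x).subset ?_
  intro P hP
  rw [Function.mem_support, ord_ne_zero_iff P hx]
  intro h1
  apply hP
  change P.1 x ≤ 1
  rw [h1]

theorem ADKbig_le_adele (hK : FunFld.IsFunctionField k K) (D : FunFld.Divisor k K) :
    ADKbig D ≤ FunFld.adele k K := by
  apply sup_le (AD_le_adele D)
  rintro _ ⟨x, rfl⟩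
  exact diag_mem_adele hK x

theorem exists_ge_mem_AD {a : FunFld.Place k K → K} (ha : a ∈ FunFld.adele k K)
    (D₁ : FunFld.Divisor k K) : ∃ D₂ : FunFld.Divisor k K, D₁ ≤ D₂ ∧ a ∈ FunFld.AD D₂ := by
  classical
  have hfin : {P : FunFld.Place k K | ¬ P.1 (a P) ≤ 1}.Finite := (mem_adele_iff a).1 ha
  let E : FunFld.Divisor k K := Finsupp.onFinset hfin.toFinset
    (fun P => if P.1 (a P) ≤ 1 then 0 else WithZero.log (P.1 (a P))) (by
      intro P hP
      rw [Set.Finite.mem_toFinset]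
      intro h1
      exact hP (if_pos h1))
  refine ⟨D₁ ⊔ E, le_sup_left, fun P => ?_⟩
  have h1 : P.1 (a P) ≤ WithZero.exp (E P) := by
    change P.1 (a P) ≤ WithZero.exp (if P.1 (a P) ≤ 1 then 0 else WithZero.log (P.1 (a P)))
    split_ifs with h
    · rwa [WithZero.exp_zero]
    · have h0 : P.1 (a P) ≠ 0 := by
        intro h0; apply h; rw [h0]; exact zero_le_one
      rw [WithZero.exp_log h0]
  refine h1.trans (WithZero.exp_le_exp.2 ?_)
  exact (le_sup_right : E ≤ D₁ ⊔ E) P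

theorem exists_place (hK : FunFld.IsFunctionField k K) : Nonempty (FunFld.Place k K) := by
  obtain ⟨x, hx, -⟩ := hK.1
  obtain ⟨P, -⟩ := exists_place_val_lt_one hK hx
  exact ⟨P⟩

theorem deg_pos (hK : FunFld.IsFunctionField k K) (P : FunFld.Place k K) : 0 < P.deg := by
  have := finiteDimensional_residueField hK P
  exact Module.finrank_pos

theorem deg_mono {D₁ D₂ : FunFld.Divisor k K} (h : D₁ ≤ D₂) : D₁.deg ≤ D₂.deg := by
  have h1 : 0 ≤ D₂ - D₁ := sub_nonneg.2 h
  have h2 := deg_nonneg h1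
  rw [deg_sub] at h2
  linarith

theorem deg_single (P : FunFld.Place k K) (n : ℤ) :
    FunFld.Divisor.deg (Finsupp.single P n : FunFld.Divisor k K) = n * P.deg := by
  have := deg_add_single (0 : FunFld.Divisor k K) P n
  rwa [zero_add, deg_zero, zero_add] at this

/-- For every divisor `D` and every bound `N` there is `D₁ ≥ D` with `deg D₁ ≥ N`. -/
theorem exists_ge_deg_ge (hK : FunFld.IsFunctionField k K) (D : FunFld.Divisor k K) (N : ℤ) :
    ∃ D₁ : FunFld.Divisor k K, D ≤ D₁ ∧ N ≤ D₁.deg := by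
  classical
  obtain ⟨P⟩ := exists_place hK
  have hP : (1 : ℤ) ≤ P.deg := by exact_mod_cast deg_pos hK P
  refine ⟨D + Finsupp.single P ((N - D.deg).toNat : ℤ), ?_, ?_⟩
  · apply le_add_of_nonneg_right
    intro Q
    rw [Finsupp.single_apply]
    split_ifs
    · exact Int.natCast_nonneg _
    · exact le_refl _
  · rw [deg_add_single]
    have h1 : N - D.deg ≤ ((N - D.deg).toNat : ℤ) := Int.self_le_toNat _
    have h2 : (0 : ℤ) ≤ ((N - D.deg).toNat : ℤ) := Int.natCast_nonneg _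
    nlinarith

theorem eq_of_finrank_relQuot_eq_zero {V : Type*} [AddCommGroup V] [Module k V]
    {A B : Submodule k V} [FiniteDimensional k (RelQuot A B)]
    (h : Module.finrank k (RelQuot A B) = 0) : B ≤ A := by
  have h1 : Subsingleton (RelQuot A B) := Module.finrank_zero_iff.1 h
  have h2 : Submodule.comap B.subtype A = ⊤ := Submodule.Quotient.subsingleton_iff.1 h1
  intro b hb
  have : (⟨b, hb⟩ : B) ∈ Submodule.comap B.subtype A := by rw [h2]; trivial
  exact this

/-- The adele space is `A(D) + K` as soon as `δ` is constant equal to the genus above `D`. -/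
theorem adele_eq_ADKbig (hK : FunFld.IsFunctionField k K) {D : FunFld.Divisor k K}
    (hD : ∀ D' : FunFld.Divisor k K, D ≤ D' → delta D' = FunFld.genus k K) :
    FunFld.adele k K = ADKbig D := by
  apply le_antisymm _ (ADKbig_le_adele hK D)
  intro a ha
  obtain ⟨D₂, h12, ha₂⟩ := exists_ge_mem_AD ha D
  obtain ⟨hfin, hrank⟩ := finrank_ADKbig_quot hK h12
  rw [hD D₂ h12, hD D le_rfl, sub_self] at hrank
  have h0 : Module.finrank k (RelQuot (ADKbig D) (ADKbig D₂)) = 0 := by exact_mod_cast hrank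
  exact eq_of_finrank_relQuot_eq_zero h0 (Submodule.mem_sup_left ha₂)

/-- `dim A / (A(D) + K) = g - δ(D)`. -/
theorem finrank_adele_quot (hK : FunFld.IsFunctionField k K) (D : FunFld.Divisor k K) :
    FiniteDimensional k (RelQuot (ADKbig D) (FunFld.adele k K)) ∧
      (Module.finrank k (RelQuot (ADKbig D) (FunFld.adele k K)) : ℤ) =
        FunFld.genus k K - delta D := by
  obtain ⟨N, hN⟩ := exists_forall_delta_eq_genus hK
  obtain ⟨D₁, h1, h2⟩ := exists_ge_deg_ge hK D N
  have hD₁ : ∀ D' : FunFld.Divisor k K, D₁ ≤ D' → delta D' = FunFld.genus k K :=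
    fun D' h => hN D' (h2.trans (deg_mono h))
  have e := adele_eq_ADKbig hK hD₁
  rw [e, ← hD₁ D₁ le_rfl]
  exact finrank_ADKbig_quot hK h1

theorem finrank_adele_quot_ADK (hK : FunFld.IsFunctionField k K) (D : FunFld.Divisor k K) :
    FiniteDimensional k (↥(FunFld.adele k K) ⧸ FunFld.ADK D) ∧
    (Module.finrank k (↥(FunFld.adele k K) ⧸ FunFld.ADK D) : ℤ) =
      (FunFld.genus k K : ℤ) - delta D :=
  finrank_adele_quot hK D

theorem finrank_WD (hK : FunFld.IsFunctionField k K) (D : FunFld.Divisor k K) :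
    FiniteDimensional k (FunFld.WD D) ∧
    (Module.finrank k (FunFld.WD D) : ℤ) = (FunFld.genus k K : ℤ) - delta D := by
  obtain ⟨hfin, hrank⟩ := finrank_adele_quot_ADK hK D
  let e : Module.Dual k (↥(FunFld.adele k K) ⧸ FunFld.ADK D) ≃ₗ[k] ↥(FunFld.WD D) :=
    Submodule.dualQuotEquivDualAnnihilator (FunFld.ADK D)
  refine ⟨LinearEquiv.finiteDimensional e, ?_⟩
  rw [← LinearEquiv.finrank_eq e, Subspace.dual_finrank_eq, hrank]

theorem one_le_ell_of_nonneg (hK : FunFld.IsFunctionField k K) {D : FunFld.Divisor k K}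
    (hD : 0 ≤ D) : 1 ≤ FunFld.ell D := by
  have := finiteDimensional_L hK D
  have h1 : Module.finrank k (FunFld.L (0 : FunFld.Divisor k K)) ≤ Module.finrank k (FunFld.L D) :=
    Submodule.finrank_mono (L_mono hD)
  rw [L_zero_eq_one hK, Submodule.one_eq_span, finrank_span_singleton (one_ne_zero)] at h1
  exact h1

theorem exists_ne_zero_mem_WD (hK : FunFld.IsFunctionField k K) {D : FunFld.Divisor k K}
    (h : delta D < FunFld.genus k K) :
    ∃ ω : Module.Dual k (FunFld.adele k K), ω ≠ 0 ∧ ω ∈ FunFld.WD D := by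
  obtain ⟨hfin, hrank⟩ := finrank_WD hK D
  have hpos : 0 < Module.finrank k (FunFld.WD D) := by
    have : (0 : ℤ) < Module.finrank k (FunFld.WD D) := by rw [hrank]; linarith
    exact_mod_cast this
  have hnt : Nontrivial (FunFld.WD D) := Module.finrank_pos_iff.1 hpos
  obtain ⟨ω, hω⟩ := exists_ne (0 : FunFld.WD D)
  refine ⟨ω.1, fun h0 => hω (Subtype.ext h0), ω.2⟩

end Groth.Agent.Lib.H40FunFld
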