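import Groth.Agent.Lib.H40FunFldDeg

/-!
# Function fields of one variable (`FunFld`): Riemann's theorem (the genus is a bound for
`deg D + 1 - ℓ(D)`, attained for all divisors of large degree).
-/

set_option autoImplicit false
open FunFld Polynomial

namespace Groth.Agent.Lib.H40FunFld

universe u v
variable {k : Type u} {K : Type v} [Field k] [Field K] [Algebra k K]

/-- `δ(D) = deg D + 1 - ℓ(D)`. -/
noncomputable def delta (D : FunFld.Divisor k K) : ℤ := D.deg + 1 - (FunFld.ell D : ℤ)

theorem delta_mono (hK : FunFld.IsFunctionField k K) {D₁ D₂ : FunFld.Divisor k K}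
    (h : D₁ ≤ D₂) : delta D₁ ≤ delta D₂ := by
  have := ell_sub_ell_le hK h
  unfold delta; linarith

/-- Multiplication by `z` as a linear equivalence `L(D + (z)) ≃ L(D)`. -/
noncomputable def LmulEquiv (hK : FunFld.IsFunctionField k K) (D : FunFld.Divisor k K) {z : K}
    (hz : z ≠ 0) : ↥(FunFld.L (D + FunFld.div k z)) ≃ₗ[k] ↥(FunFld.L D) where
  toFun y := ⟨z * y.1, by
    have h1 := y.2
    by_cases hy : y.1 = 0
    · rw [hy, mul_zero]; exact Submodule.zero_mem _
    · rw [mem_L_iff_nonneg hK _ hy] at h1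
      rw [mem_L_iff_nonneg hK _ (mul_ne_zero hz hy)]
      have e : FunFld.div k (z * y.1) = FunFld.div k z + FunFld.div k y.1 := by
        ext P
        rw [Finsupp.add_apply, div_apply_of_finite _ (finite_support_ord hK _),
          div_apply_of_finite _ (finite_support_ord hK _),
          div_apply_of_finite _ (finite_support_ord hK _)]
        simp only [FunFld.Place.ord]
        rw [log_val_mul P hz hy]; ring
      rw [e, ← add_assoc]; exact h1⟩
  invFun w := ⟨z⁻¹ * w.1, by
    have h1 := w.2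
    by_cases hw : w.1 = 0
    · rw [hw, mul_zero]; exact Submodule.zero_mem _
    · rw [mem_L_iff_nonneg hK _ hw] at h1
      rw [mem_L_iff_nonneg hK _ (mul_ne_zero (inv_ne_zero hz) hw)]
      have e : FunFld.div k (z⁻¹ * w.1) = -FunFld.div k z + FunFld.div k w.1 := by
        ext P
        rw [Finsupp.add_apply, Finsupp.neg_apply, div_apply_of_finite _ (finite_support_ord hK _),
          div_apply_of_finite _ (finite_support_ord hK _),
          div_apply_of_finite _ (finite_support_ord hK _)]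
        simp only [FunFld.Place.ord]
        rw [log_val_mul P (inv_ne_zero hz) hw, map_inv₀, WithZero.log_inv]; ring
      rw [e]
      have : D + FunFld.div k z + (-FunFld.div k z + FunFld.div k w.1) = D + FunFld.div k w.1 := by
        abel
      rw [this]; exact h1⟩
  map_add' a b := by
    apply Subtype.ext
    change z * (a.1 + b.1) = z * a.1 + z * b.1
    ring
  map_smul' c a := by
    apply Subtype.ext
    change z * (c • a.1) = c • (z * a.1)
    rw [mul_smul_comm]
  left_inv y := by
    apply Subtype.ext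
    change z⁻¹ * (z * y.1) = y.1
    rw [← mul_assoc, inv_mul_cancel₀ hz, one_mul]
  right_inv w := by
    apply Subtype.ext
    change z * (z⁻¹ * w.1) = w.1
    rw [← mul_assoc, mul_inv_cancel₀ hz, one_mul]

theorem ell_add_div (hK : FunFld.IsFunctionField k K) (D : FunFld.Divisor k K) {z : K}
    (hz : z ≠ 0) : FunFld.ell (D + FunFld.div k z) = FunFld.ell D :=
  LinearEquiv.finrank_eq (LmulEquiv hK D hz)

theorem delta_add_div (hK : FunFld.IsFunctionField k K) (D : FunFld.Divisor k K) {z : K}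
    (hz : z ≠ 0) : delta (D + FunFld.div k z) = delta D := by
  unfold delta
  rw [ell_add_div hK D hz, deg_add, deg_div_eq_zero hK]; ring

theorem delta_zero (hK : FunFld.IsFunctionField k K) : delta (0 : FunFld.Divisor k K) = 0 := by
  unfold delta
  rw [deg_zero, FunFld.ell, L_zero_eq_one hK, Submodule.one_eq_span,
    finrank_span_singleton (one_ne_zero)]
  simp

open IntermediateField in
/-- There is `C ≥ 0` with `ℓ(l (x)_∞ + C) ≥ (l + 1) [K : k(x)]` for all `l`. -/
theorem exists_ell_ge (hK : FunFld.IsFunctionField k K) {x : K}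
    (hx : Transcendental k x) [FiniteDimensional k⟮x⟯ K] :
    ∃ C : FunFld.Divisor k K, 0 ≤ C ∧ ∀ l : ℕ,
      (l + 1) * Module.finrank k⟮x⟯ K ≤ FunFld.ell (l • poleDiv (k := k) x + C) := by
  classical
  set n := Module.finrank k⟮x⟯ K with hn
  let u := Module.finBasis k⟮x⟯ K
  set B : FunFld.Divisor k K := poleDiv x with hB
  let C : FunFld.Divisor k K := ∑ j : Fin n, poleDiv (u j)
  have hC0 : 0 ≤ C := Finset.sum_nonneg fun j _ => poleDiv_nonneg _
  have hB0 : 0 ≤ B := poleDiv_nonneg _
  have hCj : ∀ (j : Fin n) (P : FunFld.Place k K), poleDiv (u j) P ≤ C P := by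
    intro j P
    have : poleDiv (k := k) (u j) ≤ C :=
      Finset.single_le_sum (f := fun j : Fin n => poleDiv (k := k) (u j))
        (fun j _ => poleDiv_nonneg _) (Finset.mem_univ j)
    exact this P
  refine ⟨C, hC0, fun l => ?_⟩
  set E : FunFld.Divisor k K := l • B + C with hE
  have hE0 : 0 ≤ E := add_nonneg (nsmul_nonneg hB0 l) hC0
  obtain ⟨hfin, -⟩ := finiteDimensional_L_of_nonneg hK hE0
  have hpow : LinearIndependent k (fun i : Fin (l + 1) => (AdjoinSimple.gen k x) ^ (i : ℕ)) := by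
    have h1 := (linearIndependent_pow_of_transcendental hx).comp (fun i : Fin (l + 1) => (i : ℕ))
      Fin.val_injective
    apply LinearIndependent.of_comp (k⟮x⟯.val.toLinearMap)
    have e : (k⟮x⟯.val.toLinearMap ∘ fun i : Fin (l + 1) => (AdjoinSimple.gen k x) ^ (i : ℕ)) =
        ((fun i : ℕ => x ^ i) ∘ fun i : Fin (l + 1) => (i : ℕ)) := by
      ext i
      simp
    rw [e]
    exact h1
  have hw := linearIndependent_smul hpow u.linearIndependent
  have hmem : ∀ p : Fin (l + 1) × Fin n,
      (AdjoinSimple.gen k x) ^ (p.1 : ℕ) • u p.2 ∈ FunFld.L E := by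
    intro p P
    have e : (AdjoinSimple.gen k x) ^ (p.1 : ℕ) • u p.2 = x ^ (p.1 : ℕ) * u p.2 := by
      rw [IntermediateField.smul_def]
      simp
    rw [e, map_mul, map_pow, hE, Finsupp.add_apply, Finsupp.smul_apply, WithZero.exp_add]
    apply mul_le_mul'
    · have h1 : P.1 x ≤ WithZero.exp (B P) := val_le_exp_poleDiv hK x P
      have h2 : (1 : WithZero (Multiplicative ℤ)) ≤ WithZero.exp (B P) := by
        rw [← WithZero.exp_zero, WithZero.exp_le_exp]; exact hB0 P
      calc P.1 x ^ (p.1 : ℕ) ≤ WithZero.exp (B P) ^ (p.1 : ℕ) := pow_le_pow_left₀ zero_le h1 _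
        _ ≤ WithZero.exp (B P) ^ l := pow_le_pow_right₀ h2 (by have := p.1.2; omega)
        _ = WithZero.exp (l • B P) := by rw [WithZero.exp_nsmul]
    · exact (val_le_exp_poleDiv hK (u p.2) P).trans (WithZero.exp_le_exp.2 (hCj p.2 P))
  let w' : Fin (l + 1) × Fin n → ↥(FunFld.L E) := fun p => ⟨_, hmem p⟩
  have hw' : LinearIndependent k w' := by
    apply LinearIndependent.of_comp (FunFld.L E).subtype
    exact hw
  have hcard := hw'.fintype_card_le_finrank
  rw [Fintype.card_prod, Fintype.card_fin, Fintype.card_fin] at hcard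
  exact hcard

/-- Riemann: `δ(D) = deg D + 1 - ℓ(D)` is bounded above. -/
theorem exists_delta_le (hK : FunFld.IsFunctionField k K) :
    ∃ γ : ℤ, ∀ D : FunFld.Divisor k K, delta D ≤ γ := by
  obtain ⟨x, hx, -⟩ := hK.1
  have hfd := finiteDimensional_adjoin_of_transcendental hK hx
  obtain ⟨hz, hp⟩ := deg_zeroDiv_eq_and_deg_poleDiv_eq hK hx
  set n := Module.finrank (IntermediateField.adjoin k ({x} : Set K)) K with hn
  have hn1 : (1 : ℤ) ≤ n := by
    have : 0 < n := Module.finrank_pos
    exact_mod_cast this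
  set B : FunFld.Divisor k K := poleDiv x with hB
  obtain ⟨C, hC0, hC⟩ := exists_ell_ge hK hx
  have hB0 : 0 ≤ B := poleDiv_nonneg _
  -- bound for multiples of `B`
  have hlB : ∀ l : ℕ, delta (l • B) ≤ 1 - n + C.deg := by
    intro l
    have h1 := ell_sub_ell_le hK (D₁ := l • B) (D₂ := l • B + C) (le_add_of_nonneg_right hC0)
    have h2 : (((l + 1) * n : ℕ) : ℤ) ≤ FunFld.ell (l • B + C) := by exact_mod_cast hC l
    rw [deg_add] at h1
    unfold delta
    rw [deg_nsmul, hp]
    push_cast at h2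
    linarith
  refine ⟨1 - n + C.deg, fun A => ?_⟩
  -- `A₁ = A ⊔ 0`
  set A₁ : FunFld.Divisor k K := A ⊔ 0 with hA₁
  have hA₁0 : 0 ≤ A₁ := le_sup_right
  have hA₁deg : 0 ≤ A₁.deg := deg_nonneg hA₁0
  -- choose `l` large
  set l : ℕ := (A₁.deg + C.deg).toNat + 1 with hl
  have h3 := ell_sub_ell_le hK (D₁ := l • B - A₁) (D₂ := l • B) (sub_le_self _ hA₁0)
  have h4 := hlB l
  unfold delta at h4
  rw [deg_sub, deg_nsmul, hp] at h3
  rw [deg_nsmul, hp] at h4
  have hCdeg : 0 ≤ C.deg := deg_nonneg hC0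
  have h5 : ((A₁.deg + C.deg).toNat : ℤ) = A₁.deg + C.deg := Int.toNat_of_nonneg (by linarith)
  have hpos : 0 < FunFld.ell (l • B - A₁) := by
    have : (0 : ℤ) < FunFld.ell (l • B - A₁) := by
      have hl' : (l : ℤ) = A₁.deg + C.deg + 1 := by rw [hl]; push_cast; rw [h5]
      nlinarith
    exact_mod_cast this
  -- a nonzero element of `L (l B - A₁)`
  have hne : FunFld.L (l • B - A₁) ≠ ⊥ := by
    intro h0
    rw [FunFld.ell, h0, finrank_bot] at hpos
    exact lt_irrefl _ hpos
  obtain ⟨z, hzL, hz0⟩ := Submodule.exists_mem_ne_zero_of_ne_bot hne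
  have h6 := (mem_L_iff_nonneg hK _ hz0).1 hzL
  -- `D = A₁ - div z ≤ l B`
  have hzinv : z⁻¹ ≠ 0 := inv_ne_zero hz0
  have h7 : A₁ + FunFld.div k z⁻¹ ≤ l • B := by
    rw [div_inv hK]
    have : l • B - (A₁ + -FunFld.div k z) = l • B - A₁ + FunFld.div k z := by abel
    rw [← sub_nonneg, this]; exact h6
  calc delta A ≤ delta A₁ := delta_mono hK le_sup_left
    _ = delta (A₁ + FunFld.div k z⁻¹) := (delta_add_div hK A₁ hzinv).symm
    _ ≤ delta (l • B) := delta_mono hK h7
    _ ≤ 1 - n + C.deg := hlB l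

theorem genus_eq : FunFld.genus k K =
    sSup (Set.range fun D : FunFld.Divisor k K => (delta D).toNat) := rfl

theorem bddAbove_delta (hK : FunFld.IsFunctionField k K) :
    BddAbove (Set.range fun D : FunFld.Divisor k K => (delta D).toNat) := by
  obtain ⟨γ, hγ⟩ := exists_delta_le hK
  refine ⟨γ.toNat, ?_⟩
  rintro _ ⟨D, rfl⟩
  exact Int.toNat_le_toNat (hγ D)

theorem delta_le_genus (hK : FunFld.IsFunctionField k K) (D : FunFld.Divisor k K) :
    delta D ≤ FunFld.genus k K := by
  have h1 : (delta D).toNat ≤ FunFld.genus k K := by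
    rw [genus_eq]
    exact le_csSup (bddAbove_delta hK) ⟨D, rfl⟩
  have h2 : delta D ≤ (delta D).toNat := Int.self_le_toNat _
  have h3 : ((delta D).toNat : ℤ) ≤ FunFld.genus k K := by exact_mod_cast h1
  exact h2.trans h3

theorem exists_delta_eq_genus (hK : FunFld.IsFunctionField k K) :
    ∃ D : FunFld.Divisor k K, delta D = FunFld.genus k K := by
  have hne : (Set.range fun D : FunFld.Divisor k K => (delta D).toNat).Nonempty :=
    ⟨_, ⟨0, rfl⟩⟩
  obtain ⟨D, hD⟩ := Nat.sSup_mem hne (bddAbove_delta hK)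
  rw [← genus_eq] at hD
  by_cases h : 0 ≤ delta D
  · refine ⟨D, ?_⟩
    rw [← hD]
    exact (Int.toNat_of_nonneg h).symm
  · refine ⟨0, ?_⟩
    have : (delta D).toNat = 0 := Int.toNat_eq_zero.2 (by omega)
    change (delta D).toNat = _ at hD
    rw [delta_zero hK, ← hD, this]
    rfl

/-- Riemann's theorem: `δ(D) = g` for all `D` of sufficiently large degree. -/
theorem exists_forall_delta_eq_genus (hK : FunFld.IsFunctionField k K) :
    ∃ N : ℤ, ∀ D : FunFld.Divisor k K, N ≤ D.deg → delta D = FunFld.genus k K := by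
  obtain ⟨D₀, hD₀⟩ := exists_delta_eq_genus hK
  refine ⟨D₀.deg + FunFld.genus k K, fun A hA => ?_⟩
  apply le_antisymm (delta_le_genus hK A)
  have h1 := delta_le_genus hK (A - D₀)
  unfold delta at h1
  rw [deg_sub] at h1
  have hpos : 0 < FunFld.ell (A - D₀) := by
    have : (0 : ℤ) < FunFld.ell (A - D₀) := by linarith
    exact_mod_cast this
  have hne : FunFld.L (A - D₀) ≠ ⊥ := by
    intro h0
    rw [FunFld.ell, h0, finrank_bot] at hpos
    exact lt_irrefl _ hpos
  obtain ⟨z, hzL, hz0⟩ := Submodule.exists_mem_ne_zero_of_ne_bot hne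
  have h6 := (mem_L_iff_nonneg hK _ hz0).1 hzL
  have h7 : D₀ ≤ A + FunFld.div k z := by
    have : A + FunFld.div k z - D₀ = A - D₀ + FunFld.div k z := by abel
    rw [← sub_nonneg, this]; exact h6
  calc (FunFld.genus k K : ℤ) = delta D₀ := hD₀.symm
    _ ≤ delta (A + FunFld.div k z) := delta_mono hK h7
    _ = delta A := delta_add_div hK A hz0

end Groth.Agent.Lib.H40FunFld
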