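import Groth.Agent.Lib.FPTr58g
import Groth.Agent.Lib.H40FunFldRiemann
import Groth.Agent.Lib.H40FunFldRes
import Groth.Agent.Lib.H40FunFldApprox
import Groth.Agent.Lib.H40FunFldL
import Groth.Agent.Lib.H40FunFldADK

/-!
# Function fields: the diagonal embedding into a finite product of expansions (helper58)

* `finrank_le_deg`: the coefficient field of an expansion at `P` has degree at most `deg P`.
* `emb`: the diagonal embedding `K → Π P ∈ S, F P ⸨X⸩`, `OS S`: functions regular outside `S`.
-/

set_option autoImplicit false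

namespace Groth.Agent.Lib.FPTr58

open FunFld LaurentSeries HahnSeries Groth.Agent.Lib.H40FunFld

universe u v w

variable {k : Type u} {K : Type v} [Field k] [Field K] [Algebra k K]

theorem finrank_le_deg (hK : FunFld.IsFunctionField k K) (P : FunFld.Place k K)
    {F : Type w} [Field F] [Algebra k F] [FiniteDimensional k F]
    (φ : K →ₐ[k] LaurentSeries F) (hφ : LocRes.IsExpansionAt P.1 φ) :
    Module.finrank k F ≤ P.deg := by
  classical
  have hfin := finiteDimensional_residueField hK P
  let b := Module.finBasis k F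
  have hz : ∀ j, ∃ z : K, P.1 z ≤ 1 ∧ (φ z).coeff 0 = b j := fun j => hφ.2.1 (b j)
  choose z hz1 hz2 using hz
  let r : Fin (Module.finrank k F) → IsLocalRing.ResidueField P.O :=
    fun j => IsLocalRing.residue P.O ⟨z j, hz1 j⟩
  have hli : LinearIndependent k r := by
    rw [Fintype.linearIndependent_iff]
    intro c hc
    set y : P.O := ∑ j, algebraMap k P.O (c j) * ⟨z j, hz1 j⟩ with hy
    set x : K := ∑ j, algebraMap k K (c j) * z j with hx
    have hyx : (y : K) = x := by
      rw [hy, hx]
      simp only [AddSubmonoidClass.coe_finset_sum, MulMemClass.coe_mul]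
      rfl
    have hres : IsLocalRing.residue P.O y = 0 := by
      rw [← hc, hy, map_sum]
      refine Finset.sum_congr rfl fun j _ => ?_
      rw [map_mul]
      rfl
    rw [residue_eq_zero_iff, hyx] at hres
    have hv : Valued.v (φ x) ≤ WithZero.exp (-(1 : ℤ)) := by
      rw [hφ.1]
      exact lt_one_iff_le_exp_neg_one.mp hres
    have h0 : (φ x).coeff 0 = 0 :=
      (LaurentSeries.valuation_le_iff_coeff_lt_eq_zero (K := F)).mp hv 0 (by norm_num)
    have h1 : (φ x).coeff 0 = ∑ j, c j • b j := by
      rw [hx, map_sum]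
      rw [show ((∑ j, φ (algebraMap k K (c j) * z j)) : LaurentSeries F).coeff 0 =
        ∑ j, (φ (algebraMap k K (c j) * z j)).coeff 0 from map_sum (HahnSeries.coeff.addMonoidHom 0) _ _]
      refine Finset.sum_congr rfl fun j _ => ?_
      rw [map_mul, LocRes.map_algebraMap, HahnSeries.C_mul_eq_smul, HahnSeries.coeff_smul, hz2,
        Algebra.smul_def (c j) (b j), smul_eq_mul]
    rw [h1] at h0
    exact Fintype.linearIndependent_iff.mp b.linearIndependent c h0
  have := hli.fintype_card_le_finrank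
  simpa [FunFld.Place.deg] using this

section Emb

variable (F : FunFld.Place k K → Type w) [∀ P, Field (F P)] [∀ P, Algebra k (F P)]
  (φ : ∀ P, K →ₐ[k] LaurentSeries (F P)) (S : Finset (FunFld.Place k K))

/-- The diagonal embedding of `K` into the product of the Laurent series fields at the places of
`S`. -/
noncomputable def emb : K →ₗ[k] LV (fun i : ↥S => F i.1) where
  toFun z := fun i => φ i.1 z
  map_add' x y := by
    funext i
    simp
  map_smul' c x := by
    funext i
    simp only [Pi.smul_apply, RingHom.id_apply]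
    rw [Algebra.smul_def, map_mul, LocRes.map_algebraMap, smul_eq_C_mul]

@[simp] theorem emb_apply (z : K) (i : ↥S) : emb F φ S z i = φ i.1 z := rfl

theorem emb_mul (x y : K) : emb F φ S (x * y) = emb F φ S x * emb F φ S y := by
  funext i
  simp

/-- Functions with no poles outside `S`. -/
def OS : Submodule k K where
  carrier := {z | ∀ P : FunFld.Place k K, P ∉ S → P.1 z ≤ 1}
  add_mem' {x y} hx hy P hP := (P.1.map_add x y).trans (max_le (hx P hP) (hy P hP))
  zero_mem' P _ := by simp
  smul_mem' c x hx P hP := by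
    rw [Algebra.smul_def, map_mul]
    exact (mul_le_mul' (P.2.1 c) (hx P hP)).trans_eq (one_mul _)

theorem mem_OS {z : K} : z ∈ OS (k := k) S ↔ ∀ P : FunFld.Place k K, P ∉ S → P.1 z ≤ 1 := Iff.rfl

theorem mul_mem_OS {x y : K} (hx : x ∈ OS (k := k) S) (hy : y ∈ OS (k := k) S) :
    x * y ∈ OS (k := k) S := by
  intro P hP
  rw [map_mul]
  exact (mul_le_mul' (hx P hP) (hy P hP)).trans_eq (one_mul _)

/-- The image of `OS` in the product. -/
noncomputable def BS : Submodule k (LV (fun i : ↥S => F i.1)) := (OS (k := k) S).map (emb F φ S)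

theorem mulL_mem_BS {u : K} (hu : u ∈ OS (k := k) S) :
    ∀ b ∈ BS F φ S, mulL k (emb F φ S u) b ∈ BS F φ S := by
  rintro _ ⟨z, hz, rfl⟩
  refine ⟨u * z, mul_mem_OS S hu hz, ?_⟩
  rw [emb_mul]
  rfl

/-- The divisor `N · ∑_{P ∈ S} P`. -/
noncomputable def DS (N : ℕ) : FunFld.Divisor k K := ∑ P ∈ S, Finsupp.single P (N : ℤ)

theorem DS_apply (N : ℕ) (Q : FunFld.Place k K) [Decidable (Q ∈ S)] :
    DS S N Q = if Q ∈ S then (N : ℤ) else 0 := by
  classical
  unfold DS
  rw [Finsupp.finset_sum_apply]
  simp only [Finsupp.single_apply]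
  rw [Finset.sum_ite_eq' S Q]
  congr

theorem deg_DS (N : ℕ) : (DS S N).deg = N * ∑ P ∈ S, (P.deg : ℤ) := by
  unfold DS
  rw [deg_sum, Finset.mul_sum]
  refine Finset.sum_congr rfl fun P _ => ?_
  rw [deg_single]

theorem L_DS_le_OS (N : ℕ) : FunFld.L (DS S N) ≤ OS (k := k) S := by
  classical
  intro z hz P hP
  have := hz P
  rwa [DS_apply, if_neg hP, WithZero.exp_zero] at this

variable {F φ} (hφ : ∀ P, LocRes.IsExpansionAt P.1 (φ P))
include hφ

theorem emb_mem_Afil_iff {z : K} {j : ℤ} :
    emb F φ S z ∈ Afil k j ↔ ∀ P ∈ S, P.1 z ≤ WithZero.exp (-j) := by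
  rw [mem_Afil_iff_val]
  constructor
  · intro h P hP
    have := h ⟨P, hP⟩
    rwa [emb_apply, (hφ P).1] at this
  · intro h i
    rw [emb_apply, (hφ i.1).1]
    exact h i.1 i.2

theorem emb_injective_of_nonempty (hS : S.Nonempty) : Function.Injective (emb F φ S) := by
  obtain ⟨P, hP⟩ := hS
  rw [← LinearMap.ker_eq_bot, LinearMap.ker_eq_bot']
  intro z hz
  have := congrFun hz ⟨P, hP⟩
  simp only [emb_apply, Pi.zero_apply] at this
  exact (map_eq_zero_iff (φ P) (φ P).toRingHom.injective).mp this

/-- An element of `L(N · D_S)` whose image is integral lies in `L(0)`. -/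
theorem mem_L_zero_of_emb_mem {N : ℕ} {z : K} (hz : z ∈ FunFld.L (DS S N))
    (hA : emb F φ S z ∈ Afil k 0) : z ∈ FunFld.L (0 : FunFld.Divisor k K) := by
  classical
  intro P
  rw [Finsupp.zero_apply, WithZero.exp_zero]
  by_cases hP : P ∈ S
  · have := (emb_mem_Afil_iff S hφ).mp hA P hP
    rwa [neg_zero, WithZero.exp_zero] at this
  · exact L_DS_le_OS S N hz P hP

theorem emb_mem_Afil_of_mem_L {N : ℕ} {z : K} (hz : z ∈ FunFld.L (DS S N)) :
    emb F φ S z ∈ Afil k (-(N : ℤ)) := by
  classical
  rw [emb_mem_Afil_iff S hφ]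
  intro P hP
  have := hz P
  rwa [DS_apply, if_pos hP, ← neg_neg (N : ℤ)] at this

end Emb

end Groth.Agent.Lib.FPTr58
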