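import Groth.Agent.Lib.FPTr58h
import Mathlib.LinearAlgebra.Dimension.Constructions
import Mathlib.LinearAlgebra.FiniteDimensional.Lemmas

/-!
# Cofiniteness of `A + O_S` in the product of the expansions (helper58)

`exists_cofinite`: `Afil 0 ⊔ BS ⊔ C₁ = ⊤` for a finite-dimensional `C₁` (from Riemann's inequality),
and `finite_inf`: `Afil 0 ⊓ BS` is finite-dimensional.
-/

set_option autoImplicit false

namespace Groth.Agent.Lib.FPTr58

open FunFld LaurentSeries HahnSeries Groth.Agent.Lib.H40FunFld

universe u v w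

section Abstract

variable {k : Type u} [Field k] {ι : Type v} [Fintype ι] {F : ι → Type w} [∀ i, Field (F i)]
  [∀ i, Algebra k (F i)] [∀ i, FiniteDimensional k (F i)]

theorem finrank_Lam_le (M : ℕ) :
    Module.finrank k (Lam k (F := F) M) ≤ M * ∑ i, Module.finrank k (F i) := by
  let Φ : Lam k (F := F) M →ₗ[k] ((i : ι) → Fin M → F i) :=
    { toFun := fun v i j => ((v : LV F) i).coeff (-(M : ℤ) + (j : ℕ))
      map_add' := by
        intro a b
        funext i j
        simp [HahnSeries.coeff_add]
      map_smul' := by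
        intro c a
        funext i j
        simp [HahnSeries.coeff_smul] }
  have hinj : Function.Injective Φ := by
    rw [← LinearMap.ker_eq_bot, LinearMap.ker_eq_bot']
    intro v hv
    apply Subtype.ext
    funext i
    ext n
    by_cases hn : n < -(M : ℤ) ∨ 0 ≤ n
    · exact v.2 i n hn
    · have hn' : -(M : ℤ) ≤ n ∧ n < 0 := by omega
      have hj : (n + M).toNat < M := by omega
      have := congrFun (congrFun hv i) ⟨(n + M).toNat, hj⟩
      have e : -(M : ℤ) + ((n + M).toNat : ℕ) = n := by
        rw [Int.toNat_of_nonneg (by omega)]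
        ring
      simp only [Φ, LinearMap.coe_mk, AddHom.coe_mk, e] at this
      exact this
  have h1 := LinearMap.finrank_le_finrank_of_injective hinj
  have h2 : Module.finrank k ((i : ι) → Fin M → F i) = M * ∑ i, Module.finrank k (F i) := by
    rw [Module.finrank_pi_fintype, Finset.mul_sum]
    refine Finset.sum_congr rfl fun i _ => ?_
    rw [Module.finrank_pi_fintype]
    simp
  rwa [h2] at h1

end Abstract

section FF

variable {k : Type u} {K : Type v} [Field k] [Field K] [Algebra k K]
  {F : FunFld.Place k K → Type w} [∀ P, Field (F P)] [∀ P, Algebra k (F P)]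
  [∀ P, FiniteDimensional k (F P)]
  {φ : ∀ P, K →ₐ[k] LaurentSeries (F P)} (S : Finset (FunFld.Place k K))
  (hK : FunFld.IsFunctionField k K) (hφ : ∀ P, LocRes.IsExpansionAt P.1 (φ P))
include hK hφ

theorem finite_inf : Module.Finite k ↥(Afil k 0 ⊓ BS F φ S) := by
  have h0 : FiniteDimensional k (FunFld.L (0 : FunFld.Divisor k K)) := finiteDimensional_L hK 0
  have hle : Afil k 0 ⊓ BS F φ S ≤ (FunFld.L (0 : FunFld.Divisor k K)).map (emb F φ S) := by
    rintro _ ⟨hA, z, hz, rfl⟩
    refine ⟨z, ?_, rfl⟩
    classical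
    intro P
    rw [Finsupp.zero_apply, WithZero.exp_zero]
    by_cases hP : P ∈ S
    · have := (emb_mem_Afil_iff S hφ).mp hA P hP
      rwa [neg_zero, WithZero.exp_zero] at this
    · exact hz P hP
  exact Submodule.finiteDimensional_of_le hle

/-- Any family in the quotient by `A + O_S` which is linearly independent has at most `g`
elements. -/
theorem card_le_genus (s : Finset (LV (fun i : ↥S => F i.1) ⧸ (Afil k 0 ⊔ BS F φ S)))
    (hs : LinearIndependent k (fun i : s => (i : LV (fun i : ↥S => F i.1) ⧸ (Afil k 0 ⊔ BS F φ S)))) :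
    s.card ≤ FunFld.genus k K := by
  classical
  -- lifts
  have hsurj := Submodule.Quotient.mk_surjective (Afil k 0 ⊔ BS F φ S)
  choose v hv using fun i : s => hsurj (i : _ ⧸ (Afil k 0 ⊔ BS F φ S))
  set wv : s → LV (fun i : ↥S => F i.1) := fun i => lam k (v i) with hw
  have hwv : ∀ i : s, Submodule.Quotient.mk (p := Afil k 0 ⊔ BS F φ S) (wv i) = (i : _ ⧸ (Afil k 0 ⊔ BS F φ S)) := by
    intro i
    rw [← hv i, hw]
    have e : lam k (v i) = v i - pr k (v i) := eq_sub_of_add_eq' (pr_add_lam (k := k) (v i))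
    simp only
    rw [e, Submodule.Quotient.mk_sub, sub_eq_self, Submodule.Quotient.mk_eq_zero]
    exact Submodule.mem_sup_left (pr_mem _)
  -- a common pole bound
  have hM : ∀ i : s, ∃ M : ℕ, v i ∈ Afil k (-(M : ℤ)) := fun i => exists_mem_Afil (v i)
  choose M hM using hM
  set N : ℕ := ∑ i, M i with hN
  have hvN : ∀ i : s, v i ∈ Afil k (-(N : ℤ)) := by
    intro i
    refine Afil_anti ?_ (hM i)
    have : M i ≤ N := Finset.single_le_sum (fun _ _ => Nat.zero_le _) (Finset.mem_univ i)
    omega
  have hwLam : ∀ i : s, wv i ∈ Lam k N := fun i => lam_mem_Lam (hvN i)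
  -- linear independence of the lifts
  have hwli : LinearIndependent k wv := by
    apply LinearIndependent.of_comp (Afil k 0 ⊔ BS F φ S).mkQ
    have : (Afil k 0 ⊔ BS F φ S).mkQ ∘ wv = fun i : s => (i : _ ⧸ (Afil k 0 ⊔ BS F φ S)) := by
      funext i
      exact hwv i
    rw [this]
    exact hs
  set U : Submodule k (LV (fun i : ↥S => F i.1)) := Submodule.span k (Set.range wv) with hU
  have hUfin : Module.Finite k U := FiniteDimensional.span_of_finite k (Set.finite_range wv)
  have hUrank : Module.finrank k U = s.card := by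
    rw [hU, finrank_span_eq_card hwli, Fintype.card_coe]
  have hULam : U ≤ Lam k N := by
    rw [hU, Submodule.span_le]
    rintro _ ⟨i, rfl⟩
    exact hwLam i
  -- principal parts of `L(N D_S)`
  set μ : K →ₗ[k] LV (fun i : ↥S => F i.1) := lam k ∘ₗ emb F φ S with hμ
  set LN : Submodule k K := FunFld.L (DS S N) with hLN
  have hLNfin : FiniteDimensional k LN := finiteDimensional_L hK _
  set PN : Submodule k (LV (fun i : ↥S => F i.1)) := LN.map μ with hPN
  have hPNLam : PN ≤ Lam k N := by
    rintro _ ⟨z, hz, rfl⟩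
    exact lam_mem_Lam (emb_mem_Afil_of_mem_L S hφ hz)
  -- disjointness
  have hdisj : Disjoint U PN := by
    rw [Submodule.disjoint_def]
    intro x hxU hxP
    obtain ⟨c, rfl⟩ := (Submodule.mem_span_range_iff_exists_fun k).mp hxU
    obtain ⟨z, hz, hzx⟩ := hxP
    have h1 : Submodule.Quotient.mk (p := Afil k 0 ⊔ BS F φ S) (∑ i, c i • wv i) = 0 := by
      rw [← hzx, Submodule.Quotient.mk_eq_zero]
      have e : μ z = emb F φ S z - pr k (emb F φ S z) := by
        rw [hμ, LinearMap.comp_apply]
        exact eq_sub_of_add_eq' (pr_add_lam (k := k) (emb F φ S z))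
      rw [e]
      refine Submodule.sub_mem _ (Submodule.mem_sup_right ⟨z, L_DS_le_OS S N hz, rfl⟩)
        (Submodule.mem_sup_left (pr_mem _))
    have h2 : ∑ i, c i • (i : _ ⧸ (Afil k 0 ⊔ BS F φ S)) = 0 := by
      rw [← h1]
      have := map_sum (Afil k 0 ⊔ BS F φ S).mkQ (fun i => c i • wv i) Finset.univ
      simp only [Submodule.mkQ_apply] at this
      rw [this]
      refine Finset.sum_congr rfl fun i _ => ?_
      rw [Submodule.Quotient.mk_smul, hwv i]
    have h3 := Fintype.linearIndependent_iff.mp hs c h2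
    simp [h3]
  -- dimension count
  have hPNfin : Module.Finite k PN := inferInstance
  have hLamfin : Module.Finite k (Lam k (F := fun i : ↥S => F i.1) N) := finite_Lam N
  have hcount : Module.finrank k U + Module.finrank k PN ≤
      Module.finrank k (Lam k (F := fun i : ↥S => F i.1) N) := by
    have h1 := Submodule.finrank_sup_add_finrank_inf_eq U PN
    rw [hdisj.eq_bot, finrank_bot, add_zero] at h1
    rw [← h1]
    exact Submodule.finrank_mono (sup_le hULam hPNLam)
  -- the kernel
  have hker : Module.finrank k LN ≤ Module.finrank k PN + 1 := by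
    have h1 := LinearMap.finrank_range_add_finrank_ker (μ.domRestrict LN)
    have h2 : LinearMap.range (μ.domRestrict LN) = PN := by
      rw [LinearMap.range_domRestrict]
    have h3 : Module.finrank k (LinearMap.ker (μ.domRestrict LN)) ≤ 1 := by
      have hL0 : FunFld.L (0 : FunFld.Divisor k K) = 1 := L_zero_eq_one hK
      have hL0fin : FiniteDimensional k (FunFld.L (0 : FunFld.Divisor k K)) :=
        finiteDimensional_L hK 0
      have hmem : ∀ z : LinearMap.ker (μ.domRestrict LN),
          ((z : LN) : K) ∈ FunFld.L (0 : FunFld.Divisor k K) := by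
        intro z
        have hz : lam k (emb F φ S ((z : LN) : K)) = 0 := z.2
        have hA' : emb F φ S ((z : LN) : K) ∈ Afil k 0 := by
          rw [← pr_add_lam (k := k) (emb F φ S ((z : LN) : K)), hz, add_zero]
          exact pr_mem _
        exact mem_L_zero_of_emb_mem S hφ (z : LN).2 hA'
      let Ψ : LinearMap.ker (μ.domRestrict LN) →ₗ[k] FunFld.L (0 : FunFld.Divisor k K) :=
        { toFun := fun z => ⟨((z : LN) : K), hmem z⟩
          map_add' := fun a b => rfl
          map_smul' := fun c a => rfl }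
      have hΨ : Function.Injective Ψ := by
        intro a b hab
        apply Subtype.ext
        apply Subtype.ext
        exact congrArg (fun x : FunFld.L (0 : FunFld.Divisor k K) => (x : K)) hab
      have h4 := LinearMap.finrank_le_finrank_of_injective hΨ
      have h5 : Module.finrank k (FunFld.L (0 : FunFld.Divisor k K)) = 1 := by
        rw [hL0, Submodule.one_eq_span, finrank_span_singleton one_ne_zero]
      rwa [h5] at h4
    rw [h2] at h1
    omega
  -- Riemann's inequality
  have hR := delta_le_genus hK (DS S N)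
  unfold delta at hR
  rw [deg_DS] at hR
  have hdeg : ∀ P ∈ S, (Module.finrank k (F P) : ℤ) ≤ (P.deg : ℤ) := fun P _ => by
    exact_mod_cast finrank_le_deg hK P (φ P) (hφ P)
  have hLam := finrank_Lam_le (k := k) (F := fun i : ↥S => F i.1) N
  have hsum : (∑ i : ↥S, Module.finrank k (F i.1) : ℕ) = ∑ P ∈ S, Module.finrank k (F P) :=
    Finset.sum_coe_sort S (fun P => Module.finrank k (F P))
  have hsum2 : ((∑ P ∈ S, Module.finrank k (F P) : ℕ) : ℤ) ≤ ∑ P ∈ S, (P.deg : ℤ) := by
    push_cast
    exact Finset.sum_le_sum hdeg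
  have hell : (FunFld.ell (DS S N) : ℤ) = Module.finrank k LN := rfl
  rw [hsum] at hLam
  have h6 : (N : ℤ) * ((∑ P ∈ S, Module.finrank k (F P) : ℕ) : ℤ) ≤ N * ∑ P ∈ S, (P.deg : ℤ) :=
    mul_le_mul_of_nonneg_left hsum2 (by positivity)
  have h7 : ((Module.finrank k U + Module.finrank k PN : ℕ) : ℤ) ≤
      (N : ℤ) * ((∑ P ∈ S, Module.finrank k (F P) : ℕ) : ℤ) := by
    exact_mod_cast le_trans hcount hLam
  have h8 : (Module.finrank k LN : ℤ) ≤ Module.finrank k PN + 1 := by exact_mod_cast hker
  rw [hUrank] at h7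
  push_cast at h7 h6
  have : (s.card : ℤ) ≤ FunFld.genus k K := by linarith
  exact_mod_cast this

theorem exists_cofinite : ∃ C₁ : Submodule k (LV (fun i : ↥S => F i.1)),
    Module.Finite k C₁ ∧ Afil k 0 ⊔ BS F φ S ⊔ C₁ = ⊤ := by
  have hrank : Module.rank k (LV (fun i : ↥S => F i.1) ⧸ (Afil k 0 ⊔ BS F φ S)) ≤
      (FunFld.genus k K : ℕ) := rank_le (fun s hs => card_le_genus S hK hφ s hs)
  have hfin : Module.Finite k (LV (fun i : ↥S => F i.1) ⧸ (Afil k 0 ⊔ BS F φ S)) := by
    rw [← Module.rank_lt_aleph0_iff]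
    exact lt_of_le_of_lt hrank Cardinal.natCast_lt_aleph0
  obtain ⟨C₁, hC₁⟩ := Submodule.exists_isCompl (Afil k 0 ⊔ BS F φ S)
  refine ⟨C₁, ?_, hC₁.sup_eq_top⟩
  exact Module.Finite.equiv (Submodule.quotientEquivOfIsCompl _ _ hC₁)

end FF

end Groth.Agent.Lib.FPTr58
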