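import Groth.Agent.Lib.FPTr58i
import Groth.Agent.Lib.H40FunFld

/-!
# The residue theorem for function fields of one variable (helper58)

`residue_theorem`: for a function field `K/k` with Laurent expansions at all places,
`∑_P Res_P (u dv) = 0`.  Proof after Tate, *Residues of differentials on curves*.
-/

set_option autoImplicit false

namespace Groth.Agent.Lib.FPTr58

open FunFld LaurentSeries HahnSeries Groth.Agent.Lib.H40FunFld

universe u v w

variable {k : Type u} {K : Type v} [Field k] [Field K] [Algebra k K]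

theorem valued_D_le_one {F : Type w} [Field F] {f : LaurentSeries F} (hf : Valued.v f ≤ 1) :
    Valued.v (LocRes.D F f) ≤ 1 := by
  rw [← WithZero.exp_zero, ← neg_zero, valuation_le_iff_coeff_lt_eq_zero] at hf ⊢
  intro n hn
  rw [LocRes.D_coeff]
  by_cases h : n + 1 < 0
  · rw [hf (n + 1) h, smul_zero]
  · have : n + 1 = 0 := by omega
    rw [this, zero_smul]

theorem locRes_eq_zero_of_le_one {F : Type w} [Field F] [Algebra k F] (P : FunFld.Place k K)
    (φ : K →ₐ[k] LaurentSeries F) (hφ : LocRes.IsExpansionAt P.1 φ) {x y : K}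
    (hx : P.1 x ≤ 1) (hy : P.1 y ≤ 1) : LocRes.locRes φ x y = 0 := by
  have h1 : Valued.v (φ x) ≤ 1 := by rw [hφ.1]; exact hx
  have h2 : Valued.v (φ y) ≤ 1 := by rw [hφ.1]; exact hy
  have h3 : Valued.v (φ x * LocRes.D F (φ y)) ≤ 1 := by
    rw [map_mul]
    exact (mul_le_mul' h1 (valued_D_le_one h2)).trans_eq (one_mul _)
  rw [← WithZero.exp_zero, ← neg_zero, valuation_le_iff_coeff_lt_eq_zero] at h3
  unfold LocRes.locRes LocRes.resExp
  rw [LocRes.res_apply, h3 (-1) (by norm_num), map_zero]

theorem val_le_one_of_ord_eq_zero (P : FunFld.Place k K) {x : K} (h : P.ord x = 0) :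
    P.1 x ≤ 1 := by
  by_cases h0 : P.1 x = 0
  · rw [h0]; exact zero_le
  · unfold FunFld.Place.ord at h
    have h1 : WithZero.log (P.1 x) = 0 := by omega
    rw [← WithZero.exp_log h0, h1, WithZero.exp_zero]

variable {F : FunFld.Place k K → Type w} [∀ P, Field (F P)] [∀ P, Algebra k (F P)]
  [∀ P, FiniteDimensional k (F P)]
  {φ : ∀ P, K →ₐ[k] LaurentSeries (F P)}

/-- The sum of the residues over a finite set `S` of places containing all the poles. -/
theorem sum_locRes_eq_zero (hK : FunFld.IsFunctionField k K)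
    (hφ : ∀ P, LocRes.IsExpansionAt P.1 (φ P)) (S : Finset (FunFld.Place k K)) {x y : K}
    (hx : x ∈ OS (k := k) S) (hy : y ∈ OS (k := k) S) :
    ∑ P ∈ S, LocRes.locRes (φ P) x y = 0 := by
  have hAB := finite_inf S hK hφ
  obtain ⟨C₁, hC, htop⟩ := exists_cofinite S hK hφ
  have h0 := fpTr_comm_eq_zero hAB hC htop inE1_pr inE2_one_sub_pr (inE_mulL (emb F φ S x))
    (inE_mulL (emb F φ S y)) (mulL_comm _ _) (mulL_mem_BS F φ S hx) (mulL_mem_BS F φ S hy)
  have h1 : T k (emb F φ S x) (emb F φ S y) = 0 := h0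
  rw [T_eq_R] at h1
  rw [← Finset.sum_coe_sort S (fun P => LocRes.locRes (φ P) x y)]
  exact h1

/-- **The residue theorem.** -/
theorem residue_theorem (hK : FunFld.IsFunctionField k K)
    (hφ : ∀ P, LocRes.IsExpansionAt P.1 (φ P)) (x y : K) :
    (Function.support fun P => LocRes.locRes (φ P) x y).Finite ∧
      ∑ᶠ P, LocRes.locRes (φ P) x y = 0 := by
  classical
  set S : Finset (FunFld.Place k K) :=
    (finite_support_ord hK x).toFinset ∪ (finite_support_ord hK y).toFinset with hS
  have hxS : x ∈ OS (k := k) S := by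
    intro P hP
    apply val_le_one_of_ord_eq_zero
    by_contra h
    apply hP
    rw [hS, Finset.mem_union]
    left
    rw [Set.Finite.mem_toFinset]
    exact h
  have hyS : y ∈ OS (k := k) S := by
    intro P hP
    apply val_le_one_of_ord_eq_zero
    by_contra h
    apply hP
    rw [hS, Finset.mem_union]
    right
    rw [Set.Finite.mem_toFinset]
    exact h
  have hsupp : (Function.support fun P => LocRes.locRes (φ P) x y) ⊆ ↑S := by
    intro P hP
    by_contra hPS
    exact hP (locRes_eq_zero_of_le_one P (φ P) (hφ P) (hxS P hPS) (hyS P hPS))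
  refine ⟨S.finite_toSet.subset hsupp, ?_⟩
  rw [finsum_eq_sum_of_support_subset _ hsupp]
  exact sum_locRes_eq_zero hK hφ S hxS hyS

end Groth.Agent.Lib.FPTr58
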