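/-
helper83: EGA 0_IV 19.7.1.x — existence of flat complete lifts of complete regular local rings.

* `ringKrullDim_mvPowerSeries_fin` : `dim A[[X_1..X_n]] = dim A + n` (Noetherian `A`);
* `powerSeries_step` : from a lift `D` of `B₀` over a regular local `Λ` to a flat lift
  `D[[Y]]` over `Λ[[Y]]` (miracle flatness, helper's S2082);
* `cohen_lift` : a Cohen ring `Λ` mapping to a complete regular local ring `B₀` of residue
  characteristic `p` admits a lift `D = W_K[[T]]` (S2453 structure + S0578 + S2456 lifting);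
* `baseChange_surjective` : base change of a flat lift along a surjection of the base;
* `exists_flat_lift` : **main theorem**, ring hom form (complete Noetherian local base);
* `nonempty_tensor_equiv` : `k ⊗_A B ≃ B₀` from a surjection with kernel `𝔪_A B`.
-/
import Mathlib
import Groth.Agent.Lib.PSRegular33
import Groth.Agent.Lib.H59PowerSeries
import Groth.Agent.Lib.H8CM6
import Groth.Agent.S2082
import Groth.Agent.S2453
import Groth.Agent.S0578
import Groth.Agent.S2456
import Groth.Agent.S0580
import Groth.Agent.Lib.ComplUC33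
import Groth.Agent.Lib.MacLane5H44

set_option autoImplicit false
set_option linter.style.haveILetI false
universe u

namespace Groth.Agent.Lib.FlatLift83

open IsLocalRing

section Dim

variable (A : Type u) [CommRing A]

/-- `A⟦X⟧ / (X) ≃ A`. -/
noncomputable def quotXEquiv : (PowerSeries A ⧸ Ideal.span {(PowerSeries.X : PowerSeries A)}) ≃+* A :=
  RingEquiv.ofBijective
    (Ideal.Quotient.lift (Ideal.span {(PowerSeries.X : PowerSeries A)})
      (PowerSeries.constantCoeff (R := A)) (by
      intro a ha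
      rw [Ideal.mem_span_singleton, PowerSeries.X_dvd_iff] at ha
      exact ha))
    (by
      constructor
      · rw [injective_iff_map_eq_zero]
        intro x hx
        obtain ⟨a, rfl⟩ := Ideal.Quotient.mk_surjective x
        rw [Ideal.Quotient.lift_mk] at hx
        rw [Ideal.Quotient.eq_zero_iff_mem, Ideal.mem_span_singleton, PowerSeries.X_dvd_iff]
        exact hx
      · intro a
        exact ⟨Ideal.Quotient.mk _ (PowerSeries.C a), by rw [Ideal.Quotient.lift_mk]; simp⟩)

theorem ringKrullDim_powerSeries [IsNoetherianRing A] :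
    ringKrullDim (PowerSeries A) = ringKrullDim A + 1 := by
  have hreg : IsSMulRegular (PowerSeries A) (PowerSeries.X : PowerSeries A) := by
    intro a b hab
    have h1 : (PowerSeries.X : PowerSeries A) * a = PowerSeries.X * b := hab
    exact PowerSeries.X_mul_cancel h1
  have hjac : (PowerSeries.X : PowerSeries A) ∈ Ring.jacobson (PowerSeries A) := by
    rw [← Ideal.jacobson_bot, Ideal.mem_jacobson_bot]
    intro y
    rw [PowerSeries.isUnit_iff_constantCoeff]
    simp
  rw [← ringKrullDim_quotient_span_singleton_succ_eq_ringKrullDim_of_mem_jacobson hreg hjac,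
    ringKrullDim_eq_of_ringEquiv (quotXEquiv A)]

theorem ringKrullDim_mvPowerSeries_fin [IsNoetherianRing A] (n : ℕ) :
    ringKrullDim (MvPowerSeries (Fin n) A) = ringKrullDim A + n := by
  induction n with
  | zero =>
    rw [ringKrullDim_eq_of_ringEquiv (MvPowerSeries.isEmptyEquiv (Fin 0) A).toRingEquiv]
    simp
  | succ n ih =>
    rw [ringKrullDim_eq_of_ringEquiv (MvPowerSeries.finSuccEquiv A n).toRingEquiv,
      ringKrullDim_powerSeries, ih, Nat.cast_succ, add_assoc]

end Dim

section PS

open MvPowerSeries Groth.Agent.Lib.H59PowerSeries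

variable {σ : Type*} [Finite σ] {R T : Type*} [CommRing R] [CommRing T]

theorem mem_bigIdeal_iff (J : Ideal R) (f : MvPowerSeries σ R) :
    f ∈ bigIdeal σ J ↔ constantCoeff f ∈ J := by
  rw [← pow_one (bigIdeal σ J), bigIdeal_pow_eq, mem_coeffIdeal]
  constructor
  · intro h
    have := h 0
    rwa [map_zero, Nat.sub_zero, pow_one, coeff_zero_eq_constantCoeff_apply] at this
  · intro h e
    by_cases he : e = 0
    · rw [he, map_zero, Nat.sub_zero, pow_one, coeff_zero_eq_constantCoeff_apply]
      exact h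
    · have : 1 ≤ e.degree := by
        rw [Nat.one_le_iff_ne_zero]
        intro h0
        exact he ((Finsupp.degree_eq_zero_iff e).1 h0)
      rw [Nat.sub_eq_zero_of_le this, pow_zero, Ideal.one_eq_top]
      trivial

theorem map_bigIdeal (f : R →+* T) (J : Ideal R) :
    (bigIdeal σ J).map (MvPowerSeries.map (σ := σ) f) = bigIdeal σ (J.map f) := by
  unfold bigIdeal
  rw [Ideal.map_sup, Ideal.map_span, Ideal.map_map, Ideal.map_map]
  congr 1
  · congr 1
    ext x
    constructor
    · rintro ⟨_, ⟨i, rfl⟩, rfl⟩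
      exact ⟨i, (map_X f i).symm⟩
    · rintro ⟨i, rfl⟩
      exact ⟨X i, ⟨i, rfl⟩, map_X f i⟩
  · congr 1
    ext a
    simp

end PS

section K

open MvPowerSeries Groth.Agent.Lib.H59PowerSeries

variable {Λ D B₀ : Type u} [CommRing Λ] [CommRing D] [CommRing B₀]

/-- The power series step: from a lift `D` of `B₀` over `Λ` to a flat lift over `Λ[[Y_1..Y_n]]`. -/
theorem powerSeries_step [IsRegularLocalRing Λ] [IsRegularLocalRing D]
    [IsAdicComplete (maximalIdeal D) D] (v : Λ →+* D) [IsLocalHom v] (ρD : D →+* B₀)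
    (hρ : Function.Surjective ρD) (hker : RingHom.ker ρD = (maximalIdeal Λ).map v)
    (hdim : ringKrullDim D = ringKrullDim Λ + ringKrullDim B₀) (n : ℕ) :
    IsLocalHom (MvPowerSeries.map (σ := Fin n) v) ∧
    Function.Surjective (ρD.comp (constantCoeff (σ := Fin n) (R := D))) ∧
    RingHom.ker (ρD.comp (constantCoeff (σ := Fin n) (R := D))) =
      (maximalIdeal (MvPowerSeries (Fin n) Λ)).map (MvPowerSeries.map (σ := Fin n) v) ∧
    (MvPowerSeries.map (σ := Fin n) v).Flat ∧
    IsAdicComplete (maximalIdeal (MvPowerSeries (Fin n) D)) (MvPowerSeries (Fin n) D) := by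
  have hloc : IsLocalHom (MvPowerSeries.map (σ := Fin n) v) := by
    constructor
    intro f hf
    rw [MvPowerSeries.isUnit_iff_constantCoeff] at hf ⊢
    rw [constantCoeff_map] at hf
    exact IsLocalHom.map_nonunit _ hf
  have hsurj : Function.Surjective (ρD.comp (constantCoeff (σ := Fin n) (R := D))) := by
    intro b
    obtain ⟨d, rfl⟩ := hρ b
    exact ⟨C d, by simp⟩
  have hker' : RingHom.ker (ρD.comp (constantCoeff (σ := Fin n) (R := D))) =
      (maximalIdeal (MvPowerSeries (Fin n) Λ)).map (MvPowerSeries.map (σ := Fin n) v) := by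
    rw [maximalIdeal_eq_bigIdeal, map_bigIdeal, ← hker]
    ext f
    rw [mem_bigIdeal_iff, RingHom.mem_ker, RingHom.mem_ker, RingHom.comp_apply]
  refine ⟨hloc, hsurj, hker', ?_, ?_⟩
  · -- miracle flatness
    haveI := Groth.Agent.Lib.PSRegular33.isRegularLocalRing_mvPowerSeries_fin Λ n
    haveI := Groth.Agent.Lib.PSRegular33.isRegularLocalRing_mvPowerSeries_fin D n
    haveI := Groth.Agent.Lib.H8CM.isCMLocalRing_of_isRegularLocalRing (R := MvPowerSeries (Fin n) D)
    letI := (MvPowerSeries.map (σ := Fin n) v).toAlgebra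
    haveI : IsLocalHom (algebraMap (MvPowerSeries (Fin n) Λ) (MvPowerSeries (Fin n) D)) := hloc
    show Module.Flat (MvPowerSeries (Fin n) Λ) (MvPowerSeries (Fin n) D)
    apply Groth.Agent.S2082.result
    have e : (MvPowerSeries (Fin n) D ⧸ (maximalIdeal (MvPowerSeries (Fin n) Λ)).map
        (algebraMap (MvPowerSeries (Fin n) Λ) (MvPowerSeries (Fin n) D))) ≃+* B₀ :=
      (Ideal.quotEquivOfEq (by rw [hker']; rfl)).trans
        (RingHom.quotientKerEquivOfSurjective hsurj)
    rw [ringKrullDim_eq_of_ringEquiv e, ringKrullDim_mvPowerSeries_fin, ringKrullDim_mvPowerSeries_fin,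
      hdim]
    exact add_right_comm _ _ _
  · rw [maximalIdeal_eq_bigIdeal]
    exact isAdicComplete_bigIdeal _

end K

section Ker

open MvPowerSeries

variable {σ : Type*} {R T : Type*} [CommRing R] [CommRing T]

theorem ker_map_of_ker_eq_span (f : R →+* T) (a : R) (hf : RingHom.ker f = Ideal.span {a}) :
    RingHom.ker (MvPowerSeries.map (σ := σ) f) = Ideal.span {(C a : MvPowerSeries σ R)} := by
  ext φ
  rw [RingHom.mem_ker, Ideal.mem_span_singleton]
  constructor
  · intro h
    have h1 : ∀ e, ∃ c, coeff e φ = a * c := by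
      intro e
      have : coeff e φ ∈ RingHom.ker f := by
        rw [RingHom.mem_ker, ← coeff_map, h, map_zero]
      rw [hf, Ideal.mem_span_singleton] at this
      exact this
    refine ⟨fun e => Classical.choose (h1 e), ?_⟩
    ext e
    rw [coeff_C_mul]
    exact Classical.choose_spec (h1 e)
  · rintro ⟨ψ, rfl⟩
    rw [map_mul, map_C]
    have : f a = 0 := by
      rw [← RingHom.mem_ker, hf]
      exact Ideal.mem_span_singleton_self a
    rw [this, map_zero, zero_mul]

theorem map_surjective' [Finite σ] (f : R →+* T) (hf : Function.Surjective f) :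
    Function.Surjective (MvPowerSeries.map (σ := σ) f) := by
  intro g
  refine ⟨fun e => Classical.choose (hf (coeff e g)), ?_⟩
  ext e
  rw [coeff_map]
  exact Classical.choose_spec (hf (coeff e g))

end Ker

section Cohen

open MvPowerSeries Groth.Agent.Lib.H59PowerSeries Groth.Agent.Lib.MacLane4H44

variable {Λ B₀ : Type u} [CommRing Λ] [CommRing B₀]

/-- regular complete local ring of characteristic `p` is a power series ring over its residue
field (as a ring). -/
theorem exists_equiv_mvPowerSeries [IsRegularLocalRing B₀] [IsAdicComplete (maximalIdeal B₀) B₀]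
    (p : ℕ) [Fact p.Prime] [CharP B₀ p] :
    ∃ d : ℕ, Nonempty (B₀ ≃+* MvPowerSeries (Fin d) (ResidueField B₀)) := by
  letI : Algebra (PF.{u} p) B₀ :=
    ((ZMod.castHom (dvd_refl p) B₀).comp (pfEquiv p).toRingHom).toAlgebra
  haveI : Algebra.IsGeometricallyReduced (PF.{u} p) (ResidueField B₀) :=
    Groth.Agent.Lib.MacLane5H44.isGeometricallyReduced_of_perfectField (PF.{u} p) (ResidueField B₀)
  have h32 := (Groth.Agent.S2453.result (k := PF.{u} p) (A := B₀)).out 3 2
  obtain ⟨d, ⟨e⟩⟩ := h32.1 (inferInstanceAs (IsRegularLocalRing B₀))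
  exact ⟨d, ⟨(AdicCompletion.ofAlgEquiv (maximalIdeal B₀)).toRingEquiv.trans e⟩⟩

/-- The Cohen ring case: a lift `D` of `B₀` over a Cohen ring `Λ`. -/
theorem cohen_lift [IsRegularLocalRing B₀] [IsAdicComplete (maximalIdeal B₀) B₀]
    [IsDomain Λ] [IsDiscreteValuationRing Λ] {p : ℕ} (hp : p.Prime)
    (hmax : maximalIdeal Λ = Ideal.span {(p : Λ)})
    (τ₀ : Λ →+* B₀) (hτ : maximalIdeal Λ ≤ RingHom.ker τ₀) :
    ∃ (D : Type u) (_ : CommRing D) (_ : IsRegularLocalRing D)
      (_ : IsAdicComplete (maximalIdeal D) D) (v : Λ →+* D) (ρD : D →+* B₀),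
      IsLocalHom v ∧ Function.Surjective ρD ∧ RingHom.ker ρD = (maximalIdeal Λ).map v ∧
        ρD.comp v = τ₀ ∧ ringKrullDim D = ringKrullDim Λ + ringKrullDim B₀ := by
  haveI : Fact p.Prime := ⟨hp⟩
  -- characteristic of `B₀`
  have hp0 : (p : B₀) = 0 := by
    have : (p : Λ) ∈ RingHom.ker τ₀ := hτ (by rw [hmax]; exact Ideal.mem_span_singleton_self _)
    rw [RingHom.mem_ker, map_natCast] at this
    exact this
  haveI : CharP B₀ p := by
    obtain ⟨q, hq⟩ := CharP.exists B₀
    have hdvd : q ∣ p := (CharP.cast_eq_zero_iff B₀ q p).1 hp0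
    rcases (Nat.dvd_prime hp).1 hdvd with h1 | h1
    · subst h1
      exact absurd hq (CharP.char_ne_one B₀ 1 |> fun h => by exact fun _ => h rfl)
    · subst h1
      exact hq
  haveI : CharP (ResidueField B₀) p := by
    refine (CharP.charP_iff_prime_eq_zero hp).mpr ?_
    rw [← map_natCast (residue B₀), hp0, map_zero]
  -- the structure of `B₀`
  obtain ⟨d, ⟨e⟩⟩ := exists_equiv_mvPowerSeries (B₀ := B₀) p
  -- a Cohen ring for the residue field of `B₀`
  obtain ⟨Λ', _, _, hΛ', ⟨resIso⟩⟩ := Groth.Agent.S0578.result p (ResidueField B₀)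
  obtain ⟨hdom, hdvr, hcompl, p', hp', hmax'⟩ := hΛ'
  have hpp : p' = p := by
    have h1 : (p' : Λ') ∈ maximalIdeal Λ' := by rw [hmax']; exact Ideal.mem_span_singleton_self _
    have h2 : residue Λ' (p' : Λ') = 0 := (residue_eq_zero_iff _).mpr h1
    have h3 : ((p' : ℕ) : ResidueField B₀) = 0 := by
      rw [← map_natCast resIso, ← map_natCast (residue Λ'), h2, map_zero]
    have h4 : p ∣ p' := (CharP.cast_eq_zero_iff (ResidueField B₀) p p').1 h3
    exact ((Nat.prime_dvd_prime_iff_eq hp hp').1 h4).symm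
  subst hpp
  haveI : IsRegularLocalRing (MvPowerSeries (Fin d) Λ') :=
    Groth.Agent.Lib.PSRegular33.isRegularLocalRing_mvPowerSeries_fin Λ' d
  have hcD : IsAdicComplete (maximalIdeal (MvPowerSeries (Fin d) Λ')) (MvPowerSeries (Fin d) Λ') := by
    rw [maximalIdeal_eq_bigIdeal]
    exact isAdicComplete_bigIdeal _
  -- the surjection `D → B₀`
  let r : Λ' →+* ResidueField B₀ := resIso.toRingHom.comp (residue Λ')
  have hr : Function.Surjective r := resIso.surjective.comp residue_surjective
  have hkr : RingHom.ker r = Ideal.span {(p' : Λ')} := by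
    rw [← hmax']
    ext x
    rw [RingHom.mem_ker, RingHom.comp_apply]
    simp only [RingEquiv.toRingHom_eq_coe, RingHom.coe_coe, EmbeddingLike.map_eq_zero_iff]
    exact residue_eq_zero_iff x
  let ρD : MvPowerSeries (Fin d) Λ' →+* B₀ := e.symm.toRingHom.comp (MvPowerSeries.map r)
  have hρ : Function.Surjective ρD := e.symm.surjective.comp (map_surjective' r hr)
  have hkρ : RingHom.ker ρD = Ideal.span {((p' : ℕ) : MvPowerSeries (Fin d) Λ')} := by
    have h1 : RingHom.ker ρD = RingHom.ker (MvPowerSeries.map (σ := Fin d) r) := by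
      ext x
      rw [RingHom.mem_ker, RingHom.mem_ker, RingHom.comp_apply]
      simp only [RingEquiv.toRingHom_eq_coe, RingHom.coe_coe, EmbeddingLike.map_eq_zero_iff]
    rw [h1, ker_map_of_ker_eq_span r _ hkr, map_natCast]
  -- lift `τ₀` through `ρD`
  have hJ : RingHom.ker ρD ≠ ⊤ := by
    intro h
    have : (1 : MvPowerSeries (Fin d) Λ') ∈ RingHom.ker ρD := by rw [h]; trivial
    rw [RingHom.mem_ker, map_one] at this
    exact one_ne_zero this
  let eq : (MvPowerSeries (Fin d) Λ' ⧸ RingHom.ker ρD) ≃+* B₀ :=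
    RingHom.quotientKerEquivOfSurjective hρ
  haveI : IsLocalRing (MvPowerSeries (Fin d) Λ' ⧸ RingHom.ker ρD) := eq.symm.isLocalRing
  let u : Λ →+* (MvPowerSeries (Fin d) Λ' ⧸ RingHom.ker ρD) := eq.symm.toRingHom.comp τ₀
  haveI : IsLocalHom u := by
    constructor
    intro x hx
    by_contra hxu
    have hxm : x ∈ maximalIdeal Λ := hxu
    have h0 : τ₀ x = 0 := hτ hxm
    have : u x = 0 := by
      show eq.symm (τ₀ x) = 0
      rw [h0, map_zero]
    rw [this] at hx
    exact not_isUnit_zero hx
  obtain ⟨v, hvloc, hv⟩ := Groth.Agent.S2456.result_cohen hp hmax (RingHom.ker ρD) hJ u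
  have hρv : ρD.comp v = τ₀ := by
    ext x
    have h1 := RingHom.congr_fun hv x
    have h2 : eq (Ideal.Quotient.mk (RingHom.ker ρD) (v x)) = ρD (v x) :=
      RingHom.quotientKerEquivOfSurjective_apply_mk hρ (v x)
    rw [RingHom.comp_apply, ← h2]
    have h3 : (Ideal.Quotient.mk (RingHom.ker ρD)) (v x) = eq.symm (τ₀ x) := h1
    rw [h3, RingEquiv.apply_symm_apply]
  refine ⟨MvPowerSeries (Fin d) Λ', inferInstance, inferInstance, hcD, v, ρD, hvloc, hρ, ?_, hρv, ?_⟩
  · rw [hkρ, hmax, Ideal.map_span, Set.image_singleton, map_natCast]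
  · have hd1 : ringKrullDim Λ = 1 :=
      IsPrincipalIdealRing.ringKrullDim_eq_one Λ (IsDiscreteValuationRing.not_isField Λ)
    have hd2 : ringKrullDim Λ' = 1 :=
      IsPrincipalIdealRing.ringKrullDim_eq_one Λ' (IsDiscreteValuationRing.not_isField Λ')
    rw [ringKrullDim_mvPowerSeries_fin, ringKrullDim_eq_of_ringEquiv e,
      ringKrullDim_mvPowerSeries_fin, hd1, hd2, ringKrullDim_eq_zero_of_field, zero_add]

end Cohen

section BaseChange

variable {R S A' B₀ : Type u} [CommRing R] [CommRing S] [CommRing A'] [CommRing B₀]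

/-- Quotients of a Noetherian adically complete ring are adically complete (as in helper94's
`H94Rig1.isAdicComplete_quotient`). -/
theorem isAdicComplete_quotient' [IsNoetherianRing S] (I : Ideal S) [IsAdicComplete I S]
    (K : Ideal S) : IsAdicComplete (I.map (Ideal.Quotient.mk K)) (S ⧸ K) := by
  have h0 : IsAdicComplete (I.map (algebraMap S (S ⧸ K))) (S ⧸ K) := by
    rw [IsAdicComplete.map_algebraMap_iff (R := S) (S := S ⧸ K) (M := S ⧸ K)]
    have hH : IsHausdorff I (S ⧸ K) :=
      IsHausdorff.of_le_jacobson _ _ (IsAdicComplete.le_jacobson_bot I)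
    have hP : IsPrecomplete I (S ⧸ K) := by
      rw [← AdicCompletion.of_surjective_iff]
      intro y
      obtain ⟨x', hx'⟩ := AdicCompletion.map_surjective I
        (f := Submodule.mkQ K) (Submodule.mkQ_surjective K) y
      obtain ⟨b, hb⟩ := (AdicCompletion.of_surjective_iff (I := I) (M := S)).2 inferInstance x'
      refine ⟨Submodule.mkQ K b, ?_⟩
      rw [← AdicCompletion.map_of, hb, hx']
    exact { toIsHausdorff := hH, toIsPrecomplete := hP }
  exact h0

/-- Base change of a flat lift along a surjection of the base. -/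
theorem baseChange_surjective [IsLocalRing R] [IsLocalRing S] [IsLocalRing A'] [Nontrivial B₀]
    [IsNoetherianRing S] [IsAdicComplete (maximalIdeal S) S]
    (ψ : R →+* S) [IsLocalHom ψ] (hψ : ψ.Flat) (f : R →+* A') (hf : Function.Surjective f)
    (ρ : S →+* B₀) (hρ : Function.Surjective ρ) (hker : RingHom.ker ρ = (maximalIdeal R).map ψ)
    (σ : A' →+* B₀) (hσ : σ.comp f = ρ.comp ψ) :
    ∃ (B : Type u) (_ : CommRing B) (_ : IsLocalRing B) (_ : IsNoetherianRing B)
      (φ : A' →+* B) (ρ' : B →+* B₀), IsLocalHom φ ∧ IsAdicComplete (maximalIdeal B) B ∧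
        φ.Flat ∧ Function.Surjective ρ' ∧ RingHom.ker ρ' = (maximalIdeal A').map φ ∧
        ρ'.comp φ = σ := by
  set I : Ideal S := (RingHom.ker f).map ψ with hI
  have hkf : RingHom.ker f ≠ ⊤ := RingHom.ker_ne_top f
  have hIle : I ≤ RingHom.ker ρ := by
    rw [hker]
    exact Ideal.map_mono (le_maximalIdeal hkf)
  have hρtop : RingHom.ker ρ ≠ ⊤ := RingHom.ker_ne_top ρ
  have hItop : I ≠ ⊤ := fun h => hρtop (top_le_iff.mp (h ▸ hIle))
  haveI : Nontrivial (S ⧸ I) := Ideal.Quotient.nontrivial_iff.mpr hItop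
  haveI : IsLocalRing (S ⧸ I) :=
    IsLocalRing.of_surjective' (Ideal.Quotient.mk I) Ideal.Quotient.mk_surjective
  -- the maps
  let eqf : (R ⧸ RingHom.ker f) ≃+* A' := RingHom.quotientKerEquivOfSurjective hf
  let ψ' : (R ⧸ RingHom.ker f) →+* (S ⧸ I) := Ideal.quotientMap I ψ Ideal.le_comap_map
  let φ : A' →+* (S ⧸ I) := ψ'.comp eqf.symm.toRingHom
  have hφf : ∀ r : R, φ (f r) = Ideal.Quotient.mk I (ψ r) := by
    intro r
    have h1 : eqf.symm (f r) = Ideal.Quotient.mk (RingHom.ker f) r := by
      rw [RingEquiv.symm_apply_eq]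
      exact (RingHom.quotientKerEquivOfSurjective_apply_mk hf r).symm
    show ψ' (eqf.symm (f r)) = _
    rw [h1]
    exact Ideal.quotientMap_mk
  let ρ' : (S ⧸ I) →+* B₀ := Ideal.Quotient.lift I ρ (fun a ha => hIle ha)
  have hρ's : Function.Surjective ρ' := by
    intro b
    obtain ⟨s, rfl⟩ := hρ b
    exact ⟨Ideal.Quotient.mk I s, Ideal.Quotient.lift_mk _ _ _⟩
  have hcomp : ρ'.comp φ = σ := by
    ext a
    obtain ⟨r, rfl⟩ := hf a
    rw [RingHom.comp_apply, hφf, Ideal.Quotient.lift_mk]
    exact (RingHom.congr_fun hσ r).symm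
  haveI hfloc : IsLocalHom f := IsLocalHom.of_surjective f hf
  have hmf : (maximalIdeal R).map f = maximalIdeal A' := map_maximalIdeal_of_surjective f hf
  have hφloc : IsLocalHom φ := by
    constructor
    intro a ha
    obtain ⟨r, rfl⟩ := hf a
    rw [hφf] at ha
    have h1 : IsUnit (ψ r) :=
      (IsLocalHom.of_surjective (Ideal.Quotient.mk I) Ideal.Quotient.mk_surjective).map_nonunit _ ha
    exact (IsLocalHom.map_nonunit (f := ψ) r h1).map f
  have hkρ' : RingHom.ker ρ' = (maximalIdeal A').map φ := by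
    have h1 : (maximalIdeal A').map φ = ((maximalIdeal R).map ψ).map (Ideal.Quotient.mk I) := by
      rw [← hmf, Ideal.map_map, Ideal.map_map]
      congr 1
      ext r
      exact hφf r
    rw [h1, ← hker]
    ext b
    obtain ⟨s, rfl⟩ := Ideal.Quotient.mk_surjective b
    rw [RingHom.mem_ker, Ideal.Quotient.lift_mk]
    constructor
    · intro h
      exact Ideal.mem_map_of_mem _ (RingHom.mem_ker.mpr h)
    · intro h
      rw [Ideal.mem_map_iff_of_surjective _ Ideal.Quotient.mk_surjective] at h
      obtain ⟨s', hs', hss'⟩ := h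
      have h2 : s' - s ∈ I := by
        rw [← Ideal.Quotient.eq]
        exact hss'
      have h3 : ρ (s' - s) = 0 := RingHom.mem_ker.mp (hIle h2)
      rw [map_sub, RingHom.mem_ker.mp hs', zero_sub, neg_eq_zero] at h3
      exact h3
  have hcompl : IsAdicComplete (maximalIdeal (S ⧸ I)) (S ⧸ I) := by
    rw [← map_maximalIdeal_of_surjective (Ideal.Quotient.mk I) Ideal.Quotient.mk_surjective]
    exact isAdicComplete_quotient' _ _
  have hflat : φ.Flat := by
    refine RingHom.Flat.comp (RingHom.Flat.of_bijective eqf.symm.bijective) ?_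
    letI := ψ.toAlgebra
    haveI : Module.Flat R S := hψ
    have h1 : Module.Flat (R ⧸ RingHom.ker f) (S ⧸ (RingHom.ker f).map (algebraMap R S)) :=
      Module.Flat.of_linearEquiv
        (Algebra.TensorProduct.quotIdealMapEquivQuotTensor S (RingHom.ker f)).toLinearEquiv
    exact RingHom.flat_algebraMap_iff.mpr h1
  exact ⟨S ⧸ I, inferInstance, inferInstance, inferInstance, φ, ρ', hφloc, hcompl, hflat, hρ's,
    hkρ', hcomp⟩

end BaseChange

section Main

open MvPowerSeries

variable {B₀ : Type u} [CommRing B₀]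

/-- Coefficient ring step, both cases. -/
theorem coeff_lift [IsRegularLocalRing B₀] [IsAdicComplete (maximalIdeal B₀) B₀]
    (Λ : Type u) [CommRing Λ] (hΛ : IsField Λ ∨ CAlg.IsCohenRing Λ) [IsRegularLocalRing Λ]
    (τ₀ : Λ →+* B₀) (hτ : maximalIdeal Λ ≤ RingHom.ker τ₀) :
    ∃ (D : Type u) (_ : CommRing D) (_ : IsRegularLocalRing D)
      (_ : IsAdicComplete (maximalIdeal D) D) (v : Λ →+* D) (ρD : D →+* B₀),
      IsLocalHom v ∧ Function.Surjective ρD ∧ RingHom.ker ρD = (maximalIdeal Λ).map v ∧
        ρD.comp v = τ₀ ∧ ringKrullDim D = ringKrullDim Λ + ringKrullDim B₀ := by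
  rcases hΛ with hfield | hcohen
  · have hm : maximalIdeal Λ = ⊥ := isField_iff_maximalIdeal_eq.mp hfield
    refine ⟨B₀, inferInstance, inferInstance, inferInstance, τ₀, RingHom.id B₀, ?_,
      Function.surjective_id, ?_, RingHom.id_comp τ₀, ?_⟩
    · constructor
      intro x hx
      by_contra hxu
      have hxm : x ∈ maximalIdeal Λ := hxu
      rw [hm, Ideal.mem_bot] at hxm
      rw [hxm, map_zero] at hx
      exact not_isUnit_zero hx
    · rw [hm, Ideal.map_bot]
      ext x
      simp
    · rw [ringKrullDim_eq_zero_of_isField hfield, zero_add]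
  · obtain ⟨hdom, hdvr, -, p, hp, hmax⟩ := hcohen
    exact cohen_lift hp hmax τ₀ hτ

/-- **Flat lifts of complete regular local rings** (ring hom form): for a complete Noetherian
local ring `A'` and a ring map `σ : A' → B₀` killing the maximal ideal, with `B₀` a complete
regular local ring, there is a complete Noetherian local ring `B`, flat over `A'` via a local
homomorphism `φ`, with `B / 𝔪_{A'} B ≅ B₀` compatibly with `σ`. -/
theorem exists_flat_lift [IsRegularLocalRing B₀] [IsAdicComplete (maximalIdeal B₀) B₀]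
    (A' : Type u) [CommRing A'] [IsLocalRing A'] [IsNoetherianRing A']
    [IsAdicComplete (maximalIdeal A') A'] (σ : A' →+* B₀) (hσ : maximalIdeal A' ≤ RingHom.ker σ) :
    ∃ (B : Type u) (_ : CommRing B) (_ : IsLocalRing B) (_ : IsNoetherianRing B)
      (φ : A' →+* B) (ρ' : B →+* B₀), IsLocalHom φ ∧ IsAdicComplete (maximalIdeal B) B ∧
        φ.Flat ∧ Function.Surjective ρ' ∧ RingHom.ker ρ' = (maximalIdeal A').map φ ∧
        ρ'.comp φ = σ := by
  obtain ⟨Λ, _, n, f, hΛ, hf⟩ := Groth.Agent.S0580.result A'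
    ((isNoetherianRing_iff_ideal_fg A').mp inferInstance _)
  haveI : IsRegularLocalRing Λ := by
    rcases hΛ with h | h
    · exact Groth.Agent.Lib.ComplUC33.isRegularLocalRing_of_isField Λ h
    · exact Groth.Agent.Lib.ComplUC33.isRegularLocalRing_of_isCohenRing Λ h
  haveI hfloc : IsLocalHom f := IsLocalHom.of_surjective f hf
  -- `τ = σ ∘ f` kills the maximal ideal
  have hτ : ∀ g : MvPowerSeries (Fin n) Λ, g ∈ maximalIdeal (MvPowerSeries (Fin n) Λ) →
      σ (f g) = 0 := by
    intro g hg
    have : f g ∈ maximalIdeal A' := by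
      by_contra h
      have h1 : IsUnit (f g) := notMem_maximalIdeal.mp h
      exact hg (IsLocalHom.map_nonunit (f := f) g h1)
    exact RingHom.mem_ker.mp (hσ this)
  let τ₀ : Λ →+* B₀ := (σ.comp f).comp (C (σ := Fin n) (R := Λ))
  have hτ₀ : maximalIdeal Λ ≤ RingHom.ker τ₀ := by
    intro a ha
    rw [RingHom.mem_ker]
    apply hτ
    rw [mem_maximalIdeal, mem_nonunits_iff, MvPowerSeries.isUnit_iff_constantCoeff,
      constantCoeff_C]
    exact ha
  obtain ⟨D, _, _, hcD, v, ρD, hvloc, hρD, hkD, hρv, hdim⟩ := coeff_lift Λ hΛ τ₀ hτ₀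
  obtain ⟨hψloc, hρs, hkρ, hψflat, hcS⟩ := powerSeries_step v ρD hρD hkD hdim n
  have hcomp : σ.comp f = (ρD.comp (constantCoeff (σ := Fin n) (R := D))).comp
      (MvPowerSeries.map (σ := Fin n) v) := by
    ext g
    simp only [RingHom.comp_apply]
    rw [constantCoeff_map]
    have h1 : ρD (v (constantCoeff g)) = σ (f (C (constantCoeff g))) :=
      RingHom.congr_fun hρv (constantCoeff g)
    rw [h1]
    have h2 : g - C (constantCoeff g) ∈ maximalIdeal (MvPowerSeries (Fin n) Λ) := by
      rw [mem_maximalIdeal, mem_nonunits_iff, MvPowerSeries.isUnit_iff_constantCoeff, map_sub,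
        constantCoeff_C, sub_self]
      exact not_isUnit_zero
    have h3 := hτ _ h2
    rw [map_sub, map_sub, sub_eq_zero] at h3
    exact h3
  exact baseChange_surjective (MvPowerSeries.map (σ := Fin n) v) hψflat f hf
    (ρD.comp (constantCoeff (σ := Fin n) (R := D))) hρs hkρ σ hcomp

end Main

section Tensor

open TensorProduct

/-- From a surjection `ρ : B → B₀` with kernel `𝔪_A B` to the isomorphism `k ⊗_A B ≅ B₀`. -/
theorem nonempty_tensor_equiv {A B B₀ : Type u} [CommRing A] [IsLocalRing A] [CommRing B]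
    [Algebra A B] [CommRing B₀] [Algebra (ResidueField A) B₀] (ρ : B →+* B₀)
    (hρ : Function.Surjective ρ)
    (hker : RingHom.ker ρ = (maximalIdeal A).map (algebraMap A B))
    (hcomp : ∀ a : A, ρ (algebraMap A B a) = algebraMap (ResidueField A) B₀ (residue A a)) :
    Nonempty (ResidueField A ⊗[A] B ≃ₐ[ResidueField A] B₀) := by
  letI : Algebra A B₀ := ((algebraMap (ResidueField A) B₀).comp (algebraMap A (ResidueField A))).toAlgebra
  haveI : IsScalarTower A (ResidueField A) B₀ := IsScalarTower.of_algebraMap_eq (fun _ => rfl)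
  let ρa : B →ₐ[A] B₀ := { ρ with commutes' := fun a => hcomp a }
  let g : ResidueField A ⊗[A] B →ₐ[ResidueField A] B₀ :=
    Algebra.TensorProduct.lift (Algebra.ofId (ResidueField A) B₀) ρa (fun _ _ => Commute.all _ _)
  have hg : ∀ b : B, g (1 ⊗ₜ b) = ρ b := by
    intro b
    show g ((1 : ResidueField A) ⊗ₜ[A] b) = ρ b
    rw [Algebra.TensorProduct.lift_tmul, map_one, one_mul]
    rfl
  have hone : ∀ t : ResidueField A ⊗[A] B, ∃ b : B, t = 1 ⊗ₜ b := by
    intro t
    induction t using TensorProduct.induction_on with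
    | zero => exact ⟨0, (TensorProduct.tmul_zero _ _).symm⟩
    | tmul x b =>
      obtain ⟨a, rfl⟩ := residue_surjective x
      refine ⟨a • b, ?_⟩
      rw [TensorProduct.tmul_smul, TensorProduct.smul_tmul', Algebra.smul_def, mul_one]
      rfl
    | add x y hx hy =>
      obtain ⟨b, rfl⟩ := hx
      obtain ⟨c, rfl⟩ := hy
      exact ⟨b + c, (TensorProduct.tmul_add _ _ _).symm⟩
  -- the ideal of `b` with `1 ⊗ b = 0`
  let N : Ideal B :=
    { carrier := {b | (1 : ResidueField A) ⊗ₜ[A] b = 0}
      add_mem' := by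
        intro b c hb hc
        show (1 : ResidueField A) ⊗ₜ[A] (b + c) = 0
        rw [TensorProduct.tmul_add, hb, hc, add_zero]
      zero_mem' := TensorProduct.tmul_zero _ _
      smul_mem' := by
        intro c b hb
        show (1 : ResidueField A) ⊗ₜ[A] (c • b) = 0
        have : (1 : ResidueField A) ⊗ₜ[A] (c • b) =
            ((1 : ResidueField A) ⊗ₜ[A] c) * ((1 : ResidueField A) ⊗ₜ[A] b) := by
          rw [Algebra.TensorProduct.tmul_mul_tmul, one_mul, smul_eq_mul]
        rw [this, hb, mul_zero] }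
  have hN : (maximalIdeal A).map (algebraMap A B) ≤ N := by
    rw [Ideal.map_le_iff_le_comap]
    intro a ha
    show (1 : ResidueField A) ⊗ₜ[A] (algebraMap A B a) = 0
    rw [Algebra.algebraMap_eq_smul_one, TensorProduct.tmul_smul, TensorProduct.smul_tmul',
      Algebra.smul_def, mul_one]
    have : algebraMap A (ResidueField A) a = 0 := (residue_eq_zero_iff a).mpr ha
    rw [this, TensorProduct.zero_tmul]
  refine ⟨AlgEquiv.ofBijective g ⟨?_, ?_⟩⟩
  · rw [injective_iff_map_eq_zero]
    intro t ht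
    obtain ⟨b, rfl⟩ := hone t
    rw [hg] at ht
    have : b ∈ RingHom.ker ρ := ht
    rw [hker] at this
    exact hN this
  · intro b₀
    obtain ⟨b, rfl⟩ := hρ b₀
    exact ⟨1 ⊗ₜ b, hg b⟩

end Tensor

end Groth.Agent.Lib.FlatLift83
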