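import Groth.Agent.Lib.FSFibre2
import Groth.Agent.Lib.FSFlat2
import Groth.Agent.Lib.FlatLift83
import Groth.Agent.Lib.AdicFSField50
import Groth.Agent.Lib.AdicClosed
import Groth.Agent.Lib.AdicNoeth
import Groth.Agent.S4543
import Groth.Agent.S2462
import Groth.Agent.S4537

/-!
# Flat complete lifts of formally smooth algebras: existence and uniqueness (helper89)

EGA 0_IV 19.7.2.
-/

set_option autoImplicit false
universe u

namespace Groth.Agent.Lib.FSLift89

open IsLocalRing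

/-- Lifting maps from an adically formally smooth algebra into a complete Noetherian local ring
along an arbitrary proper ideal (discrete base). -/
theorem exists_lift {A B C : Type u} [CommRing A] [CommRing B] [Algebra A B] {𝔟 : Ideal B}
    (hB : CAlgX.IsAdicFormallySmooth A B 𝔟)
    [CommRing C] [IsLocalRing C] [IsNoetherianRing C] [IsAdicComplete (maximalIdeal C) C]
    [Algebra A C] (I : Ideal C) (hI : I ≠ ⊤) (u : B →ₐ[A] C ⧸ I)
    (hu : 𝔟.map u.toRingHom ≤ (maximalIdeal C).map (Ideal.Quotient.mk I)) :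
    ∃ v : B →ₐ[A] C, (Ideal.Quotient.mkₐ A I).comp v = u := by
  obtain ⟨v, -, hv⟩ := Groth.Agent.S2462.result (⊥ : Ideal A) 𝔟
    ((Groth.Agent.S4537.result 𝔟).mp hB) (by rw [Ideal.map_bot]; exact bot_le) I hI u hu
  exact ⟨v, hv⟩

/-- A map of `A`-algebras which is an isomorphism modulo `J` is bijective, when the source is
`J`-adically complete, the target `J`-adically separated and flat. -/
theorem bijective_of_mod {A B B' P : Type*} [CommRing A] (J : Ideal A) [CommRing B] [CommRing B']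
    [Algebra A B] [Algebra A B'] [CommRing P]
    [IsAdicComplete (J.map (algebraMap A B)) B] [IsHausdorff (J.map (algebraMap A B')) B']
    [Module.Flat A B']
    (v : B →ₐ[A] B') (π : B →+* P) (π' : B' →+* P) (hπ : Function.Surjective π)
    (hkπ : RingHom.ker π = J.map (algebraMap A B))
    (hkπ' : RingHom.ker π' = J.map (algebraMap A B'))
    (hcomp : ∀ b, π' (v b) = π b) : Function.Bijective v := by
  have : IsAdicComplete J B := (IsAdicComplete.map_algebraMap_iff (S := B) J B).mp inferInstance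
  have : IsHausdorff J B' := (IsHausdorff.map_algebraMap_iff (S := B') (I := J) (M := B')).mp
    inferInstance
  have hmem : ∀ y : B', y ∈ J • (⊤ : Submodule A B') ↔ y ∈ J.map (algebraMap A B') := by
    intro y; rw [Ideal.smul_top_eq_map]; rfl
  have hmemB : ∀ y : B, y ∈ J • (⊤ : Submodule A B) ↔ y ∈ J.map (algebraMap A B) := by
    intro y; rw [Ideal.smul_top_eq_map]; rfl
  have hs : ∀ y : B', ∃ x : B, y - v.toLinearMap x ∈ J • (⊤ : Submodule A B') := by
    intro y
    obtain ⟨x, hx⟩ := hπ (π' y)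
    refine ⟨x, ?_⟩
    rw [hmem, ← hkπ', RingHom.mem_ker, map_sub]
    change π' y - π' (v x) = 0
    rw [hcomp, hx, sub_self]
  have hinj : ∀ x : B, v.toLinearMap x ∈ J • (⊤ : Submodule A B') →
      x ∈ J • (⊤ : Submodule A B) := by
    intro x hx
    rw [hmem, ← hkπ', RingHom.mem_ker] at hx
    change π' (v x) = 0 at hx
    rw [hmemB, ← hkπ, RingHom.mem_ker, ← hcomp, hx]
  have hsurj' : Function.Surjective v.toLinearMap :=
    Groth.Agent.S4543.surjective_of_complete J v.toLinearMap hs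
  have hinj' : Function.Injective v.toLinearMap :=
    Groth.Agent.S4543.injective_of_flat J v.toLinearMap hsurj' hinj
  exact ⟨hinj', hsurj'⟩

/-- **Uniqueness of flat complete lifts** (ring hom form).  `B` adically formally smooth over `A`,
`B'` flat over `A`, both complete Noetherian local, with compatible surjections onto `P` with
kernels `J B`, `J B'`: then `B ≅ B'` over `A`, compatibly with the surjections. -/
theorem exists_algEquiv_of_lifts {A B B' P : Type u} [CommRing A] (J : Ideal A)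
    [CommRing B] [IsLocalRing B] [IsNoetherianRing B] [IsAdicComplete (maximalIdeal B) B]
    [Algebra A B]
    [CommRing B'] [IsLocalRing B'] [IsNoetherianRing B'] [IsAdicComplete (maximalIdeal B') B']
    [Algebra A B'] [Module.Flat A B'] [CommRing P] [Nontrivial P]
    (hfs : CAlgX.IsAdicFormallySmooth A B (maximalIdeal B))
    (π : B →+* P) (π' : B' →+* P) (hπ : Function.Surjective π) (hπ' : Function.Surjective π')
    (hkπ : RingHom.ker π = J.map (algebraMap A B))
    (hkπ' : RingHom.ker π' = J.map (algebraMap A B'))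
    (hcomp : ∀ a, π (algebraMap A B a) = π' (algebraMap A B' a)) :
    ∃ v : B ≃ₐ[A] B', ∀ b, π' (v b) = π b := by
  set I : Ideal B' := RingHom.ker π' with hI
  have hIne : I ≠ ⊤ := RingHom.ker_ne_top π'
  have hkne : RingHom.ker π ≠ ⊤ := RingHom.ker_ne_top π
  let e : B' ⧸ I ≃+* P := RingHom.quotientKerEquivOfSurjective hπ'
  have he : ∀ b', e (Ideal.Quotient.mk I b') = π' b' := fun b' => rfl
  have hesymm : ∀ b', e.symm (π' b') = Ideal.Quotient.mk I b' := fun b' => by
    rw [← he, RingEquiv.symm_apply_apply]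
  have _ : Nontrivial (B' ⧸ I) := Ideal.Quotient.nontrivial_iff.mpr hIne
  have _ : IsLocalRing (B' ⧸ I) :=
    IsLocalRing.of_surjective' (Ideal.Quotient.mk I) Ideal.Quotient.mk_surjective
  let u : B →ₐ[A] B' ⧸ I :=
    { toRingHom := e.symm.toRingHom.comp π
      commutes' := fun a => by
        change e.symm (π (algebraMap A B a)) = _
        rw [hcomp, hesymm]
        rfl }
  have hu : ∀ b, u b = e.symm (π b) := fun b => rfl
  have husurj : Function.Surjective u.toRingHom := fun y => by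
    obtain ⟨b, hb⟩ := hπ (e y)
    exact ⟨b, by change e.symm (π b) = y; rw [hb, RingEquiv.symm_apply_apply]⟩
  have hu1 : (maximalIdeal B).map u.toRingHom = maximalIdeal (B' ⧸ I) :=
    map_maximalIdeal_of_surjective u.toRingHom husurj
  have hu2 : (maximalIdeal B').map (Ideal.Quotient.mk I) = maximalIdeal (B' ⧸ I) :=
    map_maximalIdeal_of_surjective (Ideal.Quotient.mk I) Ideal.Quotient.mk_surjective
  obtain ⟨v, hv⟩ := exists_lift hfs I hIne u (by rw [hu1, hu2])
  have hv' : ∀ b, π' (v b) = π b := fun b => by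
    have h1 : Ideal.Quotient.mk I (v b) = u b := AlgHom.congr_fun hv b
    rw [← he, h1, hu, RingEquiv.apply_symm_apply]
  have hleB : J.map (algebraMap A B) ≤ maximalIdeal B := by
    rw [← hkπ]; exact IsLocalRing.le_maximalIdeal hkne
  have hleB' : J.map (algebraMap A B') ≤ maximalIdeal B' := by
    rw [← hkπ']; exact IsLocalRing.le_maximalIdeal hIne
  have _ : IsAdicComplete (J.map (algebraMap A B)) B :=
    Groth.Agent.Lib.AdicClosed.isAdicComplete_of_le _ _ hleB
      ((isNoetherianRing_iff_ideal_fg B).mp inferInstance _)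
  have _ : IsAdicComplete (J.map (algebraMap A B')) B' :=
    Groth.Agent.Lib.AdicClosed.isAdicComplete_of_le _ _ hleB'
      ((isNoetherianRing_iff_ideal_fg B').mp inferInstance _)
  have hbij := bijective_of_mod J v π π' hπ hkπ hkπ' hv'
  exact ⟨AlgEquiv.ofBijective v hbij, hv'⟩

/-- **Flat lifts of complete regular local rings over a (not necessarily complete) Noetherian
local ring**: helper83's `exists_flat_lift` applied to the completion. -/
theorem exists_flat_lift' {A K : Type u} [CommRing A] [IsLocalRing A] [IsNoetherianRing A]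
    [CommRing K] [IsLocalRing K] [IsRegularLocalRing K] [IsAdicComplete (maximalIdeal K) K]
    (τ : A →+* K) (hτ : ∀ a ∈ maximalIdeal A, τ a = 0) :
    ∃ (B : Type u) (_ : CommRing B) (_ : IsLocalRing B) (_ : IsNoetherianRing B)
      (ψ : A →+* B) (ρ : B →+* K), IsLocalHom ψ ∧ IsAdicComplete (maximalIdeal B) B ∧
        ψ.Flat ∧ Function.Surjective ρ ∧ RingHom.ker ρ = (maximalIdeal A).map ψ ∧
        ρ.comp ψ = τ := by
  have _ : IsNoetherianRing (AdicCompletion (maximalIdeal A) A) :=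
    Groth.Agent.Lib.AdicNoeth.isNoetherianRing_adicCompletion (maximalIdeal A)
  let σ : AdicCompletion (maximalIdeal A) A →+* K :=
    (Ideal.Quotient.lift (maximalIdeal A) τ hτ).comp
      (AdicCompletion.evalOneₐ (maximalIdeal A)).toRingHom
  have hσA : ∀ a, σ (algebraMap A (AdicCompletion (maximalIdeal A) A) a) = τ a := fun a => by
    change Ideal.Quotient.lift (maximalIdeal A) τ hτ
      (AdicCompletion.evalOneₐ (maximalIdeal A)
        (algebraMap A (AdicCompletion (maximalIdeal A) A) a)) = τ a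
    rw [AlgHom.commutes]
    rfl
  have hσ : maximalIdeal (AdicCompletion (maximalIdeal A) A) ≤ RingHom.ker σ := by
    rw [AdicCompletion.maximalIdeal_eq_map, Ideal.map_le_iff_le_comap]
    intro a ha
    rw [Ideal.mem_comap, RingHom.mem_ker, hσA]
    exact hτ a ha
  obtain ⟨B, _, _, hBn, φ, ρ, hφloc, hBc, hφflat, hρ, hkρ, hρφ⟩ :=
    Groth.Agent.Lib.FlatLift83.exists_flat_lift (B₀ := K) (AdicCompletion (maximalIdeal A) A) σ hσ
  refine ⟨B, inferInstance, inferInstance, hBn,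
    φ.comp (algebraMap A (AdicCompletion (maximalIdeal A) A)), ρ, ?_, hBc, ?_, hρ, ?_, ?_⟩
  · exact RingHom.isLocalHom_comp φ (algebraMap A (AdicCompletion (maximalIdeal A) A))
  · exact RingHom.Flat.comp (RingHom.flat_algebraMap_iff.mpr inferInstance) hφflat
  · rw [hkρ, AdicCompletion.maximalIdeal_eq_map, Ideal.map_map]
  · ext a
    change ρ (φ (algebraMap A (AdicCompletion (maximalIdeal A) A) a)) = τ a
    have h1 : ρ (φ (algebraMap A (AdicCompletion (maximalIdeal A) A) a)) =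
        σ (algebraMap A (AdicCompletion (maximalIdeal A) A) a) := RingHom.congr_fun hρφ _
    rw [h1, hσA]

section existence

variable {A : Type u} [CommRing A] [IsLocalRing A] [IsNoetherianRing A]
  (J : Ideal A) [IsLocalRing (A ⧸ J)]
  (B₀ : Type u) [CommRing B₀] [IsLocalRing B₀] [IsNoetherianRing B₀]
  [IsAdicComplete (maximalIdeal B₀) B₀] [Algebra (A ⧸ J) B₀] [IsLocalHom (algebraMap (A ⧸ J) B₀)]

/-- The closed fibre `K = B₀ / 𝔪_{A₀} B₀` of an adically formally smooth complete local algebra is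
a complete regular local ring, adically formally smooth over the residue field. -/
theorem closedFibre_props
    (hfs : CAlgX.IsAdicFormallySmooth (A ⧸ J) B₀ (maximalIdeal B₀)) :
    ∃ (_ : IsLocalRing (B₀ ⧸ (maximalIdeal (A ⧸ J)).map (algebraMap (A ⧸ J) B₀))),
      IsRegularLocalRing (B₀ ⧸ (maximalIdeal (A ⧸ J)).map (algebraMap (A ⧸ J) B₀)) ∧
      IsAdicComplete (maximalIdeal (B₀ ⧸ (maximalIdeal (A ⧸ J)).map (algebraMap (A ⧸ J) B₀)))
        (B₀ ⧸ (maximalIdeal (A ⧸ J)).map (algebraMap (A ⧸ J) B₀)) ∧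
      CAlgX.IsAdicFormallySmooth ((A ⧸ J) ⧸ maximalIdeal (A ⧸ J))
        (B₀ ⧸ (maximalIdeal (A ⧸ J)).map (algebraMap (A ⧸ J) B₀))
        (maximalIdeal (B₀ ⧸ (maximalIdeal (A ⧸ J)).map (algebraMap (A ⧸ J) B₀))) := by
  set m₀ : Ideal (A ⧸ J) := maximalIdeal (A ⧸ J) with hm₀
  set I₀ : Ideal B₀ := m₀.map (algebraMap (A ⧸ J) B₀) with hI₀
  have hI₀le : I₀ ≤ maximalIdeal B₀ :=
    ((IsLocalRing.local_hom_TFAE (algebraMap (A ⧸ J) B₀)).out 0 2 rfl rfl).mp inferInstance
  have hI₀ne : I₀ ≠ ⊤ := fun h => (maximalIdeal.isMaximal B₀).ne_top (top_le_iff.mp (h ▸ hI₀le))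
  have _ : Nontrivial (B₀ ⧸ I₀) := Ideal.Quotient.nontrivial_iff.mpr hI₀ne
  have hloc : IsLocalRing (B₀ ⧸ I₀) :=
    IsLocalRing.of_surjective' (Ideal.Quotient.mk I₀) Ideal.Quotient.mk_surjective
  have hcompl : IsAdicComplete (maximalIdeal (B₀ ⧸ I₀)) (B₀ ⧸ I₀) :=
    Groth.Agent.Lib.FSFlat.isAdicComplete_of_surjective (Ideal.Quotient.mk I₀)
      Ideal.Quotient.mk_surjective
  have hK : CAlgX.IsAdicFormallySmooth ((A ⧸ J) ⧸ m₀) (B₀ ⧸ I₀) (maximalIdeal (B₀ ⧸ I₀)) := by
    refine Groth.Agent.Lib.FSFibre.isAdicFormallySmooth_fibre (A := A ⧸ J) (m := m₀) (B := B₀)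
      (𝔟 := maximalIdeal B₀) (k := (A ⧸ J) ⧸ m₀) (F := B₀ ⧸ I₀)
      Ideal.Quotient.mk_surjective ?_ Ideal.Quotient.mk_surjective ?_ ?_ hfs
    · rw [Ideal.Quotient.algebraMap_eq, Ideal.mk_ker]
    · rw [Ideal.Quotient.algebraMap_eq, Ideal.mk_ker]
    · rw [Ideal.Quotient.algebraMap_eq]
      exact (map_maximalIdeal_of_surjective (Ideal.Quotient.mk I₀)
        Ideal.Quotient.mk_surjective).le
  refine ⟨hloc, ?_, hcompl, hK⟩
  have _ : m₀.IsMaximal := maximalIdeal.isMaximal (A ⧸ J)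
  let _ : Field ((A ⧸ J) ⧸ m₀) := Ideal.Quotient.field m₀
  exact (Groth.Agent.Lib.AdicFSField50.regular_of_isAdicFormallySmooth
    (k := (A ⧸ J) ⧸ m₀) (A := B₀ ⧸ I₀) hK).1

/-- **Existence of flat complete lifts** (EGA 0_IV 19.7.2, ring hom form). -/
theorem exists_flat_complete_lift
    (hfs : CAlgX.IsAdicFormallySmooth (A ⧸ J) B₀ (maximalIdeal B₀)) :
    ∃ (B : Type u) (_ : CommRing B) (_ : IsLocalRing B) (_ : IsNoetherianRing B)
      (ψ : A →+* B) (π : B →+* B₀), IsLocalHom ψ ∧ IsAdicComplete (maximalIdeal B) B ∧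
        ψ.Flat ∧ Function.Surjective π ∧ RingHom.ker π = J.map ψ ∧
        ∀ a, π (ψ a) = algebraMap (A ⧸ J) B₀ (Ideal.Quotient.mk J a) := by
  obtain ⟨hKloc, hKreg, hKc, hK⟩ := closedFibre_props J B₀ hfs
  set m₀ : Ideal (A ⧸ J) := maximalIdeal (A ⧸ J) with hm₀
  set I₀ : Ideal B₀ := m₀.map (algebraMap (A ⧸ J) B₀) with hI₀
  have hI₀le : I₀ ≤ maximalIdeal B₀ :=
    ((IsLocalRing.local_hom_TFAE (algebraMap (A ⧸ J) B₀)).out 0 2 rfl rfl).mp inferInstance
  have hI₀ne : I₀ ≠ ⊤ := fun h => (maximalIdeal.isMaximal B₀).ne_top (top_le_iff.mp (h ▸ hI₀le))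
  have hmkloc : IsLocalHom (Ideal.Quotient.mk J) :=
    IsLocalHom.of_surjective _ Ideal.Quotient.mk_surjective
  have hmk_mem : ∀ a, a ∈ maximalIdeal A ↔ Ideal.Quotient.mk J a ∈ m₀ := by
    intro a
    constructor
    · intro ha
      rw [hm₀, mem_maximalIdeal, mem_nonunits_iff] at *
      exact fun hu => ha (isUnit_of_map_unit (Ideal.Quotient.mk J) a hu)
    · intro ha
      rw [hm₀, mem_maximalIdeal, mem_nonunits_iff] at *
      exact fun hu => ha (hu.map _)
  -- the structure map `A → K`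
  let τ : A →+* B₀ ⧸ I₀ :=
    (Ideal.Quotient.mk I₀).comp ((algebraMap (A ⧸ J) B₀).comp (Ideal.Quotient.mk J))
  have hτ : ∀ a ∈ maximalIdeal A, τ a = 0 := by
    intro a ha
    change Ideal.Quotient.mk I₀ (algebraMap (A ⧸ J) B₀ (Ideal.Quotient.mk J a)) = 0
    rw [Ideal.Quotient.eq_zero_iff_mem]
    exact Ideal.mem_map_of_mem _ ((hmk_mem a).mp ha)
  obtain ⟨B, _, _, hBn, ψ, ρ, hψloc, hBc, hψflat, hρ, hkρ, hρψ⟩ := exists_flat_lift' τ hτ
  have hρψ' : ∀ a, ρ (ψ a) = τ a := fun a => RingHom.congr_fun hρψ a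
  -- algebra structures
  let algAB : Algebra A B := ψ.toAlgebra
  have hflat : Module.Flat A B := hψflat
  have hloc : IsLocalHom (algebraMap A B) := hψloc
  let algAB₀ : Algebra A B₀ := ((algebraMap (A ⧸ J) B₀).comp (Ideal.Quotient.mk J)).toAlgebra
  have towAB₀ : IsScalarTower A (A ⧸ J) B₀ := IsScalarTower.of_algebraMap_eq (fun _ => rfl)
  let algBK : Algebra B (B₀ ⧸ I₀) := ρ.toAlgebra
  have towABK : IsScalarTower A B (B₀ ⧸ I₀) := IsScalarTower.of_algebraMap_eq (fun a =>
    (hρψ' a).symm)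
  have towAkK : IsScalarTower A ((A ⧸ J) ⧸ m₀) (B₀ ⧸ I₀) :=
    IsScalarTower.of_algebraMap_eq (R := A) (S := (A ⧸ J) ⧸ m₀) (A := B₀ ⧸ I₀) (fun _ => rfl)
  have hmB : m₀.map (algebraMap (A ⧸ J) B₀) = I₀ := rfl
  have hmAB : (maximalIdeal A).map (algebraMap A B) ≤ maximalIdeal B :=
    ((IsLocalRing.local_hom_TFAE (algebraMap A B)).out 0 2 rfl rfl).mp hloc
  -- `B` is formally smooth over `A`
  have hfsB : CAlgX.IsAdicFormallySmooth A B (maximalIdeal B) := by
    refine Groth.Agent.Lib.FSFibre.isAdicFormallySmooth_of_flat_of_fibre (A := A)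
      (m := maximalIdeal A) (B := B) (𝔟 := maximalIdeal B) (k := (A ⧸ J) ⧸ m₀) (F := B₀ ⧸ I₀)
      ?_ ?_ hρ hkρ ?_ hmAB hK
    · intro x
      obtain ⟨y, rfl⟩ := Ideal.Quotient.mk_surjective x
      obtain ⟨a, rfl⟩ := Ideal.Quotient.mk_surjective y
      exact ⟨a, rfl⟩
    · intro a ha
      rw [RingHom.mem_ker] at ha
      have h1 : Ideal.Quotient.mk m₀ (Ideal.Quotient.mk J a) = 0 := ha
      rw [Ideal.Quotient.eq_zero_iff_mem] at h1
      exact (hmk_mem a).mpr h1
    · exact (map_maximalIdeal_of_surjective ρ hρ).ge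
  -- lift `ρ` to `w : B → B₀`
  let ρa : B →ₐ[A] B₀ ⧸ I₀ := { ρ with commutes' := fun a => hρψ' a }
  have hu1 : (maximalIdeal B).map ρa.toRingHom = maximalIdeal (B₀ ⧸ I₀) :=
    map_maximalIdeal_of_surjective ρ hρ
  have hu2 : (maximalIdeal B₀).map (Ideal.Quotient.mk I₀) = maximalIdeal (B₀ ⧸ I₀) :=
    map_maximalIdeal_of_surjective (Ideal.Quotient.mk I₀) Ideal.Quotient.mk_surjective
  obtain ⟨w, hw⟩ := exists_lift hfsB I₀ hI₀ne ρa (by rw [hu1, hu2])
  have hw' : ∀ b, Ideal.Quotient.mk I₀ (w b) = ρ b := fun b => AlgHom.congr_fun hw b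
  have hwA : ∀ a, w (ψ a) = algebraMap (A ⧸ J) B₀ (Ideal.Quotient.mk J a) := fun a =>
    w.commutes a
  -- `w` induces a bijection `B / J B → B₀`
  have hJne : J ≠ ⊤ := Ideal.Quotient.nontrivial_iff.mp inferInstance
  have hJle : J ≤ maximalIdeal A := IsLocalRing.le_maximalIdeal hJne
  set JB : Ideal B := J.map (algebraMap A B) with hJB
  have hJBle : JB ≤ (maximalIdeal A).map (algebraMap A B) := Ideal.map_mono hJle
  have hJBne : JB ≠ ⊤ := fun h =>
    (maximalIdeal.isMaximal B).ne_top (top_le_iff.mp (h ▸ hJBle.trans hmAB))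
  have hwJ : ∀ x ∈ JB, w x = 0 := by
    have : JB ≤ RingHom.ker w.toRingHom := by
      rw [hJB, Ideal.map_le_iff_le_comap]
      intro a ha
      rw [Ideal.mem_comap, RingHom.mem_ker]
      change w (ψ a) = 0
      rw [hwA, Ideal.Quotient.eq_zero_iff_mem.mpr ha, map_zero]
    exact fun x hx => RingHom.mem_ker.mp (this hx)
  have hρJ : ∀ x ∈ JB, ρ x = 0 := fun x hx => by
    have : x ∈ RingHom.ker ρ := by rw [hkρ]; exact hJBle hx
    exact RingHom.mem_ker.mp this
  have _ : Nontrivial (B ⧸ JB) := Ideal.Quotient.nontrivial_iff.mpr hJBne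
  have _ : IsLocalRing (B ⧸ JB) :=
    IsLocalRing.of_surjective' (Ideal.Quotient.mk JB) Ideal.Quotient.mk_surjective
  have hMc : IsAdicComplete (maximalIdeal (B ⧸ JB)) (B ⧸ JB) :=
    Groth.Agent.Lib.FSFlat.isAdicComplete_of_surjective (Ideal.Quotient.mk JB)
      Ideal.Quotient.mk_surjective
  let wbarA : (B ⧸ JB) →ₐ[A] B₀ := Ideal.Quotient.liftₐ JB w hwJ
  let wbar : (B ⧸ JB) →ₐ[A ⧸ J] B₀ :=
    { wbarA.toRingHom with
      commutes' := fun x => by
        obtain ⟨a, rfl⟩ := Ideal.Quotient.mk_surjective x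
        change w (ψ a) = _
        exact hwA a }
  have hwbar : ∀ b, wbar (Ideal.Quotient.mk JB b) = w b := fun b => rfl
  let ρbar : (B ⧸ JB) →+* B₀ ⧸ I₀ := Ideal.Quotient.lift JB ρ hρJ
  have hρbar : ∀ b, ρbar (Ideal.Quotient.mk JB b) = ρ b := fun b => rfl
  have hm₀eq : m₀ = (maximalIdeal A).map (Ideal.Quotient.mk J) :=
    (map_maximalIdeal_of_surjective (Ideal.Quotient.mk J) Ideal.Quotient.mk_surjective).symm
  have hm₀M : m₀.map (algebraMap (A ⧸ J) (B ⧸ JB)) =
      ((maximalIdeal A).map (algebraMap A B)).map (Ideal.Quotient.mk JB) := by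
    rw [hm₀eq, Ideal.map_map, Ideal.map_map]
    rfl
  have hle : m₀.map (algebraMap (A ⧸ J) (B ⧸ JB)) ≤ maximalIdeal (B ⧸ JB) := by
    rw [hm₀M, ← map_maximalIdeal_of_surjective (Ideal.Quotient.mk JB)
      Ideal.Quotient.mk_surjective]
    exact Ideal.map_mono hmAB
  have _ : IsAdicComplete (m₀.map (algebraMap (A ⧸ J) (B ⧸ JB))) (B ⧸ JB) :=
    Groth.Agent.Lib.AdicClosed.isAdicComplete_of_le _ _ hle
      ((isNoetherianRing_iff_ideal_fg (B ⧸ JB)).mp inferInstance _)
  have _ : IsAdicComplete (m₀.map (algebraMap (A ⧸ J) B₀)) B₀ :=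
    Groth.Agent.Lib.AdicClosed.isAdicComplete_of_le _ _ hI₀le
      ((isNoetherianRing_iff_ideal_fg B₀).mp inferInstance _)
  have _ : Module.Flat (A ⧸ J) B₀ := Groth.Agent.Lib.FSFlat.flat_of_isAdicFormallySmooth hfs
  have hkρbar : RingHom.ker ρbar = m₀.map (algebraMap (A ⧸ J) (B ⧸ JB)) := by
    have h1 : RingHom.ker ρbar = (RingHom.ker ρ).map (Ideal.Quotient.mk JB) :=
      Ideal.ker_quotient_lift ρ _
    rw [hm₀M, h1, hkρ]
    rfl
  have hbij : Function.Bijective wbar :=
    bijective_of_mod m₀ wbar ρbar (Ideal.Quotient.mk I₀)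
      (fun y => by
        obtain ⟨b, rfl⟩ := hρ y
        exact ⟨Ideal.Quotient.mk JB b, hρbar b⟩)
      hkρbar Ideal.mk_ker
      (fun x => by
        obtain ⟨b, rfl⟩ := Ideal.Quotient.mk_surjective x
        rw [hwbar, hρbar, hw'])
  refine ⟨B, inferInstance, inferInstance, hBn, ψ, w.toRingHom, hψloc, hBc, hψflat, ?_, ?_, hwA⟩
  · intro y
    obtain ⟨x, rfl⟩ := hbij.2 y
    obtain ⟨b, rfl⟩ := Ideal.Quotient.mk_surjective x
    exact ⟨b, rfl⟩
  · ext b
    rw [RingHom.mem_ker]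
    change w b = 0 ↔ b ∈ JB
    rw [← hwbar, map_eq_zero_iff wbar hbij.1, Ideal.Quotient.eq_zero_iff_mem]

end existence

end Groth.Agent.Lib.FSLift89
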