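import Groth.Agent.Lib.FSLift89
import Groth.Agent.Lib.H59PowerSeries

/-!
# More on lifting from adically formally smooth algebras (helper89)

* `exists_lift_of_surjective`: lifting along a surjection `C → P` from a complete Noetherian local
  ring, for a formally smooth `B` with a surjection `B → P`.
* `TrivSqZeroExt B B` is a complete Noetherian local ring when `B` is.
* `exists_derivation_extension`: derivations extend along adically formally smooth maps into
  complete local rings (EGA 0_IV 20.x).
-/

set_option autoImplicit false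
universe u

namespace Groth.Agent.Lib.FSLift89

open IsLocalRing

/-- Lifting along a surjection from a complete Noetherian local ring. -/
theorem exists_lift_of_surjective {A B C P : Type u} [CommRing A] [CommRing B] [IsLocalRing B]
    [Algebra A B] (hB : CAlgX.IsAdicFormallySmooth A B (maximalIdeal B))
    [CommRing C] [IsLocalRing C] [IsNoetherianRing C] [IsAdicComplete (maximalIdeal C) C]
    [Algebra A C] [CommRing P] [Nontrivial P] (π : B →+* P) (π' : C →+* P)
    (hπ : Function.Surjective π) (hπ' : Function.Surjective π')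
    (hcomp : ∀ a, π (algebraMap A B a) = π' (algebraMap A C a)) :
    ∃ v : B →ₐ[A] C, ∀ b, π' (v b) = π b := by
  set I : Ideal C := RingHom.ker π' with hI
  have hIne : I ≠ ⊤ := RingHom.ker_ne_top π'
  let e : C ⧸ I ≃+* P := RingHom.quotientKerEquivOfSurjective hπ'
  have he : ∀ c, e (Ideal.Quotient.mk I c) = π' c := fun c => rfl
  have hesymm : ∀ c, e.symm (π' c) = Ideal.Quotient.mk I c := fun c => by
    rw [← he, RingEquiv.symm_apply_apply]
  have _ : Nontrivial (C ⧸ I) := Ideal.Quotient.nontrivial_iff.mpr hIne
  have _ : IsLocalRing (C ⧸ I) :=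
    IsLocalRing.of_surjective' (Ideal.Quotient.mk I) Ideal.Quotient.mk_surjective
  let u : B →ₐ[A] C ⧸ I :=
    { toRingHom := e.symm.toRingHom.comp π
      commutes' := fun a => by
        change e.symm (π (algebraMap A B a)) = _
        rw [hcomp, hesymm]
        rfl }
  have hu : ∀ b, u b = e.symm (π b) := fun b => rfl
  have husurj : Function.Surjective u.toRingHom := fun y => by
    obtain ⟨b, hb⟩ := hπ (e y)
    exact ⟨b, by change e.symm (π b) = y; rw [hb, RingEquiv.symm_apply_apply]⟩
  have hu1 : (maximalIdeal B).map u.toRingHom = maximalIdeal (C ⧸ I) :=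
    map_maximalIdeal_of_surjective u.toRingHom husurj
  have hu2 : (maximalIdeal C).map (Ideal.Quotient.mk I) = maximalIdeal (C ⧸ I) :=
    map_maximalIdeal_of_surjective (Ideal.Quotient.mk I) Ideal.Quotient.mk_surjective
  obtain ⟨v, hv⟩ := exists_lift hB I hIne u (by rw [hu1, hu2])
  refine ⟨v, fun b => ?_⟩
  have h1 : Ideal.Quotient.mk I (v b) = u b := AlgHom.congr_fun hv b
  rw [← he, h1, hu, RingEquiv.apply_symm_apply]

section tsze

variable (B : Type u) [CommRing B]

/-- The ring map `B⟦X⟧ → B[ε]`, `f ↦ f₀ + f₁ ε`. -/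
noncomputable def psToTsze : PowerSeries B →+* TrivSqZeroExt B B where
  toFun f := TrivSqZeroExt.inl (PowerSeries.coeff 0 f) + TrivSqZeroExt.inr (PowerSeries.coeff 1 f)
  map_one' := by
    apply TrivSqZeroExt.ext
    · simp
    · simp
  map_zero' := by
    apply TrivSqZeroExt.ext
    · simp
    · simp
  map_add' f g := by
    apply TrivSqZeroExt.ext
    · simp
    · simp
  map_mul' f g := by
    apply TrivSqZeroExt.ext
    · simp [PowerSeries.coeff_mul]
    · simp [PowerSeries.coeff_mul, Finset.Nat.antidiagonal_succ, mul_comm]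

theorem psToTsze_surjective : Function.Surjective (psToTsze B) := by
  intro x
  refine ⟨PowerSeries.C x.fst + PowerSeries.C x.snd * PowerSeries.X, ?_⟩
  apply TrivSqZeroExt.ext
  · simp [psToTsze]
  · simp [psToTsze]

theorem isLocalRing_tsze [IsLocalRing B] : IsLocalRing (TrivSqZeroExt B B) := by
  refine IsLocalRing.of_isUnit_or_isUnit_one_sub_self fun a => ?_
  rcases IsLocalRing.isUnit_or_isUnit_one_sub_self a.fst with h | h
  · exact Or.inl (TrivSqZeroExt.isUnit_iff_isUnit_fst.2 h)
  · refine Or.inr (TrivSqZeroExt.isUnit_iff_isUnit_fst.2 ?_)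
    rw [TrivSqZeroExt.fst_sub, TrivSqZeroExt.fst_one]
    exact h

theorem isNoetherianRing_tsze [IsNoetherianRing B] : IsNoetherianRing (TrivSqZeroExt B B) :=
  isNoetherianRing_of_surjective (PowerSeries B) _ (psToTsze B) (psToTsze_surjective B)

theorem isAdicComplete_tsze [IsLocalRing B] [IsNoetherianRing B]
    [IsAdicComplete (maximalIdeal B) B] :
    haveI := isLocalRing_tsze B
    IsAdicComplete (maximalIdeal (TrivSqZeroExt B B)) (TrivSqZeroExt B B) := by
  have := isLocalRing_tsze B
  have hc : IsAdicComplete (maximalIdeal (PowerSeries B)) (PowerSeries B) := by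
    rw [Groth.Agent.Lib.H59PowerSeries.maximalIdeal_eq_bigIdeal]
    exact Groth.Agent.Lib.H59PowerSeries.isAdicComplete_bigIdeal _
  exact Groth.Agent.Lib.FSFlat.isAdicComplete_of_surjective (psToTsze B) (psToTsze_surjective B)

end tsze

/-- **Derivations extend along adically formally smooth maps into complete local rings.** -/
theorem exists_derivation_extension (A B : Type u) [CommRing A] [CommRing B] [IsLocalRing B]
    [IsNoetherianRing B] [Algebra A B] [IsAdicComplete (maximalIdeal B) B]
    (hfs : CAlgX.IsAdicFormallySmooth A B (maximalIdeal B)) (D : Derivation ℤ A A) :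
    ∃ D' : Derivation ℤ B B, ∀ a : A, D' (algebraMap A B a) = algebraMap A B (D a) := by
  have := isLocalRing_tsze B
  have := isNoetherianRing_tsze B
  have := isAdicComplete_tsze B
  -- the `A`-algebra structure `a ↦ a + D a ε` on `B[ε]`
  let φ : A →+* TrivSqZeroExt B B :=
    { toFun := fun a => TrivSqZeroExt.inl (algebraMap A B a) +
        TrivSqZeroExt.inr (algebraMap A B (D a))
      map_one' := by
        apply TrivSqZeroExt.ext
        · simp only [TrivSqZeroExt.fst_add, TrivSqZeroExt.fst_inl, TrivSqZeroExt.fst_inr, map_one,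
            add_zero, TrivSqZeroExt.fst_one]
        · simp only [TrivSqZeroExt.snd_add, TrivSqZeroExt.snd_inl, TrivSqZeroExt.snd_inr,
            Derivation.map_one_eq_zero, map_zero, add_zero, TrivSqZeroExt.snd_one]
      map_zero' := by
        apply TrivSqZeroExt.ext
        · simp only [TrivSqZeroExt.fst_add, TrivSqZeroExt.fst_inl, TrivSqZeroExt.fst_inr, map_zero,
            add_zero, TrivSqZeroExt.fst_zero]
        · simp only [TrivSqZeroExt.snd_add, TrivSqZeroExt.snd_inl, TrivSqZeroExt.snd_inr,
            map_zero, add_zero, TrivSqZeroExt.snd_zero]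
      map_add' := fun a b => by
        apply TrivSqZeroExt.ext
        · simp only [TrivSqZeroExt.fst_add, TrivSqZeroExt.fst_inl, TrivSqZeroExt.fst_inr, map_add,
            add_zero]
        · simp only [TrivSqZeroExt.snd_add, TrivSqZeroExt.snd_inl, TrivSqZeroExt.snd_inr,
            map_add, zero_add]
      map_mul' := fun a b => by
        apply TrivSqZeroExt.ext
        · simp only [TrivSqZeroExt.fst_add, TrivSqZeroExt.fst_inl, TrivSqZeroExt.fst_inr, map_mul,
            add_zero, TrivSqZeroExt.fst_mul]
        · simp only [TrivSqZeroExt.snd_add, TrivSqZeroExt.snd_inl, TrivSqZeroExt.snd_inr,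
            TrivSqZeroExt.snd_mul, TrivSqZeroExt.fst_add, TrivSqZeroExt.fst_inl,
            TrivSqZeroExt.fst_inr, zero_add, add_zero, Derivation.leibniz, map_add, smul_eq_mul,
            map_mul, op_smul_eq_smul] }
  let _ : Algebra A (TrivSqZeroExt B B) := φ.toAlgebra
  have hφ : ∀ a, (algebraMap A (TrivSqZeroExt B B) a).snd = algebraMap A B (D a) := fun a => by
    change (TrivSqZeroExt.inl (algebraMap A B a) +
        TrivSqZeroExt.inr (algebraMap A B (D a)) : TrivSqZeroExt B B).snd = _
    simp only [TrivSqZeroExt.snd_add, TrivSqZeroExt.snd_inl, TrivSqZeroExt.snd_inr, zero_add]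
  have hφ1 : ∀ a, (algebraMap A (TrivSqZeroExt B B) a).fst = algebraMap A B a := fun a => by
    change (TrivSqZeroExt.inl (algebraMap A B a) +
        TrivSqZeroExt.inr (algebraMap A B (D a)) : TrivSqZeroExt B B).fst = _
    simp only [TrivSqZeroExt.fst_add, TrivSqZeroExt.fst_inl, TrivSqZeroExt.fst_inr, add_zero]
  let π' : TrivSqZeroExt B B →+* B := (TrivSqZeroExt.fstHom B B B).toRingHom
  have hπ' : Function.Surjective π' := fun b => ⟨TrivSqZeroExt.inl b, rfl⟩
  obtain ⟨v, hv⟩ := exists_lift_of_surjective hfs (RingHom.id B) π'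
    (fun b => ⟨b, rfl⟩) hπ' (fun a => (hφ1 a).symm)
  have hv' : ∀ b, (v b).fst = b := hv
  have hmul : ∀ a b, (v (a * b)).snd = a • (v b).snd + b • (v a).snd := by
    intro a b
    rw [map_mul, TrivSqZeroExt.snd_mul, hv', hv', op_smul_eq_smul]
  let D0 : B →ₗ[ℤ] B :=
    { toFun := fun b => (v b).snd
      map_add' := fun a b => by rw [map_add, TrivSqZeroExt.snd_add]
      map_smul' := fun n b => by
        rw [map_zsmul, TrivSqZeroExt.snd_smul]
        rfl }
  refine ⟨Derivation.mk' D0 hmul, fun a => ?_⟩
  change (v (algebraMap A B a)).snd = _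
  rw [v.commutes, hφ]

end Groth.Agent.Lib.FSLift89
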