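import Groth.Agent.Lib.FSchKer
import Groth.Agent.Lib.AdicNoeth

set_option autoImplicit false
universe u

namespace Groth.Agent.Lib.NilThick

open AlgebraicGeometry CategoryTheory Limits

section Algebra

variable {B : Type*} [CommRing B]

/-- Every module is adically complete with respect to a nilpotent ideal. -/
lemma isAdicComplete_of_pow_eq_bot (K : Ideal B) {m : ℕ} (hK : K ^ m = ⊥)
    (M : Type*) [AddCommGroup M] [Module B M] : IsAdicComplete K M where
  haus' x hx := by
    have := hx m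
    rwa [hK, Submodule.bot_smul, SModEq.bot] at this
  prec' f hf := by
    refine ⟨f m, fun n => ?_⟩
    by_cases h : n ≤ m
    · exact hf h
    · have := hf (show m ≤ n by omega)
      rw [hK, Submodule.bot_smul, SModEq.bot] at this
      rw [this]

/-- Nakayama's lemma for a nilpotent ideal. -/
lemma le_of_le_sup_mul_of_pow_eq_bot (K N : Ideal B) {m : ℕ} (hK : K ^ m = ⊥)
    (h : K ≤ N ⊔ K * K) : K ≤ N := by
  have key : ∀ j : ℕ, K ≤ N ⊔ K ^ (j + 1) := by
    intro j
    induction j with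
    | zero => simp
    | succ j ih =>
      refine h.trans (sup_le le_sup_left ?_)
      calc K * K ≤ K * (N ⊔ K ^ (j + 1)) := Ideal.mul_mono_right ih
        _ = K * N ⊔ K * K ^ (j + 1) := Ideal.mul_sup _ _ _
        _ ≤ N ⊔ K ^ (j + 1 + 1) := by
          refine sup_le_sup Ideal.mul_le_right ?_
          rw [← pow_succ']
  have := key m
  rw [pow_succ, hK, Ideal.bot_mul, sup_bot_eq] at this
  exact this

/-- A ring with a nilpotent finitely generated ideal and Noetherian quotient is Noetherian. -/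
lemma isNoetherianRing_of_pow_eq_bot (K : Ideal B) {m : ℕ} (hK : K ^ m = ⊥) (hfg : K.FG)
    [IsNoetherianRing (B ⧸ K)] : IsNoetherianRing B := by
  have := isAdicComplete_of_pow_eq_bot K hK B
  exact Groth.Agent.Lib.AdicNoeth.isNoetherianRing_of_isAdicComplete K hfg

/-- An ideal which is nilpotent, and finitely generated modulo a part of its square, is finitely
generated. -/
lemma fg_of_comap_of_pow_eq_bot {B' : Type*} [CommRing B'] (φ : B →+* B')
    (hφ : Function.Surjective φ) (K : Ideal B) (K' : Ideal B') (hKK' : K = K'.comap φ)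
    (hK' : K'.FG) (hker : RingHom.ker φ ≤ K * K) {m : ℕ} (hK : K ^ m = ⊥) : K.FG := by
  obtain ⟨s, hs⟩ := hK'
  have hsK : ∀ y ∈ s, ∃ x ∈ K, φ x = y := by
    intro y hy
    obtain ⟨x, rfl⟩ := hφ y
    refine ⟨x, ?_, rfl⟩
    rw [hKK', Ideal.mem_comap, ← hs]
    exact Ideal.subset_span hy
  choose! x hxK hx using hsK
  classical
  let N : Ideal B := Ideal.span (s.image x : Set B)
  have hN : N ≤ K := by
    rw [Ideal.span_le]
    intro z hz
    simp only [Finset.coe_image, Set.mem_image, Finset.mem_coe] at hz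
    obtain ⟨y, hy, rfl⟩ := hz
    exact hxK y hy
  have hK'N : K' ≤ N.map φ := by
    rw [← hs, Ideal.span_le]
    intro y hy
    rw [← hx y hy]
    exact Ideal.mem_map_of_mem _ (Ideal.subset_span (by simpa using ⟨y, hy, rfl⟩))
  have hle : K ≤ N ⊔ K * K := by
    intro z hz
    have hz' : φ z ∈ N.map φ := hK'N (by rw [hKK'] at hz; exact hz)
    obtain ⟨w, hw, hwz⟩ := (Ideal.mem_map_iff_of_surjective φ hφ).mp hz'
    have : z - w ∈ RingHom.ker φ := by rw [RingHom.mem_ker, map_sub, hwz, sub_self]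
    have hzw : z = w + (z - w) := by ring
    rw [hzw]
    exact Ideal.add_mem _ (Ideal.mem_sup_left hw) (Ideal.mem_sup_right (hker this))
  have : K = N := le_antisymm (le_of_le_sup_mul_of_pow_eq_bot K N hK hle) hN
  rw [this]
  exact ⟨s.image x, rfl⟩

end Algebra

/-- A thickening of a locally Noetherian scheme by a nilpotent ideal sheaf of finite type is
locally Noetherian. -/
lemma isLocallyNoetherian_of_nilpotent {Z W : Scheme.{u}} (i : Z ⟶ W) [IsClosedImmersion i]
    [IsLocallyNoetherian Z] (hft : FSch.IdealFT i.ker) {m : ℕ} (hm : i.ker ^ m = ⊥) :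
    IsLocallyNoetherian W := by
  refine ⟨fun U => ?_⟩
  have hK : (i.ker.ideal U) ^ m = ⊥ := by
    have := congr(($hm).ideal U)
    simpa using this
  have hsurj : Function.Surjective (i.app U.1).hom := i.app_surjective U.1 U.2
  have hker : RingHom.ker (i.app U.1).hom = i.ker.ideal U := (Scheme.Hom.ker_apply i U).symm
  have hN : IsNoetherianRing Γ(Z, i ⁻¹ᵁ U.1) :=
    IsLocallyNoetherian.component_noetherian ⟨_, U.2.preimage i⟩
  have : IsNoetherianRing (Γ(W, U.1) ⧸ i.ker.ideal U) := by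
    rw [← hker]
    exact isNoetherianRing_of_ringEquiv _ (RingHom.quotientKerEquivOfSurjective hsurj).symm
  exact isNoetherianRing_of_pow_eq_bot _ hK (hft U)

section Sys

variable (𝔛 : FSch.Sys.{u})

/-- In a formal system, the kernel of `X 0 ⟶ X n` is the inverse image of that of
`X 0 ⟶ X (n+1)`. -/
lemma ker_toX_eq_comap (hF : 𝔛.IsFormal) (n : ℕ) :
    (𝔛.toX n).ker = ((𝔛.toX (n + 1)).ker).comap (𝔛.ι n) := by
  have := (hF n).1
  have := FSchKer.isClosedImmersion_toX 𝔛 hF (n + 1)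
  exact FSchKer.ker_of_isPullback
    (FSchKer.isPullback_of_mono_fac (𝔛.toX n) (𝔛.ι n) (𝔛.toX (n + 1)) rfl)

/-- In a formal adic system, the kernel of `X 0 ⟶ X n` is nilpotent. -/
lemma ker_toX_pow_eq_bot (hF : 𝔛.IsFormal) (hA : 𝔛.IsAdic) (n : ℕ) :
    (𝔛.toX n).ker ^ (n + 1) = ⊥ := by
  have := (hF n).1
  rw [ker_toX_eq_comap 𝔛 hF n, ← IdealSheafComap.comap_pow, ← hA n]
  have h := FSchKer.ker_of_isPullback
    (FSchKer.isPullback_of_mono_fac (𝟙 _) (𝔛.ι n) (𝔛.ι n) (Category.id_comp _))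
  rw [← h]
  exact Scheme.Hom.ker_eq_bot_of_isIso _

/-- In a formal adic system whose first kernel is of finite type, all the kernels of
`X 0 ⟶ X n` are of finite type. -/
lemma idealFT_ker_toX (hF : 𝔛.IsFormal) (hA : 𝔛.IsAdic) (hft : FSch.IdealFT (𝔛.ι 0).ker) :
    ∀ n : ℕ, FSch.IdealFT (𝔛.toX n).ker
  | 0 => fun U => by
    have h0 : (𝔛.toX 0).ker = ⊥ :=
      @Scheme.Hom.ker_eq_bot_of_isIso _ _ (𝔛.toX 0) (inferInstanceAs (IsIso (𝟙 _)))
    rw [h0]
    exact Submodule.fg_bot
  | 1 => by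
    have h1 : 𝔛.toX 1 = 𝔛.ι 0 := Category.id_comp _
    rw [h1]
    exact hft
  | n + 2 => fun U => by
    have ih := idealFT_ker_toX hF hA hft (n + 1)
    have hci := (hF (n + 1)).1
    have hci1 := FSchKer.isClosedImmersion_toX 𝔛 hF (n + 1)
    have hci2 := FSchKer.isClosedImmersion_toX 𝔛 hF (n + 2)
    let U' : (𝔛.X (n + 1)).affineOpens := ⟨𝔛.ι (n + 1) ⁻¹ᵁ U.1, U.2.preimage (𝔛.ι (n + 1))⟩
    refine fg_of_comap_of_pow_eq_bot ((𝔛.ι (n + 1)).app U.1).hom
      ((𝔛.ι (n + 1)).app_surjective U.1 U.2) _ ((𝔛.toX (n + 1)).ker.ideal U') ?_ (ih U') ?_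
      (m := n + 3) ?_
    · rw [Scheme.Hom.ker_apply, Scheme.Hom.ker_apply]
      ext x
      rw [RingHom.mem_ker, Ideal.mem_comap, RingHom.mem_ker]
      have key := Scheme.Hom.comp_app (𝔛.toX (n + 1)) (𝔛.ι (n + 1)) U.1
      change ((𝔛.toX (n + 1) ≫ 𝔛.ι (n + 1)).app U.1).hom x = 0 ↔ _
      rw [key]
      rfl
    · rw [← Scheme.Hom.ker_apply, hA (n + 1), Scheme.IdealSheafData.ideal_pow, Pi.pow_apply,
        ← pow_two]
      exact Ideal.pow_le_pow_right (by omega)
    · have := congr(($(ker_toX_pow_eq_bot 𝔛 hF hA (n + 2))).ideal U)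
      simpa using this

/-- Every level of a formal adic system with locally Noetherian first level and first kernel of
finite type is locally Noetherian. -/
theorem isLocallyNoetherian_level (hF : 𝔛.IsFormal) (hA : 𝔛.IsAdic)
    [IsLocallyNoetherian (𝔛.X 0)] (hft : FSch.IdealFT (𝔛.ι 0).ker) (n : ℕ) :
    IsLocallyNoetherian (𝔛.X n) := by
  have := FSchKer.isClosedImmersion_toX 𝔛 hF n
  exact isLocallyNoetherian_of_nilpotent (𝔛.toX n) (idealFT_ker_toX 𝔛 hF hA hft n)
    (ker_toX_pow_eq_bot 𝔛 hF hA n)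

end Sys

end Groth.Agent.Lib.NilThick
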