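import Groth.Agent.Lib.ThickAffine
import Groth.Agent.Lib.NilThick
import Groth.Agent.Lib.AdicNoeth
import Groth.Agent.S2292

/-!
# Affine formal adic systems are formal spectra (helper24)

`exists_spf_iso` (EGA I 10.6.3-5): a formal adic system `(X_n)` with `X_0` affine and locally Noetherian and
first kernel of finite type is isomorphic to `Spf A = (Spec A/J^{n+1})` for a Noetherian `J`-adically complete
ring `A`.  Uses `Lib/ThickAffine` (thickenings of affines are affine), helper37's `S2292` (EGA 0_I 7.2.7) and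
helper12's `Lib/AdicNoeth`.
-/

set_option autoImplicit false
universe u

open CategoryTheory AlgebraicGeometry

namespace Groth.Agent.Lib.FSchAffine24

/-- every level of a formal system with affine first level is affine -/
theorem isAffine_level (𝔛 : FSch.Sys.{u}) (hF : 𝔛.IsFormal) [IsAffine (𝔛.X 0)] :
    ∀ n, IsAffine (𝔛.X n)
  | 0 => inferInstance
  | n + 1 => by
    haveI := isAffine_level 𝔛 hF n
    haveI := (hF n).1
    exact Groth.Agent.Lib.ThickAffine.isAffine_of_isClosedImmersion_of_surjective (𝔛.ι n) (hF n).2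

/-- the inverse limit of a tower of rings, as a subring of the product -/
def limSubring (B : ℕ → Type u) [∀ n, CommRing (B n)] (t : ∀ n, B (n + 1) →+* B n) :
    Subring (∀ n, B n) where
  carrier := {y | ∀ n, t n (y (n + 1)) = y n}
  mul_mem' := fun {a b} ha hb n => by
    have h1 := ha n
    have h2 := hb n
    simp only [Pi.mul_apply, map_mul, h1, h2]
  one_mem' := fun n => by simp
  add_mem' := fun {a b} ha hb n => by
    have h1 := ha n
    have h2 := hb n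
    simp only [Pi.add_apply, map_add, h1, h2]
  zero_mem' := fun n => by simp
  neg_mem' := fun {a} ha n => by
    have h1 := ha n
    simp only [Pi.neg_apply, map_neg, h1]

/-- naturality square for `isoSpec` twisted by ring maps -/
theorem isoSpec_comm {X Y : Scheme.{u}} [IsAffine X] [IsAffine Y] (f : X ⟶ Y)
    {R R' : CommRingCat.{u}} (a : R ⟶ Γ(X, ⊤)) (a' : R' ⟶ Γ(Y, ⊤)) (g : R' ⟶ R)
    (h : g ≫ a = a' ≫ f.appTop) :
    (X.isoSpec.hom ≫ Spec.map a) ≫ Spec.map g = f ≫ (Y.isoSpec.hom ≫ Spec.map a') := by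
  rw [Category.assoc, ← Spec.map_comp, h, Spec.map_comp, ← Category.assoc,
    Scheme.isoSpec_hom_naturality, Category.assoc]

theorem inv_comm {C : Type*} [Category C] {X Y P P' : C} (e : X ≅ P) (e' : Y ≅ P') (f : X ⟶ Y)
    (g : P ⟶ P') (h : e.hom ≫ g = f ≫ e'.hom) : e.inv ≫ f = g ≫ e'.inv := by
  rw [Iso.inv_comp_eq, ← Category.assoc, h, Category.assoc, Iso.hom_inv_id, Category.comp_id]

/-- the abstract construction of the isomorphism with a formal spectrum -/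
theorem nonempty_iso_spf (𝔛 : FSch.Sys.{u}) [∀ n, IsAffine (𝔛.X n)] (A : Type u) [CommRing A]
    (J : Ideal A) (p : ∀ n, A →+* Γ(𝔛.X n, ⊤)) (hsurj : ∀ n, Function.Surjective (p n))
    (hker : ∀ n, RingHom.ker (p n) = J ^ (n + 1))
    (hp : ∀ n, ((𝔛.ι n).appTop.hom).comp (p (n + 1)) = p n) :
    Nonempty (𝔛 ≅ FSch.spf A J) := by
  let φ : ∀ n, (A ⧸ J ^ (n + 1)) ≃+* Γ(𝔛.X n, ⊤) := fun n =>
    (Ideal.quotEquivOfEq (hker n).symm).trans (RingHom.quotientKerEquivOfSurjective (hsurj n))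
  have hφ : ∀ n (a : A), φ n (Ideal.Quotient.mk _ a) = p n a := fun n a => rfl
  let e : ∀ n, 𝔛.X n ≅ (FSch.spf A J).X n := fun n =>
    (𝔛.X n).isoSpec ≪≫ Scheme.Spec.mapIso (φ n).toCommRingCatIso.op
  have comm : ∀ n, (e n).hom ≫ (FSch.spf A J).ι n = 𝔛.ι n ≫ (e (n + 1)).hom := by
    intro n
    refine isoSpec_comm (𝔛.ι n)
      (CommRingCat.ofHom (φ n : (A ⧸ J ^ (n + 1)) →+* Γ(𝔛.X n, ⊤)))
      (CommRingCat.ofHom (φ (n + 1) : (A ⧸ J ^ (n + 1 + 1)) →+* Γ(𝔛.X (n + 1), ⊤)))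
      (CommRingCat.ofHom (Ideal.Quotient.factor (Ideal.pow_le_pow_right (Nat.le_succ (n + 1)))))
      ?_
    ext a
    change φ n (Ideal.Quotient.mk _ a) = (𝔛.ι n).appTop.hom (φ (n + 1) (Ideal.Quotient.mk _ a))
    rw [hφ, hφ]
    exact (congrArg (fun f => f a) (hp n)).symm
  have comm' : ∀ n, (e n).inv ≫ 𝔛.ι n = (FSch.spf A J).ι n ≫ (e (n + 1)).inv :=
    fun n => inv_comm (e n) (e (n + 1)) (𝔛.ι n) ((FSch.spf A J).ι n) (comm n)
  exact ⟨
    { hom := ⟨fun n => (e n).hom, comm⟩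
      inv := ⟨fun n => (e n).inv, comm'⟩
      hom_inv_id := FSch.Hom.ext (funext fun n => (e n).hom_inv_id)
      inv_hom_id := FSch.Hom.ext (funext fun n => (e n).inv_hom_id) }⟩

/-- the limit ring of a formal adic system with affine levels -/
theorem exists_limit_ring (𝔛 : FSch.Sys.{u}) (hF : 𝔛.IsFormal) (hA : 𝔛.IsAdic)
    [∀ n, IsAffine (𝔛.X n)] (hft : FSch.IdealFT (𝔛.ι 0).ker) :
    ∃ (A : Type u) (_ : CommRing A) (J : Ideal A) (p : ∀ n, A →+* Γ(𝔛.X n, ⊤)),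
      IsAdicComplete J A ∧ J.FG ∧ (∀ n, Function.Surjective (p n)) ∧
      (∀ n, RingHom.ker (p n) = J ^ (n + 1)) ∧
      ∀ n, ((𝔛.ι n).appTop.hom).comp (p (n + 1)) = p n := by
  haveI hci : ∀ n, IsClosedImmersion (𝔛.ι n) := fun n => (hF n).1
  -- the tower of rings
  let t : ∀ n, Γ(𝔛.X (n + 1), ⊤) →+* Γ(𝔛.X n, ⊤) := fun n => (𝔛.ι n).appTop.hom
  let v : ∀ n, Γ(𝔛.X n, ⊤) →+* Γ(𝔛.X 0, ⊤) := fun n => (𝔛.toX n).appTop.hom
  have ht : ∀ n, Function.Surjective (t n) := fun n =>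
    (𝔛.ι n).app_surjective ⊤ (isAffineOpen_top _)
  have hv0 : v 0 = RingHom.id _ := rfl
  have hv : ∀ n, (v n).comp (t n) = v (n + 1) := fun n => rfl
  have hker : ∀ n, RingHom.ker (t n) = RingHom.ker (v (n + 1)) ^ (n + 1) := by
    intro n
    have h := congr(($(hA n)).ideal ⟨⊤, isAffineOpen_top _⟩)
    rw [Scheme.IdealSheafData.ideal_pow, Pi.pow_apply, Scheme.Hom.ker_apply,
      Scheme.Hom.ker_apply] at h
    exact h
  have hfg : (RingHom.ker (v 1)).FG := by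
    have h := hft ⟨⊤, isAffineOpen_top _⟩
    rw [Scheme.Hom.ker_apply] at h
    have h1 : 𝔛.toX 1 = 𝔛.ι 0 := Category.id_comp _
    change (RingHom.ker ((𝔛.toX 1).appTop.hom)).FG
    rw [h1]
    exact h
  let A : Subring (∀ n, Γ(𝔛.X n, ⊤)) := limSubring (fun n => Γ(𝔛.X n, ⊤)) t
  let p : ∀ n, A →+* Γ(𝔛.X n, ⊤) := fun n =>
    (Pi.evalRingHom (fun n => (Γ(𝔛.X n, ⊤) : Type u)) n).comp A.subtype
  have hp : ∀ n, (t n).comp (p (n + 1)) = p n := fun n => RingHom.ext fun x => x.2 n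
  have hinj : ∀ x : A, (∀ n, p n x = 0) → x = 0 := fun x hx => Subtype.ext (funext hx)
  have hlift : ∀ y : (∀ n, Γ(𝔛.X n, ⊤)), (∀ n, t n (y (n + 1)) = y n) →
      ∃ x : A, ∀ n, p n x = y n := fun y hy => ⟨⟨y, hy⟩, fun n => rfl⟩
  obtain ⟨hc, hpn, hJfg⟩ := Groth.Agent.S2292.result (fun n => (Γ(𝔛.X n, ⊤) : Type u)) t ht v hv0 hv
    hker hfg A p hp hinj hlift
  exact ⟨A, inferInstance, RingHom.ker (p 0), p, hc, hJfg, fun n => (hpn n).1,
    fun n => (hpn n).2, hp⟩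

theorem exists_spf_iso (𝔛 : FSch.Sys.{u}) (hF : 𝔛.IsFormal) (hA : 𝔛.IsAdic)
    [IsAffine (𝔛.X 0)] [IsLocallyNoetherian (𝔛.X 0)] (hft : FSch.IdealFT (𝔛.ι 0).ker) :
    ∃ (A : Type u) (_ : CommRing A) (J : Ideal A),
      IsNoetherianRing A ∧ IsAdicComplete J A ∧ Nonempty (𝔛 ≅ FSch.spf A J) := by
  haveI haff := isAffine_level 𝔛 hF
  obtain ⟨A, _, J, p, hc, hJfg, hsurj, hker, hp⟩ := exists_limit_ring 𝔛 hF hA hft
  haveI : IsNoetherianRing Γ(𝔛.X 0, ⊤) :=
    IsLocallyNoetherian.component_noetherian ⟨⊤, isAffineOpen_top _⟩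
  have hker0 : RingHom.ker (p 0) = J := by rw [hker 0, zero_add, pow_one]
  haveI : IsNoetherianRing (A ⧸ J) := by
    rw [← hker0]
    exact isNoetherianRing_of_ringEquiv _ (RingHom.quotientKerEquivOfSurjective (hsurj 0)).symm
  haveI := hc
  exact ⟨A, inferInstance, J, Groth.Agent.Lib.AdicNoeth.isNoetherianRing_of_isAdicComplete J hJfg,
    hc, nonempty_iso_spf 𝔛 A J p hsurj hker hp⟩

end Groth.Agent.Lib.FSchAffine24
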