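import Groth.Prelude.Def_FSch2
import Mathlib.AlgebraicGeometry.Morphisms.Smooth

/-!
# Base change of the completion of a scheme along an ideal

For `g : V ⟶ S` and an ideal sheaf `𝒥` on `S`, the system `n ↦ V ×_S V(𝒥^(n+1))` with its adic
morphism to the completion of `S` along `𝒥`.

* `bcSys g 𝒥`, `bcFst`, `bcSnd`, `isPullback_bc`, `bcHom g 𝒥`, `isAdicHom_bcHom`, `smooth_bcHom_app`.
* `bcLift`: a compatible family of morphisms from the levels of `bcSys gU 𝒥` to `V` over `S` induces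
  a morphism of systems `bcSys gU 𝒥 ⟶ bcSys gV 𝒥` over the completion.
-/

set_option autoImplicit false
universe u

namespace Groth.Agent.Lib.FSchBC24

open AlgebraicGeometry CategoryTheory Limits

variable {S V U : Scheme.{u}} (g : V ⟶ S) (𝒥 : S.IdealSheafData)

theorem ι_comp_completionToX (n : ℕ) :
    (FSch.completionAlong S 𝒥).ι n ≫ FSch.completionToX S 𝒥 (n + 1) = FSch.completionToX S 𝒥 n :=
  Scheme.IdealSheafData.inclusion_subschemeι _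

/-- The base change of the completion of `S` along `𝒥` to `V`. -/
noncomputable def bcSys : FSch.Sys.{u} where
  X n := pullback g (FSch.completionToX S 𝒥 n)
  ι n := pullback.lift (pullback.fst _ _) (pullback.snd _ _ ≫ (FSch.completionAlong S 𝒥).ι n) (by
    rw [Category.assoc, ι_comp_completionToX, pullback.condition])

/-- The projection of the `n`-th level to `V`. -/
noncomputable def bcFst (n : ℕ) : (bcSys g 𝒥).X n ⟶ V :=
  pullback.fst g (FSch.completionToX S 𝒥 n)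

/-- The projection of the `n`-th level to the `n`-th level of the completion. -/
noncomputable def bcSnd (n : ℕ) : (bcSys g 𝒥).X n ⟶ (FSch.completionAlong S 𝒥).X n :=
  pullback.snd g (FSch.completionToX S 𝒥 n)

theorem isPullback_bc (n : ℕ) :
    IsPullback (bcFst g 𝒥 n) (bcSnd g 𝒥 n) g (FSch.completionToX S 𝒥 n) :=
  IsPullback.of_hasPullback _ _

@[reassoc (attr := simp)]
theorem bcSys_ι_fst (n : ℕ) : (bcSys g 𝒥).ι n ≫ bcFst g 𝒥 (n + 1) = bcFst g 𝒥 n :=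
  pullback.lift_fst _ _ _

@[reassoc (attr := simp)]
theorem bcSys_ι_snd (n : ℕ) :
    (bcSys g 𝒥).ι n ≫ bcSnd g 𝒥 (n + 1) = bcSnd g 𝒥 n ≫ (FSch.completionAlong S 𝒥).ι n :=
  pullback.lift_snd _ _ _

/-- The projection to the completion of `S`. -/
noncomputable def bcHom : bcSys g 𝒥 ⟶ FSch.completionAlong S 𝒥 :=
  (⟨fun n => bcSnd g 𝒥 n, fun n => (bcSys_ι_snd g 𝒥 n).symm⟩ : FSch.Hom _ _)

@[simp]
theorem bcHom_app (n : ℕ) : (bcHom g 𝒥 : FSch.Hom _ _).app n = bcSnd g 𝒥 n := rfl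

theorem isAdicHom_bcHom : FSch.IsAdicHom (bcHom g 𝒥) := by
  intro n
  have hr := isPullback_bc g 𝒥 (n + 1)
  have ho : IsPullback ((bcSys g 𝒥).ι n ≫ bcFst g 𝒥 (n + 1)) (bcSnd g 𝒥 n) g
      ((FSch.completionAlong S 𝒥).ι n ≫ FSch.completionToX S 𝒥 (n + 1)) := by
    rw [bcSys_ι_fst, ι_comp_completionToX]
    exact isPullback_bc g 𝒥 n
  exact IsPullback.of_right ho (bcSys_ι_snd g 𝒥 n) hr

theorem smooth_bcHom_app [Smooth g] (n : ℕ) : Smooth ((bcHom g 𝒥 : FSch.Hom _ _).app n) := by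
  rw [bcHom_app]
  exact MorphismProperty.of_isPullback (P := @Smooth) (isPullback_bc g 𝒥 n) inferInstance

variable {g 𝒥} in
/-- A compatible family of morphisms from the levels of `bcSys gU 𝒥` to `V` over `S` induces a
morphism of systems over the completion of `S`. -/
noncomputable def bcLift (gU : U ⟶ S) (φ : ∀ n, (bcSys gU 𝒥).X n ⟶ V)
    (h1 : ∀ n, φ n ≫ g = bcFst gU 𝒥 n ≫ gU)
    (h2 : ∀ n, (bcSys gU 𝒥).ι n ≫ φ (n + 1) = φ n) : bcSys gU 𝒥 ⟶ bcSys g 𝒥 :=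
  (⟨fun n => (isPullback_bc g 𝒥 n).lift (φ n) (bcSnd gU 𝒥 n)
      ((h1 n).trans (isPullback_bc gU 𝒥 n).w),
    fun n => by
      apply (isPullback_bc g 𝒥 (n + 1)).hom_ext
      · rw [Category.assoc, bcSys_ι_fst, IsPullback.lift_fst, Category.assoc, IsPullback.lift_fst, h2]
      · rw [Category.assoc, bcSys_ι_snd, IsPullback.lift_snd_assoc, Category.assoc,
          IsPullback.lift_snd, bcSys_ι_snd]⟩ : FSch.Hom _ _)

variable {g 𝒥} in
@[simp]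
theorem bcLift_app_fst (gU : U ⟶ S) (φ : ∀ n, (bcSys gU 𝒥).X n ⟶ V)
    (h1 : ∀ n, φ n ≫ g = bcFst gU 𝒥 n ≫ gU)
    (h2 : ∀ n, (bcSys gU 𝒥).ι n ≫ φ (n + 1) = φ n) (n : ℕ) :
    (bcLift gU φ h1 h2 : FSch.Hom _ _).app n ≫ bcFst g 𝒥 n = φ n :=
  IsPullback.lift_fst _ _ _ _

variable {g 𝒥} in
@[simp]
theorem bcLift_app_snd (gU : U ⟶ S) (φ : ∀ n, (bcSys gU 𝒥).X n ⟶ V)
    (h1 : ∀ n, φ n ≫ g = bcFst gU 𝒥 n ≫ gU)
    (h2 : ∀ n, (bcSys gU 𝒥).ι n ≫ φ (n + 1) = φ n) (n : ℕ) :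
    (bcLift gU φ h1 h2 : FSch.Hom _ _).app n ≫ bcSnd g 𝒥 n = bcSnd gU 𝒥 n :=
  IsPullback.lift_snd _ _ _ _

variable {g 𝒥} in
theorem bcLift_comp_bcHom (gU : U ⟶ S) (φ : ∀ n, (bcSys gU 𝒥).X n ⟶ V)
    (h1 : ∀ n, φ n ≫ g = bcFst gU 𝒥 n ≫ gU)
    (h2 : ∀ n, (bcSys gU 𝒥).ι n ≫ φ (n + 1) = φ n) :
    bcLift gU φ h1 h2 ≫ bcHom g 𝒥 = bcHom gU 𝒥 := by
  apply FSch.Hom.ext
  funext n
  exact bcLift_app_snd gU φ h1 h2 n

end Groth.Agent.Lib.FSchBC24
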