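import Groth.Agent.Lib.IdealSheafComap

set_option autoImplicit false
universe u

namespace Groth.Agent.Lib.FSchKer

open AlgebraicGeometry CategoryTheory Limits

/-- The kernel of a base change of a closed immersion is the inverse image of the kernel. -/
lemma ker_of_isPullback {ZX ZY X Y : Scheme.{u}} {iX : ZX ⟶ X} {Zf : ZX ⟶ ZY} {f : X ⟶ Y}
    {iY : ZY ⟶ Y} [IsClosedImmersion iY] (h : IsPullback iX Zf f iY) :
    iX.ker = iY.ker.comap f := by
  rw [← Scheme.IdealSheafData.ker_fst_of_isClosedImmersion]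
  have : iX = h.isoPullback.hom ≫ pullback.fst f iY := by simp
  rw [this, Scheme.Hom.ker_comp_of_isIso]

/-- If `i = g ≫ f` with `f` a monomorphism, the square `g, 𝟙, f, i` is cartesian. -/
lemma isPullback_of_mono_fac {C : Type*} [Category C] {Z X Y : C} (g : Z ⟶ X) (f : X ⟶ Y)
    (i : Z ⟶ Y) [Mono f] (w : g ≫ f = i) : IsPullback g (𝟙 Z) f i := by
  refine ⟨⟨by simp [w]⟩, ⟨PullbackCone.IsLimit.mk _ (fun s => s.snd) ?_ ?_ ?_⟩⟩
  · intro s
    rw [← cancel_mono f, Category.assoc, w, s.condition]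
  · intro s
    simp
  · intro s m _ h₂
    simpa using h₂

variable {X : Scheme.{u}}

/-- The kernel of the inclusion of closed subschemes. -/
lemma ker_inclusion {I J : X.IdealSheafData} (h : J ≤ I) :
    (Scheme.IdealSheafData.inclusion h).ker = I.comap J.subschemeι := by
  have := ker_of_isPullback (isPullback_of_mono_fac (Scheme.IdealSheafData.inclusion h)
    J.subschemeι I.subschemeι (Scheme.IdealSheafData.inclusion_subschemeι h))
  rwa [Scheme.IdealSheafData.ker_subschemeι] at this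

/-- Inclusions of closed subschemes are closed immersions. -/
lemma isClosedImmersion_inclusion {I J : X.IdealSheafData} (h : J ≤ I) :
    IsClosedImmersion (Scheme.IdealSheafData.inclusion h) := by
  have : IsClosedImmersion (Scheme.IdealSheafData.inclusion h ≫ J.subschemeι) := by
    rw [Scheme.IdealSheafData.inclusion_subschemeι]
    infer_instance
  exact IsClosedImmersion.of_comp_isClosedImmersion _ J.subschemeι

/-- Inclusions of closed subschemes with the same support are surjective. -/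
lemma surjective_inclusion {I J : X.IdealSheafData} (h : J ≤ I) (hs : I.support = J.support) :
    Function.Surjective (Scheme.IdealSheafData.inclusion h).base := by
  intro y
  have hy : J.subschemeι y ∈ Set.range I.subschemeι := by
    rw [Scheme.IdealSheafData.range_subschemeι, hs, ← Scheme.IdealSheafData.range_subschemeι]
    exact ⟨y, rfl⟩
  obtain ⟨x, hx⟩ := hy
  refine ⟨x, ?_⟩
  apply J.subschemeι.isEmbedding.injective
  rw [← hx]
  change (Scheme.IdealSheafData.inclusion h ≫ J.subschemeι) x = _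
  rw [Scheme.IdealSheafData.inclusion_subschemeι]

/-- Closed subschemes of locally Noetherian schemes are locally Noetherian. -/
lemma isLocallyNoetherian_subscheme [IsLocallyNoetherian X] (I : X.IdealSheafData) :
    IsLocallyNoetherian I.subscheme :=
  LocallyOfFiniteType.isLocallyNoetherian I.subschemeι

/-- In a formal system the composites from level `0` are closed immersions. -/
lemma isClosedImmersion_toX (𝔛 : FSch.Sys.{u}) (h : 𝔛.IsFormal) (n : ℕ) :
    IsClosedImmersion (𝔛.toX n) := by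
  induction n with
  | zero => exact inferInstanceAs (IsClosedImmersion (𝟙 _))
  | succ n ih =>
    have := (h n).1
    exact inferInstanceAs (IsClosedImmersion (𝔛.toX n ≫ 𝔛.ι n))

/-- For an adic morphism of systems the squares from level `0` are cartesian. -/
lemma isPullback_toX {𝔛 𝔖 : FSch.Sys.{u}} (f : 𝔛 ⟶ 𝔖) (hf : FSch.IsAdicHom f) (n : ℕ) :
    IsPullback (𝔛.toX n) ((f : FSch.Hom 𝔛 𝔖).app 0) ((f : FSch.Hom 𝔛 𝔖).app n) (𝔖.toX n) := by
  induction n with
  | zero =>
    have h1 : IsIso (𝔛.toX 0) := inferInstanceAs (IsIso (𝟙 _))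
    have h2 : IsIso (𝔖.toX 0) := inferInstanceAs (IsIso (𝟙 _))
    exact IsPullback.of_horiz_isIso ⟨by simp [FSch.Sys.toX]⟩
  | succ n ih => exact ih.paste_horiz (hf n)

/-- A system that is adic over a formal system is formal. -/
lemma isFormal_of_isAdicHom {𝔛 𝔖 : FSch.Sys.{u}} (f : 𝔛 ⟶ 𝔖) (hf : FSch.IsAdicHom f)
    (h𝔖 : 𝔖.IsFormal) : 𝔛.IsFormal := by
  intro n
  refine ⟨MorphismProperty.of_isPullback (P := @IsClosedImmersion) (hf n).flip (h𝔖 n).1, ?_⟩
  have h1 : Surjective (𝔖.ι n) := ⟨(h𝔖 n).2⟩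
  have h2 : Surjective (𝔛.ι n) :=
    MorphismProperty.of_isPullback (P := @Surjective) (hf n).flip h1
  exact h2.surj

/-- A system that is adic over a formal adic system is adic. -/
lemma isAdic_of_isAdicHom {𝔛 𝔖 : FSch.Sys.{u}} (f : 𝔛 ⟶ 𝔖) (hf : FSch.IsAdicHom f)
    (h𝔖F : 𝔖.IsFormal) (h𝔖A : 𝔖.IsAdic) : 𝔛.IsAdic := by
  intro n
  have := (h𝔖F n).1
  have := isClosedImmersion_toX 𝔖 h𝔖F (n + 1)
  rw [ker_of_isPullback (hf n), ker_of_isPullback (isPullback_toX f hf (n + 1)), h𝔖A n,
    IdealSheafComap.comap_pow]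

/-- The kernel ideal sheaf of `Spec φ` is the ideal sheaf of the kernel of `φ`. -/
lemma ker_SpecMap {R R' : Type u} [CommRing R] [CommRing R'] (φ : R →+* R') :
    (Spec.map (CommRingCat.ofHom φ)).ker = FSch.idealSpec R (RingHom.ker φ) := by
  rw [IdealSheafComap.idealSpec_eq_ofIdealTop, Scheme.ker_of_isAffine]
  congr 1
  have h := Scheme.ΓSpecIso_naturality (CommRingCat.ofHom φ)
  have hinj : Function.Injective (Scheme.ΓSpecIso (CommRingCat.of R')).hom.hom :=
    (ConcreteCategory.bijective_of_isIso (Scheme.ΓSpecIso (CommRingCat.of R')).hom).1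
  ext x
  rw [RingHom.mem_ker, Ideal.mem_comap, RingHom.mem_ker, ← map_eq_zero_iff _ hinj]
  have := congr($(h).hom x)
  simp only [CommRingCat.hom_comp, RingHom.comp_apply, CommRingCat.hom_ofHom] at this
  rw [this]

/-- The ideal sheaf of a positive power of an ideal. -/
lemma idealSpec_pow_succ (B : Type u) [CommRing B] (𝔟 : Ideal B) (n : ℕ) :
    FSch.idealSpec B (𝔟 ^ (n + 1)) = FSch.idealSpec B 𝔟 ^ (n + 1) := by
  induction n with
  | zero => simp
  | succ n ih => rw [pow_succ, IdealSheafComap.idealSpec_mul, ih, ← pow_succ]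

/-- Distinct ideals define distinct ideal sheaves. -/
lemma idealSpec_injective (B : Type u) [CommRing B] : Function.Injective (FSch.idealSpec B) := by
  intro 𝔞 𝔟 h
  rw [IdealSheafComap.idealSpec_eq_ofIdealTop, IdealSheafComap.idealSpec_eq_ofIdealTop] at h
  have h' := (Scheme.IdealSheafData.equivOfIsAffine
    (X := Spec (CommRingCat.of B))).symm.injective h
  exact Ideal.comap_injective_of_surjective _
    (ConcreteCategory.bijective_of_isIso (Scheme.ΓSpecIso (CommRingCat.of B)).hom).2 h'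

/-- A square of systems that is cartesian at every level is cartesian. -/
lemma isPullback_of_levelwise {𝔓 𝔛 𝔜 𝔖 : FSch.Sys.{u}} (p : 𝔓 ⟶ 𝔛) (q : 𝔓 ⟶ 𝔜) (f : 𝔛 ⟶ 𝔖)
    (g : 𝔜 ⟶ 𝔖)
    (H : ∀ n, IsPullback ((p : FSch.Hom 𝔓 𝔛).app n) ((q : FSch.Hom 𝔓 𝔜).app n)
      ((f : FSch.Hom 𝔛 𝔖).app n) ((g : FSch.Hom 𝔜 𝔖).app n)) :
    IsPullback p q f g := by
  have w : p ≫ f = q ≫ g := by
    apply FSch.Hom.ext
    funext n
    exact (H n).w
  have hlift : ∀ (s : PullbackCone f g) (n : ℕ),
      (s.fst : FSch.Hom _ _).app n ≫ (f : FSch.Hom 𝔛 𝔖).app n =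
        (s.snd : FSch.Hom _ _).app n ≫ (g : FSch.Hom 𝔜 𝔖).app n := fun s n =>
    congr_arg (fun h : FSch.Hom s.pt 𝔖 => h.app n) s.condition
  refine ⟨⟨w⟩, ⟨PullbackCone.IsLimit.mk w
    (fun s => (⟨fun n => (H n).lift _ _ (hlift s n), fun n => ?_⟩ : FSch.Hom s.pt 𝔓))
    ?_ ?_ ?_⟩⟩
  · apply (H (n + 1)).hom_ext
    · rw [Category.assoc, ← (p : FSch.Hom 𝔓 𝔛).comm n, ← Category.assoc, (H n).lift_fst,
        Category.assoc, (H (n + 1)).lift_fst]
      exact (s.fst : FSch.Hom _ _).comm n
    · rw [Category.assoc, ← (q : FSch.Hom 𝔓 𝔜).comm n, ← Category.assoc, (H n).lift_snd,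
        Category.assoc, (H (n + 1)).lift_snd]
      exact (s.snd : FSch.Hom _ _).comm n
  · intro s
    apply FSch.Hom.ext
    funext n
    exact (H n).lift_fst _ _ _
  · intro s
    apply FSch.Hom.ext
    funext n
    exact (H n).lift_snd _ _ _
  · intro s m h₁ h₂
    apply FSch.Hom.ext
    funext n
    apply (H n).hom_ext
    · have := congr_arg (fun h : FSch.Hom _ _ => h.app n) h₁
      simp only [FSch.comp_app] at this
      exact this.trans ((H n).lift_fst _ _ _).symm
    · have := congr_arg (fun h : FSch.Hom _ _ => h.app n) h₂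
      simp only [FSch.comp_app] at this
      exact this.trans ((H n).lift_snd _ _ _).symm

end Groth.Agent.Lib.FSchKer
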