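import Groth.Agent.Lib.NilThick
import Groth.Agent.Lib.ThickAffineOpen
import Groth.Agent.S1309
import Groth.Agent.S1313

/-!
# Levelwise properties of adic morphisms of formal systems (helper24)

For an adic morphism `f : 𝔛 ⟶ 𝔜` of systems of thickenings with `𝔜` formal and adic: if `f.app n` is
finite / a closed immersion / proper then so is `f.app (n+1)`.
-/

set_option autoImplicit false
universe u

open CategoryTheory CategoryTheory.Limits AlgebraicGeometry

namespace Groth.Agent.Lib.FSchLevels24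

/-- In a formal adic system every transition map is a finite order (even first order) thickening. -/
theorem isFiniteOrderThickening_ι (𝔜 : FSch.Sys.{u}) (hF : 𝔜.IsFormal) (hA : 𝔜.IsAdic) (n : ℕ) :
    MoreMor.IsFiniteOrderThickening (𝔜.ι n) := by
  refine ⟨⟨(hF n).1, ⟨(hF n).2⟩⟩, ⟨2, ?_⟩⟩
  rw [hA n, ← pow_mul]
  have h := Groth.Agent.Lib.NilThick.ker_toX_pow_eq_bot 𝔜 hF hA (n + 1)
  have e : (n + 1) * 2 = (n + 1 + 1) + n := by ring
  rw [e, pow_add, h]
  exact zero_mul _

/-- Separatedness can be checked after precomposing with a surjective universally closed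
morphism. -/
theorem isSeparated_of_comp_of_surjective {X X' S' : Scheme.{u}} (g : X ⟶ X') (f' : X' ⟶ S')
    [Surjective g] [UniversallyClosed g] [IsSeparated (g ≫ f')] : IsSeparated f' := by
  constructor
  apply IsClosedImmersion.of_isPreimmersion
  let m := pullback.map (g ≫ f') (g ≫ f') f' f' g g (𝟙 _) ((Category.comp_id _).trans rfl)
    ((Category.comp_id _).trans rfl)
  have hm : UniversallyClosed m :=
    MorphismProperty.pullbackMap (P := @UniversallyClosed) ‹_› ‹_› rfl rfl
  have hcomm : pullback.diagonal (g ≫ f') ≫ m = g ≫ pullback.diagonal f' := by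
    apply pullback.hom_ext
    · simp only [m, pullback.map, Category.assoc, pullback.lift_fst, pullback.diagonal_fst_assoc,
        pullback.diagonal_fst, Category.comp_id]
    · simp only [m, pullback.map, Category.assoc, pullback.lift_snd, pullback.diagonal_snd_assoc,
        pullback.diagonal_snd, Category.comp_id]
  have hrange : Set.range (pullback.diagonal f') =
      m '' Set.range (pullback.diagonal (g ≫ f')) := by
    ext y
    constructor
    · rintro ⟨x', rfl⟩
      obtain ⟨x, rfl⟩ := g.surjective x'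
      refine ⟨pullback.diagonal (g ≫ f') x, ⟨x, rfl⟩, ?_⟩
      rw [← Scheme.Hom.comp_apply, hcomm, Scheme.Hom.comp_apply]
    · rintro ⟨_, ⟨x, rfl⟩, rfl⟩
      refine ⟨g x, ?_⟩
      rw [← Scheme.Hom.comp_apply, ← hcomm, Scheme.Hom.comp_apply]
  rw [hrange]
  exact m.isClosedMap _ (pullback.diagonal (g ≫ f')).isClosedEmbedding.isClosed_range

section Step

variable {𝔛 𝔜 : FSch.Sys.{u}} (f : 𝔛 ⟶ 𝔜) (hF : 𝔜.IsFormal) (hA : 𝔜.IsAdic)
  (hf : FSch.IsAdicHom f) (n : ℕ)

include hF hA hf

theorem locallyOfFiniteType_succ [LocallyOfFiniteType ((f : FSch.Hom 𝔛 𝔜).app n)] :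
    LocallyOfFiniteType ((f : FSch.Hom 𝔛 𝔜).app (n + 1)) :=
  (Groth.Agent.S1309.result _ _ _ _ (isFiniteOrderThickening_ι 𝔜 hF hA n) (hf n)).mp inferInstance

theorem isFinite_succ [IsFinite ((f : FSch.Hom 𝔛 𝔜).app n)] :
    IsFinite ((f : FSch.Hom 𝔛 𝔜).app (n + 1)) := by
  have hS := isFiniteOrderThickening_ι 𝔜 hF hA n
  have hc := hf n
  haveI : IsClosedImmersion (𝔜.ι n) := hS.1.1
  haveI : Surjective (𝔜.ι n) := hS.1.2
  haveI : IsClosedImmersion (𝔛.ι n) := MorphismProperty.of_isPullback hc.flip inferInstance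
  haveI : Surjective (𝔛.ι n) := MorphismProperty.of_isPullback (P := @Surjective) hc.flip inferInstance
  have hlft := locallyOfFiniteType_succ f hF hA hf n
  have hint : IsIntegralHom ((f : FSch.Hom 𝔛 𝔜).app (n + 1)) :=
    Groth.Agent.Lib.ThickAffine.isIntegralHom_of_thickening (𝔛.ι n) (𝔜.ι n) _ _ hc.w
  exact (IsFinite.iff_isIntegralHom_and_locallyOfFiniteType _).mpr ⟨hint, hlft⟩

theorem isClosedImmersion_succ [IsClosedImmersion ((f : FSch.Hom 𝔛 𝔜).app n)] :
    IsClosedImmersion ((f : FSch.Hom 𝔛 𝔜).app (n + 1)) := by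
  have hS := isFiniteOrderThickening_ι 𝔜 hF hA n
  haveI := locallyOfFiniteType_succ f hF hA hf n
  exact (Groth.Agent.S1313.result _ _ _ _ hS.1 (hf n)).mp inferInstance

theorem isProper_succ [IsProper ((f : FSch.Hom 𝔛 𝔜).app n)] :
    IsProper ((f : FSch.Hom 𝔛 𝔜).app (n + 1)) := by
  have hS := isFiniteOrderThickening_ι 𝔜 hF hA n
  have hc := hf n
  haveI : IsClosedImmersion (𝔜.ι n) := hS.1.1
  haveI : Surjective (𝔜.ι n) := hS.1.2
  haveI : IsClosedImmersion (𝔛.ι n) := MorphismProperty.of_isPullback hc.flip inferInstance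
  haveI : Surjective (𝔛.ι n) := MorphismProperty.of_isPullback (P := @Surjective) hc.flip inferInstance
  have hlft := locallyOfFiniteType_succ f hF hA hf n
  have huc : UniversallyClosed ((f : FSch.Hom 𝔛 𝔜).app (n + 1)) := by
    haveI : UniversallyClosed (𝔛.ι n ≫ (f : FSch.Hom 𝔛 𝔜).app (n + 1)) := by
      rw [hc.w]; infer_instance
    exact UniversallyClosed.of_comp_surjective (𝔛.ι n) _
  have hsep : IsSeparated ((f : FSch.Hom 𝔛 𝔜).app (n + 1)) := by
    haveI : IsSeparated (𝔛.ι n ≫ (f : FSch.Hom 𝔛 𝔜).app (n + 1)) := by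
      rw [hc.w]; infer_instance
    exact isSeparated_of_comp_of_surjective (𝔛.ι n) _
  exact (isProper_iff _).mpr ⟨hsep, huc, hlft⟩

end Step

end Groth.Agent.Lib.FSchLevels24
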