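import Groth.Prelude.Def_PBC
import Mathlib.Algebra.Category.Ring.FilteredColimits
import Mathlib.CategoryTheory.Limits.Constructions.Over.Connected
import Mathlib.CategoryTheory.Limits.Types.Filtered
import Mathlib.CategoryTheory.Limits.Preserves.Filtered
import Mathlib.RingTheory.LocalIso
import Mathlib.RingTheory.Localization.Away.Lemmas

set_option autoImplicit false
open CategoryTheory CategoryTheory.Limits
universe u

namespace Groth.Agent.Lib.H15IndZariski

attribute [local instance] IsFiltered.isConnected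

/-- Recognizing filtered colimits in `Under (CommRingCat.of A)` elementwise. -/
theorem isColimit_under_of_elementwise {A : Type u} [CommRing A] {J : Type u} [SmallCategory J]
    [IsFiltered J] (D : J ⥤ Under (CommRingCat.of A)) (c : Cocone D)
    (hsurj : ∀ b : c.pt.right, ∃ (j : J) (x : (D.obj j).right), (c.ι.app j).right x = b)
    (hinj : ∀ (j : J) (x y : (D.obj j).right), (c.ι.app j).right x = (c.ι.app j).right y →
      ∃ (k : J) (f : j ⟶ k), (D.map f).right x = (D.map f).right y) :
    Nonempty (IsColimit c) := by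
  have : ReflectsColimitsOfShape J (forget CommRingCat.{u}) :=
    reflectsColimitsOfShape_of_reflectsIsomorphisms
  refine ⟨isColimitOfReflects (Under.forget (CommRingCat.of A)) ?_⟩
  refine isColimitOfReflects (forget CommRingCat.{u}) ?_
  refine Types.FilteredColimit.isColimitOf' _ _ ?_ ?_
  · intro b
    obtain ⟨j, x, hx⟩ := hsurj b
    exact ⟨j, x, hx.symm⟩
  · intro j x y h
    exact hinj j x y h

section quot

variable {A : Type u} [CommRing A] {ι : Type u} [Preorder ι] (K : ι → Ideal A) (hK : Monotone K)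

/-- the diagram of quotients `A ⧸ K i`. -/
noncomputable def quotDiagram : ι ⥤ Under (CommRingCat.of A) where
  obj i := Under.mk (CommRingCat.ofHom (algebraMap A (A ⧸ K i)))
  map {i j} f := Under.homMk (CommRingCat.ofHom (Ideal.Quotient.factor (hK (leOfHom f)))) (by
    ext x; rfl)
  map_id i := by
    ext x
    obtain ⟨x, rfl⟩ := Ideal.Quotient.mk_surjective x
    rfl
  map_comp f g := by
    ext x
    obtain ⟨x, rfl⟩ := Ideal.Quotient.mk_surjective x
    rfl

noncomputable def quotCocone : Cocone (quotDiagram K hK) where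
  pt := Under.mk (CommRingCat.ofHom (algebraMap A (A ⧸ ⨆ i, K i)))
  ι :=
    { app := fun i => Under.homMk (CommRingCat.ofHom (Ideal.Quotient.factor (le_iSup K i))) (by
        ext x; rfl)
      naturality := fun i j f => by
        ext x
        obtain ⟨x, rfl⟩ := Ideal.Quotient.mk_surjective x
        rfl }

include hK in
theorem isIndZariski_quotient_iSup [IsDirectedOrder ι] [Nonempty ι]
    (hloc : ∀ i, Algebra.IsLocalIso A (A ⧸ K i)) :
    EtPBC.IsIndZariski A (A ⧸ ⨆ i, K i) := by
  have : IsFiltered ι := isFiltered_of_directed_le_nonempty ι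
  obtain ⟨hc⟩ := isColimit_under_of_elementwise (quotDiagram K hK) (quotCocone K hK) (by
    intro b
    obtain ⟨a, rfl⟩ := Ideal.Quotient.mk_surjective (I := ⨆ i, K i) b
    obtain ⟨i⟩ := ‹Nonempty ι›
    exact ⟨i, Ideal.Quotient.mk (K i) a, rfl⟩) (by
    intro j x y hxy
    obtain ⟨a, rfl⟩ := Ideal.Quotient.mk_surjective x
    obtain ⟨b, rfl⟩ := Ideal.Quotient.mk_surjective y
    replace hxy : Ideal.Quotient.mk (⨆ i, K i) a = Ideal.Quotient.mk (⨆ i, K i) b := hxy
    rw [Ideal.Quotient.eq, Submodule.mem_iSup_of_directed _ hK.directed_le] at hxy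
    obtain ⟨k, hk⟩ := hxy
    obtain ⟨m, hjm, hkm⟩ := exists_ge_ge j k
    refine ⟨m, homOfLE hjm, ?_⟩
    change Ideal.Quotient.mk (K m) a = Ideal.Quotient.mk (K m) b
    rw [Ideal.Quotient.eq]
    exact hK hkm hk)
  refine ⟨ι, inferInstance, inferInstance, quotDiagram K hK, quotCocone K hK, hc, ?_, ⟨Iso.refl _⟩⟩
  intro j
  have : (algebraMap A (A ⧸ K j)).toAlgebra = (inferInstance : Algebra A (A ⧸ K j)) :=
    Algebra.algebra_ext _ _ (fun r => rfl)
  change @Algebra.IsLocalIso A (A ⧸ K j) _ _ (algebraMap A (A ⧸ K j)).toAlgebra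
  rw [this]
  exact hloc j

end quot

section idem

variable {A : Type u} [CommRing A]

theorem isLocalIso_quotient_of_isIdempotentElem {e : A} (he : IsIdempotentElem e) :
    Algebra.IsLocalIso A (A ⧸ Ideal.span {1 - e}) := by
  have : IsLocalization.Away e (A ⧸ Ideal.span {1 - e}) :=
    IsLocalization.Away.quotient_of_isIdempotentElem he
  have : Algebra.IsStandardOpenImmersion A (A ⧸ Ideal.span {1 - e}) := ⟨e, this⟩
  infer_instance

theorem span_one_sub_le_span_one_sub_mul (e e' : A) (he : IsIdempotentElem e) :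
    Ideal.span {1 - e} ≤ Ideal.span {1 - e * e'} := by
  rw [Ideal.span_singleton_le_span_singleton]
  refine ⟨1 - e, ?_⟩
  have : e * e = e := he
  linear_combination (-e' : A) * this

/-- Quotient by the ideal generated by `1 - e`, `e` ranging over a multiplicatively closed set of
idempotents, is ind-Zariski. -/
theorem isIndZariski_quotient_idempotents (E : Set A) (hE : ∀ e ∈ E, IsIdempotentElem e)
    (h1 : (1 : A) ∈ E) (hmul : ∀ e ∈ E, ∀ e' ∈ E, e * e' ∈ E) :
    EtPBC.IsIndZariski A (A ⧸ Ideal.span ((fun e => 1 - e) '' E)) := by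
  let _ : Preorder E := Preorder.lift (fun e : E => Ideal.span {1 - (e : A)})
  let K : E → Ideal A := fun e => Ideal.span {1 - (e : A)}
  have hK : Monotone K := fun _ _ h => h
  have : Nonempty E := ⟨⟨1, h1⟩⟩
  have : IsDirectedOrder E := ⟨fun e e' => ⟨⟨e * e', hmul _ e.2 _ e'.2⟩,
    span_one_sub_le_span_one_sub_mul _ _ (hE _ e.2), by
      have := span_one_sub_le_span_one_sub_mul (e' : A) e (hE _ e'.2)
      rwa [mul_comm] at this⟩⟩
  have hI : ⨆ e, K e = Ideal.span ((fun e => 1 - e) '' E) := by
    apply le_antisymm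
    · refine iSup_le fun e => Ideal.span_mono ?_
      rintro _ rfl
      exact ⟨e, e.2, rfl⟩
    · rw [Ideal.span_le]
      rintro _ ⟨e, he, rfl⟩
      exact (le_iSup K ⟨e, he⟩) (Ideal.subset_span rfl)
  rw [← hI]
  exact isIndZariski_quotient_iSup K hK (fun e => isLocalIso_quotient_of_isIdempotentElem (hE _ e.2))

end idem

end Groth.Agent.Lib.H15IndZariski
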