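import Mathlib
import Groth.Agent.Lib.H15IndZariski

/-!
# A finite type algebra is a filtered colimit of finitely presented algebras with surjective
transition maps (helper62)
-/

set_option autoImplicit false
universe u

open CategoryTheory Limits

namespace Groth.Agent.Lib.FTColimSurj

variable {R P A : Type u} [CommRing R] [CommRing P] [CommRing A] [Algebra R P] [Algebra R A]
  (π : P →ₐ[R] A)

/-- Finitely generated ideals contained in the kernel. -/
abbrev Idx : Type u := {K : Ideal P // K.FG ∧ K ≤ RingHom.ker π.toRingHom}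

instance : Nonempty (Idx π) := ⟨⟨⊥, Submodule.fg_bot, bot_le⟩⟩

instance : IsDirected (Idx π) (· ≤ ·) :=
  ⟨fun K L => ⟨⟨K.1 ⊔ L.1, Submodule.FG.sup K.2.1 L.2.1, sup_le K.2.2 L.2.2⟩,
    le_sup_left (a := K.1), le_sup_right (a := K.1)⟩⟩

/-- The diagram of quotients. -/
noncomputable def diagram : Idx π ⥤ Under (CommRingCat.of R) where
  obj K := Under.mk (CommRingCat.ofHom (algebraMap R (P ⧸ K.1)))
  map {K L} f := Under.homMk (CommRingCat.ofHom (Ideal.Quotient.factor (leOfHom f : K.1 ≤ L.1))) (by
    ext x; rfl)
  map_id K := by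
    ext x
    obtain ⟨p, rfl⟩ := Ideal.Quotient.mk_surjective x
    rfl
  map_comp f g := by
    ext x
    obtain ⟨p, rfl⟩ := Ideal.Quotient.mk_surjective x
    rfl

/-- The map from a quotient to `A`. -/
noncomputable def toA (K : Idx π) : P ⧸ K.1 →+* A :=
  Ideal.Quotient.lift K.1 π.toRingHom (fun _ hx => K.2.2 hx)

theorem toA_mk (K : Idx π) (p : P) : toA π K (Ideal.Quotient.mk K.1 p) = π p := rfl

/-- The cocone with point `A`. -/
noncomputable def cocone : Cocone (diagram π) where
  pt := Under.mk (CommRingCat.ofHom (algebraMap R A))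
  ι :=
  { app := fun K => Under.homMk (CommRingCat.ofHom (toA π K)) (by
      ext r
      change toA π K (algebraMap R (P ⧸ K.1) r) = algebraMap R A r
      rw [IsScalarTower.algebraMap_apply R P (P ⧸ K.1) r]
      exact (toA_mk π K _).trans (π.commutes r))
    naturality := fun K L f => by
      ext x
      obtain ⟨p, rfl⟩ := Ideal.Quotient.mk_surjective x
      rfl }

theorem nonempty_isColimit (hπ : Function.Surjective π) : Nonempty (IsColimit (cocone π)) := by
  haveI : IsFiltered (Idx π) := isFiltered_of_directed_le_nonempty _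
  refine Groth.Agent.Lib.H15IndZariski.isColimit_under_of_elementwise (diagram π) (cocone π) ?_ ?_
  · intro a
    obtain ⟨p, hp⟩ := hπ a
    obtain ⟨K⟩ : Nonempty (Idx π) := inferInstance
    exact ⟨K, Ideal.Quotient.mk K.1 p, hp⟩
  · intro K x y hxy
    obtain ⟨p, rfl⟩ := Ideal.Quotient.mk_surjective x
    obtain ⟨q, rfl⟩ := Ideal.Quotient.mk_surjective y
    have h : π p = π q := hxy
    have hmem : p - q ∈ RingHom.ker π.toRingHom := by
      change π (p - q) = 0
      rw [map_sub, h, sub_self]
    let L : Idx π := ⟨K.1 ⊔ Ideal.span {p - q}, Submodule.FG.sup K.2.1 ⟨{p - q}, by simp⟩,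
      sup_le K.2.2 (by rw [Ideal.span_le]; intro z hz; rw [Set.mem_singleton_iff] at hz; rw [hz]; exact hmem)⟩
    have hKL : K ≤ L := le_sup_left (a := K.1)
    refine ⟨L, homOfLE hKL, ?_⟩
    change Ideal.Quotient.mk L.1 p = Ideal.Quotient.mk L.1 q
    rw [Ideal.Quotient.eq]
    exact Ideal.mem_sup_right (Ideal.subset_span (Set.mem_singleton _))

theorem finitePresentation_obj [Algebra.FinitePresentation R P] (K : Idx π) :
    ((diagram π).obj K).hom.hom.FinitePresentation := by
  have : Algebra.FinitePresentation R (P ⧸ K.1) := Algebra.FinitePresentation.quotient K.2.1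
  exact RingHom.finitePresentation_algebraMap.mpr this

theorem surjective_map {K L : Idx π} (f : K ⟶ L) :
    Function.Surjective ((diagram π).map f).right.hom :=
  Ideal.Quotient.factor_surjective (leOfHom f)

end Groth.Agent.Lib.FTColimSurj
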