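/-
helper23 (Mathlib only): towers of modules `M_n` with `tr_n : M_(n+1) → M_n`, injections `i_n : M_n → M_(n+1)`,
`i_n ∘ tr_n = f` and `0 → M_n → M_(n+1) → M_0 → 0` exact (the module-level form of hypothesis (1) of Stacks 0EHC-type
lemmas / S8830).  Then `f^(n+1) M_n = 0`, `tr_n` is surjective and `ker tr_n = f^(n+1) M_(n+1)`.
-/
import Mathlib.Algebra.Module.LinearMap.Basic
import Mathlib.Algebra.Module.Submodule.Basic
import Mathlib.Tactic.Abel

set_option autoImplicit false

namespace Groth.Agent.Lib.FTower23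

variable {A : Type*} [CommRing A] (f : A) {M : ℕ → Type*} [∀ n, AddCommGroup (M n)]
  [∀ n, Module A (M n)] (tr : ∀ n, M (n + 1) →ₗ[A] M n) (i : ∀ n, M n →ₗ[A] M (n + 1))
  (p : ∀ n, M n →ₗ[A] M 0)

/-- the hypotheses on the tower: `M_n = F/f^(n+1)F` with `0 → M_n → M_(n+1) → M_0 → 0` -/
structure IsFTower : Prop where
  p_zero : ∀ x, p 0 x = x
  p_succ : ∀ n (y : M (n + 1)), p (n + 1) y = p n (tr n y)
  inj : ∀ n, Function.Injective (i n)
  fac : ∀ n (y : M (n + 1)), i n (tr n y) = f • y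
  exact : ∀ n (y : M (n + 1)), p (n + 1) y = 0 → ∃ z, i n z = y
  zero : ∀ n (z : M n), p (n + 1) (i n z) = 0
  surj : ∀ n, Function.Surjective (p (n + 1))

variable {f tr i p}

namespace IsFTower

variable (h : IsFTower f tr i p)
include h

theorem kill : ∀ (n : ℕ) (x : M n), f ^ (n + 1) • x = 0 := by
  intro n
  induction n with
  | zero =>
    intro x
    obtain ⟨y, hy⟩ := h.surj 0 x
    rw [zero_add, pow_one, ← hy, ← map_smul, ← h.fac 0 y, h.zero]
  | succ n ih =>
    intro x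
    rw [pow_succ, mul_smul, ← h.fac n x, ← map_smul, ih, map_zero]

theorem surj_tr : ∀ n, Function.Surjective (tr n) := by
  intro n
  induction n with
  | zero =>
    intro x
    obtain ⟨y, hy⟩ := h.surj 0 x
    refine ⟨y, ?_⟩
    rw [h.p_succ, h.p_zero] at hy
    exact hy
  | succ n ih =>
    have step : ∀ x : M (n + 1), ∃ (y : M (n + 2)) (z : M (n + 1)), x = tr (n + 1) y + f • z := by
      intro x
      obtain ⟨y0, hy0⟩ := h.surj (n + 1) (p (n + 1) x)
      rw [h.p_succ] at hy0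
      have h0 : p (n + 1) (x - tr (n + 1) y0) = 0 := by rw [map_sub, hy0, sub_self]
      obtain ⟨z, hz⟩ := h.exact n _ h0
      obtain ⟨z', rfl⟩ := ih z
      refine ⟨y0, z', ?_⟩
      rw [← h.fac n z', hz]
      abel
    have iter : ∀ (k : ℕ) (x : M (n + 1)), ∃ (y : M (n + 2)) (z : M (n + 1)),
        x = tr (n + 1) y + f ^ k • z := by
      intro k
      induction k with
      | zero => intro x; exact ⟨0, x, by simp⟩
      | succ k ihk =>
        intro x
        obtain ⟨y, z, rfl⟩ := ihk x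
        obtain ⟨y', z', rfl⟩ := step z
        refine ⟨y + f ^ k • y', z', ?_⟩
        rw [map_add, map_smul, smul_add, pow_succ, mul_smul]
        abel
    intro x
    obtain ⟨y, z, rfl⟩ := iter (n + 2) x
    exact ⟨y, by rw [h.kill (n + 1) z, add_zero]⟩

theorem tr_i (n : ℕ) (z : M (n + 1)) : tr (n + 1) (i (n + 1) z) = f • z := by
  obtain ⟨y, rfl⟩ := h.surj_tr (n + 1) z
  rw [h.fac, map_smul]

theorem ker_tr : ∀ (n : ℕ) (x : M (n + 1)), tr n x = 0 → ∃ y : M (n + 1), x = f ^ (n + 1) • y := by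
  intro n
  induction n with
  | zero =>
    intro x hx
    have h0 : p 1 x = 0 := by rw [h.p_succ, hx, map_zero]
    obtain ⟨z, rfl⟩ := h.exact 0 x h0
    obtain ⟨y, rfl⟩ := h.surj_tr 0 z
    exact ⟨y, by rw [h.fac]; exact (congrArg (· • y) (pow_one f)).symm⟩
  | succ n ih =>
    intro x hx
    have h0 : p (n + 2) x = 0 := by rw [h.p_succ, hx, map_zero]
    obtain ⟨z, rfl⟩ := h.exact (n + 1) x h0
    rw [h.tr_i n z, ← h.fac n z] at hx
    have hz : tr n z = 0 := h.inj n (by rw [hx, map_zero])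
    obtain ⟨z', rfl⟩ := ih z hz
    obtain ⟨y', rfl⟩ := h.surj_tr (n + 1) z'
    refine ⟨y', ?_⟩
    rw [map_smul, h.fac, pow_succ (f) (n + 1), mul_smul]

end IsFTower

end Groth.Agent.Lib.FTower23
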