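import Groth.Agent.Lib.CohFormal

/-!
# Cokernels of multiplication by an ideal on `O_X`-modules (helper13)

`IsCokerSmul J q` for `q : N ⟶ N'`: `q` is a cokernel of `Formal.smulFamily J N`, phrased by its
universal property (`q` epi, kills `J N`, and every map killing `J N` factors through `q`).
* `isCokerSmul_iff`: equivalent to the form used in `Formal.IsCohFormal`
  (`∃ h, IsIso (cokernel.desc (smulFamily J N) q h)`);
* `IsCokerSmul.comp`, `IsCokerSmul.of_iso_left/right`, `isCokerSmul_of_killedBy`, `IsCokerSmul.isIso_of_killedBy`,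
  `IsCokerSmul.uniqueIso`, `isCokerSmul_modPowπ`;
* `Formal.IsCohFormal.isCokerSmul_tr`: for a coherent formal system `F` and `n ≤ m`,
  `F_m ⟶ F_n` is a cokernel of multiplication by `I^(n+1)`.
-/

set_option autoImplicit false
universe u
open CategoryTheory CategoryTheory.Limits AlgebraicGeometry Opposite

namespace Groth.Agent.Lib.FormalCoker13

open Formal

variable {A : Type u} [CommRing A] {X : Scheme.{u}} [X.Over (Spec (CommRingCat.of A))]

theorem ι_smulFamily (J : Ideal A) (N : X.Modules) (a : J) :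
    Sigma.ι (fun _ : J => N) a ≫ smulFamily J N = smulMod A N (a : A) := by
  simp [smulFamily]

theorem smulFamily_comp_eq_zero_iff (J : Ideal A) {N T : X.Modules} (g : N ⟶ T) :
    smulFamily J N ≫ g = 0 ↔ ∀ a ∈ J, smulMod A N a ≫ g = 0 := by
  constructor
  · intro h a ha
    have := congrArg (fun φ => Sigma.ι (fun _ : J => N) ⟨a, ha⟩ ≫ φ) h
    simpa only [← Category.assoc, ι_smulFamily, comp_zero] using this
  · intro h
    apply Sigma.hom_ext
    intro a
    rw [← Category.assoc, ι_smulFamily, comp_zero]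
    exact h a a.2

/-- `q` is a cokernel of multiplication by `J` on `N`. -/
def IsCokerSmul (J : Ideal A) {N N' : X.Modules} (q : N ⟶ N') : Prop :=
  (∀ a ∈ J, smulMod A N a ≫ q = 0) ∧ Epi q ∧
    ∀ {T : X.Modules} (g : N ⟶ T), (∀ a ∈ J, smulMod A N a ≫ g = 0) → ∃ g' : N' ⟶ T, q ≫ g' = g

theorem isCokerSmul_iff (J : Ideal A) {N N' : X.Modules} (q : N ⟶ N') :
    IsCokerSmul J q ↔ ∃ h : smulFamily J N ≫ q = 0, IsIso (cokernel.desc (smulFamily J N) q h) := by
  constructor
  · rintro ⟨h1, h2, h3⟩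
    have h : smulFamily J N ≫ q = 0 := (smulFamily_comp_eq_zero_iff J q).2 h1
    refine ⟨h, ?_⟩
    obtain ⟨g', hg'⟩ := h3 (cokernel.π (smulFamily J N))
      ((smulFamily_comp_eq_zero_iff J _).1 (cokernel.condition _))
    refine ⟨g', ?_, ?_⟩
    · rw [← cancel_epi (cokernel.π (smulFamily J N)), ← Category.assoc, cokernel.π_desc, hg',
        Category.comp_id]
    · rw [← cancel_epi q, ← Category.assoc, hg', cokernel.π_desc, Category.comp_id]
  · rintro ⟨h, hiso⟩
    have hq : q = cokernel.π (smulFamily J N) ≫ cokernel.desc (smulFamily J N) q h :=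
      (cokernel.π_desc _ _ _).symm
    refine ⟨(smulFamily_comp_eq_zero_iff J q).1 h, ?_, ?_⟩
    · rw [hq]; infer_instance
    · intro T g hg
      have hz : smulFamily J N ≫ g = 0 := (smulFamily_comp_eq_zero_iff J g).2 hg
      refine ⟨inv (cokernel.desc (smulFamily J N) q h) ≫ cokernel.desc _ g hz, ?_⟩
      calc q ≫ inv (cokernel.desc (smulFamily J N) q h) ≫ cokernel.desc _ g hz
          = (cokernel.π (smulFamily J N) ≫ cokernel.desc (smulFamily J N) q h) ≫
              inv (cokernel.desc (smulFamily J N) q h) ≫ cokernel.desc _ g hz := by rw [← hq]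
        _ = g := by rw [Category.assoc, IsIso.hom_inv_id_assoc, cokernel.π_desc]

namespace IsCokerSmul

variable {J : Ideal A} {N N' N'' : X.Modules}

theorem epi {q : N ⟶ N'} (h : IsCokerSmul J q) : Epi q := h.2.1

theorem killedBy_target {q : N ⟶ N'} (h : IsCokerSmul J q) : KilledBy J N' := by
  intro a ha
  have := h.epi
  rw [← cancel_epi q, comp_zero, ← smulMod_naturality]
  exact h.1 a ha

/-- Composition: a cokernel of `J₁` followed by a cokernel of `J₂ ≥ J₁` is a cokernel of `J₂`. -/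
theorem comp {J₁ J₂ : Ideal A} (hJ : J₁ ≤ J₂) {q₁ : N ⟶ N'} {q₂ : N' ⟶ N''}
    (h₁ : IsCokerSmul J₁ q₁) (h₂ : IsCokerSmul J₂ q₂) : IsCokerSmul J₂ (q₁ ≫ q₂) := by
  have e1 := h₁.epi
  have e2 := h₂.epi
  refine ⟨?_, epi_comp _ _, ?_⟩
  · intro a ha
    rw [← Category.assoc, smulMod_naturality, Category.assoc, h₂.1 a ha, comp_zero]
  · intro T g hg
    obtain ⟨g₁, hg₁⟩ := h₁.2.2 g (fun a ha => hg a (hJ ha))
    have hg₁' : ∀ a ∈ J₂, smulMod A N' a ≫ g₁ = 0 := by
      intro a ha
      rw [← cancel_epi q₁, comp_zero, ← Category.assoc, ← smulMod_naturality, Category.assoc, hg₁]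
      exact hg a ha
    obtain ⟨g₂, hg₂⟩ := h₂.2.2 g₁ hg₁'
    exact ⟨g₂, by rw [Category.assoc, hg₂, hg₁]⟩

theorem of_iso_right {q : N ⟶ N'} (h : IsCokerSmul J q) (e : N' ⟶ N'') [IsIso e] :
    IsCokerSmul J (q ≫ e) := by
  have := h.epi
  refine ⟨?_, epi_comp _ _, ?_⟩
  · intro a ha
    rw [← Category.assoc, h.1 a ha, zero_comp]
  · intro T g hg
    obtain ⟨g', hg'⟩ := h.2.2 g hg
    exact ⟨inv e ≫ g', by rw [Category.assoc, IsIso.hom_inv_id_assoc, hg']⟩

theorem of_iso_left {q : N' ⟶ N''} (h : IsCokerSmul J q) (e : N ⟶ N') [IsIso e] :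
    IsCokerSmul J (e ≫ q) := by
  have := h.epi
  refine ⟨?_, epi_comp _ _, ?_⟩
  · intro a ha
    rw [← Category.assoc, smulMod_naturality, Category.assoc, h.1 a ha, comp_zero]
  · intro T g hg
    have hg2 : ∀ a ∈ J, smulMod A N' a ≫ inv e ≫ g = 0 := by
      intro a ha
      rw [← Category.assoc, smulMod_naturality, Category.assoc, hg a ha, comp_zero]
    obtain ⟨g', hg'⟩ := h.2.2 (inv e ≫ g) hg2
    exact ⟨g', by rw [Category.assoc, hg', IsIso.hom_inv_id_assoc]⟩

/-- Two cokernels of the same multiplication are uniquely isomorphic. -/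
theorem uniqueIso {q : N ⟶ N'} {q' : N ⟶ N''} (h : IsCokerSmul J q) (h' : IsCokerSmul J q') :
    ∃ e : N' ≅ N'', q ≫ e.hom = q' := by
  have e1 := h.epi
  have e2 := h'.epi
  obtain ⟨f, hf⟩ := h.2.2 q' h'.1
  obtain ⟨f', hf'⟩ := h'.2.2 q h.1
  refine ⟨⟨f, f', ?_, ?_⟩, hf⟩
  · rw [← cancel_epi q, ← Category.assoc, hf, hf', Category.comp_id]
  · rw [← cancel_epi q', ← Category.assoc, hf', hf, Category.comp_id]

/-- If `N` is already killed by `J`, a cokernel of multiplication by `J` is an isomorphism. -/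
theorem isIso_of_killedBy {q : N ⟶ N'} (h : IsCokerSmul J q) (hN : KilledBy J N) : IsIso q := by
  have := h.epi
  obtain ⟨g', hg'⟩ := h.2.2 (𝟙 N) (fun a ha => by rw [hN a ha, zero_comp])
  refine ⟨g', hg', ?_⟩
  rw [← cancel_epi q, ← Category.assoc, hg', Category.id_comp, Category.comp_id]

end IsCokerSmul

theorem isCokerSmul_of_killedBy {J : Ideal A} {N N' : X.Modules} (hN : KilledBy J N) (q : N ⟶ N')
    [IsIso q] : IsCokerSmul J q := by
  refine ⟨fun a ha => by rw [hN a ha, zero_comp], inferInstance, ?_⟩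
  intro T g _
  exact ⟨inv q ≫ g, by rw [IsIso.hom_inv_id_assoc]⟩

theorem isCokerSmul_modPowπ (I : Ideal A) (n : ℕ) (M : X.Modules) :
    IsCokerSmul (I ^ n) (modPowπ I n M) := by
  rw [isCokerSmul_iff]
  refine ⟨cokernel.condition _, ?_⟩
  have : cokernel.desc (smulFamily (I ^ n) M) (modPowπ I n M) (cokernel.condition _) = 𝟙 _ := by
    apply coequalizer.hom_ext
    rw [cokernel.π_desc]
    exact (Category.comp_id _).symm
  rw [this]
  exact IsIso.id _

end Groth.Agent.Lib.FormalCoker13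

namespace Formal.IsCohFormal

open Groth.Agent.Lib.FormalCoker13

variable {A : Type u} [CommRing A] {X : Scheme.{u}} [X.Over (Spec (CommRingCat.of A))]
  {I : Ideal A} {F : ℕᵒᵖ ⥤ X.Modules}

theorem isCokerSmul_succ (hF : IsCohFormal I F) (n : ℕ) :
    IsCokerSmul (I ^ (n + 1)) (F.map (homOfLE (Nat.le_succ n)).op) :=
  (isCokerSmul_iff _ _).2 (hF.2.2 n)

theorem isCokerSmul_tr (hF : IsCohFormal I F) {n m : ℕ} (h : n ≤ m) :
    IsCokerSmul (I ^ (n + 1)) (F.map (homOfLE h).op) := by
  induction m, h using Nat.le_induction with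
  | base =>
    have : (homOfLE (le_refl n)).op = 𝟙 (op n) := rfl
    rw [this, F.map_id]
    exact isCokerSmul_of_killedBy (hF.killedBy n) _
  | succ m hnm ih =>
    have : (homOfLE (hnm.trans (Nat.le_succ m))).op =
        (homOfLE (Nat.le_succ m)).op ≫ (homOfLE hnm).op := rfl
    rw [this, F.map_comp]
    exact IsCokerSmul.comp (Ideal.pow_le_pow_right (by omega)) (hF.isCokerSmul_succ m) ih

end Formal.IsCohFormal
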