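/-
helper23: limits of quasi-coherent formal systems `(G_n)` on a scheme over `Spec A` (EGA/Stacks 087W part (4)).
* `Sec A M U`: sections `Γ(M, U)` as an `A`-module, `secMap`: the `A`-linear map on sections;
* `sections_limit_glue`, `sections_limit_sep`: `Γ(lim G, U) = lim Γ(G_n, U)` for every open `U`;
* `ker_secMap_le_of_isCokerSmul`: for a cokernel `q : N → N'` of multiplication by a f.g. ideal `J` on a qcoh
  module, `ker Γ(q, U) = J Γ(N, U)` on affine opens;
* `isAdicLimit`: over an affine open the sections of a qcoh formal system form an adic tower (helper22 AdicTower22);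
* `hom_eq_zero_of_affine`: a morphism of modules vanishing on sections over all affine opens is zero;
* `isCokerSmul_limit_π`, `exists_isIso_cokernel_desc`: `lim G → G_n` is a cokernel of multiplication by `I^(n+1)`.
-/
import Groth.Agent.Lib.AdicTower22
import Groth.Agent.Lib.FormalCoker13
import Groth.Agent.Lib.H90OXModExact
import Groth.Agent.Lib.QCohBiproduct
import Groth.Agent.Lib.IdealMod
import Groth.Prelude.Def_Formal2

set_option autoImplicit false
set_option linter.style.haveILetI false
universe u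
open CategoryTheory CategoryTheory.Limits AlgebraicGeometry Opposite TopologicalSpace

namespace Groth.Agent.Lib.QCohFormalLim23

open Formal Groth.Agent.Lib.FormalCoker13

variable {A : Type u} [CommRing A] {X : Scheme.{u}} [X.Over (Spec (CommRingCat.of A))]

/-- the ring map `A → Γ(X, U)` -/
noncomputable def ρ (A : Type u) [CommRing A] {X : Scheme.{u}} [X.Over (Spec (CommRingCat.of A))]
    (U : X.Opens) : A →+* Γ(X, U) :=
  (X.presheaf.map (homOfLE (le_top (a := U))).op).hom.comp
    (Coh.toGlobal (X ↘ Spec (CommRingCat.of A)))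

theorem smulMod_app (M : X.Modules) (a : A) (U : X.Opens) (m : Γ(M, U)) :
    (smulMod A M a).app U m = ρ A U a • m := rfl

/-- sections over `U` as an `A`-module -/
noncomputable def Sec (A : Type u) [CommRing A] {X : Scheme.{u}} [X.Over (Spec (CommRingCat.of A))]
    (M : X.Modules) (U : X.Opens) : Type u := Γ(M, U)

noncomputable instance (M : X.Modules) (U : X.Opens) : AddCommGroup (Sec A M U) :=
  inferInstanceAs (AddCommGroup Γ(M, U))

noncomputable instance (M : X.Modules) (U : X.Opens) : Module A (Sec A M U) :=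
  Module.compHom Γ(M, U) (ρ A U)

/-- the identity `Sec A M U → Γ(M, U)` -/
def Sec.out {M : X.Modules} {U : X.Opens} (m : Sec A M U) : Γ(M, U) := m

/-- the identity `Γ(M, U) → Sec A M U` -/
def Sec.mk (A : Type u) [CommRing A] {X : Scheme.{u}} [X.Over (Spec (CommRingCat.of A))]
    {M : X.Modules} {U : X.Opens} (m : Γ(M, U)) : Sec A M U := m

theorem sec_smul (M : X.Modules) (U : X.Opens) (a : A) (m : Sec A M U) :
    a • m = (ρ A U a • m.out : Γ(M, U)) := rfl

/-- the `A`-linear map on sections induced by a morphism -/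
noncomputable def secMap {M N : X.Modules} (φ : M ⟶ N) (U : X.Opens) : Sec A M U →ₗ[A] Sec A N U where
  toFun m := φ.app U m
  map_add' x y := map_add (ConcreteCategory.hom (φ.app U)) x y
  map_smul' a m := by
    exact Scheme.Modules.Hom.app_smul φ (ρ A U a) m.out

theorem secMap_apply {M N : X.Modules} (φ : M ⟶ N) (U : X.Opens) (m : Sec A M U) :
    secMap (A := A) φ U m = φ.app U m := rfl

theorem secMap_comp {M N P : X.Modules} (φ : M ⟶ N) (ψ : N ⟶ P) (U : X.Opens) (m : Sec A M U) :
    secMap (A := A) (φ ≫ ψ) U m = secMap ψ U (secMap φ U m) := rfl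

theorem secMap_id (M : X.Modules) (U : X.Opens) (m : Sec A M U) :
    secMap (A := A) (𝟙 M) U m = m := rfl

theorem smul_eq_zero_of_killedBy {J : Ideal A} {M : X.Modules} (hM : KilledBy J M) (U : X.Opens)
    (a : A) (ha : a ∈ J) (m : Sec A M U) : a • m = 0 := by
  have h := hM a ha
  have h2 : (smulMod A M a).app U m = 0 := by rw [h]; rfl
  exact h2


theorem hom_eq_zero_of_secMap {M N : X.Modules} (φ : M ⟶ N)
    (h : ∀ (U : X.Opens) (m : Sec A M U), secMap (A := A) φ U m = 0) : φ = 0 := by
  apply Scheme.Modules.hom_ext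
  intro U
  ext m
  exact h U m

theorem smulMod_comp_eq_zero_of_span {N T : X.Modules} (g' : N ⟶ T) {r : ℕ} (g : Fin r → A)
    (hg : ∀ k, smulMod A N (g k) ≫ g' = 0) (a : A) (ha : a ∈ Ideal.span (Set.range g)) :
    smulMod A N a ≫ g' = 0 := by
  obtain ⟨c, rfl⟩ := (Submodule.mem_span_range_iff_exists_fun A).1 ha
  apply hom_eq_zero_of_secMap (A := A)
  intro U m
  have h1 : secMap (A := A) (smulMod A N (∑ k, c k • g k) ≫ g') U m =
      (∑ k, c k • g k) • secMap (A := A) g' U m := by
    rw [secMap_comp, ← (secMap (A := A) g' U).map_smul]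
    rfl
  have h2 : ∀ k, g k • secMap (A := A) g' U m = 0 := by
    intro k
    have := congrArg (fun χ => secMap (A := A) χ U m) (hg k)
    simp only [secMap_comp] at this
    rw [← (secMap (A := A) g' U).map_smul]
    exact this
  rw [h1, Finset.sum_smul]
  refine Finset.sum_eq_zero (fun k _ => ?_)
  rw [smul_assoc, h2 k, smul_zero]

attribute [local instance] CategoryTheory.Abelian.hasFiniteBiproducts

open Groth.Agent.Lib.QCohBiproduct in
/-- for a cokernel `q` of multiplication by a finitely generated ideal `J` on a quasi-coherent module, the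
kernel of `q` on sections over an affine open `U` is `J · Γ(N, U)` -/
theorem ker_secMap_le_of_isCokerSmul {J : Ideal A} (hJ : J.FG) {N N' : X.Modules}
    [N.IsQuasicoherent] [N'.IsQuasicoherent] (q : N ⟶ N') (hq : IsCokerSmul J q) {U : X.Opens}
    (hU : IsAffineOpen U) :
    LinearMap.ker (secMap (A := A) q U) ≤ (J • ⊤ : Submodule A (Sec A N U)) := by
  obtain ⟨r, g, hg⟩ := Submodule.fg_iff_exists_fin_generating_family.1 hJ
  have hg' : Ideal.span (Set.range g) = J := hg
  have hgmem : ∀ k, g k ∈ J := fun k => hg' ▸ Submodule.subset_span ⟨k, rfl⟩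
  haveI := hq.epi
  let P : Fin r → X.Modules := fun _ => N
  let ψ : (⨁ P) ⟶ N := biproduct.desc (fun k => smulMod A N (g k))
  have hψ : ∀ k, biproduct.ι P k ≫ ψ = smulMod A N (g k) := fun k => biproduct.ι_desc _ _
  have w : ψ ≫ q = 0 := by
    apply biproduct.hom_ext'
    intro k
    rw [← Category.assoc, hψ, comp_zero]
    exact hq.1 _ (hgmem k)
  have hkill : ∀ {T : X.Modules} (g' : N ⟶ T), ψ ≫ g' = 0 → ∀ a ∈ J, smulMod A N a ≫ g' = 0 := by
    intro T g' h0 a ha
    apply smulMod_comp_eq_zero_of_span g' g _ a (hg' ▸ ha)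
    intro k
    rw [← hψ k, Category.assoc, h0, comp_zero]
  have hcok : IsColimit (CokernelCofork.ofπ q w) :=
    CokernelCofork.IsColimit.ofπ q w (fun g' h0 => (hq.2.2 g' (hkill g' h0)).choose)
      (fun g' h0 => (hq.2.2 g' (hkill g' h0)).choose_spec)
      (fun g' h0 m hm => by
        rw [← cancel_epi q, hm, (hq.2.2 g' (hkill g' h0)).choose_spec])
  have hex : (ShortComplex.mk ψ q w).Exact := ShortComplex.exact_of_g_is_cokernel _ hcok
  haveI : (⨁ P).IsQuasicoherent := isQuasicoherent_biproduct P (fun _ => inferInstance)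
  haveI : (ShortComplex.mk ψ q w).X₁.IsQuasicoherent := inferInstanceAs (⨁ P).IsQuasicoherent
  haveI : (ShortComplex.mk ψ q w).X₂.IsQuasicoherent := inferInstanceAs N.IsQuasicoherent
  haveI : (ShortComplex.mk ψ q w).X₃.IsQuasicoherent := inferInstanceAs N'.IsQuasicoherent
  intro s hs
  have hs0 : q.app U (Sec.out s) = 0 := by
    have := LinearMap.mem_ker.1 hs
    exact this
  obtain ⟨t, ht⟩ := Groth.Agent.Lib.H90OXModExact.sections_exact_of_isAffineOpen hex hU
    (Sec.out s) hs0
  have hdec := biproduct_decomp P U t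
  have hs' : s = ∑ k, g k • Sec.mk A (M := N) ((biproduct.π P k).app U t) := by
    have e1 : Sec.out s = ψ.app U t := ht.symm
    have e2 : ψ.app U t = ∑ k, ψ.app U ((biproduct.ι P k).app U ((biproduct.π P k).app U t)) := by
      conv_lhs => rw [hdec]
      rw [app_sum']
    have e3 : ∀ k, ψ.app U ((biproduct.ι P k).app U ((biproduct.π P k).app U t)) =
        (smulMod A N (g k)).app U ((biproduct.π P k).app U t) := by
      intro k
      have := congrArg (fun χ => Scheme.Modules.Hom.app χ U ((biproduct.π P k).app U t)) (hψ k)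
      exact this
    change Sec.out s = _
    rw [e1, e2]
    exact Finset.sum_congr rfl (fun k _ => e3 k)
  rw [hs']
  exact Submodule.sum_mem _ (fun k _ => Submodule.smul_mem_smul (hgmem k) Submodule.mem_top)


/-- sections over `U`, as a functor to types -/
noncomputable def secF (X : Scheme.{u}) (U : X.Opens) : X.Modules ⥤ Type u :=
  Scheme.Modules.toPresheaf X ⋙ (evaluation _ _).obj (op U) ⋙ forget Ab

noncomputable instance (U : X.Opens) : PreservesLimitsOfShape ℕᵒᵖ (secF X U) := by
  haveI : PreservesLimitsOfSize.{0, 0} (Scheme.Modules.toPresheaf X) :=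
    preservesLimitsOfSize_shrink.{0, u, 0, u} _
  haveI : PreservesLimitsOfShape ℕᵒᵖ (Scheme.Modules.toPresheaf X) := inferInstance
  haveI : PreservesLimitsOfShape ℕᵒᵖ ((evaluation (Opens X)ᵒᵖ Ab.{u}).obj (op U)) := inferInstance
  haveI : PreservesLimitsOfShape ℕᵒᵖ (forget Ab.{u}) := inferInstance
  unfold secF
  infer_instance

theorem tr_comp_app (G : ℕᵒᵖ ⥤ X.Modules) (U : X.Opens) (x : ∀ n, Γ(G.obj (op n), U))
    (hx : ∀ n, (G.map (homOfLE (Nat.le_succ n)).op).app U (x (n + 1)) = x n) (n m : ℕ) (h : n ≤ m) :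
    (G.map (homOfLE h).op).app U (x m) = x n := by
  induction m, h using Nat.le_induction with
  | base =>
    have : (homOfLE (le_refl n)).op = 𝟙 (op n) := rfl
    rw [this, G.map_id]
    rfl
  | succ m h ih =>
    have e : (homOfLE (h.trans (Nat.le_succ m))).op =
        (homOfLE (Nat.le_succ m)).op ≫ (homOfLE h).op := rfl
    rw [e, G.map_comp]
    change (G.map (homOfLE h).op).app U ((G.map (homOfLE (Nat.le_succ m)).op).app U (x (m + 1))) = _
    rw [hx m, ih]

theorem sections_limit_glue (G : ℕᵒᵖ ⥤ X.Modules) (U : X.Opens) (x : ∀ n, Γ(G.obj (op n), U))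
    (hx : ∀ n, (G.map (homOfLE (Nat.le_succ n)).op).app U (x (n + 1)) = x n) :
    ∃ y : Γ(limit G, U), ∀ n, (limit.π G (op n)).app U y = x n := by
  have hl : IsLimit ((secF X U).mapCone (limit.cone G)) :=
    isLimitOfPreserves (secF X U) (limit.isLimit G)
  let s : (G ⋙ secF X U).sections := ⟨fun j => x j.unop, by
    intro j j' f
    have hle : j'.unop ≤ j.unop := leOfHom f.unop
    have hf : f = (homOfLE hle).op := Subsingleton.elim _ _
    rw [hf]
    exact tr_comp_app G U x hx _ _ hle⟩
  refine ⟨(Types.isLimitEquivSections hl).symm s, fun n => ?_⟩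
  exact Types.isLimitEquivSections_symm_apply hl s (op n)

theorem sections_limit_sep (G : ℕᵒᵖ ⥤ X.Modules) (U : X.Opens) (y y' : Γ(limit G, U))
    (h : ∀ n, (limit.π G (op n)).app U y = (limit.π G (op n)).app U y') : y = y' := by
  have hl : IsLimit ((secF X U).mapCone (limit.cone G)) :=
    isLimitOfPreserves (secF X U) (limit.isLimit G)
  apply (Types.isLimitEquivSections hl).injective
  apply Subtype.ext
  funext j
  rw [Types.isLimitEquivSections_apply, Types.isLimitEquivSections_apply]
  exact h j.unop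


/-- every point of an open has an affine open neighbourhood inside it -/
theorem exists_affine_nhds (W : X.Opens) (x : X) (hx : x ∈ W) :
    ∃ V : X.Opens, IsAffineOpen V ∧ x ∈ V ∧ V ≤ W := by
  obtain ⟨_, ⟨V, hV, rfl⟩, hxV, hVW⟩ := X.isBasis_affineOpens.exists_subset_of_mem_open hx W.2
  exact ⟨V, hV, hxV, hVW⟩

open Groth.Agent.Lib.QCohStalk Groth.Agent.Lib.QCohBiproduct in
/-- a morphism of modules vanishing on sections over all affine opens is zero -/
theorem hom_eq_zero_of_affine {M N : X.Modules} (φ : M ⟶ N)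
    (h : ∀ (U : X.Opens), IsAffineOpen U → ∀ m : Γ(M, U), φ.app U m = 0) : φ = 0 := by
  apply Scheme.Modules.hom_ext
  intro W
  ext m
  let ι := {V : X.Opens // IsAffineOpen V ∧ V ≤ W}
  have hcov : W ≤ ⨆ i : ι, i.1 := by
    intro x hx
    obtain ⟨V, hV, hxV, hVW⟩ := exists_affine_nhds W x hx
    exact Opens.mem_iSup.2 ⟨⟨V, hV, hVW⟩, hxV⟩
  refine Groth.Agent.Lib.H90OXModQcqs.res_ext N W (fun i : ι => i.1) (fun i => i.2.2) hcov _ _
    (fun i => ?_)
  rw [← hom_app_res φ i.2.2 m, h i.1 i.2.1]
  change (0 : Γ(N, i.1)) = res N i.2.2 ((0 : M ⟶ N).app W m)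
  rw [Scheme.Modules.Hom.zero_app]
  exact (map_zero (ConcreteCategory.hom (N.presheaf.map (homOfLE i.2.2).op))).symm

section Main

variable {I : Ideal A} {G : ℕᵒᵖ ⥤ X.Modules}

theorem isCokerSmul_succ (hG : Formal2.IsQCohFormal I G) (n : ℕ) :
    IsCokerSmul (I ^ (n + 1)) (G.map (homOfLE (Nat.le_succ n)).op) :=
  (isCokerSmul_iff _ _).2 (hG.2.2 n)

/-- sections over an affine open of a quasi-coherent formal system form an adic tower whose limit is the
module of sections of the limit -/
theorem isAdicLimit (hI : I.FG) (hG : Formal2.IsQCohFormal I G) {U : X.Opens} (hU : IsAffineOpen U) :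
    Groth.Agent.Lib.AdicTower22.IsAdicLimit I (L := Sec A (limit G) U)
      (M := fun n => Sec A (G.obj (op n)) U)
      (fun n => secMap (A := A) (limit.π G (op n)) U)
      (fun _ _ h => secMap (A := A) (G.map (homOfLE h).op) U) where
  tr_id a x := by
    have : (homOfLE (le_refl a)).op = 𝟙 (op a) := rfl
    rw [this, G.map_id]
    rfl
  tr_comp a b c hab hbc x := by
    have e : (homOfLE (hab.trans hbc)).op = (homOfLE hbc).op ≫ (homOfLE hab).op := rfl
    rw [e, G.map_comp]
    rfl
  comp a b h x := by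
    rw [← limit.w G (homOfLE h).op]
    rfl
  glue x hx := sections_limit_glue G U x hx
  sep y hy := by
    apply sections_limit_sep G U y 0
    intro n
    rw [map_zero]
    exact hy n
  surj n := by
    haveI : (G.obj (op (n + 1))).IsQuasicoherent := hG.1 (n + 1)
    haveI : (G.obj (op n)).IsQuasicoherent := hG.1 n
    haveI := (isCokerSmul_succ hG n).epi
    exact Groth.Agent.Lib.H90OXModExact.surjective_app_of_epi _ hU
  ker n := by
    haveI : (G.obj (op (n + 1))).IsQuasicoherent := hG.1 (n + 1)
    haveI : (G.obj (op n)).IsQuasicoherent := hG.1 n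
    exact ker_secMap_le_of_isCokerSmul (hI.pow (n := n + 1)) _ (isCokerSmul_succ hG n) hU
  kill n a ha m := smul_eq_zero_of_killedBy (hG.2.1 n) U a ha m

/-- the projection `lim G → G_n` is a cokernel of multiplication by `I^(n+1)` -/
theorem isCokerSmul_limit_π (hI : I.FG) (hG : Formal2.IsQCohFormal I G) (n : ℕ) :
    IsCokerSmul (I ^ (n + 1)) (limit.π G (op n)) := by
  have hepi : Epi (limit.π G (op n)) := by
    apply Groth.Agent.Lib.IdealMod.epi_of_locally_surjective
    intro U s x hx
    obtain ⟨V, hV, hxV, hVU⟩ := exists_affine_nhds U x hx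
    obtain ⟨t, ht⟩ := (isAdicLimit hI hG hV).surjective_π n
      ((G.obj (op n)).val.map (homOfLE hVU).op s)
    exact ⟨V, hVU, hxV, t, ht⟩
  refine ⟨fun a ha => ?_, hepi, ?_⟩
  · rw [smulMod_naturality, (hG.2.1 n) a ha, comp_zero]
  · intro T g hg
    have hz : kernel.ι (limit.π G (op n)) ≫ g = 0 := by
      apply hom_eq_zero_of_affine
      intro U hU m
      have hmem : Sec.mk A ((kernel.ι (limit.π G (op n))).app U m) ∈
          LinearMap.ker (secMap (A := A) (limit.π G (op n)) U) := by
        rw [LinearMap.mem_ker]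
        have := congrArg (fun χ => Scheme.Modules.Hom.app χ U m) (kernel.condition (limit.π G (op n)))
        exact this
      rw [(isAdicLimit hI hG hU).ker_π_eq hI n] at hmem
      have hgz : ∀ y ∈ (I ^ (n + 1) • ⊤ : Submodule A (Sec A (limit G) U)),
          secMap (A := A) g U y = 0 := by
        intro y hy
        refine Submodule.smul_induction_on hy ?_ ?_
        · intro a ha y _
          have := congrArg (fun χ => secMap (A := A) χ U y) (hg a ha)
          exact this
        · intro y y' h1 h2
          rw [map_add, h1, h2, add_zero]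
      exact hgz _ hmem
    have hc := Abelian.epiIsCokernelOfKernel (KernelFork.ofι _ (kernel.condition (limit.π G (op n))))
      (kernelIsKernel (limit.π G (op n)))
    exact ⟨hc.desc (CokernelCofork.ofπ g hz), hc.fac (CokernelCofork.ofπ g hz) WalkingParallelPair.one⟩

/-- S0852: `F/I^(n+1)F ≅ G_n` for `F = lim G_n` -/
theorem exists_isIso_cokernel_desc (hI : I.FG) (hG : Formal2.IsQCohFormal I G) (n : ℕ) :
    ∃ h : smulFamily (I ^ (n + 1)) (limit G) ≫ limit.π G (op n) = 0,
      IsIso (cokernel.desc _ _ h) :=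
  (isCokerSmul_iff _ _).1 (isCokerSmul_limit_π hI hG n)

end Main

end Groth.Agent.Lib.QCohFormalLim23
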