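/-
helper23: sheaf-level consequences of `Lib/QCohFormalLim23` + `Lib/FTower23`:
* `isCokerSmul_of_affine`: criterion for `FormalCoker13.IsCokerSmul J q` by sections over affine opens;
* `cπ`, `nonempty_completion_limit_iso`: if `lim G → G_n` is a cokernel of `I^(n+1)` for all `n` then
  `Formal.completion I (lim G) ≅ G`;
* `TowerData f G` (hypothesis (1) of S8830 as data), `TowerData.isFTower` (sections over affines form an
  `FTower23.IsFTower`), `TowerData.isQCohFormal`, `TowerData.mono_smulMod_limit`, `exists_of_towerData` (= S8830).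
-/
import Groth.Agent.Lib.QCohFormalLim23
import Groth.Agent.Lib.FTower23
import Groth.Agent.Lib.H90OXModSections

set_option autoImplicit false
set_option linter.style.haveILetI false
universe u
open CategoryTheory CategoryTheory.Limits AlgebraicGeometry Opposite TopologicalSpace

namespace Groth.Agent.Lib.FTowerSheaf23

open Formal Groth.Agent.Lib.FormalCoker13 Groth.Agent.Lib.QCohFormalLim23

variable {A : Type u} [CommRing A] {X : Scheme.{u}} [X.Over (Spec (CommRingCat.of A))]

/-- criterion for `IsCokerSmul` by sections over affine opens -/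
theorem isCokerSmul_of_affine {J : Ideal A} {N N' : X.Modules} (q : N ⟶ N') (hepi : Epi q)
    (hkill : ∀ a ∈ J, smulMod A N a ≫ q = 0)
    (hker : ∀ U : X.Opens, IsAffineOpen U →
      LinearMap.ker (secMap (A := A) q U) ≤ (J • ⊤ : Submodule A (Sec A N U))) :
    IsCokerSmul J q := by
  refine ⟨hkill, hepi, ?_⟩
  intro T g hg
  have hz : kernel.ι q ≫ g = 0 := by
    apply hom_eq_zero_of_affine
    intro U hU m
    have hmem : Sec.mk A ((kernel.ι q).app U m) ∈ LinearMap.ker (secMap (A := A) q U) := by
      rw [LinearMap.mem_ker]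
      have := congrArg (fun χ => Scheme.Modules.Hom.app χ U m) (kernel.condition q)
      exact this
    have hgz : ∀ y ∈ (J • ⊤ : Submodule A (Sec A N U)), secMap (A := A) g U y = 0 := by
      intro y hy
      refine Submodule.smul_induction_on hy ?_ ?_
      · intro a ha y _
        have := congrArg (fun χ => secMap (A := A) χ U y) (hg a ha)
        exact this
      · intro y y' h1 h2
        rw [map_add, h1, h2, add_zero]
    exact hgz _ (hker U hU hmem)
  have hc := Abelian.epiIsCokernelOfKernel (KernelFork.ofι _ (kernel.condition q)) (kernelIsKernel q)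
  exact ⟨hc.desc (CokernelCofork.ofπ g hz), hc.fac (CokernelCofork.ofπ g hz) WalkingParallelPair.one⟩

theorem completion_map_succ (I : Ideal A) (M : X.Modules) (n : ℕ) :
    (completion I M).map (homOfLE (Nat.le_succ n)).op = modPowTrans I (n + 1) M := by
  unfold completion
  exact Functor.ofOpSequence_map_homOfLE_succ _ n

/-- the projection `M → (completion I M)_n` -/
noncomputable def cπ (I : Ideal A) (M : X.Modules) (n : ℕ) : M ⟶ (completion I M).obj (op n) :=
  modPowπ I (n + 1) M

theorem cπ_map_succ (I : Ideal A) (M : X.Modules) (n : ℕ) :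
    cπ I M (n + 1) ≫ (completion I M).map (homOfLE (Nat.le_succ n)).op = cπ I M n := by
  rw [completion_map_succ]
  exact modPowπ_trans I (n + 1) M

theorem isCokerSmul_cπ (I : Ideal A) (M : X.Modules) (n : ℕ) : IsCokerSmul (I ^ (n + 1)) (cπ I M n) :=
  isCokerSmul_modPowπ I (n + 1) M

/-- if `lim G → G_n` is a cokernel of multiplication by `I^(n+1)` for all `n`, then the `I`-adic system of
`lim G` is isomorphic to `G` -/
theorem nonempty_completion_limit_iso (I : Ideal A) (G : ℕᵒᵖ ⥤ X.Modules)
    (h : ∀ n, IsCokerSmul (I ^ (n + 1)) (limit.π G (op n))) :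
    Nonempty (completion I (limit G) ≅ G) := by
  have he : ∀ n, ∃ e : (completion I (limit G)).obj (op n) ≅ G.obj (op n),
      cπ I (limit G) n ≫ e.hom = limit.π G (op n) := fun n =>
    IsCokerSmul.uniqueIso (isCokerSmul_cπ I (limit G) n) (h n)
  choose e hec using he
  let τ : completion I (limit G) ⟶ G := NatTrans.ofOpSequence (fun n => (e n).hom) (by
    intro n
    haveI : Epi (cπ I (limit G) (n + 1)) := (isCokerSmul_cπ I (limit G) (n + 1)).epi
    rw [← cancel_epi (cπ I (limit G) (n + 1))]
    have e1 := cπ_map_succ I (limit G) n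
    rw [← Category.assoc, e1, hec n, ← Category.assoc, hec (n + 1)]
    exact (limit.w G (homOfLE (n.le_add_right 1)).op).symm)
  haveI : ∀ j : ℕᵒᵖ, IsIso (τ.app j) := fun j => by
    change IsIso (e j.unop).hom
    infer_instance
  haveI : IsIso τ := NatIso.isIso_of_isIso_app τ
  exact ⟨asIso τ⟩

section Tower

variable (f : A) (G : ℕᵒᵖ ⥤ X.Modules)

/-- hypothesis (1) of S8830 (data form) -/
structure TowerData where
  i : ∀ n : ℕ, G.obj (op n) ⟶ G.obj (op (n + 1))
  mono : ∀ n, Mono (i n)
  fac : ∀ n, G.map (homOfLE (Nat.le_succ n)).op ≫ i n = smulMod A (G.obj (op (n + 1))) f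
  w : ∀ n, i n ≫ G.map (homOfLE (Nat.zero_le (n + 1))).op = 0
  se : ∀ n, (ShortComplex.mk (i n) (G.map (homOfLE (Nat.zero_le (n + 1))).op) (w n)).ShortExact

variable {f G}

theorem TowerData.isFTower (D : TowerData f G) (hqc : ∀ n : ℕᵒᵖ, Coh.IsQCoh (G.obj n)) {U : X.Opens}
    (hU : IsAffineOpen U) :
    Groth.Agent.Lib.FTower23.IsFTower f (M := fun n => Sec A (G.obj (op n)) U)
      (fun n => secMap (A := A) (G.map (homOfLE (Nat.le_succ n)).op) U)
      (fun n => secMap (A := A) (D.i n) U)
      (fun n => secMap (A := A) (G.map (homOfLE (Nat.zero_le n)).op) U) where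
  p_zero x := by
    have : (homOfLE (Nat.zero_le 0)).op = 𝟙 (op 0) := rfl
    rw [this, G.map_id]
    rfl
  p_succ n y := by
    have e : (homOfLE (Nat.zero_le (n + 1))).op = (homOfLE (Nat.le_succ n)).op ≫ (homOfLE (Nat.zero_le n)).op :=
      rfl
    rw [e, G.map_comp]
    rfl
  inj n := by
    haveI := D.mono n
    exact Groth.Agent.Lib.H90OXModSections.injective_app_of_mono (D.i n) U
  fac n y := by
    have := congrArg (fun χ => secMap (A := A) χ U y) (D.fac n)
    exact this
  exact n y hy := by
    haveI : (ShortComplex.mk (D.i n) (G.map (homOfLE (Nat.zero_le (n + 1))).op) (D.w n)).X₁.IsQuasicoherent :=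
      hqc (op n)
    haveI : (ShortComplex.mk (D.i n) (G.map (homOfLE (Nat.zero_le (n + 1))).op) (D.w n)).X₂.IsQuasicoherent :=
      hqc (op (n + 1))
    haveI : (ShortComplex.mk (D.i n) (G.map (homOfLE (Nat.zero_le (n + 1))).op) (D.w n)).X₃.IsQuasicoherent :=
      hqc (op 0)
    exact Groth.Agent.Lib.H90OXModExact.sections_exact_of_isAffineOpen (D.se n).exact hU (Sec.out y) hy
  zero n z := by
    have := congrArg (fun χ => secMap (A := A) χ U z) (D.w n)
    exact this
  surj n := by
    haveI : (G.obj (op (n + 1))).IsQuasicoherent := hqc (op (n + 1))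
    haveI : (G.obj (op 0)).IsQuasicoherent := hqc (op 0)
    haveI := (D.se n).epi_g
    exact Groth.Agent.Lib.H90OXModExact.surjective_app_of_epi
      (G.map (homOfLE (Nat.zero_le (n + 1))).op) hU

theorem mem_span_pow_iff (a : A) (n : ℕ) :
    a ∈ (Ideal.span ({f} : Set A)) ^ (n + 1) ↔ ∃ c, c * f ^ (n + 1) = a := by
  rw [Ideal.span_singleton_pow, Ideal.mem_span_singleton']

theorem TowerData.killedBy (D : TowerData f G) (hqc : ∀ n : ℕᵒᵖ, Coh.IsQCoh (G.obj n)) (n : ℕ) :
    KilledBy ((Ideal.span ({f} : Set A)) ^ (n + 1)) (G.obj (op n)) := by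
  intro a ha
  obtain ⟨c, rfl⟩ := (mem_span_pow_iff a n).1 ha
  apply hom_eq_zero_of_affine
  intro U hU m
  have h1 := (D.isFTower hqc hU).kill n (Sec.mk A m)
  change (c * f ^ (n + 1)) • Sec.mk A m = 0
  rw [mul_smul, h1, smul_zero]

theorem TowerData.isCokerSmul (D : TowerData f G) (hqc : ∀ n : ℕᵒᵖ, Coh.IsQCoh (G.obj n)) (n : ℕ) :
    IsCokerSmul ((Ideal.span ({f} : Set A)) ^ (n + 1)) (G.map (homOfLE (Nat.le_succ n)).op) := by
  haveI : (G.obj (op (n + 1))).IsQuasicoherent := hqc (op (n + 1))
  haveI : (G.obj (op n)).IsQuasicoherent := hqc (op n)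
  apply isCokerSmul_of_affine
  · rw [Groth.Agent.Lib.H90OXModExact.epi_iff_forall_affine]
    intro U
    exact (D.isFTower hqc U.2).surj_tr n
  · intro a ha
    rw [smulMod_naturality, D.killedBy hqc n a ha, comp_zero]
  · intro U hU x hx
    obtain ⟨y, rfl⟩ := (D.isFTower hqc hU).ker_tr n x (LinearMap.mem_ker.1 hx)
    exact Submodule.smul_mem_smul ((mem_span_pow_iff _ n).2 ⟨1, one_mul _⟩) Submodule.mem_top

theorem TowerData.isQCohFormal (D : TowerData f G) (hqc : ∀ n : ℕᵒᵖ, Coh.IsQCoh (G.obj n)) :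
    Formal2.IsQCohFormal (Ideal.span ({f} : Set A)) G :=
  ⟨fun n => hqc (op n), fun n => D.killedBy hqc n,
    fun n => (isCokerSmul_iff _ _).1 (D.isCokerSmul hqc n)⟩

open Groth.Agent.Lib.QCohBiproduct in
theorem TowerData.mono_smulMod_limit (D : TowerData f G) : Mono (smulMod A (limit G) f) := by
  apply mono_of_injective_app
  intro U
  rw [injective_iff_map_eq_zero (ConcreteCategory.hom ((smulMod A (limit G) f).app U))]
  intro x hx
  apply sections_limit_sep G U x 0
  intro n
  rw [map_zero]
  haveI := D.mono n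
  apply Groth.Agent.Lib.H90OXModSections.injective_app_of_mono (D.i n) U
  rw [map_zero]
  -- `i_n (π_n x) = i_n (tr_n (π_(n+1) x)) = f π_(n+1) x = π_(n+1) (f x) = 0`
  have e1 : limit.π G (op n) = limit.π G (op (n + 1)) ≫ G.map (homOfLE (Nat.le_succ n)).op :=
    (limit.w G (homOfLE (Nat.le_succ n)).op).symm
  have e2 : limit.π G (op n) ≫ D.i n = smulMod A (limit G) f ≫ limit.π G (op (n + 1)) := by
    rw [e1, Category.assoc, D.fac n, smulMod_naturality]
  have := congrArg (fun χ => Scheme.Modules.Hom.app χ U x) e2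
  change (D.i n).app U ((limit.π G (op n)).app U x) =
    (limit.π G (op (n + 1))).app U ((smulMod A (limit G) f).app U x) at this
  rw [this, hx, map_zero]

/-- S8830 -/
theorem exists_of_towerData (D : TowerData f G) (hqc : ∀ n : ℕᵒᵖ, Coh.IsQCoh (G.obj n)) :
    ∃ F : X.Modules, Mono (smulMod A F f) ∧
      Nonempty (completion (Ideal.span ({f} : Set A)) F ≅ G) :=
  ⟨limit G, D.mono_smulMod_limit, nonempty_completion_limit_iso _ G
    (fun n => isCokerSmul_limit_π (Submodule.fg_span_singleton f) (D.isQCohFormal hqc) n)⟩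

end Tower

end Groth.Agent.Lib.FTowerSheaf23
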