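import Mathlib
import Groth.Agent.Lib.NoethSerre

/-!
# Faithful exact left adjoints into AB5 categories with a separating family (helper66)

`F : A ⥤ B` faithful exact, `F ⊣ G`, `G` preserves filtered colimits, `B` AB5 with a small
separating family `s`.  Main results:
* `ab5` : `A` is AB5;
* `jointly_epi` / `jointly_epi'` : every `X : A` is the filtered union of the subobjects `K a`
  (largest subobject whose `F`-image lies in the image of finitely many maps `s i ⟶ F X`);
* `isNoetherianObject_of_map`, `isNoetherianObject_map` : `X` noetherian iff `F X` noetherian;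
* `wellPowered`, `exists_separating_family` : `A` has a small separating family.
Used by S11126, S11127, S11128.
-/

set_option autoImplicit false
set_option linter.unusedSectionVars false
set_option linter.style.haveILetI false
universe w u₁ u₂
open CategoryTheory CategoryTheory.Limits

namespace Groth.Agent.Lib.FaithExactAdj66

variable {A : Type u₁} [Category.{w} A] [Abelian A] [HasColimitsOfSize.{w, w} A]
  {B : Type u₂} [Category.{w} B] [Abelian B] [HasColimitsOfSize.{w, w} B]
  {F : A ⥤ B} {G : B ⥤ A} (adj : F ⊣ G) [F.Additive] [F.Faithful]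
  [PreservesFiniteLimits F] [PreservesFiniteColimits F]

include adj in
/-- AB5 descends along a faithful exact left adjoint. -/
lemma ab5 [AB5OfSize.{w, w} B] : AB5OfSize.{w, w} A := by
  haveI : PreservesColimitsOfSize.{w, w} F := adj.leftAdjoint_preservesColimits
  haveI : F.ReflectsIsomorphisms := inferInstance
  haveI : ReflectsFiniteLimits F := ⟨fun J _ _ => reflectsLimitsOfShape_of_reflectsIsomorphisms⟩
  exact ⟨fun J _ _ => HasExactColimitsOfShape.domain_of_functor J F⟩

section CL

variable [PreservesFilteredColimitsOfSize.{w, w} G]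
variable {J : Type w} [SmallCategory J] [IsFiltered J] {X : A}
  (E : J ⥤ B) (π : (Functor.const J).obj (F.obj X) ⟶ E)

/-- the transposed natural transformation -/
@[simps]
def Θ : (Functor.const J).obj X ⟶ E ⋙ G where
  app j := adj.homEquiv _ _ (π.app j)
  naturality j j' f := by
    have := π.naturality f
    dsimp at this ⊢
    rw [Category.id_comp] at this ⊢
    rw [this, adj.homEquiv_naturality_right]


include adj in
/-- **Key lemma**: the kernels of the transposes `X ⟶ G (E j)` are jointly epimorphic on `X`,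
provided the quotients `E j` of `F X` kill, for varying `j`, every map from a separating family. -/
theorem jointly_epi [AB5OfSize.{w, w} A] [∀ j, Epi (π.app j)]
    {ι : Type*} (s : ι → B)
    (hsep : ∀ ⦃Y Z : B⦄ (f g : Y ⟶ Z), (∀ (i : ι) (h : s i ⟶ Y), h ≫ f = h ≫ g) → f = g)
    (hπ : ∀ (i : ι) (u : s i ⟶ F.obj X), ∃ j, u ≫ π.app j = 0)
    {Y : A} (h : X ⟶ Y)
    (hh : ∀ j, kernel.ι (adj.homEquiv _ _ (π.app j)) ≫ h = 0) : h = 0 := by
  haveI : IsConnected J := IsFiltered.isConnected J
  haveI : G.Additive := adj.right_adjoint_additive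
  -- step 1: the colimit of `E` is zero
  have hp : ∀ j j', π.app j ≫ colimit.ι E j = π.app j' ≫ colimit.ι E j' := by
    intro j j'
    have e1 := π.naturality (IsFiltered.leftToMax j j')
    have e2 := π.naturality (IsFiltered.rightToMax j j')
    dsimp at e1 e2
    rw [Category.id_comp] at e1 e2
    rw [← colimit.w E (IsFiltered.leftToMax j j'), ← colimit.w E (IsFiltered.rightToMax j j'),
      ← Category.assoc, ← Category.assoc, ← e1, ← e2]
  let j₀ : J := Classical.arbitrary J
  let p : F.obj X ⟶ colimit E := π.app j₀ ≫ colimit.ι E j₀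
  have hp0 : p = 0 := by
    apply hsep
    intro i u
    obtain ⟨j, hj⟩ := hπ i u
    rw [comp_zero]
    change u ≫ π.app j₀ ≫ colimit.ι E j₀ = 0
    rw [hp j₀ j, ← Category.assoc, hj, zero_comp]
  have hpe : Epi p := by
    refine ⟨fun {W} g₁ g₂ hg => colimit.hom_ext (fun j => ?_)⟩
    rw [← cancel_epi (π.app j), ← Category.assoc, ← Category.assoc, ← hp j₀ j]
    exact hg
  have hZ : IsZero (colimit E) := IsZero.of_epi_eq_zero p hp0
  have hGZ : IsZero (G.obj (colimit E)) := G.map_isZero hZ
  -- step 2: exactness of filtered colimits in `A`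
  let S : ShortComplex (J ⥤ A) :=
    ShortComplex.mk (kernel.ι (Θ adj E π)) (Θ adj E π) (kernel.condition _)
  have hS : S.Exact := ShortComplex.exact_kernel _
  have hc₃ : IsColimit (G.mapCocone (colimit.cocone E)) :=
    isColimitOfPreserves G (colimit.isColimit E)
  have ex := colim.exact_mapShortComplex (S := S) hS (colimit.isColimit S.X₁)
    (isColimitConstCocone J X) hc₃
    (colimit.desc S.X₁ ⟨X, S.f⟩) (0 : X ⟶ G.obj (colimit E))
    (fun j => (colimit.ι_desc (⟨X, S.f⟩ : Cocone S.X₁) j).trans (Category.comp_id _).symm)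
    (fun j => hGZ.eq_of_tgt _ _)
  have hepi : Epi (colimit.desc S.X₁ ⟨X, S.f⟩) := ex.epi_f rfl
  rw [← cancel_epi (colimit.desc S.X₁ ⟨X, S.f⟩), comp_zero]
  refine colimit.hom_ext (fun j => ?_)
  rw [colimit.ι_desc_assoc, comp_zero]
  -- `S.f.app j` factors through the kernel of `Θ_j`
  obtain ⟨t, ht⟩ : ∃ t : S.X₁.obj j ⟶ X, t = S.f.app j := ⟨_, rfl⟩
  have hk : t ≫ adj.homEquiv X (E.obj j) (π.app j) = 0 := by
    have := NatTrans.congr_app S.zero j
    rw [NatTrans.comp_app] at this
    rw [ht]
    exact this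
  have ht' : t = kernel.lift _ t hk ≫ kernel.ι _ := (kernel.lift_ι _ _ _).symm
  change S.f.app j ≫ h = 0
  rw [← ht, ht', Category.assoc, hh j, comp_zero]

end CL


section System

attribute [local instance] Abelian.hasFiniteBiproducts

variable (F) {ι : Type w} (s : ι → B) (X : A)

/-- index: finite tuples of maps from the family `s` to `F X` -/
structure Idx : Type w where
  n : ℕ
  v : Fin n → Σ i, s i ⟶ F.obj X

instance : Preorder (Idx F s X) where
  le a b := Set.range a.v ⊆ Set.range b.v
  le_refl _ := subset_rfl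
  le_trans _ _ _ h1 h2 := h1.trans h2

instance : Nonempty (Idx F s X) := ⟨⟨0, Fin.elim0⟩⟩

instance : IsDirected (Idx F s X) (· ≤ ·) :=
  ⟨fun a b => ⟨⟨a.n + b.n, Fin.append a.v b.v⟩, by
    rintro _ ⟨k, rfl⟩; exact ⟨Fin.castAdd _ k, by simp⟩, by
    rintro _ ⟨k, rfl⟩; exact ⟨Fin.natAdd _ k, by simp⟩⟩⟩

variable {F s X}

/-- the family of objects attached to an index -/
abbrev fam (a : Idx F s X) : Fin a.n → B := fun k => s (a.v k).1

/-- the map from the finite biproduct -/
noncomputable def φ (a : Idx F s X) : ⨁ (fam a) ⟶ F.obj X := biproduct.desc (fun k => (a.v k).2)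

lemma comp_π_eq_zero (a : Idx F s X) (x : Σ i, s i ⟶ F.obj X) (hx : x ∈ Set.range a.v) :
    x.2 ≫ cokernel.π (φ a) = 0 := by
  obtain ⟨k, rfl⟩ := hx
  have : (a.v k).2 = biproduct.ι (fam a) k ≫ φ a := by
    unfold φ; rw [biproduct.ι_desc]
  rw [this, Category.assoc, cokernel.condition, comp_zero]

lemma φ_comp_π_eq_zero {a b : Idx F s X} (h : a ≤ b) : φ a ≫ cokernel.π (φ b) = 0 := by
  apply biproduct.hom_ext'
  intro k
  rw [comp_zero]
  unfold φ
  rw [biproduct.ι_desc_assoc]
  exact comp_π_eq_zero b _ (h ⟨k, rfl⟩)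

variable (F s X)

/-- the filtered system of quotients of `F X` -/
noncomputable def E : Idx F s X ⥤ B where
  obj a := cokernel (φ a)
  map {a b} f := cokernel.desc (φ a) (cokernel.π (φ b)) (φ_comp_π_eq_zero (leOfHom f))
  map_id a := by
    apply coequalizer.hom_ext
    simp
  map_comp f g := by
    apply coequalizer.hom_ext
    simp

/-- the projections -/
noncomputable def π : (Functor.const (Idx F s X)).obj (F.obj X) ⟶ E F s X where
  app a := cokernel.π (φ a)
  naturality a b f := by
    dsimp [E]
    simp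

instance (a : Idx F s X) : Epi ((π F s X).app a) :=
  inferInstanceAs (Epi (coequalizer.π (φ a) 0))

lemma hπ (i : ι) (u : s i ⟶ F.obj X) : ∃ a, u ≫ (π F s X).app a = 0 :=
  ⟨⟨1, fun _ => ⟨i, u⟩⟩, comp_π_eq_zero (F := F) ⟨1, fun _ => ⟨i, u⟩⟩ ⟨i, u⟩ ⟨0, rfl⟩⟩

end System

section Transfer

include adj

/-- the transpose of a mono is a mono (as `F` is faithful) -/
lemma mono_homEquiv {T : A} {Z : B} (m : F.obj T ⟶ Z) [Mono m] : Mono (adj.homEquiv T Z m) := by
  refine ⟨fun {W} a b hab => ?_⟩
  rw [← adj.homEquiv_naturality_left, ← adj.homEquiv_naturality_left] at hab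
  have := (adj.homEquiv _ _).injective hab
  rw [cancel_mono] at this
  exact F.map_injective this

lemma homEquiv_zero {T : A} {Z : B} : adj.homEquiv T Z 0 = 0 := by
  haveI : G.Additive := adj.right_adjoint_additive
  rw [adj.homEquiv_unit, G.map_zero, comp_zero]

lemma homEquiv_eq_zero_iff {T : A} {Z : B} (m : F.obj T ⟶ Z) : adj.homEquiv T Z m = 0 ↔ m = 0 := by
  constructor
  · intro h
    apply (adj.homEquiv T Z).injective
    rw [h, homEquiv_zero adj]
  · rintro rfl
    exact homEquiv_zero adj

omit adj in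
/-- `F` induces an order embedding on subobjects. -/
lemma mk_map_le_iff {X : A} (T T' : Subobject X) :
    Subobject.mk (F.map T.arrow) ≤ Subobject.mk (F.map T'.arrow) ↔ T ≤ T' := by
  constructor
  · intro h
    have e := Subobject.ofMkLEMk_comp h
    have h0 : T.arrow ≫ cokernel.π T'.arrow = 0 := by
      apply F.map_injective
      rw [F.map_comp, ← e, Category.assoc, ← F.map_comp, cokernel.condition, F.map_zero,
        F.map_zero, comp_zero]
    exact Subobject.le_of_comm (Abelian.monoLift T'.arrow T.arrow h0) (Abelian.monoLift_comp _ _ _)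
  · intro h
    exact Subobject.mk_le_mk_of_comm (F.map (Subobject.ofLE T T' h))
      (by rw [← F.map_comp, Subobject.ofLE_arrow])

omit adj in
lemma strictMono_mk_map (X : A) :
    StrictMono (fun T : Subobject X => Subobject.mk (F.map T.arrow)) :=
  strictMono_of_le_iff_le (fun T T' => (mk_map_le_iff T T').symm)

omit adj in
/-- the easy direction: `F` reflects noetherian objects -/
lemma isNoetherianObject_of_map {X : A} (h : IsNoetherianObject (F.obj X)) :
    IsNoetherianObject X :=
  ⟨(strictMono_mk_map (F := F) X).wellFoundedGT⟩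

omit adj in
variable (F) in
include F in
lemma wellPowered [WellPowered.{w} B] : WellPowered.{w} A where
  subobject_small X := small_of_injective
    (f := fun T : Subobject X => Subobject.mk (F.map T.arrow))
    (fun T T' h => le_antisymm ((mk_map_le_iff T T').1 (le_of_eq h))
      ((mk_map_le_iff T' T).1 (le_of_eq h.symm)))

end Transfer

section Kernels

attribute [local instance] Abelian.hasFiniteBiproducts

variable {ι : Type w} {s : ι → B} {X : A}

/-- the transposed projection `X ⟶ G (F X / im φ_a)` -/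
noncomputable abbrev θ (a : Idx F s X) : X ⟶ G.obj (cokernel (φ a)) :=
  adj.homEquiv _ _ (cokernel.π (φ a))

/-- the largest subobject of `X` whose image under `F` lies in the image of `φ a` -/
noncomputable abbrev K (a : Idx F s X) : A := kernel (θ adj a)

/-- the inclusion -/
noncomputable abbrev kι (a : Idx F s X) : K adj a ⟶ X := kernel.ι (θ adj a)

variable [PreservesFilteredColimitsOfSize.{w, w} G]

theorem jointly_epi' [AB5OfSize.{w, w} A]
    (hsep : ∀ ⦃Y Z : B⦄ (f g : Y ⟶ Z), (∀ (i : ι) (h : s i ⟶ Y), h ≫ f = h ≫ g) → f = g)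
    {Y : A} (h : X ⟶ Y) (hh : ∀ a : Idx F s X, kι adj a ≫ h = 0) : h = 0 :=
  jointly_epi adj (E F s X) (π F s X) s hsep (hπ F s X) h hh

omit [PreservesFilteredColimitsOfSize.{w, w} G] in
lemma map_kι_comp_π (a : Idx F s X) : F.map (kι adj a) ≫ cokernel.π (φ a) = 0 := by
  rw [← homEquiv_eq_zero_iff adj, adj.homEquiv_naturality_left]
  exact kernel.condition _

omit [PreservesFilteredColimitsOfSize.{w, w} G] in
lemma θ_le {a b : Idx F s X} (h : a ≤ b) :
    θ adj b = θ adj a ≫ G.map (cokernel.desc (φ a) (cokernel.π (φ b)) (φ_comp_π_eq_zero h)) := by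
  rw [← adj.homEquiv_naturality_right, cokernel.π_desc]

omit [PreservesFilteredColimitsOfSize.{w, w} G] in
lemma mk_kι_mono {a b : Idx F s X} (h : a ≤ b) :
    Subobject.mk (kι adj a) ≤ Subobject.mk (kι adj b) := by
  refine Subobject.mk_le_mk_of_comm (kernel.lift _ (kι adj a) ?_) (kernel.lift_ι _ _ _)
  rw [θ_le adj h, ← Category.assoc, kernel.condition, zero_comp]

/-- `F (K a)` maps into the image of `φ a` -/
noncomputable def toImage (a : Idx F s X) : F.obj (K adj a) ⟶ Abelian.image (φ a) :=
  kernel.lift _ (F.map (kι adj a)) (map_kι_comp_π adj a)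

omit [PreservesFilteredColimitsOfSize.{w, w} G] in
lemma toImage_ι (a : Idx F s X) : toImage adj a ≫ Abelian.image.ι (φ a) = F.map (kι adj a) :=
  kernel.lift_ι _ _ _

instance (a : Idx F s X) : Mono (toImage adj a) :=
  mono_of_mono_fac (toImage_ι adj a)

omit [PreservesFilteredColimitsOfSize.{w, w} G] in
lemma isNoetherianObject_image (hsN : ∀ i, IsNoetherianObject (s i)) (a : Idx F s X) :
    IsNoetherianObject (Abelian.image (φ a)) := by
  haveI := Groth.Agent.Lib.NoethSerre.isNoetherianObject_biproduct (fam a) (fun k => hsN _)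
  exact Groth.Agent.Lib.NoethSerre.isNoetherianObject_of_epi (Abelian.factorThruImage (φ a))

omit [PreservesFilteredColimitsOfSize.{w, w} G] in
lemma isNoetherianObject_K (hsN : ∀ i, IsNoetherianObject (s i)) (a : Idx F s X) :
    IsNoetherianObject (K adj a) := by
  apply isNoetherianObject_of_map (F := F)
  haveI := isNoetherianObject_image hsN a
  exact isNoetherianObject_of_mono (toImage adj a)

end Kernels

section Generators

attribute [local instance] Abelian.hasFiniteBiproducts

variable {ι : Type w} (s : ι → B)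

variable (G) in
/-- (large) index type for the generating family: subobjects of `G` of quotients of finite
biproducts of the `s i`. -/
def GenIdx : Type (max w u₁ u₂) :=
  Σ (n : ℕ) (σ : Fin n → ι) (q : Subobject (⨁ fun k => s (σ k))),
    Subobject (G.obj (cokernel q.arrow))

variable (F G) in
include F in
lemma small_genIdx [WellPowered.{w} B] : Small.{w} (GenIdx G s) := by
  haveI : WellPowered.{w} A := wellPowered F
  unfold GenIdx
  infer_instance

variable (G) in
/-- the object attached to an index -/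
noncomputable def genObj (g : GenIdx G s) : A := (g.2.2.2 : A)

variable {s}

lemma exists_genIdx {X : A} (a : Idx F s X) :
    ∃ g : GenIdx G s, Nonempty (K adj a ≅ genObj G s g) := by
  let e : cokernel (kernelSubobject (φ a)).arrow ≅ Abelian.image (φ a) :=
    cokernelIsoOfEq (kernelSubobject_arrow (φ a)).symm ≪≫ cokernelEpiComp _ _ ≪≫
      Abelian.coimageIsoImage (φ a)
  haveI : Mono (adj.homEquiv _ _ (toImage adj a ≫ e.inv)) := mono_homEquiv adj _
  refine ⟨⟨a.n, fun k => (a.v k).1, kernelSubobject (φ a),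
    Subobject.mk (adj.homEquiv _ _ (toImage adj a ≫ e.inv))⟩, ⟨?_⟩⟩
  exact (Subobject.underlyingIso _).symm

/-- **Generators.** If `s` is a separating family of `B`, then `A` has a small separating family,
all of whose members are of the form `K a`. -/
theorem exists_separating_family [PreservesFilteredColimitsOfSize.{w, w} G]
    [AB5OfSize.{w, w} B] [WellPowered.{w} B]
    (hsep : ∀ ⦃Y Z : B⦄ (f g : Y ⟶ Z), (∀ (i : ι) (h : s i ⟶ Y), h ≫ f = h ≫ g) → f = g)
    (P : A → Prop) (hPiso : ∀ ⦃T T' : A⦄, (T ≅ T') → P T → P T')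
    (hPK : ∀ (X : A) (a : Idx F s X), P (K adj a)) :
    ∃ (κ : Type w) (t : κ → A), (∀ k, P (t k)) ∧
      ∀ ⦃X Y : A⦄ (f g : X ⟶ Y), (∀ (k : κ) (h : t k ⟶ X), h ≫ f = h ≫ g) → f = g := by
  haveI : AB5OfSize.{w, w} A := ab5 adj
  haveI := small_genIdx F G s
  let κ₀ := Shrink.{w} (GenIdx G s)
  let t₀ : κ₀ → A := fun k => genObj G s ((equivShrink (GenIdx G s)).symm k)
  refine ⟨{k : κ₀ // P (t₀ k)}, fun k => t₀ k.1, fun k => k.2, ?_⟩
  intro X Y f g hfg
  rw [← sub_eq_zero]
  apply jointly_epi' adj hsep
  intro a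
  obtain ⟨g₀, ⟨e⟩⟩ := exists_genIdx adj (G := G) a
  have hk : t₀ (equivShrink _ g₀) = genObj G s g₀ := by
    simp only [t₀, Equiv.symm_apply_apply]
  have hP : P (t₀ (equivShrink _ g₀)) := by
    rw [hk]; exact hPiso e (hPK X a)
  have := hfg ⟨equivShrink _ g₀, hP⟩ (eqToHom hk ≫ e.inv ≫ kι adj a)
  simp only [Category.assoc] at this
  rw [cancel_epi, cancel_epi] at this
  rw [Preadditive.comp_sub, this, sub_self]

end Generators

section Noeth

attribute [local instance] Abelian.hasFiniteBiproducts

variable {ι : Type w} {s : ι → B}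

include adj in
/-- the hard direction: `F` preserves noetherian objects when `B` has a separating family of
noetherian objects. -/
theorem isNoetherianObject_map [PreservesFilteredColimitsOfSize.{w, w} G] [AB5OfSize.{w, w} B]
    (hsN : ∀ i, IsNoetherianObject (s i))
    (hsep : ∀ ⦃Y Z : B⦄ (f g : Y ⟶ Z), (∀ (i : ι) (h : s i ⟶ Y), h ≫ f = h ≫ g) → f = g)
    (X : A) [IsNoetherianObject X] : IsNoetherianObject (F.obj X) := by
  haveI : AB5OfSize.{w, w} A := ab5 adj
  -- a maximal element among the `K a`
  obtain ⟨_, ⟨b₀, rfl⟩, hmax⟩ := (wellFounded_gt (α := Subobject X)).has_min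
    (Set.range (fun a : Idx F s X => Subobject.mk (kι adj a))) ⟨_, ⟨Classical.arbitrary _, rfl⟩⟩
  have hle : ∀ b : Idx F s X, Subobject.mk (kι adj b) ≤ Subobject.mk (kι adj b₀) := by
    intro b
    obtain ⟨c, hbc, hb₀c⟩ := exists_ge_ge b b₀
    have h1 := mk_kι_mono adj hbc
    have h2 := mk_kι_mono adj hb₀c
    have h3 : Subobject.mk (kι adj c) = Subobject.mk (kι adj b₀) := by
      by_contra hne
      exact hmax _ ⟨c, rfl⟩ (lt_of_le_of_ne h2 (Ne.symm hne))
    exact h1.trans h3.le
  -- hence `K b₀ = X`
  have h0 : cokernel.π (kι adj b₀) = 0 := by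
    apply jointly_epi' adj hsep
    intro b
    have := Subobject.ofMkLEMk_comp (hle b)
    rw [← this, Category.assoc, cokernel.condition, comp_zero]
  haveI : Epi (kι adj b₀) := Abelian.epi_of_cokernel_π_eq_zero _ h0
  have hθ : θ adj b₀ = 0 := by
    rw [← cancel_epi (kι adj b₀), kernel.condition, comp_zero]
  have hπ0 : cokernel.π (φ b₀) = 0 := (homEquiv_eq_zero_iff adj _).1 hθ
  haveI : Epi (φ b₀) := Abelian.epi_of_cokernel_π_eq_zero _ hπ0
  haveI := Groth.Agent.Lib.NoethSerre.isNoetherianObject_biproduct (fam b₀) (fun k => hsN _)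
  exact Groth.Agent.Lib.NoethSerre.isNoetherianObject_of_epi (φ b₀)

end Noeth

end Groth.Agent.Lib.FaithExactAdj66
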