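import Groth.Agent.Lib.Faltings53a
import Groth.Agent.Lib.H8Fin2
import Groth.Agent.Lib.LocCohIndepBase

/-!
# Faltings' annihilator theorem for homomorphic images of regular rings (BS 9.5.1) (helper53)

Change of rings along a surjection `S → R` for `λ_a^b(M)` (BS 9.3.6) and for the annihilators of
local cohomology (independence of base), then the theorem.
-/

set_option maxHeartbeats 400000
set_option linter.unusedSectionVars false
universe u

namespace Groth.Agent.Lib.Faltings53
open Groth.Agent.Lib.FinDimRel53

section quot
variable {S R : Type u} [CommRing S] [CommRing R] [Algebra S R]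
  (hπ : Function.Surjective (algebraMap S R))

include hπ in
/-- heights of `(a+P)/P` in `S/P` and of `(aR+p)/p` in `R/p`, `P` the preimage of `p`. -/
theorem height_map_mk_eq (a : Ideal S) (p : Ideal R) [p.IsPrime] :
    ((a ⊔ p.comap (algebraMap S R)).map
      (Ideal.Quotient.mk (p.comap (algebraMap S R)))).height =
    ((a.map (algebraMap S R) ⊔ p).map (Ideal.Quotient.mk p)).height := by
  have hbij : Function.Bijective (Ideal.quotientMap p (algebraMap S R)
      (le_refl (p.comap (algebraMap S R)))) :=
    ⟨Ideal.quotientMap_injective' (le_refl _), Ideal.quotientMap_surjective hπ⟩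
  rw [← RingEquiv.height_map (RingEquiv.ofBijective _ hbij)]
  congr 1
  change Ideal.map (Ideal.quotientMap p (algebraMap S R)
      (le_refl (p.comap (algebraMap S R)))) _ = _
  rw [Ideal.map_map, Ideal.quotientMap_comp_mk, ← Ideal.map_map, Ideal.map_sup,
    Ideal.map_comap_of_surjective _ hπ]

variable [IsNoetherianRing S] [IsNoetherianRing R]
  (M : Type u) [AddCommGroup M] [Module S M] [Module R M] [IsScalarTower S R M]
  [Module.Finite S M]

include hπ in
theorem depth_comap_eq (p : Ideal R) [hp : p.IsPrime] :
    LocCoh.depth (Localization.AtPrime (p.comap (algebraMap S R)))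
      (LocalizedModule (p.comap (algebraMap S R)).primeCompl M) =
    LocCoh.depth (Localization.AtPrime p) (LocalizedModule p.primeCompl M) := by
  rw [Groth.Agent.Lib.H8Fin.depth_eq_iInf_over S R M (p.comap (algebraMap S R))]
  have huniq : ∀ q ∈ Groth.Agent.Lib.H8Fin.over S R M (p.comap (algebraMap S R)),
      q = (⟨p, hp⟩ : PrimeSpectrum R) := fun q hq =>
    PrimeSpectrum.ext (Ideal.comap_injective_of_surjective _ hπ hq.1)
  by_cases hsupp : (⟨p, hp⟩ : PrimeSpectrum R) ∈ Module.support R M
  · apply le_antisymm
    · exact iInf₂_le (⟨p, hp⟩ : PrimeSpectrum R) ⟨rfl, hsupp⟩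
    · refine le_iInf₂ fun q hq => ?_
      rw [huniq q hq]
  · have hsub : Subsingleton (LocalizedModule p.primeCompl M) := by
      rw [Module.mem_support_iff] at hsupp
      exact not_nontrivial_iff_subsingleton.1 hsupp
    rw [depth_eq_top_of_subsingleton, iInf_eq_top]
    intro q
    rw [iInf_eq_top]
    intro hq
    exact absurd (huniq q hq ▸ hq.2) hsupp

theorem depth_eq_top_of_not_ker_le (P : Ideal S) [P.IsPrime]
    (hP : ¬ RingHom.ker (algebraMap S R) ≤ P) :
    LocCoh.depth (Localization.AtPrime P) (LocalizedModule P.primeCompl M) = ⊤ := by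
  rw [Groth.Agent.Lib.H8Fin.depth_eq_iInf_over S R M P, iInf_eq_top]
  intro q
  rw [iInf_eq_top]
  intro hq
  exfalso
  apply hP
  rw [← hq.1]
  exact Ideal.ker_le_comap _

include hπ in
theorem adjDepth_comap (a : Ideal S) (p : PrimeSpectrum R) :
    LocCoh.adjDepth a M (PrimeSpectrum.comap (algebraMap S R) p) =
      LocCoh.adjDepth (a.map (algebraMap S R)) M p := by
  unfold LocCoh.adjDepth
  change LocCoh.depth (Localization.AtPrime (p.asIdeal.comap (algebraMap S R)))
      (LocalizedModule (p.asIdeal.comap (algebraMap S R)).primeCompl M) +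
      ((a ⊔ p.asIdeal.comap (algebraMap S R)).map
        (Ideal.Quotient.mk (p.asIdeal.comap (algebraMap S R)))).height = _
  rw [depth_comap_eq hπ M p.asIdeal, height_map_mk_eq hπ a p.asIdeal]

include hπ in
/-- **Brodmann–Sharp 9.3.6** along a surjection. -/
theorem minAdjDepth_eq (a b : Ideal S) :
    LocCoh.minAdjDepth a b M =
      LocCoh.minAdjDepth (a.map (algebraMap S R)) (b.map (algebraMap S R)) M := by
  apply le_antisymm
  · refine le_iInf₂ fun p hp => ?_
    rw [← adjDepth_comap hπ M a p]
    refine iInf₂_le (PrimeSpectrum.comap (algebraMap S R) p) ?_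
    intro hle
    exact hp (Ideal.map_le_iff_le_comap.2 hle)
  · refine le_iInf₂ fun P hP => ?_
    by_cases hker : RingHom.ker (algebraMap S R) ≤ P.asIdeal
    · have hprime : (P.asIdeal.map (algebraMap S R)).IsPrime :=
        Ideal.map_isPrime_of_surjective hπ hker
      have hcomap : (P.asIdeal.map (algebraMap S R)).comap (algebraMap S R) = P.asIdeal := by
        rw [Ideal.comap_map_of_surjective' _ hπ]
        exact sup_eq_left.2 hker
      have hPeq : P = PrimeSpectrum.comap (algebraMap S R) ⟨_, hprime⟩ :=
        PrimeSpectrum.ext hcomap.symm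
      rw [hPeq, adjDepth_comap hπ M a]
      refine iInf₂_le (⟨_, hprime⟩ : PrimeSpectrum R) ?_
      intro hle
      apply hP
      have := Ideal.comap_mono (f := algebraMap S R) hle
      rw [hcomap] at this
      exact le_trans Ideal.le_comap_map this
    · unfold LocCoh.adjDepth
      rw [depth_eq_top_of_not_ker_le M P.asIdeal hker, top_add]
      exact le_top

include hπ in
/-- annihilation over `S` gives annihilation over `R`. -/
theorem radAnn_map (a' : Ideal S) (b : Ideal R) (i : ℕ)
    (h : b.comap (algebraMap S R) ≤ (Module.annihilator S (LocCoh.H a' i M)).radical) :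
    b ≤ (Module.annihilator R (LocCoh.H (a'.map (algebraMap S R)) i M)).radical := by
  obtain ⟨φ, hφ⟩ := Groth.Agent.Lib.LocCohIndepBase.indep_base (R := S) (R' := R) a' i M
  rw [le_radical_annihilator_iff] at h ⊢
  intro e he
  obtain ⟨s, rfl⟩ := hπ e
  obtain ⟨k, hk⟩ := h s he
  refine ⟨k, fun x => ?_⟩
  apply φ.injective
  rw [map_zero, ← map_pow, hφ, hk]

end quot

section main

/-- **Faltings' annihilator theorem** (`λ ≤ f`) for a homomorphic image of a regular ring. -/
theorem minAdjDepth_le_finDimRel (S : Type u) [CommRing S] [IsRegularRing S] (R : Type u)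
    [CommRing R] [IsNoetherianRing R] (π : S →+* R) (hπ : Function.Surjective π)
    (a b : Ideal R) (M : Type u) [AddCommGroup M] [Module R M] [Module.Finite R M] :
    LocCoh.minAdjDepth a b M ≤ LocCoh.finDimRel a b M := by
  letI : Algebra S R := π.toAlgebra
  letI : Module S M := Module.compHom M π
  haveI : IsScalarTower S R M := IsScalarTower.of_algebraMap_smul fun s m => rfl
  have hπ' : Function.Surjective (algebraMap S R) := hπ
  haveI : Module.Finite S R := Module.Finite.of_surjective (Algebra.linearMap S R) hπ'
  haveI : Module.Finite S M := Module.Finite.trans R M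
  unfold LocCoh.finDimRel
  refine le_iInf₂ fun i hi => ?_
  by_contra hlt
  rw [not_le] at hlt
  apply hi
  have h1 := minAdjDepth_eq hπ' M (a.comap (algebraMap S R)) (b.comap (algebraMap S R))
  rw [Ideal.map_comap_of_surjective _ hπ', Ideal.map_comap_of_surjective _ hπ'] at h1
  have h2 := le_radical_of_lt (b.comap (algebraMap S R)) M (a.comap (algebraMap S R)) i
    (by rw [h1]; exact hlt)
  have h3 := radAnn_map hπ' M (a.comap (algebraMap S R)) b i h2
  rwa [Ideal.map_comap_of_surjective _ hπ' a] at h3

end main

end Groth.Agent.Lib.Faltings53
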