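import Mathlib

/-!
# Rational simplicial cones around a real point

Core lemma: every nonzero nonnegative real vector `p` is a nonnegative real combination of
`ℤ`-linearly independent nonnegative integer vectors `w_i` lying in the smallest rational
subspace containing `p` (every integer linear functional vanishing at `p` vanishes on all `w_i`).
-/

namespace Groth.Agent.Lib.RatCone

open Finset

lemma exists_common_den {κ : Type*} [Fintype κ] (x : κ → ℚ) :
    ∃ D : ℕ, 0 < D ∧ ∀ k, ∃ n : ℤ, (n : ℚ) = (D : ℚ) * x k := by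
  classical
  refine ⟨∏ k, (x k).den, Finset.prod_pos (fun k _ => (x k).den_pos), fun k => ?_⟩
  refine ⟨(x k).num * ∏ j ∈ Finset.univ.erase k, ((x j).den : ℤ), ?_⟩
  rw [← Finset.mul_prod_erase Finset.univ _ (Finset.mem_univ k)]
  push_cast
  have h := Rat.mul_den_eq_num (x k)
  rw [← h]
  ring

/-- a positive lower bound for finitely many positive reals -/
lemma exists_pos_rat_lt {ι : Type*} [Fintype ι] (r : ι → ℝ) (hr : ∀ j, 0 < r j) :
    ∃ h : ℚ, 0 < h ∧ ∀ j, (h : ℝ) < r j := by
  classical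
  by_cases hne : Nonempty ι
  · have hpos : 0 < Finset.univ.inf' Finset.univ_nonempty r := by
      rw [Finset.lt_inf'_iff]
      exact fun j _ => hr j
    obtain ⟨h, h0, h1⟩ := exists_rat_btwn hpos
    refine ⟨h, by exact_mod_cast h0, fun j => lt_of_lt_of_le h1 (Finset.inf'_le _ (Finset.mem_univ j))⟩
  · exact ⟨1, one_pos, fun j => (hne ⟨j⟩).elim⟩

section Simplex

variable {κ : Type*} [Fintype κ] [DecidableEq κ]

/-- sum of all `z i`-type expressions split at a distinguished index -/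
lemma sum_eq_add_erase (a₀ : κ) (f : κ → ℝ) : ∑ i, f i = f a₀ + ∑ i ∈ univ.erase a₀, f i :=
  (Finset.add_sum_erase univ f (mem_univ a₀)).symm

lemma sum_eq_add_erase_rat (a₀ : κ) (f : κ → ℚ) : ∑ i, f i = f a₀ + ∑ i ∈ univ.erase a₀, f i :=
  (Finset.add_sum_erase univ f (mem_univ a₀)).symm

theorem exists_simplex (a₀ : κ) (θ : κ → ℝ) (hθ : θ a₀ = 1) (h : ℚ) (hh : 0 < h) :
    ∃ (t : κ → κ → ℚ) (z : κ → ℝ), (∀ i, 0 ≤ z i) ∧
      (∀ b, ∑ i, z i * (t i b : ℝ) = θ b) ∧
      (∀ i b, |(t i b : ℝ) - θ b| ≤ h) ∧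
      (∀ c : κ → ℚ, (∀ b, ∑ i, c i * t i b = 0) → c = 0) := by
  have hhR : (0 : ℝ) < h := by exact_mod_cast hh
  set M : ℝ := (Fintype.card κ : ℝ) with hM
  have hMpos : 0 < M := by
    rw [hM]
    exact_mod_cast Fintype.card_pos_iff.2 ⟨a₀⟩
  have hl : ∀ b, ∃ l : ℚ, θ b - h / M < l ∧ (l : ℝ) < θ b := fun b =>
    exists_rat_btwn (by linarith [div_pos hhR hMpos])
  choose l hl1 hl2 using hl
  let t : κ → κ → ℚ := fun i b =>
    (if b = a₀ then 1 else l b) + (if i ≠ a₀ ∧ b = i then h else 0)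
  let z : κ → ℝ := fun i =>
    if i = a₀ then 1 - ∑ b ∈ univ.erase a₀, (θ b - l b) / h else (θ i - l i) / h
  have hz_ne : ∀ i, i ≠ a₀ → z i = (θ i - l i) / h := fun i hi => by simp [z, hi]
  have hz_a₀ : z a₀ = 1 - ∑ b ∈ univ.erase a₀, (θ b - l b) / h := by simp [z]
  have hsum_z : ∑ i, z i = 1 := by
    rw [sum_eq_add_erase a₀, hz_a₀]
    have : ∑ i ∈ univ.erase a₀, z i = ∑ b ∈ univ.erase a₀, (θ b - l b) / h :=
      Finset.sum_congr rfl fun i hi => hz_ne i (Finset.ne_of_mem_erase hi)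
    rw [this]
    ring
  have hterm : ∀ b, (θ b - l b) / h < 1 / M := by
    intro b
    rw [div_lt_div_iff₀ hhR hMpos]
    have := hl1 b
    have h2 : h / M * M = h := div_mul_cancel₀ _ hMpos.ne'
    nlinarith
  have ht_a₀ : ∀ i, t i a₀ = 1 := by
    intro i
    show (if a₀ = a₀ then 1 else l a₀) + (if i ≠ a₀ ∧ a₀ = i then h else 0) = 1
    rw [if_pos rfl, if_neg (by rintro ⟨h1, h2⟩; exact h1 h2.symm), add_zero]
  have ht_ne : ∀ i b, b ≠ a₀ → t i b = l b + if i = b then h else 0 := by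
    intro i b hb
    show (if b = a₀ then 1 else l b) + (if i ≠ a₀ ∧ b = i then h else 0) =
      l b + if i = b then h else 0
    rw [if_neg hb]
    congr 1
    by_cases hib : i = b
    · rw [if_pos hib, if_pos ⟨hib ▸ hb, hib.symm⟩]
    · rw [if_neg hib, if_neg (fun h' => hib h'.2.symm)]
  have ht_neR : ∀ i b, b ≠ a₀ → (t i b : ℝ) = l b + if i = b then (h : ℝ) else 0 := by
    intro i b hb
    rw [ht_ne i b hb]
    push_cast
    congr 1
    split_ifs <;> simp
  refine ⟨t, z, ?_, ?_, ?_, ?_⟩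
  · intro i
    by_cases hi : i = a₀
    · rw [hi, hz_a₀, sub_nonneg]
      calc ∑ b ∈ univ.erase a₀, (θ b - l b) / h
          ≤ ∑ _b ∈ univ.erase a₀, 1 / M :=
            Finset.sum_le_sum fun b _ => (hterm b).le
        _ = ((univ.erase a₀).card : ℝ) * (1 / M) := by rw [Finset.sum_const, nsmul_eq_mul]
        _ ≤ M * (1 / M) := by
            apply mul_le_mul_of_nonneg_right _ (by positivity)
            rw [hM]
            exact_mod_cast Finset.card_le_univ _
        _ = 1 := by field_simp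
    · rw [hz_ne i hi]
      exact div_nonneg (by linarith [hl2 i]) hhR.le
  · intro b
    by_cases hb : b = a₀
    · rw [hb]
      simp only [ht_a₀, Rat.cast_one, mul_one, hsum_z, hθ]
    · simp only [ht_neR _ b hb, mul_add, Finset.sum_add_distrib, ← Finset.sum_mul, hsum_z, one_mul,
        mul_ite, mul_zero, Finset.sum_ite_eq', Finset.mem_univ, if_true]
      rw [hz_ne b hb]
      field_simp
      ring
  · intro i b
    have h1 := hl1 b
    have h2 := hl2 b
    have hdiv : (h : ℝ) / M ≤ h := div_le_self hhR.le (by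
      rw [hM]
      exact_mod_cast Fintype.card_pos_iff.2 ⟨a₀⟩)
    by_cases hb : b = a₀
    · rw [hb, ht_a₀, hθ, Rat.cast_one, sub_self, abs_zero]
      exact hhR.le
    · rw [ht_neR i b hb, abs_le]
      by_cases hib : i = b
      · rw [if_pos hib]
        constructor <;> linarith
      · rw [if_neg hib]
        constructor <;> linarith
  · intro c hc
    have hc0 : ∑ i, c i = 0 := by
      have := hc a₀
      simpa [ht_a₀] using this
    have hcb : ∀ b, b ≠ a₀ → c b = 0 := by
      intro b hb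
      have := hc b
      simp only [ht_ne _ b hb, mul_add, Finset.sum_add_distrib, ← Finset.sum_mul, hc0, zero_mul,
        mul_ite, mul_zero, Finset.sum_ite_eq', Finset.mem_univ, if_true, zero_add] at this
      rcases mul_eq_zero.1 this with h1 | h1
      · exact h1
      · exact absurd h1 hh.ne'
    funext b
    by_cases hb : b = a₀
    · rw [sum_eq_add_erase_rat a₀] at hc0
      have : ∑ i ∈ univ.erase a₀, c i = 0 :=
        Finset.sum_eq_zero fun i hi => hcb i (Finset.ne_of_mem_erase hi)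
      rw [this, add_zero] at hc0
      rw [hb]
      exact hc0
    · exact hcb b hb

end Simplex

section Core

/-- Core lemma, with an arbitrary finite index type for the generators. -/
theorem exists_rational_cone_aux {ι : Type} [Fintype ι] (p : ι → ℝ) (hp : ∀ j, 0 ≤ p j)
    (hp0 : p ≠ 0) :
    ∃ (κ : Type) (_ : Fintype κ) (_ : Nonempty κ) (w : κ → ι → ℤ) (z : κ → ℝ),
      (∀ i j, 0 ≤ w i j) ∧ (∀ i, 0 ≤ z i) ∧
      (∀ j, p j = ∑ i, z i * (w i j : ℝ)) ∧
      (∀ c : κ → ℤ, (∀ j, ∑ i, c i * w i j = 0) → c = 0) ∧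
      (∀ ℓ : ι → ℤ, ∑ j, (ℓ j : ℝ) * p j = 0 → ∀ i, ∑ j, ℓ j * w i j = 0) := by
  classical
  obtain ⟨κ, a, ha, hspan, hli⟩ := exists_linearIndependent' ℚ p
  have : Finite κ := Finite.of_injective a ha
  letI : Fintype κ := Fintype.ofFinite κ
  set θ : κ → ℝ := p ∘ a with hθdef
  have hθpos : ∀ b, 0 < θ b := fun b => lt_of_le_of_ne (hp _) (Ne.symm (hli.ne_zero b))
  have hq : ∀ j, ∃ q : κ → ℚ, ∑ b, q b • θ b = p j := by
    intro j
    have : p j ∈ Submodule.span ℚ (Set.range θ) := by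
      rw [hspan]
      exact Submodule.subset_span ⟨j, rfl⟩
    exact (Submodule.mem_span_range_iff_exists_fun ℚ).1 this
  choose q hq using hq
  have hq' : ∀ j, ∑ b, (q j b : ℝ) * θ b = p j := by
    intro j
    rw [← hq j]
    simp [Rat.smul_def]
  have hind : ∀ c : κ → ℚ, ∑ b, (c b : ℝ) * θ b = 0 → c = 0 := by
    intro c hc
    funext b
    refine Fintype.linearIndependent_iff.1 hli c ?_ b
    rw [← hc]
    simp [Rat.smul_def]
  -- `κ` is nonempty
  have hne : Nonempty κ := by
    by_contra hemp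
    rw [not_nonempty_iff] at hemp
    apply hp0
    funext j
    rw [← hq' j]
    simp
  obtain ⟨a₀⟩ := hne
  -- zero coordinates of `p` have zero rational coordinates
  have hq0 : ∀ j, p j = 0 → q j = 0 := by
    intro j hj
    apply hind
    rw [hq' j, hj]
  set s : ℝ := θ a₀ with hs
  have hspos : 0 < s := hθpos a₀
  set θ' : κ → ℝ := fun b => θ b / s with hθ'
  have hθ'a₀ : θ' a₀ = 1 := by simp [hθ', hs, (hθpos a₀).ne']
  have hq'' : ∀ j, ∑ b, (q j b : ℝ) * θ' b = p j / s := by
    intro j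
    rw [← hq' j, Finset.sum_div]
    refine Finset.sum_congr rfl fun b _ => ?_
    simp [hθ', mul_div_assoc]
  -- the bound for `h`
  set C : ι → ℝ := fun j => ∑ b, |(q j b : ℝ)| with hC
  have hCnn : ∀ j, 0 ≤ C j := fun j => Finset.sum_nonneg fun b _ => abs_nonneg _
  obtain ⟨h, hh0, hh⟩ := exists_pos_rat_lt
    (fun j => if p j = 0 then 1 else (p j / s) / (C j + 1)) (by
      intro j
      split_ifs with hj
      · exact one_pos
      · have : 0 < p j := lt_of_le_of_ne (hp j) (Ne.symm hj)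
        have := hCnn j
        positivity)
  obtain ⟨t, z, hz, hzt, htθ, htind⟩ := exists_simplex a₀ θ' hθ'a₀ h hh0
  -- rational generators
  set w' : κ → ι → ℚ := fun i j => ∑ b, q j b * t i b with hw'
  have hw'R : ∀ i j, (w' i j : ℝ) = ∑ b, (q j b : ℝ) * (t i b : ℝ) := by
    intro i j
    simp [hw']
  have hw'nn : ∀ i j, 0 ≤ w' i j := by
    intro i j
    by_cases hj : p j = 0
    · simp [hw', hq0 j hj]
    · have hpj : 0 < p j := lt_of_le_of_ne (hp j) (Ne.symm hj)
      have hbound := hh j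
      rw [if_neg hj, lt_div_iff₀ (by linarith [hCnn j])] at hbound
      have hdiff : |(w' i j : ℝ) - p j / s| ≤ h * C j := by
        rw [hw'R, ← hq'', ← Finset.sum_sub_distrib]
        calc |∑ b, ((q j b : ℝ) * (t i b : ℝ) - (q j b : ℝ) * θ' b)|
            ≤ ∑ b, |(q j b : ℝ) * (t i b : ℝ) - (q j b : ℝ) * θ' b| := Finset.abs_sum_le_sum_abs _ _
          _ = ∑ b, |(q j b : ℝ)| * |(t i b : ℝ) - θ' b| := by
              refine Finset.sum_congr rfl fun b _ => ?_
              rw [← mul_sub, abs_mul]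
          _ ≤ ∑ b, |(q j b : ℝ)| * h := by
              refine Finset.sum_le_sum fun b _ => ?_
              exact mul_le_mul_of_nonneg_left (htθ i b) (abs_nonneg _)
          _ = h * C j := by rw [← Finset.sum_mul, mul_comm]
      have hhR : (0 : ℝ) < h := by exact_mod_cast hh0
      have : (0 : ℝ) ≤ w' i j := by
        have h1 := (abs_le.1 hdiff).1
        nlinarith [hCnn j]
      exact_mod_cast this
  have hw'sum : ∀ j, p j / s = ∑ i, z i * (w' i j : ℝ) := by
    intro j
    simp only [hw'R, Finset.mul_sum]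
    rw [Finset.sum_comm, ← hq'']
    refine Finset.sum_congr rfl fun b _ => ?_
    rw [← hzt b, Finset.mul_sum]
    refine Finset.sum_congr rfl fun i _ => ?_
    ring
  have hw'ind : ∀ c : κ → ℚ, (∀ j, ∑ i, c i * w' i j = 0) → c = 0 := by
    intro c hc
    apply htind
    intro b
    -- use the row `j = a b`, where `q (a b) = single b`
    have hqa : ∀ b', q (a b) b' = if b' = b then 1 else 0 := by
      have h1 : (fun b' => q (a b) b' - if b' = b then 1 else 0) = 0 := by
        apply hind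
        simp only [Rat.cast_sub, sub_mul, Finset.sum_sub_distrib, hq']
        simp only [apply_ite (Rat.cast : ℚ → ℝ), Rat.cast_one, Rat.cast_zero, ite_mul, one_mul,
          zero_mul, Finset.sum_ite_eq', Finset.mem_univ, if_true, hθdef, Function.comp_apply,
          sub_self]
      intro b'
      have := congrFun h1 b'
      simp only [Pi.zero_apply, sub_eq_zero] at this
      exact this
    have := hc (a b)
    simp only [hw', hqa, ite_mul, one_mul, zero_mul, Finset.sum_ite_eq', Finset.mem_univ,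
      if_true] at this
    exact this
  have hw'ell : ∀ ℓ : ι → ℤ, ∑ j, (ℓ j : ℝ) * p j = 0 → ∀ i, ∑ j, (ℓ j : ℚ) * w' i j = 0 := by
    intro ℓ hℓ i
    have h1 : (fun b => ∑ j, (ℓ j : ℚ) * q j b) = 0 := by
      apply hind
      rw [← hℓ]
      push_cast
      simp only [Finset.sum_mul]
      rw [Finset.sum_comm]
      refine Finset.sum_congr rfl fun j _ => ?_
      rw [← hq' j, Finset.mul_sum]
      refine Finset.sum_congr rfl fun b _ => ?_
      ring
    simp only [hw', Finset.mul_sum]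
    rw [Finset.sum_comm]
    refine Finset.sum_eq_zero fun b _ => ?_
    have := congrFun h1 b
    simp only [Pi.zero_apply] at this
    calc ∑ j, (ℓ j : ℚ) * (q j b * t i b) = (∑ j, (ℓ j : ℚ) * q j b) * t i b := by
          rw [Finset.sum_mul]
          refine Finset.sum_congr rfl fun j _ => ?_
          ring
      _ = 0 := by rw [this, zero_mul]
  -- clear denominators
  obtain ⟨D, hD, hDint⟩ := exists_common_den (fun x : κ × ι => w' x.1 x.2)
  choose n hn using hDint
  have hDR : (0 : ℝ) < D := by exact_mod_cast hD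
  have hDQ : (0 : ℚ) < D := by exact_mod_cast hD
  refine ⟨κ, inferInstance, ⟨a₀⟩, fun i j => n (i, j), fun i => s * z i / D, ?_, ?_, ?_, ?_, ?_⟩
  · intro i j
    have : (0 : ℚ) ≤ n (i, j) := by
      rw [hn (i, j)]
      exact mul_nonneg hDQ.le (hw'nn i j)
    exact_mod_cast this
  · intro i
    exact div_nonneg (mul_nonneg hspos.le (hz i)) hDR.le
  · intro j
    have hnR : ∀ i, ((n (i, j) : ℤ) : ℝ) = D * (w' i j : ℝ) := by
      intro i
      have := hn (i, j)
      have h2 : ((n (i, j) : ℚ) : ℝ) = ((D : ℚ) * w' i j : ℚ) := by rw [this]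
      push_cast at h2
      exact_mod_cast h2
    simp only [hnR]
    have := hw'sum j
    rw [div_eq_iff hspos.ne'] at this
    rw [this, Finset.sum_mul]
    refine Finset.sum_congr rfl fun i _ => ?_
    field_simp
  · intro c hc
    have h1 : (fun i => (c i : ℚ)) = 0 := by
      apply hw'ind
      intro j
      have := hc j
      have h2 : (∑ i, (c i : ℚ) * (n (i, j) : ℚ)) = 0 := by exact_mod_cast this
      simp only [hn] at h2
      have h3 : (D : ℚ) * ∑ i, (c i : ℚ) * w' i j = 0 := by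
        rw [← h2, Finset.mul_sum]
        refine Finset.sum_congr rfl fun i _ => ?_
        ring
      rcases mul_eq_zero.1 h3 with h4 | h4
      · exact absurd h4 hDQ.ne'
      · exact h4
    funext i
    have := congrFun h1 i
    simpa using this
  · intro ℓ hℓ i
    have h1 := hw'ell ℓ hℓ i
    have h2 : (∑ j, (ℓ j : ℚ) * (n (i, j) : ℚ)) = 0 := by
      simp only [hn]
      calc ∑ j, (ℓ j : ℚ) * ((D : ℚ) * w' i j) = (D : ℚ) * ∑ j, (ℓ j : ℚ) * w' i j := by
            rw [Finset.mul_sum]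
            refine Finset.sum_congr rfl fun j _ => ?_
            ring
        _ = 0 := by rw [h1, mul_zero]
    exact_mod_cast h2

/-- Core lemma with generators indexed by `Fin m`, `m > 0`. -/
theorem exists_rational_cone {ι : Type} [Fintype ι] (p : ι → ℝ) (hp : ∀ j, 0 ≤ p j)
    (hp0 : p ≠ 0) :
    ∃ (m : ℕ) (_ : 0 < m) (w : Fin m → ι → ℤ) (z : Fin m → ℝ),
      (∀ i j, 0 ≤ w i j) ∧ (∀ i, 0 ≤ z i) ∧
      (∀ j, p j = ∑ i, z i * (w i j : ℝ)) ∧
      (∀ c : Fin m → ℤ, (∀ j, ∑ i, c i * w i j = 0) → c = 0) ∧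
      (∀ ℓ : ι → ℤ, ∑ j, (ℓ j : ℝ) * p j = 0 → ∀ i, ∑ j, ℓ j * w i j = 0) := by
  obtain ⟨κ, _, hne, w, z, h1, h2, h3, h4, h5⟩ := exists_rational_cone_aux p hp hp0
  let e : κ ≃ Fin (Fintype.card κ) := Fintype.equivFin κ
  refine ⟨Fintype.card κ, Fintype.card_pos_iff.2 hne, fun i => w (e.symm i), fun i => z (e.symm i),
    fun i j => h1 _ j, fun i => h2 _, fun j => ?_, fun c hc => ?_, fun ℓ hℓ i => h5 ℓ hℓ _⟩
  · rw [h3 j]
    exact (Equiv.sum_comp e.symm (fun i => z i * (w i j : ℝ))).symm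
  · have h6 : (fun i => c (e i)) = 0 := by
      apply h4
      intro j
      rw [← hc j]
      rw [← Equiv.sum_comp e.symm (fun i => c (e i) * w i j)]
      simp
    funext i
    have := congrFun h6 (e.symm i)
    simpa using this

/-- Core lemma with generators indexed by `Fin m`, `m : ℕ+`. -/
theorem exists_rational_cone_pnat {ι : Type} [Fintype ι] (p : ι → ℝ) (hp : ∀ j, 0 ≤ p j)
    (hp0 : p ≠ 0) :
    ∃ (m : ℕ+) (w : Fin m → ι → ℤ) (z : Fin m → ℝ),
      (∀ i j, 0 ≤ w i j) ∧ (∀ i, 0 ≤ z i) ∧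
      (∀ j, p j = ∑ i, z i * (w i j : ℝ)) ∧
      (∀ c : Fin m → ℤ, (∀ j, ∑ i, c i * w i j = 0) → c = 0) ∧
      (∀ ℓ : ι → ℤ, ∑ j, (ℓ j : ℝ) * p j = 0 → ∀ i, ∑ j, ℓ j * w i j = 0) := by
  obtain ⟨m, hm, w, z, h⟩ := exists_rational_cone p hp hp0
  exact ⟨⟨m, hm⟩, w, z, h⟩

end Core

end Groth.Agent.Lib.RatCone
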