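import Mathlib
import Groth.Prelude.Def_W4c6instabfans3Fan
import Groth.Agent.Lib.RatCone

/-!
# Formal fans: the common sub-cone relation

Two points of `P F` coincide iff they lie in a common sub-cone (`Instab.Fan.P.mk_eq_iff`-type lemma).
-/

namespace Groth.Agent.Lib.FanCone

open Instab Instab.ICone CategoryTheory Opposite

universe u

section RealMap

variable {k n m : ICone}

lemma toLin_apply_eq_sum (φ : k ⟶ n) (u : Fin k.dim → ℤ) (j : Fin n.dim) :
    φ.toLin u j = ∑ i, φ.toLin (Pi.single i 1) j * u i := by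
  have h1 : u = ∑ i, u i • (Pi.single i 1 : Fin k.dim → ℤ) := by
    ext l
    simp [Finset.sum_apply, Pi.single_apply]
  conv_lhs => rw [h1]
  rw [map_sum, Finset.sum_apply]
  refine Finset.sum_congr rfl fun i _ => ?_
  rw [map_smul]
  simp [mul_comm]

lemma realMap_apply (φ : k ⟶ n) (v : Fin k.dim → ℝ) (j : Fin n.dim) :
    φ.realMap v j = ∑ i, (φ.toLin (Pi.single i 1) j : ℝ) * v i := rfl

lemma realMap_smul (φ : k ⟶ n) (c : ℝ) (v : Fin k.dim → ℝ) :
    φ.realMap (c • v) = c • φ.realMap v := by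
  ext j
  simp only [realMap_apply, Pi.smul_apply, smul_eq_mul, Finset.mul_sum]
  refine Finset.sum_congr rfl fun i _ => ?_
  ring

lemma realMap_comp (α : m ⟶ k) (φ : k ⟶ n) (z : Fin m.dim → ℝ) :
    (α ≫ φ).realMap z = φ.realMap (α.realMap z) := by
  ext j
  simp only [realMap_apply]
  have h1 : ∀ i, ((α ≫ φ).toLin (Pi.single i 1) j : ℝ) =
      ∑ l, (φ.toLin (Pi.single l 1) j : ℝ) * (α.toLin (Pi.single i 1) l : ℝ) := by
    intro i
    have : (α ≫ φ).toLin (Pi.single i 1) = φ.toLin (α.toLin (Pi.single i 1)) := rfl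
    rw [this, toLin_apply_eq_sum φ]
    push_cast
    rfl
  simp only [h1, Finset.sum_mul, Finset.mul_sum]
  rw [Finset.sum_comm]
  refine Finset.sum_congr rfl fun l _ => Finset.sum_congr rfl fun i _ => ?_
  ring

lemma realMap_id (v : Fin k.dim → ℝ) : (𝟙 k : k ⟶ k).realMap v = v := by
  ext j
  simp only [realMap_apply]
  have : ∀ i, ((𝟙 k : k ⟶ k).toLin (Pi.single i 1) j : ℝ) = if j = i then 1 else 0 := by
    intro i
    have : (𝟙 k : k ⟶ k).toLin (Pi.single i 1) = Pi.single i 1 := rfl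
    rw [this, Pi.single_apply]
    split_ifs <;> simp
  simp [this]

end RealMap

section HomOfVectors

variable {k : ICone} {m : ℕ+}

/-- the cone morphism with prescribed columns -/
def homOfVectors (u : Fin m → (Fin k.dim → ℤ)) (hnn : ∀ i j, 0 ≤ u i j)
    (hind : ∀ c : Fin m → ℤ, (∀ j, ∑ i, c i * u i j = 0) → c = 0) : (⟨m⟩ : ICone) ⟶ k where
  toLin := Fintype.linearCombination ℤ u
  injective := by
    rw [injective_iff_map_eq_zero]
    intro c hc
    apply hind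
    intro j
    have := congrFun hc j
    simpa [Fintype.linearCombination_apply, Finset.sum_apply] using this
  nonneg := by
    intro v hv j
    simp only [Fintype.linearCombination_apply, Finset.sum_apply, Pi.smul_apply, smul_eq_mul]
    exact Finset.sum_nonneg fun i _ => mul_nonneg (hv i) (hnn i j)

lemma homOfVectors_toLin_single (u : Fin m → (Fin k.dim → ℤ)) (hnn : ∀ i j, 0 ≤ u i j)
    (hind : ∀ c : Fin m → ℤ, (∀ j, ∑ i, c i * u i j = 0) → c = 0) (i : Fin m) :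
    (homOfVectors u hnn hind).toLin (Pi.single i 1) = u i := by
  show Fintype.linearCombination ℤ u (Pi.single i 1) = u i
  simp [Fintype.linearCombination_apply_single]

lemma homOfVectors_realMap (u : Fin m → (Fin k.dim → ℤ)) (hnn : ∀ i j, 0 ≤ u i j)
    (hind : ∀ c : Fin m → ℤ, (∀ j, ∑ i, c i * u i j = 0) → c = 0) (z : Fin m → ℝ)
    (j : Fin k.dim) :
    (homOfVectors u hnn hind).realMap z j = ∑ i, z i * (u i j : ℝ) := by
  rw [realMap_apply]
  refine Finset.sum_congr rfl fun i _ => ?_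
  rw [homOfVectors_toLin_single]
  ring

end HomOfVectors

section Refinement

open Groth.Agent.Lib.RatCone

theorem exists_common_refinement {k k' n : ICone} (φ : k ⟶ n) (ψ : k' ⟶ n)
    (y : Fan.Orth k) (y' : Fan.Orth k') (c c' : ℝ) (hc : 0 < c) (hc' : 0 < c')
    (h : c • φ.realMap y.1 = c' • ψ.realMap y'.1) :
    ∃ (m : ICone) (α : m ⟶ k) (β : m ⟶ k') (z : Fan.Orth m) (l l' : ℝ),
      α ≫ φ = β ≫ ψ ∧ 0 < l ∧ 0 < l' ∧ y.1 = l • α.realMap z.1 ∧ y'.1 = l' • β.realMap z.1 := by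
  classical
  set p : (Fin k.dim ⊕ Fin k'.dim) → ℝ := Sum.elim (c • y.1) (c' • y'.1) with hp
  have hpnn : ∀ j, 0 ≤ p j := by
    rintro (j | j)
    · exact mul_nonneg hc.le (y.2.1 j)
    · exact mul_nonneg hc'.le (y'.2.1 j)
  have hp0 : p ≠ 0 := by
    intro h0
    apply y.2.2
    funext j
    have := congrFun h0 (Sum.inl j)
    simp only [hp, Sum.elim_inl, Pi.smul_apply, smul_eq_mul, Pi.zero_apply] at this
    rcases mul_eq_zero.1 this with h1 | h1
    · exact absurd h1 hc.ne'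
    · exact h1
  obtain ⟨mm, w, z, h1, h2, h3, h4, h5⟩ := exists_rational_cone_pnat p hpnn hp0
  set u : Fin mm → (Fin k.dim → ℤ) := fun i j => w i (Sum.inl j) with hu
  set u' : Fin mm → (Fin k'.dim → ℤ) := fun i j => w i (Sum.inr j) with hu'
  -- compatibility
  have hcomm : ∀ i, φ.toLin (u i) = ψ.toLin (u' i) := by
    intro i
    funext r
    have hℓ := h5 (Sum.elim (fun j => φ.toLin (Pi.single j 1) r)
      (fun j => - ψ.toLin (Pi.single j 1) r)) ?_ i
    · rw [Fintype.sum_sum_type] at hℓ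
      simp only [Sum.elim_inl, Sum.elim_inr, neg_mul, Finset.sum_neg_distrib] at hℓ
      rw [toLin_apply_eq_sum φ, toLin_apply_eq_sum ψ]
      linarith
    · rw [Fintype.sum_sum_type]
      simp only [Sum.elim_inl, Sum.elim_inr, hp, Pi.smul_apply, smul_eq_mul, Int.cast_neg, neg_mul,
        Finset.sum_neg_distrib]
      have := congrFun h r
      simp only [Pi.smul_apply, smul_eq_mul, realMap_apply, Finset.mul_sum] at this
      have e1 : ∀ x, (φ.toLin (Pi.single x 1) r : ℝ) * (c * y.1 x) =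
          c * ((φ.toLin (Pi.single x 1) r : ℝ) * y.1 x) := fun x => by ring
      have e2 : ∀ x, (ψ.toLin (Pi.single x 1) r : ℝ) * (c' * y'.1 x) =
          c' * ((ψ.toLin (Pi.single x 1) r : ℝ) * y'.1 x) := fun x => by ring
      simp only [e1, e2]
      linarith
  have hlin : ∀ (c : Fin mm → ℤ), (∀ j, ∑ i, c i * u i j = 0) ∨ (∀ j, ∑ i, c i * u' i j = 0) →
      c = 0 := by
    intro c hcs
    apply h4
    have key : (∑ i, c i • u i = 0) ∧ (∑ i, c i • u' i = 0) := by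
      have e : φ.toLin (∑ i, c i • u i) = ψ.toLin (∑ i, c i • u' i) := by
        simp only [map_sum, map_smul, hcomm]
      rcases hcs with hcs | hcs
      · have h0 : ∑ i, c i • u i = 0 := by
          funext j
          simpa [Finset.sum_apply] using hcs j
        refine ⟨h0, ?_⟩
        rw [h0, map_zero] at e
        exact ψ.injective (by rw [← e, map_zero])
      · have h0 : ∑ i, c i • u' i = 0 := by
          funext j
          simpa [Finset.sum_apply] using hcs j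
        refine ⟨?_, h0⟩
        rw [h0, map_zero] at e
        exact φ.injective (by rw [e, map_zero])
    rintro (j | j)
    · have := congrFun key.1 j
      simpa [Finset.sum_apply, hu] using this
    · have := congrFun key.2 j
      simpa [Finset.sum_apply, hu'] using this
  let α : (⟨mm⟩ : ICone) ⟶ k := homOfVectors (m := mm) u (fun i j => h1 i _)
    (fun c hc => hlin c (Or.inl hc))
  let β : (⟨mm⟩ : ICone) ⟶ k' := homOfVectors (m := mm) u' (fun i j => h1 i _)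
    (fun c hc => hlin c (Or.inr hc))
  have hz0 : z ≠ 0 := by
    intro hz
    apply hp0
    funext j
    rw [h3 j]
    simp [hz]
  refine ⟨⟨mm⟩, α, β, ⟨z, h2, hz0⟩, 1 / c, 1 / c', ?_, by positivity, by positivity, ?_, ?_⟩
  · apply ICone.Hom.ext
    apply LinearMap.ext
    intro v
    show φ.toLin (Fintype.linearCombination ℤ u v) = ψ.toLin (Fintype.linearCombination ℤ u' v)
    simp only [Fintype.linearCombination_apply, map_sum, map_smul, hcomm]
  · funext j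
    simp only [Pi.smul_apply, smul_eq_mul]
    rw [show α.realMap z j = ∑ i, z i * (u i j : ℝ) from homOfVectors_realMap (m := mm) u _ _ z j]
    have := h3 (Sum.inl j)
    simp only [hp, Sum.elim_inl, Pi.smul_apply, smul_eq_mul] at this
    rw [← this]
    field_simp
  · funext j
    simp only [Pi.smul_apply, smul_eq_mul]
    rw [show β.realMap z j = ∑ i, z i * (u' i j : ℝ) from homOfVectors_realMap (m := mm) u' _ _ z j]
    have := h3 (Sum.inr j)
    simp only [hp, Sum.elim_inr, Pi.smul_apply, smul_eq_mul] at this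
    rw [← this]
    field_simp

end Refinement

section Relation

variable (F : Fan.{u})

/-- the common sub-cone relation on points of the disjoint union -/
def CommonSub (a b : Fan.Pt F) : Prop :=
  ∃ (k : ICone) (φ₁ : k ⟶ a.1.1) (φ₂ : k ⟶ b.1.1) (y : Fan.Orth k) (c₁ c₂ : ℝ),
    F.map φ₁.op a.1.2 = F.map φ₂.op b.1.2 ∧ 0 < c₁ ∧ 0 < c₂ ∧
      a.2.1 = c₁ • φ₁.realMap y.1 ∧ b.2.1 = c₂ • φ₂.realMap y.1

variable {F}

lemma CommonSub.refl (a : Fan.Pt F) : CommonSub F a a :=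
  ⟨a.1.1, 𝟙 _, 𝟙 _, a.2, 1, 1, rfl, one_pos, one_pos, by rw [realMap_id, one_smul],
    by rw [realMap_id, one_smul]⟩

lemma CommonSub.symm {a b : Fan.Pt F} (h : CommonSub F a b) : CommonSub F b a := by
  obtain ⟨k, φ₁, φ₂, y, c₁, c₂, h1, h2, h3, h4, h5⟩ := h
  exact ⟨k, φ₂, φ₁, y, c₂, c₁, h1.symm, h3, h2, h5, h4⟩

lemma CommonSub.of_rel {a b : Fan.Pt F} (h : Fan.Rel F a b) : CommonSub F a b := by
  obtain ⟨φ, ξ, v, w, c, hc, hw⟩ := h
  refine ⟨_, 𝟙 _, φ, v, 1, c, ?_, one_pos, hc, ?_, hw⟩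
  · simp
  · simp only [one_smul]
    rw [realMap_id]

lemma CommonSub.trans {a b c : Fan.Pt F} (hab : CommonSub F a b) (hbc : CommonSub F b c) :
    CommonSub F a c := by
  obtain ⟨k, φ₁, φ₂, y, c₁, c₂, h1, h2, h3, h4, h5⟩ := hab
  obtain ⟨k', ψ₂, ψ₃, y', d₂, d₃, g1, g2, g3, g4, g5⟩ := hbc
  obtain ⟨m, α, β, z, l, l', hαβ, hl, hl', hy, hy'⟩ :=
    exists_common_refinement φ₂ ψ₂ y y' c₂ d₂ h3 g2 (by rw [← h5, ← g4])
  refine ⟨m, α ≫ φ₁, β ≫ ψ₃, z, c₁ * l, d₃ * l', ?_, by positivity, by positivity, ?_, ?_⟩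
  · calc F.map (α ≫ φ₁).op a.1.2 = F.map α.op (F.map φ₁.op a.1.2) := by
          rw [op_comp, FunctorToTypes.map_comp_apply]
      _ = F.map α.op (F.map φ₂.op b.1.2) := by rw [h1]
      _ = F.map (α ≫ φ₂).op b.1.2 := by rw [op_comp, FunctorToTypes.map_comp_apply]
      _ = F.map (β ≫ ψ₂).op b.1.2 := by rw [hαβ]
      _ = F.map β.op (F.map ψ₂.op b.1.2) := by rw [op_comp, FunctorToTypes.map_comp_apply]
      _ = F.map β.op (F.map ψ₃.op c.1.2) := by rw [g1]
      _ = F.map (β ≫ ψ₃).op c.1.2 := by rw [op_comp, FunctorToTypes.map_comp_apply]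
  · rw [h4, hy, realMap_smul, smul_smul, realMap_comp]
  · rw [g5, hy', realMap_smul, smul_smul, realMap_comp]

theorem commonSub_of_eqvGen {a b : Fan.Pt F} (h : Relation.EqvGen (Fan.Rel F) a b) :
    CommonSub F a b := by
  induction h with
  | rel _ _ h => exact CommonSub.of_rel h
  | refl a => exact CommonSub.refl a
  | symm _ _ _ ih => exact ih.symm
  | trans _ _ _ _ _ ih1 ih2 => exact ih1.trans ih2

theorem commonSub_of_quot_eq {a b : Fan.Pt F}
    (h : Quot.mk (Fan.Rel F) a = Quot.mk (Fan.Rel F) b) : CommonSub F a b :=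
  commonSub_of_eqvGen (Quot.eqvGen_exact h)

/-- converse: a common sub-cone gives equality in `P F` -/
theorem quot_eq_of_commonSub {a b : Fan.Pt F} (h : CommonSub F a b) :
    Quot.mk (Fan.Rel F) a = Quot.mk (Fan.Rel F) b := by
  obtain ⟨k, φ₁, φ₂, y, c₁, c₂, h1, h2, h3, h4, h5⟩ := h
  obtain ⟨⟨n₁, σ₁⟩, v₁⟩ := a
  obtain ⟨⟨n₂, σ₂⟩, v₂⟩ := b
  have e1 : Quot.mk (Fan.Rel F) (⟨⟨k, F.map φ₁.op σ₁⟩, y⟩ : Fan.Pt F) = Quot.mk _ ⟨⟨n₁, σ₁⟩, v₁⟩ :=
    Quot.sound (Fan.Rel.glue φ₁ σ₁ y v₁ c₁ h2 h4)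
  have e2 : Quot.mk (Fan.Rel F) (⟨⟨k, F.map φ₂.op σ₂⟩, y⟩ : Fan.Pt F) = Quot.mk _ ⟨⟨n₂, σ₂⟩, v₂⟩ :=
    Quot.sound (Fan.Rel.glue φ₂ σ₂ y v₂ c₂ h3 h5)
  simp only at h1
  rw [← e1, ← e2, h1]

/-- the key lemma (S19361) -/
theorem exists_common_subcone {n₁ n₂ : ICone}
    (σ₁ : F.obj (op n₁)) (σ₂ : F.obj (op n₂)) (v₁ : Fan.Orth n₁) (v₂ : Fan.Orth n₂)
    (h : Fan.P.mk σ₁ v₁ = Fan.P.mk σ₂ v₂) :
    ∃ (k : ICone) (φ₁ : k ⟶ n₁) (φ₂ : k ⟶ n₂) (y : Fan.Orth k) (c₁ c₂ : ℝ),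
      F.map φ₁.op σ₁ = F.map φ₂.op σ₂ ∧ 0 < c₁ ∧ 0 < c₂ ∧
        v₁.1 = c₁ • φ₁.realMap y.1 ∧ v₂.1 = c₂ • φ₂.realMap y.1 :=
  commonSub_of_quot_eq h

theorem mk_eq_mk_iff {n₁ n₂ : ICone}
    (σ₁ : F.obj (op n₁)) (σ₂ : F.obj (op n₂)) (v₁ : Fan.Orth n₁) (v₂ : Fan.Orth n₂) :
    Fan.P.mk σ₁ v₁ = Fan.P.mk σ₂ v₂ ↔
    ∃ (k : ICone) (φ₁ : k ⟶ n₁) (φ₂ : k ⟶ n₂) (y : Fan.Orth k) (c₁ c₂ : ℝ),
      F.map φ₁.op σ₁ = F.map φ₂.op σ₂ ∧ 0 < c₁ ∧ 0 < c₂ ∧
        v₁.1 = c₁ • φ₁.realMap y.1 ∧ v₂.1 = c₂ • φ₂.realMap y.1 :=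
  ⟨exists_common_subcone σ₁ σ₂ v₁ v₂, fun h => quot_eq_of_commonSub (a := ⟨⟨n₁, σ₁⟩, v₁⟩)
    (b := ⟨⟨n₂, σ₂⟩, v₂⟩) h⟩

end Relation

end Groth.Agent.Lib.FanCone
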