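import Mathlib
import Groth.Prelude.Def_W4c6instabfans3Fan
import Groth.Agent.Lib.FanCone

/-!
# Formal fans: functoriality of `P`, pullbacks, images
-/

namespace Groth.Agent.Lib.FanCone2

open Instab Instab.ICone CategoryTheory Opposite Limits

universe u

variable {F F' G G' : Fan.{u}}

lemma P_map_mk (f : F ⟶ G) {n : ICone} (σ : F.obj (op n)) (v : Fan.Orth n) :
    Fan.P.map f (Fan.P.mk σ v) = Fan.P.mk (f.app _ σ) v := rfl

lemma P_exists_rep (x : Fan.P F) : ∃ (n : ICone) (σ : F.obj (op n)) (v : Fan.Orth n),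
    x = Fan.P.mk σ v := by
  obtain ⟨⟨⟨n, σ⟩, v⟩, rfl⟩ := Quot.exists_rep x
  exact ⟨n, σ, v, rfl⟩

lemma P_map_comp (f : F ⟶ G) (g : G ⟶ G') (x : Fan.P F) :
    Fan.P.map (f ≫ g) x = Fan.P.map g (Fan.P.map f x) := by
  obtain ⟨n, σ, v, rfl⟩ := P_exists_rep x
  rfl

lemma P_map_id (x : Fan.P F) : Fan.P.map (𝟙 F) x = x := by
  obtain ⟨n, σ, v, rfl⟩ := P_exists_rep x
  rfl

/-- The gluing relation: `(F(φ) ξ, y) ~ (ξ, c • φ y)`. -/
lemma mk_map_eq {k n : ICone} (φ : k ⟶ n) (ξ : F.obj (op n)) (y : Fan.Orth k) (w : Fan.Orth n)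
    (c : ℝ) (hc : 0 < c) (h : w.1 = c • φ.realMap y.1) :
    Fan.P.mk (F.map φ.op ξ) y = Fan.P.mk ξ w :=
  Quot.sound (Fan.Rel.glue φ ξ y w c hc h)

/-- Sections of a pullback of fans are compatible pairs of sections. -/
lemma exists_pullback_elt (f : F ⟶ G) (g : F' ⟶ G) {k : ICone}
    (a : F.obj (op k)) (b : F'.obj (op k)) (h : f.app _ a = g.app _ b) :
    ∃ z : (pullback f g).obj (op k),
      (pullback.fst f g).app _ z = a ∧ (pullback.snd f g).app _ z = b := by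
  have hc : uliftYonedaEquiv.{u}.symm a ≫ f = uliftYonedaEquiv.{u}.symm b ≫ g := by
    rw [uliftYonedaEquiv_symm_comp, uliftYonedaEquiv_symm_comp, h]
  refine ⟨uliftYonedaEquiv.{u} (pullback.lift _ _ hc), ?_, ?_⟩
  · rw [← uliftYonedaEquiv_comp, pullback.lift_fst, Equiv.apply_symm_apply]
  · rw [← uliftYonedaEquiv_comp, pullback.lift_snd, Equiv.apply_symm_apply]

/-- `P (F ×_G F') → P F ×_{P G} P F'` is surjective (= S19360). -/
theorem pullback_surjective (f : F ⟶ G) (g : F' ⟶ G)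
    (x : Fan.P F) (x' : Fan.P F') (h : Fan.P.map f x = Fan.P.map g x') :
    ∃ y : Fan.P (Limits.pullback f g),
      Fan.P.map (Limits.pullback.fst f g) y = x ∧ Fan.P.map (Limits.pullback.snd f g) y = x' := by
  obtain ⟨n₁, σ₁, v₁, rfl⟩ := P_exists_rep x
  obtain ⟨n₂, σ₂, v₂, rfl⟩ := P_exists_rep x'
  rw [P_map_mk, P_map_mk] at h
  obtain ⟨k, φ₁, φ₂, y, c₁, c₂, he, hc₁, hc₂, hv₁, hv₂⟩ :=
    (Groth.Agent.Lib.FanCone.mk_eq_mk_iff _ _ v₁ v₂).1 h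
  have e1 : f.app _ (F.map φ₁.op σ₁) = G.map φ₁.op (f.app _ σ₁) :=
    NatTrans.naturality_apply f φ₁.op σ₁
  have e2 : g.app _ (F'.map φ₂.op σ₂) = G.map φ₂.op (g.app _ σ₂) :=
    NatTrans.naturality_apply g φ₂.op σ₂
  obtain ⟨z, hz1, hz2⟩ := exists_pullback_elt f g (F.map φ₁.op σ₁) (F'.map φ₂.op σ₂)
    (by rw [e1, e2, he])
  refine ⟨Fan.P.mk z y, ?_, ?_⟩
  · rw [P_map_mk, hz1]
    exact mk_map_eq φ₁ σ₁ y v₁ c₁ hc₁ hv₁
  · rw [P_map_mk, hz2]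
    exact mk_map_eq φ₂ σ₂ y v₂ c₂ hc₂ hv₂

theorem range_P_map_eq_range_ι (f : F ⟶ G) :
    Set.range (Fan.P.map f) = Set.range (Fan.P.map (Subfunctor.range f).ι) := by
  apply Set.Subset.antisymm
  · rintro _ ⟨x, rfl⟩
    refine ⟨Fan.P.map (Subfunctor.toRange f) x, ?_⟩
    rw [← P_map_comp, Subfunctor.toRange_ι]
  · rintro _ ⟨x, rfl⟩
    obtain ⟨n, ⟨τ, σ, rfl⟩, v, rfl⟩ := P_exists_rep x
    exact ⟨Fan.P.mk σ v, rfl⟩

theorem range_P_map_snd (f : F ⟶ G) (g : G' ⟶ G) :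
    Set.range (Fan.P.map (Limits.pullback.snd f g)) =
      Fan.P.map g ⁻¹' Set.range (Fan.P.map f) := by
  apply Set.Subset.antisymm
  · rintro _ ⟨y, rfl⟩
    refine ⟨Fan.P.map (pullback.fst f g) y, ?_⟩
    rw [← P_map_comp, ← P_map_comp, pullback.condition]
  · rintro x' ⟨x, hx⟩
    obtain ⟨y, -, hy⟩ := pullback_surjective f g x x' hx
    exact ⟨y, hy⟩

end Groth.Agent.Lib.FanCone2
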