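import Mathlib
import Groth.Prelude.Def_W4c6instabfans3Fan
import Groth.Agent.Lib.FanCone
import Groth.Agent.Lib.FanCone2

/-!
# Formal fans: realizable subsets, representable fans, quasi-separatedness
-/

namespace Groth.Agent.Lib.FanCone3

open Instab Instab.ICone CategoryTheory Opposite Limits
open Groth.Agent.Lib.FanCone Groth.Agent.Lib.FanCone2

universe u

variable {F F' G G' : Fan.{u}}

section Realizable

lemma mem_range_ι_iff (S : Subfunctor F) (x : Fan.P F) :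
    x ∈ Set.range (Fan.P.map S.ι) ↔
      ∃ (n : ICone) (σ : F.obj (op n)) (v : Fan.Orth n), σ ∈ S.obj (op n) ∧ x = Fan.P.mk σ v := by
  constructor
  · rintro ⟨y, rfl⟩
    obtain ⟨n, ⟨σ, hσ⟩, v, rfl⟩ := P_exists_rep y
    exact ⟨n, σ, v, hσ, rfl⟩
  · rintro ⟨n, σ, v, hσ, rfl⟩
    exact ⟨Fan.P.mk (F := S.toFunctor) ⟨σ, hσ⟩ v, rfl⟩

theorem realizable_inter (U V : Set (Fan.P F)) (hU : Fan.IsRealizable U)
    (hV : Fan.IsRealizable V) : Fan.IsRealizable (U ∩ V) := by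
  obtain ⟨S, rfl⟩ := hU
  obtain ⟨T, rfl⟩ := hV
  refine ⟨S ⊓ T, ?_⟩
  ext x
  simp only [Set.mem_inter_iff, mem_range_ι_iff]
  constructor
  · rintro ⟨⟨n₁, σ₁, v₁, h₁, rfl⟩, ⟨n₂, σ₂, v₂, h₂, h⟩⟩
    obtain ⟨k, φ₁, φ₂, y, c₁, c₂, he, hc₁, hc₂, hv₁, hv₂⟩ :=
      (mk_eq_mk_iff σ₁ σ₂ v₁ v₂).1 h
    refine ⟨k, F.map φ₁.op σ₁, y, ⟨S.map φ₁.op h₁, ?_⟩, (mk_map_eq φ₁ σ₁ y v₁ c₁ hc₁ hv₁).symm⟩
    rw [he]
    exact T.map φ₂.op h₂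
  · rintro ⟨n, σ, v, ⟨h₁, h₂⟩, rfl⟩
    exact ⟨⟨n, σ, v, h₁, rfl⟩, ⟨n, σ, v, h₂, rfl⟩⟩

theorem realizable_iUnion {ι : Type*} (U : ι → Set (Fan.P F)) (hU : ∀ i, Fan.IsRealizable (U i)) :
    Fan.IsRealizable (Set.iUnion U) := by
  choose S hS using hU
  refine ⟨⨆ i, S i, ?_⟩
  ext x
  simp only [Set.mem_iUnion, hS, mem_range_ι_iff, Subfunctor.iSup_obj]
  constructor
  · rintro ⟨i, n, σ, v, h, rfl⟩
    exact ⟨n, σ, v, ⟨i, h⟩, rfl⟩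
  · rintro ⟨n, σ, v, ⟨i, h⟩, rfl⟩
    exact ⟨i, n, σ, v, h, rfl⟩

end Realizable

end Groth.Agent.Lib.FanCone3
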