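import Mathlib
import Groth.Prelude.Def_W4c6instabfans3Fan
import Groth.Agent.Lib.FanCone
import Groth.Agent.Lib.FanCone2

/-!
# Formal fans: the punctured orthant, representable fans, quasi-separatedness
-/

namespace Groth.Agent.Lib.FanCone4

open Instab Instab.ICone CategoryTheory Opposite Limits
open Groth.Agent.Lib.FanCone Groth.Agent.Lib.FanCone2

universe u

section Orth

variable {k n m : ICone}

lemma toLin_single_nonneg (φ : k ⟶ n) (i : Fin k.dim) (j : Fin n.dim) :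
    0 ≤ φ.toLin (Pi.single i 1) j := by
  classical
  apply φ.nonneg
  intro l
  rw [Pi.single_apply]
  split_ifs <;> simp

lemma realMap_nonneg (φ : k ⟶ n) (v : Fin k.dim → ℝ) (hv : ∀ i, 0 ≤ v i) (j : Fin n.dim) :
    0 ≤ φ.realMap v j := by
  rw [realMap_apply]
  exact Finset.sum_nonneg fun i _ =>
    mul_nonneg (by exact_mod_cast toLin_single_nonneg φ i j) (hv i)

lemma realMap_ne_zero (φ : k ⟶ n) (v : Fin k.dim → ℝ) (hv : ∀ i, 0 ≤ v i) (hv0 : v ≠ 0) :
    φ.realMap v ≠ 0 := by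
  classical
  obtain ⟨i, hi⟩ : ∃ i, v i ≠ 0 := by
    by_contra hcon
    push Not at hcon
    exact hv0 (funext hcon)
  have hpos : 0 < v i := lt_of_le_of_ne (hv i) (Ne.symm hi)
  have hne : φ.toLin (Pi.single i 1) ≠ 0 := by
    intro h0
    have : (Pi.single i 1 : Fin k.dim → ℤ) = 0 := φ.injective (by rw [h0, map_zero])
    have := congrFun this i
    simp at this
  obtain ⟨j, hj⟩ : ∃ j, φ.toLin (Pi.single i 1) j ≠ 0 := by
    by_contra hcon
    push Not at hcon
    exact hne (funext hcon)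
  have hjpos : (0 : ℝ) < (φ.toLin (Pi.single i 1) j : ℝ) := by
    exact_mod_cast lt_of_le_of_ne (toLin_single_nonneg φ i j) (Ne.symm hj)
  intro h0
  have h1 := congrFun h0 j
  rw [realMap_apply] at h1
  have h2 : (φ.toLin (Pi.single i 1) j : ℝ) * v i ≤
      ∑ i, (φ.toLin (Pi.single i 1) j : ℝ) * v i :=
    Finset.single_le_sum (f := fun i => (φ.toLin (Pi.single i 1) j : ℝ) * v i)
      (fun l _ => mul_nonneg (by exact_mod_cast toLin_single_nonneg φ l j) (hv l))
      (Finset.mem_univ i)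
  have h3 : 0 < (φ.toLin (Pi.single i 1) j : ℝ) * v i := mul_pos hjpos hpos
  rw [h1] at h2
  simp only [Pi.zero_apply] at h2
  linarith

lemma realMap_add (φ : k ⟶ n) (v w : Fin k.dim → ℝ) :
    φ.realMap (v + w) = φ.realMap v + φ.realMap w := by
  ext j
  simp only [realMap_apply, Pi.add_apply, mul_add, Finset.sum_add_distrib]

/-- `realMap` as a linear map -/
def realLin (φ : k ⟶ n) : (Fin k.dim → ℝ) →ₗ[ℝ] (Fin n.dim → ℝ) where
  toFun := φ.realMap
  map_add' := realMap_add φ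
  map_smul' c v := realMap_smul φ c v

@[simp] lemma realLin_apply (φ : k ⟶ n) (v : Fin k.dim → ℝ) : realLin φ v = φ.realMap v := rfl

lemma continuous_realMap (φ : k ⟶ n) : Continuous φ.realMap :=
  (realLin φ).continuous_of_finiteDimensional

/-- the real extension of a cone morphism is injective -/
theorem realMap_injective (φ : k ⟶ n) : Function.Injective φ.realMap := by
  classical
  have key : ∀ y : Fin k.dim → ℝ, φ.realMap y = 0 → y = 0 := by
    intro y hy
    by_contra hne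
    obtain ⟨i₀, hi₀⟩ : ∃ i, y i ≠ 0 := by
      by_contra hcon
      push Not at hcon
      exact hne (funext hcon)
    obtain ⟨lam, hlam⟩ : ∃ lam : Module.Dual ℚ ℝ, lam (y i₀) ≠ 0 := by
      by_contra hcon
      push Not at hcon
      exact hi₀ ((Module.forall_dual_apply_eq_zero_iff ℚ (y i₀)).1 hcon)
    set q : Fin k.dim → ℚ := fun i => lam (y i) with hq
    have hq0 : ∀ j, ∑ i, (φ.toLin (Pi.single i 1) j : ℚ) * q i = 0 := by
      intro j
      have h1 := congrFun hy j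
      rw [realMap_apply] at h1
      have h2 : lam (∑ i, (φ.toLin (Pi.single i 1) j : ℝ) * y i) = 0 := by
        rw [h1]; simp
      rw [map_sum] at h2
      rw [← h2]
      refine Finset.sum_congr rfl fun i _ => ?_
      have : ((φ.toLin (Pi.single i 1) j : ℝ)) * y i =
          ((φ.toLin (Pi.single i 1) j : ℚ)) • y i := by
        rw [Rat.smul_def]; push_cast; rfl
      rw [this, map_smul, smul_eq_mul]
    obtain ⟨D, hD, hden⟩ := Groth.Agent.Lib.RatCone.exists_common_den q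
    choose u hu using hden
    have hu0 : φ.toLin u = 0 := by
      ext j
      rw [toLin_apply_eq_sum]
      have : ((∑ i, φ.toLin (Pi.single i 1) j * u i : ℤ) : ℚ) = 0 := by
        push_cast
        simp only [hu]
        have := hq0 j
        calc ∑ i, (φ.toLin (Pi.single i 1) j : ℚ) * ((D : ℚ) * q i)
            = (D : ℚ) * ∑ i, (φ.toLin (Pi.single i 1) j : ℚ) * q i := by
              rw [Finset.mul_sum]
              refine Finset.sum_congr rfl fun i _ => ?_
              ring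
          _ = 0 := by rw [this, mul_zero]
      exact_mod_cast this
    have hu00 : u = 0 := φ.injective (by rw [hu0, map_zero])
    have := hu i₀
    rw [hu00] at this
    simp only [Pi.zero_apply, Int.cast_zero] at this
    have hD' : (D : ℚ) ≠ 0 := by exact_mod_cast hD.ne'
    rcases mul_eq_zero.1 this.symm with h | h
    · exact hD' h
    · exact hlam h
  intro y y' h
  have : φ.realMap (y - y') = 0 := by
    have h1 : realLin φ (y - y') = realLin φ y - realLin φ y' := map_sub _ _ _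
    simp only [realLin_apply] at h1
    rw [h1, h, sub_self]
  exact sub_eq_zero.1 (key _ this)

/-- push forward a point of the punctured orthant -/
def orthMap (φ : k ⟶ n) (y : Fan.Orth k) : Fan.Orth n :=
  ⟨φ.realMap y.1, realMap_nonneg φ y.1 y.2.1, realMap_ne_zero φ y.1 y.2.1 y.2.2⟩

@[simp] lemma orthMap_val (φ : k ⟶ n) (y : Fan.Orth k) : (orthMap φ y).1 = φ.realMap y.1 := rfl

/-- rescale a point of the punctured orthant -/
def orthSmul (c : ℝ) (hc : 0 < c) (y : Fan.Orth k) : Fan.Orth k :=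
  ⟨c • y.1, fun i => mul_nonneg hc.le (y.2.1 i), by
    intro h
    apply y.2.2
    have := smul_eq_zero.1 h
    rcases this with h | h
    · exact absurd h hc.ne'
    · exact h⟩

@[simp] lemma orthSmul_val (c : ℝ) (hc : 0 < c) (y : Fan.Orth k) : (orthSmul c hc y).1 = c • y.1 :=
  rfl

lemma continuous_orthMap (φ : k ⟶ n) : Continuous (orthMap φ) :=
  Continuous.subtype_mk ((continuous_realMap φ).comp continuous_subtype_val) _

end Orth


section Glue

variable {F F' G G' : Fan.{u}} {k n m : ICone}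

lemma mk_map (φ : k ⟶ n) (ξ : F.obj (op n)) (y : Fan.Orth k) :
    Fan.P.mk (F.map φ.op ξ) y = Fan.P.mk ξ (orthMap φ y) :=
  mk_map_eq φ ξ y (orthMap φ y) 1 one_pos (by simp)

lemma mk_smul (ξ : F.obj (op n)) (v w : Fan.Orth n) (c : ℝ) (hc : 0 < c) (h : w.1 = c • v.1) :
    Fan.P.mk ξ w = Fan.P.mk ξ v := by
  have h1 := mk_map_eq (𝟙 n) ξ v w c hc (by rw [realMap_id]; exact h)
  rw [← h1]
  congr 1
  simp

lemma mk_eq_of_smul_map (φ : k ⟶ n) (ξ : F.obj (op n)) (y : Fan.Orth k) (w : Fan.Orth n)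
    (c : ℝ) (hc : 0 < c) (h : w.1 = c • φ.realMap y.1) :
    Fan.P.mk ξ w = Fan.P.mk (F.map φ.op ξ) y :=
  (mk_map_eq φ ξ y w c hc h).symm

end Glue

section Yoneda

variable {F F' G G' : Fan.{u}} {k n m : ICone}

/-- the representable fan `h_[n]` -/
abbrev yo (n : ICone) : Fan.{u} := uliftYoneda.{u}.obj n

lemma yo_map (φ : k ⟶ n) (ψ : m ⟶ k) :
    (yo.{u} n).map ψ.op (ULift.up φ) = ULift.up (ψ ≫ φ) := rfl

lemma coneMap_app (σ : F.obj (op n)) (φ : k ⟶ n) :
    (Fan.coneMap σ).app (op k) (ULift.up φ) = F.map φ.op σ := rfl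

lemma coneMap_comp (σ : F.obj (op n)) (f : F ⟶ G) :
    Fan.coneMap σ ≫ f = Fan.coneMap (f.app _ σ) :=
  uliftYonedaEquiv_symm_comp σ f

lemma coneMap_app_id (σ : F.obj (op n)) :
    (Fan.coneMap σ).app (op n) (ULift.up (𝟙 n)) = σ := by
  rw [coneMap_app]
  simp

lemma mk_yo (φ : k ⟶ n) (y : Fan.Orth k) :
    Fan.P.mk (F := yo.{u} n) (ULift.up φ) y = Fan.P.mk (ULift.up (𝟙 n)) (orthMap φ y) := by
  have := mk_map (F := yo.{u} n) φ (ULift.up (𝟙 n)) y
  rw [yo_map, Category.comp_id] at this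
  exact this

lemma mk_yo_eq_iff (φ : k ⟶ n) (y : Fan.Orth k) (v : Fan.Orth n) :
    Fan.P.mk (F := yo.{u} n) (ULift.up φ) y = Fan.P.mk (ULift.up (𝟙 n)) v ↔
      ∃ c : ℝ, 0 < c ∧ v.1 = c • φ.realMap y.1 := by
  constructor
  · intro h
    obtain ⟨k', φ₁, φ₂, y', c₁, c₂, he, hc₁, hc₂, hv₁, hv₂⟩ := (mk_eq_mk_iff _ _ _ _).1 h
    rw [yo_map, yo_map, Category.comp_id] at he
    have he' : φ₁ ≫ φ = φ₂ := congrArg ULift.down he
    refine ⟨c₂ / c₁, div_pos hc₂ hc₁, ?_⟩
    rw [hv₂, hv₁, ← he', realMap_comp, realMap_smul, smul_smul, div_mul_cancel₀ _ hc₁.ne']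
  · rintro ⟨c, hc, h⟩
    rw [mk_yo]
    exact (mk_smul _ _ _ c hc h).symm

lemma P_map_coneMap_mk (σ : F.obj (op n)) (φ : k ⟶ n) (y : Fan.Orth k) :
    Fan.P.map (Fan.coneMap σ) (Fan.P.mk (ULift.up φ) y) = Fan.P.mk (F.map φ.op σ) y := rfl

lemma P_map_coneMap_mk_id (σ : F.obj (op n)) (v : Fan.Orth n) :
    Fan.P.map (Fan.coneMap σ) (Fan.P.mk (ULift.up (𝟙 n)) v) = Fan.P.mk σ v := by
  refine (P_map_coneMap_mk σ (𝟙 n) v).trans ?_
  congr 1
  simp

/-- every point of `P (h_[n])` comes from the identity cone -/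
lemma yo_exists_rep (x : Fan.P (yo.{u} n)) :
    ∃ v : Fan.Orth n, x = Fan.P.mk (ULift.up (𝟙 n)) v := by
  obtain ⟨k, ⟨φ⟩, y, rfl⟩ := P_exists_rep x
  exact ⟨orthMap φ y, mk_yo φ y⟩

lemma yo_isBounded (n : ICone) : Fan.IsBounded (yo.{u} n) := by
  classical
  refine ⟨{⟨n, ULift.up (𝟙 n)⟩}, fun x => ?_⟩
  obtain ⟨v, rfl⟩ := yo_exists_rep x
  exact ⟨_, Finset.mem_singleton_self _, ⟨v, rfl⟩⟩

end Yoneda

section Pullback

variable {F F' G G' : Fan.{u}} {k n m : ICone}

lemma pullback_condition_app (f : F ⟶ G) (g : F' ⟶ G) (z : (pullback f g).obj (op k)) :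
    f.app _ ((pullback.fst f g).app _ z) = g.app _ ((pullback.snd f g).app _ z) := by
  have := congrArg (fun t => t.app (op k) z) (pullback.condition (f := f) (g := g))
  simpa using this


/-- the pair of cone morphisms underlying a cone of `h_[n] ×_G h_[n']` -/
noncomputable def pairOf {n n' : ICone} (ξ : G.obj (op n)) (ξ' : G.obj (op n'))
    (e : Σ k : ICone, (pullback (Fan.coneMap ξ) (Fan.coneMap ξ')).obj (op k)) :
    Σ k : ICone, (k ⟶ n) × (k ⟶ n') :=
  ⟨e.1, (ULift.down ((pullback.fst (Fan.coneMap ξ) (Fan.coneMap ξ')).app _ e.2),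
    ULift.down ((pullback.snd (Fan.coneMap ξ) (Fan.coneMap ξ')).app _ e.2))⟩

lemma pairOf_compat {n n' : ICone} (ξ : G.obj (op n)) (ξ' : G.obj (op n'))
    (e : Σ k : ICone, (pullback (Fan.coneMap ξ) (Fan.coneMap ξ')).obj (op k)) :
    G.map (pairOf ξ ξ' e).2.1.op ξ = G.map (pairOf ξ ξ' e).2.2.op ξ' :=
  pullback_condition_app (Fan.coneMap ξ) (Fan.coneMap ξ') e.2

/-- Quasi-separated fans: the coincidence locus of two rational simplices is a finite union of
common rational sub-simplices (= S19373). -/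
theorem qs_finite (hG : G.IsQuasiSeparated) {n n' : ICone} (ξ : G.obj (op n))
    (ξ' : G.obj (op n')) :
    ∃ s : Finset (Σ k : ICone, (k ⟶ n) × (k ⟶ n')),
      (∀ e ∈ s, G.map e.2.1.op ξ = G.map e.2.2.op ξ') ∧
      ∀ (v : Fan.Orth n) (w : Fan.Orth n'), Fan.P.mk ξ v = Fan.P.mk ξ' w ↔
        ∃ e ∈ s, ∃ (y : Fan.Orth e.1) (c c' : ℝ), 0 < c ∧ 0 < c' ∧
          v.1 = c • e.2.1.realMap y.1 ∧ w.1 = c' • e.2.2.realMap y.1 := by
  classical
  obtain ⟨s, hs⟩ := hG n n' ξ ξ'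
  have hcompat : ∀ e ∈ s.image (pairOf ξ ξ'), G.map e.2.1.op ξ = G.map e.2.2.op ξ' := by
    intro e he
    obtain ⟨e', _, rfl⟩ := Finset.mem_image.1 he
    exact pairOf_compat ξ ξ' e'
  refine ⟨s.image (pairOf ξ ξ'), hcompat, fun v w => ⟨fun h => ?_, ?_⟩⟩
  · have h' : Fan.P.map (Fan.coneMap ξ) (Fan.P.mk (ULift.up (𝟙 n)) v) =
        Fan.P.map (Fan.coneMap ξ') (Fan.P.mk (ULift.up (𝟙 n')) w) := by
      rw [P_map_coneMap_mk_id, P_map_coneMap_mk_id, h]
    obtain ⟨p, hp1, hp2⟩ := pullback_surjective _ _ _ _ h'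
    obtain ⟨e, hes, y, rfl⟩ := hs p
    refine ⟨pairOf ξ ξ' e, Finset.mem_image_of_mem _ hes, y, ?_⟩
    rw [P_map_mk] at hp1 hp2
    obtain ⟨c, hc, hv⟩ := (mk_yo_eq_iff (pairOf ξ ξ' e).2.1 y v).1 hp1
    obtain ⟨c', hc', hw⟩ := (mk_yo_eq_iff (pairOf ξ ξ' e).2.2 y w).1 hp2
    exact ⟨c, c', hc, hc', hv, hw⟩
  · rintro ⟨e, he, y, c, c', hc, hc', hv, hw⟩
    rw [mk_eq_of_smul_map e.2.1 ξ y v c hc hv, mk_eq_of_smul_map e.2.2 ξ' y w c' hc' hw,
      hcompat e he]

end Pullback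

end Groth.Agent.Lib.FanCone4
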