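import Mathlib
import Groth.Prelude.Def_W4c6instabfans3Fan
import Groth.Agent.Lib.FanCone
import Groth.Agent.Lib.FanCone2
import Groth.Agent.Lib.FanCone4

/-!
# Formal fans: bounded fans and bounded maps
-/

namespace Groth.Agent.Lib.FanCone5

open Instab Instab.ICone CategoryTheory Opposite Limits
open Groth.Agent.Lib.FanCone Groth.Agent.Lib.FanCone2 Groth.Agent.Lib.FanCone4

universe u

variable {F F' G G' : Fan.{u}} {k n m : ICone}

section Bounded

/-- A fan covered (on projective realizations) by finitely many bounded fans is bounded. -/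
theorem isBounded_of_cover {ι : Type*} (s : Finset ι) (H : ι → Fan.{u}) (H₀ : Fan.{u})
    (q : ∀ i, H i ⟶ H₀) (hb : ∀ i ∈ s, (H i).IsBounded)
    (hcov : ∀ p : Fan.P H₀, ∃ i ∈ s, p ∈ Set.range (Fan.P.map (q i))) : H₀.IsBounded := by
  classical
  let t : ∀ i, Finset (Σ n : ICone, (H i).obj (op n)) := fun i =>
    if h : i ∈ s then (hb i h).choose else ∅
  have ht : ∀ i ∈ s, ∀ x : Fan.P (H i), ∃ e ∈ t i, x ∈ Fan.P.cell e.2 := by
    intro i hi
    simp only [t, dif_pos hi]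
    exact (hb i hi).choose_spec
  refine ⟨s.biUnion fun i => (t i).image fun τ => ⟨τ.1, (q i).app _ τ.2⟩, fun p => ?_⟩
  obtain ⟨i, hi, p', rfl⟩ := hcov p
  obtain ⟨e, he, y, rfl⟩ := ht i hi p'
  refine ⟨⟨e.1, (q i).app _ e.2⟩, ?_, ⟨y, rfl⟩⟩
  exact Finset.mem_biUnion.2 ⟨i, hi, Finset.mem_image_of_mem _ he⟩

lemma isBounded_pullback_congr {X Y : Fan.{u}} {a b : X ⟶ G} (g : Y ⟶ G) (h : a = b)
    [i1 : HasPullback a g] [i2 : HasPullback b g] (hb : Fan.IsBounded (pullback b g)) :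
    Fan.IsBounded (pullback a g) := by
  subst h
  exact hb

/-- base change of a bounded fan to a quasi-separated fan along a cone is bounded -/
theorem isBoundedMap_of_qs (hG : G.IsQuasiSeparated) (f : F ⟶ G) (hF : F.IsBounded) :
    Fan.IsBoundedMap f := by
  intro n σ
  obtain ⟨s, hs⟩ := hF
  refine isBounded_of_cover s
    (fun e => pullback (Fan.coneMap e.2 ≫ f) (Fan.coneMap σ)) _
    (fun e => (pullbackRightPullbackFstIso f (Fan.coneMap σ) (Fan.coneMap e.2)).inv ≫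
      pullback.snd _ _) ?_ ?_
  · intro e _
    exact isBounded_pullback_congr (Fan.coneMap σ) (coneMap_comp e.2 f) (hG _ _ _ _)
  · intro p
    obtain ⟨e, he, w, hw⟩ := hs (Fan.P.map (pullback.fst f (Fan.coneMap σ)) p)
    have h1 : Fan.P.map (Fan.coneMap e.2) (Fan.P.mk (ULift.up (𝟙 e.1)) w) =
        Fan.P.map (pullback.fst f (Fan.coneMap σ)) p := by
      rw [P_map_coneMap_mk_id]
      exact hw
    obtain ⟨p', -, hp'⟩ := pullback_surjective _ _ _ _ h1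
    refine ⟨e, he, Fan.P.map (pullbackRightPullbackFstIso f (Fan.coneMap σ)
      (Fan.coneMap e.2)).hom p', ?_⟩
    rw [← P_map_comp, Iso.hom_inv_id_assoc]
    exact hp'

/-- = S19359 -/
theorem qs_iff_bounded_maps (G : Fan.{u}) :
    G.IsQuasiSeparated ↔
      ∀ (F : Fan.{u}) (f : F ⟶ G), F.IsBounded → Fan.IsBoundedMap f := by
  constructor
  · intro hG F f hF
    exact isBoundedMap_of_qs hG f hF
  · intro h n₀ n₁ σ₀ σ₁
    exact h (yo.{u} n₀) (Fan.coneMap σ₀) (yo_isBounded n₀) n₁ σ₁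

end Bounded

section BoundedMap

/-- the (cone of `F`, cone morphism) pair underlying a cone of `F ×_G h_[n]` -/
noncomputable def pairOf' (ψ : F ⟶ G) (ξ : G.obj (op n))
    (e : Σ k : ICone, (pullback ψ (Fan.coneMap ξ)).obj (op k)) :
    Σ k : ICone, F.obj (op k) × (k ⟶ n) :=
  ⟨e.1, ((pullback.fst ψ (Fan.coneMap ξ)).app _ e.2,
    ULift.down ((pullback.snd ψ (Fan.coneMap ξ)).app _ e.2))⟩

lemma pairOf'_compat (ψ : F ⟶ G) (ξ : G.obj (op n))
    (e : Σ k : ICone, (pullback ψ (Fan.coneMap ξ)).obj (op k)) :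
    ψ.app _ (pairOf' ψ ξ e).2.1 = G.map (pairOf' ψ ξ e).2.2.op ξ :=
  pullback_condition_app ψ (Fan.coneMap ξ) e.2

/-- Structure of a bounded map over a rational simplex. -/
theorem boundedMap_finite (ψ : F ⟶ G) (hψ : Fan.IsBoundedMap ψ) (ξ : G.obj (op n)) :
    ∃ s : Finset (Σ k : ICone, F.obj (op k) × (k ⟶ n)),
      (∀ e ∈ s, ψ.app _ e.2.1 = G.map e.2.2.op ξ) ∧
      ∀ (x : Fan.P F) (v : Fan.Orth n), Fan.P.map ψ x = Fan.P.mk ξ v ↔
        ∃ e ∈ s, ∃ (y : Fan.Orth e.1) (c : ℝ), 0 < c ∧ x = Fan.P.mk e.2.1 y ∧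
          v.1 = c • e.2.2.realMap y.1 := by
  classical
  obtain ⟨s, hs⟩ := hψ n ξ
  have hcompat : ∀ e ∈ s.image (pairOf' ψ ξ), ψ.app _ e.2.1 = G.map e.2.2.op ξ := by
    intro e he
    obtain ⟨e', _, rfl⟩ := Finset.mem_image.1 he
    exact pairOf'_compat ψ ξ e'
  refine ⟨s.image (pairOf' ψ ξ), hcompat, fun x v => ⟨fun h => ?_, ?_⟩⟩
  · have h' : Fan.P.map ψ x = Fan.P.map (Fan.coneMap ξ) (Fan.P.mk (ULift.up (𝟙 n)) v) := by
      rw [P_map_coneMap_mk_id, h]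
    obtain ⟨p, hp1, hp2⟩ := pullback_surjective _ _ _ _ h'
    obtain ⟨e, hes, y, rfl⟩ := hs p
    rw [P_map_mk] at hp1 hp2
    obtain ⟨c, hc, hv⟩ := (mk_yo_eq_iff (pairOf' ψ ξ e).2.2 y v).1 hp2
    exact ⟨pairOf' ψ ξ e, Finset.mem_image_of_mem _ hes, y, c, hc, hp1.symm, hv⟩
  · rintro ⟨e, he, y, c, hc, rfl, hv⟩
    rw [P_map_mk, hcompat e he, mk_eq_of_smul_map e.2.2 ξ y v c hc hv]

/-- fibres of a bounded map are finite -/
theorem boundedMap_fibre_finite (ψ : F ⟶ G) (hψ : Fan.IsBoundedMap ψ) (y₀ : Fan.P G) :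
    (Fan.P.map ψ ⁻¹' {y₀}).Finite := by
  obtain ⟨n, ξ, v, rfl⟩ := P_exists_rep y₀
  obtain ⟨s, -, hs⟩ := boundedMap_finite ψ hψ ξ
  have hsub : Fan.P.map ψ ⁻¹' {Fan.P.mk ξ v} ⊆
      ⋃ e ∈ s, {x | ∃ (y : Fan.Orth e.1) (c : ℝ), 0 < c ∧ x = Fan.P.mk e.2.1 y ∧
          v.1 = c • e.2.2.realMap y.1} := by
    intro x hx
    obtain ⟨e, he, h⟩ := (hs x v).1 hx
    exact Set.mem_biUnion he h
  refine Set.Finite.subset (Set.Finite.biUnion s.finite_toSet fun e _ => ?_) hsub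
  apply Set.Subsingleton.finite
  rintro x ⟨y, c, hc, rfl, hv⟩ x' ⟨y', c', hc', rfl, hv'⟩
  have h1 : e.2.2.realMap (c • y.1) = e.2.2.realMap (c' • y'.1) := by
    rw [realMap_smul, realMap_smul, ← hv, ← hv']
  have h2 := realMap_injective e.2.2 h1
  symm
  apply mk_smul _ _ _ (c / c') (div_pos hc hc')
  have : y'.1 = c'⁻¹ • (c' • y'.1) := by rw [smul_smul, inv_mul_cancel₀ hc'.ne', one_smul]
  rw [this, ← h2, smul_smul]
  congr 1
  field_simp

end BoundedMap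

end Groth.Agent.Lib.FanCone5
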