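import Mathlib
import Groth.Prelude.Def_W4c6instabfans3Fan
import Groth.Agent.Lib.FanCone
import Groth.Agent.Lib.FanCone2
import Groth.Agent.Lib.FanCone4
import Groth.Agent.Lib.FanCone5

/-!
# Formal fans: topology of the projective realization
-/

namespace Groth.Agent.Lib.FanCone6

open Instab Instab.ICone CategoryTheory Opposite Limits
open Groth.Agent.Lib.FanCone Groth.Agent.Lib.FanCone2 Groth.Agent.Lib.FanCone4
  Groth.Agent.Lib.FanCone5

universe u

variable {F F' G G' : Fan.{u}} {k n m : ICone}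

section Topology

lemma continuous_mk (ξ : F.obj (op n)) : Continuous (Fan.P.mk ξ) := by
  have h1 : Continuous (fun v : Fan.Orth n => (⟨⟨n, ξ⟩, v⟩ : Fan.Pt F)) :=
    continuous_sigmaMk (σ := fun e : (Σ n : ICone, F.obj (op n)) => Fan.Orth e.1) (i := ⟨n, ξ⟩)
  exact continuous_quot_mk.comp h1

lemma isClosed_iff (S : Set (Fan.P F)) :
    IsClosed S ↔ ∀ (n : ICone) (ξ : F.obj (op n)), IsClosed (Fan.P.mk ξ ⁻¹' S) := by
  constructor
  · intro h n ξ
    exact h.preimage (continuous_mk ξ)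
  · intro h
    have h1 : IsClosed ((Quot.mk (Fan.Rel F) : Fan.Pt F → Fan.P F) ⁻¹' S) := by
      refine (isClosed_sigma_iff
        (σ := fun e : (Σ n : ICone, F.obj (op n)) => Fan.Orth e.1)).2 ?_
      rintro ⟨n, ξ⟩
      exact h n ξ
    exact isClosed_coinduced.2 h1

lemma continuous_P_map (f : F ⟶ G) : Continuous (Fan.P.map f) := by
  apply continuous_quot_lift
  apply continuous_sigma
  rintro ⟨n, ξ⟩
  exact continuous_mk (f.app _ ξ)

end Topology


section Normalize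

/-- coordinate sum -/
def sumc (w : Fin n.dim → ℝ) : ℝ := ∑ i, w i

lemma continuous_sumc : Continuous (sumc (n := n)) :=
  continuous_finsetSum _ fun i _ => continuous_apply i

lemma sumc_smul (c : ℝ) (w : Fin n.dim → ℝ) : sumc (c • w) = c * sumc w := by
  simp [sumc, Finset.mul_sum]

lemma sumc_pos (w : Fan.Orth n) : 0 < sumc w.1 := by
  have h0 : 0 ≤ sumc w.1 := Finset.sum_nonneg fun i _ => w.2.1 i
  refine lt_of_le_of_ne h0 fun h => w.2.2 ?_
  have := (Finset.sum_eq_zero_iff_of_nonneg (fun i _ => w.2.1 i)).1 h.symm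
  ext i
  exact this i (Finset.mem_univ i)

/-- normalization to coordinate sum one -/
noncomputable def nrm (w : Fin n.dim → ℝ) : Fin n.dim → ℝ := (sumc w)⁻¹ • w

lemma continuousOn_nrm : ContinuousOn (nrm (n := n)) {w | sumc w ≠ 0} := by
  have h1 : ContinuousOn (fun w : Fin n.dim → ℝ => (sumc w)⁻¹) {w | sumc w ≠ 0} :=
    (continuous_sumc.continuousOn).inv₀ fun w hw => hw
  exact ContinuousOn.smul h1 continuousOn_id

lemma nrm_smul (c : ℝ) (hc : c ≠ 0) (w : Fin n.dim → ℝ) : nrm (c • w) = nrm w := by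
  unfold nrm
  rw [sumc_smul, smul_smul, mul_inv, mul_assoc]
  congr 1
  rw [mul_comm, mul_assoc, mul_inv_cancel₀ hc, mul_one]

lemma eq_smul_nrm (w : Fan.Orth n) : w.1 = sumc w.1 • nrm w.1 := by
  unfold nrm
  rw [smul_smul, mul_inv_cancel₀ (sumc_pos w).ne', one_smul]

lemma nrm_mem_stdSimplex (w : Fan.Orth n) : nrm w.1 ∈ stdSimplex ℝ (Fin n.dim) := by
  constructor
  · intro i
    exact mul_nonneg (inv_nonneg.2 (sumc_pos w).le) (w.2.1 i)
  · have : ∑ i, nrm w.1 i = sumc (nrm w.1) := rfl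
    rw [this]
    unfold nrm
    rw [sumc_smul, inv_mul_cancel₀ (sumc_pos w).ne']

lemma continuous_nrm_val : Continuous (fun w : Fan.Orth n => nrm w.1) :=
  continuousOn_nrm.comp_continuous continuous_subtype_val fun w => (sumc_pos w).ne'

lemma stdSimplex_orth {y : Fin n.dim → ℝ} (hy : y ∈ stdSimplex ℝ (Fin n.dim)) :
    (∀ i, 0 ≤ y i) ∧ y ≠ 0 := by
  refine ⟨hy.1, fun h => ?_⟩
  have := hy.2
  rw [h] at this
  simp at this

/-- scaling-invariant sets -/
def ScaleInv (T : Set (Fan.Orth n)) : Prop :=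
  ∀ v w : Fan.Orth n, v ∈ T → ∀ c : ℝ, 0 < c → w.1 = c • v.1 → w ∈ T

/-- Key lemma: the cone over the image of a closed scaling invariant set is closed. -/
theorem isClosed_cone_image (φ : k ⟶ n) (T : Set (Fan.Orth k)) (hT : IsClosed T)
    (hinv : ScaleInv T) :
    IsClosed {w : Fan.Orth n | ∃ y ∈ T, ∃ c : ℝ, 0 < c ∧ w.1 = c • φ.realMap y.1} := by
  obtain ⟨C, hC, rfl⟩ := isClosed_induced_iff.1 hT
  set K₀ : Set (Fin k.dim → ℝ) := C ∩ stdSimplex ℝ (Fin k.dim) with hK₀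
  have hK₀c : IsCompact K₀ := (isCompact_stdSimplex ℝ (Fin k.dim)).inter_left hC
  set g : (Fin k.dim → ℝ) → (Fin n.dim → ℝ) := fun y => nrm (φ.realMap y) with hg
  have hpos : ∀ y ∈ K₀, 0 < sumc (φ.realMap y) := by
    intro y hy
    have h1 := stdSimplex_orth hy.2
    exact sumc_pos (orthMap φ ⟨y, h1⟩)
  have hgc : ContinuousOn g K₀ := by
    apply continuousOn_nrm.comp (continuous_realMap φ).continuousOn
    intro y hy
    exact (hpos y hy).ne'
  have hK' : IsClosed (g '' K₀) := (hK₀c.image_of_continuousOn hgc).isClosed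
  have hset : {w : Fan.Orth n | ∃ y ∈ (Subtype.val ⁻¹' C : Set (Fan.Orth k)), ∃ c : ℝ, 0 < c ∧
      w.1 = c • φ.realMap y.1} = (fun w : Fan.Orth n => nrm w.1) ⁻¹' (g '' K₀) := by
    ext w
    simp only [Set.mem_ofPred_eq, Set.mem_preimage, Set.mem_image]
    constructor
    · rintro ⟨y, hy, c, hc, hw⟩
      have hsy := sumc_pos y
      have hy₀ : orthSmul (sumc y.1)⁻¹ (inv_pos.2 hsy) y ∈ (Subtype.val ⁻¹' C : Set (Fan.Orth k)) :=
        hinv y _ hy _ (inv_pos.2 hsy) rfl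
      refine ⟨nrm y.1, ⟨hy₀, nrm_mem_stdSimplex y⟩, ?_⟩
      simp only [hg]
      rw [hw, nrm_smul c hc.ne']
      unfold nrm
      rw [realMap_smul, ← nrm, ← nrm, nrm_smul _ (inv_pos.2 hsy).ne']
    · rintro ⟨y₀, hy₀, hgy⟩
      have h1 := stdSimplex_orth hy₀.2
      refine ⟨⟨y₀, h1⟩, hy₀.1, sumc w.1 * (sumc (φ.realMap y₀))⁻¹,
        mul_pos (sumc_pos w) (inv_pos.2 (hpos y₀ hy₀)), ?_⟩
      have h2 := eq_smul_nrm w
      rw [← hgy] at h2
      simp only [hg] at h2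
      unfold nrm at h2
      rw [smul_smul] at h2
      exact h2
  rw [hset]
  exact hK'.preimage continuous_nrm_val

end Normalize


section Rational

/-- the ray `[1] ⟶ [k]` through a nonzero nonnegative integer vector -/
def rayHom (r : Fin k.dim → ℤ) (hr : ∀ i, 0 ≤ r i) (hr0 : r ≠ 0) : Fan.one ⟶ k :=
  homOfVectors (m := 1) (fun _ => r) (fun _ j => hr j) (by
    intro c hc
    obtain ⟨j, hj⟩ : ∃ j, r j ≠ 0 := by
      by_contra hcon
      push Not at hcon
      exact hr0 (funext hcon)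
    have h1 : ∑ i : Fin 1, c i * r j = 0 := hc j
    rw [Fin.sum_univ_one] at h1
    ext i
    have hi : i = (0 : Fin 1) := Subsingleton.elim (α := Fin 1) _ _
    rw [hi]
    rcases mul_eq_zero.1 h1 with h | h
    · exact h
    · exact absurd h hj)

lemma rayHom_realMap (r : Fin k.dim → ℤ) (hr : ∀ i, 0 ≤ r i) (hr0 : r ≠ 0) :
    (rayHom r hr hr0).realMap (Fan.Orth.ones Fan.one).1 = fun j => (r j : ℝ) := by
  ext j
  unfold rayHom
  rw [homOfVectors_realMap]
  show ∑ i : Fin 1, (1 : ℝ) * (r j : ℝ) = (r j : ℝ)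
  rw [Fin.sum_univ_one, one_mul]

/-- the point of the orthant given by an integer vector -/
def intPt (r : Fin k.dim → ℤ) (hr : ∀ i, 0 ≤ r i) (hr0 : r ≠ 0) : Fan.Orth k :=
  ⟨fun j => (r j : ℝ), fun j => by
    show (0 : ℝ) ≤ (r j : ℝ)
    exact_mod_cast hr j, fun h => hr0 (by
    ext j
    have := congrFun h j
    simpa using this)⟩

lemma mk_intPt (ξ : F.obj (op k)) (r : Fin k.dim → ℤ) (hr : ∀ i, 0 ≤ r i) (hr0 : r ≠ 0) :
    Fan.P.mk ξ (intPt r hr hr0) =
      Fan.P.mk (F.map (rayHom r hr hr0).op ξ) (Fan.Orth.ones Fan.one) := by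
  symm
  apply mk_map_eq (rayHom r hr hr0) ξ _ _ 1 one_pos
  rw [rayHom_realMap, one_smul]
  rfl

lemma isRational_mk_intPt (ξ : F.obj (op k)) (r : Fin k.dim → ℤ) (hr : ∀ i, 0 ≤ r i)
    (hr0 : r ≠ 0) : (Fan.P.mk ξ (intPt r hr hr0)).IsRational :=
  ⟨_, mk_intPt ξ r hr hr0⟩

/-- a closed scaling-invariant subset of the orthant containing all integer points is everything -/
theorem eq_univ_of_intPt (S : Set (Fan.Orth k)) (hS : IsClosed S) (hinv : ScaleInv S)
    (hint : ∀ (r : Fin k.dim → ℤ) (hr : ∀ i, 0 ≤ r i) (hr0 : r ≠ 0), intPt r hr hr0 ∈ S) :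
    S = Set.univ := by
  rw [Set.eq_univ_iff_forall]
  intro y
  rw [← hS.closure_eq]
  refine (closure_subtype (p := fun v : Fin k.dim → ℝ => (∀ i, 0 ≤ v i) ∧ v ≠ 0)
    (x := y) (s := S)).2 ?_
  rw [Metric.mem_closure_iff]
  intro ε hε
  have hq : ∀ i, ∃ q : ℚ, y.1 i < q ∧ (q : ℝ) < y.1 i + ε := fun i =>
    exists_rat_btwn (by linarith)
  choose q hq1 hq2 using hq
  obtain ⟨D, hD, hden⟩ := Groth.Agent.Lib.RatCone.exists_common_den q
  choose r hr using hden
  have hDpos : (0 : ℝ) < D := by exact_mod_cast hD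
  have hqpos : ∀ i, (0 : ℝ) < q i := fun i => lt_of_le_of_lt (y.2.1 i) (hq1 i)
  have hrpos : ∀ i, 0 < r i := by
    intro i
    have h1 : ((r i : ℚ) : ℝ) = (D : ℝ) * q i := by
      rw [hr i]; push_cast; rfl
    have h2 : (0 : ℝ) < ((r i : ℚ) : ℝ) := by rw [h1]; exact mul_pos hDpos (hqpos i)
    exact_mod_cast h2
  have hr0 : r ≠ 0 := by
    intro h
    have := hrpos ⟨0, k.dim.pos⟩
    rw [h] at this
    simp at this
  have hmem := hint r (fun i => (hrpos i).le) hr0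
  set b : Fan.Orth k := orthSmul (D : ℝ)⁻¹ (inv_pos.2 hDpos) (intPt r (fun i => (hrpos i).le) hr0)
    with hb
  have hbS : b ∈ S := hinv _ b hmem _ (inv_pos.2 hDpos) rfl
  have hbval : ∀ i, b.1 i = q i := by
    intro i
    have hb1 : b.1 i = (D : ℝ)⁻¹ * ((r i : ℤ) : ℝ) := rfl
    rw [hb1]
    have h1 : ((r i : ℤ) : ℝ) = (D : ℝ) * q i := by
      have := hr i
      have h2 : ((r i : ℚ) : ℝ) = (((D : ℚ) * q i : ℚ) : ℝ) := by rw [this]
      push_cast at h2
      exact h2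
    rw [h1, ← mul_assoc, inv_mul_cancel₀ hDpos.ne', one_mul]
  refine ⟨b.1, ⟨b, hbS, rfl⟩, ?_⟩
  rw [dist_pi_lt_iff hε]
  intro i
  rw [hbval, Real.dist_eq, abs_lt]
  constructor <;> linarith [hq1 i, hq2 i]

end Rational

end Groth.Agent.Lib.FanCone6
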