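import Mathlib
import Groth.Prelude.Def_W4c6instabfans3Fan
import Groth.Agent.Lib.FanCone
import Groth.Agent.Lib.FanCone2
import Groth.Agent.Lib.FanCone4
import Groth.Agent.Lib.FanCone5
import Groth.Agent.Lib.FanCone6

/-!
# Formal fans: bounded maps are closed with finite fibres; quasi-separated fans
-/

namespace Groth.Agent.Lib.FanCone7

open Instab Instab.ICone CategoryTheory Opposite Limits
open Groth.Agent.Lib.FanCone Groth.Agent.Lib.FanCone2 Groth.Agent.Lib.FanCone4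
  Groth.Agent.Lib.FanCone5 Groth.Agent.Lib.FanCone6

universe u

variable {F F' G G' : Fan.{u}} {k n m : ICone}

lemma scaleInv_univ : ScaleInv (Set.univ : Set (Fan.Orth n)) := fun _ _ _ _ _ _ => trivial

lemma scaleInv_preimage_mk (ξ : F.obj (op n)) (Z : Set (Fan.P F)) :
    ScaleInv (Fan.P.mk ξ ⁻¹' Z) := by
  intro v w hv c hc h
  show Fan.P.mk ξ w ∈ Z
  rw [mk_smul ξ v w c hc h]
  exact hv

section BoundedMap

variable (ψ : F ⟶ G) (hψ : Fan.IsBoundedMap ψ)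

/-- the image of a bounded map meets each rational simplex in a finite union of closed rational
sub-simplices -/
theorem boundedMap_image (hψ : Fan.IsBoundedMap ψ) (ξ : G.obj (op n)) :
    ∃ s : Finset (Σ k : ICone, k ⟶ n),
      {v : Fan.Orth n | Fan.P.mk ξ v ∈ Set.range (Fan.P.map ψ)} =
        ⋃ e ∈ s, {v : Fan.Orth n | ∃ (y : Fan.Orth e.1) (c : ℝ), 0 < c ∧
          v.1 = c • e.2.realMap y.1} := by
  classical
  obtain ⟨s, hs1, hs2⟩ := boundedMap_finite ψ hψ ξ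
  refine ⟨s.image (fun e => ⟨e.1, e.2.2⟩), ?_⟩
  ext v
  simp only [Set.mem_ofPred_eq, Set.mem_range, Set.mem_iUnion, Finset.mem_image, exists_prop]
  constructor
  · rintro ⟨x, hx⟩
    obtain ⟨e, he, y, c, hc, -, hv⟩ := (hs2 x v).1 hx
    exact ⟨⟨e.1, e.2.2⟩, ⟨e, he, rfl⟩, y, c, hc, hv⟩
  · rintro ⟨_, ⟨e, he, rfl⟩, y, c, hc, hv⟩
    exact ⟨Fan.P.mk e.2.1 y, (hs2 _ v).2 ⟨e, he, y, c, hc, rfl, hv⟩⟩

theorem boundedMap_isClosedMap (hψ : Fan.IsBoundedMap ψ) : IsClosedMap (Fan.P.map ψ) := by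
  intro Z hZ
  rw [isClosed_iff]
  intro n ξ
  obtain ⟨s, hs1, hs2⟩ := boundedMap_finite ψ hψ ξ
  have hset : Fan.P.mk ξ ⁻¹' (Fan.P.map ψ '' Z) =
      ⋃ e ∈ s, {v : Fan.Orth n | ∃ y ∈ (Fan.P.mk e.2.1 ⁻¹' Z : Set (Fan.Orth e.1)),
        ∃ c : ℝ, 0 < c ∧ v.1 = c • e.2.2.realMap y.1} := by
    ext v
    simp only [Set.mem_preimage, Set.mem_image, Set.mem_iUnion, Set.mem_ofPred_eq, exists_prop]
    constructor
    · rintro ⟨x, hxZ, hx⟩
      obtain ⟨e, he, y, c, hc, rfl, hv⟩ := (hs2 x v).1 hx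
      exact ⟨e, he, y, hxZ, c, hc, hv⟩
    · rintro ⟨e, he, y, hy, c, hc, hv⟩
      exact ⟨Fan.P.mk e.2.1 y, hy, (hs2 _ v).2 ⟨e, he, y, c, hc, rfl, hv⟩⟩
  rw [hset]
  refine Set.Finite.isClosed_biUnion s.finite_toSet fun e _ => ?_
  exact isClosed_cone_image e.2.2 _ (hZ.preimage (continuous_mk _)) (scaleInv_preimage_mk _ _)

/-- = S19363 -/
theorem boundedMap_main (hψ : Fan.IsBoundedMap ψ) :
    IsClosedMap (Fan.P.map ψ) ∧ (∀ y : Fan.P G, (Fan.P.map ψ ⁻¹' {y}).Finite) ∧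
    ∀ (n : ICone) (ξ : G.obj (op n)), ∃ s : Finset (Σ k : ICone, k ⟶ n),
      {v : Fan.Orth n | Fan.P.mk ξ v ∈ Set.range (Fan.P.map ψ)} =
        ⋃ e ∈ s, {v : Fan.Orth n | ∃ (y : Fan.Orth e.1) (c : ℝ), 0 < c ∧
          v.1 = c • e.2.realMap y.1} :=
  ⟨boundedMap_isClosedMap ψ hψ, boundedMap_fibre_finite ψ hψ, fun _ ξ => boundedMap_image ψ hψ ξ⟩

/-- = S19365 -/
theorem boundedMap_closedEmbedding (hψ : Fan.IsBoundedMap ψ)
    (hinj : ∀ n : ICone, Function.Injective (ψ.app (op n))) :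
    Topology.IsClosedEmbedding (Fan.P.map ψ) := by
  refine Topology.IsClosedEmbedding.of_continuous_injective_isClosedMap (continuous_P_map ψ) ?_
    (boundedMap_isClosedMap ψ hψ)
  intro x y hxy
  obtain ⟨n₁, σ₁, v₁, rfl⟩ := P_exists_rep x
  obtain ⟨n₂, σ₂, v₂, rfl⟩ := P_exists_rep y
  rw [P_map_mk, P_map_mk] at hxy
  obtain ⟨k, φ₁, φ₂, y, c₁, c₂, he, hc₁, hc₂, hv₁, hv₂⟩ := (mk_eq_mk_iff _ _ v₁ v₂).1 hxy
  have e1 : ψ.app _ (F.map φ₁.op σ₁) = G.map φ₁.op (ψ.app _ σ₁) :=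
    NatTrans.naturality_apply ψ φ₁.op σ₁
  have e2 : ψ.app _ (F.map φ₂.op σ₂) = G.map φ₂.op (ψ.app _ σ₂) :=
    NatTrans.naturality_apply ψ φ₂.op σ₂
  have he' : F.map φ₁.op σ₁ = F.map φ₂.op σ₂ := hinj k (by rw [e1, e2, he])
  exact (mk_eq_mk_iff σ₁ σ₂ v₁ v₂).2 ⟨k, φ₁, φ₂, y, c₁, c₂, he', hc₁, hc₂, hv₁, hv₂⟩

/-- = S19364 -/
theorem boundedMap_surjective_iff (hψ : Fan.IsBoundedMap ψ) :
    Function.Surjective (Fan.P.map ψ) ↔
      ∀ y : Fan.P G, y.IsRational → y ∈ Set.range (Fan.P.map ψ) := by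
  constructor
  · intro h y _
    exact h y
  · intro h y₀
    obtain ⟨n, ξ, v, rfl⟩ := P_exists_rep y₀
    obtain ⟨s, hs⟩ := boundedMap_image ψ hψ ξ
    have hcl : IsClosed {v : Fan.Orth n | Fan.P.mk ξ v ∈ Set.range (Fan.P.map ψ)} := by
      rw [hs]
      refine Set.Finite.isClosed_biUnion s.finite_toSet fun e _ => ?_
      have := isClosed_cone_image e.2 Set.univ isClosed_univ scaleInv_univ
      simpa using this
    have hinv : ScaleInv {v : Fan.Orth n | Fan.P.mk ξ v ∈ Set.range (Fan.P.map ψ)} :=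
      scaleInv_preimage_mk ξ _
    have huniv := eq_univ_of_intPt _ hcl hinv fun r hr hr0 =>
      h _ (isRational_mk_intPt ξ r hr hr0)
    have : v ∈ {v : Fan.Orth n | Fan.P.mk ξ v ∈ Set.range (Fan.P.map ψ)} := by
      rw [huniv]; trivial
    exact this

end BoundedMap

end Groth.Agent.Lib.FanCone7
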