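import Mathlib
import Groth.Prelude.Def_W4c6instabfans3Fan
import Groth.Agent.Lib.FanCone
import Groth.Agent.Lib.FanCone2
import Groth.Agent.Lib.FanCone4
import Groth.Agent.Lib.FanCone5
import Groth.Agent.Lib.FanCone6
import Groth.Agent.Lib.FanCone7

/-!
# Formal fans: topology of quasi-separated fans
-/

namespace Groth.Agent.Lib.FanCone8

open Instab Instab.ICone CategoryTheory Opposite Limits
open Groth.Agent.Lib.FanCone Groth.Agent.Lib.FanCone2 Groth.Agent.Lib.FanCone4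
  Groth.Agent.Lib.FanCone5 Groth.Agent.Lib.FanCone6 Groth.Agent.Lib.FanCone7

universe u

variable {F F' G G' : Fan.{u}} {k n m : ICone}

lemma eq_smul_of_nrm_eq (v w : Fan.Orth n) (h : nrm v.1 = nrm w.1) :
    v.1 = (sumc v.1 * (sumc w.1)⁻¹) • w.1 := by
  have h1 := eq_smul_nrm v
  rw [h] at h1
  unfold nrm at h1
  rw [smul_smul] at h1
  exact h1

lemma mk_eq_of_nrm_eq (ξ : F.obj (op n)) (v w : Fan.Orth n) (h : nrm v.1 = nrm w.1) :
    Fan.P.mk ξ v = Fan.P.mk ξ w :=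
  mk_smul ξ w v _ (mul_pos (sumc_pos v) (inv_pos.2 (sumc_pos w))) (eq_smul_of_nrm_eq v w h)

lemma nrm_eq_of_smul (v w : Fan.Orth n) (c : ℝ) (hc : 0 < c) (h : w.1 = c • v.1) :
    nrm w.1 = nrm v.1 := by
  rw [h, nrm_smul c hc.ne']

lemma scaleInv_preimage_orthMap (φ : k ⟶ n) (S : Set (Fan.Orth n)) (hS : ScaleInv S) :
    ScaleInv (orthMap φ ⁻¹' S) := by
  intro v w hv c hc h
  refine hS (orthMap φ v) (orthMap φ w) hv c hc ?_
  simp only [orthMap_val]
  rw [h, realMap_smul]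

section QS

variable (hF : F.IsQuasiSeparated)

include hF in
/-- rational simplices of a quasi-separated fan are closed maps (on scaling invariant sets) -/
theorem qs_isClosed_image (ξ : F.obj (op n)) (S : Set (Fan.Orth n)) (hS : IsClosed S)
    (hinv : ScaleInv S) : IsClosed (Fan.P.mk ξ '' S) := by
  rw [isClosed_iff]
  intro n' ξ'
  obtain ⟨s, hs1, hs2⟩ := qs_finite hF ξ ξ'
  have hset : Fan.P.mk ξ' ⁻¹' (Fan.P.mk ξ '' S) =
      ⋃ e ∈ s, {w : Fan.Orth n' | ∃ y ∈ (orthMap e.2.1 ⁻¹' S : Set (Fan.Orth e.1)),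
        ∃ c : ℝ, 0 < c ∧ w.1 = c • e.2.2.realMap y.1} := by
    ext w
    simp only [Set.mem_preimage, Set.mem_image, Set.mem_iUnion, Set.mem_ofPred_eq, exists_prop]
    constructor
    · rintro ⟨v, hvS, hv⟩
      obtain ⟨e, he, y, c, c', hc, hc', hv1, hw1⟩ := (hs2 v w).1 hv
      refine ⟨e, he, y, ?_, c', hc', hw1⟩
      refine hinv v (orthMap e.2.1 y) hvS c⁻¹ (inv_pos.2 hc) ?_
      rw [hv1, smul_smul, inv_mul_cancel₀ hc.ne', one_smul]
      rfl
    · rintro ⟨e, he, y, hy, c', hc', hw1⟩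
      exact ⟨orthMap e.2.1 y, hy, (hs2 _ w).2 ⟨e, he, y, 1, c', one_pos, hc', by simp, hw1⟩⟩
  rw [hset]
  refine Set.Finite.isClosed_biUnion s.finite_toSet fun e _ => ?_
  exact isClosed_cone_image e.2.2 _ (hS.preimage (continuous_orthMap _))
    (scaleInv_preimage_orthMap _ _ hinv)

include hF in
theorem qs_isClosed_cell (ξ : F.obj (op n)) : IsClosed (Fan.P.cell ξ) := by
  have := qs_isClosed_image hF ξ Set.univ isClosed_univ scaleInv_univ
  rwa [Set.image_univ] at this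

include hF in
theorem qs_isClosed_iff (S : Set (Fan.P F)) :
    IsClosed S ↔ ∀ (n : ICone) (ξ : F.obj (op n)), IsClosed (S ∩ Fan.P.cell ξ) := by
  constructor
  · intro h n ξ
    exact h.inter (qs_isClosed_cell hF ξ)
  · intro h
    rw [isClosed_iff]
    intro n ξ
    have h1 : Fan.P.mk ξ ⁻¹' S = Fan.P.mk ξ ⁻¹' (S ∩ Fan.P.cell ξ) := by
      ext v
      simp only [Set.mem_preimage, Set.mem_inter_iff]
      exact ⟨fun hv => ⟨hv, ⟨v, rfl⟩⟩, fun hv => hv.1⟩
    rw [h1]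
    exact (h n ξ).preimage (continuous_mk ξ)

include hF in
/-- = S19366 -/
theorem qs_main :
    (∀ (n : ICone) (ξ : F.obj (op n)) (S : Set (Fan.Orth n)), IsClosed S →
      (∀ v w : Fan.Orth n, v ∈ S → ∀ c : ℝ, 0 < c → w.1 = c • v.1 → w ∈ S) →
        IsClosed (Fan.P.mk ξ '' S)) ∧
    ∀ S : Set (Fan.P F), IsClosed S ↔
      ∀ (n : ICone) (ξ : F.obj (op n)), IsClosed (S ∩ Fan.P.cell ξ) :=
  ⟨fun _ ξ S hS hinv => qs_isClosed_image hF ξ S hS hinv, qs_isClosed_iff hF⟩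

include hF in
/-- two cones of a quasi-separated fan agreeing on rational rays agree everywhere -/
theorem qs_eq_of_intPt (a b : F.obj (op k))
    (hint : ∀ (r : Fin k.dim → ℤ) (hr : ∀ i, 0 ≤ r i) (hr0 : r ≠ 0),
      Fan.P.mk a (intPt r hr hr0) = Fan.P.mk b (intPt r hr hr0)) (y : Fan.Orth k) :
    Fan.P.mk a y = Fan.P.mk b y := by
  obtain ⟨s, hs1, hs2⟩ := qs_finite hF a b
  set D : Set (Fan.Orth k) := {y | Fan.P.mk a y = Fan.P.mk b y} with hD
  have hset : D = ⋃ e ∈ s, {y : Fan.Orth k | ∃ z ∈ ({z : Fan.Orth e.1 |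
      nrm (orthMap e.2.1 z).1 = nrm (orthMap e.2.2 z).1} : Set (Fan.Orth e.1)),
        ∃ c : ℝ, 0 < c ∧ y.1 = c • e.2.1.realMap z.1} := by
    ext y
    simp only [hD, Set.mem_iUnion, Set.mem_ofPred_eq, exists_prop]
    constructor
    · intro hy
      obtain ⟨e, he, z, c, c', hc, hc', hy1, hy2⟩ := (hs2 y y).1 hy
      refine ⟨e, he, z, ?_, c, hc, hy1⟩
      apply nrm_eq_of_smul (orthMap e.2.2 z) (orthMap e.2.1 z) (c⁻¹ * c')
        (mul_pos (inv_pos.2 hc) hc')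
      simp only [orthMap_val]
      rw [← smul_smul, ← hy2, hy1, smul_smul, inv_mul_cancel₀ hc.ne', one_smul]
    · rintro ⟨e, he, z, hz, c, hc, hy1⟩
      refine (hs2 y y).2 ⟨e, he, z, c, c * (sumc (orthMap e.2.1 z).1 * (sumc (orthMap e.2.2 z).1)⁻¹),
        hc, mul_pos hc (mul_pos (sumc_pos _) (inv_pos.2 (sumc_pos _))), hy1, ?_⟩
      have := eq_smul_of_nrm_eq _ _ hz
      rw [hy1, ← smul_smul]
      exact congrArg (fun t => c • t) this
  have hcl : IsClosed D := by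
    rw [hset]
    refine Set.Finite.isClosed_biUnion s.finite_toSet fun e _ => ?_
    refine isClosed_cone_image e.2.1 _ ?_ ?_
    · exact isClosed_eq (continuous_nrm_val.comp (continuous_orthMap _))
        (continuous_nrm_val.comp (continuous_orthMap _))
    · intro v w hv c hc h
      simp only [Set.mem_ofPred_eq, orthMap_val] at hv ⊢
      rw [h, realMap_smul, realMap_smul, nrm_smul c hc.ne', nrm_smul c hc.ne']
      exact hv
  have hinv : ScaleInv D := by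
    intro v w hv c hc h
    simp only [hD, Set.mem_ofPred_eq] at hv ⊢
    rw [mk_smul a v w c hc h, mk_smul b v w c hc h, hv]
  have huniv := eq_univ_of_intPt D hcl hinv hint
  have : y ∈ D := by rw [huniv]; trivial
  exact this

include hF in
/-- = S19367 -/
theorem qs_injective_iff (ψ : F ⟶ G) :
    Function.Injective (Fan.P.map ψ) ↔
      ∀ x y : Fan.P F, x.IsRational → y.IsRational → Fan.P.map ψ x = Fan.P.map ψ y → x = y := by
  constructor
  · intro h x y _ _ hxy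
    exact h hxy
  · intro h x x' hxx'
    obtain ⟨n₁, σ₁, v₁, rfl⟩ := P_exists_rep x
    obtain ⟨n₂, σ₂, v₂, rfl⟩ := P_exists_rep x'
    rw [P_map_mk, P_map_mk] at hxx'
    obtain ⟨k, φ₁, φ₂, y, c₁, c₂, he, hc₁, hc₂, hv₁, hv₂⟩ := (mk_eq_mk_iff _ _ v₁ v₂).1 hxx'
    have e1 : ψ.app _ (F.map φ₁.op σ₁) = G.map φ₁.op (ψ.app _ σ₁) :=
      NatTrans.naturality_apply ψ φ₁.op σ₁
    have e2 : ψ.app _ (F.map φ₂.op σ₂) = G.map φ₂.op (ψ.app _ σ₂) :=
      NatTrans.naturality_apply ψ φ₂.op σ₂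
    have hab : ψ.app _ (F.map φ₁.op σ₁) = ψ.app _ (F.map φ₂.op σ₂) := by rw [e1, e2, he]
    rw [mk_eq_of_smul_map φ₁ σ₁ y v₁ c₁ hc₁ hv₁, mk_eq_of_smul_map φ₂ σ₂ y v₂ c₂ hc₂ hv₂]
    apply qs_eq_of_intPt hF
    intro r hr hr0
    apply h _ _ (isRational_mk_intPt _ r hr hr0) (isRational_mk_intPt _ r hr hr0)
    rw [P_map_mk, P_map_mk, hab]

end QS

end Groth.Agent.Lib.FanCone8
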