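import Mathlib
import Groth.Prelude.Def_W4c6instabfans3Fan
import Groth.Agent.Lib.FanCone
import Groth.Agent.Lib.FanCone2
import Groth.Agent.Lib.FanCone4
import Groth.Agent.Lib.FanCone5
import Groth.Agent.Lib.FanCone6
import Groth.Agent.Lib.FanCone7
import Groth.Agent.Lib.FanCone8

/-!
# Formal fans: convergent sequences in quasi-separated fans
-/

namespace Groth.Agent.Lib.FanCone9

open Instab Instab.ICone CategoryTheory Opposite Limits
open Groth.Agent.Lib.FanCone Groth.Agent.Lib.FanCone2 Groth.Agent.Lib.FanCone4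
  Groth.Agent.Lib.FanCone5 Groth.Agent.Lib.FanCone6 Groth.Agent.Lib.FanCone7
  Groth.Agent.Lib.FanCone8

universe u

variable {F F' G G' : Fan.{u}} {k n m : ICone}

lemma nrm_nrm (w : Fan.Orth n) : nrm (nrm w.1) = nrm w.1 := by
  conv_lhs => rw [nrm]
  rw [← nrm]
  exact nrm_smul _ (inv_pos.2 (sumc_pos w)).ne' _

section QS

variable (hF : F.IsQuasiSeparated)

include hF in
theorem qs_isClosed_singleton (p : Fan.P F) : IsClosed ({p} : Set (Fan.P F)) := by
  obtain ⟨n, ξ, v, rfl⟩ := P_exists_rep p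
  have h1 : IsClosed {w : Fan.Orth n | nrm w.1 = nrm v.1} :=
    isClosed_eq continuous_nrm_val continuous_const
  have h2 : ScaleInv {w : Fan.Orth n | nrm w.1 = nrm v.1} := by
    intro a b ha c hc h
    simp only [Set.mem_ofPred_eq] at ha ⊢
    rw [nrm_eq_of_smul a b c hc h, ha]
  have h3 := qs_isClosed_image hF ξ _ h1 h2
  have h4 : Fan.P.mk ξ '' {w : Fan.Orth n | nrm w.1 = nrm v.1} = {Fan.P.mk ξ v} := by
    ext q
    simp only [Set.mem_image, Set.mem_ofPred_eq, Set.mem_singleton_iff]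
    constructor
    · rintro ⟨w, hw, rfl⟩
      exact mk_eq_of_nrm_eq ξ w v hw
    · rintro rfl
      exact ⟨v, rfl, rfl⟩
  rwa [h4] at h3

include hF in
theorem qs_t1Space : T1Space (Fan.P F) := ⟨fun p => qs_isClosed_singleton hF p⟩

include hF in
/-- = S19369 -/
theorem qs_seq (x : ℕ → Fan.P F) (x₀ : Fan.P F)
    (hx : Filter.Tendsto x Filter.atTop (nhds x₀)) :
    ∃ (n : ICone) (σ : F.obj (op n)) (r : ℕ → ℕ) (v : ℕ → Fan.Orth n) (v₀ : Fan.Orth n),
      StrictMono r ∧ (∀ j, Fan.P.mk σ (v j) = x (r j)) ∧ Fan.P.mk σ v₀ = x₀ ∧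
        Filter.Tendsto v Filter.atTop (nhds v₀) := by
  classical
  have := qs_t1Space hF
  by_cases hfreq : ∃ᶠ i in Filter.atTop, x i = x₀
  · obtain ⟨r, hr, hr'⟩ := Filter.extraction_of_frequently_atTop hfreq
    obtain ⟨n, σ, v₀, rfl⟩ := P_exists_rep x₀
    exact ⟨n, σ, r, fun _ => v₀, v₀, hr, fun j => (hr' j).symm, rfl, tendsto_const_nhds⟩
  · rw [Filter.not_frequently, Filter.eventually_atTop] at hfreq
    obtain ⟨I, hI⟩ := hfreq
    set A : Set (Fan.P F) := x '' {i | I ≤ i} with hA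
    have hx₀A : x₀ ∉ A := by
      rintro ⟨i, hi, h⟩
      exact hI i hi h
    have hcl : x₀ ∈ closure A :=
      mem_closure_of_tendsto hx (Filter.eventually_atTop.2 ⟨I, fun i hi => ⟨i, hi, rfl⟩⟩)
    have hAnc : ¬ IsClosed A := fun h => hx₀A (h.closure_eq ▸ hcl)
    rw [qs_isClosed_iff hF] at hAnc
    push Not at hAnc
    obtain ⟨n, ξ, hnc⟩ := hAnc
    set J : Set ℕ := {i | I ≤ i ∧ x i ∈ Fan.P.cell ξ} with hJ
    have hJinf : J.Infinite := by
      intro hfin
      apply hnc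
      have : A ∩ Fan.P.cell ξ = x '' J := by
        ext p
        simp only [hA, hJ, Set.mem_inter_iff, Set.mem_image, Set.mem_ofPred_eq]
        constructor
        · rintro ⟨⟨i, hi, rfl⟩, hp⟩
          exact ⟨i, ⟨hi, hp⟩, rfl⟩
        · rintro ⟨i, ⟨hi, hp⟩, rfl⟩
          exact ⟨⟨i, hi, rfl⟩, hp⟩
      rw [this]
      exact (hfin.image x).isClosed
    have hJfreq : ∃ᶠ i in Filter.atTop, i ∈ J := Nat.frequently_atTop_iff_infinite.2 hJinf
    obtain ⟨r₀, hr₀, hr₀J⟩ := Filter.extraction_of_frequently_atTop hJfreq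
    have hlift : ∀ j, ∃ v' : Fan.Orth n, Fan.P.mk ξ v' = x (r₀ j) := fun j => (hr₀J j).2
    choose v' hv' using hlift
    set u : ℕ → (Fin n.dim → ℝ) := fun j => nrm (v' j).1 with hu
    have hu_mem : ∀ j, u j ∈ stdSimplex ℝ (Fin n.dim) := fun j => nrm_mem_stdSimplex (v' j)
    obtain ⟨a, ha, φ, hφ, hconv⟩ := (isCompact_stdSimplex ℝ (Fin n.dim)).tendsto_subseq hu_mem
    set v : ℕ → Fan.Orth n := fun j => ⟨u (φ j), stdSimplex_orth (hu_mem (φ j))⟩ with hv
    set v₀ : Fan.Orth n := ⟨a, stdSimplex_orth ha⟩ with hv₀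
    have hvx : ∀ j, Fan.P.mk ξ (v j) = x (r₀ (φ j)) := by
      intro j
      rw [← hv' (φ j)]
      apply mk_eq_of_nrm_eq
      exact nrm_nrm (v' (φ j))
    have hvconv : Filter.Tendsto v Filter.atTop (nhds v₀) := by
      exact (tendsto_subtype_rng (p := fun v : Fin n.dim → ℝ => (∀ i, 0 ≤ v i) ∧ v ≠ 0)
        (f := v) (x := v₀)).2 hconv
    refine ⟨n, ξ, r₀ ∘ φ, v, v₀, hr₀.comp hφ, hvx, ?_, hvconv⟩
    by_contra hne
    have hKc : IsCompact (insert a (Set.range (u ∘ φ))) := hconv.isCompact_insert_range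
    set S : Set (Fan.Orth n) := {w | nrm w.1 ∈ insert a (Set.range (u ∘ φ))} with hS
    have hScl : IsClosed S := hKc.isClosed.preimage continuous_nrm_val
    have hSinv : ScaleInv S := by
      intro b c hb t ht h
      simp only [hS, Set.mem_ofPred_eq] at hb ⊢
      rw [nrm_eq_of_smul b c t ht h]
      exact hb
    have hBcl := qs_isClosed_image hF ξ S hScl hSinv
    have hsub : Filter.Tendsto (x ∘ (r₀ ∘ φ)) Filter.atTop (nhds x₀) :=
      hx.comp (hr₀.comp hφ).tendsto_atTop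
    have hmem : ∀ j, (x ∘ (r₀ ∘ φ)) j ∈ Fan.P.mk ξ '' S := by
      intro j
      refine ⟨v j, ?_, hvx j⟩
      simp only [hS, Set.mem_ofPred_eq]
      right
      refine ⟨j, ?_⟩
      have : nrm (v j).1 = nrm (nrm (v' (φ j)).1) := rfl
      rw [this, nrm_nrm]
      rfl
    have hx₀B : x₀ ∈ Fan.P.mk ξ '' S :=
      hBcl.mem_of_tendsto hsub (Filter.Eventually.of_forall hmem)
    obtain ⟨w, hwS, hw⟩ := hx₀B
    simp only [hS, Set.mem_ofPred_eq] at hwS
    rcases hwS with hwa | ⟨j, hj⟩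
    · apply hne
      rw [← hw]
      apply mk_eq_of_nrm_eq
      have h1 : nrm v₀.1 = a := by
        have : nrm v₀.1 = (sumc a)⁻¹ • a := rfl
        rw [this]
        have : sumc a = 1 := ha.2
        rw [this, inv_one, one_smul]
      rw [h1, hwa]
    · have h1 : Fan.P.mk ξ w = Fan.P.mk ξ (v j) := by
        apply mk_eq_of_nrm_eq
        rw [← hj]
        have : nrm (v j).1 = nrm (nrm (v' (φ j)).1) := rfl
        rw [this, nrm_nrm]
        rfl
      rw [hw, hvx j] at h1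
      exact hI _ (hr₀J (φ j)).1 h1.symm

end QS

end Groth.Agent.Lib.FanCone9
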