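import Mathlib
import Groth.Prelude.Def_W4c6instabfans3Fan
import Groth.Prelude.Def_W4c6instabfans3FanCvx
import Groth.Agent.Lib.FanCone
import Groth.Agent.Lib.FanCone2
import Groth.Agent.Lib.FanCone3
import Groth.Agent.Lib.FanCone4
import Groth.Agent.Lib.FanCone6

/-!
# Formal fans: quasi-concave functions on convex subsets, rational local maxima
-/

namespace Groth.Agent.Lib.FanCvx1

open Instab Instab.ICone CategoryTheory Opposite Limits
open Groth.Agent.Lib.FanCone Groth.Agent.Lib.FanCone2 Groth.Agent.Lib.FanCone3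
  Groth.Agent.Lib.FanCone4 Groth.Agent.Lib.FanCone6

universe u v

variable {F : Fan.{u}} {k n m : ICone}

lemma basis_apply' (n : ICone) (i j : Fin n.dim) :
    (Fan.Orth.basis n i).1 j = if j = i then 1 else 0 := rfl
lemma b00 : (Fan.Orth.basis Fan.two 0).1 0 = 1 := by rw [basis_apply']; exact if_pos rfl
lemma b10 : (Fan.Orth.basis Fan.two 1).1 0 = 0 := by
  rw [basis_apply']; exact if_neg (by decide)
lemma b01 : (Fan.Orth.basis Fan.two 0).1 1 = 0 := by
  rw [basis_apply']; exact if_neg (by decide)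
lemma b11 : (Fan.Orth.basis Fan.two 1).1 1 = 1 := by rw [basis_apply']; exact if_pos rfl

/-- the point `e₀ + t e₁` of the punctured orthant of `ℝ^2`, `t ≥ 0` -/
noncomputable def segPt (t : ℝ) : Fan.Orth Fan.two :=
  ⟨(Fan.Orth.basis Fan.two 0).1 + |t| • (Fan.Orth.basis Fan.two 1).1, fun i => by
    have h0 := (Fan.Orth.basis Fan.two 0).2.1 i
    have h1 := (Fan.Orth.basis Fan.two 1).2.1 i
    simp only [Pi.add_apply, Pi.smul_apply, smul_eq_mul]
    exact add_nonneg h0 (mul_nonneg (abs_nonneg t) h1), fun h => by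
    have := congrFun h 0
    simp only [Pi.add_apply, Pi.smul_apply, smul_eq_mul, Pi.zero_apply, b00, b10] at this
    norm_num at this⟩

lemma segPt_zero : segPt 0 = Fan.Orth.basis Fan.two 0 := by
  apply Subtype.ext
  show (Fan.Orth.basis Fan.two 0).1 + |(0 : ℝ)| • (Fan.Orth.basis Fan.two 1).1 = _
  rw [abs_zero, zero_smul, add_zero]

lemma continuous_segPt : Continuous segPt := by
  apply Continuous.subtype_mk
  exact continuous_const.add ((continuous_abs).smul continuous_const)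

lemma basis_not_collinear : ¬ ∃ c : ℝ, (Fan.Orth.basis Fan.two 1).1 = c • (Fan.Orth.basis Fan.two 0).1 := by
  rintro ⟨c, hc⟩
  have := congrFun hc 1
  simp only [Pi.smul_apply, smul_eq_mul, b11, b01, mul_zero] at this
  norm_num at this

section Main

variable (U : Set (Fan.P F)) (hU : Fan.IsConvex U) {Γ : Type v} [LinearOrder Γ] (Φ : U → Γ)

include hU in
/-- values along a segment from a rational local max -/
theorem le_of_rational_localMax_of_rational (hΦ : Fan.IsQuasiConcaveOn U Φ)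
    (x : U) (hx : (x : Fan.P F).IsRational) (hloc : IsLocalMax Φ x)
    (y : U) (hy : (y : Fan.P F).IsRational) : Φ y ≤ Φ x := by
  by_contra hlt
  push Not at hlt
  have hne : (x : Fan.P F) ≠ y := by
    intro h
    have : x = y := Subtype.ext h
    rw [this] at hlt
    exact lt_irrefl _ hlt
  obtain ⟨τ, hτU, hτ0, hτ1⟩ := hU.2.2 x y x.2 y.2 hx hy hne
  set γ : ℝ → U := fun t => ⟨Fan.P.mk τ (segPt t), hτU ⟨_, rfl⟩⟩ with hγ
  have hγc : Continuous γ :=
    Continuous.subtype_mk ((continuous_mk τ).comp continuous_segPt) _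
  have hγ0 : γ 0 = x := by
    apply Subtype.ext
    simp only [hγ, segPt_zero]
    exact hτ0
  have hgt : ∀ t : ℝ, t ≠ 0 → Φ x < Φ (γ t) := by
    intro t ht
    have h0 : Fan.P.mk τ (Fan.Orth.basis Fan.two 0) ∈ U := hτU ⟨_, rfl⟩
    have h2 : Fan.P.mk τ (Fan.Orth.basis Fan.two 1) ∈ U := hτU ⟨_, rfl⟩
    have h1 : Fan.P.mk τ (segPt t) ∈ U := hτU ⟨_, rfl⟩
    have key := hΦ Fan.two τ (Fan.Orth.basis Fan.two 0) (segPt t) (Fan.Orth.basis Fan.two 1)
      h0 h1 h2 basis_not_collinear ⟨1, |t|, one_pos, abs_pos.2 ht, by rw [one_smul]; rfl⟩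
    have e0 : (⟨_, h0⟩ : U) = x := Subtype.ext hτ0
    have e2 : (⟨_, h2⟩ : U) = y := Subtype.ext hτ1
    rw [e0, e2, min_eq_left hlt.le] at key
    refine lt_of_le_of_ne key.1 fun heq => ?_
    have := key.2 heq.symm
    rw [this] at hlt
    exact lt_irrefl _ hlt
  have hev : ∀ᶠ t in nhds (0 : ℝ), Φ (γ t) ≤ Φ x := by
    have h1 : Filter.Tendsto γ (nhds 0) (nhds x) := by
      rw [← hγ0]
      exact hγc.continuousAt
    exact h1.eventually hloc
  have hev' : ∀ᶠ t in nhdsWithin (0 : ℝ) {0}ᶜ, Φ (γ t) ≤ Φ x ∧ t ≠ 0 :=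
    (hev.filter_mono nhdsWithin_le_nhds).and self_mem_nhdsWithin
  obtain ⟨t, ht1, ht2⟩ := hev'.exists
  exact not_le.2 (hgt t ht2) ht1

include hU in
/-- = S19370, first part -/
theorem le_of_rational_localMax (hΦ : Fan.IsQuasiConcaveOn U Φ)
    (hlsc : ∀ c : Γ, IsClosed {x : U | Φ x ≤ c})
    (x : U) (hx : (x : Fan.P F).IsRational) (hloc : IsLocalMax Φ x) (y : U) : Φ y ≤ Φ x := by
  obtain ⟨S, hS⟩ := hU.2.1
  have hy : (y : Fan.P F) ∈ Set.range (Fan.P.map S.ι) := (Set.ext_iff.1 hS _).1 y.2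
  rw [mem_range_ι_iff] at hy
  obtain ⟨n, σ, v, hσ, hyv⟩ := hy
  have hcell : ∀ w : Fan.Orth n, Fan.P.mk σ w ∈ U := by
    intro w
    refine (Set.ext_iff.1 hS _).2 ?_
    rw [mem_range_ι_iff]
    exact ⟨n, σ, w, hσ, rfl⟩
  set g : Fan.Orth n → U := fun w => ⟨Fan.P.mk σ w, hcell w⟩ with hg
  have hgc : Continuous g := Continuous.subtype_mk (continuous_mk σ) _
  set D : Set (Fan.Orth n) := g ⁻¹' {z : U | Φ z ≤ Φ x} with hD
  have hDcl : IsClosed D := (hlsc (Φ x)).preimage hgc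
  have hDinv : ScaleInv D := by
    intro a b ha c hc h
    have : g b = g a := Subtype.ext (mk_smul σ a b c hc h)
    simp only [hD, Set.mem_preimage, Set.mem_ofPred_eq] at ha ⊢
    rw [this]
    exact ha
  have huniv := eq_univ_of_intPt D hDcl hDinv fun r hr hr0 =>
    le_of_rational_localMax_of_rational U hU Φ hΦ x hx hloc (g (intPt r hr hr0))
      (isRational_mk_intPt σ r hr hr0)
  have hv : v ∈ D := by rw [huniv]; trivial
  have : g v = y := Subtype.ext hyv.symm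
  simp only [hD, Set.mem_preimage, Set.mem_ofPred_eq, this] at hv
  exact hv

include hU in
/-- = S19370 -/
theorem rational_localMax_main (hΦ : Fan.IsQuasiConcaveOn U Φ)
    (hlsc : ∀ c : Γ, IsClosed {x : U | Φ x ≤ c}) :
    (∀ x : U, (x : Fan.P F).IsRational → IsLocalMax Φ x → ∀ y : U, Φ y ≤ Φ x) ∧
    (Fan.IsStrictQuasiConcaveOn U Φ → ∀ x y : U, (x : Fan.P F).IsRational →
      (y : Fan.P F).IsRational → IsLocalMax Φ x → IsLocalMax Φ y → x = y) := by
  refine ⟨fun x hx hloc y => le_of_rational_localMax U hU Φ hΦ hlsc x hx hloc y, ?_⟩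
  intro hstrict x y hx hy hlx hly
  by_contra hne
  have hne' : (x : Fan.P F) ≠ y := fun h => hne (Subtype.ext h)
  obtain ⟨τ, hτU, hτ0, hτ1⟩ := hU.2.2 x y x.2 y.2 hx hy hne'
  have h0 : Fan.P.mk τ (Fan.Orth.basis Fan.two 0) ∈ U := hτU ⟨_, rfl⟩
  have h2 : Fan.P.mk τ (Fan.Orth.basis Fan.two 1) ∈ U := hτU ⟨_, rfl⟩
  have h1 : Fan.P.mk τ (segPt 1) ∈ U := hτU ⟨_, rfl⟩
  have key := hstrict Fan.two τ (Fan.Orth.basis Fan.two 0) (segPt 1) (Fan.Orth.basis Fan.two 1)
    h0 h1 h2 basis_not_collinear ⟨1, 1, one_pos, one_pos, by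
      rw [one_smul]
      show (Fan.Orth.basis Fan.two 0).1 + |(1 : ℝ)| • (Fan.Orth.basis Fan.two 1).1 = _
      rw [abs_one]⟩
  have e0 : (⟨_, h0⟩ : U) = x := Subtype.ext hτ0
  have e2 : (⟨_, h2⟩ : U) = y := Subtype.ext hτ1
  rw [e0, e2] at key
  have hxy : Φ y ≤ Φ x := le_of_rational_localMax U hU Φ hΦ hlsc x hx hlx y
  have hyx : Φ x ≤ Φ y := le_of_rational_localMax U hU Φ hΦ hlsc y hy hly x
  have hz := le_of_rational_localMax U hU Φ hΦ hlsc x hx hlx ⟨_, h1⟩
  rw [min_eq_left hyx] at key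
  exact not_le.2 key hz

end Main

end Groth.Agent.Lib.FanCvx1
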