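import Mathlib
import Groth.Prelude.Def_W4c6instabfans3Fan
import Groth.Prelude.Def_W4c6instabfans3FanCvx
import Groth.Agent.Lib.FanCone
import Groth.Agent.Lib.FanCone2
import Groth.Agent.Lib.FanCone3
import Groth.Agent.Lib.FanCone4
import Groth.Agent.Lib.FanCone6
import Groth.Agent.Lib.FanCone7
import Groth.Agent.Lib.FanCone8
import Groth.Agent.Lib.FanCvx1

/-!
# Formal fans: uniqueness of local maxima of strictly quasi-concave functions
-/

namespace Groth.Agent.Lib.FanCvx2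

open Instab Instab.ICone CategoryTheory Opposite Limits Filter Topology
open Groth.Agent.Lib.FanCone Groth.Agent.Lib.FanCone2 Groth.Agent.Lib.FanCone3
  Groth.Agent.Lib.FanCone4 Groth.Agent.Lib.FanCone6 Groth.Agent.Lib.FanCone7
  Groth.Agent.Lib.FanCone8 Groth.Agent.Lib.FanCvx1

universe u v

section General

/-- limits of inequalities along cluster points -/
lemma le_of_tendsto_of_mapClusterPt {α Γ : Type*} [LinearOrder Γ] [TopologicalSpace Γ]
    [OrderTopology Γ] {𝓕 : Filter α} (a b : α → Γ) (A B : Γ) (ha : Tendsto a 𝓕 (𝓝 A))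
    (hb : MapClusterPt B 𝓕 b) (hab : ∀ᶠ p in 𝓕, a p ≤ b p) : A ≤ B := by
  by_contra h
  have hopen : IsOpen {p : Γ × Γ | ¬ p.1 ≤ p.2} :=
    (isClosed_le continuous_fst continuous_snd).isOpen_compl
  have hmem : {p : Γ × Γ | ¬ p.1 ≤ p.2} ∈ 𝓝 (A, B) := hopen.mem_nhds h
  obtain ⟨u, hu, v, hv, huv⟩ := mem_nhds_prod_iff.1 hmem
  have h1 : ∃ᶠ p in 𝓕, b p ∈ v := hb.frequently hv
  have h2 : ∀ᶠ p in 𝓕, a p ∈ u := ha hu
  obtain ⟨p, ⟨hp1, hp2⟩, hp3⟩ := ((h1.and_eventually h2).and_eventually hab).exists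
  exact huv (Set.mk_mem_prod hp2 hp1) hp3

/-- a path from the interior of a closed set to its complement meets the boundary -/
lemma exists_boundary_point {X : Type*} [TopologicalSpace X] (C : Set X) (hC : IsClosed C)
    (γ : ℝ → X) (hγ : Continuous γ) (h0 : γ 0 ∈ interior C) (h1 : γ 1 ∉ C) :
    ∃ t ∈ Set.Icc (0 : ℝ) 1, γ t ∈ C ∧ γ t ∉ interior C := by
  by_contra hcon
  push Not at hcon
  have hpre := isPreconnected_Icc (a := (0 : ℝ)) (b := 1)
  have := hpre (γ ⁻¹' interior C) (γ ⁻¹' Cᶜ) (isOpen_interior.preimage hγ)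
    (hC.isOpen_compl.preimage hγ) ?_ ⟨0, ⟨le_refl _, zero_le_one⟩, h0⟩
    ⟨1, ⟨zero_le_one, le_refl _⟩, h1⟩
  · obtain ⟨t, -, ht1, ht2⟩ := this
    exact ht2 (interior_subset ht1)
  · intro t ht
    by_cases htC : γ t ∈ C
    · exact Or.inl (hcon t ht htC)
    · exact Or.inr htC

end General


section Path

/-- the point `|1 - t| e₀ + |t| e₁` of the punctured orthant of `ℝ^2` -/
noncomputable def pathPt (t : ℝ) : Fan.Orth Fan.two :=
  ⟨|1 - t| • (Fan.Orth.basis Fan.two 0).1 + |t| • (Fan.Orth.basis Fan.two 1).1, fun i => by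
    have h0 := (Fan.Orth.basis Fan.two 0).2.1 i
    have h1 := (Fan.Orth.basis Fan.two 1).2.1 i
    simp only [Pi.add_apply, Pi.smul_apply, smul_eq_mul]
    exact add_nonneg (mul_nonneg (abs_nonneg _) h0) (mul_nonneg (abs_nonneg t) h1), fun h => by
    have e0 := congrFun h 0
    have e1 := congrFun h 1
    simp only [Pi.add_apply, Pi.smul_apply, smul_eq_mul, Pi.zero_apply, b00, b10, b01, b11,
      mul_one, mul_zero, add_zero, zero_add] at e0 e1
    have h1 : t = 0 := abs_eq_zero.1 e1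
    rw [h1] at e0
    simp at e0⟩

lemma pathPt_val (t : ℝ) : (pathPt t).1 =
    |1 - t| • (Fan.Orth.basis Fan.two 0).1 + |t| • (Fan.Orth.basis Fan.two 1).1 := rfl

lemma pathPt_zero : pathPt 0 = Fan.Orth.basis Fan.two 0 := by
  apply Subtype.ext
  rw [pathPt_val]
  simp only [sub_zero, abs_one, abs_zero, one_smul, zero_smul, add_zero]

lemma pathPt_one : pathPt 1 = Fan.Orth.basis Fan.two 1 := by
  apply Subtype.ext
  rw [pathPt_val]
  simp only [sub_self, abs_one, abs_zero, one_smul, zero_smul, zero_add]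

lemma continuous_pathPt : Continuous pathPt := by
  apply Continuous.subtype_mk
  exact ((continuous_abs.comp (continuous_const.sub continuous_id)).smul continuous_const).add
    (continuous_abs.smul continuous_const)

end Path

section Main

variable {F : Fan.{u}} (U : Set (Fan.P F)) (hU : Fan.IsConvex U)
  {Γ : Type v} [LinearOrder Γ] (Φ : U → Γ)

include hU in
/-- rational points are dense in a convex (realizable) set -/
lemma exists_rational_mem_open (O : Set U) (hO : IsOpen O) (hne : O.Nonempty) :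
    ∃ p ∈ O, (p : Fan.P F).IsRational := by
  obtain ⟨S, hS⟩ := hU.2.1
  obtain ⟨p, hp⟩ := hne
  have hpU : (p : Fan.P F) ∈ Set.range (Fan.P.map S.ι) := (Set.ext_iff.1 hS _).1 p.2
  rw [mem_range_ι_iff] at hpU
  obtain ⟨n, σ, v, hσ, hpv⟩ := hpU
  have hcell : ∀ w : Fan.Orth n, Fan.P.mk σ w ∈ U := by
    intro w
    refine (Set.ext_iff.1 hS _).2 ?_
    rw [mem_range_ι_iff]
    exact ⟨n, σ, w, hσ, rfl⟩
  set g : Fan.Orth n → U := fun w => ⟨Fan.P.mk σ w, hcell w⟩ with hg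
  have hgc : Continuous g := Continuous.subtype_mk (continuous_mk σ) _
  by_contra hcon
  push Not at hcon
  set D : Set (Fan.Orth n) := g ⁻¹' Oᶜ with hD
  have hDcl : IsClosed D := hO.isClosed_compl.preimage hgc
  have hDinv : ScaleInv D := by
    intro a b ha c hc h
    have : g b = g a := Subtype.ext (mk_smul σ a b c hc h)
    simp only [hD, Set.mem_preimage] at ha ⊢
    rw [this]
    exact ha
  have huniv := eq_univ_of_intPt D hDcl hDinv fun r hr hr0 => by
    simp only [hD, Set.mem_preimage, Set.mem_compl_iff]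
    intro hmem
    exact hcon _ hmem (isRational_mk_intPt σ r hr hr0)
  have hv : v ∈ D := by rw [huniv]; trivial
  have : g v = p := Subtype.ext hpv.symm
  simp only [hD, Set.mem_preimage, this] at hv
  exact hv hp

include hU in
/-- a path between two distinct rational points along which `Φ` stays above the minimum of the
end values -/
lemma exists_path (hΦ : Fan.IsStrictQuasiConcaveOn U Φ) (x' y' : U)
    (hx' : (x' : Fan.P F).IsRational) (hy' : (y' : Fan.P F).IsRational) (hne : x' ≠ y') :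
    ∃ γ : ℝ → U, Continuous γ ∧ γ 0 = x' ∧ γ 1 = y' ∧
      ∀ t ∈ Set.Icc (0 : ℝ) 1, min (Φ x') (Φ y') ≤ Φ (γ t) := by
  have hne' : (x' : Fan.P F) ≠ y' := fun h => hne (Subtype.ext h)
  obtain ⟨τ, hτU, hτ0, hτ1⟩ := hU.2.2 x' y' x'.2 y'.2 hx' hy' hne'
  refine ⟨fun t => ⟨Fan.P.mk τ (pathPt t), hτU ⟨_, rfl⟩⟩,
    Continuous.subtype_mk ((continuous_mk τ).comp continuous_pathPt) _, ?_, ?_, ?_⟩
  · apply Subtype.ext
    simp only [pathPt_zero]
    exact hτ0
  · apply Subtype.ext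
    simp only [pathPt_one]
    exact hτ1
  · intro t ht
    have h0 : Fan.P.mk τ (Fan.Orth.basis Fan.two 0) ∈ U := hτU ⟨_, rfl⟩
    have h2 : Fan.P.mk τ (Fan.Orth.basis Fan.two 1) ∈ U := hτU ⟨_, rfl⟩
    have e0 : (⟨_, h0⟩ : U) = x' := Subtype.ext hτ0
    have e2 : (⟨_, h2⟩ : U) = y' := Subtype.ext hτ1
    show min (Φ x') (Φ y') ≤ Φ ⟨Fan.P.mk τ (pathPt t), hτU ⟨_, rfl⟩⟩
    rcases eq_or_lt_of_le ht.1 with h | h
    · have : (⟨Fan.P.mk τ (pathPt t), hτU ⟨_, rfl⟩⟩ : U) = x' := by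
        apply Subtype.ext
        simp only [← h, pathPt_zero]
        exact hτ0
      rw [this]
      exact min_le_left _ _
    rcases eq_or_lt_of_le ht.2 with h' | h'
    · have : (⟨Fan.P.mk τ (pathPt t), hτU ⟨_, rfl⟩⟩ : U) = y' := by
        apply Subtype.ext
        simp only [h', pathPt_one]
        exact hτ1
      rw [this]
      exact min_le_right _ _
    · have h1 : Fan.P.mk τ (pathPt t) ∈ U := hτU ⟨_, rfl⟩
      have key := hΦ Fan.two τ (Fan.Orth.basis Fan.two 0) (pathPt t) (Fan.Orth.basis Fan.two 1)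
        h0 h1 h2 basis_not_collinear ⟨1 - t, t, by linarith, h, by
          rw [pathPt_val, abs_of_pos (by linarith : (0 : ℝ) < 1 - t), abs_of_pos h]⟩
      rw [e0, e2] at key
      exact key.le


include hU in
/-- a point that is not the unique maximum is approached by points with at least its value -/
theorem exists_near (hT2 : T2Space (Fan.P F)) (hUc : IsCompact U)
    [TopologicalSpace Γ] [OrderTopology Γ] (hΦc : Continuous Φ)
    (hΦ : Fan.IsStrictQuasiConcaveOn U Φ) (x y : U) (hxy : x ≠ y) (hle : Φ x ≤ Φ y)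
    (V : Set U) (hV : V ∈ 𝓝 x) : ∃ b ∈ V, b ≠ x ∧ Φ x ≤ Φ b := by
  classical
  have : CompactSpace U := isCompact_iff_compactSpace.1 hUc
  by_cases hyV : y ∈ V
  · exact ⟨y, hyV, hxy.symm, hle⟩
  obtain ⟨V₁, V₂, hV₁o, hV₂o, hxV₁, hyV₂, hdisj⟩ := t2_separation hxy
  have hVV : V ∩ V₁ ∈ 𝓝 x := Filter.inter_mem hV (hV₁o.mem_nhds hxV₁)
  obtain ⟨C, hCn, hCcl, hCsub⟩ := exists_mem_nhds_isClosed_subset hVV
  set Rat : Set U := {p | (p : Fan.P F).IsRational} with hRat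
  have hdense : ∀ p : U, p ∈ closure Rat := by
    intro p
    rw [mem_closure_iff]
    intro o ho hpo
    obtain ⟨r, hr, hrr⟩ := exists_rational_mem_open U hU o ho ⟨p, hpo⟩
    exact ⟨r, hr, hrr⟩
  have : (𝓝[Rat] x).NeBot := mem_closure_iff_nhdsWithin_neBot.1 (hdense x)
  have : (𝓝[Rat] y).NeBot := mem_closure_iff_nhdsWithin_neBot.1 (hdense y)
  set 𝓕 : Filter (U × U) := (𝓝[Rat] x) ×ˢ (𝓝[Rat] y) with h𝓕
  have hxint : x ∈ interior C := mem_interior_iff_mem_nhds.2 hCn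
  have hA : (interior C ∩ Rat) ×ˢ (V₂ ∩ Rat) ∈ 𝓕 := by
    apply Filter.prod_mem_prod
    · exact Filter.inter_mem (mem_nhdsWithin_of_mem_nhds (isOpen_interior.mem_nhds hxint))
        self_mem_nhdsWithin
    · exact Filter.inter_mem (mem_nhdsWithin_of_mem_nhds (hV₂o.mem_nhds hyV₂))
        self_mem_nhdsWithin
  have hex : ∀ p ∈ (interior C ∩ Rat) ×ˢ (V₂ ∩ Rat),
      ∃ q, q ∈ C \ interior C ∧ min (Φ p.1) (Φ p.2) ≤ Φ q := by
    rintro ⟨p1, p2⟩ ⟨⟨hp1C, hp1R⟩, ⟨hp2V, hp2R⟩⟩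
    have hp2C : p2 ∉ C := fun h =>
      Set.disjoint_left.1 hdisj (hCsub h).2 hp2V
    have hne : p1 ≠ p2 := by
      rintro rfl
      exact hp2C (interior_subset hp1C)
    obtain ⟨γ, hγc, hγ0, hγ1, hγΦ⟩ := exists_path U hU Φ hΦ p1 p2 hp1R hp2R hne
    obtain ⟨t, ht, htC, htint⟩ := exists_boundary_point C hCcl γ hγc (by rw [hγ0]; exact hp1C)
      (by rw [hγ1]; exact hp2C)
    exact ⟨γ t, ⟨htC, htint⟩, hγΦ t ht⟩
  set qf : U × U → U := fun p =>
    if h : ∃ q, q ∈ C \ interior C ∧ min (Φ p.1) (Φ p.2) ≤ Φ q then h.choose else x with hqf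
  have hqf_spec : ∀ p ∈ (interior C ∩ Rat) ×ˢ (V₂ ∩ Rat),
      qf p ∈ C \ interior C ∧ min (Φ p.1) (Φ p.2) ≤ Φ (qf p) := by
    intro p hp
    have h := hex p hp
    simp only [hqf, dif_pos h]
    exact h.choose_spec
  have hbcl : IsClosed (C \ interior C) := hCcl.sdiff isOpen_interior
  have hbc : IsCompact (C \ interior C) := hbcl.isCompact
  have hmap : Filter.map qf 𝓕 ≤ 𝓟 (C \ interior C) := by
    rw [Filter.le_principal_iff, Filter.mem_map]
    exact Filter.mem_of_superset hA fun p hp => (hqf_spec p hp).1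
  obtain ⟨q₀, hq₀, hcl⟩ := hbc.exists_mapClusterPt hmap
  have hcl' : MapClusterPt (Φ q₀) 𝓕 (Φ ∘ qf) := hcl.continuousAt_comp hΦc.continuousAt
  have htend : Tendsto (fun p : U × U => min (Φ p.1) (Φ p.2)) 𝓕 (𝓝 (min (Φ x) (Φ y))) := by
    apply Tendsto.min
    · exact (hΦc.tendsto x).comp (tendsto_fst.mono_right nhdsWithin_le_nhds)
    · exact (hΦc.tendsto y).comp (tendsto_snd.mono_right nhdsWithin_le_nhds)
  have hev : ∀ᶠ p in 𝓕, min (Φ p.1) (Φ p.2) ≤ (Φ ∘ qf) p :=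
    Filter.mem_of_superset hA fun p hp => (hqf_spec p hp).2
  have hfin := le_of_tendsto_of_mapClusterPt _ _ _ _ htend hcl' hev
  rw [min_eq_left hle] at hfin
  refine ⟨q₀, (hCsub hq₀.1).1, ?_, hfin⟩
  rintro rfl
  exact hq₀.2 hxint


include hU in
/-- a local maximum is the unique point with at least its value -/
theorem no_other (hF : F.IsQuasiSeparated) (hT2 : T2Space (Fan.P F)) (hUc : IsCompact U)
    [TopologicalSpace Γ] [OrderTopology Γ] (hΦc : Continuous Φ)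
    (hΦ : Fan.IsStrictQuasiConcaveOn U Φ) (x y : U) (hx : IsLocalMax Φ x)
    (hle : Φ x ≤ Φ y) : x = y := by
  classical
  by_contra hxy
  have : CompactSpace U := isCompact_iff_compactSpace.1 hUc
  -- the set of other points with at least the value of `x`
  set B : Set U := {b | b ≠ x ∧ Φ x ≤ Φ b} with hB
  have hxclB : x ∈ closure B := by
    rw [mem_closure_iff_nhds]
    intro V hV
    obtain ⟨b, hbV, hbx, hbΦ⟩ := exists_near U hU Φ hT2 hUc hΦc hΦ x y hxy hle V hV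
    exact ⟨b, hbV, hbx, hbΦ⟩
  set B' : Set (Fan.P F) := Subtype.val '' B with hB'
  have hxB' : (x : Fan.P F) ∈ closure B' :=
    image_closure_subset_closure_image continuous_subtype_val ⟨x, hxclB, rfl⟩
  have hxnB' : (x : Fan.P F) ∉ B' := by
    rintro ⟨b, hb, hbx⟩
    exact hb.1 (Subtype.ext hbx)
  have hB'nc : ¬ IsClosed B' := fun h => hxnB' (h.closure_eq ▸ hxB')
  rw [qs_isClosed_iff hF] at hB'nc
  push Not at hB'nc
  obtain ⟨n, ξ, hnc⟩ := hB'nc
  set D : Set (Fan.Orth n) := Fan.P.mk ξ ⁻¹' B' with hD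
  have hDinv : ScaleInv D := scaleInv_preimage_mk ξ B'
  have hDnc : ¬ IsClosed D := by
    intro hDcl
    apply hnc
    have := qs_isClosed_image hF ξ D hDcl hDinv
    rwa [hD, Set.image_preimage_eq_inter_range] at this
  -- the closed set of points with value at least that of `x`
  set E' : Set (Fan.P F) := Subtype.val '' {b : U | Φ x ≤ Φ b} with hE'
  have hE'cl : IsClosed E' := by
    have h1 : IsClosed {b : U | Φ x ≤ Φ b} := isClosed_le continuous_const hΦc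
    exact (h1.isCompact.image continuous_subtype_val).isClosed
  have hDE : closure D ⊆ Fan.P.mk ξ ⁻¹' E' := by
    apply closure_minimal _ (hE'cl.preimage (continuous_mk ξ))
    rintro u ⟨b, hb, hbu⟩
    exact ⟨b, hb.2, hbu⟩
  obtain ⟨u₀, hu₀cl, hu₀D⟩ : ∃ u₀, u₀ ∈ closure D ∧ u₀ ∉ D := by
    by_contra hcon
    push Not at hcon
    exact hDnc (closure_eq_iff_isClosed.1 (Set.Subset.antisymm hcon subset_closure))
  have hu₀x : Fan.P.mk ξ u₀ = x := by
    obtain ⟨b, hb, hbu⟩ := hDE hu₀cl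
    by_cases hbx : b = x
    · rw [← hbu, hbx]
    · exact absurd ⟨b, ⟨hbx, hb⟩, hbu⟩ hu₀D
  -- the neighbourhood where `Φ ≤ Φ x`
  have hW : {z : U | Φ z ≤ Φ x} ∈ 𝓝 x := hx
  obtain ⟨W', hW'n, hW'sub⟩ := mem_nhds_subtype U x _ |>.1 hW
  obtain ⟨W'', hW''sub, hW''o, hxW''⟩ := mem_nhds_iff.1 hW'n
  have hOo : IsOpen (Fan.P.mk ξ ⁻¹' W'') := hW''o.preimage (continuous_mk ξ)
  obtain ⟨O', hO'o, hO'eq⟩ := isOpen_induced_iff.1 hOo
  have hu₀O' : u₀.1 ∈ O' := by
    have : u₀ ∈ Fan.P.mk ξ ⁻¹' W'' := by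
      show Fan.P.mk ξ u₀ ∈ W''
      rw [hu₀x]; exact hxW''
    rw [← hO'eq] at this
    exact this
  obtain ⟨ε, hε, hball⟩ := Metric.isOpen_iff.1 hO'o u₀.1 hu₀O'
  have hu₀cl' : u₀.1 ∈ closure (Subtype.val '' D) :=
    (closure_subtype (p := fun v : Fin n.dim → ℝ => (∀ i, 0 ≤ v i) ∧ v ≠ 0)
      (x := u₀) (s := D)).1 hu₀cl
  obtain ⟨_, ⟨u, huD, rfl⟩, hdist⟩ := Metric.mem_closure_iff.1 hu₀cl' ε hε
  obtain ⟨b, hbB, hbu⟩ := huD
  -- the midpoint
  have hmid_nn : ∀ i, 0 ≤ ((1 / 2 : ℝ) • u₀.1 + (1 / 2 : ℝ) • u.1) i := by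
    intro i
    simp only [Pi.add_apply, Pi.smul_apply, smul_eq_mul]
    have := u₀.2.1 i
    have := u.2.1 i
    positivity
  have hmid_ne : (1 / 2 : ℝ) • u₀.1 + (1 / 2 : ℝ) • u.1 ≠ 0 := by
    intro h0
    apply u₀.2.2
    funext i
    have h1 := congrFun h0 i
    simp only [Pi.add_apply, Pi.smul_apply, smul_eq_mul, Pi.zero_apply] at h1
    have := u₀.2.1 i
    have := u.2.1 i
    simp only [Pi.zero_apply]
    linarith
  set vm : Fan.Orth n := ⟨(1 / 2 : ℝ) • u₀.1 + (1 / 2 : ℝ) • u.1, hmid_nn, hmid_ne⟩ with hvm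
  have h₀ : Fan.P.mk ξ u₀ ∈ U := by rw [hu₀x]; exact x.2
  have h₂ : Fan.P.mk ξ u ∈ U := by rw [← hbu]; exact b.2
  have hcomb : ∃ a c : ℝ, 0 < a ∧ 0 < c ∧ vm.1 = a • u₀.1 + c • u.1 :=
    ⟨1 / 2, 1 / 2, by norm_num, by norm_num, rfl⟩
  have h₁ : Fan.P.mk ξ vm ∈ U := hU.1 n ξ u₀ vm u h₀ h₂ hcomb
  have hncol : ¬ ∃ c : ℝ, u.1 = c • u₀.1 := by
    rintro ⟨c, hc⟩
    have hcpos : 0 < c := by
      by_contra hcn
      push Not at hcn
      apply u.2.2
      funext i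
      have h1 := congrFun hc i
      simp only [Pi.smul_apply, smul_eq_mul] at h1
      have h2 := u.2.1 i
      have h3 := u₀.2.1 i
      have h4 : c * u₀.1 i ≤ 0 := mul_nonpos_of_nonpos_of_nonneg hcn h3
      simp only [Pi.zero_apply]
      linarith
    have := mk_smul ξ u₀ u c hcpos hc
    rw [hu₀x, ← hbu] at this
    exact hbB.1 (Subtype.ext this)
  have key := hΦ n ξ u₀ vm u h₀ h₁ h₂ hncol hcomb
  have e0 : (⟨_, h₀⟩ : U) = x := Subtype.ext hu₀x
  have e2 : (⟨_, h₂⟩ : U) = b := Subtype.ext hbu.symm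
  rw [e0, e2, min_eq_left hbB.2] at key
  -- the midpoint lies in the neighbourhood
  have hvmball : vm.1 ∈ Metric.ball u₀.1 ε := by
    rw [Metric.mem_ball, dist_comm]
    have h1 : dist u₀.1 vm.1 = (1 / 2) * dist u₀.1 u.1 := by
      rw [dist_eq_norm, dist_eq_norm]
      have : u₀.1 - vm.1 = (1 / 2 : ℝ) • (u₀.1 - u.1) := by
        funext i
        have hvmi : vm.1 i = (1 / 2 : ℝ) * u₀.1 i + (1 / 2 : ℝ) * u.1 i := rfl
        simp only [Pi.sub_apply, Pi.smul_apply, smul_eq_mul, hvmi]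
        ring
      rw [this, norm_smul]
      norm_num
    rw [h1]
    have := dist_nonneg (x := u₀.1) (y := u.1)
    linarith
  have hvmW'' : Fan.P.mk ξ vm ∈ W'' := by
    have h1 : vm ∈ Subtype.val ⁻¹' O' := hball hvmball
    exact (Set.ext_iff.1 hO'eq vm).1 h1
  have hvmW : (⟨_, h₁⟩ : U) ∈ {z : U | Φ z ≤ Φ x} := hW'sub (hW''sub hvmW'')
  exact not_le.2 key hvmW

include hU in
/-- = S19371 -/
theorem unique_localMax (hF : F.IsQuasiSeparated) (hT2 : T2Space (Fan.P F)) (hUc : IsCompact U)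
    [TopologicalSpace Γ] [OrderTopology Γ] (hΦc : Continuous Φ)
    (hΦ : Fan.IsStrictQuasiConcaveOn U Φ) (x y : U) (hx : IsLocalMax Φ x)
    (hy : IsLocalMax Φ y) : x = y := by
  rcases le_total (Φ x) (Φ y) with h | h
  · exact no_other U hU Φ hF hT2 hUc hΦc hΦ x y hx h
  · exact (no_other U hU Φ hF hT2 hUc hΦc hΦ y x hy h).symm

end Main

end Groth.Agent.Lib.FanCvx2
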