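import Mathlib
import Groth.Agent.Lib.ProjDim38

set_option autoImplicit false
universe u

namespace Groth.Agent.Lib.Fano99

open MvPolynomial

section chain
variable {k : Type u} [Field k] {σ : Type*} [Fintype σ] [DecidableEq σ]

/-- chain rule for substituting univariate polynomials into a multivariate polynomial. -/
lemma derivative_aeval (a : σ → Polynomial k) (p : MvPolynomial σ k) :
    Polynomial.derivative (aeval a p) = ∑ i, aeval a (pderiv i p) * Polynomial.derivative (a i) := by
  induction p using MvPolynomial.induction_on with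
  | C c => simp
  | add p q hp hq =>
    simp only [map_add, hp, hq, add_mul, Finset.sum_add_distrib]
  | mul_X p j hp =>
    simp only [map_mul, aeval_X, Polynomial.derivative_mul, hp, Derivation.leibniz, pderiv_X,
      smul_eq_mul, map_add, add_mul, Finset.sum_add_distrib]
    have h1 : ∑ x, a j * aeval a (pderiv x p) * Polynomial.derivative (a x) =
        (∑ i, aeval a (pderiv i p) * Polynomial.derivative (a i)) * a j := by
      rw [Finset.sum_mul]
      refine Finset.sum_congr rfl fun i _ => ?_
      ring
    have h2 : ∑ x, aeval a p * aeval a (Pi.single (M := fun _ => MvPolynomial σ k) x 1 j) *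
        Polynomial.derivative (a x) = aeval a p * Polynomial.derivative (a j) := by
      rw [Finset.sum_eq_single j]
      · simp
      · intro i _ hij
        simp [Pi.single_eq_of_ne (Ne.symm hij)]
      · intro h; exact absurd (Finset.mem_univ j) h
    rw [h1, h2]; ring

lemma eval_aeval_poly (a : σ → Polynomial k) (p : MvPolynomial σ k) (t : k) :
    Polynomial.eval t (aeval a p) = eval (fun i => Polynomial.eval t (a i)) p := by
  induction p using MvPolynomial.induction_on with
  | C c => simp
  | add p q hp hq => simp [hp, hq]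
  | mul_X p j hp => simp [hp]

lemma eval_aeval_mv {τ : Type*} (a : σ → MvPolynomial τ k) (p : MvPolynomial σ k) (y : τ → k) :
    eval y (aeval a p) = eval (fun i => eval y (a i)) p := by
  induction p using MvPolynomial.induction_on with
  | C c => simp
  | add p q hp hq => simp only [map_add, hp, hq]
  | mul_X p j hp => simp only [map_mul, aeval_X, eval_X, hp]

end chain

section main
variable {k : Type u} [Field k] [IsAlgClosed k] {n : ℕ}

/-- If `f` vanishes on the line `u + t u'` then the directional derivative at `u` along `u'`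
vanishes. -/
lemma dirDeriv_eq_zero (f : MvPolynomial (Fin (n + 1)) k) (u u' : Fin (n + 1) → k)
    (h : ∀ t : k, eval (fun i => u i + u' i * t) f = 0) :
    ∑ i, eval u (pderiv i f) * u' i = 0 := by
  classical
  let a : Fin (n + 1) → Polynomial k := fun i => Polynomial.C (u i) + Polynomial.C (u' i) * Polynomial.X
  have hp : aeval a f = 0 := by
    apply Polynomial.funext
    intro t
    rw [eval_aeval_poly, Polynomial.eval_zero]
    have := h t
    simpa [a] using this
  have hd := congrArg (fun q => Polynomial.eval 0 (Polynomial.derivative q)) hp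
  simp only [derivative_aeval, Polynomial.derivative_zero, Polynomial.eval_zero,
    Polynomial.eval_finsetSum, Polynomial.eval_mul, eval_aeval_poly] at hd
  rw [← hd]
  have ha0 : (fun i => Polynomial.eval 0 (a i)) = u := by
    funext j
    simp [a]
  rw [ha0]
  refine Finset.sum_congr rfl fun i _ => ?_
  congr 1
  simp [a]

theorem fano_main (d : ℕ) (hd : 2 ≤ d) (f : MvPolynomial (Fin (n + 1)) k) (hf : f.IsHomogeneous d)
    (U : Submodule k (Fin (n + 1) → k)) (hU : ∀ u ∈ U, eval u f = 0)
    (hsm : ∀ u ∈ U, u ≠ 0 → ∃ i : Fin (n + 1), eval u (pderiv i f) ≠ 0) :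
    2 * Module.finrank k ↥U ≤ n + 1 := by
  classical
  by_contra hcon
  push Not at hcon
  obtain ⟨U', hU'⟩ := Submodule.exists_isCompl U
  set m := Module.finrank k ↥U with hm
  set r := Module.finrank k ↥U' with hr
  have hmr : m + r = n + 1 := by
    have := Submodule.finrank_add_eq_of_isCompl hU'
    simpa using this
  have hrm : r < m := by omega
  let b := Module.finBasis k ↥U
  let c := Module.finBasis k ↥U'
  -- the substitution `x_i = ∑_j y_j (b_j)_i`
  let a : Fin (n + 1) → MvPolynomial (Fin m) k := fun i => ∑ j, C ((b j : Fin (n + 1) → k) i) * X j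
  let G : Fin (n + 1) → MvPolynomial (Fin m) k := fun i => aeval a (pderiv i f)
  let g : Fin r → MvPolynomial (Fin m) k := fun l => ∑ i, C ((c l : Fin (n + 1) → k) i) * G i
  have heval_a : ∀ (y : Fin m → k) (i : Fin (n + 1)),
      eval y (a i) = ((b.equivFun.symm y : ↥U) : Fin (n + 1) → k) i := by
    intro y i
    rw [Module.Basis.equivFun_symm_apply]
    simp [a, mul_comm]
  have heval_G : ∀ (y : Fin m → k) (i : Fin (n + 1)),
      eval y (G i) = eval ((b.equivFun.symm y : ↥U) : Fin (n + 1) → k) (pderiv i f) := by
    intro y i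
    show eval y (aeval a (pderiv i f)) = _
    rw [eval_aeval_mv]
    have : (fun i => eval y (a i)) = ((b.equivFun.symm y : ↥U) : Fin (n + 1) → k) :=
      funext (heval_a y)
    rw [this]
  have heval_g : ∀ (y : Fin m → k) (l : Fin r), eval y (g l) =
      ∑ i, eval ((b.equivFun.symm y : ↥U) : Fin (n + 1) → k) (pderiv i f) *
        (c l : Fin (n + 1) → k) i := by
    intro y l
    simp only [g, map_sum, map_mul, eval_C, heval_G]
    refine Finset.sum_congr rfl fun i _ => ?_
    ring
  -- the `g l` vanish at the origin
  have hg0 : ∀ l, eval (0 : Fin m → k) (g l) = 0 := by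
    intro l
    rw [heval_g]
    refine Finset.sum_eq_zero fun i _ => ?_
    have h0 : ((b.equivFun.symm (0 : Fin m → k) : ↥U) : Fin (n + 1) → k) = 0 := by simp
    rw [h0]
    have hh : (pderiv i f).IsHomogeneous (d - 1) := hf.pderiv
    have : eval (0 : Fin (n + 1) → k) (pderiv i f) = 0 := by
      rw [eval_zero, constantCoeff_eq]
      apply hh.coeff_eq_zero
      simp; omega
    rw [this, zero_mul]
  obtain ⟨y, hy0, hy⟩ := Groth.Agent.Lib.ProjDim38.exists_common_zero
    (Finset.univ.image g) (lt_of_le_of_lt Finset.card_image_le (by simpa using hrm))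
    (by
      intro p hp
      obtain ⟨l, -, rfl⟩ := Finset.mem_image.mp hp
      exact hg0 l)
  have hyg : ∀ l, eval y (g l) = 0 := fun l => hy _ (Finset.mem_image_of_mem g (Finset.mem_univ l))
  set u : ↥U := b.equivFun.symm y with hu
  have hu0 : (u : Fin (n + 1) → k) ≠ 0 := by
    intro h
    apply hy0
    have : u = 0 := Subtype.ext h
    rw [hu] at this
    simpa using (LinearEquiv.map_eq_zero_iff _).mp this
  obtain ⟨i, hi⟩ := hsm u u.2 hu0
  apply hi
  -- the gradient pairs to zero with U and with U'
  have hA : ∀ u' ∈ U, ∑ i, eval (u : Fin (n + 1) → k) (pderiv i f) * u' i = 0 := by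
    intro u' hu'
    apply dirDeriv_eq_zero
    intro t
    apply hU
    have : (fun i => (u : Fin (n + 1) → k) i + u' i * t) = (u : Fin (n + 1) → k) + t • u' := by
      funext i; simp [mul_comm]
    rw [this]
    exact U.add_mem u.2 (U.smul_mem t hu')
  have hB : ∀ u'' ∈ U', ∑ i, eval (u : Fin (n + 1) → k) (pderiv i f) * u'' i = 0 := by
    intro u'' hu''
    have hrepr := c.sum_repr ⟨u'', hu''⟩
    have h1 : u'' = ∑ l, (c.repr ⟨u'', hu''⟩ l) • (c l : Fin (n + 1) → k) := by
      have := congrArg (Subtype.val) hrepr
      simp only [Submodule.coe_sum, Submodule.coe_smul] at this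
      exact this.symm
    rw [h1]
    simp only [Finset.sum_apply, Pi.smul_apply, smul_eq_mul, Finset.mul_sum]
    rw [Finset.sum_comm]
    refine Finset.sum_eq_zero fun l _ => ?_
    have h2 := hyg l
    rw [heval_g] at h2
    calc ∑ x, eval (u : Fin (n + 1) → k) (pderiv x f) * ((c.repr ⟨u'', hu''⟩ l) * (c l : Fin (n + 1) → k) x)
        = (c.repr ⟨u'', hu''⟩ l) * ∑ x, eval (u : Fin (n + 1) → k) (pderiv x f) * (c l : Fin (n + 1) → k) x := by
          rw [Finset.mul_sum]; refine Finset.sum_congr rfl fun x _ => ?_; ring
      _ = 0 := by rw [h2, mul_zero]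
  have hei : (Pi.single i 1 : Fin (n + 1) → k) ∈ U ⊔ U' := by
    rw [hU'.sup_eq_top]; trivial
  obtain ⟨u', hu', u'', hu'', hsum⟩ := Submodule.mem_sup.mp hei
  have h3 : ∑ j, eval (u : Fin (n + 1) → k) (pderiv j f) * (Pi.single i 1 : Fin (n + 1) → k) j = 0 := by
    rw [← hsum]
    simp only [Pi.add_apply, mul_add, Finset.sum_add_distrib, hA u' hu', hB u'' hu'', add_zero]
  simpa [Pi.single_apply] using h3

end main

end Groth.Agent.Lib.Fano99
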