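import Groth.Agent.Lib.Ferrand24a
import Groth.Agent.S0433

/-!
# Ferrand pushouts II: the affine model (helper24)

`good_Spec`: for a fibre square of rings `C = B ×_A A'` with `A' → A` surjective, the square of
spectra is a good square (with respect to the basic opens of `Spec C`).
-/

set_option autoImplicit false
universe u

namespace Groth.Agent.Lib.Ferrand24

open AlgebraicGeometry CategoryTheory CategoryTheory.Limits TopologicalSpace Opposite PrimeSpectrum
open Groth.Agent.Lib.RingFibreSq24 Groth.Agent.Lib.SchemePushout24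

theorem good_Spec {A A' B C : Type u} [CommRing A] [CommRing A'] [CommRing B] [CommRing C]
    {π₁ : C →+* B} {π₂ : C →+* A'} {q : B →+* A} {p : A' →+* A}
    (sq : IsFibreSq π₁ π₂ q p) (hp : Function.Surjective p) :
    Good (Spec.map (CommRingCat.ofHom p)) (Spec.map (CommRingCat.ofHom q))
      (Spec.map (CommRingCat.ofHom π₂)) (Spec.map (CommRingCat.ofHom π₁))
      (Set.range fun c : C => (basicOpen c : (Spec (CommRingCat.of C)).Opens)) := by
  have w : Spec.map (CommRingCat.ofHom p) ≫ Spec.map (CommRingCat.ofHom π₂) =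
      Spec.map (CommRingCat.ofHom q) ≫ Spec.map (CommRingCat.ofHom π₁) := by
    rw [← Spec.map_comp, ← Spec.map_comp]
    congr 1
    ext c
    exact (sq.comm c).symm
  refine ⟨w, ?_, ?_, ?_⟩
  · intro t
    rcases sq.range_comap hp t with h | h
    · exact Or.inr h
    · exact Or.inl h
  · rintro _ ⟨c, rfl⟩ h
    have hq' : (basicOpen (p (π₂ c))).1 ⊆
        PrimeSpectrum.comap q ⁻¹' (basicOpen (π₁ c)).1 := by
      rw [← sq.comm]; exact fun _ h => h
    exact Groth.Agent.S0433.sections_fibreSq sq c hq'
  · intro G H hGH t ht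
    have hGH' : ∀ x : PrimeSpectrum A, PrimeSpectrum.comap p x ∈ G ↔ PrimeSpectrum.comap q x ∈ H := by
      intro x
      exact (congrArg (fun O : (Spec (CommRingCat.of A)).Opens => x ∈ O) hGH).to_iff
    obtain ⟨c, hc, hcG, hcH⟩ := sq.exists_basicOpen hp G H hGH' t ht
    exact ⟨basicOpen c, ⟨c, rfl⟩, hc, hcG, hcH⟩

end Groth.Agent.Lib.Ferrand24
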