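import Groth.Agent.Lib.Ferrand24b

/-!
# Ferrand pushouts III: compatible pairs of opens, charts (helper24)

For `ι : Z ⟶ X`, `ξ : Z ⟶ T` a *pair* is a pair of opens `G ⊆ X`, `H ⊆ T` with the same preimage in
`Z`.  A pair is `HasGood` if the restricted span has a good pushout.  Affine pairs (charts) are
`HasGood` if `ι` is a closed immersion, and `HasGood` passes to smaller pairs.
-/

set_option autoImplicit false
universe u

namespace Groth.Agent.Lib.Ferrand24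

open AlgebraicGeometry CategoryTheory CategoryTheory.Limits TopologicalSpace Opposite
open Groth.Agent.Lib.RingFibreSq24 Groth.Agent.Lib.SchemePushout24

variable {X T Z : Scheme.{u}}

/-- compatible pairs of opens -/
@[ext]
structure Pair (ι : Z ⟶ X) (ξ : Z ⟶ T) where
  G : X.Opens
  H : T.Opens
  eq : ι ⁻¹ᵁ G = ξ ⁻¹ᵁ H

namespace Pair

variable {ι : Z ⟶ X} {ξ : Z ⟶ T}

/-- the common preimage in `Z` -/
def N (k : Pair ι ξ) : Z.Opens := ι ⁻¹ᵁ k.G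

/-- the restriction of `ι` -/
noncomputable def ιr (k : Pair ι ξ) : k.N.toScheme ⟶ k.G.toScheme := ι.resLE k.G k.N le_rfl

/-- the restriction of `ξ` -/
noncomputable def ξr (k : Pair ι ξ) : k.N.toScheme ⟶ k.H.toScheme := ξ.resLE k.H k.N k.eq.le

instance : PartialOrder (Pair ι ξ) where
  le k k' := k.G ≤ k'.G ∧ k.H ≤ k'.H
  le_refl k := ⟨le_rfl, le_rfl⟩
  le_trans k k' k'' h h' := ⟨h.1.trans h'.1, h.2.trans h'.2⟩
  le_antisymm k k' h h' := Pair.ext (le_antisymm h.1 h'.1) (le_antisymm h.2 h'.2)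

theorem le_def {k k' : Pair ι ξ} : k ≤ k' ↔ k.G ≤ k'.G ∧ k.H ≤ k'.H := Iff.rfl

theorem N_le {k k' : Pair ι ξ} (h : k ≤ k') : k.N ≤ k'.N := fun _ hz => h.1 hz

/-- the intersection of two pairs -/
def inf (k k' : Pair ι ξ) : Pair ι ξ where
  G := k.G ⊓ k'.G
  H := k.H ⊓ k'.H
  eq := by
    ext z
    have h1 : z ∈ ι ⁻¹ᵁ k.G ↔ z ∈ ξ ⁻¹ᵁ k.H := by rw [k.eq]
    have h2 : z ∈ ι ⁻¹ᵁ k'.G ↔ z ∈ ξ ⁻¹ᵁ k'.H := by rw [k'.eq]
    exact and_congr h1 h2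

theorem inf_le_left (k k' : Pair ι ξ) : k.inf k' ≤ k := ⟨_root_.inf_le_left, _root_.inf_le_left⟩

theorem inf_le_right (k k' : Pair ι ξ) : k.inf k' ≤ k' := ⟨_root_.inf_le_right, _root_.inf_le_right⟩

theorem mem_iff (k : Pair ι ξ) (z : Z) : ι z ∈ k.G ↔ ξ z ∈ k.H := by
  have : z ∈ ι ⁻¹ᵁ k.G ↔ z ∈ ξ ⁻¹ᵁ k.H := by rw [k.eq]
  exact this

@[simp] theorem ιr_coe (k : Pair ι ξ) (z : k.N) : (k.ιr z).1 = ι z.1 :=
  Scheme.Hom.coe_resLE_apply ..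

@[simp] theorem ξr_coe (k : Pair ι ξ) (z : k.N) : (k.ξr z).1 = ξ z.1 :=
  Scheme.Hom.coe_resLE_apply ..

@[reassoc]
theorem ιr_comp_ι (k : Pair ι ξ) : k.ιr ≫ k.G.ι = k.N.ι ≫ ι := Scheme.Hom.resLE_comp_ι ..

@[reassoc]
theorem ξr_comp_ι (k : Pair ι ξ) : k.ξr ≫ k.H.ι = k.N.ι ≫ ξ := Scheme.Hom.resLE_comp_ι ..

theorem ιr_homOfLE {k k' : Pair ι ξ} (h : k ≤ k') :
    k.ιr ≫ X.homOfLE h.1 = Z.homOfLE (N_le h) ≫ k'.ιr := by
  rw [ιr, ιr, Scheme.Hom.resLE_map, Scheme.Hom.map_resLE]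

theorem ξr_homOfLE {k k' : Pair ι ξ} (h : k ≤ k') :
    k.ξr ≫ T.homOfLE h.2 = Z.homOfLE (N_le h) ≫ k'.ξr := by
  rw [ξr, ξr, Scheme.Hom.resLE_map, Scheme.Hom.map_resLE]

/-- a good pushout of the restricted span -/
def IsGoodPO (k : Pair ι ξ) {Q : Scheme.{u}} (a : k.G.toScheme ⟶ Q) (b : k.H.toScheme ⟶ Q) : Prop :=
  ∃ 𝓑 : Set Q.Opens, Good k.ιr k.ξr a b 𝓑

/-- the restricted span has a good pushout -/
def HasGood (k : Pair ι ξ) : Prop :=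
  ∃ (Q : Scheme.{u}) (a : k.G.toScheme ⟶ Q) (b : k.H.toScheme ⟶ Q), k.IsGoodPO a b

theorem IsGoodPO.isPushout {k : Pair ι ξ} {Q : Scheme.{u}} {a : k.G.toScheme ⟶ Q}
    {b : k.H.toScheme ⟶ Q} (h : k.IsGoodPO a b) : IsPushout k.ιr k.ξr a b := by
  obtain ⟨𝓑, h⟩ := h
  exact h.isPushout

theorem IsGoodPO.surj {k : Pair ι ξ} {Q : Scheme.{u}} {a : k.G.toScheme ⟶ Q}
    {b : k.H.toScheme ⟶ Q} (h : k.IsGoodPO a b) (t : Q) :
    t ∈ Set.range a ∨ t ∈ Set.range b := by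
  obtain ⟨𝓑, h⟩ := h
  exact h.surj t

/-- Restriction of a good pushout to a smaller pair. -/
theorem IsGoodPO.exists_restrict {k j : Pair ι ξ} (hjk : j ≤ k) {Q : Scheme.{u}}
    {a : k.G.toScheme ⟶ Q} {b : k.H.toScheme ⟶ Q} (h : k.IsGoodPO a b) :
    ∃ (W : Q.Opens) (a' : j.G.toScheme ⟶ W.toScheme) (b' : j.H.toScheme ⟶ W.toScheme),
      j.IsGoodPO a' b' ∧ a' ≫ W.ι = X.homOfLE hjk.1 ≫ a ∧ b' ≫ W.ι = T.homOfLE hjk.2 ≫ b ∧
      (∀ g : k.G, a g ∈ W → g.1 ∈ j.G) ∧ (∀ t : k.H, b t ∈ W → t.1 ∈ j.H) := by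
  obtain ⟨𝓑, h⟩ := h
  have hcompat : k.ιr ⁻¹ᵁ (k.G.ι ⁻¹ᵁ j.G) = k.ξr ⁻¹ᵁ (k.H.ι ⁻¹ᵁ j.H) := by
    ext z
    show (k.ιr z).1 ∈ j.G ↔ (k.ξr z).1 ∈ j.H
    rw [ιr_coe, ξr_coe]
    exact j.mem_iff z.1
  obtain ⟨W, hWa, hWb⟩ := h.exists_opens _ _ hcompat
  have hWa' : ∀ g : k.G, a g ∈ W ↔ g.1 ∈ j.G := fun g =>
    (congrArg (fun O : k.G.toScheme.Opens => g ∈ O) hWa).to_iff
  have hWb' : ∀ t : k.H, b t ∈ W ↔ t.1 ∈ j.H := fun t =>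
    (congrArg (fun O : k.H.toScheme.Opens => t ∈ O) hWb).to_iff
  have hra : Set.range (X.homOfLE hjk.1 ≫ a) ⊆ Set.range W.ι := by
    rintro _ ⟨g, rfl⟩
    rw [Scheme.Opens.range_ι]
    show a (X.homOfLE hjk.1 g) ∈ W
    rw [hWa', Scheme.homOfLE_apply]
    exact g.2
  have hrb : Set.range (T.homOfLE hjk.2 ≫ b) ⊆ Set.range W.ι := by
    rintro _ ⟨t, rfl⟩
    rw [Scheme.Opens.range_ι]
    show b (T.homOfLE hjk.2 t) ∈ W
    rw [hWb', Scheme.homOfLE_apply]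
    exact t.2
  refine ⟨W, IsOpenImmersion.lift W.ι _ hra, IsOpenImmersion.lift W.ι _ hrb, ?_,
    IsOpenImmersion.lift_fac _ _ _, IsOpenImmersion.lift_fac _ _ _,
    fun g hg => (hWa' g).mp hg, fun t ht => (hWb' t).mp ht⟩
  refine ⟨_, h.restrict (X.homOfLE hjk.1) (T.homOfLE hjk.2) (Z.homOfLE (N_le hjk)) W.ι
    (ιr_homOfLE hjk) (ξr_homOfLE hjk) (IsOpenImmersion.lift_fac _ _ _)
    (IsOpenImmersion.lift_fac _ _ _) ?_ ?_ ?_⟩
  · intro g hg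
    rw [Scheme.Opens.range_ι] at hg
    have : g.1 ∈ j.G := (hWa' g).mp hg
    exact ⟨⟨g.1, this⟩, Subtype.ext (Scheme.homOfLE_apply _ _)⟩
  · intro t ht
    rw [Scheme.Opens.range_ι] at ht
    have : t.1 ∈ j.H := (hWb' t).mp ht
    exact ⟨⟨t.1, this⟩, Subtype.ext (Scheme.homOfLE_apply _ _)⟩
  · rintro z ⟨g, hg⟩
    have : z.1 ∈ j.N := by
      show ι z.1 ∈ j.G
      rw [← ιr_coe, ← hg, Scheme.homOfLE_apply]
      exact g.2
    exact ⟨⟨z.1, this⟩, Subtype.ext (Scheme.homOfLE_apply _ _)⟩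

theorem HasGood.of_le {k j : Pair ι ξ} (hjk : j ≤ k) (h : k.HasGood) : j.HasGood := by
  obtain ⟨Q, a, b, h⟩ := h
  obtain ⟨W, a', b', h', -⟩ := h.exists_restrict hjk
  exact ⟨_, a', b', h'⟩

/-- Affine pairs have a good pushout, namely the spectrum of the fibre product ring. -/
theorem hasGood_of_isAffineOpen [IsClosedImmersion ι] (k : Pair ι ξ) (hG : IsAffineOpen k.G)
    (hH : IsAffineOpen k.H) : k.HasGood := by
  have hN : IsAffineOpen k.N := hG.preimage ι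
  have hp : Function.Surjective (ι.app k.G).hom := ι.app_surjective k.G hG
  have sq := isFibreSq_pullback (ξ.appLE k.H k.N k.eq.le) (ι.app k.G)
  have hgood := good_Spec sq hp
  refine ⟨_, hG.isoSpec.hom ≫ Spec.map (pullback.snd (ξ.appLE k.H k.N k.eq.le) (ι.app k.G)),
    hH.isoSpec.hom ≫ Spec.map (pullback.fst (ξ.appLE k.H k.N k.eq.le) (ι.app k.G)), _,
    hgood.restrict hG.isoSpec.hom hH.isoSpec.hom hN.isoSpec.hom (𝟙 _) ?_ ?_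
      (Category.comp_id _) (Category.comp_id _) ?_ ?_ ?_⟩
  · rw [IsAffineOpen.isoSpec_hom, IsAffineOpen.isoSpec_hom, Scheme.Hom.app_eq_appLE]
    exact (Scheme.Opens.toSpecΓ_SpecMap_appLE ι k.G k.N le_rfl).symm
  · rw [IsAffineOpen.isoSpec_hom, IsAffineOpen.isoSpec_hom]
    exact (Scheme.Opens.toSpecΓ_SpecMap_appLE ξ k.H k.N k.eq.le).symm
  · intro x _
    exact ⟨hG.isoSpec.inv x, by rw [← Scheme.Hom.comp_apply, Iso.inv_hom_id]; rfl⟩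
  · intro y _
    exact ⟨hH.isoSpec.inv y, by rw [← Scheme.Hom.comp_apply, Iso.inv_hom_id]; rfl⟩
  · intro z _
    exact ⟨hN.isoSpec.inv z, by rw [← Scheme.Hom.comp_apply, Iso.inv_hom_id]; rfl⟩

end Pair

end Groth.Agent.Lib.Ferrand24
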