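import Groth.Agent.Lib.Ferrand24c

/-!
# Ferrand pushouts IV: gluing the local pushouts (helper24)

Given `ι : Z ⟶ X`, `ξ : Z ⟶ T` such that `X` and `T` are covered by pairs having good pushouts, the
local pushouts glue (as the colimit of a locally directed diagram of open immersions) to a pushout
of `ι` and `ξ` in the category of schemes.
-/

set_option autoImplicit false
universe u

namespace Groth.Agent.Lib.Ferrand24

open AlgebraicGeometry CategoryTheory CategoryTheory.Limits TopologicalSpace Opposite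
open Groth.Agent.Lib.RingFibreSq24 Groth.Agent.Lib.SchemePushout24
open Groth.Agent.Lib.DescendMor45

variable {X T Z : Scheme.{u}}

/-- the index type of the gluing: pairs having a good pushout -/
structure J (ι : Z ⟶ X) (ξ : Z ⟶ T) : Type u where
  k : Pair ι ξ
  h : k.HasGood

namespace J

variable {ι : Z ⟶ X} {ξ : Z ⟶ T}

instance : PartialOrder (J ι ξ) := PartialOrder.lift (fun j => j.1) (fun j k h => by
  cases j; cases k; cases h; rfl)

theorem le_iff {j k : J ι ξ} : j ≤ k ↔ j.1 ≤ k.1 := Iff.rfl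

/-- the chosen good pushout -/
noncomputable def Q (j : J ι ξ) : Scheme.{u} := j.2.choose

/-- the chosen good pushout -/
noncomputable def a (j : J ι ξ) : j.1.G.toScheme ⟶ j.Q := j.2.choose_spec.choose

/-- the chosen good pushout -/
noncomputable def b (j : J ι ξ) : j.1.H.toScheme ⟶ j.Q := j.2.choose_spec.choose_spec.choose

theorem good (j : J ι ξ) : j.1.IsGoodPO j.a j.b := j.2.choose_spec.choose_spec.choose_spec

theorem po (j : J ι ξ) : IsPushout j.1.ιr j.1.ξr j.a j.b := j.good.isPushout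

theorem compat {j k : J ι ξ} (h : j.1 ≤ k.1) :
    j.1.ιr ≫ X.homOfLE h.1 ≫ k.a = j.1.ξr ≫ T.homOfLE h.2 ≫ k.b := by
  rw [← Category.assoc, Pair.ιr_homOfLE h, Category.assoc, k.po.w, ← Category.assoc,
    ← Pair.ξr_homOfLE h, Category.assoc]

/-- the transition maps -/
noncomputable def tr {j k : J ι ξ} (h : j.1 ≤ k.1) : j.Q ⟶ k.Q :=
  j.po.desc (X.homOfLE h.1 ≫ k.a) (T.homOfLE h.2 ≫ k.b) (compat h)

@[reassoc]
theorem a_tr {j k : J ι ξ} (h : j.1 ≤ k.1) : j.a ≫ tr h = X.homOfLE h.1 ≫ k.a :=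
  j.po.inl_desc ..

@[reassoc]
theorem b_tr {j k : J ι ξ} (h : j.1 ≤ k.1) : j.b ≫ tr h = T.homOfLE h.2 ≫ k.b :=
  j.po.inr_desc ..

theorem tr_refl (j : J ι ξ) : tr (le_refl j.1) = 𝟙 _ := by
  apply j.po.hom_ext
  · rw [a_tr, Category.comp_id, Scheme.homOfLE_rfl, Category.id_comp]
  · rw [b_tr, Category.comp_id, Scheme.homOfLE_rfl, Category.id_comp]

theorem tr_trans {j k l : J ι ξ} (h : j.1 ≤ k.1) (h' : k.1 ≤ l.1) :
    tr h ≫ tr h' = tr (h.trans h') := by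
  apply j.po.hom_ext
  · rw [a_tr_assoc, a_tr, a_tr, Scheme.homOfLE_homOfLE_assoc]
  · rw [b_tr_assoc, b_tr, b_tr, Scheme.homOfLE_homOfLE_assoc]

theorem tr_spec {j k : J ι ξ} (h : j.1 ≤ k.1) :
    IsOpenImmersion (tr h) ∧ (∀ g : k.1.G, k.a g ∈ Set.range (tr h) → g.1 ∈ j.1.G) ∧
      (∀ t : k.1.H, k.b t ∈ Set.range (tr h) → t.1 ∈ j.1.H) := by
  obtain ⟨W, a', b', hgood', ha', hb', hWa, hWb⟩ := k.good.exists_restrict h
  have e : tr h = (j.po.isoIsPushout _ _ hgood'.isPushout).hom ≫ W.ι := by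
    apply j.po.hom_ext
    · rw [a_tr, IsPushout.inl_isoIsPushout_hom_assoc, ha']
    · rw [b_tr, IsPushout.inr_isoIsPushout_hom_assoc, hb']
  have hr : ∀ q, q ∈ Set.range (tr h) → q ∈ W := by
    rintro _ ⟨y, rfl⟩
    rw [e, Scheme.Hom.comp_apply]
    exact ((j.po.isoIsPushout _ _ hgood'.isPushout).hom y).2
  refine ⟨?_, fun g hg => hWa g (hr _ hg), fun t ht => hWb t (hr _ ht)⟩
  rw [e]
  infer_instance

instance {j k : J ι ξ} (h : j.1 ≤ k.1) : IsOpenImmersion (tr h) := (tr_spec h).1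

/-- the diagram of the gluing -/
noncomputable def F (ι : Z ⟶ X) (ξ : Z ⟶ T) : J ι ξ ⥤ Scheme.{u} where
  obj j := j.Q
  map f := tr (leOfHom f)
  map_id j := tr_refl j
  map_comp _ _ := (tr_trans _ _).symm

instance {j k : J ι ξ} (f : j ⟶ k) : IsOpenImmersion ((F ι ξ).map f) :=
  inferInstanceAs (IsOpenImmersion (tr (leOfHom f)))

/-- the intersection of two indices -/
def inf (j k : J ι ξ) : J ι ξ := ⟨j.1.inf k.1, j.2.of_le (Pair.inf_le_left _ _)⟩

instance : ((F ι ξ) ⋙ Scheme.forget).IsLocallyDirected where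
  cond {i j k} fi fj xi xj hxij := by
    have hi : i.1 ≤ k.1 := leOfHom fi
    have hj : j.1 ≤ k.1 := leOfHom fj
    replace hxij : tr hi xi = tr hj xj := hxij
    have hli : (inf i j).1 ≤ i.1 := Pair.inf_le_left _ _
    have hlj : (inf i j).1 ≤ j.1 := Pair.inf_le_right _ _
    have injj : Function.Injective (tr hj) := (tr hj).isOpenEmbedding.injective
    rcases i.good.surj xi with ⟨g, rfl⟩ | ⟨t, rfl⟩
    · have e1 : tr hi (i.a g) = k.a (X.homOfLE hi.1 g) := congr($(a_tr hi) g)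
      have hg : g.1 ∈ j.1.G := by
        have := (tr_spec hj).2.1 (X.homOfLE hi.1 g) (by rw [← e1, hxij]; exact ⟨xj, rfl⟩)
        rwa [Scheme.homOfLE_apply] at this
      let g' : (inf i j).1.G := ⟨g.1, g.2, hg⟩
      have e2 : X.homOfLE hli.1 g' = g := Subtype.ext (Scheme.homOfLE_apply _ _)
      have e3 : tr hli ((inf i j).a g') = i.a g := by
        have : tr hli ((inf i j).a g') = i.a (X.homOfLE hli.1 g') := congr($(a_tr hli) g')
        rw [this, e2]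
      have e4 : tr hlj ((inf i j).a g') = xj := by
        apply injj
        have h1 : tr hj (tr hlj ((inf i j).a g')) = tr hi (tr hli ((inf i j).a g')) := by
          have := congr($(tr_trans hlj hj) ((inf i j).a g'))
          have := congr($(tr_trans hli hi) ((inf i j).a g'))
          simp only [Scheme.Hom.comp_apply] at *
          rw [‹tr hj (tr hlj _) = _›, ‹tr hi (tr hli _) = _›]
        rw [h1, e3, hxij]
      exact ⟨inf i j, homOfLE hli, homOfLE hlj, (inf i j).a g', e3, e4⟩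
    · have e1 : tr hi (i.b t) = k.b (T.homOfLE hi.2 t) := congr($(b_tr hi) t)
      have ht : t.1 ∈ j.1.H := by
        have := (tr_spec hj).2.2 (T.homOfLE hi.2 t) (by rw [← e1, hxij]; exact ⟨xj, rfl⟩)
        rwa [Scheme.homOfLE_apply] at this
      let t' : (inf i j).1.H := ⟨t.1, t.2, ht⟩
      have e2 : T.homOfLE hli.2 t' = t := Subtype.ext (Scheme.homOfLE_apply _ _)
      have e3 : tr hli ((inf i j).b t') = i.b t := by
        have : tr hli ((inf i j).b t') = i.b (T.homOfLE hli.2 t') := congr($(b_tr hli) t')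
        rw [this, e2]
      have e4 : tr hlj ((inf i j).b t') = xj := by
        apply injj
        have h1 : tr hj (tr hlj ((inf i j).b t')) = tr hi (tr hli ((inf i j).b t')) := by
          have := congr($(tr_trans hlj hj) ((inf i j).b t'))
          have := congr($(tr_trans hli hi) ((inf i j).b t'))
          simp only [Scheme.Hom.comp_apply] at *
          rw [‹tr hj (tr hlj _) = _›, ‹tr hi (tr hli _) = _›]
        rw [h1, e3, hxij]
      exact ⟨inf i j, homOfLE hli, homOfLE hlj, (inf i j).b t', e3, e4⟩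

end J

section Glue

variable (ι : Z ⟶ X) (ξ : Z ⟶ T)

/-- the glued scheme -/
noncomputable abbrev P : Scheme.{u} := colimit (J.F ι ξ)

/-- the inclusion of a local pushout -/
noncomputable abbrev e (j : J ι ξ) : j.Q ⟶ P ι ξ := colimit.ι (J.F ι ξ) j

variable {ι ξ}

@[reassoc]
theorem tr_e {j k : J ι ξ} (h : j.1 ≤ k.1) : J.tr h ≫ e ι ξ k = e ι ξ j :=
  colimit.w (J.F ι ξ) (homOfLE h)

theorem desc_compat {S : Scheme.{u}} (s : X ⟶ S) (r : T ⟶ S) (h : ι ≫ s = ξ ≫ r) (j : J ι ξ) :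
    j.1.ιr ≫ j.1.G.ι ≫ s = j.1.ξr ≫ j.1.H.ι ≫ r := by
  rw [← Category.assoc, Pair.ιr_comp_ι, Category.assoc, h, ← Category.assoc, ← Pair.ξr_comp_ι,
    Category.assoc]

/-- the cocone induced by a pair of compatible morphisms -/
noncomputable def descCocone {S : Scheme.{u}} (s : X ⟶ S) (r : T ⟶ S) (h : ι ≫ s = ξ ≫ r) :
    Cocone (J.F ι ξ) where
  pt := S
  ι :=
    { app := fun j => j.po.desc (j.1.G.ι ≫ s) (j.1.H.ι ≫ r) (desc_compat s r h j)
      naturality := by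
        intro j k f
        have hjk : j.1 ≤ k.1 := leOfHom f
        change J.tr hjk ≫ k.po.desc (k.1.G.ι ≫ s) (k.1.H.ι ≫ r) (desc_compat s r h k) =
          j.po.desc (j.1.G.ι ≫ s) (j.1.H.ι ≫ r) (desc_compat s r h j) ≫ 𝟙 S
        rw [Category.comp_id]
        apply j.po.hom_ext
        · rw [J.a_tr_assoc, IsPushout.inl_desc, IsPushout.inl_desc, Scheme.homOfLE_ι_assoc]
        · rw [J.b_tr_assoc, IsPushout.inr_desc, IsPushout.inr_desc, Scheme.homOfLE_ι_assoc] }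

theorem isOpenCover_G (hX : ∀ x : X, ∃ j : J ι ξ, x ∈ j.1.G) :
    TopologicalSpace.IsOpenCover (fun j : J ι ξ => j.1.G) := by
  rw [TopologicalSpace.IsOpenCover, eq_top_iff]
  intro x _
  obtain ⟨j, hj⟩ := hX x
  exact Opens.mem_iSup.mpr ⟨j, hj⟩

theorem isOpenCover_H (hT : ∀ t : T, ∃ j : J ι ξ, t ∈ j.1.H) :
    TopologicalSpace.IsOpenCover (fun j : J ι ξ => j.1.H) := by
  rw [TopologicalSpace.IsOpenCover, eq_top_iff]
  intro t _
  obtain ⟨j, hj⟩ := hT t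
  exact Opens.mem_iSup.mpr ⟨j, hj⟩

theorem a_e_of_le {l j : J ι ξ} (h : l.1 ≤ j.1) :
    X.homOfLE h.1 ≫ j.a ≫ e ι ξ j = l.a ≫ e ι ξ l := by
  rw [← J.a_tr_assoc h, tr_e]

theorem b_e_of_le {l j : J ι ξ} (h : l.1 ≤ j.1) :
    T.homOfLE h.2 ≫ j.b ≫ e ι ξ j = l.b ≫ e ι ξ l := by
  rw [← J.b_tr_assoc h, tr_e]

theorem exists_a (hX : ∀ x : X, ∃ j : J ι ξ, x ∈ j.1.G) :
    ∃ a : X ⟶ P ι ξ, ∀ j : J ι ξ, j.1.G.ι ≫ a = j.a ≫ e ι ξ j := by
  refine exists_glue_opens (fun j : J ι ξ => j.1.G) (isOpenCover_G hX)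
    (fun j => j.a ≫ e ι ξ j) ?_
  intro j k
  exact (a_e_of_le (l := J.inf j k) (Pair.inf_le_left _ _)).trans
    (a_e_of_le (l := J.inf j k) (Pair.inf_le_right _ _)).symm

theorem exists_b (hT : ∀ t : T, ∃ j : J ι ξ, t ∈ j.1.H) :
    ∃ b : T ⟶ P ι ξ, ∀ j : J ι ξ, j.1.H.ι ≫ b = j.b ≫ e ι ξ j := by
  refine exists_glue_opens (fun j : J ι ξ => j.1.H) (isOpenCover_H hT)
    (fun j => j.b ≫ e ι ξ j) ?_
  intro j k
  exact (b_e_of_le (l := J.inf j k) (Pair.inf_le_left _ _)).trans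
    (b_e_of_le (l := J.inf j k) (Pair.inf_le_right _ _)).symm

theorem exists_desc {S : Scheme.{u}} (s : X ⟶ S) (r : T ⟶ S) (h : ι ≫ s = ξ ≫ r) :
    ∃ κ : P ι ξ ⟶ S, ∀ j : J ι ξ,
      e ι ξ j ≫ κ = j.po.desc (j.1.G.ι ≫ s) (j.1.H.ι ≫ r) (desc_compat s r h j) :=
  ⟨colimit.desc (J.F ι ξ) (descCocone s r h), fun _ => colimit.ι_desc _ _⟩

theorem P_hom_ext {S : Scheme.{u}} (m m' : P ι ξ ⟶ S)
    (h : ∀ j : J ι ξ, e ι ξ j ≫ m = e ι ξ j ≫ m') : m = m' :=
  colimit.hom_ext h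

/-- **Existence of the pushout by gluing.** -/
theorem exists_pushout (hX : ∀ x : X, ∃ j : J ι ξ, x ∈ j.1.G)
    (hT : ∀ t : T, ∃ j : J ι ξ, t ∈ j.1.H) :
    ∃ (P : Scheme.{u}) (a : X ⟶ P) (b : T ⟶ P), IsPushout ι ξ a b ∧
      (∀ p : P, p ∈ Set.range a ∨ p ∈ Set.range b) ∧
      ∀ j : J ι ξ, ∃ e : j.Q ⟶ P, IsOpenImmersion e ∧ j.1.G.ι ≫ a = j.a ≫ e ∧
        j.1.H.ι ≫ b = j.b ≫ e ∧ (∀ x, a x ∈ Set.range e → x ∈ j.1.G) ∧
        (∀ t, b t ∈ Set.range e → t ∈ j.1.H) := by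
  obtain ⟨a, ha⟩ := exists_a hX
  obtain ⟨b, hb⟩ := exists_b hT
  have w : ι ≫ a = ξ ≫ b := by
    apply Scheme.hom_ext_of_forall
    intro z
    obtain ⟨j, hj⟩ := hX (ι z)
    refine ⟨j.1.N, hj, ?_⟩
    rw [← Pair.ιr_comp_ι_assoc, ha, j.po.w_assoc, ← hb, Pair.ξr_comp_ι_assoc]
  have hpt : ∀ p : P ι ξ, p ∈ Set.range a ∨ p ∈ Set.range b := by
    intro p
    obtain ⟨j, q, rfl⟩ := Scheme.IsLocallyDirected.ι_jointly_surjective (J.F ι ξ) p
    rcases j.good.surj q with ⟨g, rfl⟩ | ⟨t, rfl⟩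
    · left
      exact ⟨g.1, (congr($(ha j) g)).trans rfl⟩
    · right
      exact ⟨t.1, (congr($(hb j) t)).trans rfl⟩
  have key : ∀ {S : Scheme.{u}} (s : X ⟶ S) (r : T ⟶ S), ι ≫ s = ξ ≫ r →
      ∃ κ : P ι ξ ⟶ S, a ≫ κ = s ∧ b ≫ κ = r := by
    intro S s r h
    obtain ⟨κ, hκ⟩ := exists_desc s r h
    refine ⟨κ, ?_, ?_⟩
    · apply Scheme.hom_ext_of_forall
      intro x
      obtain ⟨j, hj⟩ := hX x
      refine ⟨j.1.G, hj, ?_⟩
      rw [reassoc_of% (ha j), hκ, IsPushout.inl_desc]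
    · apply Scheme.hom_ext_of_forall
      intro t
      obtain ⟨j, hj⟩ := hT t
      refine ⟨j.1.H, hj, ?_⟩
      rw [reassoc_of% (hb j), hκ, IsPushout.inr_desc]
  have huniq : ∀ {S : Scheme.{u}} (m m' : P ι ξ ⟶ S), a ≫ m = a ≫ m' → b ≫ m = b ≫ m' →
      m = m' := by
    intro S m m' h₁ h₂
    apply P_hom_ext
    intro j
    apply j.po.hom_ext
    · rw [← reassoc_of% (ha j), ← reassoc_of% (ha j), h₁]
    · rw [← reassoc_of% (hb j), ← reassoc_of% (hb j), h₂]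
  refine ⟨P ι ξ, a, b, ⟨⟨w⟩, ⟨PushoutCocone.IsColimit.mk _
    (fun s => (key s.inl s.inr s.condition).choose)
    (fun s => (key s.inl s.inr s.condition).choose_spec.1)
    (fun s => (key s.inl s.inr s.condition).choose_spec.2) ?_⟩⟩, hpt, ?_⟩
  · intro s m hm₁ hm₂
    apply huniq
    · rw [hm₁, (key s.inl s.inr s.condition).choose_spec.1]
    · rw [hm₂, (key s.inl s.inr s.condition).choose_spec.2]
  · intro j
    refine ⟨e ι ξ j, inferInstanceAs (IsOpenImmersion (colimit.ι (J.F ι ξ) j)), ha j, hb j, ?_, ?_⟩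
    · rintro x ⟨y, hy⟩
      obtain ⟨k, hk⟩ := hX x
      have h1 : a x = e ι ξ k (k.a ⟨x, hk⟩) := congr($(ha k) ⟨x, hk⟩)
      rw [h1] at hy
      obtain ⟨l, fk, fj, z, hz₁, hz₂⟩ :=
        (Scheme.IsLocallyDirected.ι_eq_ι_iff (J.F ι ξ)).mp hy.symm
      have := (J.tr_spec (leOfHom fk)).2.1 ⟨x, hk⟩ ⟨z, hz₁⟩
      exact (leOfHom fj).1 this
    · rintro t ⟨y, hy⟩
      obtain ⟨k, hk⟩ := hT t
      have h1 : b t = e ι ξ k (k.b ⟨t, hk⟩) := congr($(hb k) ⟨t, hk⟩)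
      rw [h1] at hy
      obtain ⟨l, fk, fj, z, hz₁, hz₂⟩ :=
        (Scheme.IsLocallyDirected.ι_eq_ι_iff (J.F ι ξ)).mp hy.symm
      have := (J.tr_spec (leOfHom fk)).2.2 ⟨t, hk⟩ ⟨z, hz₁⟩
      exact (leOfHom fj).2 this

end Glue

end Groth.Agent.Lib.Ferrand24
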