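import Groth.Agent.Lib.Ferrand24d

/-!
# Ferrand pushouts V: properties of the pushout (helper24)

Ring-level properties of fibre squares (`surjective_snd`, `isIntegral_snd`, the fibre square is a
pushout of rings when `p` is surjective), chart-level properties of the affine model, and their
globalisation: for `ι` a closed immersion the glued pushout is cartesian, `T → P` is a closed
immersion, and `X → P` is a closed immersion (integral) when `ξ` is.
-/

set_option autoImplicit false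
universe u

namespace Groth.Agent.Lib.Ferrand24

open AlgebraicGeometry CategoryTheory CategoryTheory.Limits TopologicalSpace Opposite
open Groth.Agent.Lib.RingFibreSq24 Groth.Agent.Lib.SchemePushout24
open Groth.Agent.Lib.DescendMor45

section Ring

variable {A A' B C : Type*} [CommRing A] [CommRing A'] [CommRing B] [CommRing C]
  {π₁ : C →+* B} {π₂ : C →+* A'} {q : B →+* A} {p : A' →+* A}

theorem surjective_snd (h : IsFibreSq π₁ π₂ q p) (hq : Function.Surjective q) :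
    Function.Surjective π₂ := by
  intro a'
  obtain ⟨b, hb⟩ := hq (p a')
  obtain ⟨c, -, hc⟩ := h.surj b a' hb
  exact ⟨c, hc⟩

open Polynomial in
theorem isIntegral_snd (h : IsFibreSq π₁ π₂ q p) (hp : Function.Surjective p)
    (hq : q.IsIntegral) : π₂.IsIntegral := by
  intro a'
  obtain ⟨f, hf, hfa⟩ := hq (p a')
  have hπ₁ := h.surjective_fst hp
  obtain ⟨g, hg, -, hgm⟩ := Polynomial.lifts_and_natDegree_eq_and_monic
    ((Polynomial.mem_lifts f).mpr (Polynomial.map_surjective π₁ hπ₁ f)) hf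
  -- multiply by `X` to have positive degree
  set g₁ : C[X] := g * X with hg₁
  have hg₁m : g₁.Monic := hgm.mul monic_X
  have hcomp : q.comp π₁ = p.comp π₂ := RingHom.ext h.comm
  have hv : p (eval₂ π₂ a' g₁) = 0 := by
    rw [Polynomial.hom_eval₂, ← hcomp, ← Polynomial.eval₂_map, hg₁, Polynomial.map_mul, hg,
      Polynomial.eval₂_mul, hfa, zero_mul]
  obtain ⟨c₀, hc₀, hc₀'⟩ := h.surj 0 (eval₂ π₂ a' g₁) (by rw [map_zero, hv])
  refine ⟨g₁ - Polynomial.C c₀, ?_, ?_⟩
  · rcases subsingleton_or_nontrivial C with hC | hC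
    · exact Subsingleton.elim _ _
    · apply hg₁m.sub_of_left
      refine lt_of_le_of_lt Polynomial.degree_C_le ?_
      rw [hg₁, Polynomial.degree_mul_X]
      have : (0 : WithBot ℕ) ≤ g.degree := zero_le_degree_iff.mpr hgm.ne_zero
      exact lt_of_lt_of_le (by norm_num) (add_le_add_left this 1)
  · rw [Polynomial.eval₂_sub, Polynomial.eval₂_C, hc₀', sub_self]

end Ring

/-- A fibre square of rings with `p` surjective is a pushout square of rings. -/
theorem isPushout_of_isFibreSq {A A' B C : CommRingCat.{u}} (π₁ : C ⟶ B) (π₂ : C ⟶ A')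
    (q : B ⟶ A) (p : A' ⟶ A) (sq : IsFibreSq π₁.hom π₂.hom q.hom p.hom)
    (hp : Function.Surjective p.hom) : IsPushout π₂ π₁ p q := by
  have w : π₂ ≫ p = π₁ ≫ q := by
    ext c
    exact (sq.comm c).symm
  have key : ∀ {D : CommRingCat.{u}} (u : A' ⟶ D) (v : B ⟶ D), π₂ ≫ u = π₁ ≫ v →
      ∃ l : A ⟶ D, p ≫ l = u ∧ q ≫ l = v := by
    intro D u v huv
    have huv' : ∀ c, u.hom (π₂.hom c) = v.hom (π₁.hom c) := fun c => congr($(huv).hom c)
    have hker : RingHom.ker p.hom ≤ RingHom.ker u.hom := by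
      intro f hf
      obtain ⟨c, hc₁, hc₂⟩ := sq.surj 0 f (by rw [map_zero]; exact ((RingHom.mem_ker).mp hf).symm)
      rw [RingHom.mem_ker, ← hc₂, huv', hc₁, map_zero]
    obtain ⟨l, hl⟩ : ∃ l : A →+* D, ∀ x, l (p.hom x) = u.hom x :=
      ⟨(p.hom.liftOfSurjective hp) ⟨u.hom, hker⟩,
        fun x => RingHom.liftOfSurjective_comp_apply p.hom hp ⟨u.hom, hker⟩ x⟩
    refine ⟨CommRingCat.ofHom l, ?_, ?_⟩
    · ext x
      exact hl x
    · ext t
      obtain ⟨f, hf⟩ := hp (q.hom t)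
      obtain ⟨c, hc₁, hc₂⟩ := sq.surj t f hf.symm
      show l (q.hom t) = v.hom t
      rw [← hf, hl, ← hc₂, huv', hc₁]
  refine ⟨⟨w⟩, ⟨PushoutCocone.IsColimit.mk _
    (fun s => (key s.inl s.inr s.condition).choose)
    (fun s => (key s.inl s.inr s.condition).choose_spec.1)
    (fun s => (key s.inl s.inr s.condition).choose_spec.2) ?_⟩⟩
  intro s m hm₁ _
  ext a
  obtain ⟨f, rfl⟩ := hp a
  have h1 : m.hom (p.hom f) = s.inl.hom f := congr($(hm₁).hom f)
  have h2 : (key s.inl s.inr s.condition).choose.hom (p.hom f) = s.inl.hom f :=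
    congr($((key s.inl s.inr s.condition).choose_spec.1).hom f)
  rw [h1, h2]

section Local

/-- A property local at the target can be checked on charts. -/
theorem of_charts {Pr : MorphismProperty Scheme.{u}} [IsZariskiLocalAtTarget Pr] {Y S : Scheme.{u}}
    (f : Y ⟶ S)
    (H : ∀ s : S, ∃ (Q : Scheme.{u}) (e : Q ⟶ S) (V : Y.Opens) (f' : V.toScheme ⟶ Q),
      IsOpenImmersion e ∧ s ∈ Set.range e ∧ V.ι ≫ f = f' ≫ e ∧
        (∀ y, f y ∈ Set.range e → y ∈ V) ∧ Pr f') : Pr f := by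
  apply IsZariskiLocalAtTarget.of_forall_exists_morphismRestrict
  intro s
  obtain ⟨Q, e, V, f', he, hs, hcomm, hV, hf'⟩ := H s
  refine ⟨e.opensRange, hs, ?_⟩
  rw [Pr.arrow_mk_iso_iff (morphismRestrictOpensRange f e)]
  have hpre : f ⁻¹ᵁ e.opensRange = V.ι.opensRange := by
    rw [Scheme.Opens.opensRange_ι]
    apply le_antisymm
    · intro y hy
      exact hV y hy
    · intro y hy
      have : f y = e (f' ⟨y, hy⟩) := congr($hcomm ⟨y, hy⟩)
      exact ⟨_, this.symm⟩
  have hpb : IsPullback V.ι f' f e := (IsOpenImmersion.isPullback f' V.ι e f hcomm hpre).flip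
  rw [← hpb.isoPullback_hom_snd] at hf'
  exact (Pr.cancel_left_of_respectsIso _ _).mp hf'

/-- A lift through a monomorphism exists as soon as it exists locally. -/
theorem exists_lift_of_local {S Z X : Scheme.{u}} (ι : Z ⟶ X) [Mono ι] (s : S ⟶ X)
    (H : ∀ σ : S, ∃ (U : S.Opens) (l : U.toScheme ⟶ Z), σ ∈ U ∧ l ≫ ι = U.ι ≫ s) :
    ∃ l : S ⟶ Z, l ≫ ι = s := by
  choose U l hσ hl using H
  have hcover : TopologicalSpace.IsOpenCover U := by
    rw [TopologicalSpace.IsOpenCover, eq_top_iff]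
    intro σ _
    exact Opens.mem_iSup.mpr ⟨σ, hσ σ⟩
  obtain ⟨l', hl'⟩ := exists_glue_opens U hcover l (by
    intro σ τ
    rw [← cancel_mono ι, Category.assoc, Category.assoc, hl, hl, Scheme.homOfLE_ι_assoc,
      Scheme.homOfLE_ι_assoc])
  refine ⟨l', ?_⟩
  apply Scheme.hom_ext_of_forall
  intro σ
  exact ⟨U σ, hσ σ, by rw [reassoc_of% (hl' σ), hl]⟩

end Local

section Chart

variable {X T Z : Scheme.{u}} {ι : Z ⟶ X} {ξ : Z ⟶ T}

theorem surjective_appLE_of_eq (ξ : Z ⟶ T) [IsClosedImmersion ξ] (H : T.Opens)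
    (hH : IsAffineOpen H) (N : Z.Opens) (e : N = ξ ⁻¹ᵁ H) :
    Function.Surjective (ξ.appLE H N e.le).hom := by
  subst e
  rw [← Scheme.Hom.app_eq_appLE]
  exact ξ.app_surjective H hH

theorem isIntegral_appLE_of_eq (ξ : Z ⟶ T) [IsIntegralHom ξ] (H : T.Opens)
    (hH : IsAffineOpen H) (N : Z.Opens) (e : N = ξ ⁻¹ᵁ H) :
    (ξ.appLE H N e.le).hom.IsIntegral := by
  subst e
  rw [← Scheme.Hom.app_eq_appLE]
  exact ξ.isIntegral_app H hH

variable [IsClosedImmersion ι] (k : Pair ι ξ) (hG : IsAffineOpen k.G) (hH : IsAffineOpen k.H)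

/-- the affine model of the pushout over an affine pair -/
noncomputable def chartA : k.G.toScheme ⟶
    Spec (pullback (ξ.appLE k.H k.N k.eq.le) (ι.app k.G)) :=
  hG.isoSpec.hom ≫ Spec.map (pullback.snd (ξ.appLE k.H k.N k.eq.le) (ι.app k.G))

/-- the affine model of the pushout over an affine pair -/
noncomputable def chartB : k.H.toScheme ⟶
    Spec (pullback (ξ.appLE k.H k.N k.eq.le) (ι.app k.G)) :=
  hH.isoSpec.hom ≫ Spec.map (pullback.fst (ξ.appLE k.H k.N k.eq.le) (ι.app k.G))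

theorem chart_ι : k.ιr ≫ hG.isoSpec.hom = (hG.preimage ι).isoSpec.hom ≫ Spec.map (ι.app k.G) := by
  rw [IsAffineOpen.isoSpec_hom, IsAffineOpen.isoSpec_hom, Scheme.Hom.app_eq_appLE]
  exact (Scheme.Opens.toSpecΓ_SpecMap_appLE ι k.G k.N le_rfl).symm

theorem chart_ξ : k.ξr ≫ hH.isoSpec.hom =
    (hG.preimage ι).isoSpec.hom ≫ Spec.map (ξ.appLE k.H k.N k.eq.le) := by
  rw [IsAffineOpen.isoSpec_hom, IsAffineOpen.isoSpec_hom]
  exact (Scheme.Opens.toSpecΓ_SpecMap_appLE ξ k.H k.N k.eq.le).symm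

theorem chart_isGoodPO : k.IsGoodPO (chartA k hG) (chartB k hH) := by
  have hN : IsAffineOpen k.N := hG.preimage ι
  have hp : Function.Surjective (ι.app k.G).hom := ι.app_surjective k.G hG
  have sq := isFibreSq_pullback (ξ.appLE k.H k.N k.eq.le) (ι.app k.G)
  have hgood := good_Spec sq hp
  refine ⟨_, hgood.restrict hG.isoSpec.hom hH.isoSpec.hom hN.isoSpec.hom (𝟙 _)
    (chart_ι k hG) (chart_ξ k hG hH) (Category.comp_id _) (Category.comp_id _) ?_ ?_ ?_⟩
  · intro x _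
    exact ⟨hG.isoSpec.inv x, by rw [← Scheme.Hom.comp_apply, Iso.inv_hom_id]; rfl⟩
  · intro y _
    exact ⟨hH.isoSpec.inv y, by rw [← Scheme.Hom.comp_apply, Iso.inv_hom_id]; rfl⟩
  · intro z _
    exact ⟨hN.isoSpec.inv z, by rw [← Scheme.Hom.comp_apply, Iso.inv_hom_id]; rfl⟩

include hG hH in
theorem chart_isClosedImmersion_b : IsClosedImmersion (chartB k hH) := by
  have hp : Function.Surjective (ι.app k.G).hom := ι.app_surjective k.G hG
  have sq := isFibreSq_pullback (ξ.appLE k.H k.N k.eq.le) (ι.app k.G)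
  have : IsClosedImmersion (Spec.map (pullback.fst (ξ.appLE k.H k.N k.eq.le) (ι.app k.G))) :=
    IsClosedImmersion.spec_of_surjective _ (sq.surjective_fst hp)
  rw [chartB]
  infer_instance

theorem chart_isPullback : IsPullback k.ιr k.ξr (chartA k hG) (chartB k hH) := by
  have hp : Function.Surjective (ι.app k.G).hom := ι.app_surjective k.G hG
  have sq := isFibreSq_pullback (ξ.appLE k.H k.N k.eq.le) (ι.app k.G)
  have hpo := isPushout_of_isFibreSq _ _ _ _ sq hp
  have hpb₀ := isPullback_SpecMap_of_isPushout _ _ _ _ hpo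
  exact hpb₀.of_iso' (hG.preimage ι).isoSpec hG.isoSpec hH.isoSpec (Iso.refl _)
    (chart_ι k hG).symm (chart_ξ k hG hH).symm (Category.comp_id _).symm (Category.comp_id _).symm

omit [IsClosedImmersion ι] in
include hG hH in
theorem chart_isClosedImmersion_a [IsClosedImmersion ξ] : IsClosedImmersion (chartA k hG) := by
  have sq := isFibreSq_pullback (ξ.appLE k.H k.N k.eq.le) (ι.app k.G)
  have : IsClosedImmersion (Spec.map (pullback.snd (ξ.appLE k.H k.N k.eq.le) (ι.app k.G))) :=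
    IsClosedImmersion.spec_of_surjective _
      (surjective_snd sq (surjective_appLE_of_eq ξ k.H hH k.N k.eq))
  rw [chartA]
  infer_instance

include hG hH in
theorem chart_isIntegralHom_a [IsIntegralHom ξ] : IsIntegralHom (chartA k hG) := by
  have hp : Function.Surjective (ι.app k.G).hom := ι.app_surjective k.G hG
  have sq := isFibreSq_pullback (ξ.appLE k.H k.N k.eq.le) (ι.app k.G)
  have : IsIntegralHom (Spec.map (pullback.snd (ξ.appLE k.H k.N k.eq.le) (ι.app k.G))) :=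
    IsIntegralHom.SpecMap_iff.mpr
      (isIntegral_snd sq hp (isIntegral_appLE_of_eq ξ k.H hH k.N k.eq))
  rw [chartA]
  infer_instance

include hG hH in
/-- Properties of any pushout of the restricted span over an affine pair. -/
theorem props_of_isPushout {Q : Scheme.{u}} {a : k.G.toScheme ⟶ Q} {b : k.H.toScheme ⟶ Q}
    (h : IsPushout k.ιr k.ξr a b) :
    IsClosedImmersion b ∧ IsPullback k.ιr k.ξr a b ∧
      (IsClosedImmersion ξ → IsClosedImmersion a) ∧ (IsIntegralHom ξ → IsIntegralHom a) := by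
  have h₀ := (chart_isGoodPO k hG hH).isPushout
  have ea : chartA k hG ≫ (h₀.isoIsPushout _ _ h).hom = a := h₀.inl_isoIsPushout_hom _ _ h
  have eb : chartB k hH ≫ (h₀.isoIsPushout _ _ h).hom = b := h₀.inr_isoIsPushout_hom _ _ h
  refine ⟨?_, ?_, ?_, ?_⟩
  · have := chart_isClosedImmersion_b k hG hH
    rw [← eb]
    infer_instance
  · exact (chart_isPullback k hG hH).of_iso (Iso.refl _) (Iso.refl _) (Iso.refl _)
      (h₀.isoIsPushout _ _ h) (by simp) (by simp) (by simp [ea]) (by simp [eb])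
  · intro _
    have := chart_isClosedImmersion_a k hG hH
    rw [← ea]
    infer_instance
  · intro _
    have := chart_isIntegralHom_a k hG hH
    rw [← ea]
    infer_instance

end Chart

section Main

variable {X T Z : Scheme.{u}} {ι : Z ⟶ X} {ξ : Z ⟶ T}

/-- **Ferrand pushouts.** If `ι : Z ⟶ X` is a closed immersion and `X`, `T` are covered by affine
pairs, then the pushout of `ι` and `ξ` exists in schemes, it is cartesian, `T → P` is a closed
immersion, and `X → P` is a closed immersion (resp. integral) as soon as `ξ` is. -/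
theorem ferrand [IsClosedImmersion ι]
    (hX : ∀ x : X, ∃ k : Pair ι ξ, IsAffineOpen k.G ∧ IsAffineOpen k.H ∧ x ∈ k.G)
    (hT : ∀ t : T, ∃ k : Pair ι ξ, IsAffineOpen k.G ∧ IsAffineOpen k.H ∧ t ∈ k.H) :
    ∃ (P : Scheme.{u}) (a : X ⟶ P) (b : T ⟶ P), IsPushout ι ξ a b ∧ IsPullback ι ξ a b ∧
      IsClosedImmersion b ∧ (∀ p : P, p ∈ Set.range a ∨ p ∈ Set.range b) ∧
      (IsClosedImmersion ξ → IsClosedImmersion a) ∧ (IsIntegralHom ξ → IsIntegralHom a) := by
  have hXc : ∀ x : X, ∃ j : J ι ξ, x ∈ j.1.G := by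
    intro x
    obtain ⟨k, hG, hH, hx⟩ := hX x
    exact ⟨⟨k, k.hasGood_of_isAffineOpen hG hH⟩, hx⟩
  have hTc : ∀ t : T, ∃ j : J ι ξ, t ∈ j.1.H := by
    intro t
    obtain ⟨k, hG, hH, ht⟩ := hT t
    exact ⟨⟨k, k.hasGood_of_isAffineOpen hG hH⟩, ht⟩
  obtain ⟨P, a, b, hP, hpt, hch⟩ := exists_pushout hXc hTc
  -- chart data around the image of a point of `X`
  have chartX : ∀ x : X, ∃ (k : Pair ι ξ) (Q : Scheme.{u}) (e : Q ⟶ P) (ak : k.G.toScheme ⟶ Q)
      (bk : k.H.toScheme ⟶ Q), IsAffineOpen k.G ∧ IsAffineOpen k.H ∧ IsOpenImmersion e ∧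
        a x ∈ Set.range e ∧ k.G.ι ≫ a = ak ≫ e ∧ k.H.ι ≫ b = bk ≫ e ∧
        (∀ x, a x ∈ Set.range e → x ∈ k.G) ∧ (∀ t, b t ∈ Set.range e → t ∈ k.H) ∧
        IsPushout k.ιr k.ξr ak bk := by
    intro x
    obtain ⟨k, hG, hH, hx⟩ := hX x
    obtain ⟨e, he, hae, hbe, hxa, htb⟩ := hch ⟨k, k.hasGood_of_isAffineOpen hG hH⟩
    refine ⟨k, _, e, _, _, hG, hH, he, ?_, hae, hbe, hxa, htb,
      (J.po ⟨k, k.hasGood_of_isAffineOpen hG hH⟩)⟩
    exact ⟨_, (congr($hae ⟨x, hx⟩)).symm⟩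
  have chartT : ∀ t : T, ∃ (k : Pair ι ξ) (Q : Scheme.{u}) (e : Q ⟶ P) (ak : k.G.toScheme ⟶ Q)
      (bk : k.H.toScheme ⟶ Q), IsAffineOpen k.G ∧ IsAffineOpen k.H ∧ IsOpenImmersion e ∧
        b t ∈ Set.range e ∧ k.G.ι ≫ a = ak ≫ e ∧ k.H.ι ≫ b = bk ≫ e ∧
        (∀ x, a x ∈ Set.range e → x ∈ k.G) ∧ (∀ t, b t ∈ Set.range e → t ∈ k.H) ∧
        IsPushout k.ιr k.ξr ak bk := by
    intro t
    obtain ⟨k, hG, hH, ht⟩ := hT t
    obtain ⟨e, he, hae, hbe, hxa, htb⟩ := hch ⟨k, k.hasGood_of_isAffineOpen hG hH⟩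
    refine ⟨k, _, e, _, _, hG, hH, he, ?_, hae, hbe, hxa, htb,
      (J.po ⟨k, k.hasGood_of_isAffineOpen hG hH⟩)⟩
    exact ⟨_, (congr($hbe ⟨t, ht⟩)).symm⟩
  have chartP : ∀ p : P, ∃ (k : Pair ι ξ) (Q : Scheme.{u}) (e : Q ⟶ P) (ak : k.G.toScheme ⟶ Q)
      (bk : k.H.toScheme ⟶ Q), IsAffineOpen k.G ∧ IsAffineOpen k.H ∧ IsOpenImmersion e ∧
        p ∈ Set.range e ∧ k.G.ι ≫ a = ak ≫ e ∧ k.H.ι ≫ b = bk ≫ e ∧
        (∀ x, a x ∈ Set.range e → x ∈ k.G) ∧ (∀ t, b t ∈ Set.range e → t ∈ k.H) ∧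
        IsPushout k.ιr k.ξr ak bk := by
    intro p
    rcases hpt p with ⟨x, rfl⟩ | ⟨t, rfl⟩
    · exact chartX x
    · exact chartT t
  have hb : IsClosedImmersion b := by
    apply of_charts (Pr := @IsClosedImmersion) b
    intro p
    obtain ⟨k, Q, e, ak, bk, hG, hH, he, hp, hae, hbe, hxa, htb, hpo⟩ := chartP p
    exact ⟨Q, e, k.H, bk, he, hp, hbe, htb, (props_of_isPushout k hG hH hpo).1⟩
  have hpb : IsPullback ι ξ a b := by
    have key : ∀ s : PullbackCone a b, ∃ l : s.pt ⟶ Z, l ≫ ι = s.fst ∧ l ≫ ξ = s.snd := by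
      intro s
      have h1 : ∃ l : s.pt ⟶ Z, l ≫ ι = s.fst := by
        apply exists_lift_of_local
        intro σ
        obtain ⟨k, Q, e, ak, bk, hG, hH, he, hp, hae, hbe, hxa, htb, hpo⟩ := chartX (s.fst σ)
        have hcond : ∀ u, a (s.fst u) = b (s.snd u) := fun u => congr($(s.condition) u)
        let U : s.pt.Opens := (s.fst ≫ a) ⁻¹ᵁ e.opensRange
        have hr1 : Set.range (U.ι ≫ s.fst) ⊆ Set.range k.G.ι := by
          rintro _ ⟨u, rfl⟩
          rw [Scheme.Opens.range_ι]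
          exact hxa _ u.2
        have hr2 : Set.range (U.ι ≫ s.snd) ⊆ Set.range k.H.ι := by
          rintro _ ⟨u, rfl⟩
          rw [Scheme.Opens.range_ι]
          apply htb
          show b (s.snd u.1) ∈ Set.range e
          rw [← hcond]
          exact u.2
        have hcomm : IsOpenImmersion.lift k.G.ι (U.ι ≫ s.fst) hr1 ≫ ak =
            IsOpenImmersion.lift k.H.ι (U.ι ≫ s.snd) hr2 ≫ bk := by
          rw [← cancel_mono e, Category.assoc, Category.assoc, ← hae, ← hbe,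
            IsOpenImmersion.lift_fac_assoc, IsOpenImmersion.lift_fac_assoc, Category.assoc,
            Category.assoc, s.condition]
        have hpbk := (props_of_isPushout k hG hH hpo).2.1
        refine ⟨U, hpbk.lift _ _ hcomm ≫ k.N.ι, hp, ?_⟩
        rw [Category.assoc, ← Pair.ιr_comp_ι, hpbk.lift_fst_assoc, IsOpenImmersion.lift_fac]
      obtain ⟨l, hl⟩ := h1
      refine ⟨l, hl, ?_⟩
      have : Mono b := inferInstance
      rw [← cancel_mono b, Category.assoc, ← hP.w, reassoc_of% hl, s.condition]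
    refine ⟨⟨hP.w⟩, ⟨PullbackCone.IsLimit.mk _ (fun s => (key s).choose)
      (fun s => (key s).choose_spec.1) (fun s => (key s).choose_spec.2) ?_⟩⟩
    intro s m hm₁ _
    rw [← cancel_mono ι, hm₁, (key s).choose_spec.1]
  refine ⟨P, a, b, hP, hpb, hb, hpt, ?_, ?_⟩
  · intro hξ
    apply of_charts (Pr := @IsClosedImmersion) a
    intro p
    obtain ⟨k, Q, e, ak, bk, hG, hH, he, hp, hae, hbe, hxa, htb, hpo⟩ := chartP p
    exact ⟨Q, e, k.G, ak, he, hp, hae, hxa, (props_of_isPushout k hG hH hpo).2.2.1 hξ⟩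
  · intro hξ
    apply of_charts (Pr := @IsIntegralHom) a
    intro p
    obtain ⟨k, Q, e, ak, bk, hG, hH, he, hp, hae, hbe, hxa, htb, hpo⟩ := chartP p
    exact ⟨Q, e, k.G, ak, he, hp, hae, hxa, (props_of_isPushout k hG hH hpo).2.2.2 hξ⟩

end Main

end Groth.Agent.Lib.Ferrand24
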