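import Groth.Agent.Lib.Ferrand24e

/-!
# Ferrand pushouts VI: existence of affine charts under the fibre condition (helper24)

For a closed immersion `i : Z ⟶ X` and an integral morphism `j : Z ⟶ Y` such that every fibre of
`j` lies in the preimage of an affine open of `X`, every point of `Y` has an affine open
neighbourhood `V` together with an affine open `U` of `X` such that `i⁻¹U = j⁻¹V`.
-/

set_option autoImplicit false
universe u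

namespace Groth.Agent.Lib.Ferrand24

open AlgebraicGeometry CategoryTheory CategoryTheory.Limits TopologicalSpace Opposite

/-- Prime avoidance over an integral extension: if the images of `s₀ ⊆ R` generate the unit ideal
of `S` and `S` is integral over `A`, there is a single element of the ideal generated by `s₀` whose
image avoids all primes of `S` over a given prime of `A`. -/
theorem exists_avoid {A S R : Type*} [CommRing A] [CommRing S] [CommRing R] (φ : A →+* S)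
    (hφ : φ.IsIntegral) (ρ : R →+* S) (s₀ : Set R) (hs₀ : Ideal.span (ρ '' s₀) = ⊤)
    (𝔭 : Ideal A) [𝔭.IsPrime] :
    ∃ k ∈ Ideal.span s₀, ∀ 𝔓 : Ideal S, 𝔓.IsPrime → 𝔓.comap φ = 𝔭 → ρ k ∉ 𝔓 := by
  classical
  letI := φ.toAlgebra
  haveI : Algebra.IsIntegral A S := ⟨hφ⟩
  have h1 : (1 : S) ∈ Ideal.span (ρ '' s₀) := by rw [hs₀]; trivial
  obtain ⟨t, htsub, ht1⟩ := Submodule.mem_span_finite_of_mem_span h1
  let S' : Subalgebra A S := Algebra.adjoin A (t : Set S)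
  have hfin : Module.Finite A S' :=
    Algebra.finite_adjoin_of_finite_of_isIntegral t.finite_toSet
      fun x _ => Algebra.IsIntegral.isIntegral x
  haveI : Algebra.IsIntegral S' S := Algebra.IsIntegral.tower_top (R := A)
  have hprimes : (𝔭.primesOver S').Finite := Algebra.QuasiFinite.finite_primesOver 𝔭
  let R'' : Subring R := S'.toSubring.comap ρ
  let ρ'' : R'' →+* S' := RingHom.codRestrict (ρ.comp R''.subtype) S' (fun x => x.2)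
  have hρ'' : ∀ x : R'', ((ρ'' x : S') : S) = ρ x.1 := fun x => rfl
  let K'' : Ideal R'' := (Ideal.span s₀).comap R''.subtype
  have hno : ¬ ∃ 𝔔 ∈ hprimes.toFinset, K'' ≤ Ideal.comap ρ'' 𝔔 := by
    rintro ⟨𝔔, h𝔔, hle⟩
    rw [Set.Finite.mem_toFinset] at h𝔔
    haveI : 𝔔.IsPrime := h𝔔.1
    obtain ⟨𝔓, -, h𝔓, h𝔓𝔔⟩ := Ideal.exists_ideal_over_prime_of_isIntegral 𝔔 (⊥ : Ideal S) (by
      intro x hx
      have : algebraMap S' S x = 0 := hx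
      have hx0 : x = 0 := Subtype.ext this
      rw [hx0]
      exact zero_mem _)
    have htP : (t : Set S) ⊆ 𝔓 := by
      intro x hx
      obtain ⟨k₀, hk₀, rfl⟩ := htsub hx
      have hk₀R : k₀ ∈ R'' := Algebra.subset_adjoin hx
      have h2 : (⟨k₀, hk₀R⟩ : R'') ∈ K'' := Ideal.subset_span hk₀
      have h3 : ρ'' ⟨k₀, hk₀R⟩ ∈ 𝔔 := hle h2
      rw [← h𝔓𝔔] at h3
      exact h3
    have : (1 : S) ∈ 𝔓 := (Ideal.span_le.mpr htP) ht1
    exact h𝔓.ne_top ((Ideal.eq_top_iff_one _).mpr this)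
  have hsub := (Ideal.subset_union_prime (R := R'') (s := hprimes.toFinset)
    (f := fun 𝔔 => Ideal.comap ρ'' 𝔔) ⊥ ⊥ (I := K'') (by
      intro 𝔔 h𝔔 _ _
      rw [Set.Finite.mem_toFinset] at h𝔔
      haveI : 𝔔.IsPrime := h𝔔.1
      exact Ideal.comap_isPrime ρ'' 𝔔)).not.mpr hno
  rw [Set.not_subset] at hsub
  obtain ⟨x, hxK, hx⟩ := hsub
  refine ⟨x.1, hxK, ?_⟩
  intro 𝔓 h𝔓 h𝔓𝔭 hmem
  apply hx
  have h𝔔 : Ideal.comap (algebraMap S' S) 𝔓 ∈ 𝔭.primesOver S' := by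
    refine ⟨Ideal.comap_isPrime _ _, ⟨?_⟩⟩
    rw [Ideal.under, Ideal.comap_comap, ← IsScalarTower.algebraMap_eq]
    exact h𝔓𝔭.symm
  refine Set.mem_biUnion (x := Ideal.comap (algebraMap S' S) 𝔓) ?_ ?_
  · exact (Set.Finite.mem_toFinset hprimes).mpr h𝔔
  · exact hmem

theorem mem_basicOpen_iff_notMem_primeIdealOf {X : Scheme.{u}} {U : X.Opens} (hU : IsAffineOpen U)
    (x : X) (hx : x ∈ U) (f : Γ(X, U)) :
    x ∈ X.basicOpen f ↔ f ∉ (hU.primeIdealOf ⟨x, hx⟩).asIdeal := by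
  have h1 : hU.fromSpec (hU.primeIdealOf ⟨x, hx⟩) = x := hU.fromSpec_primeIdealOf ⟨x, hx⟩
  have h2 := hU.fromSpec_preimage_basicOpen f
  have h3 : hU.primeIdealOf ⟨x, hx⟩ ∈ hU.fromSpec ⁻¹ᵁ X.basicOpen f ↔
      hU.primeIdealOf ⟨x, hx⟩ ∈ PrimeSpectrum.basicOpen f := by rw [h2]; exact Iff.rfl
  constructor
  · intro h
    refine h3.mp ?_
    show hU.fromSpec (hU.primeIdealOf ⟨x, hx⟩) ∈ X.basicOpen f
    rw [h1]; exact h
  · intro h
    have := h3.mpr h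
    change hU.fromSpec (hU.primeIdealOf ⟨x, hx⟩) ∈ X.basicOpen f at this
    rwa [h1] at this

variable {X Y Z : Scheme.{u}}

/-- **Existence of affine charts** under the fibre condition. -/
theorem exists_chart (i : Z ⟶ X) (j : Z ⟶ Y) [IsClosedImmersion i] [IsIntegralHom j]
    (y : Y) (U : X.Opens) (hU : IsAffineOpen U) (hfib : j ⁻¹' {y} ⊆ i ⁻¹' (U : Set X)) :
    ∃ k : Pair i j, IsAffineOpen k.G ∧ IsAffineOpen k.H ∧ y ∈ k.H := by
  -- Step 1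
  have hM : IsAffineOpen (i ⁻¹ᵁ U) := hU.preimage i
  have hclosed : IsClosedMap j := j.isClosedMap
  obtain ⟨V₀, hV₀, hyV₀, hV₀M⟩ : ∃ V₀ : Y.Opens, IsAffineOpen V₀ ∧ y ∈ V₀ ∧
      j ⁻¹ᵁ V₀ ≤ i ⁻¹ᵁ U := by
    have hC : IsClosed (j '' ((i ⁻¹ᵁ U : Z.Opens) : Set Z)ᶜ) :=
      hclosed _ (i ⁻¹ᵁ U).2.isClosed_compl
    have hy : y ∈ (j '' ((i ⁻¹ᵁ U : Z.Opens) : Set Z)ᶜ)ᶜ := by
      rintro ⟨z, hz, rfl⟩
      exact hz (hfib rfl)
    obtain ⟨_, ⟨V₀, hV₀, rfl⟩, hyV₀, hsub⟩ :=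
      Y.isBasis_affineOpens.exists_subset_of_mem_open hy hC.isOpen_compl
    refine ⟨V₀, hV₀, hyV₀, ?_⟩
    intro z hz
    by_contra hzM
    exact hsub hz ⟨z, hzM, rfl⟩
  have hN₀ : IsAffineOpen (j ⁻¹ᵁ V₀) := hV₀.preimage j
  -- Step 2
  obtain ⟨k, hkN₀, hfibk⟩ : ∃ k : Γ(Z, i ⁻¹ᵁ U), Z.basicOpen k ≤ j ⁻¹ᵁ V₀ ∧
      ∀ z, j z = y → z ∈ Z.basicOpen k := by
    obtain ⟨ρ, hρ⟩ : ∃ ρ : Γ(Z, i ⁻¹ᵁ U) →+* Γ(Z, j ⁻¹ᵁ V₀),
        ∀ k, Z.basicOpen (ρ k) = j ⁻¹ᵁ V₀ ⊓ Z.basicOpen k :=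
      ⟨(Z.presheaf.map (homOfLE hV₀M).op).hom, fun k => Scheme.basicOpen_res _ _ _⟩
    let s₀ : Set Γ(Z, i ⁻¹ᵁ U) := {k | Z.basicOpen k ≤ j ⁻¹ᵁ V₀}
    have hs₀ : Ideal.span (ρ '' s₀) = ⊤ := by
      rw [← hN₀.self_le_iSup_basicOpen_iff]
      intro z hz
      obtain ⟨f, hf, hzf⟩ := hM.exists_basicOpen_le (V := j ⁻¹ᵁ V₀) ⟨z, hz⟩ (hV₀M hz)
      refine Opens.mem_iSup.mpr ⟨⟨ρ f, f, hf, rfl⟩, ?_⟩
      show z ∈ Z.basicOpen (ρ f)
      rw [hρ]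
      exact ⟨hz, hzf⟩
    have hspan : ∀ k ∈ Ideal.span s₀, Z.basicOpen k ≤ j ⁻¹ᵁ V₀ := by
      intro k hk
      induction hk using Submodule.span_induction with
      | mem x hx => exact hx
      | zero => rw [Scheme.basicOpen_zero]; exact bot_le
      | add x y _ _ hx hy => exact (Z.basicOpen_add_le x y).trans (sup_le hx hy)
      | smul a x _ hx =>
        rw [smul_eq_mul, Scheme.basicOpen_mul]
        exact inf_le_right.trans hx
    obtain ⟨k, hk, hkavoid⟩ := exists_avoid (j.app V₀).hom (j.isIntegral_app V₀ hV₀) ρ s₀ hs₀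
      (hV₀.primeIdealOf ⟨y, hyV₀⟩).asIdeal
    refine ⟨k, hspan k hk, ?_⟩
    rintro z rfl
    have hzN₀ : z ∈ j ⁻¹ᵁ V₀ := hyV₀
    have hcomap : Ideal.comap (j.app V₀).hom (hN₀.primeIdealOf ⟨z, hzN₀⟩).asIdeal =
        (hV₀.primeIdealOf ⟨j z, hyV₀⟩).asIdeal := by
      have := IsAffineOpen.comap_primeIdealOf_appLE (f := j) (x := z) V₀ hV₀ (j ⁻¹ᵁ V₀) hN₀
        le_rfl hzN₀
      rw [← Scheme.Hom.app_eq_appLE] at this
      exact congrArg PrimeSpectrum.asIdeal this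
    have h3 := hkavoid (hN₀.primeIdealOf ⟨z, hzN₀⟩).asIdeal inferInstance hcomap
    have h4 := (mem_basicOpen_iff_notMem_primeIdealOf hN₀ z hzN₀ (ρ k)).mpr h3
    rw [hρ] at h4
    exact h4.2
  -- Step 3
  obtain ⟨f, hf⟩ := i.app_surjective U hU k
  have hU₁ : IsAffineOpen (X.basicOpen f) := hU.basicOpen f
  have hpre₁ : i ⁻¹ᵁ X.basicOpen f = Z.basicOpen k := by
    rw [Scheme.preimage_basicOpen]
    exact congrArg _ hf
  -- Step 4
  obtain ⟨g, hyg, hgk⟩ : ∃ g : Γ(Y, V₀), y ∈ Y.basicOpen g ∧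
      j ⁻¹ᵁ Y.basicOpen g ≤ Z.basicOpen k := by
    have hC : IsClosed (j '' ((Z.basicOpen k : Z.Opens) : Set Z)ᶜ) :=
      hclosed _ (Z.basicOpen k).2.isClosed_compl
    have hy : y ∈ (j '' ((Z.basicOpen k : Z.Opens) : Set Z)ᶜ)ᶜ := by
      rintro ⟨z, hz, rfl⟩
      exact hz (hfibk z rfl)
    obtain ⟨g, hg, hyg⟩ := hV₀.exists_basicOpen_le
      (V := ⟨(j '' ((Z.basicOpen k : Z.Opens) : Set Z)ᶜ)ᶜ, hC.isOpen_compl⟩) ⟨y, hy⟩ hyV₀
    refine ⟨g, hyg, ?_⟩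
    intro z hz
    by_contra hzk
    exact hg hz ⟨z, hzk, rfl⟩
  have hV₁ : IsAffineOpen (Y.basicOpen g) := hV₀.basicOpen g
  -- Step 5
  have hle : i ⁻¹ᵁ X.basicOpen f ≤ j ⁻¹ᵁ V₀ := hpre₁.le.trans hkN₀
  obtain ⟨f', hf'⟩ := i.app_surjective (X.basicOpen f) hU₁
    ((Z.presheaf.map (homOfLE hle).op).hom (j.app V₀ g))
  have hU₂ : IsAffineOpen (X.basicOpen f') := hU₁.basicOpen f'
  have hpre₂ : i ⁻¹ᵁ X.basicOpen f' = j ⁻¹ᵁ Y.basicOpen g := by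
    rw [Scheme.preimage_basicOpen]
    have e1 : Z.basicOpen ((i.app (X.basicOpen f)) f') =
        i ⁻¹ᵁ X.basicOpen f ⊓ Z.basicOpen (j.app V₀ g) := by
      have := congrArg (fun s => Z.basicOpen s) hf'
      exact this.trans (Scheme.basicOpen_res _ _ _)
    rw [e1, ← Scheme.preimage_basicOpen, hpre₁]
    exact inf_eq_right.mpr hgk
  exact ⟨⟨X.basicOpen f', Y.basicOpen g, hpre₂⟩, hU₂, hV₁, hyg⟩

/-- The covering hypotheses of `ferrand` hold under the fibre condition. -/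
theorem exists_charts (i : Z ⟶ X) (j : Z ⟶ Y) [IsClosedImmersion i] [IsIntegralHom j]
    (haff : ∀ y : Y, ∃ U : X.Opens, IsAffineOpen U ∧ j ⁻¹' {y} ⊆ i ⁻¹' (U : Set X)) :
    (∀ x : X, ∃ k : Pair i j, IsAffineOpen k.G ∧ IsAffineOpen k.H ∧ x ∈ k.G) ∧
      (∀ y : Y, ∃ k : Pair i j, IsAffineOpen k.G ∧ IsAffineOpen k.H ∧ y ∈ k.H) := by
  have hT : ∀ y : Y, ∃ k : Pair i j, IsAffineOpen k.G ∧ IsAffineOpen k.H ∧ y ∈ k.H := by
    intro y
    obtain ⟨U, hU, hfib⟩ := haff y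
    exact exists_chart i j y U hU hfib
  refine ⟨?_, hT⟩
  intro x
  by_cases hx : x ∈ Set.range i
  · obtain ⟨z, rfl⟩ := hx
    obtain ⟨k, hG, hH, hy⟩ := hT (j z)
    exact ⟨k, hG, hH, (k.mem_iff z).mpr hy⟩
  · have hopen : IsOpen (Set.range i)ᶜ := i.isClosedEmbedding.isClosed_range.isOpen_compl
    obtain ⟨_, ⟨V, hV, rfl⟩, hxV, hVsub⟩ :=
      X.isBasis_affineOpens.exists_subset_of_mem_open hx hopen
    have hbot : i ⁻¹ᵁ V = j ⁻¹ᵁ (⊥ : Y.Opens) := by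
      ext z
      constructor
      · intro h
        exact absurd ⟨z, rfl⟩ (hVsub h)
      · intro h
        exact absurd h (by simp)
    exact ⟨⟨V, ⊥, hbot⟩, hV, isAffineOpen_bot Y, hxV⟩

end Groth.Agent.Lib.Ferrand24
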