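import Groth.Agent.Lib.Ferrand24f

/-!
# Ferrand pushouts VII: the pinching situation (helper24)

In the situation of the pinching theorem (`t : T ⟶ Y` and `ξ ≫ t` affine, `ι` a closed immersion over
`Y`, standard affine opens), `X` and `T` are covered by affine pairs; hence the pushout exists with
all the properties of `ferrand`, and any pushout has these properties.
-/

set_option autoImplicit false
universe u

namespace Groth.Agent.Lib.Ferrand24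

open AlgebraicGeometry CategoryTheory CategoryTheory.Limits TopologicalSpace Opposite

variable {X Y T Z : Scheme.{u}}

/-- affine pairs in the pinching situation -/
theorem pinch_charts (f : X ⟶ Y) (t : T ⟶ Y) (ξ : Z ⟶ T) (ι : Z ⟶ X)
    [IsAffineHom t] [IsClosedImmersion ι] (hsq : ι ≫ f = ξ ≫ t)
    (hstd : ∀ y : Y, ∃ U : Y.Opens, IsAffineOpen U ∧ y ∈ U ∧ ∃ V : X.Opens, IsAffineOpen V ∧
      V ≤ f ⁻¹ᵁ U ∧ ∀ z : Z, (ξ ≫ t).base z ∈ U → ι.base z ∈ V) :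
    (∀ x : X, ∃ k : Pair ι ξ, IsAffineOpen k.G ∧ IsAffineOpen k.H ∧ x ∈ k.G) ∧
      (∀ τ : T, ∃ k : Pair ι ξ, IsAffineOpen k.G ∧ IsAffineOpen k.H ∧ τ ∈ k.H) := by
  have hpre : ∀ (U : Y.Opens) (V : X.Opens), V ≤ f ⁻¹ᵁ U →
      (∀ z : Z, (ξ ≫ t).base z ∈ U → ι.base z ∈ V) → ι ⁻¹ᵁ V = ξ ⁻¹ᵁ (t ⁻¹ᵁ U) := by
    intro U V hV hz
    ext z
    constructor
    · intro h
      have h1 : f (ι z) ∈ U := hV h
      have h2 : f (ι z) = t (ξ z) := congr($hsq z)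
      rw [h2] at h1
      exact h1
    · intro h
      exact hz z h
  constructor
  · intro x
    by_cases hx : x ∈ Set.range ι
    · obtain ⟨z, rfl⟩ := hx
      obtain ⟨U, hU, hyU, V, hV, hVU, hz⟩ := hstd ((ξ ≫ t).base z)
      exact ⟨⟨V, t ⁻¹ᵁ U, hpre U V hVU hz⟩, hV, hU.preimage t, hz z hyU⟩
    · have hopen : IsOpen (Set.range ι)ᶜ := ι.isClosedEmbedding.isClosed_range.isOpen_compl
      obtain ⟨_, ⟨V, hV, rfl⟩, hxV, hVsub⟩ :=
        X.isBasis_affineOpens.exists_subset_of_mem_open hx hopen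
      have hbot : ι ⁻¹ᵁ V = ξ ⁻¹ᵁ (⊥ : T.Opens) := by
        ext z
        constructor
        · intro h
          exact absurd ⟨z, rfl⟩ (hVsub h)
        · intro h
          exact absurd h (by simp)
      exact ⟨⟨V, ⊥, hbot⟩, hV, isAffineOpen_bot T, hxV⟩
  · intro τ
    obtain ⟨U, hU, hyU, V, hV, hVU, hz⟩ := hstd (t τ)
    exact ⟨⟨V, t ⁻¹ᵁ U, hpre U V hVU hz⟩, hV, hU.preimage t, hyU⟩

/-- Properties of an arbitrary pushout in the situation of `ferrand`. -/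
theorem props_of_isPushout_of_charts {X T Z : Scheme.{u}} {ι : Z ⟶ X} {ξ : Z ⟶ T}
    [IsClosedImmersion ι]
    (hX : ∀ x : X, ∃ k : Pair ι ξ, IsAffineOpen k.G ∧ IsAffineOpen k.H ∧ x ∈ k.G)
    (hT : ∀ t : T, ∃ k : Pair ι ξ, IsAffineOpen k.G ∧ IsAffineOpen k.H ∧ t ∈ k.H)
    {P : Scheme.{u}} {a : X ⟶ P} {b : T ⟶ P} (hP : IsPushout ι ξ a b) :
    IsPullback ι ξ a b ∧ IsClosedImmersion b ∧ (∀ p : P, p ∈ Set.range a ∨ p ∈ Set.range b) ∧
      (IsClosedImmersion ξ → IsClosedImmersion a) ∧ (IsIntegralHom ξ → IsIntegralHom a) := by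
  obtain ⟨P₀, a₀, b₀, hP₀, hpb₀, hb₀, hpt₀, ha₀, ha₀'⟩ := ferrand hX hT
  have ea : a₀ ≫ (hP₀.isoIsPushout _ _ hP).hom = a := hP₀.inl_isoIsPushout_hom _ _ hP
  have eb : b₀ ≫ (hP₀.isoIsPushout _ _ hP).hom = b := hP₀.inr_isoIsPushout_hom _ _ hP
  refine ⟨?_, ?_, ?_, ?_, ?_⟩
  · exact hpb₀.of_iso (Iso.refl _) (Iso.refl _) (Iso.refl _) (hP₀.isoIsPushout _ _ hP)
      (by simp) (by simp) (by simp [ea]) (by simp [eb])
  · rw [← eb]
    infer_instance
  · intro p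
    rcases hpt₀ ((hP₀.isoIsPushout _ _ hP).inv p) with ⟨x, hx⟩ | ⟨t, ht⟩
    · left
      refine ⟨x, ?_⟩
      rw [← ea, Scheme.Hom.comp_apply, hx, ← Scheme.Hom.comp_apply, Iso.inv_hom_id]
      rfl
    · right
      refine ⟨t, ?_⟩
      rw [← eb, Scheme.Hom.comp_apply, ht, ← Scheme.Hom.comp_apply, Iso.inv_hom_id]
      rfl
  · intro h
    have := ha₀ h
    rw [← ea]
    infer_instance
  · intro h
    have := ha₀' h
    rw [← ea]
    infer_instance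

end Groth.Agent.Lib.Ferrand24
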