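import Groth.Agent.Lib.Ferrand24g

/-!
# Ferrand pushouts VIII: finite sets of points and affine pairs (helper24)

Prime avoidance for cosets, basic open neighbourhoods of finite sets of points in affine opens, and
the existence of a compatible affine pair around a finite set (for two closed immersions).
-/

set_option autoImplicit false
universe u

namespace Groth.Agent.Lib.Ferrand24

open AlgebraicGeometry CategoryTheory CategoryTheory.Limits TopologicalSpace Opposite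

/-- Prime avoidance for a coset `x + I`. -/
theorem exists_add_notMem_of_finite {R : Type*} [CommRing R] (I : Ideal R) (x : R) :
    ∀ (s : Finset (Ideal R)), (∀ P ∈ s, P.IsPrime) → (∀ P ∈ s, x ∈ P → ¬ I ≤ P) →
      ∃ y ∈ I, ∀ P ∈ s, x + y ∉ P := by
  classical
  intro s
  induction s using Finset.strongInduction with
  | H s ih =>
    intro hs h
    rcases s.eq_empty_or_nonempty with rfl | hne
    · exact ⟨0, zero_mem _, by simp⟩
    obtain ⟨P, hPs, hPmin⟩ : ∃ P ∈ s, ∀ Q ∈ s, Q ≤ P → P ≤ Q := by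
      obtain ⟨P, hP⟩ := s.exists_minimal hne
      exact ⟨P, hP.1, fun Q hQ hQP => hP.2 hQ hQP⟩
    have hPprime : P.IsPrime := hs P hPs
    obtain ⟨y', hy'I, hy'⟩ := ih (s.erase P) (Finset.erase_ssubset hPs)
      (fun Q hQ => hs Q (Finset.mem_of_mem_erase hQ))
      (fun Q hQ => h Q (Finset.mem_of_mem_erase hQ))
    by_cases hxP : x + y' ∈ P
    · have hIP : ¬ I ≤ P := by
        intro hIP
        have hx : x ∈ P := by
          have := P.sub_mem hxP (hIP hy'I)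
          simpa using this
        exact h P hPs hx hIP
      have hJ : ¬ (I * ∏ Q ∈ s.erase P, Q) ≤ P := by
        intro hle
        rcases (Ideal.IsPrime.mul_le hPprime).mp hle with h1 | h1
        · exact hIP h1
        · obtain ⟨Q, hQ, hQP⟩ := (Ideal.IsPrime.prod_le hPprime).mp h1
          have hQs : Q ∈ s := Finset.mem_of_mem_erase hQ
          have hQne : Q ≠ P := Finset.ne_of_mem_erase hQ
          have h2 : P ≤ Q := hPmin Q hQs hQP
          exact hQne (le_antisymm hQP h2)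
      obtain ⟨t, htJ, htP⟩ := SetLike.not_le_iff_exists.mp hJ
      have htI : t ∈ I := Ideal.mul_le_left htJ
      have htQ : ∀ Q ∈ s.erase P, t ∈ Q := by
        intro Q hQ
        have h1 : t ∈ ∏ Q ∈ s.erase P, Q := Ideal.mul_le_right htJ
        exact (Ideal.prod_le_inf.trans (Finset.inf_le hQ)) h1
      refine ⟨y' + t, I.add_mem hy'I htI, ?_⟩
      intro Q hQs hmem
      by_cases hQP : Q = P
      · subst hQP
        have : t ∈ Q := by
          have := Q.sub_mem hmem hxP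
          have e : x + (y' + t) - (x + y') = t := by ring
          rwa [e] at this
        exact htP this
      · have hQe : Q ∈ s.erase P := Finset.mem_erase.mpr ⟨hQP, hQs⟩
        have : x + y' ∈ Q := by
          have := Q.sub_mem hmem (htQ Q hQe)
          have e : x + (y' + t) - t = x + y' := by ring
          rwa [e] at this
        exact hy' Q hQe this
    · refine ⟨y', hy'I, ?_⟩
      intro Q hQs
      by_cases hQP : Q = P
      · subst hQP; exact hxP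
      · exact hy' Q (Finset.mem_erase.mpr ⟨hQP, hQs⟩)

/-- A finite set of points of an affine open has arbitrarily small basic open neighbourhoods. -/
theorem exists_basicOpen_of_finite {S : Scheme.{u}} {U : S.Opens} (hU : IsAffineOpen U)
    (F : Set S) (hF : F.Finite) (hFU : F ⊆ U) (O : S.Opens) (hFO : F ⊆ O) :
    ∃ f : Γ(S, U), F ⊆ S.basicOpen f ∧ S.basicOpen f ≤ O := by
  classical
  rcases F.eq_empty_or_nonempty with rfl | ⟨e₀, _⟩
  · exact ⟨0, Set.empty_subset _, by rw [Scheme.basicOpen_zero]; exact bot_le⟩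
  let s₀ : Set Γ(S, U) := {k | S.basicOpen k ≤ O}
  have hspan : ∀ k ∈ Ideal.span s₀, S.basicOpen k ≤ O := by
    intro k hk
    induction hk using Submodule.span_induction with
    | mem x hx => exact hx
    | zero => rw [Scheme.basicOpen_zero]; exact bot_le
    | add x y _ _ hx hy => exact (S.basicOpen_add_le x y).trans (sup_le hx hy)
    | smul a x _ hx =>
      rw [smul_eq_mul, Scheme.basicOpen_mul]
      exact inf_le_right.trans hx
  let 𝔭 : S → Ideal Γ(S, U) := fun e =>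
    if h : e ∈ U then (hU.primeIdealOf ⟨e, h⟩).asIdeal else ⊤
  have h𝔭 : ∀ e (h : e ∈ U), 𝔭 e = (hU.primeIdealOf ⟨e, h⟩).asIdeal := fun e h => dif_pos h
  have hno : ¬ ∃ e ∈ hF.toFinset, Ideal.span s₀ ≤ 𝔭 e := by
    rintro ⟨e, he, hle⟩
    rw [Set.Finite.mem_toFinset] at he
    obtain ⟨k, hk, hek⟩ := hU.exists_basicOpen_le (V := O) ⟨e, hFO he⟩ (hFU he)
    have : k ∈ 𝔭 e := hle (Ideal.subset_span hk)
    rw [h𝔭 e (hFU he)] at this
    exact (mem_basicOpen_iff_notMem_primeIdealOf hU e (hFU he) k).mp hek this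
  have hsub := (Ideal.subset_union_prime (R := Γ(S, U)) (s := hF.toFinset) (f := 𝔭) e₀ e₀
    (I := Ideal.span s₀) (by
      intro e he _ _
      rw [Set.Finite.mem_toFinset] at he
      rw [h𝔭 e (hFU he)]
      exact (hU.primeIdealOf ⟨e, hFU he⟩).isPrime)).not.mpr hno
  rw [Set.not_subset] at hsub
  obtain ⟨f, hfK, hf⟩ := hsub
  refine ⟨f, ?_, hspan f hfK⟩
  intro e he
  rw [SetLike.mem_coe, mem_basicOpen_iff_notMem_primeIdealOf hU e (hFU he) f, ← h𝔭 e (hFU he)]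
  intro hmem
  exact hf (Set.mem_biUnion (x := e) ((Set.Finite.mem_toFinset hF).mpr he) hmem)

/-- Lifting a section along a closed immersion so that the lift is invertible at finitely many
given points. -/
theorem exists_lift_basicOpen {X Y : Scheme.{u}} (θ : Y ⟶ X) [IsClosedImmersion θ] {U : X.Opens}
    (hU : IsAffineOpen U) (F : Set X) (hF : F.Finite) (hFU : F ⊆ U) (h : Γ(Y, θ ⁻¹ᵁ U))
    (hh : ∀ y : Y, θ y ∈ F → y ∈ Y.basicOpen h) :
    ∃ g : Γ(X, U), θ.app U g = h ∧ F ⊆ X.basicOpen g := by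
  classical
  obtain ⟨g₀, hg₀⟩ := θ.app_surjective U hU h
  let 𝔭 : X → Ideal Γ(X, U) := fun e =>
    if h : e ∈ U then (hU.primeIdealOf ⟨e, h⟩).asIdeal else ⊤
  have h𝔭 : ∀ e (h : e ∈ U), 𝔭 e = (hU.primeIdealOf ⟨e, h⟩).asIdeal := fun e h => dif_pos h
  have hrange : ∀ e ∈ F, RingHom.ker (θ.app U).hom ≤ 𝔭 e → e ∈ Set.range θ := by
    intro e he hle
    have h1 : e ∈ θ.ker.support := by
      rw [Scheme.IdealSheafData.mem_support_iff_of_mem (U := ⟨U, hU⟩) (hFU he),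
        Scheme.mem_zeroLocus_iff]
      intro f hf
      rw [Scheme.Hom.ker_apply] at hf
      have := hle hf
      rw [h𝔭 e (hFU he)] at this
      intro hmem
      exact (mem_basicOpen_iff_notMem_primeIdealOf hU e (hFU he) f).mp hmem this
    rw [← SetLike.mem_coe, Scheme.Hom.support_ker, θ.isClosedEmbedding.isClosed_range.closure_eq]
      at h1
    exact h1
  obtain ⟨δ, hδ, hav⟩ := exists_add_notMem_of_finite (RingHom.ker (θ.app U).hom) g₀
    (hF.toFinset.image 𝔭) (by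
      intro P hP
      obtain ⟨e, he, rfl⟩ := Finset.mem_image.mp hP
      rw [Set.Finite.mem_toFinset] at he
      rw [h𝔭 e (hFU he)]
      exact (hU.primeIdealOf ⟨e, hFU he⟩).isPrime) (by
      intro P hP hg₀P hle
      obtain ⟨e, he, rfl⟩ := Finset.mem_image.mp hP
      rw [Set.Finite.mem_toFinset] at he
      obtain ⟨y, rfl⟩ := hrange e he hle
      have hy := hh y he
      rw [← hg₀, ← Scheme.preimage_basicOpen] at hy
      rw [h𝔭 _ (hFU he)] at hg₀P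
      exact (mem_basicOpen_iff_notMem_primeIdealOf hU _ (hFU he) g₀).mp hy hg₀P)
  refine ⟨g₀ + δ, ?_, ?_⟩
  · rw [map_add, hg₀]
    have : (θ.app U).hom δ = 0 := hδ
    rw [show (θ.app U) δ = 0 from this, add_zero]
  · intro e he
    rw [SetLike.mem_coe, mem_basicOpen_iff_notMem_primeIdealOf hU e (hFU he), ← h𝔭 e (hFU he)]
    exact hav _ (Finset.mem_image.mpr ⟨e, (Set.Finite.mem_toFinset hF).mpr he, rfl⟩)

/-- For two closed immersions, compatible finite sets of points contained in affine opens are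
contained in a compatible pair of affine opens. -/
theorem exists_affine_pair_of_finite {X₁ X₂ Y : Scheme.{u}} (θ₁ : Y ⟶ X₁) (θ₂ : Y ⟶ X₂)
    [IsClosedImmersion θ₁] [IsClosedImmersion θ₂] (E₁ : Set X₁) (E₂ : Set X₂) (hE₁ : E₁.Finite)
    (hE₂ : E₂.Finite) (hcompat : ∀ y : Y, θ₁ y ∈ E₁ ↔ θ₂ y ∈ E₂)
    (U₁ : X₁.Opens) (hU₁ : IsAffineOpen U₁) (h₁ : E₁ ⊆ U₁)
    (U₂ : X₂.Opens) (hU₂ : IsAffineOpen U₂) (h₂ : E₂ ⊆ U₂) :
    ∃ k : Pair θ₁ θ₂, IsAffineOpen k.G ∧ IsAffineOpen k.H ∧ E₁ ⊆ k.G ∧ E₂ ⊆ k.H := by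
  -- Step 2
  have hC₂ : IsClosed (θ₂ '' ((θ₁ ⁻¹ᵁ U₁ : Y.Opens) : Set Y)ᶜ) :=
    θ₂.isClosedEmbedding.isClosedMap _ (θ₁ ⁻¹ᵁ U₁).2.isClosed_compl
  obtain ⟨f₂, hEf₂, hf₂⟩ := exists_basicOpen_of_finite hU₂ E₂ hE₂ h₂
    ⟨(θ₂ '' ((θ₁ ⁻¹ᵁ U₁ : Y.Opens) : Set Y)ᶜ)ᶜ, hC₂.isOpen_compl⟩ (by
      rintro e he ⟨y, hy, rfl⟩
      exact hy (h₁ ((hcompat y).mpr he)))
  have hU₂' : IsAffineOpen (X₂.basicOpen f₂) := hU₂.basicOpen f₂
  have hN₂₁ : θ₂ ⁻¹ᵁ X₂.basicOpen f₂ ≤ θ₁ ⁻¹ᵁ U₁ := by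
    intro y hy
    by_contra hy'
    exact hf₂ hy ⟨y, hy', rfl⟩
  -- Step 3
  have hC₁ : IsClosed (θ₁ '' ((θ₂ ⁻¹ᵁ X₂.basicOpen f₂ : Y.Opens) : Set Y)ᶜ) :=
    θ₁.isClosedEmbedding.isClosedMap _ (θ₂ ⁻¹ᵁ X₂.basicOpen f₂).2.isClosed_compl
  obtain ⟨f₁, hEf₁, hf₁⟩ := exists_basicOpen_of_finite hU₁ E₁ hE₁ h₁
    ⟨(θ₁ '' ((θ₂ ⁻¹ᵁ X₂.basicOpen f₂ : Y.Opens) : Set Y)ᶜ)ᶜ, hC₁.isOpen_compl⟩ (by
      rintro e he ⟨y, hy, rfl⟩
      exact hy (hEf₂ ((hcompat y).mp he)))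
  have hU₁' : IsAffineOpen (X₁.basicOpen f₁) := hU₁.basicOpen f₁
  have hN₁₂ : θ₁ ⁻¹ᵁ X₁.basicOpen f₁ ≤ θ₂ ⁻¹ᵁ X₂.basicOpen f₂ := by
    intro y hy
    by_contra hy'
    exact hf₁ hy ⟨y, hy', rfl⟩
  -- Step 4
  have hbo : Y.basicOpen ((Y.presheaf.map (homOfLE hN₂₁).op).hom (θ₁.app U₁ f₁)) =
      θ₁ ⁻¹ᵁ X₁.basicOpen f₁ := by
    rw [Scheme.basicOpen_res, ← Scheme.preimage_basicOpen]
    exact inf_eq_right.mpr hN₁₂
  obtain ⟨g, hg, hEg⟩ := exists_lift_basicOpen θ₂ hU₂' E₂ hE₂ hEf₂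
    ((Y.presheaf.map (homOfLE hN₂₁).op).hom (θ₁.app U₁ f₁)) (by
      intro y hy
      rw [hbo]
      exact hEf₁ ((hcompat y).mpr hy))
  have hpre : θ₁ ⁻¹ᵁ X₁.basicOpen f₁ = θ₂ ⁻¹ᵁ X₂.basicOpen g := by
    rw [Scheme.preimage_basicOpen θ₂ g, ← hbo]
    exact congrArg _ hg.symm
  exact ⟨⟨X₁.basicOpen f₁, X₂.basicOpen g, hpre⟩, hU₁', hU₂'.basicOpen g, hEf₁, hEg⟩

/-- In a pushout along a closed immersion, an affine pair is the preimage of an affine open. -/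
theorem exists_isAffineOpen_of_pair {X T Z P : Scheme.{u}} {ι : Z ⟶ X} {ξ : Z ⟶ T}
    [IsClosedImmersion ι]
    (hX : ∀ x : X, ∃ k : Pair ι ξ, IsAffineOpen k.G ∧ IsAffineOpen k.H ∧ x ∈ k.G)
    (hT : ∀ t : T, ∃ k : Pair ι ξ, IsAffineOpen k.G ∧ IsAffineOpen k.H ∧ t ∈ k.H)
    {a : X ⟶ P} {b : T ⟶ P} (hP : IsPushout ι ξ a b) (k : Pair ι ξ) (hG : IsAffineOpen k.G)
    (hH : IsAffineOpen k.H) :
    ∃ W : P.Opens, IsAffineOpen W ∧ (∀ x ∈ k.G, a x ∈ W) ∧ (∀ t ∈ k.H, b t ∈ W) := by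
  have hXc : ∀ x : X, ∃ j : J ι ξ, x ∈ j.1.G := by
    intro x
    obtain ⟨k, hG, hH, hx⟩ := hX x
    exact ⟨⟨k, k.hasGood_of_isAffineOpen hG hH⟩, hx⟩
  have hTc : ∀ t : T, ∃ j : J ι ξ, t ∈ j.1.H := by
    intro t
    obtain ⟨k, hG, hH, ht⟩ := hT t
    exact ⟨⟨k, k.hasGood_of_isAffineOpen hG hH⟩, ht⟩
  obtain ⟨P₀, a₀, b₀, hP₀, -, hch⟩ := exists_pushout hXc hTc
  obtain ⟨e, he, hae, hbe, -, -⟩ := hch ⟨k, k.hasGood_of_isAffineOpen hG hH⟩
  have ea : a₀ ≫ (hP₀.isoIsPushout _ _ hP).hom = a := hP₀.inl_isoIsPushout_hom _ _ hP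
  have eb : b₀ ≫ (hP₀.isoIsPushout _ _ hP).hom = b := hP₀.inr_isoIsPushout_hom _ _ hP
  have hQ : IsAffine (J.Q ⟨k, k.hasGood_of_isAffineOpen hG hH⟩) :=
    IsAffine.of_isIso ((chart_isGoodPO k hG hH).isPushout.isoIsPushout _ _
      (J.po ⟨k, k.hasGood_of_isAffineOpen hG hH⟩)).inv
  refine ⟨(e ≫ (hP₀.isoIsPushout _ _ hP).hom).opensRange, isAffineOpen_opensRange _, ?_, ?_⟩
  · intro x hx
    refine ⟨J.a ⟨k, k.hasGood_of_isAffineOpen hG hH⟩ ⟨x, hx⟩, ?_⟩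
    have h1 : a₀ x = e (J.a ⟨k, k.hasGood_of_isAffineOpen hG hH⟩ ⟨x, hx⟩) :=
      congr($hae ⟨x, hx⟩)
    have h2 : (hP₀.isoIsPushout _ _ hP).hom (a₀ x) = a x := congr($ea x)
    show (hP₀.isoIsPushout _ _ hP).hom (e _) = a x
    rw [← h2, h1]
  · intro t ht
    refine ⟨J.b ⟨k, k.hasGood_of_isAffineOpen hG hH⟩ ⟨t, ht⟩, ?_⟩
    have h1 : b₀ t = e (J.b ⟨k, k.hasGood_of_isAffineOpen hG hH⟩ ⟨t, ht⟩) :=
      congr($hbe ⟨t, ht⟩)
    have h2 : (hP₀.isoIsPushout _ _ hP).hom (b₀ t) = b t := congr($eb t)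
    show (hP₀.isoIsPushout _ _ hP).hom (e _) = b t
    rw [← h2, h1]

end Groth.Agent.Lib.Ferrand24
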