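import Groth.Agent.Lib.Ferrand24g

/-!
# Ferrand pushouts IX: finiteness of the pushout over the base (helper24)

For a pushout `P` of `ι : Z ⟶ X` (closed immersion) and `ξ : Z ⟶ T` covered by affine pairs, every
affine pair gives an affine chart `Spec (B₂ ×_{B₀} B₁) ⟶ P`.  We deduce that `P ⟶ Y` is locally of
finite type (Artin--Tate), quasi-compact, universally closed and separated as soon as `X` and `T` are.
-/

set_option autoImplicit false
universe u

namespace Groth.Agent.Lib.Ferrand24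

open AlgebraicGeometry CategoryTheory CategoryTheory.Limits TopologicalSpace Opposite

section Algebra

/-- Artin--Tate for a ring mapping jointly injectively and finitely to two finite type algebras. -/
theorem finiteType_of_jointly_injective {R C B₁ B₂ : Type*} [CommRing R] [CommRing C]
    [CommRing B₁] [CommRing B₂] [IsNoetherianRing R]
    (φ : R →+* C) (π₁ : C →+* B₁) (π₂ : C →+* B₂)
    (hinj : ∀ c, π₁ c = 0 → π₂ c = 0 → c = 0)
    (h₁ : (π₁.comp φ).FiniteType) (h₂ : (π₂.comp φ).FiniteType)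
    (hi₁ : π₁.Finite) (hi₂ : π₂.Finite) : φ.FiniteType := by
  letI := φ.toAlgebra
  letI : Algebra C B₁ := π₁.toAlgebra
  letI : Algebra C B₂ := π₂.toAlgebra
  letI : Algebra R B₁ := (π₁.comp φ).toAlgebra
  letI : Algebra R B₂ := (π₂.comp φ).toAlgebra
  haveI : Algebra.FiniteType R B₁ := h₁
  haveI : Algebra.FiniteType R B₂ := h₂
  haveI : Module.Finite C B₁ := hi₁
  haveI : Module.Finite C B₂ := hi₂
  haveI : IsScalarTower R C (B₁ × B₂) := IsScalarTower.of_algebraMap_eq (fun r => rfl)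
  have hAC : (⊤ : Subalgebra R (B₁ × B₂)).FG := Algebra.FiniteType.out
  have hBC : (⊤ : Submodule C (B₁ × B₂)).FG := Module.Finite.fg_top
  have hBCi : Function.Injective (algebraMap C (B₁ × B₂)) := by
    rw [injective_iff_map_eq_zero]
    intro c hc
    have h1 : π₁ c = 0 := congr(($hc).1)
    have h2 : π₂ c = 0 := congr(($hc).2)
    exact hinj c h1 h2
  exact ⟨fg_of_fg_of_fg R C (B₁ × B₂) hAC hBC hBCi⟩

end Algebra

section Chart

variable {X T Z P : Scheme.{u}} {ι : Z ⟶ X} {ξ : Z ⟶ T} [IsClosedImmersion ι]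

/-- The affine chart of an arbitrary pushout attached to an affine pair. -/
theorem chart_of_pair
    (hX : ∀ x : X, ∃ k : Pair ι ξ, IsAffineOpen k.G ∧ IsAffineOpen k.H ∧ x ∈ k.G)
    (hT : ∀ t : T, ∃ k : Pair ι ξ, IsAffineOpen k.G ∧ IsAffineOpen k.H ∧ t ∈ k.H)
    {a : X ⟶ P} {b : T ⟶ P} (hP : IsPushout ι ξ a b) (k : Pair ι ξ) (hG : IsAffineOpen k.G)
    (hH : IsAffineOpen k.H) :
    ∃ e : Spec (pullback (ξ.appLE k.H k.N k.eq.le) (ι.app k.G)) ⟶ P, IsOpenImmersion e ∧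
      k.G.ι ≫ a = chartA k hG ≫ e ∧ k.H.ι ≫ b = chartB k hH ≫ e ∧
      (∀ x, a x ∈ Set.range e → x ∈ k.G) ∧ (∀ t, b t ∈ Set.range e → t ∈ k.H) := by
  have hXc : ∀ x : X, ∃ j : J ι ξ, x ∈ j.1.G := by
    intro x
    obtain ⟨k, hG, hH, hx⟩ := hX x
    exact ⟨⟨k, k.hasGood_of_isAffineOpen hG hH⟩, hx⟩
  have hTc : ∀ t : T, ∃ j : J ι ξ, t ∈ j.1.H := by
    intro t
    obtain ⟨k, hG, hH, ht⟩ := hT t
    exact ⟨⟨k, k.hasGood_of_isAffineOpen hG hH⟩, ht⟩
  obtain ⟨P₀, a₀, b₀, hP₀, -, hch⟩ := exists_pushout hXc hTc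
  obtain ⟨e, he, hae, hbe, hxa, htb⟩ := hch ⟨k, k.hasGood_of_isAffineOpen hG hH⟩
  have ea : a₀ ≫ (hP₀.isoIsPushout _ _ hP).hom = a := hP₀.inl_isoIsPushout_hom _ _ hP
  have eb : b₀ ≫ (hP₀.isoIsPushout _ _ hP).hom = b := hP₀.inr_isoIsPushout_hom _ _ hP
  have h₀ := (chart_isGoodPO k hG hH).isPushout
  have hj := J.po ⟨k, k.hasGood_of_isAffineOpen hG hH⟩
  have ca : chartA k hG ≫ (h₀.isoIsPushout _ _ hj).hom = _ := h₀.inl_isoIsPushout_hom _ _ hj
  have cb : chartB k hH ≫ (h₀.isoIsPushout _ _ hj).hom = _ := h₀.inr_isoIsPushout_hom _ _ hj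
  refine ⟨(h₀.isoIsPushout _ _ hj).hom ≫ e ≫ (hP₀.isoIsPushout _ _ hP).hom, inferInstance,
    ?_, ?_, ?_, ?_⟩
  · rw [reassoc_of% ca, ← reassoc_of% hae, ea]
  · rw [reassoc_of% cb, ← reassoc_of% hbe, eb]
  · rintro x ⟨q, hq⟩
    apply hxa
    refine ⟨(h₀.isoIsPushout _ _ hj).hom q, ?_⟩
    have h2 : (hP₀.isoIsPushout _ _ hP).hom (a₀ x) = a x := congr($ea x)
    have h3 : (hP₀.isoIsPushout _ _ hP).hom (e ((h₀.isoIsPushout _ _ hj).hom q)) = a x := hq
    have hinj : Function.Injective (hP₀.isoIsPushout _ _ hP).hom :=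
      (hP₀.isoIsPushout _ _ hP).hom.isOpenEmbedding.injective
    exact hinj (h3.trans h2.symm)
  · rintro t ⟨q, hq⟩
    apply htb
    refine ⟨(h₀.isoIsPushout _ _ hj).hom q, ?_⟩
    have h2 : (hP₀.isoIsPushout _ _ hP).hom (b₀ t) = b t := congr($eb t)
    have h3 : (hP₀.isoIsPushout _ _ hP).hom (e ((h₀.isoIsPushout _ _ hj).hom q)) = b t := hq
    have hinj : Function.Injective (hP₀.isoIsPushout _ _ hP).hom :=
      (hP₀.isoIsPushout _ _ hP).hom.isOpenEmbedding.injective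
    exact hinj (h3.trans h2.symm)

end Chart

section FiniteType

open Groth.Agent.Lib.RingFibreSq24

variable {X T Z P Y : Scheme.{u}} {ι : Z ⟶ X} {ξ : Z ⟶ T} [IsClosedImmersion ι]

/-- A morphism from an affine scheme landing in an affine open factors as `Spec.map φ`. -/
theorem exists_Spec_map_fromSpec {C : CommRingCat.{u}} (g : Spec C ⟶ Y) {U : Y.Opens}
    (hU : IsAffineOpen U) (hg : ∀ q, g q ∈ U) :
    ∃ φ : Γ(Y, U) ⟶ C, Spec.map φ ≫ hU.fromSpec = g := by
  have hr : Set.range g ⊆ Set.range hU.fromSpec := by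
    rintro _ ⟨q, rfl⟩
    rw [hU.range_fromSpec]
    exact hg q
  refine ⟨Spec.preimage (IsOpenImmersion.lift hU.fromSpec g hr), ?_⟩
  rw [Spec.map_preimage, IsOpenImmersion.lift_fac]

/-- The chart of a pushout over the base is locally of finite type. -/
theorem chart_locallyOfFiniteType [IsIntegralHom ξ] [IsLocallyNoetherian Y]
    (f : X ⟶ Y) (t : T ⟶ Y) [LocallyOfFiniteType f] [LocallyOfFiniteType t]
    {a : X ⟶ P} {b : T ⟶ P} (p : P ⟶ Y) (hap : a ≫ p = f) (hbp : b ≫ p = t)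
    (hjs : ∀ q : P, q ∈ Set.range a ∨ q ∈ Set.range b)
    (k : Pair ι ξ) (hG : IsAffineOpen k.G) (hH : IsAffineOpen k.H)
    (U : Y.Opens) (hU : IsAffineOpen U) (hGU : k.G ≤ f ⁻¹ᵁ U) (hHU : k.H ≤ t ⁻¹ᵁ U)
    (e : Spec (pullback (ξ.appLE k.H k.N k.eq.le) (ι.app k.G)) ⟶ P)
    (hae : k.G.ι ≫ a = chartA k hG ≫ e) (hbe : k.H.ι ≫ b = chartB k hH ≫ e)
    (hxa : ∀ x, a x ∈ Set.range e → x ∈ k.G) (htb : ∀ τ, b τ ∈ Set.range e → τ ∈ k.H) :
    LocallyOfFiniteType (e ≫ p) := by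
  have hp : Function.Surjective (ι.app k.G).hom := ι.app_surjective k.G hG
  have sq := isFibreSq_pullback (ξ.appLE k.H k.N k.eq.le) (ι.app k.G)
  have hrange : ∀ q, (e ≫ p) q ∈ U := by
    intro q
    rcases hjs (e q) with ⟨x, hx⟩ | ⟨τ, hτ⟩
    · have hxG : x ∈ k.G := hxa x ⟨q, hx.symm⟩
      have h1 : f x = p (a x) := (congr($hap x)).symm
      have h2 : (e ≫ p) q = p (e q) := rfl
      rw [h2, ← hx, ← h1]
      exact hGU hxG
    · have hτH : τ ∈ k.H := htb τ ⟨q, hτ.symm⟩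
      have h1 : t τ = p (b τ) := (congr($hbp τ)).symm
      have h2 : (e ≫ p) q = p (e q) := rfl
      rw [h2, ← hτ, ← h1]
      exact hHU hτH
  obtain ⟨φ, hφ⟩ := exists_Spec_map_fromSpec (e ≫ p) hU hrange
  have hsnd : Spec.map (φ ≫ pullback.snd (ξ.appLE k.H k.N k.eq.le) (ι.app k.G)) ≫ hU.fromSpec =
      hG.fromSpec ≫ f := by
    rw [Spec.map_comp, Category.assoc, hφ, IsAffineOpen.fromSpec, Category.assoc, ← hap,
      reassoc_of% hae, chartA, Category.assoc, Iso.inv_hom_id_assoc]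
  have hfst : Spec.map (φ ≫ pullback.fst (ξ.appLE k.H k.N k.eq.le) (ι.app k.G)) ≫ hU.fromSpec =
      hH.fromSpec ≫ t := by
    rw [Spec.map_comp, Category.assoc, hφ, IsAffineOpen.fromSpec, Category.assoc, ← hbp,
      reassoc_of% hbe, chartB, Category.assoc, Iso.inv_hom_id_assoc]
  have h₁ : (φ ≫ pullback.snd (ξ.appLE k.H k.N k.eq.le) (ι.app k.G)).hom.FiniteType := by
    rw [← HasRingHomProperty.Spec_iff (P := @LocallyOfFiniteType)]
    have : LocallyOfFiniteType
        (Spec.map (φ ≫ pullback.snd (ξ.appLE k.H k.N k.eq.le) (ι.app k.G)) ≫ hU.fromSpec) := by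
      rw [hsnd]
      infer_instance
    exact locallyOfFiniteType_of_comp _ hU.fromSpec
  have h₂ : (φ ≫ pullback.fst (ξ.appLE k.H k.N k.eq.le) (ι.app k.G)).hom.FiniteType := by
    rw [← HasRingHomProperty.Spec_iff (P := @LocallyOfFiniteType)]
    have : LocallyOfFiniteType
        (Spec.map (φ ≫ pullback.fst (ξ.appLE k.H k.N k.eq.le) (ι.app k.G)) ≫ hU.fromSpec) := by
      rw [hfst]
      infer_instance
    exact locallyOfFiniteType_of_comp _ hU.fromSpec
  have hi₂ : (pullback.fst (ξ.appLE k.H k.N k.eq.le) (ι.app k.G)).hom.Finite :=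
    RingHom.Finite.of_surjective _ (sq.surjective_fst hp)
  have hi₁ : (pullback.snd (ξ.appLE k.H k.N k.eq.le) (ι.app k.G)).hom.Finite :=
    RingHom.IsIntegral.to_finite
      (isIntegral_snd sq hp (isIntegral_appLE_of_eq ξ k.H hH k.N k.eq))
      (RingHom.FiniteType.of_comp_finiteType (f := φ.hom) h₁)
  haveI : IsNoetherianRing Γ(Y, U) := IsLocallyNoetherian.component_noetherian ⟨U, hU⟩
  have hφft : φ.hom.FiniteType :=
    finiteType_of_jointly_injective φ.hom
      (pullback.snd (ξ.appLE k.H k.N k.eq.le) (ι.app k.G)).hom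
      (pullback.fst (ξ.appLE k.H k.N k.eq.le) (ι.app k.G)).hom
      (fun c h1 h2 => sq.inj c h2 h1) h₁ h₂ hi₁ hi₂
  rw [← hφ]
  have : LocallyOfFiniteType (Spec.map φ) :=
    (HasRingHomProperty.Spec_iff (P := @LocallyOfFiniteType)).mpr hφft
  infer_instance

end FiniteType

section Main

variable {X T Z P Y : Scheme.{u}}

/-- A property local at the source can be checked on charts. -/
theorem of_source_charts {Pr : MorphismProperty Scheme.{u}} [IsZariskiLocalAtSource Pr]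
    (p : P ⟶ Y)
    (H : ∀ q : P, ∃ (Q : Scheme.{u}) (e : Q ⟶ P), IsOpenImmersion e ∧ q ∈ Set.range e ∧
      Pr (e ≫ p)) : Pr p := by
  choose Q e he hq hlft using H
  refine IsZariskiLocalAtSource.of_iSup_eq_top (P := Pr) (fun q => (e q).opensRange) ?_ ?_
  · rw [eq_top_iff]
    intro q _
    exact Opens.mem_iSup.mpr ⟨q, hq q⟩
  · intro q
    rw [← IsOpenImmersion.isoOfRangeEq_inv_fac (e q) (Scheme.Opens.ι _)
      (congr_arg Opens.carrier (e q).opensRange.opensRange_ι.symm), Category.assoc,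
      Pr.cancel_left_of_respectsIso]
    exact hlft q

/-- affine pairs over affine opens of the base, in the pinching situation -/
theorem pinch_charts_base (f : X ⟶ Y) (t : T ⟶ Y) (ξ : Z ⟶ T) (ι : Z ⟶ X)
    [IsAffineHom t] [IsClosedImmersion ι] (hsq : ι ≫ f = ξ ≫ t)
    (hstd : ∀ y : Y, ∃ U : Y.Opens, IsAffineOpen U ∧ y ∈ U ∧ ∃ V : X.Opens, IsAffineOpen V ∧
      V ≤ f ⁻¹ᵁ U ∧ ∀ z : Z, (ξ ≫ t).base z ∈ U → ι.base z ∈ V) :
    (∀ x : X, ∃ (k : Pair ι ξ) (U : Y.Opens), IsAffineOpen U ∧ IsAffineOpen k.G ∧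
        IsAffineOpen k.H ∧ x ∈ k.G ∧ k.G ≤ f ⁻¹ᵁ U ∧ k.H ≤ t ⁻¹ᵁ U) ∧
      (∀ τ : T, ∃ (k : Pair ι ξ) (U : Y.Opens), IsAffineOpen U ∧ IsAffineOpen k.G ∧
        IsAffineOpen k.H ∧ τ ∈ k.H ∧ k.G ≤ f ⁻¹ᵁ U ∧ k.H ≤ t ⁻¹ᵁ U) := by
  have hpre : ∀ (U : Y.Opens) (V : X.Opens), V ≤ f ⁻¹ᵁ U →
      (∀ z : Z, (ξ ≫ t).base z ∈ U → ι.base z ∈ V) → ι ⁻¹ᵁ V = ξ ⁻¹ᵁ (t ⁻¹ᵁ U) := by
    intro U V hV hz
    ext z
    constructor
    · intro h
      have h1 : f (ι z) ∈ U := hV h
      have h2 : f (ι z) = t (ξ z) := congr($hsq z)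
      rw [h2] at h1
      exact h1
    · intro h
      exact hz z h
  constructor
  · intro x
    by_cases hx : x ∈ Set.range ι
    · obtain ⟨z, rfl⟩ := hx
      obtain ⟨U, hU, hyU, V, hV, hVU, hz⟩ := hstd ((ξ ≫ t).base z)
      exact ⟨⟨V, t ⁻¹ᵁ U, hpre U V hVU hz⟩, U, hU, hV, hU.preimage t, hz z hyU, hVU, le_rfl⟩
    · obtain ⟨_, ⟨U, hU, rfl⟩, hfxU, -⟩ :=
        Y.isBasis_affineOpens.exists_subset_of_mem_open (Set.mem_univ (f x)) isOpen_univ
      have hopen : IsOpen ((Set.range ι)ᶜ ∩ (f ⁻¹ᵁ U : Set X)) :=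
        ι.isClosedEmbedding.isClosed_range.isOpen_compl.inter (f ⁻¹ᵁ U).2
      obtain ⟨_, ⟨V, hV, rfl⟩, hxV, hVsub⟩ :=
        X.isBasis_affineOpens.exists_subset_of_mem_open
          (show x ∈ (Set.range ι)ᶜ ∩ (f ⁻¹ᵁ U : Set X) from ⟨hx, hfxU⟩) hopen
      have hbot : ι ⁻¹ᵁ V = ξ ⁻¹ᵁ (⊥ : T.Opens) := by
        ext z
        constructor
        · intro h
          exact absurd ⟨z, rfl⟩ (hVsub h).1
        · intro h
          exact absurd h (by simp)
      exact ⟨⟨V, ⊥, hbot⟩, U, hU, hV, isAffineOpen_bot T, hxV, fun v hv => (hVsub hv).2,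
        bot_le (a := t ⁻¹ᵁ U)⟩
  · intro τ
    obtain ⟨U, hU, hyU, V, hV, hVU, hz⟩ := hstd (t τ)
    exact ⟨⟨V, t ⁻¹ᵁ U, hpre U V hVU hz⟩, U, hU, hV, hU.preimage t, hyU, hVU, le_rfl⟩

/-- In the pinching situation over a locally Noetherian base, the pushout is locally of finite
type over the base. -/
theorem locallyOfFiniteType_of_pinch (f : X ⟶ Y) (t : T ⟶ Y) (ξ : Z ⟶ T) (ι : Z ⟶ X)
    [IsAffineHom t] [IsClosedImmersion ι] (hsq : ι ≫ f = ξ ≫ t)
    (hstd : ∀ y : Y, ∃ U : Y.Opens, IsAffineOpen U ∧ y ∈ U ∧ ∃ V : X.Opens, IsAffineOpen V ∧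
      V ≤ f ⁻¹ᵁ U ∧ ∀ z : Z, (ξ ≫ t).base z ∈ U → ι.base z ∈ V)
    [IsLocallyNoetherian Y] [LocallyOfFiniteType f] [LocallyOfFiniteType t] [IsIntegralHom ξ]
    {a : X ⟶ P} {b : T ⟶ P} (hP : IsPushout ι ξ a b)
    (p : P ⟶ Y) (hap : a ≫ p = f) (hbp : b ≫ p = t) : LocallyOfFiniteType p := by
  obtain ⟨hX, hT⟩ := pinch_charts f t ξ ι hsq hstd
  obtain ⟨hXb, hTb⟩ := pinch_charts_base f t ξ ι hsq hstd
  obtain ⟨-, -, hjs, -, -⟩ := props_of_isPushout_of_charts hX hT hP
  apply of_source_charts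
  intro q
  rcases hjs q with ⟨x, rfl⟩ | ⟨τ, rfl⟩
  · obtain ⟨k, U, hU, hG, hH, hxG, hGU, hHU⟩ := hXb x
    obtain ⟨e, he, hae, hbe, hxa, htb⟩ := chart_of_pair hX hT hP k hG hH
    refine ⟨_, e, he, ?_, chart_locallyOfFiniteType f t p hap hbp hjs k hG hH U hU hGU hHU e hae
      hbe hxa htb⟩
    exact ⟨chartA k hG ⟨x, hxG⟩, (congr($hae ⟨x, hxG⟩)).symm⟩
  · obtain ⟨k, U, hU, hG, hH, hτH, hGU, hHU⟩ := hTb τ
    obtain ⟨e, he, hae, hbe, hxa, htb⟩ := chart_of_pair hX hT hP k hG hH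
    refine ⟨_, e, he, ?_, chart_locallyOfFiniteType f t p hap hbp hjs k hG hH U hU hGU hHU e hae
      hbe hxa htb⟩
    exact ⟨chartB k hH ⟨τ, hτH⟩, (congr($hbe ⟨τ, hτH⟩)).symm⟩

end Main

section Proper

variable {X T P Y : Scheme.{u}}

/-- quasi-compactness descends along a jointly surjective pair -/
theorem quasiCompact_of_jointly_surjective (f : X ⟶ Y) (t : T ⟶ Y) [QuasiCompact f]
    [QuasiCompact t] {a : X ⟶ P} {b : T ⟶ P} (p : P ⟶ Y) (hap : a ≫ p = f) (hbp : b ≫ p = t)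
    (hjs : ∀ q : P, q ∈ Set.range a ∨ q ∈ Set.range b) : QuasiCompact p := by
  constructor
  intro U hU hUc
  have h1 : IsCompact (a '' (f ⁻¹' U)) :=
    (QuasiCompact.isCompact_preimage (f := f) U hU hUc).image a.continuous
  have h2 : IsCompact (b '' (t ⁻¹' U)) :=
    (QuasiCompact.isCompact_preimage (f := t) U hU hUc).image b.continuous
  have heq : p ⁻¹' U = a '' (f ⁻¹' U) ∪ b '' (t ⁻¹' U) := by
    ext q
    constructor
    · intro hq
      rcases hjs q with ⟨x, rfl⟩ | ⟨τ, rfl⟩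
      · left
        refine ⟨x, ?_, rfl⟩
        have h : f x = p (a x) := (congr($hap x)).symm
        show f x ∈ U
        rw [h]
        exact hq
      · right
        refine ⟨τ, ?_, rfl⟩
        have h : t τ = p (b τ) := (congr($hbp τ)).symm
        show t τ ∈ U
        rw [h]
        exact hq
    · rintro (⟨x, hx, rfl⟩ | ⟨τ, hτ, rfl⟩)
      · have h : f x = p (a x) := (congr($hap x)).symm
        show p (a x) ∈ U
        rw [← h]
        exact hx
      · have h : t τ = p (b τ) := (congr($hbp τ)).symm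
        show p (b τ) ∈ U
        rw [← h]
        exact hτ
  rw [heq]
  exact h1.union h2

/-- universal closedness descends along a jointly surjective pair -/
theorem universallyClosed_of_jointly_surjective (f : X ⟶ Y) (t : T ⟶ Y) [UniversallyClosed f]
    [UniversallyClosed t] {a : X ⟶ P} {b : T ⟶ P} (p : P ⟶ Y) (hap : a ≫ p = f)
    (hbp : b ≫ p = t) (hjs : ∀ q : P, q ∈ Set.range a ∨ q ∈ Set.range b) :
    UniversallyClosed p := by
  constructor
  intro P' Y' i₁ i₂ p' H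
  have hA : IsPullback (pullback.fst i₁ a ≫ p') (pullback.snd i₁ a) i₂ f := by
    have := (IsPullback.of_hasPullback i₁ a).paste_horiz H
    rwa [hap] at this
  have hB : IsPullback (pullback.fst i₁ b ≫ p') (pullback.snd i₁ b) i₂ t := by
    have := (IsPullback.of_hasPullback i₁ b).paste_horiz H
    rwa [hbp] at this
  have cA : IsClosedMap (pullback.fst i₁ a ≫ p') :=
    UniversallyClosed.universally_isClosedMap _ _ _ hA
  have cB : IsClosedMap (pullback.fst i₁ b ≫ p') :=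
    UniversallyClosed.universally_isClosedMap _ _ _ hB
  show IsClosedMap p'
  intro C hC
  have heq : p' '' C = (pullback.fst i₁ a ≫ p') '' ((pullback.fst i₁ a) ⁻¹' C) ∪
      (pullback.fst i₁ b ≫ p') '' ((pullback.fst i₁ b) ⁻¹' C) := by
    ext y
    constructor
    · rintro ⟨c, hc, rfl⟩
      rcases hjs (i₁ c) with ⟨x, hx⟩ | ⟨τ, hτ⟩
      · obtain ⟨w, hw, -⟩ := Scheme.Pullback.exists_preimage_pullback (f := i₁) (g := a) c x hx.symm
        left
        refine ⟨w, ?_, ?_⟩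
        · show pullback.fst i₁ a w ∈ C
          rw [hw]
          exact hc
        · show p' (pullback.fst i₁ a w) = p' c
          rw [hw]
      · obtain ⟨w, hw, -⟩ := Scheme.Pullback.exists_preimage_pullback (f := i₁) (g := b) c τ hτ.symm
        right
        refine ⟨w, ?_, ?_⟩
        · show pullback.fst i₁ b w ∈ C
          rw [hw]
          exact hc
        · show p' (pullback.fst i₁ b w) = p' c
          rw [hw]
    · rintro (⟨w, hw, rfl⟩ | ⟨w, hw, rfl⟩)
      · exact ⟨pullback.fst i₁ a w, hw, rfl⟩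
      · exact ⟨pullback.fst i₁ b w, hw, rfl⟩
  rw [heq]
  exact (cA _ (hC.preimage (pullback.fst i₁ a).continuous)).union
    (cB _ (hC.preimage (pullback.fst i₁ b).continuous))

/-- separatedness descends along a jointly surjective pair of universally closed maps -/
theorem isSeparated_of_jointly_surjective (f : X ⟶ Y) (t : T ⟶ Y) [IsSeparated f]
    [IsSeparated t] {a : X ⟶ P} {b : T ⟶ P} [UniversallyClosed a] [UniversallyClosed b]
    (p : P ⟶ Y) (hap : a ≫ p = f)
    (hbp : b ≫ p = t) (hjs : ∀ q : P, q ∈ Set.range a ∨ q ∈ Set.range b) :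
    IsSeparated p := by
  have haa : UniversallyClosed (pullback.map f f p p a a (𝟙 _)
      ((Category.comp_id _).trans hap.symm) ((Category.comp_id _).trans hap.symm)) :=
    MorphismProperty.pullbackMap (P := @UniversallyClosed) ‹_› ‹_› hap.symm hap.symm
  have hbb : UniversallyClosed (pullback.map t t p p b b (𝟙 _)
      ((Category.comp_id _).trans hbp.symm) ((Category.comp_id _).trans hbp.symm)) :=
    MorphismProperty.pullbackMap (P := @UniversallyClosed) ‹_› ‹_› hbp.symm hbp.symm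
  have ea : pullback.diagonal f ≫ pullback.map f f p p a a (𝟙 _)
      ((Category.comp_id _).trans hap.symm) ((Category.comp_id _).trans hap.symm) =
      a ≫ pullback.diagonal p := by
    apply pullback.hom_ext
    · rw [Category.assoc, pullback.lift_fst, pullback.diagonal_fst_assoc, Category.assoc,
        pullback.diagonal_fst, Category.comp_id]
    · rw [Category.assoc, pullback.lift_snd, pullback.diagonal_snd_assoc, Category.assoc,
        pullback.diagonal_snd, Category.comp_id]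
  have eb : pullback.diagonal t ≫ pullback.map t t p p b b (𝟙 _)
      ((Category.comp_id _).trans hbp.symm) ((Category.comp_id _).trans hbp.symm) =
      b ≫ pullback.diagonal p := by
    apply pullback.hom_ext
    · rw [Category.assoc, pullback.lift_fst, pullback.diagonal_fst_assoc, Category.assoc,
        pullback.diagonal_fst, Category.comp_id]
    · rw [Category.assoc, pullback.lift_snd, pullback.diagonal_snd_assoc, Category.assoc,
        pullback.diagonal_snd, Category.comp_id]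
  have heq : Set.range (pullback.diagonal p) =
      (pullback.map f f p p a a (𝟙 _)
        ((Category.comp_id _).trans hap.symm) ((Category.comp_id _).trans hap.symm)) ''
          (Set.range (pullback.diagonal f)) ∪
      (pullback.map t t p p b b (𝟙 _)
        ((Category.comp_id _).trans hbp.symm) ((Category.comp_id _).trans hbp.symm)) ''
          (Set.range (pullback.diagonal t)) := by
    ext y
    constructor
    · rintro ⟨q, rfl⟩
      rcases hjs q with ⟨x, rfl⟩ | ⟨τ, rfl⟩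
      · left
        exact ⟨_, ⟨x, rfl⟩, congr($ea x)⟩
      · right
        exact ⟨_, ⟨τ, rfl⟩, congr($eb τ)⟩
    · rintro (⟨_, ⟨x, rfl⟩, rfl⟩ | ⟨_, ⟨τ, rfl⟩, rfl⟩)
      · exact ⟨a x, (congr($ea x)).symm⟩
      · exact ⟨b τ, (congr($eb τ)).symm⟩
  constructor
  apply IsClosedImmersion.of_isPreimmersion
  rw [heq]
  exact (Scheme.Hom.isClosedMap _ _ (pullback.diagonal f).isClosedEmbedding.isClosed_range).union
    (Scheme.Hom.isClosedMap _ _ (pullback.diagonal t).isClosedEmbedding.isClosed_range)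

end Proper

end Groth.Agent.Lib.Ferrand24
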