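import Groth.Agent.Lib.Ferrand24b

/-!
# Ferrand pushouts X: good squares are local on the corner (helper24)

* `isFibreSq_of_bijective'` : transport of fibre squares along bijections (reverse direction).
* `Good.of_affine` : a commutative square of affine schemes whose global sections form a fibre
  square with the surjectivity condition is good.
* `Good.of_local` : a square which is good locally on the corner is good.
* `isPushout_of_local_fibreSq` : a commutative square with affine legs whose sections over the members of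
  an affine open cover of the corner are fibre squares is a pushout.
-/

set_option autoImplicit false
universe u

namespace Groth.Agent.Lib.Ferrand24

open AlgebraicGeometry CategoryTheory CategoryTheory.Limits TopologicalSpace Opposite
open Groth.Agent.Lib.RingFibreSq24 Groth.Agent.Lib.SchemePushout24

/-- transport of a fibre square of rings along bijections, the maps going towards the known
square -/
theorem isFibreSq_of_bijective' {A A' B C A₂ A'₂ B₂ C₂ : Type*} [CommRing A] [CommRing A']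
    [CommRing B] [CommRing C] [CommRing A₂] [CommRing A'₂] [CommRing B₂] [CommRing C₂]
    {π₁ : C →+* B} {π₂ : C →+* A'} {q : B →+* A} {p : A' →+* A} (h : IsFibreSq π₁ π₂ q p)
    {π₁' : C₂ →+* B₂} {π₂' : C₂ →+* A'₂} {q' : B₂ →+* A₂} {p' : A'₂ →+* A₂}
    (gC : C₂ →+* C) (gB : B₂ →+* B) (gA' : A'₂ →+* A') (gA : A₂ →+* A)
    (hC : Function.Bijective gC) (hB : Function.Bijective gB) (hA' : Function.Bijective gA')
    (hA : Function.Injective gA)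
    (e₁ : ∀ c, π₁ (gC c) = gB (π₁' c)) (e₂ : ∀ c, π₂ (gC c) = gA' (π₂' c))
    (eq : ∀ b, q (gB b) = gA (q' b)) (ep : ∀ a, p (gA' a) = gA (p' a)) :
    IsFibreSq π₁' π₂' q' p' := by
  refine ⟨?_, ?_, ?_⟩
  · intro c
    apply hA
    rw [← eq, ← ep, ← e₁, ← e₂, h.comm]
  · intro c h₁ h₂
    apply hC.1
    rw [map_zero]
    apply h.inj
    · rw [e₁, h₁, map_zero]
    · rw [e₂, h₂, map_zero]
  · intro b a hba
    obtain ⟨c, hc₁, hc₂⟩ := h.surj (gB b) (gA' a) (by rw [eq, ep, hba])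
    obtain ⟨c', rfl⟩ := hC.2 c
    refine ⟨c', hB.1 ?_, hA'.1 ?_⟩
    · rw [← e₁, hc₁]
    · rw [← e₂, hc₂]

namespace Good

variable {X Y Z P : Scheme.{u}} {i : Z ⟶ X} {j : Z ⟶ Y} {a : X ⟶ P} {b : Y ⟶ P}

/-- A commutative square of affine schemes whose global sections form a fibre square (with the
surjectivity condition) is good. -/
theorem of_affine [IsAffine X] [IsAffine Y] [IsAffine Z] [IsAffine P]
    (sq : IsFibreSq b.appTop.hom a.appTop.hom j.appTop.hom i.appTop.hom)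
    (hp : Function.Surjective i.appTop.hom) : ∃ 𝓑, Good i j a b 𝓑 := by
  have hgood := good_Spec sq hp
  refine ⟨_, hgood.restrict X.isoSpec.hom Y.isoSpec.hom Z.isoSpec.hom P.isoSpec.hom
    (Scheme.isoSpec_hom_naturality i).symm (Scheme.isoSpec_hom_naturality j).symm
    (Scheme.isoSpec_hom_naturality a).symm (Scheme.isoSpec_hom_naturality b).symm ?_ ?_ ?_⟩
  · intro x _
    exact ⟨X.isoSpec.inv x, by rw [← Scheme.Hom.comp_apply, Iso.inv_hom_id]; rfl⟩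
  · intro y _
    exact ⟨Y.isoSpec.inv y, by rw [← Scheme.Hom.comp_apply, Iso.inv_hom_id]; rfl⟩
  · intro z _
    exact ⟨Z.isoSpec.inv z, by rw [← Scheme.Hom.comp_apply, Iso.inv_hom_id]; rfl⟩

end Good

/-- restriction data of a commutative square to an open piece of the corner, the restricted
square being good -/
structure LocalPiece {X Y Z P : Scheme.{u}} (i : Z ⟶ X) (j : Z ⟶ Y) (a : X ⟶ P) (b : Y ⟶ P) where
  P' : Scheme.{u}
  X' : Scheme.{u}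
  Y' : Scheme.{u}
  Z' : Scheme.{u}
  uP : P' ⟶ P
  uX : X' ⟶ X
  uY : Y' ⟶ Y
  uZ : Z' ⟶ Z
  i' : Z' ⟶ X'
  j' : Z' ⟶ Y'
  a' : X' ⟶ P'
  b' : Y' ⟶ P'
  oP : IsOpenImmersion uP
  oX : IsOpenImmersion uX
  oY : IsOpenImmersion uY
  oZ : IsOpenImmersion uZ
  ei : i' ≫ uX = uZ ≫ i
  ej : j' ≫ uY = uZ ≫ j
  ea : a' ≫ uP = uX ≫ a
  eb : b' ≫ uP = uY ≫ b
  hX : ∀ x : X, a x ∈ Set.range uP → x ∈ Set.range uX
  hY : ∀ y : Y, b y ∈ Set.range uP → y ∈ Set.range uY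
  hZ : ∀ z : Z, i z ∈ Set.range uX → z ∈ Set.range uZ
  𝓑' : Set P'.Opens
  good : Good i' j' a' b' 𝓑'

attribute [instance] LocalPiece.oP LocalPiece.oX LocalPiece.oY LocalPiece.oZ

namespace Good

variable {X Y Z P : Scheme.{u}} {i : Z ⟶ X} {j : Z ⟶ Y} {a : X ⟶ P} {b : Y ⟶ P}

/-- A commutative square which is good locally on the corner is good. -/
theorem of_local (w : i ≫ a = j ≫ b)
    (H : ∀ t : P, ∃ c : LocalPiece i j a b, t ∈ Set.range c.uP) : ∃ 𝓑, Good i j a b 𝓑 := by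
  choose c hc using H
  have hw : ∀ z, a (i z) = b (j z) := fun z => congr($w z)
  refine ⟨{U | ∃ (t : P) (U' : (c t).P'.Opens), U' ∈ (c t).𝓑' ∧ U = (c t).uP ''ᵁ U'}, w, ?_, ?_, ?_⟩
  · -- joint surjectivity
    intro t
    obtain ⟨t', ht'⟩ := hc t
    rcases (c t).good.surj t' with ⟨x', hx'⟩ | ⟨y', hy'⟩
    · refine Or.inl ⟨(c t).uX x', ?_⟩
      have := congr($((c t).ea) x')
      exact this.symm.trans ((congrArg (c t).uP hx').trans ht')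
    · refine Or.inr ⟨(c t).uY y', ?_⟩
      have := congr($((c t).eb) y')
      exact this.symm.trans ((congrArg (c t).uP hy').trans ht')
  · -- sections
    rintro _ ⟨t, U', hU', rfl⟩ h
    have hUr : (c t).uP ''ᵁ U' ≤ (c t).uP.opensRange := by
      rintro _ ⟨s, -, rfl⟩
      exact ⟨s, rfl⟩
    have ePre : (c t).uP ⁻¹ᵁ ((c t).uP ''ᵁ U') = U' := (c t).uP.preimage_image_eq U'
    have hXr : a ⁻¹ᵁ ((c t).uP ''ᵁ U') ≤ (c t).uX.opensRange := fun x hx => (c t).hX x (hUr hx)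
    have hYr : b ⁻¹ᵁ ((c t).uP ''ᵁ U') ≤ (c t).uY.opensRange := fun y hy => (c t).hY y (hUr hy)
    have hZr : i ⁻¹ᵁ a ⁻¹ᵁ ((c t).uP ''ᵁ U') ≤ (c t).uZ.opensRange :=
      fun z hz => (c t).hZ z (hXr hz)
    have eX : (c t).a' ⁻¹ᵁ U' = (c t).uX ⁻¹ᵁ a ⁻¹ᵁ ((c t).uP ''ᵁ U') := by
      rw [← Scheme.Hom.comp_preimage, ← (c t).ea, Scheme.Hom.comp_preimage, ePre]
    have eY : (c t).b' ⁻¹ᵁ U' = (c t).uY ⁻¹ᵁ b ⁻¹ᵁ ((c t).uP ''ᵁ U') := by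
      rw [← Scheme.Hom.comp_preimage, ← (c t).eb, Scheme.Hom.comp_preimage, ePre]
    have eZ : (c t).i' ⁻¹ᵁ (c t).a' ⁻¹ᵁ U' = (c t).uZ ⁻¹ᵁ i ⁻¹ᵁ a ⁻¹ᵁ ((c t).uP ''ᵁ U') := by
      rw [eX, ← Scheme.Hom.comp_preimage, ← Scheme.Hom.comp_preimage, (c t).ei]
      rfl
    refine isFibreSq_of_bijective' ((c t).good.sq U' hU' ((c t).good.preimage_le U'))
      ((c t).uP.appLE ((c t).uP ''ᵁ U') U' ePre.ge).hom
      ((c t).uY.appLE (b ⁻¹ᵁ ((c t).uP ''ᵁ U')) ((c t).b' ⁻¹ᵁ U') eY.le).hom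
      ((c t).uX.appLE (a ⁻¹ᵁ ((c t).uP ''ᵁ U')) ((c t).a' ⁻¹ᵁ U') eX.le).hom
      ((c t).uZ.appLE (i ⁻¹ᵁ a ⁻¹ᵁ ((c t).uP ''ᵁ U')) ((c t).i' ⁻¹ᵁ (c t).a' ⁻¹ᵁ U') eZ.le).hom
      (bijective_appLE (c t).uP _ _ hUr ePre.symm)
      (bijective_appLE (c t).uY _ _ hYr eY) (bijective_appLE (c t).uX _ _ hXr eX)
      (bijective_appLE (c t).uZ _ _ hZr eZ).1 ?_ ?_ ?_ ?_
    · intro s
      rw [Scheme.Hom.app_eq_appLE, Scheme.Hom.app_eq_appLE]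
      exact appLE_sq (c t).eb _ _ _ _ _ _ _ _ s
    · intro s
      rw [Scheme.Hom.app_eq_appLE, Scheme.Hom.app_eq_appLE]
      exact appLE_sq (c t).ea _ _ _ _ _ _ _ _ s
    · intro s
      exact appLE_sq (c t).ej _ _ _ _ _ _ _ _ s
    · intro s
      rw [Scheme.Hom.app_eq_appLE, Scheme.Hom.app_eq_appLE]
      exact appLE_sq (c t).ei _ _ _ _ _ _ _ _ s
  · -- topology
    intro G H hGH t ht
    obtain ⟨t', ht'⟩ := hc t
    have injP : Function.Injective (c t).uP := (c t).uP.isOpenEmbedding.injective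
    have hea : ∀ x, (c t).uP ((c t).a' x) = a ((c t).uX x) := fun x => congr($((c t).ea) x)
    have heb : ∀ y, (c t).uP ((c t).b' y) = b ((c t).uY y) := fun y => congr($((c t).eb) y)
    have hGH' : (c t).i' ⁻¹ᵁ ((c t).uX ⁻¹ᵁ G) = (c t).j' ⁻¹ᵁ ((c t).uY ⁻¹ᵁ H) := by
      rw [← Scheme.Hom.comp_preimage, ← Scheme.Hom.comp_preimage, (c t).ei, (c t).ej,
        Scheme.Hom.comp_preimage, Scheme.Hom.comp_preimage, hGH]
    have ht'' : (∃ x ∈ (c t).uX ⁻¹ᵁ G, (c t).a' x = t') ∨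
        (∃ y ∈ (c t).uY ⁻¹ᵁ H, (c t).b' y = t') := by
      rcases ht with ⟨x, hxG, hx⟩ | ⟨y, hyH, hy⟩
      · obtain ⟨x', rfl⟩ := (c t).hX x (by rw [hx]; exact ⟨t', ht'⟩)
        refine Or.inl ⟨x', hxG, injP ?_⟩
        rw [hea, hx, ht']
      · obtain ⟨y', rfl⟩ := (c t).hY y (by rw [hy]; exact ⟨t', ht'⟩)
        refine Or.inr ⟨y', hyH, injP ?_⟩
        rw [heb, hy, ht']
    obtain ⟨U', hU', htU', hUa, hUb⟩ := (c t).good.top _ _ hGH' t' ht''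
    refine ⟨(c t).uP ''ᵁ U', ⟨t, U', hU', rfl⟩, ⟨t', htU', ht'⟩, ?_, ?_⟩
    · rintro x ⟨s, hs, hsx⟩
      obtain ⟨x', rfl⟩ := (c t).hX x ⟨s, hsx⟩
      have : (c t).a' x' = s := injP (by rw [hea]; exact hsx.symm)
      have hx' : x' ∈ (c t).a' ⁻¹ᵁ U' := by
        show (c t).a' x' ∈ U'
        rw [this]; exact hs
      exact hUa hx'
    · rintro y ⟨s, hs, hsy⟩
      obtain ⟨y', rfl⟩ := (c t).hY y ⟨s, hsy⟩
      have : (c t).b' y' = s := injP (by rw [heb]; exact hsy.symm)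
      have hy' : y' ∈ (c t).b' ⁻¹ᵁ U' := by
        show (c t).b' y' ∈ U'
        rw [this]; exact hs
      exact hUb hy'

end Good

section Local

theorem appTop_eq_appLE {A B : Scheme.{u}} (f : A ⟶ B) : f.appTop = f.appLE ⊤ ⊤ (by simp) := by
  rw [Scheme.Hom.appTop, Scheme.Hom.app_eq_appLE]
  rfl

variable {X Y Z P : Scheme.{u}} {i : Z ⟶ X} {j : Z ⟶ Y} {a : X ⟶ P} {b : Y ⟶ P}

/-- the restriction of a square to an affine open of the corner with affine preimages, whose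
sections form a fibre square, is a good local piece -/
theorem exists_localPiece (W : P.Opens) (hW : IsAffineOpen W)
    (hWa : IsAffineOpen (a ⁻¹ᵁ W)) (hWb : IsAffineOpen (b ⁻¹ᵁ W))
    (hWi : IsAffineOpen (i ⁻¹ᵁ a ⁻¹ᵁ W)) (h : i ⁻¹ᵁ a ⁻¹ᵁ W ≤ j ⁻¹ᵁ b ⁻¹ᵁ W)
    (sq : IsFibreSq (b.app W).hom (a.app W).hom (j.appLE (b ⁻¹ᵁ W) (i ⁻¹ᵁ a ⁻¹ᵁ W) h).hom
      (i.app (a ⁻¹ᵁ W)).hom)
    (hp : Function.Surjective (i.app (a ⁻¹ᵁ W)).hom) :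
    ∃ c : LocalPiece i j a b, Set.range c.uP = W := by
  haveI : IsAffine W.toScheme := hW
  haveI : IsAffine (a ⁻¹ᵁ W).toScheme := hWa
  haveI : IsAffine (b ⁻¹ᵁ W).toScheme := hWb
  haveI : IsAffine (i ⁻¹ᵁ a ⁻¹ᵁ W).toScheme := hWi
  have ei : (i ∣_ (a ⁻¹ᵁ W)) ≫ (a ⁻¹ᵁ W).ι = (i ⁻¹ᵁ a ⁻¹ᵁ W).ι ≫ i := morphismRestrict_ι _ _
  have ej : j.resLE (b ⁻¹ᵁ W) (i ⁻¹ᵁ a ⁻¹ᵁ W) h ≫ (b ⁻¹ᵁ W).ι = (i ⁻¹ᵁ a ⁻¹ᵁ W).ι ≫ j :=
    Scheme.Hom.resLE_comp_ι _ _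
  have ea : (a ∣_ W) ≫ W.ι = (a ⁻¹ᵁ W).ι ≫ a := morphismRestrict_ι _ _
  have eb : (b ∣_ W) ≫ W.ι = (b ⁻¹ᵁ W).ι ≫ b := morphismRestrict_ι _ _
  have hr : ∀ {S : Scheme.{u}} (V : S.Opens), V ≤ V.ι.opensRange := by
    intro S V x hx
    exact ⟨⟨x, hx⟩, rfl⟩
  have sq' : IsFibreSq (b ∣_ W).appTop.hom (a ∣_ W).appTop.hom
      (j.resLE (b ⁻¹ᵁ W) (i ⁻¹ᵁ a ⁻¹ᵁ W) h).appTop.hom (i ∣_ (a ⁻¹ᵁ W)).appTop.hom := by
    refine isFibreSq_of_bijective sq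
      (W.ι.appLE W ⊤ (by simp)).hom ((b ⁻¹ᵁ W).ι.appLE (b ⁻¹ᵁ W) ⊤ (by simp)).hom
      ((a ⁻¹ᵁ W).ι.appLE (a ⁻¹ᵁ W) ⊤ (by simp)).hom
      ((i ⁻¹ᵁ a ⁻¹ᵁ W).ι.appLE (i ⁻¹ᵁ a ⁻¹ᵁ W) ⊤ (by simp)).hom
      (bijective_appLE _ _ _ (hr _) (by simp)) (bijective_appLE _ _ _ (hr _) (by simp))
      (bijective_appLE _ _ _ (hr _) (by simp)) (bijective_appLE _ _ _ (hr _) (by simp)).1
      ?_ ?_ ?_ ?_
    · intro c
      rw [Scheme.Hom.app_eq_appLE, appTop_eq_appLE]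
      exact appLE_sq eb W ⊤ (b ⁻¹ᵁ W) ⊤ (by simp) (by simp) le_rfl (by simp) c
    · intro c
      rw [Scheme.Hom.app_eq_appLE, appTop_eq_appLE]
      exact appLE_sq ea W ⊤ (a ⁻¹ᵁ W) ⊤ (by simp) (by simp) le_rfl (by simp) c
    · intro s
      rw [appTop_eq_appLE]
      exact appLE_sq ej (b ⁻¹ᵁ W) ⊤ (i ⁻¹ᵁ a ⁻¹ᵁ W) ⊤ (by simp) (by simp) h (by simp) s
    · intro s
      rw [Scheme.Hom.app_eq_appLE, appTop_eq_appLE]
      exact appLE_sq ei (a ⁻¹ᵁ W) ⊤ (i ⁻¹ᵁ a ⁻¹ᵁ W) ⊤ (by simp) (by simp) le_rfl (by simp) s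
  have hp' : Function.Surjective (i ∣_ (a ⁻¹ᵁ W)).appTop.hom := by
    intro s
    obtain ⟨s', rfl⟩ := (bijective_appLE (i ⁻¹ᵁ a ⁻¹ᵁ W).ι (i ⁻¹ᵁ a ⁻¹ᵁ W) ⊤ (hr _) (by simp)).2 s
    obtain ⟨r, rfl⟩ := hp s'
    refine ⟨((a ⁻¹ᵁ W).ι.appLE (a ⁻¹ᵁ W) ⊤ (by simp)).hom r, ?_⟩
    rw [Scheme.Hom.app_eq_appLE, appTop_eq_appLE]
    exact appLE_sq ei (a ⁻¹ᵁ W) ⊤ (i ⁻¹ᵁ a ⁻¹ᵁ W) ⊤ (by simp) (by simp) le_rfl (by simp) r
  obtain ⟨𝓑', hgood⟩ := Good.of_affine sq' hp'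
  refine ⟨{ P' := W.toScheme, X' := (a ⁻¹ᵁ W).toScheme, Y' := (b ⁻¹ᵁ W).toScheme,
            Z' := (i ⁻¹ᵁ a ⁻¹ᵁ W).toScheme, uP := W.ι, uX := (a ⁻¹ᵁ W).ι, uY := (b ⁻¹ᵁ W).ι,
            uZ := (i ⁻¹ᵁ a ⁻¹ᵁ W).ι, i' := i ∣_ (a ⁻¹ᵁ W),
            j' := j.resLE (b ⁻¹ᵁ W) (i ⁻¹ᵁ a ⁻¹ᵁ W) h, a' := a ∣_ W, b' := b ∣_ W,
            oP := inferInstance, oX := inferInstance, oY := inferInstance, oZ := inferInstance,
            ei := ei, ej := ej, ea := ea, eb := eb, hX := ?_, hY := ?_, hZ := ?_, 𝓑' := 𝓑',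
            good := hgood }, ?_⟩
  · intro x hx
    rw [Scheme.Opens.range_ι] at hx ⊢
    exact hx
  · intro y hy
    rw [Scheme.Opens.range_ι] at hy ⊢
    exact hy
  · intro z hz
    rw [Scheme.Opens.range_ι] at hz ⊢
    exact hz
  · exact Scheme.Opens.range_ι W

/-- **Pushouts from local fibre squares.** A commutative square of schemes such that the corner is
covered by affine opens with affine preimages over which the sections form a fibre square of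
rings (with the surjectivity condition) is a pushout square. -/
theorem isPushout_of_local_fibreSq (w : i ≫ a = j ≫ b)
    (H : ∀ t : P, ∃ W : P.Opens, t ∈ W ∧ IsAffineOpen W ∧ IsAffineOpen (a ⁻¹ᵁ W) ∧
      IsAffineOpen (b ⁻¹ᵁ W) ∧ IsAffineOpen (i ⁻¹ᵁ a ⁻¹ᵁ W) ∧
      ∃ h : i ⁻¹ᵁ a ⁻¹ᵁ W ≤ j ⁻¹ᵁ b ⁻¹ᵁ W,
        IsFibreSq (b.app W).hom (a.app W).hom (j.appLE (b ⁻¹ᵁ W) (i ⁻¹ᵁ a ⁻¹ᵁ W) h).hom
          (i.app (a ⁻¹ᵁ W)).hom ∧ Function.Surjective (i.app (a ⁻¹ᵁ W)).hom) :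
    IsPushout i j a b := by
  obtain ⟨𝓑, hgood⟩ := Good.of_local w (fun t => by
    obtain ⟨W, htW, hW, hWa, hWb, hWi, h, sq, hp⟩ := H t
    obtain ⟨c, hc⟩ := exists_localPiece W hW hWa hWb hWi h sq hp
    exact ⟨c, by rw [hc]; exact htW⟩)
  exact hgood.isPushout

end Local

end Groth.Agent.Lib.Ferrand24
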