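import Groth.Agent.Lib.Ferrand24i
import Groth.Agent.Lib.Ferrand24j

/-!
# Ferrand pushouts XI: sections of the pushout and base change (helper24)

* `sections_isFibreSq` : over an affine open `U` of a Ferrand pushout `P` with affine preimages in
  `X` and `T`, the sections form a fibre square of rings.
-/

set_option autoImplicit false
universe u

namespace Groth.Agent.Lib.Ferrand24

open AlgebraicGeometry CategoryTheory CategoryTheory.Limits TopologicalSpace Opposite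
open Groth.Agent.Lib.RingFibreSq24

section Sections

variable {X T Z P : Scheme.{u}} {ι : Z ⟶ X} {ξ : Z ⟶ T} [IsClosedImmersion ι]

/-- A morphism of affine schemes which is an isomorphism comes from a bijective ring map. -/
theorem bijective_of_Spec_map_iso {R S : CommRingCat.{u}} (θ : Spec S ≅ Spec R) :
    Function.Bijective (Spec.preimage θ.hom).hom := by
  have h1 : Spec.preimage θ.hom ≫ Spec.preimage θ.inv = 𝟙 _ := by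
    apply Spec.map_injective
    rw [Spec.map_comp, Spec.map_preimage, Spec.map_preimage, Iso.inv_hom_id, Spec.map_id]
  have h2 : Spec.preimage θ.inv ≫ Spec.preimage θ.hom = 𝟙 _ := by
    apply Spec.map_injective
    rw [Spec.map_comp, Spec.map_preimage, Spec.map_preimage, Iso.hom_inv_id, Spec.map_id]
  refine Function.bijective_iff_has_inverse.mpr ⟨(Spec.preimage θ.inv).hom, ?_, ?_⟩
  · intro r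
    exact congr($(h1).hom r)
  · intro s
    exact congr($(h2).hom s)

/-- **Sections of a Ferrand pushout.** Over an affine open `U` of the pushout with affine preimages,
`Γ(P, U) = Γ(T, b⁻¹U) ×_{Γ(Z, ·)} Γ(X, a⁻¹U)`. -/
theorem sections_isFibreSq
    (hX : ∀ x : X, ∃ k : Pair ι ξ, IsAffineOpen k.G ∧ IsAffineOpen k.H ∧ x ∈ k.G)
    (hT : ∀ t : T, ∃ k : Pair ι ξ, IsAffineOpen k.G ∧ IsAffineOpen k.H ∧ t ∈ k.H)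
    {a : X ⟶ P} {b : T ⟶ P} (hP : IsPushout ι ξ a b) (U : P.Opens) (hU : IsAffineOpen U)
    (hG : IsAffineOpen (a ⁻¹ᵁ U)) (hH : IsAffineOpen (b ⁻¹ᵁ U))
    (h : ι ⁻¹ᵁ a ⁻¹ᵁ U ≤ ξ ⁻¹ᵁ b ⁻¹ᵁ U) :
    IsFibreSq (b.app U).hom (a.app U).hom (ξ.appLE (b ⁻¹ᵁ U) (ι ⁻¹ᵁ a ⁻¹ᵁ U) h).hom
      (ι.app (a ⁻¹ᵁ U)).hom := by
  have heq : ι ⁻¹ᵁ a ⁻¹ᵁ U = ξ ⁻¹ᵁ b ⁻¹ᵁ U := by
    rw [← Scheme.Hom.comp_preimage, ← Scheme.Hom.comp_preimage, hP.w]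
  obtain ⟨-, -, hjs, -, -⟩ := props_of_isPushout_of_charts hX hT hP
  obtain ⟨e, he, hae, hbe, hxa, htb⟩ :=
    chart_of_pair hX hT hP (⟨a ⁻¹ᵁ U, b ⁻¹ᵁ U, heq⟩ : Pair ι ξ) hG hH
  have hrange : Set.range e = Set.range hU.fromSpec := by
    rw [hU.range_fromSpec]
    ext p
    constructor
    · rintro ⟨q, rfl⟩
      rcases hjs (e q) with ⟨x, hx⟩ | ⟨t, ht⟩
      · have hxG : x ∈ a ⁻¹ᵁ U := hxa x ⟨q, hx.symm⟩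
        rw [← hx]
        exact hxG
      · have htH : t ∈ b ⁻¹ᵁ U := htb t ⟨q, ht.symm⟩
        rw [← ht]
        exact htH
    · intro hp
      rcases hjs p with ⟨x, rfl⟩ | ⟨t, rfl⟩
      · exact ⟨chartA (⟨a ⁻¹ᵁ U, b ⁻¹ᵁ U, heq⟩ : Pair ι ξ) hG ⟨x, hp⟩,
          (congr($hae ⟨x, hp⟩)).symm⟩
      · exact ⟨chartB (⟨a ⁻¹ᵁ U, b ⁻¹ᵁ U, heq⟩ : Pair ι ξ) hH ⟨t, hp⟩,
          (congr($hbe ⟨t, hp⟩)).symm⟩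
  have hθ : (IsOpenImmersion.isoOfRangeEq e hU.fromSpec hrange).hom ≫ hU.fromSpec = e :=
    IsOpenImmersion.isoOfRangeEq_hom_fac _ _ _
  have hγ := Spec.map_preimage (IsOpenImmersion.isoOfRangeEq e hU.fromSpec hrange).hom
  have hbij := bijective_of_Spec_map_iso (IsOpenImmersion.isoOfRangeEq e hU.fromSpec hrange)
  have e₂ : Spec.preimage (IsOpenImmersion.isoOfRangeEq e hU.fromSpec hrange).hom ≫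
      pullback.snd (ξ.appLE (b ⁻¹ᵁ U) (ι ⁻¹ᵁ a ⁻¹ᵁ U) heq.le) (ι.app (a ⁻¹ᵁ U)) =
      a.appLE U (a ⁻¹ᵁ U) le_rfl := by
    apply Spec.map_injective
    rw [← cancel_mono hU.fromSpec, Spec.map_comp, Category.assoc, hγ, hθ,
      IsAffineOpen.SpecMap_appLE_fromSpec a hU hG, IsAffineOpen.fromSpec, Category.assoc, hae,
      chartA, Category.assoc, Iso.inv_hom_id_assoc]
    rfl
  have e₁ : Spec.preimage (IsOpenImmersion.isoOfRangeEq e hU.fromSpec hrange).hom ≫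
      pullback.fst (ξ.appLE (b ⁻¹ᵁ U) (ι ⁻¹ᵁ a ⁻¹ᵁ U) heq.le) (ι.app (a ⁻¹ᵁ U)) =
      b.appLE U (b ⁻¹ᵁ U) le_rfl := by
    apply Spec.map_injective
    rw [← cancel_mono hU.fromSpec, Spec.map_comp, Category.assoc, hγ, hθ,
      IsAffineOpen.SpecMap_appLE_fromSpec b hU hH, IsAffineOpen.fromSpec, Category.assoc, hbe,
      chartB, Category.assoc, Iso.inv_hom_id_assoc]
    rfl
  have sq := isFibreSq_pullback (ξ.appLE (b ⁻¹ᵁ U) (ι ⁻¹ᵁ a ⁻¹ᵁ U) heq.le) (ι.app (a ⁻¹ᵁ U))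
  refine isFibreSq_of_bijective' sq
    (Spec.preimage (IsOpenImmersion.isoOfRangeEq e hU.fromSpec hrange).hom).hom
    (RingHom.id _) (RingHom.id _) (RingHom.id _) hbij Function.bijective_id Function.bijective_id
    Function.injective_id ?_ ?_ ?_ ?_
  · intro c
    have hb' : (b.app U).hom c = (b.appLE U (b ⁻¹ᵁ U) le_rfl).hom c := by
      rw [Scheme.Hom.app_eq_appLE]
    exact (congr($(e₁).hom c)).trans hb'.symm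
  · intro c
    have ha' : (a.app U).hom c = (a.appLE U (a ⁻¹ᵁ U) le_rfl).hom c := by
      rw [Scheme.Hom.app_eq_appLE]
    exact (congr($(e₂).hom c)).trans ha'.symm
  · intro s
    rfl
  · intro s
    rfl

end Sections

section BaseChange

/-- The base change along `v : C ⟶ D` of the fibre square `C = B₂ ×_{B₀} B₁` is again a fibre square
(with the surjectivity condition), for every choice of the tensor products. -/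
def IsBaseChangeGood {C B₂ B₁ B₀ D : CommRingCat.{u}} (π₁ : C ⟶ B₂) (π₂ : C ⟶ B₁) (q : B₂ ⟶ B₀)
    (p : B₁ ⟶ B₀) (v : C ⟶ D) : Prop :=
  ∀ ⦃D₂ D₁ D₀ : CommRingCat.{u}⦄ (π₁' : D ⟶ D₂) (π₂' : D ⟶ D₁) (q' : D₂ ⟶ D₀) (p' : D₁ ⟶ D₀)
    (v₂ : B₂ ⟶ D₂) (v₁ : B₁ ⟶ D₁) (v₀ : B₀ ⟶ D₀),
    IsPushout π₁ v v₂ π₁' → IsPushout π₂ v v₁ π₂' → IsPushout (π₂ ≫ p) v v₀ (π₂' ≫ p') →
    q ≫ v₀ = v₂ ≫ q' → p ≫ v₀ = v₁ ≫ p' → π₁' ≫ q' = π₂' ≫ p' →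
    IsFibreSq π₁'.hom π₂'.hom q'.hom p'.hom ∧ Function.Surjective p'.hom

variable {X T Z P : Scheme.{u}} {ι : Z ⟶ X} {ξ : Z ⟶ T}

/-- **Base change of a pushout square.** Let `(ι, ξ, a, b)` be a commutative square with `a`, `b`
affine and `ι` a closed immersion, and let `(ι₁, ξ₁, a₁, b₁)` be its base change along
`u : P₁ ⟶ P`. If `P₁` is covered by affine opens `W`, mapping into affine opens `U` of `P`, such that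
the base change along `Γ(P, U) ⟶ Γ(P₁, W)` of the square of sections over `U` is a fibre square, then
the base-changed square is a pushout. -/
theorem isPushout_baseChange_of_local [IsClosedImmersion ι] {a : X ⟶ P} {b : T ⟶ P}
    [IsAffineHom a] [IsAffineHom b]
    {P₁ X₁ T₁ Z₁ : Scheme.{u}} (u : P₁ ⟶ P) (uX : X₁ ⟶ X) (uT : T₁ ⟶ T) (uZ : Z₁ ⟶ Z)
    (a₁ : X₁ ⟶ P₁) (b₁ : T₁ ⟶ P₁) (ι₁ : Z₁ ⟶ X₁) (ξ₁ : Z₁ ⟶ T₁)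
    (hX₁ : IsPullback uX a₁ a u) (hT₁ : IsPullback uT b₁ b u) (hZ₁ : IsPullback uZ ι₁ ι uX)
    (hξ₁ : ξ₁ ≫ uT = uZ ≫ ξ) (hw₁ : ι₁ ≫ a₁ = ξ₁ ≫ b₁)
    (Hloc : ∀ t : P₁, ∃ (U : P.Opens) (W : P₁.Opens), IsAffineOpen U ∧ IsAffineOpen W ∧ t ∈ W ∧
      W ≤ u ⁻¹ᵁ U ∧ ∃ (hW : W ≤ u ⁻¹ᵁ U) (h : ι ⁻¹ᵁ a ⁻¹ᵁ U ≤ ξ ⁻¹ᵁ b ⁻¹ᵁ U),
        IsBaseChangeGood (b.appLE U (b ⁻¹ᵁ U) le_rfl) (a.appLE U (a ⁻¹ᵁ U) le_rfl)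
          (ξ.appLE (b ⁻¹ᵁ U) (ι ⁻¹ᵁ a ⁻¹ᵁ U) h) (ι.appLE (a ⁻¹ᵁ U) (ι ⁻¹ᵁ a ⁻¹ᵁ U) le_rfl)
          (u.appLE U W hW)) :
    IsPushout ι₁ ξ₁ a₁ b₁ := by
  haveI : IsAffineHom a₁ := MorphismProperty.of_isPullback (P := @IsAffineHom) hX₁ inferInstance
  haveI : IsAffineHom b₁ := MorphismProperty.of_isPullback (P := @IsAffineHom) hT₁ inferInstance
  haveI : IsClosedImmersion ι₁ :=
    MorphismProperty.of_isPullback (P := @IsClosedImmersion) hZ₁ inferInstance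
  have hZP : IsPullback uZ (ι₁ ≫ a₁) (ι ≫ a) u := hZ₁.paste_vert hX₁
  apply isPushout_of_local_fibreSq hw₁
  intro t
  obtain ⟨U, W, hU, hW, htW, hWU, hWU', h, hgood⟩ := Hloc t
  have hWa : IsAffineOpen (a₁ ⁻¹ᵁ W) := hW.preimage a₁
  have hWb : IsAffineOpen (b₁ ⁻¹ᵁ W) := hW.preimage b₁
  have hWi : IsAffineOpen (ι₁ ⁻¹ᵁ a₁ ⁻¹ᵁ W) := hWa.preimage ι₁
  have h₁ : ι₁ ⁻¹ᵁ a₁ ⁻¹ᵁ W ≤ ξ₁ ⁻¹ᵁ b₁ ⁻¹ᵁ W := by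
    rw [← Scheme.Hom.comp_preimage, ← Scheme.Hom.comp_preimage, hw₁]
  refine ⟨W, htW, hW, hWa, hWb, hWi, h₁, ?_⟩
  have hUa : IsAffineOpen (a ⁻¹ᵁ U) := hU.preimage a
  have hUb : IsAffineOpen (b ⁻¹ᵁ U) := hU.preimage b
  have hUi : IsAffineOpen (ι ⁻¹ᵁ a ⁻¹ᵁ U) := hUa.preimage ι
  -- the three pushout squares of rings
  have leX : a₁ ⁻¹ᵁ W ≤ uX ⁻¹ᵁ a ⁻¹ᵁ U := by
    rw [← Scheme.Hom.comp_preimage, hX₁.w, Scheme.Hom.comp_preimage]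
    exact fun x hx => hWU hx
  have leT : b₁ ⁻¹ᵁ W ≤ uT ⁻¹ᵁ b ⁻¹ᵁ U := by
    rw [← Scheme.Hom.comp_preimage, hT₁.w, Scheme.Hom.comp_preimage]
    exact fun x hx => hWU hx
  have leZ : ι₁ ⁻¹ᵁ a₁ ⁻¹ᵁ W ≤ uZ ⁻¹ᵁ ι ⁻¹ᵁ a ⁻¹ᵁ U := by
    intro z hz
    have h1 : a (ι (uZ z)) = u (a₁ (ι₁ z)) := congr($(hZP.w) z)
    show a (ι (uZ z)) ∈ U
    rw [h1]
    exact hWU hz
  have poX : IsPushout (a.appLE U (a ⁻¹ᵁ U) le_rfl) (u.appLE U W hWU')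
      (uX.appLE (a ⁻¹ᵁ U) (a₁ ⁻¹ᵁ W) leX) (a₁.appLE W (a₁ ⁻¹ᵁ W) le_rfl) := by
    have := isIso_pushoutSection_of_isAffineOpen hX₁ hWU' (le_refl (a ⁻¹ᵁ U))
      (UY := a₁ ⁻¹ᵁ W) (by rw [inf_eq_right.mpr leX]) hU hW hUa
    exact (isIso_pushoutSection_iff hX₁ hWU' (le_refl (a ⁻¹ᵁ U))
      (UY := a₁ ⁻¹ᵁ W) (by rw [inf_eq_right.mpr leX])).mp this
  have poT : IsPushout (b.appLE U (b ⁻¹ᵁ U) le_rfl) (u.appLE U W hWU')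
      (uT.appLE (b ⁻¹ᵁ U) (b₁ ⁻¹ᵁ W) leT) (b₁.appLE W (b₁ ⁻¹ᵁ W) le_rfl) := by
    have := isIso_pushoutSection_of_isAffineOpen hT₁ hWU' (le_refl (b ⁻¹ᵁ U))
      (UY := b₁ ⁻¹ᵁ W) (by rw [inf_eq_right.mpr leT]) hU hW hUb
    exact (isIso_pushoutSection_iff hT₁ hWU' (le_refl (b ⁻¹ᵁ U))
      (UY := b₁ ⁻¹ᵁ W) (by rw [inf_eq_right.mpr leT])).mp this
  have poZ : IsPushout ((ι ≫ a).appLE U (ι ⁻¹ᵁ a ⁻¹ᵁ U) le_rfl) (u.appLE U W hWU')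
      (uZ.appLE (ι ⁻¹ᵁ a ⁻¹ᵁ U) (ι₁ ⁻¹ᵁ a₁ ⁻¹ᵁ W) leZ)
      ((ι₁ ≫ a₁).appLE W (ι₁ ⁻¹ᵁ a₁ ⁻¹ᵁ W) le_rfl) := by
    have := isIso_pushoutSection_of_isAffineOpen hZP hWU' (le_refl (ι ⁻¹ᵁ a ⁻¹ᵁ U))
      (UY := ι₁ ⁻¹ᵁ a₁ ⁻¹ᵁ W) (inf_eq_right.mpr leZ).symm hU hW hUi
    exact (isIso_pushoutSection_iff hZP hWU' (le_refl (ι ⁻¹ᵁ a ⁻¹ᵁ U))
      (UY := ι₁ ⁻¹ᵁ a₁ ⁻¹ᵁ W) (inf_eq_right.mpr leZ).symm).mp this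
  have poZ' : IsPushout (a.appLE U (a ⁻¹ᵁ U) le_rfl ≫
        ι.appLE (a ⁻¹ᵁ U) (ι ⁻¹ᵁ a ⁻¹ᵁ U) le_rfl) (u.appLE U W hWU')
      (uZ.appLE (ι ⁻¹ᵁ a ⁻¹ᵁ U) (ι₁ ⁻¹ᵁ a₁ ⁻¹ᵁ W) leZ)
      (a₁.appLE W (a₁ ⁻¹ᵁ W) le_rfl ≫ ι₁.appLE (a₁ ⁻¹ᵁ W) (ι₁ ⁻¹ᵁ a₁ ⁻¹ᵁ W) le_rfl) := by
    rw [Scheme.Hom.appLE_comp_appLE, Scheme.Hom.appLE_comp_appLE]
    exact poZ
  have key := hgood (b₁.appLE W (b₁ ⁻¹ᵁ W) le_rfl) (a₁.appLE W (a₁ ⁻¹ᵁ W) le_rfl)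
    (ξ₁.appLE (b₁ ⁻¹ᵁ W) (ι₁ ⁻¹ᵁ a₁ ⁻¹ᵁ W) h₁) (ι₁.appLE (a₁ ⁻¹ᵁ W) (ι₁ ⁻¹ᵁ a₁ ⁻¹ᵁ W) le_rfl)
    (uT.appLE (b ⁻¹ᵁ U) (b₁ ⁻¹ᵁ W) leT) (uX.appLE (a ⁻¹ᵁ U) (a₁ ⁻¹ᵁ W) leX)
    (uZ.appLE (ι ⁻¹ᵁ a ⁻¹ᵁ U) (ι₁ ⁻¹ᵁ a₁ ⁻¹ᵁ W) leZ) poT poX poZ'
    (by rw [Scheme.Hom.appLE_comp_appLE, Scheme.Hom.appLE_comp_appLE]; simp only [hξ₁])
    (by rw [Scheme.Hom.appLE_comp_appLE, Scheme.Hom.appLE_comp_appLE]; simp only [hZ₁.w])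
    (by rw [Scheme.Hom.appLE_comp_appLE, Scheme.Hom.appLE_comp_appLE]; simp only [hw₁])
  rw [Scheme.Hom.app_eq_appLE, Scheme.Hom.app_eq_appLE, Scheme.Hom.app_eq_appLE]
  exact key

end BaseChange

end Groth.Agent.Lib.Ferrand24
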