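import Groth.Agent.Lib.Ferrand24k
import Mathlib.RingTheory.Flat.Equalizer
import Mathlib.LinearAlgebra.TensorProduct.Prod

/-!
# Ferrand pushouts XII: base change of fibre squares of rings (helper24)

Tensoring a fibre square `C = B₂ ×_{B₀} B₁` (with `B₁ → B₀` surjective) is always "right exact"; it
remains a fibre square as soon as `N ⊗ C → N ⊗ (B₂ × B₁)` stays injective.  We transport this to
arbitrary pushouts of commutative rings (`isBaseChangeGood_of_injective`).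
-/

set_option autoImplicit false
universe u

namespace Groth.Agent.Lib.Ferrand24

open CategoryTheory CategoryTheory.Limits TensorProduct
open Groth.Agent.Lib.RingFibreSq24

section Module

variable {R : Type*} [CommRing R] {M' M₂ M₁ M₀ : Type*} [AddCommGroup M'] [AddCommGroup M₂]
  [AddCommGroup M₁] [AddCommGroup M₀] [Module R M'] [Module R M₂] [Module R M₁] [Module R M₀]
  (g₂ : M' →ₗ[R] M₂) (g₁ : M' →ₗ[R] M₁) (f₂ : M₂ →ₗ[R] M₀) (f₁ : M₁ →ₗ[R] M₀)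
  (N : Type*) [AddCommGroup N] [Module R N]

theorem lTensor_prod_decomp (w : N ⊗[R] (M₂ × M₁)) :
    w = (LinearMap.inl R M₂ M₁).lTensor N ((LinearMap.fst R M₂ M₁).lTensor N w) +
      (LinearMap.inr R M₂ M₁).lTensor N ((LinearMap.snd R M₂ M₁).lTensor N w) := by
  rw [← LinearMap.comp_apply, ← LinearMap.comp_apply, ← LinearMap.lTensor_comp,
    ← LinearMap.lTensor_comp, ← LinearMap.add_apply, ← LinearMap.lTensor_add]
  have hid : LinearMap.inl R M₂ M₁ ∘ₗ LinearMap.fst R M₂ M₁ +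
      LinearMap.inr R M₂ M₁ ∘ₗ LinearMap.snd R M₂ M₁ = LinearMap.id := by
    ext <;> simp
  rw [hid, LinearMap.lTensor_id, LinearMap.id_apply]

/-- right exactness: compatible pairs lift after tensoring -/
theorem lTensor_fibre_surj (hcomm : ∀ m, f₂ (g₂ m) = f₁ (g₁ m))
    (hsurj : ∀ m₂ m₁, f₂ m₂ = f₁ m₁ → ∃ m', g₂ m' = m₂ ∧ g₁ m' = m₁)
    (hf₁ : Function.Surjective f₁) (x : N ⊗[R] M₂) (y : N ⊗[R] M₁)
    (hxy : f₂.lTensor N x = f₁.lTensor N y) :
    ∃ z : N ⊗[R] M', g₂.lTensor N z = x ∧ g₁.lTensor N z = y := by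
  set g : M' →ₗ[R] M₂ × M₁ := g₂.prod g₁ with hg
  set f : M₂ × M₁ →ₗ[R] M₀ := f₂.coprod (-f₁) with hf
  have hf_apply : ∀ p : M₂ × M₁, f p = f₂ p.1 - f₁ p.2 := by
    intro p
    simp [f, sub_eq_add_neg]
  have hfs : Function.Surjective f := by
    intro m
    obtain ⟨m₁, hm₁⟩ := hf₁ (-m)
    refine ⟨(0, m₁), ?_⟩
    rw [hf_apply]
    simp [hm₁]
  have H : Function.Exact g f := by
    intro p
    constructor
    · intro hp
      rw [hf_apply, sub_eq_zero] at hp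
      obtain ⟨z, hz1, hz2⟩ := hsurj _ _ hp
      exact ⟨z, Prod.ext hz1 hz2⟩
    · rintro ⟨z, rfl⟩
      rw [hf_apply, sub_eq_zero]
      exact hcomm z
  have hexact : Function.Exact (g.lTensor N) (f.lTensor N) := lTensor_exact N H hfs
  have hfstg : LinearMap.fst R M₂ M₁ ∘ₗ g = g₂ := by ext; rfl
  have hsndg : LinearMap.snd R M₂ M₁ ∘ₗ g = g₁ := by ext; rfl
  have hfinl : f ∘ₗ LinearMap.inl R M₂ M₁ = f₂ := by ext; simp [f]
  have hfinr : f ∘ₗ LinearMap.inr R M₂ M₁ = -f₁ := by ext; simp [f]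
  set w : N ⊗[R] (M₂ × M₁) :=
    (LinearMap.inl R M₂ M₁).lTensor N x + (LinearMap.inr R M₂ M₁).lTensor N y with hw
  have hfw : f.lTensor N w = 0 := by
    rw [hw, map_add, ← LinearMap.comp_apply, ← LinearMap.comp_apply, ← LinearMap.lTensor_comp,
      ← LinearMap.lTensor_comp, hfinl, hfinr, LinearMap.lTensor_neg, LinearMap.neg_apply, hxy,
      add_neg_cancel]
  obtain ⟨z, hz⟩ := (hexact w).mp hfw
  have hfstw : (LinearMap.fst R M₂ M₁).lTensor N w = x := by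
    rw [hw, map_add, ← LinearMap.comp_apply, ← LinearMap.comp_apply, ← LinearMap.lTensor_comp,
      ← LinearMap.lTensor_comp]
    have e1 : LinearMap.fst R M₂ M₁ ∘ₗ LinearMap.inl R M₂ M₁ = LinearMap.id := by ext; simp
    have e2 : LinearMap.fst R M₂ M₁ ∘ₗ LinearMap.inr R M₂ M₁ = 0 := by ext; simp
    rw [e1, e2, LinearMap.lTensor_id, LinearMap.lTensor_zero]
    simp
  have hsndw : (LinearMap.snd R M₂ M₁).lTensor N w = y := by
    rw [hw, map_add, ← LinearMap.comp_apply, ← LinearMap.comp_apply, ← LinearMap.lTensor_comp,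
      ← LinearMap.lTensor_comp]
    have e1 : LinearMap.snd R M₂ M₁ ∘ₗ LinearMap.inl R M₂ M₁ = 0 := by ext; simp
    have e2 : LinearMap.snd R M₂ M₁ ∘ₗ LinearMap.inr R M₂ M₁ = LinearMap.id := by ext; simp
    rw [e1, e2, LinearMap.lTensor_id, LinearMap.lTensor_zero]
    simp
  refine ⟨z, ?_, ?_⟩
  · rw [← hfstg, LinearMap.lTensor_comp, LinearMap.comp_apply, hz, hfstw]
  · rw [← hsndg, LinearMap.lTensor_comp, LinearMap.comp_apply, hz, hsndw]

/-- injectivity of the tensored fibre square from injectivity of `N ⊗ M' → N ⊗ (M₂ × M₁)` -/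
theorem lTensor_fibre_inj (hinj : Function.Injective ((g₂.prod g₁).lTensor N))
    (z : N ⊗[R] M') (h₂ : g₂.lTensor N z = 0) (h₁ : g₁.lTensor N z = 0) : z = 0 := by
  apply hinj
  rw [map_zero, lTensor_prod_decomp N ((g₂.prod g₁).lTensor N z)]
  have hfstg : LinearMap.fst R M₂ M₁ ∘ₗ (g₂.prod g₁) = g₂ := by ext; rfl
  have hsndg : LinearMap.snd R M₂ M₁ ∘ₗ (g₂.prod g₁) = g₁ := by ext; rfl
  have e1 : (LinearMap.fst R M₂ M₁).lTensor N ((g₂.prod g₁).lTensor N z) = 0 := by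
    rw [← LinearMap.comp_apply, ← LinearMap.lTensor_comp, hfstg, h₂]
  have e2 : (LinearMap.snd R M₂ M₁).lTensor N ((g₂.prod g₁).lTensor N z) = 0 := by
    rw [← LinearMap.comp_apply, ← LinearMap.lTensor_comp, hsndg, h₁]
  rw [e1, e2, map_zero, map_zero, add_zero]

end Module

section Ring

open CommRingCat

/-- the comparison map from the tensor product to an arbitrary pushout of commutative rings -/
theorem exists_equiv_of_isPushout {R R' B D : Type u} [CommRing R] [CommRing R'] [CommRing B]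
    [CommRing D] [Algebra R R'] [Algebra R B] (τ : R' →+* D) (v : B →+* D)
    (h : IsPushout (ofHom (algebraMap R R')) (ofHom (algebraMap R B)) (ofHom τ) (ofHom v)) :
    ∃ e : R' ⊗[R] B →+* D, Function.Bijective e ∧ ∀ r b, e (r ⊗ₜ b) = τ r * v b := by
  have h1 := (isPushout_tensorProduct R R' B).inl_isoIsPushout_hom _ _ h
  have h2 := (isPushout_tensorProduct R R' B).inr_isoIsPushout_hom _ _ h
  refine ⟨((isPushout_tensorProduct R R' B).isoIsPushout _ _ h).hom.hom,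
    ConcreteCategory.bijective_of_isIso _, ?_⟩
  intro r b
  have e1 : ((isPushout_tensorProduct R R' B).isoIsPushout _ _ h).hom.hom (r ⊗ₜ 1) = τ r :=
    congr($(h1).hom r)
  have e2 : ((isPushout_tensorProduct R R' B).isoIsPushout _ _ h).hom.hom (1 ⊗ₜ b) = v b :=
    congr($(h2).hom b)
  rw [← e1, ← e2, ← map_mul, Algebra.TensorProduct.tmul_mul_tmul, mul_one, one_mul]

/-- **Base change of a fibre square of rings**, for arbitrary models of the tensor products. -/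
theorem isFibreSq_of_isPushout {R R' C B₂ B₁ B₀ D D₂ D₁ D₀ : Type u} [CommRing R] [CommRing R']
    [CommRing C] [CommRing B₂] [CommRing B₁] [CommRing B₀] [CommRing D] [CommRing D₂] [CommRing D₁]
    [CommRing D₀] [Algebra R R'] [Algebra R C] [Algebra R B₂] [Algebra R B₁] [Algebra R B₀]
    (π₁ : C →ₐ[R] B₂) (π₂ : C →ₐ[R] B₁) (q : B₂ →ₐ[R] B₀) (p : B₁ →ₐ[R] B₀)
    (sq : IsFibreSq π₁.toRingHom π₂.toRingHom q.toRingHom p.toRingHom)
    (hp : Function.Surjective p)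
    (τ : R' →+* D) (τ₂ : R' →+* D₂) (τ₁ : R' →+* D₁) (τ₀ : R' →+* D₀)
    (v : C →+* D) (v₂ : B₂ →+* D₂) (v₁ : B₁ →+* D₁) (v₀ : B₀ →+* D₀)
    (π₁' : D →+* D₂) (π₂' : D →+* D₁) (q' : D₂ →+* D₀) (p' : D₁ →+* D₀)
    (hC : IsPushout (ofHom (algebraMap R R')) (ofHom (algebraMap R C)) (ofHom τ) (ofHom v))
    (h₂ : IsPushout (ofHom (algebraMap R R')) (ofHom (algebraMap R B₂)) (ofHom τ₂) (ofHom v₂))
    (h₁ : IsPushout (ofHom (algebraMap R R')) (ofHom (algebraMap R B₁)) (ofHom τ₁) (ofHom v₁))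
    (h₀ : IsPushout (ofHom (algebraMap R R')) (ofHom (algebraMap R B₀)) (ofHom τ₀) (ofHom v₀))
    (c1 : ∀ r, π₁' (τ r) = τ₂ r) (c2 : ∀ c, π₁' (v c) = v₂ (π₁ c))
    (c3 : ∀ r, π₂' (τ r) = τ₁ r) (c4 : ∀ c, π₂' (v c) = v₁ (π₂ c))
    (c5 : ∀ r, q' (τ₂ r) = τ₀ r) (c6 : ∀ b, q' (v₂ b) = v₀ (q b))
    (c7 : ∀ r, p' (τ₁ r) = τ₀ r) (c8 : ∀ b, p' (v₁ b) = v₀ (p b))
    (Hinj : Function.Injective ((π₁.toLinearMap.prod π₂.toLinearMap).lTensor R')) :
    IsFibreSq π₁' π₂' q' p' ∧ Function.Surjective p' := by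
  obtain ⟨eC, heC, heC'⟩ := exists_equiv_of_isPushout τ v hC
  obtain ⟨e₂, he₂, he₂'⟩ := exists_equiv_of_isPushout τ₂ v₂ h₂
  obtain ⟨e₁, he₁, he₁'⟩ := exists_equiv_of_isPushout τ₁ v₁ h₁
  obtain ⟨e₀, he₀, he₀'⟩ := exists_equiv_of_isPushout τ₀ v₀ h₀
  have k1 : ∀ t : R' ⊗[R] C, π₁' (eC t) = e₂ (π₁.toLinearMap.lTensor R' t) := by
    intro t
    induction t using TensorProduct.induction_on with
    | zero => simp
    | tmul r c =>
      rw [heC', map_mul, c1, c2, LinearMap.lTensor_tmul, he₂']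
      rfl
    | add x y hx hy => rw [map_add, map_add, hx, hy, map_add, map_add]
  have k2 : ∀ t : R' ⊗[R] C, π₂' (eC t) = e₁ (π₂.toLinearMap.lTensor R' t) := by
    intro t
    induction t using TensorProduct.induction_on with
    | zero => simp
    | tmul r c =>
      rw [heC', map_mul, c3, c4, LinearMap.lTensor_tmul, he₁']
      rfl
    | add x y hx hy => rw [map_add, map_add, hx, hy, map_add, map_add]
  have k3 : ∀ t : R' ⊗[R] B₂, q' (e₂ t) = e₀ (q.toLinearMap.lTensor R' t) := by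
    intro t
    induction t using TensorProduct.induction_on with
    | zero => simp
    | tmul r c =>
      rw [he₂', map_mul, c5, c6, LinearMap.lTensor_tmul, he₀']
      rfl
    | add x y hx hy => rw [map_add, map_add, hx, hy, map_add, map_add]
  have k4 : ∀ t : R' ⊗[R] B₁, p' (e₁ t) = e₀ (p.toLinearMap.lTensor R' t) := by
    intro t
    induction t using TensorProduct.induction_on with
    | zero => simp
    | tmul r c =>
      rw [he₁', map_mul, c7, c8, LinearMap.lTensor_tmul, he₀']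
      rfl
    | add x y hx hy => rw [map_add, map_add, hx, hy, map_add, map_add]
  have hcomm : ∀ m, q.toLinearMap (π₁.toLinearMap m) = p.toLinearMap (π₂.toLinearMap m) :=
    fun m => sq.comm m
  have hsurj : ∀ m₂ m₁, q.toLinearMap m₂ = p.toLinearMap m₁ →
      ∃ m', π₁.toLinearMap m' = m₂ ∧ π₂.toLinearMap m' = m₁ := fun m₂ m₁ h => sq.surj m₂ m₁ h
  refine ⟨⟨?_, ?_, ?_⟩, ?_⟩
  · intro d
    obtain ⟨t, rfl⟩ := heC.2 d
    have hcomp : q.toLinearMap ∘ₗ π₁.toLinearMap = p.toLinearMap ∘ₗ π₂.toLinearMap :=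
      LinearMap.ext hcomm
    rw [k1, k2, k3, k4, ← LinearMap.comp_apply, ← LinearMap.comp_apply, ← LinearMap.lTensor_comp,
      ← LinearMap.lTensor_comp, hcomp]
  · intro d hd₁ hd₂
    obtain ⟨t, rfl⟩ := heC.2 d
    rw [k1] at hd₁
    rw [k2] at hd₂
    have h1 : π₁.toLinearMap.lTensor R' t = 0 := he₂.1 (by rw [hd₁, map_zero])
    have h2 : π₂.toLinearMap.lTensor R' t = 0 := he₁.1 (by rw [hd₂, map_zero])
    rw [lTensor_fibre_inj _ _ R' Hinj t h1 h2, map_zero]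
  · intro d₂ d₁ hd
    obtain ⟨x, rfl⟩ := he₂.2 d₂
    obtain ⟨y, rfl⟩ := he₁.2 d₁
    rw [k3, k4] at hd
    obtain ⟨z, hz₁, hz₂⟩ := lTensor_fibre_surj π₁.toLinearMap π₂.toLinearMap q.toLinearMap
      p.toLinearMap R' hcomm hsurj hp x y (he₀.1 hd)
    exact ⟨eC z, by rw [k1, hz₁], by rw [k2, hz₂]⟩
  · intro d₀
    obtain ⟨t, rfl⟩ := he₀.2 d₀
    obtain ⟨s, rfl⟩ := LinearMap.lTensor_surjective R' (g := p.toLinearMap) hp t
    exact ⟨e₁ s, k4 s⟩

end Ring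

section Cat

variable {R R' C B₂ B₁ B₀ D : CommRingCat.{u}}

/-- the tensored map `R' ⊗_R C → R' ⊗_R (B₂ × B₁)` is injective -/
def TensorInjective (ρ : R ⟶ R') (σ : R ⟶ C) (π₁ : C ⟶ B₂) (π₂ : C ⟶ B₁) : Prop :=
  letI := ρ.hom.toAlgebra
  letI := σ.hom.toAlgebra
  letI := (σ ≫ π₁).hom.toAlgebra
  letI := (σ ≫ π₂).hom.toAlgebra
  Function.Injective ((((⟨π₁.hom, fun _ => rfl⟩ : C →ₐ[R] B₂).toLinearMap).prod
    ((⟨π₂.hom, fun _ => rfl⟩ : C →ₐ[R] B₁).toLinearMap)).lTensor R')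

/-- **Base change of fibre squares.** If `D = R' ⊗_R C` and `R' ⊗_R C → R' ⊗_R (B₂ × B₁)` is
injective, then the base change of the fibre square `C = B₂ ×_{B₀} B₁` along `C ⟶ D` is a fibre
square. -/
theorem isBaseChangeGood_of_tensorInjective (ρ : R ⟶ R') (σ : R ⟶ C) (π₁ : C ⟶ B₂) (π₂ : C ⟶ B₁)
    (q : B₂ ⟶ B₀) (p : B₁ ⟶ B₀) (τ : R' ⟶ D) (v : C ⟶ D)
    (sq : IsFibreSq π₁.hom π₂.hom q.hom p.hom) (hp : Function.Surjective p.hom)
    (poC : IsPushout ρ σ τ v) (Hinj : TensorInjective ρ σ π₁ π₂) :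
    IsBaseChangeGood π₁ π₂ q p v := by
  intro D₂ D₁ D₀ π₁' π₂' q' p' v₂ v₁ v₀ po₂ po₁ po₀ cq cp cw
  letI := ρ.hom.toAlgebra
  letI := σ.hom.toAlgebra
  letI := (σ ≫ π₁).hom.toAlgebra
  letI := (σ ≫ π₂).hom.toAlgebra
  letI := (σ ≫ π₂ ≫ p).hom.toAlgebra
  have h₂ : IsPushout ρ (σ ≫ π₁) (τ ≫ π₁') v₂ := (poC.flip.paste_horiz po₂).flip
  have h₁ : IsPushout ρ (σ ≫ π₂) (τ ≫ π₂') v₁ := (poC.flip.paste_horiz po₁).flip
  have h₀ : IsPushout ρ (σ ≫ π₂ ≫ p) (τ ≫ π₂' ≫ p') v₀ := by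
    have := (poC.flip.paste_horiz po₀).flip
    simpa only [Category.assoc] using this
  have hq : ∀ r : R, q.hom ((σ ≫ π₁).hom r) = (σ ≫ π₂ ≫ p).hom r := fun r => sq.comm (σ.hom r)
  exact isFibreSq_of_isPushout (R := R) (R' := R') (⟨π₁.hom, fun _ => rfl⟩ : C →ₐ[R] B₂)
    (⟨π₂.hom, fun _ => rfl⟩ : C →ₐ[R] B₁) (⟨q.hom, hq⟩ : B₂ →ₐ[R] B₀)
    (⟨p.hom, fun _ => rfl⟩ : B₁ →ₐ[R] B₀) sq hp τ.hom (τ ≫ π₁').hom (τ ≫ π₂').hom
    (τ ≫ π₂' ≫ p').hom v.hom v₂.hom v₁.hom v₀.hom π₁'.hom π₂'.hom q'.hom p'.hom poC h₂ h₁ h₀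
    (fun _ => rfl) (fun c => congr($(po₂.w).hom c).symm)
    (fun _ => rfl) (fun c => congr($(po₁.w).hom c).symm)
    (fun r => congr($(cw).hom (τ.hom r))) (fun b => congr($(cq).hom b).symm)
    (fun _ => rfl) (fun b => congr($(cp).hom b).symm) Hinj

end Cat

section Flat

variable {C B₂ B₁ B₀ D : CommRingCat.{u}}

/-- flat base change keeps `C → B₂ × B₁` injective -/
theorem tensorInjective_of_flat (π₁ : C ⟶ B₂) (π₂ : C ⟶ B₁) (v : C ⟶ D) (hv : v.hom.Flat)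
    (hinj : ∀ c, π₁.hom c = 0 → π₂.hom c = 0 → c = 0) : TensorInjective v (𝟙 C) π₁ π₂ := by
  unfold TensorInjective
  letI := v.hom.toAlgebra
  letI := (𝟙 C : C ⟶ C).hom.toAlgebra
  letI := ((𝟙 C : C ⟶ C) ≫ π₁).hom.toAlgebra
  letI := ((𝟙 C : C ⟶ C) ≫ π₂).hom.toAlgebra
  haveI : Module.Flat C D := hv
  apply Module.Flat.lTensor_preserves_injective_linearMap
  rw [injective_iff_map_eq_zero]
  intro c hc
  have h1 : π₁.hom c = 0 := congr(($hc).1)
  have h2 : π₂.hom c = 0 := congr(($hc).2)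
  exact hinj c h1 h2

/-- **Flat base change of a fibre square of rings.** -/
theorem isBaseChangeGood_of_flat (π₁ : C ⟶ B₂) (π₂ : C ⟶ B₁) (q : B₂ ⟶ B₀) (p : B₁ ⟶ B₀)
    (v : C ⟶ D) (sq : IsFibreSq π₁.hom π₂.hom q.hom p.hom) (hp : Function.Surjective p.hom)
    (hv : v.hom.Flat) : IsBaseChangeGood π₁ π₂ q p v :=
  isBaseChangeGood_of_tensorInjective v (𝟙 C) π₁ π₂ q p (𝟙 D) v sq hp IsPushout.of_id_snd
    (tensorInjective_of_flat π₁ π₂ v hv sq.inj)

end Flat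

end Groth.Agent.Lib.Ferrand24
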