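import Mathlib.RingTheory.Flat.Equalizer
import Mathlib.LinearAlgebra.TensorProduct.Prod

/-!
# Flatness of the kernel in a short exact sequence with flat middle and right terms,
and flatness of binary products.
-/

open TensorProduct

namespace Groth.Agent.Lib.FlatOfExact

universe u v

section
variable {R : Type u} {M N P : Type v} [CommRing R] [AddCommGroup M] [AddCommGroup N]
  [AddCommGroup P] [Module R M] [Module R N] [Module R P]

/-- If `0 → M → N → P → 0` is exact with `N` and `P` flat, then `M` is flat. -/
theorem flat_of_exact [Module.Flat R N] [Module.Flat R P]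
    (g : M →ₗ[R] N) (f : N →ₗ[R] P) (hg : Function.Injective g) (hf : Function.Surjective f)
    (H : Function.Exact g f) : Module.Flat R M := by
  rw [Module.Flat.iff_rTensor_preserves_injective_linearMap]
  intro X Y _ _ _ _ φ hφ
  have h1 : Function.Injective (g.lTensor X) :=
    LinearMap.lTensor_injective_of_exact_of_flat f hf g hg H X
  have h2 : Function.Injective (φ.rTensor N) :=
    Module.Flat.rTensor_preserves_injective_linearMap φ hφ
  have hcomm : (g.lTensor Y) ∘ₗ (φ.rTensor M) = (φ.rTensor N) ∘ₗ (g.lTensor X) := by
    ext; simp
  have h3 : Function.Injective ((g.lTensor Y) ∘ₗ (φ.rTensor M)) := by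
    rw [hcomm]; exact h2.comp h1
  rw [LinearMap.coe_comp] at h3
  exact Function.Injective.of_comp h3

/-- A binary product of flat modules is flat. -/
theorem flat_prod [Module.Flat R M] [Module.Flat R N] : Module.Flat R (M × N) := by
  rw [Module.Flat.iff_lTensor_preserves_injective_linearMap]
  intro X Y _ _ _ _ φ hφ
  have h1 : Function.Injective (φ.lTensor M) :=
    Module.Flat.lTensor_preserves_injective_linearMap φ hφ
  have h2 : Function.Injective (φ.lTensor N) :=
    Module.Flat.lTensor_preserves_injective_linearMap φ hφ
  have hcomm : (TensorProduct.prodLeft R R M N Y).toLinearMap ∘ₗ (φ.lTensor (M × N)) =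
      (LinearMap.prodMap (φ.lTensor M) (φ.lTensor N)) ∘ₗ
        (TensorProduct.prodLeft R R M N X).toLinearMap := by
    ext <;> simp
  have h3 : Function.Injective
      ((TensorProduct.prodLeft R R M N Y).toLinearMap ∘ₗ (φ.lTensor (M × N))) := by
    rw [hcomm]
    exact (Function.Injective.prodMap h1 h2).comp (TensorProduct.prodLeft R R M N X).injective
  rw [LinearMap.coe_comp] at h3
  exact Function.Injective.of_comp h3

end

end Groth.Agent.Lib.FlatOfExact
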