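import Groth.Agent.Lib.Ferrand24l
import Groth.Agent.Lib.FlatOfExact

/-!
# Ferrand pushouts XIII: fibre squares of flat algebras (helper24)

For a fibre square `C = B₂ ×_{B₀} B₁` of `R`-algebras with `B₁ → B₀` surjective:
* if `B₂`, `B₁`, `B₀` are flat over `R` then so is `C` (`flat_of_isFibreSq`);
* if `B₀` is flat over `R` then `R' ⊗_R C → R' ⊗_R (B₂ × B₁)` is injective for every `R'`
  (`tensorInjective_of_flat_corner`).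
-/

set_option autoImplicit false
universe u

namespace Groth.Agent.Lib.Ferrand24

open CategoryTheory CategoryTheory.Limits TensorProduct
open Groth.Agent.Lib.RingFibreSq24

section Module

variable {R : Type*} [CommRing R] {M' M₂ M₁ M₀ : Type*} [AddCommGroup M'] [AddCommGroup M₂]
  [AddCommGroup M₁] [AddCommGroup M₀] [Module R M'] [Module R M₂] [Module R M₁] [Module R M₀]
  (g₂ : M' →ₗ[R] M₂) (g₁ : M' →ₗ[R] M₁) (f₂ : M₂ →ₗ[R] M₀) (f₁ : M₁ →ₗ[R] M₀)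

/-- the short exact sequence of a fibre square of modules -/
theorem fibre_exact (hcomm : ∀ m, f₂ (g₂ m) = f₁ (g₁ m))
    (hsurj : ∀ m₂ m₁, f₂ m₂ = f₁ m₁ → ∃ m', g₂ m' = m₂ ∧ g₁ m' = m₁)
    (hf₁ : Function.Surjective f₁) :
    Function.Exact (g₂.prod g₁) (f₂.coprod (-f₁)) ∧ Function.Surjective (f₂.coprod (-f₁)) := by
  have hf_apply : ∀ p : M₂ × M₁, (f₂.coprod (-f₁)) p = f₂ p.1 - f₁ p.2 := by
    intro p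
    simp [sub_eq_add_neg]
  constructor
  · intro p
    constructor
    · intro hp
      rw [hf_apply, sub_eq_zero] at hp
      obtain ⟨z, hz1, hz2⟩ := hsurj _ _ hp
      exact ⟨z, Prod.ext hz1 hz2⟩
    · rintro ⟨z, rfl⟩
      rw [hf_apply, sub_eq_zero]
      exact hcomm z
  · intro m
    obtain ⟨m₁, hm₁⟩ := hf₁ (-m)
    refine ⟨(0, m₁), ?_⟩
    rw [hf_apply]
    simp [hm₁]

end Module

section Cat

variable {R R' C B₂ B₁ B₀ : CommRingCat.{u}}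

/-- In a fibre square of flat `R`-algebras (with the surjectivity condition), the fibre product is
flat over `R`. -/
theorem flat_of_isFibreSq (σ : R ⟶ C) (π₁ : C ⟶ B₂) (π₂ : C ⟶ B₁) (q : B₂ ⟶ B₀) (p : B₁ ⟶ B₀)
    (sq : IsFibreSq π₁.hom π₂.hom q.hom p.hom) (hp : Function.Surjective p.hom)
    (h₂ : (σ ≫ π₁).hom.Flat) (h₁ : (σ ≫ π₂).hom.Flat) (h₀ : (σ ≫ π₂ ≫ p).hom.Flat) :
    σ.hom.Flat := by
  letI := σ.hom.toAlgebra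
  letI := (σ ≫ π₁).hom.toAlgebra
  letI := (σ ≫ π₂).hom.toAlgebra
  letI := (σ ≫ π₂ ≫ p).hom.toAlgebra
  haveI : Module.Flat R B₂ := h₂
  haveI : Module.Flat R B₁ := h₁
  haveI : Module.Flat R B₀ := h₀
  have hq : ∀ r : R, q.hom ((σ ≫ π₁).hom r) = (σ ≫ π₂ ≫ p).hom r := fun r => sq.comm (σ.hom r)
  obtain ⟨H, hf⟩ := fibre_exact (R := R)
    (⟨π₁.hom, fun _ => rfl⟩ : C →ₐ[R] B₂).toLinearMap (⟨π₂.hom, fun _ => rfl⟩ : C →ₐ[R] B₁).toLinearMap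
    (⟨q.hom, hq⟩ : B₂ →ₐ[R] B₀).toLinearMap (⟨p.hom, fun _ => rfl⟩ : B₁ →ₐ[R] B₀).toLinearMap
    (fun m => sq.comm m) (fun m₂ m₁ h => sq.surj m₂ m₁ h) hp
  haveI : Module.Flat R (B₂ × B₁) := Groth.Agent.Lib.FlatOfExact.flat_prod
  have hg : Function.Injective ((⟨π₁.hom, fun _ => rfl⟩ : C →ₐ[R] B₂).toLinearMap.prod
      (⟨π₂.hom, fun _ => rfl⟩ : C →ₐ[R] B₁).toLinearMap) := by
    rw [injective_iff_map_eq_zero]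
    intro c hc
    exact sq.inj c congr(($hc).1) congr(($hc).2)
  exact Groth.Agent.Lib.FlatOfExact.flat_of_exact _ _ hg hf H

/-- If the corner `B₀` of the fibre square is flat over `R`, tensoring keeps `C → B₂ × B₁`
injective. -/
theorem tensorInjective_of_flat_corner (ρ : R ⟶ R') (σ : R ⟶ C) (π₁ : C ⟶ B₂) (π₂ : C ⟶ B₁)
    (q : B₂ ⟶ B₀) (p : B₁ ⟶ B₀)
    (sq : IsFibreSq π₁.hom π₂.hom q.hom p.hom) (hp : Function.Surjective p.hom)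
    (h₀ : (σ ≫ π₂ ≫ p).hom.Flat) : TensorInjective ρ σ π₁ π₂ := by
  unfold TensorInjective
  letI := ρ.hom.toAlgebra
  letI := σ.hom.toAlgebra
  letI := (σ ≫ π₁).hom.toAlgebra
  letI := (σ ≫ π₂).hom.toAlgebra
  letI := (σ ≫ π₂ ≫ p).hom.toAlgebra
  haveI : Module.Flat R B₀ := h₀
  have hq : ∀ r : R, q.hom ((σ ≫ π₁).hom r) = (σ ≫ π₂ ≫ p).hom r := fun r => sq.comm (σ.hom r)
  obtain ⟨H, hf⟩ := fibre_exact (R := R)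
    (⟨π₁.hom, fun _ => rfl⟩ : C →ₐ[R] B₂).toLinearMap (⟨π₂.hom, fun _ => rfl⟩ : C →ₐ[R] B₁).toLinearMap
    (⟨q.hom, hq⟩ : B₂ →ₐ[R] B₀).toLinearMap (⟨p.hom, fun _ => rfl⟩ : B₁ →ₐ[R] B₀).toLinearMap
    (fun m => sq.comm m) (fun m₂ m₁ h => sq.surj m₂ m₁ h) hp
  have hg : Function.Injective ((⟨π₁.hom, fun _ => rfl⟩ : C →ₐ[R] B₂).toLinearMap.prod
      (⟨π₂.hom, fun _ => rfl⟩ : C →ₐ[R] B₁).toLinearMap) := by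
    rw [injective_iff_map_eq_zero]
    intro c hc
    exact sq.inj c congr(($hc).1) congr(($hc).2)
  exact LinearMap.lTensor_injective_of_exact_of_flat _ hf _ hg H R'

end Cat

section Geometry

open AlgebraicGeometry

variable {X T Z P : Scheme.{u}} {ι : Z ⟶ X} {ξ : Z ⟶ T}

/-- **Base change of a Ferrand pushout along a morphism of bases.** -/
theorem isPushout_baseChange_base [IsClosedImmersion ι]
    (hX : ∀ x : X, ∃ k : Pair ι ξ, IsAffineOpen k.G ∧ IsAffineOpen k.H ∧ x ∈ k.G)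
    (hT : ∀ t : T, ∃ k : Pair ι ξ, IsAffineOpen k.G ∧ IsAffineOpen k.H ∧ t ∈ k.H)
    {a : X ⟶ P} {b : T ⟶ P} (hP : IsPushout ι ξ a b) [IsAffineHom a] [IsAffineHom b]
    {S S' P₁ X₁ T₁ Z₁ : Scheme.{u}} (sP : P ⟶ S) (g : S' ⟶ S) (u : P₁ ⟶ P) (sP₁ : P₁ ⟶ S')
    (hP₁ : IsPullback u sP₁ sP g)
    (uX : X₁ ⟶ X) (uT : T₁ ⟶ T) (uZ : Z₁ ⟶ Z)
    (a₁ : X₁ ⟶ P₁) (b₁ : T₁ ⟶ P₁) (ι₁ : Z₁ ⟶ X₁) (ξ₁ : Z₁ ⟶ T₁)
    (hX₁ : IsPullback uX a₁ a u) (hT₁ : IsPullback uT b₁ b u) (hZ₁ : IsPullback uZ ι₁ ι uX)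
    (hξ₁ : ξ₁ ≫ uT = uZ ≫ ξ) (hw₁ : ι₁ ≫ a₁ = ξ₁ ≫ b₁)
    (Hloc : ∀ x : P, ∃ (R₀ : S.Opens) (U : P.Opens), IsAffineOpen R₀ ∧ IsAffineOpen U ∧ x ∈ U ∧
      ∃ (hUR : U ≤ sP ⁻¹ᵁ R₀), ∀ (V : S'.Opens) (_ : IsAffineOpen V) (hVR : V ≤ g ⁻¹ᵁ R₀),
        TensorInjective (g.appLE R₀ V hVR) (sP.appLE R₀ U hUR) (b.appLE U (b ⁻¹ᵁ U) le_rfl)
          (a.appLE U (a ⁻¹ᵁ U) le_rfl)) :
    IsPushout ι₁ ξ₁ a₁ b₁ := by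
  refine isPushout_baseChange_of_local u uX uT uZ a₁ b₁ ι₁ ξ₁ hX₁ hT₁ hZ₁ hξ₁ hw₁ ?_
  intro t
  obtain ⟨R₀, U, hR₀, hU, hxU, hUR, hinj⟩ := Hloc (u t)
  have hgt : sP₁ t ∈ g ⁻¹ᵁ R₀ := by
    have h1 : g (sP₁ t) = sP (u t) := (congr($(hP₁.w) t)).symm
    show g (sP₁ t) ∈ R₀
    rw [h1]
    exact hUR hxU
  obtain ⟨_, ⟨V, hV, rfl⟩, htV, hVR⟩ :=
    S'.isBasis_affineOpens.exists_subset_of_mem_open hgt (g ⁻¹ᵁ R₀).2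
  have hWaff : IsAffineOpen (u ⁻¹ᵁ U ⊓ sP₁ ⁻¹ᵁ V) := by
    haveI : IsAffine R₀.toScheme := hR₀
    haveI : IsAffine U.toScheme := hU
    haveI : IsAffine (Scheme.Opens.toScheme (X := S') V) := hV
    exact IsAffine.of_isIso (Scheme.Hom.isPullback_resLE hP₁ hVR hUR rfl).isoPullback.hom
  have hWU : u ⁻¹ᵁ U ⊓ sP₁ ⁻¹ᵁ V ≤ u ⁻¹ᵁ U := inf_le_left
  have h : ι ⁻¹ᵁ a ⁻¹ᵁ U ≤ ξ ⁻¹ᵁ b ⁻¹ᵁ U := by
    rw [← Scheme.Hom.comp_preimage, ← Scheme.Hom.comp_preimage, hP.w]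
  refine ⟨U, u ⁻¹ᵁ U ⊓ sP₁ ⁻¹ᵁ V, hU, hWaff, ⟨hxU, htV⟩, hWU, hWU, h, ?_⟩
  have sq := sections_isFibreSq hX hT hP U hU (hU.preimage a) (hU.preimage b) h
  have hp : Function.Surjective (ι.app (a ⁻¹ᵁ U)).hom := ι.app_surjective _ (hU.preimage a)
  rw [Scheme.Hom.app_eq_appLE, Scheme.Hom.app_eq_appLE, Scheme.Hom.app_eq_appLE] at sq
  rw [Scheme.Hom.app_eq_appLE] at hp
  have poC : IsPushout (sP.appLE R₀ U hUR) (g.appLE R₀ V hVR)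
      (u.appLE U (u ⁻¹ᵁ U ⊓ sP₁ ⁻¹ᵁ V) hWU) (sP₁.appLE V (u ⁻¹ᵁ U ⊓ sP₁ ⁻¹ᵁ V) inf_le_right) := by
    have := isIso_pushoutSection_of_isAffineOpen hP₁ hVR hUR
      (UY := u ⁻¹ᵁ U ⊓ sP₁ ⁻¹ᵁ V) rfl hR₀ hV hU
    exact (isIso_pushoutSection_iff hP₁ hVR hUR (UY := u ⁻¹ᵁ U ⊓ sP₁ ⁻¹ᵁ V) rfl).mp this
  exact isBaseChangeGood_of_tensorInjective (g.appLE R₀ V hVR) (sP.appLE R₀ U hUR) _ _ _ _
    (sP₁.appLE V (u ⁻¹ᵁ U ⊓ sP₁ ⁻¹ᵁ V) inf_le_right) (u.appLE U (u ⁻¹ᵁ U ⊓ sP₁ ⁻¹ᵁ V) hWU) sq hp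
    poC.flip (hinj V hV hVR)

end Geometry

end Groth.Agent.Lib.Ferrand24
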