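import Groth.Agent.Lib.Ferrand24m
import Groth.Prelude.Def_W4c3jacimperfPinch

/-!
# Ferrand pushouts XIV: pinchings with projective cokernel commute with base change (helper24)
-/

set_option autoImplicit false
universe u

namespace Groth.Agent.Lib.Ferrand24

open CategoryTheory CategoryTheory.Limits TensorProduct AlgebraicGeometry
open Groth.Agent.Lib.RingFibreSq24

section Cat

variable {R R' C B₂ B₁ B₀ : CommRingCat.{u}}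

/-- If `B₂ → B₀` is injective with `R`-projective cokernel, tensoring keeps `C → B₂ × B₁`
injective. -/
theorem tensorInjective_of_cokerProjective (ρ : R ⟶ R') (σ : R ⟶ C) (π₁ : C ⟶ B₂) (π₂ : C ⟶ B₁)
    (q : B₂ ⟶ B₀) (p : B₁ ⟶ B₀)
    (sq : IsFibreSq π₁.hom π₂.hom q.hom p.hom) (hp : Function.Surjective p.hom)
    (hq : Function.Injective q.hom) (φ : R ⟶ B₀) (hφ : φ = σ ≫ π₂ ≫ p)
    (hproj : @Pinch.CokerProjective R B₀ B₂ _ _ _ φ.hom.toAlgebra q.hom) :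
    TensorInjective ρ σ π₁ π₂ := by
  subst hφ
  unfold TensorInjective
  letI := ρ.hom.toAlgebra
  letI := σ.hom.toAlgebra
  letI := (σ ≫ π₁).hom.toAlgebra
  letI := (σ ≫ π₂).hom.toAlgebra
  letI := (σ ≫ π₂ ≫ p).hom.toAlgebra
  have hqr : ∀ r : R, q.hom ((σ ≫ π₁).hom r) = (σ ≫ π₂ ≫ p).hom r := fun r => sq.comm (σ.hom r)
  haveI : Module.Projective R (B₀ ⧸ Submodule.span R (Set.range q.hom)) := hproj
  -- the quotient map `B₁ → B₀ / B₂`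
  set qL : B₂ →ₗ[R] B₀ := (⟨q.hom, hqr⟩ : B₂ →ₐ[R] B₀).toLinearMap with hqL
  set pL : B₁ →ₗ[R] B₀ := (⟨p.hom, fun _ => rfl⟩ : B₁ →ₐ[R] B₀).toLinearMap with hpL
  set g₁ : C →ₗ[R] B₁ := (⟨π₂.hom, fun _ => rfl⟩ : C →ₐ[R] B₁).toLinearMap with hg₁
  set g₂ : C →ₗ[R] B₂ := (⟨π₁.hom, fun _ => rfl⟩ : C →ₐ[R] B₂).toLinearMap with hg₂
  have hspan : Submodule.span R (Set.range q.hom) = LinearMap.range qL := by
    have : (Set.range q.hom : Set B₀) = (LinearMap.range qL : Set B₀) := by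
      ext x
      simp [qL]
    rw [this, Submodule.span_eq]
  set ψ : B₁ →ₗ[R] (B₀ ⧸ Submodule.span R (Set.range q.hom)) :=
    (Submodule.span R (Set.range q.hom)).mkQ ∘ₗ pL with hψ
  have hψs : Function.Surjective ψ :=
    (Submodule.mkQ_surjective _).comp hp
  have hg₁i : Function.Injective g₁ := by
    rw [injective_iff_map_eq_zero]
    intro c hc
    have h2 : π₂.hom c = 0 := hc
    have h1 : π₁.hom c = 0 := by
      apply hq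
      rw [map_zero, sq.comm, h2, map_zero]
    exact sq.inj c h1 h2
  have H : Function.Exact g₁ ψ := by
    intro b₁
    constructor
    · intro hb
      have : pL b₁ ∈ Submodule.span R (Set.range q.hom) :=
        (Submodule.Quotient.mk_eq_zero _).mp hb
      rw [hspan] at this
      obtain ⟨b₂, hb₂⟩ := this
      obtain ⟨c, -, hc⟩ := sq.surj b₂ b₁ hb₂
      exact ⟨c, hc⟩
    · rintro ⟨c, rfl⟩
      apply (Submodule.Quotient.mk_eq_zero _).mpr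
      rw [hspan]
      exact ⟨g₂ c, sq.comm c⟩
  have hinj₁ : Function.Injective (g₁.lTensor R') :=
    LinearMap.lTensor_injective_of_exact_of_flat ψ hψs g₁ hg₁i H R'
  have hcomp : (LinearMap.snd R B₂ B₁).lTensor R' ∘ₗ (g₂.prod g₁).lTensor R' = g₁.lTensor R' := by
    rw [← LinearMap.lTensor_comp]
    congr 1
  have : Function.Injective ((LinearMap.snd R B₂ B₁).lTensor R' ∘ₗ (g₂.prod g₁).lTensor R') := by
    rw [hcomp]
    exact hinj₁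
  rw [LinearMap.coe_comp] at this
  exact Function.Injective.of_comp this

end Cat

section Geometry

variable {X T Z P Y : Scheme.{u}}

/-- sections of a faithfully flat morphism inject -/
theorem injective_appLE_of_flat_of_surjective (ξ : Z ⟶ T) [Flat ξ] [Surjective ξ] (H : T.Opens)
    (hH : IsAffineOpen H) (N : Z.Opens) (hN : IsAffineOpen N) (e : N = ξ ⁻¹ᵁ H) :
    Function.Injective (ξ.appLE H N e.le).hom := by
  subst e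
  have hflat : (ξ.appLE H (ξ ⁻¹ᵁ H) le_rfl).hom.Flat :=
    HasRingHomProperty.appLE @Flat ξ inferInstance ⟨H, hH⟩ ⟨ξ ⁻¹ᵁ H, hN⟩ le_rfl
  letI := (ξ.appLE H (ξ ⁻¹ᵁ H) le_rfl).hom.toAlgebra
  haveI : Module.Flat Γ(T, H) Γ(Z, ξ ⁻¹ᵁ H) := hflat
  have hsurj : Function.Surjective
      (PrimeSpectrum.comap (algebraMap Γ(T, H) Γ(Z, ξ ⁻¹ᵁ H))) := by
    intro 𝔭
    obtain ⟨z, hz⟩ := ξ.surjective (hH.isoSpec.inv 𝔭).1
    have hzN : z ∈ ξ ⁻¹ᵁ H := by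
      show ξ z ∈ H
      rw [hz]
      exact (hH.isoSpec.inv 𝔭).2
    refine ⟨hN.primeIdealOf ⟨z, hzN⟩, ?_⟩
    have h1 := IsAffineOpen.comap_primeIdealOf_appLE (f := ξ) (x := z) H hH (ξ ⁻¹ᵁ H) hN le_rfl hzN
    have h2 : (⟨ξ z, hzN⟩ : H) = hH.isoSpec.inv 𝔭 := Subtype.ext hz
    have h3 : hH.primeIdealOf (hH.isoSpec.inv 𝔭) = 𝔭 := by
      show hH.isoSpec.hom (hH.isoSpec.inv 𝔭) = 𝔭
      rw [← Scheme.Hom.comp_apply, Iso.inv_hom_id]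
      rfl
    exact h1.trans (by rw [h2, h3])
  haveI : Module.FaithfullyFlat Γ(T, H) Γ(Z, ξ ⁻¹ᵁ H) :=
    Module.FaithfullyFlat.of_comap_surjective hsurj
  exact FaithfulSMul.algebraMap_injective Γ(T, H) Γ(Z, ξ ⁻¹ᵁ H)

/-- affine pairs over affine opens of the base, in the pinching situation, with their type -/
theorem pinch_charts_base2 (f : X ⟶ Y) (t : T ⟶ Y) (ξ : Z ⟶ T) (ι : Z ⟶ X)
    [IsAffineHom t] [IsClosedImmersion ι] (hsq : ι ≫ f = ξ ≫ t)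
    (hstd : ∀ y : Y, ∃ U : Y.Opens, IsAffineOpen U ∧ y ∈ U ∧ ∃ V : X.Opens, IsAffineOpen V ∧
      V ≤ f ⁻¹ᵁ U ∧ ∀ z : Z, (ξ ≫ t).base z ∈ U → ι.base z ∈ V) :
    (∀ x : X, ∃ (k : Pair ι ξ) (U : Y.Opens), IsAffineOpen U ∧ IsAffineOpen k.G ∧
        IsAffineOpen k.H ∧ x ∈ k.G ∧ k.G ≤ f ⁻¹ᵁ U ∧ (k.H = t ⁻¹ᵁ U ∨ k.H = ⊥)) ∧
      (∀ τ : T, ∃ (k : Pair ι ξ) (U : Y.Opens), IsAffineOpen U ∧ IsAffineOpen k.G ∧
        IsAffineOpen k.H ∧ τ ∈ k.H ∧ k.G ≤ f ⁻¹ᵁ U ∧ (k.H = t ⁻¹ᵁ U ∨ k.H = ⊥)) := by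
  have hpre : ∀ (U : Y.Opens) (V : X.Opens), V ≤ f ⁻¹ᵁ U →
      (∀ z : Z, (ξ ≫ t).base z ∈ U → ι.base z ∈ V) → ι ⁻¹ᵁ V = ξ ⁻¹ᵁ (t ⁻¹ᵁ U) := by
    intro U V hV hz
    ext z
    constructor
    · intro h
      have h1 : f (ι z) ∈ U := hV h
      have h2 : f (ι z) = t (ξ z) := congr($hsq z)
      rw [h2] at h1
      exact h1
    · intro h
      exact hz z h
  constructor
  · intro x
    by_cases hx : x ∈ Set.range ι
    · obtain ⟨z, rfl⟩ := hx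
      obtain ⟨U, hU, hyU, V, hV, hVU, hz⟩ := hstd ((ξ ≫ t).base z)
      exact ⟨⟨V, t ⁻¹ᵁ U, hpre U V hVU hz⟩, U, hU, hV, hU.preimage t, hz z hyU, hVU, Or.inl rfl⟩
    · obtain ⟨_, ⟨U, hU, rfl⟩, hfxU, -⟩ :=
        Y.isBasis_affineOpens.exists_subset_of_mem_open (Set.mem_univ (f x)) isOpen_univ
      have hopen : IsOpen ((Set.range ι)ᶜ ∩ (f ⁻¹ᵁ U : Set X)) :=
        ι.isClosedEmbedding.isClosed_range.isOpen_compl.inter (f ⁻¹ᵁ U).2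
      obtain ⟨_, ⟨V, hV, rfl⟩, hxV, hVsub⟩ :=
        X.isBasis_affineOpens.exists_subset_of_mem_open
          (show x ∈ (Set.range ι)ᶜ ∩ (f ⁻¹ᵁ U : Set X) from ⟨hx, hfxU⟩) hopen
      have hbot : ι ⁻¹ᵁ V = ξ ⁻¹ᵁ (⊥ : T.Opens) := by
        ext z
        constructor
        · intro h
          exact absurd ⟨z, rfl⟩ (hVsub h).1
        · intro h
          exact absurd h (by simp)
      exact ⟨⟨V, ⊥, hbot⟩, U, hU, hV, isAffineOpen_bot T, hxV, fun v hv => (hVsub hv).2,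
        Or.inr rfl⟩
  · intro τ
    obtain ⟨U, hU, hyU, V, hV, hVU, hz⟩ := hstd (t τ)
    exact ⟨⟨V, t ⁻¹ᵁ U, hpre U V hVU hz⟩, U, hU, hV, hU.preimage t, hyU, hVU, Or.inl rfl⟩

variable {ι : Z ⟶ X} {ξ : Z ⟶ T}

/-- the affine open of a Ferrand pushout attached to an affine pair -/
theorem exists_affineOpen_of_pair [IsClosedImmersion ι]
    (hX : ∀ x : X, ∃ k : Pair ι ξ, IsAffineOpen k.G ∧ IsAffineOpen k.H ∧ x ∈ k.G)
    (hT : ∀ t : T, ∃ k : Pair ι ξ, IsAffineOpen k.G ∧ IsAffineOpen k.H ∧ t ∈ k.H)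
    {a : X ⟶ P} {b : T ⟶ P} (hP : IsPushout ι ξ a b) (k : Pair ι ξ) (hG : IsAffineOpen k.G)
    (hH : IsAffineOpen k.H) :
    ∃ U : P.Opens, IsAffineOpen U ∧ a ⁻¹ᵁ U = k.G ∧ b ⁻¹ᵁ U = k.H := by
  obtain ⟨e, he, hae, hbe, hxa, htb⟩ := chart_of_pair hX hT hP k hG hH
  refine ⟨e.opensRange, isAffineOpen_opensRange e, ?_, ?_⟩
  · ext x
    constructor
    · intro hx
      exact hxa x hx
    · intro hx
      exact ⟨chartA k hG ⟨x, hx⟩, (congr($hae ⟨x, hx⟩)).symm⟩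
  · ext τ
    constructor
    · intro hτ
      exact htb τ hτ
    · intro hτ
      exact ⟨chartB k hH ⟨τ, hτ⟩, (congr($hbe ⟨τ, hτ⟩)).symm⟩

end Geometry

section Coker

variable {T Z Y : Scheme.{u}}

theorem coker_caseA (t : T ⟶ Y) (ξ : Z ⟶ T) [Flat ξ] [Surjective ξ] [IsAffineHom t]
    [IsAffineHom (ξ ≫ t)] (R₀ : Y.Opens) (hR₀ : IsAffineOpen R₀)
    (hv : @Pinch.CokerProjective Γ(Y, R₀) Γ(Z, (ξ ≫ t) ⁻¹ᵁ R₀) Γ(T, t ⁻¹ᵁ R₀) _ _ _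
      ((ξ ≫ t).app R₀).hom.toAlgebra (ξ.app (t ⁻¹ᵁ R₀)).hom)
    (H : T.Opens) (N : Z.Opens) (hH : H = t ⁻¹ᵁ R₀) (hN : N = (ξ ≫ t) ⁻¹ᵁ R₀)
    (hNH : N ≤ ξ ⁻¹ᵁ H) (hNR : N ≤ (ξ ≫ t) ⁻¹ᵁ R₀) :
    Function.Injective (ξ.appLE H N hNH).hom ∧
      @Pinch.CokerProjective Γ(Y, R₀) Γ(Z, N) Γ(T, H) _ _ _
        ((ξ ≫ t).appLE R₀ N hNR).hom.toAlgebra (ξ.appLE H N hNH).hom := by
  subst hH hN
  refine ⟨injective_appLE_of_flat_of_surjective ξ _ (hR₀.preimage t) _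
    (hR₀.preimage (ξ ≫ t)) rfl, ?_⟩
  have e1 : (ξ ≫ t).appLE R₀ ((ξ ≫ t) ⁻¹ᵁ R₀) hNR = (ξ ≫ t).app R₀ :=
    (Scheme.Hom.app_eq_appLE ..).symm
  have e2 : ξ.appLE (t ⁻¹ᵁ R₀) ((ξ ≫ t) ⁻¹ᵁ R₀) hNH = ξ.app (t ⁻¹ᵁ R₀) :=
    (Scheme.Hom.app_eq_appLE ..).symm
  rw [e1, e2]
  exact hv

theorem coker_caseB (t : T ⟶ Y) (ξ : Z ⟶ T) (R₀ : Y.Opens)
    (H : T.Opens) (N : Z.Opens) (hH : H = ⊥) (hN : N = ⊥)
    (hNH : N ≤ ξ ⁻¹ᵁ H) (hNR : N ≤ (ξ ≫ t) ⁻¹ᵁ R₀) :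
    Function.Injective (ξ.appLE H N hNH).hom ∧
      @Pinch.CokerProjective Γ(Y, R₀) Γ(Z, N) Γ(T, H) _ _ _
        ((ξ ≫ t).appLE R₀ N hNR).hom.toAlgebra (ξ.appLE H N hNH).hom := by
  subst hH hN
  refine ⟨Function.injective_of_subsingleton _, ?_⟩
  unfold Pinch.CokerProjective
  letI := ((ξ ≫ t).appLE R₀ ⊥ hNR).hom.toAlgebra
  exact Module.Projective.of_free

end Coker

end Groth.Agent.Lib.Ferrand24
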