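import Mathlib
import Groth.Agent.Lib.Ferrand24i

/-!
# Quasi-separatedness of Ferrand pushouts (helper24)
-/

set_option autoImplicit false
universe u

namespace Groth.Agent.Lib.Ferrand24

open AlgebraicGeometry CategoryTheory CategoryTheory.Limits TopologicalSpace

variable {X T P Y : Scheme.{u}}

/-- quasi-separatedness descends along a jointly surjective pair of quasi-compact maps -/
theorem quasiSeparated_of_jointly_surjective (f : X ⟶ Y) (t : T ⟶ Y) [QuasiSeparated f]
    [QuasiSeparated t] {a : X ⟶ P} {b : T ⟶ P} [QuasiCompact a] [QuasiCompact b]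
    (p : P ⟶ Y) (hap : a ≫ p = f)
    (hbp : b ≫ p = t) (hjs : ∀ q : P, q ∈ Set.range a ∨ q ∈ Set.range b) :
    QuasiSeparated p := by
  haveI haa : QuasiCompact (pullback.map f f p p a a (𝟙 _)
      ((Category.comp_id _).trans hap.symm) ((Category.comp_id _).trans hap.symm)) :=
    MorphismProperty.pullbackMap (P := @QuasiCompact) ‹_› ‹_› hap.symm hap.symm
  haveI hbb : QuasiCompact (pullback.map t t p p b b (𝟙 _)
      ((Category.comp_id _).trans hbp.symm) ((Category.comp_id _).trans hbp.symm)) :=
    MorphismProperty.pullbackMap (P := @QuasiCompact) ‹_› ‹_› hbp.symm hbp.symm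
  have ea : pullback.diagonal f ≫ pullback.map f f p p a a (𝟙 _)
      ((Category.comp_id _).trans hap.symm) ((Category.comp_id _).trans hap.symm) =
      a ≫ pullback.diagonal p := by
    apply pullback.hom_ext
    · rw [Category.assoc, pullback.lift_fst, pullback.diagonal_fst_assoc, Category.assoc,
        pullback.diagonal_fst, Category.comp_id]
    · rw [Category.assoc, pullback.lift_snd, pullback.diagonal_snd_assoc, Category.assoc,
        pullback.diagonal_snd, Category.comp_id]
  have eb : pullback.diagonal t ≫ pullback.map t t p p b b (𝟙 _)
      ((Category.comp_id _).trans hbp.symm) ((Category.comp_id _).trans hbp.symm) =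
      b ≫ pullback.diagonal p := by
    apply pullback.hom_ext
    · rw [Category.assoc, pullback.lift_fst, pullback.diagonal_fst_assoc, Category.assoc,
        pullback.diagonal_fst, Category.comp_id]
    · rw [Category.assoc, pullback.lift_snd, pullback.diagonal_snd_assoc, Category.assoc,
        pullback.diagonal_snd, Category.comp_id]
  constructor
  exact quasiCompact_of_jointly_surjective
    (pullback.diagonal f ≫ pullback.map f f p p a a (𝟙 _)
      ((Category.comp_id _).trans hap.symm) ((Category.comp_id _).trans hap.symm))
    (pullback.diagonal t ≫ pullback.map t t p p b b (𝟙 _)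
      ((Category.comp_id _).trans hbp.symm) ((Category.comp_id _).trans hbp.symm))
    (pullback.diagonal p) ea.symm eb.symm hjs

end Groth.Agent.Lib.Ferrand24
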