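import Mathlib
import Groth.Agent.Lib.Ferrand24l

/-!
# Flat base change of Ferrand pushouts, general form (helper24)
-/

set_option autoImplicit false
universe u

namespace Groth.Agent.Lib.Ferrand24

open AlgebraicGeometry CategoryTheory CategoryTheory.Limits TopologicalSpace
  Groth.Agent.Lib.RingFibreSq24

variable {X T Z P : Scheme.{u}} {ι : Z ⟶ X} {ξ : Z ⟶ T}

/-- **Flat base change of a Ferrand pushout.** -/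
theorem isPushout_flat_baseChange [IsClosedImmersion ι]
    (hX : ∀ x : X, ∃ k : Pair ι ξ, IsAffineOpen k.G ∧ IsAffineOpen k.H ∧ x ∈ k.G)
    (hT : ∀ t : T, ∃ k : Pair ι ξ, IsAffineOpen k.G ∧ IsAffineOpen k.H ∧ t ∈ k.H)
    {a : X ⟶ P} {b : T ⟶ P} (hP : IsPushout ι ξ a b) [IsAffineHom a] [IsAffineHom b]
    {P₁ X₁ T₁ Z₁ : Scheme.{u}} (u : P₁ ⟶ P) [Flat u] (uX : X₁ ⟶ X) (uT : T₁ ⟶ T) (uZ : Z₁ ⟶ Z)
    (a₁ : X₁ ⟶ P₁) (b₁ : T₁ ⟶ P₁) (ι₁ : Z₁ ⟶ X₁) (ξ₁ : Z₁ ⟶ T₁)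
    (hX₁ : IsPullback uX a₁ a u) (hT₁ : IsPullback uT b₁ b u) (hZ₁ : IsPullback uZ ι₁ ι uX)
    (hξ₁ : ξ₁ ≫ uT = uZ ≫ ξ) (hw₁ : ι₁ ≫ a₁ = ξ₁ ≫ b₁) :
    IsPushout ι₁ ξ₁ a₁ b₁ := by
  refine isPushout_baseChange_of_local u uX uT uZ a₁ b₁ ι₁ ξ₁ hX₁ hT₁ hZ₁ hξ₁ hw₁ ?_
  intro t'
  obtain ⟨_, ⟨U, hU, rfl⟩, hqU, -⟩ :=
    P.isBasis_affineOpens.exists_subset_of_mem_open (Set.mem_univ (u t')) isOpen_univ
  obtain ⟨_, ⟨W, hW, rfl⟩, htW, hWU⟩ :=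
    P₁.isBasis_affineOpens.exists_subset_of_mem_open (show t' ∈ u ⁻¹ᵁ U from hqU) (u ⁻¹ᵁ U).2
  have h : ι ⁻¹ᵁ a ⁻¹ᵁ U ≤ ξ ⁻¹ᵁ b ⁻¹ᵁ U := by
    rw [← Scheme.Hom.comp_preimage, ← Scheme.Hom.comp_preimage, hP.w]
  refine ⟨U, W, hU, hW, htW, hWU, hWU, h, ?_⟩
  have sq := sections_isFibreSq hX hT hP U hU (hU.preimage a) (hU.preimage b) h
  have hp : Function.Surjective (ι.app (a ⁻¹ᵁ U)).hom := ι.app_surjective _ (hU.preimage a)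
  rw [Scheme.Hom.app_eq_appLE, Scheme.Hom.app_eq_appLE, Scheme.Hom.app_eq_appLE] at sq
  rw [Scheme.Hom.app_eq_appLE] at hp
  have hflat : (u.appLE U W hWU).hom.Flat :=
    HasRingHomProperty.appLE @Flat u inferInstance ⟨U, hU⟩ ⟨W, hW⟩ hWU
  exact isBaseChangeGood_of_flat _ _ _ _ _ sq hp hflat

end Groth.Agent.Lib.Ferrand24
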