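import Mathlib
import Groth.Agent.Lib.Ferrand24m
import Groth.Agent.Lib.Ferrand24n

/-!
# Base change of a Ferrand pushout with flat corner, packaged (helper24)
-/

set_option autoImplicit false
universe u

namespace Groth.Agent.Lib.Ferrand24

open AlgebraicGeometry CategoryTheory CategoryTheory.Limits TopologicalSpace
  Groth.Agent.Lib.RingFibreSq24

variable {X T Z P : Scheme.{u}} {ι : Z ⟶ X} {ξ : Z ⟶ T}

/-- A section of the structure sheaf vanishing locally vanishes. -/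
theorem section_eq_zero_of_locally {A : Scheme.{u}} (V : A.Opens) (s : Γ(A, V))
    (h : ∀ x ∈ V, ∃ (W : A.Opens) (hW : W ≤ V), x ∈ W ∧
      (A.presheaf.map (homOfLE hW).op).hom s = 0) : s = 0 := by
  choose W hW hx hs using h
  fapply A.sheaf.eq_of_locally_eq' (fun x : V => W x.1 x.2) V (fun x => homOfLE (hW x.1 x.2))
  · intro y hy
    exact Opens.mem_iSup.mpr ⟨⟨y, hy⟩, hx y hy⟩
  · intro x
    change (A.presheaf.map _).hom s = (A.presheaf.map _).hom 0
    rw [map_zero]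
    exact hs x.1 x.2

/-- sections of an affine faithfully flat morphism inject, over arbitrary opens -/
theorem injective_appLE_of_flat_of_surjective_open {Z' T' : Scheme.{u}} (ξ' : Z' ⟶ T')
    [Flat ξ'] [Surjective ξ'] [IsAffineHom ξ'] (H : T'.Opens) (N : Z'.Opens) (e : N = ξ' ⁻¹ᵁ H) :
    Function.Injective (ξ'.appLE H N e.le).hom := by
  subst e
  rw [injective_iff_map_eq_zero]
  intro r hr
  apply section_eq_zero_of_locally
  intro x hx
  obtain ⟨_, ⟨W, hW, rfl⟩, hxW, hWH⟩ :=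
    T'.isBasis_affineOpens.exists_subset_of_mem_open hx H.2
  refine ⟨W, hWH, hxW, ?_⟩
  have hinj := injective_appLE_of_flat_of_surjective ξ' W hW (ξ' ⁻¹ᵁ W) (hW.preimage ξ') rfl
  apply hinj
  rw [map_zero]
  have h1 : T'.presheaf.map (homOfLE hWH).op ≫ ξ'.appLE W (ξ' ⁻¹ᵁ W) le_rfl =
      ξ'.appLE H (ξ' ⁻¹ᵁ H) le_rfl ≫ Z'.presheaf.map
        (homOfLE (show ξ' ⁻¹ᵁ W ≤ ξ' ⁻¹ᵁ H from fun z hz => hWH hz)).op := by
    rw [Scheme.Hom.map_appLE, Scheme.Hom.appLE_map]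
  have h2 := congr($(h1).hom r)
  rw [CommRingCat.comp_apply, CommRingCat.comp_apply, hr, map_zero] at h2
  exact h2

/-- **Base change of a Ferrand pushout whose corner is flat over the base**, with the cartesian
squares relating it to the original pushout. -/
theorem baseChange_flat_corner [IsClosedImmersion ι]
    (hX : ∀ x : X, ∃ k : Pair ι ξ, IsAffineOpen k.G ∧ IsAffineOpen k.H ∧ x ∈ k.G)
    (hT : ∀ t : T, ∃ k : Pair ι ξ, IsAffineOpen k.G ∧ IsAffineOpen k.H ∧ t ∈ k.H)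
    {a : X ⟶ P} {b : T ⟶ P} (hP : IsPushout ι ξ a b) [IsAffineHom a] [IsAffineHom b]
    {S S' : Scheme.{u}} (sP : P ⟶ S) [Flat ((ι ≫ a) ≫ sP)] (g : S' ⟶ S) :
    ∃ (a₁ : pullback (a ≫ sP) g ⟶ pullback sP g) (b₁ : pullback (b ≫ sP) g ⟶ pullback sP g)
      (ι₁ : pullback ((ι ≫ a) ≫ sP) g ⟶ pullback (a ≫ sP) g)
      (ξ₁ : pullback ((ι ≫ a) ≫ sP) g ⟶ pullback (b ≫ sP) g),
      IsPushout ι₁ ξ₁ a₁ b₁ ∧
      IsPullback (pullback.fst (a ≫ sP) g) a₁ a (pullback.fst sP g) ∧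
      IsPullback (pullback.fst (b ≫ sP) g) b₁ b (pullback.fst sP g) ∧
      IsPullback (pullback.fst ((ι ≫ a) ≫ sP) g) ι₁ ι (pullback.fst (a ≫ sP) g) ∧
      IsPullback (pullback.fst ((ι ≫ a) ≫ sP) g) ξ₁ ξ (pullback.fst (b ≫ sP) g) ∧
      a₁ ≫ pullback.snd sP g = pullback.snd (a ≫ sP) g ∧
      b₁ ≫ pullback.snd sP g = pullback.snd (b ≫ sP) g ∧
      ι₁ ≫ pullback.snd (a ≫ sP) g = pullback.snd ((ι ≫ a) ≫ sP) g ∧
      ξ₁ ≫ pullback.snd (b ≫ sP) g = pullback.snd ((ι ≫ a) ≫ sP) g := by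
  haveI hcorner : Flat (ι ≫ a ≫ sP) := by
    rw [← Category.assoc]
    infer_instance
  have ea1 : pullback.map (a ≫ sP) g sP g a (𝟙 S') (𝟙 S)
      (Category.comp_id _) ((Category.comp_id g).trans (Category.id_comp g).symm) ≫
      pullback.fst sP g = pullback.fst (a ≫ sP) g ≫ a := pullback.lift_fst _ _ _
  have ea2 : pullback.map (a ≫ sP) g sP g a (𝟙 S') (𝟙 S)
      (Category.comp_id _) ((Category.comp_id g).trans (Category.id_comp g).symm) ≫
      pullback.snd sP g = pullback.snd (a ≫ sP) g :=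
    (pullback.lift_snd _ _ _).trans (Category.comp_id _)
  have eb1 : pullback.map (b ≫ sP) g sP g b (𝟙 S') (𝟙 S)
      (Category.comp_id _) ((Category.comp_id g).trans (Category.id_comp g).symm) ≫
      pullback.fst sP g = pullback.fst (b ≫ sP) g ≫ b := pullback.lift_fst _ _ _
  have eb2 : pullback.map (b ≫ sP) g sP g b (𝟙 S') (𝟙 S)
      (Category.comp_id _) ((Category.comp_id g).trans (Category.id_comp g).symm) ≫
      pullback.snd sP g = pullback.snd (b ≫ sP) g :=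
    (pullback.lift_snd _ _ _).trans (Category.comp_id _)
  have ei1 : pullback.map ((ι ≫ a) ≫ sP) g (a ≫ sP) g ι (𝟙 S') (𝟙 S)
        ((Category.comp_id _).trans (Category.assoc ι a sP))
        ((Category.comp_id g).trans (Category.id_comp g).symm) ≫
      pullback.fst (a ≫ sP) g = pullback.fst ((ι ≫ a) ≫ sP) g ≫ ι := pullback.lift_fst _ _ _
  have ei2 : pullback.map ((ι ≫ a) ≫ sP) g (a ≫ sP) g ι (𝟙 S') (𝟙 S)
        ((Category.comp_id _).trans (Category.assoc ι a sP))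
        ((Category.comp_id g).trans (Category.id_comp g).symm) ≫
      pullback.snd (a ≫ sP) g = pullback.snd ((ι ≫ a) ≫ sP) g :=
    (pullback.lift_snd _ _ _).trans (Category.comp_id _)
  have ex1 : pullback.map ((ι ≫ a) ≫ sP) g (b ≫ sP) g ξ (𝟙 S') (𝟙 S)
        ((Category.comp_id _).trans ((congrArg (fun t => t ≫ sP) hP.w).trans
          (Category.assoc ξ b sP)))
        ((Category.comp_id g).trans (Category.id_comp g).symm) ≫
      pullback.fst (b ≫ sP) g = pullback.fst ((ι ≫ a) ≫ sP) g ≫ ξ := pullback.lift_fst _ _ _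
  have ex2 : pullback.map ((ι ≫ a) ≫ sP) g (b ≫ sP) g ξ (𝟙 S') (𝟙 S)
        ((Category.comp_id _).trans ((congrArg (fun t => t ≫ sP) hP.w).trans
          (Category.assoc ξ b sP)))
        ((Category.comp_id g).trans (Category.id_comp g).symm) ≫
      pullback.snd (b ≫ sP) g = pullback.snd ((ι ≫ a) ≫ sP) g :=
    (pullback.lift_snd _ _ _).trans (Category.comp_id _)
  have hP₁ : IsPullback (pullback.fst sP g) (pullback.snd sP g) sP g :=
    IsPullback.of_hasPullback sP g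
  have bigX : IsPullback (pullback.fst (a ≫ sP) g)
      (pullback.map (a ≫ sP) g sP g a (𝟙 S') (𝟙 S)
        (Category.comp_id _) ((Category.comp_id g).trans (Category.id_comp g).symm) ≫
        pullback.snd sP g) (a ≫ sP) g := by
    rw [ea2]
    exact IsPullback.of_hasPullback (a ≫ sP) g
  have hX₁ := IsPullback.of_bot bigX ea1.symm hP₁
  have bigT : IsPullback (pullback.fst (b ≫ sP) g)
      (pullback.map (b ≫ sP) g sP g b (𝟙 S') (𝟙 S)
        (Category.comp_id _) ((Category.comp_id g).trans (Category.id_comp g).symm) ≫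
        pullback.snd sP g) (b ≫ sP) g := by
    rw [eb2]
    exact IsPullback.of_hasPullback (b ≫ sP) g
  have hT₁ := IsPullback.of_bot bigT eb1.symm hP₁
  have bigZ : IsPullback (pullback.fst ((ι ≫ a) ≫ sP) g)
      (pullback.map ((ι ≫ a) ≫ sP) g (a ≫ sP) g ι (𝟙 S') (𝟙 S)
        ((Category.comp_id _).trans (Category.assoc ι a sP))
        ((Category.comp_id g).trans (Category.id_comp g).symm) ≫
        pullback.snd (a ≫ sP) g) (ι ≫ a ≫ sP) g := by
    rw [ei2, ← Category.assoc]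
    exact IsPullback.of_hasPullback ((ι ≫ a) ≫ sP) g
  have hZ₁ := IsPullback.of_bot bigZ ei1.symm (IsPullback.of_hasPullback (a ≫ sP) g)
  have hw₁ : pullback.map ((ι ≫ a) ≫ sP) g (a ≫ sP) g ι (𝟙 S') (𝟙 S)
        ((Category.comp_id _).trans (Category.assoc ι a sP))
        ((Category.comp_id g).trans (Category.id_comp g).symm) ≫
      pullback.map (a ≫ sP) g sP g a (𝟙 S') (𝟙 S)
        (Category.comp_id _) ((Category.comp_id g).trans (Category.id_comp g).symm) =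
      pullback.map ((ι ≫ a) ≫ sP) g (b ≫ sP) g ξ (𝟙 S') (𝟙 S)
        ((Category.comp_id _).trans ((congrArg (fun t => t ≫ sP) hP.w).trans
          (Category.assoc ξ b sP)))
        ((Category.comp_id g).trans (Category.id_comp g).symm) ≫
      pullback.map (b ≫ sP) g sP g b (𝟙 S') (𝟙 S)
        (Category.comp_id _) ((Category.comp_id g).trans (Category.id_comp g).symm) := by
    apply pullback.hom_ext
    · calc (_ ≫ _) ≫ pullback.fst sP g = _ ≫ (_ ≫ pullback.fst sP g) := Category.assoc _ _ _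
        _ = _ ≫ (pullback.fst (a ≫ sP) g ≫ a) := congrArg (_ ≫ ·) ea1
        _ = (_ ≫ pullback.fst (a ≫ sP) g) ≫ a := (Category.assoc _ _ _).symm
        _ = (pullback.fst ((ι ≫ a) ≫ sP) g ≫ ι) ≫ a := congrArg (· ≫ a) ei1
        _ = pullback.fst ((ι ≫ a) ≫ sP) g ≫ (ι ≫ a) := Category.assoc _ _ _
        _ = pullback.fst ((ι ≫ a) ≫ sP) g ≫ (ξ ≫ b) :=
          congrArg (pullback.fst ((ι ≫ a) ≫ sP) g ≫ ·) hP.w
        _ = (pullback.fst ((ι ≫ a) ≫ sP) g ≫ ξ) ≫ b := (Category.assoc _ _ _).symm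
        _ = (_ ≫ pullback.fst (b ≫ sP) g) ≫ b := congrArg (· ≫ b) ex1.symm
        _ = _ ≫ (pullback.fst (b ≫ sP) g ≫ b) := Category.assoc _ _ _
        _ = _ ≫ (_ ≫ pullback.fst sP g) := congrArg (_ ≫ ·) eb1.symm
        _ = (_ ≫ _) ≫ pullback.fst sP g := (Category.assoc _ _ _).symm
    · calc (_ ≫ _) ≫ pullback.snd sP g = _ ≫ (_ ≫ pullback.snd sP g) := Category.assoc _ _ _
        _ = _ ≫ pullback.snd (a ≫ sP) g := congrArg (_ ≫ ·) ea2
        _ = pullback.snd ((ι ≫ a) ≫ sP) g := ei2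
        _ = _ ≫ pullback.snd (b ≫ sP) g := ex2.symm
        _ = _ ≫ (_ ≫ pullback.snd sP g) := congrArg (_ ≫ ·) eb2.symm
        _ = (_ ≫ _) ≫ pullback.snd sP g := (Category.assoc _ _ _).symm
  have bigξ : IsPullback (pullback.fst ((ι ≫ a) ≫ sP) g)
      (pullback.map ((ι ≫ a) ≫ sP) g (b ≫ sP) g ξ (𝟙 S') (𝟙 S)
        ((Category.comp_id _).trans ((congrArg (fun t => t ≫ sP) hP.w).trans
          (Category.assoc ξ b sP)))
        ((Category.comp_id g).trans (Category.id_comp g).symm) ≫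
        pullback.snd (b ≫ sP) g) (ξ ≫ b ≫ sP) g := by
    rw [ex2]
    have h0 : ξ ≫ b ≫ sP = (ι ≫ a) ≫ sP := by
      rw [← Category.assoc, ← hP.w]
    rw [h0]
    exact IsPullback.of_hasPullback ((ι ≫ a) ≫ sP) g
  have hξ₁ := IsPullback.of_bot bigξ ex1.symm (IsPullback.of_hasPullback (b ≫ sP) g)
  refine ⟨_, _, _, _, ?_, hX₁, hT₁, hZ₁, hξ₁, ea2, eb2, ei2, ex2⟩
  refine isPushout_baseChange_base hX hT hP sP g (pullback.fst sP g) (pullback.snd sP g) hP₁
    (pullback.fst (a ≫ sP) g) (pullback.fst (b ≫ sP) g) (pullback.fst ((ι ≫ a) ≫ sP) g) _ _ _ _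
    hX₁ hT₁ hZ₁ ex1 hw₁ ?_
  intro x
  obtain ⟨_, ⟨R₀, hR₀, rfl⟩, hxR, -⟩ :=
    S.isBasis_affineOpens.exists_subset_of_mem_open (Set.mem_univ (sP x)) isOpen_univ
  obtain ⟨_, ⟨U, hU, rfl⟩, hxU, hUR⟩ :=
    P.isBasis_affineOpens.exists_subset_of_mem_open (show x ∈ sP ⁻¹ᵁ R₀ from hxR) (sP ⁻¹ᵁ R₀).2
  have hh : ι ⁻¹ᵁ a ⁻¹ᵁ U ≤ ξ ⁻¹ᵁ b ⁻¹ᵁ U := by
    rw [← Scheme.Hom.comp_preimage, ← Scheme.Hom.comp_preimage, hP.w]
  have sq := sections_isFibreSq hX hT hP U hU (hU.preimage a) (hU.preimage b) hh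
  have hp : Function.Surjective (ι.app (a ⁻¹ᵁ U)).hom := ι.app_surjective _ (hU.preimage a)
  rw [Scheme.Hom.app_eq_appLE, Scheme.Hom.app_eq_appLE, Scheme.Hom.app_eq_appLE] at sq
  rw [Scheme.Hom.app_eq_appLE] at hp
  refine ⟨R₀, U, hR₀, hU, hxU, hUR, ?_⟩
  intro V hV hVR
  refine tensorInjective_of_flat_corner _ _ _ _ _ _ sq hp ?_
  rw [Scheme.Hom.appLE_comp_appLE, Scheme.Hom.appLE_comp_appLE]
  exact HasRingHomProperty.appLE @Flat (ι ≫ a ≫ sP) hcorner ⟨R₀, hR₀⟩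
    ⟨ι ⁻¹ᵁ a ⁻¹ᵁ U, (hU.preimage a).preimage ι⟩ _

end Groth.Agent.Lib.Ferrand24
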