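import Mathlib
import Groth.Agent.Lib.Ferrand24q

/-!
# Base change of a Ferrand pushout with flat corner, `Over` form (helper24)
-/

set_option autoImplicit false
universe u

namespace Groth.Agent.Lib.Ferrand24

open AlgebraicGeometry CategoryTheory CategoryTheory.Limits TopologicalSpace
  Groth.Agent.Lib.RingFibreSq24

variable {X T Z P : Scheme.{u}} {ι : Z ⟶ X} {ξ : Z ⟶ T}

/-- `baseChange_flat_corner` with the structure maps and the base changed maps as parameters. -/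
theorem isPushout_baseChange_of_flat_corner [IsClosedImmersion ι]
    (hX : ∀ x : X, ∃ k : Pair ι ξ, IsAffineOpen k.G ∧ IsAffineOpen k.H ∧ x ∈ k.G)
    (hT : ∀ t : T, ∃ k : Pair ι ξ, IsAffineOpen k.G ∧ IsAffineOpen k.H ∧ t ∈ k.H)
    {a : X ⟶ P} {b : T ⟶ P} (hP : IsPushout ι ξ a b) [IsAffineHom a] [IsAffineHom b]
    {S S' : Scheme.{u}} (sP : P ⟶ S) (sX : X ⟶ S) (sT : T ⟶ S) (sZ : Z ⟶ S)
    (hsX : a ≫ sP = sX) (hsT : b ≫ sP = sT) (hsZ : (ι ≫ a) ≫ sP = sZ) [Flat sZ] (g : S' ⟶ S)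
    (ι₁ : pullback sZ g ⟶ pullback sX g) (ξ₁ : pullback sZ g ⟶ pullback sT g)
    (a₁ : pullback sX g ⟶ pullback sP g) (b₁ : pullback sT g ⟶ pullback sP g)
    (hι₁ : ι₁ ≫ pullback.fst sX g = pullback.fst sZ g ≫ ι)
    (hι₂ : ι₁ ≫ pullback.snd sX g = pullback.snd sZ g)
    (hξ₁ : ξ₁ ≫ pullback.fst sT g = pullback.fst sZ g ≫ ξ)
    (hξ₂ : ξ₁ ≫ pullback.snd sT g = pullback.snd sZ g)
    (ha₁ : a₁ ≫ pullback.fst sP g = pullback.fst sX g ≫ a)
    (ha₂ : a₁ ≫ pullback.snd sP g = pullback.snd sX g)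
    (hb₁ : b₁ ≫ pullback.fst sP g = pullback.fst sT g ≫ b)
    (hb₂ : b₁ ≫ pullback.snd sP g = pullback.snd sT g) :
    IsPushout ι₁ ξ₁ a₁ b₁ := by
  subst hsX hsT hsZ
  obtain ⟨a₁', b₁', ι₁', ξ₁', hP₁, hX₁, hT₁, hZ₁, hξ₁', ea2, eb2, ei2, ex2⟩ :=
    baseChange_flat_corner hX hT hP sP g
  have e1 : ι₁ = ι₁' := by
    apply pullback.hom_ext
    · rw [hι₁, hZ₁.w]
    · rw [hι₂, ei2]
  have e2 : ξ₁ = ξ₁' := by
    apply pullback.hom_ext
    · rw [hξ₁, hξ₁'.w]
    · rw [hξ₂, ex2]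
  have e3 : a₁ = a₁' := by
    apply pullback.hom_ext
    · rw [ha₁, hX₁.w]
    · rw [ha₂, ea2]
  have e4 : b₁ = b₁' := by
    apply pullback.hom_ext
    · rw [hb₁, hT₁.w]
    · rw [hb₂, eb2]
  rw [e1, e2, e3, e4]
  exact hP₁

/-- **Base change of a Ferrand pushout whose corner is flat over the base**, in `Over` form:
the functor `Over.pullback g` carries the pushout square to a pushout square. -/
theorem isPushout_overPullback_map {S S' : Scheme.{u}} {X T Z P : Over S}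
    {ι : Z ⟶ X} {ξ : Z ⟶ T} {a : X ⟶ P} {b : T ⟶ P} [IsClosedImmersion ι.left]
    (hX : ∀ x : X.left, ∃ k : Pair ι.left ξ.left, IsAffineOpen k.G ∧ IsAffineOpen k.H ∧ x ∈ k.G)
    (hT : ∀ t : T.left, ∃ k : Pair ι.left ξ.left, IsAffineOpen k.G ∧ IsAffineOpen k.H ∧ t ∈ k.H)
    (hP : IsPushout ι.left ξ.left a.left b.left) [IsAffineHom a.left] [IsAffineHom b.left]
    [Flat Z.hom] (g : S' ⟶ S) :
    IsPushout ((Over.pullback g).map ι) ((Over.pullback g).map ξ)
      ((Over.pullback g).map a) ((Over.pullback g).map b) := by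
  have w : (Over.pullback g).map ι ≫ (Over.pullback g).map a =
      (Over.pullback g).map ξ ≫ (Over.pullback g).map b := by
    rw [← Functor.map_comp, ← Functor.map_comp]
    congr 1
    ext : 1
    exact hP.w
  refine IsPushout.of_map (Over.forget S') w ?_
  refine isPushout_baseChange_of_flat_corner hX hT hP P.hom X.hom T.hom Z.hom (Over.w a) (Over.w b)
    ?_ g _ _ _ _ ?_ ?_ ?_ ?_ ?_ ?_ ?_ ?_
  · rw [Category.assoc, Over.w a, Over.w ι]
  · exact pullback.lift_fst _ _ _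
  · exact pullback.lift_snd _ _ _
  · exact pullback.lift_fst _ _ _
  · exact pullback.lift_snd _ _ _
  · exact pullback.lift_fst _ _ _
  · exact pullback.lift_snd _ _ _
  · exact pullback.lift_fst _ _ _
  · exact pullback.lift_snd _ _ _

end Groth.Agent.Lib.Ferrand24
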