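import Mathlib
import Groth.Agent.Lib.Ferrand24r

/-!
# Ferrand pushouts with flat corner are universal: whiskering in `Over S` (helper24)
-/

set_option autoImplicit false
universe u v₁ u₁

namespace Groth.Agent.Lib.Ferrand24

open AlgebraicGeometry CategoryTheory CategoryTheory.Limits TopologicalSpace MonoidalCategory

/-- The base change square of `(Over.pullback g).map k`. -/
theorem isPullback_overPullback_map {S₀ S : Scheme.{u}} (g : S ⟶ S₀) {A B : Over S₀} (k : A ⟶ B) :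
    IsPullback (pullback.fst A.hom g) ((Over.pullback g).map k).left k.left
      (pullback.fst B.hom g) := by
  have e1 : ((Over.pullback g).map k).left ≫ pullback.fst B.hom g =
      pullback.fst A.hom g ≫ k.left := pullback.lift_fst _ _ _
  have e2 : ((Over.pullback g).map k).left ≫ pullback.snd B.hom g = pullback.snd A.hom g :=
    pullback.lift_snd _ _ _
  have big : IsPullback (pullback.fst A.hom g)
      (((Over.pullback g).map k).left ≫ pullback.snd B.hom g) (k.left ≫ B.hom) g := by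
    rw [e2, Over.w k]
    exact IsPullback.of_hasPullback A.hom g
  exact IsPullback.of_bot big e1.symm (IsPullback.of_hasPullback B.hom g)

section Charts

variable {X T Z P : Scheme.{u}} {ι : Z ⟶ X} {ξ : Z ⟶ T} {a : X ⟶ P} {b : T ⟶ P}

/-- charts from affineness of the two legs -/
theorem charts_of_isAffineHom (w : ι ≫ a = ξ ≫ b) [IsAffineHom a] [IsAffineHom b] :
    (∀ x : X, ∃ k : Pair ι ξ, IsAffineOpen k.G ∧ IsAffineOpen k.H ∧ x ∈ k.G) ∧
    (∀ t : T, ∃ k : Pair ι ξ, IsAffineOpen k.G ∧ IsAffineOpen k.H ∧ t ∈ k.H) := by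
  have hpair : ∀ V : P.Opens, ι ⁻¹ᵁ a ⁻¹ᵁ V = ξ ⁻¹ᵁ b ⁻¹ᵁ V := by
    intro V
    rw [← Scheme.Hom.comp_preimage, ← Scheme.Hom.comp_preimage, w]
  constructor
  · intro x
    obtain ⟨_, ⟨V, hV, rfl⟩, hxV, -⟩ :=
      P.isBasis_affineOpens.exists_subset_of_mem_open (Set.mem_univ (a x)) isOpen_univ
    exact ⟨⟨a ⁻¹ᵁ V, b ⁻¹ᵁ V, hpair V⟩, hV.preimage a, hV.preimage b, hxV⟩
  · intro y
    obtain ⟨_, ⟨V, hV, rfl⟩, hyV, -⟩ :=
      P.isBasis_affineOpens.exists_subset_of_mem_open (Set.mem_univ (b y)) isOpen_univ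
    exact ⟨⟨a ⁻¹ᵁ V, b ⁻¹ᵁ V, hpair V⟩, hV.preimage a, hV.preimage b, hyV⟩

end Charts

/-- **Whiskering a Ferrand pushout with flat corner** in `Over S` gives a pushout square. -/
theorem isPushout_whiskerRight {S : Scheme.{u}} {X T Z P : Over S}
    {i : Z ⟶ X} {j : Z ⟶ T} {a : X ⟶ P} {b : T ⟶ P} [IsClosedImmersion i.left]
    (hP : IsPushout i.left j.left a.left b.left) [IsAffineHom a.left] [IsAffineHom b.left]
    [Flat Z.hom] (W : Over S) :
    IsPushout (i ▷ W) (j ▷ W) (a ▷ W) (b ▷ W) := by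
  have w0 : i ≫ a = j ≫ b := by
    ext : 1
    exact hP.w
  have w : (i ▷ W) ≫ (a ▷ W) = (j ▷ W) ≫ (b ▷ W) := by
    rw [← comp_whiskerRight, ← comp_whiskerRight, w0]
  obtain ⟨hX, hT⟩ := charts_of_isAffineHom hP.w
  refine IsPushout.of_map (Over.forget S) w ?_
  refine isPushout_baseChange_of_flat_corner hX hT hP P.hom X.hom T.hom Z.hom (Over.w a) (Over.w b)
    ?_ W.hom _ _ _ _ ?_ ?_ ?_ ?_ ?_ ?_ ?_ ?_
  · rw [Category.assoc, Over.w a, Over.w i]
  · exact Over.whiskerRight_left_fst _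
  · exact Over.whiskerRight_left_snd _
  · exact Over.whiskerRight_left_fst _
  · exact Over.whiskerRight_left_snd _
  · exact Over.whiskerRight_left_fst _
  · exact Over.whiskerRight_left_snd _
  · exact Over.whiskerRight_left_fst _
  · exact Over.whiskerRight_left_snd _

section Braided

variable {C : Type u₁} [Category.{v₁} C] [MonoidalCategory C] [BraidedCategory C]

/-- `Y ⊗ (V ⊗ W) ≅ V ⊗ (Y ⊗ W)`. -/
def swapIso (Y V W : C) : Y ⊗ (V ⊗ W) ≅ V ⊗ (Y ⊗ W) :=
  (α_ Y V W).symm ≪≫ whiskerRightIso (β_ Y V) W ≪≫ α_ V Y W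

theorem swapIso_naturality {Y Y' : C} (f : Y ⟶ Y') (V W : C) :
    (f ▷ (V ⊗ W)) ≫ (swapIso Y' V W).hom = (swapIso Y V W).hom ≫ (V ◁ (f ▷ W)) := by
  simp only [swapIso, Iso.trans_hom, Iso.symm_hom, whiskerRightIso_hom, Category.assoc]
  rw [associator_inv_naturality_left_assoc, ← comp_whiskerRight_assoc,
    BraidedCategory.braiding_naturality_left, comp_whiskerRight_assoc,
    associator_naturality_middle]

/-- If all right whiskerings of a square are pushouts then so are the `V ◁ (- ▷ W)`. -/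
theorem isPushout_whiskerLeft_whiskerRight {X T Z P : C} {i : Z ⟶ X} {j : Z ⟶ T} {a : X ⟶ P}
    {b : T ⟶ P} (h : ∀ W : C, IsPushout (i ▷ W) (j ▷ W) (a ▷ W) (b ▷ W)) (V W : C) :
    IsPushout (V ◁ (i ▷ W)) (V ◁ (j ▷ W)) (V ◁ (a ▷ W)) (V ◁ (b ▷ W)) :=
  IsPushout.of_iso (h (V ⊗ W)) (swapIso Z V W) (swapIso X V W) (swapIso T V W) (swapIso P V W)
    (swapIso_naturality i V W) (swapIso_naturality j V W) (swapIso_naturality a V W)
    (swapIso_naturality b V W)

end Braided

end Groth.Agent.Lib.Ferrand24
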