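import Groth.Agent.Lib.FlatInf88
import Mathlib.RingTheory.AdjoinRoot
import Mathlib.RingTheory.Flat.FaithfullyFlat.Algebra

/-!
# Ferrand's theorem: descent of flatness along finite injective ring maps (helper88)

`R → S` finite injective, `M` any `R`-module.  If `S ⊗ M` is flat over `S` then `M` is flat over
`R`.  No Noetherian hypotheses.

Proof: reduce to `S = R[s]` monogenic; after a finite free base change the monic equation of `s`
splits, `P = ∏ (T - aᵢ)`; then `R/Iᵢ ≅ S/(s - aᵢ)` for `Iᵢ = R ∩ (s - aᵢ)S`, so `M/IᵢM` is flat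
over `R/Iᵢ`, hence `M/NM` is flat over `R/N` for `N = ⋂ Iᵢ` (Stacks 051C), `N` is nilpotent, and
Lemma G (`FlatInjNil88`) finishes.
-/

set_option autoImplicit false
set_option linter.unusedSectionVars false
universe u

namespace Groth.Agent.Lib.Ferrand88

open TensorProduct Function Polynomial Groth.Agent.Lib.FlatCrit Groth.Agent.Lib.FlatNilAss88
  Groth.Agent.Lib.FlatTopInduced88 Groth.Agent.Lib.FlatInjNil88 Groth.Agent.Lib.FlatInf88

section Descent

variable {R : Type u} [CommRing R] (R' : Type*) [CommRing R'] [Algebra R R']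
variable (M : Type*) [AddCommGroup M] [Module R M]

/-- Faithfully flat descent of flatness of modules. -/
theorem flat_of_faithfullyFlat_baseChange [Module.FaithfullyFlat R R']
    [Module.Flat R' (R' ⊗[R] M)] : Module.Flat R M := by
  rw [Module.Flat.iff_rTensor_injective']
  intro 𝔞
  have h1 : Injective (𝔞.subtype.baseChange R') :=
    Module.Flat.lTensor_preserves_injective_linearMap _ 𝔞.subtype_injective
  have h2 : Injective ((𝔞.subtype.baseChange R').rTensor (R' ⊗[R] M)) :=
    Module.Flat.rTensor_preserves_injective_linearMap _ h1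
  have h3 := rTensor_injective_restrictScalars_of (R := R) (M := M) R'
    (𝔞.subtype.baseChange R') h2
  rw [← Module.FaithfullyFlat.lTensor_injective_iff_injective R R']
  have hcomm : (𝔞.subtype.rTensor M).lTensor R' ∘ₗ (TensorProduct.assoc R R' 𝔞 M).toLinearMap =
      (TensorProduct.assoc R R' R M).toLinearMap ∘ₗ
        ((𝔞.subtype.baseChange R').restrictScalars R).rTensor M := by
    ext r a m
    rfl
  have h4 : Injective ((𝔞.subtype.rTensor M).lTensor R' ∘ₗ
      (TensorProduct.assoc R R' 𝔞 M).toLinearMap) := by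
    rw [hcomm]
    exact (TensorProduct.assoc R R' R M).injective.comp h3
  intro x y hxy
  obtain ⟨x, rfl⟩ := (TensorProduct.assoc R R' 𝔞 M).surjective x
  obtain ⟨y, rfl⟩ := (TensorProduct.assoc R R' 𝔞 M).surjective y
  rw [h4 hxy]

end Descent

section Split

variable {R : Type u} [CommRing R] {S : Type*} [CommRing S] [Algebra R S]
variable (M : Type*) [AddCommGroup M] [Module R M]

/-- The contraction to `R` of the ideal `(s - a)S`. -/
def rootIdeal (s : S) (a : R) : Ideal R :=
  (Ideal.span {s - algebraMap R S a}).comap (algebraMap R S)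

theorem quotientMap_surjective (s : S) (hs : Algebra.adjoin R {s} = ⊤) (a : R) :
    Surjective (Ideal.quotientMap (I := rootIdeal s a) (Ideal.span {s - algebraMap R S a})
      (algebraMap R S) le_rfl) := by
  set J : Ideal S := Ideal.span {s - algebraMap R S a} with hJ
  let T : Subalgebra R S := (⊥ : Subalgebra R (S ⧸ J)).comap (Ideal.Quotient.mkₐ R J)
  have hsT : s ∈ T := by
    show Ideal.Quotient.mkₐ R J s ∈ (⊥ : Subalgebra R (S ⧸ J))
    rw [Algebra.mem_bot]
    refine ⟨a, ?_⟩
    show Ideal.Quotient.mk J (algebraMap R S a) = Ideal.Quotient.mk J s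
    rw [eq_comm, Ideal.Quotient.eq]
    exact Ideal.subset_span rfl
  have hT : T = ⊤ := by
    rw [eq_top_iff, ← hs]
    exact Algebra.adjoin_le (Set.singleton_subset_iff.mpr hsT)
  intro x
  obtain ⟨y, rfl⟩ := Ideal.Quotient.mk_surjective x
  have hy : y ∈ T := hT ▸ Algebra.mem_top
  have hy' : Ideal.Quotient.mkₐ R J y ∈ (⊥ : Subalgebra R (S ⧸ J)) := hy
  rw [Algebra.mem_bot] at hy'
  obtain ⟨r, hr⟩ := hy'
  refine ⟨Ideal.Quotient.mk _ r, ?_⟩
  rw [Ideal.quotientMap_mk]
  exact hr

theorem flat_quotient_rootIdeal [Module.Flat S (S ⊗[R] M)] (s : S)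
    (hs : Algebra.adjoin R {s} = ⊤) (a : R) :
    Module.Flat (R ⧸ rootIdeal s a) ((R ⧸ rootIdeal s a) ⊗[R] M) := by
  set J : Ideal S := Ideal.span {s - algebraMap R S a} with hJ
  let ψ : R ⧸ rootIdeal s a →+* S ⧸ J :=
    Ideal.quotientMap (I := rootIdeal s a) J (algebraMap R S) le_rfl
  have hψ : Bijective ψ := ⟨Ideal.quotientMap_injective, quotientMap_surjective s hs a⟩
  let e : R ⧸ rootIdeal s a ≃+* S ⧸ J := RingEquiv.ofBijective ψ hψ
  let χ : S →+* R ⧸ rootIdeal s a := (e.symm : S ⧸ J →+* R ⧸ rootIdeal s a).comp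
    (Ideal.Quotient.mk J)
  let _ : Algebra S (R ⧸ rootIdeal s a) := χ.toAlgebra
  have : IsScalarTower R S (R ⧸ rootIdeal s a) := IsScalarTower.of_algebraMap_eq (fun r => by
    show Ideal.Quotient.mk _ r = e.symm (Ideal.Quotient.mk J (algebraMap R S r))
    rw [RingEquiv.eq_symm_apply]
    rfl)
  exact Module.Flat.of_linearEquiv
    (TensorProduct.AlgebraTensorModule.cancelBaseChange R S (R ⧸ rootIdeal s a)
      (R ⧸ rootIdeal s a) M).symm

theorem pow_card_le_comap (s : S) (m : Multiset R) (N : Ideal R)
    (hN : ∀ a ∈ m, N ≤ rootIdeal s a) :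
    N ^ (Multiset.card m) ≤
      (Ideal.span {(m.map (fun a => s - algebraMap R S a)).prod}).comap (algebraMap R S) := by
  induction m using Multiset.induction_on with
  | empty => simp
  | cons a m ih =>
    rw [Multiset.card_cons, pow_succ, Multiset.map_cons, Multiset.prod_cons, mul_comm (s - _),
      ← Ideal.span_singleton_mul_span_singleton]
    refine le_trans ?_ (Ideal.le_comap_mul _)
    exact Ideal.mul_mono (ih fun b hb => hN b (Multiset.mem_cons_of_mem hb))
      (hN a (Multiset.mem_cons_self a m))

/-- Ferrand's theorem, split monogenic case. -/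
theorem flat_of_prod_sub_eq_zero (hinj : Injective (algebraMap R S)) [Module.Flat S (S ⊗[R] M)]
    (s : S) (hs : Algebra.adjoin R {s} = ⊤) (m : Multiset R)
    (hm : (m.map (fun a => s - algebraMap R S a)).prod = 0) : Module.Flat R M := by
  classical
  have hI : ∀ a : R, Module.Flat (R ⧸ rootIdeal s a) ((R ⧸ rootIdeal s a) ⊗[R] M) :=
    fun a => flat_quotient_rootIdeal M s hs a
  set N : Ideal R := ⨅ a ∈ m.toFinset, rootIdeal s a with hN
  have hNflat : Module.Flat (R ⧸ N) ((R ⧸ N) ⊗[R] M) :=
    flat_quotient_finset_inf M (fun a => rootIdeal s a) m.toFinset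
  have hNnil : N ^ (Multiset.card m) = 0 := by
    rw [Ideal.zero_eq_bot, eq_bot_iff]
    refine (pow_card_le_comap s m N ?_).trans ?_
    · intro a ha
      exact (iInf_le _ a).trans (iInf_le _ (Multiset.mem_toFinset.mpr ha))
    · rw [hm]
      intro x hx
      rw [Ideal.mem_comap, Ideal.span_singleton_zero, Ideal.mem_bot] at hx
      rw [Ideal.mem_bot]
      exact hinj (by rw [hx, map_zero])
  have hfam : ∀ _ : Unit, Module.Flat S (S ⊗[R] M) := fun _ => inferInstance
  exact flat_of_jointly_injective (ι := Unit) (fun _ => S) N ⟨Multiset.card m, hNnil⟩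
    (fun x hx => hinj (by rw [hx (), map_zero]))

end Split

section Monogenic

variable {R : Type u} [CommRing R] {S : Type u} [CommRing S] [Algebra R S]
variable (M : Type u) [AddCommGroup M] [Module R M]

attribute [local instance] Algebra.TensorProduct.rightAlgebra

/-- Ferrand's theorem, monogenic case. -/
theorem flat_of_adjoin_singleton (hinj : Injective (algebraMap R S)) [Module.Flat S (S ⊗[R] M)]
    (s : S) (hs : Algebra.adjoin R {s} = ⊤) (hint : IsIntegral R s) : Module.Flat R M := by
  rcases subsingleton_or_nontrivial R with h | h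
  · have : Subsingleton M := Module.subsingleton R M
    infer_instance
  obtain ⟨P, hP, hPs⟩ := hint
  obtain ⟨R', _, _, _, _, _, hsplit⟩ := hP.exists_splits_map
  obtain ⟨m, hm⟩ := splits_iff_exists_multiset.mp hsplit
  rw [(hP.map _).leadingCoeff, C_1, one_mul] at hm
  have hinj' : Injective (algebraMap R' (R' ⊗[R] S)) :=
    Algebra.TensorProduct.includeLeft_injective (S := R') hinj
  have hs' : Algebra.adjoin R' {(1 : R') ⊗ₜ[R] s} = ⊤ := by
    have := Algebra.TensorProduct.adjoin_one_tmul_image_eq_top (A := R') {s} hs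
    rwa [Set.image_singleton] at this
  have hflat' : Module.Flat (R' ⊗[R] S) ((R' ⊗[R] S) ⊗[R'] (R' ⊗[R] M)) :=
    flat_baseChange_square M R' (R' ⊗[R] S) S
  have hprod : (m.map (fun a => (1 : R') ⊗ₜ[R] s - algebraMap R' (R' ⊗[R] S) a)).prod = 0 := by
    have h1 : aeval ((1 : R') ⊗ₜ[R] s) (P.map (algebraMap R R')) = 0 := by
      rw [aeval_map_algebraMap]
      have h2 : (1 : R') ⊗ₜ[R] s = (Algebra.TensorProduct.includeRight : S →ₐ[R] R' ⊗[R] S) s :=
        rfl
      rw [h2, aeval_algHom_apply]
      have h3 : aeval s P = 0 := hPs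
      rw [h3, map_zero]
    rw [hm, map_multiset_prod, Multiset.map_map] at h1
    simpa using h1
  have := flat_of_prod_sub_eq_zero (R' ⊗[R] M) hinj' ((1 : R') ⊗ₜ[R] s) hs' m hprod
  exact flat_of_faithfullyFlat_baseChange R' M

end Monogenic

section Finite

/-- Ferrand's theorem, by induction on the number of generators. -/
theorem flat_of_adjoin_finset (n : ℕ) : ∀ (R S : Type u) [CommRing R] [CommRing S] [Algebra R S]
    [Algebra.IsIntegral R S] (_ : Injective (algebraMap R S)) (t : Finset S) (_ : t.card = n)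
    (_ : Algebra.adjoin R (t : Set S) = ⊤) (M : Type u) [AddCommGroup M] [Module R M]
    [Module.Flat S (S ⊗[R] M)], Module.Flat R M := by
  classical
  induction n with
  | zero =>
    intro R S _ _ _ _ hinj t ht hadj M _ _ _
    have ht0 : t = ∅ := Finset.card_eq_zero.mp ht
    refine flat_of_adjoin_singleton M hinj (0 : S) ?_ (Algebra.IsIntegral.isIntegral 0)
    rw [eq_top_iff, ← hadj, ht0]
    exact Algebra.adjoin_mono (by simp)
  | succ n ih =>
    intro R S _ _ _ _ hinj t ht hadj M _ _ _
    obtain ⟨s, hst⟩ : t.Nonempty := Finset.card_pos.mp (by omega)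
    let R₁ : Subalgebra R S := Algebra.adjoin R {s}
    have h1 : Injective (algebraMap R₁ S) := Subtype.val_injective
    have hint1 : Algebra.IsIntegral R₁ S := Algebra.IsIntegral.tower_top (R := R)
    have hint0 : Algebra.IsIntegral R R₁ :=
      Algebra.IsIntegral.of_injective R₁.val Subtype.val_injective
    have hadj1 : Algebra.adjoin R₁ ((t.erase s : Finset S) : Set S) = ⊤ := by
      have h2 := Algebra.adjoin_union_eq_adjoin_adjoin R {s} ((t.erase s : Finset S) : Set S)
      apply Subalgebra.restrictScalars_injective R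
      rw [← h2, Subalgebra.restrictScalars_top, ← hadj]
      congr 1
      ext x
      simp only [Finset.coe_erase, Set.singleton_union, Set.insert_sdiff_singleton,
        Set.mem_insert_iff, Finset.mem_coe]
      constructor
      · rintro (rfl | h)
        · exact hst
        · exact h
      · intro h
        exact Or.inr h
    have hflat1 : Module.Flat S (S ⊗[R₁] (R₁ ⊗[R] M)) := flat_baseChange_square M R₁ S S
    have hM1 : Module.Flat R₁ (R₁ ⊗[R] M) :=
      ih R₁ S h1 (t.erase s) (by rw [Finset.card_erase_of_mem hst, ht]; rfl) hadj1 (R₁ ⊗[R] M)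
    have h0 : Injective (algebraMap R R₁) := by
      intro x y hxy
      apply hinj
      have := congrArg (algebraMap R₁ S) hxy
      rwa [← IsScalarTower.algebraMap_apply, ← IsScalarTower.algebraMap_apply] at this
    let s₁ : R₁ := ⟨s, Algebra.subset_adjoin rfl⟩
    have hs₁ : Algebra.adjoin R {s₁} = ⊤ := by
      have h3 := Algebra.adjoin_adjoin_coe_preimage (R := R) (s := ({s} : Set S))
      convert h3 using 2
      ext x
      simp [s₁, Subtype.ext_iff]
    exact flat_of_adjoin_singleton M h0 s₁ hs₁ (Algebra.IsIntegral.isIntegral s₁)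

/-- **Ferrand's theorem**: descent of flatness along a finite injective ring map. -/
theorem flat_of_finite_injective {R S : Type u} [CommRing R] [CommRing S] [Algebra R S]
    [Module.Finite R S] (hinj : Injective (algebraMap R S)) (M : Type u) [AddCommGroup M]
    [Module R M] [Module.Flat S (S ⊗[R] M)] : Module.Flat R M := by
  obtain ⟨t, ht⟩ := (inferInstance : Algebra.FiniteType R S).out
  exact flat_of_adjoin_finset t.card R S hinj t rfl ht M

end Finite

end Groth.Agent.Lib.Ferrand88
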