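import Mathlib

/-!
# Lifting projective modules along nilpotent ideals (helper81)
-/

set_option autoImplicit false
open TensorProduct
universe v u

namespace Groth.Agent.Lib.NilLiftProj

variable {A : Type u} [CommRing A] (I : Ideal A)

theorem one_tmul_eq_zero_iff {N : Type*} [AddCommGroup N] [Module A N] (n : N) :
    (1 : A ⧸ I) ⊗ₜ[A] n = 0 ↔ n ∈ I • (⊤ : Submodule A N) := by
  rw [← (TensorProduct.quotTensorEquivQuotSMul N I).map_eq_zero_iff]
  change TensorProduct.quotTensorEquivQuotSMul N I ((Ideal.Quotient.mk I 1) ⊗ₜ[A] n) = 0 ↔ _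
  rw [TensorProduct.quotTensorEquivQuotSMul_mk_tmul, one_smul, Submodule.Quotient.mk_eq_zero]

theorem one_tmul_surjective (N : Type*) [AddCommGroup N] [Module A N] :
    Function.Surjective (TensorProduct.mk A (A ⧸ I) N 1) :=
  TensorProduct.mk_surjective A N (A ⧸ I) Ideal.Quotient.mk_surjective

variable {I}

theorem eq_bot_of_le_smul (hI : IsNilpotent I) {M : Type*} [AddCommGroup M] [Module A M]
    (N : Submodule A M) (h : N ≤ I • N) : N = ⊥ := by
  obtain ⟨n, hn⟩ := hI
  have key : ∀ k : ℕ, N ≤ I ^ k • N := by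
    intro k
    induction k with
    | zero => simp
    | succ k ih =>
      calc N ≤ I • N := h
        _ ≤ I • (I ^ k • N) := Submodule.smul_mono le_rfl ih
        _ = I ^ (k + 1) • N := by rw [← mul_smul, ← pow_succ']
  have := key n
  rw [hn, Submodule.zero_eq_bot, Submodule.bot_smul] at this
  exact le_bot_iff.mp this

theorem eq_top_of_sup_smul_eq_top (hI : IsNilpotent I) {M : Type*} [AddCommGroup M] [Module A M]
    (N : Submodule A M) (h : N ⊔ I • (⊤ : Submodule A M) = ⊤) : N = ⊤ := by
  obtain ⟨n, hn⟩ := hI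
  have key : ∀ k : ℕ, ⊤ ≤ N ⊔ I ^ k • (⊤ : Submodule A M) := by
    intro k
    induction k with
    | zero => simp
    | succ k ih =>
      have h1 : I ^ k • (⊤ : Submodule A M) ≤ N ⊔ I ^ (k + 1) • (⊤ : Submodule A M) :=
        calc I ^ k • (⊤ : Submodule A M) = I ^ k • (N ⊔ I • (⊤ : Submodule A M)) := by rw [h]
          _ = I ^ k • N ⊔ I ^ k • (I • (⊤ : Submodule A M)) := Submodule.smul_sup _ _ _
          _ ≤ N ⊔ I ^ (k + 1) • (⊤ : Submodule A M) := by
            refine sup_le_sup Submodule.smul_le_right ?_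
            rw [← mul_smul, ← pow_succ]
      exact ih.trans (sup_le le_sup_left h1)
  have := key n
  rw [hn, Submodule.zero_eq_bot, Submodule.bot_smul, sup_bot_eq] at this
  exact top_le_iff.mp this

/-- A linear map which is surjective modulo a nilpotent ideal is surjective. -/
theorem surjective_of_range_sup_smul_eq_top (hI : IsNilpotent I) {P P' : Type*}
    [AddCommGroup P] [Module A P] [AddCommGroup P'] [Module A P'] (f : P →ₗ[A] P')
    (h : LinearMap.range f ⊔ I • (⊤ : Submodule A P') = ⊤) : Function.Surjective f :=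
  LinearMap.range_eq_top.mp (eq_top_of_sup_smul_eq_top hI _ h)

theorem surjective_of_baseChange_surjective (hI : IsNilpotent I) {P P' : Type*}
    [AddCommGroup P] [Module A P] [AddCommGroup P'] [Module A P'] (f : P →ₗ[A] P')
    (h : Function.Surjective (f.baseChange (A ⧸ I))) : Function.Surjective f := by
  apply surjective_of_range_sup_smul_eq_top hI
  rw [eq_top_iff]
  intro y _
  obtain ⟨t, ht⟩ := h ((1 : A ⧸ I) ⊗ₜ[A] y)
  obtain ⟨x, rfl⟩ := one_tmul_surjective I P t
  rw [TensorProduct.mk_apply, LinearMap.baseChange_tmul, ← sub_eq_zero, ← TensorProduct.tmul_sub,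
    one_tmul_eq_zero_iff] at ht
  have : y = f x - (f x - y) := by abel
  rw [this]
  exact Submodule.sub_mem _ (Submodule.mem_sup_left ⟨x, rfl⟩) (Submodule.mem_sup_right ht)

variable (I)

/-- the multiplication map `I ⊗ P → P`. -/
noncomputable def mulMap (P : Type*) [AddCommGroup P] [Module A P] : I ⊗[A] P →ₗ[A] P :=
  (TensorProduct.lid A P).toLinearMap ∘ₗ I.subtype.rTensor P

@[simp] theorem mulMap_tmul {P : Type*} [AddCommGroup P] [Module A P] (a : I) (p : P) :
    mulMap I P (a ⊗ₜ p) = (a : A) • p := by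
  simp [mulMap]

theorem mulMap_injective (P : Type*) [AddCommGroup P] [Module A P] [Module.Flat A P] :
    Function.Injective (mulMap I P) := by
  unfold mulMap
  rw [LinearMap.coe_comp, LinearEquiv.coe_coe]
  exact (TensorProduct.lid A P).injective.comp
    (Module.Flat.rTensor_preserves_injective_linearMap I.subtype I.injective_subtype)

theorem exists_mulMap_eq {P : Type*} [AddCommGroup P] [Module A P] {x : P}
    (hx : x ∈ I • (⊤ : Submodule A P)) : ∃ t, mulMap I P t = x := by
  induction hx using Submodule.smul_induction_on' with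
  | smul r hr n _ => exact ⟨(⟨r, hr⟩ : I) ⊗ₜ n, by simp⟩
  | add x _ y _ hx hy =>
    obtain ⟨s, rfl⟩ := hx
    obtain ⟨t, rfl⟩ := hy
    exact ⟨s + t, map_add _ _ _⟩

/-- If `P' = P / K` is flat then `K ∩ I P = I K`. -/
theorem ker_inf_smul_le {P P' : Type*} [AddCommGroup P] [Module A P] [AddCommGroup P']
    [Module A P'] [Module.Flat A P'] (f : P →ₗ[A] P') (hf : Function.Surjective f) :
    LinearMap.ker f ⊓ I • (⊤ : Submodule A P) ≤ I • LinearMap.ker f := by
  intro x ⟨hxK, hxI⟩
  obtain ⟨t, rfl⟩ := exists_mulMap_eq I hxI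
  have hnat : ∀ t, mulMap I P' (f.lTensor I t) = f (mulMap I P t) := by
    intro t
    induction t using TensorProduct.induction_on with
    | zero => simp
    | tmul a p => simp
    | add x y hx hy => simp [hx, hy]
  have h0 : f.lTensor I t = 0 := by
    apply mulMap_injective I P'
    rw [hnat, map_zero]
    exact hxK
  have hex : Function.Exact ((LinearMap.ker f).subtype.lTensor I) (f.lTensor I) :=
    lTensor_exact I (LinearMap.exact_subtype_ker_map f) hf
  obtain ⟨s, rfl⟩ := (hex t).mp h0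
  clear h0 hxK hxI
  induction s using TensorProduct.induction_on with
  | zero => simp
  | tmul a k =>
    simp only [LinearMap.lTensor_tmul, Submodule.subtype_apply, mulMap_tmul]
    exact Submodule.smul_mem_smul a.2 k.2
  | add x y hx hy =>
    simp only [map_add]
    exact Submodule.add_mem _ hx hy

variable {I}

/-- `P'` flat, `f : P → P'` bijective modulo a nilpotent ideal ⇒ `f` bijective. -/
theorem bijective_of_baseChange_bijective (hI : IsNilpotent I) {P P' : Type*}
    [AddCommGroup P] [Module A P] [AddCommGroup P'] [Module A P'] [Module.Flat A P']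
    (f : P →ₗ[A] P') (h : Function.Bijective (f.baseChange (A ⧸ I))) : Function.Bijective f := by
  have hs : Function.Surjective f := surjective_of_baseChange_surjective hI f h.2
  refine ⟨?_, hs⟩
  rw [← LinearMap.ker_eq_bot]
  apply eq_bot_of_le_smul hI
  refine le_trans ?_ (ker_inf_smul_le I f hs)
  refine le_inf le_rfl ?_
  intro x hx
  rw [← one_tmul_eq_zero_iff]
  apply h.1
  rw [LinearMap.baseChange_tmul, LinearMap.mem_ker.mp hx, TensorProduct.tmul_zero, map_zero]

/-- For a nilpotent ideal `I`, a projective module `P` and a flat module `P'` whose reductions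
modulo `I` are isomorphic are isomorphic. -/
theorem nonempty_equiv_of_baseChange_equiv (hI : IsNilpotent I) {P P' : Type*}
    [AddCommGroup P] [Module A P] [Module.Projective A P] [AddCommGroup P'] [Module A P']
    [Module.Flat A P'] (e : (A ⧸ I) ⊗[A] P ≃ₗ[A ⧸ I] (A ⧸ I) ⊗[A] P') :
    ∃ f : P ≃ₗ[A] P', f.toLinearMap.baseChange (A ⧸ I) = e.toLinearMap := by
  -- lift `P → (A/I) ⊗ P → (A/I) ⊗ P'` along the surjection `P' → (A/I) ⊗ P'`
  let g : P →ₗ[A] (A ⧸ I) ⊗[A] P' :=
    (e.toLinearMap.restrictScalars A) ∘ₗ (TensorProduct.mk A (A ⧸ I) P 1)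
  obtain ⟨f, hf⟩ := Module.projective_lifting_property (TensorProduct.mk A (A ⧸ I) P' 1) g
    (one_tmul_surjective I P')
  have hfe : f.baseChange (A ⧸ I) = e.toLinearMap := by
    refine LinearMap.ext fun t => ?_
    obtain ⟨p, rfl⟩ := one_tmul_surjective I P t
    have := LinearMap.congr_fun hf p
    rw [LinearMap.comp_apply, TensorProduct.mk_apply] at this
    rw [TensorProduct.mk_apply, LinearMap.baseChange_tmul, this]
    rfl
  have hb : Function.Bijective f := by
    apply bijective_of_baseChange_bijective hI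
    rw [hfe]
    exact e.bijective
  exact ⟨LinearEquiv.ofBijective f hb, hfe⟩

variable (I)

/-- Every `A/I`-linear map between reductions of `P` (projective) and `P'` lifts. -/
theorem exists_baseChange_eq {P P' : Type*} [AddCommGroup P] [Module A P]
    [Module.Projective A P] [AddCommGroup P'] [Module A P']
    (φ : (A ⧸ I) ⊗[A] P →ₗ[A ⧸ I] (A ⧸ I) ⊗[A] P') :
    ∃ f : P →ₗ[A] P', f.baseChange (A ⧸ I) = φ := by
  let g : P →ₗ[A] (A ⧸ I) ⊗[A] P' :=
    (φ.restrictScalars A) ∘ₗ (TensorProduct.mk A (A ⧸ I) P 1)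
  obtain ⟨f, hf⟩ := Module.projective_lifting_property (TensorProduct.mk A (A ⧸ I) P' 1) g
    (one_tmul_surjective I P')
  refine ⟨f, LinearMap.ext fun t => ?_⟩
  obtain ⟨p, rfl⟩ := one_tmul_surjective I P t
  have := LinearMap.congr_fun hf p
  rw [LinearMap.comp_apply, TensorProduct.mk_apply] at this
  rw [TensorProduct.mk_apply, LinearMap.baseChange_tmul, this]
  rfl

theorem forall_mem_smul_top_of_baseChange_eq_zero {P P' : Type*} [AddCommGroup P] [Module A P]
    [AddCommGroup P'] [Module A P'] (f : P →ₗ[A] P') (hf : f.baseChange (A ⧸ I) = 0) (x : P) :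
    f x ∈ I • (⊤ : Submodule A P') := by
  rw [← one_tmul_eq_zero_iff, ← LinearMap.baseChange_tmul, hf, LinearMap.zero_apply]

variable {I}

theorem isNilpotent_of_baseChange_eq_zero (hI : IsNilpotent I) {P : Type*} [AddCommGroup P]
    [Module A P] (f : Module.End A P) (hf : f.baseChange (A ⧸ I) = 0) : IsNilpotent f := by
  obtain ⟨n, hn⟩ := hI
  have key : ∀ (k : ℕ) (x : P), (f ^ k) x ∈ I ^ k • (⊤ : Submodule A P) := by
    intro k
    induction k with
    | zero => intro x; simp
    | succ k ih =>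
      intro x
      have hx : (f ^ (k + 1)) x = f ((f ^ k) x) := by rw [pow_succ' f k]; rfl
      rw [hx]
      have h1 : f ((f ^ k) x) ∈ (I ^ k • (⊤ : Submodule A P)).map f :=
        Submodule.mem_map_of_mem (ih x)
      rw [Submodule.map_smul''] at h1
      have h2 : I ^ k • (⊤ : Submodule A P).map f ≤ I ^ (k + 1) • (⊤ : Submodule A P) := by
        rw [pow_succ, mul_smul]
        refine Submodule.smul_mono le_rfl ?_
        rintro _ ⟨y, -, rfl⟩
        exact forall_mem_smul_top_of_baseChange_eq_zero I f hf y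
      exact h2 h1
  refine ⟨n, LinearMap.ext fun x => ?_⟩
  have := key n x
  rw [hn, Submodule.zero_eq_bot, Submodule.bot_smul] at this
  simpa using this

/-- For a nilpotent ideal `I`, every projective `A/I`-module is the reduction of a projective
`A`-module. -/
theorem exists_projective_lift (hI : IsNilpotent I) (P₀ : Type v) [AddCommGroup P₀]
    [Module (A ⧸ I) P₀] [Module.Projective (A ⧸ I) P₀] :
    ∃ (P : Type (max u v)) (_ : AddCommGroup P) (_ : Module A P),
      Module.Projective A P ∧ Nonempty ((A ⧸ I) ⊗[A] P ≃ₗ[A ⧸ I] P₀) := by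
  let _ : Module A P₀ := Module.compHom P₀ (Ideal.Quotient.mk I)
  have _ : IsScalarTower A (A ⧸ I) P₀ := IsScalarTower.of_algebraMap_smul fun _ _ => rfl
  let F := P₀ →₀ A
  let q : F →ₗ[A] P₀ := Finsupp.linearCombination A (id : P₀ → P₀)
  have hq : Function.Surjective q := Finsupp.linearCombination_id_surjective A P₀
  let π₀ : (A ⧸ I) ⊗[A] F →ₗ[A ⧸ I] P₀ := q.liftBaseChange (A ⧸ I)
  have hπ₀ : Function.Surjective π₀ := by
    intro p
    obtain ⟨x, rfl⟩ := hq p
    exact ⟨1 ⊗ₜ x, by simp [π₀]⟩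
  obtain ⟨s₀, hs₀⟩ := Module.projective_lifting_property π₀ LinearMap.id hπ₀
  let e₀ : Module.End (A ⧸ I) ((A ⧸ I) ⊗[A] F) := s₀ ∘ₗ π₀
  have he₀ : IsIdempotentElem e₀ := by
    change (s₀ ∘ₗ π₀) ∘ₗ (s₀ ∘ₗ π₀) = s₀ ∘ₗ π₀
    rw [LinearMap.comp_assoc, ← LinearMap.comp_assoc π₀, hs₀, LinearMap.id_comp]
  let Φ : Module.End A F →+* Module.End (A ⧸ I) ((A ⧸ I) ⊗[A] F) :=
    (Module.End.baseChangeHom A (A ⧸ I) F).toRingHom
  have hΦ : ∀ f, Φ f = f.baseChange (A ⧸ I) := fun _ => rfl
  obtain ⟨e, he, hee⟩ := exists_isIdempotentElem_eq_of_ker_isNilpotent Φ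
    (fun f hf => isNilpotent_of_baseChange_eq_zero hI f (by rwa [RingHom.mem_ker, hΦ] at hf))
    e₀ (by obtain ⟨f, hf⟩ := exists_baseChange_eq I e₀; exact ⟨f, hf⟩) he₀
  rw [hΦ] at hee
  let P : Submodule A F := LinearMap.range e
  let i : P →ₗ[A] F := P.subtype
  let s : F →ₗ[A] P := e.rangeRestrict
  have his : i ∘ₗ s = e := LinearMap.ext fun x => rfl
  have hsi : s ∘ₗ i = LinearMap.id := by
    refine LinearMap.ext fun x => ?_
    obtain ⟨_, ⟨y, rfl⟩⟩ := x
    apply Subtype.ext
    change e (e y) = e y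
    rw [← Module.End.mul_apply, he.eq]
  have hproj : Module.Projective A P := Module.Projective.of_split i s hsi
  refine ⟨P, inferInstance, inferInstance, hproj, ⟨?_⟩⟩
  refine LinearEquiv.ofLinearMap (π₀ ∘ₗ i.baseChange (A ⧸ I)) (s.baseChange (A ⧸ I) ∘ₗ s₀) ?_ ?_
  · rw [LinearMap.comp_assoc, ← LinearMap.comp_assoc s₀, ← LinearMap.baseChange_comp, his, hee]
    change π₀ ∘ₗ ((s₀ ∘ₗ π₀) ∘ₗ s₀) = LinearMap.id
    rw [LinearMap.comp_assoc, hs₀, LinearMap.comp_id, hs₀]
  · rw [LinearMap.comp_assoc, ← LinearMap.comp_assoc (i.baseChange (A ⧸ I))]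
    change s.baseChange (A ⧸ I) ∘ₗ (e₀ ∘ₗ i.baseChange (A ⧸ I)) = LinearMap.id
    rw [← hee, ← LinearMap.baseChange_comp, ← LinearMap.baseChange_comp, ← his,
      LinearMap.comp_assoc, hsi, LinearMap.comp_id, hsi, LinearMap.baseChange_id]

/-- A flat module whose reduction modulo a nilpotent ideal is projective is projective. -/
theorem projective_of_flat_of_projective_baseChange (hI : IsNilpotent I) (M : Type v)
    [AddCommGroup M] [Module A M] [Module.Flat A M]
    (hproj : Module.Projective (A ⧸ I) ((A ⧸ I) ⊗[A] M)) : Module.Projective A M := by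
  obtain ⟨P, _, _, hP, ⟨e⟩⟩ := exists_projective_lift hI ((A ⧸ I) ⊗[A] M)
  obtain ⟨f, -⟩ := nonempty_equiv_of_baseChange_equiv hI e
  exact Module.Projective.of_equiv f

end Groth.Agent.Lib.NilLiftProj
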