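import Groth.Agent.Lib.FlatInf88

/-!
# Projectivity modulo an intersection of ideals (helper88)

If `I ⊓ J = ⊥`, `P/IP` is projective over `R/I` and `P/JP` is projective over `R/J` then `P` is
projective over `R` (no finiteness).  General form: `P/(I ⊓ J)P` is projective over `R/(I ⊓ J)`;
finite families.
-/

set_option autoImplicit false
set_option linter.unusedSectionVars false
universe u v

namespace Groth.Agent.Lib.ProjInf88

open TensorProduct Function Groth.Agent.Lib.FlatInf88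

section Lift

variable {R : Type u} [CommRing R] (I : Ideal R) {P : Type*} [AddCommGroup P] [Module R P]

/-- Lifting property (over `R`) for a module whose reduction mod `I` is projective, against
surjections of modules killed by `I`. -/
theorem exists_lift_of_projective_baseChange
    (hP : Module.Projective (R ⧸ I) ((R ⧸ I) ⊗[R] P))
    {M N : Type*} [AddCommGroup M] [Module R M] [AddCommGroup N] [Module R N]
    (hM : ∀ a ∈ I, ∀ m : M, a • m = 0) (f : M →ₗ[R] N) (hf : Surjective f) (g : P →ₗ[R] N) :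
    ∃ h : P →ₗ[R] M, f ∘ₗ h = g := by
  have hN : ∀ a ∈ I, ∀ n : N, a • n = 0 := by
    intro a ha n
    obtain ⟨m, rfl⟩ := hf n
    rw [← map_smul, hM a ha, map_zero]
  have tM : Module.IsTorsionBySet R M I := fun x a => hM a.1 a.2 x
  have tN : Module.IsTorsionBySet R N I := fun x a => hN a.1 a.2 x
  let _ := tM.module
  let _ := tN.module
  let f' : M →ₗ[R ⧸ I] N := LinearMap.extendScalarsOfSurjective Ideal.Quotient.mk_surjective f
  let g' : (R ⧸ I) ⊗[R] P →ₗ[R ⧸ I] N := LinearMap.liftBaseChange (R ⧸ I) g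
  obtain ⟨h', hh'⟩ := Module.projective_lifting_property f' g' hf
  refine ⟨h'.restrictScalars R ∘ₗ TensorProduct.mk R (R ⧸ I) P 1, ?_⟩
  ext p
  have := LinearMap.congr_fun hh' (1 ⊗ₜ p)
  simpa [f', g'] using this

end Lift

section Inf

variable {R : Type u} [CommRing R] (M : Type*) [AddCommGroup M] [Module R M]

/-- For a flat module, `IM ∩ JM = 0` when `I ∩ J = 0`. -/
theorem smul_top_inf_smul_top_eq_bot [Module.Flat R M] (I J : Ideal R) (h : I ⊓ J = ⊥) :
    (I • ⊤ : Submodule R M) ⊓ (J • ⊤) = ⊥ := by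
  rw [eq_bot_iff]
  rintro x ⟨hxI, hxJ⟩
  have h1 : ∃ t : I ⊗[R] M, TensorProduct.lid R M (I.subtype.rTensor M t) = x := by
    refine Submodule.smul_induction_on hxI ?_ ?_
    · intro i hi m _
      exact ⟨⟨i, hi⟩ ⊗ₜ m, by simp⟩
    · rintro _ _ ⟨t, rfl⟩ ⟨t', rfl⟩
      exact ⟨t + t', by simp⟩
  obtain ⟨t, rfl⟩ := h1
  let g : I →ₗ[R] R ⧸ J := J.mkQ ∘ₗ I.subtype
  have hg : Injective g := by
    rw [← LinearMap.ker_eq_bot, eq_bot_iff]
    intro a ha
    rw [LinearMap.mem_ker] at ha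
    have h1 : (a : R) ∈ J := by
      have : J.mkQ (a : R) = 0 := ha
      rwa [Submodule.mkQ_apply, Submodule.Quotient.mk_eq_zero] at this
    have h2 : (a : R) ∈ I ⊓ J := ⟨a.2, h1⟩
    rw [h, Ideal.mem_bot] at h2
    rw [Submodule.mem_bot]
    exact Subtype.ext h2
  have hgM : Injective (g.rTensor M) := Module.Flat.rTensor_preserves_injective_linearMap g hg
  have hzero : ∀ y ∈ (J • ⊤ : Submodule R M), (J.mkQ (1 : R)) ⊗ₜ[R] y = 0 := by
    intro y hy
    refine Submodule.smul_induction_on hy ?_ ?_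
    · intro j hj m _
      rw [TensorProduct.tmul_smul, TensorProduct.smul_tmul', ← map_smul, smul_eq_mul, mul_one,
        Submodule.mkQ_apply, (Submodule.Quotient.mk_eq_zero J).mpr hj, TensorProduct.zero_tmul]
    · intro y z hy hz
      rw [TensorProduct.tmul_add, hy, hz, add_zero]
  have h2 : g.rTensor M t = 0 := by
    have hcomp : g.rTensor M = J.mkQ.rTensor M ∘ₗ I.subtype.rTensor M :=
      LinearMap.rTensor_comp M _ _
    rw [hcomp, LinearMap.comp_apply]
    have h3 : I.subtype.rTensor M t =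
        (1 : R) ⊗ₜ[R] (TensorProduct.lid R M (I.subtype.rTensor M t)) := by
      rw [← TensorProduct.lid_symm_apply, LinearEquiv.symm_apply_apply]
    rw [h3, LinearMap.rTensor_tmul]
    exact hzero _ hxJ
  have h4 : t = 0 := hgM (by rw [h2, map_zero])
  rw [h4]
  simp

end Inf


section Main

variable {R : Type u} [CommRing R] (I J : Ideal R) (P : Type v) [AddCommGroup P] [Module R P]

theorem smul_quotient_smul_top (I : Ideal R) (M : Type*) [AddCommGroup M] [Module R M] :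
    ∀ a ∈ I, ∀ m : M ⧸ (I • ⊤ : Submodule R M), a • m = 0 := by
  intro a ha m
  obtain ⟨m, rfl⟩ := Submodule.mkQ_surjective _ m
  rw [← map_smul, Submodule.mkQ_apply, Submodule.Quotient.mk_eq_zero]
  exact Submodule.smul_mem_smul ha Submodule.mem_top

/-- If `I ∩ J = 0` and `P/IP`, `P/JP` are projective over `R/I`, `R/J`, then `P` is projective. -/
theorem projective_of_inf_eq_bot (hIJ : I ⊓ J = ⊥)
    (hI : Module.Projective (R ⧸ I) ((R ⧸ I) ⊗[R] P))
    (hJ : Module.Projective (R ⧸ J) ((R ⧸ J) ⊗[R] P)) : Module.Projective R P := by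
  have : Module.Flat (R ⧸ I) ((R ⧸ I) ⊗[R] P) := inferInstance
  have : Module.Flat (R ⧸ J) ((R ⧸ J) ⊗[R] P) := inferInstance
  have hflat : Module.Flat R P := flat_of_inf_eq_bot I J hIJ
  have hcapP := smul_top_inf_smul_top_eq_bot P I J hIJ
  have hcapF := smul_top_inf_smul_top_eq_bot (P →₀ R) I J hIJ
  let π : (P →₀ R) →ₗ[R] P := Finsupp.linearCombination R id
  have hπ : Surjective π := Finsupp.linearCombination_id_surjective R P
  have hIK : I ≤ I ⊔ J := le_sup_left
  have hJK : J ≤ I ⊔ J := le_sup_right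
  -- the quotient maps
  let πI : ((P →₀ R) ⧸ (I • ⊤ : Submodule R (P →₀ R))) →ₗ[R] P ⧸ (I • ⊤ : Submodule R P) :=
    Submodule.mapQ _ _ π (Submodule.smul_top_le_comap_smul_top I π)
  let πJ : ((P →₀ R) ⧸ (J • ⊤ : Submodule R (P →₀ R))) →ₗ[R] P ⧸ (J • ⊤ : Submodule R P) :=
    Submodule.mapQ _ _ π (Submodule.smul_top_le_comap_smul_top J π)
  let πK : ((P →₀ R) ⧸ ((I ⊔ J) • ⊤ : Submodule R (P →₀ R))) →ₗ[R]
      P ⧸ ((I ⊔ J) • ⊤ : Submodule R P) :=
    Submodule.mapQ _ _ π (Submodule.smul_top_le_comap_smul_top (I ⊔ J) π)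
  have hFI : (I • ⊤ : Submodule R (P →₀ R)) ≤ (I ⊔ J) • ⊤ := Submodule.smul_mono hIK le_rfl
  have hFJ : (J • ⊤ : Submodule R (P →₀ R)) ≤ (I ⊔ J) • ⊤ := Submodule.smul_mono hJK le_rfl
  have hPI : (I • ⊤ : Submodule R P) ≤ (I ⊔ J) • ⊤ := Submodule.smul_mono hIK le_rfl
  have hPJ : (J • ⊤ : Submodule R P) ≤ (I ⊔ J) • ⊤ := Submodule.smul_mono hJK le_rfl
  -- step 1: a section modulo `J`
  have hπJ : Surjective πJ := by
    intro y
    obtain ⟨p, rfl⟩ := Submodule.mkQ_surjective _ y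
    obtain ⟨x, rfl⟩ := hπ p
    exact ⟨Submodule.mkQ _ x, rfl⟩
  obtain ⟨σ₂, hσ₂⟩ := exists_lift_of_projective_baseChange J hJ
    (smul_quotient_smul_top J (P →₀ R)) πJ hπJ (Submodule.mkQ (J • ⊤ : Submodule R P))
  have hσ₂' : ∀ (p : P) (x : P →₀ R), Submodule.mkQ _ x = σ₂ p →
      π x - p ∈ (J • ⊤ : Submodule R P) := by
    intro p x hx
    have h1 := LinearMap.congr_fun hσ₂ p
    rw [LinearMap.comp_apply, ← hx] at h1
    exact (Submodule.Quotient.eq _).mp h1
  -- step 2: a compatible section modulo `I`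
  let T : Submodule R ((P ⧸ (I • ⊤ : Submodule R P)) ×
      ((P →₀ R) ⧸ ((I ⊔ J) • ⊤ : Submodule R (P →₀ R)))) :=
    LinearMap.eqLocus (Submodule.factor hPI ∘ₗ LinearMap.fst R _ _) (πK ∘ₗ LinearMap.snd R _ _)
  let f : ((P →₀ R) ⧸ (I • ⊤ : Submodule R (P →₀ R))) →ₗ[R] T :=
    LinearMap.codRestrict T (πI.prod (Submodule.factor hFI)) (fun a => by
      obtain ⟨x, rfl⟩ := Submodule.mkQ_surjective _ a
      rfl)
  have hK : ∀ {M : Type (max u v)} [AddCommGroup M] [Module R M] (z : M),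
      z ∈ ((I ⊔ J) • ⊤ : Submodule R M) → ∃ a ∈ (I • ⊤ : Submodule R M),
        ∃ b ∈ (J • ⊤ : Submodule R M), a + b = z := by
    intro M _ _ z hz
    rw [Submodule.sup_smul] at hz
    exact Submodule.mem_sup.mp hz
  have hg : ∀ p : P, ((Submodule.mkQ (I • ⊤ : Submodule R P)).prod
      (Submodule.factor hFJ ∘ₗ σ₂)) p ∈ T := by
    intro p
    obtain ⟨x, hx⟩ := Submodule.mkQ_surjective _ (σ₂ p)
    have h1 := hσ₂' p x hx
    show Submodule.factor hPI (Submodule.mkQ _ p) = πK (Submodule.factor hFJ (σ₂ p))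
    rw [← hx]
    show Submodule.mkQ _ p = Submodule.mkQ _ (π x)
    rw [eq_comm]
    exact (Submodule.Quotient.eq _).mpr (hPJ h1)
  let g : P →ₗ[R] T := LinearMap.codRestrict T _ hg
  have hf : Surjective f := by
    rintro ⟨⟨t, y⟩, hty⟩
    obtain ⟨p, rfl⟩ := Submodule.mkQ_surjective _ t
    obtain ⟨x, rfl⟩ := Submodule.mkQ_surjective _ y
    have h1 : Submodule.mkQ ((I ⊔ J) • ⊤ : Submodule R P) p = Submodule.mkQ _ (π x) := hty
    have h2 : p - π x ∈ ((I ⊔ J) • ⊤ : Submodule R P) := (Submodule.Quotient.eq _).mp h1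
    rw [Submodule.sup_smul] at h2
    obtain ⟨a, ha, b, hb, hab⟩ := Submodule.mem_sup.mp h2
    have hb' : b ∈ Submodule.map π (J • ⊤ : Submodule R (P →₀ R)) := by
      rw [Submodule.map_smul'', Submodule.map_top, LinearMap.range_eq_top.mpr hπ]
      exact hb
    obtain ⟨c, hc, rfl⟩ := hb'
    refine ⟨Submodule.mkQ _ (x + c), ?_⟩
    apply Subtype.ext
    refine Prod.ext ?_ ?_
    · show Submodule.mkQ (I • ⊤ : Submodule R P) (π (x + c)) = Submodule.mkQ _ p
      refine (Submodule.Quotient.eq _).mpr ?_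
      have : π (x + c) - p = -a := by
        rw [map_add]
        have h : p = a + π c + π x := by rw [hab]; abel
        rw [h]; abel
      rw [this]
      exact Submodule.neg_mem _ ha
    · show Submodule.mkQ ((I ⊔ J) • ⊤ : Submodule R (P →₀ R)) (x + c) = Submodule.mkQ _ x
      refine (Submodule.Quotient.eq _).mpr ?_
      rw [add_sub_cancel_left]
      exact hFJ hc
  obtain ⟨σ₁, hσ₁⟩ := exists_lift_of_projective_baseChange I hI
    (smul_quotient_smul_top I (P →₀ R)) f hf g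
  have hσ₁a : ∀ p : P, πI (σ₁ p) = Submodule.mkQ _ p := by
    intro p
    have := congrArg (fun t : T => t.1.1) (LinearMap.congr_fun hσ₁ p)
    exact this
  have hσ₁b : ∀ p : P, Submodule.factor hFI (σ₁ p) = Submodule.factor hFJ (σ₂ p) := by
    intro p
    have := congrArg (fun t : T => t.1.2) (LinearMap.congr_fun hσ₁ p)
    exact this
  -- step 3: glue
  let Φ : (P →₀ R) →ₗ[R] ((P →₀ R) ⧸ (I • ⊤ : Submodule R (P →₀ R))) ×
      ((P →₀ R) ⧸ (J • ⊤ : Submodule R (P →₀ R))) :=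
    (Submodule.mkQ _).prod (Submodule.mkQ _)
  have hΦ : Injective Φ := by
    rw [← LinearMap.ker_eq_bot, eq_bot_iff]
    intro x hx
    rw [LinearMap.mem_ker] at hx
    have h1 : Submodule.mkQ (I • ⊤ : Submodule R (P →₀ R)) x = 0 := congrArg Prod.fst hx
    have h2 : Submodule.mkQ (J • ⊤ : Submodule R (P →₀ R)) x = 0 := congrArg Prod.snd hx
    rw [Submodule.mkQ_apply, Submodule.Quotient.mk_eq_zero] at h1 h2
    rw [← hcapF]
    exact ⟨h1, h2⟩
  have hrange : ∀ p : P, (σ₁.prod σ₂) p ∈ LinearMap.range Φ := by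
    intro p
    obtain ⟨x, hx⟩ := Submodule.mkQ_surjective _ (σ₁ p)
    obtain ⟨y, hy⟩ := Submodule.mkQ_surjective _ (σ₂ p)
    have h1 := hσ₁b p
    rw [← hx, ← hy] at h1
    have h2 : Submodule.mkQ ((I ⊔ J) • ⊤ : Submodule R (P →₀ R)) x = Submodule.mkQ _ y := h1
    have h3 : x - y ∈ ((I ⊔ J) • ⊤ : Submodule R (P →₀ R)) := (Submodule.Quotient.eq _).mp h2
    rw [Submodule.sup_smul] at h3
    obtain ⟨a, ha, b, hb, hab⟩ := Submodule.mem_sup.mp h3
    refine ⟨x - a, ?_⟩
    refine Prod.ext ?_ ?_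
    · show Submodule.mkQ (I • ⊤ : Submodule R (P →₀ R)) (x - a) = σ₁ p
      rw [← hx]
      refine (Submodule.Quotient.eq _).mpr ?_
      rw [sub_sub_cancel_left]
      exact Submodule.neg_mem _ ha
    · show Submodule.mkQ (J • ⊤ : Submodule R (P →₀ R)) (x - a) = σ₂ p
      rw [← hy]
      refine (Submodule.Quotient.eq _).mpr ?_
      have : x - a - y = b := by
        have h : x = a + b + y := by rw [hab]; abel
        rw [h]; abel
      rw [this]
      exact hb
  let s : P →ₗ[R] (P →₀ R) := (LinearEquiv.ofInjective Φ hΦ).symm.toLinearMap ∘ₗ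
    LinearMap.codRestrict (LinearMap.range Φ) (σ₁.prod σ₂) hrange
  have hs : ∀ p : P, Φ (s p) = (σ₁ p, σ₂ p) := by
    intro p
    exact LinearEquiv.ofInjective_symm_apply (f := Φ) (h := hΦ) _
  refine Module.Projective.of_split s π ?_
  ext p
  rw [LinearMap.comp_apply, LinearMap.id_apply]
  have h1 : Submodule.mkQ (I • ⊤ : Submodule R (P →₀ R)) (s p) = σ₁ p := congrArg Prod.fst (hs p)
  have h2 : Submodule.mkQ (J • ⊤ : Submodule R (P →₀ R)) (s p) = σ₂ p := congrArg Prod.snd (hs p)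
  have h3 : π (s p) - p ∈ (J • ⊤ : Submodule R P) := hσ₂' p (s p) h2
  have h4 : π (s p) - p ∈ (I • ⊤ : Submodule R P) := by
    have := hσ₁a p
    rw [← h1] at this
    exact (Submodule.Quotient.eq _).mp this
  have h5 : π (s p) - p ∈ (I • ⊤ : Submodule R P) ⊓ (J • ⊤) := ⟨h4, h3⟩
  rw [hcapP, Submodule.mem_bot, sub_eq_zero] at h5
  exact h5

end Main

section General

variable {A : Type*} [CommRing A] (M : Type*) [AddCommGroup M] [Module A M]

/-- Projectivity of `A' ⊗ M` over `A'` gives projectivity of `R' ⊗_R (R ⊗_A M)` over `R'` for a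
commutative square `A → R → R'`, `A → A' → R'`. -/
theorem projective_baseChange_square (R R' A' : Type*) [CommRing R] [CommRing R'] [CommRing A']
    [Algebra A R] [Algebra A R'] [Algebra A A'] [Algebra R R'] [Algebra A' R']
    [IsScalarTower A R R'] [IsScalarTower A A' R'] [Module.Projective A' (A' ⊗[A] M)] :
    Module.Projective R' (R' ⊗[R] (R ⊗[A] M)) :=
  Module.Projective.of_equiv
    ((TensorProduct.AlgebraTensorModule.cancelBaseChange A A' R' R' M) ≪≫ₗ
      (TensorProduct.AlgebraTensorModule.cancelBaseChange A R R' R' M).symm)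

/-- Projectivity of `M/KM` over `A/K` gives projectivity of `M/LM` over `A/L` for `K ≤ L`. -/
theorem projective_quotient_of_le {K L : Ideal A} (h : K ≤ L)
    [Module.Projective (A ⧸ K) ((A ⧸ K) ⊗[A] M)] :
    Module.Projective (A ⧸ L) ((A ⧸ L) ⊗[A] M) := by
  let _ : Algebra (A ⧸ K) (A ⧸ L) := (Ideal.Quotient.factor h).toAlgebra
  have : IsScalarTower A (A ⧸ K) (A ⧸ L) := IsScalarTower.of_algebraMap_eq (fun x => rfl)
  exact Module.Projective.of_equiv
    (TensorProduct.AlgebraTensorModule.cancelBaseChange A (A ⧸ K) (A ⧸ L) (A ⧸ L) M)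

theorem projective_quotient_map' (J I : Ideal A) [Module.Projective (A ⧸ J) ((A ⧸ J) ⊗[A] M)] :
    Module.Projective ((A ⧸ I) ⧸ J.map (Ideal.Quotient.mk I))
      (((A ⧸ I) ⧸ J.map (Ideal.Quotient.mk I)) ⊗[A ⧸ I] ((A ⧸ I) ⊗[A] M)) := by
  have h : ∀ a ∈ J, algebraMap A ((A ⧸ I) ⧸ J.map (Ideal.Quotient.mk I)) a = 0 := by
    intro a ha
    rw [IsScalarTower.algebraMap_apply A (A ⧸ I) ((A ⧸ I) ⧸ J.map (Ideal.Quotient.mk I))]
    exact Ideal.Quotient.eq_zero_iff_mem.mpr (Ideal.mem_map_of_mem _ ha)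
  let g : A ⧸ J →+* (A ⧸ I) ⧸ J.map (Ideal.Quotient.mk I) :=
    Ideal.Quotient.lift J (algebraMap A ((A ⧸ I) ⧸ J.map (Ideal.Quotient.mk I))) h
  let _ : Algebra (A ⧸ J) ((A ⧸ I) ⧸ J.map (Ideal.Quotient.mk I)) := g.toAlgebra
  have : IsScalarTower A (A ⧸ J) ((A ⧸ I) ⧸ J.map (Ideal.Quotient.mk I)) :=
    IsScalarTower.of_algebraMap_eq (fun x => rfl)
  exact projective_baseChange_square M (A ⧸ I) ((A ⧸ I) ⧸ J.map (Ideal.Quotient.mk I)) (A ⧸ J)

/-- Projective analogue of Stacks 051C. -/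
theorem projective_quotient_inf (I₁ I₂ : Ideal A)
    [Module.Projective (A ⧸ I₁) ((A ⧸ I₁) ⊗[A] M)] [Module.Projective (A ⧸ I₂) ((A ⧸ I₂) ⊗[A] M)] :
    Module.Projective (A ⧸ (I₁ ⊓ I₂)) ((A ⧸ (I₁ ⊓ I₂)) ⊗[A] M) := by
  set K : Ideal A := I₁ ⊓ I₂ with hK
  have f1 := projective_quotient_map' M I₁ K
  have f2 := projective_quotient_map' M I₂ K
  refine projective_of_inf_eq_bot (I₁.map (Ideal.Quotient.mk K)) (I₂.map (Ideal.Quotient.mk K)) _
    ?_ f1 f2
  rw [eq_bot_iff]
  intro x hx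
  obtain ⟨a, rfl⟩ := Ideal.Quotient.mk_surjective x
  have h1 : a ∈ I₁ := by
    have h0 : Ideal.Quotient.mk K a ∈ I₁.map (Ideal.Quotient.mk K) := hx.1
    rw [Ideal.mem_map_iff_of_surjective _ Ideal.Quotient.mk_surjective] at h0
    obtain ⟨b, hb, hab⟩ := h0
    have h3 : b - a ∈ K := Ideal.Quotient.eq.mp hab
    have : a = b - (b - a) := by ring
    rw [this]
    exact I₁.sub_mem hb h3.1
  have h2 : a ∈ I₂ := by
    have h0 : Ideal.Quotient.mk K a ∈ I₂.map (Ideal.Quotient.mk K) := hx.2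
    rw [Ideal.mem_map_iff_of_surjective _ Ideal.Quotient.mk_surjective] at h0
    obtain ⟨b, hb, hab⟩ := h0
    have h3 : b - a ∈ K := Ideal.Quotient.eq.mp hab
    have : a = b - (b - a) := by ring
    rw [this]
    exact I₂.sub_mem hb h3.2
  rw [Ideal.mem_bot, Ideal.Quotient.eq_zero_iff_mem]
  exact ⟨h1, h2⟩

/-- Projective analogue of Stacks 051C for finite families. -/
theorem projective_quotient_finset_inf {ι : Type*} (I : ι → Ideal A)
    [∀ i, Module.Projective (A ⧸ I i) ((A ⧸ I i) ⊗[A] M)] (s : Finset ι) :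
    Module.Projective (A ⧸ (⨅ i ∈ s, I i)) ((A ⧸ (⨅ i ∈ s, I i)) ⊗[A] M) := by
  classical
  induction s using Finset.induction_on with
  | empty =>
    have : Subsingleton (A ⧸ (⨅ i ∈ (∅ : Finset ι), I i)) := by
      rw [Ideal.Quotient.subsingleton_iff]
      exact iInf_eq_top.mpr fun i => iInf_eq_top.mpr fun hi => absurd hi (Finset.notMem_empty i)
    have : Subsingleton ((A ⧸ (⨅ i ∈ (∅ : Finset ι), I i)) ⊗[A] M) :=
      Module.subsingleton (A ⧸ (⨅ i ∈ (∅ : Finset ι), I i)) _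
    infer_instance
  | insert a s _ ih =>
    have := projective_quotient_inf M (I a) (⨅ i ∈ s, I i)
    exact projective_quotient_of_le M (le_of_eq (Finset.iInf_insert a s I).symm)

end General

end Groth.Agent.Lib.ProjInf88
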