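import Groth.Agent.Lib.Ferrand88
import Groth.Agent.Lib.ProjInf88
import Groth.Agent.Lib.NilLiftProj

/-!
# Descent of projectivity along finite injective ring maps (helper88)

`R → S` finite injective, `M` any `R`-module.  If `S ⊗ M` is projective over `S` then `M` is
projective over `R`.  No Noetherian hypotheses, no finiteness on `M`.

Proof: as for Ferrand's theorem (`Ferrand88`): reduce to `S = R[s]` monogenic; after a finite free
base change (along which projectivity descends since `M` is a direct summand of `R' ⊗ M`) the
monic equation of `s` splits, `∏ (s - aᵢ) = 0`; then `R/Iᵢ ≅ S/(s - aᵢ)`, so `M/IᵢM` is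
projective over `R/Iᵢ`, hence `M/NM` is projective over `R/N` for `N = ⋂ Iᵢ` (`ProjInf88`), `N` is
nilpotent, `M` is flat by Ferrand's theorem, and a flat module that is projective modulo a
nilpotent ideal is projective (`NilLiftProj`, helper81).
-/

set_option autoImplicit false
set_option linter.unusedSectionVars false
universe u

namespace Groth.Agent.Lib.FerrandProj88

open TensorProduct Function Polynomial Groth.Agent.Lib.FlatTopInduced88 Groth.Agent.Lib.FlatInf88
  Groth.Agent.Lib.Ferrand88 Groth.Agent.Lib.ProjInf88

section Descent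

variable {R : Type*} [CommRing R] (R' : Type*) [CommRing R'] [Algebra R R']
variable (M : Type*) [AddCommGroup M] [Module R M]

/-- A projective module over a free `R`-algebra is projective over `R`. -/
theorem projective_restrictScalars_of_free [Module.Free R R'] (Q : Type*) [AddCommGroup Q]
    [Module R Q] [Module R' Q] [IsScalarTower R R' Q] [hQ : Module.Projective R' Q] :
    Module.Projective R Q := by
  obtain ⟨s, hs⟩ := hQ
  refine Module.Projective.of_split (M := Q →₀ R') (s.restrictScalars R)
    ((Finsupp.linearCombination R' id).restrictScalars R) ?_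
  ext q
  exact hs q

/-- Descent of projectivity along a nonzero free ring extension. -/
theorem projective_of_free_baseChange [Module.Free R R'] [Nontrivial R']
    [Module.Projective R' (R' ⊗[R] M)] : Module.Projective R M := by
  have h1 : Module.Projective R (R' ⊗[R] M) := projective_restrictScalars_of_free R' (R' ⊗[R] M)
  let b := Module.Free.chooseBasis R R'
  obtain ⟨i₀⟩ := b.index_nonempty
  refine Module.Projective.of_split (M := R' ⊗[R] M) (TensorProduct.mk R R' M (b i₀))
    ((TensorProduct.lid R M).toLinearMap ∘ₗ (b.coord i₀).rTensor M) ?_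
  ext m
  simp

end Descent

section Split

variable {R : Type u} [CommRing R] {S : Type*} [CommRing S] [Algebra R S]
variable (M : Type*) [AddCommGroup M] [Module R M]

theorem projective_quotient_rootIdeal [Module.Projective S (S ⊗[R] M)] (s : S)
    (hs : Algebra.adjoin R {s} = ⊤) (a : R) :
    Module.Projective (R ⧸ rootIdeal s a) ((R ⧸ rootIdeal s a) ⊗[R] M) := by
  set J : Ideal S := Ideal.span {s - algebraMap R S a} with hJ
  let ψ : R ⧸ rootIdeal s a →+* S ⧸ J :=
    Ideal.quotientMap (I := rootIdeal s a) J (algebraMap R S) le_rfl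
  have hψ : Bijective ψ := ⟨Ideal.quotientMap_injective, quotientMap_surjective s hs a⟩
  let e : R ⧸ rootIdeal s a ≃+* S ⧸ J := RingEquiv.ofBijective ψ hψ
  let χ : S →+* R ⧸ rootIdeal s a := (e.symm : S ⧸ J →+* R ⧸ rootIdeal s a).comp
    (Ideal.Quotient.mk J)
  let _ : Algebra S (R ⧸ rootIdeal s a) := χ.toAlgebra
  have : IsScalarTower R S (R ⧸ rootIdeal s a) := IsScalarTower.of_algebraMap_eq (fun r => by
    show Ideal.Quotient.mk _ r = e.symm (Ideal.Quotient.mk J (algebraMap R S r))
    rw [RingEquiv.eq_symm_apply]
    rfl)
  exact Module.Projective.of_equiv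
    (TensorProduct.AlgebraTensorModule.cancelBaseChange R S (R ⧸ rootIdeal s a)
      (R ⧸ rootIdeal s a) M)

/-- Split monogenic case. -/
theorem projective_of_prod_sub_eq_zero (hinj : Injective (algebraMap R S))
    [Module.Projective S (S ⊗[R] M)]
    (s : S) (hs : Algebra.adjoin R {s} = ⊤) (m : Multiset R)
    (hm : (m.map (fun a => s - algebraMap R S a)).prod = 0) : Module.Projective R M := by
  classical
  have hflatS : Module.Flat S (S ⊗[R] M) := inferInstance
  have hflat : Module.Flat R M := flat_of_prod_sub_eq_zero M hinj s hs m hm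
  have hI : ∀ a : R, Module.Projective (R ⧸ rootIdeal s a) ((R ⧸ rootIdeal s a) ⊗[R] M) :=
    fun a => projective_quotient_rootIdeal M s hs a
  set N : Ideal R := ⨅ a ∈ m.toFinset, rootIdeal s a with hN
  have hNproj : Module.Projective (R ⧸ N) ((R ⧸ N) ⊗[R] M) :=
    projective_quotient_finset_inf M (fun a => rootIdeal s a) m.toFinset
  have hNnil : N ^ (Multiset.card m) = 0 := by
    rw [Ideal.zero_eq_bot, eq_bot_iff]
    refine (pow_card_le_comap s m N ?_).trans ?_
    · intro a ha
      exact (iInf_le _ a).trans (iInf_le _ (Multiset.mem_toFinset.mpr ha))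
    · rw [hm]
      intro x hx
      rw [Ideal.mem_comap, Ideal.span_singleton_zero, Ideal.mem_bot] at hx
      rw [Ideal.mem_bot]
      exact hinj (by rw [hx, map_zero])
  exact Groth.Agent.Lib.NilLiftProj.projective_of_flat_of_projective_baseChange
    (I := N) ⟨Multiset.card m, hNnil⟩ M hNproj

end Split

section Monogenic

variable {R : Type u} [CommRing R] {S : Type u} [CommRing S] [Algebra R S]
variable (M : Type u) [AddCommGroup M] [Module R M]

attribute [local instance] Algebra.TensorProduct.rightAlgebra

/-- Monogenic case. -/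
theorem projective_of_adjoin_singleton (hinj : Injective (algebraMap R S))
    [Module.Projective S (S ⊗[R] M)]
    (s : S) (hs : Algebra.adjoin R {s} = ⊤) (hint : IsIntegral R s) : Module.Projective R M := by
  rcases subsingleton_or_nontrivial R with h | h
  · have : Subsingleton M := Module.subsingleton R M
    infer_instance
  obtain ⟨P, hP, hPs⟩ := hint
  obtain ⟨R', _, _, _, _, _, hsplit⟩ := hP.exists_splits_map
  obtain ⟨m, hm⟩ := splits_iff_exists_multiset.mp hsplit
  rw [(hP.map _).leadingCoeff, C_1, one_mul] at hm
  have hinj' : Injective (algebraMap R' (R' ⊗[R] S)) :=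
    Algebra.TensorProduct.includeLeft_injective (S := R') hinj
  have hs' : Algebra.adjoin R' {(1 : R') ⊗ₜ[R] s} = ⊤ := by
    have := Algebra.TensorProduct.adjoin_one_tmul_image_eq_top (A := R') {s} hs
    rwa [Set.image_singleton] at this
  have hproj' : Module.Projective (R' ⊗[R] S) ((R' ⊗[R] S) ⊗[R'] (R' ⊗[R] M)) :=
    projective_baseChange_square M R' (R' ⊗[R] S) S
  have hprod : (m.map (fun a => (1 : R') ⊗ₜ[R] s - algebraMap R' (R' ⊗[R] S) a)).prod = 0 := by
    have h1 : aeval ((1 : R') ⊗ₜ[R] s) (P.map (algebraMap R R')) = 0 := by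
      rw [aeval_map_algebraMap]
      have h2 : (1 : R') ⊗ₜ[R] s = (Algebra.TensorProduct.includeRight : S →ₐ[R] R' ⊗[R] S) s :=
        rfl
      rw [h2, aeval_algHom_apply]
      have h3 : aeval s P = 0 := hPs
      rw [h3, map_zero]
    rw [hm, map_multiset_prod, Multiset.map_map] at h1
    simpa using h1
  have := projective_of_prod_sub_eq_zero (R' ⊗[R] M) hinj' ((1 : R') ⊗ₜ[R] s) hs' m hprod
  exact projective_of_free_baseChange R' M

end Monogenic

section Finite

/-- Induction on the number of generators. -/
theorem projective_of_adjoin_finset (n : ℕ) :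
    ∀ (R S : Type u) [CommRing R] [CommRing S] [Algebra R S]
    [Algebra.IsIntegral R S] (_ : Injective (algebraMap R S)) (t : Finset S) (_ : t.card = n)
    (_ : Algebra.adjoin R (t : Set S) = ⊤) (M : Type u) [AddCommGroup M] [Module R M]
    [Module.Projective S (S ⊗[R] M)], Module.Projective R M := by
  classical
  induction n with
  | zero =>
    intro R S _ _ _ _ hinj t ht hadj M _ _ _
    have ht0 : t = ∅ := Finset.card_eq_zero.mp ht
    refine projective_of_adjoin_singleton M hinj (0 : S) ?_ (Algebra.IsIntegral.isIntegral 0)
    rw [eq_top_iff, ← hadj, ht0]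
    exact Algebra.adjoin_mono (by simp)
  | succ n ih =>
    intro R S _ _ _ _ hinj t ht hadj M _ _ _
    obtain ⟨s, hst⟩ : t.Nonempty := Finset.card_pos.mp (by omega)
    let R₁ : Subalgebra R S := Algebra.adjoin R {s}
    have h1 : Injective (algebraMap R₁ S) := Subtype.val_injective
    have hint1 : Algebra.IsIntegral R₁ S := Algebra.IsIntegral.tower_top (R := R)
    have hint0 : Algebra.IsIntegral R R₁ :=
      Algebra.IsIntegral.of_injective R₁.val Subtype.val_injective
    have hadj1 : Algebra.adjoin R₁ ((t.erase s : Finset S) : Set S) = ⊤ := by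
      have h2 := Algebra.adjoin_union_eq_adjoin_adjoin R {s} ((t.erase s : Finset S) : Set S)
      apply Subalgebra.restrictScalars_injective R
      rw [← h2, Subalgebra.restrictScalars_top, ← hadj]
      congr 1
      ext x
      simp only [Finset.coe_erase, Set.singleton_union, Set.insert_sdiff_singleton,
        Set.mem_insert_iff, Finset.mem_coe]
      constructor
      · rintro (rfl | h)
        · exact hst
        · exact h
      · intro h
        exact Or.inr h
    have hproj1 : Module.Projective S (S ⊗[R₁] (R₁ ⊗[R] M)) :=
      projective_baseChange_square M R₁ S S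
    have hM1 : Module.Projective R₁ (R₁ ⊗[R] M) :=
      ih R₁ S h1 (t.erase s) (by rw [Finset.card_erase_of_mem hst, ht]; rfl) hadj1 (R₁ ⊗[R] M)
    have h0 : Injective (algebraMap R R₁) := by
      intro x y hxy
      apply hinj
      have := congrArg (algebraMap R₁ S) hxy
      rwa [← IsScalarTower.algebraMap_apply, ← IsScalarTower.algebraMap_apply] at this
    let s₁ : R₁ := ⟨s, Algebra.subset_adjoin rfl⟩
    have hs₁ : Algebra.adjoin R {s₁} = ⊤ := by
      have h3 := Algebra.adjoin_adjoin_coe_preimage (R := R) (s := ({s} : Set S))
      convert h3 using 2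
      ext x
      simp [s₁, Subtype.ext_iff]
    exact projective_of_adjoin_singleton M h0 s₁ hs₁ (Algebra.IsIntegral.isIntegral s₁)

/-- Descent of projectivity along a finite injective ring map. -/
theorem projective_of_finite_injective {R S : Type u} [CommRing R] [CommRing S] [Algebra R S]
    [Module.Finite R S] (hinj : Injective (algebraMap R S)) (M : Type u) [AddCommGroup M]
    [Module R M] [Module.Projective S (S ⊗[R] M)] : Module.Projective R M := by
  obtain ⟨t, ht⟩ := (inferInstance : Algebra.FiniteType R S).out
  exact projective_of_adjoin_finset t.card R S hinj t rfl ht M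

end Finite

end Groth.Agent.Lib.FerrandProj88
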