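import Groth.Prelude.Def_FibClv

/-!
Helper lemmas on cleavages (`FibCat.Cleavage`).
-/

set_option backward.isDefEq.respectTransparency false
set_option backward.isDefEq.respectTransparency.types false

universe v₁ v₂ u₁ u₂

namespace Groth.Agent.Lib.FibClv

open CategoryTheory CategoryTheory.Functor FibCat

variable {𝒮 : Type u₁} {𝒳 : Type u₂} [Category.{v₁} 𝒮] [Category.{v₂} 𝒳] {p : 𝒳 ⥤ 𝒮}
  (K : Cleavage p)

theorem inverseImageCongr_hom_app_lift {R S : 𝒮} {f f' : R ⟶ S} (h : f = f') (a : p.Fiber S) :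
    Fiber.fiberInclusion.map ((K.inverseImageCongr h).hom.app a) ≫ K.lift a.2 f' =
      K.lift a.2 f := by
  subst h
  simp [Cleavage.inverseImageCongr]

theorem comp_app_lift {R S T : 𝒮} (f : T ⟶ S) (g : R ⟶ T) (a : p.Fiber S) :
    Fiber.fiberInclusion.map ((K.comp f g).app a) ≫ K.lift a.2 (g ≫ f) =
      K.lift (K.obj_proj a.2 f) g ≫ K.lift a.2 f := by
  rw [Cleavage.comp_app]
  exact IsCartesian.fac _ _ _ _

theorem inverseImage_map_lift {R S : 𝒮} (f : R ⟶ S) {a b : p.Fiber S} (φ : a ⟶ b) :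
    Fiber.fiberInclusion.map ((K.inverseImage f).map φ) ≫ K.lift b.2 f =
      K.lift a.2 f ≫ Fiber.fiberInclusion.map φ := by
  rw [Cleavage.inverseImage_map]
  exact IsCartesian.fac _ _ _ _

/-- Two morphisms of the fibre over `R` into `f^* a` are equal once they agree after composing with the
chosen lift. -/
theorem fiber_hom_ext_lift {R S : 𝒮} (f : R ⟶ S) (a : p.Fiber S) {b : p.Fiber R}
    (ψ ψ' : b ⟶ (K.inverseImage f).obj a)
    (h : Fiber.fiberInclusion.map ψ ≫ K.lift a.2 f = Fiber.fiberInclusion.map ψ' ≫ K.lift a.2 f) :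
    ψ = ψ' := by
  apply Fiber.hom_ext
  exact IsCartesian.ext p f (K.lift a.2 f) _ _ h

end Groth.Agent.Lib.FibClv
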