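import Mathlib
import Groth.Agent.Lib.EtLocQF3

/-!
# Fibre degrees of locally quasi-finite morphisms (helper6)

For `f : X ⟶ S` locally quasi-finite and `s : S` we study the rank over `κ(s)` of the global
sections of the fibre `X_s` (a possibly infinite cardinal; the fibre is a discrete scheme).

* `Sec K q`, `sdeg K q`: global sections of a scheme `q : P ⟶ Spec K` as a `K`-algebra and their rank.
* `le_sdeg_iff`: for `q` locally quasi-finite, `d ≤ sdeg K q` iff some open `W ⊆ P` finite over `K` has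
  `finrank ≥ d`.
* `le_sdeg_iff_of_isPullback`: invariance under field extension.
* `DegGE f s d`: the fibre of `f` over `s` has degree at least `d`; `le_sdeg_iff_degGE`: for any
  field valued point `g : Spec K ⟶ S` the rank of `Γ(X_K)` is `≥ d` iff `DegGE f (g pt) d`.
* `degGE_finrank`, `degGE_iff_le_finrank`, `mem_of_degGE_imp_le`: comparison with the rank of an open
  part of a base change which is finite flat over the base.
* `isOpen_degGE`: lower semicontinuity (separated, flat, lfp, lqf) via étale localisation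
  (`Lib/EtLocQF3`, helper34).
* `exists_opens_degree`: the statement of S1449.
-/

set_option autoImplicit false
universe u

open AlgebraicGeometry CategoryTheory Limits TopologicalSpace

namespace Groth.Agent.Lib.FibDeg6

section Part1

/-- Restriction of global sections to a clopen subset is surjective. -/
theorem surjective_res_of_isClopen {X : Scheme.{u}} (U : X.Opens) (hU : IsClosed (U : Set X)) :
    Function.Surjective (X.presheaf.map (homOfLE (le_top : U ≤ ⊤)).op) := by
  intro s
  let W : Bool → X.Opens := fun b => if b then U else ⟨(U : Set X)ᶜ, hU.isOpen_compl⟩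
  have hcover : (⊤ : X.Opens) ≤ iSup W := by
    intro x _
    rw [Opens.mem_iSup]
    by_cases hx : x ∈ U
    · exact ⟨true, hx⟩
    · exact ⟨false, hx⟩
  let sf : ∀ b : Bool, Γ(X, W b) := fun b => match b with
    | true => s
    | false => 0
  have hinf : ∀ b b' : Bool, b ≠ b' → W b ⊓ W b' = ⊥ := by
    intro b b' hbb
    ext x
    cases b <;> cases b' <;> simp [W] at hbb ⊢
  have hcompat : TopCat.Presheaf.IsCompatible X.presheaf W sf := by
    intro b b'
    by_cases hbb : b = b'
    · subst hbb; rfl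
    · have : Subsingleton Γ(X, W b ⊓ W b') := by
        rw [hinf b b' hbb]; infer_instance
      exact Subsingleton.elim _ _
  obtain ⟨(e : Γ(X, ⊤)), he, -⟩ := X.sheaf.existsUnique_gluing' W (⊤ : X.Opens)
    (fun b => homOfLE le_top) hcover sf hcompat
  exact ⟨e, he true⟩

/-- `appTop` of the inclusion of a clopen subscheme is surjective. -/
theorem surjective_ι_appTop_of_isClosed {X : Scheme.{u}} (U : X.Opens) (hU : IsClosed (U : Set X)) :
    Function.Surjective U.ι.appTop := by
  intro s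
  obtain ⟨t, ht⟩ := surjective_res_of_isClopen U hU (U.topIso.hom s)
  refine ⟨t, ?_⟩
  apply (ConcreteCategory.bijective_of_isIso U.topIso.hom).injective
  rw [← ht]
  have h : U.ι.appTop ≫ U.topIso.hom = X.presheaf.map (homOfLE (le_top : U ≤ ⊤)).op := by
    simp only [Scheme.Opens.ι_appTop, Scheme.Opens.topIso_hom]
    exact (X.presheaf.map_comp _ _).symm.trans (by congr 1)
  exact congr($h t)

section Field

variable (K : Type u) [Field K]

/-- Global sections of a scheme over `Spec K`, as a `K`-algebra. -/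
def Sec {P : Scheme.{u}} (_q : P ⟶ Spec (CommRingCat.of K)) : Type u := Γ(P, ⊤)

noncomputable instance {P : Scheme.{u}} (q : P ⟶ Spec (CommRingCat.of K)) : CommRing (Sec K q) :=
  inferInstanceAs (CommRing Γ(P, ⊤))

noncomputable instance {P : Scheme.{u}} (q : P ⟶ Spec (CommRingCat.of K)) : Algebra K (Sec K q) :=
  ((Scheme.ΓSpecIso (CommRingCat.of K)).inv ≫ q.appTop).hom.toAlgebra

theorem Sec.algebraMap_apply {P : Scheme.{u}} (q : P ⟶ Spec (CommRingCat.of K)) (c : K) :
    algebraMap K (Sec K q) c = ((Scheme.ΓSpecIso (CommRingCat.of K)).inv ≫ q.appTop).hom c := rfl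

/-- functoriality of sections -/
noncomputable def Sec.map {P₀ P₁ : Scheme.{u}} (j : P₀ ⟶ P₁) {q₁ : P₁ ⟶ Spec (CommRingCat.of K)}
    {q₀ : P₀ ⟶ Spec (CommRingCat.of K)} (h : j ≫ q₁ = q₀) : Sec K q₁ →ₐ[K] Sec K q₀ :=
  { (j.appTop.hom : Γ(P₁, ⊤) →+* Γ(P₀, ⊤)) with
    commutes' := fun c => by
      subst h
      change j.appTop.hom (((Scheme.ΓSpecIso (CommRingCat.of K)).inv ≫ q₁.appTop).hom c) =
        ((Scheme.ΓSpecIso (CommRingCat.of K)).inv ≫ (j ≫ q₁).appTop).hom c
      rw [Scheme.Hom.comp_appTop]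
      rfl }

theorem Sec.map_apply {P₀ P₁ : Scheme.{u}} (j : P₀ ⟶ P₁) {q₁ : P₁ ⟶ Spec (CommRingCat.of K)}
    {q₀ : P₀ ⟶ Spec (CommRingCat.of K)} (h : j ≫ q₁ = q₀) (s : Sec K q₁) :
    Sec.map K j h s = j.appTop.hom s := rfl

/-- The rank of the global sections over `K`. -/
noncomputable def sdeg {P : Scheme.{u}} (q : P ⟶ Spec (CommRingCat.of K)) : Cardinal.{u} :=
  Module.rank K (Sec K q)

theorem sdeg_le_of_surjective {P₀ P₁ : Scheme.{u}} (j : P₀ ⟶ P₁) {q₁ : P₁ ⟶ Spec (CommRingCat.of K)}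
    {q₀ : P₀ ⟶ Spec (CommRingCat.of K)} (h : j ≫ q₁ = q₀) (hj : Function.Surjective j.appTop) :
    sdeg K q₀ ≤ sdeg K q₁ :=
  LinearMap.rank_le_of_surjective (Sec.map K j h).toLinearMap hj

set_option backward.isDefEq.respectTransparency false in
theorem sdeg_eq_of_isIso {P₀ P₁ : Scheme.{u}} (j : P₀ ⟶ P₁) [IsIso j] {q₁ : P₁ ⟶ Spec (CommRingCat.of K)}
    {q₀ : P₀ ⟶ Spec (CommRingCat.of K)} (h : j ≫ q₁ = q₀) :
    sdeg K q₀ = sdeg K q₁ := by
  have i1 : IsIso j.appTop := inferInstanceAs (IsIso (j.app ⊤))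
  have i2 : IsIso (inv j).appTop := inferInstanceAs (IsIso ((inv j).app ⊤))
  apply le_antisymm
  · exact sdeg_le_of_surjective K j h (ConcreteCategory.bijective_of_isIso j.appTop).surjective
  · have h' : inv j ≫ q₀ = q₁ := by rw [← h]; simp
    exact sdeg_le_of_surjective K (inv j) h' (ConcreteCategory.bijective_of_isIso (inv j).appTop).surjective

/-- monotonicity for clopen subschemes -/
theorem sdeg_ι_le {P : Scheme.{u}} (q : P ⟶ Spec (CommRingCat.of K)) (W : P.Opens)
    (hW : IsClosed (W : Set P)) : sdeg K (W.ι ≫ q) ≤ sdeg K q :=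
  sdeg_le_of_surjective K W.ι rfl (surjective_ι_appTop_of_isClosed W hW)

/-- The point of `Spec K`. -/
noncomputable def ptK : ↥(Spec (CommRingCat.of K)) := (⟨⊥, Ideal.isPrime_bot⟩ : PrimeSpectrum K)

theorem eq_ptK (x : ↥(Spec (CommRingCat.of K))) : x = ptK K :=
  Subsingleton.elim (α := PrimeSpectrum K) _ _

set_option backward.isDefEq.respectTransparency.types false in
/-- compact opens of a scheme lqf over a field are finite over the field -/
theorem isFinite_of_isCompact {P : Scheme.{u}} (q : P ⟶ Spec (CommRingCat.of K)) [LocallyQuasiFinite q]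
    (W : P.Opens) (hW : IsCompact (W : Set P)) : IsFinite (W.ι ≫ q) := by
  have : CompactSpace ↥W := isCompact_iff_compactSpace.mp hW
  have : QuasiCompact (W.ι ≫ q) :=
    (HasAffineProperty.iff_of_isAffine (P := @QuasiCompact) (f := W.ι ≫ q)).mpr
      (show CompactSpace ↥(W.toScheme) from this)
  exact IsFinite.of_locallyQuasiFinite (W.ι ≫ q)

theorem eq_isoSpec_comp {P : Scheme.{u}} [IsAffine P] (q : P ⟶ Spec (CommRingCat.of K)) :
    q = P.isoSpec.hom ≫ Spec.map ((Scheme.ΓSpecIso (CommRingCat.of K)).inv ≫ q.appTop) := by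
  have h := Scheme.isoSpec_hom_naturality q
  rw [Scheme.isoSpec_Spec_hom] at h
  rw [Spec.map_comp, ← Category.assoc, h, Category.assoc, ← Spec.map_comp, Iso.inv_hom_id,
    Spec.map_id, Category.comp_id]

set_option backward.isDefEq.respectTransparency false in
theorem sdeg_eq_finrank {P : Scheme.{u}} (q : P ⟶ Spec (CommRingCat.of K)) [IsFinite q] :
    sdeg K q = (q.finrank (ptK K) : Cardinal.{u}) := by
  have : IsAffine P := isAffine_of_isAffineHom q
  have hq := eq_isoSpec_comp K q
  have hfin' : IsFinite (Spec.map ((Scheme.ΓSpecIso (CommRingCat.of K)).inv ≫ q.appTop)) := by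
    have : IsFinite (P.isoSpec.hom ≫
        Spec.map ((Scheme.ΓSpecIso (CommRingCat.of K)).inv ≫ q.appTop)) := by rw [← hq]; infer_instance
    rwa [MorphismProperty.cancel_left_of_respectsIso @IsFinite] at this
  have hfin : Module.Finite K (Sec K q) := by
    rw [IsFinite.SpecMap_iff] at hfin'
    exact RingHom.finite_algebraMap.mp hfin'
  have hflat : Module.Flat K (Sec K q) := inferInstance
  have e1 : q.finrank (ptK K) = Module.rankAtStalk (R := K) (Sec K q) (ptK K) := by
    have h2 := Scheme.Hom.finrank_SpecMap_algebraMap K (Sec K q) (ptK K)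
    rw [← h2]
    conv_lhs => rw [hq]
    rw [Scheme.Hom.finrank_comp_left_of_isIso]
    rfl
  rw [e1, Module.rankAtStalk_eq_finrank_of_free, sdeg]
  change Module.rank K _ = ((Module.finrank K (Sec K q) : ℕ) : Cardinal.{u})
  rw [Module.finrank_eq_rank]

end Field

end Part1

section Part2

section Field

variable (K : Type u) [Field K]

theorem Sec.map_map {P₀ P₁ P₂ : Scheme.{u}} (j₀ : P₀ ⟶ P₁) (j₁ : P₁ ⟶ P₂)
    {q₂ : P₂ ⟶ Spec (CommRingCat.of K)} {q₁ : P₁ ⟶ Spec (CommRingCat.of K)}
    {q₀ : P₀ ⟶ Spec (CommRingCat.of K)} (h₁ : j₁ ≫ q₂ = q₁) (h₀ : j₀ ≫ q₁ = q₀)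
    (h : (j₀ ≫ j₁) ≫ q₂ = q₀) (s : Sec K q₂) :
    Sec.map K j₀ h₀ (Sec.map K j₁ h₁ s) = Sec.map K (j₀ ≫ j₁) h s := by
  simp only [Sec.map_apply, Scheme.Hom.comp_appTop]
  rfl

theorem Sec.map_congr {P₀ P₁ : Scheme.{u}} {j j' : P₀ ⟶ P₁} (e : j = j')
    {q₁ : P₁ ⟶ Spec (CommRingCat.of K)}
    {q₀ : P₀ ⟶ Spec (CommRingCat.of K)} (h : j ≫ q₁ = q₀) (h' : j' ≫ q₁ = q₀) (s : Sec K q₁) :
    Sec.map K j h s = Sec.map K j' h' s := by
  subst e; rfl

/-- restriction to a smaller open, on sections -/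
theorem Sec.map_homOfLE {P : Scheme.{u}} (q : P ⟶ Spec (CommRingCat.of K)) {W W' : P.Opens}
    (hWW : W ≤ W') (s : Sec K q) :
    Sec.map K (P.homOfLE hWW) (q₁ := W'.ι ≫ q) (q₀ := W.ι ≫ q)
        (by rw [← Category.assoc, Scheme.homOfLE_ι]) (Sec.map K W'.ι rfl s) =
      Sec.map K W.ι rfl s := by
  rw [Sec.map_map K _ _ rfl _ (by rw [Category.assoc, ← Category.assoc, Scheme.homOfLE_ι])]
  exact Sec.map_congr K (Scheme.homOfLE_ι P hWW) _ _ s

/-- a global section vanishing on all affine opens vanishes -/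
theorem Sec.eq_zero_of_forall_affine {P : Scheme.{u}} (q : P ⟶ Spec (CommRingCat.of K)) (s : Sec K q)
    (h : ∀ W : P.affineOpens, Sec.map K W.1.ι rfl s = 0) : s = 0 := by
  have h0 : ∀ W : P.affineOpens, P.presheaf.map (homOfLE (le_top : W.1 ≤ ⊤)).op s =
      P.presheaf.map (homOfLE (le_top : W.1 ≤ ⊤)).op (0 : Γ(P, ⊤)) := by
    intro W
    have h1 : W.1.ι.appTop ≫ W.1.topIso.hom = P.presheaf.map (homOfLE (le_top : W.1 ≤ ⊤)).op := by
      simp only [Scheme.Opens.ι_appTop, Scheme.Opens.topIso_hom]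
      exact (P.presheaf.map_comp _ _).symm.trans (by congr 1)
    rw [map_zero, ← h1]
    have h2 : W.1.ι.appTop.hom s = 0 := h W
    change W.1.topIso.hom.hom (W.1.ι.appTop.hom s) = 0
    rw [h2, map_zero]
  exact P.sheaf.eq_of_locally_eq' (fun W : P.affineOpens => W.1) ⊤ (fun W => homOfLE le_top)
    (by rw [iSup_affineOpens_eq_top]) s 0 h0

theorem exists_isCompact_le_sdeg {P : Scheme.{u}} (q : P ⟶ Spec (CommRingCat.of K)) (d : ℕ)
    (h : (d : Cardinal.{u}) ≤ sdeg K q) :
    ∃ W : P.Opens, IsCompact (W : Set P) ∧ (d : Cardinal.{u}) ≤ sdeg K (W.ι ≫ q) := by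
  obtain ⟨v, hv⟩ := Module.le_rank_iff.mp h
  let N : P.Opens → Submodule K (Fin d → K) := fun W =>
    LinearMap.ker ((Sec.map K W.ι (q₁ := q) rfl).toLinearMap ∘ₗ Fintype.linearCombination K v)
  have hmono : ∀ {W W' : P.Opens}, W ≤ W' → N W' ≤ N W := by
    intro W W' hWW c hc
    simp only [N, LinearMap.mem_ker, LinearMap.comp_apply, AlgHom.toLinearMap_apply] at hc ⊢
    rw [← Sec.map_homOfLE K q hWW, hc, map_zero]
  -- choose W minimizing finrank
  have hex : ∃ n : ℕ, ∃ W : P.Opens, IsCompact (W : Set P) ∧ Module.finrank K (N W) = n :=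
    ⟨_, ⊥, by simp, rfl⟩
  classical
  obtain ⟨W, hWc, hWn⟩ := Nat.find_spec hex
  have hmin : ∀ W' : P.Opens, IsCompact (W' : Set P) → Module.finrank K (N W) ≤ Module.finrank K (N W') := by
    intro W' hW'
    rw [hWn]
    exact Nat.find_min' hex ⟨W', hW', rfl⟩
  have hbot : N W = ⊥ := by
    by_contra hne
    obtain ⟨c, hcN, hc0⟩ := (Submodule.ne_bot_iff _).mp hne
    have hs : Fintype.linearCombination K v c ≠ 0 := by
      intro h0
      rw [Fintype.linearCombination_apply] at h0
      exact hc0 (funext fun i => Fintype.linearIndependent_iff.mp hv c h0 i)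
    obtain ⟨W₁, hW₁⟩ : ∃ W₁ : P.affineOpens, Sec.map K W₁.1.ι rfl (Fintype.linearCombination K v c) ≠ 0 := by
      by_contra hcon
      push Not at hcon
      exact hs (Sec.eq_zero_of_forall_affine K q _ hcon)
    have hcomp : IsCompact ((W ⊔ W₁.1 : P.Opens) : Set P) := by
      rw [Opens.coe_sup]
      exact hWc.union W₁.2.isCompact
    have hlt : N (W ⊔ W₁.1) < N W := by
      refine lt_of_le_of_ne (hmono le_sup_left) ?_
      intro heq
      have hc' : c ∈ N (W ⊔ W₁.1) := heq ▸ hcN
      have := hmono (le_sup_right : W₁.1 ≤ W ⊔ W₁.1) hc'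
      simp only [N, LinearMap.mem_ker, LinearMap.comp_apply, AlgHom.toLinearMap_apply] at this
      exact hW₁ this
    have := Submodule.finrank_lt_finrank_of_lt hlt
    exact absurd (hmin _ hcomp) (not_le.mpr this)
  refine ⟨W, hWc, ?_⟩
  refine Module.le_rank_iff.mpr ⟨fun i => Sec.map K W.ι rfl (v i), ?_⟩
  rw [Fintype.linearIndependent_iff]
  intro g hg
  have hgN : g ∈ N W := by
    simp only [N, LinearMap.mem_ker, LinearMap.comp_apply, AlgHom.toLinearMap_apply,
      Fintype.linearCombination_apply, map_sum, map_smul]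
    exact hg
  rw [hbot, Submodule.mem_bot] at hgN
  intro i
  rw [hgN]; rfl

end Field

end Part2

section Part3

/-- A global section which is `1` on the complement of a clopen `U` and `0` on `U`. -/
theorem exists_res_eq_zero_res_compl_eq_one {X : Scheme.{u}} (U : X.Opens) (hU : IsClosed (U : Set X)) :
    ∃ e : Γ(X, ⊤), X.presheaf.map (homOfLE (le_top : U ≤ ⊤)).op e = 0 ∧
      X.presheaf.map (homOfLE (le_top : (⟨(U : Set X)ᶜ, hU.isOpen_compl⟩ : X.Opens) ≤ ⊤)).op e = 1 := by
  let W : Bool → X.Opens := fun b => if b then U else ⟨(U : Set X)ᶜ, hU.isOpen_compl⟩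
  have hcover : (⊤ : X.Opens) ≤ iSup W := by
    intro x _
    rw [Opens.mem_iSup]
    by_cases hx : x ∈ U
    · exact ⟨true, hx⟩
    · exact ⟨false, hx⟩
  let sf : ∀ b : Bool, Γ(X, W b) := fun b => match b with
    | true => 0
    | false => 1
  have hinf : ∀ b b' : Bool, b ≠ b' → W b ⊓ W b' = ⊥ := by
    intro b b' hbb
    ext x
    cases b <;> cases b' <;> simp [W] at hbb ⊢
  have hcompat : TopCat.Presheaf.IsCompatible X.presheaf W sf := by
    intro b b'
    by_cases hbb : b = b'
    · subst hbb; rfl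
    · have : Subsingleton Γ(X, W b ⊓ W b') := by
        rw [hinf b b' hbb]; infer_instance
      exact Subsingleton.elim _ _
  obtain ⟨(e : Γ(X, ⊤)), he, -⟩ := X.sheaf.existsUnique_gluing' W (⊤ : X.Opens)
    (fun b => homOfLE le_top) hcover sf hcompat
  exact ⟨e, he true, he false⟩

section Field

variable (K : Type u) [Field K]

theorem Sec.map_ι_eq_zero_iff {P : Scheme.{u}} (q : P ⟶ Spec (CommRingCat.of K)) (W : P.Opens)
    (s : Sec K q) :
    Sec.map K W.ι rfl s = 0 ↔ P.presheaf.map (homOfLE (le_top : W ≤ ⊤)).op s = 0 := by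
  have h1 : W.ι.appTop ≫ W.topIso.hom = P.presheaf.map (homOfLE (le_top : W ≤ ⊤)).op := by
    simp only [Scheme.Opens.ι_appTop, Scheme.Opens.topIso_hom]
    exact (P.presheaf.map_comp _ _).symm.trans (by congr 1)
  rw [← h1]
  change W.ι.appTop.hom s = 0 ↔ W.topIso.hom.hom (W.ι.appTop.hom s) = 0
  constructor
  · intro h; rw [h, map_zero]
  · intro h
    apply (ConcreteCategory.bijective_of_isIso W.topIso.hom).injective
    rw [map_zero]; exact h

/-- **Characterisation of the degree of a scheme locally quasi-finite over a field.** -/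
theorem le_sdeg_iff {P : Scheme.{u}} (q : P ⟶ Spec (CommRingCat.of K)) [LocallyQuasiFinite q] (d : ℕ) :
    (d : Cardinal.{u}) ≤ sdeg K q ↔
      ∃ (W : P.Opens) (_ : IsFinite (W.ι ≫ q)), d ≤ (W.ι ≫ q).finrank (ptK K) := by
  have : IsLocallyArtinian P := IsLocallyArtinian.of_locallyQuasiFinite q
  constructor
  · intro h
    obtain ⟨W, hW, hd⟩ := exists_isCompact_le_sdeg K q d h
    have hfin := isFinite_of_isCompact K q W hW
    refine ⟨W, hfin, ?_⟩
    rw [sdeg_eq_finrank] at hd
    exact_mod_cast hd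
  · rintro ⟨W, hfin, hd⟩
    have h1 := sdeg_ι_le K q W (isClosed_discrete _)
    rw [sdeg_eq_finrank] at h1
    refine le_trans ?_ h1
    exact_mod_cast hd

/-- If an open finite part already has the full (finite) degree, it is everything. -/
theorem eq_top_of_sdeg_le {P : Scheme.{u}} (q : P ⟶ Spec (CommRingCat.of K)) [LocallyQuasiFinite q]
    (W : P.Opens) [IsFinite (W.ι ≫ q)]
    (h : sdeg K q ≤ ((W.ι ≫ q).finrank (ptK K) : Cardinal.{u})) : W = ⊤ := by
  have : IsLocallyArtinian P := IsLocallyArtinian.of_locallyQuasiFinite q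
  have hcl : IsClosed (W : Set P) := isClosed_discrete _
  have hsurj : Function.Surjective (Sec.map K W.ι (q₁ := q) rfl) :=
    surjective_ι_appTop_of_isClosed W hcl
  have hW := sdeg_eq_finrank K (W.ι ≫ q)
  have hfin : Module.Finite K (Sec K q) := by
    rw [← Module.rank_lt_aleph0_iff]
    exact lt_of_le_of_lt h (Cardinal.natCast_lt_aleph0)
  have hfinW : Module.Finite K (Sec K (W.ι ≫ q)) := by
    rw [← Module.rank_lt_aleph0_iff]
    change sdeg K (W.ι ≫ q) < _
    rw [hW]; exact Cardinal.natCast_lt_aleph0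
  have hle : Module.finrank K (Sec K q) ≤ Module.finrank K (Sec K (W.ι ≫ q)) := by
    have h1 : (Module.finrank K (Sec K q) : Cardinal.{u}) ≤ (Module.finrank K (Sec K (W.ι ≫ q)) : Cardinal.{u}) := by
      rw [Module.finrank_eq_rank, Module.finrank_eq_rank]
      change sdeg K q ≤ sdeg K (W.ι ≫ q)
      rw [hW]; exact h
    exact_mod_cast h1
  have hinj : Function.Injective (Sec.map K W.ι (q₁ := q) rfl) := by
    have hrn := LinearMap.finrank_range_add_finrank_ker (Sec.map K W.ι (q₁ := q) rfl).toLinearMap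
    have hr : LinearMap.range (Sec.map K W.ι (q₁ := q) rfl).toLinearMap = ⊤ :=
      LinearMap.range_eq_top.mpr hsurj
    rw [hr, finrank_top] at hrn
    have hk : Module.finrank K (LinearMap.ker (Sec.map K W.ι (q₁ := q) rfl).toLinearMap) = 0 := by omega
    have hk' : LinearMap.ker (Sec.map K W.ι (q₁ := q) rfl).toLinearMap = ⊥ :=
      Submodule.finrank_eq_zero.mp hk
    exact LinearMap.ker_eq_bot.mp hk'
  by_contra hne
  obtain ⟨e, he0, he1⟩ := exists_res_eq_zero_res_compl_eq_one W hcl
  have hz : Sec.map K W.ι (q₁ := q) rfl e = 0 := (Sec.map_ι_eq_zero_iff K q W e).mpr he0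
  have he : (e : Γ(P, ⊤)) = 0 := hinj (hz.trans (map_zero _).symm)
  rw [he, map_zero] at he1
  have hne' : ((⟨(W : Set P)ᶜ, hcl.isOpen_compl⟩ : P.Opens) : Set P).Nonempty := by
    rw [Set.nonempty_iff_ne_empty]
    intro hempty
    apply hne
    ext x
    simp only [Opens.coe_top, Set.mem_univ, iff_true]
    by_contra hx
    have : x ∈ ((⟨(W : Set P)ᶜ, hcl.isOpen_compl⟩ : P.Opens) : Set P) := hx
    rw [hempty] at this
    exact this
  obtain ⟨x, hx⟩ := hne'
  have : Nonempty (⟨(W : Set P)ᶜ, hcl.isOpen_compl⟩ : P.Opens) := ⟨⟨x, hx⟩⟩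
  have := Scheme.component_nontrivial P (⟨(W : Set P)ᶜ, hcl.isOpen_compl⟩ : P.Opens)
  exact zero_ne_one he1

end Field

end Part3

section Part4

/-- Base change of an open part: abstract pullback square version. -/
theorem isPullback_restrict {P X S T : Scheme.{u}} {fst : P ⟶ X} {snd : P ⟶ T} {f : X ⟶ S} {g : T ⟶ S}
    (H : IsPullback fst snd f g) (V : X.Opens) :
    IsPullback (fst ∣_ V) ((fst ⁻¹ᵁ V).ι ≫ snd) (V.ι ≫ f) g :=
  (isPullback_morphismRestrict fst V).paste_vert H

theorem isFinite_restrict {P X S T : Scheme.{u}} {fst : P ⟶ X} {snd : P ⟶ T} {f : X ⟶ S} {g : T ⟶ S}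
    (H : IsPullback fst snd f g) (V : X.Opens) [IsFinite (V.ι ≫ f)] :
    IsFinite ((fst ⁻¹ᵁ V).ι ≫ snd) :=
  MorphismProperty.of_isPullback (isPullback_restrict H V) inferInstance

theorem flat_restrict {P X S T : Scheme.{u}} {fst : P ⟶ X} {snd : P ⟶ T} {f : X ⟶ S} {g : T ⟶ S}
    (H : IsPullback fst snd f g) (V : X.Opens) [Flat (V.ι ≫ f)] :
    Flat ((fst ⁻¹ᵁ V).ι ≫ snd) :=
  MorphismProperty.of_isPullback (isPullback_restrict H V) inferInstance

theorem finrank_restrict {P X S T : Scheme.{u}} {fst : P ⟶ X} {snd : P ⟶ T} {f : X ⟶ S} {g : T ⟶ S}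
    (H : IsPullback fst snd f g) (V : X.Opens) [IsFinite (V.ι ≫ f)] [Flat (V.ι ≫ f)] (t : T) :
    ((fst ⁻¹ᵁ V).ι ≫ snd).finrank t = (V.ι ≫ f).finrank (g t) :=
  Scheme.Hom.finrank_of_isPullback _ _ _ _ (isPullback_restrict H V) t

section Field

variable (K : Type u) [Field K]

/-- monotonicity of the degree of finite open parts -/
theorem sdeg_ι_le_of_le {P : Scheme.{u}} (q : P ⟶ Spec (CommRingCat.of K)) {W W' : P.Opens}
    (hWW : W ≤ W') (hW : IsClosed (W : Set P)) : sdeg K (W.ι ≫ q) ≤ sdeg K (W'.ι ≫ q) := by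
  refine sdeg_le_of_surjective K (P.homOfLE hWW) (by rw [← Category.assoc, Scheme.homOfLE_ι]) ?_
  intro s
  obtain ⟨t, ht⟩ := surjective_ι_appTop_of_isClosed W hW s
  refine ⟨W'.ι.appTop t, ?_⟩
  rw [← ht]
  have : W'.ι.appTop ≫ (P.homOfLE hWW).appTop = W.ι.appTop := by
    rw [← Scheme.Hom.comp_appTop, Scheme.homOfLE_ι]
  exact congr($this t)

theorem finrank_ι_le_of_le {P : Scheme.{u}} (q : P ⟶ Spec (CommRingCat.of K)) [LocallyQuasiFinite q]
    {W W' : P.Opens} (hWW : W ≤ W') [IsFinite (W.ι ≫ q)] [IsFinite (W'.ι ≫ q)] :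
    (W.ι ≫ q).finrank (ptK K) ≤ (W'.ι ≫ q).finrank (ptK K) := by
  have : IsLocallyArtinian P := IsLocallyArtinian.of_locallyQuasiFinite q
  have h := sdeg_ι_le_of_le K q hWW (isClosed_discrete _)
  rw [sdeg_eq_finrank, sdeg_eq_finrank] at h
  exact_mod_cast h

end Field

/-- **Field extension invariance of the degree** (abstract pullback square version). -/
theorem le_sdeg_iff_of_isPullback (k K : Type u) [Field k] [Field K] (ψ : k →+* K)
    {P P' : Scheme.{u}} (q : P ⟶ Spec (CommRingCat.of k)) [LocallyQuasiFinite q]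
    (q' : P' ⟶ Spec (CommRingCat.of K)) (π : P' ⟶ P)
    (H : IsPullback π q' q (Spec.map (CommRingCat.ofHom ψ))) (d : ℕ) :
    (d : Cardinal.{u}) ≤ sdeg K q' ↔ (d : Cardinal.{u}) ≤ sdeg k q := by
  have hq' : LocallyQuasiFinite q' := MorphismProperty.of_isPullback H inferInstance
  have hpt : (Spec.map (CommRingCat.ofHom ψ)) (ptK K) = ptK k := eq_ptK k _
  have : IsLocallyArtinian P := IsLocallyArtinian.of_locallyQuasiFinite q
  have : IsLocallyArtinian P' := IsLocallyArtinian.of_locallyQuasiFinite q'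
  rw [le_sdeg_iff, le_sdeg_iff]
  constructor
  · rintro ⟨W', hfin', hd⟩
    -- image of W'
    have hW'c : IsCompact (W' : Set P') := by
      have : QuasiCompact (W'.ι ≫ q') := inferInstance
      have : CompactSpace ↥W' := QuasiCompact.compactSpace_of_compactSpace (W'.ι ≫ q')
      exact isCompact_iff_compactSpace.mpr this
    let W : P.Opens := ⟨π '' (W' : Set P'), isOpen_discrete _⟩
    have hWc : IsCompact (W : Set P) := hW'c.image π.continuous
    have hfin : IsFinite (W.ι ≫ q) := isFinite_of_isCompact k q W hWc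
    have hflat : Flat (W.ι ≫ q) := inferInstance
    refine ⟨W, hfin, ?_⟩
    have hfin2 : IsFinite ((π ⁻¹ᵁ W).ι ≫ q') := isFinite_restrict H W
    have h1 := finrank_restrict H W (ptK K)
    rw [hpt] at h1
    rw [← h1]
    refine le_trans hd ?_
    have hle : W' ≤ π ⁻¹ᵁ W := fun x hx => ⟨x, hx, rfl⟩
    exact finrank_ι_le_of_le K q' hle
  · rintro ⟨W, hfin, hd⟩
    have hflat : Flat (W.ι ≫ q) := inferInstance
    have hfin2 : IsFinite ((π ⁻¹ᵁ W).ι ≫ q') := isFinite_restrict H W
    refine ⟨π ⁻¹ᵁ W, hfin2, ?_⟩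
    have h1 := finrank_restrict H W (ptK K)
    rw [hpt] at h1
    rw [h1]; exact hd

end Part4

section Part5

/-- The fibre of `f` over `s` has degree (rank of global sections over `κ(s)`) at least `d`. -/
def DegGE {X S : Scheme.{u}} (f : X ⟶ S) (s : S) (d : ℕ) : Prop :=
  (d : Cardinal.{u}) ≤ sdeg (S.residueField s) (f.fiberToSpecResidueField s)

theorem DegGE.mono {X S : Scheme.{u}} {f : X ⟶ S} {s : S} {d d' : ℕ} (h : DegGE f s d) (hd : d' ≤ d) :
    DegGE f s d' :=
  le_trans (by exact_mod_cast hd) h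

theorem DegGE.zero {X S : Scheme.{u}} (f : X ⟶ S) (s : S) : DegGE f s 0 := by
  simp [DegGE]

theorem ptK_eq_closedPoint (K : Type u) [Field K] : ptK K = IsLocalRing.closedPoint K :=
  eq_ptK K _ |>.symm

/-- **Degree over a field valued point only depends on the image point.** -/
theorem le_sdeg_iff_degGE {X S : Scheme.{u}} (f : X ⟶ S) [LocallyQuasiFinite f]
    (K : Type u) [Field K] {P' : Scheme.{u}} {fst : P' ⟶ X} {snd : P' ⟶ Spec (CommRingCat.of K)}
    {g : Spec (CommRingCat.of K) ⟶ S} (H : IsPullback fst snd f g) (d : ℕ) :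
    (d : Cardinal.{u}) ≤ sdeg K snd ↔ DegGE f (g (IsLocalRing.closedPoint K)) d := by
  set s := g (IsLocalRing.closedPoint K) with hs
  let φ : S.residueField s ⟶ CommRingCat.of K := Scheme.descResidueField (Scheme.stalkClosedPointTo g)
  have hg : Spec.map φ ≫ S.fromSpecResidueField s = g :=
    Scheme.descResidueField_stalkClosedPointTo_fromSpecResidueField K S g
  let π : P' ⟶ f.fiber s := pullback.lift fst (snd ≫ Spec.map φ) (by rw [Category.assoc, hg, H.w])
  have h1 : π ≫ f.fiberι s = fst := pullback.lift_fst _ _ _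
  have h2 : π ≫ f.fiberToSpecResidueField s = snd ≫ Spec.map φ := pullback.lift_snd _ _ _
  have Hbig : IsPullback (π ≫ f.fiberι s) snd f (Spec.map φ ≫ S.fromSpecResidueField s) := by
    rw [h1, hg]; exact H
  have Hs : IsPullback π snd (f.fiberToSpecResidueField s) (Spec.map φ) :=
    IsPullback.of_right Hbig h2 (IsPullback.of_hasPullback f (S.fromSpecResidueField s))
  have Hs' : IsPullback π snd (f.fiberToSpecResidueField s) (Spec.map (CommRingCat.ofHom φ.hom)) := Hs
  have : LocallyQuasiFinite (f.fiberToSpecResidueField s) :=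
    inferInstanceAs (LocallyQuasiFinite (pullback.snd f (S.fromSpecResidueField s)))
  exact le_sdeg_iff_of_isPullback (S.residueField s) K φ.hom (f.fiberToSpecResidueField s) snd π Hs' d

theorem fromSpecResidueField_closedPoint {S : Scheme.{u}} (s : S) :
    (S.fromSpecResidueField s) (IsLocalRing.closedPoint (S.residueField s)) = s :=
  Scheme.fromSpecResidueField_apply s _

/-- The degree at a point computed from any pullback square over the residue field. -/
theorem le_sdeg_iff_degGE' {X S : Scheme.{u}} (f : X ⟶ S) [LocallyQuasiFinite f] (s : S)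
    {P' : Scheme.{u}} {fst : P' ⟶ X} {snd : P' ⟶ Spec (S.residueField s)}
    (H : IsPullback fst snd f (S.fromSpecResidueField s)) (d : ℕ) :
    (d : Cardinal.{u}) ≤ sdeg (S.residueField s) snd ↔ DegGE f s d := by
  have := le_sdeg_iff_degGE f (S.residueField s) (snd := snd) (g := S.fromSpecResidueField s) H d
  rw [fromSpecResidueField_closedPoint] at this
  exact this

/-- **Lower bound**: an open part of a base change which is finite flat over the base bounds the
degree from below. -/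
theorem degGE_finrank {X S T P : Scheme.{u}} (f : X ⟶ S) [LocallyQuasiFinite f] {g : T ⟶ S}
    {fst : P ⟶ X} {snd : P ⟶ T} (H : IsPullback fst snd f g) (V : P.Opens)
    [IsFinite (V.ι ≫ snd)] [Flat (V.ι ≫ snd)] (t : T) :
    DegGE f (g t) ((V.ι ≫ snd).finrank t) := by
  let K := T.residueField t
  let γ := T.fromSpecResidueField t
  have Hγ := IsPullback.of_hasPullback snd γ
  have Hbig : IsPullback (pullback.fst snd γ ≫ fst) (pullback.snd snd γ) f (γ ≫ g) :=
    Hγ.paste_horiz H
  have hpt : (γ ≫ g) (IsLocalRing.closedPoint K) = g t :=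
    congrArg g (fromSpecResidueField_closedPoint t)
  have hlqf : LocallyQuasiFinite (pullback.snd snd γ) := MorphismProperty.of_isPullback Hbig inferInstance
  have key := le_sdeg_iff_degGE f K Hbig ((V.ι ≫ snd).finrank t)
  rw [hpt] at key
  rw [← key, le_sdeg_iff]
  have hfin : IsFinite (((pullback.fst snd γ) ⁻¹ᵁ V).ι ≫ pullback.snd snd γ) := isFinite_restrict Hγ V
  refine ⟨(pullback.fst snd γ) ⁻¹ᵁ V, hfin, ?_⟩
  have h1 := finrank_restrict Hγ V (IsLocalRing.closedPoint K)
  rw [fromSpecResidueField_closedPoint] at h1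
  rw [ptK_eq_closedPoint, h1]

/-- If the open part contains the whole fibre over `t`, its rank computes the degree. -/
theorem degGE_iff_le_finrank {X S T P : Scheme.{u}} (f : X ⟶ S) [LocallyQuasiFinite f] {g : T ⟶ S}
    {fst : P ⟶ X} {snd : P ⟶ T} (H : IsPullback fst snd f g) (V : P.Opens)
    [IsFinite (V.ι ≫ snd)] [Flat (V.ι ≫ snd)] (t : T) (hV : ∀ x : P, snd x = t → x ∈ V) (d : ℕ) :
    DegGE f (g t) d ↔ d ≤ (V.ι ≫ snd).finrank t := by
  refine ⟨fun h => ?_, fun h => (degGE_finrank f H V t).mono h⟩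
  let K := T.residueField t
  let γ := T.fromSpecResidueField t
  have Hγ := IsPullback.of_hasPullback snd γ
  have Hbig : IsPullback (pullback.fst snd γ ≫ fst) (pullback.snd snd γ) f (γ ≫ g) :=
    Hγ.paste_horiz H
  have hpt : (γ ≫ g) (IsLocalRing.closedPoint K) = g t :=
    congrArg g (fromSpecResidueField_closedPoint t)
  have hlqf : LocallyQuasiFinite (pullback.snd snd γ) := MorphismProperty.of_isPullback Hbig inferInstance
  have key := le_sdeg_iff_degGE f K Hbig d
  rw [hpt] at key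
  rw [← key, le_sdeg_iff] at h
  obtain ⟨W, hWfin, hW⟩ := h
  have hfin : IsFinite (((pullback.fst snd γ) ⁻¹ᵁ V).ι ≫ pullback.snd snd γ) := isFinite_restrict Hγ V
  have h1 := finrank_restrict Hγ V (IsLocalRing.closedPoint K)
  rw [fromSpecResidueField_closedPoint] at h1
  rw [← h1, ← ptK_eq_closedPoint]
  refine le_trans hW (finrank_ι_le_of_le K _ ?_)
  intro x _
  change pullback.fst snd γ x ∈ V
  apply hV
  have := congr($(pullback.condition (f := snd) (g := γ)) x)
  rw [Scheme.Hom.comp_apply, Scheme.Hom.comp_apply] at this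
  rw [this]
  exact Scheme.fromSpecResidueField_apply t _

/-- If the degree at `g t` is bounded by the rank of the finite open part `V` at `t`, then `V`
contains the whole fibre over `t`. -/
theorem mem_of_degGE_imp_le {X S T P : Scheme.{u}} (f : X ⟶ S) [LocallyQuasiFinite f] {g : T ⟶ S}
    {fst : P ⟶ X} {snd : P ⟶ T} (H : IsPullback fst snd f g) (V : P.Opens)
    [IsFinite (V.ι ≫ snd)] [Flat (V.ι ≫ snd)] (t : T)
    (hle : ∀ d, DegGE f (g t) d → d ≤ (V.ι ≫ snd).finrank t) (x : P) (hx : snd x = t) : x ∈ V := by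
  let K := T.residueField t
  let γ := T.fromSpecResidueField t
  have Hγ := IsPullback.of_hasPullback snd γ
  have Hbig : IsPullback (pullback.fst snd γ ≫ fst) (pullback.snd snd γ) f (γ ≫ g) :=
    Hγ.paste_horiz H
  have hpt : (γ ≫ g) (IsLocalRing.closedPoint K) = g t :=
    congrArg g (fromSpecResidueField_closedPoint t)
  have hlqf : LocallyQuasiFinite (pullback.snd snd γ) := MorphismProperty.of_isPullback Hbig inferInstance
  have hfin : IsFinite (((pullback.fst snd γ) ⁻¹ᵁ V).ι ≫ pullback.snd snd γ) := isFinite_restrict Hγ V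
  have h1 := finrank_restrict Hγ V (IsLocalRing.closedPoint K)
  rw [fromSpecResidueField_closedPoint] at h1
  have hsd : sdeg K (pullback.snd snd γ) ≤
      ((((pullback.fst snd γ) ⁻¹ᵁ V).ι ≫ pullback.snd snd γ).finrank (ptK K) : Cardinal.{u}) := by
    by_contra hcon
    rw [not_le] at hcon
    have h2 : (((((pullback.fst snd γ) ⁻¹ᵁ V).ι ≫ pullback.snd snd γ).finrank (ptK K) + 1 : ℕ) : Cardinal.{u}) ≤
        sdeg K (pullback.snd snd γ) := by
      rw [Nat.cast_succ]
      exact Cardinal.add_one_le_of_lt hcon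
    have key := le_sdeg_iff_degGE f K Hbig
      ((((pullback.fst snd γ) ⁻¹ᵁ V).ι ≫ pullback.snd snd γ).finrank (ptK K) + 1)
    rw [hpt] at key
    have := hle _ (key.mp h2)
    rw [ptK_eq_closedPoint, h1] at this
    omega
  have htop := eq_top_of_sdeg_le K (pullback.snd snd γ) ((pullback.fst snd γ) ⁻¹ᵁ V) hsd
  obtain ⟨x', hx'1, -⟩ := Scheme.Pullback.exists_preimage_pullback (f := snd) (g := γ) x
    (IsLocalRing.closedPoint K) (by rw [hx, fromSpecResidueField_closedPoint])
  have : x' ∈ (pullback.fst snd γ) ⁻¹ᵁ V := by rw [htop]; trivial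
  rw [← hx'1]
  exact this

end Part5

section Part6

theorem isLocallyArtinian_fiber {X S : Scheme.{u}} (f : X ⟶ S) [LocallyQuasiFinite f] (s : S) :
    IsLocallyArtinian (f.fiber s) := inferInstance

/-- the degree of the open part `X₀` at `s` in terms of the fibre of `f` -/
theorem degGE_open_iff {X S : Scheme.{u}} (f : X ⟶ S) [LocallyQuasiFinite f] (X₀ : X.Opens) (s : S)
    (d : ℕ) :
    DegGE (X₀.ι ≫ f) s d ↔
      (d : Cardinal.{u}) ≤ sdeg (S.residueField s)
        (((f.fiberι s) ⁻¹ᵁ X₀).ι ≫ f.fiberToSpecResidueField s) := by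
  have H : IsPullback (f.fiberι s) (f.fiberToSpecResidueField s) f (S.fromSpecResidueField s) :=
    IsPullback.of_hasPullback f (S.fromSpecResidueField s)
  exact (le_sdeg_iff_degGE' (X₀.ι ≫ f) s (isPullback_restrict H X₀) d).symm

theorem DegGE.of_open {X S : Scheme.{u}} (f : X ⟶ S) [LocallyQuasiFinite f] (X₀ : X.Opens) {s : S}
    {d : ℕ} (h : DegGE (X₀.ι ≫ f) s d) : DegGE f s d := by
  rw [degGE_open_iff] at h
  have : IsLocallyArtinian (f.fiber s) := inferInstance
  exact le_trans h (sdeg_ι_le _ _ _ (isClosed_discrete _))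

/-- If the degree at `s` is at least `d`, this is already witnessed by a quasi-compact open. -/
theorem DegGE.exists_isCompact {X S : Scheme.{u}} (f : X ⟶ S) [LocallyQuasiFinite f] {s : S}
    {d : ℕ} (h : DegGE f s d) :
    ∃ X₀ : X.Opens, IsCompact (X₀ : Set X) ∧ DegGE (X₀.ι ≫ f) s d := by
  have : LocallyQuasiFinite (f.fiberToSpecResidueField s) :=
    inferInstanceAs (LocallyQuasiFinite (pullback.snd f (S.fromSpecResidueField s)))
  have : IsLocallyArtinian (f.fiber s) := inferInstance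
  obtain ⟨W, hW, hd⟩ := exists_isCompact_le_sdeg _ _ d h
  -- cover the image of W by finitely many affine opens
  have hc : IsCompact ((f.fiberι s) '' (W : Set (f.fiber s))) := hW.image (f.fiberι s).continuous
  obtain ⟨t, ht⟩ := hc.elim_finite_subcover (fun U : X.affineOpens => (U.1 : Set X))
    (fun U => U.1.isOpen) (fun x _ => by
      have : x ∈ (⨆ i : X.affineOpens, (i : X.Opens) : X.Opens) := by
        rw [iSup_affineOpens_eq_top]; trivial
      simpa [Opens.mem_iSup] using this)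
  let X₀ : X.Opens := ⨆ U ∈ t, (U : X.Opens)
  have hX₀ : IsCompact (X₀ : Set X) := by
    have : (X₀ : Set X) = ⋃ U ∈ t, ((U : X.Opens) : Set X) := by
      simp [X₀, Opens.coe_iSup]
    rw [this]
    exact t.isCompact_biUnion fun U _ => U.2.isCompact
  refine ⟨X₀, hX₀, ?_⟩
  rw [degGE_open_iff]
  refine le_trans hd (sdeg_ι_le_of_le _ _ ?_ (isClosed_discrete _))
  intro x hx
  have : (f.fiberι s) x ∈ ⋃ U ∈ t, ((U : X.Opens) : Set X) := ht ⟨x, hx, rfl⟩
  change (f.fiberι s) x ∈ X₀
  simpa [X₀, Opens.mem_iSup] using this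

instance quasiCompact_fromSpecResidueField {S : Scheme.{u}} (s : S) :
    QuasiCompact (S.fromSpecResidueField s) := by
  rw [quasiCompact_iff_forall_isAffineOpen]
  intro U _
  exact (Set.toFinite _).isCompact

theorem finite_fiber_of_isCompact {X S : Scheme.{u}} (f : X ⟶ S) [LocallyQuasiFinite f]
    (hX : CompactSpace X) (s : S) : Finite (f.fiber s) := by
  have : CompactSpace ↑(pullback f (S.fromSpecResidueField s)) := inferInstance
  have : CompactSpace (f.fiber s) := this
  have : IsLocallyArtinian (f.fiber s) := inferInstance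
  exact finite_of_compact_of_discrete

end Part6

section Part7

/-- In a locally quasi-finite morphism, every point over `u` lies in an open set `V` as soon as all
isolated points of the fibre do. -/
theorem mem_of_forall_isolated {Y U : Scheme.{u}} (h : Y ⟶ U) [LocallyQuasiFinite h] (u : U)
    (V : Y.Opens)
    (hV : ∀ w : ↑(h.fiber u), h.fiberι u w ∉ V → ¬ IsOpen ({w} : Set ↑(h.fiber u)))
    (x : Y) (hx : h x = u) : x ∈ V := by
  have hx' : x ∈ Set.range (h.fiberι u) := by
    rw [Scheme.Hom.range_fiberι]; exact hx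
  obtain ⟨w, rfl⟩ := hx'
  by_contra hcon
  have : IsLocallyArtinian (h.fiber u) := inferInstance
  exact hV w hcon (isOpen_discrete _)

/-- **Lower semicontinuity of the fibre degree** (Stacks 0F3I-type): for a separated, flat, locally
quasi-finite morphism locally of finite presentation the locus where the fibre degree is at least
`d` is open. -/
theorem isOpen_degGE {X S : Scheme.{u}} (f : X ⟶ S) [Flat f] [LocallyOfFinitePresentation f]
    [IsSeparated f] [LocallyQuasiFinite f] (d : ℕ) : IsOpen {s : S | DegGE f s d} := by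
  rw [isOpen_iff_forall_mem_open]
  intro s hs
  obtain ⟨X₀, hX₀, hs₀⟩ := DegGE.exists_isCompact f hs
  have hcs : CompactSpace ↥X₀ := isCompact_iff_compactSpace.mp hX₀
  have hfinfib : Finite ((X₀.ι ≫ f).fiber s) := finite_fiber_of_isCompact (X₀.ι ≫ f) hcs s
  obtain ⟨U, g, u, hnb, V, -, hVfin, hVall⟩ :=
    Groth.Agent.Lib.EtLocQF.exists_isEtaleNbhd_clopen_finite_of_finite_isolated (X₀.ι ≫ f) s
      (Set.toFinite _)
  have hg : Etale g := hnb.etale
  have hgu : g u = s := hnb.base_eq
  have hV : ∀ x : ↑(pullback (X₀.ι ≫ f) g), (pullback.snd (X₀.ι ≫ f) g) x = u → x ∈ V :=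
    mem_of_forall_isolated _ u V hVall
  have hflat : Flat (V.ι ≫ pullback.snd (X₀.ι ≫ f) g) := inferInstance
  have hlfp : LocallyOfFinitePresentation (V.ι ≫ pullback.snd (X₀.ι ≫ f) g) := inferInstance
  have H := IsPullback.of_hasPullback (X₀.ι ≫ f) g
  have h1 : d ≤ (V.ι ≫ pullback.snd (X₀.ι ≫ f) g).finrank u := by
    rw [← degGE_iff_le_finrank (X₀.ι ≫ f) H V u hV d, hgu]
    exact hs₀
  let O : Set U := {t | (V.ι ≫ pullback.snd (X₀.ι ≫ f) g).finrank t =
    (V.ι ≫ pullback.snd (X₀.ι ≫ f) g).finrank u}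
  have hO : IsOpen O :=
    (Scheme.Hom.isLocallyConstant_finrank (V.ι ≫ pullback.snd (X₀.ι ≫ f) g)).isOpen_fiber _
  refine ⟨g '' O, ?_, g.isOpenMap _ hO, ⟨u, rfl, hgu⟩⟩
  rintro _ ⟨t, ht, rfl⟩
  have h2 := degGE_finrank (X₀.ι ≫ f) H V t
  have ht' : (V.ι ≫ pullback.snd (X₀.ι ≫ f) g).finrank t =
    (V.ι ≫ pullback.snd (X₀.ι ≫ f) g).finrank u := ht
  rw [ht'] at h2
  exact DegGE.of_open f X₀ (h2.mono h1)

end Part7

section Part8

theorem range_subset_iff_of_field {S : Scheme.{u}} (K : Type u) [Field K]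
    (g : Spec (CommRingCat.of K) ⟶ S) (A : Set S) :
    Set.range ⇑g ⊆ A ↔ g (IsLocalRing.closedPoint K) ∈ A := by
  constructor
  · intro h; exact h ⟨_, rfl⟩
  · rintro h _ ⟨x, rfl⟩
    have : x = IsLocalRing.closedPoint K := Subsingleton.elim (α := PrimeSpectrum K) _ _
    rw [this]; exact h

theorem exists_opens_degree {X S : Scheme.{u}} (f : X ⟶ S) [Flat f] [LocallyOfFinitePresentation f]
    [IsSeparated f] [LocallyQuasiFinite f] :
    ∃ U : ℕ → S.Opens, Antitone U ∧ U 0 = ⊤ ∧ ∀ (K : Type u) [Field K]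
      (g : Spec (CommRingCat.of K) ⟶ S) (d : ℕ),
      Set.range ⇑g ⊆ (U d : Set ↑S) ↔ (d : Cardinal.{u}) ≤
        (letI := ((Scheme.ΓSpecIso (CommRingCat.of K)).inv ≫ (pullback.snd f g).appTop).hom.toAlgebra
        Module.rank K (Γ(pullback f g, ⊤) : Type u)) := by
  refine ⟨fun d => ⟨{s | DegGE f s d}, isOpen_degGE f d⟩, ?_, ?_, ?_⟩
  · intro d d' hdd s hs
    exact DegGE.mono hs hdd
  · ext s
    simp only [Opens.coe_mk, Set.mem_setOf_eq, Opens.coe_top, Set.mem_univ, iff_true]
    exact DegGE.zero f s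
  · intro K _ g d
    rw [range_subset_iff_of_field]
    exact (le_sdeg_iff_degGE f K (IsPullback.of_hasPullback f g) d).symm

end Part8

end Groth.Agent.Lib.FibDeg6
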