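import Mathlib
import Groth.Agent.Lib.FibDeg6
import Groth.Agent.Lib.FpqcDescent
import Groth.Agent.Lib.FpqcFamilyDescent
import Groth.Prelude.Def_Mor2

/-!
# Fibre degrees II: constant degree implies finite locally free (helper6)

* `degGE_pullback_snd_iff`: base change compatibility of `DegGE`.
* `degGE_iff_le_finrank_of_isFinite`: for finite flat morphisms the degree is `Scheme.Hom.finrank`.
* `exists_etale_isFinite_of_degree_const`, `isFinite_of_degree_const`,
  `isFinLocFreeOfDeg_of_degree_const`: a separated flat lfp lqf morphism all of whose fibres have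
  degree `r` is finite locally free of degree `r` (étale localisation + fpqc descent of finiteness).
* `exists_degree_stratification`: the statement of S1447.
-/

set_option autoImplicit false
universe u

open AlgebraicGeometry CategoryTheory Limits TopologicalSpace

namespace Groth.Agent.Lib.FibDeg6

section Part9

/-- base change compatibility of the degree -/
theorem degGE_pullback_snd_iff {X S T : Scheme.{u}} (f : X ⟶ S) [LocallyQuasiFinite f] (g : T ⟶ S)
    (t : T) (d : ℕ) : DegGE (pullback.snd f g) t d ↔ DegGE f (g t) d := by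
  let γ := T.fromSpecResidueField t
  have H1 := IsPullback.of_hasPullback (pullback.snd f g) γ
  have Hbig : IsPullback (pullback.fst (pullback.snd f g) γ ≫ pullback.fst f g)
      (pullback.snd (pullback.snd f g) γ) f (γ ≫ g) :=
    H1.paste_horiz (IsPullback.of_hasPullback f g)
  have hpt : (γ ≫ g) (IsLocalRing.closedPoint (T.residueField t)) = g t :=
    congrArg g (fromSpecResidueField_closedPoint t)
  have key := le_sdeg_iff_degGE f (T.residueField t) Hbig d
  rw [hpt] at key
  exact key

instance isIso_top_ι (X : Scheme.{u}) : IsIso (⊤ : X.Opens).ι :=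
  inferInstanceAs (IsIso X.topIso.hom)

/-- for a finite flat morphism the degree is the rank -/
theorem degGE_iff_le_finrank_of_isFinite {X S : Scheme.{u}} (f : X ⟶ S) [IsFinite f] [Flat f]
    (s : S) (d : ℕ) : DegGE f s d ↔ d ≤ f.finrank s := by
  have H : IsPullback (𝟙 X) f f (𝟙 S) := IsPullback.id_horiz f
  have i1 : IsFinite ((⊤ : X.Opens).ι ≫ f) := inferInstance
  have i2 : Flat ((⊤ : X.Opens).ι ≫ f) := inferInstance
  have := degGE_iff_le_finrank f H ⊤ s (fun _ _ => trivial) d
  rw [Scheme.Hom.finrank_comp_left_of_isIso] at this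
  exact this

theorem sdeg_le_of_forall {K : Type u} [Field K] {P : Scheme.{u}} (q : P ⟶ Spec (CommRingCat.of K))
    (r : ℕ) (h : ¬ ((r + 1 : ℕ) : Cardinal.{u}) ≤ sdeg K q) : sdeg K q ≤ (r : Cardinal.{u}) := by
  rw [not_le] at h
  obtain ⟨n, hn⟩ := Cardinal.lt_aleph0.mp (lt_trans h Cardinal.natCast_lt_aleph0)
  rw [hn] at h ⊢
  have : n < r + 1 := by exact_mod_cast h
  exact_mod_cast Nat.lt_succ_iff.mp this

/-- constant finite degree: the fibres are finite -/
theorem finite_fiber_of_degGE_iff {X S : Scheme.{u}} (f : X ⟶ S) [LocallyQuasiFinite f] (s : S)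
    (r : ℕ) (h : ∀ d, DegGE f s d ↔ d ≤ r) : Finite (f.fiber s) := by
  have : LocallyQuasiFinite (f.fiberToSpecResidueField s) :=
    inferInstanceAs (LocallyQuasiFinite (pullback.snd f (S.fromSpecResidueField s)))
  have : IsLocallyArtinian (f.fiber s) := inferInstance
  obtain ⟨W, hWfin, hW⟩ := (le_sdeg_iff (S.residueField s) (f.fiberToSpecResidueField s) r).mp
    ((h r).mpr le_rfl)
  have hle : sdeg (S.residueField s) (f.fiberToSpecResidueField s) ≤ (r : Cardinal.{u}) :=
    sdeg_le_of_forall _ r (fun hcon => by have := (h (r + 1)).mp hcon; omega)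
  have htop : W = ⊤ := eq_top_of_sdeg_le _ _ W (le_trans hle (by exact_mod_cast hW))
  have hc : CompactSpace ↥W := QuasiCompact.compactSpace_of_compactSpace
    (W.ι ≫ f.fiberToSpecResidueField s)
  have hc' : IsCompact (W : Set (f.fiber s)) := isCompact_iff_compactSpace.mpr hc
  rw [htop] at hc'
  have : CompactSpace (f.fiber s) := ⟨hc'⟩
  exact finite_of_compact_of_discrete

/-- **Étale-local finiteness** for constant fibre degree. -/
theorem exists_etale_isFinite_of_degree_const {X S : Scheme.{u}} (f : X ⟶ S) [Flat f]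
    [LocallyOfFinitePresentation f] [IsSeparated f] [LocallyQuasiFinite f] (r : ℕ)
    (h : ∀ s d, DegGE f s d ↔ d ≤ r) (s : S) :
    ∃ (U : Scheme.{u}) (g : U ⟶ S) (u : U), Etale g ∧ g u = s ∧ IsFinite (pullback.snd f g) := by
  have hfinfib : Finite (f.fiber s) := finite_fiber_of_degGE_iff f s r (h s)
  obtain ⟨U, g, u, hnb, V, -, hVfin, hVall⟩ :=
    Groth.Agent.Lib.EtLocQF.exists_isEtaleNbhd_clopen_finite_of_finite_isolated f s
      (Set.toFinite _)
  have hg : Etale g := hnb.etale
  have hgu : g u = s := hnb.base_eq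
  have hV : ∀ x : ↑(pullback f g), (pullback.snd f g) x = u → x ∈ V :=
    mem_of_forall_isolated _ u V hVall
  have hflat : Flat (V.ι ≫ pullback.snd f g) := inferInstance
  have hlfp : LocallyOfFinitePresentation (V.ι ≫ pullback.snd f g) := inferInstance
  have H := IsPullback.of_hasPullback f g
  have hru : (V.ι ≫ pullback.snd f g).finrank u = r := by
    have h1 := degGE_iff_le_finrank f H V u hV
    rw [hgu] at h1
    apply le_antisymm
    · exact (h s _).mp ((h1 _).mpr le_rfl)
    · exact (h1 _).mp ((h s _).mpr le_rfl)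
  let O : U.Opens := ⟨{t | (V.ι ≫ pullback.snd f g).finrank t = r},
    (Scheme.Hom.isLocallyConstant_finrank (V.ι ≫ pullback.snd f g)).isOpen_fiber _⟩
  have hall : ∀ x : ↑(pullback f g), (pullback.snd f g) x ∈ O → x ∈ V := by
    intro x hx
    refine mem_of_degGE_imp_le f H V _ ?_ x rfl
    intro d hd
    have hx' : (V.ι ≫ pullback.snd f g).finrank ((pullback.snd f g) x) = r := hx
    rw [hx']
    exact (h _ d).mp hd
  -- base change to O
  let g' : (O : Scheme.{u}) ⟶ S := O.ι ≫ g
  let π : pullback f g' ⟶ pullback f g :=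
    pullback.lift (pullback.fst f g') (pullback.snd f g' ≫ O.ι)
      (by rw [Category.assoc]; exact pullback.condition)
  have hπ1 : π ≫ pullback.fst f g = pullback.fst f g' := pullback.lift_fst _ _ _
  have hπ2 : π ≫ pullback.snd f g = pullback.snd f g' ≫ O.ι := pullback.lift_snd _ _ _
  have Hbig : IsPullback (π ≫ pullback.fst f g) (pullback.snd f g') f (O.ι ≫ g) := by
    rw [hπ1]; exact IsPullback.of_hasPullback f g'
  have Hπ : IsPullback π (pullback.snd f g') (pullback.snd f g) O.ι :=
    IsPullback.of_right Hbig hπ2 H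
  have hfin' : IsFinite ((π ⁻¹ᵁ V).ι ≫ pullback.snd f g') := isFinite_restrict Hπ V
  have htop : π ⁻¹ᵁ V = ⊤ := by
    ext x
    simp only [Opens.coe_top, Set.mem_univ, iff_true]
    change π x ∈ V
    apply hall
    have := congr($hπ2 x)
    rw [Scheme.Hom.comp_apply, Scheme.Hom.comp_apply] at this
    rw [this]
    exact (pullback.snd f g' x).2
  rw [htop] at hfin'
  have hfin'' : IsFinite (pullback.snd f g') := by
    have : pullback.snd f g' = inv (⊤ : (pullback f g').Opens).ι ≫
        ((⊤ : (pullback f g').Opens).ι ≫ pullback.snd f g') := by simp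
    rw [this]; infer_instance
  exact ⟨O, g', ⟨u, hru⟩, inferInstance, hgu, hfin''⟩

end Part9

section Part10

set_option backward.isDefEq.respectTransparency false in
/-- **Constant fibre degree implies finite** (Stacks 0F3J-type). -/
theorem isFinite_of_degree_const {X S : Scheme.{u}} (f : X ⟶ S) [Flat f]
    [LocallyOfFinitePresentation f] [IsSeparated f] [LocallyQuasiFinite f] (r : ℕ)
    (h : ∀ s d, DegGE f s d ↔ d ≤ r) : IsFinite f := by
  choose U g u hg hgu hfin using exists_etale_isFinite_of_degree_const f r h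
  let 𝒰 : S.Cover (Scheme.precoverage @Flat) :=
    Scheme.Cover.mkOfCovers S U g (fun x => ⟨x, u x, hgu x⟩) (fun s => by
      have := hg s
      infer_instance)
  have : QuasiCompactCover 𝒰.toPreZeroHypercover :=
    QuasiCompactCover.of_isOpenMap (fun s => by
      have := hg s
      exact (g s).isOpenMap)
  exact Groth.Agent.Lib.FpqcFamilyDescent.of_cover @IsFinite f 𝒰 hfin

theorem isFinLocFreeOfDeg_of_degree_const {X S : Scheme.{u}} (f : X ⟶ S) [Flat f]
    [LocallyOfFinitePresentation f] [IsSeparated f] [LocallyQuasiFinite f] (r : ℕ)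
    (h : ∀ s d, DegGE f s d ↔ d ≤ r) : Mor2.IsFinLocFreeOfDeg r f := by
  have hfin : IsFinite f := isFinite_of_degree_const f r h
  refine ⟨⟨hfin, inferInstance, inferInstance⟩, fun y => ?_⟩
  have h1 := degGE_iff_le_finrank_of_isFinite f y
  apply le_antisymm
  · exact (h y _).mp ((h1 _).mpr le_rfl)
  · exact (h1 _).mp ((h y _).mpr le_rfl)

end Part10

section Part11

theorem iff_le_findGreatest (P : ℕ → Prop) [DecidablePred P] (n : ℕ) (h0 : P 0)
    (hmono : ∀ d d', d' ≤ d → P d → P d') (hbd : ∀ d, P d → d ≤ n) (d : ℕ) :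
    P d ↔ d ≤ Nat.findGreatest P n := by
  constructor
  · intro h
    exact Nat.le_findGreatest (hbd d h) h
  · intro h
    have hs : P (Nat.findGreatest P n) := by
      by_cases hz : Nat.findGreatest P n = 0
      · rw [hz]; exact h0
      · exact Nat.findGreatest_of_ne_zero rfl hz
    exact hmono _ _ h hs

open Classical in
theorem exists_degree_stratification {X S : Scheme.{u}} (f : X ⟶ S) [Flat f]
    [LocallyOfFinitePresentation f] [IsSeparated f] [LocallyQuasiFinite f] (n : ℕ)
    (hn : ∀ (K : Type u) [Field K] (g : Spec (CommRingCat.of K) ⟶ S),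
      (letI := ((Scheme.ΓSpecIso (CommRingCat.of K)).inv ≫ (pullback.snd f g).appTop).hom.toAlgebra
      Module.rank K (Γ(pullback f g, ⊤) : Type u)) ≤ (n : Cardinal.{u})) :
    ∃ deg : ↑S → ℕ, (∀ s, deg s ≤ n) ∧ (∀ r : ℕ, IsClosed {s : ↑S | deg s ≤ r}) ∧
      ∀ (T : Scheme.{u}) (g : T ⟶ S) (r : ℕ),
        Mor2.IsFinLocFreeOfDeg r (pullback.snd f g) ↔ ∀ t : T, deg (g t) = r := by
  have hbd : ∀ s d, DegGE f s d → d ≤ n := by
    intro s d hd
    have h1 := hn (S.residueField s) (S.fromSpecResidueField s)
    have h2 : (d : Cardinal.{u}) ≤ (n : Cardinal.{u}) := le_trans hd h1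
    exact_mod_cast h2
  have hiff : ∀ s d, DegGE f s d ↔ d ≤ Nat.findGreatest (fun d => DegGE f s d) n := fun s d =>
    iff_le_findGreatest (fun d => DegGE f s d) n (DegGE.zero f s)
      (fun d d' hdd hd => hd.mono hdd) (hbd s) d
  refine ⟨fun s => Nat.findGreatest (fun d => DegGE f s d) n, fun s => Nat.findGreatest_le n, ?_, ?_⟩
  · intro r
    have : {s : ↑S | Nat.findGreatest (fun d => DegGE f s d) n ≤ r} = {s | DegGE f s (r + 1)}ᶜ := by
      ext s
      simp only [Set.mem_ofPred_eq, Set.mem_compl_iff]
      rw [hiff s (r + 1)]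
      omega
    rw [this]
    exact (isOpen_degGE f (r + 1)).isClosed_compl
  · intro T g r
    constructor
    · rintro ⟨⟨hfin, hflat, hlfp⟩, hrank⟩ t
      have h1 := degGE_iff_le_finrank_of_isFinite (pullback.snd f g) t
      have h2 : ∀ d, d ≤ Nat.findGreatest (fun d => DegGE f (g t) d) n ↔ d ≤ r := by
        intro d
        rw [← hiff, ← degGE_pullback_snd_iff, h1, hrank]
      apply le_antisymm
      · exact (h2 _).mp le_rfl
      · exact (h2 _).mpr le_rfl
    · intro h
      apply isFinLocFreeOfDeg_of_degree_const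
      intro t d
      have ht : Nat.findGreatest (fun d => DegGE f (g t) d) n = r := h t
      rw [degGE_pullback_snd_iff, hiff, ht]

end Part11

end Groth.Agent.Lib.FibDeg6
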