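/-
helper6: algebra and geometry for S1480 (EGA IV 18.5-type statement: a nonzero function on a flat,
locally finitely presented, locally quasi-finite scheme lies, locally, in the image of an injective
map `F^r → O_X(V)` for an ideal `F`).

* `final_general`: the flatness/annihilator argument.
* `finite_of_degree_const`: constancy of the fibre degree gives finite locally free (ring version).
* `ring_main`: ring-level statement; `main`: scheme-level statement.
-/
import Mathlib
import Groth.Agent.Lib.FibDeg6b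
import Groth.Agent.S7441

set_option autoImplicit false
set_option linter.style.haveILetI false
universe u

namespace Groth.Agent.Lib.FibDegAlg6

section Part1

open Module

/-- Flatness and annihilators of finitely many elements: if `x • g = 0` for all `x` in a finite
set `s`, then `g` is a combination of elements with coefficients annihilated by `s`. -/
theorem exists_sum_smul_of_forall_smul_eq_zero {A B : Type*} [CommRing A] [AddCommGroup B]
    [Module A B] [Module.Flat A B] (s : Finset A) (g : B) (h : ∀ x ∈ s, x • g = 0) :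
    ∃ (k : ℕ) (c : Fin k → A) (z : Fin k → B), g = ∑ j, c j • z j ∧ ∀ j, ∀ x ∈ s, x * c j = 0 := by
  classical
  induction s using Finset.induction_on with
  | empty => exact ⟨1, fun _ => 1, fun _ => g, by simp, by simp⟩
  | insert x s hx ih =>
    obtain ⟨k, c, z, hg, hc⟩ := ih (fun y hy => h y (Finset.mem_insert_of_mem hy))
    have hx0 : x • g = 0 := h x (Finset.mem_insert_self x s)
    have hrel : ∑ j, (x * c j) • z j = 0 := by
      rw [← hx0, hg, Finset.smul_sum]
      simp [mul_smul]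
    obtain ⟨k', a, y, hz, ha⟩ := Flat.isTrivialRelation_of_sum_smul_eq_zero hrel
    refine ⟨k', fun l => ∑ j, c j * a j l, y, ?_, ?_⟩
    · rw [hg]
      simp_rw [hz, Finset.smul_sum, Finset.sum_smul, smul_smul]
      rw [Finset.sum_comm]
    · intro l w hw
      rcases Finset.mem_insert.mp hw with rfl | hw
      · rw [Finset.mul_sum]
        rw [← ha l]
        exact Finset.sum_congr rfl fun j _ => by ring
      · rw [Finset.mul_sum]
        apply Finset.sum_eq_zero
        intro j _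
        rw [← mul_assoc, hc j w hw, zero_mul]

end Part1

section Part2

open Module

variable {A B : Type*} [CommRing A] [CommRing B] [Algebra A B]

theorem smul_eq_zero_of_mem_annihilator_of_mem_map (I : Ideal A) {a : A}
    (ha : a ∈ Submodule.annihilator (I : Submodule A A)) {y : B}
    (hy : y ∈ I.map (algebraMap A B)) : a • y = 0 := by
  rw [Ideal.map] at hy
  induction hy using Submodule.span_induction with
  | mem y hy =>
    obtain ⟨x, hx, rfl⟩ := hy
    rw [Algebra.smul_def, ← map_mul]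
    have : a * x = 0 := (Submodule.mem_annihilator.mp ha) x hx
    rw [this, map_zero]
  | zero => simp
  | add y z _ _ hy hz => rw [smul_add, hy, hz, add_zero]
  | smul b y _ hy => rw [smul_comm, hy, smul_zero]

/-- The final step for S1480, finitely generated version. -/
theorem final_of_fg [Module.Flat A B] (g : B) (s : Finset A) (hs : ∀ x ∈ s, x • g = 0) (r : ℕ)
    (e : Fin r → B)
    (hgen : ∀ b : B, ∃ c : Fin r → A,
      b - ∑ i, c i • e i ∈ (Ideal.span (s : Set A)).map (algebraMap A B))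
    (hind : ∀ c : Fin r → A, ∑ i, c i • e i ∈ (Ideal.span (s : Set A)).map (algebraMap A B) →
      ∀ i, c i ∈ Ideal.span (s : Set A)) :
    ∃ (F : Ideal A) (φ : (Fin r → F) →ₗ[A] B), Function.Injective φ ∧ g ∈ LinearMap.range φ := by
  classical
  set I : Ideal A := Ideal.span (s : Set A) with hI
  let F : Ideal A := Submodule.annihilator (I : Submodule A A)
  have hF : ∀ a : A, a ∈ F ↔ ∀ x ∈ s, x * a = 0 := by
    intro a
    change a ∈ Submodule.annihilator (Submodule.span A (s : Set A)) ↔ _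
    rw [Submodule.mem_annihilator_span]
    constructor
    · intro h x hx
      have := h ⟨x, hx⟩
      rw [mul_comm]; exact this
    · intro h x
      have := h x.1 x.2
      rw [smul_eq_mul, mul_comm]; exact this
  let φ : (Fin r → F) →ₗ[A] B :=
    (Fintype.linearCombination A e) ∘ₗ ((Submodule.subtype F).compLeft (Fin r))
  have hφ : ∀ c : Fin r → F, φ c = ∑ i, (c i : A) • e i := by
    intro c
    simp [φ, Fintype.linearCombination_apply]
  refine ⟨F, φ, ?_, ?_⟩
  · -- injectivity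
    rw [← LinearMap.ker_eq_bot, LinearMap.ker_eq_bot']
    intro c hc
    rw [hφ] at hc
    obtain ⟨k, a, y, hey, hca⟩ := Flat.isTrivialRelation_of_sum_smul_eq_zero (R := A) (M := B)
      (f := fun i => (c i : A)) (x := e) hc
    choose d hd using fun j => hgen (y j)
    -- the matrix `E = a d - 1` has entries in `I`
    have hE : ∀ i l, (∑ j, a i j * d j l) - (if i = l then 1 else 0) ∈ I := by
      intro i
      apply hind
      have h1 : e i = ∑ j, a i j • y j := hey i
      have h2 : ∑ l, ((∑ j, a i j * d j l) - (if i = l then 1 else 0)) • e l =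
          - ∑ j, a i j • (y j - ∑ l, d j l • e l) := by
        simp_rw [sub_smul, Finset.sum_sub_distrib, smul_sub, Finset.sum_sub_distrib, neg_sub]
        have h3 : ∑ l, (if i = l then (1 : A) else 0) • e l = e i := by
          simp
        rw [h3, h1]
        congr 1
        simp_rw [Finset.sum_smul, Finset.smul_sum, smul_smul]
        rw [Finset.sum_comm]
      rw [h2]
      refine neg_mem (Ideal.sum_mem _ fun j _ => ?_)
      rw [Algebra.smul_def]
      exact Ideal.mul_mem_left _ _ (hd j)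
    funext l
    apply Subtype.ext
    change (c l : A) = 0
    have h4 : ∑ i, (c i : A) * ((∑ j, a i j * d j l) - (if i = l then 1 else 0)) = 0 := by
      apply Finset.sum_eq_zero
      intro i _
      have := (Submodule.mem_annihilator.mp (c i).2) _ (hE i l)
      simpa [smul_eq_mul] using this
    have h5 : ∑ i, (c i : A) * (∑ j, a i j * d j l) = 0 := by
      simp_rw [Finset.mul_sum, ← mul_assoc]
      rw [Finset.sum_comm]
      apply Finset.sum_eq_zero
      intro j _
      rw [← Finset.sum_mul, hca j, zero_mul]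
    simp_rw [mul_sub, Finset.sum_sub_distrib] at h4
    rw [h5, zero_sub, neg_eq_zero] at h4
    simpa using h4
  · -- membership
    obtain ⟨k, c', z, hg, hc'⟩ := exists_sum_smul_of_forall_smul_eq_zero s g hs
    have hc'F : ∀ j, c' j ∈ F := fun j => (hF _).mpr (hc' j)
    choose d hd using fun j => hgen (z j)
    refine ⟨fun i => ⟨∑ j, c' j * d j i, Ideal.sum_mem _ fun j _ => Ideal.mul_mem_right _ _ (hc'F j)⟩, ?_⟩
    rw [hφ, hg]
    have h6 : ∀ j, c' j • z j = c' j • ∑ i, d j i • e i := by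
      intro j
      have := smul_eq_zero_of_mem_annihilator_of_mem_map I (hc'F j) (hd j)
      rw [smul_sub, sub_eq_zero] at this
      exact this
    simp_rw [h6, Finset.sum_smul, Finset.smul_sum, smul_smul]
    rw [Finset.sum_comm]

end Part2

section Part3

open Module

variable {A B : Type*} [CommRing A] [CommRing B] [Algebra A B]

theorem exists_finset_of_mem_map (J : Ideal A) {y : B} (hy : y ∈ J.map (algebraMap A B)) :
    ∃ T : Finset A, (∀ x ∈ T, x ∈ J) ∧ y ∈ (Ideal.span (T : Set A)).map (algebraMap A B) := by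
  classical
  rw [Ideal.map] at hy
  induction hy using Submodule.span_induction with
  | mem y hy =>
    obtain ⟨x, hx, rfl⟩ := hy
    exact ⟨{x}, by simpa using hx, Ideal.mem_map_of_mem _ (Ideal.subset_span (by simp))⟩
  | zero => exact ⟨∅, by simp, Ideal.zero_mem _⟩
  | add y z _ _ hy hz =>
    obtain ⟨T, hT, hyT⟩ := hy
    obtain ⟨T', hT', hzT⟩ := hz
    refine ⟨T ∪ T', fun x hx => ?_, ?_⟩
    · rcases Finset.mem_union.mp hx with h | h
      exacts [hT x h, hT' x h]
    · refine Ideal.add_mem _ (Ideal.map_mono (Ideal.span_mono ?_) hyT)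
        (Ideal.map_mono (Ideal.span_mono ?_) hzT)
      · exact_mod_cast Finset.subset_union_left
      · exact_mod_cast Finset.subset_union_right
  | smul b y _ hy =>
    obtain ⟨T, hT, hyT⟩ := hy
    exact ⟨T, hT, Ideal.mul_mem_left _ _ hyT⟩

/-- Step F1: generation modulo a finitely generated subideal. -/
theorem exists_finset_gen [Algebra.FiniteType A B] (J : Ideal A) (r : ℕ) (e : Fin r → B)
    (hgen : ∀ b : B, ∃ c : Fin r → A, b - ∑ i, c i • e i ∈ J.map (algebraMap A B)) :
    ∃ T₀ : Finset A, (∀ x ∈ T₀, x ∈ J) ∧ ∀ b : B, ∃ c : Fin r → A,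
      b - ∑ i, c i • e i ∈ (Ideal.span (T₀ : Set A)).map (algebraMap A B) := by
  classical
  obtain ⟨s, hs⟩ := Algebra.FiniteType.out (R := A) (A := B)
  choose c hc using hgen
  choose T hTJ hT using fun b => exists_finset_of_mem_map J (hc b)
  let W : Finset B := {1} ∪ (s ×ˢ Finset.univ).image (fun p : B × Fin r => p.1 * e p.2) ∪
    (Finset.univ ×ˢ Finset.univ).image (fun p : Fin r × Fin r => e p.1 * e p.2)
  let T₀ : Finset A := W.biUnion T
  have hT₀J : ∀ x ∈ T₀, x ∈ J := by
    intro x hx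
    obtain ⟨w, -, hxw⟩ := Finset.mem_biUnion.mp hx
    exact hTJ w x hxw
  refine ⟨T₀, hT₀J, ?_⟩
  set 𝔞 : Ideal B := (Ideal.span (T₀ : Set A)).map (algebraMap A B) with h𝔞
  have hW : ∀ w ∈ W, w - ∑ i, c w i • e i ∈ 𝔞 := by
    intro w hw
    refine Ideal.map_mono (Ideal.span_mono ?_) (hT w)
    intro x hx
    exact Finset.mem_biUnion.mpr ⟨w, hw, hx⟩
  let mk : B →ₐ[A] B ⧸ 𝔞 := Ideal.Quotient.mkₐ A 𝔞
  let N : Submodule A (B ⧸ 𝔞) := Submodule.span A (Set.range fun i => mk (e i))
  have hWN : ∀ w ∈ W, mk w ∈ N := by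
    intro w hw
    have h1 : mk w = ∑ i, c w i • mk (e i) := by
      have := (Ideal.Quotient.eq (I := 𝔞)).mpr (hW w hw)
      change mk w = mk (∑ i, c w i • e i) at this
      rw [this, map_sum]
      simp
    rw [h1]
    exact Submodule.sum_mem _ fun i _ => Submodule.smul_mem _ _ (Submodule.subset_span ⟨i, rfl⟩)
  have h1N : (1 : B ⧸ 𝔞) ∈ N := by
    have := hWN 1 (by simp [W])
    simpa using this
  have hmulN : N * N ≤ N := by
    rw [Submodule.span_mul_span, Submodule.span_le]
    rintro _ ⟨_, ⟨i, rfl⟩, _, ⟨j, rfl⟩, rfl⟩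
    have := hWN (e i * e j) (by
      simp only [W, Finset.mem_union, Finset.mem_image, Finset.mem_product, Finset.mem_univ,
        true_and, Prod.exists]
      exact Or.inr ⟨i, j, rfl⟩)
    simpa using this
  let S' : Subalgebra A (B ⧸ 𝔞) := N.toSubalgebra h1N
    (fun x y hx hy => hmulN (Submodule.mul_mem_mul hx hy))
  have hsS : ∀ b ∈ s, mk b ∈ S' := by
    intro b hb
    change mk b ∈ N
    have h1 : mk b = ∑ i, c 1 i • mk (b * e i) := by
      have := (Ideal.Quotient.eq (I := 𝔞)).mpr (hW 1 (by simp [W]))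
      change mk 1 = mk (∑ i, c 1 i • e i) at this
      have h2 : mk b = mk b * mk 1 := by simp
      rw [h2, this, map_sum, Finset.mul_sum]
      refine Finset.sum_congr rfl fun i _ => ?_
      rw [map_smul, map_mul, mul_smul_comm]
    rw [h1]
    refine Submodule.sum_mem _ fun i _ => Submodule.smul_mem _ _ (hWN _ ?_)
    simp only [W, Finset.mem_union, Finset.mem_image, Finset.mem_product, Finset.mem_univ,
      and_true, Prod.exists]
    exact Or.inl (Or.inr ⟨b, i, hb, rfl⟩)
  have htop : S' = ⊤ := by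
    rw [eq_top_iff]
    have h3 : (⊤ : Subalgebra A (B ⧸ 𝔞)) = Subalgebra.map mk ⊤ := by
      rw [Algebra.map_top, eq_comm, AlgHom.range_eq_top]
      exact Ideal.Quotient.mkₐ_surjective A 𝔞
    rw [h3, ← hs, AlgHom.map_adjoin, Algebra.adjoin_le_iff]
    rintro _ ⟨b, hb, rfl⟩
    exact hsS b hb
  intro b
  have hb : mk b ∈ N := by
    have : mk b ∈ S' := by rw [htop]; trivial
    exact this
  obtain ⟨c', hc'⟩ := (Submodule.mem_span_range_iff_exists_fun A).mp hb
  refine ⟨c', ?_⟩
  apply (Ideal.Quotient.eq (I := 𝔞)).mp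
  change mk b = mk (∑ i, c' i • e i)
  rw [← hc', map_sum]
  simp

end Part3

section Part4

open Module

variable {A B : Type*} [CommRing A] [CommRing B] [Algebra A B]

/-- Step F2: freeness modulo a finitely generated subideal. -/
theorem exists_finset_free [Algebra.FinitePresentation A B] (J : Ideal A) (r : ℕ) (e : Fin r → B)
    (hind : ∀ c : Fin r → A, ∑ i, c i • e i ∈ J.map (algebraMap A B) → ∀ i, c i ∈ J)
    (T₀ : Finset A) (hT₀J : ∀ x ∈ T₀, x ∈ J)
    (hgen₀ : ∀ b : B, ∃ c : Fin r → A,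
      b - ∑ i, c i • e i ∈ (Ideal.span (T₀ : Set A)).map (algebraMap A B)) :
    ∃ T₁ : Finset A, T₀ ⊆ T₁ ∧ (∀ x ∈ T₁, x ∈ J) ∧ ∀ c : Fin r → A,
      ∑ i, c i • e i ∈ (Ideal.span (T₁ : Set A)).map (algebraMap A B) →
        ∀ i, c i ∈ Ideal.span (T₁ : Set A) := by
  classical
  set 𝔞 : Ideal B := (Ideal.span (T₀ : Set A)).map (algebraMap A B) with h𝔞
  have h𝔞J : 𝔞 ≤ J.map (algebraMap A B) :=
    Ideal.map_mono (Ideal.span_le.mpr fun x hx => hT₀J x hx)
  let mk : B →ₐ[A] B ⧸ 𝔞 := Ideal.Quotient.mkₐ A 𝔞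
  let ψ : (Fin r → A) →ₗ[A] B ⧸ 𝔞 := Fintype.linearCombination A (fun i => mk (e i))
  have hψ : ∀ c : Fin r → A, ψ c = mk (∑ i, c i • e i) := by
    intro c
    simp [ψ, Fintype.linearCombination_apply, map_sum]
  have hψ0 : ∀ c : Fin r → A, ψ c = 0 ↔ ∑ i, c i • e i ∈ 𝔞 := by
    intro c
    rw [hψ]
    exact Ideal.Quotient.eq_zero_iff_mem
  have hsurj : Function.Surjective ψ := by
    intro q
    obtain ⟨b, rfl⟩ := Ideal.Quotient.mkₐ_surjective A 𝔞 q
    obtain ⟨c, hc⟩ := hgen₀ b
    refine ⟨c, ?_⟩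
    rw [hψ]
    exact ((Ideal.Quotient.eq (I := 𝔞)).mpr hc).symm
  have hfin : Module.Finite A (B ⧸ 𝔞) := Module.Finite.of_surjective ψ hsurj
  have h𝔞fg : 𝔞.FG := Ideal.FG.map ⟨T₀, rfl⟩ _
  have hfp : Algebra.FinitePresentation A (B ⧸ 𝔞) := Algebra.FinitePresentation.quotient h𝔞fg
  have hmfp : Module.FinitePresentation A (B ⧸ 𝔞) :=
    Module.FinitePresentation.of_finite_of_finitePresentation A (B ⧸ 𝔞)
  obtain ⟨t, ht⟩ := Module.FinitePresentation.fg_ker ψ hsurj
  let T₁ : Finset A := T₀ ∪ (t ×ˢ Finset.univ).image (fun p : (Fin r → A) × Fin r => p.1 p.2)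
  have hKJ : ∀ k ∈ LinearMap.ker ψ, ∀ i, k i ∈ J := by
    intro k hk
    exact hind k (h𝔞J ((hψ0 k).mp hk))
  have hT₁J : ∀ x ∈ T₁, x ∈ J := by
    intro x hx
    rcases Finset.mem_union.mp hx with h | h
    · exact hT₀J x h
    · obtain ⟨⟨k, i⟩, hki, rfl⟩ := Finset.mem_image.mp h
      have hk : k ∈ LinearMap.ker ψ := by
        rw [← ht]; exact Submodule.subset_span (Finset.mem_product.mp hki).1
      exact hKJ k hk i
  refine ⟨T₁, Finset.subset_union_left, hT₁J, ?_⟩
  set I₁ : Ideal A := Ideal.span (T₁ : Set A) with hI₁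
  have h𝔞I₁ : 𝔞 ≤ I₁.map (algebraMap A B) :=
    Ideal.map_mono (Ideal.span_mono (by exact_mod_cast Finset.subset_union_left))
  -- the kernel has coordinates in `I₁`
  have hKI₁ : ∀ k ∈ LinearMap.ker ψ, ∀ i, k i ∈ I₁ := by
    intro k hk
    rw [← ht] at hk
    induction hk using Submodule.span_induction with
    | mem k hk =>
      intro i
      apply Ideal.subset_span
      refine Finset.mem_union_right _ (Finset.mem_image.mpr ⟨(k, i), ?_, rfl⟩)
      exact Finset.mem_product.mpr ⟨hk, Finset.mem_univ _⟩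
    | zero => intro i; exact Ideal.zero_mem _
    | add k k' _ _ hk hk' => intro i; exact Ideal.add_mem _ (hk i) (hk' i)
    | smul a k _ hk => intro i; exact Ideal.mul_mem_left _ _ (hk i)
  -- description of `I₁ B`
  have hP : ∀ b ∈ I₁.map (algebraMap A B), ∃ c' : Fin r → A, (∀ i, c' i ∈ I₁) ∧
      b - ∑ i, c' i • e i ∈ 𝔞 := by
    intro b hb
    rw [Ideal.map] at hb
    induction hb using Submodule.span_induction with
    | mem b hb =>
      obtain ⟨x, hx, rfl⟩ := hb
      obtain ⟨d, hd⟩ := hgen₀ 1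
      refine ⟨fun i => x * d i, fun i => Ideal.mul_mem_right _ _ hx, ?_⟩
      have : algebraMap A B x - ∑ i, (x * d i) • e i = x • (1 - ∑ i, d i • e i) := by
        rw [smul_sub, Finset.smul_sum, Algebra.smul_def, mul_one]
        simp_rw [smul_smul]
      rw [this, Algebra.smul_def]
      exact Ideal.mul_mem_left _ _ hd
    | zero => exact ⟨0, fun i => Ideal.zero_mem _, by simp⟩
    | add b b' _ _ hb hb' =>
      obtain ⟨c', hc', h1⟩ := hb
      obtain ⟨c'', hc'', h2⟩ := hb'
      refine ⟨c' + c'', fun i => Ideal.add_mem _ (hc' i) (hc'' i), ?_⟩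
      have : b + b' - ∑ i, (c' + c'') i • e i =
          (b - ∑ i, c' i • e i) + (b' - ∑ i, c'' i • e i) := by
        simp only [Pi.add_apply, add_smul, Finset.sum_add_distrib]
        ring
      rw [this]
      exact Ideal.add_mem _ h1 h2
    | smul β b _ hb =>
      obtain ⟨c', hc', h1⟩ := hb
      choose d hd using fun i => hgen₀ (β * e i)
      refine ⟨fun k => ∑ i, c' i * d i k, fun k => Ideal.sum_mem _ fun i _ =>
        Ideal.mul_mem_right _ _ (hc' i), ?_⟩
      have : β • b - ∑ k, (∑ i, c' i * d i k) • e k =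
          β * (b - ∑ i, c' i • e i) + ∑ i, c' i • (β * e i - ∑ k, d i k • e k) := by
        simp_rw [smul_eq_mul, mul_sub, smul_sub, Finset.sum_sub_distrib, Finset.mul_sum,
          Finset.sum_smul, Finset.smul_sum, smul_smul, mul_smul_comm]
        rw [Finset.sum_comm]
        ring
      rw [this]
      refine Ideal.add_mem _ (Ideal.mul_mem_left _ _ h1) (Ideal.sum_mem _ fun i _ => ?_)
      rw [Algebra.smul_def]
      exact Ideal.mul_mem_left _ _ (hd i)
  intro c hc i
  obtain ⟨c', hc', h1⟩ := hP _ hc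
  have hk : c - c' ∈ LinearMap.ker ψ := by
    rw [LinearMap.mem_ker, hψ0]
    have : ∑ i, (c - c') i • e i = ∑ i, c i • e i - ∑ i, c' i • e i := by
      simp only [Pi.sub_apply, sub_smul, Finset.sum_sub_distrib]
    rw [this]; exact h1
  have := hKI₁ _ hk i
  have h2 : c i = (c - c') i + c' i := by simp
  rw [h2]
  exact Ideal.add_mem _ this (hc' i)

/-- **Final algebraic step for S1480.** -/
theorem final_general [Module.Flat A B] [Algebra.FinitePresentation A B] (g : B) (J : Ideal A)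
    (hJ : ∀ x ∈ J, x • g = 0) (r : ℕ) (e : Fin r → B)
    (hgen : ∀ b : B, ∃ c : Fin r → A, b - ∑ i, c i • e i ∈ J.map (algebraMap A B))
    (hind : ∀ c : Fin r → A, ∑ i, c i • e i ∈ J.map (algebraMap A B) → ∀ i, c i ∈ J) :
    ∃ (F : Ideal A) (φ : (Fin r → F) →ₗ[A] B), Function.Injective φ ∧ g ∈ LinearMap.range φ := by
  obtain ⟨T₀, hT₀J, hgen₀⟩ := exists_finset_gen J r e hgen
  obtain ⟨T₁, hT₀₁, hT₁J, hind₁⟩ := exists_finset_free J r e hind T₀ hT₀J hgen₀
  refine final_of_fg g T₁ (fun x hx => hJ x (hT₁J x hx)) r e ?_ hind₁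
  intro b
  obtain ⟨c, hc⟩ := hgen₀ b
  exact ⟨c, Ideal.map_mono (Ideal.span_mono (by exact_mod_cast hT₀₁)) hc⟩

end Part4

section Part5

open AlgebraicGeometry CategoryTheory Limits Groth.Agent.Lib.FibDeg6

/-- abstract-square version of the base change compatibility of the degree -/
theorem degGE_snd_iff_of_isPullback {P X S T : Scheme.{u}} {fst : P ⟶ X} {snd : P ⟶ T} {f : X ⟶ S}
    {g : T ⟶ S} [LocallyQuasiFinite f] (H : IsPullback fst snd f g) (t : T) (d : ℕ) :
    DegGE snd t d ↔ DegGE f (g t) d := by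
  let γ := T.fromSpecResidueField t
  have H1 := IsPullback.of_hasPullback snd γ
  have Hbig : IsPullback (pullback.fst snd γ ≫ fst) (pullback.snd snd γ) f (γ ≫ g) :=
    H1.paste_horiz H
  have hpt : (γ ≫ g) (IsLocalRing.closedPoint (T.residueField t)) = g t :=
    congrArg g (fromSpecResidueField_closedPoint t)
  have key := le_sdeg_iff_degGE f (T.residueField t) Hbig d
  rw [hpt] at key
  exact key

section Dict

variable (A B : Type u) [CommRing A] [CommRing B] [Algebra A B]

/-- the morphism of spectra of an algebra -/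
noncomputable def sm : Spec (CommRingCat.of B) ⟶ Spec (CommRingCat.of A) :=
  Spec.map (CommRingCat.ofHom (algebraMap A B))

instance sm_flat [Module.Flat A B] : Flat (sm A B) :=
  (HasRingHomProperty.Spec_iff (P := @Flat)).mpr (RingHom.flat_algebraMap_iff.mpr inferInstance)

instance sm_lfp [Algebra.FinitePresentation A B] : LocallyOfFinitePresentation (sm A B) :=
  (HasRingHomProperty.Spec_iff (P := @LocallyOfFinitePresentation)).mpr
    (RingHom.finitePresentation_algebraMap.mpr inferInstance)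

instance sm_lqf [Algebra.QuasiFinite A B] : LocallyQuasiFinite (sm A B) :=
  (HasRingHomProperty.Spec_iff (P := @LocallyQuasiFinite)).mpr
    (RingHom.quasiFinite_algebraMap.mpr inferInstance)

instance sm_sep : IsSeparated (sm A B) := by
  unfold sm; infer_instance

theorem exists_bound [Algebra.FinitePresentation A B] [Algebra.QuasiFinite A B] :
    ∃ n : ℕ, ∀ (s : ↥(Spec (CommRingCat.of A))) (d : ℕ), DegGE (sm A B) s d → d ≤ n := by
  obtain ⟨n, hn⟩ := Groth.Agent.S7441.result (sm A B)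
  refine ⟨n, fun s d hd => ?_⟩
  obtain ⟨-, hfin, hrk⟩ := hn s
  letI : Algebra ((Spec (CommRingCat.of A)).residueField s) Γ((sm A B).fiber s, ⊤) :=
    BddFib.secAlgebra _ ((sm A B).fiberToSpecResidueField s)
  have h1 : (d : Cardinal.{u}) ≤ Module.rank ((Spec (CommRingCat.of A)).residueField s)
      Γ((sm A B).fiber s, ⊤) := hd
  rw [← Module.finrank_eq_rank] at h1
  have h2 : d ≤ Module.finrank ((Spec (CommRingCat.of A)).residueField s)
      Γ((sm A B).fiber s, ⊤) := by exact_mod_cast h1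
  exact h2.trans hrk

theorem degGE_one_of_mem_range [Algebra.QuasiFinite A B] (x : ↥(Spec (CommRingCat.of B))) :
    DegGE (sm A B) ((sm A B) x) 1 := by
  have hne : Nonempty ((sm A B).fiber ((sm A B) x)) := ⟨(sm A B).asFiber x⟩
  have hne' : Nonempty ↥(⊤ : ((sm A B).fiber ((sm A B) x)).Opens) := ⟨⟨(sm A B).asFiber x, trivial⟩⟩
  have hnt : Nontrivial Γ((sm A B).fiber ((sm A B) x), ⊤) := inferInstance
  have hnt' : Nontrivial (Sec ((Spec (CommRingCat.of A)).residueField ((sm A B) x))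
      ((sm A B).fiberToSpecResidueField ((sm A B) x))) := hnt
  change ((1 : ℕ) : Cardinal.{u}) ≤ Module.rank _ _
  rw [Nat.cast_one, Cardinal.one_le_iff_pos]
  exact rank_pos_iff_nontrivial.mpr hnt'

end Dict

end Part5

section Part6

open AlgebraicGeometry CategoryTheory Limits Groth.Agent.Lib.FibDeg6 TensorProduct

section BC

variable (A B : Type u) [CommRing A] [CommRing B] [Algebra A B]
variable (R : Type u) [CommRing R] [Algebra A R]

theorem isPullback_sm :
    IsPullback (Spec.map (CommRingCat.ofHom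
        (Algebra.TensorProduct.includeRight : B →ₐ[A] R ⊗[A] B).toRingHom))
      (sm R (R ⊗[A] B)) (sm A B) (sm A R) := by
  have h := (isPullback_SpecMap_of_isPushout _ _ _ _ (CommRingCat.isPushout_tensorProduct A R B)).flip
  exact h

/-- **Finiteness and rank from constancy of the fibre degree** (ring version). -/
theorem finite_of_degree_const [Module.Flat A B] [Algebra.FinitePresentation A B]
    [Algebra.QuasiFinite A B] (r : ℕ)
    (h : ∀ (q : ↥(Spec (CommRingCat.of R))) (d : ℕ), DegGE (sm A B) ((sm A R) q) d ↔ d ≤ r) :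
    Module.Finite R (R ⊗[A] B) ∧
      ∀ q : PrimeSpectrum R, Module.rankAtStalk (R := R) (R ⊗[A] B) q = r := by
  have h' : ∀ (s : ↥(Spec (CommRingCat.of R))) (d : ℕ), DegGE (sm R (R ⊗[A] B)) s d ↔ d ≤ r := by
    intro s d
    rw [degGE_snd_iff_of_isPullback (isPullback_sm A B R) s d]
    exact h s d
  obtain ⟨⟨hfin, -, -⟩, hrk⟩ := isFinLocFreeOfDeg_of_degree_const (sm R (R ⊗[A] B)) r h'
  have hfin' : Module.Finite R (R ⊗[A] B) := by
    have h1 : (CommRingCat.ofHom (algebraMap R (R ⊗[A] B))).hom.Finite :=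
      (IsFinite.SpecMap_iff _).mp hfin
    exact RingHom.finite_algebraMap.mp h1
  refine ⟨hfin', fun q => ?_⟩
  rw [← Scheme.Hom.finrank_SpecMap_algebraMap R (R ⊗[A] B) q]
  exact hrk q

end BC

end Part6

section Part7

open TensorProduct

/-- local freeness near a prime, with the rank -/
theorem exists_free_away (R₀ M₀ : Type u) [CommRing R₀] [AddCommGroup M₀] [Module R₀ M₀]
    [Module.Finite R₀ M₀] [Module.FinitePresentation R₀ M₀] [Module.Flat R₀ M₀] (r : ℕ)
    (hrk : ∀ q : PrimeSpectrum R₀, Module.rankAtStalk (R := R₀) M₀ q = r) (p : PrimeSpectrum R₀) :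
    ∃ f : R₀, f ∉ p.asIdeal ∧ Nontrivial (Localization.Away f) ∧
      Nonempty (Module.Basis (Fin r) (Localization.Away f) (LocalizedModule.Away f M₀)) := by
  have hfree : Module.Free (Localization.AtPrime p.asIdeal)
      (LocalizedModule p.asIdeal.primeCompl M₀) := Module.free_of_flat_of_isLocalRing
  obtain ⟨f, hf, hfree', hfr⟩ := Module.FinitePresentation.exists_free_localizedModule_powers
    p.asIdeal.primeCompl (LocalizedModule.mkLinearMap p.asIdeal.primeCompl M₀)
    (Localization.AtPrime p.asIdeal)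
  have hnt : Nontrivial (Localization.Away f) :=
    (show Localization (.powers f) →+* Localization.AtPrime p.asIdeal from
      IsLocalization.map (M := .powers f) (T := p.asIdeal.primeCompl) _
        (RingHom.id _) (Submonoid.powers_le.mpr hf)).domain_nontrivial
  refine ⟨f, hf, hnt, ?_⟩
  have h1 : Module.finrank (Localization.AtPrime p.asIdeal)
      (LocalizedModule p.asIdeal.primeCompl M₀) = r := hrk p
  rw [h1] at hfr
  have : Module.Finite (Localization (Submonoid.powers f)) (LocalizedModule.Away f M₀) :=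
    Module.Finite.of_isLocalizedModule (Submonoid.powers f)
      (LocalizedModule.mkLinearMap (Submonoid.powers f) M₀)
  exact ⟨Module.finBasisOfFinrankEq _ _ hfr⟩

section BC

variable (A B : Type u) [CommRing A] [CommRing B] [Algebra A B]

/-- the base change of `B` to `R` is free of rank `r` -/
def FreeBC (R : Type u) [CommRing R] [Algebra A R] (r : ℕ) : Prop :=
  Nonempty (Module.Basis (Fin r) R (R ⊗[A] B))

variable {A B}

theorem FreeBC.of_isBaseChange {R : Type u} [CommRing R] [Algebra A R] {r : ℕ}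
    {N : Type u} [AddCommGroup N] [Module A N] [Module R N] [IsScalarTower A R N]
    {φ : B →ₗ[A] N} (hφ : IsBaseChange R φ) (b : Module.Basis (Fin r) R N) : FreeBC A B R r :=
  ⟨b.map hφ.equiv.symm⟩

theorem FreeBC.basis_of_isBaseChange {R : Type u} [CommRing R] [Algebra A R] {r : ℕ}
    (h : FreeBC A B R r)
    {N : Type u} [AddCommGroup N] [Module A N] [Module R N] [IsScalarTower A R N]
    {φ : B →ₗ[A] N} (hφ : IsBaseChange R φ) : Nonempty (Module.Basis (Fin r) R N) := by
  obtain ⟨b⟩ := h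
  exact ⟨b.map hφ.equiv⟩

theorem FreeBC.baseChange {R : Type u} [CommRing R] [Algebra A R] {r : ℕ}
    (h : FreeBC A B R r) (R' : Type u) [CommRing R'] [Algebra A R'] [Algebra R R']
    [IsScalarTower A R R'] : FreeBC A B R' r := by
  obtain ⟨b⟩ := h
  exact ⟨(b.baseChange R').map (AlgebraTensorModule.cancelBaseChange A R R' R' B)⟩

end BC

/-- from a basis of the reduction mod `J` to the hypotheses of `final_general` -/
theorem hgen_hind_of_basis {A' B' : Type u} [CommRing A'] [CommRing B'] [Algebra A' B']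
    (J : Ideal A') (r : ℕ) (t : Module.Basis (Fin r) (A' ⧸ J) ((A' ⧸ J) ⊗[A'] B')) :
    ∃ e : Fin r → B',
      (∀ b : B', ∃ c : Fin r → A', b - ∑ i, c i • e i ∈ J.map (algebraMap A' B')) ∧
      (∀ c : Fin r → A', ∑ i, c i • e i ∈ J.map (algebraMap A' B') → ∀ i, c i ∈ J) := by
  let π : B' →ₗ[A'] (A' ⧸ J) ⊗[A'] B' := TensorProduct.mk A' (A' ⧸ J) B' 1
  have hπ : ∀ b, π b = (1 : A' ⧸ J) ⊗ₜ[A'] b := fun b => rfl
  have hsurj : ∀ y : (A' ⧸ J) ⊗[A'] B', ∃ b, π b = y := by
    intro y
    induction y using TensorProduct.induction_on with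
    | zero => exact ⟨0, map_zero _⟩
    | tmul q b =>
      obtain ⟨x, rfl⟩ := Ideal.Quotient.mk_surjective q
      refine ⟨x • b, ?_⟩
      rw [hπ, ← TensorProduct.smul_tmul]
      congr 1
      rw [Algebra.smul_def, mul_one]
      rfl
    | add y z hy hz =>
      obtain ⟨b, rfl⟩ := hy
      obtain ⟨b', rfl⟩ := hz
      exact ⟨b + b', map_add _ _ _⟩
  have hker : ∀ b, π b = 0 ↔ b ∈ J.map (algebraMap A' B') := by
    intro b
    have h1 : (quotTensorEquivQuotSMul B' J) (π b) = Submodule.Quotient.mk b := by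
      rw [hπ]
      have := quotTensorEquivQuotSMul_mk_tmul (M := B') J 1 b
      rw [one_smul] at this
      exact this
    rw [← (quotTensorEquivQuotSMul B' J).map_eq_zero_iff, h1, Submodule.Quotient.mk_eq_zero,
      Ideal.smul_top_eq_map]
    rfl
  have hsmul : ∀ (c : A') (y : (A' ⧸ J) ⊗[A'] B'), (Ideal.Quotient.mk J c) • y = c • y := by
    intro c y
    exact algebraMap_smul (A' ⧸ J) c y
  choose e he using fun i => hsurj (t i)
  have hsum : ∀ c : Fin r → A', π (∑ i, c i • e i) = ∑ i, (Ideal.Quotient.mk J (c i)) • t i := by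
    intro c
    rw [map_sum]
    refine Finset.sum_congr rfl fun i _ => ?_
    rw [map_smul, he, hsmul]
  refine ⟨e, ?_, ?_⟩
  · intro b
    choose c hc using fun i => Ideal.Quotient.mk_surjective (t.repr (π b) i)
    refine ⟨c, ?_⟩
    rw [← hker, map_sub, hsum, sub_eq_zero]
    simp_rw [hc]
    exact (t.sum_repr (π b)).symm
  · intro c hc i
    rw [← hker, hsum] at hc
    have := Fintype.linearIndependent_iff.mp t.linearIndependent
      (fun i => Ideal.Quotient.mk J (c i)) hc i
    exact Ideal.Quotient.eq_zero_iff_mem.mp this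

end Part7

section Part8

open AlgebraicGeometry CategoryTheory Limits Groth.Agent.Lib.FibDeg6 TensorProduct

set_option maxHeartbeats 1600000 in
/-- **Ring-level main theorem for S1480.** -/
theorem ring_main (A B : Type u) [CommRing A] [CommRing B] [Algebra A B] [Module.Flat A B]
    [Algebra.FinitePresentation A B] [Algebra.QuasiFinite A B] (g : B) (hg : g ≠ 0) :
    ∃ a : A, ∀ (A' B' : Type u) [CommRing A'] [CommRing B'] [Algebra A A'] [Algebra A' B']
      [Algebra B B'] [Algebra A B'] [IsScalarTower A A' B'] [IsScalarTower A B B']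
      [IsLocalization.Away a A'] [IsLocalization.Away (algebraMap A B a) B']
      [Module.Flat A' B'] [Algebra.FinitePresentation A' B'],
      algebraMap B B' g ≠ 0 ∧ ∃ (F : Ideal A') (r : ℕ), 0 < r ∧
        ∃ φ : (Fin r → F) →ₗ[A'] B', Function.Injective φ ∧
          algebraMap B B' g ∈ LinearMap.range φ := by
  classical
  -- the annihilator
  let I : Ideal A := Ideal.torsionOf A B g
  have hI : ∀ x, x ∈ I ↔ x • g = 0 := fun x => Ideal.mem_torsionOf_iff g x
  have hIB : I.map (algebraMap A B) ≠ ⊤ := by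
    intro htop
    apply hg
    have h1 : ∀ y ∈ I.map (algebraMap A B), y * g = 0 := by
      intro y hy
      rw [Ideal.map] at hy
      induction hy using Submodule.span_induction with
      | mem y hy =>
        obtain ⟨x, hx, rfl⟩ := hy
        rw [← Algebra.smul_def]; exact (hI x).mp hx
      | zero => simp
      | add y z _ _ hy hz => rw [add_mul, hy, hz, add_zero]
      | smul b y _ hy => rw [smul_eq_mul, mul_assoc, hy, mul_zero]
    have := h1 1 (htop ▸ Submodule.mem_top)
    simpa using this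
  obtain ⟨𝔪, h𝔪max, h𝔪⟩ := Ideal.exists_le_maximal _ hIB
  let x₀ : ↥(Spec (CommRingCat.of B)) := (⟨𝔪, h𝔪max.isPrime⟩ : PrimeSpectrum B)
  let Z : Set ↥(Spec (CommRingCat.of A)) := PrimeSpectrum.zeroLocus (I : Set A)
  have hx₀Z : (sm A B) x₀ ∈ Z := by
    intro y hy
    change algebraMap A B y ∈ 𝔪
    exact h𝔪 (Ideal.mem_map_of_mem _ hy)
  -- bound and maximal degree
  obtain ⟨n, hn⟩ := exists_bound A B
  let P : ℕ → Prop := fun d => ∃ s : ↥(Spec (CommRingCat.of A)), s ∈ Z ∧ DegGE (sm A B) s d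
  have hP1 : P 1 := ⟨(sm A B) x₀, hx₀Z, degGE_one_of_mem_range A B x₀⟩
  have hPn : ∀ d, P d → d ≤ n := fun d ⟨s, _, hs⟩ => hn s d hs
  let r := Nat.findGreatest P n
  have hr1 : 1 ≤ r := Nat.le_findGreatest (hPn 1 hP1) hP1
  have hPr : P r := Nat.findGreatest_spec (hPn 1 hP1) hP1
  have hmax : ∀ d, P d → d ≤ r := fun d hd => Nat.le_findGreatest (hPn d hd) hd
  obtain ⟨𝔭, h𝔭Z, h𝔭r⟩ := hPr
  have hopen : IsOpen {s : ↥(Spec (CommRingCat.of A)) | DegGE (sm A B) s r} :=
    isOpen_degGE (sm A B) r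
  obtain ⟨_, ⟨a₀, rfl⟩, h𝔭a₀, ha₀sub⟩ :=
    (PrimeSpectrum.isTopologicalBasis_basic_opens (R := A)).exists_subset_of_mem_open
      (show (𝔭 : PrimeSpectrum A) ∈ {s : PrimeSpectrum A | DegGE (sm A B) s r} from h𝔭r) hopen
  -- the localized quotient
  let a₀' : A ⧸ I := Ideal.Quotient.mk I a₀
  let R₀ := Localization.Away a₀'
  have hmkI : ∀ y : A, algebraMap A R₀ y = algebraMap (A ⧸ I) R₀ (Ideal.Quotient.mk I y) :=
    fun y => IsScalarTower.algebraMap_apply A (A ⧸ I) R₀ y
  have hR₀ : ∀ (q : ↥(Spec (CommRingCat.of R₀))) (d : ℕ),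
      DegGE (sm A B) ((sm A R₀) q) d ↔ d ≤ r := by
    intro q d
    have hqZ : (sm A R₀) q ∈ Z := by
      intro y hy
      change algebraMap A R₀ y ∈ (q : PrimeSpectrum R₀).asIdeal
      rw [hmkI, Ideal.Quotient.eq_zero_iff_mem.mpr hy, map_zero]
      exact Ideal.zero_mem _
    have hqa₀ : (sm A R₀) q ∈ (PrimeSpectrum.basicOpen a₀ : Set (PrimeSpectrum A)) := by
      change algebraMap A R₀ a₀ ∉ (q : PrimeSpectrum R₀).asIdeal
      rw [hmkI]
      intro hcon
      exact (q : PrimeSpectrum R₀).isPrime.ne_top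
        (Ideal.eq_top_of_isUnit_mem _ hcon (IsLocalization.Away.algebraMap_isUnit a₀'))
    constructor
    · intro hd; exact hmax d ⟨_, hqZ, hd⟩
    · intro hd; exact (ha₀sub hqa₀).mono hd
  obtain ⟨hfin, hrk⟩ := finite_of_degree_const A B R₀ r hR₀
  have hfp : Module.FinitePresentation R₀ (R₀ ⊗[A] B) :=
    Module.FinitePresentation.of_finite_of_finitePresentation R₀ (R₀ ⊗[A] B)
  -- `R₀` is nontrivial
  have hntR₀ : Nontrivial R₀ := by
    have h𝔭prime : 𝔭.asIdeal.IsPrime := (𝔭 : PrimeSpectrum A).isPrime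
    have hprime : (Ideal.map (Ideal.Quotient.mk I) 𝔭.asIdeal).IsPrime := by
      apply Ideal.map_isPrime_of_surjective Ideal.Quotient.mk_surjective
      rw [Ideal.mk_ker]
      exact h𝔭Z
    have h1 : (⟨Ideal.map (Ideal.Quotient.mk I) 𝔭.asIdeal, hprime⟩ : PrimeSpectrum (A ⧸ I)) ∈
        Set.range (PrimeSpectrum.comap (algebraMap (A ⧸ I) R₀)) := by
      rw [PrimeSpectrum.localization_away_comap_range R₀ a₀']
      change a₀' ∉ Ideal.map (Ideal.Quotient.mk I) 𝔭.asIdeal
      intro hcon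
      rw [Ideal.mem_map_iff_of_surjective _ Ideal.Quotient.mk_surjective] at hcon
      obtain ⟨y, hy, hya⟩ := hcon
      have h2 : y - a₀ ∈ I := Ideal.Quotient.eq.mp hya
      have h3 : a₀ ∈ 𝔭.asIdeal := by
        have := Ideal.sub_mem _ hy (h𝔭Z h2)
        simpa using this
      exact h𝔭a₀ h3
    obtain ⟨q, -⟩ := h1
    exact ⟨⟨0, 1, fun h01 => q.isPrime.ne_top ((Ideal.eq_top_iff_one _).mpr
      (h01 ▸ Ideal.zero_mem _))⟩⟩
  obtain ⟨p₀⟩ : Nonempty (PrimeSpectrum R₀) := inferInstance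
  obtain ⟨f', hf', hnt, ⟨b₁⟩⟩ := exists_free_away R₀ (R₀ ⊗[A] B) r hrk p₀
  let R₁ := Localization.Away f'
  have hFree₁ : FreeBC A B R₁ r :=
    ⟨(b₁.map (IsLocalizedModule.isBaseChange (Submonoid.powers f') R₁
      (LocalizedModule.mkLinearMap (Submonoid.powers f') (R₀ ⊗[A] B))).equiv.symm).map
        (AlgebraTensorModule.cancelBaseChange A R₀ R₁ R₁ B)⟩
  obtain ⟨k, y, hky⟩ := IsLocalization.Away.surj a₀' f'
  obtain ⟨x, rfl⟩ := Ideal.Quotient.mk_surjective y
  -- `a₀ x` is not nilpotent modulo `I`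
  have hmk₁ : ∀ y : A, algebraMap A R₁ y = algebraMap R₀ R₁ (algebraMap (A ⧸ I) R₀
      (Ideal.Quotient.mk I y)) := by
    intro y
    rw [IsScalarTower.algebraMap_apply A R₀ R₁, hmkI]
  have hunit₁ : IsUnit (algebraMap A R₁ (a₀ * x)) := by
    rw [map_mul]
    refine IsUnit.mul ?_ ?_
    · rw [hmk₁]
      exact (IsLocalization.Away.algebraMap_isUnit a₀').map _
    · rw [hmk₁, ← hky, map_mul, map_pow]
      exact IsUnit.mul (IsLocalization.Away.algebraMap_isUnit f')
        (((IsLocalization.Away.algebraMap_isUnit a₀').map _).pow k)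
  have hnil : ∀ m : ℕ, (a₀ * x) ^ m ∉ I := by
    intro m hm
    have h1 : algebraMap A R₁ ((a₀ * x) ^ m) = 0 := by
      rw [hmk₁, Ideal.Quotient.eq_zero_iff_mem.mpr hm, map_zero, map_zero]
    rw [map_pow] at h1
    exact (hunit₁.pow m).ne_zero h1
  refine ⟨a₀ * x, ?_⟩
  intro A' B' _ _ _ _ _ _ _ _ _ _ _ _
  let J : Ideal A' := I.map (algebraMap A A')
  let R' := A' ⧸ J
  have hu : IsUnit (algebraMap A A' (a₀ * x)) := IsLocalization.Away.algebraMap_isUnit _
  have hu₀ : IsUnit (algebraMap A A' a₀) := by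
    rw [map_mul] at hu; exact isUnit_of_mul_isUnit_left hu
  have hux : IsUnit (algebraMap A A' x) := by
    rw [map_mul] at hu; exact isUnit_of_mul_isUnit_right hu
  let ψ₀ : A ⧸ I →+* R' := Ideal.quotientMap J (algebraMap A A') Ideal.le_comap_map
  have hψ₀ : ∀ y, ψ₀ (Ideal.Quotient.mk I y) = Ideal.Quotient.mk J (algebraMap A A' y) :=
    fun y => Ideal.quotientMap_mk
  have hu₁ : IsUnit (ψ₀ a₀') := by rw [hψ₀]; exact hu₀.map _
  let ψ₁ : R₀ →+* R' := IsLocalization.Away.lift a₀' (g := ψ₀) hu₁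
  have hψ₁ : ∀ y, ψ₁ (algebraMap (A ⧸ I) R₀ y) = ψ₀ y := IsLocalization.Away.lift_eq a₀' hu₁
  have huf : IsUnit (ψ₁ f') := by
    have h1 : ψ₁ f' * ψ₁ (algebraMap (A ⧸ I) R₀ a₀') ^ k =
        ψ₁ (algebraMap (A ⧸ I) R₀ (Ideal.Quotient.mk I x)) := by
      rw [← map_pow, ← map_mul, hky]
    rw [hψ₁, hψ₁] at h1
    have h2 : IsUnit (ψ₁ f' * ψ₀ a₀' ^ k) := by rw [h1, hψ₀]; exact hux.map _
    exact isUnit_of_mul_isUnit_left h2
  let ψ₂ : R₁ →+* R' := IsLocalization.Away.lift f' (g := ψ₁) huf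
  have hψ₂ : ∀ y, ψ₂ (algebraMap R₀ R₁ y) = ψ₁ y := IsLocalization.Away.lift_eq f' huf
  letI : Algebra R₁ R' := ψ₂.toAlgebra
  have hkey : ∀ y : A, algebraMap A R' y = ψ₂ (algebraMap A R₁ y) := by
    intro y
    rw [hmk₁, hψ₂, hψ₁, hψ₀]
    rfl
  have htower : IsScalarTower A R₁ R' := by
    have e1 : ∀ (b : R₁) (c : R'), b • c = ψ₂ b * c := fun b c => rfl
    have e2 : ∀ (y : A) (c : R'), y • c = algebraMap A R' y * c := fun y c => Algebra.smul_def y c
    have e3 : ∀ (y : A) (b : R₁), y • b = algebraMap A R₁ y * b := fun y b => Algebra.smul_def y b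
    refine ⟨fun y b c => ?_⟩
    rw [e1, e3, e2, e1, map_mul, hkey, mul_assoc]
  have hFree' : FreeBC A B R' r := hFree₁.baseChange R'
  -- identification of the base change
  have hloc : IsLocalizedModule (Submonoid.powers (a₀ * x))
      (IsScalarTower.toAlgHom A B B').toLinearMap := by
    rw [isLocalizedModule_iff_isLocalization, Algebra.algebraMapSubmonoid_powers]
    infer_instance
  have hbc1 : IsBaseChange A' (IsScalarTower.toAlgHom A B B').toLinearMap :=
    IsLocalizedModule.isBaseChange (Submonoid.powers (a₀ * x)) A' _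
  have hbc2 : IsBaseChange R' (TensorProduct.mk A' R' B' 1) := TensorProduct.isBaseChange A' B' R'
  have hbc := IsBaseChange.comp hbc1 hbc2
  obtain ⟨t⟩ := hFree'.basis_of_isBaseChange hbc
  obtain ⟨e, hgen, hind⟩ := hgen_hind_of_basis J r t
  -- `g ≠ 0` on the localization
  have hne : algebraMap B B' g ≠ 0 := by
    intro h0
    rw [IsLocalization.map_eq_zero_iff (Submonoid.powers (algebraMap A B (a₀ * x))) B' g] at h0
    obtain ⟨⟨_, m, rfl⟩, hm⟩ := h0
    apply hnil m
    rw [hI, Algebra.smul_def, map_pow]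
    exact hm
  have hJ : ∀ y ∈ J, y • algebraMap B B' g = 0 := by
    intro y hy
    change y ∈ Ideal.map (algebraMap A A') I at hy
    rw [Ideal.map] at hy
    induction hy using Submodule.span_induction with
    | mem y hy =>
      obtain ⟨z, hz, rfl⟩ := hy
      rw [algebraMap_smul, ← IsScalarTower.toAlgHom_apply A B B', ← map_smul, (hI z).mp hz,
        map_zero]
    | zero => simp
    | add y z _ _ hy hz => rw [add_smul, hy, hz, add_zero]
    | smul c y _ hy => rw [smul_eq_mul, mul_smul, hy, smul_zero]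
  obtain ⟨F, φ, hφ, hgφ⟩ := final_general (algebraMap B B' g) J hJ r e hgen hind
  exact ⟨hne, F, r, hr1, φ, hφ, hgφ⟩

end Part8

section Part9

open AlgebraicGeometry CategoryTheory Limits Groth.Agent.Lib.FibDeg6 TensorProduct

theorem exists_affine_pair {X S : Scheme.{u}} (f : X ⟶ S) (g : Γ(X, ⊤)) (hg : g ≠ 0) :
    ∃ (U : S.Opens) (_ : IsAffineOpen U) (V : X.Opens) (_ : IsAffineOpen V) (_ : V ≤ f ⁻¹ᵁ U),
      X.presheaf.map (homOfLE (le_top : V ≤ ⊤)).op g ≠ 0 := by
  by_contra hcon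
  push_neg at hcon
  apply hg
  let ι := {p : S.Opens × X.Opens // IsAffineOpen p.1 ∧ IsAffineOpen p.2 ∧ p.2 ≤ f ⁻¹ᵁ p.1}
  refine X.sheaf.eq_of_locally_eq' (fun p : ι => p.1.2) ⊤ (fun p => homOfLE le_top) ?_ g 0 ?_
  · intro x _
    obtain ⟨_, ⟨U, hU, rfl⟩, hxU, -⟩ :=
      S.isBasis_affineOpens.exists_subset_of_mem_open (Set.mem_univ (f x)) isOpen_univ
    obtain ⟨_, ⟨W, hW, rfl⟩, hxW, hWU⟩ :=
      X.isBasis_affineOpens.exists_subset_of_mem_open (show x ∈ (f ⁻¹ᵁ U : Set X) from hxU)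
        (f ⁻¹ᵁ U).isOpen
    exact TopologicalSpace.Opens.mem_iSup.mpr ⟨⟨(U, W), hU, hW, hWU⟩, hxW⟩
  · intro p
    rw [map_zero]
    exact hcon p.1.1 p.2.1 p.1.2 p.2.2.1 p.2.2.2

set_option maxHeartbeats 1600000 in
/-- **S1480.** -/
theorem main {X S : Scheme.{u}} (f : X ⟶ S) [Flat f] [LocallyOfFinitePresentation f]
    [LocallyQuasiFinite f] (g : Γ(X, ⊤)) (hg : g ≠ 0) :
    ∃ (U : S.Opens) (hU : IsAffineOpen U) (V : X.Opens) (hV : IsAffineOpen V) (hVU : V ≤ f ⁻¹ᵁ U),
      X.presheaf.map (homOfLE le_top).op g ≠ (0 : Γ(X, V)) ∧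
      ∃ (F : Ideal Γ(S, U)) (r : ℕ), 0 < r ∧
        letI := (f.appLE U V hVU).hom.toAlgebra
        ∃ φ : (Fin r → ↥F) →ₗ[Γ(S, U)] Γ(X, V), Function.Injective φ ∧
          X.presheaf.map (homOfLE le_top).op g ∈ LinearMap.range φ := by
  obtain ⟨U₀, hU₀, V₀, hV₀, e₀, hg₀⟩ := exists_affine_pair f g hg
  letI algAB : Algebra Γ(S, U₀) Γ(X, V₀) := (f.appLE U₀ V₀ e₀).hom.toAlgebra
  have hflat : Module.Flat Γ(S, U₀) Γ(X, V₀) :=
    HasRingHomProperty.appLE (P := @Flat) f inferInstance ⟨U₀, hU₀⟩ ⟨V₀, hV₀⟩ e₀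
  have hfp : Algebra.FinitePresentation Γ(S, U₀) Γ(X, V₀) :=
    HasRingHomProperty.appLE (P := @LocallyOfFinitePresentation) f inferInstance ⟨U₀, hU₀⟩
      ⟨V₀, hV₀⟩ e₀
  have hqf : Algebra.QuasiFinite Γ(S, U₀) Γ(X, V₀) :=
    HasRingHomProperty.appLE (P := @LocallyQuasiFinite) f inferInstance ⟨U₀, hU₀⟩ ⟨V₀, hV₀⟩ e₀
  obtain ⟨a, ha⟩ := ring_main Γ(S, U₀) Γ(X, V₀) (X.presheaf.map (homOfLE le_top).op g) hg₀
  have hVU : X.basicOpen (algebraMap Γ(S, U₀) Γ(X, V₀) a) ≤ f ⁻¹ᵁ S.basicOpen a := by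
    change X.basicOpen ((f.appLE U₀ V₀ e₀).hom a) ≤ _
    simp [Scheme.Hom.appLE]
  have hU : IsAffineOpen (S.basicOpen a) := hU₀.basicOpen a
  have hV : IsAffineOpen (X.basicOpen (algebraMap Γ(S, U₀) Γ(X, V₀) a)) := hV₀.basicOpen _
  letI algA'B' : Algebra Γ(S, S.basicOpen a) Γ(X, X.basicOpen (algebraMap Γ(S, U₀) Γ(X, V₀) a)) :=
    (f.appLE (S.basicOpen a) (X.basicOpen (algebraMap Γ(S, U₀) Γ(X, V₀) a)) hVU).hom.toAlgebra
  letI algAB' : Algebra Γ(S, U₀) Γ(X, X.basicOpen (algebraMap Γ(S, U₀) Γ(X, V₀) a)) :=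
    ((algebraMap Γ(S, S.basicOpen a) Γ(X, X.basicOpen (algebraMap Γ(S, U₀) Γ(X, V₀) a))).comp
      (algebraMap Γ(S, U₀) Γ(S, S.basicOpen a))).toAlgebra
  have tower1 : IsScalarTower Γ(S, U₀) Γ(S, S.basicOpen a)
      Γ(X, X.basicOpen (algebraMap Γ(S, U₀) Γ(X, V₀) a)) :=
    IsScalarTower.of_algebraMap_eq fun _ => rfl
  have tower2 : IsScalarTower Γ(S, U₀) Γ(X, V₀)
      Γ(X, X.basicOpen (algebraMap Γ(S, U₀) Γ(X, V₀) a)) := by
    refine IsScalarTower.of_algebraMap_eq fun y => ?_
    change (S.presheaf.map (homOfLE (S.basicOpen_le a)).op ≫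
      f.appLE (S.basicOpen a) (X.basicOpen (algebraMap Γ(S, U₀) Γ(X, V₀) a)) hVU).hom y =
      (f.appLE U₀ V₀ e₀ ≫ X.presheaf.map (homOfLE (X.basicOpen_le _)).op).hom y
    rw [Scheme.Hom.appLE_map, Scheme.Hom.map_appLE]
  have loc1 : IsLocalization.Away a Γ(S, S.basicOpen a) := hU₀.isLocalization_basicOpen a
  have loc2 : IsLocalization.Away (algebraMap Γ(S, U₀) Γ(X, V₀) a)
      Γ(X, X.basicOpen (algebraMap Γ(S, U₀) Γ(X, V₀) a)) := hV₀.isLocalization_basicOpen _
  have hflat' : Module.Flat Γ(S, S.basicOpen a)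
      Γ(X, X.basicOpen (algebraMap Γ(S, U₀) Γ(X, V₀) a)) :=
    HasRingHomProperty.appLE (P := @Flat) f inferInstance ⟨_, hU⟩ ⟨_, hV⟩ hVU
  have hfp' : Algebra.FinitePresentation Γ(S, S.basicOpen a)
      Γ(X, X.basicOpen (algebraMap Γ(S, U₀) Γ(X, V₀) a)) :=
    HasRingHomProperty.appLE (P := @LocallyOfFinitePresentation) f inferInstance ⟨_, hU⟩
      ⟨_, hV⟩ hVU
  obtain ⟨hne, F, r, hr, φ, hφ, hgφ⟩ := ha Γ(S, S.basicOpen a)
    Γ(X, X.basicOpen (algebraMap Γ(S, U₀) Γ(X, V₀) a))
  have hres : algebraMap Γ(X, V₀) Γ(X, X.basicOpen (algebraMap Γ(S, U₀) Γ(X, V₀) a))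
      (X.presheaf.map (homOfLE le_top).op g) = X.presheaf.map (homOfLE le_top).op g := by
    change (X.presheaf.map (homOfLE le_top).op ≫
      X.presheaf.map (homOfLE (X.basicOpen_le _)).op).hom g = _
    rw [← X.presheaf.map_comp]
    rfl
  rw [hres] at hne hgφ
  exact ⟨S.basicOpen a, hU, X.basicOpen (algebraMap Γ(S, U₀) Γ(X, V₀) a), hV, hVU, hne, F, r, hr,
    φ, hφ, hgφ⟩

end Part9

end Groth.Agent.Lib.FibDegAlg6
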