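/-
helper6: retrocompactness of the fibre-degree strata of a separated, flat, quasi-compact,
locally quasi-finite morphism locally of finite presentation (S1448).

* `sdeg_add`, `degGE_add_iff`: additivity of the fibre degree over a clopen decomposition.
* `degGE_one_iff_mem_range`.
* `isCompact_degGE_inter`: the loci `deg ≥ d` meet compact opens in compact sets (induction on the
  bound of the degree, via étale localization).
* `main`: S1448.
-/
import Mathlib
import Groth.Agent.Lib.FibDeg6b
import Groth.Agent.Lib.FibDegAlg6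
import Groth.Agent.S7441

set_option autoImplicit false
set_option linter.style.haveILetI false
universe u

namespace Groth.Agent.Lib.FibDegRetro6

section Part1

open AlgebraicGeometry CategoryTheory Limits TopologicalSpace Groth.Agent.Lib.FibDeg6

/-- the open complement of a clopen set -/
def complOpens {X : Scheme.{u}} (U : X.Opens) (hU : IsClosed (U : Set X)) : X.Opens :=
  ⟨(U : Set X)ᶜ, hU.isOpen_compl⟩

theorem mem_complOpens {X : Scheme.{u}} (U : X.Opens) (hU : IsClosed (U : Set X)) (x : X) :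
    x ∈ complOpens U hU ↔ x ∉ U := Iff.rfl

theorem isClosed_complOpens {X : Scheme.{u}} (U : X.Opens) (hU : IsClosed (U : Set X)) :
    IsClosed (complOpens U hU : Set X) := by
  change IsClosed ((U : Set X)ᶜ)
  exact U.isOpen.isClosed_compl

/-- gluing sections over a clopen set and its complement -/
theorem existsUnique_glue_clopen {X : Scheme.{u}} (U : X.Opens) (hU : IsClosed (U : Set X))
    (a : Γ(X, U)) (b : Γ(X, complOpens U hU)) :
    ∃! s : Γ(X, ⊤), X.presheaf.map (homOfLE (le_top : U ≤ ⊤)).op s = a ∧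
      X.presheaf.map (homOfLE (le_top : complOpens U hU ≤ ⊤)).op s = b := by
  let W : Bool → X.Opens := fun b => if b then U else complOpens U hU
  have hcover : (⊤ : X.Opens) ≤ iSup W := by
    intro x _
    rw [Opens.mem_iSup]
    by_cases hx : x ∈ U
    · exact ⟨true, hx⟩
    · exact ⟨false, hx⟩
  let sf : ∀ b : Bool, Γ(X, W b) := fun c => match c with
    | true => a
    | false => b
  have hinf : ∀ b b' : Bool, b ≠ b' → W b ⊓ W b' = ⊥ := by
    intro b b' hbb
    ext x
    cases b <;> cases b' <;> simp [W, complOpens] at hbb ⊢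
  have hcompat : TopCat.Presheaf.IsCompatible X.presheaf W sf := by
    intro b b'
    by_cases hbb : b = b'
    · subst hbb; rfl
    · have : Subsingleton Γ(X, W b ⊓ W b') := by
        rw [hinf b b' hbb]; infer_instance
      exact Subsingleton.elim _ _
  obtain ⟨(e : Γ(X, ⊤)), he, huniq⟩ := X.sheaf.existsUnique_gluing' W (⊤ : X.Opens)
    (fun b => homOfLE le_top) hcover sf hcompat
  refine ⟨e, ⟨he true, he false⟩, ?_⟩
  rintro e' ⟨h1, h2⟩
  apply huniq
  intro c
  cases c
  · exact h2
  · exact h1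

section Field

variable (K : Type u) [Field K]

theorem ι_appTop_topIso {P : Scheme.{u}} (W : P.Opens) :
    W.ι.appTop ≫ W.topIso.hom = P.presheaf.map (homOfLE (le_top : W ≤ ⊤)).op := by
  simp only [Scheme.Opens.ι_appTop, Scheme.Opens.topIso_hom]
  exact (P.presheaf.map_comp _ _).symm.trans (by congr 1)

/-- **Additivity of the degree over a clopen decomposition.** -/
theorem sdeg_add {P : Scheme.{u}} (q : P ⟶ Spec (CommRingCat.of K)) (W : P.Opens)
    (hW : IsClosed (W : Set P)) :
    sdeg K q = sdeg K (W.ι ≫ q) + sdeg K ((complOpens W hW).ι ≫ q) := by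
  set W' : P.Opens := complOpens W hW with hW'
  let φ : Sec K q →ₗ[K] Sec K (W.ι ≫ q) × Sec K (W'.ι ≫ q) :=
    (Sec.map K W.ι (q₁ := q) rfl).toLinearMap.prod (Sec.map K W'.ι (q₁ := q) rfl).toLinearMap
  have hφ : ∀ s, φ s = (W.ι.appTop.hom s, W'.ι.appTop.hom s) := fun s => rfl
  have h1 : ∀ s : Γ(P, ⊤), W.topIso.hom.hom (W.ι.appTop.hom s) =
      P.presheaf.map (homOfLE (le_top : W ≤ ⊤)).op s := fun s => congr($(ι_appTop_topIso W) s)
  have h2 : ∀ s : Γ(P, ⊤), W'.topIso.hom.hom (W'.ι.appTop.hom s) =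
      P.presheaf.map (homOfLE (le_top : W' ≤ ⊤)).op s := fun s => congr($(ι_appTop_topIso W') s)
  have hinj : ∀ s : Γ(P, ⊤), W.ι.appTop.hom s = 0 → W'.ι.appTop.hom s = 0 → s = 0 := by
    intro s hs1 hs2
    obtain ⟨_, _, huniq⟩ := existsUnique_glue_clopen W hW 0 0
    have e1 : s = _ := huniq s ⟨(h1 s).symm.trans (by rw [hs1, map_zero]),
      (h2 s).symm.trans (by rw [hs2, map_zero])⟩
    have e2 : (0 : Γ(P, ⊤)) = _ := huniq 0 ⟨map_zero _, map_zero _⟩
    exact e1.trans e2.symm
  have hbij : Function.Bijective φ := by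
    constructor
    · rw [← LinearMap.ker_eq_bot, LinearMap.ker_eq_bot']
      intro s hs
      rw [hφ] at hs
      exact hinj s (congrArg Prod.fst hs) (congrArg Prod.snd hs)
    · rintro ⟨a, b⟩
      obtain ⟨s, ⟨hs1, hs2⟩, -⟩ := existsUnique_glue_clopen W hW (W.topIso.hom.hom a)
        (W'.topIso.hom.hom b)
      refine ⟨(s : Γ(P, ⊤)), ?_⟩
      change (W.ι.appTop.hom s, W'.ι.appTop.hom s) = (a, b)
      refine Prod.ext ?_ ?_
      · apply (ConcreteCategory.bijective_of_isIso W.topIso.hom).injective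
        exact (h1 s).trans hs1
      · apply (ConcreteCategory.bijective_of_isIso W'.topIso.hom).injective
        exact (h2 s).trans hs2
  have := (LinearEquiv.ofBijective φ hbij).rank_eq
  rw [rank_prod, Cardinal.lift_id, Cardinal.lift_id] at this
  exact this

end Field

/-- the degree is at least one exactly on the image -/
theorem degGE_one_iff_mem_range {X S : Scheme.{u}} (f : X ⟶ S) (s : S) :
    DegGE f s 1 ↔ s ∈ Set.range f := by
  constructor
  · intro h
    by_contra hs
    have hempty : IsEmpty (f.fiber s) := by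
      constructor
      intro w
      apply hs
      have : f.fiberι s w ∈ f ⁻¹' {s} := by
        rw [← f.range_fiberι s]; exact ⟨w, rfl⟩
      exact ⟨_, this⟩
    have htop : (⊤ : (f.fiber s).Opens) = ⊥ := by
      ext x
      exact (hempty.false x).elim
    have hsub : Subsingleton Γ(f.fiber s, ⊤) := by
      rw [htop]; infer_instance
    have hsub' : Subsingleton (Sec (S.residueField s) (f.fiberToSpecResidueField s)) := hsub
    have h0 : Module.rank (S.residueField s)
        (Sec (S.residueField s) (f.fiberToSpecResidueField s)) = 0 := rank_subsingleton' _ _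
    have h1 : ((1 : ℕ) : Cardinal.{u}) ≤ Module.rank (S.residueField s)
        (Sec (S.residueField s) (f.fiberToSpecResidueField s)) := h
    rw [h0] at h1
    simp at h1
  · rintro ⟨x, rfl⟩
    have hne' : Nonempty ↥(⊤ : (f.fiber (f x)).Opens) := ⟨⟨f.asFiber x, trivial⟩⟩
    have hnt : Nontrivial Γ(f.fiber (f x), ⊤) := inferInstance
    have hnt' : Nontrivial (Sec (S.residueField (f x)) (f.fiberToSpecResidueField (f x))) := hnt
    change ((1 : ℕ) : Cardinal.{u}) ≤ Module.rank _ _
    rw [Nat.cast_one, Cardinal.one_le_iff_pos]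
    exact rank_pos_iff_nontrivial.mpr hnt'

theorem cardinal_eq_natCast_of_forall (c : Cardinal.{u}) (r : ℕ)
    (h : ∀ d : ℕ, (d : Cardinal.{u}) ≤ c ↔ d ≤ r) : c = (r : Cardinal.{u}) := by
  have hlt : c < Cardinal.aleph0 := by
    by_contra hcon
    rw [not_lt] at hcon
    have := (h (r + 1)).mp (le_trans (le_of_lt Cardinal.natCast_lt_aleph0) hcon)
    omega
  obtain ⟨m, rfl⟩ := Cardinal.lt_aleph0.mp hlt
  have h1 := (h m).mp le_rfl
  have h2 := (h r).mpr le_rfl
  have h2' : r ≤ m := by exact_mod_cast h2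
  rw [le_antisymm h1 h2']

/-- **Additivity of the fibre degree** for a clopen part which is finite flat. -/
theorem degGE_add_iff {Y E : Scheme.{u}} (h : Y ⟶ E) [LocallyQuasiFinite h] (V : Y.Opens)
    (hV : IsClosed (V : Set Y)) [IsFinite (V.ι ≫ h)] [Flat (V.ι ≫ h)] (t : E) (d' : ℕ) :
    DegGE h t ((V.ι ≫ h).finrank t + d') ↔ DegGE ((complOpens V hV).ι ≫ h) t d' := by
  set R : Y.Opens := complOpens V hV with hR
  set W : (h.fiber t).Opens := (h.fiberι t) ⁻¹ᵁ V with hW
  have hWc : IsClosed (W : Set (h.fiber t)) := hV.preimage (h.fiberι t).continuous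
  have hW' : (h.fiberι t) ⁻¹ᵁ R = complOpens W hWc := by
    ext x; rfl
  have h1 := degGE_open_iff h R t d'
  rw [hW'] at h1
  have h2 : sdeg (E.residueField t) (W.ι ≫ h.fiberToSpecResidueField t) =
      (((V.ι ≫ h).finrank t : ℕ) : Cardinal.{u}) := by
    apply cardinal_eq_natCast_of_forall
    intro d
    rw [← degGE_open_iff h V t d]
    exact degGE_iff_le_finrank_of_isFinite (V.ι ≫ h) t d
  rw [h1]
  change (((V.ι ≫ h).finrank t + d' : ℕ) : Cardinal.{u}) ≤
    sdeg (E.residueField t) (h.fiberToSpecResidueField t) ↔ _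
  rw [sdeg_add (E.residueField t) (h.fiberToSpecResidueField t) W hWc, h2, Nat.cast_add,
    add_comm ((((V.ι ≫ h).finrank t : ℕ) : Cardinal.{u})) (d' : Cardinal.{u}),
    add_comm ((((V.ι ≫ h).finrank t : ℕ) : Cardinal.{u}))]
  exact Cardinal.add_le_add_iff_of_lt_aleph0 Cardinal.natCast_lt_aleph0

/-- the inclusion of a clopen subscheme is quasi-compact -/
theorem quasiCompact_ι_of_isClosed {Y : Scheme.{u}} (R : Y.Opens) (hR : IsClosed (R : Set Y)) :
    QuasiCompact R.ι := by
  constructor
  intro K hKo hKc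
  rw [R.ι.isEmbedding.isCompact_iff, Set.image_preimage_eq_inter_range]
  have : Set.range R.ι = (R : Set Y) := by
    simp
  rw [this]
  exact hKc.inter_right hR

end Part1

section Part2

open AlgebraicGeometry CategoryTheory Limits TopologicalSpace Groth.Agent.Lib.FibDeg6

theorem exists_bound_of_compactSpace {X S : Scheme.{u}} (f : X ⟶ S) [LocallyQuasiFinite f]
    [LocallyOfFiniteType f] [CompactSpace X] :
    ∃ n : ℕ, ∀ (s : S) (d : ℕ), DegGE f s d → d ≤ n := by
  obtain ⟨n, hn⟩ := Groth.Agent.S7441.result f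
  refine ⟨n, fun s d hd => ?_⟩
  obtain ⟨-, hfin, hrk⟩ := hn s
  let _ : Algebra (S.residueField s) Γ(f.fiber s, ⊤) :=
    BddFib.secAlgebra _ (f.fiberToSpecResidueField s)
  have h1 : (d : Cardinal.{u}) ≤ Module.rank (S.residueField s) Γ(f.fiber s, ⊤) := hd
  rw [← Module.finrank_eq_rank] at h1
  have h2 : d ≤ Module.finrank (S.residueField s) Γ(f.fiber s, ⊤) := by exact_mod_cast h1
  exact h2.trans hrk

theorem exists_bound_on_isCompact {X S : Scheme.{u}} (f : X ⟶ S) [LocallyQuasiFinite f]
    [LocallyOfFiniteType f] [QuasiCompact f] (W : S.Opens) (hW : IsCompact (W : Set S)) :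
    ∃ n : ℕ, ∀ s ∈ W, ∀ d, DegGE f s d → d ≤ n := by
  have hcs : CompactSpace ↥(Scheme.Opens.toScheme (f ⁻¹ᵁ W)) :=
    isCompact_iff_compactSpace.mp (QuasiCompact.isCompact_preimage _ W.isOpen hW)
  obtain ⟨n, hn⟩ := exists_bound_of_compactSpace (f ∣_ W)
  refine ⟨n, fun s hs d hd => hn ⟨s, hs⟩ d ?_⟩
  have H := (isPullback_morphismRestrict f W).flip
  exact (Groth.Agent.Lib.FibDegAlg6.degGE_snd_iff_of_isPullback H ⟨s, hs⟩ d).mpr hd

set_option maxHeartbeats 1600000 in
/-- **Quasi-compactness of the loci `deg ≥ d`** inside a compact open on which the degree is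
bounded. -/
theorem isCompact_degGE_inter (n : ℕ) : ∀ {X S : Scheme.{u}} (f : X ⟶ S) [Flat f]
    [LocallyOfFinitePresentation f] [IsSeparated f] [LocallyQuasiFinite f] [QuasiCompact f]
    (O : S.Opens) (_ : ∀ s ∈ O, ∀ d, DegGE f s d → d ≤ n) (d : ℕ) (K : Set S)
    (_ : IsCompact K) (_ : IsOpen K) (_ : K ⊆ O), IsCompact ({s | DegGE f s d} ∩ K) := by
  induction n using Nat.strong_induction_on with
  | _ n ih =>
  intro X S f _ _ _ _ _ O hO d K hKc hKo hKO
  rcases Nat.eq_zero_or_pos d with rfl | hd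
  · have : {s : S | DegGE f s 0} = Set.univ := Set.eq_univ_of_forall (DegGE.zero f)
    rw [this, Set.univ_inter]; exact hKc
  have hM : IsCompact (f '' (f ⁻¹' K)) :=
    (QuasiCompact.isCompact_preimage K hKo hKc).image f.continuous
  have LOC : ∀ s ∈ f '' (f ⁻¹' K), ∃ N : Set S, IsOpen N ∧ s ∈ N ∧ N ⊆ K ∧
      IsCompact ({s | DegGE f s d} ∩ N) := by
    rintro _ ⟨y, hyK, rfl⟩
    have hsK : f y ∈ K := hyK
    have hsO : f y ∈ O := hKO hsK
    have hfinfib : Finite (f.fiber (f y)) := by
      have : QuasiCompact (f.fiberToSpecResidueField (f y)) :=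
        inferInstanceAs (QuasiCompact (pullback.snd f (S.fromSpecResidueField (f y))))
      have : CompactSpace (f.fiber (f y)) :=
        QuasiCompact.compactSpace_of_compactSpace (f.fiberToSpecResidueField (f y))
      have : IsLocallyArtinian (f.fiber (f y)) := inferInstance
      exact finite_of_compact_of_discrete
    obtain ⟨E, g, u, hnb, V, hVclopen, hVfin, hVall⟩ :=
      Groth.Agent.Lib.EtLocQF.exists_isEtaleNbhd_clopen_finite_of_finite_isolated f (f y)
        (Set.toFinite _)
    have hg : Etale g := hnb.etale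
    have hgu : g u = f y := hnb.base_eq
    have hV : ∀ x : ↑(pullback f g), (pullback.snd f g) x = u → x ∈ V :=
      mem_of_forall_isolated _ u V hVall
    have hflat : Flat (V.ι ≫ pullback.snd f g) := inferInstance
    have H := IsPullback.of_hasPullback f g
    obtain ⟨r, hr⟩ : ∃ r, r = (V.ι ≫ pullback.snd f g).finrank u := ⟨_, rfl⟩
    have hiffu : ∀ d, DegGE f (g u) d ↔ d ≤ r := by
      intro d; rw [hr]; exact degGE_iff_le_finrank f H V u hV d
    have hr1 : 1 ≤ r :=
      (hiffu 1).mp (by rw [hgu]; exact (degGE_one_iff_mem_range f (f y)).mpr ⟨y, rfl⟩)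
    have hrn : r ≤ n := hO (f y) hsO r (by rw [← hgu]; exact (hiffu r).mpr le_rfl)
    let OE : Set E := {t | (V.ι ≫ pullback.snd f g).finrank t = r}
    have hOE : IsOpen OE :=
      (Scheme.Hom.isLocallyConstant_finrank (V.ι ≫ pullback.snd f g)).isOpen_fiber _
    have hopen : IsOpen (OE ∩ g ⁻¹' K) := hOE.inter (hKo.preimage g.continuous)
    obtain ⟨_, ⟨C, hC, rfl⟩, huC, hCsub⟩ := E.isBasis_affineOpens.exists_subset_of_mem_open
      (show u ∈ OE ∩ g ⁻¹' K from ⟨hr.symm, by change g u ∈ K; rw [hgu]; exact hsK⟩) hopen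
    refine ⟨g '' (C : Set E), g.isOpenMap _ C.isOpen, ⟨u, huC, hgu⟩, ?_, ?_⟩
    · rintro _ ⟨t, ht, rfl⟩; exact (hCsub ht).2
    · have himg : {s | DegGE f s d} ∩ g '' (C : Set E) =
          g '' ((C : Set E) ∩ g ⁻¹' {s | DegGE f s d}) := by
        rw [Set.image_inter_preimage, Set.inter_comm]
      rw [himg]
      apply IsCompact.image _ g.continuous
      by_cases hdr : d ≤ r
      · have : (C : Set E) ∩ g ⁻¹' {s | DegGE f s d} = C := by
          apply Set.inter_eq_left.mpr
          intro t ht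
          have h2 := degGE_finrank f H V t
          rw [show (V.ι ≫ pullback.snd f g).finrank t = r from (hCsub ht).1] at h2
          exact h2.mono hdr
        rw [this]; exact hC.isCompact
      · rw [not_le] at hdr
        obtain ⟨d', rfl⟩ : ∃ d', d = r + d' := ⟨d - r, by omega⟩
        have hVc : IsClosed (V : Set ↑(pullback f g)) := hVclopen.1
        have hqcR : QuasiCompact (complOpens V hVc).ι :=
          quasiCompact_ι_of_isClosed _ (isClosed_complOpens V hVc)
        have hqc : QuasiCompact ((complOpens V hVc).ι ≫ pullback.snd f g) := inferInstance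
        let O' : E.Opens := ⟨OE ∩ g ⁻¹' (O : Set S), hOE.inter (O.isOpen.preimage g.continuous)⟩
        have hadd : ∀ t ∈ OE, ∀ d'', DegGE f (g t) (r + d'') ↔
            DegGE ((complOpens V hVc).ι ≫ pullback.snd f g) t d'' := by
          intro t ht d''
          rw [← degGE_pullback_snd_iff f g t, ← degGE_add_iff (pullback.snd f g) V hVc t d'',
            show (V.ι ≫ pullback.snd f g).finrank t = r from ht]
        have hbd : ∀ t ∈ O', ∀ d'', DegGE ((complOpens V hVc).ι ≫ pullback.snd f g) t d'' →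
            d'' ≤ n - r := by
          intro t ht d'' hd''
          have := hO (g t) ht.2 (r + d'') ((hadd t ht.1 d'').mpr hd'')
          omega
        have hcomp := ih (n - r) (by omega) ((complOpens V hVc).ι ≫ pullback.snd f g) O' hbd d'
          (C : Set E) hC.isCompact C.isOpen (fun t ht => ⟨(hCsub ht).1, hKO (hCsub ht).2⟩)
        have : (C : Set E) ∩ g ⁻¹' {s | DegGE f s (r + d')} =
            {t | DegGE ((complOpens V hVc).ι ≫ pullback.snd f g) t d'} ∩ C := by
          ext t
          simp only [Set.mem_inter_iff, Set.mem_preimage, Set.mem_ofPred_eq]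
          constructor
          · rintro ⟨htC, htd⟩; exact ⟨(hadd t (hCsub htC).1 d').mp htd, htC⟩
          · rintro ⟨htd, htC⟩; exact ⟨htC, (hadd t (hCsub htC).1 d').mpr htd⟩
        rw [this]; exact hcomp
  choose N hNo hsN hNK hNc using LOC
  obtain ⟨t, ht⟩ := hM.elim_finite_subcover (fun s : ↥(f '' (f ⁻¹' K)) => N s.1 s.2)
    (fun s => hNo s.1 s.2) (fun x hx => Set.mem_iUnion.mpr ⟨⟨x, hx⟩, hsN x hx⟩)
  have heq : {s | DegGE f s d} ∩ K = ⋃ s ∈ t, ({s | DegGE f s d} ∩ N s.1 s.2) := by
    ext x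
    simp only [Set.mem_inter_iff, Set.mem_ofPred_eq, Set.mem_iUnion, exists_prop]
    constructor
    · rintro ⟨hxd, hxK⟩
      have hx1 : DegGE f x 1 := hxd.mono hd
      obtain ⟨y, rfl⟩ := (degGE_one_iff_mem_range f x).mp hx1
      have hxM : f y ∈ f '' (f ⁻¹' K) := ⟨y, hxK, rfl⟩
      have := ht hxM
      simp only [Set.mem_iUnion, exists_prop] at this
      obtain ⟨s, hs, hxs⟩ := this
      exact ⟨s, hs, hxd, hxs⟩
    · rintro ⟨s, hs, hxd, hxN⟩
      exact ⟨hxd, hNK _ _ hxN⟩
  rw [heq]
  exact t.isCompact_biUnion fun s _ => hNc s.1 s.2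

end Part2

section Part3

open AlgebraicGeometry CategoryTheory Limits TopologicalSpace Groth.Agent.Lib.FibDeg6

open Classical in
/-- **S1448.** -/
theorem main {X S : Scheme.{u}} (f : X ⟶ S) [Flat f] [LocallyOfFinitePresentation f]
    [IsSeparated f] [LocallyQuasiFinite f] [QuasiCompact f] :
    ∃ deg : ↑S → ℕ, (∀ r : ℕ, IsClosed {s : ↑S | deg s ≤ r}) ∧
      (∀ r : ℕ, IsRetrocompact {s : ↑S | deg s = r}) ∧
      ∀ (T : Scheme.{u}) (g : T ⟶ S) (r : ℕ),
        Mor2.IsFinLocFreeOfDeg r (pullback.snd f g) ↔ ∀ t : T, deg (g t) = r := by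
  -- bounds on affine opens
  have hbW : ∀ W : S.affineOpens, ∃ n : ℕ, ∀ s ∈ W.1, ∀ d, DegGE f s d → d ≤ n := fun W =>
    exists_bound_on_isCompact f W.1 W.2.isCompact
  choose bW hbW using hbW
  have hpt : ∀ s : S, ∃ n : ℕ, ∀ d, DegGE f s d → d ≤ n := by
    intro s
    obtain ⟨_, ⟨W, hW, rfl⟩, hsW, -⟩ :=
      S.isBasis_affineOpens.exists_subset_of_mem_open (Set.mem_univ s) isOpen_univ
    exact ⟨bW ⟨W, hW⟩, hbW ⟨W, hW⟩ s hsW⟩
  choose nb hnb using hpt
  have hiff : ∀ s d, DegGE f s d ↔ d ≤ Nat.findGreatest (fun d => DegGE f s d) (nb s) := fun s d =>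
    iff_le_findGreatest (fun d => DegGE f s d) (nb s) (DegGE.zero f s)
      (fun d d' hdd hd => hd.mono hdd) (hnb s) d
  refine ⟨fun s => Nat.findGreatest (fun d => DegGE f s d) (nb s), ?_, ?_, ?_⟩
  · intro r
    have : {s : ↑S | Nat.findGreatest (fun d => DegGE f s d) (nb s) ≤ r} =
        {s | DegGE f s (r + 1)}ᶜ := by
      ext s
      simp only [Set.mem_ofPred_eq, Set.mem_compl_iff]
      rw [hiff s (r + 1)]
      omega
    rw [this]
    exact (isOpen_degGE f (r + 1)).isClosed_compl
  · intro r K hKc hKo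
    -- cover `K` by finitely many affine opens
    obtain ⟨t, ht⟩ := hKc.elim_finite_subcover (fun W : S.affineOpens => (W.1 : Set S))
      (fun W => W.1.isOpen) (fun x _ => by
        have : x ∈ (⨆ i : S.affineOpens, (i : S.Opens) : S.Opens) := by
          rw [iSup_affineOpens_eq_top]; trivial
        simpa [Opens.mem_iSup] using this)
    let O : S.Opens := ⨆ W ∈ t, (W : S.Opens)
    have hKO : K ⊆ O := by
      intro x hx
      have := ht hx
      simp only [Set.mem_iUnion, exists_prop] at this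
      obtain ⟨W, hW, hxW⟩ := this
      change x ∈ O
      simp only [O, Opens.mem_iSup, exists_prop]
      exact ⟨W, hW, hxW⟩
    have hO : ∀ s ∈ O, ∀ d, DegGE f s d → d ≤ t.sup bW := by
      intro s hs d hd
      simp only [O, Opens.mem_iSup, exists_prop] at hs
      obtain ⟨W, hW, hsW⟩ := hs
      exact (hbW W s hsW d hd).trans (Finset.le_sup hW)
    have hcomp := isCompact_degGE_inter (t.sup bW) f O hO r K hKc hKo hKO
    have : {s : ↑S | Nat.findGreatest (fun d => DegGE f s d) (nb s) = r} ∩ K =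
        ({s | DegGE f s r} ∩ K) ∩ {s | DegGE f s (r + 1)}ᶜ := by
      ext s
      simp only [Set.mem_inter_iff, Set.mem_ofPred_eq, Set.mem_compl_iff]
      rw [hiff s r, hiff s (r + 1)]
      constructor
      · rintro ⟨h1, h2⟩; exact ⟨⟨by omega, h2⟩, by omega⟩
      · rintro ⟨⟨h1, h2⟩, h3⟩; exact ⟨by omega, h2⟩
    rw [this]
    exact hcomp.inter_right (isOpen_degGE f (r + 1)).isClosed_compl
  · intro T g r
    constructor
    · rintro ⟨⟨hfin, hflat, hlfp⟩, hrank⟩ t
      have h1 := degGE_iff_le_finrank_of_isFinite (pullback.snd f g) t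
      have h2 : ∀ d, d ≤ Nat.findGreatest (fun d => DegGE f (g t) d) (nb (g t)) ↔ d ≤ r := by
        intro d
        rw [← hiff, ← degGE_pullback_snd_iff, h1, hrank]
      apply le_antisymm
      · exact (h2 _).mp le_rfl
      · exact (h2 _).mpr le_rfl
    · intro h
      apply isFinLocFreeOfDeg_of_degree_const
      intro t d
      have ht : Nat.findGreatest (fun d => DegGE f (g t) d) (nb (g t)) = r := h t
      rw [degGE_pullback_snd_iff, hiff, ht]

end Part3

end Groth.Agent.Lib.FibDegRetro6
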