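import Groth.Agent.Lib.NzdFiberC88

/-!
# Fibrewise nonzerodivisors kill torsion sections (helper88)

Ring-level core of EGA IV 11.10.10: `R → S` of finite presentation, `N` a finitely presented
`S`-module flat over `R`, `t ∈ N`.  If for every prime `p` of `R` there is `b ∈ S` with
`b ^ n • t = 0` acting injectively on the fibre module of `N` over `p`, then `t = 0`.
-/

set_option autoImplicit false
set_option maxHeartbeats 400000
set_option linter.style.haveILetI false
set_option linter.unusedSectionVars false

open TensorProduct Function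

universe u

namespace Groth.Agent.Lib.FibDenseCore88

open Groth.Agent.Lib.NzdFiberC88

attribute [local instance] Algebra.TensorProduct.rightAlgebra

variable {R S : Type u} [CommRing R] [CommRing S] [Algebra R S] [Algebra.FinitePresentation R S]
  (N : Type u) [AddCommGroup N] [Module S N] [Module R N] [IsScalarTower R S N]
  [Module.FinitePresentation S N] [Module.Flat R N]

/-- If `Ann(t) ≤ 𝔮` for a prime `𝔮` of `S`, then no `b` with `b ^ n • t = 0` acts injectively on
the fibre module of `N` over `𝔮 ∩ R`. -/
theorem false_of_pow_smul_eq_zero_of_fibre_nzd (t : N) (p : Ideal R) [p.IsPrime]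
    (𝔮 : Ideal S) [𝔮.IsPrime] [𝔮.LiesOver p]
    (hI : ∀ s : S, s • t = 0 → s ∈ 𝔮) (b : S) (n : ℕ) (hb : b ^ n • t = 0)
    (hnzd : ∀ τ : FlatCA.fiberMod p S N, b • τ = 0 → τ = 0) : False := by
  have hker : ∀ s : S, s ∈ LinearMap.ker (LinearMap.toSpanSingleton S (N ⊗[R] R) (t ⊗ₜ[R] 1)) ↔
      s • t = 0 := by
    intro s
    rw [LinearMap.mem_ker, LinearMap.toSpanSingleton_apply, TensorProduct.smul_tmul']
    constructor
    · intro h
      have := congrArg (TensorProduct.rid R N) h
      rwa [TensorProduct.rid_tmul, one_smul, map_zero] at this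
    · intro h
      rw [h, TensorProduct.zero_tmul]
  obtain ⟨q₁, hq₁, hlo, hle, hass⟩ := exists_fibre_ass_prime_of_le N p 𝔮 R (t ⊗ₜ[R] 1)
    (fun s hs => hI s ((hker s).mp hs))
  have hbq : b ∈ q₁ := hq₁.mem_of_pow_mem n (hle ((hker _).mpr hb))
  obtain ⟨hprime, τ, hτ⟩ := hass
  have hmem : (Algebra.TensorProduct.includeRight (R := R) (A := p.ResidueField) (B := S)).toRingHom b
      ∈ FlatCA.fiberIdeal p q₁ := Ideal.mem_map_of_mem _ hbq
  rw [hτ] at hmem
  obtain ⟨k, hk⟩ := hmem
  rw [Submodule.mem_colon_singleton, Submodule.mem_bot] at hk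
  have hpow : ∀ k : ℕ, ((Algebra.TensorProduct.includeRight (R := R) (A := p.ResidueField)
      (B := S)).toRingHom b) ^ k • τ = 0 → τ = 0 := by
    intro k
    induction k with
    | zero => intro h; simpa using h
    | succ k ih =>
      intro h
      apply ih
      apply hnzd
      rw [pow_succ', mul_smul] at h
      exact h
  have hτ0 : τ = 0 := hpow k hk
  apply hprime.ne_top
  rw [hτ, hτ0]
  rw [Ideal.radical_eq_top]
  rw [Ideal.eq_top_iff_one, Submodule.mem_colon_singleton]
  simp

/-- Variant of `false_of_pow_smul_eq_zero_of_fibre_nzd` with the fibrewise injectivity expressed on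
`κ(p) ⊗[R] N`. -/
theorem false_of_pow_smul_eq_zero_of_lTensor_injective (t : N) (p : Ideal R) [p.IsPrime]
    (𝔮 : Ideal S) [𝔮.IsPrime] [𝔮.LiesOver p]
    (hI : ∀ s : S, s • t = 0 → s ∈ 𝔮) (b : S) (n : ℕ) (hb : b ^ n • t = 0)
    (μ : N →ₗ[R] N) (hμ : ∀ x, μ x = b • x)
    (hinj : Injective (μ.lTensor p.ResidueField)) : False := by
  refine false_of_pow_smul_eq_zero_of_fibre_nzd N t p 𝔮 hI b n hb (fun τ hτ => ?_)
  set e := fiberModEquiv (R := R) (S := S) N p.ResidueField with he
  have h1 : b • e.symm τ = 0 := by
    have h0 : e.symm (b • τ) = b • e.symm τ := e.symm.map_smul b τ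
    rw [← h0]
    exact (congrArg e.symm hτ).trans (map_zero _)
  have hcomm : ∀ w : N ⊗[R] p.ResidueField,
      μ.lTensor p.ResidueField (TensorProduct.comm R N p.ResidueField w) =
        TensorProduct.comm R N p.ResidueField (b • w) := by
    intro w
    induction w with
    | zero => simp
    | add x y hx hy => simp only [map_add, smul_add, hx, hy]
    | tmul x q =>
      rw [TensorProduct.comm_tmul, LinearMap.lTensor_tmul, hμ, TensorProduct.smul_tmul',
        TensorProduct.comm_tmul]
  have h2 : μ.lTensor p.ResidueField (TensorProduct.comm R N p.ResidueField (e.symm τ)) = 0 := by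
    rw [hcomm, h1, map_zero]
  have h3 := hinj (h2.trans (map_zero _).symm)
  have h4 : e.symm τ = 0 := by
    apply (TensorProduct.comm R N p.ResidueField).injective
    rw [h3, map_zero]
  have := congrArg e h4
  rwa [LinearEquiv.apply_symm_apply, map_zero] at this

end Groth.Agent.Lib.FibDenseCore88
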