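import Groth.Agent.Lib.H77ExLocus
import Groth.Agent.Lib.H77FibreExact
import Mathlib.RingTheory.Ideal.AssociatedPrime.Finiteness
import Mathlib.RingTheory.IsTensorProduct

/-!
# Ring-level core for S1300: nonzerodivisors in fibre rings (helper77)

* `exists_nonZeroDivisor_mem`: in a Noetherian ring `C`, an ideal `I` whose "open complement
  is schematically dense" contains a nonzerodivisor (associated primes + prime avoidance).
* `exists_mul_eq_algebraMap(_of_mem_map)`: in a pushout `C = k ⊗[R] B` with `k` a field of
  fractions-type `R`-algebra, every element of `C` (resp. of `I·C`) is, up to a unit coming from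
  `R`, the image of an element of `B` (resp. of `I`).
* `algebraMap_mem_nonZeroDivisors_iff`: the image of `g : B` in `C = k ⊗[R] B` is a nonzerodivisor
  iff multiplication by `g` is injective on `κ(p) ⊗[R] B`, `p = ker (R → k)`.
* `exists_forall_injective_mulLeft_baseChange`: spreading out from the minimal prime.
-/

set_option autoImplicit false
universe u

open TensorProduct Function

namespace Groth.Agent.Lib.H77SchDenseAlg

section Noeth

/-- In a Noetherian ring, if every element which vanishes locally at all primes not containing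
`I` is zero, then `I` contains a nonzerodivisor. -/
theorem exists_nonZeroDivisor_mem {C : Type*} [CommRing C] [IsNoetherianRing C] (I : Ideal C)
    (h : ∀ c : C, (∀ q : Ideal C, q.IsPrime → ¬ I ≤ q → ∃ t, t ∉ q ∧ t * c = 0) → c = 0) :
    ∃ g ∈ I, g ∈ nonZeroDivisors C := by
  by_contra hcon
  push Not at hcon
  have fin := associatedPrimes.finite C C
  have hsub : (I : Set C) ⊆ ⋃ p ∈ associatedPrimes C C, (id p : Ideal C) := by
    simp_rw [id, biUnion_associatedPrimes_eq_compl_nonZeroDivisors]
    intro g hg
    exact hcon g hg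
  obtain ⟨P, hP, hIP⟩ :=
    (I.subset_union_prime_finite fin (f := id) 0 0 fun _ h _ _ ↦ h.isPrime).1 hsub
  obtain ⟨hPprime, b, hb⟩ := (isAssociatedPrime_iff (M := C)).mp hP
  have hb0 : b = 0 := by
    refine h b fun q hq hIq => ?_
    have hPq : ¬ (P : Ideal C) ≤ q := fun hle => hIq (hIP.trans hle)
    obtain ⟨t, htP, htq⟩ := SetLike.not_le_iff_exists.mp hPq
    refine ⟨t, htq, ?_⟩
    have : t ∈ Submodule.colon (⊥ : Submodule C C) {b} := hb ▸ htP
    rw [Submodule.mem_colon_singleton, Submodule.mem_bot] at this
    exact this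
  apply hPprime.ne_top
  rw [hb, hb0]
  ext r
  simp [Submodule.mem_colon_singleton]

end Noeth

section Pushout

variable {R B C k : Type*} [CommRing R] [CommRing B] [CommRing C] [Field k]
  [Algebra R B] [Algebra R k] [Algebra B C] [Algebra k C] [Algebra R C]
  [IsScalarTower R B C] [IsScalarTower R k C] [Algebra.IsPushout R k B C]

variable (R k) in
/-- Every element of `C = k ⊗[R] B` is, up to a nonzero scalar from `R`, in the image of `B`. -/
theorem exists_mul_eq_algebraMap
    (hk : ∀ x : k, ∃ a s : R, algebraMap R k s ≠ 0 ∧ x * algebraMap R k s = algebraMap R k a)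
    (c : C) : ∃ (s : R) (b : B), algebraMap R k s ≠ 0 ∧ algebraMap R C s * c = algebraMap B C b := by
  obtain ⟨z, rfl⟩ := (Algebra.IsPushout.equiv R k B C).surjective c
  induction z with
  | zero => exact ⟨1, 0, by simp, by simp⟩
  | tmul x m =>
    obtain ⟨a, s, hs, hx⟩ := hk x
    refine ⟨s, a • m, hs, ?_⟩
    rw [Algebra.IsPushout.equiv_tmul, IsScalarTower.algebraMap_apply R k C, ← mul_assoc,
      ← map_mul, mul_comm (algebraMap R k s), hx, ← IsScalarTower.algebraMap_apply R k C,
      Algebra.smul_def, map_mul, ← IsScalarTower.algebraMap_apply R B C]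
  | add z₁ z₂ h₁ h₂ =>
    obtain ⟨s₁, b₁, hs₁, e₁⟩ := h₁
    obtain ⟨s₂, b₂, hs₂, e₂⟩ := h₂
    refine ⟨s₁ * s₂, s₂ • b₁ + s₁ • b₂, ?_, ?_⟩
    · rw [map_mul]; exact mul_ne_zero hs₁ hs₂
    · rw [map_add, mul_add, map_mul, map_add, Algebra.smul_def, Algebra.smul_def, map_mul, map_mul,
        ← IsScalarTower.algebraMap_apply R B C, ← IsScalarTower.algebraMap_apply R B C, ← e₁, ← e₂]
      ring

variable (R k) in
/-- Every element of `I·C` is, up to a nonzero scalar from `R`, the image of an element of `I`. -/
theorem exists_mul_eq_algebraMap_of_mem_map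
    (hk : ∀ x : k, ∃ a s : R, algebraMap R k s ≠ 0 ∧ x * algebraMap R k s = algebraMap R k a)
    (I : Ideal B) {c : C} (hc : c ∈ I.map (algebraMap B C)) :
    ∃ (s : R) (b : B), b ∈ I ∧ algebraMap R k s ≠ 0 ∧
      algebraMap R C s * c = algebraMap B C b := by
  unfold Ideal.map at hc
  induction hc using Submodule.span_induction with
  | mem c hc =>
    obtain ⟨b, hb, rfl⟩ := hc
    exact ⟨1, b, hb, by simp, by simp⟩
  | zero => exact ⟨1, 0, I.zero_mem, by simp, by simp⟩
  | add c₁ c₂ _ _ h₁ h₂ =>
    obtain ⟨s₁, b₁, hb₁, hs₁, e₁⟩ := h₁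
    obtain ⟨s₂, b₂, hb₂, hs₂, e₂⟩ := h₂
    refine ⟨s₁ * s₂, s₂ • b₁ + s₁ • b₂,
      I.add_mem (by simpa [Algebra.smul_def] using I.mul_mem_left (algebraMap R B s₂) hb₁)
        (by simpa [Algebra.smul_def] using I.mul_mem_left (algebraMap R B s₁) hb₂), ?_, ?_⟩
    · rw [map_mul]; exact mul_ne_zero hs₁ hs₂
    · rw [mul_add, map_mul, map_add, Algebra.smul_def, Algebra.smul_def, map_mul, map_mul,
        ← IsScalarTower.algebraMap_apply R B C, ← IsScalarTower.algebraMap_apply R B C, ← e₁, ← e₂]
      ring
  | smul c' c _ h =>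
    obtain ⟨s, b, hb, hs, e⟩ := h
    obtain ⟨s', b', hs', e'⟩ := exists_mul_eq_algebraMap (B := B) R k hk c'
    refine ⟨s' * s, b' * b, I.mul_mem_left _ hb, ?_, ?_⟩
    · rw [map_mul]; exact mul_ne_zero hs' hs
    · rw [smul_eq_mul, map_mul, map_mul, ← e, ← e']
      ring

end Pushout

section Field

open Groth.Agent.Lib.H77ExLocus

variable {R : Type*} [CommRing R] {M N : Type*} [AddCommGroup M] [Module R M]
  [AddCommGroup N] [Module R N]

/-- Injectivity after base change to a field only depends on the kernel of `R → K`. -/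
theorem injective_baseChange_field_iff (K₀ K : Type*) [Field K₀] [Algebra R K₀] [Field K]
    [Algebra R K] [Algebra K₀ K] [IsScalarTower R K₀ K] (v : M →ₗ[R] N) :
    Injective (v.baseChange K) ↔ Injective (v.baseChange K₀) := by
  have h := exact_baseChange_field_iff (0 : PUnit.{1} →ₗ[R] M) v K₀ K
  rw [LinearMap.baseChange_zero, LinearMap.baseChange_zero, LinearMap.exact_zero_iff_injective,
    LinearMap.exact_zero_iff_injective] at h
  exact h

/-- Injectivity after two successive base changes. -/
theorem injective_baseChange_baseChange_iff (A K : Type*) [CommRing A] [Algebra R A]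
    [CommRing K] [Algebra R K] [Algebra A K] [IsScalarTower R A K] (v : M →ₗ[R] N) :
    Injective ((v.baseChange A).baseChange K) ↔ Injective (v.baseChange K) := by
  have h := exact_baseChange_baseChange_iff (0 : PUnit.{1} →ₗ[R] M) v A K
  rw [LinearMap.baseChange_zero, LinearMap.baseChange_zero, LinearMap.baseChange_zero,
    LinearMap.exact_zero_iff_injective, LinearMap.exact_zero_iff_injective] at h
  exact h

/-- The kernel of a map to a field is prime. -/
instance isPrime_ker_algebraMap (K : Type*) [Field K] [Algebra R K] :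
    (RingHom.ker (algebraMap R K)).IsPrime := RingHom.ker_isPrime _

/-- The `κ(ker φ)`-algebra structure on a field `K` receiving `φ : R → K`. -/
@[instance_reducible] noncomputable def residueFieldAlgebra (K : Type*) [Field K] [Algebra R K] :
    Algebra (RingHom.ker (algebraMap R K)).ResidueField K :=
  (Ideal.ResidueField.lift (RingHom.ker (algebraMap R K)) (algebraMap R K) le_rfl (by
    intro x hx
    have : algebraMap R K x ≠ 0 := hx
    exact this.isUnit)).toAlgebra

theorem residueFieldAlgebra_isScalarTower (K : Type*) [Field K] [Algebra R K] :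
    letI := residueFieldAlgebra (R := R) K
    IsScalarTower R (RingHom.ker (algebraMap R K)).ResidueField K := by
  let _ := residueFieldAlgebra (R := R) K
  refine IsScalarTower.of_algebraMap_eq fun x => ?_
  exact (Ideal.ResidueField.lift_algebraMap _ _ _ _ x).symm

/-- Injectivity over a field `K` vs. over the residue field of the kernel of `R → K`. -/
theorem injective_baseChange_residueField_iff (K : Type*) [Field K] [Algebra R K]
    (v : M →ₗ[R] N) :
    Injective (v.baseChange K) ↔
      Injective (v.baseChange (RingHom.ker (algebraMap R K)).ResidueField) := by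
  let _ := residueFieldAlgebra (R := R) K
  have := residueFieldAlgebra_isScalarTower (R := R) K
  exact injective_baseChange_field_iff _ K v

end Field

section NZD

variable {R B C k : Type*} [CommRing R] [CommRing B] [CommRing C] [Field k]
  [Algebra R B] [Algebra R k] [Algebra B C] [Algebra k C] [Algebra R C]
  [IsScalarTower R B C] [IsScalarTower R k C] [Algebra.IsPushout R k B C]

variable (R k) in
theorem algebraMap_mem_nonZeroDivisors_iff_baseChange (g : B) :
    algebraMap B C g ∈ nonZeroDivisors C ↔
      Injective ((LinearMap.mulLeft R g).baseChange k) := by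
  let e := Algebra.IsPushout.equiv R k B C
  have hsq : ∀ z : k ⊗[R] B,
      e ((LinearMap.mulLeft R g).baseChange k z) = algebraMap B C g * e z := by
    intro z
    induction z with
    | zero => simp
    | tmul x m =>
      rw [LinearMap.baseChange_tmul, LinearMap.mulLeft_apply, Algebra.IsPushout.equiv_tmul,
        Algebra.IsPushout.equiv_tmul, map_mul]
      ring
    | add z₁ z₂ h₁ h₂ => simp only [map_add, h₁, h₂, mul_add]
  rw [mem_nonZeroDivisors_iff_right]
  constructor
  · intro h
    rw [injective_iff_map_eq_zero]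
    intro z hz
    have h1 := hsq z
    rw [hz, map_zero] at h1
    have h2 := h (e z) (by rw [mul_comm]; exact h1.symm)
    exact (map_eq_zero_iff e e.injective).mp h2
  · intro h c hc
    obtain ⟨z, rfl⟩ := e.surjective c
    have h1 : e ((LinearMap.mulLeft R g).baseChange k z) = 0 := by
      rw [hsq, mul_comm]; exact hc
    have h3 := (map_eq_zero_iff e e.injective).mp h1
    have h4 : z = 0 := h (h3.trans (map_zero _).symm)
    rw [h4, map_zero]

variable (R k) in
/-- The image of `g : B` in `C = k ⊗[R] B` is a nonzerodivisor iff multiplication by `g` is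
injective on the fibre `κ(p) ⊗[R] B`, `p = ker (R → k)`. -/
theorem algebraMap_mem_nonZeroDivisors_iff (g : B) :
    algebraMap B C g ∈ nonZeroDivisors C ↔
      Injective ((LinearMap.mulLeft R g).baseChange (RingHom.ker (algebraMap R k)).ResidueField) := by
  rw [algebraMap_mem_nonZeroDivisors_iff_baseChange R k g]
  exact injective_baseChange_residueField_iff k _

end NZD

section Spread

open Groth.Agent.Lib.H77ExLocus Groth.Agent.Lib.H77FibreExact

variable {R B : Type u} [CommRing R] [CommRing B] [Algebra R B] [Algebra.FiniteType R B]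

/-- **Spreading out injectivity of multiplication by `g` from the minimal prime.** -/
theorem exists_forall_injective_mulLeft_baseChange (p₀ : Ideal R) [p₀.IsPrime]
    (hp₀ : ∀ q : Ideal R, q.IsPrime → p₀ ≤ q) (g : B)
    (hg : Injective ((LinearMap.mulLeft R g).baseChange p₀.ResidueField)) :
    ∃ a : R, a ∉ p₀ ∧ ∀ (q : Ideal R) [q.IsPrime], a ∉ q →
      Injective ((LinearMap.mulLeft R g).baseChange q.ResidueField) := by
  classical
  let A := R ⧸ p₀
  let K := FractionRing A
  let v₀ : B →ₗ[R] B := LinearMap.mulLeft R g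
  -- generic injectivity over `K`
  have hker : RingHom.ker (algebraMap R K) = p₀ := by
    ext x
    rw [RingHom.mem_ker, IsScalarTower.algebraMap_apply R A K,
      (IsFractionRing.injective A K).eq_iff' (map_zero _)]
    exact Ideal.Quotient.eq_zero_iff_mem
  have hK : Injective (v₀.baseChange K) := by
    rw [injective_baseChange_residueField_iff K v₀]
    have : ∀ (I J : Ideal R) [I.IsPrime] [J.IsPrime], I = J →
        Injective (v₀.baseChange I.ResidueField) → Injective (v₀.baseChange J.ResidueField) := by
      intro I J _ _ hIJ h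
      subst hIJ
      exact h
    exact this _ _ hker.symm hg
  have hAK : Injective ((v₀.baseChange A).baseChange K) :=
    (injective_baseChange_baseChange_iff A K v₀).mpr hK
  -- apply generic exactness over the domain `A`
  let B' := A ⊗[R] B
  let v' : B' →ₗ[B'] B' := LinearMap.mulLeft B' ((1 : A) ⊗ₜ[R] g)
  have hv' : v'.restrictScalars A = v₀.baseChange A := by
    refine TensorProduct.AlgebraTensorModule.ext fun a b => ?_
    change ((1 : A) ⊗ₜ[R] g) * (a ⊗ₜ[R] b) = a ⊗ₜ[R] (g * b)
    rw [Algebra.TensorProduct.tmul_mul_tmul, one_mul]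
  have hgen : Function.Exact
      (((0 : PUnit.{u + 1} →ₗ[B'] B').restrictScalars A).baseChange K)
      ((v'.restrictScalars A).baseChange K) := by
    rw [hv']
    have h0 : ((0 : PUnit.{u + 1} →ₗ[B'] B').restrictScalars A) = 0 := rfl
    rw [h0, LinearMap.baseChange_zero, LinearMap.exact_zero_iff_injective]
    exact hAK
  obtain ⟨f, hf, hfib⟩ := exists_forall_fibre_exact (R := A) (B := B')
    (0 : PUnit.{u + 1} →ₗ[B'] B') v' hgen
  obtain ⟨a, rfl⟩ := Ideal.Quotient.mk_surjective f
  refine ⟨a, fun ha => hf (Ideal.Quotient.eq_zero_iff_mem.mpr ha), ?_⟩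
  intro q hq haq
  -- lift `q` to a prime of `A`
  have hmem : (⟨q, hq⟩ : PrimeSpectrum R) ∈ Set.range (PrimeSpectrum.comap (Ideal.Quotient.mk p₀)) := by
    rw [range_comap_of_surjective _ _ Ideal.Quotient.mk_surjective, Ideal.mk_ker,
      PrimeSpectrum.mem_zeroLocus]
    exact hp₀ q hq
  obtain ⟨q', hq'⟩ := hmem
  have hq'' : (Ideal.comap (Ideal.Quotient.mk p₀) q'.asIdeal) = q := congrArg (·.asIdeal) hq'
  have hfq : Ideal.Quotient.mk p₀ a ∉ q'.asIdeal := by
    intro h
    apply haq
    rw [← hq'']
    exact h
  have h1 := hfib q' hfq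
  rw [hv'] at h1
  have h0 : ((0 : PUnit.{u + 1} →ₗ[B'] B').restrictScalars A) = 0 := rfl
  rw [h0, LinearMap.baseChange_zero, LinearMap.exact_zero_iff_injective] at h1
  -- transfer to `κ(q)`
  have h2 : Injective (v₀.baseChange q'.asIdeal.ResidueField) :=
    (injective_baseChange_baseChange_iff A q'.asIdeal.ResidueField v₀).mp h1
  rw [injective_baseChange_residueField_iff q'.asIdeal.ResidueField v₀] at h2
  have hker' : RingHom.ker (algebraMap R q'.asIdeal.ResidueField) = q := by
    rw [← hq'']
    ext x
    rw [RingHom.mem_ker, IsScalarTower.algebraMap_apply R A q'.asIdeal.ResidueField,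
      Ideal.algebraMap_residueField_eq_zero]
    rfl
  have : ∀ (I J : Ideal R) [I.IsPrime] [J.IsPrime], I = J →
      Injective (v₀.baseChange I.ResidueField) → Injective (v₀.baseChange J.ResidueField) := by
    intro I J _ _ hIJ h
    subst hIJ
    exact h
  exact this _ _ hker' h2

end Spread

end Groth.Agent.Lib.H77SchDenseAlg
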