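import Mathlib
import Groth.Agent.Lib.H77SchDenseAlg

/-!
# Scheme-theoretic density of an open in the fibres spreads out from the generic fibre (helper77)

Scheme-level tools for S1300:
* `mem_basicOpen_iff_notMem_primeIdealOf`
* `isSchemeTheoreticallyDominant_ι_of_cover`: an open `O ⊆ Z` is schematically dense as soon as every
  member `V i` of an affine cover carries a nonzerodivisor `g i` with `D(g i) ⊆ O`.
* `exists_nonZeroDivisor_of_isSchemeTheoreticallyDominant`: converse on locally Noetherian schemes.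
* `appLE_fromSpecResidueField`: `Γ(Y, Y₀) → κ(y)` induced by `Spec κ(y) ⟶ Y` is the evaluation.
* `isPushout_fibre_chart`: `Γ(X_y, ι_y⁻¹ W) = κ(y) ⊗_{Γ(Y,Y₀)} Γ(X,W)` for affine `W ⊆ f⁻¹ Y₀`.
-/

set_option autoImplicit false
set_option linter.style.haveILetI false
universe u

open CategoryTheory CategoryTheory.Limits AlgebraicGeometry TopologicalSpace Function

namespace Groth.Agent.Lib.H77SchDenseFib

section Basic

variable {X : Scheme.{u}}

theorem mem_basicOpen_iff_notMem_primeIdealOf {V : X.Opens} (hV : IsAffineOpen V)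
    {x : X} (hx : x ∈ V) (r : Γ(X, V)) :
    x ∈ X.basicOpen r ↔ r ∉ (hV.primeIdealOf ⟨x, hx⟩).asIdeal := by
  have hq : hV.fromSpec (hV.primeIdealOf ⟨x, hx⟩) = x := hV.fromSpec_primeIdealOf ⟨x, hx⟩
  conv_lhs => rw [← hq]
  change hV.primeIdealOf ⟨x, hx⟩ ∈ hV.fromSpec ⁻¹ᵁ X.basicOpen r ↔ _
  rw [hV.fromSpec_preimage_basicOpen]
  rfl

/-- An open `O` is schematically dense as soon as every member of an affine cover carries a
nonzerodivisor whose basic open lies in `O`. -/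
theorem isSchemeTheoreticallyDominant_ι_of_cover (O : X.Opens) {ι : Type*}
    (V : ι → X.affineOpens) (hV : ⨆ i, (V i).1 = ⊤)
    (g : ∀ i, Γ(X, (V i).1)) (hg : ∀ i, g i ∈ nonZeroDivisors Γ(X, (V i).1))
    (hle : ∀ i, X.basicOpen (g i) ≤ O) :
    IsSchemeTheoreticallyDominant O.ι := by
  rw [isSchemeTheoreticallyDominant_iff]
  refine Scheme.IdealSheafData.ext_of_iSup_eq_top V hV fun i => ?_
  simp only [Scheme.IdealSheafData.ideal_bot, Pi.bot_apply]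
  rw [← le_bot_iff]
  intro x hx
  have hx' := Scheme.Hom.ideal_ker_le O.ι (V i) hx
  rw [RingHom.mem_ker, Scheme.Opens.ι_app] at hx'
  have hle' : X.basicOpen (g i) ≤ O.ι ''ᵁ O.ι ⁻¹ᵁ (V i).1 := by
    intro z hz
    exact ⟨⟨z, hle i hz⟩, X.basicOpen_le (g i) hz, rfl⟩
  have hres : x |_ (X.basicOpen (g i)) = 0 := by
    have h1 : x |_ (X.basicOpen (g i)) =
        (X.presheaf.map (homOfLE hle').op).hom
          ((X.presheaf.map (homOfLE (x := O.ι ''ᵁ O.ι ⁻¹ᵁ (V i).1)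
            (Set.image_preimage_subset _ _)).op).hom x) := by
      rw [← CommRingCat.comp_apply, ← Functor.map_comp]
      rfl
    rw [h1]
    exact (congrArg (X.presheaf.map (homOfLE hle').op).hom hx').trans (map_zero _)
  obtain ⟨n, hn⟩ := exists_pow_mul_eq_zero_of_res_basicOpen_eq_zero_of_isAffineOpen X (V i).2
    x (g i) hres
  rw [Submodule.mem_bot]
  have hgn : g i ^ n ∈ nonZeroDivisors Γ(X, (V i).1) := pow_mem (hg i) n
  exact (mul_left_mem_nonZeroDivisors_eq_zero_iff hgn).mp hn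

/-- Restriction to `D(t)` of a section killed by `t` vanishes. -/
theorem res_basicOpen_eq_zero_of_mul_eq_zero {V : X.Opens} (t c : Γ(X, V)) (h : t * c = 0) :
    (X.presheaf.map (homOfLE (X.basicOpen_le t)).op).hom c = 0 := by
  have hu : IsUnit ((X.presheaf.map (homOfLE (X.basicOpen_le t)).op).hom t) :=
    RingedSpace.isUnit_res_basicOpen X.toRingedSpace t
  have h1 := congrArg (X.presheaf.map (homOfLE (X.basicOpen_le t)).op).hom h
  rw [map_mul, map_zero] at h1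
  exact (hu.mul_right_eq_zero).mp h1

/-- On a locally Noetherian scheme, if the open `O` is schematically dense, `V` is an affine
open and the ideal `I` of `Γ(X, V)` satisfies `O ∩ V ⊆ ⋃_{t ∈ I} D(t)`, then `I` contains a
nonzerodivisor. -/
theorem exists_nonZeroDivisor_of_isSchemeTheoreticallyDominant [IsLocallyNoetherian X]
    (O : X.Opens) [IsSchemeTheoreticallyDominant O.ι] (V : X.affineOpens)
    (I : Ideal Γ(X, V.1))
    (hI : ∀ x ∈ V.1, x ∈ O → ∃ t ∈ I, x ∈ X.basicOpen t) :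
    ∃ g ∈ I, g ∈ nonZeroDivisors Γ(X, V.1) := by
  have : IsNoetherianRing Γ(X, V.1) := IsLocallyNoetherian.component_noetherian V
  refine H77SchDenseAlg.exists_nonZeroDivisor_mem I fun c hc => ?_
  apply Scheme.Hom.app_injective O.ι V.1
  rw [map_zero, Scheme.Opens.ι_app]
  refine X.IsSheaf.section_ext fun x hx => ?_
  obtain ⟨⟨x', hx'O⟩, hx'V, rfl⟩ := hx
  change x' ∈ V.1 at hx'V
  obtain ⟨t, htI, hxt⟩ := hI x' hx'V hx'O
  have hnotle : ¬ I ≤ (V.2.primeIdealOf ⟨x', hx'V⟩).asIdeal := fun hle =>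
    (mem_basicOpen_iff_notMem_primeIdealOf V.2 hx'V t).mp hxt (hle htI)
  obtain ⟨t', ht'q, ht'c⟩ := hc _ (V.2.primeIdealOf ⟨x', hx'V⟩).isPrime hnotle
  have hxt' : x' ∈ X.basicOpen t' := (mem_basicOpen_iff_notMem_primeIdealOf V.2 hx'V t').mpr ht'q
  refine ⟨X.basicOpen t' ⊓ O.ι ''ᵁ O.ι ⁻¹ᵁ V.1, inf_le_right,
    ⟨hxt', ⟨⟨x', hx'O⟩, hx'V, rfl⟩⟩, ?_⟩
  refine Eq.trans ?_ (map_zero _).symm
  have h0 := res_basicOpen_eq_zero_of_mul_eq_zero t' c ht'c
  have h1 : (X.presheaf.map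
      (homOfLE (inf_le_right : X.basicOpen t' ⊓ O.ι ''ᵁ O.ι ⁻¹ᵁ V.1 ≤ _)).op).hom
      ((X.presheaf.map (homOfLE (x := O.ι ''ᵁ O.ι ⁻¹ᵁ V.1)
        (Set.image_preimage_subset _ _)).op).hom c) =
      (X.presheaf.map (homOfLE (inf_le_left : X.basicOpen t' ⊓ O.ι ''ᵁ O.ι ⁻¹ᵁ V.1 ≤ _)).op).hom
        ((X.presheaf.map (homOfLE (X.basicOpen_le t')).op).hom c) := by
    rw [← CommRingCat.comp_apply, ← Functor.map_comp, ← CommRingCat.comp_apply,
      ← Functor.map_comp]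
    rfl
  exact h1.trans ((congrArg _ h0).trans (map_zero _))

end Basic

section Chart

variable {X Y : Scheme.{u}}

theorem top_le_fromSpecResidueField_preimage (y : Y) (Y₀ : Y.Opens) (hy : y ∈ Y₀) :
    (⊤ : (Spec (Y.residueField y)).Opens) ≤ Y.fromSpecResidueField y ⁻¹ᵁ Y₀ := by
  intro z _
  change (Y.fromSpecResidueField y) z ∈ Y₀
  rw [Scheme.fromSpecResidueField_apply]
  exact hy

/-- `Γ(Y, Y₀) → Γ(Spec κ(y), ⊤) ≅ κ(y)` is the evaluation at `y`. -/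
theorem appLE_fromSpecResidueField (y : Y) (Y₀ : Y.Opens) (hy : y ∈ Y₀) :
    (Y.fromSpecResidueField y).appLE Y₀ ⊤ (top_le_fromSpecResidueField_preimage y Y₀ hy) ≫
      (Scheme.ΓSpecIso _).hom = Y.evaluation Y₀ y hy := by
  have h0 : (⊤ : (Spec (Y.presheaf.stalk y)).Opens) ≤ (Y.fromSpecStalk y) ⁻¹ᵁ Y₀ := by
    intro z _
    change (Y.fromSpecStalk y) z ∈ Y₀
    have hz : (Y.fromSpecStalk y) z ∈ Set.range (Y.fromSpecStalk y) := Set.mem_range_self z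
    rw [Y.range_fromSpecStalk] at hz
    exact (show (Y.fromSpecStalk y) z ⤳ y from hz).mem_open Y₀.2 hy
  have h1 : (Y.fromSpecResidueField y).appLE Y₀ ⊤
      (top_le_fromSpecResidueField_preimage y Y₀ hy) =
      (Y.fromSpecStalk y).appLE Y₀ ⊤ h0 ≫ (Spec.map (Y.residue y)).appLE ⊤ ⊤ le_top := by
    rw [Scheme.Hom.appLE_comp_appLE]
    rfl
  have h2 : (Y.fromSpecStalk y).appLE Y₀ ⊤ h0 =
      Y.presheaf.germ Y₀ y hy ≫ (Scheme.ΓSpecIso (Y.presheaf.stalk y)).inv := by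
    simp only [Scheme.Hom.appLE, Scheme.fromSpecStalk_app hy, Category.assoc]
    rw [← Functor.map_comp]
    have : ∀ (e : (Opposite.op (⊤ : (Spec (Y.presheaf.stalk y)).Opens)) ⟶ Opposite.op ⊤),
        (Spec (Y.presheaf.stalk y)).presheaf.map e = 𝟙 _ := by
      intro e
      rw [Subsingleton.elim e (𝟙 _)]
      exact (Spec (Y.presheaf.stalk y)).presheaf.map_id _
    rw [this, Category.comp_id]
  have h3 : (Spec.map (Y.residue y)).appLE ⊤ ⊤ le_top = (Spec.map (Y.residue y)).appTop :=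
    Scheme.Hom.appLE_eq_app _ |>.trans rfl
  rw [h1, h2, Category.assoc, Category.assoc, h3, Scheme.ΓSpecIso_naturality,
    Iso.inv_hom_id_assoc]
  rfl

variable (f : X ⟶ Y) (y : Y) {Y₀ : Y.Opens} (hY₀ : IsAffineOpen Y₀) (hy : y ∈ Y₀)
  {W : X.Opens} (hW : IsAffineOpen W) (hWY : W ≤ f ⁻¹ᵁ Y₀)

theorem fibre_chart_aux :
    f.fiberι y ⁻¹ᵁ W = f.fiberι y ⁻¹ᵁ W ⊓ f.fiberToSpecResidueField y ⁻¹ᵁ ⊤ := by
  simp

include hY₀ hy hW hWY in
/-- The trace of an affine open on a fibre is affine. -/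
theorem isAffineOpen_fiberι_preimage : IsAffineOpen (f.fiberι y ⁻¹ᵁ W) := by
  have H : IsPullback (f.fiberι y) (f.fiberToSpecResidueField y) f (Y.fromSpecResidueField y) :=
    IsPullback.of_hasPullback _ _
  have : IsAffine Y₀.toScheme := hY₀
  have : IsAffine W.toScheme := hW
  have : IsAffine (⊤ : (Spec (Y.residueField y)).Opens).toScheme := isAffineOpen_top _
  exact .of_isIso (Scheme.Hom.isPullback_resLE H (top_le_fromSpecResidueField_preimage y Y₀ hy)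
    hWY (fibre_chart_aux f y)).isoPullback.hom

include hY₀ hW in
/-- **Affine chart of a fibre**: `Γ(X_y, ι_y⁻¹ W) = κ(y) ⊗_{Γ(Y, Y₀)} Γ(X, W)`. -/
theorem isPushout_fibre_chart :
    IsPushout (f.appLE Y₀ W hWY) (Y.evaluation Y₀ y hy)
      ((f.fiberι y).appLE W (f.fiberι y ⁻¹ᵁ W) le_rfl)
      ((Scheme.ΓSpecIso _).inv ≫
        (f.fiberToSpecResidueField y).appLE ⊤ (f.fiberι y ⁻¹ᵁ W) le_top) := by
  have H : IsPullback (f.fiberι y) (f.fiberToSpecResidueField y) f (Y.fromSpecResidueField y) :=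
    IsPullback.of_hasPullback _ _
  have hiso := isIso_pushoutSection_of_isAffineOpen H
    (top_le_fromSpecResidueField_preimage y Y₀ hy) hWY (fibre_chart_aux f y) hY₀
    (isAffineOpen_top _) hW
  have sq := (isIso_pushoutSection_iff H (top_le_fromSpecResidueField_preimage y Y₀ hy) hWY
    (fibre_chart_aux f y)).mp hiso
  refine sq.of_iso (Iso.refl _) (Iso.refl _) (Scheme.ΓSpecIso _) (Iso.refl _) ?_ ?_ ?_ ?_
  · simp
  · rw [Iso.refl_hom, Category.id_comp]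
    exact appLE_fromSpecResidueField y Y₀ hy
  · simp
  · simp

end Chart

section Core

open Groth.Agent.Lib.H77SchDenseAlg

variable {X Y : Scheme.{u}}

/-- The ideal of sections over `W` whose basic open lies in `U`. -/
def basicIdeal (U W : X.Opens) : Ideal Γ(X, W) where
  carrier := {t | X.basicOpen t ≤ U}
  add_mem' := by
    intro a b ha hb
    exact (X.basicOpen_add_le a b).trans (sup_le ha hb)
  zero_mem' := by
    change X.basicOpen (0 : Γ(X, W)) ≤ U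
    rw [Scheme.basicOpen_zero]
    exact bot_le
  smul_mem' := by
    intro c a ha
    change X.basicOpen (c * a) ≤ U
    rw [Scheme.basicOpen_mul]
    exact inf_le_right.trans ha

theorem mem_basicIdeal {U W : X.Opens} {t : Γ(X, W)} :
    t ∈ basicIdeal U W ↔ X.basicOpen t ≤ U := Iff.rfl

/-- Every element of the residue field at a point of an affine open is a fraction of
evaluations. -/
theorem exists_evaluation_fraction {Y₀ : Y.Opens} (hY₀ : IsAffineOpen Y₀) (y : Y) (hy : y ∈ Y₀)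
    (z : Y.residueField y) :
    ∃ a s : Γ(Y, Y₀), (Y.evaluation Y₀ y hy).hom s ≠ 0 ∧
      z * (Y.evaluation Y₀ y hy).hom s = (Y.evaluation Y₀ y hy).hom a := by
  obtain ⟨w, rfl⟩ := Y.residue_surjective y z
  letI := TopCat.Presheaf.algebra_section_stalk Y.presheaf (⟨y, hy⟩ : Y₀)
  have hloc := hY₀.isLocalization_stalk ⟨y, hy⟩
  obtain ⟨⟨a, s⟩, hws⟩ := IsLocalization.surj (hY₀.primeIdealOf ⟨y, hy⟩).asIdeal.primeCompl w
  refine ⟨a, s.1, ?_, ?_⟩
  · rw [Scheme.evaluation_ne_zero_iff_mem_basicOpen,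
      mem_basicOpen_iff_notMem_primeIdealOf hY₀ hy]
    exact s.2
  · have h1 := congrArg (Y.residue y).hom hws
    rw [map_mul] at h1
    exact h1

instance isPrime_ker_evaluation (Y₀ : Y.Opens) (y : Y) (hy : y ∈ Y₀) :
    (RingHom.ker (Y.evaluation Y₀ y hy).hom).IsPrime := RingHom.ker_isPrime _

variable (f : X ⟶ Y) (y : Y) {Y₀ : Y.Opens} (hY₀ : IsAffineOpen Y₀) (hy : y ∈ Y₀)
  {W : X.Opens} (hW : IsAffineOpen W) (hWY : W ≤ f ⁻¹ᵁ Y₀)

include hY₀ hW in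
/-- The image of `b ∈ Γ(X, W)` in the fibre chart `Γ(X_y, ι_y⁻¹ W)` is a nonzerodivisor iff
multiplication by `b` is injective on `κ(p_y) ⊗ Γ(X, W)`. -/
theorem fibre_nzd_iff (b : Γ(X, W)) :
    letI := (f.appLE Y₀ W hWY).hom.toAlgebra
    ((f.fiberι y).appLE W (f.fiberι y ⁻¹ᵁ W) le_rfl).hom b ∈
        nonZeroDivisors Γ(f.fiber y, f.fiberι y ⁻¹ᵁ W) ↔
      Injective ((LinearMap.mulLeft Γ(Y, Y₀) b).baseChange
        (RingHom.ker (Y.evaluation Y₀ y hy).hom).ResidueField) := by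
  have sq := isPushout_fibre_chart f y hY₀ hy hW hWY
  letI : Algebra Γ(Y, Y₀) Γ(X, W) := (f.appLE Y₀ W hWY).hom.toAlgebra
  letI : Algebra Γ(Y, Y₀) (Y.residueField y) := (Y.evaluation Y₀ y hy).hom.toAlgebra
  letI : Algebra Γ(X, W) Γ(f.fiber y, f.fiberι y ⁻¹ᵁ W) :=
    ((f.fiberι y).appLE W (f.fiberι y ⁻¹ᵁ W) le_rfl).hom.toAlgebra
  letI : Algebra (Y.residueField y) Γ(f.fiber y, f.fiberι y ⁻¹ᵁ W) :=
    ((Scheme.ΓSpecIso _).inv ≫
      (f.fiberToSpecResidueField y).appLE ⊤ (f.fiberι y ⁻¹ᵁ W) le_top).hom.toAlgebra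
  letI : Algebra Γ(Y, Y₀) Γ(f.fiber y, f.fiberι y ⁻¹ᵁ W) :=
    (f.appLE Y₀ W hWY ≫ (f.fiberι y).appLE W (f.fiberι y ⁻¹ᵁ W) le_rfl).hom.toAlgebra
  haveI : IsScalarTower Γ(Y, Y₀) Γ(X, W) Γ(f.fiber y, f.fiberι y ⁻¹ᵁ W) :=
    .of_algebraMap_eq' rfl
  haveI : IsScalarTower Γ(Y, Y₀) (Y.residueField y) Γ(f.fiber y, f.fiberι y ⁻¹ᵁ W) :=
    .of_algebraMap_eq' (congrArg CommRingCat.Hom.hom sq.w)
  haveI : Algebra.IsPushout Γ(Y, Y₀) (Y.residueField y) Γ(X, W)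
      Γ(f.fiber y, f.fiberι y ⁻¹ᵁ W) :=
    CommRingCat.isPushout_iff_isPushout.mp sq.flip
  exact algebraMap_mem_nonZeroDivisors_iff Γ(Y, Y₀) (Y.residueField y) b

include hY₀ hW hy hWY in
/-- Elements of `I·Γ(X_y, ι_y⁻¹ W)` are, up to a unit, images of elements of `I`. -/
theorem exists_unit_mul_eq_of_mem_map (I : Ideal Γ(X, W))
    {c : Γ(f.fiber y, f.fiberι y ⁻¹ᵁ W)}
    (hc : c ∈ I.map ((f.fiberι y).appLE W (f.fiberι y ⁻¹ᵁ W) le_rfl).hom) :
    ∃ (u : Γ(f.fiber y, f.fiberι y ⁻¹ᵁ W)) (b : Γ(X, W)), IsUnit u ∧ b ∈ I ∧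
      u * c = ((f.fiberι y).appLE W (f.fiberι y ⁻¹ᵁ W) le_rfl).hom b := by
  have sq := isPushout_fibre_chart f y hY₀ hy hW hWY
  letI : Algebra Γ(Y, Y₀) Γ(X, W) := (f.appLE Y₀ W hWY).hom.toAlgebra
  letI : Algebra Γ(Y, Y₀) (Y.residueField y) := (Y.evaluation Y₀ y hy).hom.toAlgebra
  letI : Algebra Γ(X, W) Γ(f.fiber y, f.fiberι y ⁻¹ᵁ W) :=
    ((f.fiberι y).appLE W (f.fiberι y ⁻¹ᵁ W) le_rfl).hom.toAlgebra
  letI : Algebra (Y.residueField y) Γ(f.fiber y, f.fiberι y ⁻¹ᵁ W) :=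
    ((Scheme.ΓSpecIso _).inv ≫
      (f.fiberToSpecResidueField y).appLE ⊤ (f.fiberι y ⁻¹ᵁ W) le_top).hom.toAlgebra
  letI : Algebra Γ(Y, Y₀) Γ(f.fiber y, f.fiberι y ⁻¹ᵁ W) :=
    (f.appLE Y₀ W hWY ≫ (f.fiberι y).appLE W (f.fiberι y ⁻¹ᵁ W) le_rfl).hom.toAlgebra
  haveI : IsScalarTower Γ(Y, Y₀) Γ(X, W) Γ(f.fiber y, f.fiberι y ⁻¹ᵁ W) :=
    .of_algebraMap_eq' rfl
  haveI : IsScalarTower Γ(Y, Y₀) (Y.residueField y) Γ(f.fiber y, f.fiberι y ⁻¹ᵁ W) :=
    .of_algebraMap_eq' (congrArg CommRingCat.Hom.hom sq.w)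
  haveI : Algebra.IsPushout Γ(Y, Y₀) (Y.residueField y) Γ(X, W)
      Γ(f.fiber y, f.fiberι y ⁻¹ᵁ W) :=
    CommRingCat.isPushout_iff_isPushout.mp sq.flip
  obtain ⟨s, b, hbI, hs, e⟩ := exists_mul_eq_algebraMap_of_mem_map Γ(Y, Y₀) (Y.residueField y)
    (exists_evaluation_fraction hY₀ y hy) I hc
  refine ⟨algebraMap Γ(Y, Y₀) Γ(f.fiber y, f.fiberι y ⁻¹ᵁ W) s, b, ?_, hbI, e⟩
  rw [IsScalarTower.algebraMap_apply Γ(Y, Y₀) (Y.residueField y)]
  exact (hs.isUnit).map _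

end Core

section Main

open Groth.Agent.Lib.H77SchDenseAlg

variable {X Y : Scheme.{u}} (f : X ⟶ Y) [IrreducibleSpace Y] [LocallyOfFiniteType f]

instance lft_fiberToSpecResidueField {X Y : Scheme.{u}} (f : X ⟶ Y) [LocallyOfFiniteType f] (y : Y) :
    LocallyOfFiniteType (f.fiberToSpecResidueField y) :=
  MorphismProperty.of_isPullback (IsPullback.of_hasPullback f (Y.fromSpecResidueField y)) ‹_›

/-- The kernel of the evaluation at the generic point is contained in every prime. -/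
theorem ker_evaluation_genericPoint_le {Y₀ : Y.Opens} (hY₀ : IsAffineOpen Y₀)
    (hη : genericPoint Y ∈ Y₀) (q : Ideal Γ(Y, Y₀)) (hq : q.IsPrime) :
    RingHom.ker (Y.evaluation Y₀ (genericPoint Y) hη).hom ≤ q := by
  intro a ha
  rw [RingHom.mem_ker, Scheme.evaluation_eq_zero_iff_notMem_basicOpen] at ha
  have hbot : Y.basicOpen a = ⊥ := by
    by_contra hne
    obtain ⟨z, hz⟩ := (Opens.ne_bot_iff_nonempty _).mp hne
    exact ha (((genericPoint_spec Y).mem_open_set_iff (Y.basicOpen a).2).mpr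
      ⟨z, Set.mem_univ z, hz⟩)
  have hnil : IsNilpotent a :=
    (Scheme.isNilpotent_iff_basicOpen_eq_bot_of_isCompact hY₀.isCompact a).mpr hbot
  obtain ⟨n, hn⟩ := hnil
  exact hq.mem_of_pow_mem n (hn ▸ q.zero_mem)

theorem exists_forall_fibre_nzd (U : X.Opens)
    (h : IsSchemeTheoreticallyDominant (f.fiberι (genericPoint Y) ⁻¹ᵁ U).ι)
    {Y₀ : Y.Opens} (hY₀ : IsAffineOpen Y₀) (hη : genericPoint Y ∈ Y₀)
    {W : X.Opens} (hW : IsAffineOpen W) (hWY : W ≤ f ⁻¹ᵁ Y₀) :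
    ∃ a : Γ(Y, Y₀), genericPoint Y ∈ Y.basicOpen a ∧ ∀ y (_ : y ∈ Y₀), y ∈ Y.basicOpen a →
      ∃ g : Γ(f.fiber y, f.fiberι y ⁻¹ᵁ W),
        g ∈ nonZeroDivisors Γ(f.fiber y, f.fiberι y ⁻¹ᵁ W) ∧
        (f.fiber y).basicOpen g ≤ f.fiberι y ⁻¹ᵁ U := by
  classical
  letI algRB : Algebra Γ(Y, Y₀) Γ(X, W) := (f.appLE Y₀ W hWY).hom.toAlgebra
  haveI : Algebra.FiniteType Γ(Y, Y₀) Γ(X, W) := f.finiteType_appLE hY₀ hW hWY
  have hVη : IsAffineOpen (f.fiberι (genericPoint Y) ⁻¹ᵁ W) :=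
    isAffineOpen_fiberι_preimage f (genericPoint Y) hY₀ hη hW hWY
  haveI : IsLocallyNoetherian (f.fiber (genericPoint Y)) :=
    LocallyOfFiniteType.isLocallyNoetherian (f.fiberToSpecResidueField (genericPoint Y))
  haveI := h
  -- a nonzerodivisor in the generic fibre chart lying in `I·C_η`
  obtain ⟨g', hg'I, hg'⟩ := exists_nonZeroDivisor_of_isSchemeTheoreticallyDominant
    (f.fiberι (genericPoint Y) ⁻¹ᵁ U) ⟨f.fiberι (genericPoint Y) ⁻¹ᵁ W, hVη⟩
    ((basicIdeal U W).map ((f.fiberι (genericPoint Y)).appLE W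
      (f.fiberι (genericPoint Y) ⁻¹ᵁ W) le_rfl).hom) (by
    intro x hxV hxO
    obtain ⟨t, htU, hxt⟩ := hW.exists_basicOpen_le (V := U)
      ⟨(f.fiberι (genericPoint Y)) x, hxO⟩ hxV
    refine ⟨_, Ideal.mem_map_of_mem _ (mem_basicIdeal.mpr htU), ?_⟩
    rw [Scheme.basicOpen_appLE]
    exact ⟨hxV, hxt⟩)
  -- descend to an element of `I`
  obtain ⟨u, b, hu, hbI, hub⟩ := exists_unit_mul_eq_of_mem_map f (genericPoint Y) hY₀ hη hW hWY
    (basicIdeal U W) hg'I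
  have hbη : ((f.fiberι (genericPoint Y)).appLE W (f.fiberι (genericPoint Y) ⁻¹ᵁ W) le_rfl).hom b ∈
      nonZeroDivisors Γ(f.fiber (genericPoint Y), f.fiberι (genericPoint Y) ⁻¹ᵁ W) := by
    rw [← hub]
    exact mul_mem hu.mem_nonZeroDivisors hg'
  have hinj := (fibre_nzd_iff f (genericPoint Y) hY₀ hη hW hWY b).mp hbη
  -- spread out
  obtain ⟨a, ha, hspread⟩ := exists_forall_injective_mulLeft_baseChange
    (RingHom.ker (Y.evaluation Y₀ (genericPoint Y) hη).hom)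
    (ker_evaluation_genericPoint_le hY₀ hη) b hinj
  refine ⟨a, ?_, ?_⟩
  · rw [← Scheme.evaluation_ne_zero_iff_mem_basicOpen (hx := hη)]
    exact ha
  · intro y hy hya
    have hay : a ∉ RingHom.ker (Y.evaluation Y₀ y hy).hom := by
      rw [RingHom.mem_ker]
      exact (Scheme.evaluation_ne_zero_iff_mem_basicOpen (hx := hy) ..).mpr hya
    have hinjy := hspread (RingHom.ker (Y.evaluation Y₀ y hy).hom) hay
    refine ⟨_, (fibre_nzd_iff f y hY₀ hy hW hWY b).mpr hinjy, ?_⟩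
    rw [Scheme.basicOpen_appLE]
    exact inf_le_right.trans ((f.fiberι y).preimage_mono (mem_basicIdeal.mp hbI))

theorem basicOpen_prod_le {Z : Scheme.{u}} {O : Z.Opens} {ι : Type*} (t : Finset ι)
    (a : ι → Γ(Z, O)) (j : ι) (hj : j ∈ t) :
    Z.basicOpen (∏ i ∈ t, a i) ≤ Z.basicOpen (a j) := by
  classical
  rw [← Finset.mul_prod_erase t a hj, Scheme.basicOpen_mul]
  exact inf_le_left

/-- **Scheme-theoretic density in the fibres spreads out from the generic fibre**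
(EGA IV 11.10.?, Stacks 054Y). -/
theorem exists_open_forall_isSchemeTheoreticallyDominant [QuasiCompact f] (U : X.Opens)
    (h : IsSchemeTheoreticallyDominant (f.fiberι (genericPoint Y) ⁻¹ᵁ U).ι) :
    ∃ V : Y.Opens, (V : Set Y).Nonempty ∧
      ∀ y ∈ V, IsSchemeTheoreticallyDominant (f.fiberι y ⁻¹ᵁ U).ι := by
  classical
  obtain ⟨_, ⟨Y₀, hY₀, rfl⟩, hηY₀, -⟩ := Y.isBasis_affineOpens.exists_subset_of_mem_open
    (Set.mem_univ (genericPoint Y)) isOpen_univ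
  obtain ⟨s, hs, hcov⟩ := isCompact_iff_finite_and_eq_biUnion_affineOpens.mp
    (f.isCompact_preimage hY₀.isCompact)
  have hle : ∀ W : s, W.1.1 ≤ f ⁻¹ᵁ Y₀ := fun W => by
    rw [hcov]
    exact le_iSup₂ (f := fun (i : X.affineOpens) (_ : i ∈ s) => (i : X.Opens)) W.1 W.2
  have key : ∀ W : s, ∃ a : Γ(Y, Y₀), genericPoint Y ∈ Y.basicOpen a ∧
      ∀ y (_ : y ∈ Y₀), y ∈ Y.basicOpen a →
      ∃ g : Γ(f.fiber y, f.fiberι y ⁻¹ᵁ W.1.1),
        g ∈ nonZeroDivisors Γ(f.fiber y, f.fiberι y ⁻¹ᵁ W.1.1) ∧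
        (f.fiber y).basicOpen g ≤ f.fiberι y ⁻¹ᵁ U :=
    fun W => exists_forall_fibre_nzd f U h hY₀ hηY₀ W.1.2 (hle W)
  choose a ha1 ha2 using key
  haveI : Fintype s := hs.fintype
  refine ⟨Y.basicOpen (∏ W : s, a W), ⟨genericPoint Y, ?_⟩, ?_⟩
  · change genericPoint Y ∈ Y.basicOpen (∏ W : s, a W)
    rw [← Scheme.evaluation_ne_zero_iff_mem_basicOpen (hx := hηY₀), map_prod]
    refine Finset.prod_ne_zero_iff.mpr fun W _ => ?_
    exact (Scheme.evaluation_ne_zero_iff_mem_basicOpen (hx := hηY₀) ..).mpr (ha1 W)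
  · intro y hyV
    have hyY₀ : y ∈ Y₀ := Y.basicOpen_le _ hyV
    have hya : ∀ W : s, y ∈ Y.basicOpen (a W) := fun W =>
      basicOpen_prod_le Finset.univ a W (Finset.mem_univ W) hyV
    choose g hg1 hg2 using fun W : s => ha2 W y hyY₀ (hya W)
    refine isSchemeTheoreticallyDominant_ι_of_cover (f.fiberι y ⁻¹ᵁ U)
      (fun W : s => ⟨f.fiberι y ⁻¹ᵁ W.1.1,
        isAffineOpen_fiberι_preimage f y hY₀ hyY₀ W.1.2 (hle W)⟩) ?_ g hg1 hg2
    rw [eq_top_iff]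
    intro z _
    have hz : (f.fiberι y) z ∈ f ⁻¹ᵁ Y₀ := by
      change f ((f.fiberι y) z) ∈ Y₀
      have : f ((f.fiberι y) z) = y := by
        have h1 := Set.mem_range_self (f := f.fiberι y) z
        rw [Scheme.Hom.range_fiberι] at h1
        exact h1
      rw [this]
      exact hyY₀
    rw [hcov] at hz
    simp only [Opens.mem_iSup] at hz ⊢
    obtain ⟨W, hWs, hzW⟩ := hz
    exact ⟨⟨W, hWs⟩, hzW⟩

end Main

end Groth.Agent.Lib.H77SchDenseFib
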