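import Groth.Agent.Lib.SchDenseReg
import Groth.Agent.Lib.RelCartier
import Mathlib.AlgebraicGeometry.Morphisms.Flat

/-!
# Schematically dense opens: restriction to opens and flat pull-back (helper68)

* `isSchematicallyDense_restrict`: a schematically dense open stays schematically dense in every open subscheme.
* `exists_nonZeroDivisor_basicOpen_le`: on a locally Noetherian scheme, a schematically dense open `V` contains `D(r)`
  for a nonzerodivisor `r ∈ Γ(X, T)`, for every affine open `T`.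
* `isSchematicallyDense_preimage_of_flat`: the preimage of a schematically dense open under a flat morphism to a
  locally Noetherian scheme is schematically dense.
-/

set_option autoImplicit false
universe u

open CategoryTheory CategoryTheory.Limits AlgebraicGeometry Opposite TopologicalSpace

namespace Groth.Agent.Lib.SchDenseFlat68

variable {X Y : Scheme.{u}}

theorem isSchematicallyDense_restrict (T : X.Opens) (V : X.Opens)
    (hV : CInt.IsSchematicallyDense V) : CInt.IsSchematicallyDense (T.ι ⁻¹ᵁ V) := by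
  intro O
  have h1 := hV (T.ι ''ᵁ O)
  have hle : T.ι ''ᵁ O ⊓ V ≤ T.ι ''ᵁ (O ⊓ T.ι ⁻¹ᵁ V) := by
    rintro _ ⟨⟨o, ho, rfl⟩, hoV⟩
    exact ⟨o, ⟨ho, hoV⟩, rfl⟩
  have key : Function.Injective (X.presheaf.map
      (homOfLE (T.ι.image_mono (inf_le_left : O ⊓ T.ι ⁻¹ᵁ V ≤ O))).op) := by
    rw [injective_iff_map_eq_zero] at h1 ⊢
    intro s hs
    apply h1
    have : X.presheaf.map (homOfLE (inf_le_left : T.ι ''ᵁ O ⊓ V ≤ T.ι ''ᵁ O)).op =
        X.presheaf.map (homOfLE (T.ι.image_mono (inf_le_left : O ⊓ T.ι ⁻¹ᵁ V ≤ O))).op ≫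
          X.presheaf.map (homOfLE hle).op := by
      rw [← Functor.map_comp]; rfl
    rw [this, CommRingCat.comp_apply, hs, map_zero]
  exact key

/-- On a locally Noetherian scheme, a schematically dense open contains the nonvanishing locus of a nonzerodivisor
on any given affine open. -/
theorem exists_nonZeroDivisor_basicOpen_le [IsLocallyNoetherian X] (T : X.affineOpens) (V : X.Opens)
    (hV : CInt.IsSchematicallyDense V) :
    ∃ r : Γ(X, T.1), r ∈ nonZeroDivisors Γ(X, T.1) ∧ X.basicOpen r ≤ V := by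
  have hA : IsAffine (T.1 : Scheme.{u}) := T.2
  have hN : IsNoetherian (T.1 : Scheme.{u}) := {}
  obtain ⟨t, ht, hle⟩ := Groth.Agent.Lib.SchDenseReg.exists_basicOpen_le_of_isSchematicallyDense
    (Or.inl hN) _ (isSchematicallyDense_restrict T.1 V hV)
  refine ⟨T.1.topIso.hom t, ?_, ?_⟩
  · have := MulEquivClass.map_nonZeroDivisors T.1.topIso.commRingCatIsoToRingEquiv
    rw [← this]
    exact Submonoid.mem_map_of_mem _ ht
  · rw [← Scheme.Opens.ι_image_basicOpen_topIso_inv, Iso.hom_inv_id_apply]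
    exact (T.1.ι.image_mono hle).trans (Set.image_preimage_subset _ _)

/-- Flat pull-back of a schematically dense open of a locally Noetherian scheme is schematically dense. -/
theorem isSchematicallyDense_preimage_of_flat (f : Y ⟶ X) [Flat f] [IsLocallyNoetherian X]
    (V : X.Opens) (hV : CInt.IsSchematicallyDense V) : CInt.IsSchematicallyDense (f ⁻¹ᵁ V) := by
  intro W'
  rw [injective_iff_map_eq_zero]
  intro s hs
  refine Y.IsSheaf.section_ext fun y hy => ?_
  obtain ⟨T, hT, hyT, -⟩ := Opens.isBasis_iff_nbhd.mp X.isBasis_affineOpens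
    (show f y ∈ (⊤ : X.Opens) from trivial)
  obtain ⟨r, hr, hrV⟩ := exists_nonZeroDivisor_basicOpen_le ⟨T, hT⟩ V hV
  obtain ⟨W, hW, hyW, hWle⟩ := Opens.isBasis_iff_nbhd.mp Y.isBasis_affineOpens
    (show y ∈ W' ⊓ f ⁻¹ᵁ T from ⟨hy, hyT⟩)
  have hWW' : W ≤ W' := hWle.trans inf_le_left
  have hWT : W ≤ f ⁻¹ᵁ T := hWle.trans inf_le_right
  refine ⟨W, hWW', hyW, ?_⟩
  rw [map_zero]
  set φr := (f.appLE T W hWT).hom r with hφr
  have hφnzd : φr ∈ nonZeroDivisors Γ(Y, W) :=
    Groth.Agent.Lib.RelCartier.map_mem_nonZeroDivisors_of_flat _ (Flat.flat_appLE f hT hW hWT) r hr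
  have hD : Y.basicOpen φr ≤ W' ⊓ f ⁻¹ᵁ V := by
    rw [hφr, Scheme.basicOpen_appLE]
    rintro z ⟨hz1, hz2⟩
    exact ⟨hWW' hz1, hrV hz2⟩
  have h0 : Y.presheaf.map (homOfLE (Y.basicOpen_le φr)).op (Y.presheaf.map (homOfLE hWW').op s) = 0 := by
    have : Y.presheaf.map (homOfLE hWW').op ≫ Y.presheaf.map (homOfLE (Y.basicOpen_le φr)).op =
        Y.presheaf.map (homOfLE (inf_le_left : W' ⊓ f ⁻¹ᵁ V ≤ W')).op ≫
          Y.presheaf.map (homOfLE hD).op := by
      rw [← Functor.map_comp, ← Functor.map_comp]; rfl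
    rw [← CommRingCat.comp_apply, this, CommRingCat.comp_apply, hs, map_zero]
  obtain ⟨n, hn⟩ := exists_pow_mul_eq_zero_of_res_basicOpen_eq_zero_of_isAffineOpen Y hW
    (Y.presheaf.map (homOfLE hWW').op s) φr h0
  exact (mem_nonZeroDivisors_iff_left.mp (pow_mem hφnzd n)) _ hn

end Groth.Agent.Lib.SchDenseFlat68
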