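import Groth.Agent.Lib.FibDenseCore88
import Groth.Agent.Lib.H77SchDenseFib
import Groth.Agent.Lib.SchDenseFlat68

/-!
# EGA IV 11.10.10: universally schematically dense opens of flat l.f.p. morphisms (helper88)

* `eq_zero_of_res_eq_zero_of_fibrewise`: chart form.
* `isSchematicallyDense_of_fibrewise`: `f : X ⟶ S` flat, locally of finite presentation, `U` open
  in `X` with `U_s` schematically dense in `X_s` for all `s`; then `U` is schematically dense.
* `isSchematicallyDense_fiber_of_isPullback`: the fibrewise hypothesis is stable under base change.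
-/

set_option autoImplicit false
set_option maxHeartbeats 400000
set_option linter.style.haveILetI false

namespace Groth.Agent.Lib.FibDenseSch88

open AlgebraicGeometry CategoryTheory Limits TopologicalSpace Function
open Groth.Agent.Lib.H77SchDenseFib

universe u

variable {X S : Scheme.{u}}

instance isLocallyNoetherian_fiber (f : X ⟶ S) [LocallyOfFiniteType f] (s : S) :
    IsLocallyNoetherian (f.fiber s) :=
  LocallyOfFiniteType.isLocallyNoetherian (f.fiberToSpecResidueField s)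

/-- Chart form of EGA IV 11.10.10. -/
theorem eq_zero_of_res_eq_zero_of_fibrewise (f : X ⟶ S) [Flat f] [LocallyOfFinitePresentation f]
    (U : X.Opens) (h : ∀ s : S, CInt.IsSchematicallyDense ((f.fiberι s) ⁻¹ᵁ U))
    {T : S.Opens} (hT : IsAffineOpen T) {W : X.Opens} (hW : IsAffineOpen W) (hWT : W ≤ f ⁻¹ᵁ T)
    (t : Γ(X, W)) (ht : X.presheaf.map (homOfLE (inf_le_left : W ⊓ U ≤ W)).op t = 0) :
    t = 0 := by
  classical
  by_contra hne
  letI alg : Algebra Γ(S, T) Γ(X, W) := (f.appLE T W hWT).hom.toAlgebra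
  haveI hfp : Algebra.FinitePresentation Γ(S, T) Γ(X, W) :=
    HasRingHomProperty.appLE (P := @LocallyOfFinitePresentation) f inferInstance
      ⟨T, hT⟩ ⟨W, hW⟩ hWT
  haveI hflat : Module.Flat Γ(S, T) Γ(X, W) := Flat.flat_appLE f hT hW hWT
  -- a maximal ideal containing the annihilator of `t`
  set I : Ideal Γ(X, W) := LinearMap.ker (LinearMap.toSpanSingleton Γ(X, W) Γ(X, W) t) with hI
  have hItop : I ≠ ⊤ := by
    intro htop
    apply hne
    have h1 : (1 : Γ(X, W)) ∈ I := by rw [htop]; trivial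
    rw [hI, LinearMap.mem_ker, LinearMap.toSpanSingleton_apply, one_smul] at h1
    exact h1
  obtain ⟨𝔮, h𝔮max, hI𝔮⟩ := Ideal.exists_le_maximal I hItop
  haveI : 𝔮.IsPrime := h𝔮max.isPrime
  let q : PrimeSpectrum Γ(X, W) := ⟨𝔮, inferInstance⟩
  set x₁ : X := hW.fromSpec q with hx₁
  have hx₁W : x₁ ∈ W := by
    have : x₁ ∈ Set.range hW.fromSpec := ⟨q, rfl⟩
    rwa [hW.range_fromSpec] at this
  have hq : hW.primeIdealOf ⟨x₁, hx₁W⟩ = q := by
    apply hW.fromSpec.isOpenEmbedding.injective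
    exact hW.fromSpec_primeIdealOf ⟨x₁, hx₁W⟩
  set s : S := f x₁ with hs
  have hsT : s ∈ T := hWT hx₁W
  -- the prime of the base
  have hp : RingHom.ker (S.evaluation T s hsT).hom = 𝔮.under Γ(S, T) := by
    ext a
    rw [RingHom.mem_ker, Scheme.evaluation_eq_zero_iff_notMem_basicOpen,
      mem_basicOpen_iff_notMem_primeIdealOf hT hsT, not_not,
      ← IsAffineOpen.comap_primeIdealOf_appLE T hT W hW hWT hx₁W, hq]
    rfl
  -- a nonzerodivisor on the fibre chart
  have hWs : IsAffineOpen (f.fiberι s ⁻¹ᵁ W) := isAffineOpen_fiberι_preimage f s hT hsT hW hWT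
  haveI : IsSchemeTheoreticallyDominant (f.fiberι s ⁻¹ᵁ U).ι :=
    Groth.Agent.Lib.SchDense68.isSchemeTheoreticallyDominant_ι _ (h s)
  obtain ⟨g, hgI, hgnzd⟩ := exists_nonZeroDivisor_of_isSchemeTheoreticallyDominant
    (f.fiberι s ⁻¹ᵁ U) ⟨f.fiberι s ⁻¹ᵁ W, hWs⟩
    ((basicIdeal U W).map ((f.fiberι s).appLE W (f.fiberι s ⁻¹ᵁ W) le_rfl).hom) (by
      intro z hzW hzU
      obtain ⟨c, hcU, hzc⟩ := hW.exists_basicOpen_le (V := U) ⟨f.fiberι s z, hzU⟩ hzW
      refine ⟨((f.fiberι s).appLE W (f.fiberι s ⁻¹ᵁ W) le_rfl).hom c,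
        Ideal.mem_map_of_mem _ (mem_basicIdeal.mpr hcU), ?_⟩
      rw [Scheme.basicOpen_appLE]
      exact ⟨hzW, hzc⟩)
  obtain ⟨u, b, hu, hbI, hub⟩ := exists_unit_mul_eq_of_mem_map f s hT hsT hW hWT (basicIdeal U W) hgI
  have hbnzd : ((f.fiberι s).appLE W (f.fiberι s ⁻¹ᵁ W) le_rfl).hom b ∈
      nonZeroDivisors Γ(f.fiber s, f.fiberι s ⁻¹ᵁ W) := by
    rw [← hub]
    exact mul_mem (IsUnit.mem_nonZeroDivisors hu) hgnzd
  have hinj := (fibre_nzd_iff f s hT hsT hW hWT b).mp hbnzd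
  -- `t` is killed by a power of `b`
  have hbU : X.basicOpen b ≤ W ⊓ U := le_inf (X.basicOpen_le b) (mem_basicIdeal.mp hbI)
  have h0 : X.presheaf.map (homOfLE (X.basicOpen_le b)).op t = 0 := by
    have : X.presheaf.map (homOfLE (X.basicOpen_le b)).op =
        X.presheaf.map (homOfLE (inf_le_left : W ⊓ U ≤ W)).op ≫
          X.presheaf.map (homOfLE hbU).op := by
      rw [← Functor.map_comp]; rfl
    rw [this, CommRingCat.comp_apply, ht, map_zero]
  obtain ⟨n, hn⟩ := exists_pow_mul_eq_zero_of_res_basicOpen_eq_zero_of_isAffineOpen X hW t b h0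
  -- conclusion
  haveI : (RingHom.ker (S.evaluation T s hsT).hom).IsPrime := RingHom.ker_isPrime _
  haveI : 𝔮.LiesOver (RingHom.ker (S.evaluation T s hsT).hom) := ⟨hp⟩
  refine Groth.Agent.Lib.FibDenseCore88.false_of_pow_smul_eq_zero_of_lTensor_injective
    (R := Γ(S, T)) (S := Γ(X, W)) Γ(X, W) t (RingHom.ker (S.evaluation T s hsT).hom) 𝔮
    (fun a ha => hI𝔮 ?_) b n hn (LinearMap.mulLeft Γ(S, T) b) (fun x => rfl) ?_
  · rw [hI, LinearMap.mem_ker, LinearMap.toSpanSingleton_apply]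
    exact ha
  · exact hinj

/-- **EGA IV 11.10.10**, one base: for `f` flat and locally of finite presentation, an open whose
traces on all fibres are schematically dense is schematically dense. -/
theorem isSchematicallyDense_of_fibrewise (f : X ⟶ S) [Flat f] [LocallyOfFinitePresentation f]
    (U : X.Opens) (h : ∀ s : S, CInt.IsSchematicallyDense ((f.fiberι s) ⁻¹ᵁ U)) :
    CInt.IsSchematicallyDense U := by
  intro V
  rw [injective_iff_map_eq_zero]
  intro t ht
  refine X.IsSheaf.section_ext fun x hx => ?_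
  obtain ⟨T, hT, hxT, -⟩ := Opens.isBasis_iff_nbhd.mp S.isBasis_affineOpens
    (show f x ∈ (⊤ : S.Opens) from trivial)
  obtain ⟨W, hW, hxW, hWle⟩ := Opens.isBasis_iff_nbhd.mp X.isBasis_affineOpens
    (show x ∈ V ⊓ f ⁻¹ᵁ T from ⟨hx, hxT⟩)
  have hWV : W ≤ V := hWle.trans inf_le_left
  have hWT : W ≤ f ⁻¹ᵁ T := hWle.trans inf_le_right
  refine ⟨W, hWV, hxW, ?_⟩
  rw [map_zero]
  refine eq_zero_of_res_eq_zero_of_fibrewise f U h hT hW hWT _ ?_
  have hle : W ⊓ U ≤ V ⊓ U := inf_le_inf_right U hWV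
  have : X.presheaf.map (homOfLE hWV).op ≫ X.presheaf.map (homOfLE (inf_le_left : W ⊓ U ≤ W)).op =
      X.presheaf.map (homOfLE (inf_le_left : V ⊓ U ≤ V)).op ≫ X.presheaf.map (homOfLE hle).op := by
    rw [← Functor.map_comp, ← Functor.map_comp]; rfl
  rw [← CommRingCat.comp_apply, this, CommRingCat.comp_apply, ht, map_zero]

/-- The fibrewise hypothesis of EGA IV 11.10.10 is stable under base change. -/
theorem isSchematicallyDense_fiber_of_isPullback {X' S' : Scheme.{u}} {f : X ⟶ S} {g : S' ⟶ S}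
    {g' : X' ⟶ X} {f' : X' ⟶ S'} [LocallyOfFiniteType f] (hsq : IsPullback g' f' f g)
    (U : X.Opens) (s' : S')
    (h : CInt.IsSchematicallyDense ((f.fiberι (g s')) ⁻¹ᵁ U)) :
    CInt.IsSchematicallyDense ((f'.fiberι s') ⁻¹ᵁ (g' ⁻¹ᵁ U)) := by
  have sq := isPullback_fiberToSpecResidueField_of_isPullback hsq s'
  set φ := pullback.map f' (S'.fromSpecResidueField s') f (S.fromSpecResidueField (g s')) g'
    (Spec.map (g.residueFieldMap s')) g hsq.w.symm (by simp) with hφ
  haveI : Flat φ := MorphismProperty.of_isPullback sq.flip inferInstance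
  have w : f'.fiberι s' ≫ g' = φ ≫ f.fiberι (g s') := (pullback.lift_fst _ _ _).symm
  have h1 := Groth.Agent.Lib.SchDenseFlat68.isSchematicallyDense_preimage_of_flat φ _ h
  have heq : (f'.fiberι s') ⁻¹ᵁ (g' ⁻¹ᵁ U) = φ ⁻¹ᵁ ((f.fiberι (g s')) ⁻¹ᵁ U) := by
    rw [← Scheme.Hom.comp_preimage, ← Scheme.Hom.comp_preimage, w]
    rfl
  rw [heq]
  exact h1

end Groth.Agent.Lib.FibDenseSch88
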