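import Mathlib
import Groth.Agent.Lib.FibFlat97a

/-!
# helper97: the fibre over a rational point versus the base change along the point

For `t : Spec K ⟶ S` a section of `sS : S ⟶ Spec K` (a "`K`-rational point") and `p : X ⟶ S`, the
scheme-theoretic fibre `p.fiber s` at `s = t(pt)` maps to `X ×_S Spec K` over `X`, and the first
projection `X ×_S Spec K ⟶ X` is injective on points.
-/

set_option autoImplicit false
set_option maxHeartbeats 400000

universe u

namespace Groth.Agent.Lib.FibFlat97

open CategoryTheory CategoryTheory.Limits AlgebraicGeometry IsLocalRing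

variable {K : Type u} [Field K] {X S : Scheme.{u}}

theorem exists_fibre_map (p : X ⟶ S) (sS : S ⟶ Spec (.of K)) (t : Spec (.of K) ⟶ S)
    (ht : t ≫ sS = 𝟙 _) (s : S) (hs : t (closedPoint K) = s) :
    ∃ e : p.fiber s ⟶ pullback p t, e ≫ pullback.fst p t = p.fiberι s := by
  subst hs
  let φ' : S.residueField (t (closedPoint K)) ⟶ .of K :=
    Scheme.descResidueField (Scheme.stalkClosedPointTo t)
  have hφ : Spec.map φ' ≫ S.fromSpecResidueField (t (closedPoint K)) = t :=
    Scheme.descResidueField_stalkClosedPointTo_fromSpecResidueField K S t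
  let ψ : CommRingCat.of K ⟶ S.residueField (t (closedPoint K)) :=
    Spec.preimage (S.fromSpecResidueField (t (closedPoint K)) ≫ sS)
  have hψ : Spec.map ψ = S.fromSpecResidueField (t (closedPoint K)) ≫ sS := Spec.map_preimage _
  have h1 : ψ ≫ φ' = 𝟙 _ := by
    apply Spec.map_injective
    rw [Spec.map_comp, hψ, ← Category.assoc, hφ, ht, Spec.map_id]
  have hinj : Function.Injective φ'.hom := φ'.hom.injective
  have h2 : φ' ≫ ψ = 𝟙 _ := by
    ext a
    apply hinj
    exact congr($h1 (φ'.hom a))
  have key : S.fromSpecResidueField (t (closedPoint K)) ≫ sS ≫ t =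
      S.fromSpecResidueField (t (closedPoint K)) := by
    calc S.fromSpecResidueField (t (closedPoint K)) ≫ sS ≫ t
        = Spec.map ψ ≫ t := by rw [hψ, Category.assoc]
      _ = Spec.map ψ ≫ Spec.map φ' ≫ S.fromSpecResidueField (t (closedPoint K)) := by rw [hφ]
      _ = Spec.map (φ' ≫ ψ) ≫ S.fromSpecResidueField (t (closedPoint K)) := by
          rw [Spec.map_comp, Category.assoc]
      _ = _ := by rw [h2, Spec.map_id, Category.id_comp]
  refine ⟨pullback.lift (p.fiberι _) (p.fiberToSpecResidueField _ ≫
    S.fromSpecResidueField (t (closedPoint K)) ≫ sS) ?_, pullback.lift_fst _ _ _⟩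
  rw [Scheme.Hom.fiber_fac, Category.assoc, Category.assoc, key]

theorem injective_fst_of_section (p : X ⟶ S) (sS : S ⟶ Spec (.of K)) (t : Spec (.of K) ⟶ S)
    (ht : t ≫ sS = 𝟙 _) : Function.Injective (pullback.fst p t).base := by
  haveI : Mono t := mono_of_mono_fac ht
  haveI : Mono (pullback.fst p t) := inferInstance
  exact Scheme.Hom.injective (pullback.fst p t)

/-- `F` finitely presented on `X`, flat over `S` at `x0`, where `x0` lies over the `K`-rational point
`t` of `S`; if the base change `F_t` on `X_t = X ×_S Spec K` is flat (over `O_{X_t}`) at a point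
`xt` over `x0`, then `F` is free of finite rank near `x0`. -/
theorem exists_free_nhd_of_rational_fibre (p : X ⟶ S) (sS : S ⟶ Spec (.of K))
    (t : Spec (.of K) ⟶ S) (ht : t ≫ sS = 𝟙 _) (F : X.Modules) (hFp : CohB1.IsFP F) (x0 : X)
    (hx0 : t (closedPoint K) = p x0) (h1 : FlatMod.IsFlatOverAt p F x0)
    (xt : ↥(pullback p t)) (hxt : pullback.fst p t xt = x0)
    (h : FlatMod.IsFlatAt ((Scheme.Modules.pullback (pullback.fst p t)).obj F) xt) :
    ∃ (U : X.Opens) (n : ℕ), x0 ∈ U ∧ Nonempty (F.restrict U.ι ≅ FlatMod.freeMod (↑U) n) := by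
  obtain ⟨e, he⟩ := exists_fibre_map p sS t ht (p x0) hx0
  refine exists_free_nhd_of_factor p F hFp x0 h1 (pullback.fst p t) e he ?_
  have hpt : e (p.asFiber x0) = xt := by
    apply injective_fst_of_section p sS t ht
    change (pullback.fst p t) (e (p.asFiber x0)) = (pullback.fst p t) xt
    rw [← Scheme.Hom.comp_apply, he, hxt]
    exact p.fiberι_asFiber x0
  rw [hpt]
  exact h

end Groth.Agent.Lib.FibFlat97
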