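import Mathlib

/-!
# Algebra for EGA IV 11.10.x, module version (helper88)

* `exists_isSMulRegular_mem`: `R` Noetherian, `M` finite, `I` an ideal such that no nonzero element
  of `M` is killed by `I`; then `I` contains an `M`-regular element.
* `injective_baseChange_of_isPushout`: `C = k ⊗[R] B` a pushout, `N = C ⊗[B] M`; if `b ∈ B` acts
  injectively on `N` then multiplication by `b` is injective on `k ⊗[R] M`.
-/

set_option autoImplicit false
set_option maxHeartbeats 400000
set_option linter.style.haveILetI false

open TensorProduct Function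

namespace Groth.Agent.Lib.FibInjAlg88

theorem exists_isSMulRegular_mem {R M : Type*} [CommRing R] [IsNoetherianRing R]
    [AddCommGroup M] [Module R M] [Module.Finite R M] (I : Ideal R)
    (h : ∀ x : M, (∀ r ∈ I, r • x = 0) → x = 0) : ∃ r ∈ I, IsSMulRegular M r := by
  cases subsingleton_or_nontrivial M
  · exact ⟨0, I.zero_mem, IsSMulRegular.zero⟩
  · by_contra! hcon
    have hexist : ∃ p ∈ associatedPrimes R M, I ≤ p := by
      rcases associatedPrimes.nonempty R M with ⟨Ia, hIa⟩
      apply (Ideal.subset_union_prime_finite (associatedPrimes.finite R M) Ia Ia _).mp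
      · rw [biUnion_associatedPrimes_eq_compl_regular R M]
        exact fun r hr ↦ hcon r hr
      · exact fun I hin _ _ ↦ IsAssociatedPrime.isPrime hin
    obtain ⟨p, hp, hIp⟩ := hexist
    obtain ⟨hprime, x, hx⟩ := (isAssociatedPrime_iff (M := M)).mp hp
    have hx0 : x = 0 := by
      apply h
      intro r hr
      have := hIp hr
      rw [hx, Submodule.mem_colon_singleton, Submodule.mem_bot] at this
      exact this
    apply hprime.ne_top
    rw [hx, hx0, Ideal.eq_top_iff_one, Submodule.mem_colon_singleton]
    simp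

section Pushout

variable {R B k C : Type*} [CommRing R] [CommRing B] [CommRing k] [CommRing C]
  [Algebra R B] [Algebra R k] [Algebra B C] [Algebra k C] [Algebra R C]
  [IsScalarTower R B C] [IsScalarTower R k C] [Algebra.IsPushout R k B C]
  {M N : Type*} [AddCommGroup M] [Module B M] [Module R M] [IsScalarTower R B M]
  [AddCommGroup N] [Module C N] [Module B N] [IsScalarTower B C N]

theorem injective_baseChange_of_isPushout (θ : M →ₗ[B] N) (hθ : IsBaseChange C θ) (b : B)
    (hb : ∀ n : N, algebraMap B C b • n = 0 → n = 0)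
    (μ : M →ₗ[R] M) (hμ : ∀ x, μ x = b • x) : Injective (μ.baseChange k) := by
  letI : Module k N := Module.compHom N (algebraMap k C)
  haveI : IsScalarTower k C N := .of_algebraMap_smul fun _ _ => rfl
  let e1 : C ⊗[B] M ≃ₗ[C] N := hθ.equiv
  let e2 : C ⊗[B] M ≃ₗ[k] k ⊗[R] M := Algebra.IsPushout.cancelBaseChange R k B C M
  let Ψ : k ⊗[R] M ≃+ N := e2.symm.toAddEquiv.trans e1.toAddEquiv
  have hΨ : ∀ (x : k) (m : M), Ψ (x ⊗ₜ m) = algebraMap k C x • θ m := by
    intro x m
    change e1 (e2.symm (x ⊗ₜ m)) = _
    rw [Algebra.IsPushout.cancelBaseChange_symm_tmul]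
    exact hθ.equiv_tmul _ _
  have hcomm : ∀ z : k ⊗[R] M, Ψ (μ.baseChange k z) = algebraMap B C b • Ψ z := by
    intro z
    induction z with
    | zero => simp
    | add x y hx hy => rw [map_add, map_add, hx, hy, map_add, smul_add]
    | tmul x m =>
      rw [LinearMap.baseChange_tmul, hΨ, hΨ, hμ, map_smul, smul_comm]
      exact (algebraMap_smul C b _).symm
  rw [injective_iff_map_eq_zero]
  intro z hz
  have h1 : algebraMap B C b • Ψ z = 0 := by rw [← hcomm, hz, map_zero]
  have h2 := hb _ h1
  exact (map_eq_zero_iff Ψ Ψ.injective).mp h2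

end Pushout

section FlatRegular

variable {C C' : Type*} [CommRing C] [CommRing C'] [Algebra C C'] [Module.Flat C C']
  {N N' : Type*} [AddCommGroup N] [Module C N] [AddCommGroup N'] [Module C' N'] [Module C N']
  [IsScalarTower C C' N']

/-- A regular element stays regular after a flat base change. -/
theorem regular_of_isBaseChange_of_flat (θ : N →ₗ[C] N') (hθ : IsBaseChange C' θ) (r : C)
    (hr : IsSMulRegular N r) (m : N') (hm : algebraMap C C' r • m = 0) : m = 0 := by
  let μ : N →ₗ[C] N := LinearMap.lsmul C N r
  have hμinj : Injective μ := hr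
  have hbc : Injective (μ.baseChange C') :=
    Module.Flat.lTensor_preserves_injective_linearMap (M := C') μ hμinj
  let e : C' ⊗[C] N ≃ₗ[C'] N' := hθ.equiv
  have hcomm : ∀ z : C' ⊗[C] N, e (μ.baseChange C' z) = algebraMap C C' r • e z := by
    intro z
    induction z with
    | zero => simp
    | add x y hx hy => rw [map_add, map_add, hx, hy, map_add, smul_add]
    | tmul c n =>
      rw [LinearMap.baseChange_tmul]
      change hθ.equiv (c ⊗ₜ (r • n)) = _ • hθ.equiv (c ⊗ₜ n)
      rw [hθ.equiv_tmul, hθ.equiv_tmul, map_smul, smul_comm, algebraMap_smul]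
  obtain ⟨z, rfl⟩ := e.surjective m
  rw [← hcomm] at hm
  have h1 := (map_eq_zero_iff e e.injective).mp hm
  have h2 : z = 0 := hbc (h1.trans (map_zero _).symm)
  rw [h2, map_zero]

end FlatRegular

end Groth.Agent.Lib.FibInjAlg88
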