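import Groth.Agent.Lib.FibDenseSch88
import Groth.Agent.Lib.FibInjAlg88
import Groth.Agent.Lib.H72PullbackNat
import Groth.Agent.Lib.H72FlatModChart
import Groth.Agent.Lib.H90OXModFP
import Groth.Agent.Lib.Fitting82U
import Groth.Agent.Lib.H72FlatBaseChange

/-!
# EGA IV 11.10.x, module version (helper88)

`f : X ⟶ S` locally of finite presentation, `F` a quasi-coherent finitely presented `O_X`-module
flat over `S`, `U ⊆ X` open.  If on every fibre the restriction maps of the fibre module from `V` to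
`V ∩ U_s` are injective, then the restriction maps of `F` from `V` to `V ∩ U` are injective.
-/

set_option autoImplicit false
set_option maxHeartbeats 400000
set_option linter.style.haveILetI false

namespace Groth.Agent.Lib.FibInjSch88

open AlgebraicGeometry CategoryTheory Limits TopologicalSpace Function
open Groth.Agent.Lib.H77SchDenseFib Groth.Agent.Lib.QCohStalk

universe u

variable {X S : Scheme.{u}}

/-- The canonical map `G → j_* j^* G` (for `j : O → Y` an open) is injective: restriction of sections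
of `G` from any open `V` to `V ∩ O` is injective. -/
def ResInj {Y : Scheme.{u}} (G : Y.Modules) (O : Y.Opens) : Prop :=
  ∀ V : Y.Opens, Function.Injective (G.presheaf.map (homOfLE (inf_le_left : V ⊓ O ≤ V)).op)

/-- The fibrewise hypothesis. -/
def FibInj (f : X ⟶ S) (F : X.Modules) (U : X.Opens) (s : S) : Prop :=
  ResInj ((Scheme.Modules.pullback (f.fiberι s)).obj F) ((f.fiberι s) ⁻¹ᵁ U)

/-- A section killed by a function vanishes on the basic open of that function. -/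
theorem res_basicOpen_eq_zero_of_smul_eq_zero (G : X.Modules) {V : X.Opens} (c : Γ(X, V))
    (n : Γ(G, V)) (h : c • n = 0) : res G (X.basicOpen_le c) n = 0 := by
  have hu : IsUnit (resO X (X.basicOpen_le c) c) := RingedSpace.isUnit_res_basicOpen _ c
  have h1 := congrArg (res G (X.basicOpen_le c)) h
  rw [res_smul, res_zero] at h1
  obtain ⟨u, hu'⟩ := hu
  have h2 := congrArg (fun y => (↑u⁻¹ : Γ(X, X.basicOpen c)) • y) h1
  simp only [smul_zero] at h2
  rw [← hu', ← mul_smul, Units.inv_mul, one_smul] at h2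
  exact h2

set_option maxHeartbeats 1600000 in
set_option synthInstance.maxHeartbeats 400000 in
/-- Chart form of EGA IV 11.10.x for modules. -/
theorem eq_zero_of_res_eq_zero_of_fibInj (f : X ⟶ S) [LocallyOfFinitePresentation f]
    (F : X.Modules) [F.IsQuasicoherent] (hF : CohB1.IsFP F) (hflat : FlatMod.IsFlatOver f F)
    (U : X.Opens) (h : ∀ s : S, FibInj f F U s)
    {T : S.Opens} (hT : IsAffineOpen T) {W : X.Opens} (hW : IsAffineOpen W) (hWT : W ≤ f ⁻¹ᵁ T)
    (t : Γ(F, W)) (ht : res F (inf_le_left : W ⊓ U ≤ W) t = 0) : t = 0 := by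
  classical
  by_contra hne
  letI alg : Algebra Γ(S, T) Γ(X, W) := (f.appLE T W hWT).hom.toAlgebra
  letI modA : Module Γ(S, T) Γ(F, W) := Module.compHom _ (f.appLE T W hWT).hom
  haveI : IsScalarTower Γ(S, T) Γ(X, W) Γ(F, W) := .of_algebraMap_smul fun _ _ => rfl
  haveI hfp : Algebra.FinitePresentation Γ(S, T) Γ(X, W) :=
    HasRingHomProperty.appLE (P := @LocallyOfFinitePresentation) f inferInstance
      ⟨T, hT⟩ ⟨W, hW⟩ hWT
  haveI : SheafOfModules.IsFinitePresentation (R := X.ringCatSheaf) F := hF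
  haveI hMfp : Module.FinitePresentation Γ(X, W) Γ(F, W) :=
    Groth.Agent.Lib.H90OXModFP.finitePresentation_sections F hW
  haveI hMflat : Module.Flat Γ(S, T) Γ(F, W) :=
    (Groth.Agent.Lib.FlatOverSections.forall_isFlatOverAt_iff_flat_sections f F hW hT hWT).mp
      (fun x _ => hflat x)
  -- a maximal ideal containing the annihilator of `t`
  set I : Ideal Γ(X, W) := LinearMap.ker (LinearMap.toSpanSingleton Γ(X, W) Γ(F, W) t) with hI
  have hItop : I ≠ ⊤ := by
    intro htop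
    apply hne
    have h1 : (1 : Γ(X, W)) ∈ I := by rw [htop]; trivial
    rw [hI, LinearMap.mem_ker, LinearMap.toSpanSingleton_apply, one_smul] at h1
    exact h1
  obtain ⟨𝔮, h𝔮max, hI𝔮⟩ := Ideal.exists_le_maximal I hItop
  haveI : 𝔮.IsPrime := h𝔮max.isPrime
  let q : PrimeSpectrum Γ(X, W) := ⟨𝔮, inferInstance⟩
  set x₁ : X := hW.fromSpec q with hx₁
  have hx₁W : x₁ ∈ W := by
    have : x₁ ∈ Set.range hW.fromSpec := ⟨q, rfl⟩
    rwa [hW.range_fromSpec] at this
  have hq : hW.primeIdealOf ⟨x₁, hx₁W⟩ = q := by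
    apply hW.fromSpec.isOpenEmbedding.injective
    exact hW.fromSpec_primeIdealOf ⟨x₁, hx₁W⟩
  set s : S := f x₁ with hs
  have hsT : s ∈ T := hWT hx₁W
  have hp : RingHom.ker (S.evaluation T s hsT).hom = 𝔮.under Γ(S, T) := by
    ext a
    rw [RingHom.mem_ker, Scheme.evaluation_eq_zero_iff_notMem_basicOpen,
      mem_basicOpen_iff_notMem_primeIdealOf hT hsT, not_not,
      ← IsAffineOpen.comap_primeIdealOf_appLE T hT W hW hWT hx₁W, hq]
    rfl
  -- the fibre chart
  have hWs : IsAffineOpen (f.fiberι s ⁻¹ᵁ W) := isAffineOpen_fiberι_preimage f s hT hsT hW hWT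
  set Fs := (Scheme.Modules.pullback (f.fiberι s)).obj F with hFs
  haveI : Fs.IsQuasicoherent :=
    Groth.Agent.Lib.H72PullbackQCoh.isQuasicoherent_pullback (f.fiberι s) F
  have sq := isPushout_fibre_chart f s hT hsT hW hWT
  letI : Algebra Γ(S, T) (S.residueField s) := (S.evaluation T s hsT).hom.toAlgebra
  letI : Algebra Γ(X, W) Γ(f.fiber s, f.fiberι s ⁻¹ᵁ W) :=
    ((f.fiberι s).appLE W (f.fiberι s ⁻¹ᵁ W) le_rfl).hom.toAlgebra
  letI : Algebra (S.residueField s) Γ(f.fiber s, f.fiberι s ⁻¹ᵁ W) :=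
    ((Scheme.ΓSpecIso _).inv ≫
      (f.fiberToSpecResidueField s).appLE ⊤ (f.fiberι s ⁻¹ᵁ W) le_top).hom.toAlgebra
  letI : Algebra Γ(S, T) Γ(f.fiber s, f.fiberι s ⁻¹ᵁ W) :=
    (f.appLE T W hWT ≫ (f.fiberι s).appLE W (f.fiberι s ⁻¹ᵁ W) le_rfl).hom.toAlgebra
  haveI : IsScalarTower Γ(S, T) Γ(X, W) Γ(f.fiber s, f.fiberι s ⁻¹ᵁ W) :=
    .of_algebraMap_eq' rfl
  haveI : IsScalarTower Γ(S, T) (S.residueField s) Γ(f.fiber s, f.fiberι s ⁻¹ᵁ W) :=
    .of_algebraMap_eq' (congrArg CommRingCat.Hom.hom sq.w)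
  haveI : Algebra.IsPushout Γ(S, T) (S.residueField s) Γ(X, W)
      Γ(f.fiber s, f.fiberι s ⁻¹ᵁ W) :=
    CommRingCat.isPushout_iff_isPushout.mp sq.flip
  letI : Module Γ(X, W) Γ(Fs, f.fiberι s ⁻¹ᵁ W) :=
    Module.compHom _ ((f.fiberι s).appLE W (f.fiberι s ⁻¹ᵁ W) le_rfl).hom
  haveI : IsScalarTower Γ(X, W) Γ(f.fiber s, f.fiberι s ⁻¹ᵁ W) Γ(Fs, f.fiberι s ⁻¹ᵁ W) :=
    .of_algebraMap_smul fun _ _ => rfl
  obtain ⟨θ, hθ, -⟩ := Groth.Agent.Lib.H72PullbackNat.exists_isBaseChange_sections'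
    (f.fiberι s) F hWs hW le_rfl
  haveI : IsNoetherianRing Γ(f.fiber s, f.fiberι s ⁻¹ᵁ W) :=
    IsLocallyNoetherian.component_noetherian ⟨f.fiberι s ⁻¹ᵁ W, hWs⟩
  haveI : Module.Finite Γ(f.fiber s, f.fiberι s ⁻¹ᵁ W) Γ(Fs, f.fiberι s ⁻¹ᵁ W) :=
    Module.Finite.equiv hθ.equiv
  -- a regular element in the image of the ideal of `U`
  obtain ⟨g, hgI, hgreg⟩ := Groth.Agent.Lib.FibInjAlg88.exists_isSMulRegular_mem
    (R := Γ(f.fiber s, f.fiberι s ⁻¹ᵁ W)) (M := Γ(Fs, f.fiberι s ⁻¹ᵁ W))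
    ((basicIdeal U W).map ((f.fiberι s).appLE W (f.fiberι s ⁻¹ᵁ W) le_rfl).hom) (by
      intro n hn
      apply h s (f.fiberι s ⁻¹ᵁ W)
      refine TopCat.Presheaf.section_ext ⟨Fs.presheaf, Fs.isSheaf⟩ _ _ _ fun z hz => ?_
      obtain ⟨hzW, hzU⟩ := hz
      obtain ⟨c, hcU, hzc⟩ := hW.exists_basicOpen_le (V := U) ⟨f.fiberι s z, hzU⟩ hzW
      set c' := ((f.fiberι s).appLE W (f.fiberι s ⁻¹ᵁ W) le_rfl).hom c with hc'
      have hc'n : c' • n = 0 := hn c' (Ideal.mem_map_of_mem _ (mem_basicIdeal.mpr hcU))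
      have hzc' : z ∈ (f.fiber s).basicOpen c' := by
        rw [hc', Scheme.basicOpen_appLE]
        exact ⟨hzW, hzc⟩
      have h0 := res_basicOpen_eq_zero_of_smul_eq_zero Fs c' n hc'n
      have e1 := germ_res Fs
        (inf_le_left : f.fiberι s ⁻¹ᵁ W ⊓ f.fiberι s ⁻¹ᵁ U ≤ f.fiberι s ⁻¹ᵁ W) z ⟨hzW, hzU⟩ n
      have e2 := germ_res Fs ((f.fiber s).basicOpen_le c') z hzc' n
      rw [h0] at e2
      change Fs.presheaf.germ _ z _ (res Fs _ n) = Fs.presheaf.germ _ z _ (res Fs _ 0)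
      rw [e1, ← e2, res_zero, map_zero, map_zero])
  obtain ⟨u, b, hu, hbI, hub⟩ :=
    exists_unit_mul_eq_of_mem_map f s hT hsT hW hWT (basicIdeal U W) hgI
  have hbreg : ∀ n : Γ(Fs, f.fiberι s ⁻¹ᵁ W),
      algebraMap Γ(X, W) Γ(f.fiber s, f.fiberι s ⁻¹ᵁ W) b • n = 0 → n = 0 := by
    intro n hn
    have h1 : (u * g) • n = 0 := by rw [hub]; exact hn
    rw [mul_smul] at h1
    have h2 : g • n = 0 := by
      obtain ⟨u', rfl⟩ := hu
      have := congrArg (fun y => (↑u'⁻¹ : Γ(f.fiber s, f.fiberι s ⁻¹ᵁ W)) • y) h1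
      simp only [smul_zero] at this
      rwa [← mul_smul, Units.inv_mul, one_smul] at this
    exact hgreg (h2.trans (smul_zero g).symm)
  -- multiplication by `b` on `Γ(F, W)`
  let μ : Γ(F, W) →ₗ[Γ(S, T)] Γ(F, W) :=
    (LinearMap.lsmul Γ(X, W) Γ(F, W) b).restrictScalars Γ(S, T)
  have hμ : ∀ x, μ x = b • x := fun _ => rfl
  have hinjK : Injective (μ.baseChange (S.residueField s)) :=
    Groth.Agent.Lib.FibInjAlg88.injective_baseChange_of_isPushout (R := Γ(S, T)) (B := Γ(X, W))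
      (k := S.residueField s) (C := Γ(f.fiber s, f.fiberι s ⁻¹ᵁ W)) θ hθ b hbreg μ hμ
  have hinj := (Groth.Agent.Lib.H77SchDenseAlg.injective_baseChange_residueField_iff
    (R := Γ(S, T)) (S.residueField s) μ).mp hinjK
  -- `t` is killed by a power of `b`
  have hbU : X.basicOpen b ≤ W ⊓ U := le_inf (X.basicOpen_le b) (mem_basicIdeal.mp hbI)
  have h0 : res F (X.basicOpen_le b) t = 0 := by
    rw [← res_res F hbU inf_le_left t, ht, res_zero]
  obtain ⟨n, hn⟩ := exists_pow_smul_eq_zero F hW b t h0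
  haveI : (RingHom.ker (S.evaluation T s hsT).hom).IsPrime := RingHom.ker_isPrime _
  haveI : 𝔮.LiesOver (RingHom.ker (S.evaluation T s hsT).hom) := ⟨hp⟩
  refine Groth.Agent.Lib.FibDenseCore88.false_of_pow_smul_eq_zero_of_lTensor_injective
    (R := Γ(S, T)) (S := Γ(X, W)) Γ(F, W) t (RingHom.ker (S.evaluation T s hsT).hom) 𝔮
    (fun a ha => hI𝔮 ?_) b n hn μ hμ ?_
  · rw [hI, LinearMap.mem_ker, LinearMap.toSpanSingleton_apply]
    exact ha
  · exact hinj

/-- **EGA IV 11.10.x for modules**, one base. -/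
theorem injective_res_of_fibInj (f : X ⟶ S) [LocallyOfFinitePresentation f]
    (F : X.Modules) [F.IsQuasicoherent] (hF : CohB1.IsFP F) (hflat : FlatMod.IsFlatOver f F)
    (U : X.Opens) (h : ∀ s : S, FibInj f F U s) (V : X.Opens) :
    Function.Injective (F.presheaf.map (homOfLE (inf_le_left : V ⊓ U ≤ V)).op) := by
  rw [injective_iff_map_eq_zero]
  intro t ht
  refine TopCat.Presheaf.section_ext ⟨F.presheaf, F.isSheaf⟩ _ _ _ fun x hx => ?_
  obtain ⟨T, hT, hxT, -⟩ := Opens.isBasis_iff_nbhd.mp S.isBasis_affineOpens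
    (show f x ∈ (⊤ : S.Opens) from trivial)
  obtain ⟨W, hW, hxW, hWle⟩ := Opens.isBasis_iff_nbhd.mp X.isBasis_affineOpens
    (show x ∈ V ⊓ f ⁻¹ᵁ T from ⟨hx, hxT⟩)
  have hWV : W ≤ V := hWle.trans inf_le_left
  have hWT : W ≤ f ⁻¹ᵁ T := hWle.trans inf_le_right
  have h0 : res F hWV t = 0 := by
    refine eq_zero_of_res_eq_zero_of_fibInj f F hF hflat U h hT hW hWT _ ?_
    have hle : W ⊓ U ≤ V ⊓ U := inf_le_inf_right U hWV
    rw [res_res]
    have : res F (hle.trans inf_le_left) t = res F hle (res F inf_le_left t) := (res_res F _ _ t).symm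
    rw [this]
    have ht' : res F (inf_le_left : V ⊓ U ≤ V) t = 0 := ht
    rw [ht', res_zero]
  have e1 := germ_res F hWV x hxW t
  rw [h0] at e1
  rw [← e1, map_zero, map_zero]

section Transport

variable {Y Y' : Scheme.{u}}

theorem app_res {M N : Y.Modules} (φ : M ⟶ N) {V U : Y.Opens} (h : V ≤ U) (s : Γ(M, U)) :
    φ.app V (res M h s) = res N h (φ.app U s) := by
  have := φ.mapPresheaf.naturality (homOfLE h).op
  exact congr($this s)

/-- `ResInj` is invariant under isomorphisms of modules. -/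
theorem ResInj.of_iso {G G' : Y.Modules} (e : G ≅ G') {O : Y.Opens} (h : ResInj G O) :
    ResInj G' O := by
  intro V
  rw [injective_iff_map_eq_zero]
  intro n hn
  have h1 : res G (inf_le_left : V ⊓ O ≤ V) (e.inv.app V n) = 0 := by
    rw [← app_res e.inv inf_le_left n]
    have hn' : res G' (inf_le_left : V ⊓ O ≤ V) n = 0 := hn
    rw [hn', map_zero]
  have h2 : e.inv.app V n = 0 := (h V) (h1.trans (res_zero G _).symm)
  have h3 : e.hom.app V (e.inv.app V n) = n := by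
    have := congrArg (fun ψ : G' ⟶ G' => ψ.app V n) e.inv_hom_id
    exact this
  rw [← h3, h2, map_zero]

set_option maxHeartbeats 1600000 in
set_option synthInstance.maxHeartbeats 400000 in
/-- `ResInj` is stable under flat pullback to a locally Noetherian scheme's flat cover. -/
theorem ResInj.pullback_of_flat [IsLocallyNoetherian Y] (G : Y.Modules) [G.IsQuasicoherent]
    [SheafOfModules.IsFinitePresentation (R := Y.ringCatSheaf) G]
    (φ : Y' ⟶ Y) [Flat φ] {O : Y.Opens} (hG : ResInj G O) :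
    ResInj ((Scheme.Modules.pullback φ).obj G) (φ ⁻¹ᵁ O) := by
  classical
  set G' := (Scheme.Modules.pullback φ).obj G with hG'
  haveI : G'.IsQuasicoherent := Groth.Agent.Lib.H72PullbackQCoh.isQuasicoherent_pullback φ G
  intro V'
  rw [injective_iff_map_eq_zero]
  intro n' hn'
  refine TopCat.Presheaf.section_ext ⟨G'.presheaf, G'.isSheaf⟩ _ _ _ fun y' hy' => ?_
  obtain ⟨T, hT, hyT, -⟩ := Opens.isBasis_iff_nbhd.mp Y.isBasis_affineOpens
    (show φ y' ∈ (⊤ : Y.Opens) from trivial)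
  obtain ⟨W', hW', hyW', hW'le⟩ := Opens.isBasis_iff_nbhd.mp Y'.isBasis_affineOpens
    (show y' ∈ V' ⊓ φ ⁻¹ᵁ T from ⟨hy', hyT⟩)
  have hW'V : W' ≤ V' := hW'le.trans inf_le_left
  have hW'T : W' ≤ φ ⁻¹ᵁ T := hW'le.trans inf_le_right
  haveI : IsNoetherianRing Γ(Y, T) := IsLocallyNoetherian.component_noetherian ⟨T, hT⟩
  haveI : Module.FinitePresentation Γ(Y, T) Γ(G, T) :=
    Groth.Agent.Lib.H90OXModFP.finitePresentation_sections G hT
  -- a regular element
  obtain ⟨r, hrI, hrreg⟩ := Groth.Agent.Lib.FibInjAlg88.exists_isSMulRegular_mem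
    (R := Γ(Y, T)) (M := Γ(G, T)) (basicIdeal O T) (by
      intro n hn
      apply hG T
      refine TopCat.Presheaf.section_ext ⟨G.presheaf, G.isSheaf⟩ _ _ _ fun z hz => ?_
      obtain ⟨hzT, hzO⟩ := hz
      obtain ⟨c, hcO, hzc⟩ := hT.exists_basicOpen_le (V := O) ⟨z, hzO⟩ hzT
      have hcn : c • n = 0 := hn c (mem_basicIdeal.mpr hcO)
      have h0 := res_basicOpen_eq_zero_of_smul_eq_zero G c n hcn
      have e1 := germ_res G (inf_le_left : T ⊓ O ≤ T) z ⟨hzT, hzO⟩ n
      have e2 := germ_res G (Y.basicOpen_le c) z hzc n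
      rw [h0] at e2
      change G.presheaf.germ _ z _ (res G _ n) = G.presheaf.germ _ z _ (res G _ 0)
      rw [e1, ← e2, res_zero, map_zero, map_zero])
  -- base change to `W'`
  letI : Algebra Γ(Y, T) Γ(Y', W') := (φ.appLE T W' hW'T).hom.toAlgebra
  letI : Module Γ(Y, T) Γ(G', W') := Module.compHom _ (φ.appLE T W' hW'T).hom
  haveI : IsScalarTower Γ(Y, T) Γ(Y', W') Γ(G', W') := .of_algebraMap_smul fun _ _ => rfl
  haveI : Module.Flat Γ(Y, T) Γ(Y', W') := Flat.flat_appLE φ hT hW' hW'T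
  obtain ⟨θ, hθ, -⟩ := Groth.Agent.Lib.H72PullbackNat.exists_isBaseChange_sections'
    φ G hW' hT hW'T
  set r' : Γ(Y', W') := (φ.appLE T W' hW'T).hom r with hr'
  have hr'reg : ∀ m : Γ(G', W'), r' • m = 0 → m = 0 := fun m hm =>
    Groth.Agent.Lib.FibInjAlg88.regular_of_isBaseChange_of_flat θ hθ r hrreg m hm
  -- `n'` restricted to `W'` is killed by a power of `r'`
  have hD : Y'.basicOpen r' ≤ V' ⊓ φ ⁻¹ᵁ O := by
    rw [hr', Scheme.basicOpen_appLE]
    rintro z ⟨hz1, hz2⟩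
    exact ⟨hW'V hz1, (mem_basicIdeal.mp hrI) hz2⟩
  have h0 : res G' (Y'.basicOpen_le r') (res G' hW'V n') = 0 := by
    rw [res_res]
    have : res G' ((Y'.basicOpen_le r').trans hW'V) n' =
        res G' hD (res G' inf_le_left n') := (res_res G' _ _ n').symm
    rw [this]
    have hn'' : res G' (inf_le_left : V' ⊓ φ ⁻¹ᵁ O ≤ V') n' = 0 := hn'
    rw [hn'', res_zero]
  obtain ⟨k, hk⟩ := exists_pow_smul_eq_zero G' hW' r' (res G' hW'V n') h0
  have hpow : ∀ k : ℕ, ∀ m : Γ(G', W'), r' ^ k • m = 0 → m = 0 := by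
    intro k
    induction k with
    | zero => intro m h; simpa using h
    | succ k ih =>
      intro m h
      apply ih
      apply hr'reg
      rw [pow_succ', mul_smul] at h
      exact h
  have hzero : res G' hW'V n' = 0 := hpow k _ hk
  have e1 := germ_res G' hW'V y' hyW' n'
  rw [hzero] at e1
  rw [← e1, map_zero, map_zero]

end Transport

section BaseChange

/-- The fibrewise hypothesis is stable under base change. -/
theorem fibInj_of_isPullback {X' S' : Scheme.{u}} {f : X ⟶ S} {g : S' ⟶ S}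
    {g' : X' ⟶ X} {f' : X' ⟶ S'} [LocallyOfFiniteType f] (hsq : IsPullback g' f' f g)
    (F : X.Modules) [F.IsQuasicoherent] (hF : CohB1.IsFP F) (U : X.Opens) (s' : S')
    (h : FibInj f F U (g s')) :
    FibInj f' ((Scheme.Modules.pullback g').obj F) (g' ⁻¹ᵁ U) s' := by
  have sq := isPullback_fiberToSpecResidueField_of_isPullback hsq s'
  set φ : f'.fiber s' ⟶ f.fiber (g s') :=
    pullback.map f' (S'.fromSpecResidueField s') f (S.fromSpecResidueField (g s')) g'
    (Spec.map (g.residueFieldMap s')) g hsq.w.symm (by simp) with hφ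
  haveI : Flat φ := MorphismProperty.of_isPullback sq.flip inferInstance
  have w : f'.fiberι s' ≫ g' = φ ≫ f.fiberι (g s') := (pullback.lift_fst _ _ _).symm
  set Fs := (Scheme.Modules.pullback (f.fiberι (g s'))).obj F with hFs
  haveI : Fs.IsQuasicoherent :=
    Groth.Agent.Lib.H72PullbackQCoh.isQuasicoherent_pullback (f.fiberι (g s')) F
  haveI : SheafOfModules.IsFinitePresentation (R := X.ringCatSheaf) F := hF
  haveI : SheafOfModules.IsFinitePresentation (R := (f.fiber (g s')).ringCatSheaf) Fs :=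
    Groth.Agent.Lib.Fitting82.isFinitePresentation_pullback (f.fiberι (g s')) F
  have h1 : ResInj ((Scheme.Modules.pullback φ).obj Fs) (φ ⁻¹ᵁ ((f.fiberι (g s')) ⁻¹ᵁ U)) :=
    ResInj.pullback_of_flat Fs φ h
  let e : (Scheme.Modules.pullback (f'.fiberι s')).obj ((Scheme.Modules.pullback g').obj F) ≅
      (Scheme.Modules.pullback φ).obj Fs :=
    (Scheme.Modules.pullbackComp _ _).app F ≪≫ (Scheme.Modules.pullbackCongr w).app F ≪≫
      ((Scheme.Modules.pullbackComp _ _).app F).symm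
  have h2 := h1.of_iso e.symm
  have heq : (f'.fiberι s') ⁻¹ᵁ (g' ⁻¹ᵁ U) = φ ⁻¹ᵁ ((f.fiberι (g s')) ⁻¹ᵁ U) := by
    rw [← Scheme.Hom.comp_preimage, ← Scheme.Hom.comp_preimage, w]
  unfold FibInj
  rw [heq]
  exact h2

end BaseChange

end Groth.Agent.Lib.FibInjSch88
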