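import Mathlib

open AlgebraicGeometry CategoryTheory Limits TensorProduct

universe u

namespace Groth.Agent.Lib.H80InfChart

lemma isPullback_comp_mono {C : Type*} [Category C] {P X Y W Z : C} {fst : P ⟶ X} {snd : P ⟶ Y}
    {a : X ⟶ W} {b : Y ⟶ W} (h : IsPullback fst snd a b) (m : W ⟶ Z) [Mono m] :
    IsPullback fst snd (a ≫ m) (b ≫ m) :=
  IsPullback.of_isLimit (PullbackCone.isLimitOfCompMono a b m _ h.isLimit)

lemma pullback_snd_comp {P : MorphismProperty Scheme.{u}} [P.IsStableUnderBaseChange]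
    {X S Z Z' : Scheme.{u}} (f : X ⟶ S) (ι : Z ⟶ S) (c : Z' ⟶ Z) (h : P (pullback.snd f ι)) :
    P (pullback.snd f (c ≫ ι)) := by
  have t : IsPullback (pullback.snd f ι) (pullback.fst f ι) ι f :=
    (IsPullback.of_hasPullback f ι).flip
  have s : IsPullback (pullback.snd f (c ≫ ι)) (pullback.fst f (c ≫ ι)) (c ≫ ι) f :=
    (IsPullback.of_hasPullback f (c ≫ ι)).flip
  exact MorphismProperty.of_isPullback (IsPullback.of_bot' s t).flip h

lemma comp_of_isPullback_openImmersion {P : MorphismProperty Scheme.{u}}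
    [IsZariskiLocalAtSource P] {X Y T W Z : Scheme.{u}} {j : T ⟶ W} {q : T ⟶ Y} {p : W ⟶ X}
    {i : Y ⟶ X} [IsOpenImmersion i] (sq : IsPullback j q p i) (s : W ⟶ Z) (h1 : P s) :
    P (j ≫ s) := by
  have : IsOpenImmersion j :=
    MorphismProperty.of_isPullback (P := @IsOpenImmersion) sq.flip inferInstance
  exact IsZariskiLocalAtSource.comp (P := P) h1 j

/-- Chart of the base change to a closed subscheme. -/
theorem of_pullback_snd_subschemeι {P : MorphismProperty Scheme.{u}} [P.IsStableUnderBaseChange]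
    [IsZariskiLocalAtSource P]
    {X S : Scheme.{u}} (f : X ⟶ S) (I : S.IdealSheafData) (V : S.affineOpens) {U : X.Opens}
    (hU : IsAffineOpen U) (e : U ≤ f ⁻¹ᵁ V.1)
    (h : P (pullback.snd f I.subschemeι)) :
    letI := (f.appLE V.1 U e).hom.toAlgebra
    P (Spec.map (CommRingCat.ofHom (algebraMap (Γ(S, V.1) ⧸ I.ideal V)
      ((Γ(S, V.1) ⧸ I.ideal V) ⊗[Γ(S, V.1)] Γ(X, U))))) := by
  let _ := (f.appLE V.1 U e).hom.toAlgebra
  let g : Spec (.of (Γ(S, V.1) ⧸ I.ideal V)) ⟶ S :=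
    Spec.map (CommRingCat.ofHom (Ideal.Quotient.mk (I.ideal V))) ≫ V.2.fromSpec
  have hc : I.subschemeCover.f V ≫ I.subschemeι = g := by
    rw [I.subschemeCover_map_subschemeι, I.glueDataObjι_ι]
  have h1 : P (pullback.snd f g) := hc ▸ pullback_snd_comp f I.subschemeι (I.subschemeCover.f V) h
  have hpo := CommRingCat.isPushout_tensorProduct Γ(S, V.1) (Γ(S, V.1) ⧸ I.ideal V) Γ(X, U)
  have := V.2.isOpenImmersion_fromSpec
  have hpb := isPullback_comp_mono (isPullback_SpecMap_of_isPushout _ _ _ _ hpo) V.2.fromSpec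
  have hfU : Spec.map (CommRingCat.ofHom (algebraMap Γ(S, V.1) Γ(X, U))) ≫ V.2.fromSpec =
      hU.fromSpec ≫ f := V.2.SpecMap_appLE_fromSpec f hU e
  rw [hfU] at hpb
  have t : IsPullback (pullback.snd f g) (pullback.fst f g) g f :=
    (IsPullback.of_hasPullback f g).flip
  have sq := IsPullback.of_right' hpb t
  have := hU.isOpenImmersion_fromSpec
  have h2 := comp_of_isPullback_openImmersion sq _ h1
  rw [t.lift_fst] at h2
  exact h2

end Groth.Agent.Lib.H80InfChart
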