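import Groth.Agent.S1386
import Groth.Agent.S2803
import Groth.Agent.S10895

/-!
# Openness of the locus where a morphism of proper schemes is fibrewise an isomorphism (helper5)

`g = f ≫ h : X ⟶ S` proper flat of finite presentation, `h : Y ⟶ S` proper of finite presentation.
* `isPullback_fiberMap`: the fibre map `X_s ⟶ Y_s` is the base change of `f` along `Y_s ⟶ Y`;
* `isIso_fiberToSpecResidueField_of_isIso_fiberMap`;
* `exists_nhds_isIso_of_isIso_fiberMap`: if `X_s ⟶ Y_s` is an isomorphism then `f` is an isomorphism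
  over `h⁻¹(U)` for an open neighbourhood `U` of `s` (EGA III 4.6.7);
* `isIso_fiberMap_of_isIso_restrict`.
-/

set_option autoImplicit false
set_option linter.style.haveILetI false
set_option linter.unusedSectionVars false
universe u

open CategoryTheory CategoryTheory.Limits AlgebraicGeometry TopologicalSpace Opposite Topology

namespace Groth.Agent.Lib.FibIsoOpen5

variable {X Y S : Scheme.{u}} (f : X ⟶ Y) (h : Y ⟶ S)

/-- The fibre map `X_s ⟶ Y_s` is the base change of `f` along `Y_s ⟶ Y`. -/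
theorem isPullback_fiberMap (s : S) :
    IsPullback ((f ≫ h).fiberι s) (MoreMor.fiberMap f h s) f (h.fiberι s) := by
  have t : IsPullback (h.fiberι s) (h.fiberToSpecResidueField s) h (S.fromSpecResidueField s) :=
    IsPullback.of_hasPullback h (S.fromSpecResidueField s)
  have e1 : MoreMor.fiberMap f h s ≫ h.fiberToSpecResidueField s =
      (f ≫ h).fiberToSpecResidueField s := pullback.lift_snd _ _ _
  have o : IsPullback ((f ≫ h).fiberι s) (MoreMor.fiberMap f h s ≫ h.fiberToSpecResidueField s)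
      (f ≫ h) (S.fromSpecResidueField s) := by
    rw [e1]
    exact IsPullback.of_hasPullback (f ≫ h) (S.fromSpecResidueField s)
  exact IsPullback.of_bot o (Groth.Agent.Lib.CritFibFib88.fiberMap_fiberι f h s).symm t

/-- If the fibre map over `h y` is an isomorphism, the fibre of `f` over `y` is `Spec κ(y)`. -/
theorem isIso_fiberToSpecResidueField_of_isIso_fiberMap (y : Y)
    [IsIso (MoreMor.fiberMap f h (h y))] : IsIso (f.fiberToSpecResidueField y) := by
  let a := h.asFiberHom y
  have hL : IsPullback (pullback.fst (MoreMor.fiberMap f h (h y)) a)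
      (pullback.snd (MoreMor.fiberMap f h (h y)) a) (MoreMor.fiberMap f h (h y)) a :=
    IsPullback.of_hasPullback _ _
  have hP := hL.paste_horiz (isPullback_fiberMap f h (h y))
  rw [h.asFiberHom_fiberι y] at hP
  have e : hP.isoPullback.hom ≫ pullback.snd f (Y.fromSpecResidueField y) =
      pullback.snd (MoreMor.fiberMap f h (h y)) a := hP.isoPullback_hom_snd
  have e' : pullback.snd f (Y.fromSpecResidueField y) =
      hP.isoPullback.inv ≫ pullback.snd (MoreMor.fiberMap f h (h y)) a :=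
    (Iso.eq_inv_comp _).mpr e
  have : IsIso (pullback.snd f (Y.fromSpecResidueField y)) := by
    rw [e']
    infer_instance
  exact this

/-- Isomorphisms can be checked locally on an open of the target. -/
theorem isIso_morphismRestrict_of_forall (U : Y.Opens)
    (H : ∀ y ∈ U, ∃ V : Y.Opens, y ∈ V ∧ IsIso (f ∣_ V)) : IsIso (f ∣_ U) := by
  apply IsZariskiLocalAtTarget.of_forall_exists_morphismRestrict
    (P := MorphismProperty.isomorphisms Scheme.{u})
  intro y
  obtain ⟨V, hyV, hV⟩ := H y.1 y.2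
  refine ⟨U.ι ⁻¹ᵁ V, hyV, ?_⟩
  rw [(MorphismProperty.isomorphisms Scheme.{u}).arrow_mk_iso_iff
    (morphismRestrictRestrict f U (U.ι ⁻¹ᵁ V))]
  have e1 : U.ι ''ᵁ (U.ι ⁻¹ᵁ V) = V.ι ''ᵁ (V.ι ⁻¹ᵁ U) := by
    ext z
    simp only [Scheme.Hom.image_preimage_eq_opensRange_inf, Scheme.Opens.opensRange_ι]
    simp only [Opens.mem_inf, SetLike.mem_coe]
    tauto
  rw [(MorphismProperty.isomorphisms Scheme.{u}).arrow_mk_iso_iff (morphismRestrictEq f e1),
    ← (MorphismProperty.isomorphisms Scheme.{u}).arrow_mk_iso_iff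
      (morphismRestrictRestrict f V (V.ι ⁻¹ᵁ U))]
  change IsIso _
  infer_instance

/-- If `f` is an isomorphism over `h⁻¹(W)`, the fibre maps over the points of `W` are
isomorphisms. -/
theorem isIso_fiberMap_of_isIso_restrict (W : S.Opens) [IsIso (f ∣_ (h ⁻¹ᵁ W))] (s : S)
    (hs : s ∈ W) : IsIso (MoreMor.fiberMap f h s) := by
  let V : Y.Opens := h ⁻¹ᵁ W
  have hr : Set.range (h.fiberι s) ⊆ (V : Set Y) := by
    rw [Scheme.Hom.range_fiberι]
    intro y hy
    have : h y = s := hy
    change h y ∈ W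
    rw [this]
    exact hs
  have hr' : Set.range (h.fiberι s) ⊆ Set.range V.ι := by
    rwa [Scheme.Opens.range_ι]
  let b : h.fiber s ⟶ V := IsOpenImmersion.lift V.ι (h.fiberι s) hr'
  have hb : b ≫ V.ι = h.fiberι s := IsOpenImmersion.lift_fac _ _ _
  have hr2 : Set.range ((f ≫ h).fiberι s) ⊆ Set.range (f ⁻¹ᵁ V).ι := by
    rw [Scheme.Opens.range_ι]
    rintro _ ⟨z, rfl⟩
    change f ((f ≫ h).fiberι s z) ∈ V
    apply hr
    refine ⟨MoreMor.fiberMap f h s z, ?_⟩
    rw [← Scheme.Hom.comp_apply, ← Scheme.Hom.comp_apply,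
      Groth.Agent.Lib.CritFibFib88.fiberMap_fiberι]
  let a : (f ≫ h).fiber s ⟶ f ⁻¹ᵁ V := IsOpenImmersion.lift (f ⁻¹ᵁ V).ι ((f ≫ h).fiberι s) hr2
  have ha : a ≫ (f ⁻¹ᵁ V).ι = (f ≫ h).fiberι s := IsOpenImmersion.lift_fac _ _ _
  have big : IsPullback (a ≫ (f ⁻¹ᵁ V).ι) (MoreMor.fiberMap f h s) f (b ≫ V.ι) := by
    rw [ha, hb]
    exact isPullback_fiberMap f h s
  have p : a ≫ (f ∣_ V) = MoreMor.fiberMap f h s ≫ b := by
    rw [← cancel_mono V.ι, Category.assoc, Category.assoc, morphismRestrict_ι, hb,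
      reassoc_of% ha, Groth.Agent.Lib.CritFibFib88.fiberMap_fiberι]
  have sq : IsPullback a (MoreMor.fiberMap f h s) (f ∣_ V) b :=
    IsPullback.of_right big p (isPullback_morphismRestrict f V).flip
  have hiso : MorphismProperty.isomorphisms Scheme.{u} (f ∣_ V) :=
    (inferInstance : IsIso (f ∣_ (h ⁻¹ᵁ W)))
  exact (MorphismProperty.isomorphisms Scheme.{u}).of_isPullback sq hiso

section main

variable [IsProper (f ≫ h)] [LocallyOfFinitePresentation (f ≫ h)] [Flat (f ≫ h)]
  [IsProper h] [LocallyOfFinitePresentation h]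

/-- EGA III 4.6.7 (i), local form: if the fibre map over `h y` is an isomorphism then `f` is an
isomorphism over an open neighbourhood of `y`. -/
theorem exists_nhds_isIso_of_isIso_fiberMap (y : Y) [IsIso (MoreMor.fiberMap f h (h y))] :
    ∃ V : Y.Opens, y ∈ V ∧ IsIso (f ∣_ V) := by
  haveI : IsProper f := IsProper.of_comp f h
  haveI : LocallyOfFinitePresentation f :=
    Groth.Agent.Lib.AlgSpBasic.locallyOfFinitePresentation_of_comp f h inferInstance inferInstance
  haveI hfib : IsIso (f.fiberToSpecResidueField y) :=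
    isIso_fiberToSpecResidueField_of_isIso_fiberMap f h y
  have huc : UniversallyClosed (f ∣_ (⊤ : Y.Opens)) := inferInstance
  obtain ⟨U, hyU, hU⟩ := (Groth.Agent.S2803.result f y).mpr ⟨Or.inr hfib, ⊤, trivial, huc⟩
  -- a point of the fibre
  obtain ⟨x, hx⟩ : ∃ x : X, f x = y := by
    have hne : Nonempty (f.fiber y) := by
      have : Nonempty (Spec (Y.residueField y)) := inferInstance
      exact this.map (inv (f.fiberToSpecResidueField y))
    obtain ⟨z⟩ := hne
    have hz : f.fiberι y z ∈ f ⁻¹' {y} := by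
      rw [← Scheme.Hom.range_fiberι]
      exact ⟨z, rfl⟩
    exact ⟨f.fiberι y z, hz⟩
  subst hx
  -- flatness of `f` at `x`
  have hflat : (f.stalkMap x).hom.Flat := by
    have h1 : ((f ≫ h).stalkMap x).hom.Flat := Flat.stalkMap (f ≫ h) x
    have h2 : ((MoreMor.fiberMap f h (h (f x))).stalkMap ((f ≫ h).asFiber x)).hom.Flat := by
      haveI : IsOpenImmersion (MoreMor.fiberMap f h (h (f x))) := inferInstance
      haveI : IsIso ((MoreMor.fiberMap f h (h (f x))).stalkMap ((f ≫ h).asFiber x)) :=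
        IsOpenImmersion.instIsIsoCommRingCatStalkMap _ _
      apply RingHom.Flat.of_bijective
      exact ConcreteCategory.bijective_of_isIso
        ((MoreMor.fiberMap f h (h (f x))).stalkMap ((f ≫ h).asFiber x))
    exact (((Groth.Agent.S1386.result f h).1 x).mp ⟨h1, h2⟩).2
  have hxU : x ∈ f ⁻¹ᵁ U := hyU
  let x' : ↥(f ⁻¹ᵁ U) := ⟨x, hxU⟩
  have hflat' : ((f ∣_ U).stalkMap x').hom.Flat := by
    have := (RingHom.Flat.respectsIso.arrow_mk_iso_iff (morphismRestrictStalkMap f U x')).mpr hflat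
    exact this
  obtain ⟨V, hV, hiso⟩ := Groth.Agent.S10895.result (f ∣_ U) x' hflat'
  refine ⟨U.ι ''ᵁ V, ?_, ?_⟩
  · refine ⟨(f ∣_ U) x', hV, ?_⟩
    exact morphismRestrict_base_coe f U x'
  · exact ((MorphismProperty.isomorphisms Scheme.{u}).arrow_mk_iso_iff
      (morphismRestrictRestrict f U V)).mp hiso

/-- EGA III 4.6.7 (i): if the fibre map over `s` is an isomorphism then `f` is an isomorphism over
`h⁻¹(W)` for an open neighbourhood `W` of `s`. -/
theorem exists_nhds_isIso_restrict_of_isIso_fiberMap (s : S) [IsIso (MoreMor.fiberMap f h s)] :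
    ∃ W : S.Opens, s ∈ W ∧ IsIso (f ∣_ (h ⁻¹ᵁ W)) := by
  -- the open locus where `f` is locally an isomorphism
  let T : Set Y := {y | ∃ V : Y.Opens, y ∈ V ∧ IsIso (f ∣_ V)}
  have hT : IsOpen T := by
    rw [isOpen_iff_forall_mem_open]
    rintro y ⟨V, hyV, hV⟩
    exact ⟨V, fun z hz => ⟨V, hz, hV⟩, V.2, hyV⟩
  have hfib : h ⁻¹' {s} ⊆ T := by
    rintro y (rfl : h y = s)
    exact exists_nhds_isIso_of_isIso_fiberMap f h y
  have hcl : IsClosed (h '' Tᶜ) := h.isClosedMap _ hT.isClosed_compl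
  let W : S.Opens := ⟨(h '' Tᶜ)ᶜ, hcl.isOpen_compl⟩
  have hsW : s ∈ W := by
    rintro ⟨y, hy, rfl⟩
    exact hy (hfib rfl)
  refine ⟨W, hsW, ?_⟩
  apply isIso_morphismRestrict_of_forall
  intro y hy
  by_contra hcon
  exact hy ⟨y, hcon, rfl⟩

/-- EGA III 4.6.7 (ii): the locus of `s ∈ S` over which the fibre map is an isomorphism is open and
`f` is an isomorphism over it. -/
theorem exists_opens_isIso_fiberMap :
    ∃ U : S.Opens, (∀ s, s ∈ U ↔ IsIso (MoreMor.fiberMap f h s)) ∧ IsIso (f ∣_ (h ⁻¹ᵁ U)) := by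
  have hopen : IsOpen {s : S | IsIso (MoreMor.fiberMap f h s)} := by
    rw [isOpen_iff_forall_mem_open]
    intro s (hs : IsIso (MoreMor.fiberMap f h s))
    obtain ⟨W, hsW, hW⟩ := exists_nhds_isIso_restrict_of_isIso_fiberMap f h s
    exact ⟨W, fun s' hs' => isIso_fiberMap_of_isIso_restrict f h W s' hs', W.2, hsW⟩
  refine ⟨⟨_, hopen⟩, fun s => Iff.rfl, ?_⟩
  apply isIso_morphismRestrict_of_forall
  intro y (hy : IsIso (MoreMor.fiberMap f h (h y)))
  exact exists_nhds_isIso_of_isIso_fiberMap f h y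

/-- The fibre map is an isomorphism iff there is an isomorphism of fibres compatible with `f`. -/
theorem isIso_fiberMap_iff (s : S) :
    IsIso (MoreMor.fiberMap f h s) ↔
      ∃ e : (f ≫ h).fiber s ≅ h.fiber s, e.hom ≫ h.fiberι s = (f ≫ h).fiberι s ≫ f := by
  constructor
  · intro hs
    exact ⟨asIso (MoreMor.fiberMap f h s), Groth.Agent.Lib.CritFibFib88.fiberMap_fiberι f h s⟩
  · rintro ⟨e, he⟩
    have : e.hom = MoreMor.fiberMap f h s := by
      rw [← cancel_mono (h.fiberι s), he, Groth.Agent.Lib.CritFibFib88.fiberMap_fiberι]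
    rw [← this]
    infer_instance

end main

end Groth.Agent.Lib.FibIsoOpen5
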