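import Groth.Agent.Lib.Fitting82P

set_option autoImplicit false
set_option linter.style.haveILetI false

universe u

namespace Groth.Agent.Lib.Fitting82

open CategoryTheory AlgebraicGeometry TopologicalSpace Opposite
open Groth.Agent.Lib.QCohStalk
open Groth.Agent.Lib.ModStalk Groth.Agent.Lib.ModStalkLin Groth.Agent.Lib.FreeModSch
  Groth.Agent.Lib.FreeModStalk Groth.Agent.Lib.LocFreeRank Groth.Agent.Lib.RestrictStalk
  Groth.Agent.Lib.ModStalkIso

variable {X : Scheme.{u}}

/-- `Fit_k(F) = O_X` iff all stalks have unit `k`-th Fitting ideal. -/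
theorem sheafIdeal_eq_top_iff (F : X.Modules) [F.IsQuasicoherent] [F.IsFiniteType] (k : ℕ) :
    Fitt.sheafIdeal F k = ⊤ ↔
      ∀ x : X, Fitt.ideal (X.presheaf.stalk x) (F.presheaf.stalk x) k = ⊤ := by
  rw [← Scheme.IdealSheafData.support_eq_bot_iff]
  constructor
  · intro h x
    rw [← notMem_support_sheafIdeal_iff, h]
    exact fun h => h
  · intro h
    apply SetLike.ext
    intro x
    constructor
    · intro hx
      exact absurd hx ((notMem_support_sheafIdeal_iff F x k).mpr (h x))
    · intro hx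
      exact absurd hx (fun h => h)

/-- `Fit_k(F) = 0` iff all stalks have zero `k`-th Fitting ideal. -/
theorem sheafIdeal_eq_bot_iff (F : X.Modules) [F.IsQuasicoherent] [F.IsFiniteType] (k : ℕ) :
    Fitt.sheafIdeal F k = ⊥ ↔
      ∀ x : X, Fitt.ideal (X.presheaf.stalk x) (F.presheaf.stalk x) k = ⊥ := by
  constructor
  · intro h x
    obtain ⟨_, ⟨U, hU, rfl⟩, hxU, -⟩ :=
      X.isBasis_affineOpens.exists_subset_of_mem_open (Set.mem_univ x) isOpen_univ
    replace hU : IsAffineOpen U := hU
    have h1 := sheafIdeal_ideal F k ⟨U, hU⟩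
    rw [h, Scheme.IdealSheafData.ideal_bot, Pi.bot_apply] at h1
    rw [ideal_stalk F hU ⟨x, hxU⟩ k, ← h1, Ideal.map_bot]
  · intro h
    apply Scheme.IdealSheafData.ext
    funext U
    rw [sheafIdeal_ideal, Scheme.IdealSheafData.ideal_bot, Pi.bot_apply, eq_bot_iff]
    intro a ha
    rw [Ideal.mem_bot]
    apply TopCat.Presheaf.section_ext X.sheaf U.1 a 0
    intro x hx
    obtain ⟨y, rfl⟩ : ∃ y : U.1, (y : X) = x := ⟨⟨x, hx⟩, rfl⟩
    have h2 := h (y : X)
    rw [ideal_stalk F U.2 y k] at h2
    have h3 : algebraMap Γ(X, U.1) (X.presheaf.stalk (y : X)) a ∈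
        (Fitt.ideal Γ(X, U.1) Γ(F, U.1) k).map
          (algebraMap Γ(X, U.1) (X.presheaf.stalk (y : X))) :=
      Ideal.mem_map_of_mem _ ha
    rw [h2, Ideal.mem_bot] at h3
    rw [map_zero]
    exact h3

/-- Finite locally free of rank `r` iff all stalks are free of rank `r` (finite type modules). -/
theorem isFinLocFreeOfRank_iff_forall_basis (F : X.Modules) [F.IsFiniteType] (r : ℕ) :
    FlatMod.IsFinLocFreeOfRank r F ↔
      ∀ x : X, Nonempty (Module.Basis (Fin r) (X.presheaf.stalk x) (F.presheaf.stalk x)) := by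
  constructor
  · intro h x
    obtain ⟨U, hxU, ⟨e⟩⟩ := h x
    let y : U.toScheme := ⟨x, hxU⟩
    let b : Module.Basis (Fin r) (U.toScheme.presheaf.stalk y)
        ((F.restrict U.ι).presheaf.stalk y) :=
      (stalkBasis (n := r) y).map (stalkLinEquiv e y).symm
    have hli := (linearIndependent_restrict_iff U.ι F y b).mp b.linearIndependent
    have hsp := (span_restrict_eq_top_iff U.ι F y b).mp b.span_eq
    exact ⟨Module.Basis.mk hli hsp.ge⟩
  · intro h
    have hfree : ∀ x, Module.Free (X.presheaf.stalk x) (F.presheaf.stalk x) :=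
      fun x => Module.Free.of_basis (h x).some
    have hrank : ∀ x, fibreRank F x = r := by
      intro x
      obtain ⟨b⟩ := h x
      haveI := Module.Free.of_basis b
      haveI := Module.Finite.of_basis b
      change Module.finrank (IsLocalRing.ResidueField (X.presheaf.stalk x))
        (TensorProduct (X.presheaf.stalk x) (IsLocalRing.ResidueField (X.presheaf.stalk x))
          (F.presheaf.stalk x)) = r
      rw [Module.finrank_baseChange, Module.finrank_eq_card_basis b, Fintype.card_fin]
    have hlc : IsLocallyConstant (fun x : X => fibreRank F x) := by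
      have : (fun x : X => fibreRank F x) = fun _ => r := funext hrank
      rw [this]
      exact IsLocallyConstant.const r
    have hflf := isFinLocFree_of_isFT_of_free_of_rank F ‹_› hfree hlc
    intro x
    obtain ⟨U, n, hxU, ⟨e⟩⟩ := hflf x
    have hn : n = r := by rw [← fibreRank_eq_of_restrict_iso U e ⟨x, hxU⟩, hrank]
    subst hn
    exact ⟨U, hxU, ⟨e⟩⟩

/-- A quasi-coherent module of finite type is finite locally free of rank `r` iff `Fit_k = 0` for
`k < r` and `Fit_k = O_X` for `k ≥ r`. -/
theorem isFinLocFreeOfRank_iff_sheafIdeal (F : X.Modules) [F.IsQuasicoherent] [F.IsFiniteType]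
    (r : ℕ) :
    FlatMod.IsFinLocFreeOfRank r F ↔
      (∀ k : ℕ, k < r → Fitt.sheafIdeal F k = ⊥) ∧ (∀ k : ℕ, r ≤ k → Fitt.sheafIdeal F k = ⊤) := by
  rw [isFinLocFreeOfRank_iff_forall_basis]
  simp_rw [basis_iff_ideal, sheafIdeal_eq_bot_iff, sheafIdeal_eq_top_iff]
  constructor
  · intro h
    exact ⟨fun k hk x => (h x).1 k hk, fun k hk x => (h x).2 k hk⟩
  · intro h x
    exact ⟨fun k hk => h.1 k hk x, fun k hk => h.2 k hk x⟩

end Groth.Agent.Lib.Fitting82
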