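import Groth.Agent.Lib.UnramifiedLocusBC
import Groth.Agent.Lib.QuasiFiniteLocusCons

/-!
# The unramified locus of a morphism locally of finite presentation is locally constructible

Same Noetherian approximation argument as in `QuasiFiniteLocusCons`, using helper37's
`UnramifiedLocusBC` (the unramified locus commutes with arbitrary base change).
-/

set_option autoImplicit false
universe u

open CategoryTheory Limits AlgebraicGeometry Topology TensorProduct TopologicalSpace

namespace Groth.Agent.Lib.UnramifiedLocusCons

open Groth.Agent.Lib.UnramifiedLocusBC Groth.Agent.Lib.QuasiFiniteLocusCons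

section affine

variable {R S : CommRingCat.{u}} (φ : R ⟶ S)

set_option maxHeartbeats 800000 in
/-- The unramified locus of `Spec S ⟶ Spec R`, for `S` an `R`-algebra of finite presentation,
is constructible. -/
theorem isConstructible_unramifiedLocus_Spec [LocallyOfFinitePresentation (Spec.map φ)] :
    IsConstructible ((unramifiedLocus (Spec.map φ)) : Set (Spec S)) := by
  have hφ : φ.hom.FinitePresentation :=
    (HasRingHomProperty.Spec_iff (P := @LocallyOfFinitePresentation)).mp inferInstance
  algebraize [φ.hom]
  let P := Algebra.Presentation.ofFinitePresentation R S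
  let R₀ := P.Core
  let S₀ := P.ModelOfHasCoeffs R₀
  let e : R ⊗[R₀] S₀ ≃ₐ[R] S := P.tensorModelOfHasCoeffsEquiv R₀
  haveI : IsNoetherianRing R₀ := Algebra.FiniteType.isNoetherianRing ℤ R₀
  haveI : IsNoetherianRing S₀ := Algebra.FiniteType.isNoetherianRing R₀ S₀
  let φ₀ : CommRingCat.of R₀ ⟶ CommRingCat.of S₀ := CommRingCat.ofHom (algebraMap R₀ S₀)
  let a : CommRingCat.of R₀ ⟶ R := CommRingCat.ofHom (algebraMap R₀ R)
  let inl : R ⟶ CommRingCat.of (R ⊗[R₀] S₀) :=
    CommRingCat.ofHom Algebra.TensorProduct.includeLeftRingHom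
  let inr : CommRingCat.of S₀ ⟶ CommRingCat.of (R ⊗[R₀] S₀) :=
    CommRingCat.ofHom Algebra.TensorProduct.includeRight.toRingHom
  have po : IsPushout a φ₀ inl inr := CommRingCat.isPushout_tensorProduct R₀ R S₀
  let eC : CommRingCat.of (R ⊗[R₀] S₀) ⟶ S := CommRingCat.ofHom e.toRingEquiv.toRingHom
  haveI : IsIso eC := by
    have : eC = e.toRingEquiv.toCommRingCatIso.hom := rfl
    rw [this]; infer_instance
  have hcomm : inl ≫ eC = φ := by
    ext r
    have h1 := e.commutes r
    rw [Algebra.TensorProduct.algebraMap_apply] at h1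
    change e ((r : (R : Type u)) ⊗ₜ[R₀] (1 : S₀)) = algebraMap R S r
    simpa using h1
  have pb : IsPullback (Spec.map inr) (Spec.map inl) (Spec.map φ₀) (Spec.map a) :=
    (isPullback_SpecMap_of_isPushout a φ₀ inl inr po).flip
  haveI : LocallyOfFinitePresentation (Spec.map φ₀) :=
    (HasRingHomProperty.Spec_iff (P := @LocallyOfFinitePresentation)).mpr
      (RingHom.finitePresentation_algebraMap.mpr inferInstance)
  haveI : LocallyOfFiniteType (Spec.map inl) :=
    MorphismProperty.of_isPullback pb inferInstance
  have h0 : IsConstructible ((unramifiedLocus (Spec.map φ₀)) : Set (Spec (CommRingCat.of S₀))) :=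
    isConstructible_of_isOpen_of_noetherianSpace (unramifiedLocus (Spec.map φ₀)).2
  have h1 : unramifiedLocus (Spec.map inl) = Spec.map inr ⁻¹ᵁ unramifiedLocus (Spec.map φ₀) :=
    unramifiedLocus_of_isPullback pb
  have h2 : Spec.map φ = Spec.map eC ≫ Spec.map inl := by
    rw [← Spec.map_comp, hcomm]
  have h3 : unramifiedLocus (Spec.map φ) = Spec.map eC ⁻¹ᵁ unramifiedLocus (Spec.map inl) := by
    ext x
    change ((Spec.map φ).stalkMap x).hom.FormallyUnramified ↔
      ((Spec.map inl).stalkMap (Spec.map eC x)).hom.FormallyUnramified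
    have := stalkMap_comp_iff_of_isOpenImmersion (Spec.map eC) (Spec.map inl) x
    rw [h2]
    exact this
  rw [h3, h1]
  exact (Spec.map eC).isConstructible_preimage ((Spec.map inr).isConstructible_preimage h0)

end affine

section general

variable {X Y : Scheme.{u}} (f : X ⟶ Y)

theorem isConstructible_unramifiedLocus_of_isAffine [IsAffine X] [IsAffine Y]
    [LocallyOfFinitePresentation f] :
    IsConstructible ((unramifiedLocus f) : Set X) := by
  have hnat : X.isoSpec.hom ≫ Spec.map f.appTop = f ≫ Y.isoSpec.hom :=
    Scheme.isoSpec_hom_naturality f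
  have e1 : Spec.map f.appTop = X.isoSpec.inv ≫ f ≫ Y.isoSpec.hom := by
    rw [← hnat, Iso.inv_hom_id_assoc]
  haveI : LocallyOfFinitePresentation (Spec.map f.appTop) := by rw [e1]; infer_instance
  have sq : IsPullback X.isoSpec.hom f (Spec.map f.appTop) Y.isoSpec.hom :=
    IsPullback.of_horiz_isIso ⟨hnat⟩
  rw [unramifiedLocus_of_isPullback sq]
  exact X.isoSpec.hom.isConstructible_preimage (isConstructible_unramifiedLocus_Spec _)

/-- The unramified locus of a morphism locally of finite presentation is locally
constructible (i.e. it is a retrocompact open). -/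
theorem isLocallyConstructible_unramifiedLocus [LocallyOfFinitePresentation f] :
    IsLocallyConstructible ((unramifiedLocus f) : Set X) := by
  intro x
  obtain ⟨_, ⟨V : Y.Opens, hV, rfl⟩, hxV, -⟩ := Y.isBasis_affineOpens.exists_subset_of_mem_open
    (Set.mem_univ (f x)) isOpen_univ
  obtain ⟨_, ⟨U : X.Opens, hU, rfl⟩, hxU, hUV⟩ := X.isBasis_affineOpens.exists_subset_of_mem_open
    hxV (f ⁻¹ᵁ V).2
  refine ⟨U, U.2.mem_nhds hxU, U.2, ?_⟩
  haveI : IsAffine U := hU
  haveI : IsAffine V := hV
  have h : (Subtype.val : ↥(U : Set X) → X) ⁻¹' ((unramifiedLocus f) : Set X) =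
      ((unramifiedLocus (f.resLE V U hUV)) : Set U) := by
    ext x
    change (f.stalkMap x.1).hom.FormallyUnramified ↔
      ((f.resLE V U hUV).stalkMap x).hom.FormallyUnramified
    exact (RingHom.FormallyUnramified.respectsIso.arrow_mk_iso_iff
      (Scheme.Hom.resLEStalkMap f hUV x)).symm
  rw [h]
  exact isConstructible_unramifiedLocus_of_isAffine _

end general

end Groth.Agent.Lib.UnramifiedLocusCons
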