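import Groth.Agent.Lib.FibreConstructible2
import Groth.Agent.Lib.UnramifiedLocusCons
import Mathlib.AlgebraicGeometry.Morphisms.IsIso

/-!
# Constructibility of the loci where the fibre map is unramified / a monomorphism
(EGA IV 9.6.1 (xii) via EGA IV 17.2.6: a morphism locally of finite type is a monomorphism iff it is
radicial and unramified)
-/

set_option autoImplicit false
universe u

open CategoryTheory Limits AlgebraicGeometry Topology

namespace Groth.Agent.Lib.FibreConstructible

open Groth.Agent.Lib.LimDescent Groth.Agent.Lib.UnramifiedLocusBC
  Groth.Agent.Lib.UnramifiedLocusCons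

section Mono

variable {X Y : Scheme.{u}} (h : X ⟶ Y)

/-- EGA IV 17.2.6: a morphism locally of finite type is a monomorphism iff it is universally
injective and unramified. -/
theorem mono_iff_universallyInjective_and_formallyUnramified [LocallyOfFiniteType h] :
    Mono h ↔ UniversallyInjective h ∧ FormallyUnramified h := by
  constructor
  · intro hm
    haveI : IsIso (pullback.diagonal h) := (pullback.isIso_diagonal_iff h).mpr hm
    exact ⟨inferInstance, inferInstance⟩
  · rintro ⟨h1, h2⟩
    haveI : IsOpenImmersion (pullback.diagonal h) := inferInstance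
    haveI : Surjective (pullback.diagonal h) := (UniversallyInjective.iff_diagonal h).mp h1
    haveI : IsIso (pullback.diagonal h) :=
      (isIso_iff_isOpenImmersion_and_surjective _).mpr ⟨inferInstance, inferInstance⟩
    exact (pullback.isIso_diagonal_iff h).mp inferInstance

theorem formallyUnramified_iff_unramifiedLocus_eq_top [LocallyOfFiniteType h] :
    FormallyUnramified h ↔ unramifiedLocus h = ⊤ := by
  constructor
  · intro hh
    exact eq_top_iff.mpr fun x _ => FormallyUnramified.stalkMap h x
  · intro hh
    refine formallyUnramified_of_forall_stalkMap h fun x => ?_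
    have : x ∈ unramifiedLocus h := by rw [hh]; trivial
    exact this

end Mono

variable {X Y S : Scheme.{u}} (f : X ⟶ Y) (g : Y ⟶ S)

theorem formallyUnramified_bcMap_iff [LocallyOfFiniteType f] (s : S) :
    FormallyUnramified (bcMap f g (S.fromSpecResidueField s)) ↔
      (f ≫ g).base ⁻¹' {s} ⊆ ((unramifiedLocus f) : Set X) := by
  haveI : LocallyOfFiniteType (bcMap f g (S.fromSpecResidueField s)) :=
    MorphismProperty.of_isPullback (isPullback_bcMap f g (S.fromSpecResidueField s)) inferInstance
  rw [formallyUnramified_iff_unramifiedLocus_eq_top,
    unramifiedLocus_of_isPullback (isPullback_bcMap f g (S.fromSpecResidueField s))]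
  have hr : Set.range (pullback.fst (f ≫ g) (S.fromSpecResidueField s)).base =
      (f ≫ g).base ⁻¹' {s} := by
    have := Scheme.Pullback.range_fst (f ≫ g) (S.fromSpecResidueField s)
    rw [Scheme.range_fromSpecResidueField] at this
    exact this
  rw [← hr]
  constructor
  · rintro h _ ⟨z, rfl⟩
    have : z ∈ pullback.fst (f ≫ g) (S.fromSpecResidueField s) ⁻¹ᵁ unramifiedLocus f := by
      rw [h]; trivial
    exact this
  · intro h
    exact eq_top_iff.mpr fun z _ => h ⟨z, rfl⟩

theorem setOf_formallyUnramified_bcMap_eq [LocallyOfFiniteType f] :
    {s : S | FormallyUnramified (bcMap f g (S.fromSpecResidueField s))} =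
      ((f ≫ g).base '' ((unramifiedLocus f) : Set X)ᶜ)ᶜ := by
  ext s
  rw [Set.mem_setOf_eq, formallyUnramified_bcMap_iff]
  constructor
  · rintro h ⟨x, hx, rfl⟩
    exact hx (h rfl)
  · intro h x hx
    by_contra hx'
    exact h ⟨x, hx', hx⟩

/-- The set of `s` such that `f_s` is unramified is locally constructible. -/
theorem isLocallyConstructible_setOf_formallyUnramified
    [LocallyOfFinitePresentation g]
    [LocallyOfFinitePresentation (f ≫ g)] [QuasiCompact (f ≫ g)] :
    IsLocallyConstructible
      {s : S | FormallyUnramified (bcMap f g (S.fromSpecResidueField s))} := by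
  haveI : LocallyOfFinitePresentation f := Groth.Agent.S12442.result f g
  rw [setOf_formallyUnramified_bcMap_eq]
  apply Groth.Agent.Lib.ConsTop.isLocallyConstructible_compl
  apply Scheme.Hom.isLocallyConstructible_image (f ≫ g)
  apply Groth.Agent.Lib.ConsTop.isLocallyConstructible_compl
  exact isLocallyConstructible_unramifiedLocus f

/-- EGA IV 9.6.1 (xii): the set of `s` such that `f_s` is a monomorphism is locally
constructible. -/
theorem isLocallyConstructible_setOf_mono
    [LocallyOfFinitePresentation g] [QuasiCompact g] [QuasiSeparated g]
    [LocallyOfFinitePresentation (f ≫ g)] [QuasiCompact (f ≫ g)] [QuasiSeparated (f ≫ g)] :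
    IsLocallyConstructible
      {s : S | Mono (bcMap f g (S.fromSpecResidueField s))} := by
  haveI : LocallyOfFinitePresentation f := Groth.Agent.S12442.result f g
  have h1 := isLocallyConstructible_setOf_universallyInjective f g
  have h2 := isLocallyConstructible_setOf_formallyUnramified f g
  convert h1.inter h2 using 1
  ext s
  haveI : LocallyOfFiniteType (bcMap f g (S.fromSpecResidueField s)) :=
    MorphismProperty.of_isPullback (isPullback_bcMap f g (S.fromSpecResidueField s)) inferInstance
  exact mono_iff_universallyInjective_and_formallyUnramified _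

end Groth.Agent.Lib.FibreConstructible
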