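import Groth.Agent.Lib.H77FibClosure
import Groth.Agent.Lib.ConsLocusMorMain
import Groth.Agent.Lib.ConsPropInst
import Groth.Agent.Lib.FpqcDescent
import Groth.Agent.Lib.LimDescentImm
import Groth.Prelude.Def_EGA4Misc

/-!
# Fibrewise separatedness is a constructible property (helper77)

EGA IV 9.6.1: for `f : X ⟶ Y` a morphism of `S`-schemes of finite presentation, the set of `s ∈ S`
such that `f_s : X_s ⟶ Y_s` is separated is locally constructible.

* `isPullback_diagonal`: the diagonal of a base change is the base change of the diagonal.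
* `isPullback_map_fst`: `X' ×_{Y'} X' ⟶ X ×_Y X` is a base change of `X' ⟶ X`.
* `isEmbedding_of_isPullback_fromSpecResidueField`, `range_of_isPullback_fromSpecResidueField`:
  a base change of `Spec κ(s) ⟶ S` along `q` is an embedding onto `q ⁻¹' {s}`.
* `isClosed_preimage_iff_of_isInducing`.
* `isSeparated_fiberMap_iff`, `isConsMor_isSeparated`.
-/

set_option autoImplicit false
set_option linter.style.haveILetI false
universe u
open CategoryTheory Limits AlgebraicGeometry TopologicalSpace Topology

namespace Groth.Agent.Lib.H77FibSeparated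

open Groth.Agent.Lib.H77FibClosure Groth.Agent.Lib.LimDescent

section Cat

variable {C : Type*} [Category C] [HasPullbacks C] {X Y X' Y' : C} {f : X ⟶ Y} {f' : X' ⟶ Y'}
  {eX : X' ⟶ X} {eY : Y' ⟶ Y}

/-- For a base change `f'` of `f`, the map `X' ×_{Y'} X' ⟶ X ×_Y X` is a base change of
`X' ⟶ X` along the first projection. -/
theorem isPullback_map_fst (hX : IsPullback eX f' f eY) :
    IsPullback (pullback.map f' f' f f eX eX eY hX.w.symm hX.w.symm) (pullback.fst f' f')
      (pullback.fst f f) eX := by
  have e1 : pullback.map f' f' f f eX eX eY hX.w.symm hX.w.symm ≫ pullback.snd f f =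
      pullback.snd f' f' ≫ eX := pullback.lift_snd _ _ _
  have e0 : pullback.map f' f' f f eX eX eY hX.w.symm hX.w.symm ≫ pullback.fst f f =
      pullback.fst f' f' ≫ eX := pullback.lift_fst _ _ _
  have s : IsPullback (pullback.map f' f' f f eX eX eY hX.w.symm hX.w.symm ≫ pullback.snd f f)
      (pullback.fst f' f') f (eX ≫ f) := by
    rw [e1, hX.w]
    exact (IsPullback.of_hasPullback f' f').flip.paste_horiz hX
  exact IsPullback.of_right s e0 (IsPullback.of_hasPullback f f).flip

/-- The diagonal of a base change is the base change of the diagonal. -/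
theorem isPullback_diagonal (hX : IsPullback eX f' f eY) :
    IsPullback eX (pullback.diagonal f') (pullback.diagonal f)
      (pullback.map f' f' f f eX eX eY hX.w.symm hX.w.symm) := by
  have t : IsPullback (pullback.fst f' f') (pullback.map f' f' f f eX eX eY hX.w.symm hX.w.symm)
      eX (pullback.fst f f) := (isPullback_map_fst hX).flip
  have s : IsPullback (pullback.diagonal f' ≫ pullback.fst f' f') eX eX
      (pullback.diagonal f ≫ pullback.fst f f) := by
    rw [pullback.diagonal_fst, pullback.diagonal_fst]
    exact IsPullback.id_horiz eX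
  have p : pullback.diagonal f' ≫ pullback.map f' f' f f eX eX eY hX.w.symm hX.w.symm =
      eX ≫ pullback.diagonal f := by
    have e0 : pullback.map f' f' f f eX eX eY hX.w.symm hX.w.symm ≫ pullback.fst f f =
        pullback.fst f' f' ≫ eX := pullback.lift_fst _ _ _
    have e1 : pullback.map f' f' f f eX eX eY hX.w.symm hX.w.symm ≫ pullback.snd f f =
        pullback.snd f' f' ≫ eX := pullback.lift_snd _ _ _
    apply pullback.hom_ext
    · rw [Category.assoc, Category.assoc, pullback.diagonal_fst, Category.comp_id, e0,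
        ← Category.assoc, pullback.diagonal_fst, Category.id_comp]
    · rw [Category.assoc, Category.assoc, pullback.diagonal_snd, Category.comp_id, e1,
        ← Category.assoc, pullback.diagonal_snd, Category.id_comp]
  exact (IsPullback.of_right s p t).flip

end Cat

/-- A base change of `Spec κ(s) ⟶ S` along `q` is an embedding. -/
theorem isEmbedding_of_isPullback_fromSpecResidueField {P P' S : Scheme.{u}} {q : P ⟶ S} {s : S}
    {H : P' ⟶ P} {p : P' ⟶ Spec (S.residueField s)}
    (sq : IsPullback H p q (S.fromSpecResidueField s)) : IsEmbedding H := by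
  have h1 : sq.isoPullback.hom ≫ pullback.fst q (S.fromSpecResidueField s) = H :=
    sq.isoPullback_hom_fst
  rw [← h1]
  exact (q.fiberι s).isEmbedding.comp sq.isoPullback.hom.isOpenEmbedding.isEmbedding

/-- A base change of `Spec κ(s) ⟶ S` along `q` has range `q ⁻¹' {s}`. -/
theorem range_of_isPullback_fromSpecResidueField {P P' S : Scheme.{u}} {q : P ⟶ S} {s : S}
    {H : P' ⟶ P} {p : P' ⟶ Spec (S.residueField s)}
    (sq : IsPullback H p q (S.fromSpecResidueField s)) : Set.range H = q ⁻¹' {s} := by
  have h1 : sq.isoPullback.hom ≫ pullback.fst q (S.fromSpecResidueField s) = H :=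
    sq.isoPullback_hom_fst
  have h2 : Set.range (pullback.fst q (S.fromSpecResidueField s)) = q ⁻¹' {s} :=
    Scheme.Hom.range_fiberι q s
  rw [← h1, Scheme.Hom.comp_base, TopCat.coe_comp, Set.range_comp,
    Set.range_eq_univ.mpr sq.isoPullback.hom.surjective, Set.image_univ, h2]

/-- Closedness of the preimage under an inducing map in terms of the ambient space. -/
theorem isClosed_preimage_iff_of_isInducing {F Z : Type*} [TopologicalSpace F] [TopologicalSpace Z]
    (ι : F → Z) (hι : IsInducing ι) (R : Set Z) :
    IsClosed (ι ⁻¹' R) ↔ closure (R ∩ Set.range ι) ∩ Set.range ι ⊆ R := by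
  rw [← closure_subset_iff_isClosed, hι.closure_eq_preimage_closure_image,
    Set.image_preimage_eq_inter_range]
  constructor
  · rintro h _ ⟨hx, t, rfl⟩
    exact h hx
  · intro h t ht
    exact h ⟨ht, t, rfl⟩

/-- The fibre map `f_s` is separated iff the trace of the diagonal on the fibre of `X ×_Y X` over `s`
is closed in that fibre. -/
theorem isSeparated_fiberMap_iff {X Y S : Scheme.{u}} (f : X ⟶ Y) (g : Y ⟶ S) (s : S) :
    IsSeparated (MoreMor.fiberMap f g s) ↔
      closure (Set.range (pullback.diagonal f) ∩ (pullback.fst f f ≫ f ≫ g) ⁻¹' {s}) ∩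
        (pullback.fst f f ≫ f ≫ g) ⁻¹' {s} ⊆ Set.range (pullback.diagonal f) := by
  have hX : IsPullback ((f ≫ g).fiberι s) (MoreMor.fiberMap f g s) f (g.fiberι s) :=
    isPullback_bcMap f g (S.fromSpecResidueField s)
  set f' := MoreMor.fiberMap f g s with hf'
  let H := pullback.map f' f' f f ((f ≫ g).fiberι s) ((f ≫ g).fiberι s) (g.fiberι s)
    hX.w.symm hX.w.symm
  have sqd : IsPullback ((f ≫ g).fiberι s) (pullback.diagonal f') (pullback.diagonal f) H :=
    isPullback_diagonal hX
  have sq1 : IsPullback H (pullback.fst f' f') (pullback.fst f f) ((f ≫ g).fiberι s) :=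
    isPullback_map_fst hX
  have sq2 : IsPullback H (pullback.fst f' f' ≫ (f ≫ g).fiberToSpecResidueField s)
      (pullback.fst f f ≫ f ≫ g) (S.fromSpecResidueField s) :=
    sq1.paste_vert (IsPullback.of_hasPullback (f ≫ g) (S.fromSpecResidueField s))
  have hemb : IsEmbedding H := isEmbedding_of_isPullback_fromSpecResidueField sq2
  have hrange : Set.range H = (pullback.fst f f ≫ f ≫ g) ⁻¹' {s} :=
    range_of_isPullback_fromSpecResidueField sq2
  have hr : Set.range (pullback.diagonal f') = H ⁻¹' Set.range (pullback.diagonal f) :=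
    Groth.Agent.Lib.LimDescent.range_eq_preimage_of_isPullback sqd
  rw [← hrange, ← isClosed_preimage_iff_of_isInducing H hemb.isInducing, ← hr]
  constructor
  · intro h
    exact (pullback.diagonal f').isClosedEmbedding.isClosed_range
  · intro h
    exact ⟨IsClosedImmersion.of_isPreimmersion _ h⟩

/-- **EGA IV 9.6.1**: separatedness of the fibre maps is a constructible property. -/
theorem isConsMor_isSeparated :
    ConsProp.IsConsMor (fun (_ _ _ : Scheme.{u}) f _ => IsSeparated f) := by
  refine ⟨Groth.Agent.Lib.ConsPropInst.isFieldStableMor_of_descends @IsSeparated, ?_⟩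
  intro X Y S f g _ _ _ _ _ _
  haveI : IsLocallyNoetherian Y := LocallyOfFiniteType.isLocallyNoetherian g
  haveI : CompactSpace Y := QuasiCompact.compactSpace_of_compactSpace g
  haveI : IsNoetherian Y := {}
  haveI : LocallyOfFiniteType f := locallyOfFiniteType_of_comp f g
  haveI : QuasiCompact f := QuasiCompact.of_comp f g
  let P : Scheme.{u} := pullback f f
  let q : P ⟶ S := pullback.fst f f ≫ f ≫ g
  haveI : LocallyOfFiniteType q := inferInstanceAs (LocallyOfFiniteType (pullback.fst f f ≫ f ≫ g))
  haveI : QuasiCompact q := inferInstanceAs (QuasiCompact (pullback.fst f f ≫ f ≫ g))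
  haveI : IsLocallyNoetherian P := LocallyOfFiniteType.isLocallyNoetherian q
  haveI : CompactSpace P := QuasiCompact.compactSpace_of_compactSpace q
  haveI : IsNoetherian P := {}
  haveI : NoetherianSpace P := inferInstance
  obtain ⟨U, F, hU, hF, hUF⟩ := (pullback.diagonal f).isLocallyClosed_range
  have hloc : ∀ s : S, s ∈ ConsProp.locusMor (fun (_ _ _ : Scheme.{u}) f _ => IsSeparated f) f g ↔
      closure (U ∩ F ∩ q ⁻¹' {s}) ∩ q ⁻¹' {s} ⊆ U ∩ F := fun s => by
    rw [← hUF]
    exact isSeparated_fiberMap_iff f g s
  obtain ⟨V, hηV, hV⟩ := exists_opens_fiber_closed q U F hU hF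
  rcases hV with hV | hV
  · left
    refine ⟨genericPoint S, mem_interior.mpr ⟨V, ?_, V.isOpen, hηV⟩⟩
    intro s hs
    exact (hloc s).mpr (hV s hs)
  · right
    refine ⟨genericPoint S, mem_interior.mpr ⟨V, ?_, V.isOpen, hηV⟩⟩
    intro s hs hmem
    exact hV s hs ((hloc s).mp hmem)

/-- The set of `s` such that `f_s` is separated is locally constructible. -/
theorem isLocallyConstructible_setOf_isSeparated {X Y S : Scheme.{u}} (f : X ⟶ Y) (g : Y ⟶ S)
    [LocallyOfFinitePresentation g] [QuasiCompact g] [QuasiSeparated g]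
    [LocallyOfFinitePresentation (f ≫ g)] [QuasiCompact (f ≫ g)] [QuasiSeparated (f ≫ g)] :
    IsLocallyConstructible {s : S | IsSeparated (MoreMor.fiberMap f g s)} :=
  Groth.Agent.Lib.ConsLocusMor.isLocallyConstructible_locusMor isConsMor_isSeparated f g

end Groth.Agent.Lib.H77FibSeparated
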