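import Groth.Agent.Lib.LocImm13
import Mathlib.AlgebraicGeometry.ZariskisMainTheorem

/-! # Finite form of Zariski's main theorem (helper34)

A separated, quasi-finite, finite type morphism to a qcqs scheme factors as an open immersion
followed by a finite morphism.  Strategy: over an affine base, pick a finite subalgebra of the
integral closure; in general glue partial compactifications along a finite affine cover. -/

universe u
open CategoryTheory AlgebraicGeometry Limits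

namespace Groth.Agent.Lib.ZMTFin

section Algebra

variable {R A : Type*} [CommRing R] [CommRing A] [Algebra R A]

/-- key algebra lemma: a finite subalgebra `B` of an integral algebra `A` such that
`B[1/a] = A[1/a]` for finitely many `a` with `A[1/a]` of finite type. -/
theorem exists_fg_subalgebra [Algebra.IsIntegral R A] (s : Set A) (hs : s.Finite)
    (hft : ∀ a ∈ s, Algebra.FiniteType R (Localization.Away a)) :
    ∃ B : Subalgebra R A, B.toSubmodule.FG ∧ s ⊆ B ∧ ∀ a ∈ s, ∀ x : A, ∃ n : ℕ, a ^ n * x ∈ B := by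
  classical
  -- generators
  have hgen : ∀ a ∈ s, ∃ t : Finset A, ∀ x : A, ∃ n : ℕ,
      a ^ n * x ∈ Algebra.adjoin R (insert a (t : Set A)) := by
    intro a ha
    obtain ⟨t', ht'⟩ := (hft a ha).out
    -- write each generator as x / a ^ n
    have hx : ∀ g : Localization.Away a, ∃ (x : A) (n : ℕ),
        g * algebraMap A _ a ^ n = algebraMap A _ x := by
      intro g
      obtain ⟨x, ⟨_, n, rfl⟩, rfl⟩ := IsLocalization.exists_mk'_eq (Submonoid.powers a) g
      exact ⟨x, n, by rw [← map_pow]; exact IsLocalization.mk'_spec _ _ _⟩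
    choose xg ng hxg using hx
    refine ⟨t'.image xg, fun x => ?_⟩
    set B := Algebra.adjoin R (insert a ((t'.image xg : Finset A) : Set A)) with hB
    have haB : a ∈ B := Algebra.subset_adjoin (Set.mem_insert _ _)
    -- the predicate
    have key : ∀ y : Localization.Away a, y ∈ Algebra.adjoin R (t' : Set (Localization.Away a)) →
        ∃ (n : ℕ) (b : A), b ∈ B ∧ y * algebraMap A _ a ^ n = algebraMap A _ b := by
      intro y hy
      induction hy using Algebra.adjoin_induction with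
      | mem g hg =>
        exact ⟨ng g, xg g, Algebra.subset_adjoin (Set.mem_insert_of_mem _
          (by simpa using ⟨g, hg, rfl⟩)), hxg g⟩
      | algebraMap r =>
        refine ⟨0, algebraMap R A r, Subalgebra.algebraMap_mem _ _, ?_⟩
        simp [IsScalarTower.algebraMap_apply R A (Localization.Away a)]
      | add y₁ y₂ _ _ h₁ h₂ =>
        obtain ⟨n₁, b₁, hb₁, e₁⟩ := h₁
        obtain ⟨n₂, b₂, hb₂, e₂⟩ := h₂
        refine ⟨n₁ + n₂, b₁ * a ^ n₂ + b₂ * a ^ n₁,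
          add_mem (mul_mem hb₁ (pow_mem haB _)) (mul_mem hb₂ (pow_mem haB _)), ?_⟩
        simp only [map_add, map_mul, map_pow, ← e₁, ← e₂]
        ring
      | mul y₁ y₂ _ _ h₁ h₂ =>
        obtain ⟨n₁, b₁, hb₁, e₁⟩ := h₁
        obtain ⟨n₂, b₂, hb₂, e₂⟩ := h₂
        refine ⟨n₁ + n₂, b₁ * b₂, mul_mem hb₁ hb₂, ?_⟩
        simp only [map_mul, ← e₁, ← e₂]
        ring
    obtain ⟨n, b, hb, e⟩ := key (algebraMap A _ x) (by rw [ht']; trivial)
    rw [← map_pow, ← map_mul] at e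
    obtain ⟨⟨_, k, rfl⟩, hk⟩ := (IsLocalization.eq_iff_exists (Submonoid.powers a) _).mp e
    refine ⟨k + n, ?_⟩
    have : a ^ (k + n) * x = a ^ k * b := by
      rw [pow_add, mul_assoc, mul_comm (a ^ n) x]; exact hk
    rw [this]
    exact mul_mem (pow_mem haB _) hb
  choose! t ht using hgen
  let G : Set A := s ∪ ⋃ a ∈ s, (t a : Set A)
  have hG : G.Finite := hs.union (hs.biUnion fun a _ => (t a).finite_toSet)
  refine ⟨Algebra.adjoin R G, fg_adjoin_of_finite hG fun x _ => Algebra.IsIntegral.isIntegral x,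
    fun a ha => Algebra.subset_adjoin (Or.inl ha), fun a ha x => ?_⟩
  obtain ⟨n, hn⟩ := ht a ha x
  refine ⟨n, Algebra.adjoin_mono ?_ hn⟩
  rintro y (rfl | hy)
  · exact Or.inl ha
  · exact Or.inr (Set.mem_biUnion ha hy)

theorem isLocalization_away_subalgebra (B : Subalgebra R A) (a : A) (ha : a ∈ B)
    (h : ∀ x : A, ∃ n : ℕ, a ^ n * x ∈ B) (A' : Type*) [CommRing A'] [Algebra A A']
    [IsLocalization.Away a A'] : IsLocalization.Away (⟨a, ha⟩ : B) A' := by
  have hmap : ∀ b : B, algebraMap B A' b = algebraMap A A' b.1 := fun b => rfl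
  refine ⟨?_, ?_, ?_⟩
  · rintro ⟨_, n, rfl⟩
    rw [hmap]
    simp only [SubmonoidClass.coe_pow]
    exact (IsLocalization.Away.algebraMap_isUnit (S := A') a).pow n |> fun h => by simpa using h
  · intro z
    obtain ⟨x, ⟨_, m, rfl⟩, rfl⟩ := IsLocalization.exists_mk'_eq (Submonoid.powers a) z
    obtain ⟨n, hn⟩ := h x
    refine ⟨⟨⟨a ^ n * x, hn⟩, ⟨⟨a, ha⟩ ^ (n + m), n + m, rfl⟩⟩, ?_⟩
    rw [hmap, hmap]
    have := IsLocalization.mk'_spec A' x (⟨a ^ m, m, rfl⟩ : Submonoid.powers a)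
    simp only [map_pow] at this
    have e2 : ((⟨a, ha⟩ : B) ^ (n + m) : B).1 = a ^ n * a ^ m := by
      rw [pow_add]; rfl
    rw [e2]
    simp only [map_mul, map_pow]
    calc _ = algebraMap A A' a ^ n * (IsLocalization.mk' A' x (⟨a ^ m, m, rfl⟩ : Submonoid.powers a) * algebraMap A A' a ^ m) := by ring
      _ = _ := by rw [this]
  · intro b₁ b₂ e
    rw [hmap, hmap] at e
    obtain ⟨⟨_, k, rfl⟩, hk⟩ := (IsLocalization.eq_iff_exists (Submonoid.powers a) _).mp e
    exact ⟨⟨⟨a, ha⟩ ^ k, k, rfl⟩, Subtype.ext (by simpa using hk)⟩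

lemma le_of_comap_le (B : Subalgebra R A) (a : A)
    (h : ∀ x : A, ∃ n : ℕ, a ^ n * x ∈ B) (p q : Ideal A) [q.IsPrime]
    (hq : a ∉ q) (e : p.comap B.val ≤ q.comap B.val) : p ≤ q := by
  intro x hx
  obtain ⟨n, hn⟩ := h x
  have h1 : (⟨a ^ n * x, hn⟩ : B) ∈ p.comap B.val := by
    simpa using p.mul_mem_left (a ^ n) hx
  have h2 : a ^ n * x ∈ q := by simpa using e h1
  rcases Ideal.IsPrime.mem_or_mem ‹_› h2 with h3 | h3
  · exact absurd (Ideal.IsPrime.mem_of_pow_mem ‹_› _ h3) hq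
  · exact h3

end Algebra

lemma exists_lift_away {A : CommRingCat.{u}} {X : Scheme.{u}} (j0 : X ⟶ Spec A)
    [IsOpenImmersion j0] (a : A)
    (h : (PrimeSpectrum.basicOpen a : Set (PrimeSpectrum A)) ⊆ Set.range j0) :
    ∃ l : Spec (.of (Localization.Away a)) ⟶ X, IsOpenImmersion l ∧
      l ≫ j0 = Spec.map (CommRingCat.ofHom (algebraMap A (Localization.Away a))) ∧
      ∀ x : X, a ∉ (j0 x).asIdeal → x ∈ Set.range l := by
  let ιa : Spec (.of (Localization.Away a)) ⟶ Spec A :=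
    Spec.map (CommRingCat.ofHom (algebraMap A (Localization.Away a)))
  have hι : IsOpenImmersion ιa := IsOpenImmersion.of_isLocalization a
  have hrange : Set.range ιa = (PrimeSpectrum.basicOpen a : Set (PrimeSpectrum A)) :=
    PrimeSpectrum.localization_away_comap_range (Localization.Away a) a
  have hr : Set.range ιa ⊆ Set.range j0 := hrange ▸ h
  let l := IsOpenImmersion.lift j0 ιa hr
  have hl : l ≫ j0 = ιa := IsOpenImmersion.lift_fac _ _ _
  have : IsOpenImmersion (l ≫ j0) := hl ▸ hι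
  refine ⟨l, IsOpenImmersion.of_comp l j0, hl, fun x hx => ?_⟩
  have : j0 x ∈ Set.range ιa := hrange ▸ hx
  obtain ⟨z, hz⟩ := this
  refine ⟨z, j0.isOpenEmbedding.injective ?_⟩
  rw [← Scheme.Hom.comp_apply, hl, hz]

theorem core {R A : CommRingCat.{u}} (φ : R ⟶ A) (hφ : φ.hom.IsIntegral) {X : Scheme.{u}}
    (j0 : X ⟶ Spec A) [IsOpenImmersion j0] [CompactSpace X]
    [LocallyOfFiniteType (j0 ≫ Spec.map φ)] :
    ∃ (B : CommRingCat.{u}) (ψ : R ⟶ B) (χ : B ⟶ A), ψ ≫ χ = φ ∧ ψ.hom.Finite ∧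
      Function.Injective χ.hom ∧ IsOpenImmersion (j0 ≫ Spec.map χ) := by
  algebraize [φ.hom]
  have hint : Algebra.IsIntegral R A := ⟨hφ⟩
  have hco : IsCompact (Set.range j0) ∧ IsOpen (Set.range j0) :=
    ⟨isCompact_range j0.continuous, j0.isOpenEmbedding.isOpen_range⟩
  obtain ⟨s, hs, hsU⟩ := (TopologicalSpace.Opens.IsBasis.isCompact_open_iff_eq_finite_iUnion
    (PrimeSpectrum.basicOpen (R := A)) PrimeSpectrum.isBasis_basic_opens
    (fun a => PrimeSpectrum.isCompact_basicOpen a) (Set.range j0)).mp hco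
  have hsub : ∀ a ∈ s, (PrimeSpectrum.basicOpen a : Set (PrimeSpectrum A)) ⊆ Set.range j0 := by
    intro a ha
    rw [hsU]
    exact Set.subset_biUnion_of_mem (u := fun i => (PrimeSpectrum.basicOpen i : Set (PrimeSpectrum A))) ha
  have hft : ∀ a ∈ s, Algebra.FiniteType R (Localization.Away a) := by
    intro a ha
    obtain ⟨l, hl, hlj, -⟩ := exists_lift_away j0 a (hsub a ha)
    have h1 : LocallyOfFiniteType (Spec.map (CommRingCat.ofHom (algebraMap A (Localization.Away a))) ≫ Spec.map φ) := by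
      rw [← hlj, Category.assoc]; infer_instance
    rw [← Spec.map_comp] at h1
    have h2 := (HasRingHomProperty.Spec_iff (P := @LocallyOfFiniteType)).mp h1
    rw [← RingHom.finiteType_algebraMap]
    exact h2
  obtain ⟨B, hBfg, hsB, hB⟩ := exists_fg_subalgebra (R := R) s hs hft
  have hfin : Module.Finite R B := ⟨(Submodule.fg_top _).mpr hBfg⟩
  refine ⟨.of B, CommRingCat.ofHom (algebraMap R B), CommRingCat.ofHom B.val.toRingHom, ?_, ?_,
    Subtype.val_injective, ?_⟩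
  · ext x; rfl
  · exact RingHom.finite_algebraMap.mpr hfin
  · have hmem : ∀ x : X, ∃ a ∈ s, a ∉ (j0 x).asIdeal := by
      intro x
      have hx : j0 x ∈ ⋃ i ∈ s, (PrimeSpectrum.basicOpen i : Set (PrimeSpectrum A)) :=
        hsU ▸ ⟨x, rfl⟩
      obtain ⟨a, ha, hxa⟩ := Set.mem_iUnion₂.mp hx
      exact ⟨a, ha, hxa⟩
    refine IsOpenImmersion.of_forall_source_exists _ ?_ ?_
    · intro x y hxy
      apply j0.isOpenEmbedding.injective
      have hxy' : PrimeSpectrum.comap B.val.toRingHom (j0 x) =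
          PrimeSpectrum.comap B.val.toRingHom (j0 y) := by
        have h0 := hxy
        rw [Scheme.Hom.comp_apply, Scheme.Hom.comp_apply, Spec.map_apply, Spec.map_apply] at h0
        exact h0
      obtain ⟨a, ha, hax⟩ := hmem x
      have hay : a ∉ (j0 y).asIdeal := by
        intro h
        apply hax
        have h3 : (⟨a, hsB ha⟩ : B) ∈ (PrimeSpectrum.comap B.val.toRingHom (j0 y)).asIdeal := h
        rw [← hxy'] at h3
        exact h3
      have e1 : (j0 x).asIdeal.comap B.val = (j0 y).asIdeal.comap B.val :=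
        congrArg PrimeSpectrum.asIdeal hxy'
      exact PrimeSpectrum.ext (le_antisymm
        (le_of_comap_le B a (hB a ha) _ _ hay e1.le)
        (le_of_comap_le B a (hB a ha) _ _ hax e1.ge))
    · intro x
      obtain ⟨a, ha, hax⟩ := hmem x
      obtain ⟨l, hl, hlj, hlr⟩ := exists_lift_away j0 a (hsub a ha)
      refine ⟨_, l, hl, hlr x hax, ?_⟩
      rw [← Category.assoc, hlj, ← Spec.map_comp]
      have := isLocalization_away_subalgebra B a (hsB ha) (hB a ha) (Localization.Away a)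
      exact IsOpenImmersion.of_isLocalization (⟨a, hsB ha⟩ : B)

theorem exists_finite_of_isAffine {X S : Scheme.{u}} [IsAffine S] (f : X ⟶ S)
    [LocallyQuasiFinite f] [LocallyOfFiniteType f] [QuasiCompact f] [IsSeparated f] :
    ∃ (T : Scheme.{u}) (j : X ⟶ T) (π : T ⟶ S), IsOpenImmersion j ∧ IsDominant j ∧ IsFinite π ∧
      j ≫ π = f := by
  have : IsAffine f.normalization := isAffine_of_isAffineHom f.fromNormalization
  have : CompactSpace X := QuasiCompact.compactSpace_of_compactSpace f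
  let φ := f.fromNormalization.appTop
  have hφ : φ.hom.IsIntegral :=
    IsIntegralHom.isIntegral_app f.fromNormalization ⊤ (isAffineOpen_top S)
  let j0 := f.toNormalization ≫ f.normalization.isoSpec.hom
  have hj0 : j0 ≫ Spec.map φ = f ≫ S.isoSpec.hom := by
    simp only [j0, Category.assoc]
    rw [Scheme.isoSpec_hom_naturality, ← Category.assoc, f.toNormalization_fromNormalization]
  have : LocallyOfFiniteType (j0 ≫ Spec.map φ) := by rw [hj0]; infer_instance
  obtain ⟨B, ψ, χ, hψχ, hψ, hχ, hopen⟩ := core φ hφ j0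
  refine ⟨Spec B, j0 ≫ Spec.map χ, Spec.map ψ ≫ S.isoSpec.inv, hopen, ?_, ?_, ?_⟩
  · have : IsDominant (Spec.map χ) := by
      refine ⟨?_⟩
      have := (PrimeSpectrum.denseRange_comap_iff_ker_le_nilRadical (f := χ.hom)).mpr (by
        rw [(RingHom.injective_iff_ker_eq_bot _).mp hχ]; exact bot_le)
      exact this
    infer_instance
  · have : IsFinite (Spec.map ψ) := (IsFinite.SpecMap_iff ψ).mpr hψ
    infer_instance
  · rw [Category.assoc, ← Category.assoc (Spec.map χ), ← Spec.map_comp, hψχ, ← Category.assoc, hj0,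
      Category.assoc, Iso.hom_inv_id, Category.comp_id]

open Groth.Agent.Lib.LocImm

lemma quasiCompact_of_two {Y₁ Y₂ Y S : Scheme.{u}} (ι₁ : Y₁ ⟶ Y) (ι₂ : Y₂ ⟶ Y)
    (h : ∀ y : Y, y ∈ Set.range ι₁ ∨ y ∈ Set.range ι₂) (p : Y ⟶ S)
    [QuasiCompact (ι₁ ≫ p)] [QuasiCompact (ι₂ ≫ p)] : QuasiCompact p := by
  refine ⟨fun U hU hU' => ?_⟩
  have e : p ⁻¹' U = ι₁ '' ((ι₁ ≫ p) ⁻¹' U) ∪ ι₂ '' ((ι₂ ≫ p) ⁻¹' U) := by
    ext y
    constructor
    · intro hy
      rcases h y with ⟨z, rfl⟩ | ⟨z, rfl⟩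
      · exact Or.inl ⟨z, by simpa [Scheme.Hom.comp_apply] using hy, rfl⟩
      · exact Or.inr ⟨z, by simpa [Scheme.Hom.comp_apply] using hy, rfl⟩
    · rintro (⟨z, hz, rfl⟩ | ⟨z, hz, rfl⟩)
      · simpa [Scheme.Hom.comp_apply] using hz
      · simpa [Scheme.Hom.comp_apply] using hz
  rw [e]
  exact ((QuasiCompact.isCompact_preimage (f := ι₁ ≫ p) U hU hU').image ι₁.continuous).union
    ((QuasiCompact.isCompact_preimage (f := ι₂ ≫ p) U hU hU').image ι₂.continuous)

theorem glue_step {X S : Scheme.{u}} (f : X ⟶ S) [IsSeparated f] [LocallyOfFiniteType f]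
    [QuasiCompact f] [LocallyQuasiFinite f] (V : S.Opens) [QuasiCompact V.ι] {Z : Scheme.{u}}
    (i : (f ⁻¹ᵁ V).toScheme ⟶ Z) (h : Z ⟶ V.toScheme) [IsOpenImmersion i] [IsDominant i]
    [IsFinite h] (hih : i ≫ h = f ∣_ V) :
    ∃ (T : Scheme.{u}) (j : X ⟶ T) (π : T ⟶ S), IsOpenImmersion j ∧ IsDominant j ∧
      IsSeparated π ∧ LocallyOfFiniteType π ∧ QuasiCompact π ∧ LocallyQuasiFinite π ∧ j ≫ π = f ∧
      IsFinite (π ∣_ V) := by
  obtain ⟨T, ι₁, ι₂, hι₁, hι₂, hpo, hsurj, heq⟩ :=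
    exists_pushout_of_isOpenImmersion (f ⁻¹ᵁ V).ι i
  have hcompat : (f ⁻¹ᵁ V).ι ≫ f = i ≫ (h ≫ V.ι) := by
    rw [← Category.assoc, hih, morphismRestrict_ι]
  obtain ⟨π, hπ₁, hπ₂⟩ : ∃ π : T ⟶ S, ι₁ ≫ π = f ∧ ι₂ ≫ π = h ≫ V.ι :=
    ⟨hpo.desc f (h ≫ V.ι) hcompat, hpo.inl_desc _ _ _, hpo.inr_desc _ _ _⟩
  have hpb : IsPullback (f ⁻¹ᵁ V).ι i ι₁ ι₂ := by
    refine (IsOpenImmersion.isPullback i (f ⁻¹ᵁ V).ι ι₂ ι₁ hpo.w ?_).flip
    ext y
    constructor
    · rintro ⟨y₂, hy₂⟩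
      obtain ⟨w, hw₁, -⟩ := heq y y₂ hy₂.symm
      exact ⟨w, hw₁⟩
    · rintro ⟨w, rfl⟩
      refine ⟨i w, ?_⟩
      rw [← Scheme.Hom.comp_apply, ← hpo.w, Scheme.Hom.comp_apply]
  have a1 : ∀ x, π (ι₁ x) = f x := fun x => by rw [← Scheme.Hom.comp_apply, hπ₁]
  have a2 : ∀ z, π (ι₂ z) = V.ι (h z) := fun z => by
    rw [← Scheme.Hom.comp_apply, hπ₂, Scheme.Hom.comp_apply]
  have hs₁ : IsSeparated (ι₁ ≫ π) := hπ₁ ▸ inferInstance
  have hs₂ : IsSeparated (ι₂ ≫ π) := hπ₂ ▸ inferInstance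
  -- the graph is a closed immersion
  have hcl : IsClosedImmersion (pullback.lift (f ⁻¹ᵁ V).ι i (by rw [hpb.w_assoc]) :
      (f ⁻¹ᵁ V).toScheme ⟶ pullback (ι₁ ≫ π) (ι₂ ≫ π)) := by
    set G : (f ⁻¹ᵁ V).toScheme ⟶ pullback (ι₁ ≫ π) (ι₂ ≫ π) :=
      pullback.lift (f ⁻¹ᵁ V).ι i (by rw [hpb.w_assoc]) with hG
    have hrange : Set.range (pullback.fst (ι₁ ≫ π) (ι₂ ≫ π)) ⊆ Set.range (f ⁻¹ᵁ V).ι := by
      rintro _ ⟨p, rfl⟩
      rw [Scheme.Opens.range_ι]
      show f (pullback.fst (ι₁ ≫ π) (ι₂ ≫ π) p) ∈ V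
      have c := congr($(pullback.condition (f := ι₁ ≫ π) (g := ι₂ ≫ π)) p)
      simp only [Scheme.Hom.comp_apply] at c
      rw [← a1, c, a2]
      exact (h (pullback.snd (ι₁ ≫ π) (ι₂ ≫ π) p)).2
    let r := IsOpenImmersion.lift (f ⁻¹ᵁ V).ι (pullback.fst (ι₁ ≫ π) (ι₂ ≫ π)) hrange
    have hr : r ≫ (f ⁻¹ᵁ V).ι = pullback.fst (ι₁ ≫ π) (ι₂ ≫ π) := IsOpenImmersion.lift_fac _ _ _
    have hGr : G ≫ r = 𝟙 _ := by
      rw [← cancel_mono (f ⁻¹ᵁ V).ι, Category.assoc, hr, hG, pullback.lift_fst, Category.id_comp]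
    have : IsSeparated (r ≫ (f ⁻¹ᵁ V).ι) := hr ▸ inferInstance
    have : IsSeparated r := IsSeparated.of_comp r (f ⁻¹ᵁ V).ι
    have : IsClosedImmersion (G ≫ r) := hGr ▸ inferInstance
    exact IsClosedImmersion.of_comp G r
  have hsep : IsSeparated π := isSeparated_of_two (f ⁻¹ᵁ V).ι i ι₁ ι₂ hsurj hpb π hcl
  have hlft : LocallyOfFiniteType π := by
    refine IsZariskiLocalAtSource.of_openCover (P := @LocallyOfFiniteType) (twoCover ι₁ ι₂ hsurj) ?_
    rintro (_ | _)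
    · exact (show LocallyOfFiniteType (ι₂ ≫ π) from hπ₂ ▸ inferInstance)
    · exact (show LocallyOfFiniteType (ι₁ ≫ π) from hπ₁ ▸ inferInstance)
  have hlqf : LocallyQuasiFinite π := by
    refine IsZariskiLocalAtSource.of_openCover (P := @LocallyQuasiFinite) (twoCover ι₁ ι₂ hsurj) ?_
    rintro (_ | _)
    · exact (show LocallyQuasiFinite (ι₂ ≫ π) from hπ₂ ▸ inferInstance)
    · exact (show LocallyQuasiFinite (ι₁ ≫ π) from hπ₁ ▸ inferInstance)
  have hqc : QuasiCompact π := by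
    have : QuasiCompact (ι₁ ≫ π) := hπ₁ ▸ inferInstance
    have : QuasiCompact (ι₂ ≫ π) := hπ₂ ▸ inferInstance
    exact quasiCompact_of_two ι₁ ι₂ hsurj π
  have hdom : IsDominant ι₁ := by
    refine ⟨?_⟩
    rw [DenseRange, dense_iff_closure_eq, Set.eq_univ_iff_forall]
    intro t
    rcases hsurj t with ht | ⟨z, rfl⟩
    · exact subset_closure ht
    · have hz : z ∈ closure (Set.range i) := i.denseRange.closure_range ▸ Set.mem_univ z
      have h1 := image_closure_subset_closure_image ι₂.continuous ⟨z, hz, rfl⟩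
      refine closure_mono ?_ h1
      rintro _ ⟨_, ⟨w, rfl⟩, rfl⟩
      refine ⟨(f ⁻¹ᵁ V).ι w, ?_⟩
      rw [← Scheme.Hom.comp_apply, hpo.w, Scheme.Hom.comp_apply]
  refine ⟨T, ι₁, π, hι₁, hdom, hsep, hlft, hqc, hlqf, hπ₁, ?_⟩
  -- finiteness over V
  have hpbV : IsPullback h ι₂ V.ι π := by
    refine IsOpenImmersion.isPullback h ι₂ V.ι π hπ₂ ?_
    ext t
    simp only [Scheme.Opens.opensRange_ι]
    constructor
    · intro ht
      rcases hsurj t with ⟨x, rfl⟩ | ht'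
      · have hx : x ∈ f ⁻¹ᵁ V := by
          have : π (ι₁ x) ∈ V := ht
          rwa [← Scheme.Hom.comp_apply, hπ₁] at this
        refine ⟨i ⟨x, hx⟩, ?_⟩
        rw [← Scheme.Hom.comp_apply, ← hpo.w, Scheme.Hom.comp_apply]
        rfl
      · exact ht'
    · rintro ⟨z, rfl⟩
      show π (ι₂ z) ∈ V
      rw [← Scheme.Hom.comp_apply, hπ₂, Scheme.Hom.comp_apply]
      exact (h z).2
  have hpbV' := isPullback_morphismRestrict π V
  let e := IsPullback.isoIsPullback _ _ hpbV'.flip hpbV.flip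
  have he : e.hom ≫ h = π ∣_ V := IsPullback.isoIsPullback_hom_snd _ _ _ _
  rw [← he]
  infer_instance

theorem isFinite_restrict_of_dominant {T₁ T₂ S : Scheme.{u}} (j : T₁ ⟶ T₂) [IsOpenImmersion j]
    [IsDominant j] (π₂ : T₂ ⟶ S) [IsSeparated π₂] (O : S.Opens)
    (hfin : IsFinite ((j ≫ π₂) ∣_ O)) : IsFinite (π₂ ∣_ O) := by
  rw [morphismRestrict_comp] at hfin
  have hfin' : IsFinite (j ∣_ π₂ ⁻¹ᵁ O ≫ π₂ ∣_ O) := hfin
  have hp : IsProper (j ∣_ π₂ ⁻¹ᵁ O) := IsProper.of_comp _ (π₂ ∣_ O)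
  have hd : IsDominant (j ∣_ π₂ ⁻¹ᵁ O) := IsZariskiLocalAtTarget.restrict ‹IsDominant j› _
  have hs : Surjective (j ∣_ π₂ ⁻¹ᵁ O) :=
    surjective_of_isDominant_of_isClosed_range _ ((j ∣_ π₂ ⁻¹ᵁ O).isClosedMap.isClosed_range)
  have : IsIso (j ∣_ π₂ ⁻¹ᵁ O) :=
    (isIso_iff_isOpenImmersion_and_surjective _).mpr ⟨inferInstance, hs⟩
  have e : π₂ ∣_ O = inv (j ∣_ π₂ ⁻¹ᵁ O) ≫ (j ∣_ π₂ ⁻¹ᵁ O ≫ π₂ ∣_ O) := by simp
  rw [e]
  infer_instance

/-- the set of points of the target over a neighbourhood of which `π` is finite -/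
def finLocus {T S : Scheme.{u}} (π : T ⟶ S) : Set S :=
  {s | ∃ O : S.Opens, s ∈ O ∧ IsFinite (π ∣_ O)}

lemma isFinite_of_finLocus_eq_univ {T S : Scheme.{u}} (π : T ⟶ S)
    (h : finLocus π = Set.univ) : IsFinite π := by
  have : ∀ s : S, ∃ O : S.Opens, s ∈ O ∧ IsFinite (π ∣_ O) := fun s =>
    (h ▸ Set.mem_univ s : s ∈ finLocus π)
  choose O hsO hO using this
  refine (IsZariskiLocalAtTarget.iff_of_iSup_eq_top (P := @IsFinite) O ?_).mpr hO
  rw [eq_top_iff]
  intro s _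
  exact TopologicalSpace.Opens.mem_iSup.mpr ⟨s, hsO s⟩

theorem step {X S : Scheme.{u}} (f : X ⟶ S) [IsSeparated f] [LocallyOfFiniteType f]
    [QuasiCompact f] [LocallyQuasiFinite f] (V : S.Opens) (hV : IsAffineOpen V)
    [QuasiCompact V.ι] :
    ∃ (T : Scheme.{u}) (j : X ⟶ T) (π : T ⟶ S), IsOpenImmersion j ∧
      IsSeparated π ∧ LocallyOfFiniteType π ∧ QuasiCompact π ∧ LocallyQuasiFinite π ∧ j ≫ π = f ∧
      (V : Set S) ⊆ finLocus π ∧ finLocus f ⊆ finLocus π := by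
  have : IsAffine V.toScheme := hV
  obtain ⟨Z, i, h, hi, hid, hh, hih⟩ := exists_finite_of_isAffine (f ∣_ V)
  obtain ⟨T, j, π, hj, hjd, h1, h2, h3, h4, hjπ, hfin⟩ := glue_step f V i h hih
  refine ⟨T, j, π, hj, h1, h2, h3, h4, hjπ, fun s hs => ⟨V, hs, hfin⟩, ?_⟩
  rintro s ⟨O, hsO, hO⟩
  subst hjπ
  exact ⟨O, hsO, isFinite_restrict_of_dominant j π O hO⟩

theorem exists_of_finset {X S : Scheme.{u}} [QuasiSeparatedSpace S] (f : X ⟶ S) [IsSeparated f]
    [LocallyOfFiniteType f] [QuasiCompact f] [LocallyQuasiFinite f] (𝒱 : Finset S.Opens)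
    (h𝒱 : ∀ V ∈ 𝒱, IsAffineOpen V) :
    ∃ (T : Scheme.{u}) (j : X ⟶ T) (π : T ⟶ S), IsOpenImmersion j ∧
      IsSeparated π ∧ LocallyOfFiniteType π ∧ QuasiCompact π ∧ LocallyQuasiFinite π ∧ j ≫ π = f ∧
      ∀ V ∈ 𝒱, (V : Set S) ⊆ finLocus π := by
  classical
  induction 𝒱 using Finset.induction_on with
  | empty =>
    exact ⟨X, 𝟙 X, f, inferInstance, inferInstance, inferInstance, inferInstance, inferInstance,
      Category.id_comp f, by simp⟩
  | insert V 𝒱' hV ih =>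
    obtain ⟨T₁, j₁, π₁, hj₁, h1, h2, h3, h4, hjπ₁, hfin₁⟩ :=
      ih (fun W hW => h𝒱 W (Finset.mem_insert_of_mem hW))
    have hVa : IsAffineOpen V := h𝒱 V (Finset.mem_insert_self _ _)
    have : IsAffine V.toScheme := hVa
    obtain ⟨T₂, j₂, π₂, hj₂, h1', h2', h3', h4', hjπ₂, hfinV, hmono⟩ := step π₁ V hVa
    refine ⟨T₂, j₁ ≫ j₂, π₂, inferInstance, h1', h2', h3', h4', ?_, ?_⟩
    · rw [Category.assoc, hjπ₂, hjπ₁]
    · intro W hW
      rcases Finset.mem_insert.mp hW with rfl | hW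
      · exact hfinV
      · exact (hfin₁ W hW).trans hmono

/-- **Zariski's main theorem, finite form**: a separated quasi-finite morphism of finite type to a
qcqs scheme is an open immersion followed by a finite morphism. -/
theorem zmt_finite {X S : Scheme.{u}} (f : X ⟶ S) [CompactSpace S] [QuasiSeparatedSpace S]
    [LocallyQuasiFinite f] [LocallyOfFiniteType f] [QuasiCompact f] [IsSeparated f] :
    ∃ (T : Scheme.{u}) (j : X ⟶ T) (π : T ⟶ S), IsOpenImmersion j ∧ QuasiCompact j ∧ IsFinite π ∧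
      j ≫ π = f := by
  obtain ⟨𝒱, h𝒱f, h𝒱⟩ := (isCompact_iff_finite_and_eq_biUnion_affineOpens (U := (⊤ : S.Opens))).mp
    (by simpa using isCompact_univ)
  classical
  obtain ⟨T, j, π, hj, h1, h2, h3, h4, hjπ, hfin⟩ := exists_of_finset f
    (h𝒱f.toFinset.image (fun V : S.affineOpens => (V : S.Opens)))
    (by
      intro V hV
      obtain ⟨W, -, rfl⟩ := Finset.mem_image.mp hV
      exact W.2)
  have hπ : IsFinite π := by
    refine isFinite_of_finLocus_eq_univ π (Set.eq_univ_iff_forall.mpr fun s => ?_)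
    have hs : s ∈ (⊤ : S.Opens) := trivial
    rw [h𝒱] at hs
    simp only [TopologicalSpace.Opens.mem_iSup] at hs
    obtain ⟨W, hW, hsW⟩ := hs
    exact hfin W (Finset.mem_image.mpr ⟨W, h𝒱f.mem_toFinset.mpr hW, rfl⟩) hsW
  refine ⟨T, j, π, hj, ?_, hπ, hjπ⟩
  have : QuasiCompact (j ≫ π) := hjπ ▸ inferInstance
  exact QuasiCompact.of_comp j π

open Groth.Agent.Lib.LocImm _root_.LocImm

theorem exists_lift_isLocImmersion {X W : Scheme.{u}} {k : X ⟶ W} (hk : IsLocImmersion k)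
    (U : W.Opens) (hU : Set.range k ⊆ U) :
    ∃ k' : X ⟶ U.toScheme, IsLocImmersion k' ∧ k' ≫ U.ι = k := by
  have hs : Surjective (pullback.fst k U.ι) := by
    refine ⟨fun x => ?_⟩
    have : x ∈ Set.range (pullback.fst k U.ι) := by
      rw [IsOpenImmersion.range_pullbackFst]
      show k x ∈ U.ι.opensRange
      rw [Scheme.Opens.opensRange_ι]
      exact hU ⟨x, rfl⟩
    exact this
  have : IsIso (pullback.fst k U.ι) :=
    (isIso_iff_isOpenImmersion_and_surjective _).mpr ⟨inferInstance, hs⟩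
  refine ⟨inv (pullback.fst k U.ι) ≫ pullback.snd k U.ι,
    IsLocImmersion.comp (isLocImmersion_of_isIso _) (IsLocImmersion.pullback_snd U.ι hk), ?_⟩
  rw [Category.assoc, ← pullback.condition, IsIso.inv_hom_id_assoc]

lemma isLocImmersion_of_isOpenImmersion {X Y : Scheme.{u}} (e : X ⟶ Y) [IsOpenImmersion e] :
    IsLocImmersion e := by
  have hid : RingHom.ContainsIdentities (RingHom.Locally IsLocHom) := by
    intro R _
    exact RingHom.locally_of isLocHom_respectsIso _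
      (isLocHom_of_bijective _ Function.bijective_id)
  exact ⟨HasRingHomProperty.of_isOpenImmersion (P := @IsLocalizing.{u}) hid,
    e.isOpenEmbedding.injective⟩

set_option backward.isDefEq.respectTransparency false in
lemma quasiFiniteAt_of_comp_of_isIso_stalkMap {X Y Z : Scheme.{u}} (k : X ⟶ Y) (g : Y ⟶ Z) (x : X)
    [IsIso (k.stalkMap x)] (h : (k ≫ g).QuasiFiniteAt x) : g.QuasiFiniteAt (k x) := by
  simpa only [Scheme.Hom.QuasiFiniteAt, Scheme.Hom.stalkMap_comp, CommRingCat.hom_comp,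
    RingHom.QuasiFinite.respectsIso.cancel_right_isIso] using h

/-- essentially quasi-finite separated morphisms of Noetherian schemes factor as a localizing
immersion followed by a finite morphism. -/
theorem exists_locImmersion_comp_finite {X Y : Scheme.{u}} [IsNoetherian X] [IsNoetherian Y]
    (f : X ⟶ Y) [IsSeparated f] [EssFT.EssFiniteType f] [LocallyQuasiFinite f] :
    ∃ (Z : Scheme.{u}) (i : X ⟶ Z) (h : Z ⟶ Y), IsNoetherian Z ∧ IsLocImmersion i ∧ IsFinite h ∧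
      i ≫ h = f := by
  obtain ⟨W, k, g, hW, hk, hgs, hgl, hgq, hkg⟩ := hasFact_of_essFiniteType f
  subst hkg
  have hrange : Set.range k ⊆ g.quasiFiniteLocus := by
    rintro _ ⟨x, rfl⟩
    have := IsLocalizing.isIso_stalkMap hk.1 x
    exact quasiFiniteAt_of_comp_of_isIso_stalkMap k g x ((k ≫ g).quasiFiniteAt x)
  obtain ⟨k', hk', hk'ι⟩ := exists_lift_isLocImmersion hk g.quasiFiniteLocus hrange
  have hN : IsNoetherian (g.quasiFiniteLocus : Scheme.{u}) := isNoetherian_opens _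
  obtain ⟨T, j, π, hj, -, hπ, hjπ⟩ := zmt_finite (g.quasiFiniteLocus.ι ≫ g)
  have hlN : IsLocallyNoetherian T := LocallyOfFiniteType.isLocallyNoetherian π
  have hcpt : CompactSpace T := QuasiCompact.compactSpace_of_compactSpace π
  refine ⟨T, k' ≫ j, π, { }, IsLocImmersion.comp hk' (isLocImmersion_of_isOpenImmersion j), hπ, ?_⟩
  rw [Category.assoc, hjπ, ← Category.assoc, hk'ι]

end Groth.Agent.Lib.ZMTFin
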