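import Groth.Agent.Lib.H77ConsMorTools
import Groth.Agent.Lib.H77FibSeparated
import Groth.Agent.Lib.FibreConstructible3
import Groth.Agent.Lib.FibreConstructible4
import Groth.Agent.Lib.ZMTFin
import Groth.Agent.Lib.ConsPairGeomInst

/-!
# Fibrewise finiteness and fibrewise closed immersions are constructible properties (helper77)

EGA IV 9.6.1: for `f : X ⟶ Y` a morphism of `S`-schemes of finite presentation, the sets of `s ∈ S`
such that `f_s : X_s ⟶ Y_s` is finite, resp. a closed immersion, are locally constructible.

Strategy for finiteness: the loci where `f_s` is separated, resp. locally quasi-finite, are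
constructible. If both contain the generic point, after a dominant base change of finite type `f`
itself is separated and quasi-finite, hence (Zariski's main theorem) `f = j ≫ π` with `j` an open
immersion and `π` finite. Then `f_s` is finite iff `j(X) ∩ T_s` is closed in `T_s`, and one
concludes by EGA IV 9.5.3 (`H77FibClosure`).
-/

set_option autoImplicit false
set_option linter.style.haveILetI false
universe u
open CategoryTheory Limits AlgebraicGeometry TopologicalSpace Topology

namespace Groth.Agent.Lib.H77FibFinite

open Groth.Agent.Lib.H77FibClosure Groth.Agent.Lib.LimDescent Groth.Agent.Lib.H77ConsMorTools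
  Groth.Agent.Lib.H77FibSeparated Groth.Agent.Lib.SpreadPair

/-- If `f = j ≫ π` with `j` an open immersion and `π` finite, then the fibre map `f_s` is finite iff
the trace of `j(X)` on the fibre of `T` over `s` is closed in this fibre. -/
theorem isFinite_fiberMap_iff_of_factor {X T Y S : Scheme.{u}} (j : X ⟶ T) [IsOpenImmersion j]
    (π : T ⟶ Y) [IsFinite π] (g : Y ⟶ S) (s : S) :
    IsFinite (MoreMor.fiberMap (j ≫ π) g s) ↔
      closure (Set.range j ∩ (π ≫ g) ⁻¹' {s}) ∩ (π ≫ g) ⁻¹' {s} ⊆ Set.range j := by
  let ιY := g.fiberι s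
  let ιT := pullback.fst π ιY
  let π' := pullback.snd π ιY
  let ιX := pullback.fst j ιT
  let j' := pullback.snd j ιT
  haveI : IsFinite π' := inferInstanceAs (IsFinite (pullback.snd π ιY))
  haveI : IsOpenImmersion j' := inferInstanceAs (IsOpenImmersion (pullback.snd j ιT))
  have sq1 : IsPullback ιX j' j ιT := IsPullback.of_hasPullback _ _
  have sq2 : IsPullback ιT π' π ιY := IsPullback.of_hasPullback _ _
  have sq12 : IsPullback ιX (j' ≫ π') (j ≫ π) ιY := sq1.paste_vert sq2
  have sq0 : IsPullback (((j ≫ π) ≫ g).fiberι s) (MoreMor.fiberMap (j ≫ π) g s) (j ≫ π) ιY :=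
    isPullback_bcMap (j ≫ π) g (S.fromSpecResidueField s)
  let e := sq0.isoIsPullback _ _ sq12
  have he : e.hom ≫ (j' ≫ π') = MoreMor.fiberMap (j ≫ π) g s := sq0.isoIsPullback_hom_snd _ _ sq12
  have h1 : IsFinite (MoreMor.fiberMap (j ≫ π) g s) ↔ IsFinite (j' ≫ π') := by
    rw [← he]
    constructor
    · intro h
      have h' : IsFinite (e.inv ≫ (e.hom ≫ (j' ≫ π'))) := inferInstance
      rwa [Iso.inv_hom_id_assoc] at h'
    · intro h
      infer_instance
  have h2 : IsFinite (j' ≫ π') ↔ IsClosed (Set.range j') := by
    constructor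
    · intro h
      haveI : UniversallyClosed (j' ≫ π') := inferInstance
      haveI : UniversallyClosed j' := UniversallyClosed.of_comp_of_isSeparated j' π'
      exact j'.isClosedMap.isClosed_range
    · intro h
      haveI : IsClosedImmersion j' := IsClosedImmersion.of_isPreimmersion j' h
      infer_instance
  have sq3 : IsPullback ιT (π' ≫ g.fiberToSpecResidueField s) (π ≫ g)
      (S.fromSpecResidueField s) :=
    sq2.paste_vert (IsPullback.of_hasPullback g (S.fromSpecResidueField s))
  have hemb : IsEmbedding ιT := isEmbedding_of_isPullback_fromSpecResidueField sq3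
  have hrange : Set.range ιT = (π ≫ g) ⁻¹' {s} := range_of_isPullback_fromSpecResidueField sq3
  have hr : Set.range j' = ιT ⁻¹' Set.range j :=
    Groth.Agent.Lib.LimDescent.range_eq_preimage_of_isPullback sq1
  rw [h1, h2, hr, isClosed_preimage_iff_of_isInducing ιT hemb.isInducing, hrange]

/-- separated, of finite type, quasi-compact and locally quasi-finite -/
def SQF : MorphismProperty Scheme.{u} :=
  @IsSeparated.{u} ⊓ Groth.Agent.Lib.ConsPairGeom.QuasiFiniteProp.{u}

instance : (SQF.{u}).RespectsIso :=
  MorphismProperty.RespectsIso.inf _ _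

instance : (SQF.{u}).IsStableUnderBaseChange :=
  MorphismProperty.IsStableUnderBaseChange.inf

theorem descends_SQF : DescendsAlongLimit SQF.{u} :=
  descendsAlongLimit_inf Groth.Agent.Lib.ConsPairGeom.descends_isSeparated
    Groth.Agent.Lib.ConsPairGeom.descends_quasiFiniteProp

/-- The dichotomy for fibrewise finiteness when `f` is separated and quasi-finite. -/
theorem dich_isFinite_of_sqf {X Y S : Scheme.{u}} (f : X ⟶ Y) (g : Y ⟶ S) [IsIntegral S]
    [IsNoetherian S] [LocallyOfFiniteType g] [QuasiCompact g] [LocallyOfFiniteType (f ≫ g)]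
    [QuasiCompact (f ≫ g)] [IsSeparated f] [LocallyQuasiFinite f] :
    Dich (ConsProp.locusMor (fun (_ _ _ : Scheme.{u}) f _ => IsFinite f) f g) := by
  haveI : IsLocallyNoetherian Y := LocallyOfFiniteType.isLocallyNoetherian g
  haveI : CompactSpace Y := QuasiCompact.compactSpace_of_compactSpace g
  haveI : IsNoetherian Y := {}
  haveI : LocallyOfFiniteType f := locallyOfFiniteType_of_comp f g
  haveI : QuasiCompact f := QuasiCompact.of_comp f g
  obtain ⟨T, j, π, hj, hjqc, hπ, hjπ⟩ := Groth.Agent.Lib.ZMTFin.zmt_finite f
  subst hjπ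
  let q : T ⟶ S := π ≫ g
  haveI : LocallyOfFiniteType q := inferInstanceAs (LocallyOfFiniteType (π ≫ g))
  haveI : QuasiCompact q := inferInstanceAs (QuasiCompact (π ≫ g))
  haveI : IsLocallyNoetherian T := LocallyOfFiniteType.isLocallyNoetherian q
  haveI : CompactSpace T := QuasiCompact.compactSpace_of_compactSpace q
  haveI : IsNoetherian T := {}
  haveI : NoetherianSpace T := inferInstance
  obtain ⟨V, hηV, hV⟩ := exists_opens_fiber_closed q (Set.range j) Set.univ
    j.isOpenEmbedding.isOpen_range isClosed_univ
  simp only [Set.inter_univ] at hV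
  have hloc : ∀ s : S, s ∈ ConsProp.locusMor (fun (_ _ _ : Scheme.{u}) f _ => IsFinite f)
      (j ≫ π) g ↔ closure (Set.range j ∩ q ⁻¹' {s}) ∩ q ⁻¹' {s} ⊆ Set.range j :=
    fun s => isFinite_fiberMap_iff_of_factor j π g s
  rcases hV with hV | hV
  · left
    refine ⟨genericPoint S, mem_interior.mpr ⟨V, ?_, V.isOpen, hηV⟩⟩
    intro s hs
    exact (hloc s).mpr (hV s hs)
  · right
    refine ⟨genericPoint S, mem_interior.mpr ⟨V, ?_, V.isOpen, hηV⟩⟩
    intro s hs hmem
    exact hV s hs ((hloc s).mp hmem)

/-- **EGA IV 9.6.1**: finiteness of the fibre maps is a constructible property. -/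
theorem isConsMor_isFinite :
    ConsProp.IsConsMor (fun (_ _ _ : Scheme.{u}) f _ => IsFinite f) := by
  refine ⟨Groth.Agent.Lib.ConsPropInst.isFieldStableMor_of_descends @IsFinite, ?_⟩
  intro X Y S f g _ _ _ _ _ _
  change Dich (ConsProp.locusMor (fun (_ _ _ : Scheme.{u}) f _ => IsFinite f) f g)
  haveI : LocallyOfFinitePresentation g := inferInstance
  haveI : LocallyOfFinitePresentation (f ≫ g) := inferInstance
  have dS : Dich (ConsProp.locusMor (fun (_ _ _ : Scheme.{u}) f _ => IsSeparated f) f g) :=
    isConsMor_isSeparated.2 f g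
  have dQ : Dich {s : S | LocallyQuasiFinite (bcMap f g (S.fromSpecResidueField s))} :=
    dich_of_isLocallyConstructible
      (Groth.Agent.Lib.FibreConstructible.isLocallyConstructible_setOf_locallyQuasiFinite f g)
  rw [dich_iff] at dS dQ
  rcases dS with dS | dS
  swap
  · refine Dich.of_subset_of_compl dS (fun s hs => ?_)
    have hs' : IsFinite (MoreMor.fiberMap f g s) := hs
    change IsSeparated (MoreMor.fiberMap f g s)
    infer_instance
  rcases dQ with dQ | dQ
  swap
  · refine Dich.of_subset_of_compl dQ (fun s hs => ?_)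
    have hs' : IsFinite (MoreMor.fiberMap f g s) := hs
    change LocallyQuasiFinite (MoreMor.fiberMap f g s)
    infer_instance
  have hη : SQF (bcMap f g (S.fromSpecResidueField (genericPoint S))) := by
    have hS : genericPoint S ∈
        ConsProp.locusMor (fun (_ _ _ : Scheme.{u}) f _ => IsSeparated f) f g := interior_subset dS
    have hQ : genericPoint S ∈
        {s : S | LocallyQuasiFinite (bcMap f g (S.fromSpecResidueField s))} := interior_subset dQ
    refine ⟨hS, ?_, ?_, hQ⟩
    · exact MorphismProperty.of_isPullback (isPullback_bcMap f g _)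
        (locallyOfFiniteType_of_comp f g)
    · haveI : IsLocallyNoetherian Y := LocallyOfFiniteType.isLocallyNoetherian g
      haveI : CompactSpace Y := QuasiCompact.compactSpace_of_compactSpace g
      haveI : IsNoetherian Y := {}
      exact MorphismProperty.of_isPullback (isPullback_bcMap f g _) (QuasiCompact.of_comp f g)
  obtain ⟨W, hW, q, hqft, hqqc, hqη, hQW⟩ := exists_integral_model SQF descends_SQF f g hη
  haveI : IsLocallyNoetherian W := LocallyOfFiniteType.isLocallyNoetherian q
  haveI : CompactSpace W := QuasiCompact.compactSpace_of_compactSpace q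
  haveI : IsNoetherian W := {}
  haveI : IsSeparated (bcMap f g q) := hQW.1
  haveI : LocallyQuasiFinite (bcMap f g q) := hQW.2.2.2
  haveI : LocallyOfFiniteType (pullback.snd g q) := inferInstance
  haveI : QuasiCompact (pullback.snd g q) := inferInstance
  haveI : LocallyOfFiniteType (bcMap f g q ≫ pullback.snd g q) := by
    rw [bcMap_snd]; infer_instance
  haveI : QuasiCompact (bcMap f g q ≫ pullback.snd g q) := by
    rw [bcMap_snd]; infer_instance
  have key := dich_isFinite_of_sqf (bcMap f g q) (pullback.snd g q)
  exact dich_of_baseChange (Groth.Agent.Lib.ConsPropInst.isFieldStableMor_of_descends @IsFinite)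
    hqη (IsPullback.of_hasPullback g q) (isPullback_bcMap f g q) key

/-- The set of `s` such that `f_s` is finite is locally constructible. -/
theorem isLocallyConstructible_setOf_isFinite {X Y S : Scheme.{u}} (f : X ⟶ Y) (g : Y ⟶ S)
    [LocallyOfFinitePresentation g] [QuasiCompact g] [QuasiSeparated g]
    [LocallyOfFinitePresentation (f ≫ g)] [QuasiCompact (f ≫ g)] [QuasiSeparated (f ≫ g)] :
    IsLocallyConstructible {s : S | IsFinite (MoreMor.fiberMap f g s)} :=
  Groth.Agent.Lib.ConsLocusMor.isLocallyConstructible_locusMor isConsMor_isFinite f g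

/-- **EGA IV 9.6.1**: being a closed immersion on the fibres is a constructible property. -/
theorem isConsMor_isClosedImmersion :
    ConsProp.IsConsMor (fun (_ _ _ : Scheme.{u}) f _ => IsClosedImmersion f) := by
  refine ⟨Groth.Agent.Lib.ConsPropInst.isFieldStableMor_of_descends @IsClosedImmersion, ?_⟩
  intro X Y S f g _ _ _ _ _ _
  change Dich (ConsProp.locusMor (fun (_ _ _ : Scheme.{u}) f _ => IsClosedImmersion f) f g)
  haveI : LocallyOfFinitePresentation g := inferInstance
  haveI : LocallyOfFinitePresentation (f ≫ g) := inferInstance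
  haveI : IsLocallyNoetherian Y := LocallyOfFiniteType.isLocallyNoetherian g
  haveI : CompactSpace Y := QuasiCompact.compactSpace_of_compactSpace g
  haveI : IsNoetherian Y := {}
  haveI : IsLocallyNoetherian X := LocallyOfFiniteType.isLocallyNoetherian (f ≫ g)
  haveI : CompactSpace X := QuasiCompact.compactSpace_of_compactSpace (f ≫ g)
  haveI : IsNoetherian X := {}
  have dF : Dich (ConsProp.locusMor (fun (_ _ _ : Scheme.{u}) f _ => IsFinite f) f g) :=
    isConsMor_isFinite.2 f g
  have dM : Dich {s : S | Mono (bcMap f g (S.fromSpecResidueField s))} :=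
    dich_of_isLocallyConstructible
      (Groth.Agent.Lib.FibreConstructible.isLocallyConstructible_setOf_mono f g)
  have he : ConsProp.locusMor (fun (_ _ _ : Scheme.{u}) f _ => IsClosedImmersion f) f g =
      ConsProp.locusMor (fun (_ _ _ : Scheme.{u}) f _ => IsFinite f) f g ∩
        {s : S | Mono (bcMap f g (S.fromSpecResidueField s))} := by
    ext s
    exact IsClosedImmersion.iff_isFinite_and_mono (MoreMor.fiberMap f g s)
  rw [he]
  exact dF.inter dM

/-- The set of `s` such that `f_s` is a closed immersion is locally constructible. -/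
theorem isLocallyConstructible_setOf_isClosedImmersion {X Y S : Scheme.{u}} (f : X ⟶ Y)
    (g : Y ⟶ S) [LocallyOfFinitePresentation g] [QuasiCompact g] [QuasiSeparated g]
    [LocallyOfFinitePresentation (f ≫ g)] [QuasiCompact (f ≫ g)] [QuasiSeparated (f ≫ g)] :
    IsLocallyConstructible {s : S | IsClosedImmersion (MoreMor.fiberMap f g s)} :=
  Groth.Agent.Lib.ConsLocusMor.isLocallyConstructible_locusMor isConsMor_isClosedImmersion f g

end Groth.Agent.Lib.H77FibFinite
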