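import Groth.Agent.Lib.H77FibIsoSpec
import Groth.Agent.Lib.H77FibFinite

/-!
# Fibrewise isomorphisms form a constructible property (EGA IV 9.6.1 (i)) (helper77)

For `f : X ⟶ Y` a morphism of `S`-schemes of finite presentation, the set of `s ∈ S` such that
`f_s : X_s ⟶ Y_s` is an isomorphism is locally constructible.

Strategy: the locus where `f_s` is a closed immersion is constructible (`H77FibFinite`); if it
contains the generic point we may assume that `f` is a closed immersion. If `f_η` is an isomorphism,
spread out. Otherwise restrict to an affine open of `Y` where `f_η` fails to be an isomorphism: then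
`Y = Spec B`, `X = Spec B/I`, `S = Spec R`, and some `b ∈ I` has nonzero image in `κ(η) ⊗ B`; by generic
freeness its image in `κ(p) ⊗ B` is nonzero for all `p` in a nonempty open (`H77FibIsoAlg`).
-/

set_option autoImplicit false
set_option linter.style.haveILetI false
universe u
open CategoryTheory Limits AlgebraicGeometry TopologicalSpace Topology TensorProduct

namespace Groth.Agent.Lib.H77FibIso

open Groth.Agent.Lib.LimDescent Groth.Agent.Lib.H77ConsMorTools Groth.Agent.Lib.H77FibIsoSpec
  Groth.Agent.Lib.H77FibIsoAlg Groth.Agent.Lib.SpreadPair Groth.Agent.Lib.H77FibFinite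

/-- Affine case: `Y = Spec B`, `S = Spec R`. -/
theorem mem_interior_compl_Spec {R B : CommRingCat.{u}} [IsDomain R] {X : Scheme.{u}}
    (g : Spec B ⟶ Spec R) [LocallyOfFiniteType g] (f : X ⟶ Spec B) [IsClosedImmersion f]
    (hη : ¬ IsIso (bcMap f g ((Spec R).fromSpecResidueField (genericPoint (Spec R))))) :
    genericPoint (Spec R) ∈
      interior {s : Spec R | IsIso (bcMap f g ((Spec R).fromSpecResidueField s))}ᶜ := by
  obtain ⟨φ, rfl⟩ := Spec.map_surjective g
  obtain ⟨I, e, rfl⟩ := IsClosedImmersion.Spec_iff.mp ‹IsClosedImmersion f›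
  letI : Algebra R B := φ.hom.toAlgebra
  haveI hft : Algebra.FiniteType R B :=
    (HasRingHomProperty.Spec_iff (P := @LocallyOfFiniteType)).mp ‹_›
  let ψ : B →ₐ[R] B ⧸ I := Ideal.Quotient.mkₐ R I
  have hψ : Function.Surjective ψ := Ideal.Quotient.mkₐ_surjective R I
  have key : ∀ p : PrimeSpectrum R,
      IsIso (bcMap (e.hom ≫ Spec.map (CommRingCat.ofHom (Ideal.Quotient.mk I))) (Spec.map φ)
        ((Spec R).fromSpecResidueField p)) ↔ Function.Bijective (fibMap R B (B ⧸ I) ψ p) := by
    intro p
    obtain ⟨pY, gY, pX, hY, hX⟩ := isBC_SpecMap R B (B ⧸ I) ψ p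
    have hX' := (isPullback_comp_iso hX.flip e).flip
    have H : IsBC (e.hom ≫ Spec.map (CommRingCat.ofHom (Ideal.Quotient.mk I))) (Spec.map φ)
        ((Spec R).fromSpecResidueField p)
        (Spec.map (CommRingCat.ofHom (fibMap R B (B ⧸ I) ψ p).toRingHom)) :=
      ⟨pY, gY, pX ≫ e.inv, hY, hX'⟩
    exact ((H.iff (MorphismProperty.isomorphisms Scheme.{u})).symm).trans isIso_SpecMap_iff
  have hsurj : ∀ p : PrimeSpectrum R, Function.Surjective (fibMap R B (B ⧸ I) ψ p) := by
    intro p z
    induction z with
    | zero => exact ⟨0, map_zero _⟩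
    | tmul a c =>
      obtain ⟨b, rfl⟩ := hψ c
      exact ⟨a ⊗ₜ b, by simp [fibMap]⟩
    | add z₁ z₂ h₁ h₂ =>
      obtain ⟨w₁, rfl⟩ := h₁
      obtain ⟨w₂, rfl⟩ := h₂
      exact ⟨w₁ + w₂, map_add _ _ _⟩
  rw [genericPoint_eq_bot_of_affine] at hη ⊢
  have h1 : ¬ Function.Injective (fibMap R B (B ⧸ I) ψ ⟨⊥, Ideal.isPrime_bot⟩) := by
    intro hinj
    exact hη ((key _).mpr ⟨hinj, hsurj _⟩)
  obtain ⟨r, hr, H⟩ := exists_forall_not_injective ψ h1
  refine mem_interior.mpr ⟨(PrimeSpectrum.basicOpen r : Set (PrimeSpectrum R)), ?_,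
    (PrimeSpectrum.basicOpen r).isOpen, ?_⟩
  · intro p hp hiso
    exact H p hp ((key p).mp hiso).1
  · change r ∉ (⊥ : Ideal R)
    simpa using hr

/-- Affine base: `S = Spec R`. -/
theorem mem_interior_compl_affineBase {R : CommRingCat.{u}} [IsDomain R] {X Y : Scheme.{u}}
    (g : Y ⟶ Spec R) [LocallyOfFiniteType g] (f : X ⟶ Y) [IsClosedImmersion f]
    (hη : ¬ IsIso (bcMap f g ((Spec R).fromSpecResidueField (genericPoint (Spec R))))) :
    genericPoint (Spec R) ∈
      interior {s : Spec R | IsIso (bcMap f g ((Spec R).fromSpecResidueField s))}ᶜ := by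
  let 𝒰 := Y.affineOpenCover.openCover
  have h1 := (bcMap_iff_of_openCover f g ((Spec R).fromSpecResidueField (genericPoint (Spec R)))
    (MorphismProperty.isomorphisms Scheme.{u}) 𝒰).not.mp hη
  push Not at h1
  obtain ⟨i, hi⟩ := h1
  let j : Spec (Y.affineOpenCover.X i) ⟶ Y := Y.affineOpenCover.f i
  haveI : IsOpenImmersion j := 𝒰.map_prop i
  haveI : LocallyOfFiniteType (j ≫ g) := inferInstance
  have h2 := mem_interior_compl_Spec (j ≫ g) (pullback.snd f j) hi
  refine interior_mono ?_ h2
  intro s hs hs'
  exact hs ((bcMap_iff_of_openCover f g ((Spec R).fromSpecResidueField s)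
    (MorphismProperty.isomorphisms Scheme.{u}) 𝒰).mp hs' i)

/-- The dichotomy for fibrewise isomorphisms when `f` is a closed immersion. -/
theorem dich_isIso_of_isClosedImmersion {X Y S : Scheme.{u}} (f : X ⟶ Y) (g : Y ⟶ S)
    [IsIntegral S] [IsNoetherian S] [LocallyOfFiniteType g] [QuasiCompact g]
    [LocallyOfFiniteType (f ≫ g)] [QuasiCompact (f ≫ g)] [IsClosedImmersion f] :
    Dich (ConsProp.locusMor (fun (_ _ _ : Scheme.{u}) f _ => IsIso f) f g) := by
  have hFS : ConsProp.IsFieldStableMor (fun (_ _ _ : Scheme.{u}) f _ => IsIso f) :=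
    Groth.Agent.Lib.ConsPropInst.isFieldStableMor_of_descends
      (MorphismProperty.isomorphisms Scheme.{u})
  by_cases hη : IsIso (bcMap f g (S.fromSpecResidueField (genericPoint S)))
  · obtain ⟨W, hW, q, hqft, hqqc, hqη, hQW⟩ :=
      exists_integral_model (MorphismProperty.isomorphisms Scheme.{u})
        Groth.Agent.Lib.ConsPairGeom.descends_isIso f g hη
    have key : Dich (ConsProp.locusMor (fun (_ _ _ : Scheme.{u}) f _ => IsIso f) (bcMap f g q)
        (pullback.snd g q)) := by
      left
      have h1 : ConsProp.locusMor (fun (_ _ _ : Scheme.{u}) f _ => IsIso f) (bcMap f g q)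
          (pullback.snd g q) = Set.univ := by
        ext w
        simp only [Set.mem_univ, iff_true]
        exact MorphismProperty.of_isPullback (P := MorphismProperty.isomorphisms Scheme.{u})
          (isPullback_bcMap (bcMap f g q) (pullback.snd g q) (W.fromSpecResidueField w)) hQW
      rw [h1, interior_univ]
      exact ⟨genericPoint W, trivial⟩
    exact dich_of_baseChange hFS hqη (IsPullback.of_hasPullback g q) (isPullback_bcMap f g q) key
  · obtain ⟨V, hV, hηV⟩ : ∃ V : S.Opens, IsAffineOpen V ∧ genericPoint S ∈ V := by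
      obtain ⟨_, ⟨U, hU, rfl⟩, hxU, -⟩ :=
        S.isBasis_affineOpens.exists_subset_of_mem_open (Set.mem_univ (genericPoint S)) isOpen_univ
      exact ⟨U, hU, hxU⟩
    haveI : Nonempty V := ⟨⟨genericPoint S, hηV⟩⟩
    haveI : IsDomain Γ(S, V) := inferInstance
    let q : Spec Γ(S, V) ⟶ S := hV.fromSpec
    haveI : IsOpenImmersion q := inferInstanceAs (IsOpenImmersion hV.fromSpec)
    have hq : q (genericPoint (Spec Γ(S, V))) = genericPoint S :=
      genericPoint_eq_of_isOpenImmersion q
    haveI : IsClosedImmersion (bcMap f g q) :=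
      MorphismProperty.of_isPullback (isPullback_bcMap f g q) ‹IsClosedImmersion f›
    have key : Dich (ConsProp.locusMor (fun (_ _ _ : Scheme.{u}) f _ => IsIso f) (bcMap f g q)
        (pullback.snd g q)) := by
      rw [dich_iff]
      right
      refine mem_interior_compl_affineBase (pullback.snd g q) (bcMap f g q) ?_
      have h1 := (Groth.Agent.Lib.ConsLocusMor.mem_locusMor_iff_of_isPullback hFS
        (IsPullback.of_hasPullback g q) (isPullback_bcMap f g q)
        (genericPoint (Spec Γ(S, V)))).not.mpr (by rw [hq]; exact hη)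
      exact h1
    exact dich_of_baseChange hFS hq (IsPullback.of_hasPullback g q) (isPullback_bcMap f g q) key

/-- **EGA IV 9.6.1**: being an isomorphism on the fibres is a constructible property. -/
theorem isConsMor_isIso :
    ConsProp.IsConsMor (fun (_ _ _ : Scheme.{u}) f _ => IsIso f) := by
  have hFS : ConsProp.IsFieldStableMor (fun (_ _ _ : Scheme.{u}) f _ => IsIso f) :=
    Groth.Agent.Lib.ConsPropInst.isFieldStableMor_of_descends
      (MorphismProperty.isomorphisms Scheme.{u})
  refine ⟨hFS, ?_⟩
  intro X Y S f g _ _ _ _ _ _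
  change Dich (ConsProp.locusMor (fun (_ _ _ : Scheme.{u}) f _ => IsIso f) f g)
  have dCI : Dich (ConsProp.locusMor (fun (_ _ _ : Scheme.{u}) f _ => IsClosedImmersion f) f g) :=
    isConsMor_isClosedImmersion.2 f g
  rw [dich_iff] at dCI
  rcases dCI with h | h
  · have hη' : genericPoint S ∈
        ConsProp.locusMor (fun (_ _ _ : Scheme.{u}) f _ => IsClosedImmersion f) f g :=
      interior_subset h
    have hη : IsClosedImmersion (bcMap f g (S.fromSpecResidueField (genericPoint S))) := hη'
    obtain ⟨W, hW, q, hqft, hqqc, hqη, hQW⟩ :=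
      exists_integral_model @IsClosedImmersion
        Groth.Agent.Lib.ConsPairGeom.descends_isClosedImmersion f g hη
    haveI : IsLocallyNoetherian W := LocallyOfFiniteType.isLocallyNoetherian q
    haveI : CompactSpace W := QuasiCompact.compactSpace_of_compactSpace q
    haveI : IsNoetherian W := {}
    haveI : IsClosedImmersion (bcMap f g q) := hQW
    haveI : LocallyOfFiniteType (pullback.snd g q) := inferInstance
    haveI : QuasiCompact (pullback.snd g q) := inferInstance
    haveI : LocallyOfFiniteType (bcMap f g q ≫ pullback.snd g q) := by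
      rw [bcMap_snd]; infer_instance
    haveI : QuasiCompact (bcMap f g q ≫ pullback.snd g q) := by
      rw [bcMap_snd]; infer_instance
    have key := dich_isIso_of_isClosedImmersion (bcMap f g q) (pullback.snd g q)
    exact dich_of_baseChange hFS hqη (IsPullback.of_hasPullback g q) (isPullback_bcMap f g q) key
  · refine Dich.of_subset_of_compl h (fun s hs => ?_)
    have hs' : IsIso (MoreMor.fiberMap f g s) := hs
    change IsClosedImmersion (MoreMor.fiberMap f g s)
    infer_instance

/-- The set of `s` such that `f_s` is an isomorphism is locally constructible. -/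
theorem isLocallyConstructible_setOf_isIso {X Y S : Scheme.{u}} (f : X ⟶ Y) (g : Y ⟶ S)
    [LocallyOfFinitePresentation g] [QuasiCompact g] [QuasiSeparated g]
    [LocallyOfFinitePresentation (f ≫ g)] [QuasiCompact (f ≫ g)] [QuasiSeparated (f ≫ g)] :
    IsLocallyConstructible {s : S | IsIso (MoreMor.fiberMap f g s)} :=
  Groth.Agent.Lib.ConsLocusMor.isLocallyConstructible_locusMor isConsMor_isIso f g

end Groth.Agent.Lib.H77FibIso
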