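import Groth.Agent.Lib.H77FibClosure2
import Groth.Agent.Lib.H77FibFinite

/-!
# Fibrewise immersions are a constructible property (helper77)

EGA IV 9.6.1: for `f : X ⟶ Y` a morphism of `S`-schemes of finite presentation, the set of `s ∈ S`
such that `f_s : X_s ⟶ Y_s` is an immersion is locally constructible.

* `isLocallyClosed_of_preimage`: local closedness descends along open continuous surjections.
* `isImmersion_of_isPullback_of_fpqc`: immersions descend along universally open fpqc morphisms.
* `isFieldStableMor_isImmersion`, `isConsMor_isImmersion`.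
-/

set_option autoImplicit false
set_option linter.style.haveILetI false
universe u
open CategoryTheory Limits AlgebraicGeometry TopologicalSpace Topology

namespace Groth.Agent.Lib.H77FibImmersion

open Groth.Agent.Lib.H77FibClosure Groth.Agent.Lib.LimDescent Groth.Agent.Lib.H77ConsMorTools
  Groth.Agent.Lib.H77FibSeparated Groth.Agent.Lib.H77FibFinite

/-- explicit instance (instance search fails to see through the lattice structure on
`MorphismProperty` when all of Mathlib is imported) -/
instance fpqc_isStableUnderBaseChange :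
    (Groth.Agent.Lib.ConsPropInst.Fpqc.{u}).IsStableUnderBaseChange :=
  @MorphismProperty.IsStableUnderBaseChange.inf _ _ _ _
    (MorphismProperty.IsStableUnderBaseChange.inf) inferInstance

/-- Local closedness descends along open continuous surjections. -/
theorem isLocallyClosed_of_preimage {A B : Type*} [TopologicalSpace A] [TopologicalSpace B]
    (p : A → B) (hc : Continuous p) (ho : IsOpenMap p) (hs : Function.Surjective p) (C : Set B)
    (h : IsLocallyClosed (p ⁻¹' C)) : IsLocallyClosed C := by
  rw [isLocallyClosed_iff_isOpen_coborder] at h ⊢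
  have e : coborder (p ⁻¹' C) = p ⁻¹' (coborder C) := by
    rw [coborder, coborder, Set.preimage_compl, Set.preimage_sdiff,
      ho.preimage_closure_eq_closure_preimage hc]
  rw [e] at h
  exact (ho.isQuotientMap hc hs).isOpen_preimage.mp h

/-- If `f` has locally closed range, it factors through the open `coborder (range f)` by a morphism
with closed range. -/
theorem exists_factor_coborder {X Y : Scheme.{u}} (f : X ⟶ Y) (O : Y.Opens)
    (hO : Set.range f ⊆ (O : Set Y)) :
    ∃ fO : X ⟶ O, fO ≫ O.ι = f ∧ Set.range fO = O.ι ⁻¹' Set.range f := by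
  have h0 : Set.range f ⊆ Set.range O.ι := by rwa [Scheme.Opens.range_ι]
  refine ⟨IsOpenImmersion.lift O.ι f h0, IsOpenImmersion.lift_fac _ _ _, ?_⟩
  have hfac : IsOpenImmersion.lift O.ι f h0 ≫ O.ι = f := IsOpenImmersion.lift_fac _ _ _
  ext z
  constructor
  · rintro ⟨x, rfl⟩
    refine ⟨x, ?_⟩
    rw [← Scheme.Hom.comp_apply, hfac]
  · rintro ⟨x, hx⟩
    refine ⟨x, O.ι.isOpenEmbedding.injective ?_⟩
    rw [← Scheme.Hom.comp_apply, hfac]
    exact hx

/-- A morphism with range contained in an open `O` in which the range is closed, which induces a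
closed immersion into `O`, ... conversely an immersion whose range is closed in `O` induces a closed
immersion into `O`. -/
theorem isClosedImmersion_of_isImmersion_of_isClosed {X Y : Scheme.{u}} (f : X ⟶ Y) (O : Y.Opens)
    (fO : X ⟶ O) (hfO : fO ≫ O.ι = f) [IsImmersion f] (hcl : IsClosed (Set.range fO)) :
    IsClosedImmersion fO := by
  haveI : IsImmersion (fO ≫ O.ι) := by rw [hfO]; infer_instance
  haveI : IsImmersion fO := IsImmersion.of_comp fO O.ι
  exact IsClosedImmersion.of_isPreimmersion fO hcl

/-- Immersions descend along universally open fpqc base change. -/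
theorem isImmersion_of_isPullback {X X' Y Y' : Scheme.{u}} {f : X ⟶ Y} {f' : X' ⟶ Y'}
    {eX : X' ⟶ X} {eY : Y' ⟶ Y} (hX : IsPullback eX f' f eY)
    (hQ : Groth.Agent.Lib.ConsPropInst.Fpqc eY) [UniversallyOpen eY] [IsImmersion f'] :
    IsImmersion f := by
  haveI : Surjective eY := hQ.1.1
  have hr : Set.range f' = eY ⁻¹' Set.range f :=
    Groth.Agent.Lib.LimDescent.range_eq_preimage_of_isPullback hX
  have hlc : IsLocallyClosed (Set.range f) :=
    isLocallyClosed_of_preimage eY eY.continuous eY.isOpenMap eY.surjective _
      (hr ▸ f'.isLocallyClosed_range)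
  let O : Y.Opens := ⟨coborder (Set.range f), hlc.isOpen_coborder⟩
  obtain ⟨fO, hfO, hrO⟩ := exists_factor_coborder f O subset_coborder
  let O' : Y'.Opens := eY ⁻¹ᵁ O
  have hO' : Set.range f' ⊆ (O' : Set Y') := by
    rw [hr]
    exact Set.preimage_mono (subset_coborder (s := Set.range f))
  obtain ⟨fO', hfO', hrO'⟩ := exists_factor_coborder f' O' hO'
  have sqO : IsPullback (eY ∣_ O) O'.ι O.ι eY := isPullback_morphismRestrict eY O
  have hcomm : eX ≫ fO = fO' ≫ (eY ∣_ O) := by
    rw [← cancel_mono O.ι, Category.assoc, Category.assoc, hfO, morphismRestrict_ι,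
      reassoc_of% hfO', hX.w]
  have sq : IsPullback eX fO' fO (eY ∣_ O) := by
    refine IsPullback.of_bot ?_ hcomm sqO
    rw [hfO, hfO']
    exact hX
  -- closedness of the range
  have hclO : IsClosed (Set.range fO) := by
    rw [hrO]
    have e : O.ι ⁻¹' Set.range f = O.ι ⁻¹' closure (Set.range f) := by
      ext z
      constructor
      · intro hz
        exact subset_closure hz
      · intro hz
        have h1 : O.ι z ∈ closure (Set.range f) ∩ coborder (Set.range f) := ⟨hz, z.2⟩
        rwa [closure_inter_coborder] at h1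
    rw [e]
    exact isClosed_closure.preimage O.ι.continuous
  have hclO' : IsClosed (Set.range fO') := by
    rw [Groth.Agent.Lib.LimDescent.range_eq_preimage_of_isPullback sq]
    exact hclO.preimage (eY ∣_ O).continuous
  haveI : IsClosedImmersion fO' := isClosedImmersion_of_isImmersion_of_isClosed f' O' fO' hfO' hclO'
  have hQ' : Groth.Agent.Lib.ConsPropInst.Fpqc (eY ∣_ O) :=
    MorphismProperty.of_isPullback (P := Groth.Agent.Lib.ConsPropInst.Fpqc) sqO.flip hQ
  haveI : IsClosedImmersion fO :=
    (MorphismProperty.iff_of_isPullback (P := @IsClosedImmersion) sq.flip hQ').mp inferInstance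
  rw [← hfO]
  infer_instance

/-- Field-stability of being an immersion. -/
theorem isFieldStableMor_isImmersion :
    ConsProp.IsFieldStableMor (fun (_ _ _ : Scheme.{u}) f _ => IsImmersion f) := by
  intro X X' Y Y' T T' f g f' g' eX eY h _ _ _ _ _ _ _ _ hY hX
  have hQ : Groth.Agent.Lib.ConsPropInst.Fpqc eY :=
    MorphismProperty.of_isPullback (P := Groth.Agent.Lib.ConsPropInst.Fpqc) hY.flip
      (Groth.Agent.Lib.ConsPropInst.fpqc_of_onePoint h)
  haveI : UniversallyOpen h := inferInstance
  haveI : UniversallyOpen eY := MorphismProperty.of_isPullback hY.flip ‹UniversallyOpen h›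
  constructor
  · intro hf
    exact MorphismProperty.of_isPullback (P := @IsImmersion) hX hf
  · intro hf'
    haveI := hf'
    exact isImmersion_of_isPullback hX hQ

/-- The dichotomy for fibrewise immersions when the range of `f` is closed in an open `O`. -/
theorem dich_isImmersion_of_closedIn {X Y S : Scheme.{u}} (f : X ⟶ Y) (g : Y ⟶ S) [IsIntegral S]
    [IsNoetherian S] [LocallyOfFiniteType g] [QuasiCompact g] [LocallyOfFiniteType (f ≫ g)]
    [QuasiCompact (f ≫ g)] (O : Y.Opens) (hO : Set.range f ⊆ (O : Set Y))
    (hcl : closure (Set.range f) ∩ (O : Set Y) ⊆ Set.range f) :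
    Dich (ConsProp.locusMor (fun (_ _ _ : Scheme.{u}) f _ => IsImmersion f) f g) := by
  obtain ⟨fO, hfO, hrO⟩ := exists_factor_coborder f O hO
  have hclO : IsClosed (Set.range fO) := by
    rw [hrO]
    have e : O.ι ⁻¹' Set.range f = O.ι ⁻¹' closure (Set.range f) := by
      ext z
      constructor
      · intro hz
        exact subset_closure hz
      · intro hz
        exact hcl ⟨hz, z.2⟩
    rw [e]
    exact isClosed_closure.preimage O.ι.continuous
  haveI : IsLocallyNoetherian Y := LocallyOfFiniteType.isLocallyNoetherian g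
  haveI : CompactSpace Y := QuasiCompact.compactSpace_of_compactSpace g
  haveI : IsNoetherian Y := {}
  haveI : LocallyOfFiniteType (O.ι ≫ g) := inferInstance
  haveI : QuasiCompact (O.ι ≫ g) := inferInstance
  haveI : LocallyOfFiniteType (fO ≫ O.ι ≫ g) := by rw [reassoc_of% hfO]; infer_instance
  haveI : QuasiCompact (fO ≫ O.ι ≫ g) := by rw [reassoc_of% hfO]; infer_instance
  have key : ∀ s : S, IsImmersion (MoreMor.fiberMap f g s) ↔
      IsClosedImmersion (MoreMor.fiberMap fO (O.ι ≫ g) s) := by
    intro s
    let ιY := g.fiberι s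
    let pO := pullback.fst O.ι ιY
    let jO := pullback.snd O.ι ιY
    let pX := pullback.fst fO pO
    let f'' := pullback.snd fO pO
    haveI : IsOpenImmersion jO := inferInstanceAs (IsOpenImmersion (pullback.snd O.ι ιY))
    have sqA : IsPullback pX f'' fO pO := IsPullback.of_hasPullback _ _
    have sqB : IsPullback pO jO O.ι ιY := IsPullback.of_hasPullback _ _
    have sqAB : IsPullback pX (f'' ≫ jO) f ιY := by
      have := sqA.paste_vert sqB
      rwa [hfO] at this
    have H1 : IsBC f g (S.fromSpecResidueField s) (f'' ≫ jO) :=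
      ⟨ιY, g.fiberToSpecResidueField s, pX, IsPullback.of_hasPullback g _, sqAB⟩
    haveI : MorphismProperty.RespectsIso @IsImmersion.{u} :=
      MorphismProperty.IsStableUnderBaseChange.respectsIso
    have h1 : IsImmersion (f'' ≫ jO) ↔ IsImmersion (bcMap f g (S.fromSpecResidueField s)) :=
      H1.iff @IsImmersion
    have sqC : IsPullback pO (jO ≫ g.fiberToSpecResidueField s) (O.ι ≫ g)
        (S.fromSpecResidueField s) :=
      sqB.paste_vert (IsPullback.of_hasPullback g (S.fromSpecResidueField s))
    have H2 : IsBC fO (O.ι ≫ g) (S.fromSpecResidueField s) f'' := ⟨pO, _, pX, sqC, sqA⟩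
    have h2 : IsClosedImmersion f'' ↔
        IsClosedImmersion (bcMap fO (O.ι ≫ g) (S.fromSpecResidueField s)) :=
      H2.iff @IsClosedImmersion
    have h3 : IsImmersion (f'' ≫ jO) ↔ IsClosedImmersion f'' := by
      constructor
      · intro h
        haveI : IsImmersion f'' := IsImmersion.of_comp f'' jO
        refine IsClosedImmersion.of_isPreimmersion f'' ?_
        rw [Groth.Agent.Lib.LimDescent.range_eq_preimage_of_isPullback sqA]
        exact hclO.preimage pO.continuous
      · intro h
        infer_instance
    exact h1.symm.trans (h3.trans h2)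
  have he : ConsProp.locusMor (fun (_ _ _ : Scheme.{u}) f _ => IsImmersion f) f g =
      ConsProp.locusMor (fun (_ _ _ : Scheme.{u}) f _ => IsClosedImmersion f) fO (O.ι ≫ g) := by
    ext s
    exact key s
  rw [he]
  exact isConsMor_isClosedImmersion.2 fO (O.ι ≫ g)

/-- **EGA IV 9.6.1**: being an immersion on the fibres is a constructible property. -/
theorem isConsMor_isImmersion :
    ConsProp.IsConsMor (fun (_ _ _ : Scheme.{u}) f _ => IsImmersion f) := by
  refine ⟨isFieldStableMor_isImmersion, ?_⟩
  intro X Y S f g _ _ _ _ _ _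
  change Dich (ConsProp.locusMor (fun (_ _ _ : Scheme.{u}) f _ => IsImmersion f) f g)
  haveI : IsLocallyNoetherian Y := LocallyOfFiniteType.isLocallyNoetherian g
  haveI : CompactSpace Y := QuasiCompact.compactSpace_of_compactSpace g
  haveI : IsNoetherian Y := {}
  haveI : LocallyOfFiniteType f := locallyOfFiniteType_of_comp f g
  haveI : LocallyOfFinitePresentation f := inferInstance
  haveI : QuasiCompact f := QuasiCompact.of_comp f g
  have hC : IsConstructible (Set.range f) := by
    have h1 := Scheme.Hom.isLocallyConstructible_image f IsLocallyConstructible.univ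
    rw [Set.image_univ] at h1
    exact h1.isConstructible
  obtain ⟨V, hηV, hV⟩ := exists_opens_locallyClosed g (Set.range f) hC
  rcases hV with hV | ⟨O, hO, hCO, hcl⟩
  · rw [dich_iff]
    right
    refine mem_interior.mpr ⟨V, ?_, V.isOpen, hηV⟩
    intro s hs hmem
    have hs' : IsImmersion (MoreMor.fiberMap f g s) := hmem
    have sq : IsPullback ((f ≫ g).fiberι s) (MoreMor.fiberMap f g s) f (g.fiberι s) :=
      isPullback_bcMap f g (S.fromSpecResidueField s)
    have hr : Set.range (MoreMor.fiberMap f g s) = (g.fiberι s) ⁻¹' Set.range f :=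
      Groth.Agent.Lib.LimDescent.range_eq_preimage_of_isPullback sq
    refine hV s hs (g.fiberι s) (g.fiberι s).isEmbedding.isInducing (Scheme.Hom.range_fiberι g s) ?_
    rw [← hr]
    exact (MoreMor.fiberMap f g s).isLocallyClosed_range
  · -- restrict to `V`
    haveI : Nonempty ↥(V : Scheme.{u}) := ⟨⟨genericPoint S, hηV⟩⟩
    haveI : IsIntegral (V : Scheme.{u}) := isIntegral_of_isOpenImmersion V.ι
    haveI : CompactSpace ↥(V : Scheme.{u}) :=
      isCompact_iff_compactSpace.mp ((inferInstance : NoetherianSpace S).isCompact (V : Set S))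
    haveI : IsNoetherian (V : Scheme.{u}) := {}
    have hq : V.ι (genericPoint ↥(V : Scheme.{u})) = genericPoint S :=
      genericPoint_eq_of_isOpenImmersion V.ι
    let eY := pullback.fst g V.ι
    let O' : (pullback g V.ι).Opens := eY ⁻¹ᵁ ⟨O, hO⟩
    have hr' : Set.range (bcMap f g V.ι) = eY ⁻¹' Set.range f :=
      Groth.Agent.Lib.LimDescent.range_eq_preimage_of_isPullback (isPullback_bcMap f g V.ι)
    have hmemV : ∀ y' : ↥(pullback g V.ι), g (eY y') ∈ (V : Set S) := by
      intro y'
      have h1 : g (eY y') = V.ι (pullback.snd g V.ι y') := by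
        rw [← Scheme.Hom.comp_apply, ← Scheme.Hom.comp_apply, pullback.condition]
      rw [h1]
      exact (pullback.snd g V.ι y').2
    have hO' : Set.range (bcMap f g V.ι) ⊆ (O' : Set ↥(pullback g V.ι)) := by
      rw [hr']
      intro y' hy'
      exact hCO ⟨hy', hmemV y'⟩
    have hcl' : closure (Set.range (bcMap f g V.ι)) ∩ (O' : Set ↥(pullback g V.ι)) ⊆
        Set.range (bcMap f g V.ι) := by
      rw [hr']
      rintro y' ⟨h1, h2⟩
      exact hcl ⟨eY.continuous.closure_preimage_subset _ h1, h2⟩
    haveI : LocallyOfFiniteType (pullback.snd g V.ι) := inferInstance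
    haveI : QuasiCompact (pullback.snd g V.ι) := inferInstance
    haveI : LocallyOfFiniteType (bcMap f g V.ι ≫ pullback.snd g V.ι) := by
      rw [bcMap_snd]; infer_instance
    haveI : QuasiCompact (bcMap f g V.ι ≫ pullback.snd g V.ι) := by
      rw [bcMap_snd]; infer_instance
    have key := dich_isImmersion_of_closedIn (bcMap f g V.ι) (pullback.snd g V.ι) O' hO' hcl'
    exact dich_of_baseChange isFieldStableMor_isImmersion hq (IsPullback.of_hasPullback g V.ι)
      (isPullback_bcMap f g V.ι) key

/-- The set of `s` such that `f_s` is an immersion is locally constructible. -/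
theorem isLocallyConstructible_setOf_isImmersion {X Y S : Scheme.{u}} (f : X ⟶ Y)
    (g : Y ⟶ S) [LocallyOfFinitePresentation g] [QuasiCompact g] [QuasiSeparated g]
    [LocallyOfFinitePresentation (f ≫ g)] [QuasiCompact (f ≫ g)] [QuasiSeparated (f ≫ g)] :
    IsLocallyConstructible {s : S | IsImmersion (MoreMor.fiberMap f g s)} :=
  Groth.Agent.Lib.ConsLocusMor.isLocallyConstructible_locusMor isConsMor_isImmersion f g

end Groth.Agent.Lib.H77FibImmersion
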