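import Groth.Agent.Lib.H77FibIso
import Groth.Agent.Lib.H77FibImmersion

/-!
# Fibrewise open immersions form a constructible property (EGA IV 9.6.1 (ii)) (helper77)

For `f : X ⟶ Y` a morphism of `S`-schemes of finite presentation, the set of `s ∈ S` such that
`f_s : X_s ⟶ Y_s` is an open immersion is locally constructible.

Strategy: `C = f(X)` is constructible. By EGA IV 9.5.3 (`H77FibClosure2`), near the generic point
either no `C ∩ Y_s` is open in `Y_s` (and then no `f_s` is an open immersion), or `C` is open over a
neighbourhood of the generic point. In the latter case `f` factors through a surjection `X ⟶ O` onto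
the open subscheme `O = C`, and `f_s` is an open immersion iff `X_s ⟶ O_s` is an isomorphism.
-/

set_option autoImplicit false
set_option linter.style.haveILetI false
universe u
open CategoryTheory Limits AlgebraicGeometry TopologicalSpace Topology

namespace Groth.Agent.Lib.H77FibOpenImm

open Groth.Agent.Lib.H77FibClosure Groth.Agent.Lib.LimDescent Groth.Agent.Lib.H77ConsMorTools
  Groth.Agent.Lib.H77FibSeparated Groth.Agent.Lib.H77FibImmersion Groth.Agent.Lib.H77FibIso

/-- The dichotomy for fibrewise open immersions when the range of `f` is open. -/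
theorem dich_isOpenImmersion_of_isOpen_range {X Y S : Scheme.{u}} (f : X ⟶ Y) (g : Y ⟶ S)
    [IsIntegral S] [IsNoetherian S] [LocallyOfFiniteType g] [QuasiCompact g]
    [LocallyOfFiniteType (f ≫ g)] [QuasiCompact (f ≫ g)] (O : Y.Opens)
    (hO : Set.range f = (O : Set Y)) :
    Dich (ConsProp.locusMor (fun (_ _ _ : Scheme.{u}) f _ => IsOpenImmersion f) f g) := by
  obtain ⟨fO, hfO, hrO⟩ := exists_factor_coborder f O hO.le
  have hsurj : Function.Surjective fO := by
    rw [← Set.range_eq_univ, hrO, hO]
    ext z
    simp only [Set.mem_preimage, SetLike.mem_coe, Set.mem_univ, iff_true]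
    exact z.2
  haveI : Surjective fO := ⟨hsurj⟩
  haveI : IsLocallyNoetherian Y := LocallyOfFiniteType.isLocallyNoetherian g
  haveI : CompactSpace Y := QuasiCompact.compactSpace_of_compactSpace g
  haveI : IsNoetherian Y := {}
  haveI : LocallyOfFiniteType (O.ι ≫ g) := inferInstance
  haveI : QuasiCompact (O.ι ≫ g) := inferInstance
  haveI : LocallyOfFiniteType (fO ≫ O.ι ≫ g) := by rw [reassoc_of% hfO]; infer_instance
  haveI : QuasiCompact (fO ≫ O.ι ≫ g) := by rw [reassoc_of% hfO]; infer_instance
  have key : ∀ s : S, IsOpenImmersion (MoreMor.fiberMap f g s) ↔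
      IsIso (MoreMor.fiberMap fO (O.ι ≫ g) s) := by
    intro s
    let ιY := g.fiberι s
    let pO := pullback.fst O.ι ιY
    let jO := pullback.snd O.ι ιY
    let pX := pullback.fst fO pO
    let f'' := pullback.snd fO pO
    haveI : IsOpenImmersion jO := inferInstanceAs (IsOpenImmersion (pullback.snd O.ι ιY))
    have sqA : IsPullback pX f'' fO pO := IsPullback.of_hasPullback _ _
    have sqB : IsPullback pO jO O.ι ιY := IsPullback.of_hasPullback _ _
    have sqAB : IsPullback pX (f'' ≫ jO) f ιY := by
      have := sqA.paste_vert sqB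
      rwa [hfO] at this
    have H1 : IsBC f g (S.fromSpecResidueField s) (f'' ≫ jO) :=
      ⟨ιY, g.fiberToSpecResidueField s, pX, IsPullback.of_hasPullback g _, sqAB⟩
    have h1 : IsOpenImmersion (f'' ≫ jO) ↔
        IsOpenImmersion (bcMap f g (S.fromSpecResidueField s)) :=
      H1.iff @IsOpenImmersion
    have sqC : IsPullback pO (jO ≫ g.fiberToSpecResidueField s) (O.ι ≫ g)
        (S.fromSpecResidueField s) :=
      sqB.paste_vert (IsPullback.of_hasPullback g (S.fromSpecResidueField s))
    have H2 : IsBC fO (O.ι ≫ g) (S.fromSpecResidueField s) f'' := ⟨pO, _, pX, sqC, sqA⟩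
    have h2 : IsIso f'' ↔ IsIso (bcMap fO (O.ι ≫ g) (S.fromSpecResidueField s)) :=
      H2.iff (MorphismProperty.isomorphisms Scheme.{u})
    have h3 : IsOpenImmersion (f'' ≫ jO) ↔ IsIso f'' := by
      constructor
      · intro h
        haveI : IsOpenImmersion f'' := IsOpenImmersion.of_comp f'' jO
        haveI : Surjective f'' :=
          MorphismProperty.of_isPullback (P := @Surjective) sqA inferInstance
        exact (isIso_iff_isOpenImmersion_and_surjective _).mpr ⟨inferInstance, inferInstance⟩
      · intro h
        infer_instance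
    exact h1.symm.trans (h3.trans h2)
  have he : ConsProp.locusMor (fun (_ _ _ : Scheme.{u}) f _ => IsOpenImmersion f) f g =
      ConsProp.locusMor (fun (_ _ _ : Scheme.{u}) f _ => IsIso f) fO (O.ι ≫ g) := by
    ext s
    exact key s
  rw [he]
  exact isConsMor_isIso.2 fO (O.ι ≫ g)

/-- **EGA IV 9.6.1**: being an open immersion on the fibres is a constructible property. -/
theorem isConsMor_isOpenImmersion :
    ConsProp.IsConsMor (fun (_ _ _ : Scheme.{u}) f _ => IsOpenImmersion f) := by
  have hFS : ConsProp.IsFieldStableMor (fun (_ _ _ : Scheme.{u}) f _ => IsOpenImmersion f) :=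
    Groth.Agent.Lib.ConsPropInst.isFieldStableMor_of_descends @IsOpenImmersion
  refine ⟨hFS, ?_⟩
  intro X Y S f g _ _ _ _ _ _
  change Dich (ConsProp.locusMor (fun (_ _ _ : Scheme.{u}) f _ => IsOpenImmersion f) f g)
  haveI : IsLocallyNoetherian Y := LocallyOfFiniteType.isLocallyNoetherian g
  haveI : CompactSpace Y := QuasiCompact.compactSpace_of_compactSpace g
  haveI : IsNoetherian Y := {}
  haveI : NoetherianSpace Y := inferInstance
  haveI : LocallyOfFiniteType f := locallyOfFiniteType_of_comp f g
  haveI : LocallyOfFinitePresentation f := inferInstance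
  haveI : QuasiCompact f := QuasiCompact.of_comp f g
  have hC : IsConstructible (Set.range f) := by
    have h1 := Scheme.Hom.isLocallyConstructible_image f IsLocallyConstructible.univ
    rw [Set.image_univ] at h1
    exact h1.isConstructible
  have hD : IsConstructible (Set.range f)ᶜ := hC.compl
  obtain ⟨V₁, hη₁, h₁⟩ := exists_opens_fiber_closed_constructible g _ hD
  obtain ⟨V₂, hη₂, h₂⟩ := exists_opens_closure_constructible g _ hD
  rcases h₁ with h₁ | h₁
  swap
  · rw [dich_iff]
    right
    refine mem_interior.mpr ⟨V₁, ?_, V₁.isOpen, hη₁⟩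
    intro s hs hmem
    have hs' : IsOpenImmersion (MoreMor.fiberMap f g s) := hmem
    have sq : IsPullback ((f ≫ g).fiberι s) (MoreMor.fiberMap f g s) f (g.fiberι s) :=
      isPullback_bcMap f g (S.fromSpecResidueField s)
    have hr : Set.range (MoreMor.fiberMap f g s) = (g.fiberι s) ⁻¹' Set.range f :=
      Groth.Agent.Lib.LimDescent.range_eq_preimage_of_isPullback sq
    refine h₁ s hs ?_
    have hcl : IsClosed ((g.fiberι s) ⁻¹' (Set.range f)ᶜ) := by
      rw [Set.preimage_compl, ← hr]
      exact (MoreMor.fiberMap f g s).isOpenEmbedding.isOpen_range.isClosed_compl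
    have h3 := (isClosed_preimage_iff_of_isInducing (g.fiberι s)
      (g.fiberι s).isEmbedding.isInducing _).mp hcl
    rwa [Scheme.Hom.range_fiberι] at h3
  · let V : S.Opens := V₁ ⊓ V₂
    have hηV : genericPoint S ∈ V := ⟨hη₁, hη₂⟩
    let O : Y.Opens := ⟨(closure (Set.range f)ᶜ)ᶜ, isClosed_closure.isOpen_compl⟩
    have hOC : (O : Set Y) ⊆ Set.range f := by
      intro y hy
      by_contra h
      exact hy (subset_closure h)
    have hCO : Set.range f ∩ g ⁻¹' (V : Set S) ⊆ (O : Set Y) := by
      rintro y ⟨hyC, hyV⟩ hycl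
      have h3 : y ∈ (Set.range f)ᶜ :=
        h₁ (g y) hyV.1 ⟨h₂ (g y) hyV.2 ⟨hycl, rfl⟩, rfl⟩
      exact h3 hyC
    haveI : Nonempty ↥(V : Scheme.{u}) := ⟨⟨genericPoint S, hηV⟩⟩
    haveI : IsIntegral (V : Scheme.{u}) := isIntegral_of_isOpenImmersion V.ι
    haveI : CompactSpace ↥(V : Scheme.{u}) :=
      isCompact_iff_compactSpace.mp ((inferInstance : NoetherianSpace S).isCompact (V : Set S))
    haveI : IsNoetherian (V : Scheme.{u}) := {}
    have hq : V.ι (genericPoint ↥(V : Scheme.{u})) = genericPoint S :=
      genericPoint_eq_of_isOpenImmersion V.ι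
    let eY := pullback.fst g V.ι
    let O' : (pullback g V.ι).Opens := eY ⁻¹ᵁ O
    have hr' : Set.range (bcMap f g V.ι) = eY ⁻¹' Set.range f :=
      Groth.Agent.Lib.LimDescent.range_eq_preimage_of_isPullback (isPullback_bcMap f g V.ι)
    have hmemV : ∀ y' : ↥(pullback g V.ι), g (eY y') ∈ (V : Set S) := by
      intro y'
      have h1 : g (eY y') = V.ι (pullback.snd g V.ι y') := by
        rw [← Scheme.Hom.comp_apply, ← Scheme.Hom.comp_apply, pullback.condition]
      rw [h1]
      exact (pullback.snd g V.ι y').2
    have hO' : Set.range (bcMap f g V.ι) = (O' : Set ↥(pullback g V.ι)) := by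
      rw [hr']
      ext y'
      constructor
      · intro hy'
        exact hCO ⟨hy', hmemV y'⟩
      · intro hy'
        exact hOC hy'
    haveI : LocallyOfFiniteType (pullback.snd g V.ι) := inferInstance
    haveI : QuasiCompact (pullback.snd g V.ι) := inferInstance
    haveI : LocallyOfFiniteType (bcMap f g V.ι ≫ pullback.snd g V.ι) := by
      rw [bcMap_snd]; infer_instance
    haveI : QuasiCompact (bcMap f g V.ι ≫ pullback.snd g V.ι) := by
      rw [bcMap_snd]; infer_instance
    have key := dich_isOpenImmersion_of_isOpen_range (bcMap f g V.ι) (pullback.snd g V.ι) O' hO'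
    exact dich_of_baseChange hFS hq (IsPullback.of_hasPullback g V.ι)
      (isPullback_bcMap f g V.ι) key

/-- The set of `s` such that `f_s` is an open immersion is locally constructible. -/
theorem isLocallyConstructible_setOf_isOpenImmersion {X Y S : Scheme.{u}} (f : X ⟶ Y)
    (g : Y ⟶ S) [LocallyOfFinitePresentation g] [QuasiCompact g] [QuasiSeparated g]
    [LocallyOfFinitePresentation (f ≫ g)] [QuasiCompact (f ≫ g)] [QuasiSeparated (f ≫ g)] :
    IsLocallyConstructible {s : S | IsOpenImmersion (MoreMor.fiberMap f g s)} :=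
  Groth.Agent.Lib.ConsLocusMor.isLocallyConstructible_locusMor isConsMor_isOpenImmersion f g

end Groth.Agent.Lib.H77FibOpenImm
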