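import Groth.Agent.Lib.Fitting82D
import Groth.Agent.Lib.CohFinite
import Groth.Agent.Lib.QCohStalk
import Groth.Agent.Lib.IdealSheafGeneric
import Groth.Prelude.Def_CohB1
import Mathlib.RingTheory.Localization.BaseChange
import Mathlib.RingTheory.IsTensorProduct

/-!
# Fitting ideals, part E (helper82): localization and Fitting ideal sheaves

* `ideal_isBaseChange`, `ideal_isLocalizedModule`: base change in `IsBaseChange` /
  `IsLocalizedModule` form.
* `isLocalizedModule_res_basicOpen`: for a quasi-coherent module, restriction to a basic open of an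
  affine open is a localization of modules.
* `ideal_map_basicOpen`: the Fitting ideals of the sections of a quasi-coherent finite type module
  are compatible with restriction to basic opens.
* `sheafIdeal_ideal`: the affine values of `Fitt.sheafIdeal`.
-/

set_option autoImplicit false

universe u v w

namespace Groth.Agent.Lib.Fitting82

open TensorProduct

section BaseChange

variable {R : Type u} [CommRing R] {M : Type v} [AddCommGroup M] [Module R M]
variable (R' : Type w) [CommRing R'] [Algebra R R']
variable {M' : Type*} [AddCommGroup M'] [Module R M'] [Module R' M'] [IsScalarTower R R' M']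

theorem ideal_isBaseChange [Module.Finite R M] (g : M →ₗ[R] M') (hg : IsBaseChange R' g) (k : ℕ) :
    Fitt.ideal R' M' k = (Fitt.ideal R M k).map (algebraMap R R') := by
  rw [← ideal_baseChange R' k]
  exact (ideal_congr hg.equiv k).symm

theorem ideal_isLocalizedModule [Module.Finite R M] (S : Submonoid R) [IsLocalization S R']
    (g : M →ₗ[R] M') [IsLocalizedModule S g] (k : ℕ) :
    Fitt.ideal R' M' k = (Fitt.ideal R M k).map (algebraMap R R') :=
  ideal_isBaseChange R' g (IsLocalizedModule.isBaseChange S R' g) k

end BaseChange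

section Scheme

open CategoryTheory AlgebraicGeometry TopologicalSpace Opposite
open Groth.Agent.Lib.QCohStalk

variable {X : Scheme.{u}}

/-- The Fitting ideals of the sections of a quasi-coherent finite type module over affine opens are
compatible with restriction to basic opens. -/
theorem ideal_map_basicOpen (F : X.Modules) [F.IsQuasicoherent] [F.IsFiniteType] {U : X.Opens}
    (hU : IsAffineOpen U) (f : Γ(X, U)) (k : ℕ) :
    (Fitt.ideal Γ(X, U) Γ(F, U) k).map (X.presheaf.map (homOfLE (X.basicOpen_le f)).op).hom =
      Fitt.ideal Γ(X, X.basicOpen f) Γ(F, X.basicOpen f) k := by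
  set φ := (X.presheaf.map (homOfLE (X.basicOpen_le f)).op).hom with hφ
  letI mod : Module Γ(X, U) Γ(F, X.basicOpen f) := Module.compHom _ φ
  haveI tower : IsScalarTower Γ(X, U) Γ(X, X.basicOpen f) Γ(F, X.basicOpen f) :=
    ⟨fun a b m => by
      change (φ a * b) • m = φ a • b • m
      rw [mul_smul]⟩
  haveI loc : IsLocalization.Away f Γ(X, X.basicOpen f) := hU.isLocalization_basicOpen f
  let g : Γ(F, U) →ₗ[Γ(X, U)] Γ(F, X.basicOpen f) :=
    { toFun := res F (X.basicOpen_le f)
      map_add' := fun a b => map_add (F.presheaf.map (homOfLE (X.basicOpen_le f)).op).hom a b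
      map_smul' := fun r s => res_smul F (X.basicOpen_le f) r s }
  have hg : ∀ s, g s = res F (X.basicOpen_le f) s := fun _ => rfl
  have hfunit : IsUnit (φ f) := by
    have := RingedSpace.isUnit_res_basicOpen X.toRingedSpace f
    exact this
  haveI : IsLocalizedModule (Submonoid.powers f) g :=
    { map_units := by
        rintro ⟨_, n, rfl⟩
        rw [Module.End.isUnit_iff]
        have hu : IsUnit (φ (f ^ n)) := by rw [map_pow]; exact hfunit.pow n
        constructor
        · intro a b hab
          have hab' : φ (f ^ n) • a = φ (f ^ n) • b := hab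
          exact hu.smul_left_cancel.mp hab'
        · intro b
          obtain ⟨c, hc⟩ := hu.exists_left_inv
          refine ⟨c • b, ?_⟩
          change φ (f ^ n) • c • b = b
          rw [← mul_smul, mul_comm, hc, one_smul]
      surj := by
        intro t
        obtain ⟨n, s, hs⟩ := exists_pow_smul_eq_res F hU f t
        refine ⟨⟨s, ⟨f ^ n, n, rfl⟩⟩, ?_⟩
        change φ (f ^ n) • t = g s
        rw [hg, ← hs, map_pow]
      exists_of_eq := by
        intro a b hab
        rw [hg, hg] at hab
        have h0 : res F (X.basicOpen_le f) (a - b) = 0 := by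
          have : res F (X.basicOpen_le f) (a - b) =
              res F (X.basicOpen_le f) a - res F (X.basicOpen_le f) b :=
            map_sub (F.presheaf.map (homOfLE (X.basicOpen_le f)).op).hom a b
          rw [this, hab, sub_self]
        obtain ⟨n, hn⟩ := exists_pow_smul_eq_zero F hU f (a - b) h0
        refine ⟨⟨f ^ n, n, rfl⟩, ?_⟩
        change f ^ n • a = f ^ n • b
        rw [smul_sub, sub_eq_zero] at hn
        exact hn }
  haveI : Module.Finite Γ(X, U) Γ(F, U) :=
    Groth.Agent.Lib.CohFinite.finite_sections_of_isAffineOpen F hU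
  exact (ideal_isLocalizedModule Γ(X, X.basicOpen f) (Submonoid.powers f) g k).symm

/-- The Fitting ideal sheaf as an `IdealSheafData` with explicit affine values. -/
noncomputable def fittData (F : X.Modules) [F.IsQuasicoherent] [F.IsFiniteType] (k : ℕ) :
    X.IdealSheafData where
  ideal U := Fitt.ideal Γ(X, U.1) Γ(F, U.1) k
  map_ideal_basicOpen U f := ideal_map_basicOpen F U.2 f k

theorem sheafIdeal_eq_fittData (F : X.Modules) [F.IsQuasicoherent] [F.IsFiniteType] (k : ℕ) :
    Fitt.sheafIdeal F k = fittData F k :=
  Scheme.IdealSheafData.ofIdeals_ideal (fittData F k)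

/-- The affine values of the Fitting ideal sheaf of a quasi-coherent module of finite type. -/
theorem sheafIdeal_ideal (F : X.Modules) [F.IsQuasicoherent] [F.IsFiniteType] (k : ℕ)
    (U : X.affineOpens) :
    (Fitt.sheafIdeal F k).ideal U = Fitt.ideal Γ(X, U.1) Γ(F, U.1) k := by
  rw [sheafIdeal_eq_fittData]
  rfl

/-- For a quasi-coherent module, the stalk at a point of an affine open vanishes iff the prime of
the point is outside the support of the module of sections. -/
theorem subsingleton_stalk_iff (F : X.Modules) [F.IsQuasicoherent] {U : X.Opens}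
    (hU : IsAffineOpen U) (x : U) :
    Subsingleton (F.presheaf.stalk (x : X)) ↔
      hU.primeIdealOf x ∉ Module.support Γ(X, U) Γ(F, U) := by
  letI := moduleSectionStalk F x
  haveI := isLocalizedModule_germ F hU x
  rw [Module.notMem_support_iff]
  exact (IsLocalizedModule.iso (hU.primeIdealOf x).asIdeal.primeCompl
    (germLinear F x)).toEquiv.subsingleton_congr.symm

/-- The closed subset cut out by `Fit_0(F)` is the support of `F`. -/
theorem support_sheafIdeal_zero (F : X.Modules) [F.IsQuasicoherent] [F.IsFiniteType] :
    ((Fitt.sheafIdeal F 0).support : Set X) = CohB1.support F := by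
  ext x
  obtain ⟨_, ⟨U, hU, rfl⟩, hxU, -⟩ :=
    X.isBasis_affineOpens.exists_subset_of_mem_open (Set.mem_univ x) isOpen_univ
  replace hU : IsAffineOpen U := hU
  haveI : Module.Finite Γ(X, U) Γ(F, U) :=
    Groth.Agent.Lib.CohFinite.finite_sections_of_isAffineOpen F hU
  rw [SetLike.mem_coe,
    Groth.Agent.Lib.IdealSheafGeneric.mem_support_iff_le_primeIdealOf _ ⟨U, hU⟩ hU x hxU,
    sheafIdeal_ideal]
  change _ ↔ ¬ Subsingleton (F.presheaf.stalk x)
  rw [subsingleton_stalk_iff F hU ⟨x, hxU⟩, not_not, ← zeroLocus_ideal_zero,
    PrimeSpectrum.mem_zeroLocus]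
  rfl

/-- Every point lies outside the closed subset cut out by some `Fit_r(F)`. -/
theorem exists_notMem_support_sheafIdeal (F : X.Modules) [F.IsQuasicoherent] [F.IsFiniteType]
    (x : X) : ∃ r : ℕ, x ∉ (Fitt.sheafIdeal F r).support := by
  obtain ⟨_, ⟨U, hU, rfl⟩, hxU, -⟩ :=
    X.isBasis_affineOpens.exists_subset_of_mem_open (Set.mem_univ x) isOpen_univ
  replace hU : IsAffineOpen U := hU
  haveI : Module.Finite Γ(X, U) Γ(F, U) :=
    Groth.Agent.Lib.CohFinite.finite_sections_of_isAffineOpen F hU
  obtain ⟨n, y, hy⟩ := Module.Finite.exists_fin (R := Γ(X, U)) (M := Γ(F, U))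
  refine ⟨n, ?_⟩
  rw [Groth.Agent.Lib.IdealSheafGeneric.mem_support_iff_le_primeIdealOf _ ⟨U, hU⟩ hU x hxU,
    sheafIdeal_ideal, ideal_eq_top_of_span y hy n le_rfl]
  intro h
  exact (hU.primeIdealOf ⟨x, hxU⟩).isPrime.ne_top (top_le_iff.mp h)

end Scheme

end Groth.Agent.Lib.Fitting82
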