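import Groth.Agent.S8872
import Groth.Agent.S8873
import Groth.Agent.Lib.Fitting82Q
import Groth.Agent.Lib.H69ClosedLfp
import Groth.Agent.Lib.H77FibIso
import Groth.Agent.Lib.H77FibOpenImm

/-!
# Fibrewise local freeness via Fitting ideals (helper62)

EGA IV 9.4.7, rank `n` case: for `f : X ⟶ S` of finite presentation and `F` a finitely presented
`O_X`-module, the set of `s` such that `F_s` is locally free of rank `n` is locally constructible.
The proof uses the closed subschemes `Z_k ⊆ X` cut out by the Fitting ideals of `F`: `F_s` is locally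
free of rank `n` iff `(Z_k)_s = X_s` for `k < n` and `(Z_n)_s = ∅`.
-/

set_option autoImplicit false
set_option linter.style.haveILetI false
universe u

open CategoryTheory Limits AlgebraicGeometry Topology TopologicalSpace

namespace Groth.Agent.Lib.FibLocFree62

variable {X S : Scheme.{u}}

/-- The fibre over `s` of the closed subscheme `V(I) ⊆ X`, as a closed subscheme of the fibre
`X_s`, is `V(I.comap ι_s)`. -/
theorem exists_iso_fiberMap (f : X ⟶ S) (I : X.IdealSheafData) (s : S) :
    ∃ e : (I.subschemeι ≫ f).fiber s ≅ (I.comap (f.fiberι s)).subscheme,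
      e.hom ≫ (I.comap (f.fiberι s)).subschemeι = MoreMor.fiberMap I.subschemeι f s := by
  have hbig : IsPullback ((I.subschemeι ≫ f).fiberι s)
      (MoreMor.fiberMap I.subschemeι f s ≫ f.fiberToSpecResidueField s) (I.subschemeι ≫ f)
      (S.fromSpecResidueField s) := by
    have h : MoreMor.fiberMap I.subschemeι f s ≫ f.fiberToSpecResidueField s =
        (I.subschemeι ≫ f).fiberToSpecResidueField s := pullback.lift_snd _ _ _
    rw [h]
    exact IsPullback.of_hasPullback _ _
  have hbot : IsPullback (f.fiberι s) (f.fiberToSpecResidueField s) f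
      (S.fromSpecResidueField s) := IsPullback.of_hasPullback _ _
  have htop : IsPullback ((I.subschemeι ≫ f).fiberι s) (MoreMor.fiberMap I.subschemeι f s)
      I.subschemeι (f.fiberι s) :=
    IsPullback.of_bot hbig (pullback.lift_fst _ _ _).symm hbot
  refine ⟨htop.flip.isoPullback ≪≫ (I.comapIso (f.fiberι s)).symm, ?_⟩
  simp

theorem comap_fiberι_eq_bot_iff (f : X ⟶ S) (I : X.IdealSheafData) (s : S) :
    I.comap (f.fiberι s) = ⊥ ↔ IsIso (MoreMor.fiberMap I.subschemeι f s) := by
  obtain ⟨e, he⟩ := exists_iso_fiberMap f I s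
  rw [← he, isIso_comp_left_iff, Scheme.isIso_subschemeι_iff_eq_bot]

theorem isOpenImmersion_fiberMap_iff (f : X ⟶ S) (I : X.IdealSheafData) (s : S) :
    IsOpenImmersion (MoreMor.fiberMap I.subschemeι f s) ↔
      IsOpenImmersion (I.comap (f.fiberι s)).subschemeι := by
  obtain ⟨e, he⟩ := exists_iso_fiberMap f I s
  rw [← he]
  exact MorphismProperty.cancel_left_of_respectsIso (P := @IsOpenImmersion) e.hom _

theorem comap_fiberι_eq_top_iff (f : X ⟶ S) (I : X.IdealSheafData) (s : S) :
    I.comap (f.fiberι s) = ⊤ ↔ s ∉ f '' (I.support : Set X) := by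
  rw [← Scheme.IdealSheafData.support_eq_bot_iff, Scheme.IdealSheafData.support_comap,
    ← SetLike.coe_set_eq]
  simp only [Closeds.coe_preimage, Closeds.coe_bot]
  constructor
  · rintro h ⟨x, hx, hxs⟩
    obtain ⟨y, hy⟩ : x ∈ Set.range (f.fiberι s) := by
      rw [Scheme.Hom.range_fiberι]; exact hxs
    have : y ∈ (f.fiberι s) ⁻¹' (I.support : Set X) := by
      rw [Set.mem_preimage, hy]; exact hx
    rw [h] at this
    exact this
  · intro h
    rw [Set.eq_empty_iff_forall_notMem]
    intro y hy
    refine h ⟨f.fiberι s y, hy, ?_⟩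
    have : f.fiberι s y ∈ Set.range (f.fiberι s) := ⟨y, rfl⟩
    rw [Scheme.Hom.range_fiberι] at this
    exact this

section Fitting

open Groth.Agent.Lib.Fitting82

theorem sheafIdeal_mono (F : X.Modules) [F.IsQuasicoherent] [F.IsFiniteType] {k l : ℕ}
    (h : k ≤ l) : Fitt.sheafIdeal F k ≤ Fitt.sheafIdeal F l := by
  rw [Scheme.IdealSheafData.le_def]
  intro U
  rw [sheafIdeal_ideal, sheafIdeal_ideal]
  exact ideal_mono_index h

theorem lfp_subschemeι (F : X.Modules) (hF : CohB1.IsFP F) (k : ℕ) :
    LocallyOfFinitePresentation (Fitt.sheafIdeal F k).subschemeι := by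
  rw [Groth.Agent.Lib.H69ClosedLfp.lfp_iff_ker_fg, Scheme.IdealSheafData.ker_subschemeι]
  exact Groth.Agent.S8873.result X F hF k

variable (f : X ⟶ S) (F : X.Modules)

/-- The Fitting ideals of the restriction of `F` to a fibre. -/
theorem sheafIdeal_fibre [F.IsQuasicoherent] [F.IsFiniteType] (s : S) (k : ℕ) :
    Fitt.sheafIdeal ((Scheme.Modules.pullback (f.fiberι s)).obj F) k =
      (Fitt.sheafIdeal F k).comap (f.fiberι s) :=
  (Groth.Agent.S8872.result (f.fiberι s) F ‹_› ‹_› k).symm

/-- `F_s` is locally free of rank `n` iff the closed subschemes `Z_k` for `k < n` contain the fibre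
`X_s` and `Z_n` does not meet `X_s`. -/
theorem isFinLocFreeOfRank_fibre_iff [F.IsQuasicoherent] [F.IsFiniteType] (s : S) (n : ℕ) :
    FlatMod.IsFinLocFreeOfRank n ((Scheme.Modules.pullback (f.fiberι s)).obj F) ↔
      (∀ k < n, IsIso (MoreMor.fiberMap (Fitt.sheafIdeal F k).subschemeι f s)) ∧
        s ∉ Set.range ((Fitt.sheafIdeal F n).subschemeι ≫ f) := by
  haveI : ((Scheme.Modules.pullback (f.fiberι s)).obj F).IsQuasicoherent :=
    Groth.Agent.Lib.H72PullbackQCoh.isQuasicoherent_pullback _ F
  haveI : ((Scheme.Modules.pullback (f.fiberι s)).obj F).IsFiniteType :=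
    Groth.Agent.Lib.SupportTensor.isFiniteType_pullback _ F
  rw [isFinLocFreeOfRank_iff_sheafIdeal]
  simp only [sheafIdeal_fibre, comap_fiberι_eq_bot_iff, comap_fiberι_eq_top_iff]
  have hr : ∀ k, Set.range ((Fitt.sheafIdeal F k).subschemeι ≫ f) =
      f '' ((Fitt.sheafIdeal F k).support : Set X) := by
    intro k
    ext t
    constructor
    · rintro ⟨z, rfl⟩
      refine ⟨(Fitt.sheafIdeal F k).subschemeι z, ?_, by simp⟩
      rw [← Scheme.IdealSheafData.range_subschemeι]
      exact ⟨z, rfl⟩
    · rintro ⟨x, hx, rfl⟩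
      rw [← Scheme.IdealSheafData.range_subschemeι] at hx
      obtain ⟨z, rfl⟩ := hx
      exact ⟨z, by simp⟩
  rw [hr]
  refine and_congr Iff.rfl ⟨fun h => h n le_rfl, fun h k hk hs => h ?_⟩
  obtain ⟨x, hx, rfl⟩ := hs
  exact ⟨x, Scheme.IdealSheafData.support_antitone (sheafIdeal_mono F hk) hx, rfl⟩

/-- **EGA IV 9.4.7 (rank `n`)**: the set of `s` with `F_s` locally free of rank `n` is locally
constructible. -/
theorem isLocallyConstructible_setOf_fibre_isFinLocFreeOfRank
    [LocallyOfFinitePresentation f] [QuasiCompact f] [QuasiSeparated f]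
    (hF : CohB1.IsFP F) (n : ℕ) :
    IsLocallyConstructible
      {s : S | FlatMod.IsFinLocFreeOfRank n ((Scheme.Modules.pullback (f.fiberι s)).obj F)} := by
  haveI : SheafOfModules.IsFinitePresentation (R := X.ringCatSheaf) F := hF
  haveI : F.IsQuasicoherent := inferInstance
  haveI : F.IsFiniteType := inferInstance
  haveI : ∀ k, LocallyOfFinitePresentation (Fitt.sheafIdeal F k).subschemeι :=
    lfp_subschemeι F hF
  have h1 : {s : S | FlatMod.IsFinLocFreeOfRank n
      ((Scheme.Modules.pullback (f.fiberι s)).obj F)} =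
      (⋂ k : Fin n, {s : S | IsIso (MoreMor.fiberMap (Fitt.sheafIdeal F k).subschemeι f s)}) ∩
        (Set.range ((Fitt.sheafIdeal F n).subschemeι ≫ f))ᶜ := by
    ext s
    simp only [Set.mem_ofPred_eq, Set.mem_inter_iff, Set.mem_iInter, Set.mem_compl_iff]
    rw [isFinLocFreeOfRank_fibre_iff]
    exact and_congr ⟨fun h k => h k k.2, fun h k hk => h ⟨k, hk⟩⟩ Iff.rfl
  rw [h1]
  refine IsLocallyConstructible.inter (IsLocallyConstructible.iInter fun k => ?_) ?_
  · exact Groth.Agent.Lib.H77FibIso.isLocallyConstructible_setOf_isIso _ f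
  · rw [← Set.image_univ]
    have h2 := ((Fitt.sheafIdeal F n).subschemeι ≫ f).isLocallyConstructible_image
      IsLocallyConstructible.univ
    intro x
    obtain ⟨U, hxU, hU, hsU⟩ := h2 x
    exact ⟨U, hxU, hU, by simpa using hsU.compl⟩

end Fitting

end Groth.Agent.Lib.FibLocFree62
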