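import Groth.Agent.Lib.FibLocFree62
import Groth.Agent.Lib.LocalFlex
import Groth.Agent.Lib.H90InvertiblePullback

/-!
# Fibrewise finite local freeness (helper62)

EGA IV 9.4.7: for `f : X ⟶ S` of finite presentation and `F` a finitely presented `O_X`-module, the
set of `s` such that `F_s` is finite locally free is locally constructible.  Key algebraic input:
a quasi-coherent module of finite type is finite locally free iff each of its Fitting subschemes is
open (`isFinLocFree_iff_isOpenImmersion_subschemeι`).
-/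

set_option autoImplicit false
set_option linter.style.haveILetI false
universe u

open CategoryTheory Limits AlgebraicGeometry Topology TopologicalSpace
open scoped Set.Notation

namespace Groth.Agent.Lib.FibLocFree62

open Groth.Agent.Lib.Fitting82

variable {Y : Scheme.{u}}

/-- If `V(I) ⟶ Y` is an open immersion and `ι : U ⟶ Y` factors through it, then `I` pulls back to
the zero ideal on `U`. -/
theorem comap_eq_bot_of_range_subset (I : Y.IdealSheafData) [IsOpenImmersion I.subschemeι]
    {U : Scheme.{u}} (ι : U ⟶ Y) (h : Set.range ι ⊆ Set.range I.subschemeι) :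
    I.comap ι = ⊥ := by
  let l : U ⟶ I.subscheme := IsOpenImmersion.lift I.subschemeι ι h
  have hl : l ≫ I.subschemeι = ι := IsOpenImmersion.lift_fac _ _ _
  haveI : IsSplitEpi (pullback.fst ι I.subschemeι) :=
    IsSplitEpi.mk' ⟨pullback.lift (𝟙 U) l (by rw [Category.id_comp, hl]), pullback.lift_fst _ _ _⟩
  haveI : IsIso (pullback.fst ι I.subschemeι) := isIso_of_mono_of_isSplitEpi _
  exact Scheme.Hom.ker_eq_bot_of_isIso _

theorem comap_eq_top_of_forall_notMem (I : Y.IdealSheafData) {U : Scheme.{u}} (ι : U ⟶ Y)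
    (h : ∀ u : U, ι u ∉ I.support) : I.comap ι = ⊤ := by
  rw [← Scheme.IdealSheafData.support_eq_bot_iff, Scheme.IdealSheafData.support_comap,
    ← SetLike.coe_set_eq]
  simp only [Closeds.coe_preimage, Closeds.coe_bot]
  rw [Set.eq_empty_iff_forall_notMem]
  exact fun u hu => h u hu

theorem isOpenImmersion_subschemeι_of_eq_bot_or_top (I : Y.IdealSheafData) (h : I = ⊥ ∨ I = ⊤) :
    IsOpenImmersion I.subschemeι := by
  rcases h with h | h
  · subst h; infer_instance
  · subst h; infer_instance

/-- Fitting ideals of the restriction to an open subscheme. -/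
theorem sheafIdeal_pullback (G : Y.Modules) [G.IsQuasicoherent] [G.IsFiniteType]
    {U : Scheme.{u}} (ι : U ⟶ Y) (k : ℕ) :
    Fitt.sheafIdeal ((Scheme.Modules.pullback ι).obj G) k = (Fitt.sheafIdeal G k).comap ι :=
  (Groth.Agent.S8872.result ι G ‹_› ‹_› k).symm

open Groth.Agent.Lib.H90Invertible in
theorem isOpenImmersion_subschemeι_of_isFinLocFree (G : Y.Modules) [G.IsQuasicoherent]
    [G.IsFiniteType] (hG : FlatMod.IsFinLocFree G) (k : ℕ) :
    IsOpenImmersion (Fitt.sheafIdeal G k).subschemeι := by
  choose U n hxU e using hG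
  have hU : ⨆ y, U y = ⊤ := by
    rw [eq_top_iff]
    intro y _
    exact Opens.mem_iSup.mpr ⟨y, hxU y⟩
  refine IsZariskiLocalAtTarget.of_iSup_eq_top (P := @IsOpenImmersion) U hU (fun y => ?_)
  let I := Fitt.sheafIdeal G k
  let ι := (U y).ι
  haveI : ((Scheme.Modules.pullback ι).obj G).IsQuasicoherent :=
    Groth.Agent.Lib.H72PullbackQCoh.isQuasicoherent_pullback _ G
  haveI : ((Scheme.Modules.pullback ι).obj G).IsFiniteType :=
    Groth.Agent.Lib.SupportTensor.isFiniteType_pullback _ G
  have hfree : FlatMod.IsFinLocFreeOfRank (n y) ((Scheme.Modules.pullback ι).obj G) :=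
    isFinLocFreeOfRank_of_iso
      ((e y).some.symm ≪≫ (Scheme.Modules.restrictFunctorIsoPullback ι).app G)
      (isFinLocFreeOfRank_freeMod _ (n y))
  rw [isFinLocFreeOfRank_iff_sheafIdeal] at hfree
  have h1 : IsOpenImmersion (I.comap ι).subschemeι := by
    apply isOpenImmersion_subschemeι_of_eq_bot_or_top
    rw [← sheafIdeal_pullback]
    rcases lt_or_ge k (n y) with hk | hk
    · exact Or.inl (hfree.1 k hk)
    · exact Or.inr (hfree.2 k hk)
  have h2 : IsOpenImmersion (pullback.fst ι I.subschemeι) := by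
    rw [← Scheme.IdealSheafData.comapIso_inv_subschemeι]; infer_instance
  have h3 : IsOpenImmersion (pullback.snd I.subschemeι ι) := by
    rw [← pullbackSymmetry_hom_comp_fst]; infer_instance
  change IsOpenImmersion ((pullbackRestrictIsoRestrict I.subschemeι (U y)).inv ≫
    pullback.snd I.subschemeι ι)
  infer_instance

open Groth.Agent.Lib.H90Invertible in
theorem isFinLocFree_of_isOpenImmersion_subschemeι (G : Y.Modules) [G.IsQuasicoherent]
    [G.IsFiniteType] (h : ∀ k, IsOpenImmersion (Fitt.sheafIdeal G k).subschemeι) :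
    FlatMod.IsFinLocFree G := by
  apply Groth.Agent.Lib.LocalFlex.isFinLocFree_of_forall_restrict
  intro y
  classical
  have hex := exists_notMem_support_sheafIdeal G y
  let r := Nat.find hex
  have hr : y ∉ (Fitt.sheafIdeal G r).support := Nat.find_spec hex
  have hlt : ∀ k < r, y ∈ (Fitt.sheafIdeal G k).support :=
    fun k hk => not_not.mp (Nat.find_min hex hk)
  let W : Set Y := ((Fitt.sheafIdeal G r).support : Set Y)ᶜ ∩
    ⋂ k ∈ Finset.range r, Set.range (Fitt.sheafIdeal G k).subschemeι
  have hW : IsOpen W :=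
    (Fitt.sheafIdeal G r).support.isClosed.isOpen_compl.inter
      (isOpen_biInter_finset fun k _ => (h k).base_open.isOpen_range)
  let U : Y.Opens := ⟨W, hW⟩
  have hyU : y ∈ U := by
    refine ⟨hr, Set.mem_iInter₂.mpr fun k hk => ?_⟩
    rw [Scheme.IdealSheafData.range_subschemeι]
    exact hlt k (Finset.mem_range.mp hk)
  refine ⟨U, U.ι, inferInstance, by rw [Scheme.Opens.range_ι]; exact hyU, ?_⟩
  haveI : ((Scheme.Modules.pullback U.ι).obj G).IsQuasicoherent :=
    Groth.Agent.Lib.H72PullbackQCoh.isQuasicoherent_pullback _ G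
  haveI : ((Scheme.Modules.pullback U.ι).obj G).IsFiniteType :=
    Groth.Agent.Lib.SupportTensor.isFiniteType_pullback _ G
  have hfree : FlatMod.IsFinLocFreeOfRank r ((Scheme.Modules.pullback U.ι).obj G) := by
    rw [isFinLocFreeOfRank_iff_sheafIdeal]
    constructor
    · intro k hk
      rw [sheafIdeal_pullback]
      haveI := h k
      apply comap_eq_bot_of_range_subset
      rw [Scheme.Opens.range_ι]
      intro x hx
      exact Set.mem_iInter₂.mp hx.2 k (Finset.mem_range.mpr hk)
    · intro k hk
      rw [sheafIdeal_pullback]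
      apply comap_eq_top_of_forall_notMem
      intro u hu
      exact u.2.1 (Scheme.IdealSheafData.support_antitone (sheafIdeal_mono G hk) hu)
  exact isFinLocFree_of_iso ((Scheme.Modules.restrictFunctorIsoPullback U.ι).app G).symm
    (fun x => let ⟨V, hV, e⟩ := hfree x; ⟨V, r, hV, e⟩)

/-- A quasi-coherent module of finite type is finite locally free iff all its Fitting subschemes
are open (and closed) subschemes. -/
theorem isFinLocFree_iff_isOpenImmersion_subschemeι (G : Y.Modules) [G.IsQuasicoherent]
    [G.IsFiniteType] :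
    FlatMod.IsFinLocFree G ↔ ∀ k, IsOpenImmersion (Fitt.sheafIdeal G k).subschemeι :=
  ⟨isOpenImmersion_subschemeι_of_isFinLocFree G, isFinLocFree_of_isOpenImmersion_subschemeι G⟩

section Family

variable {X S : Scheme.{u}} (f : X ⟶ S) (F : X.Modules)

/-- `F_s` is finite locally free iff all the Fitting subschemes `Z_k` of `F` have fibres `(Z_k)_s`
open in `X_s`. -/
theorem isFinLocFree_fibre_iff [F.IsQuasicoherent] [F.IsFiniteType] (s : S) :
    FlatMod.IsFinLocFree ((Scheme.Modules.pullback (f.fiberι s)).obj F) ↔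
      ∀ k, IsOpenImmersion (MoreMor.fiberMap (Fitt.sheafIdeal F k).subschemeι f s) := by
  haveI : ((Scheme.Modules.pullback (f.fiberι s)).obj F).IsQuasicoherent :=
    Groth.Agent.Lib.H72PullbackQCoh.isQuasicoherent_pullback _ F
  haveI : ((Scheme.Modules.pullback (f.fiberι s)).obj F).IsFiniteType :=
    Groth.Agent.Lib.SupportTensor.isFiniteType_pullback _ F
  rw [isFinLocFree_iff_isOpenImmersion_subschemeι]
  refine forall_congr' fun k => ?_
  rw [sheafIdeal_fibre, isOpenImmersion_fiberMap_iff]

/-- Locally on `S`, the Fitting subschemes `Z_k` of `F` are empty over `S` for large `k`. -/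
theorem exists_forall_disjoint_support [QuasiCompact f] [F.IsQuasicoherent] [F.IsFiniteType]
    (V : S.Opens) (hV : IsCompact (V : Set S)) :
    ∃ N : ℕ, ∀ k, N ≤ k → ∀ s ∈ V, s ∉ f '' ((Fitt.sheafIdeal F k).support : Set X) := by
  have hc : IsCompact (f ⁻¹' (V : Set S)) := QuasiCompact.isCompact_preimage _ V.2 hV
  obtain ⟨N, hN⟩ := hc.elim_directed_cover
    (fun N : ℕ => ((Fitt.sheafIdeal F N).support : Set X)ᶜ)
    (fun N => (Fitt.sheafIdeal F N).support.isClosed.isOpen_compl)
    (fun x _ => by
      obtain ⟨r, hr⟩ := exists_notMem_support_sheafIdeal F x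
      exact Set.mem_iUnion.mpr ⟨r, hr⟩)
    (directed_of_isDirected_le fun a b hab => Set.compl_subset_compl.mpr
      (Scheme.IdealSheafData.support_antitone (sheafIdeal_mono F hab)))
  refine ⟨N, fun k hk s hs => ?_⟩
  rintro ⟨x, hx, rfl⟩
  exact hN hs (Scheme.IdealSheafData.support_antitone (sheafIdeal_mono F hk) hx)

/-- **EGA IV 9.4.7**: the set of `s` with `F_s` finite locally free is locally constructible. -/
theorem isLocallyConstructible_setOf_fibre_isFinLocFree
    [LocallyOfFinitePresentation f] [QuasiCompact f] [QuasiSeparated f]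
    (hF : CohB1.IsFP F) :
    IsLocallyConstructible
      {s : S | FlatMod.IsFinLocFree ((Scheme.Modules.pullback (f.fiberι s)).obj F)} := by
  haveI : SheafOfModules.IsFinitePresentation (R := X.ringCatSheaf) F := hF
  haveI : F.IsQuasicoherent := inferInstance
  haveI : F.IsFiniteType := inferInstance
  haveI : ∀ k, LocallyOfFinitePresentation (Fitt.sheafIdeal F k).subschemeι :=
    lfp_subschemeι F hF
  let A : ℕ → Set S := fun k =>
    {s : S | IsOpenImmersion (MoreMor.fiberMap (Fitt.sheafIdeal F k).subschemeι f s)}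
  have hA : ∀ k, IsLocallyConstructible (A k) := fun k =>
    Groth.Agent.Lib.H77FibOpenImm.isLocallyConstructible_setOf_isOpenImmersion _ f
  have hE : {s : S | FlatMod.IsFinLocFree ((Scheme.Modules.pullback (f.fiberι s)).obj F)} =
      ⋂ k, A k := by
    ext s
    simp only [Set.mem_ofPred_eq, Set.mem_iInter, A]
    exact isFinLocFree_fibre_iff f F s
  rw [hE]
  refine IsLocallyConstructible.of_isOpenCover
    (U := fun V : S.affineOpens => V.1) ?_ (fun V => ?_)
  · rw [TopologicalSpace.IsOpenCover, eq_top_iff]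
    intro s _
    obtain ⟨_, ⟨V, hV, rfl⟩, hsV, -⟩ :=
      S.isBasis_affineOpens.exists_subset_of_mem_open (Set.mem_univ s) isOpen_univ
    exact Opens.mem_iSup.mpr ⟨⟨V, hV⟩, hsV⟩
  · obtain ⟨N, hN⟩ := exists_forall_disjoint_support f F V.1 V.2.isCompact
    have h1 : ((V.1 : Set S) ↓∩ ⋂ k, A k) = ((V.1 : Set S) ↓∩ ⋂ k : Fin N, A k) := by
      ext s
      simp only [Set.mem_preimage, Set.mem_iInter]
      refine ⟨fun h k => h k, fun h k => ?_⟩
      rcases lt_or_ge k N with hk | hk
      · exact h ⟨k, hk⟩
      · change IsOpenImmersion (MoreMor.fiberMap (Fitt.sheafIdeal F k).subschemeι f s)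
        rw [isOpenImmersion_fiberMap_iff]
        apply isOpenImmersion_subschemeι_of_eq_bot_or_top
        exact Or.inr ((comap_fiberι_eq_top_iff f _ _).mpr (hN k hk s.1 s.2))
    rw [h1]
    exact (IsLocallyConstructible.iInter fun k : Fin N => hA k).preimage_of_isOpenEmbedding
      V.1.isOpen.isOpenEmbedding_subtypeVal

end Family

end Groth.Agent.Lib.FibLocFree62
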