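import Groth.Agent.Lib.Fitting82F
import Mathlib.LinearAlgebra.Dimension.StrongRankCondition
import Mathlib.LinearAlgebra.Dimension.Finite
import Mathlib.LinearAlgebra.Basis.Basic
import Mathlib.LinearAlgebra.Matrix.Adjugate

/-!
# Fitting ideals, part G (helper82): locally free modules of rank `r`

* `ideal_mono_index`: `Fit_k(M) ≤ Fit_l(M)` for `k ≤ l`.
* `ideal_eq_bot_of_basis`: a free module of rank `r` has `Fit_k = ⊥` for `k < r`.
* `linearIndependent_of_ideal_eq_bot`: `n` generators are linearly independent when
  `Fit_{n-1}(M) = ⊥`.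
* `locallyFree_rank_iff`: `M` is locally free of rank `r` iff `Fit_k(M) = ⊥` for `k < r` and
  `Fit_k(M) = ⊤` for `k ≥ r`.
-/

set_option autoImplicit false

universe u v w

namespace Groth.Agent.Lib.Fitting82

open TensorProduct Matrix

variable {R : Type u} [CommRing R] {M : Type v} [AddCommGroup M] [Module R M]

theorem ideal_mono_index {k l : ℕ} (h : k ≤ l) : Fitt.ideal R M k ≤ Fitt.ideal R M l := by
  apply Ideal.span_mono
  rintro _ ⟨n, x, a, hx, ha, rfl⟩
  exact ⟨n, x, a, hx, fun i hi => ha i (by omega), rfl⟩

theorem ideal_eq_bot_of_basis {r : ℕ} (b : Module.Basis (Fin r) R M) (k : ℕ) (hk : k < r) :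
    Fitt.ideal R M k = ⊥ := by
  rw [ideal_eq_D k b b.span_eq, eq_bot_iff, D_le_iff]
  intro a ha
  rw [Ideal.mem_bot]
  have h0 : 0 < r := by omega
  apply det_eq_zero_of_row_eq_zero (⟨0, h0⟩ : Fin r)
  intro j
  have hrel := ha ⟨0, h0⟩ (by simp; omega)
  exact (Fintype.linearIndependent_iff.mp b.linearIndependent) _ hrel j

theorem linearIndependent_of_ideal_eq_bot {n : ℕ} (x : Fin n → M)
    (hx : Submodule.span R (Set.range x) = ⊤) (hn : 1 ≤ n)
    (h : Fitt.ideal R M (n - 1) = ⊥) : LinearIndependent R x := by
  classical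
  rw [Fintype.linearIndependent_iff]
  intro v hv j
  set z : Fin n := ⟨0, by omega⟩ with hz
  set σ : Equiv.Perm (Fin n) := Equiv.swap z j with hσ
  have hD : (D (n - 1) (x ∘ σ) : Ideal R) = ⊥ := by
    rw [D_perm, ← ideal_eq_D (n - 1) x hx, h]
  have hmem : ((1 : Matrix (Fin n) (Fin n) R).updateRow z (v ∘ σ)).det ∈
      (D (n - 1) (x ∘ σ) : Ideal R) := by
    apply det_mem_D
    intro i hi
    have hi0 : i = z := by
      apply Fin.ext
      rw [hz]
      simp only
      omega
    rw [hi0, updateRow_self]
    simp only [Function.comp]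
    rw [Equiv.sum_comp σ (fun j => v j • x j)]
    exact hv
  rw [hD, Ideal.mem_bot, ← cramer_transpose_apply, transpose_one, cramer_one] at hmem
  have : (v ∘ σ) z = 0 := hmem
  rwa [Function.comp_apply, hσ, Equiv.swap_apply_left] at this

theorem nontrivial_away_of_notMem (p : Ideal R) [p.IsPrime] (f : R) (hf : f ∉ p) :
    Nontrivial (Localization.Away f) := by
  rw [← not_subsingleton_iff_nontrivial, IsLocalization.subsingleton_iff (M := Submonoid.powers f)]
  rintro ⟨n, hn⟩
  apply hf
  apply Ideal.IsPrime.mem_of_pow_mem inferInstance n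
  have hn' : f ^ n = 0 := hn
  rw [hn']
  exact p.zero_mem

/-- A finite module is locally free of rank `r` iff its Fitting ideals are `⊥` below `r` and `⊤`
from `r` on. -/
theorem locallyFree_rank_iff [Module.Finite R M] (r : ℕ) :
    (∀ (p : Ideal R) [p.IsPrime], ∃ f : R, f ∉ p ∧
      Module.Free (Localization.Away f) (LocalizedModule (Submonoid.powers f) M) ∧
        Module.finrank (Localization.Away f) (LocalizedModule (Submonoid.powers f) M) = r) ↔
    ((∀ k, k < r → Fitt.ideal R M k = ⊥) ∧ (∀ k, r ≤ k → Fitt.ideal R M k = ⊤)) := by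
  constructor
  · intro h
    -- local bases
    have hbasis : ∀ (p : Ideal R) [p.IsPrime], ∃ f : R, f ∉ p ∧
        Nonempty (Module.Basis (Fin r) (Localization.Away f)
          (LocalizedModule (Submonoid.powers f) M)) := by
      intro p _
      obtain ⟨f, hf, hfree, hrank⟩ := h p
      haveI := nontrivial_away_of_notMem p f hf
      haveI := hfree
      exact ⟨f, hf, ⟨Module.finBasisOfFinrankEq _ _ hrank⟩⟩
    constructor
    · intro k hk
      rw [eq_bot_iff]
      intro d hd
      rw [Ideal.mem_bot]
      by_contra hd0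
      -- the annihilator of `d` is proper
      have hne : (Ideal.span {d}).annihilator ≠ ⊤ := by
        intro htop
        apply hd0
        have : (1 : R) ∈ (Ideal.span {d}).annihilator := by rw [htop]; trivial
        rw [Submodule.mem_annihilator_span_singleton] at this
        simpa using this
      obtain ⟨p, hp, hle⟩ := Ideal.exists_le_maximal _ hne
      haveI : p.IsPrime := hp.isPrime
      obtain ⟨f, hf, ⟨b⟩⟩ := hbasis p
      have h1 := ideal_localizedModule (M := M) (Submonoid.powers f) k
      rw [ideal_eq_bot_of_basis b k hk] at h1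
      have h2 : algebraMap R (Localization.Away f) d = 0 := by
        have : algebraMap R (Localization.Away f) d ∈
            (Fitt.ideal R M k).map (algebraMap R (Localization.Away f)) :=
          Ideal.mem_map_of_mem _ hd
        rw [← h1] at this
        exact this
      obtain ⟨⟨_, n, rfl⟩, hn⟩ :=
        (IsLocalization.map_eq_zero_iff (Submonoid.powers f) (Localization.Away f) d).mp h2
      have h3 : f ^ n ∈ (Ideal.span {d}).annihilator := by
        rw [Submodule.mem_annihilator_span_singleton]
        exact hn
      exact hf (Ideal.IsPrime.mem_of_pow_mem inferInstance n (hle h3))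
    · intro k hk
      by_contra hne
      obtain ⟨p, hp, hle⟩ := Ideal.exists_le_maximal _ hne
      haveI : p.IsPrime := hp.isPrime
      obtain ⟨f, hf, ⟨b⟩⟩ := hbasis p
      have h1 : ¬ Fitt.ideal R M r ≤ p :=
        (not_le_iff_exists_span_away r p).mpr ⟨f, hf, b, b.span_eq⟩
      exact h1 ((ideal_mono_index hk).trans hle)
  · rintro ⟨hbot, htop⟩ p _
    have hr : ¬ Fitt.ideal R M r ≤ p := by
      rw [htop r le_rfl]
      intro h
      exact (inferInstance : p.IsPrime).ne_top (top_le_iff.mp h)
    obtain ⟨f, hf, g, hg⟩ := (not_le_iff_exists_span_away r p).mp hr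
    refine ⟨f, hf, ?_⟩
    haveI := nontrivial_away_of_notMem p f hf
    rcases Nat.eq_zero_or_pos r with hr0 | hrpos
    · subst hr0
      haveI : Subsingleton (LocalizedModule (Submonoid.powers f) M) := by
        have : (⊤ : Submodule (Localization.Away f) (LocalizedModule (Submonoid.powers f) M)) = ⊥ := by
          rw [← hg]
          simp
        exact (Submodule.subsingleton_iff _).mp (subsingleton_of_bot_eq_top this.symm)
      exact ⟨Module.Free.of_subsingleton _ _, Module.finrank_zero_of_subsingleton⟩
    · have h1 := ideal_localizedModule (M := M) (Submonoid.powers f) (r - 1)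
      rw [hbot (r - 1) (by omega), Ideal.map_bot] at h1
      have hli := linearIndependent_of_ideal_eq_bot g hg hrpos h1
      let b : Module.Basis (Fin r) (Localization.Away f) (LocalizedModule (Submonoid.powers f) M) :=
        Module.Basis.mk hli hg.ge
      refine ⟨Module.Free.of_basis b, ?_⟩
      rw [Module.finrank_eq_card_basis b, Fintype.card_fin]

end Groth.Agent.Lib.Fitting82
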