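import Groth.Agent.Lib.TFunRank2
import Groth.Agent.Lib.Fitting82G
import Mathlib.RingTheory.LocalProperties.Reduced
import Mathlib.RingTheory.Flat.Localization

set_option autoImplicit false
universe u

namespace Groth.Agent.Lib.TFunRank

open TensorProduct

variable {A : Type u} [CommRing A]

/-- `Fit_k(N) ≤ q` when the fibre rank at `q` exceeds `k`. -/
theorem fitt_le_of_lt_fibRank (N : Type u) [AddCommGroup N] [Module A N] [Module.Finite A N]
    (k : ℕ) (q : PrimeSpectrum A) (h : k < fibRank N q) : Fitt.ideal A N k ≤ q.asIdeal := by
  by_contra hcon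
  have := (Groth.Agent.Lib.Fitting82.not_le_iff_finrank_le k q.asIdeal).mp hcon
  unfold fibRank at h
  omega

theorem not_fitt_le_of_fibRank_le (N : Type u) [AddCommGroup N] [Module A N] [Module.Finite A N]
    (k : ℕ) (q : PrimeSpectrum A) (h : fibRank N q ≤ k) : ¬ Fitt.ideal A N k ≤ q.asIdeal :=
  (Groth.Agent.Lib.Fitting82.not_le_iff_finrank_le k q.asIdeal).mpr h

/-- Over a reduced ring, a finite module whose fibre rank is the same at `m` and at all its
generizations is free after localizing at `m`. -/
theorem free_localizedModule_of_fibRank_eq [IsReduced A] (N : Type u) [AddCommGroup N]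
    [Module A N] [Module.Finite A N] (m : PrimeSpectrum A)
    (h : ∀ q : PrimeSpectrum A, q.asIdeal ≤ m.asIdeal → fibRank N q = fibRank N m) :
    Module.Free (Localization.AtPrime m.asIdeal) (LocalizedModule m.asIdeal.primeCompl N) := by
  obtain ⟨g, hg⟩ := (Groth.Agent.Lib.Fitting82.not_le_iff_exists_span_atPrime (fibRank N m)
    m.asIdeal).mp (not_fitt_le_of_fibRank_le N _ m le_rfl)
  rcases Nat.eq_zero_or_pos (fibRank N m) with h0 | hpos
  · have hsub : Subsingleton (LocalizedModule m.asIdeal.primeCompl N) := by
      have hempty : Set.range g = ∅ := by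
        rw [Set.range_eq_empty_iff]
        rw [h0]
        infer_instance
      rw [hempty, Submodule.span_empty] at hg
      exact (Submodule.subsingleton_iff (Localization.AtPrime m.asIdeal)).mp
        (subsingleton_of_bot_eq_top hg)
    exact Module.Free.of_subsingleton _ _
  · have hbot : Fitt.ideal (Localization.AtPrime m.asIdeal)
        (LocalizedModule m.asIdeal.primeCompl N) (fibRank N m - 1) = ⊥ := by
      rw [Groth.Agent.Lib.Fitting82.ideal_localizedModule, eq_bot_iff, Ideal.map_le_iff_le_comap]
      intro a ha
      rw [Ideal.mem_comap, Ideal.mem_bot]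
      have hnil : algebraMap A (Localization.AtPrime m.asIdeal) a ∈
          nilradical (Localization.AtPrime m.asIdeal) := by
        rw [nilradical_eq_sInf, Ideal.mem_sInf]
        intro Q hQ
        have hQ' : Q.IsPrime := hQ
        let q : PrimeSpectrum A :=
          ⟨Q.comap (algebraMap A (Localization.AtPrime m.asIdeal)), inferInstance⟩
        have hqm : q.asIdeal ≤ m.asIdeal := by
          have h1 := IsLocalRing.le_maximalIdeal_of_isPrime Q
          have h2 := Ideal.comap_mono (f := algebraMap A (Localization.AtPrime m.asIdeal)) h1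
          have h3 : Ideal.comap (algebraMap A (Localization.AtPrime m.asIdeal))
              (IsLocalRing.maximalIdeal (Localization.AtPrime m.asIdeal)) = m.asIdeal :=
            Localization.AtPrime.under_maximalIdeal
          rwa [h3] at h2
        have h4 := fitt_le_of_lt_fibRank N (fibRank N m - 1) q (by rw [h q hqm]; omega)
        exact h4 ha
      rw [nilradical_eq_zero] at hnil
      exact hnil
    have li := Groth.Agent.Lib.Fitting82.linearIndependent_of_ideal_eq_bot g hg hpos hbot
    exact Module.Free.of_basis (Module.Basis.mk li (by rw [hg]))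

/-- For an upper semicontinuous function, values can only go up under specialization. -/
theorem le_of_specializes {X : Type*} [TopologicalSpace X] (f : X → ℕ)
    (hf : UpperSemicontinuous f) {x y : X} (h : x ⤳ y) : f x ≤ f y := by
  have hopen : IsOpen (f ⁻¹' Set.Iio (f y + 1)) :=
    (upperSemicontinuous_iff_isOpen_preimage.mp hf) _
  have hx : x ∈ f ⁻¹' Set.Iio (f y + 1) := h.mem_open hopen (Nat.lt_succ_self _)
  exact Nat.lt_succ_iff.mp hx

/-- Flatness from freeness of the localizations at maximal ideals. -/
theorem flat_of_forall_free_localizedModule (N : Type u) [AddCommGroup N] [Module A N]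
    (h : ∀ (m : Ideal A) [m.IsMaximal],
      Module.Free (Localization.AtPrime m) (LocalizedModule m.primeCompl N)) :
    Module.Flat A N := by
  apply Module.flat_of_localized_maximal
  intro m hm
  have := h m
  exact Module.Flat.trans A (Localization.AtPrime m) (LocalizedModule m.primeCompl N)

/-- Over a reduced ring, a finite module with locally constant fibre rank is flat. -/
theorem flat_of_isLocallyConstant_fibRank [IsReduced A] (N : Type u) [AddCommGroup N]
    [Module A N] [Module.Finite A N] (h : IsLocallyConstant (fibRank (A := A) N)) :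
    Module.Flat A N := by
  apply flat_of_forall_free_localizedModule
  intro m hm
  refine free_localizedModule_of_fibRank_eq N ⟨m, hm.isPrime⟩ (fun q hq => ?_)
  have hspec : q ⤳ (⟨m, hm.isPrime⟩ : PrimeSpectrum A) :=
    (PrimeSpectrum.le_iff_specializes q ⟨m, hm.isPrime⟩).mp hq
  have hopen : IsOpen {x | fibRank (A := A) N x = fibRank N ⟨m, hm.isPrime⟩} :=
    h.isOpen_fiber _
  exact hspec.mem_open hopen rfl

/-- Over a reduced local ring, a finite module whose fibre rank at every minimal prime equals the
rank at the closed point is flat. -/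
theorem flat_of_fibRank_eq_minimalPrimes [IsLocalRing A] [IsReduced A] (N : Type u)
    [AddCommGroup N] [Module A N] [Module.Finite A N]
    (h : ∀ q : PrimeSpectrum A, q.asIdeal ∈ minimalPrimes A →
      fibRank N q = fibRank N (IsLocalRing.closedPoint A)) :
    Module.Flat A N := by
  apply flat_of_forall_free_localizedModule
  intro m hm
  obtain rfl : m = IsLocalRing.maximalIdeal A := IsLocalRing.eq_maximalIdeal hm
  refine free_localizedModule_of_fibRank_eq N (IsLocalRing.closedPoint A) (fun q hq => ?_)
  obtain ⟨q₀, hq₀, hle⟩ := Ideal.exists_minimalPrimes_le (I := ⊥) (J := q.asIdeal) bot_le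
  have hq₀' : q₀.IsPrime := hq₀.1.1
  have h1 := h ⟨q₀, hq₀'⟩ hq₀
  have husc := upperSemicontinuous_fibRank (A := A) N
  have h2 : fibRank N ⟨q₀, hq₀'⟩ ≤ fibRank N q :=
    le_of_specializes _ husc ((PrimeSpectrum.le_iff_specializes ⟨q₀, hq₀'⟩ q).mp hle)
  have h3 : fibRank N q ≤ fibRank N (IsLocalRing.closedPoint A) :=
    le_of_specializes _ husc ((PrimeSpectrum.le_iff_specializes q _).mp hq)
  omega

end Groth.Agent.Lib.TFunRank
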