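import Groth.Agent.Lib.TFunRank

set_option autoImplicit false
universe u v

namespace Groth.Agent.Lib.FibRankUniv

open TensorProduct Groth.Agent.Lib.TFunRank

variable {A : Type u} [CommRing A]

/-- Universe-polymorphic upper semicontinuity of the fibre dimension of a finite module. -/
theorem upperSemicontinuous_finrank_tensor (M : Type v) [AddCommGroup M] [Module A M]
    [Module.Finite A M] :
    UpperSemicontinuous (fun x : PrimeSpectrum A =>
      Module.finrank x.asIdeal.ResidueField (x.asIdeal.ResidueField ⊗[A] M)) := by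
  obtain ⟨n, π, hπ⟩ := Module.Finite.exists_fin' A M
  let N : Type u := (Fin n → A) ⧸ LinearMap.ker π
  let e : N ≃ₗ[A] M := π.quotKerEquivOfSurjective hπ
  have h := upperSemicontinuous_fibRank (A := A) N
  have heq : (fun x : PrimeSpectrum A =>
      Module.finrank x.asIdeal.ResidueField (x.asIdeal.ResidueField ⊗[A] M)) =
      fibRank (A := A) N := by
    funext x
    exact (LinearEquiv.finrank_eq (TensorProduct.AlgebraTensorModule.congr
      (LinearEquiv.refl x.asIdeal.ResidueField x.asIdeal.ResidueField) e)).symm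
  rw [heq]
  exact h

section field

variable (κ : Type*) [Field κ] [Algebra A κ] {M F : Type v} [AddCommGroup M] [Module A M]
  [AddCommGroup F] [Module A F] (δ : M →ₗ[A] F)

theorem ker_mkQ_baseChange :
    LinearMap.ker ((LinearMap.range δ).mkQ.baseChange κ) = LinearMap.range (δ.baseChange κ) := by
  have hex : Function.Exact (δ.lTensor κ) ((LinearMap.range δ).mkQ.lTensor κ) :=
    lTensor_exact κ (LinearMap.exact_map_mkQ_range δ) (Submodule.mkQ_surjective _)
  ext x
  rw [LinearMap.mem_ker, LinearMap.mem_range]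
  constructor
  · intro h
    obtain ⟨y, hy⟩ := (hex x).mp h
    exact ⟨y, hy⟩
  · rintro ⟨y, hy⟩
    exact (hex x).mpr ⟨y, hy⟩

/-- The cokernel of the base change is the base change of the cokernel. -/
noncomputable def cokerBaseChangeEquiv :
    ((κ ⊗[A] F) ⧸ LinearMap.range (δ.baseChange κ)) ≃ₗ[κ] κ ⊗[A] (F ⧸ LinearMap.range δ) :=
  Submodule.quotEquivOfEq _ _ (ker_mkQ_baseChange κ δ).symm ≪≫ₗ
    ((LinearMap.range δ).mkQ.baseChange κ).quotKerEquivOfSurjective
      (LinearMap.lTensor_surjective κ (Submodule.mkQ_surjective _))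

theorem finrank_ker_baseChange_add [Module.Finite A M] [Module.Finite A F] :
    Module.finrank κ (LinearMap.ker (δ.baseChange κ)) + Module.finrank κ (κ ⊗[A] F) =
      Module.finrank κ (κ ⊗[A] M) + Module.finrank κ (κ ⊗[A] (F ⧸ LinearMap.range δ)) := by
  have h1 := LinearMap.finrank_range_add_finrank_ker (δ.baseChange κ)
  have h2 := Submodule.finrank_quotient_add_finrank (LinearMap.range (δ.baseChange κ))
  have h3 := (cokerBaseChangeEquiv κ δ).finrank_eq
  omega

theorem finrank_range_baseChange_add [Module.Finite A F] :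
    Module.finrank κ (LinearMap.range (δ.baseChange κ)) +
      Module.finrank κ (κ ⊗[A] (F ⧸ LinearMap.range δ)) = Module.finrank κ (κ ⊗[A] F) := by
  have h2 := Submodule.finrank_quotient_add_finrank (LinearMap.range (δ.baseChange κ))
  have h3 := (cokerBaseChangeEquiv κ δ).finrank_eq
  omega

end field

theorem lowerSemicontinuous_of_add_eq {X : Type*} [TopologicalSpace X] (f b r : X → ℕ)
    (h : ∀ x, f x + b x = r x) (hb : UpperSemicontinuous b)
    (hr : IsLocallyConstant r) : LowerSemicontinuous f := by
  intro x₀ y hy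
  have h2 : ∀ᶠ x in nhds x₀, b x < b x₀ + 1 := hb x₀ _ (Nat.lt_succ_self _)
  have h3 : ∀ᶠ x in nhds x₀, r x = r x₀ := hr.eventually_eq x₀
  filter_upwards [h2, h3] with x hx2 hx3
  have := h x
  have := h x₀
  omega

end Groth.Agent.Lib.FibRankUniv
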