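import Groth.Agent.Lib.H30DimField
import Mathlib

/-!
helper30: ring-level consequences of `Lib/H30DimField` for a finite type algebra `S` over a field
`k`, with `X = Spec S`.
-/

set_option autoImplicit false
universe u

namespace Groth.Agent.Lib.H30DimFieldRing

open Groth.Agent.Lib.H30DimField AlgebraicGeometry CategoryTheory

section Top

theorem localDim_mono {Y : Type u} [TopologicalSpace Y] {x y : Y} (h : x ⤳ y) :
    FlatMor.localDim Y x ≤ FlatMor.localDim Y y := by
  unfold FlatMor.localDim
  refine le_iInf fun U => ?_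
  exact iInf_le (fun U : {U : TopologicalSpace.Opens Y // x ∈ U} =>
    topologicalKrullDim (U.1 : Set Y)) ⟨U.1, h.mem_open U.1.isOpen U.2⟩

end Top

section Sch

variable (k : Type u) [Field k] (X : Scheme.{u}) [X.Over (Spec (CommRingCat.of k))]
  [LocallyOfFiniteType (X ↘ Spec (CommRingCat.of k))]

include k in
theorem localDim_closed (c : X) (hc : IsClosed ({c} : Set X)) :
    FlatMor.localDim X c = ringKrullDim (X.presheaf.stalk c) := by
  rw [localDim_eq k X c, td_eq_zero_of_isClosed k X c hc]
  simp

include k in
/-- there is a closed point in the closure of `x` at which the local dimension is not bigger -/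
theorem exists_closed_localDim_le (x : X) : ∃ c : X, x ⤳ c ∧ IsClosed ({c} : Set X) ∧
    FlatMor.localDim X c ≤ FlatMor.localDim X x := by
  obtain ⟨U, hU, hxU, hle⟩ := exists_open_dim_le k X x
  obtain ⟨c, hcU, hxc, hc⟩ := exists_closed_point k X x U hU hxU
  refine ⟨c, hxc, hc, ?_⟩
  rw [localDim_eq k X x]
  refine le_trans ?_ hle
  exact iInf_le (fun U : {U : TopologicalSpace.Opens X // c ∈ U} =>
    topologicalKrullDim (U.1 : Set X)) ⟨⟨U, hU⟩, hcU⟩

end Sch

section
variable (k S : Type u) [Field k] [CommRing S] [Algebra k S]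

/-- `Spec S` as a scheme over `Spec k` -/
@[instance_reducible]
noncomputable def specOver : (Spec (CommRingCat.of S)).Over (Spec (CommRingCat.of k)) :=
  ⟨Spec.map (CommRingCat.ofHom (algebraMap k S))⟩

theorem lft [Algebra.FiniteType k S] :
    letI := specOver k S
    LocallyOfFiniteType (Spec (CommRingCat.of S) ↘ Spec (CommRingCat.of k)) := by
  letI := specOver k S
  show LocallyOfFiniteType (Spec.map (CommRingCat.ofHom (algebraMap k S)))
  rw [HasRingHomProperty.Spec_iff (P := @LocallyOfFiniteType)]
  exact RingHom.finiteType_algebraMap.mpr inferInstance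

variable {S}

set_option backward.isDefEq.respectTransparency.types false in
theorem resMap_spec (x : Spec (CommRingCat.of S)) (a : k) :
    letI := specOver k S
    Curv2.resMap k (Spec (CommRingCat.of S)) x a =
      (Scheme.Spec.residueFieldIso (CommRingCat.of S) x).inv.hom
        (algebraMap S x.asIdeal.ResidueField (algebraMap k S a)) := by
  letI := specOver k S
  have h1 := Scheme.ΓSpecIso_inv_naturality (CommRingCat.ofHom (algebraMap k S))
  have h2 := Scheme.Spec.algebraMap_residueFieldIso_inv (CommRingCat.of S) x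
  have h1' := congrArg (fun φ => φ.hom a) h1
  have h2' := congrArg (fun φ => φ.hom (algebraMap k S a)) h2
  simp only [CommRingCat.hom_comp, RingHom.comp_apply, CommRingCat.hom_ofHom] at h1' h2'
  rw [h2', h1']
  rfl

set_option backward.isDefEq.respectTransparency.types false in
theorem td_spec (x : Spec (CommRingCat.of S)) (r : ℕ)
    (hr : Algebra.trdeg k x.asIdeal.ResidueField = r) :
    letI := specOver k S
    td k (Spec (CommRingCat.of S)) x = r := by
  letI := specOver k S
  apply td_eq_of_trdeg_eq
  rw [← hr]
  letI := Curv2.resAlgebra k (Spec (CommRingCat.of S)) x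
  refine Groth.Agent.Lib.TrdegTransfer.trdeg_eq_of_ringEquiv (RingEquiv.refl k)
    (Scheme.Spec.residueFieldIso (CommRingCat.of S) x).commRingCatIsoToRingEquiv ?_
  intro a
  show (Scheme.Spec.residueFieldIso (CommRingCat.of S) x).hom.hom
    (Curv2.resMap k (Spec (CommRingCat.of S)) x a) = _
  rw [resMap_spec]
  have := (Scheme.Spec.residueFieldIso (CommRingCat.of S) x).inv_hom_id
  have h3 := congrArg (fun φ => φ.hom (algebraMap S x.asIdeal.ResidueField (algebraMap k S a))) this
  simp only [CommRingCat.hom_comp, RingHom.comp_apply] at h3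
  rw [h3]
  simp only [CommRingCat.hom_id, RingHom.id_apply, RingEquiv.refl_apply]
  exact (IsScalarTower.algebraMap_apply k S x.asIdeal.ResidueField a).symm

set_option backward.isDefEq.respectTransparency.types false in
theorem dim_stalk_spec (x : Spec (CommRingCat.of S)) :
    ringKrullDim ((Spec (CommRingCat.of S)).presheaf.stalk x) =
      ringKrullDim (Localization.AtPrime x.asIdeal) := by
  exact ringKrullDim_eq_of_ringEquiv
    (Spec.stalkIso (CommRingCat.of S) x).commRingCatIsoToRingEquiv

end

/-- **Local dimension of `Spec S`** for `S` of finite type over a field `k`: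
`dim_𝔭 Spec S = dim S_𝔭 + trdeg_k κ(𝔭)`. -/
theorem localDim_primeSpectrum {k S : Type u} [Field k] [CommRing S] [Algebra k S]
    [Algebra.FiniteType k S]
    (p : Ideal S) [p.IsPrime] (r : ℕ) (hr : Algebra.trdeg k p.ResidueField = r) :
    FlatMor.localDim (PrimeSpectrum S) ⟨p, inferInstance⟩ =
      ringKrullDim (Localization.AtPrime p) + (r : WithBot ℕ∞) := by
  letI := specOver k S
  haveI := lft k S
  let x : Spec (CommRingCat.of S) := (⟨p, inferInstance⟩ : PrimeSpectrum S)
  have h := localDim_eq k (Spec (CommRingCat.of S)) x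
  rw [td_spec k x r hr, dim_stalk_spec x, Int.toNat_natCast] at h
  exact h

/-- at a maximal ideal the local dimension is the dimension of the local ring -/
theorem localDim_primeSpectrum_maximal {k S : Type u} [Field k] [CommRing S] [Algebra k S]
    [Algebra.FiniteType k S] (m : Ideal S) [hm : m.IsMaximal] :
    FlatMor.localDim (PrimeSpectrum S) ⟨m, hm.isPrime⟩ =
      ringKrullDim (Localization.AtPrime m) := by
  letI := specOver k S
  haveI := lft k S
  let x : Spec (CommRingCat.of S) := (⟨m, hm.isPrime⟩ : PrimeSpectrum S)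
  have hx : IsClosed ({x} : Set (Spec (CommRingCat.of S))) :=
    (PrimeSpectrum.isClosed_singleton_iff_isMaximal (⟨m, hm.isPrime⟩ : PrimeSpectrum S)).mpr hm
  have h := localDim_closed k (Spec (CommRingCat.of S)) x hx
  rw [dim_stalk_spec x] at h
  exact h

/-- the local dimension at `𝔭` is the infimum of `dim S_𝔪` over the maximal ideals `𝔪 ⊇ 𝔭` -/
theorem localDim_primeSpectrum_eq_iInf {k S : Type u} [Field k] [CommRing S] [Algebra k S]
    [Algebra.FiniteType k S] (p : Ideal S) [p.IsPrime] :
    FlatMor.localDim (PrimeSpectrum S) ⟨p, inferInstance⟩ =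
      ⨅ m : {m : Ideal S // m.IsMaximal ∧ p ≤ m},
        ringKrullDim (Localization.AtPrime (hp := m.2.1.isPrime') m.1) := by
  apply le_antisymm
  · refine le_iInf fun m => ?_
    haveI := m.2.1
    rw [← localDim_primeSpectrum_maximal (k := k) m.1]
    apply localDim_mono
    exact (PrimeSpectrum.le_iff_specializes (⟨p, inferInstance⟩ : PrimeSpectrum S)
      ⟨m.1, m.2.1.isPrime⟩).mp m.2.2
  · letI := specOver k S
    haveI := lft k S
    let x : Spec (CommRingCat.of S) := (⟨p, inferInstance⟩ : PrimeSpectrum S)
    obtain ⟨c, hxc, hc, hle⟩ := exists_closed_localDim_le k (Spec (CommRingCat.of S)) x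
    have hmax : (c : PrimeSpectrum S).asIdeal.IsMaximal :=
      (PrimeSpectrum.isClosed_singleton_iff_isMaximal (c : PrimeSpectrum S)).mp hc
    have hpc : p ≤ (c : PrimeSpectrum S).asIdeal :=
      (PrimeSpectrum.le_iff_specializes (⟨p, inferInstance⟩ : PrimeSpectrum S) c).mpr hxc
    refine le_trans (iInf_le _ ⟨(c : PrimeSpectrum S).asIdeal, hmax, hpc⟩) ?_
    refine le_trans (le_of_eq ?_) hle
    exact (localDim_primeSpectrum_maximal (k := k) (c : PrimeSpectrum S).asIdeal).symm

end Groth.Agent.Lib.H30DimFieldRing
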