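import Groth.Agent.Lib.H79FlatGenFibDimRing
import Groth.Agent.Lib.H56LocDimRing
import Groth.Agent.Lib.CMQF33b
import Groth.Agent.Lib.GenericFibrePoint2
import Groth.Agent.Lib.H30DimFieldRing
import Groth.Agent.Lib.H8LCICM2
import Groth.Agent.Lib.CIOver1

/-!
# Regular sequences in fibre local rings of a map with CM equidimensional fibres (helper89)

Namespace `Groth.Agent.Lib.FibRegOpen89`.

* `localDim_eq_of_equidim` : for `F` of finite type over a field, CM and equidimensional of dimension
  `d`, the local dimension of `Spec F` at every point is `d`.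
* `fibLocDim_eq_of_equidim` : for `R → S` of finite type with CM, equidimensional fibres of
  dimension `d`, the fibre local dimension is `d` at every prime.
* `isCM_fibLocRing` : the fibre local rings `S_q/pS_q` are then CM local rings.
* `ringKrullDim_fibLocRing_quotient` : `dim FibLocRing R (S/I) q' = dim (FibLocRing R S q)/I`.
* `trdeg_quotient_eq` : residue transcendence degrees agree for `S` and `S/I`.
* `isRegular_iff_fibLocDim` : the criterion: `f` is a regular sequence in `S_q/pS_q` iff the fibre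
  of `S/(f)` has local dimension `d - |f|` at `q`.
* `exists_isOpen_isRegular` : openness (Stacks 00RF-type statement).
-/

set_option autoImplicit false
set_option linter.style.haveILetI false
universe u

namespace Groth.Agent.Lib.FibRegOpen89

open LocCoh IsLocalRing RingTheory.Sequence Groth.Agent.Lib.H56LocDim TensorProduct

section field

variable (k F : Type u) [Field k] [CommRing F] [Algebra k F] [Algebra.FiniteType k F]
  [IsCohenMacaulayRing F] (d : ℕ) (heq : ∀ P ∈ minimalPrimes F, ringKrullDim (F ⧸ P) = d)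

include k heq in
theorem localDim_eq_of_equidim (Q : Ideal F) [Q.IsPrime] :
    FlatMor.localDim (PrimeSpectrum F) ⟨Q, inferInstance⟩ = d := by
  rw [Groth.Agent.Lib.H30DimFieldRing.localDim_primeSpectrum_eq_iInf (k := k) Q]
  obtain ⟨m, hm, hQm⟩ := Ideal.exists_le_maximal Q (Ideal.IsPrime.ne_top inferInstance)
  have key : ∀ m : {m : Ideal F // m.IsMaximal ∧ Q ≤ m},
      ringKrullDim (Localization.AtPrime (hp := m.2.1.isPrime') m.1) = d := by
    intro m
    haveI := m.2.1
    haveI : m.1.IsPrime := m.2.1.isPrime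
    rw [IsLocalization.AtPrime.ringKrullDim_eq_height m.1]
    have h := Groth.Agent.Lib.H8LCICM.height_add_ringKrullDim_quotient_of_equidim k F d heq m.1
    have h0 : ringKrullDim (F ⧸ m.1) = 0 := by
      letI := Ideal.Quotient.field m.1
      exact ringKrullDim_eq_zero_of_field _
    rwa [h0, add_zero] at h
  haveI : Nonempty {m : Ideal F // m.IsMaximal ∧ Q ≤ m} := ⟨⟨m, hm, hQm⟩⟩
  simp_rw [key]
  exact ciInf_const

end field

section ring

variable (R S : Type u) [CommRing R] [CommRing S] [Algebra R S] [Algebra.FiniteType R S] (d : ℕ)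
  (hCM : ∀ p : PrimeSpectrum R, LocCoh.IsCohenMacaulayRing (p.asIdeal.Fiber S))
  (heq : ∀ p : PrimeSpectrum R, ∀ P ∈ minimalPrimes (p.asIdeal.Fiber S),
      ringKrullDim (p.asIdeal.Fiber S ⧸ P) = (d : WithBot ℕ∞))

include hCM heq in
theorem fibLocDim_eq_of_equidim (q : Ideal S) [q.IsPrime] :
    fibLocDim (PrimeSpectrum.comap (algebraMap R S)) ⟨q, inferInstance⟩ = d := by
  obtain ⟨Q, hQprime, hQ⟩ := Groth.Agent.Lib.CMQF33.exists_fiber_prime (q.under R) q rfl
  have h1 := fibLocDim_eq_localDim_fiber (R := R) (S := S) ⟨q.under R, inferInstance⟩ ⟨Q, hQprime⟩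
  have hpt : PrimeSpectrum.comap (Algebra.TensorProduct.includeRight.toRingHom :
      S →+* (q.under R).Fiber S) ⟨Q, hQprime⟩ = ⟨q, inferInstance⟩ := PrimeSpectrum.ext hQ
  rw [hpt] at h1
  rw [h1]
  haveI := hCM ⟨q.under R, inferInstance⟩
  exact localDim_eq_of_equidim (q.under R).ResidueField _ d (heq ⟨q.under R, inferInstance⟩) Q

include hCM in
omit [Algebra.FiniteType R S] in
theorem isCM_fibLocRing_aux (p : Ideal R) [p.IsPrime] (q : Ideal S) [q.IsPrime]
    (hq : q.under R = p) :
    IsCohenMacaulayLocalRing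
      (Localization.AtPrime q ⧸ p.map (algebraMap R (Localization.AtPrime q))) := by
  obtain ⟨Q, hQ, rfl⟩ := Groth.Agent.Lib.CMQF33.exists_fiber_prime p q hq
  haveI := hCM ⟨p, inferInstance⟩
  have h1 : IsCohenMacaulayLocalRing (Localization.AtPrime Q) :=
    IsCohenMacaulayRing.isCohenMacaulayLocalRing_localization Q
  exact (Groth.Agent.Lib.CMQF33.isCM_localization_fiber_iff p Q).mp h1

include hCM in
omit [Algebra.FiniteType R S] in
theorem isCM_fibLocRing (q : Ideal S) [q.IsPrime] :
    IsCohenMacaulayLocalRing (EGA4.FibLocRing R S q) :=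
  isCM_fibLocRing_aux R S hCM (q.under R) q rfl

end ring

section quotient

variable (R : Type u) {S : Type u} [CommRing R] [CommRing S] [Algebra R S] (I : Ideal S)
  (q' : Ideal (S ⧸ I)) [q'.IsPrime]

/-- the fibre local ring of `S/I` at `q'` has the dimension of the quotient by `I` of the fibre
local ring of `S` at the preimage of `q'`. -/
theorem ringKrullDim_fibLocRing_quotient [hq : (q'.comap (Ideal.Quotient.mk I)).IsPrime] :
    ringKrullDim (EGA4.FibLocRing R (S ⧸ I) q') =
      ringKrullDim (EGA4.FibLocRing R S (q'.comap (Ideal.Quotient.mk I)) ⧸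
        I.map (algebraMap S (EGA4.FibLocRing R S (q'.comap (Ideal.Quotient.mk I))))) := by
  let q := q'.comap (Ideal.Quotient.mk I)
  let Sq := Localization.AtPrime q
  let p := q'.comap (algebraMap R (S ⧸ I))
  have hp : (q.comap (algebraMap R S)) = p := rfl
  let e₁ := Groth.Agent.Lib.CIOver.locQuotAlgEquiv R I q'
  -- step 1
  have h1 : p.map (algebraMap R (Sq ⧸ I.map (algebraMap S Sq))) =
      (p.map (algebraMap R (Localization.AtPrime q'))).map (e₁ : Localization.AtPrime q' →+* _) := by
    rw [Ideal.map_map]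
    congr 1
    ext x
    exact (e₁.commutes x).symm
  let e₂ := Ideal.quotientEquiv (p.map (algebraMap R (Localization.AtPrime q')))
    (p.map (algebraMap R (Sq ⧸ I.map (algebraMap S Sq)))) e₁.toRingEquiv h1
  -- step 2
  have h2 : p.map (algebraMap R (Sq ⧸ I.map (algebraMap S Sq))) =
      (p.map (algebraMap R Sq)).map (Ideal.Quotient.mk (I.map (algebraMap S Sq))) := by
    rw [Ideal.map_map]
    rfl
  let e₃ := DoubleQuot.quotQuotEquivComm (I.map (algebraMap S Sq)) (p.map (algebraMap R Sq))
  have h3 : (I.map (algebraMap S Sq)).map (Ideal.Quotient.mk (p.map (algebraMap R Sq))) =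
      I.map (algebraMap S (Sq ⧸ p.map (algebraMap R Sq))) := by
    rw [Ideal.map_map]
    rfl
  calc ringKrullDim (EGA4.FibLocRing R (S ⧸ I) q')
      = ringKrullDim ((Sq ⧸ I.map (algebraMap S Sq)) ⧸
          p.map (algebraMap R (Sq ⧸ I.map (algebraMap S Sq)))) := ringKrullDim_eq_of_ringEquiv e₂
    _ = ringKrullDim ((Sq ⧸ I.map (algebraMap S Sq)) ⧸
          (p.map (algebraMap R Sq)).map (Ideal.Quotient.mk (I.map (algebraMap S Sq)))) :=
        ringKrullDim_eq_of_ringEquiv (Ideal.quotEquivOfEq h2)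
    _ = ringKrullDim ((Sq ⧸ p.map (algebraMap R Sq)) ⧸
          (I.map (algebraMap S Sq)).map (Ideal.Quotient.mk (p.map (algebraMap R Sq)))) :=
        ringKrullDim_eq_of_ringEquiv e₃
    _ = _ := ringKrullDim_eq_of_ringEquiv (Ideal.quotEquivOfEq h3)

omit [q'.IsPrime] in
theorem trdeg_quotient_eq_aux (q : Ideal S) [q.IsPrime] (hq : q'.comap (Ideal.Quotient.mk I) = q)
    (p : Ideal R) [q.LiesOver p] [q'.LiesOver p] :
    Algebra.trdeg (R ⧸ p) ((S ⧸ I) ⧸ q') = Algebra.trdeg (R ⧸ p) (S ⧸ q) := by
  let f : S ⧸ q →+* (S ⧸ I) ⧸ q' := Ideal.quotientMap q' (Ideal.Quotient.mk I) hq.ge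
  have hinj : Function.Injective f := Ideal.quotientMap_injective' hq.le
  have hsurj : Function.Surjective f :=
    Ideal.quotientMap_surjective Ideal.Quotient.mk_surjective
  let e : (S ⧸ q) ≃ₐ[R ⧸ p] ((S ⧸ I) ⧸ q') :=
    { RingEquiv.ofBijective f ⟨hinj, hsurj⟩ with
      commutes' := by
        intro x
        obtain ⟨r, rfl⟩ := Ideal.Quotient.mk_surjective x
        rfl }
  exact e.trdeg_eq.symm

omit [q'.IsPrime] in
/-- residue transcendence degrees agree for `S` and `S/I`. -/
theorem trdeg_quotient_eq [hq : (q'.comap (Ideal.Quotient.mk I)).IsPrime] :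
    Algebra.trdeg (R ⧸ q'.under R) ((S ⧸ I) ⧸ q') =
      Algebra.trdeg (R ⧸ (q'.comap (Ideal.Quotient.mk I)).under R)
        (S ⧸ (q'.comap (Ideal.Quotient.mk I))) := by
  have hp : (q'.comap (Ideal.Quotient.mk I)).under R = q'.under R := rfl
  haveI : (q'.comap (Ideal.Quotient.mk I)).LiesOver (q'.under R) := ⟨hp.symm⟩
  exact trdeg_quotient_eq_aux R I q' _ rfl (q'.under R)

end quotient

section main

theorem exists_nat_of_add_eq (x : WithBot ℕ∞) (r m : ℕ) (h : x + (r : WithBot ℕ∞) = m) :
    ∃ x₀ : ℕ, x = x₀ ∧ x₀ + r = m := by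
  induction x using WithBot.recBotCoe with
  | bot => simp at h
  | coe x =>
    induction x using ENat.recTopCoe with
    | top =>
      exfalso
      have h' : ((⊤ + (r : ℕ∞) : ℕ∞) : WithBot ℕ∞) = ((m : ℕ∞) : WithBot ℕ∞) := by exact_mod_cast h
      rw [top_add] at h'
      exact ENat.top_ne_natCast m (WithBot.coe_injective h')
    | coe x => exact ⟨x, rfl, by exact_mod_cast h⟩

variable (R S : Type u) [CommRing R] [CommRing S] [Algebra R S] [Algebra.FiniteType R S] (d : ℕ)
  (hCM : ∀ p : PrimeSpectrum R, LocCoh.IsCohenMacaulayRing (p.asIdeal.Fiber S))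
  (heq : ∀ p : PrimeSpectrum R, ∀ P ∈ minimalPrimes (p.asIdeal.Fiber S),
      ringKrullDim (p.asIdeal.Fiber S ⧸ P) = (d : WithBot ℕ∞))
  (f : List S)

local notation "I" => Ideal.ofList f

include hCM heq in
/-- the criterion: `f` is a regular sequence in the fibre local ring `S_q/pS_q` iff the fibre of
`S/(f)` has local dimension `d - |f|` at `q`. -/
theorem isRegular_iff_fibLocDim (q'' : Ideal (S ⧸ I)) [q''.IsPrime]
    [hq : (q''.comap (Ideal.Quotient.mk I)).IsPrime] :
    (IsRegular (EGA4.FibLocRing R S (q''.comap (Ideal.Quotient.mk I)))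
        (f.map (algebraMap S (EGA4.FibLocRing R S (q''.comap (Ideal.Quotient.mk I))))) ↔
      fibLocDim (PrimeSpectrum.comap (algebraMap R (S ⧸ I))) ⟨q'', inferInstance⟩ +
        (f.length : WithBot ℕ∞) = d) ∧
    (d : WithBot ℕ∞) ≤ fibLocDim (PrimeSpectrum.comap (algebraMap R (S ⧸ I))) ⟨q'', inferInstance⟩ +
        (f.length : WithBot ℕ∞) := by
  haveI hcm : IsCohenMacaulayLocalRing (EGA4.FibLocRing R S (q''.comap (Ideal.Quotient.mk I))) :=
    isCM_fibLocRing R S hCM (q''.comap (Ideal.Quotient.mk I))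
  have hofList : Ideal.ofList
      (f.map (algebraMap S (EGA4.FibLocRing R S (q''.comap (Ideal.Quotient.mk I))))) =
      (I).map (algebraMap S (EGA4.FibLocRing R S (q''.comap (Ideal.Quotient.mk I)))) := by
    rw [Ideal.map_ofList]
  have hIq : I ≤ q''.comap (Ideal.Quotient.mk I) := by
    intro x hx
    show Ideal.Quotient.mk I x ∈ q''
    rw [Ideal.Quotient.eq_zero_iff_mem.mpr hx]
    exact q''.zero_mem
  haveI : IsLocalHom (Ideal.Quotient.mk
      (((q''.comap (Ideal.Quotient.mk I)).comap (algebraMap R S)).map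
        (algebraMap R (Localization.AtPrime (q''.comap (Ideal.Quotient.mk I)))))) :=
    IsLocalHom.of_surjective _ Ideal.Quotient.mk_surjective
  have hmem : ∀ x ∈ f.map (algebraMap S (EGA4.FibLocRing R S (q''.comap (Ideal.Quotient.mk I)))),
      x ∈ maximalIdeal (EGA4.FibLocRing R S (q''.comap (Ideal.Quotient.mk I))) := by
    intro x hx
    obtain ⟨s, hs, rfl⟩ := List.mem_map.mp hx
    have h1 : algebraMap S (Localization.AtPrime (q''.comap (Ideal.Quotient.mk I))) s ∈
        maximalIdeal (Localization.AtPrime (q''.comap (Ideal.Quotient.mk I))) :=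
      (IsLocalization.AtPrime.to_map_mem_maximal_iff _ (q''.comap (Ideal.Quotient.mk I)) s).mpr
        (hIq (Ideal.subset_span hs))
    exact _root_.map_nonunit (Ideal.Quotient.mk
      (((q''.comap (Ideal.Quotient.mk I)).comap (algebraMap R S)).map
        (algebraMap R (Localization.AtPrime (q''.comap (Ideal.Quotient.mk I)))))) _ h1
  -- the transcendence degree
  obtain ⟨r, hr⟩ := Groth.Agent.Lib.GenericFibrePoint.exists_nat_trdeg_quotient_eq (R := R)
    (q''.comap (Ideal.Quotient.mk I))
  have hr' : Algebra.trdeg (R ⧸ q''.under R) ((S ⧸ I) ⧸ q'') = r := by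
    rw [trdeg_quotient_eq R I q'']
    exact hr
  -- dimension formulas
  have hdA : ringKrullDim (EGA4.FibLocRing R S (q''.comap (Ideal.Quotient.mk I))) +
      (r : WithBot ℕ∞) = d := by
    rw [← Groth.Agent.Lib.H79FlatGenFibDimRing.fibLocDim_eq_add (A := R)
      (q''.comap (Ideal.Quotient.mk I)) r hr]
    exact fibLocDim_eq_of_equidim R S d hCM heq (q''.comap (Ideal.Quotient.mk I))
  have hdB : ringKrullDim (EGA4.FibLocRing R S (q''.comap (Ideal.Quotient.mk I)) ⧸ Ideal.ofList
        (f.map (algebraMap S (EGA4.FibLocRing R S (q''.comap (Ideal.Quotient.mk I)))))) +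
        (r : WithBot ℕ∞) =
      fibLocDim (PrimeSpectrum.comap (algebraMap R (S ⧸ I))) ⟨q'', inferInstance⟩ := by
    rw [Groth.Agent.Lib.H79FlatGenFibDimRing.fibLocDim_eq_add (A := R) q'' r hr', hofList]
    congr 1
    exact (ringKrullDim_fibLocRing_quotient R I q'').symm
  obtain ⟨a, ha, har⟩ := exists_nat_of_add_eq _ r d hdA
  have hbound := Groth.Agent.Lib.H8LCICM.ringKrullDim_le_quotient_ofList_add _ hmem
  have hcrit := Groth.Agent.Lib.H8CM.isWeaklyRegular_self_iff _ hmem
  rw [List.length_map] at hbound hcrit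
  have hregiff : IsRegular (EGA4.FibLocRing R S (q''.comap (Ideal.Quotient.mk I)))
        (f.map (algebraMap S (EGA4.FibLocRing R S (q''.comap (Ideal.Quotient.mk I))))) ↔
      IsWeaklyRegular (EGA4.FibLocRing R S (q''.comap (Ideal.Quotient.mk I)))
        (f.map (algebraMap S (EGA4.FibLocRing R S (q''.comap (Ideal.Quotient.mk I))))) := by
    refine ⟨fun h => h.toIsWeaklyRegular, fun hw => ⟨hw, ?_⟩⟩
    intro htop
    have h3 : Ideal.ofList
        (f.map (algebraMap S (EGA4.FibLocRing R S (q''.comap (Ideal.Quotient.mk I))))) ≤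
        maximalIdeal (EGA4.FibLocRing R S (q''.comap (Ideal.Quotient.mk I))) :=
      Ideal.span_le.mpr hmem
    have h4 : (Ideal.ofList
        (f.map (algebraMap S (EGA4.FibLocRing R S (q''.comap (Ideal.Quotient.mk I))))) •
        (⊤ : Submodule (EGA4.FibLocRing R S (q''.comap (Ideal.Quotient.mk I)))
          (EGA4.FibLocRing R S (q''.comap (Ideal.Quotient.mk I))))) ≤
        maximalIdeal (EGA4.FibLocRing R S (q''.comap (Ideal.Quotient.mk I))) := by
      rw [Ideal.smul_top_eq_map]
      simpa using h3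
    rw [← htop] at h4
    exact (maximalIdeal.isMaximal _).ne_top (top_le_iff.mp h4)
  rw [← hdB]
  constructor
  · rw [hregiff, hcrit]
    constructor
    · intro h
      rw [add_right_comm, h, hdA]
    · intro h
      rw [add_right_comm] at h
      obtain ⟨b, hb, hbr⟩ := exists_nat_of_add_eq _ r d h
      obtain ⟨c, hc, hcr⟩ := exists_nat_of_add_eq _ f.length b hb
      rw [hc, ha]
      have : c + f.length = a := by omega
      exact_mod_cast this
  · rw [add_right_comm, ← hdA]
    gcongr

theorem add_le_iff_le_sub (x : WithBot ℕ∞) (n d : ℕ) (h : n ≤ d) :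
    x + (n : WithBot ℕ∞) ≤ d ↔ x ≤ ((d - n : ℕ) : WithBot ℕ∞) := by
  obtain ⟨y, rfl⟩ : ∃ y, d = y + n := ⟨d - n, by omega⟩
  rw [Nat.add_sub_cancel]
  induction x using WithBot.recBotCoe with
  | bot => simp
  | coe x =>
    induction x using ENat.recTopCoe with
    | top =>
      constructor
      · intro h'
        exfalso
        have h'' : (((⊤ : ℕ∞) + (n : ℕ∞) : ℕ∞) : WithBot ℕ∞) ≤ (((y + n : ℕ) : ℕ∞) : WithBot ℕ∞) := by
          exact_mod_cast h'
        rw [top_add, WithBot.coe_le_coe, top_le_iff] at h''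
        exact ENat.top_ne_natCast _ h''.symm
      · intro h'
        exfalso
        have h'' : ((⊤ : ℕ∞) : WithBot ℕ∞) ≤ (((y : ℕ) : ℕ∞) : WithBot ℕ∞) := by
          exact_mod_cast h'
        rw [WithBot.coe_le_coe, top_le_iff] at h''
        exact ENat.top_ne_natCast _ h''.symm
    | coe x =>
      constructor
      · intro h'
        have : x + n ≤ y + n := by exact_mod_cast h'
        have : x ≤ y := by omega
        exact_mod_cast this
      · intro h'
        have : x ≤ y := by exact_mod_cast h'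
        have : x + n ≤ y + n := by omega
        exact_mod_cast this

include hCM heq in
/-- **Openness of the fibrewise regular locus** inside `V(f)`. -/
theorem exists_isOpen_isRegular :
    ∃ U : Set (PrimeSpectrum S), IsOpen U ∧ ∀ q : PrimeSpectrum S, I ≤ q.asIdeal →
      (q ∈ U ↔ IsRegular (EGA4.FibLocRing R S q.asIdeal)
        (f.map (algebraMap S (EGA4.FibLocRing R S q.asIdeal)))) := by
  have hemb : Topology.IsClosedEmbedding (PrimeSpectrum.comap (Ideal.Quotient.mk I)) :=
    PrimeSpectrum.isClosedEmbedding_comap_of_surjective _ _ Ideal.Quotient.mk_surjective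
  have hrange : Set.range (PrimeSpectrum.comap (Ideal.Quotient.mk I)) =
      PrimeSpectrum.zeroLocus (I : Set S) := by
    rw [_root_.range_comap_of_surjective _ _ Ideal.Quotient.mk_surjective,
      Ideal.mk_ker]
  have key : ∀ q' : PrimeSpectrum (S ⧸ I),
      (IsRegular (EGA4.FibLocRing R S (PrimeSpectrum.comap (Ideal.Quotient.mk I) q').asIdeal)
        (f.map (algebraMap S
          (EGA4.FibLocRing R S (PrimeSpectrum.comap (Ideal.Quotient.mk I) q').asIdeal))) ↔
      fibLocDim (PrimeSpectrum.comap (algebraMap R (S ⧸ I))) q' +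
        (f.length : WithBot ℕ∞) = d) ∧
      (d : WithBot ℕ∞) ≤ fibLocDim (PrimeSpectrum.comap (algebraMap R (S ⧸ I))) q' +
        (f.length : WithBot ℕ∞) := by
    intro q'
    haveI := q'.isPrime
    exact isRegular_iff_fibLocDim R S d hCM heq f q'.asIdeal
      (hq := (PrimeSpectrum.comap (Ideal.Quotient.mk I) q').isPrime)
  by_cases hnd : f.length ≤ d
  · let U' : Set (PrimeSpectrum (S ⧸ I)) := {q' |
      fibLocDim (PrimeSpectrum.comap (algebraMap R (S ⧸ I))) q' ≤ ((d - f.length : ℕ) : WithBot ℕ∞)}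
    have hU' : IsOpen U' := isOpen_fibLocDim_le (R := R) (A := S ⧸ I) (d - f.length)
    refine ⟨(PrimeSpectrum.comap (Ideal.Quotient.mk I) '' U'ᶜ)ᶜ,
      (hemb.isClosedMap _ hU'.isClosed_compl).isOpen_compl, ?_⟩
    intro q hq
    have hqr : q ∈ Set.range (PrimeSpectrum.comap (Ideal.Quotient.mk I)) := by
      rw [hrange]
      exact hq
    obtain ⟨q', rfl⟩ := hqr
    rw [Set.mem_compl_iff, hemb.injective.mem_set_image, Set.notMem_compl_iff]
    obtain ⟨h1, h2⟩ := key q'
    rw [h1]
    show fibLocDim _ q' ≤ _ ↔ _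
    rw [← add_le_iff_le_sub _ _ _ hnd]
    exact ⟨fun h => le_antisymm h h2, fun h => h.le⟩
  · refine ⟨∅, isOpen_empty, ?_⟩
    intro q hq
    have hqr : q ∈ Set.range (PrimeSpectrum.comap (Ideal.Quotient.mk I)) := by
      rw [hrange]
      exact hq
    obtain ⟨q', rfl⟩ := hqr
    obtain ⟨h1, h2⟩ := key q'
    rw [h1]
    simp only [Set.mem_empty_iff_false, false_iff]
    intro h
    -- `fibLocDim + |f| = d` with `|f| > d` is impossible
    obtain ⟨x, hx, hxd⟩ := exists_nat_of_add_eq _ f.length d h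
    omega

end main

end Groth.Agent.Lib.FibRegOpen89
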