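import Groth.Agent.Lib.FibRegOpen89

/-!
# Spreading out "unit ideal or contains a regular sequence" in fibre local rings (helper89)

Namespace `Groth.Agent.Lib.FibRegOpen89`.  `R → S` of finite type with CM fibres, equidimensional of
dimension `d`; `A_q = EGA4.FibLocRing R S q = S_q/pS_q`.

* `isUnit_algebraMap_fibLocRing`, `algebraMap_mem_maximalIdeal_fibLocRing`.
* `exists_mul_unit_of_mem_map` : elements of `J A_q` are unit multiples of images of elements of `J`.
* `exists_list_ofList_eq` : a list in `J A_q` generates the same ideal as the image of a list in `J`.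
* `exists_isOpen_top_or_isRegular` : if `J A_q` is the unit ideal or contains a regular sequence of
  length `k`, the same holds for `J A_{q'}` for all `q'` in an open neighbourhood of `q`.
-/

set_option autoImplicit false
set_option linter.style.haveILetI false
universe u

namespace Groth.Agent.Lib.FibRegOpen89

open LocCoh IsLocalRing RingTheory.Sequence Groth.Agent.Lib.H56LocDim TensorProduct

section basic

variable (R : Type u) {S : Type u} [CommRing R] [CommRing S] [Algebra R S] (q : Ideal S) [q.IsPrime]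

theorem isUnit_algebraMap_fibLocRing {s : S} (hs : s ∉ q) :
    IsUnit (algebraMap S (EGA4.FibLocRing R S q) s) := by
  have h1 : IsUnit (algebraMap S (Localization.AtPrime q) s) :=
    (IsLocalization.AtPrime.isUnit_to_map_iff _ q s).mpr hs
  exact h1.map (Ideal.Quotient.mk _)

variable [IsLocalRing (EGA4.FibLocRing R S q)]

theorem algebraMap_mem_maximalIdeal_fibLocRing {s : S} :
    algebraMap S (EGA4.FibLocRing R S q) s ∈ maximalIdeal (EGA4.FibLocRing R S q) ↔ s ∈ q := by
  constructor
  · intro h
    by_contra hs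
    exact h (isUnit_algebraMap_fibLocRing R q hs)
  · intro hs
    haveI : IsLocalHom (Ideal.Quotient.mk
        ((q.comap (algebraMap R S)).map (algebraMap R (Localization.AtPrime q)))) :=
      IsLocalHom.of_surjective _ Ideal.Quotient.mk_surjective
    have h1 : algebraMap S (Localization.AtPrime q) s ∈ maximalIdeal (Localization.AtPrime q) :=
      (IsLocalization.AtPrime.to_map_mem_maximal_iff _ q s).mpr hs
    exact _root_.map_nonunit (Ideal.Quotient.mk
      ((q.comap (algebraMap R S)).map (algebraMap R (Localization.AtPrime q)))) _ h1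

omit [IsLocalRing (EGA4.FibLocRing R S q)] in
theorem exists_mul_unit_of_mem_map (J : Ideal S) {x : EGA4.FibLocRing R S q}
    (hx : x ∈ J.map (algebraMap S (EGA4.FibLocRing R S q))) :
    ∃ g ∈ J, ∃ u : (EGA4.FibLocRing R S q)ˣ, x * u = algebraMap S (EGA4.FibLocRing R S q) g := by
  have hmap : J.map (algebraMap S (EGA4.FibLocRing R S q)) =
      (J.map (algebraMap S (Localization.AtPrime q))).map (Ideal.Quotient.mk
        ((q.comap (algebraMap R S)).map (algebraMap R (Localization.AtPrime q)))) := by
    rw [Ideal.map_map]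
    rfl
  rw [hmap, Ideal.mem_map_iff_of_surjective _ Ideal.Quotient.mk_surjective] at hx
  obtain ⟨y, hy, rfl⟩ := hx
  rw [IsLocalization.mem_map_algebraMap_iff q.primeCompl] at hy
  obtain ⟨⟨g, t⟩, hgt⟩ := hy
  refine ⟨g.1, g.2, (isUnit_algebraMap_fibLocRing R q t.2).unit, ?_⟩
  rw [IsUnit.unit_spec]
  show Ideal.Quotient.mk _ y * Ideal.Quotient.mk _ (algebraMap S (Localization.AtPrime q) t.1) =
    Ideal.Quotient.mk _ (algebraMap S (Localization.AtPrime q) g.1)
  rw [← map_mul, hgt]

omit [IsLocalRing (EGA4.FibLocRing R S q)] in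
theorem exists_list_ofList_eq (J : Ideal S) (rs : List (EGA4.FibLocRing R S q))
    (hrs : ∀ x ∈ rs, x ∈ J.map (algebraMap S (EGA4.FibLocRing R S q))) :
    ∃ g : List S, (∀ x ∈ g, x ∈ J) ∧ g.length = rs.length ∧
      Ideal.ofList (g.map (algebraMap S (EGA4.FibLocRing R S q))) = Ideal.ofList rs := by
  induction rs with
  | nil => exact ⟨[], by simp, rfl, by simp⟩
  | cons r rs ih =>
    obtain ⟨g', hg', hlen, hof⟩ := ih (fun x hx => hrs x (List.mem_cons_of_mem _ hx))
    obtain ⟨g₀, hg₀, u, hu⟩ := exists_mul_unit_of_mem_map R q J (hrs r List.mem_cons_self)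
    refine ⟨g₀ :: g', ?_, by simp [hlen], ?_⟩
    · intro x hx
      rcases List.mem_cons.mp hx with rfl | hx
      · exact hg₀
      · exact hg' x hx
    · rw [List.map_cons, Ideal.ofList_cons, Ideal.ofList_cons, hof, ← hu]
      congr 1
      exact Ideal.span_singleton_mul_right_unit u.isUnit r

end basic

section spread

variable (R S : Type u) [CommRing R] [CommRing S] [Algebra R S] [Algebra.FiniteType R S] (d : ℕ)
  (hCM : ∀ p : PrimeSpectrum R, LocCoh.IsCohenMacaulayRing (p.asIdeal.Fiber S))
  (heq : ∀ p : PrimeSpectrum R, ∀ P ∈ minimalPrimes (p.asIdeal.Fiber S),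
      ringKrullDim (p.asIdeal.Fiber S ⧸ P) = (d : WithBot ℕ∞))

include hCM heq in
/-- If `J A_q` is the unit ideal or contains a regular sequence of length `k`, the same holds for
`J A_{q'}` at all `q'` in an open neighbourhood of `q`. -/
theorem exists_isOpen_top_or_isRegular (J : Ideal S) (k : ℕ) (q : PrimeSpectrum S)
    (h : J.map (algebraMap S (EGA4.FibLocRing R S q.asIdeal)) = ⊤ ∨
      ∃ rs : List (EGA4.FibLocRing R S q.asIdeal), rs.length = k ∧
        (∀ x ∈ rs, x ∈ J.map (algebraMap S (EGA4.FibLocRing R S q.asIdeal))) ∧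
        IsRegular (EGA4.FibLocRing R S q.asIdeal) rs) :
    ∃ U : Set (PrimeSpectrum S), IsOpen U ∧ q ∈ U ∧ ∀ q' ∈ U,
      (J.map (algebraMap S (EGA4.FibLocRing R S q'.asIdeal)) = ⊤ ∨
        ∃ rs : List (EGA4.FibLocRing R S q'.asIdeal), rs.length = k ∧
          (∀ x ∈ rs, x ∈ J.map (algebraMap S (EGA4.FibLocRing R S q'.asIdeal))) ∧
          IsRegular (EGA4.FibLocRing R S q'.asIdeal) rs) := by
  have hcm : ∀ q' : PrimeSpectrum S, IsCohenMacaulayLocalRing (EGA4.FibLocRing R S q'.asIdeal) :=
    fun q' => isCM_fibLocRing R S hCM q'.asIdeal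
  -- a unit of `J` at `q'` makes the ideal trivial
  have htop : ∀ (q' : PrimeSpectrum S) (m : S), m ∈ J → m ∉ q'.asIdeal →
      J.map (algebraMap S (EGA4.FibLocRing R S q'.asIdeal)) = ⊤ := by
    intro q' m hmJ hmq'
    exact Ideal.eq_top_of_isUnit_mem _ (Ideal.mem_map_of_mem _ hmJ)
      (isUnit_algebraMap_fibLocRing R q'.asIdeal hmq')
  rcases h with h | ⟨rs, hlen, hrsJ, hreg⟩
  · -- unit ideal at `q`
    haveI := hcm q
    have hex : ∃ m ∈ J, m ∉ q.asIdeal := by
      by_contra hcon
      push Not at hcon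
      have hle : J.map (algebraMap S (EGA4.FibLocRing R S q.asIdeal)) ≤
          maximalIdeal (EGA4.FibLocRing R S q.asIdeal) := by
        rw [Ideal.map_le_iff_le_comap]
        intro x hx
        exact (algebraMap_mem_maximalIdeal_fibLocRing R q.asIdeal).mpr (hcon x hx)
      rw [h] at hle
      exact (maximalIdeal.isMaximal _).ne_top (top_le_iff.mp hle)
    obtain ⟨m, hmJ, hmq⟩ := hex
    refine ⟨PrimeSpectrum.basicOpen m, (PrimeSpectrum.basicOpen m).2, hmq, fun q' hq' => ?_⟩
    exact Or.inl (htop q' m hmJ hq')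
  · -- a regular sequence at `q`
    haveI := hcm q
    have hmem_rs : ∀ r ∈ rs, r ∈ maximalIdeal (EGA4.FibLocRing R S q.asIdeal) := by
      intro r hr
      by_contra hru
      have hu : IsUnit r := by
        by_contra h'
        exact hru h'
      apply hreg.top_ne_smul
      rw [Ideal.smul_top_eq_map]
      have : Ideal.ofList rs = ⊤ := Ideal.eq_top_of_isUnit_mem _ (Ideal.subset_span hr) hu
      rw [this]
      simp
    obtain ⟨g, hgJ, hglen, hgof⟩ := exists_list_ofList_eq R q.asIdeal J rs hrsJ
    have hmem_g : ∀ x ∈ g.map (algebraMap S (EGA4.FibLocRing R S q.asIdeal)),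
        x ∈ maximalIdeal (EGA4.FibLocRing R S q.asIdeal) := by
      intro x hx
      have h1 : x ∈ Ideal.ofList (g.map (algebraMap S (EGA4.FibLocRing R S q.asIdeal))) :=
        Ideal.subset_span hx
      rw [hgof] at h1
      exact (Ideal.span_le.mpr hmem_rs) h1
    have hgq : Ideal.ofList g ≤ q.asIdeal := by
      rw [Ideal.ofList, Ideal.span_le]
      intro x hx
      exact (algebraMap_mem_maximalIdeal_fibLocRing R q.asIdeal).mp
        (hmem_g _ (List.mem_map_of_mem hx))
    -- the images of `g` form a regular sequence at `q`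
    have hregg : IsRegular (EGA4.FibLocRing R S q.asIdeal)
        (g.map (algebraMap S (EGA4.FibLocRing R S q.asIdeal))) := by
      have h1 := (Groth.Agent.Lib.H8CM.isWeaklyRegular_self_iff rs hmem_rs).mp
        hreg.toIsWeaklyRegular
      have h2 : IsWeaklyRegular (EGA4.FibLocRing R S q.asIdeal)
          (g.map (algebraMap S (EGA4.FibLocRing R S q.asIdeal))) := by
        rw [Groth.Agent.Lib.H8CM.isWeaklyRegular_self_iff _ hmem_g, List.length_map, hglen, hgof]
        exact h1
      refine ⟨h2, ?_⟩
      intro htop'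
      have h4 : (Ideal.ofList (g.map (algebraMap S (EGA4.FibLocRing R S q.asIdeal))) •
          (⊤ : Submodule (EGA4.FibLocRing R S q.asIdeal) (EGA4.FibLocRing R S q.asIdeal))) ≤
          maximalIdeal (EGA4.FibLocRing R S q.asIdeal) := by
        have h3 : Ideal.ofList (g.map (algebraMap S (EGA4.FibLocRing R S q.asIdeal))) ≤
            maximalIdeal (EGA4.FibLocRing R S q.asIdeal) := Ideal.span_le.mpr hmem_g
        rw [Ideal.smul_top_eq_map]
        simpa using h3
      rw [← htop'] at h4
      exact (maximalIdeal.isMaximal _).ne_top (top_le_iff.mp h4)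
    obtain ⟨U, hUo, hU⟩ := exists_isOpen_isRegular R S d hCM heq g
    refine ⟨U, hUo, (hU q hgq).mpr hregg, fun q' hq' => ?_⟩
    by_cases hgq' : Ideal.ofList g ≤ q'.asIdeal
    · refine Or.inr ⟨g.map (algebraMap S (EGA4.FibLocRing R S q'.asIdeal)), ?_, ?_,
        (hU q' hgq').mp hq'⟩
      · rw [List.length_map, hglen, hlen]
      · intro x hx
        obtain ⟨s, hs, rfl⟩ := List.mem_map.mp hx
        exact Ideal.mem_map_of_mem _ (hgJ s hs)
    · have hex : ∃ m ∈ g, m ∉ q'.asIdeal := by
        by_contra hcon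
        push Not at hcon
        apply hgq'
        rw [Ideal.ofList, Ideal.span_le]
        exact fun x hx => hcon x hx
      obtain ⟨m, hmg, hmq'⟩ := hex
      exact Or.inl (htop q' m (hgJ m hmg) hmq')

end spread

end Groth.Agent.Lib.FibRegOpen89
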