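import Groth.Agent.Lib.H29BE4

/-!
Buchsbaum–Eisenbud, sufficiency: the inductive step and the final theorem.
-/

set_option autoImplicit false
set_option maxHeartbeats 400000
universe u
open CategoryTheory CategoryTheory.Limits

namespace Groth.Agent.Lib.H29BE5

open Groth.Agent.S18128 Groth.Agent.Lib.H29BE1 Groth.Agent.Lib.H29BE3 Groth.Agent.Lib.H29BE4

variable {R : Type u} [CommRing R] [IsNoetherianRing R]

/-- a generator of the ideal of minors outside `p` -/
theorem exists_minor_notMem {a b : ℕ} (M : Matrix (Fin a) (Fin b) R) (r : ℕ) (p : Ideal R)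
    (h : ¬ CAlgX.minorIdeal M r ≤ p) :
    ∃ (f : Fin r → Fin a) (g : Fin r → Fin b), (M.submatrix f g).det ∉ p := by
  by_contra hcon
  push_neg at hcon
  apply h
  unfold CAlgX.minorIdeal
  rw [Ideal.span_le]
  rintro _ ⟨⟨f, g⟩, rfl⟩
  exact hcon f g

theorem isUnit_det_map (p : Ideal R) [p.IsPrime] {a b r : ℕ} (M : Matrix (Fin a) (Fin b) R)
    (f : Fin r → Fin a) (g : Fin r → Fin b) (h : (M.submatrix f g).det ∉ p) :
    IsUnit ((M.map (algebraMap R (Localization.AtPrime p))).submatrix f g).det := by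
  have e1 : (M.map (algebraMap R (Localization.AtPrime p))).submatrix f g =
      (algebraMap R (Localization.AtPrime p)).mapMatrix (M.submatrix f g) := by
    ext i j; simp
  rw [e1, ← RingHom.map_det]
  exact (IsLocalization.AtPrime.isUnit_to_map_iff (Localization.AtPrime p) p _).mpr h

/-- The inductive step. -/
theorem step (e : ℕ) (n : ℕ → ℕ) (A : (i : ℕ) → Matrix (Fin (n i)) (Fin (n (i + 1))) R)
    (hA : ∀ i, i + 2 ≤ e → A i * A (i + 1) = 0)
    (r : ℕ → ℕ) (hre : r e = n e) (hrr : ∀ j, 1 ≤ j → j + 1 ≤ e → r (j + 1) + r j = n j)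
    (hdet : ∀ j, j + 1 ≤ e →
      CAlgX.minorIdeal (A j) (r (j + 1)) = ⊤ ∨
        ∃ rs : List R, rs.length = j + 1 ∧ (∀ x ∈ rs, x ∈ CAlgX.minorIdeal (A j) (r (j + 1))) ∧
          RingTheory.Sequence.IsRegular R rs)
    (p : Ideal R) [p.IsPrime]
    (ih : ∀ q : Ideal R, q.IsPrime → q < p → ExactAtPrime e n A hA q) :
    ExactAtPrime e n A hA p := by
  classical
  -- the cut-off index
  let P : ℕ → Prop := fun j => 1 ≤ j ∧ CAlgX.minorIdeal (A (j - 1)) (r j) ≤ p
  obtain ⟨d, hde, hPd, hgt⟩ : ∃ d, d ≤ e ∧ (d ≠ 0 → P d) ∧ ∀ k, d < k → k ≤ e → ¬ P k :=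
    ⟨Nat.findGreatest P e, Nat.findGreatest_le e, fun h0 => Nat.findGreatest_of_ne_zero rfl h0,
      fun k hk hke => Nat.findGreatest_is_greatest hk hke⟩
  let S := Localization.AtPrime p
  let φ := algebraMap R S
  let AS' := AS p n A
  have hAS' := hAS p e n A hA
  let KS := cplx e n AS' hAS'
  -- unit minors above `d`
  have hunit : ∀ j, d < j + 1 → j + 1 ≤ e → ∃ (f : Fin (r (j + 1)) → Fin (n j))
      (g : Fin (r (j + 1)) → Fin (n (j + 1))), IsUnit ((AS' j).submatrix f g).det := by
    intro j hj hje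
    have h1 : ¬ CAlgX.minorIdeal (A j) (r (j + 1)) ≤ p := by
      intro h
      exact hgt (j + 1) hj hje ⟨by omega, h⟩
    obtain ⟨f, g, hfg⟩ := exists_minor_notMem (A j) (r (j + 1)) p h1
    exact ⟨f, g, isUnit_det_map p (A j) f g hfg⟩
  -- regular sequence of length `d` in the maximal ideal of `S`
  obtain ⟨rsS, hlenS, hmemS, hregS⟩ : ∃ rsS : List S, rsS.length = d ∧
      (∀ x ∈ rsS, x ∈ IsLocalRing.maximalIdeal S) ∧ RingTheory.Sequence.IsRegular S rsS := by
    rcases Nat.eq_zero_or_pos d with hd0 | hdpos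
    · refine ⟨[], by simp [hd0], by simp, ?_⟩
      exact RingTheory.Sequence.IsRegular.nil S S
    · obtain ⟨d', rfl⟩ : ∃ d', d = d' + 1 := ⟨d - 1, by omega⟩
      have hP := hPd (by omega)
      have hle : CAlgX.minorIdeal (A d') (r (d' + 1)) ≤ p := hP.2
      rcases hdet d' hde with htop | ⟨rs, hlen, hmem, hreg⟩
      · exfalso
        rw [htop] at hle
        exact (Ideal.IsPrime.ne_top inferInstance) (top_le_iff.mp hle)
      · refine ⟨rs.map φ, by simp [hlen], ?_, ?_⟩
        · intro x hx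
          obtain ⟨y, hy, rfl⟩ := List.mem_map.mp hx
          exact (IsLocalization.AtPrime.to_map_mem_maximal_iff S p y).mpr (hle (hmem y hy))
        · exact hreg.toIsWeaklyRegular.isRegular_of_isLocalization_of_mem S p
            (fun y hy => hle (hmem y hy))
  -- exactness above `d`
  have habove : ∀ j, d < j + 1 → j + 1 ≤ e → KS.ExactAt (j + 1) := by
    intro j hj hje
    rw [cplx_exactAt_iff e n AS' hAS' j, cplx_d_of_le e n AS' hAS' j hje]
    obtain ⟨f, g, hu⟩ := hunit j hj hje
    by_cases hje2 : j + 2 ≤ e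
    · rw [cplx_d_of_le e n AS' hAS' (j + 1) hje2]
      obtain ⟨f', g', hu'⟩ := hunit (j + 1) (by omega) hje2
      exact (ker_eq_range (AS' j) (AS' (j + 1)) (hAS' j hje2) f g hu f' g' hu'
        (hrr (j + 1) (by omega) hje2)).symm
    · rw [cplx_d_of_not_le e n AS' hAS' (j + 1) hje2]
      have hj' : j + 1 = e := by omega
      have hker := ker_eq_bot (AS' j) f g hu (by rw [hj', hre, ← hj'])
      have hker' : ∀ x : Fin (n (j + 1)) → S, (AS' j).mulVecLin x = 0 → x = 0 := by
        intro x hx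
        have : x ∈ LinearMap.ker (AS' j).mulVecLin := hx
        rw [hker] at this
        exact (Submodule.mem_bot S).mp this
      apply le_antisymm
      · rintro _ ⟨y, rfl⟩
        exact Submodule.zero_mem _
      · intro x hx
        have hx0 : x = 0 := hker' x hx
        rw [hx0]
        exact Submodule.zero_mem _
  -- the residue field
  let N : ModuleCat.{u} S := ModuleCat.of S (S ⧸ IsLocalRing.maximalIdeal S)
  -- vanishing of `Ext` into `Q_d`
  have hQ : ∀ q, q < d → ∀ x : Abelian.Ext N (KS.opcycles d) q, x = 0 := by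
    intro q hq
    have hX : ∀ x : Abelian.Ext N (KS.X d) q, x = 0 := fun x =>
      Groth.Agent.Lib.H29Acyclic2.ext_residue_pi_eq_zero rsS hmemS hregS (n d) q (by omega) x
    by_cases hde' : d = e
    · subst hde'
      exact ext_opcycles_eq_zero_top d n AS' hAS' N q hX
    · have hd1 : d + 1 ≤ e := by omega
      obtain ⟨f, g, hu⟩ := hunit d (by omega) hd1
      refine ext_opcycles_eq_zero_of_tau e n AS' hAS' d hd1 f g ?_ N q hX
      intro x
      by_cases hd2 : d + 2 ≤ e
      · obtain ⟨f', g', hu'⟩ := hunit (d + 1) (by omega) hd2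
        exact mulVec_tauL (AS' d) (AS' (d + 1)) (hAS' d hd2) f g hu f' g' hu'
          (hrr (d + 1) (by omega) hd2) x
      · have hd' : d + 1 = e := by omega
        exact mulVec_tauL_top (AS' d) f g hu (by rw [hd', hre, ← hd']) x
  -- exactness on the punctured spectrum of `S`
  have hlocal : ∀ (Q : Ideal S) [Q.IsPrime], Q ≠ IsLocalRing.maximalIdeal S → ∀ j, j + 1 ≤ d →
      ∀ z : Fin (n (j + 1)) → S, (AS' j).mulVecLin z = 0 →
        ∃ s : S, s ∉ Q ∧ s • z ∈ LinearMap.range (KS.d (j + 2) (j + 1)).hom := by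
    intro Q hQprime hQm j hj z hz
    let q : Ideal R := Q.comap φ
    have hqprime : q.IsPrime := Ideal.comap_isPrime φ Q
    have hQle : Q ≤ IsLocalRing.maximalIdeal S := IsLocalRing.le_maximalIdeal hQprime.ne_top
    have hqle : q ≤ p := by
      intro x hx
      exact (IsLocalization.AtPrime.to_map_mem_maximal_iff S p x).mp (hQle hx)
    have hqne : q ≠ p := by
      intro hqp
      apply hQm
      apply le_antisymm hQle
      rw [← Localization.AtPrime.map_eq_maximalIdeal, Ideal.map_le_iff_le_comap]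
      exact hqp.ge
    have hqlt : q < p := lt_of_le_of_ne hqle hqne
    obtain ⟨t, ht, z₁, hz₁, hz₁'⟩ := exists_lift_cycle p n A j z hz
    obtain ⟨s₂, hs₂, hmem⟩ := ih q hqprime hqlt j (by omega) z₁ hz₁
    have h3 := map_mem_range p e n A hA j _ hmem
    refine ⟨φ (s₂ * t), ?_, ?_⟩
    · intro hcon
      have : s₂ * t ∈ q := hcon
      rcases Ideal.IsPrime.mem_or_mem hqprime this with h | h
      · exact hs₂ h
      · exact ht (hqle h)
    · have e1 : φ ∘ (s₂ • z₁) = φ (s₂ * t) • z := by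
        funext k
        have := congr_fun hz₁' k
        simp only [Function.comp_apply, Pi.smul_apply, smul_eq_mul, map_mul] at this ⊢
        rw [this, mul_assoc]
      rw [← e1]
      exact h3
  -- exactness below `d`
  have hbelow := Groth.Agent.Lib.H29BE2.local_step e n AS' hAS' d hde rsS hlenS hmemS hregS hQ
    hlocal
  -- transfer back
  intro j hje z hz
  have hex : KS.ExactAt (j + 1) := by
    by_cases hjd : j + 1 ≤ d
    · exact hbelow j hjd
    · exact habove j (by omega) hje
  rw [cplx_exactAt_iff e n AS' hAS' j, cplx_d_of_le e n AS' hAS' j hje] at hex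
  have hzS : φ ∘ z ∈ LinearMap.ker (ModuleCat.Hom.hom (ModuleCat.ofHom (AS' j).mulVecLin)) := by
    show (AS' j).mulVec (φ ∘ z) = 0
    rw [AS_mulVec p n A j z]
    have : (A j).mulVec z = 0 := hz
    rw [this]
    funext k
    simp
  exact mem_range_of_map p e n A hA j z (hex.ge hzS)

/-- Exactness at all primes, by induction on the height. -/
theorem exactAtPrime_all (e : ℕ) (n : ℕ → ℕ)
    (A : (i : ℕ) → Matrix (Fin (n i)) (Fin (n (i + 1))) R)
    (hA : ∀ i, i + 2 ≤ e → A i * A (i + 1) = 0)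
    (r : ℕ → ℕ) (hre : r e = n e) (hrr : ∀ j, 1 ≤ j → j + 1 ≤ e → r (j + 1) + r j = n j)
    (hdet : ∀ j, j + 1 ≤ e →
      CAlgX.minorIdeal (A j) (r (j + 1)) = ⊤ ∨
        ∃ rs : List R, rs.length = j + 1 ∧ (∀ x ∈ rs, x ∈ CAlgX.minorIdeal (A j) (r (j + 1))) ∧
          RingTheory.Sequence.IsRegular R rs) :
    ∀ (k : ℕ) (p : Ideal R) [p.IsPrime], p.height = k → ExactAtPrime e n A hA p := by
  intro k
  induction k using Nat.strong_induction_on with
  | _ k ih =>
    intro p hp hk
    apply step e n A hA r hre hrr hdet p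
    intro q hq hqp
    have hlt : q.height < p.height := Ideal.height_strict_mono_of_isPrime hqp
    have hne : q.height ≠ ⊤ := Ideal.height_ne_top hq.ne_top
    obtain ⟨k', hk'⟩ := ENat.ne_top_iff_exists.mp hne
    refine ih k' ?_ q hk'.symm
    rw [hk, ← hk'] at hlt
    exact_mod_cast hlt

/-- Buchsbaum–Eisenbud: sufficiency, in terms of sizes `r j` of the minors. -/
theorem be_exact (e : ℕ) (he : 1 ≤ e) (n : ℕ → ℕ)
    (A : (i : ℕ) → Matrix (Fin (n i)) (Fin (n (i + 1))) R)
    (hA : ∀ i, i + 2 ≤ e → A i * A (i + 1) = 0)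
    (r : ℕ → ℕ) (hre : r e = n e) (hrr : ∀ j, 1 ≤ j → j + 1 ≤ e → r (j + 1) + r j = n j)
    (hdet : ∀ j, j + 1 ≤ e →
      CAlgX.minorIdeal (A j) (r (j + 1)) = ⊤ ∨
        ∃ rs : List R, rs.length = j + 1 ∧ (∀ x ∈ rs, x ∈ CAlgX.minorIdeal (A j) (r (j + 1))) ∧
          RingTheory.Sequence.IsRegular R rs) :
    LinearMap.ker (A (e - 1)).mulVecLin = ⊥ ∧
      ∀ i, i + 2 ≤ e → LinearMap.ker (A i).mulVecLin = LinearMap.range (A (i + 1)).mulVecLin := by
  classical
  have hall := exactAtPrime_all e n A hA r hre hrr hdet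
  -- global membership
  have key : ∀ j, j + 1 ≤ e → ∀ z : Fin (n (j + 1)) → R, (A j).mulVecLin z = 0 →
      z ∈ LinearMap.range ((cplx e n A hA).d (j + 2) (j + 1)).hom := by
    intro j hj z hz
    let Nr : Submodule R (Fin (n (j + 1)) → R) :=
      LinearMap.range ((cplx e n A hA).d (j + 2) (j + 1)).hom
    let J : Ideal R := Nr.colon {z}
    have hJ : J = ⊤ := by
      by_contra hJne
      obtain ⟨M, hM, hJM⟩ := Ideal.exists_le_maximal J hJne
      have hMprime : M.IsPrime := hM.isPrime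
      have hne : M.height ≠ ⊤ := Ideal.height_ne_top hMprime.ne_top
      obtain ⟨k, hk⟩ := ENat.ne_top_iff_exists.mp hne
      obtain ⟨s, hs, hsz⟩ := hall k M hk.symm j hj z hz
      apply hs
      apply hJM
      exact Submodule.mem_colon_singleton.mpr hsz
    have h1 : (1 : R) ∈ J := by rw [hJ]; exact Submodule.mem_top
    have h2 := Submodule.mem_colon_singleton.mp h1
    rw [one_smul] at h2
    exact h2
  constructor
  · obtain ⟨e', rfl⟩ : ∃ e', e = e' + 1 := ⟨e - 1, by omega⟩
    show LinearMap.ker (A e').mulVecLin = ⊥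
    apply le_antisymm _ bot_le
    intro z hz
    have h1 := key e' le_rfl z hz
    rw [cplx_d_of_not_le (e' + 1) n A hA (e' + 1) (by omega)] at h1
    obtain ⟨y, rfl⟩ := h1
    exact Submodule.zero_mem _
  · intro i hi
    apply le_antisymm
    · intro z hz
      have h1 := key i (by omega) z hz
      rw [cplx_d_of_le e n A hA (i + 1) hi] at h1
      exact h1
    · rintro _ ⟨y, rfl⟩
      show (A i).mulVec ((A (i + 1)).mulVec y) = 0
      rw [Matrix.mulVec_mulVec, hA i hi, Matrix.zero_mulVec]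

end Groth.Agent.Lib.H29BE5
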