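import Groth.Agent.Lib.H29BE3

/-!
Buchsbaum–Eisenbud, sufficiency: induction over primes.
-/

set_option autoImplicit false
universe u
open CategoryTheory CategoryTheory.Limits

namespace Groth.Agent.Lib.H29BE4

open Groth.Agent.S18128 Groth.Agent.Lib.H29BE1 Groth.Agent.Lib.H29BE3

variable {R : Type u} [CommRing R]

/-- Elementwise exactness of the complex of matrices after localizing at `p`. -/
def ExactAtPrime (e : ℕ) (n : ℕ → ℕ) (A : (i : ℕ) → Matrix (Fin (n i)) (Fin (n (i + 1))) R)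
    (hA : ∀ i, i + 2 ≤ e → A i * A (i + 1) = 0) (p : Ideal R) : Prop :=
  ∀ j, j + 1 ≤ e → ∀ z : Fin (n (j + 1)) → R, (A j).mulVecLin z = 0 →
    ∃ s : R, s ∉ p ∧ s • z ∈ LinearMap.range ((cplx e n A hA).d (j + 2) (j + 1)).hom

section loc

variable (p : Ideal R) [p.IsPrime]

local notation "Sp" => Localization.AtPrime p
local notation "φ" => algebraMap R (Localization.AtPrime p)

variable (e : ℕ) (n : ℕ → ℕ) (A : (i : ℕ) → Matrix (Fin (n i)) (Fin (n (i + 1))) R)
  (hA : ∀ i, i + 2 ≤ e → A i * A (i + 1) = 0)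

/-- the localized matrices -/
noncomputable def AS (i : ℕ) : Matrix (Fin (n i)) (Fin (n (i + 1))) (Localization.AtPrime p) :=
  (A i).map φ

include hA in
theorem hAS : ∀ i, i + 2 ≤ e → AS p n A i * AS p n A (i + 1) = 0 := by
  intro i hi
  unfold AS
  rw [← Matrix.map_mul, hA i hi]
  ext a b
  simp

theorem AS_mulVec (i : ℕ) (z : Fin (n (i + 1)) → R) :
    (AS p n A i).mulVec (φ ∘ z) = φ ∘ ((A i).mulVec z) := by
  funext k
  exact (RingHom.map_mulVec φ (A i) z k).symm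

theorem map_mem_range (j : ℕ) (y : Fin (n (j + 1)) → R)
    (hy : y ∈ LinearMap.range ((cplx e n A hA).d (j + 2) (j + 1)).hom) :
    φ ∘ y ∈ LinearMap.range ((cplx e n (AS p n A) (hAS p e n A hA)).d (j + 2) (j + 1)).hom := by
  by_cases h : j + 2 ≤ e
  · rw [cplx_d_of_le e n A hA (j + 1) h] at hy
    rw [cplx_d_of_le e n _ _ (j + 1) h]
    obtain ⟨w, rfl⟩ := hy
    exact ⟨φ ∘ w, AS_mulVec p n A (j + 1) w⟩
  · rw [cplx_d_of_not_le e n A hA (j + 1) h] at hy
    obtain ⟨w, rfl⟩ := hy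
    refine ⟨0, ?_⟩
    rw [map_zero]
    funext k
    change (0 : Localization.AtPrime p) = φ 0
    rw [map_zero]

theorem mem_range_of_map (j : ℕ) (z : Fin (n (j + 1)) → R)
    (hz : φ ∘ z ∈
      LinearMap.range ((cplx e n (AS p n A) (hAS p e n A hA)).d (j + 2) (j + 1)).hom) :
    ∃ s : R, s ∉ p ∧ s • z ∈ LinearMap.range ((cplx e n A hA).d (j + 2) (j + 1)).hom := by
  by_cases h : j + 2 ≤ e
  · rw [cplx_d_of_le e n _ _ (j + 1) h] at hz
    rw [cplx_d_of_le e n A hA (j + 1) h]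
    exact Groth.Agent.Lib.H29Acyclic2.exists_smul_mem_range p (A (j + 1)) z hz
  · rw [cplx_d_of_not_le e n _ _ (j + 1) h] at hz
    obtain ⟨w, hw⟩ := hz
    have hz0 : ∀ k, φ (z k) = 0 := by
      intro k
      have := congr_fun hw k
      exact this.symm
    obtain ⟨s, hs, hsz⟩ :=
      Groth.Agent.Lib.H29Acyclic2.exists_smul_eq_zero_of_map_eq_zero p z hz0
    exact ⟨s, hs, by rw [hsz]; exact Submodule.zero_mem _⟩

/-- lifting a cycle over the localization to a cycle over `R`. -/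
theorem exists_lift_cycle (j : ℕ) (z : Fin (n (j + 1)) → Localization.AtPrime p)
    (hz : (AS p n A j).mulVec z = 0) :
    ∃ t : R, t ∉ p ∧ ∃ z₁ : Fin (n (j + 1)) → R, (A j).mulVec z₁ = 0 ∧ φ ∘ z₁ = φ t • z := by
  obtain ⟨t, ht, z₀, hz₀⟩ := Groth.Agent.Lib.H29Acyclic2.exists_integer_multiple p z
  have e1 : φ ∘ z₀ = φ t • z := by
    funext k; simp [hz₀ k]
  have h1 : ∀ k, φ (((A j).mulVec z₀) k) = 0 := by
    intro k
    have := congr_fun (AS_mulVec p n A j z₀) k
    simp only [Function.comp_apply] at this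
    rw [← this, e1, Matrix.mulVec_smul, hz]
    simp
  obtain ⟨s, hs, hs0⟩ := Groth.Agent.Lib.H29Acyclic2.exists_smul_eq_zero_of_map_eq_zero p _ h1
  refine ⟨s * t, fun h => (Ideal.IsPrime.mem_or_mem inferInstance h).elim hs ht, s • z₀, ?_, ?_⟩
  · rw [Matrix.mulVec_smul, hs0]
  · funext k
    simp only [Function.comp_apply, Pi.smul_apply, smul_eq_mul, map_mul]
    rw [hz₀ k, mul_assoc]

end loc

end Groth.Agent.Lib.H29BE4
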