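import Groth.Agent.Lib.H87AB
import Groth.Agent.Lib.DepthFlat33
import Mathlib.RingTheory.LocalProperties.Projective
import Mathlib.RingTheory.Ideal.AssociatedPrime.Localization

/-!
# Ideals of finite projective dimension (helper87): towards Vasconcelos' theorem

Over a Noetherian local ring `R`:
* `hasProjectiveDimensionLT_localizedModule` : pd does not increase under localization.
* `free_of_depth_self_eq_zero` : `depth R = 0` and `pd N < ∞` ⇒ `N` free (Auslander–Buchsbaum).
* `depth_localization_eq_zero` : `depth R_p = 0` for `p ∈ Ass R`.
* `rk`, `rk_add`, `rk_eq` : the rank of `M_p` (for `pd M < ∞`) is the same at all depth-zero primes.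
* `eq_bot_or_exists_nonZeroDivisor` : an ideal of finite projective dimension is zero or contains a
  nonzerodivisor.
* `exists_nonZeroDivisor_span_eq` : a free rank one summand of `I/I²` is generated by the class of a
  nonzerodivisor (Vasconcelos, first step).
-/

set_option autoImplicit false
universe u
open CategoryTheory Abelian IsLocalRing Pointwise

namespace Groth.Agent.Lib.H87Vasc

variable {R : Type u} [CommRing R]

/-- Projective dimension does not increase under localization (concrete `LocalizedModule`). -/
theorem hasProjectiveDimensionLT_localizedModule (S : Submonoid R) (M : Type u) [AddCommGroup M]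
    [Module R M] (n : ℕ) (h : HasProjectiveDimensionLT (ModuleCat.of R M) n) :
    HasProjectiveDimensionLT (ModuleCat.of (Localization S) (LocalizedModule S M)) n := by
  cases n with
  | zero =>
    have := isZero_of_hasProjectiveDimensionLT_zero (ModuleCat.of R M)
    have hs : Subsingleton M := ModuleCat.subsingleton_of_isZero this
    have : Subsingleton (LocalizedModule S M) := inferInstance
    exact (ModuleCat.isZero_of_subsingleton _).hasProjectiveDimensionLT_zero
  | succ n =>
    have : Small.{u} (Localization S) := small_of_surjective Localization.mkHom_surjective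
    have h0 : HasProjectiveDimensionLE (ModuleCat.of R M) n := h
    have h1 := ModuleCat.localizedModule_hasProjectiveDimensionLE n S (ModuleCat.of R M)
    have hloc := ModuleCat.localizedModule_isLocalizedModule (ModuleCat.of R M) S
    let e : ((ModuleCat.of R M).localizedModule S) ≃ₗ[Localization S] LocalizedModule S M :=
      LinearEquiv.extendScalarsOfIsLocalization S (Localization S)
        (IsLocalizedModule.linearEquiv S ((ModuleCat.of R M).localizedModuleMkLinearMap S)
          (LocalizedModule.mkLinearMap S M))
    exact hasProjectiveDimensionLT_of_iso e.toModuleIso (n + 1)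

/-- Over a Noetherian local ring of depth zero, finite modules of finite projective dimension
are free. -/
theorem free_of_depth_self_eq_zero {A : Type u} [CommRing A] [IsLocalRing A] [IsNoetherianRing A]
    (hA : LocCoh.depth A A = 0) (N : Type u) [AddCommGroup N] [Module A N] [Module.Finite A N]
    (n : ℕ) (h : HasProjectiveDimensionLT (ModuleCat.of A N) n) : Module.Free A N := by
  rcases subsingleton_or_nontrivial N with hN | hN
  · exact Module.Free.of_subsingleton A N
  · obtain ⟨e, -, h1, h2⟩ := H87AB.exists_projectiveDimension_eq N n h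
    have hAB := H87AB.auslander_buchsbaum' N e h1 h2
    rw [hA] at hAB
    have he : e = 0 := by
      have h3 : (e : ℕ∞) ≤ 0 := by
        rw [hAB]
        exact le_self_add
      exact_mod_cast nonpos_iff_eq_zero.mp h3
    subst he
    have hp : Projective (ModuleCat.of A N) :=
      projective_iff_hasProjectiveDimensionLT_one.mpr h1
    have : Module.Projective A N := (IsProjective.iff_projective N).mpr hp
    exact Module.free_of_flat_of_isLocalRing

/-- The localization of a Noetherian ring at an associated prime has depth zero. -/
theorem depth_localization_eq_zero [IsNoetherianRing R] (p : Ideal R) [p.IsPrime]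
    (hp : p ∈ associatedPrimes R R) :
    LocCoh.depth (Localization.AtPrime p) (Localization.AtPrime p) = 0 := by
  rw [DepthFlat33.depth_eq_zero_iff]
  have key := Module.associatedPrimes.preimage_comap_associatedPrimes_eq_associatedPrimes_of_isLocalizedModule
    p.primeCompl (Localization.AtPrime p) (Algebra.linearMap R (Localization.AtPrime p))
  rw [← key, Set.mem_preimage]
  have := IsLocalization.AtPrime.under_maximalIdeal (Localization.AtPrime p) p
  rw [Ideal.under] at this
  rw [this]
  exact hp

end Groth.Agent.Lib.H87Vasc

namespace Groth.Agent.Lib.H87Vasc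

variable {R : Type u} [CommRing R]

section Rank

/-- The rank of the localization of `M` at the prime `p`. -/
noncomputable def rk (p : Ideal R) [p.IsPrime] (M : Type u) [AddCommGroup M] [Module R M] : ℕ :=
  Module.finrank (Localization.AtPrime p) (LocalizedModule p.primeCompl M)

theorem rk_of_free (p : Ideal R) [p.IsPrime] (M : Type u) [AddCommGroup M] [Module R M]
    [Module.Free R M] : rk p M = Module.finrank R M :=
  Module.finrank_of_isLocalizedModule_of_free (Localization.AtPrime p) p.primeCompl
    (LocalizedModule.mkLinearMap p.primeCompl M)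

variable [IsNoetherianRing R]

theorem free_localizedModule (p : Ideal R) [p.IsPrime]
    (hp : LocCoh.depth (Localization.AtPrime p) (Localization.AtPrime p) = 0)
    (M : Type u) [AddCommGroup M] [Module R M] [Module.Finite R M] (n : ℕ)
    (h : HasProjectiveDimensionLT (ModuleCat.of R M) n) :
    Module.Free (Localization.AtPrime p) (LocalizedModule p.primeCompl M) :=
  free_of_depth_self_eq_zero hp _ n (hasProjectiveDimensionLT_localizedModule _ M n h)

/-- Additivity of the local rank at a depth-zero prime along short exact sequences of finite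
modules of finite projective dimension. -/
theorem rk_add (p : Ideal R) [p.IsPrime]
    (hp : LocCoh.depth (Localization.AtPrime p) (Localization.AtPrime p) = 0)
    {K F M : Type u} [AddCommGroup K] [Module R K] [AddCommGroup F] [Module R F]
    [AddCommGroup M] [Module R M] [Module.Finite R K] [Module.Finite R M]
    (ι : K →ₗ[R] F) (f : F →ₗ[R] M) (hι : Function.Injective ι) (hex : Function.Exact ι f)
    (hf : Function.Surjective f) (n n' : ℕ)
    (hK : HasProjectiveDimensionLT (ModuleCat.of R K) n)
    (hM : HasProjectiveDimensionLT (ModuleCat.of R M) n') :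
    rk p F = rk p K + rk p M := by
  have hKf := free_localizedModule p hp K n hK
  have hMf := free_localizedModule p hp M n' hM
  have hι' := LocalizedModule.map_injective p.primeCompl ι hι
  have hf' := LocalizedModule.map_surjective p.primeCompl f hf
  have hex' := LocalizedModule.map_exact p.primeCompl ι f hex
  obtain ⟨l, hl⟩ := Module.projective_lifting_property (LocalizedModule.map p.primeCompl f)
    LinearMap.id hf'
  obtain ⟨e, -⟩ := Function.Exact.splitSurjectiveEquiv
    (f := LocalizedModule.map p.primeCompl ι) (g := LocalizedModule.map p.primeCompl f)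
    hex' hι' ⟨l, hl⟩
  unfold rk
  rw [e.finrank_eq, Module.finrank_prod]

end Rank

section Constancy

variable [IsLocalRing R] [IsNoetherianRing R]

/-- **Constancy of rank**: over a Noetherian local ring, a finite module of finite projective
dimension has the same rank at all primes `p` with `depth R_p = 0`. -/
theorem rk_eq (p q : Ideal R) [p.IsPrime] [q.IsPrime]
    (hp : LocCoh.depth (Localization.AtPrime p) (Localization.AtPrime p) = 0)
    (hq : LocCoh.depth (Localization.AtPrime q) (Localization.AtPrime q) = 0) (n : ℕ) :
    ∀ (M : Type u) [AddCommGroup M] [Module R M] [Module.Finite R M],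
      HasProjectiveDimensionLT (ModuleCat.of R M) (n + 1) → rk p M = rk q M := by
  induction n with
  | zero =>
    intro M _ _ _ h
    have hproj : Projective (ModuleCat.of R M) :=
      projective_iff_hasProjectiveDimensionLT_one.mpr h
    have : Module.Projective R M := (IsProjective.iff_projective M).mpr hproj
    have : Module.Free R M := Module.free_of_flat_of_isLocalRing
    rw [rk_of_free, rk_of_free]
  | succ n ih =>
    intro M _ _ _ h
    obtain ⟨m, f, hf, -⟩ := H87AB.exists_minimal_presentation (R := R) M
    have hS : f.shortComplexKer.ShortExact := LinearMap.shortExact_shortComplexKer hf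
    have hFproj : Projective f.shortComplexKer.X₂ :=
      ModuleCat.projective_of_free (Pi.basisFun R (Fin m))
    have hK1 : HasProjectiveDimensionLT (ModuleCat.of R (LinearMap.ker f)) (n + 1) :=
      (hS.hasProjectiveDimensionLT_X₃_iff n hFproj).mp h
    have h1 := ih (LinearMap.ker f) hK1
    have h2 := rk_add p hp (LinearMap.ker f).subtype f (Submodule.injective_subtype _)
      (LinearMap.exact_subtype_ker_map f) hf _ _ hK1 h
    have h3 := rk_add q hq (LinearMap.ker f).subtype f (Submodule.injective_subtype _)
      (LinearMap.exact_subtype_ker_map f) hf _ _ hK1 h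
    rw [rk_of_free] at h2 h3
    omega

end Constancy

end Groth.Agent.Lib.H87Vasc

namespace Groth.Agent.Lib.H87Vasc

variable {R : Type u} [CommRing R]

/-- A free module killed by a nonzero scalar is trivial. -/
theorem subsingleton_of_free_of_smul_eq_zero {A N : Type*} [CommRing A] [AddCommGroup N]
    [Module A N] [Module.Free A N] (c : A) (hc : c ≠ 0) (h : ∀ x : N, c • x = 0) :
    Subsingleton N := by
  let b := Module.Free.chooseBasis A N
  have hempty : IsEmpty (Module.Free.ChooseBasisIndex A N) := by
    constructor
    intro i
    apply hc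
    have h1 := h (b i)
    have h2 := congrArg (fun v => b.repr v i) h1
    simpa using h2
  exact b.repr.toEquiv.subsingleton

variable [IsLocalRing R] [IsNoetherianRing R]

/-- **An ideal of finite projective dimension in a Noetherian local ring is zero or contains a
nonzerodivisor.** -/
theorem eq_bot_or_exists_nonZeroDivisor (I : Ideal R) (n : ℕ)
    (hpd : HasProjectiveDimensionLT (ModuleCat.of R I) n) :
    I = ⊥ ∨ ∃ x ∈ I, x ∈ nonZeroDivisors R := by
  by_contra hcon
  push Not at hcon
  obtain ⟨hI, hzd⟩ := hcon
  have hpd' : HasProjectiveDimensionLT (ModuleCat.of R I) (n + 1) :=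
    hasProjectiveDimensionLT_of_ge _ n (n + 1) (by omega)
  have hsub : (I : Set R) ⊆ ⋃ p ∈ associatedPrimes R R, (p : Set R) := by
    intro x hx
    rw [biUnion_associatedPrimes_eq_compl_nonZeroDivisors]
    exact hzd x hx
  obtain ⟨p0, hp0, hle⟩ := (Ideal.subset_union_prime_finite (associatedPrimes.finite R R)
    (f := id) ⊥ ⊥ (fun I hI _ _ => hI.isPrime)).mp hsub
  have hp0prime : p0.IsPrime := hp0.isPrime
  have hp0' := hp0
  rw [AssociatedPrimes.mem_iff, isAssociatedPrime_iff] at hp0'
  obtain ⟨-, z, hz⟩ := hp0'
  have key : ∀ r : R, r ∈ p0 ↔ r * z = 0 := by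
    intro r
    rw [hz, Submodule.mem_colon_singleton]
    simp
  -- the rank at `p0` vanishes
  have hd0 := depth_localization_eq_zero p0 hp0
  have hfree0 := free_localizedModule p0 hd0 I n hpd
  have hz1 : algebraMap R (Localization.AtPrime p0) z ≠ 0 := by
    intro h0
    rw [IsLocalization.map_eq_zero_iff p0.primeCompl] at h0
    obtain ⟨s, hs⟩ := h0
    apply s.2
    change (s : R) ∈ p0
    rw [key]
    simpa using hs
  have hkill : ∀ y : LocalizedModule p0.primeCompl I,
      algebraMap R (Localization.AtPrime p0) z • y = 0 := by
    intro y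
    induction y with
    | h a s =>
      rw [algebraMap_smul, LocalizedModule.smul'_mk]
      have : z • a = 0 := by
        ext
        have ha : (a : R) ∈ p0 := hle a.2
        rw [key] at ha
        simpa [mul_comm] using ha
      rw [this, LocalizedModule.zero_mk]
  have hsub0 := subsingleton_of_free_of_smul_eq_zero (A := Localization.AtPrime p0)
    (N := LocalizedModule p0.primeCompl I) _ hz1 hkill
  have hrk0 : rk p0 I = 0 := by
    unfold rk
    exact (Module.finrank_eq_zero_iff_of_free _ _).mpr hsub0
  -- conclude
  apply hI
  rw [eq_bot_iff]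
  intro x hx
  by_contra hx0
  rw [Submodule.mem_bot] at hx0
  obtain ⟨q, hq, hxq⟩ := exists_le_isAssociatedPrime_of_isNoetherianRing R x hx0
  have hqprime : q.IsPrime := hq.isPrime
  have hdq := depth_localization_eq_zero q hq
  have hfreeq := free_localizedModule q hdq I n hpd
  have hrkq : rk q I = 0 := by
    rw [rk_eq q p0 hdq hd0 n I hpd', hrk0]
  have hsubq : Subsingleton (LocalizedModule q.primeCompl I) := by
    unfold rk at hrkq
    exact (Module.finrank_eq_zero_iff_of_free _ _).mp hrkq
  have h0 : LocalizedModule.mk (⟨x, hx⟩ : I) (1 : q.primeCompl) = 0 := Subsingleton.elim _ _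
  rw [← LocalizedModule.zero_mk (1 : q.primeCompl), LocalizedModule.mk_eq] at h0
  obtain ⟨s, hs⟩ := h0
  apply s.2
  apply hxq
  rw [Submodule.mem_colon_singleton]
  have := congrArg Subtype.val hs
  simpa [Submonoid.smul_def] using this

end Groth.Agent.Lib.H87Vasc

namespace Groth.Agent.Lib.H87Vasc

variable {R : Type u} [CommRing R] [IsLocalRing R] [IsNoetherianRing R]

/-- Vasconcelos, step 1: a free rank one direct summand of the conormal module of an ideal of
finite projective dimension is generated by the class of a nonzerodivisor. -/
theorem exists_nonZeroDivisor_span_eq (I : Ideal R) (n : ℕ)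
    (hpd : HasProjectiveDimensionLT (ModuleCat.of R I) n)
    (F G : Submodule (R ⧸ I) I.Cotangent) (hFG : IsCompl F G) (e : F ≃ₗ[R ⧸ I] (R ⧸ I)) :
    ∃ (x : R) (hx : x ∈ I), x ∈ nonZeroDivisors R ∧
      Submodule.span (R ⧸ I) {I.toCotangent ⟨x, hx⟩} = F := by
  by_cases hI : I = ⊤
  · subst hI
    refine ⟨1, trivial, one_mem _, ?_⟩
    have h1 : Subsingleton (R ⧸ (⊤ : Ideal R)) := Ideal.Quotient.subsingleton_iff.mpr rfl
    have h2 : Subsingleton (⊤ : Ideal R).Cotangent := Module.subsingleton (R ⧸ (⊤ : Ideal R)) _
    exact Subsingleton.elim _ _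
  · have hIm : I ≤ maximalIdeal R := le_maximalIdeal hI
    have hnt : Nontrivial (R ⧸ I) := Ideal.Quotient.nontrivial_iff.mpr hI
    have hne : I ≠ ⊥ := by
      rintro rfl
      have h1 : Subsingleton (⊥ : Ideal R) := inferInstance
      have h2 : Subsingleton (⊥ : Ideal R).Cotangent :=
        (Ideal.toCotangent_surjective (⊥ : Ideal R)).subsingleton
      have h3 : Subsingleton F := inferInstance
      have h4 : Subsingleton (R ⧸ (⊥ : Ideal R)) := e.symm.toEquiv.subsingleton
      exact not_subsingleton _ h4
    obtain ⟨y, hyI, hy⟩ := (eq_bot_or_exists_nonZeroDivisor I n hpd).resolve_left hne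
    -- the functional `I → R/I`
    let φ : I →ₗ[R] R ⧸ I :=
      ((e.toLinearMap ∘ₗ Submodule.projectionOnto F G hFG).restrictScalars R) ∘ₗ
        I.toCotangent
    have hφ : ∀ (b : I) (hb : I.toCotangent b ∈ F), φ b = e ⟨I.toCotangent b, hb⟩ := by
      intro b hb
      change e (Submodule.projectionOnto F G hFG (I.toCotangent b)) = _
      congr 1
      exact Submodule.projectionOnto_apply_left hFG ⟨_, hb⟩
    let M' : Ideal (R ⧸ I) := (maximalIdeal R).map (Ideal.Quotient.mk I)
    have hM' : (1 : R ⧸ I) ∉ M' := by
      intro h1
      have h2 : (1 : R) ∈ (M').comap (Ideal.Quotient.mk I) := by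
        rw [Ideal.mem_comap, map_one]
        exact h1
      rw [Ideal.comap_map_of_surjective _ Ideal.Quotient.mk_surjective,
        ← RingHom.ker_eq_comap_bot, Ideal.mk_ker, sup_eq_left.mpr hIm] at h2
      exact (Ideal.ne_top_iff_one _).mp (IsLocalRing.maximalIdeal.isMaximal R).ne_top h2
    let J0 : Submodule R I := (F.restrictScalars R).comap I.toCotangent
    let J1 : Submodule R I := J0 ⊓ (M'.restrictScalars R).comap φ
    let J : Ideal R := J0.map I.subtype
    let J' : Ideal R := J1.map I.subtype
    have hfin : (insert J' (associatedPrimes R R)).Finite :=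
      (associatedPrimes.finite R R).insert _
    have hnot : ¬ ((J : Set R) ⊆ ⋃ K ∈ insert J' (associatedPrimes R R), (K : Set R)) := by
      intro hsub
      obtain ⟨K, hK, hle⟩ := (Ideal.subset_union_prime_finite hfin (f := id) J' J'
        (fun K hK h1 _ => by
          rcases hK with rfl | hK
          · exact absurd rfl h1
          · exact hK.isPrime)).mp hsub
      rcases hK with rfl | hK
      · -- `J ≤ J'` is impossible
        obtain ⟨a0, ha0⟩ := I.toCotangent_surjective ((e.symm 1 : F) : I.Cotangent)
        have ha0F : I.toCotangent a0 ∈ F := by rw [ha0]; exact (e.symm 1).2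
        have ha0J : (a0 : R) ∈ J := ⟨a0, ha0F, rfl⟩
        obtain ⟨b, hb, hba⟩ := hle ha0J
        have hb' : b = a0 := Subtype.ext hba
        subst hb'
        have h1 : φ b ∈ M' := hb.2
        rw [hφ b ha0F] at h1
        have h2 : (⟨I.toCotangent b, ha0F⟩ : F) = e.symm 1 := Subtype.ext ha0
        rw [h2, LinearEquiv.apply_symm_apply] at h1
        exact hM' h1
      · -- `J ≤ p` is impossible
        have hyy : y * y ∈ J := by
          refine ⟨⟨y * y, I.mul_mem_left y hyI⟩, ?_, rfl⟩
          change I.toCotangent _ ∈ F
          have : I.toCotangent ⟨y * y, I.mul_mem_left y hyI⟩ = 0 := by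
            rw [Ideal.toCotangent_eq_zero, pow_two]
            exact Ideal.mul_mem_mul hyI hyI
          rw [this]
          exact F.zero_mem
        have hyK : y * y ∈ K := hle hyy
        have hK' : K.IsPrime := hK.isPrime
        have hyK' : y ∈ K := by
          rcases hK'.mem_or_mem hyK with h | h <;> exact h
        have : y ∈ ⋃ p ∈ associatedPrimes R R, (p : Set R) := Set.mem_biUnion hK hyK'
        rw [biUnion_associatedPrimes_eq_compl_nonZeroDivisors] at this
        exact this hy
    rw [Set.not_subset] at hnot
    obtain ⟨x, hxJ, hxU⟩ := hnot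
    obtain ⟨b, hbJ0, rfl⟩ := hxJ
    have hbF : I.toCotangent b ∈ F := hbJ0
    refine ⟨(b : R), b.2, ?_, ?_⟩
    · by_contra hzd
      have : (b : R) ∈ ⋃ p ∈ associatedPrimes R R, (p : Set R) := by
        rw [biUnion_associatedPrimes_eq_compl_nonZeroDivisors]
        exact hzd
      obtain ⟨p, hp, hbp⟩ := Set.mem_iUnion₂.mp this
      exact hxU (Set.mem_biUnion (Set.mem_insert_of_mem _ hp) hbp)
    · have hbJ' : φ b ∉ M' := by
        intro h
        apply hxU
        refine Set.mem_biUnion (Set.mem_insert _ _) ?_
        exact ⟨b, ⟨hbJ0, h⟩, rfl⟩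
      rw [hφ b hbF] at hbJ'
      obtain ⟨u, hu⟩ := Ideal.Quotient.mk_surjective (e ⟨I.toCotangent b, hbF⟩)
      have hum : u ∉ maximalIdeal R := by
        intro h
        apply hbJ'
        rw [← hu]
        exact Ideal.mem_map_of_mem _ h
      have huu : IsUnit u := by
        by_contra h
        exact hum ((IsLocalRing.mem_maximalIdeal u).mpr h)
      have huu' : IsUnit (e ⟨I.toCotangent b, hbF⟩) := by
        rw [← hu]
        exact huu.map _
      obtain ⟨w, hw⟩ := huu'.exists_left_inv
      apply le_antisymm
      · rw [Submodule.span_le]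
        intro z hz
        rw [Set.mem_singleton_iff] at hz
        rw [hz]
        exact hbF
      · intro f hf
        rw [Submodule.mem_span_singleton]
        refine ⟨e ⟨f, hf⟩ * w, ?_⟩
        have : (e ⟨f, hf⟩ * w) • (⟨I.toCotangent b, hbF⟩ : F) = ⟨f, hf⟩ := by
          apply e.injective
          rw [map_smul, smul_eq_mul, mul_assoc, hw, mul_one]
        exact congrArg Subtype.val this

end Groth.Agent.Lib.H87Vasc
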