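import Groth.Agent.Lib.H29BEN1
import Groth.Agent.Lib.H29BE4
import Groth.Agent.Lib.H87Vasc
import Groth.Agent.Lib.H8CM10
import Groth.Agent.S10890

/-!
# Buchsbaum–Eisenbud, necessity: localization and globalization (helper29)
-/

set_option autoImplicit false
universe u
open CategoryTheory IsLocalRing

namespace Groth.Agent.Lib.H29BEN2

open Groth.Agent.Lib.H29BEN1 Groth.Agent.Lib.H29BE4 Groth.Agent.Lib

/-- the expected rank of `A j` -/
def rho (m : ℕ) (n : ℕ → ℕ) (j : ℕ) : ℤ :=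
  ∑ t ∈ Finset.Icc (j + 1) (m + 1), (-1 : ℤ) ^ (t - (j + 1)) * (n t : ℤ)

section Local

variable {S : Type u} [CommRing S] [IsLocalRing S] [IsNoetherianRing S]
variable (m : ℕ) (n : ℕ → ℕ) (B : (i : ℕ) → Matrix (Fin (n i)) (Fin (n (i + 1))) S)
variable (htop : LinearMap.ker (B m).mulVecLin = ⊥)
  (hex : ∀ i, i + 1 ≤ m →
    LinearMap.ker (B i).mulVecLin = LinearMap.range (B (i + 1)).mulVecLin)

include htop hex in
theorem local_minors (g : ℕ) (hg : H87AB.IsDepth (R := S) S g) (j : ℕ) (hgj : g ≤ j)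
    (hjm : j ≤ m) :
    ∃ r : ℕ, (r : ℤ) = rho m n j ∧ CAlgX.minorIdeal (B j) (r + 1) = ⊥ ∧
      CAlgX.minorIdeal (B j) r = ⊤ := by
  obtain ⟨N', hN'⟩ := exists_isCompl_range m n B htop hex g hg j hgj hjm
  refine ⟨Module.finrank S (LinearMap.range (B j).mulVecLin),
    finrank_range m n B htop hex g hg (m - j) j (by omega) hgj, ?_⟩
  exact Groth.Agent.S10890.minors_of_summand (n j) (n (j + 1)) _ (B j) N' hN' rfl

end Local

section Map

theorem minorIdeal_map {R S : Type u} [CommRing R] [CommRing S] (φ : R →+* S) {a b : ℕ}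
    (M : Matrix (Fin a) (Fin b) R) (r : ℕ) :
    CAlgX.minorIdeal (M.map φ) r = (CAlgX.minorIdeal M r).map φ := by
  unfold CAlgX.minorIdeal
  rw [Ideal.map_span, ← Set.range_comp]
  congr 2
  funext fg
  simp only [Function.comp_apply]
  rw [RingHom.map_det, RingHom.mapMatrix_apply, Matrix.submatrix_map]

theorem minorIdeal_succ_le {R : Type u} [CommRing R] {a b : ℕ} (N : Matrix (Fin a) (Fin b) R)
    (k : ℕ) : CAlgX.minorIdeal N (k + 1) ≤ CAlgX.minorIdeal N k := by
  unfold CAlgX.minorIdeal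
  rw [Ideal.span_le]
  rintro _ ⟨⟨f, g⟩, rfl⟩
  show (N.submatrix f g).det ∈ _
  rw [Matrix.det_succ_row _ 0]
  refine Ideal.sum_mem _ fun j _ => ?_
  refine Ideal.mul_mem_left _ _ (Ideal.subset_span ?_)
  exact ⟨(f ∘ (0 : Fin (k + 1)).succAbove, g ∘ j.succAbove), rfl⟩

theorem minorIdeal_antitone {R : Type u} [CommRing R] {a b : ℕ} (N : Matrix (Fin a) (Fin b) R)
    {k l : ℕ} (h : k ≤ l) : CAlgX.minorIdeal N l ≤ CAlgX.minorIdeal N k := by
  induction h with
  | refl => exact le_rfl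
  | step _ ih => exact le_trans (minorIdeal_succ_le N _) ih

end Map

section Loc

variable {R : Type u} [CommRing R] (p : Ideal R) [p.IsPrime]
variable (n : ℕ → ℕ) (A : (i : ℕ) → Matrix (Fin (n i)) (Fin (n (i + 1))) R)

local notation "φ" => algebraMap R (Localization.AtPrime p)

theorem ker_AS_eq_bot (i : ℕ) (h : LinearMap.ker (A i).mulVecLin = ⊥) :
    LinearMap.ker (AS p n A i).mulVecLin = ⊥ := by
  rw [eq_bot_iff]
  intro z hz
  have hz' : (AS p n A i).mulVec z = 0 := hz
  obtain ⟨t, ht, z₁, hz₁, hzz⟩ := exists_lift_cycle p n A i z hz'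
  have h1 : z₁ = 0 := by
    have h2 : z₁ ∈ LinearMap.ker (A i).mulVecLin := hz₁
    rw [h] at h2
    exact (Submodule.mem_bot _).mp h2
  have hu : IsUnit (φ t) := IsLocalization.map_units (Localization.AtPrime p) (⟨t, ht⟩ : p.primeCompl)
  have h0 : φ t • z = 0 := by
    rw [← hzz, h1]
    funext k
    simp
  rw [Submodule.mem_bot]
  exact (hu.smul_eq_zero).mp h0

theorem ker_AS_eq_range (i : ℕ)
    (h : LinearMap.ker (A i).mulVecLin = LinearMap.range (A (i + 1)).mulVecLin) :
    LinearMap.ker (AS p n A i).mulVecLin = LinearMap.range (AS p n A (i + 1)).mulVecLin := by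
  apply le_antisymm
  · intro z hz
    have hz' : (AS p n A i).mulVec z = 0 := hz
    obtain ⟨t, ht, z₁, hz₁, hzz⟩ := exists_lift_cycle p n A i z hz'
    have hz₁' : z₁ ∈ LinearMap.range (A (i + 1)).mulVecLin := by
      rw [← h]; exact hz₁
    obtain ⟨w, hw⟩ := hz₁'
    have hw' : (A (i + 1)).mulVec w = z₁ := hw
    have hu : IsUnit (φ t) := IsLocalization.map_units (Localization.AtPrime p) (⟨t, ht⟩ : p.primeCompl)
    obtain ⟨u, hu'⟩ := hu
    refine ⟨(↑u⁻¹ : Localization.AtPrime p) • (φ ∘ w), ?_⟩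
    show (AS p n A (i + 1)).mulVec ((↑u⁻¹ : Localization.AtPrime p) • (φ ∘ w)) = z
    rw [Matrix.mulVec_smul, AS_mulVec, hw', hzz, ← hu', smul_smul, Units.inv_mul, one_smul]
  · rintro _ ⟨y, rfl⟩
    show (AS p n A i).mulVec ((AS p n A (i + 1)).mulVec y) = 0
    rw [Matrix.mulVec_mulVec]
    have h0 : A i * A (i + 1) = 0 := by
      apply Matrix.toLin'.injective
      rw [Matrix.toLin'_mul, map_zero]
      apply LinearMap.range_le_ker_iff.mp
      rw [Matrix.toLin'_apply', Matrix.toLin'_apply']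
      exact h.ge
    have h1 : AS p n A i * AS p n A (i + 1) = 0 := by
      unfold AS
      rw [← Matrix.map_mul, h0]
      ext a b
      simp
    rw [h1, Matrix.zero_mulVec]

end Loc

section Global

variable {R : Type u} [CommRing R] [IsNoetherianRing R]
variable (m : ℕ) (n : ℕ → ℕ) (A : (i : ℕ) → Matrix (Fin (n i)) (Fin (n (i + 1))) R)
variable (htop : LinearMap.ker (A m).mulVecLin = ⊥)
  (hex : ∀ i, i + 1 ≤ m →
    LinearMap.ker (A i).mulVecLin = LinearMap.range (A (i + 1)).mulVecLin)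

include htop hex in
theorem prime_minors (P : Ideal R) [P.IsPrime] (g : ℕ)
    (hg : H87AB.IsDepth (R := Localization.AtPrime P) (Localization.AtPrime P) g) (j : ℕ)
    (hgj : g ≤ j) (hjm : j ≤ m) :
    ∃ r : ℕ, (r : ℤ) = rho m n j ∧
      (CAlgX.minorIdeal (A j) (r + 1)).map (algebraMap R (Localization.AtPrime P)) = ⊥ ∧
      (CAlgX.minorIdeal (A j) r).map (algebraMap R (Localization.AtPrime P)) = ⊤ := by
  obtain ⟨r, hr, h1, h2⟩ := local_minors m n (AS P n A) (ker_AS_eq_bot P n A m htop)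
    (fun i hi => ker_AS_eq_range P n A i (hex i hi)) g hg j hgj hjm
  refine ⟨r, hr, ?_, ?_⟩
  · rw [← minorIdeal_map]; exact h1
  · rw [← minorIdeal_map]; exact h2

omit [IsNoetherianRing R] in
theorem eq_zero_of_forall_ass [IsNoetherianRing R] (x : R)
    (h : ∀ (P : Ideal R) [P.IsPrime], P ∈ associatedPrimes R R →
      algebraMap R (Localization.AtPrime P) x = 0) : x = 0 := by
  by_contra hx
  obtain ⟨P, hP, hle⟩ := exists_le_isAssociatedPrime_of_isNoetherianRing R x hx
  haveI := hP.isPrime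
  have h1 := h P hP
  rw [IsLocalization.map_eq_zero_iff P.primeCompl] at h1
  obtain ⟨⟨s, hs⟩, hsx⟩ := h1
  apply hs
  apply hle
  rw [Submodule.mem_colon_singleton]
  simpa using hsx

theorem isDepth_zero_of_mem_ass (P : Ideal R) [P.IsPrime] (hP : P ∈ associatedPrimes R R) :
    H87AB.IsDepth (R := Localization.AtPrime P) (Localization.AtPrime P) 0 := by
  have h := H87Vasc.depth_localization_eq_zero P hP
  exact (H87AB.depth_eq_iff _ 0).mp (by rw [h]; rfl)

include htop hex in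
theorem rank_minors [Nontrivial R] (j : ℕ) (hjm : j ≤ m) :
    ∃ r : ℕ, (r : ℤ) = rho m n j ∧ CAlgX.minorIdeal (A j) (r + 1) = ⊥ ∧
      CAlgX.minorIdeal (A j) r ≠ ⊥ := by
  obtain ⟨P₀, hP₀⟩ := associatedPrimes.nonempty R R
  haveI := hP₀.isPrime
  obtain ⟨r, hr, -, h2⟩ := prime_minors m n A htop hex P₀ 0 (isDepth_zero_of_mem_ass P₀ hP₀) j
    (Nat.zero_le _) hjm
  refine ⟨r, hr, ?_, ?_⟩
  · rw [eq_bot_iff]
    intro x hx
    rw [Ideal.mem_bot]
    apply eq_zero_of_forall_ass
    intro P _ hP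
    obtain ⟨r', hr', h1', -⟩ := prime_minors m n A htop hex P 0 (isDepth_zero_of_mem_ass P hP) j
      (Nat.zero_le _) hjm
    have hrr : r' = r := by exact_mod_cast hr'.trans hr.symm
    subst hrr
    have hmem : algebraMap R (Localization.AtPrime P) x ∈
        (CAlgX.minorIdeal (A j) (r' + 1)).map (algebraMap R (Localization.AtPrime P)) :=
      Ideal.mem_map_of_mem _ hx
    rw [h1'] at hmem
    exact hmem
  · intro hbot
    rw [hbot, Ideal.map_bot] at h2
    exact bot_ne_top h2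

include htop hex in
theorem matrixRank_eq [Nontrivial R] (j : ℕ) (hjm : j ≤ m) :
    ∃ r : ℕ, (r : ℤ) = rho m n j ∧ CAlgX.matrixRank (A j) = r := by
  obtain ⟨r, hr, h1, h2⟩ := rank_minors m n A htop hex j hjm
  refine ⟨r, hr, ?_⟩
  unfold CAlgX.matrixRank
  apply IsGreatest.csSup_eq
  refine ⟨h2, ?_⟩
  intro k hk
  by_contra hlt
  push Not at hlt
  exact hk (eq_bot_iff.mpr ((minorIdeal_antitone (A j) (by omega : r + 1 ≤ k)).trans h1.le))

omit [IsNoetherianRing R] in
theorem depth_localizedModule_self_eq (P : Ideal R) [P.IsPrime] :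
    LocCoh.depth (Localization.AtPrime P) (LocalizedModule P.primeCompl R) =
      LocCoh.depth (Localization.AtPrime P) (Localization.AtPrime P) :=
  H8CM.depth_eq_of_equiv (H8CM.localizedModuleSelfEquiv P)

include htop hex in
theorem le_depth_of_detIdeal_le [Nontrivial R] (j : ℕ) (hjm : j ≤ m) (P : Ideal R) [P.IsPrime]
    (hP : CAlgX.detIdeal (A j) ≤ P) :
    ((j + 1 : ℕ) : ℕ∞) ≤ LocCoh.depth (Localization.AtPrime P) (Localization.AtPrime P) := by
  obtain ⟨r, hr, hrk⟩ := matrixRank_eq m n A htop hex j hjm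
  obtain ⟨g, hgd, hg⟩ := H87AB.exists_isDepth_self (R := Localization.AtPrime P)
  rw [hgd]
  by_contra hlt
  have hgj : g ≤ j := by
    have : ¬ (j + 1 ≤ g) := fun h => hlt (by exact_mod_cast h)
    omega
  obtain ⟨r', hr', -, h2'⟩ := prime_minors m n A htop hex P g hg j hgj hjm
  have hrr : r' = r := by exact_mod_cast hr'.trans hr.symm
  subst hrr
  have hmap : (CAlgX.detIdeal (A j)).map (algebraMap R (Localization.AtPrime P)) = ⊤ := by
    unfold CAlgX.detIdeal
    rw [hrk]
    exact h2'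
  have hle : (CAlgX.detIdeal (A j)).map (algebraMap R (Localization.AtPrime P)) ≤
      maximalIdeal (Localization.AtPrime P) := by
    rw [← Localization.AtPrime.map_eq_maximalIdeal]
    exact Ideal.map_mono hP
  rw [hmap] at hle
  exact (maximalIdeal.isMaximal _).ne_top (top_le_iff.mp hle)

include htop hex in
theorem le_idealDepth_detIdeal [Nontrivial R] (j : ℕ) (hjm : j ≤ m) :
    ((j + 1 : ℕ) : ℕ∞) ≤ LocCoh.idealDepth (CAlgX.detIdeal (A j)) R := by
  rw [H8CM.idealDepth_eq_iInf_depth_localizedModule (CAlgX.detIdeal (A j))]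
  refine le_iInf₂ fun P hP => ?_
  rw [depth_localizedModule_self_eq P.asIdeal]
  exact le_depth_of_detIdeal_le m n A htop hex j hjm P.asIdeal hP

include htop hex in
theorem detIdeal_grade [Nontrivial R] (j : ℕ) (hjm : j ≤ m) :
    CAlgX.detIdeal (A j) = ⊤ ∨
      ∃ rs : List R, rs.length = j + 1 ∧ (∀ x ∈ rs, x ∈ CAlgX.detIdeal (A j)) ∧
        RingTheory.Sequence.IsRegular R rs := by
  by_cases htopI : CAlgX.detIdeal (A j) = ⊤
  · exact Or.inl htopI
  right
  have hIne : CAlgX.detIdeal (A j) • (⊤ : Submodule R R) ≠ ⊤ := by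
    rw [smul_eq_mul, Ideal.mul_top]
    exact htopI
  have hdepth := le_idealDepth_detIdeal m n A htop hex j hjm
  obtain ⟨rs, hlen, hmem, hreg⟩ :=
    (DepthRees.natCast_le_idealDepth_iff (CAlgX.detIdeal (A j)) R hIne (j + 1)).mp hdepth
  have hle : Ideal.ofList rs ≤ CAlgX.detIdeal (A j) := Ideal.span_le.mpr fun x hx => hmem x hx
  have hne : (⊤ : Submodule R R) ≠ Ideal.ofList rs • (⊤ : Submodule R R) := by
    intro h
    apply hIne
    rw [eq_top_iff]
    calc (⊤ : Submodule R R) = Ideal.ofList rs • (⊤ : Submodule R R) := h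
      _ ≤ _ := Submodule.smul_mono_left hle
  exact ⟨rs, hlen, hmem, ⟨hreg, hne⟩⟩

end Global

end Groth.Agent.Lib.H29BEN2
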