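import Groth.Agent.Lib.FibRegOpen89b
import Groth.Agent.S2065
import Groth.Agent.Lib.H29BE5

/-!
# Openness of the fibrewise exactness locus of a finite free complex (helper89)

Namespace `Groth.Agent.Lib.FibRegOpen89`.  `R → S` of finite type with CM fibres, equidimensional of
dimension `d`.  `isOpen_setOf_fibrewise_exact` (Stacks 00RC): for a complex of finite free
`S`-modules given by matrices, the set of primes `q` at which the complex is exact after base change
to `S_q/pS_q` is open.  Via the Buchsbaum–Eisenbud criterion (helper29: `S2065.result`,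
`H29BE5.be_exact`) and `exists_isOpen_top_or_isRegular`.
-/

set_option autoImplicit false
set_option linter.style.haveILetI false
universe u

namespace Groth.Agent.Lib.FibRegOpen89

open LocCoh IsLocalRing RingTheory.Sequence

theorem alt_sum_succ_add (n : ℕ → ℕ) (j e : ℕ) (hj : j + 1 ≤ e) :
    (∑ t ∈ Finset.Icc (j + 1) e, (-1 : ℤ) ^ (t - (j + 1)) * (n t : ℤ)) +
      ∑ t ∈ Finset.Icc j e, (-1 : ℤ) ^ (t - j) * (n t : ℤ) = n j := by
  have hIoc : Finset.Ioc j e = Finset.Icc (j + 1) e := by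
    ext t
    simp only [Finset.mem_Ioc, Finset.mem_Icc]
    omega
  rw [← Finset.sum_Ioc_add_eq_sum_Icc (by omega : j ≤ e), hIoc]
  simp only [Nat.sub_self, pow_zero, one_mul]
  rw [← add_assoc, ← Finset.sum_add_distrib]
  rw [Finset.sum_eq_zero, zero_add]
  intro t ht
  rw [Finset.mem_Icc] at ht
  have h1 : t - j = (t - (j + 1)) + 1 := by omega
  rw [h1, pow_succ]
  ring

variable (R S : Type u) [CommRing R] [CommRing S] [Algebra R S] [Algebra.FiniteType R S] (d : ℕ)
  (hCM : ∀ p : PrimeSpectrum R, LocCoh.IsCohenMacaulayRing (p.asIdeal.Fiber S))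
  (heq : ∀ p : PrimeSpectrum R, ∀ P ∈ minimalPrimes (p.asIdeal.Fiber S),
      ringKrullDim (p.asIdeal.Fiber S ⧸ P) = (d : WithBot ℕ∞))

include hCM heq in
theorem isOpen_setOf_fibrewise_exact (e : ℕ) (n : ℕ → ℕ)
    (φ : (i : ℕ) → Matrix (Fin (n i)) (Fin (n (i + 1))) S)
    (hφ : ∀ i, i + 2 ≤ e → φ i * φ (i + 1) = 0) :
    IsOpen {q : PrimeSpectrum S |
      (∀ i, i + 2 ≤ e →
        LinearMap.ker (Matrix.mulVecLin ((φ i).map (algebraMap S (EGA4.FibLocRing R S q.asIdeal)))) =
          LinearMap.range (Matrix.mulVecLin ((φ (i + 1)).map (algebraMap S (EGA4.FibLocRing R S q.asIdeal))))) ∧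
      (1 ≤ e → Function.Injective
        (Matrix.mulVecLin ((φ (e - 1)).map (algebraMap S (EGA4.FibLocRing R S q.asIdeal)))))} := by
  rcases Nat.eq_zero_or_pos e with rfl | he
  · convert isOpen_univ
    ext q
    simp
  have he1 : 1 ≤ e := he
  have hmapzero : ∀ (q : PrimeSpectrum S) i, i + 2 ≤ e →
      (φ i).map (algebraMap S (EGA4.FibLocRing R S q.asIdeal)) *
        (φ (i + 1)).map (algebraMap S (EGA4.FibLocRing R S q.asIdeal)) = 0 := by
    intro q i hi
    rw [← Matrix.map_mul, hφ i hi]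
    exact Matrix.map_zero _ (map_zero _)
  rw [isOpen_iff_forall_mem_open]
  rintro q ⟨hq1, hq2⟩
  haveI hcm := isCM_fibLocRing R S hCM q.asIdeal
  have hBE := (Groth.Agent.S2065.result e he1 n
    (fun i => (φ i).map (algebraMap S (EGA4.FibLocRing R S q.asIdeal))) (hmapzero q)).mp
    ⟨LinearMap.ker_eq_bot.mpr (hq2 he1), hq1⟩
  -- the ranks at `q`
  let r : ℕ → ℕ := fun j =>
    CAlgX.matrixRank ((φ (j - 1)).map (algebraMap S (EGA4.FibLocRing R S q.asIdeal)))
  have hr : ∀ j, 1 ≤ j → j ≤ e →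
      (r j : ℤ) = ∑ t ∈ Finset.Icc j e, (-1 : ℤ) ^ (t - j) * (n t : ℤ) :=
    fun j h1 h2 => (hBE j h1 h2).1
  have hre : r e = n e := by
    have := hr e he1 le_rfl
    simp only [Finset.Icc_self, Finset.sum_singleton, Nat.sub_self, pow_zero, one_mul] at this
    exact_mod_cast this
  have hrr : ∀ j, 1 ≤ j → j + 1 ≤ e → r (j + 1) + r j = n j := by
    intro j h1 h2
    have := alt_sum_succ_add n j e h2
    rw [← hr (j + 1) (by omega) h2, ← hr j h1 (by omega)] at this
    exact_mod_cast this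
  -- spreading out
  have hsp : ∀ j, j + 1 ≤ e → ∃ U : Set (PrimeSpectrum S), IsOpen U ∧ q ∈ U ∧ ∀ q' ∈ U,
      ((CAlgX.minorIdeal (φ j) (r (j + 1))).map
          (algebraMap S (EGA4.FibLocRing R S q'.asIdeal)) = ⊤ ∨
        ∃ rs : List (EGA4.FibLocRing R S q'.asIdeal), rs.length = j + 1 ∧
          (∀ x ∈ rs, x ∈ (CAlgX.minorIdeal (φ j) (r (j + 1))).map
            (algebraMap S (EGA4.FibLocRing R S q'.asIdeal))) ∧
          IsRegular (EGA4.FibLocRing R S q'.asIdeal) rs) := by
    intro j hj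
    apply exists_isOpen_top_or_isRegular R S d hCM heq (CAlgX.minorIdeal (φ j) (r (j + 1))) (j + 1) q
    have h2 := (hBE (j + 1) (by omega) hj).2
    have hdet : CAlgX.detIdeal ((φ j).map (algebraMap S (EGA4.FibLocRing R S q.asIdeal))) =
        (CAlgX.minorIdeal (φ j) (r (j + 1))).map
          (algebraMap S (EGA4.FibLocRing R S q.asIdeal)) := by
      rw [← Groth.Agent.Lib.H29BEN2.minorIdeal_map]
      rfl
    change CAlgX.detIdeal ((φ j).map (algebraMap S (EGA4.FibLocRing R S q.asIdeal))) = ⊤ ∨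
      ∃ rs : List (EGA4.FibLocRing R S q.asIdeal), rs.length = j + 1 ∧
        (∀ x ∈ rs, x ∈ CAlgX.detIdeal ((φ j).map (algebraMap S (EGA4.FibLocRing R S q.asIdeal)))) ∧
        IsRegular (EGA4.FibLocRing R S q.asIdeal) rs at h2
    rw [hdet] at h2
    exact h2
  choose! U hUo hqU hU using hsp
  refine ⟨⋂ j ∈ Finset.range e, U j, ?_, isOpen_biInter_finset
    (fun j hj => hUo j (by simpa [Nat.succ_le_iff] using hj)), ?_⟩
  · intro q' hq'
    haveI hcm' := isCM_fibLocRing R S hCM q'.asIdeal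
    have hdet' : ∀ j, j + 1 ≤ e →
        CAlgX.minorIdeal ((φ j).map (algebraMap S (EGA4.FibLocRing R S q'.asIdeal))) (r (j + 1)) = ⊤ ∨
        ∃ rs : List (EGA4.FibLocRing R S q'.asIdeal), rs.length = j + 1 ∧
          (∀ x ∈ rs, x ∈ CAlgX.minorIdeal
            ((φ j).map (algebraMap S (EGA4.FibLocRing R S q'.asIdeal))) (r (j + 1))) ∧
          IsRegular (EGA4.FibLocRing R S q'.asIdeal) rs := by
      intro j hj
      rw [Groth.Agent.Lib.H29BEN2.minorIdeal_map]
      refine hU j hj q' ?_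
      rw [Set.mem_iInter₂] at hq'
      exact hq' j (by simpa [Nat.succ_le_iff] using hj)
    have hex := Groth.Agent.Lib.H29BE5.be_exact e he1 n
      (fun i => (φ i).map (algebraMap S (EGA4.FibLocRing R S q'.asIdeal))) (hmapzero q')
      r hre hrr hdet'
    exact ⟨hex.2, fun _ => LinearMap.ker_eq_bot.mp hex.1⟩
  · rw [Set.mem_iInter₂]
    intro j hj
    exact hqU j (by simpa [Nat.succ_le_iff] using hj)

end Groth.Agent.Lib.FibRegOpen89
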