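import Groth.Agent.Lib.FibSiteTotal
import Mathlib.CategoryTheory.Sites.ConcreteSheafification
import Mathlib.CategoryTheory.Sites.Continuous
import Mathlib.CategoryTheory.Sites.CoverPreserving
import Mathlib.CategoryTheory.Sites.InducedTopology

set_option autoImplicit false
universe w v₁ u₁ v₂ u₂ v₃ u₃
open CategoryTheory Opposite Pseudofunctor Pseudofunctor.CoGrothendieck
open FibSite

namespace Groth.Agent.Lib.FibSiteCont

open Groth.Agent.Lib.FibSiteTotal

variable {𝒮 : Type u₁} [Category.{v₁} 𝒮] (F : Pseudofunctor (LocallyDiscrete 𝒮ᵒᵖ) Cat.{v₂, u₂})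
variable (J : Topologies F)

/-- The restriction of a sheaf (even a separated presheaf) on the total site to a fibre is
separated. -/
theorem restrict_ext (P : (∫ᶜ F)ᵒᵖ ⥤ Type w) (hP : Presieve.IsSheaf (totalTopology F J) P)
    {S : 𝒮} {U : F.obj ⟨op S⟩} (R : Sieve U) (hR : R ∈ J S U)
    (a b : P.obj (op ((ι F S).obj U)))
    (h : ∀ ⦃Y : F.obj ⟨op S⟩⦄ (g : Y ⟶ U), R g → P.map ((ι F S).map g).op a =
      P.map ((ι F S).map g).op b) : a = b := by
  refine (hP _ (functorPushforward_mem_totalTopology hR)).isSeparatedFor.ext ?_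
  rintro Z m ⟨Y, g, n, hg, rfl⟩
  rw [op_comp, P.map_comp]
  change P.map n.op (P.map ((ι F S).map g).op a) = P.map n.op (P.map ((ι F S).map g).op b)
  rw [h g hg]


/-- The cartesian lift of `e` at `Y`, as a morphism `⟨S', e^* Y⟩ ⟶ ⟨S, Y⟩`. -/
def cart {S' S : 𝒮} (e : S' ⟶ S) (Y : F.obj ⟨op S⟩) :
    (ι F S').obj ((invImage F e).obj Y) ⟶ (ι F S).obj Y := ⟨e, 𝟙 _⟩

theorem cart_naturality {S' S : 𝒮} (e : S' ⟶ S) {Y' Y : F.obj ⟨op S⟩} (k : Y' ⟶ Y) :
    cart F e Y' ≫ (ι F S).map k = (ι F S').map ((invImage F e).map k) ≫ cart F e Y := by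
  unfold cart
  erw [mk_comp_ι_map, ι_map_comp_mk, Category.id_comp, Category.comp_id]
  rfl

theorem mk_eq_ι_map_comp_cart {S' S : 𝒮} (e : S' ⟶ S) {W : F.obj ⟨op S'⟩} {Y : F.obj ⟨op S⟩}
    (ψ : W ⟶ (invImage F e).obj Y) :
    (⟨e, ψ⟩ : (⟨S', W⟩ : ∫ᶜ F) ⟶ (ι F S).obj Y) = (ι F S').map ψ ≫ cart F e Y := by
  unfold cart
  erw [ι_map_comp_mk, Category.comp_id]
  rfl

/-- Key lemma: a compatible family on a covering sieve of a fibre, for the restriction of a sheaf on
the total site, is compatible with all morphisms of the total category. -/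
theorem key (hF : IsPreFibSite F J) (P : (∫ᶜ F)ᵒᵖ ⥤ Type (max u₁ v₁ u₂ v₂))
    (hP : Presieve.IsSheaf (totalTopology F J) P)
    {S : 𝒮} {U : F.obj ⟨op S⟩} (R : Sieve U) (hR : R ∈ J S U)
    (x : Presieve.FamilyOfElements ((ι F S).op ⋙ P) R.arrows) (hx : x.Compatible)
    {Y₁ Y₂ : F.obj ⟨op S⟩} {Z : ∫ᶜ F} (n₁ : Z ⟶ (ι F S).obj Y₁) (n₂ : Z ⟶ (ι F S).obj Y₂)
    {g₁ : Y₁ ⟶ U} {g₂ : Y₂ ⟶ U} (hg₁ : R g₁) (hg₂ : R g₂)
    (h : n₁ ≫ (ι F S).map g₁ = n₂ ≫ (ι F S).map g₂) :
    P.map n₁.op (x g₁ hg₁) = P.map n₂.op (x g₂ hg₂) := by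
  obtain ⟨S', W⟩ := Z
  obtain ⟨e₁, ψ₁⟩ := n₁
  obtain ⟨e₂, ψ₂⟩ := n₂
  erw [mk_comp_ι_map, mk_comp_ι_map] at h
  have hb : e₁ = e₂ := congrArg Hom.base h
  subst hb
  have hfib : ψ₁ ≫ (invImage F e₁).map g₁ = ψ₂ ≫ (invImage F e₁).map g₂ := by
    have := (Hom.ext_iff _ _).1 h
    obtain ⟨_, h2⟩ := this
    simp at h2
    exact h2
  clear h
  -- notation
  let e : S' ⟶ S := e₁
  let G : (F.obj ⟨op S'⟩)ᵒᵖ ⥤ Type (max u₁ v₁ u₂ v₂) := (ι F S').op ⋙ P
  have hsep : ∀ (X : F.obj ⟨op S'⟩) (T : (J S').Cover X) (a b : ToType (G.obj (op X))),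
      (∀ I : T.Arrow, G.map I.f.op a = G.map I.f.op b) → a = b := by
    intro X T a b hab
    exact restrict_ext F J P hP T.1 T.2 a b (fun Y g hg => hab ⟨Y, g, hg⟩)
  let aG := (J S').plusObj G
  let η := (J S').toPlus G
  have haG : Presheaf.IsSheaf (J S') aG := GrothendieckTopology.Plus.isSheaf_of_sep G hsep
  have hη : ∀ X, Function.Injective (η.app (op X)) :=
    fun X => GrothendieckTopology.Plus.inj_of_sep G hsep X
  have : (invImage F e).IsContinuous (J S) (J S') := hF e
  have hH : Presieve.IsSheaf (J S) ((invImage F e).op ⋙ aG) :=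
    Functor.op_comp_isSheaf_of_isSheaf_type (invImage F e) (J S)
      ((isSheaf_iff_isSheaf_of_type _ _).1 haG)
  -- the family in `aG ∘ e^*`
  let z : Presieve.FamilyOfElements ((invImage F e).op ⋙ aG) R.arrows :=
    fun Y g hg => η.app (op ((invImage F e).obj Y)) (P.map (cart F e Y).op (x g hg))
  have hz : z.Compatible := by
    rw [Presieve.compatible_iff_sieveCompatible]
    intro Y Y' g k hg
    have hxc := (Presieve.compatible_iff_sieveCompatible x).1 hx g k hg
    change η.app (op ((invImage F e).obj Y')) (P.map (cart F e Y').op (x (k ≫ g) _)) =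
      aG.map ((invImage F e).map k).op
        (η.app (op ((invImage F e).obj Y)) (P.map (cart F e Y).op (x g hg)))
    rw [hxc]
    have hnat := NatTrans.naturality_apply η ((invImage F e).map k).op
      (P.map (cart F e Y).op (x g hg))
    rw [← hnat]
    congr 1
    change P.map (cart F e Y').op (P.map ((ι F S).map k).op (x g hg)) =
      P.map ((ι F S').map ((invImage F e).map k)).op (P.map (cart F e Y).op (x g hg))
    rw [← Functor.map_comp_apply, ← Functor.map_comp_apply, ← op_comp, ← op_comp,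
      cart_naturality]
  -- amalgamate
  obtain ⟨b, hb⟩ := (hH R hR z hz).exists
  -- the main computation
  have hmain : ∀ {Y : F.obj ⟨op S⟩} (g : Y ⟶ U) (hg : R g) (ψ : W ⟶ (invImage F e).obj Y),
      η.app (op W) (P.map (Quiver.Hom.op (⟨e, ψ⟩ : (⟨S', W⟩ : ∫ᶜ F) ⟶ (ι F S).obj Y)) (x g hg)) =
        aG.map (ψ ≫ (invImage F e).map g).op b := by
    intro Y g hg ψ
    have h1 : P.map (Quiver.Hom.op (⟨e, ψ⟩ : (⟨S', W⟩ : ∫ᶜ F) ⟶ (ι F S).obj Y)) (x g hg) =
        G.map ψ.op (P.map (cart F e Y).op (x g hg)) := by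
      change _ = P.map ((ι F S').map ψ).op (P.map (cart F e Y).op (x g hg))
      rw [← Functor.map_comp_apply, ← op_comp, ← mk_eq_ι_map_comp_cart]
      rfl
    rw [h1, NatTrans.naturality_apply η ψ.op]
    have h2 : η.app (op ((invImage F e).obj Y)) (P.map (cart F e Y).op (x g hg)) =
        aG.map ((invImage F e).map g).op b := (hb g hg).symm
    rw [h2, op_comp, Functor.map_comp_apply]
  have h3 : η.app (op W)
      (P.map (Quiver.Hom.op (⟨e, ψ₁⟩ : (⟨S', W⟩ : ∫ᶜ F) ⟶ (ι F S).obj Y₁)) (x g₁ hg₁)) =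
      η.app (op W)
        (P.map (Quiver.Hom.op (⟨e, ψ₂⟩ : (⟨S', W⟩ : ∫ᶜ F) ⟶ (ι F S).obj Y₂)) (x g₂ hg₂)) := by
    have hfib' : ψ₁ ≫ (invImage F e).map g₁ = ψ₂ ≫ (invImage F e).map g₂ := hfib
    rw [hmain g₁ hg₁ ψ₁, hmain g₂ hg₂ ψ₂]
    exact congrArg (fun t : W ⟶ (invImage F e).obj U => aG.map t.op b) hfib'
  exact hη W h3


open Presieve in
/-- The fibre inclusions are continuous for the total topology. -/
theorem isContinuous_ι (hF : IsPreFibSite F J) (S : 𝒮) :
    (ι F S).IsContinuous (J S) (totalTopology F J) where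
  op_comp_isSheaf_of_types G := by
    intro U R hR x hx
    have hP : Presieve.IsSheaf (totalTopology F J) G.obj :=
      (isSheaf_iff_isSheaf_of_type _ _).1 G.property
    have H := hP _ (functorPushforward_mem_totalTopology hR)
    have hy : (x.functorPushforward (ι F S)).Compatible := by
      rintro Z₁ Z₂ W g₁ g₂ f₁' f₂' H₁ H₂ eq
      unfold FamilyOfElements.functorPushforward
      rcases getFunctorPushforwardStructure H₁ with ⟨X₁, f₁, h₁, hf₁, rfl⟩
      rcases getFunctorPushforwardStructure H₂ with ⟨X₂, f₂, h₂, hf₂, rfl⟩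
      suffices G.obj.map (g₁ ≫ h₁).op (x f₁ hf₁) = G.obj.map (g₂ ≫ h₂).op (x f₂ hf₂) by
        simpa using this
      apply key F J hF G.obj hP R hR x hx _ _ hf₁ hf₂
      simpa using eq
    apply existsUnique_of_exists_of_unique
    · refine ⟨H.amalgamate _ hy, fun V f hf => ?_⟩
      refine (H.isAmalgamation hy ((ι F S).map f) (Sieve.image_mem_functorPushforward _ _ hf)).trans ?_
      unfold FamilyOfElements.functorPushforward
      rcases getFunctorPushforwardStructure (Sieve.image_mem_functorPushforward (ι F S) R hf) with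
        ⟨X, g, f', hg, eq⟩
      have := key F J hF G.obj hP R hR x hx f' (𝟙 _) hg hf (by simp [eq])
      simpa using this
    · intro y₁ y₂ hy₁ hy₂
      exact restrict_ext F J G.obj hP R hR y₁ y₂ (fun Y g hg => (hy₁ g hg).trans (hy₂ g hg).symm)


theorem map_map_apply {C : Type*} [Category C] (Q : Cᵒᵖ ⥤ Type w) {X Y Z : C} (f : X ⟶ Y)
    (g : Y ⟶ Z) (t : Q.obj (op Z)) : Q.map f.op (Q.map g.op t) = Q.map (f ≫ g).op t := by
  simp

/-- A presheaf of types on the total category whose restrictions to the fibres are sheaves is a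
sheaf for the total topology. -/
theorem isSheaf_of_restrict (hF : IsPreFibSite F J) (Q : (∫ᶜ F)ᵒᵖ ⥤ Type w)
    (h : ∀ S : 𝒮, Presieve.IsSheaf (J S) ((ι F S).op ⋙ Q)) :
    Presieve.IsSheaf (totalTopology F J) Q := by
  intro X T hT
  obtain ⟨R, hR, hRT⟩ := (mem_totalTopology_iff F J hF _ T).1 hT
  intro y hy
  let x : Presieve.FamilyOfElements ((ι F X.base).op ⋙ Q) R.arrows :=
    fun Y g hg => y ((ι F X.base).map g) (hRT _ (Sieve.image_mem_functorPushforward _ _ hg))
  have hx : x.Compatible := by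
    intro Y₁ Y₂ Z k₁ k₂ g₁ g₂ hg₁ hg₂ eq
    exact hy ((ι F X.base).map k₁) ((ι F X.base).map k₂) _ _
      (((ι F X.base).map_comp k₁ g₁).symm.trans
        ((congrArg (ι F X.base).map eq).trans ((ι F X.base).map_comp k₂ g₂)))
  apply existsUnique_of_exists_of_unique
  · refine ⟨(h X.base R hR).amalgamate x hx, ?_⟩
    have ht := (h X.base R hR).isAmalgamation hx
    intro Z m hm
    have hpb : (R.functorPushforward (ι F X.base)).pullback m ∈ totalTopology F J _ :=
      (totalTopology F J).pullback_stable m (functorPushforward_mem_totalTopology hR)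
    obtain ⟨R', hR', hR'T⟩ := (mem_totalTopology_iff F J hF _ _).1 hpb
    refine (h Z.base R' hR').isSeparatedFor.ext ?_
    intro W' α hα
    obtain ⟨Y, g, n, hg, eq⟩ := hR'T _ (Sieve.image_mem_functorPushforward _ _ hα)
    change Q.map ((ι F Z.base).map α).op (Q.map m.op ((h X.base R hR).amalgamate x hx)) =
      Q.map ((ι F Z.base).map α).op (y m hm)
    calc Q.map ((ι F Z.base).map α).op (Q.map m.op ((h X.base R hR).amalgamate x hx))
        = Q.map ((ι F Z.base).map α ≫ m).op ((h X.base R hR).amalgamate x hx) :=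
          map_map_apply Q _ _ _
      _ = Q.map (n ≫ (ι F X.base).map g).op ((h X.base R hR).amalgamate x hx) :=
          congrArg (fun k => Q.map (Quiver.Hom.op k) ((h X.base R hR).amalgamate x hx)) eq
      _ = Q.map n.op (Q.map ((ι F X.base).map g).op ((h X.base R hR).amalgamate x hx)) :=
          (map_map_apply Q _ _ _).symm
      _ = Q.map n.op (x g hg) := congrArg (Q.map n.op) (ht g hg)
      _ = Q.map ((ι F Z.base).map α).op (y m hm) := hy n ((ι F Z.base).map α) _ hm eq.symm
  · intro t₁ t₂ ht₁ ht₂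
    refine (h X.base R hR).isSeparatedFor.ext ?_
    intro Y g hg
    exact (ht₁ _ (hRT _ (Sieve.image_mem_functorPushforward _ _ hg))).trans
      (ht₂ _ (hRT _ (Sieve.image_mem_functorPushforward _ _ hg))).symm


/-- Sheaves for the total topology are the presheaves whose restrictions to all fibres are
sheaves. -/
theorem isSheaf_total_iff (hF : IsPreFibSite F J) {A : Type u₃} [Category.{v₃} A]
    (P : (∫ᶜ F)ᵒᵖ ⥤ A) :
    Presheaf.IsSheaf (totalTopology F J) P ↔
      ∀ S : 𝒮, Presheaf.IsSheaf (J S) ((ι F S).op ⋙ P) := by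
  constructor
  · intro h S
    have := isContinuous_ι F J hF S
    exact Functor.op_comp_isSheaf_of_isSheaf (ι F S) (J S) (totalTopology F J) P h
  · intro h E
    exact isSheaf_of_restrict F J hF _ (fun S => h S E)

/-- Continuity of a functor out of the total site is tested on the fibres. -/
theorem isContinuous_total_iff (hF : IsPreFibSite F J) {D : Type u₃} [Category.{v₃} D]
    (K : GrothendieckTopology D) (m : ∫ᶜ F ⥤ D) :
    m.IsContinuous (totalTopology F J) K ↔
      ∀ S : 𝒮, (ι F S ⋙ m).IsContinuous (J S) K := by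
  constructor
  · intro h S
    have := isContinuous_ι F J hF S
    exact Functor.isContinuous_comp (ι F S) m (J S) (totalTopology F J) K
  · intro h
    refine ⟨fun G => isSheaf_of_restrict F J hF _ (fun S => ?_)⟩
    have := h S
    exact Functor.op_comp_isSheaf_of_types (ι F S ⋙ m) (J S) K G


set_option backward.isDefEq.respectTransparency false in
/-- A morphism of the total category between two objects of the same fibre whose composite with
the image of a fibre morphism is the image of a fibre morphism comes from the fibre. -/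
theorem exists_fibre_factor {S : 𝒮} {Y Y' U : F.obj ⟨op S⟩} (g : Y ⟶ U) (τ : Y' ⟶ U)
    (n : (ι F S).obj Y ⟶ (ι F S).obj Y') (h : (ι F S).map g = n ≫ (ι F S).map τ) :
    ∃ k : Y ⟶ Y', g = k ≫ τ := by
  obtain ⟨e, ψ⟩ := n
  erw [mk_comp_ι_map] at h
  have hb : 𝟙 S = e := congrArg Hom.base h
  subst hb
  have hfib : g ≫ (F.mapId ⟨op S⟩).inv.toNatTrans.app U = ψ ≫ (invImage F (𝟙 S)).map τ := by
    have := (Hom.ext_iff _ _).1 h
    obtain ⟨_, h2⟩ := this
    simp at h2
    exact h2
  refine ⟨ψ ≫ (F.mapId ⟨op S⟩).hom.toNatTrans.app Y', ?_⟩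
  have hnat := (F.mapId ⟨op S⟩).hom.toNatTrans.naturality τ
  have h3 : g = (g ≫ (F.mapId ⟨op S⟩).inv.toNatTrans.app U) ≫
      (F.mapId ⟨op S⟩).hom.toNatTrans.app U := by
    simp [← Cat.Hom₂.comp_app]
  rw [h3, hfib, Category.assoc, Category.assoc]
  congr 1


/-- The total topology induces on each fibre its given topology. -/
theorem inducedTopology_ι (hF : IsPreFibSite F J) (S : 𝒮) :
    (ι F S).inducedTopology (totalTopology F J) = J S := by
  apply le_antisymm
  · intro U T hT
    have hcp := (CoverPreserving.of_isContinuous (ι F S)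
      ((ι F S).inducedTopology (totalTopology F J)) (totalTopology F J)).cover_preserve hT
    obtain ⟨R, hR, hRT⟩ := (mem_totalTopology_iff F J hF _ _).1 hcp
    refine (J S).superset_covering ?_ hR
    intro Y g hg
    obtain ⟨Y', τ, n, hτ, eq⟩ := hRT _ (Sieve.image_mem_functorPushforward _ _ hg)
    obtain ⟨k, rfl⟩ := exists_fibre_factor F g τ n eq
    exact T.downward_closed hτ k
  · rw [Functor.le_inducedTopology_iff]
    exact isContinuous_ι F J hF S

end Groth.Agent.Lib.FibSiteCont
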