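import Groth.Agent.Lib.FibSiteKan

set_option autoImplicit false
universe w w' v₁ u₁ v₂ u₂ v₃ u₃ u
open CategoryTheory CategoryTheory.Limits Opposite Pseudofunctor Pseudofunctor.CoGrothendieck
open FibSite
open Groth.Agent.Lib.FibSiteTotal Groth.Agent.Lib.FibSiteCont Groth.Agent.Lib.FibSiteKan

namespace Groth.Agent.Lib.FibSiteExact

variable {𝒮 : Type u₁} [Category.{v₁} 𝒮] {F : Pseudofunctor (LocallyDiscrete 𝒮ᵒᵖ) Cat.{v₂, u₂}}
variable (J : Topologies F)

section Reflect

variable {A : Type u₃} [Category.{v₃} A]
  [∀ S : 𝒮, (ι F S).IsContinuous (J S) (totalTopology F J)]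

/-- The restrictions to the fibres jointly reflect limits of sheaves on the total site. -/
noncomputable def isLimitOfRestr {K : Type w} [Category.{w'} K] {D : K ⥤ TotSh F J A} (c : Cone D)
    [HasLimitsOfShape K A]
    (h : ∀ S : 𝒮, IsLimit ((restr F J A S).mapCone c)) : IsLimit c := by
  apply isLimitOfReflects (sheafToPresheaf (totalTopology F J) A)
  apply evaluationJointlyReflectsLimits
  intro X
  have := isLimitOfPreserves
    (sheafToPresheaf (J X.unop.base) A ⋙ (evaluation _ _).obj (op X.unop.fiber)) (h X.unop.base)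
  exact this

end Reflect

section Iso

variable {i j : 𝒮} (f : i ⟶ j) (hf : ∀ f' : i ⟶ j, f' = f)
  [(ι F j).IsContinuous (J j) (totalTopology F J)]
  [(ι F i).IsCocontinuous (J i) (totalTopology F J)]
  [∀ (P : (F.obj ⟨op i⟩)ᵒᵖ ⥤ Type w), (ι F i).op.HasPointwiseRightKanExtension P]
  [(invImage F f).IsContinuous (J j) (J i)]

include hf in
theorem isIso_phiSheaf : IsIso (phiSheaf (A := Type w) (J := J) f) := by
  apply +allowSynthFailures NatIso.isIso_of_isIso_app
  intro a
  have h2 : IsIso ((sheafToPresheaf (J j) (Type w)).map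
      ((phiSheaf (A := Type w) (J := J) f).app a)) := by
    apply +allowSynthFailures NatIso.isIso_of_isIso_app
    intro V
    rw [isIso_iff_bijective]
    have key := fun t => existsUnique_of_isPointwise a.obj
      (Functor.RightExtension.mk _ ((ι F i).op.ranCounit.app a.obj)) V.unop
      ((ι F i).op.isPointwiseRightKanExtensionRanCounit a.obj _) t
    constructor
    · intro x y hxy
      obtain ⟨z, -, hz⟩ := key (fun f' => ((ι F i).op.ranCounit.app a.obj).app _
        (((ι F i).op.ran.obj a.obj).map (cart F f' V.unop).op x))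
      rw [hz x (fun _ => rfl)]
      symm
      apply hz
      intro f'
      obtain rfl := hf f'
      exact hxy.symm
    · intro y
      obtain ⟨x, hx, -⟩ := key (fun f' => (hf f') ▸ y)
      exact ⟨x, hx f⟩
  exact isIso_of_reflects_iso _ (sheafToPresheaf (J j) (Type w))

end Iso

section Terminal

variable {S i : 𝒮} (f : S ⟶ i) (hf : ∀ f' : S ⟶ i, f' = f)
  [(ι F i).IsContinuous (J i) (totalTopology F J)]
  [(ι F S).IsContinuous (J S) (totalTopology F J)]
  [(ι F S).IsCocontinuous (J S) (totalTopology F J)]
  [∀ (P : (F.obj ⟨op S⟩)ᵒᵖ ⥤ Type w), (ι F S).op.HasPointwiseRightKanExtension P]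
  [(invImage F f).IsContinuous (J i) (J S)]
  [((ι F i).sheafPushforwardContinuous (Type w) (J i) (totalTopology F J)).IsRightAdjoint]
  [((invImage F f).sheafPushforwardContinuous (Type w) (J i) (J S)).IsRightAdjoint]

include hf in
/-- When `f` is the only morphism `S ⟶ i`, "extend from the fibre over `i`, restrict to the fibre
over `S`" is the inverse image along `f^*`. -/
theorem nonempty_extend_restr_iso :
    Nonempty (extend F J (Type w) i ⋙ restr F J (Type w) S ≅
      (invImage F f).sheafPullback (Type w) (J i) (J S)) := by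
  have := isIso_phiSheaf.{w} J f hf
  let adj : extend F J (Type w) i ⋙ restr F J (Type w) S ⊣
      coextend F J (Type w) S ⋙ restr F J (Type w) i :=
    ((ι F i).sheafAdjunctionContinuous (Type w) (J i) (totalTopology F J)).comp
      ((ι F S).sheafAdjunctionCocontinuous (Type w) (J S) (totalTopology F J))
  exact ⟨(adj.ofNatIsoRight (asIso (phiSheaf (A := Type w) (J := J) f))).leftAdjointUniq
    ((invImage F f).sheafAdjunctionContinuous (Type w) (J i) (J S))⟩

end Terminal

end Groth.Agent.Lib.FibSiteExact
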