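import Groth.Agent.Lib.FibSiteCont
import Mathlib.CategoryTheory.Adjunction.Triple
import Mathlib.CategoryTheory.Sites.DenseSubsite.SheafEquiv

/-!
# Fibre inclusions over an object without non-trivial endomorphisms

* `faithful_ι` : the fibre inclusion `ι F S` is faithful.
* `full_ι_of_subsingleton_end` : it is full when `S` has no endomorphism besides the identity
  (e.g. `S` terminal).
* `sheafPullbackFullyFaithful` : for a fully faithful, continuous and cocontinuous functor `G`
  between sites, the left adjoint `G.sheafPullback` of `G.sheafPushforwardContinuous` is fully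
  faithful (adjoint triple, the right adjoint being the right Kan extension along a fully
  faithful functor).
-/

set_option autoImplicit false
universe v₁ u₁ v₂ u₂ v₃ u₃ u
open CategoryTheory CategoryTheory.Limits Opposite Pseudofunctor Pseudofunctor.CoGrothendieck
open FibSite

namespace Groth.Agent.Lib.FibSiteTerminal

variable {𝒮 : Type u₁} [Category.{v₁} 𝒮] (F : Pseudofunctor (LocallyDiscrete 𝒮ᵒᵖ) Cat.{v₂, u₂})

set_option backward.isDefEq.respectTransparency false in
instance faithful_ι (S : 𝒮) : (ι F S).Faithful where
  map_injective {a b} f g h := by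
    have h2 := ((Hom.ext_iff _ _).mp h).2
    simpa [cancel_mono, ← Cat.Hom.toNatIso_hom, ← Cat.Hom.toNatIso_inv] using h2

set_option backward.defeqAttrib.useBackward true in
set_option backward.isDefEq.respectTransparency false in
theorem full_ι_of_subsingleton_end (S : 𝒮) (hS : ∀ f : S ⟶ S, f = 𝟙 S) : (ι F S).Full where
  map_surjective {X Y} f := by
    have hf : f.base = 𝟙 S := hS _
    use f.fiber ≫ eqToHom (by simp [hf]) ≫ (F.mapId ⟨op S⟩).hom.toNatTrans.app Y
    ext <;> simp [hf, ← Cat.Hom₂.comp_app]

theorem full_ι_of_isTerminal (S : 𝒮) (hS : IsTerminal S) : (ι F S).Full :=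
  full_ι_of_subsingleton_end F S (fun _ => hS.hom_ext _ _)

section
variable {C : Type u₁} [Category.{v₁} C] {D : Type u₂} [Category.{v₂} D]
  (G : C ⥤ D) (A : Type u₃) [Category.{v₃} A]
  (J : GrothendieckTopology C) (K : GrothendieckTopology D)
  [G.IsContinuous J K] [G.IsCocontinuous J K] [G.Full] [G.Faithful]
  [∀ (P : Cᵒᵖ ⥤ A), G.op.HasPointwiseRightKanExtension P]

instance isIso_counit_sheafAdjunctionCocontinuous :
    IsIso (G.sheafAdjunctionCocontinuous A J K).counit := by
  apply +allowSynthFailures NatIso.isIso_of_isIso_app
  intro Y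
  have h1 : IsIso ((G.op.ranAdjunction A).counit.app Y.obj) := inferInstance
  have h2 : IsIso ((sheafToPresheaf J A).map
      ((G.sheafAdjunctionCocontinuous A J K).counit.app Y)) := by
    change IsIso ((G.sheafAdjunctionCocontinuous A J K).counit.app Y).hom
    rw [Functor.sheafAdjunctionCocontinuous_counit_app_hom]
    exact h1
  exact isIso_of_reflects_iso _ (sheafToPresheaf J A)

/-- If `G` is fully faithful, continuous and cocontinuous, then `sheafPullback` is fully faithful. -/
noncomputable def sheafPullbackFullyFaithful
    [(G.sheafPushforwardContinuous A J K).IsRightAdjoint] :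
    (G.sheafPullback A J K).FullyFaithful :=
  (Adjunction.Triple.fullyFaithfulEquiv
    ⟨G.sheafAdjunctionContinuous A J K, G.sheafAdjunctionCocontinuous A J K⟩).symm
    (Adjunction.fullyFaithfulROfIsIsoCounit (G.sheafAdjunctionCocontinuous A J K))

end

end Groth.Agent.Lib.FibSiteTerminal
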