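import Groth.Agent.Lib.FibSiteCont
import Groth.Agent.Lib.FibSiteTerminal

set_option autoImplicit false
universe w v₁ u₁ v₂ u₂ v₃ u₃ u
open CategoryTheory CategoryTheory.Limits Opposite Pseudofunctor Pseudofunctor.CoGrothendieck
open FibSite
open Groth.Agent.Lib.FibSiteTotal Groth.Agent.Lib.FibSiteCont

namespace Groth.Agent.Lib.FibSiteKan

variable {𝒮 : Type u₁} [Category.{v₁} 𝒮] (F : Pseudofunctor (LocallyDiscrete 𝒮ᵒᵖ) Cat.{v₂, u₂})

/-- The cartesian lifts along `f`, as a natural transformation `f^* ⋙ ι_i ⟶ ι_j`. -/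
def cartNat {i j : 𝒮} (f : i ⟶ j) : invImage F f ⋙ ι F i ⟶ ι F j where
  app V := cart F f V
  naturality _ _ k := (cart_naturality F f k).symm

variable {F}
variable {A : Type u₃} [Category.{v₃} A]

/-- The candidate section attached to a family `t`. -/
def sec {i j : 𝒮} (P : (F.obj ⟨op i⟩)ᵒᵖ ⥤ Type w) (V : F.obj ⟨op j⟩)
    (t : ∀ f : i ⟶ j, P.obj (op ((invImage F f).obj V)))
    (U : F.obj ⟨op i⟩) (h : (ι F i).obj U ⟶ (ι F j).obj V) : P.obj (op U) :=
  P.map h.fiber.op (t h.base)

theorem sec_ι_map_comp {i j : 𝒮} (P : (F.obj ⟨op i⟩)ᵒᵖ ⥤ Type w) (V : F.obj ⟨op j⟩)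
    (t : ∀ f : i ⟶ j, P.obj (op ((invImage F f).obj V)))
    {U' U : F.obj ⟨op i⟩} (α : U' ⟶ U) (h : (ι F i).obj U ⟶ (ι F j).obj V) :
    sec P V t U' ((ι F i).map α ≫ h) = P.map α.op (sec P V t U h) := by
  obtain ⟨f, ψ⟩ := h
  have := ι_map_comp_mk F f α ψ
  erw [this]
  exact (map_map_apply P α ψ (t f)).symm

theorem sec_cart {i j : 𝒮} (P : (F.obj ⟨op i⟩)ᵒᵖ ⥤ Type w) (V : F.obj ⟨op j⟩)
    (t : ∀ f : i ⟶ j, P.obj (op ((invImage F f).obj V))) (f : i ⟶ j) :
    sec P V t _ (cart F f V) = t f := by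
  change P.map (𝟙 ((invImage F f).obj V)).op (t f) = t f
  rw [op_id, P.map_id]
  rfl

/-- Key computation: a pointwise right Kan extension along `ι_i`, evaluated on the fibre over `j`,
is the product over `f : i ⟶ j` of the values at the `f^* V`. -/
theorem existsUnique_of_isPointwise {i j : 𝒮} (P : (F.obj ⟨op i⟩)ᵒᵖ ⥤ Type w)
    (E : Functor.RightExtension (ι F i).op P) (V : F.obj ⟨op j⟩)
    (hE : E.IsPointwiseRightKanExtensionAt (op ((ι F j).obj V)))
    (t : ∀ f : i ⟶ j, P.obj (op ((invImage F f).obj V))) :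
    ∃! x : E.left.obj (op ((ι F j).obj V)), ∀ f : i ⟶ j,
      E.hom.app (op ((invImage F f).obj V)) (E.left.map (cart F f V).op x) = t f := by
  have key : ∀ (x : E.left.obj (op ((ι F j).obj V))),
      (∀ f : i ⟶ j, E.hom.app (op ((invImage F f).obj V)) (E.left.map (cart F f V).op x) = t f) ↔
      (∀ g : StructuredArrow (op ((ι F j).obj V)) (ι F i).op,
        (E.coneAt (op ((ι F j).obj V))).π.app g x = sec P V t g.right.unop g.hom.unop) := by
    intro x
    constructor
    · intro hx g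
      obtain ⟨f, ψ, hg⟩ : ∃ (f : i ⟶ j) (ψ : g.right.unop ⟶ (invImage F f).obj V),
          g.hom.unop = (ι F i).map ψ ≫ cart F f V :=
        ⟨_, _, mk_eq_ι_map_comp_cart F _ _⟩
      rw [hg, sec_ι_map_comp, sec_cart, ← hx]
      have hg' : g.hom = (cart F f V).op ≫ (ι F i).op.map ψ.op := by
        apply Quiver.Hom.unop_inj
        exact hg
      change E.hom.app g.right (E.left.map g.hom x) = _
      rw [hg', E.left.map_comp]
      have := ConcreteCategory.congr_hom (E.hom.naturality ψ.op)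
        (E.left.map (cart F f V).op x)
      exact this
    · intro hx f
      have := hx (StructuredArrow.mk (Y := op ((invImage F f).obj V)) (cart F f V).op)
      rw [← sec_cart P V t f]
      exact this
  have hsec : (fun g : StructuredArrow (op ((ι F j).obj V)) (ι F i).op =>
      sec P V t g.right.unop g.hom.unop) ∈ (StructuredArrow.proj _ _ ⋙ P).sections := by
    intro g g' m
    have hm : g'.hom.unop = (ι F i).map m.right.unop ≫ g.hom.unop := by
      have := StructuredArrow.w m
      rw [← this]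
      rfl
    change P.map m.right (sec P V t g.right.unop g.hom.unop) = sec P V t g'.right.unop g'.hom.unop
    rw [hm, sec_ι_map_comp]
    rfl
  obtain ⟨x, hx, hx'⟩ := (Types.isLimit_iff (E.coneAt (op ((ι F j).obj V)))).1 ⟨hE⟩ _ hsec
  exact ⟨x, (key x).2 hx, fun y hy => hx' y ((key y).1 hy)⟩


/-- The comparison map from the restriction to the fibre over `j` of a right extension along
`ι_i` to the direct image along `f^*`. -/
def phi {i j : 𝒮} (f : i ⟶ j) {P : (F.obj ⟨op i⟩)ᵒᵖ ⥤ A} (E : Functor.RightExtension (ι F i).op P) :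
    (ι F j).op ⋙ E.left ⟶ (invImage F f).op ⋙ P :=
  Functor.whiskerRight (NatTrans.op (cartNat F f)) E.left ≫
    Functor.whiskerLeft (invImage F f).op E.hom

@[simp]
theorem phi_app {i j : 𝒮} (f : i ⟶ j) {P : (F.obj ⟨op i⟩)ᵒᵖ ⥤ A}
    (E : Functor.RightExtension (ι F i).op P) (V : (F.obj ⟨op j⟩)ᵒᵖ) :
    (phi f E).app V = E.left.map (cart F f V.unop).op ≫ E.hom.app (op ((invImage F f).obj V.unop)) :=
  rfl

variable (J : Topologies F) (A)

section
variable {i j : 𝒮} (f : i ⟶ j)
  [(ι F j).IsContinuous (J j) (totalTopology F J)]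
  [(ι F i).IsCocontinuous (J i) (totalTopology F J)]
  [∀ (P : (F.obj ⟨op i⟩)ᵒᵖ ⥤ A), (ι F i).op.HasPointwiseRightKanExtension P]
  [(invImage F f).IsContinuous (J j) (J i)]

/-- The comparison `restr_j ∘ coextend_i ⟶ (f^*)_*`. -/
noncomputable def phiSheaf :
    coextend F J A i ⋙ restr F J A j ⟶
      (invImage F f).sheafPushforwardContinuous A (J j) (J i) where
  app a := ⟨phi f (Functor.RightExtension.mk _ ((ι F i).op.ranCounit.app a.obj))⟩
  naturality a a' h := by
    ext V
    change ((ι F i).op.ran.map h.hom).app (op ((ι F j).obj V.unop)) ≫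
        ((ι F i).op.ran.obj a'.obj).map (cart F f V.unop).op ≫
          ((ι F i).op.ranCounit.app a'.obj).app (op ((invImage F f).obj V.unop)) =
      (((ι F i).op.ran.obj a.obj).map (cart F f V.unop).op ≫
          ((ι F i).op.ranCounit.app a.obj).app (op ((invImage F f).obj V.unop))) ≫
        h.hom.app (op ((invImage F f).obj V.unop))
    have h1 := ((ι F i).op.ran.map h.hom).naturality (cart F f V.unop).op
    have h2 := congr_app ((ι F i).op.ranCounit.naturality h.hom) (op ((invImage F f).obj V.unop))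
    dsimp at h1 h2
    rw [← Category.assoc, ← h1, Category.assoc, Category.assoc, ← h2]

end

section
variable (i j : 𝒮)
  [(ι F j).IsContinuous (J j) (totalTopology F J)]
  [(ι F i).IsCocontinuous (J i) (totalTopology F J)]
  [∀ (P : (F.obj ⟨op i⟩)ᵒᵖ ⥤ Type w), (ι F i).op.HasPointwiseRightKanExtension P]
  [∀ f : i ⟶ j, (invImage F f).IsContinuous (J j) (J i)]
  (a : Sheaf (J i) (Type w))

/-- The fan exhibiting `restr_j (coextend_i a)` as the product of the `(f^*)_* a`. -/
noncomputable def fan :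
    Fan fun f : i ⟶ j => ((invImage F f).sheafPushforwardContinuous (Type w) (J j) (J i)).obj a :=
  Fan.mk ((restr F J (Type w) j).obj ((coextend F J (Type w) i).obj a))
    (fun f => (phiSheaf (A := Type w) (J := J) f).app a)

noncomputable def fanIsLimit : IsLimit (fan J i j a) := by
  apply isLimitOfReflects (sheafToPresheaf (J j) (Type w))
  apply evaluationJointlyReflectsLimits
  intro V
  apply Classical.choice
  rw [Types.isLimit_iff]
  intro s hs
  obtain ⟨x, hx, hx'⟩ := existsUnique_of_isPointwise a.obj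
    (Functor.RightExtension.mk _ ((ι F i).op.ranCounit.app a.obj)) V.unop
    ((ι F i).op.isPointwiseRightKanExtensionRanCounit a.obj _) (fun f => s ⟨f⟩)
  exact ⟨x, fun ⟨f⟩ => hx f, fun y hy => hx' y (fun f => hy ⟨f⟩)⟩

end

end Groth.Agent.Lib.FibSiteKan
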