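import Groth.Agent.Lib.FibSiteExact

set_option autoImplicit false
universe w w' v₁ u₁ v₂ u₂ v₃ u₃ u
open CategoryTheory CategoryTheory.Limits Opposite Pseudofunctor Pseudofunctor.CoGrothendieck
open FibSite
open CategoryTheory.Pseudofunctor.StrongTrans CategoryTheory.Bicategory
open Groth.Agent.Lib.FibSiteTotal Groth.Agent.Lib.FibSiteCont Groth.Agent.Lib.FibSiteKan

namespace Groth.Agent.Lib.FibSiteMap

variable {𝒮 : Type u₁} [Category.{v₁} 𝒮] {F G : Pseudofunctor (LocallyDiscrete 𝒮ᵒᵖ) Cat.{v₂, u₂}}
  (α : G ⟶ F)

/-- The fibre functor of a strong transformation. -/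
abbrev fib (S : 𝒮) : G.obj ⟨op S⟩ ⥤ F.obj ⟨op S⟩ := (α.app ⟨op S⟩).toFunctor

set_option backward.defeqAttrib.useBackward true in
set_option backward.isDefEq.respectTransparency false in
theorem map_ι_map (S : 𝒮) {V W : G.obj ⟨op S⟩} (φ : V ⟶ W) :
    (map α).map ((ι G S).map φ) = (ι F S).map ((fib α S).map φ) := by
  refine Hom.ext _ _ (by simp) ?_
  simp [naturality_id_hom_app, Cat.Hom.id_toFunctor, ← Functor.map_comp_assoc,
    ← Cat.Hom₂.comp_app]

/-- `map α` restricted to the fibre over `S` is the fibre functor `α_S`. -/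
def ιCompMapIso (S : 𝒮) : ι G S ⋙ map α ≅ fib α S ⋙ ι F S :=
  NatIso.ofComponents (fun _ => Iso.refl _) (by
    intro V W φ
    simp only [Functor.comp_map, Iso.refl_hom]
    erw [Category.comp_id, Category.id_comp]
    exact map_ι_map α S φ)

/-- The pseudo-naturality isomorphism `α_S (f^* V) ≅ f^* (α_T V)`. -/
def theta {S T : 𝒮} (f : S ⟶ T) (V : G.obj ⟨op T⟩) :
    (fib α S).obj ((invImage G f).obj V) ≅ (invImage F f).obj ((fib α T).obj V) :=
  (Cat.Hom.toNatIso (α.naturality f.op.toLoc)).app V

theorem map_cart {S T : 𝒮} (f : S ⟶ T) (V : G.obj ⟨op T⟩) :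
    (map α).map (cart G f V) =
      (ι F S).map (theta α f V).hom ≫ cart F f ((fib α T).obj V) := by
  rw [← mk_eq_ι_map_comp_cart]
  refine Hom.ext _ _ rfl ?_
  change (fib α S).map (𝟙 ((invImage G f).obj V)) ≫
      (α.naturality f.op.toLoc).hom.toNatTrans.app V =
    (α.naturality f.op.toLoc).hom.toNatTrans.app V ≫ 𝟙 _
  rw [CategoryTheory.Functor.map_id, Category.id_comp, Category.comp_id]


theorem bijective_of_existsUnique {X₁ : Type*} {X₂ : Type*} {I : Type*} {A : I → Type*}
    {B : I → Type*}
    (Φ₁ : ∀ f, X₁ → A f) (Φ₂ : ∀ f, X₂ → B f)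
    (h₁ : ∀ t : ∀ f, A f, ∃! x, ∀ f, Φ₁ f x = t f)
    (h₂ : ∀ t : ∀ f, B f, ∃! x, ∀ f, Φ₂ f x = t f)
    (g : X₁ → X₂) (β : ∀ f, A f → B f) (hβ : ∀ f, Function.Bijective (β f))
    (comm : ∀ f x, Φ₂ f (g x) = β f (Φ₁ f x)) : Function.Bijective g := by
  constructor
  · intro x y hxy
    obtain ⟨z, -, hz⟩ := h₁ (fun f => Φ₁ f x)
    rw [hz x (fun _ => rfl)]
    symm
    apply hz
    intro f
    apply (hβ f).1
    rw [← comm, ← comm, hxy]
  · intro y
    choose γ hγ using fun f => (hβ f).2
    obtain ⟨x, hx, -⟩ := h₁ (fun f => γ f (Φ₂ f y))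
    refine ⟨x, ?_⟩
    obtain ⟨z, -, hz⟩ := h₂ (fun f => Φ₂ f y)
    rw [hz y (fun _ => rfl)]
    apply hz
    intro f
    rw [comm, hx, hγ]

variable (J : Topologies F) (K : Topologies G) (A : Type u₃) [Category.{v₃} A]

/-- A strong transformation which is continuous on each fibre induces a continuous functor between
the total sites. -/
theorem isContinuous_map (hG : IsPreFibSite G K) (hF : IsPreFibSite F J)
    (hα : ∀ S : 𝒮, (fib α S).IsContinuous (K S) (J S)) :
    (map α).IsContinuous (totalTopology G K) (totalTopology F J) := by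
  rw [isContinuous_total_iff G K hG]
  intro S
  have := isContinuous_ι F J hF S
  have := hα S
  have : (fib α S ⋙ ι F S).IsContinuous (K S) (totalTopology F J) :=
    Functor.isContinuous_comp _ _ _ (J S) _
  exact Functor.isContinuous_of_iso (ιCompMapIso α S).symm _ _

section Square

variable (S : 𝒮)
  [(map α).IsContinuous (totalTopology G K) (totalTopology F J)]
  [(ι F S).IsContinuous (J S) (totalTopology F J)]
  [(ι G S).IsContinuous (K S) (totalTopology G K)]
  [(fib α S).IsContinuous (K S) (J S)]

/-- The base change square of direct images. -/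
noncomputable def sq :
    (map α).sheafPushforwardContinuous A (totalTopology G K) (totalTopology F J) ⋙
        restr G K A S ≅
      restr F J A S ⋙ (fib α S).sheafPushforwardContinuous A (K S) (J S) :=
  haveI : (fib α S ⋙ ι F S).IsContinuous (K S) (totalTopology F J) :=
    Functor.isContinuous_comp _ _ _ (J S) _
  Functor.sheafPushforwardContinuousComp' (ιCompMapIso α S) A (K S) (totalTopology G K)
      (totalTopology F J) ≪≫
    (Functor.sheafPushforwardContinuousComp (fib α S) (ι F S) A (K S) (J S)
      (totalTopology F J)).symm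

section Mate

variable [(ι F S).IsCocontinuous (J S) (totalTopology F J)]
  [(ι G S).IsCocontinuous (K S) (totalTopology G K)]
  [∀ (P : (F.obj ⟨op S⟩)ᵒᵖ ⥤ A), (ι F S).op.HasPointwiseRightKanExtension P]
  [∀ (P : (G.obj ⟨op S⟩)ᵒᵖ ⥤ A), (ι G S).op.HasPointwiseRightKanExtension P]

/-- The base change morphism `coextend^F_S ⋙ M_* ⟶ (α_S)_* ⋙ coextend^G_S`. -/
noncomputable def tau :
    coextend F J A S ⋙
        (map α).sheafPushforwardContinuous A (totalTopology G K) (totalTopology F J) ⟶
      (fib α S).sheafPushforwardContinuous A (K S) (J S) ⋙ coextend G K A S :=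
  (mateEquiv ((ι F S).sheafAdjunctionCocontinuous A (J S) (totalTopology F J))
    ((ι G S).sheafAdjunctionCocontinuous A (K S) (totalTopology G K))
    (TwoSquare.mk _ _ _ _ (sq α J K A S).hom)).natTrans

/-- The underlying morphism of presheaves of `tau`. -/
noncomputable def tauHom (b : Sheaf (J S) A) :
    (map α).op ⋙ (ι F S).op.ran.obj b.obj ⟶ (ι G S).op.ran.obj ((fib α S).op ⋙ b.obj) :=
  ((tau α J K A S).app b).hom

theorem tau_counit (b : Sheaf (J S) A) (W : (G.obj ⟨op S⟩)ᵒᵖ) :
    (tauHom α J K A S b).app ((ι G S).op.obj W) ≫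
        ((ι G S).op.ranCounit.app ((fib α S).op ⋙ b.obj)).app W =
      ((ι F S).op.ran.obj b.obj).map ((ιCompMapIso α S).inv.app W.unop).op ≫
        ((ι F S).op.ranCounit.app b.obj).app ((fib α S).op.obj W) := by
  have h := mateEquiv_counit ((ι F S).sheafAdjunctionCocontinuous A (J S) (totalTopology F J))
    ((ι G S).sheafAdjunctionCocontinuous A (K S) (totalTopology G K))
    (TwoSquare.mk _ _ _ _ (sq α J K A S).hom) b
  have h' := congrArg (fun m => m.hom.app W) h
  rw [ObjectProperty.FullSubcategory.comp_hom, ObjectProperty.FullSubcategory.comp_hom,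
    NatTrans.comp_app, NatTrans.comp_app, Functor.sheafAdjunctionCocontinuous_counit_app_hom,
    Functor.ranAdjunction_counit] at h'
  have h3 : ((TwoSquare.mk ((map α).sheafPushforwardContinuous A (totalTopology G K) (totalTopology F J))
                  ((ι F S).sheafPushforwardContinuous A (J S) (totalTopology F J))
                  ((ι G S).sheafPushforwardContinuous A (K S) (totalTopology G K))
                  ((fib α S).sheafPushforwardContinuous A (K S) (J S)) (sq α J K A S).hom).app
              (((ι F S).sheafPushforwardCocontinuous A (J S) (totalTopology F J)).obj b)).hom.app W =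
      ((ι F S).op.ran.obj b.obj).map ((ιCompMapIso α S).inv.app W.unop).op := by
    simp [sq]
    exact Category.comp_id _
  have h4 : (((fib α S).sheafPushforwardContinuous A (K S) (J S)).map
      (((ι F S).sheafAdjunctionCocontinuous A (J S) (totalTopology F J)).counit.app b)).hom.app W =
      ((ι F S).op.ranCounit.app b.obj).app ((fib α S).op.obj W) := by
    change ((((ι F S).sheafAdjunctionCocontinuous A (J S) (totalTopology F J)).counit.app b).hom).app
      ((fib α S).op.obj W) = _
    rw [Functor.sheafAdjunctionCocontinuous_counit_app_hom, Functor.ranAdjunction_counit]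
  rw [h3, h4] at h'
  exact h'

theorem tau_phi (b : Sheaf (J S) A) {T : 𝒮} (f : S ⟶ T) (V : G.obj ⟨op T⟩) :
    (tauHom α J K A S b).app (op ((ι G T).obj V)) ≫
        ((ι G S).op.ran.obj ((fib α S).op ⋙ b.obj)).map (cart G f V).op ≫
          ((ι G S).op.ranCounit.app ((fib α S).op ⋙ b.obj)).app (op ((invImage G f).obj V)) =
      ((ι F S).op.ran.obj b.obj).map (cart F f ((fib α T).obj V)).op ≫
        ((ι F S).op.ranCounit.app b.obj).app (op ((invImage F f).obj ((fib α T).obj V))) ≫
          b.obj.map (theta α f V).hom.op := by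
  have h1 := (tauHom α J K A S b).naturality (cart G f V).op
  have h2 := tau_counit α J K A S b (op ((invImage G f).obj V))
  have h3 := ((ι F S).op.ranCounit.app b.obj).naturality (theta α f V).hom.op
  rw [← Category.assoc, ← h1, Category.assoc]
  erw [h2]
  have h4 : (ιCompMapIso α S).inv.app ((invImage G f).obj V) ≫ (map α).map (cart G f V) =
      (ι F S).map (theta α f V).hom ≫ cart F f ((fib α T).obj V) := by
    rw [← map_cart]
    exact Category.id_comp _
  change ((ι F S).op.ran.obj b.obj).map ((map α).map (cart G f V)).op ≫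
    ((ι F S).op.ran.obj b.obj).map ((ιCompMapIso α S).inv.app ((invImage G f).obj V)).op ≫ _ = _
  rw [← Category.assoc, ← Functor.map_comp, ← op_comp, h4]
  change ((ι F S).op.ran.obj b.obj).map
      ((ι F S).map (theta α f V).hom ≫ cart F f ((fib α T).obj V)).op ≫
    ((ι F S).op.ranCounit.app b.obj).app (op ((fib α S).obj ((invImage G f).obj V))) = _
  rw [op_comp, Functor.map_comp, Category.assoc]
  congr 1

end Mate

end Square

section TauIso

variable (S : 𝒮)
  [(map α).IsContinuous (totalTopology G K) (totalTopology F J)]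
  [(ι F S).IsContinuous (J S) (totalTopology F J)]
  [(ι G S).IsContinuous (K S) (totalTopology G K)]
  [(fib α S).IsContinuous (K S) (J S)]
  [(ι F S).IsCocontinuous (J S) (totalTopology F J)]
  [(ι G S).IsCocontinuous (K S) (totalTopology G K)]
  [∀ (P : (F.obj ⟨op S⟩)ᵒᵖ ⥤ Type w), (ι F S).op.HasPointwiseRightKanExtension P]
  [∀ (P : (G.obj ⟨op S⟩)ᵒᵖ ⥤ Type w), (ι G S).op.HasPointwiseRightKanExtension P]

theorem tauHom_app_bijective (b : Sheaf (J S) (Type w)) (X : (∫ᶜ G)ᵒᵖ) :
    Function.Bijective ((tauHom α J K (Type w) S b).app X) := by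
  obtain ⟨⟨T, V⟩⟩ := X
  refine bijective_of_existsUnique
    (X₁ := ((ι F S).op.ran.obj b.obj).obj (op ((ι F T).obj ((fib α T).obj V))))
    (X₂ := ((ι G S).op.ran.obj ((fib α S).op ⋙ b.obj)).obj (op ((ι G T).obj V)))
    (I := S ⟶ T)
    (A := fun f => b.obj.obj (op ((invImage F f).obj ((fib α T).obj V))))
    (B := fun f => b.obj.obj (op ((fib α S).obj ((invImage G f).obj V))))
    (fun f x => ((ι F S).op.ranCounit.app b.obj).app (op ((invImage F f).obj ((fib α T).obj V)))
      (((ι F S).op.ran.obj b.obj).map (cart F f ((fib α T).obj V)).op x))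
    (fun f y => ((ι G S).op.ranCounit.app ((fib α S).op ⋙ b.obj)).app (op ((invImage G f).obj V))
      (((ι G S).op.ran.obj ((fib α S).op ⋙ b.obj)).map (cart G f V).op y))
    ?_ ?_ _ (fun f => b.obj.map (theta α f V).hom.op) ?_ ?_
  · exact fun t => existsUnique_of_isPointwise b.obj
      (Functor.RightExtension.mk _ ((ι F S).op.ranCounit.app b.obj)) ((fib α T).obj V)
      ((ι F S).op.isPointwiseRightKanExtensionRanCounit b.obj _) t
  · exact fun t => existsUnique_of_isPointwise ((fib α S).op ⋙ b.obj)
      (Functor.RightExtension.mk _ ((ι G S).op.ranCounit.app ((fib α S).op ⋙ b.obj))) V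
      ((ι G S).op.isPointwiseRightKanExtensionRanCounit _ _) t
  · intro f
    rw [← isIso_iff_bijective]
    infer_instance
  · intro f x
    exact ConcreteCategory.congr_hom (tau_phi α J K (Type w) S b f V) x

instance isIso_tau : IsIso (tau α J K (Type w) S) := by
  apply +allowSynthFailures NatIso.isIso_of_isIso_app
  intro b
  have h2 : IsIso ((sheafToPresheaf (totalTopology G K) (Type w)).map
      ((tau α J K (Type w) S).app b)) := by
    apply +allowSynthFailures NatIso.isIso_of_isIso_app
    intro X
    rw [isIso_iff_bijective]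
    exact tauHom_app_bijective α J K S b X
  exact isIso_of_reflects_iso _ (sheafToPresheaf (totalTopology G K) (Type w))

variable
  [((map α).sheafPushforwardContinuous (Type w) (totalTopology G K)
    (totalTopology F J)).IsRightAdjoint]
  [((fib α S).sheafPushforwardContinuous (Type w) (K S) (J S)).IsRightAdjoint]

/-- Base change: restricting the inverse image along `map α` to the fibre over `S` is the
inverse image along `α_S` of the restriction. -/
theorem nonempty_sheafPullback_restr_iso :
    Nonempty ((map α).sheafPullback (Type w) (totalTopology G K) (totalTopology F J) ⋙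
        restr F J (Type w) S ≅
      restr G K (Type w) S ⋙ (fib α S).sheafPullback (Type w) (K S) (J S)) := by
  let adj₁ := ((map α).sheafAdjunctionContinuous (Type w) (totalTopology G K)
      (totalTopology F J)).comp
    ((ι F S).sheafAdjunctionCocontinuous (Type w) (J S) (totalTopology F J))
  let adj₂ := ((ι G S).sheafAdjunctionCocontinuous (Type w) (K S) (totalTopology G K)).comp
    ((fib α S).sheafAdjunctionContinuous (Type w) (K S) (J S))
  exact ⟨(adj₁.ofNatIsoRight (asIso (tau α J K (Type w) S))).leftAdjointUniq adj₂⟩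

end TauIso

end Groth.Agent.Lib.FibSiteMap
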