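import Groth.Agent.Lib.FibSiteKan
import Groth.Agent.Lib.AdjCofan
import Mathlib.CategoryTheory.Sites.LeftExact
import Mathlib.CategoryTheory.Extensive
import Mathlib.CategoryTheory.Limits.MonoCoprod

set_option autoImplicit false
universe u
open CategoryTheory CategoryTheory.Limits Opposite Pseudofunctor Pseudofunctor.CoGrothendieck
open FibSite
open Groth.Agent.Lib.FibSiteTotal Groth.Agent.Lib.FibSiteCont Groth.Agent.Lib.FibSiteKan

namespace Groth.Agent.Lib.FibSiteUnit

variable {𝒮 : Type u} [SmallCategory 𝒮] (F : Pseudofunctor (LocallyDiscrete 𝒮ᵒᵖ) Cat.{u, u})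
  (J : Topologies F)

/-- The inverse image along an identity is isomorphic to the identity functor. -/
def invImageIdIso (i : 𝒮) : invImage F (𝟙 i) ≅ 𝟭 (F.obj ⟨op i⟩) :=
  Cat.Hom.toNatIso (F.mapId ⟨op i⟩)

instance (i : 𝒮) [(invImage F (𝟙 i)).IsContinuous (J i) (J i)] :
    ((invImage F (𝟙 i)).sheafPushforwardContinuous (Type u) (J i) (J i)).IsEquivalence :=
  Functor.isEquivalence_of_iso
    (Functor.sheafPushforwardContinuousId' (invImageIdIso F i) (Type u) (J i)).symm

/-- The unit `a ⟶ restr_i (extend_i a)` is a monomorphism. -/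
theorem mono_unit_extend (hF : IsPreFibSite F J) (i : 𝒮)
    [(ι F i).IsContinuous (J i) (totalTopology F J)]
    [((ι F i).sheafPushforwardContinuous (Type u) (J i) (totalTopology F J)).IsRightAdjoint]
    (a : Sheaf (J i) (Type u)) :
    Mono (((ι F i).sheafAdjunctionContinuous (Type u) (J i) (totalTopology F J)).unit.app a) := by
  have : (ι F i).IsCocontinuous (J i) (totalTopology F J) := isCocontinuous_ι F J hF i
  have hc : ∀ f : i ⟶ i, (invImage F f).IsContinuous (J i) (J i) := fun f => hF f
  let adj : extend F J (Type u) i ⋙ restr F J (Type u) i ⊣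
      coextend F J (Type u) i ⋙ restr F J (Type u) i :=
    ((ι F i).sheafAdjunctionContinuous (Type u) (J i) (totalTopology F J)).comp
      ((ι F i).sheafAdjunctionCocontinuous (Type u) (J i) (totalTopology F J))
  let adjf : ∀ f : i ⟶ i, (invImage F f).sheafPullback (Type u) (J i) (J i) ⊣
      (invImage F f).sheafPushforwardContinuous (Type u) (J i) (J i) :=
    fun f => (invImage F f).sheafAdjunctionContinuous (Type u) (J i) (J i)
  let Φ : ∀ f : i ⟶ i, coextend F J (Type u) i ⋙ restr F J (Type u) i ⟶
      (invImage F f).sheafPushforwardContinuous (Type u) (J i) (J i) :=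
    fun f => phiSheaf (A := Type u) (J := J) f
  have hcolim := Groth.Agent.Lib.AdjCofan.cofanIsColimit adj adjf Φ
      (fun b => fanIsLimit J i i b) a
  have hmono : Mono ((Groth.Agent.Lib.AdjCofan.cofan adj adjf Φ a).inj (𝟙 i)) :=
    MonoCoprod.mono_inj _ _ hcolim (𝟙 i)
  have key : (adjf (𝟙 i)).homEquiv _ _ ((Groth.Agent.Lib.AdjCofan.cofan adj adjf Φ a).inj (𝟙 i)) =
      adj.unit.app a ≫ (Φ (𝟙 i)).app _ :=
    Equiv.apply_symm_apply _ _
  have h2 : Mono ((adjf (𝟙 i)).homEquiv _ _
      ((Groth.Agent.Lib.AdjCofan.cofan adj adjf Φ a).inj (𝟙 i))) := by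
    rw [Adjunction.homEquiv_unit]
    infer_instance
  rw [key, Adjunction.comp_unit_app, Category.assoc] at h2
  exact @mono_of_mono _ _ _ _ _ _ _ h2

/-- `extend_i` is faithful. -/
theorem faithful_extend (hF : IsPreFibSite F J) (i : 𝒮)
    [(ι F i).IsContinuous (J i) (totalTopology F J)]
    [((ι F i).sheafPushforwardContinuous (Type u) (J i) (totalTopology F J)).IsRightAdjoint] :
    (extend F J (Type u) i).Faithful := by
  have := mono_unit_extend F J hF i
  exact ((ι F i).sheafAdjunctionContinuous (Type u) (J i)
    (totalTopology F J)).faithful_L_of_mono_unit_app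

/-- `extend_i` reflects isomorphisms. -/
theorem isIso_of_isIso_extend_map (hF : IsPreFibSite F J) (i : 𝒮)
    [(ι F i).IsContinuous (J i) (totalTopology F J)]
    [((ι F i).sheafPushforwardContinuous (Type u) (J i) (totalTopology F J)).IsRightAdjoint]
    {a b : Sheaf (J i) (Type u)} (v : a ⟶ b) (hv : IsIso ((extend F J (Type u) i).map v)) :
    IsIso v := by
  have := faithful_extend F J hF i
  have h1 : Mono v := (extend F J (Type u) i).mono_of_mono_map (IsIso.mono_of_iso _)
  have h2 : Epi v := (extend F J (Type u) i).epi_of_epi_map (IsIso.epi_of_iso _)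
  exact isIso_of_mono_of_epi v

/-- Sheafification on the total site after left Kan extension along the fibre inclusion is
`extend_i` after sheafification on the fibre. -/
noncomputable def lanSheafifyIso (i : 𝒮)
    [(ι F i).IsContinuous (J i) (totalTopology F J)]
    [((ι F i).sheafPushforwardContinuous (Type u) (J i) (totalTopology F J)).IsRightAdjoint] :
    (ι F i).op.lan (H := Type u) ⋙ presheafToSheaf (totalTopology F J) (Type u) ≅
      presheafToSheaf (J i) (Type u) ⋙ extend F J (Type u) i :=
  (((ι F i).op.lanAdjunction (Type u)).comp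
      (sheafificationAdjunction (totalTopology F J) (Type u))).leftAdjointUniq
    ((sheafificationAdjunction (J i) (Type u)).comp
      ((ι F i).sheafAdjunctionContinuous (Type u) (J i) (totalTopology F J)))

/-- A morphism of presheaves on a fibre is inverted by sheafification iff its left Kan extension
to the total category is. -/
theorem W_iff_W_lan (hF : IsPreFibSite F J) (i : 𝒮)
    {R R' : (F.obj ⟨op i⟩)ᵒᵖ ⥤ Type u} (u : R ⟶ R') :
    (J i).W u ↔ (totalTopology F J).W (((ι F i).op.lan (H := Type u)).map u) := by
  have := isContinuous_ι F J hF i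
  rw [GrothendieckTopology.W_iff, GrothendieckTopology.W_iff]
  have h : IsIso ((presheafToSheaf (totalTopology F J) (Type u)).map
      (((ι F i).op.lan (H := Type u)).map u)) ↔
      IsIso ((extend F J (Type u) i).map ((presheafToSheaf (J i) (Type u)).map u)) :=
    NatIso.isIso_map_iff (lanSheafifyIso F J i) u
  rw [h]
  constructor
  · intro _
    infer_instance
  · intro h'
    exact isIso_of_isIso_extend_map F J hF i _ h'

end Groth.Agent.Lib.FibSiteUnit
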