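import Mathlib.CategoryTheory.Extensive
import Mathlib.CategoryTheory.Limits.Shapes.Pullback.IsPullback.Basic
import Mathlib.CategoryTheory.Limits.Preserves.Shapes.BinaryProducts
import Mathlib.CategoryTheory.Limits.Preserves.Shapes.Pullbacks

/-!
# Two lemmas on pullbacks

* `isPullback_iff_of_cartesian` : a square over a "cartesian" family of squares is a pullback iff
  the comparison square over the base is.
* `isPullback_map_of_binaryCofan` : a functor preserving binary coproducts between finitary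
  extensive categories preserves pullbacks along coproduct injections.
-/

set_option autoImplicit false
universe v₁ u₁ v₂ u₂ v₃ u₃
open CategoryTheory CategoryTheory.Limits

namespace Groth.Agent.Lib.PullbackExt

section Cartesian

variable {𝒞 : Type u₁} [Category.{v₁} 𝒞]
  {a b c a' b' c' t s Z Q : 𝒞}
  {f : a ⟶ c} {g : b ⟶ c} {f' : a' ⟶ c'} {g' : b' ⟶ c'}
  {νa : a ⟶ a'} {νb : b ⟶ b'} {νc : c ⟶ c'}
  {σ : s ⟶ t} {p : c' ⟶ t} {qa : a ⟶ s} {qb : b ⟶ s} {qc : c ⟶ s}
  {za : Z ⟶ a'} {zb : Z ⟶ b'}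
  {u : Q ⟶ a} {v : Q ⟶ b} {w : Q ⟶ Z}

theorem isPullback_iff_of_cartesian
    (hf : f ≫ νc = νa ≫ f') (hg : g ≫ νc = νb ≫ g')
    (hqa : f ≫ qc = qa) (hqb : g ≫ qc = qb)
    (Ha : IsPullback νa qa (f' ≫ p) σ) (Hb : IsPullback νb qb (g' ≫ p) σ)
    (Hc : IsPullback νc qc p σ)
    (HZ : IsPullback za zb f' g')
    (hwa : w ≫ za = u ≫ νa) (hwb : w ≫ zb = v ≫ νb) (comm : u ≫ f = v ≫ g) :
    IsPullback u v f g ↔ IsPullback w (u ≫ qa) (za ≫ f' ≫ p) σ := by
  have hcomm2 : w ≫ za ≫ f' ≫ p = (u ≫ qa) ≫ σ := by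
    rw [reassoc_of% hwa, Ha.w, Category.assoc]
  have huv : u ≫ qa = v ≫ qb := by
    rw [← hqa, ← hqb, reassoc_of% comm]
  constructor
  · intro H
    refine ⟨⟨hcomm2⟩, ⟨PullbackCone.IsLimit.mk _ (fun X => ?_) (fun X => ?_) (fun X => ?_)
      (fun X m hm1 hm2 => ?_)⟩⟩
    all_goals
      have hX := X.condition
      have hxa : (X.fst ≫ za) ≫ f' ≫ p = X.snd ≫ σ := by simpa using hX
      have hxb : (X.fst ≫ zb) ≫ g' ≫ p = X.snd ≫ σ := by
        rw [Category.assoc, ← reassoc_of% HZ.w]; simpa using hX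
      have hab : Ha.lift (X.fst ≫ za) X.snd hxa ≫ f = Hb.lift (X.fst ≫ zb) X.snd hxb ≫ g := by
        apply Hc.hom_ext
        · rw [Category.assoc, Category.assoc, hf, hg, IsPullback.lift_fst_assoc,
            IsPullback.lift_fst_assoc, Category.assoc, Category.assoc, HZ.w]
        · rw [Category.assoc, Category.assoc, hqa, hqb, IsPullback.lift_snd, IsPullback.lift_snd]
    · exact H.lift _ _ hab
    · apply HZ.hom_ext
      · rw [Category.assoc, hwa, IsPullback.lift_fst_assoc, IsPullback.lift_fst]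
      · rw [Category.assoc, hwb, IsPullback.lift_snd_assoc, IsPullback.lift_fst]
    · rw [IsPullback.lift_fst_assoc, IsPullback.lift_snd]
    · apply H.hom_ext
      · rw [IsPullback.lift_fst]
        apply Ha.hom_ext
        · rw [IsPullback.lift_fst, Category.assoc, ← hwa, reassoc_of% hm1]
        · rw [IsPullback.lift_snd, Category.assoc, hm2]
      · rw [IsPullback.lift_snd]
        apply Hb.hom_ext
        · rw [IsPullback.lift_fst, Category.assoc, ← hwb, reassoc_of% hm1]
        · rw [IsPullback.lift_snd, Category.assoc, ← huv, hm2]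
  · intro H
    refine ⟨⟨comm⟩, ⟨PullbackCone.IsLimit.mk _ (fun X => ?_) (fun X => ?_) (fun X => ?_)
      (fun X m hm1 hm2 => ?_)⟩⟩
    all_goals
      have hX := X.condition
      have hz : (X.fst ≫ νa) ≫ f' = (X.snd ≫ νb) ≫ g' := by
        rw [Category.assoc, Category.assoc, ← hf, ← hg, reassoc_of% hX]
      have hy : HZ.lift (X.fst ≫ νa) (X.snd ≫ νb) hz ≫ za ≫ f' ≫ p = (X.fst ≫ qa) ≫ σ := by
        rw [IsPullback.lift_fst_assoc, Category.assoc, Ha.w, Category.assoc]
    · exact H.lift _ _ hy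
    · apply Ha.hom_ext
      · rw [Category.assoc, ← hwa, IsPullback.lift_fst_assoc, IsPullback.lift_fst]
      · rw [Category.assoc, IsPullback.lift_snd]
    · apply Hb.hom_ext
      · rw [Category.assoc, ← hwb, IsPullback.lift_fst_assoc, IsPullback.lift_snd]
      · rw [Category.assoc, ← huv, IsPullback.lift_snd, ← hqa, ← hqb, reassoc_of% hX]
    · apply H.hom_ext
      · rw [IsPullback.lift_fst]
        apply HZ.hom_ext
        · rw [Category.assoc, hwa, IsPullback.lift_fst, reassoc_of% hm1]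
        · rw [Category.assoc, hwb, IsPullback.lift_snd, reassoc_of% hm2]
      · rw [IsPullback.lift_snd, reassoc_of% hm1]

end Cartesian

section Extensive

variable {𝒜 : Type u₁} [Category.{v₁} 𝒜] {ℬ : Type u₂} [Category.{v₂} ℬ]
  [FinitaryExtensive 𝒜] [HasPullbacks 𝒜] [FinitaryExtensive ℬ]
  (L : 𝒜 ⥤ ℬ) [PreservesColimitsOfShape (Discrete WalkingPair) L]

/-- A functor preserving binary coproducts between finitary extensive categories preserves
pullbacks along coproduct injections. -/
theorem isPullback_map_of_binaryCofan {A B X X₁ : 𝒜} (c : BinaryCofan A B) (hc : IsColimit c)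
    {p : X₁ ⟶ X} {q : X₁ ⟶ A} {g : X ⟶ c.pt} (H : IsPullback p q g c.inl) :
    IsPullback (L.map p) (L.map q) (L.map g) (L.map c.inl) := by
  have H2 : IsPullback (pullback.fst g c.inr) (pullback.snd g c.inr) g c.inr :=
    IsPullback.of_hasPullback g c.inr
  have hvk := (BinaryCofan.isVanKampen_iff c).1 (FinitaryExtensive.vanKampen c hc)
    (BinaryCofan.mk p (pullback.fst g c.inr)) q (pullback.snd g c.inr) g H.w.symm H2.w.symm
  obtain ⟨hc'⟩ := hvk.2 ⟨H, H2⟩
  have hLc : IsColimit (BinaryCofan.mk (L.map c.inl) (L.map c.inr)) :=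
    isColimitMapCoconeBinaryCofanEquiv L c.inl c.inr
      (isColimitOfPreserves L (hc.ofIsoColimit (Cocone.ext (Iso.refl _)
        (by rintro ⟨_ | _⟩ <;> exact Category.comp_id _))))
  have hLc' : IsColimit (BinaryCofan.mk (L.map p) (L.map (pullback.fst g c.inr))) :=
    isColimitMapCoconeBinaryCofanEquiv L _ _ (isColimitOfPreserves L hc')
  have hvk' := (BinaryCofan.isVanKampen_iff _).1 (FinitaryExtensive.vanKampen _ hLc)
    (BinaryCofan.mk (L.map p) (L.map (pullback.fst g c.inr))) (L.map q)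
    (L.map (pullback.snd g c.inr)) (L.map g)
    (by
      change L.map q ≫ L.map c.inl = L.map p ≫ L.map g
      exact ((L.map_comp _ _).symm.trans (congrArg L.map H.w.symm)).trans (L.map_comp _ _))
    (by
      change L.map (pullback.snd g c.inr) ≫ L.map c.inr =
        L.map (pullback.fst g c.inr) ≫ L.map g
      exact ((L.map_comp _ _).symm.trans (congrArg L.map H2.w.symm)).trans (L.map_comp _ _))
  exact (hvk'.1 ⟨hLc'⟩).1

end Extensive

section Assembly

variable {𝒜 : Type u₁} [Category.{v₁} 𝒜] {ℬ : Type u₂} [Category.{v₂} ℬ]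
  {𝒯 : Type u₃} [Category.{v₃} 𝒯]
  [FinitaryExtensive 𝒜] [HasPullbacks 𝒜] [FinitaryExtensive ℬ] [HasPullbacks 𝒯]
  (e : 𝒜 ⥤ 𝒯) (r : 𝒯 ⥤ 𝒜) (L : 𝒜 ⥤ ℬ) (I : 𝒜 ⥤ 𝒜)
  [PreservesColimitsOfShape (Discrete WalkingPair) L]
  [PreservesLimitsOfShape WalkingCospan r] [PreservesLimitsOfShape WalkingCospan (r ⋙ L)]
  (ξ : I ≅ 𝟭 𝒜) (ν : I ⟶ e ⋙ r)
  (hν : ∀ {a a' : 𝒜} (h : a ⟶ a'), IsPullback (ν.app a) (I.map h) ((e ⋙ r).map h) (ν.app a'))
  {one : 𝒜} (hone : IsTerminal one) {B : 𝒜} (inr : B ⟶ (e ⋙ r).obj one)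
  (hc : IsColimit (BinaryCofan.mk (ν.app one) inr))

include ξ hν hone hc in
theorem isPullback_map_of_cartesian_summand {a b c : 𝒜} (f : a ⟶ c) (g : b ⟶ c) :
    IsPullback (L.map (pullback.fst f g)) (L.map (pullback.snd f g)) (L.map f) (L.map g) := by
  have hI : PreservesLimitsOfShape WalkingCospan I :=
    preservesLimitsOfShape_of_natIso ξ.symm
  -- notation
  let T := e ⋙ r
  let toOne : ∀ x : 𝒜, x ⟶ one := fun x => hone.from x
  have hT : ∀ {x y : 𝒜} (h : x ⟶ y), T.map h ≫ T.map (toOne y) = T.map (toOne x) := by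
    intro x y h
    rw [← T.map_comp]
    congr 1
    exact hone.hom_ext _ _
  have hIone : ∀ {x y : 𝒜} (h : x ⟶ y), I.map h ≫ I.map (toOne y) = I.map (toOne x) := by
    intro x y h
    rw [← I.map_comp]
    congr 1
    exact hone.hom_ext _ _
  -- the pullback upstairs
  have HZ : IsPullback (r.map (pullback.fst (e.map f) (e.map g)))
      (r.map (pullback.snd (e.map f) (e.map g))) (T.map f) (T.map g) :=
    (IsPullback.of_hasPullback (e.map f) (e.map g)).map r
  have HLZ : IsPullback (L.map (r.map (pullback.fst (e.map f) (e.map g))))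
      (L.map (r.map (pullback.snd (e.map f) (e.map g)))) (L.map (T.map f)) (L.map (T.map g)) :=
    (IsPullback.of_hasPullback (e.map f) (e.map g)).map (r ⋙ L)
  have HP : IsPullback (I.map (pullback.fst f g)) (I.map (pullback.snd f g)) (I.map f)
      (I.map g) := (IsPullback.of_hasPullback f g).map I
  have Ha : IsPullback (ν.app a) (I.map (toOne a)) (T.map f ≫ T.map (toOne c)) (ν.app one) := by
    rw [hT]; exact hν _
  have Hb : IsPullback (ν.app b) (I.map (toOne b)) (T.map g ≫ T.map (toOne c)) (ν.app one) := by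
    rw [hT]; exact hν _
  have Hc : IsPullback (ν.app c) (I.map (toOne c)) (T.map (toOne c)) (ν.app one) := hν _
  have hw : (I.map (pullback.fst f g) ≫ ν.app a) ≫ T.map f =
      (I.map (pullback.snd f g) ≫ ν.app b) ≫ T.map g := by
    rw [Category.assoc, Category.assoc, ← ν.naturality, ← ν.naturality, ← Category.assoc,
      ← Category.assoc, ← I.map_comp, ← I.map_comp, pullback.condition]
  let w := HZ.lift _ _ hw
  have h1 := (isPullback_iff_of_cartesian (ν.naturality f) (ν.naturality g) (hIone f) (hIone g)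
    Ha Hb Hc HZ (HZ.lift_fst _ _ hw) (HZ.lift_snd _ _ hw) HP.w).1 HP
  -- apply L
  have h2 : IsPullback (L.map w) (L.map (I.map (pullback.fst f g)) ≫ L.map (I.map (toOne a)))
      (L.map (r.map (pullback.fst (e.map f) (e.map g))) ≫ L.map (T.map f) ≫
        L.map (T.map (toOne c))) (L.map (ν.app one)) := by
    rw [← L.map_comp, ← L.map_comp, ← L.map_comp]
    exact isPullback_map_of_binaryCofan L _ hc h1
  have La : IsPullback (L.map (ν.app a)) (L.map (I.map (toOne a)))
      (L.map (T.map f) ≫ L.map (T.map (toOne c))) (L.map (ν.app one)) := by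
    rw [← L.map_comp]
    exact isPullback_map_of_binaryCofan L _ hc Ha
  have Lb : IsPullback (L.map (ν.app b)) (L.map (I.map (toOne b)))
      (L.map (T.map g) ≫ L.map (T.map (toOne c))) (L.map (ν.app one)) := by
    rw [← L.map_comp]
    exact isPullback_map_of_binaryCofan L _ hc Hb
  have Lc : IsPullback (L.map (ν.app c)) (L.map (I.map (toOne c)))
      (L.map (T.map (toOne c))) (L.map (ν.app one)) :=
    isPullback_map_of_binaryCofan L _ hc Hc
  have h3 := (isPullback_iff_of_cartesian (νa := L.map (ν.app a)) (νb := L.map (ν.app b))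
    (νc := L.map (ν.app c)) (f := L.map (I.map f)) (g := L.map (I.map g))
    (f' := L.map (T.map f)) (g' := L.map (T.map g))
    (qa := L.map (I.map (toOne a))) (qb := L.map (I.map (toOne b)))
    (qc := L.map (I.map (toOne c))) (u := L.map (I.map (pullback.fst f g)))
    (v := L.map (I.map (pullback.snd f g))) (w := L.map w)
    (by rw [← L.map_comp, ← L.map_comp, ν.naturality])
    (by rw [← L.map_comp, ← L.map_comp, ν.naturality])
    (by rw [← L.map_comp, hIone]) (by rw [← L.map_comp, hIone])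
    La Lb Lc HLZ
    (by rw [← L.map_comp, ← L.map_comp, HZ.lift_fst])
    (by rw [← L.map_comp, ← L.map_comp, HZ.lift_snd])
    (by rw [← L.map_comp, ← L.map_comp, HP.w])).2 h2
  -- transport along `I ≅ 𝟭`
  refine h3.of_iso (L.mapIso (ξ.app _)) (L.mapIso (ξ.app _)) (L.mapIso (ξ.app _))
    (L.mapIso (ξ.app _)) ?_ ?_ ?_ ?_
  all_goals
    simp only [Functor.mapIso_hom, Iso.app_hom, ← L.map_comp]
    congr 1
    exact ξ.hom.naturality _

include ξ hν hone hc in
theorem preservesLimitsOfShape_walkingCospan_of_cartesian_summand :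
    PreservesLimitsOfShape WalkingCospan L := by
  constructor
  intro K
  have : PreservesLimit (cospan (K.map WalkingCospan.Hom.inl) (K.map WalkingCospan.Hom.inr)) L :=
    preservesLimit_of_preserves_limit_cone (pullbackIsPullback _ _)
      ((isLimitMapConePullbackConeEquiv _ _).symm
        (isPullback_map_of_cartesian_summand e r L I ξ ν hν hone inr hc _ _).isLimit)
  exact preservesLimit_of_iso_diagram L (diagramIsoCospan K).symm

end Assembly

end Groth.Agent.Lib.PullbackExt
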