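import Groth.Agent.Lib.FibSiteMap
import Groth.Agent.Lib.FibSiteUnit
import Groth.Agent.Lib.PullbackExt
import Groth.Agent.Lib.AdjCofan2
import Mathlib.CategoryTheory.Limits.Constructions.LimitsOfProductsAndEqualizers

set_option autoImplicit false
universe u
open CategoryTheory CategoryTheory.Limits Opposite Pseudofunctor Pseudofunctor.CoGrothendieck
open FibSite
open CategoryTheory.Pseudofunctor.StrongTrans CategoryTheory.Bicategory
open Groth.Agent.Lib.FibSiteTotal Groth.Agent.Lib.FibSiteCont Groth.Agent.Lib.FibSiteKan
open Groth.Agent.Lib.FibSiteMap Groth.Agent.Lib.FibSiteUnit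

namespace Groth.Agent.Lib.FibSiteMapConv

variable {𝒮 : Type u} [SmallCategory 𝒮] {F G : Pseudofunctor (LocallyDiscrete 𝒮ᵒᵖ) Cat.{u, u}}
  (α : G ⟶ F) (J : Topologies F) (K : Topologies G)

/-- If the functor induced by a strong transformation on total categories is continuous, so are
the fibre functors. -/
theorem isContinuous_fib (hF : IsPreFibSite F J) (hG : IsPreFibSite G K)
    [(map α).IsContinuous (totalTopology G K) (totalTopology F J)] (S : 𝒮) :
    (fib α S).IsContinuous (K S) (J S) := by
  have := isContinuous_ι G K hG S
  have h1 : (ι G S ⋙ map α).IsContinuous (K S) (totalTopology F J) :=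
    Functor.isContinuous_comp _ _ _ (totalTopology G K) _
  have h2 : (fib α S ⋙ ι F S).IsContinuous (K S) (totalTopology F J) :=
    Functor.isContinuous_of_iso (ιCompMapIso α S) _ _
  refine ⟨fun P => Presieve.IsSheaf.comp_of_W_map_of_adjunction.{u} (K S)
    ((fib α S).op.lanAdjunction (Type u)) ?_ P.obj ((isSheaf_iff_isSheaf_of_type _ _).1 P.property)⟩
  intro V R hR
  rw [W_iff_W_lan F J hF S]
  let adj : (fib α S).op.lan (H := Type u) ⋙ (ι F S).op.lan (H := Type u) ⊣
      (Functor.whiskeringLeft _ _ _).obj (fib α S ⋙ ι F S).op :=
    (((fib α S).op.lanAdjunction (Type u)).comp ((ι F S).op.lanAdjunction (Type u))).ofNatIsoRight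
      (NatIso.ofComponents (fun _ => Iso.refl _))
  exact Functor.W_map_of_adjunction_of_isContinuous (K S) (totalTopology F J)
    (fib α S ⋙ ι F S) _ adj _ (Sieve.W_shrinkFunctor_ι_of_mem.{u} _ R hR)

/-- The inverse image along the inverse image functor of an identity is the identity. -/
noncomputable def sheafPullbackInvImageIdIso (S : 𝒮)
    [(invImage G (𝟙 S)).IsContinuous (K S) (K S)] :
    (invImage G (𝟙 S)).sheafPullback (Type u) (K S) (K S) ≅ 𝟭 _ :=
  ((invImage G (𝟙 S)).sheafAdjunctionContinuous (Type u) (K S) (K S)).leftAdjointUniq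
    (Adjunction.id.ofNatIsoRight
      (Functor.sheafPushforwardContinuousId' (invImageIdIso G S) (Type u) (K S)).symm)

/-- If the inverse image along `map α` is left exact, so is the inverse image along each fibre
functor. -/
theorem preservesFiniteLimits_sheafPullback_fib (hF : IsPreFibSite F J) (hG : IsPreFibSite G K)
    [(map α).IsContinuous (totalTopology G K) (totalTopology F J)]
    [((map α).sheafPushforwardContinuous (Type u) (totalTopology G K)
      (totalTopology F J)).IsRightAdjoint]
    [PreservesFiniteLimits ((map α).sheafPullback (Type u) (totalTopology G K)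
      (totalTopology F J))]
    (S : 𝒮) [(fib α S).IsContinuous (K S) (J S)]
    [((fib α S).sheafPushforwardContinuous (Type u) (K S) (J S)).IsRightAdjoint] :
    PreservesFiniteLimits ((fib α S).sheafPullback (Type u) (K S) (J S)) := by
  have := isContinuous_ι G K hG S
  have := isContinuous_ι F J hF S
  have := isCocontinuous_ι G K hG S
  have := isCocontinuous_ι F J hF S
  have hcG : ∀ f : S ⟶ S, (invImage G f).IsContinuous (K S) (K S) := fun f => hG f
  -- `restr ⋙ L` is exact
  obtain ⟨e₀⟩ := nonempty_sheafPullback_restr_iso.{u} α J K S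
  have hrF : PreservesFiniteLimits (restr F J (Type u) S) := by
    have : (restr F J (Type u) S).IsRightAdjoint :=
      ((ι F S).sheafAdjunctionContinuous (Type u) (J S) (totalTopology F J)).isRightAdjoint
    infer_instance
  have hrG : PreservesFiniteLimits (restr G K (Type u) S) := by
    have : (restr G K (Type u) S).IsRightAdjoint :=
      ((ι G S).sheafAdjunctionContinuous (Type u) (K S) (totalTopology G K)).isRightAdjoint
    infer_instance
  have hΛ : PreservesFiniteLimits (restr G K (Type u) S ⋙
      (fib α S).sheafPullback (Type u) (K S) (J S)) := by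
    have : PreservesFiniteLimits ((map α).sheafPullback (Type u) (totalTopology G K)
      (totalTopology F J) ⋙ restr F J (Type u) S) := comp_preservesFiniteLimits _ _
    exact preservesFiniteLimits_of_natIso e₀
  -- the coproduct decomposition of `extend ⋙ restr`
  let adj : extend G K (Type u) S ⋙ restr G K (Type u) S ⊣
      coextend G K (Type u) S ⋙ restr G K (Type u) S :=
    ((ι G S).sheafAdjunctionContinuous (Type u) (K S) (totalTopology G K)).comp
      ((ι G S).sheafAdjunctionCocontinuous (Type u) (K S) (totalTopology G K))
  let adjf : ∀ f : S ⟶ S, (invImage G f).sheafPullback (Type u) (K S) (K S) ⊣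
      (invImage G f).sheafPushforwardContinuous (Type u) (K S) (K S) :=
    fun f => (invImage G f).sheafAdjunctionContinuous (Type u) (K S) (K S)
  let Φ : ∀ f : S ⟶ S, coextend G K (Type u) S ⋙ restr G K (Type u) S ⟶
      (invImage G f).sheafPushforwardContinuous (Type u) (K S) (K S) :=
    fun f => phiSheaf (A := Type u) (J := K) f
  have hΦ := fun b => fanIsLimit K S S b
  have hcospan : PreservesLimitsOfShape WalkingCospan
      ((fib α S).sheafPullback (Type u) (K S) (J S)) := by
    have h1 : PreservesLimitsOfShape WalkingCospan (restr G K (Type u) S) :=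
      hrG.preservesFiniteLimits _
    have h2 : PreservesLimitsOfShape WalkingCospan (restr G K (Type u) S ⋙
        (fib α S).sheafPullback (Type u) (K S) (J S)) := hΛ.preservesFiniteLimits _
    have h3 : PreservesColimitsOfShape (Discrete WalkingPair)
        ((fib α S).sheafPullback (Type u) (K S) (J S)) :=
      ((fib α S).sheafAdjunctionContinuous (Type u) (K S)
        (J S)).leftAdjoint_preservesColimits.preservesColimitsOfShape
    exact Groth.Agent.Lib.PullbackExt.preservesLimitsOfShape_walkingCospan_of_cartesian_summand
      (extend G K (Type u) S) (restr G K (Type u) S)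
      ((fib α S).sheafPullback (Type u) (K S) (J S))
      ((invImage G (𝟙 S)).sheafPullback (Type u) (K S) (K S))
      (sheafPullbackInvImageIdIso K S)
      (Groth.Agent.Lib.AdjCofan.injNat adj adjf Φ (𝟙 S))
      (fun h => Groth.Agent.Lib.AdjCofan.isPullback_inj adj adjf Φ hΦ (𝟙 S) h)
      terminalIsTerminal
      (Groth.Agent.Lib.AdjCofan.inrRest adj adjf Φ (𝟙 S) (⊤_ _))
      (Groth.Agent.Lib.AdjCofan.isColimitBinaryCofanInj adj adjf Φ hΦ (𝟙 S) (⊤_ _))
  have hterm : PreservesLimitsOfShape (Discrete.{0} PEmpty)
      ((fib α S).sheafPullback (Type u) (K S) (J S)) := by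
    have h1 : PreservesLimit (Functor.empty.{0} _) (restr G K (Type u) S) :=
      (hrG.preservesFiniteLimits _).preservesLimit
    have h2 : PreservesLimit (Functor.empty.{0} _) (restr G K (Type u) S ⋙
        (fib α S).sheafPullback (Type u) (K S) (J S)) :=
      (hΛ.preservesFiniteLimits _).preservesLimit
    have : PreservesLimit (Functor.empty.{0} _)
        ((fib α S).sheafPullback (Type u) (K S) (J S)) :=
      preservesTerminal_of_iso _
        (((fib α S).sheafPullback (Type u) (K S) (J S)).mapIso
            (PreservesTerminal.iso (restr G K (Type u) S)).symm ≪≫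
          PreservesTerminal.iso (restr G K (Type u) S ⋙
            (fib α S).sheafPullback (Type u) (K S) (J S)))
    exact preservesLimitsOfShape_pempty_of_preservesTerminal _
  exact preservesFiniteLimits_of_preservesTerminal_and_pullbacks _

end Groth.Agent.Lib.FibSiteMapConv
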