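import Groth.Prelude.Def_FibSite

set_option autoImplicit false
universe v₁ u₁ v₂ u₂ v₃ u₃
open CategoryTheory Opposite Pseudofunctor Pseudofunctor.CoGrothendieck
open FibSite

namespace Groth.Agent.Lib.FibSiteTotal

variable {𝒮 : Type u₁} [Category.{v₁} 𝒮] (F : Pseudofunctor (LocallyDiscrete 𝒮ᵒᵖ) Cat.{v₂, u₂})

set_option backward.isDefEq.respectTransparency false in
theorem ι_map_comp_mk {S' S : 𝒮} (e : S' ⟶ S) {W' W : F.obj ⟨op S'⟩} {Y : F.obj ⟨op S⟩}
    (α : W' ⟶ W) (ψ : W ⟶ (invImage F e).obj Y) :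
    (ι F S').map α ≫ (⟨e, ψ⟩ : (⟨S', W⟩ : ∫ᶜ F) ⟶ ⟨S, Y⟩) =
      (⟨e, α ≫ ψ⟩ : (⟨S', W'⟩ : ∫ᶜ F) ⟶ ⟨S, Y⟩) := by
  ext
  · exact Category.id_comp e
  · change (α ≫ (F.mapId ⟨op S'⟩).inv.toNatTrans.app W) ≫
      (F.map (𝟙 S').op.toLoc).toFunctor.map ψ ≫
        (F.mapComp e.op.toLoc (𝟙 S').op.toLoc).inv.toNatTrans.app Y = _
    simp [F.mapComp_id_right_inv_app, Bicategory.Strict.rightUnitor_eqToIso,
      ← NatTrans.naturality_assoc, PrelaxFunctor.map₂_eqToHom]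

set_option backward.isDefEq.respectTransparency false in
theorem mk_comp_ι_map {S' S : 𝒮} (e : S' ⟶ S) {W : F.obj ⟨op S'⟩} {Y' Y : F.obj ⟨op S⟩}
    (ψ : W ⟶ (invImage F e).obj Y') (h : Y' ⟶ Y) :
    (⟨e, ψ⟩ : (⟨S', W⟩ : ∫ᶜ F) ⟶ ⟨S, Y'⟩) ≫ (ι F S).map h =
      (⟨e, ψ ≫ (invImage F e).map h⟩ : (⟨S', W⟩ : ∫ᶜ F) ⟶ ⟨S, Y⟩) := by
  ext
  · exact Category.comp_id e
  · change ψ ≫ (F.map e.op.toLoc).toFunctor.map (h ≫ (F.mapId ⟨op S⟩).inv.toNatTrans.app Y) ≫
        (F.mapComp (𝟙 S).op.toLoc e.op.toLoc).inv.toNatTrans.app Y = _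
    simp [F.mapComp_id_left_inv_app, Bicategory.Strict.leftUnitor_eqToIso,
      ← Functor.map_comp_assoc, PrelaxFunctor.map₂_eqToHom]

variable (J : Topologies F)

/-- The explicit description of the total topology: sieves containing the image of a covering sieve
of the fibre. -/
def explicitTopology (hF : IsPreFibSite F J) : GrothendieckTopology (∫ᶜ F) where
  sieves X := {T | ∃ R ∈ J X.base X.fiber, Sieve.functorPushforward (ι F X.base) R ≤ T}
  top_mem' X := ⟨⊤, (J X.base).top_mem _, le_top⟩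
  pullback_stable' := by
    rintro ⟨S, U⟩ ⟨S', W⟩ T ⟨e, φ⟩ ⟨R, hR, hRT⟩
    have : (invImage F e).IsContinuous (J S) (J S') := hF e
    have hcp := (CoverPreserving.of_isContinuous (invImage F e) (J S) (J S')).cover_preserve hR
    refine ⟨(R.functorPushforward (invImage F e)).pullback φ, (J S').pullback_stable φ hcp, ?_⟩
    rintro Z m ⟨W', α, h, hα, rfl⟩
    change T ((h ≫ (ι F S').map α) ≫ _)
    rw [Category.assoc]
    apply T.downward_closed
    obtain ⟨U', β, γ, hβ, hαφ⟩ := hα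
    have h1 : (ι F S').map α ≫ (⟨e, φ⟩ : (⟨S', W⟩ : ∫ᶜ F) ⟶ ⟨S, U⟩) =
        (⟨e, γ⟩ : (⟨S', W'⟩ : ∫ᶜ F) ⟶ ⟨S, U'⟩) ≫ (ι F S).map β := by
      rw [ι_map_comp_mk, mk_comp_ι_map, hαφ]
    rw [h1]
    apply T.downward_closed
    exact hRT _ (Sieve.image_mem_functorPushforward _ _ hβ)
  transitive' := by
    rintro ⟨S, U⟩ T ⟨R, hR, hRT⟩ T' hT'
    have h1 : ∀ ⦃Y : F.obj ⟨op S⟩⦄ ⦃β : Y ⟶ U⦄, R β →
        ∃ Rβ ∈ J S Y, Sieve.functorPushforward (ι F S) Rβ ≤ T'.pullback ((ι F S).map β) :=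
      fun Y β hβ => hT' (hRT _ (Sieve.image_mem_functorPushforward _ _ hβ))
    choose Rβ hRβ hRβ' using h1
    refine ⟨Sieve.bind R Rβ, (J S).bind_covering hR (fun Y β hβ => hRβ hβ), ?_⟩
    rintro Z m ⟨W', δ, h, ⟨Y, ε, β, hβ, hε, rfl⟩, rfl⟩
    apply T'.downward_closed
    rw [Functor.map_comp]
    exact hRβ' hβ _ (Sieve.image_mem_functorPushforward _ _ hε)


theorem totalTopology_eq_explicit (hF : IsPreFibSite F J) :
    totalTopology F J = explicitTopology F J hF := by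
  apply le_antisymm
  · apply totalTopology_le
    intro S U R hR
    exact ⟨R, hR, le_rfl⟩
  · rintro X T ⟨R, hR, hRT⟩
    exact (totalTopology F J).superset_covering hRT (functorPushforward_mem_totalTopology hR)

/-- Description of the covering sieves of the total topology. -/
theorem mem_totalTopology_iff (hF : IsPreFibSite F J) (X : ∫ᶜ F) (T : Sieve X) :
    T ∈ totalTopology F J X ↔
      ∃ R ∈ J X.base X.fiber, Sieve.functorPushforward (ι F X.base) R ≤ T := by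
  rw [totalTopology_eq_explicit F J hF]
  rfl

/-- The fibre inclusions are cocontinuous for the total topology. -/
theorem isCocontinuous_ι (hF : IsPreFibSite F J) (S : 𝒮) :
    (ι F S).IsCocontinuous (J S) (totalTopology F J) where
  cover_lift {U T} hT := by
    obtain ⟨R, hR, hRT⟩ := (mem_totalTopology_iff F J hF ((ι F S).obj U) T).1 hT
    refine (J S).superset_covering ?_ hR
    intro Y β hβ
    exact hRT _ (Sieve.image_mem_functorPushforward _ _ hβ)

end Groth.Agent.Lib.FibSiteTotal
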