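import Mathlib.RingTheory.Ideal.AssociatedPrime.Finiteness
import Mathlib.RingTheory.Localization.Ideal
import Mathlib.RingTheory.Ideal.Operations

/-!
# Associated primes of a module over a Noetherian quotient, and the localization at its
non-zero-divisors (helper88)

`S → F` is a surjective ring map to a Noetherian ring, `T` a finite `F`-module viewed as an
`S`-module. Then the associated primes of `T` over `S` are the contractions of those over `F`,
there are finitely many of them, their union is the set of zero-divisors on `T`, and the maximal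
ideals of `Σ⁻¹ S` (`Σ` = nonzerodivisors on `T`) correspond to the maximal associated primes.
-/

set_option autoImplicit false
set_option linter.unusedSectionVars false

namespace Groth.Agent.Lib.FiberAssAvoid88

open Submodule

variable {S F T : Type*} [CommRing S] [CommRing F] [Algebra S F] [AddCommGroup T] [Module S T]
  [Module F T] [IsScalarTower S F T]

theorem colon_bot_eq_comap (x : T) :
    (colon (⊥ : Submodule S T) {x}) = (colon (⊥ : Submodule F T) {x}).comap (algebraMap S F) := by
  ext s
  simp only [mem_colon_singleton, Submodule.mem_bot, Ideal.mem_comap, algebraMap_smul]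

theorem comap_mem_associatedPrimes {Q : Ideal F} (hQ : Q ∈ associatedPrimes F T) :
    Q.comap (algebraMap S F) ∈ associatedPrimes S T := by
  obtain ⟨hQp, x, hx⟩ := hQ
  refine ⟨Ideal.comap_isPrime _ _, x, ?_⟩
  rw [colon_bot_eq_comap (F := F), ← Ideal.comap_radical, ← hx]

theorem exists_of_mem_associatedPrimes (hφ : Function.Surjective (algebraMap S F)) {q : Ideal S}
    (hq : q ∈ associatedPrimes S T) :
    ∃ Q ∈ associatedPrimes F T, Q.comap (algebraMap S F) = q := by
  obtain ⟨hqp, x, hx⟩ := hq
  rw [colon_bot_eq_comap (F := F), ← Ideal.comap_radical] at hx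
  refine ⟨(colon (⊥ : Submodule F T) {x}).radical, ⟨?_, x, rfl⟩, hx.symm⟩
  have hker : RingHom.ker (algebraMap S F) ≤ q := by
    rw [hx]
    exact Ideal.comap_mono bot_le
  have := Ideal.map_isPrime_of_surjective hφ hker
  rwa [hx, Ideal.map_comap_of_surjective _ hφ] at this

theorem associatedPrimes_eq_image (hφ : Function.Surjective (algebraMap S F)) :
    associatedPrimes S T = Ideal.comap (algebraMap S F) '' associatedPrimes F T := by
  ext q
  constructor
  · intro hq
    obtain ⟨Q, hQ, rfl⟩ := exists_of_mem_associatedPrimes hφ hq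
    exact ⟨Q, hQ, rfl⟩
  · rintro ⟨Q, hQ, rfl⟩
    exact comap_mem_associatedPrimes hQ

variable [IsNoetherianRing F] [Module.Finite F T]

theorem associatedPrimes_finite (hφ : Function.Surjective (algebraMap S F)) :
    (associatedPrimes S T).Finite := by
  rw [associatedPrimes_eq_image hφ]
  exact (associatedPrimes.finite F T).image _

theorem compl_nonZeroSMulDivisors_eq (hφ : Function.Surjective (algebraMap S F)) :
    ((nonZeroSMulDivisors S T : Set S))ᶜ = ⋃ p ∈ associatedPrimes S T, (p : Set S) := by
  ext s
  simp only [Set.mem_compl_iff, SetLike.mem_coe, mem_nonZeroSMulDivisors_iff, not_forall,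
    Set.mem_iUnion, exists_prop]
  constructor
  · rintro ⟨x, hsx, hx⟩
    have hmem : algebraMap S F s ∈ ⋃ p ∈ associatedPrimes F T, (p : Set F) := by
      rw [biUnion_associatedPrimes_eq_zero_divisors]
      exact ⟨x, hx, by rwa [algebraMap_smul]⟩
    simp only [Set.mem_iUnion, exists_prop, SetLike.mem_coe] at hmem
    obtain ⟨Q, hQ, hsQ⟩ := hmem
    exact ⟨Q.comap (algebraMap S F), comap_mem_associatedPrimes hQ, hsQ⟩
  · rintro ⟨q, hq, hsq⟩
    obtain ⟨Q, hQ, rfl⟩ := exists_of_mem_associatedPrimes hφ hq
    have hmem : algebraMap S F s ∈ ⋃ p ∈ associatedPrimes F T, (p : Set F) := by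
      simp only [Set.mem_iUnion, exists_prop, SetLike.mem_coe]
      exact ⟨Q, hQ, hsq⟩
    rw [biUnion_associatedPrimes_eq_zero_divisors] at hmem
    obtain ⟨x, hx, hsx⟩ := hmem
    exact ⟨x, by rwa [algebraMap_smul] at hsx, hx⟩

/-- Prime avoidance: a prime misses the nonzerodivisors on `T` iff it lies in an associated
prime. -/
theorem disjoint_nonZeroSMulDivisors_iff (hφ : Function.Surjective (algebraMap S F))
    (q : Ideal S) [q.IsPrime] :
    Disjoint (q : Set S) (nonZeroSMulDivisors S T) ↔ ∃ q' ∈ associatedPrimes S T, q ≤ q' := by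
  classical
  rw [← Set.subset_compl_iff_disjoint_right, compl_nonZeroSMulDivisors_eq hφ]
  have hfin := associatedPrimes_finite (T := T) hφ
  have h := Ideal.subset_union_prime (s := hfin.toFinset) (f := fun p : Ideal S => p) q q
    (fun i hi _ _ => ((hfin.mem_toFinset).mp hi).1) (I := q)
  simp only [Set.Finite.coe_toFinset, Set.Finite.mem_toFinset] at h
  exact h

section Loc

variable (L : Type*) [CommRing L] [Algebra S L] [IsLocalization (nonZeroSMulDivisors S T) L]

theorem comap_maximal_of_isMaximal (hφ : Function.Surjective (algebraMap S F))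
    (Q : Ideal L) (hQ : Q.IsMaximal) :
    Maximal (fun r => r ∈ associatedPrimes S T) (Q.comap (algebraMap S L)) := by
  have hQp : Q.IsPrime := hQ.isPrime
  obtain ⟨hqp, hqd⟩ := (IsLocalization.isPrime_iff_isPrime_disjoint
    (nonZeroSMulDivisors S T) L Q).1 hQp
  have key : ∀ q' ∈ associatedPrimes S T, Q.comap (algebraMap S L) ≤ q' →
      q' = Q.comap (algebraMap S L) := by
    intro q' hq' hle
    have hq'p : q'.IsPrime := hq'.1
    have hq'd : Disjoint ((nonZeroSMulDivisors S T : Submonoid S) : Set S) (q' : Set S) :=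
      ((disjoint_nonZeroSMulDivisors_iff (T := T) hφ q').mpr ⟨q', hq', le_rfl⟩).symm
    have hQ'p := IsLocalization.isPrime_of_isPrime_disjoint (nonZeroSMulDivisors S T) L q' hq'p hq'd
    have hle' : Q ≤ q'.map (algebraMap S L) := by
      rw [← IsLocalization.map_under (nonZeroSMulDivisors S T) L Q]
      exact Ideal.map_mono hle
    have heq : Q = q'.map (algebraMap S L) := hQ.eq_of_le hQ'p.ne_top hle'
    rw [heq]
    exact (IsLocalization.under_map_of_isPrime_disjoint (nonZeroSMulDivisors S T) L hq'p hq'd).symm
  obtain ⟨q', hq', hle⟩ := (disjoint_nonZeroSMulDivisors_iff (T := T) hφ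
    (Q.comap (algebraMap S L))).mp hqd.symm
  have h1 := key q' hq' hle
  refine ⟨h1 ▸ hq', fun q'' hq'' hle'' => ?_⟩
  exact (key q'' hq'' hle'').le

theorem isMaximal_iff (hφ : Function.Surjective (algebraMap S F)) (Q : Ideal L) :
    Q.IsMaximal ↔ (Q.IsPrime ∧
      Maximal (fun r => r ∈ associatedPrimes S T) (Q.comap (algebraMap S L))) := by
  constructor
  · intro hQ
    exact ⟨hQ.isPrime, comap_maximal_of_isMaximal L hφ Q hQ⟩
  · rintro ⟨hQp, hmax⟩
    obtain ⟨M, hM, hQM⟩ := Ideal.exists_le_maximal Q hQp.ne_top
    have hM' := comap_maximal_of_isMaximal (T := T) L hφ M hM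
    have h1 : M.comap (algebraMap S L) ≤ Q.comap (algebraMap S L) :=
      hmax.2 hM'.1 (Ideal.comap_mono hQM)
    have h2 : M ≤ Q := (IsLocalization.under_le_under_iff (nonZeroSMulDivisors S T) L).mp h1
    rwa [le_antisymm hQM h2]

variable (T) in
include T in
theorem finite_isMaximal (hφ : Function.Surjective (algebraMap S F)) :
    {Q : Ideal L | Q.IsMaximal}.Finite := by
  have hsub : {Q : Ideal L | Q.IsMaximal} ⊆
      (fun Q : Ideal L => Q.comap (algebraMap S L)) ⁻¹' (associatedPrimes S T) :=
    fun Q hQ => (comap_maximal_of_isMaximal (T := T) L hφ Q hQ).1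
  refine Set.Finite.subset (Set.Finite.preimage ?_ (associatedPrimes_finite (T := T) hφ)) hsub
  intro Q _ Q' _ h
  exact (IsLocalization.orderEmbedding (nonZeroSMulDivisors S T) L).injective h

end Loc

end Groth.Agent.Lib.FiberAssAvoid88
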