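import Mathlib

/-!
# Closed points of fibres

Transport-free characterisation of "`x` is closed in its fibre" and stability under base change.
-/

universe u

namespace Groth.Agent.Lib.FiberClosed

open AlgebraicGeometry CategoryTheory CategoryTheory.Limits

/-- `x` is closed in its fibre iff every specialization of `x` inside the fibre equals `x`. -/
lemma isClosed_singleton_asFiber_iff {X S : Scheme.{u}} (f : X ⟶ S) (x : X) :
    IsClosed ({f.asFiber x} : Set ↑(f.fiber (f.base x))) ↔
      ∀ y : X, x ⤳ y → f.base y = f.base x → y = x := by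
  have hemb := (f.fiberι (f.base x)).isEmbedding
  constructor
  · intro hcl y hxy hy
    have hy' : y ∈ Set.range (f.fiberι (f.base x)).base := by
      rw [Scheme.Hom.range_fiberι]; exact hy
    obtain ⟨w, rfl⟩ := hy'
    have h1 : f.asFiber x ⤳ w := by
      rw [← hemb.isInducing.specializes_iff, Scheme.Hom.fiberι_asFiber]
      exact hxy
    have h2 : w ∈ ({f.asFiber x} : Set ↑(f.fiber (f.base x))) := h1.mem_closed hcl rfl
    rw [Set.mem_singleton_iff] at h2
    rw [h2, Scheme.Hom.fiberι_asFiber]
  · intro H
    rw [← closure_subset_iff_isClosed]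
    intro w hw
    rw [← specializes_iff_mem_closure] at hw
    have h1 : x ⤳ (f.fiberι (f.base x)).base w := by
      have := hw.map (f.fiberι (f.base x)).continuous
      rwa [Scheme.Hom.fiberι_asFiber] at this
    have h2 : f.base ((f.fiberι (f.base x)).base w) = f.base x := by
      have : (f.fiberι (f.base x)).base w ∈ Set.range (f.fiberι (f.base x)).base := ⟨w, rfl⟩
      rw [Scheme.Hom.range_fiberι] at this
      exact this
    have h3 := H _ h1 h2
    rw [Set.mem_singleton_iff]
    apply hemb.injective
    rw [h3, Scheme.Hom.fiberι_asFiber]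

/-- No point of the fibre properly generizes `x` iff no point of `X` in the same fibre
properly generizes `x`. -/
lemma forall_specializes_asFiber_iff {X S : Scheme.{u}} (f : X ⟶ S) (x : X) :
    (∀ z : ↑(f.fiber (f.base x)), z ⤳ f.asFiber x → z = f.asFiber x) ↔
      ∀ y : X, y ⤳ x → f.base y = f.base x → y = x := by
  have hemb := (f.fiberι (f.base x)).isEmbedding
  constructor
  · intro H y hyx hy
    have hy' : y ∈ Set.range (f.fiberι (f.base x)).base := by
      rw [Scheme.Hom.range_fiberι]; exact hy
    obtain ⟨w, rfl⟩ := hy'
    have h1 : w ⤳ f.asFiber x := by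
      rw [← hemb.isInducing.specializes_iff, Scheme.Hom.fiberι_asFiber]
      exact hyx
    rw [H w h1, Scheme.Hom.fiberι_asFiber]
  · intro H w hw
    have h1 : (f.fiberι (f.base x)).base w ⤳ x := by
      have := hw.map (f.fiberι (f.base x)).continuous
      rwa [Scheme.Hom.fiberι_asFiber] at this
    have h2 : f.base ((f.fiberι (f.base x)).base w) = f.base x := by
      have : (f.fiberι (f.base x)).base w ∈ Set.range (f.fiberι (f.base x)).base := ⟨w, rfl⟩
      rw [Scheme.Hom.range_fiberι] at this
      exact this
    have h3 := H _ h1 h2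
    apply hemb.injective
    rw [h3, Scheme.Hom.fiberι_asFiber]

/-- A morphism locally of finite type which is quasi-finite at every point is
locally quasi-finite. -/
lemma locallyQuasiFinite_of_forall_quasiFiniteAt {X S : Scheme.{u}} (f : X ⟶ S)
    [LocallyOfFiniteType f] (H : ∀ x : X, f.QuasiFiniteAt x) : LocallyQuasiFinite f := by
  rw [locallyQuasiFinite_iff_isDiscrete_preimage_singleton]
  intro s
  have hd : DiscreteTopology ↑(f.fiber s) := by
    rw [discreteTopology_iff_isOpen_singleton]
    intro z
    obtain ⟨x, hx⟩ : ∃ x : X, (f.fiberι s).base z = x := ⟨_, rfl⟩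
    have hs : f.base x = s := by
      have : (f.fiberι s).base z ∈ Set.range (f.fiberι s).base := ⟨z, rfl⟩
      rw [Scheme.Hom.range_fiberι] at this
      rw [← hx]; exact this
    subst hs
    have hz : z = f.asFiber x := by
      apply (f.fiberι (f.base x)).isEmbedding.injective
      rw [hx, Scheme.Hom.fiberι_asFiber]
    rw [hz]
    exact Scheme.Hom.quasiFiniteAt_iff_isOpen_singleton_asFiber.mp (H x)
  exact ⟨(f.fiberHomeo s).discreteTopology⟩

end Groth.Agent.Lib.FiberClosed
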