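import Mathlib.CategoryTheory.Galois.Prorepresentability
import Mathlib.CategoryTheory.Galois.Decomposition
import Mathlib.CategoryTheory.Limits.Constructions.FiniteProductsOfBinaryProducts
import Mathlib.CategoryTheory.Limits.Types.Coproducts

/-!
# Uniqueness of fibre functors on a Galois category

A functor to finite sets that preserves finite limits and binary coproducts and has nonempty
values on non-initial objects is isomorphic to any fibre functor.
-/

set_option autoImplicit false
set_option linter.unusedSectionVars false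
universe u v w

open CategoryTheory PreGaloisCategory Limits

namespace Groth.Agent.Lib.FiberFunctorUnique

variable {C : Type u} [Category.{v} C] [GaloisCategory C]

section Prod

variable (G : C ⥤ FintypeCat.{w}) [PreservesFiniteLimits G]

/-- The fibre of a binary product is the product of the fibres. -/
noncomputable def prodEquiv (X Y : C) : G.obj (X ⨯ Y) ≃ G.obj X × G.obj Y :=
  (PreservesLimitPair.iso (G ⋙ FintypeCat.incl) X Y ≪≫
    Types.binaryProductIso (G.obj X) (G.obj Y)).toEquiv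

theorem prodEquiv_symm_fst {X Y : C} (x : G.obj X) (y : G.obj Y) :
    G.map prod.fst ((prodEquiv G X Y).symm (x, y)) = x := by
  simp only [prodEquiv]
  change ((Types.binaryProductIso _ _).inv ≫ _ ≫ (G ⋙ FintypeCat.incl).map prod.fst) _ = _
  erw [PreservesLimitPair.iso_inv_fst, Types.binaryProductIso_inv_comp_fst]
  rfl

theorem prodEquiv_symm_snd {X Y : C} (x : G.obj X) (y : G.obj Y) :
    G.map prod.snd ((prodEquiv G X Y).symm (x, y)) = y := by
  simp only [prodEquiv]
  change ((Types.binaryProductIso _ _).inv ≫ _ ≫ (G ⋙ FintypeCat.incl).map prod.snd) _ = _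
  erw [PreservesLimitPair.iso_inv_snd, Types.binaryProductIso_inv_comp_snd]
  rfl

theorem prodEquiv_apply {X Y : C} (ζ : G.obj (X ⨯ Y)) :
    prodEquiv G X Y ζ = (G.map prod.fst ζ, G.map prod.snd ζ) := by
  obtain ⟨p, rfl⟩ := (prodEquiv G X Y).symm.surjective ζ
  rw [Equiv.apply_symm_apply]
  obtain ⟨x, y⟩ := p
  rw [prodEquiv_symm_fst, prodEquiv_symm_snd]

theorem prod_ext {X Y : C} (ζ ζ' : G.obj (X ⨯ Y))
    (h1 : G.map prod.fst ζ = G.map prod.fst ζ') (h2 : G.map prod.snd ζ = G.map prod.snd ζ') :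
    ζ = ζ' := by
  apply (prodEquiv G X Y).injective
  rw [prodEquiv_apply, prodEquiv_apply, h1, h2]

theorem exists_prod {X Y : C} (x : G.obj X) (y : G.obj Y) :
    ∃ ζ : G.obj (X ⨯ Y), G.map prod.fst ζ = x ∧ G.map prod.snd ζ = y :=
  ⟨(prodEquiv G X Y).symm (x, y), prodEquiv_symm_fst G x y, prodEquiv_symm_snd G x y⟩

end Prod

section Coprod

variable (G : C ⥤ FintypeCat.{w}) [PreservesColimitsOfShape (Discrete WalkingPair) G]

theorem coprod_isCompl {X Y Z : C} (i : X ⟶ Z) (u : Y ⟶ Z)
    (hc : IsColimit (BinaryCofan.mk i u)) :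
    IsCompl (Set.range (G.map i)) (Set.range (G.map u)) := by
  have h1 : IsColimit ((G ⋙ FintypeCat.incl).mapCocone (BinaryCofan.mk i u)) :=
    isColimitOfPreserves (G ⋙ FintypeCat.incl) hc
  have h2 := (isColimitMapCoconeBinaryCofanEquiv (G ⋙ FintypeCat.incl) i u) h1
  exact ((Types.binaryCofan_isColimit_iff _).mp ⟨h2⟩).2.2

theorem coprod_disjoint {X Y Z : C} (i : X ⟶ Z) (u : Y ⟶ Z)
    (hc : IsColimit (BinaryCofan.mk i u)) (x : G.obj X) (y : G.obj Y) :
    G.map i x ≠ G.map u y := by
  intro h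
  have := (coprod_isCompl G i u hc).disjoint
  rw [Set.disjoint_left] at this
  exact this ⟨x, rfl⟩ ⟨y, h.symm⟩

theorem coprod_cases {X Y Z : C} (i : X ⟶ Z) (u : Y ⟶ Z)
    (hc : IsColimit (BinaryCofan.mk i u)) (z : G.obj Z) :
    (∃ x, G.map i x = z) ∨ ∃ y, G.map u y = z := by
  have := (coprod_isCompl G i u hc).codisjoint
  rw [codisjoint_iff] at this
  have hz : z ∈ Set.range (G.map i) ⊔ Set.range (G.map u) := by rw [this]; trivial
  exact hz

/-- Such a functor sends the initial object to the empty set. -/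
theorem isEmpty_obj_initial : IsEmpty (G.obj (⊥_ C)) := by
  constructor
  intro z
  have hc : IsColimit (BinaryCofan.mk (coprod.inl : ⊥_ C ⟶ (⊥_ C) ⨿ (⊥_ C)) coprod.inr) :=
    coprodIsCoprod _ _
  have h : (coprod.inl : ⊥_ C ⟶ (⊥_ C) ⨿ (⊥_ C)) = coprod.inr := initialIsInitial.hom_ext _ _
  exact coprod_disjoint G _ _ hc z z (by rw [h])

/-- Such a functor preserves the initial object. -/
theorem preservesInitial : PreservesColimitsOfShape (Discrete PEmpty.{1}) G := by
  have hE := isEmpty_obj_initial G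
  have hinit : IsInitial (G.obj (⊥_ C)) :=
    IsInitial.ofUniqueHom (fun Y => FintypeCat.homMk (fun z => isEmptyElim z))
      (fun Y m => by ext z; exact isEmptyElim z)
  have : PreservesColimit (Functor.empty.{0} C) G :=
    preservesColimit_of_preserves_colimit_cocone initialIsInitial
      ((isColimitMapCoconeEmptyCoconeEquiv G _).symm hinit)
  exact preservesColimitsOfShape_pempty_of_preservesInitial G

/-- Such a functor preserves finite coproducts. -/
theorem preservesFiniteCoproduct (J : Type*) [Finite J] :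
    PreservesColimitsOfShape (Discrete J) G := by
  have := preservesInitial G
  exact PreservesFiniteCoproducts.of_preserves_binary_and_initial G J

/-- Elements of the fibre of a finite coproduct come from the summands. -/
theorem sigma_cases {J : Type v} [Finite J] (Y : J → C) (z : G.obj (∐ Y)) :
    ∃ (j : J) (y : G.obj (Y j)), G.map (Sigma.ι Y j) y = z := by
  have := preservesFiniteCoproduct G J
  have hc : IsColimit (Cofan.mk (∐ Y) (Sigma.ι Y)) := coproductIsCoproduct Y
  have h1 : IsColimit ((G ⋙ FintypeCat.incl).mapCocone (Cofan.mk (∐ Y) (Sigma.ι Y))) :=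
    isColimitOfPreserves (G ⋙ FintypeCat.incl) hc
  obtain ⟨⟨j⟩, y, hy⟩ := Types.jointly_surjective_of_isColimit h1 z
  exact ⟨j, y, hy⟩

end Coprod

section Main

variable (F : C ⥤ FintypeCat.{w}) [FiberFunctor F]

/-- The category of pointed Galois objects is cofiltered (any universe). -/
theorem isCofilteredOrEmpty : IsCofilteredOrEmpty (PointedGaloisObject F) where
  cone_objs := fun ⟨A, a, _⟩ ⟨B, b, _⟩ ↦ by
    obtain ⟨Z, f, z, hgal, hfz⟩ := exists_hom_from_galois_of_fiber F (A ⨯ B)
      <| (fiberBinaryProductEquiv F A B).symm (a, b)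
    refine ⟨⟨Z, z, hgal⟩, ⟨f ≫ prod.fst, ?_⟩, ⟨f ≫ prod.snd, ?_⟩, trivial⟩
    · simp only [F.map_comp, hfz, FintypeCat.comp_apply, fiberBinaryProductEquiv_symm_fst_apply]
    · simp only [F.map_comp, hfz, FintypeCat.comp_apply, fiberBinaryProductEquiv_symm_snd_apply]
  cone_maps := fun ⟨A, a, _⟩ ⟨B, b, _⟩ ⟨f, hf⟩ ⟨g, hg⟩ ↦ by
    obtain ⟨Z, h, z, hgal, hhz⟩ := exists_hom_from_galois_of_fiber F A a
    refine ⟨⟨Z, z, hgal⟩, ⟨h, hhz⟩, PointedGaloisObject.hom_ext ?_⟩
    apply evaluation_injective_of_isConnected F Z B z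
    simp [hhz, hf, hg]

variable (F' : C ⥤ FintypeCat.{w})
  (hne : ∀ X : C, IsEmpty (F'.obj X) → Nonempty (IsInitial X))

include hne in
theorem nonempty_of_isConnected (X : C) [IsConnected X] : Nonempty (F'.obj X) := by
  by_contra hcon
  rw [not_nonempty_iff] at hcon
  obtain ⟨hi⟩ := hne X hcon
  exact IsConnected.notInitial hi

include hne in
/-- A compatible family of points of `F'` on all pointed Galois objects. -/
theorem exists_compatible :
    ∃ a' : ∀ A : PointedGaloisObject F, F'.obj A.obj,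
      ∀ {A B : PointedGaloisObject F} (f : A ⟶ B), F'.map f.val (a' A) = a' B := by
  have := isCofilteredOrEmpty F
  let K : PointedGaloisObject F ⥤ Type w :=
    PointedGaloisObject.incl F ⋙ F' ⋙ FintypeCat.incl
  have hfin : ∀ A, Finite (K.obj A) := fun A => inferInstanceAs (Finite (F'.obj A.obj))
  have hnon : ∀ A, Nonempty (K.obj A) := fun A => by
    have : IsGalois A.obj := A.isGalois
    exact nonempty_of_isConnected F' hne A.obj
  obtain ⟨s, hs⟩ := nonempty_sections_of_finite_cofiltered_system K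
  exact ⟨fun A => s A, fun {A B} f => hs f⟩

theorem exists_rep (X : C) (x : F.obj X) :
    ∃ (A : PointedGaloisObject F) (f : A.obj ⟶ X), F.map f A.pt = x := by
  obtain ⟨A, f, a, hgal, hfa⟩ := exists_hom_from_galois_of_fiber F X x
  exact ⟨⟨A, a, hgal⟩, f, hfa⟩

variable (a' : ∀ A : PointedGaloisObject F, F'.obj A.obj)
  (ha' : ∀ {A B : PointedGaloisObject F} (f : A ⟶ B), F'.map f.val (a' A) = a' B)

include ha' in
theorem welldef (X : C) (A B : PointedGaloisObject F) (f : A.obj ⟶ X) (g : B.obj ⟶ X)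
    (h : F.map f A.pt = F.map g B.pt) : F'.map f (a' A) = F'.map g (a' B) := by
  have := isCofilteredOrEmpty F
  obtain ⟨Z, p, q, _⟩ := IsCofilteredOrEmpty.cone_objs A B
  have : IsGalois Z.obj := Z.isGalois
  have hpq : p.val ≫ f = q.val ≫ g := by
    apply evaluation_injective_of_isConnected F Z.obj X Z.pt
    simp only [F.map_comp, FintypeCat.comp_apply, p.comp, q.comp, h]
  rw [← ha' p, ← ha' q, ← FintypeCat.comp_apply, ← FintypeCat.comp_apply, ← F'.map_comp,
    ← F'.map_comp, hpq]

/-- The comparison map on fibres. -/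
noncomputable def tFun (X : C) (x : F.obj X) : F'.obj X :=
  F'.map (exists_rep F X x).choose_spec.choose (a' (exists_rep F X x).choose)

include ha' in
theorem tFun_spec {X : C} (A : PointedGaloisObject F) (f : A.obj ⟶ X) :
    tFun F F' a' X (F.map f A.pt) = F'.map f (a' A) :=
  welldef F F' a' ha' X _ A _ f (exists_rep F X (F.map f A.pt)).choose_spec.choose_spec

include ha' in
theorem tFun_natural {X Y : C} (g : X ⟶ Y) (x : F.obj X) :
    tFun F F' a' Y (F.map g x) = F'.map g (tFun F F' a' X x) := by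
  obtain ⟨A, f, rfl⟩ := exists_rep F X x
  rw [tFun_spec F F' a' ha', ← FintypeCat.comp_apply, ← F.map_comp, tFun_spec F F' a' ha',
    F'.map_comp, FintypeCat.comp_apply]

variable [PreservesFiniteLimits F'] [PreservesColimitsOfShape (Discrete WalkingPair) F']

include ha' in
theorem tFun_injective (X : C) : Function.Injective (tFun F F' a' X) := by
  intro x y hxy
  by_contra hne_xy
  let Δ : X ⟶ X ⨯ X := prod.lift (𝟙 X) (𝟙 X)
  have hΔ1 : Δ ≫ prod.fst = 𝟙 X := prod.lift_fst _ _
  have hΔ2 : Δ ≫ prod.snd = 𝟙 X := prod.lift_snd _ _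
  have : Mono Δ := mono_of_mono_fac hΔ1
  obtain ⟨Z, u, ⟨hc⟩⟩ := PreGaloisCategory.monoInducesIsoOnDirectSummand Δ
  obtain ⟨ξ, hξ1, hξ2⟩ := exists_prod F x y
  rcases coprod_cases F Δ u hc ξ with ⟨x₀, hx₀⟩ | ⟨ζ, hζ⟩
  · apply hne_xy
    have h1 : x = x₀ := by
      rw [← hξ1, ← hx₀, ← FintypeCat.comp_apply, ← F.map_comp, hΔ1, F.map_id]
      rfl
    have h2 : y = x₀ := by
      rw [← hξ2, ← hx₀, ← FintypeCat.comp_apply, ← F.map_comp, hΔ2, F.map_id]
      rfl
    rw [h1, h2]
  · have h1 : tFun F F' a' (X ⨯ X) ξ = F'.map u (tFun F F' a' Z ζ) := by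
      rw [← hζ, tFun_natural F F' a' ha']
    have h2 : tFun F F' a' (X ⨯ X) ξ = F'.map Δ (tFun F F' a' X x) := by
      apply prod_ext F'
      · rw [← tFun_natural F F' a' ha', hξ1, ← FintypeCat.comp_apply, ← F'.map_comp, hΔ1,
          F'.map_id]
        rfl
      · rw [← tFun_natural F F' a' ha', hξ2, ← hxy, ← FintypeCat.comp_apply, ← F'.map_comp, hΔ2,
          F'.map_id]
        rfl
    exact coprod_disjoint F' Δ u hc _ _ (h2.symm.trans h1)

/-- The decomposition `∐_{φ : A ⟶ X} A ≅ A ⨯ X` for a Galois object `A` representing the fibre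
of `X`. -/
theorem isIso_psi (A : C) [IsGalois A] (a : F.obj A) (X : C)
    (hbij : Function.Bijective (fun f : A ⟶ X => F.map f a)) :
    IsIso (Sigma.desc (fun φ : A ⟶ X => prod.lift (𝟙 A) φ) : (∐ fun _ : A ⟶ X => A) ⟶ A ⨯ X) := by
  have hι : ∀ φ : A ⟶ X, Sigma.ι (fun _ : A ⟶ X => A) φ ≫
      (Sigma.desc (fun φ : A ⟶ X => prod.lift (𝟙 A) φ)) = prod.lift (𝟙 A) φ :=
    fun φ => Sigma.ι_desc _ _
  have hiso : IsIso (F.map (Sigma.desc (fun φ : A ⟶ X => prod.lift (𝟙 A) φ))) := by
    apply (ConcreteCategory.isIso_iff_bijective _).mpr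
    constructor
    · intro ξ₁ ξ₂ h
      obtain ⟨φ₁, a₁, rfl⟩ := sigma_cases F (fun _ : A ⟶ X => A) ξ₁
      obtain ⟨φ₂, a₂, rfl⟩ := sigma_cases F (fun _ : A ⟶ X => A) ξ₂
      rw [← FintypeCat.comp_apply, ← FintypeCat.comp_apply, ← F.map_comp, ← F.map_comp, hι, hι] at h
      have h1 := congrArg (F.map prod.fst) h
      rw [← FintypeCat.comp_apply, ← FintypeCat.comp_apply, ← F.map_comp, ← F.map_comp,
        prod.lift_fst, prod.lift_fst, F.map_id] at h1
      have h1' : a₁ = a₂ := h1
      subst h1'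
      have h2 := congrArg (F.map prod.snd) h
      rw [← FintypeCat.comp_apply, ← FintypeCat.comp_apply, ← F.map_comp, ← F.map_comp,
        prod.lift_snd, prod.lift_snd] at h2
      have h3 : φ₁ = φ₂ := evaluation_injective_of_isConnected F A X a₁ h2
      rw [h3]
    · intro ξ
      obtain ⟨σ, hσ⟩ := MulAction.exists_smul_eq (Aut A) a (F.map prod.fst ξ)
      have hσ' : F.map σ.hom a = F.map prod.fst ξ := hσ
      obtain ⟨ψ, hψ⟩ := hbij.2 (F.map prod.snd ξ)
      have hψ' : F.map ψ a = F.map prod.snd ξ := hψ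
      refine ⟨F.map (Sigma.ι (fun _ : A ⟶ X => A) (σ.inv ≫ ψ)) (F.map prod.fst ξ), ?_⟩
      rw [← FintypeCat.comp_apply, ← F.map_comp, hι]
      apply prod_ext F
      · rw [← FintypeCat.comp_apply, ← F.map_comp, prod.lift_fst, F.map_id]
        rfl
      · rw [← FintypeCat.comp_apply, ← F.map_comp, prod.lift_snd, ← hσ', ← FintypeCat.comp_apply,
          ← F.map_comp, Iso.hom_inv_id_assoc, hψ']
  exact isIso_of_reflects_iso _ F

include hne in
/-- Every point of `F'(X)` is the image of a given point of `F'(A)` under some map `A ⟶ X`. -/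
theorem exists_hom_map_eq (A : C) [IsGalois A] (a : F.obj A) (X : C)
    (hbij : Function.Bijective (fun f : A ⟶ X => F.map f a)) (w : F'.obj A) (z : F'.obj X) :
    ∃ φ : A ⟶ X, F'.map φ w = z := by
  have hι : ∀ φ : A ⟶ X, Sigma.ι (fun _ : A ⟶ X => A) φ ≫
      (Sigma.desc (fun φ : A ⟶ X => prod.lift (𝟙 A) φ)) = prod.lift (𝟙 A) φ :=
    fun φ => Sigma.ι_desc _ _
  have hiso := isIso_psi F A a X hbij
  have hiso' : IsIso (F'.map (Sigma.desc (fun φ : A ⟶ X => prod.lift (𝟙 A) φ))) := inferInstance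
  obtain ⟨ζ, hζ1, hζ2⟩ := exists_prod F' w z
  obtain ⟨ξ, hξ⟩ := ((ConcreteCategory.isIso_iff_bijective _).mp hiso').2 ζ
  obtain ⟨φ, w', rfl⟩ := sigma_cases F' (fun _ : A ⟶ X => A) ξ
  rw [← FintypeCat.comp_apply, ← F'.map_comp, hι] at hξ
  refine ⟨φ, ?_⟩
  have h1 : w' = w := by
    rw [← hζ1, ← hξ, ← FintypeCat.comp_apply, ← F'.map_comp, prod.lift_fst, F'.map_id]
    rfl
  rw [← hζ2, ← hξ, ← FintypeCat.comp_apply, ← F'.map_comp, prod.lift_snd, h1]

include hne ha' in
theorem tFun_surjective (X : C) : Function.Surjective (tFun F F' a' X) := by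
  intro z
  obtain ⟨A, a, hgal, hbij⟩ := exists_galois_representative F X
  obtain ⟨φ, hφ⟩ := exists_hom_map_eq F F' hne A a X hbij (a' ⟨A, a, hgal⟩) z
  refine ⟨F.map φ a, ?_⟩
  rw [← hφ]
  exact tFun_spec F F' a' ha' ⟨A, a, hgal⟩ φ

include hne in
/-- A functor to finite sets preserving finite limits and binary coproducts, with nonempty values
on non-initial objects, is isomorphic to the fibre functor. -/
theorem nonempty_iso : Nonempty (F' ≅ F) := by
  obtain ⟨a', ha'⟩ := exists_compatible F F' hne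
  have hbij : ∀ X, Function.Bijective (tFun F F' a' X) := fun X =>
    ⟨tFun_injective F F' a' ha' X, tFun_surjective F F' hne a' ha' X⟩
  refine ⟨(NatIso.ofComponents (fun X => FintypeCat.equivEquivIso (Equiv.ofBijective _ (hbij X)))
    (fun {X Y} g => ?_)).symm⟩
  ext x
  exact tFun_natural F F' a' ha' g x

end Main

end Groth.Agent.Lib.FiberFunctorUnique
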