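import Groth.Agent.Lib.SteinNormal5
import Groth.Agent.Lib.IntegralSection

/-!
# Fibrations and algebraically closed function fields (helper5)

* `exists_germ_eq_of_forall_affine`: on an integral scheme, an element of the function field which
  comes from a section on every (nonempty) affine open contained in `W` comes from a section on `W`.
* `mem_range_of_isIntegralElem_of_isIso_app`: if `O_Y → f_* O_X` is an isomorphism and `X` is normal,
  then `K(Y)` is algebraically closed in `K(X)`.
* `isIso_app_iff_algClosed` (hypothesis form on S0002): S14821.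
-/

set_option autoImplicit false
universe u

open CategoryTheory CategoryTheory.Limits AlgebraicGeometry TopologicalSpace Opposite

namespace Groth.Agent.Lib.FibrationNormal5

open Groth.Agent.Lib.ProperFinHyp

section Glue

variable {X : Scheme.{u}} [IsIntegral X]

theorem genericPoint_mem_of_nonempty (U : X.Opens) (hU : (U : Set X).Nonempty) :
    genericPoint X ∈ U :=
  ((genericPoint_spec X).mem_open_set_iff U.isOpen).mpr (by simpa [Set.univ_inter] using hU)

/-- Gluing in the function field of an integral scheme. -/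
theorem exists_germ_eq_of_forall_affine (W : X.Opens) (hW : genericPoint X ∈ W)
    (z : X.functionField)
    (h : ∀ V : X.affineOpens, V.1 ≤ W → ∀ hV : genericPoint X ∈ V.1,
      ∃ s : Γ(X, V.1), X.presheaf.germ V.1 (genericPoint X) hV s = z) :
    ∃ s : Γ(X, W), X.presheaf.germ W (genericPoint X) hW s = z := by
  classical
  -- the index type: affine opens contained in `W`
  let ι := {V : X.affineOpens // V.1 ≤ W}
  let U : ι → X.Opens := fun V => V.1.1
  have hsec : ∀ V : ι, ∃ s : Γ(X, U V), ∀ hV : genericPoint X ∈ U V,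
      X.presheaf.germ (U V) (genericPoint X) hV s = z := by
    intro V
    by_cases hV : genericPoint X ∈ U V
    · obtain ⟨s, hs⟩ := h V.1 V.2 hV
      exact ⟨s, fun _ => hs⟩
    · exact ⟨0, fun hV' => absurd hV' hV⟩
  choose sf hsf using hsec
  have hcompat : TopCat.Presheaf.IsCompatible X.sheaf.1 U sf := by
    intro V V'
    by_cases hne : ((U V ⊓ U V' : X.Opens) : Set X).Nonempty
    · have hξ : genericPoint X ∈ U V ⊓ U V' := genericPoint_mem_of_nonempty _ hne
      apply germ_injective_of_isIntegral X (genericPoint X) hξ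
      have g1 := TopCat.Presheaf.germ_res_apply X.presheaf (Opens.infLELeft (U V) (U V'))
        (genericPoint X) hξ (sf V)
      have g2 := TopCat.Presheaf.germ_res_apply X.presheaf (Opens.infLERight (U V) (U V'))
        (genericPoint X) hξ (sf V')
      exact (g1.trans ((hsf V hξ.1).trans (hsf V' hξ.2).symm)).trans g2.symm
    · have hbot : U V ⊓ U V' = ⊥ := by
        ext1
        simpa [Set.not_nonempty_iff_eq_empty] using hne
      have hsub : Subsingleton Γ(X, U V ⊓ U V') := by
        rw [hbot]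
        exact CommRingCat.subsingleton_of_isTerminal X.sheaf.isTerminalOfEmpty
      exact @Subsingleton.elim _ hsub _ _
  have hcover : W ≤ iSup U := by
    intro x hx
    obtain ⟨_, ⟨V, hV, rfl⟩, hxV, hVW⟩ :=
      X.isBasis_affineOpens.exists_subset_of_mem_open hx W.2
    exact Opens.mem_iSup.mpr ⟨⟨⟨V, hV⟩, hVW⟩, hxV⟩
  obtain ⟨s, hs, -⟩ := X.sheaf.existsUnique_gluing' U W (fun V => homOfLE V.2) hcover sf hcompat
  refine ⟨s, ?_⟩
  obtain ⟨_, ⟨V, hV, rfl⟩, hξV, hVW⟩ :=
    X.isBasis_affineOpens.exists_subset_of_mem_open hW W.2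
  have g1 := TopCat.Presheaf.germ_res_apply X.presheaf (homOfLE hVW : V ⟶ W)
    (genericPoint X) hξV s
  rw [← g1]
  have := hs ⟨⟨V, hV⟩, hVW⟩
  rw [show X.presheaf.map (homOfLE hVW : V ⟶ W).op s = sf ⟨⟨V, hV⟩, hVW⟩ from this]
  exact hsf ⟨⟨V, hV⟩, hVW⟩ hξV

end Glue

section Main

variable {X Y : Scheme.{u}} [IsIntegral X] [IsIntegral Y] (f : X ⟶ Y)

/-- `ψ ∘ germ = germ ∘ f^#` for the map `ψ : K(Y) → K(X)` of function fields. -/
theorem stalkToFunctionField_germ (h : f.base (genericPoint X) ⤳ genericPoint Y) (V₀ : Y.Opens)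
    (hη : genericPoint Y ∈ V₀) (V : X.Opens) (e : V ≤ f ⁻¹ᵁ V₀) (hV : genericPoint X ∈ V)
    (b : Γ(Y, V₀)) :
    CohIII.stalkToFunctionField f (genericPoint Y) h (Y.presheaf.germ V₀ (genericPoint Y) hη b) =
      X.presheaf.germ V (genericPoint X) hV ((f.appLE V₀ V e).hom b) := by
  have h1 : Y.presheaf.germ V₀ (genericPoint Y) hη ≫ Y.presheaf.stalkSpecializes h ≫
      f.stalkMap (genericPoint X) = f.appLE V₀ V e ≫ X.presheaf.germ V (genericPoint X) hV := by
    rw [← Category.assoc, TopCat.Presheaf.germ_stalkSpecializes, Scheme.Hom.germ_stalkMap,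
      Scheme.Hom.appLE, Category.assoc, TopCat.Presheaf.germ_res]
  exact congr($(h1).hom b)

/-- If `O_Y → f_* O_X` is an isomorphism and `X` is normal, then `K(Y)` is algebraically closed in
`K(X)`. -/
theorem mem_range_of_isIntegralElem_of_isIso_app (hX : Pi1.IsNormalScheme X)
    (h : f.base (genericPoint X) ⤳ genericPoint Y) (hf : ∀ U : Y.Opens, IsIso (f.app U))
    (x : X.functionField)
    (hx : (CohIII.stalkToFunctionField f (genericPoint Y) h).IsIntegralElem x) :
    x ∈ (CohIII.stalkToFunctionField f (genericPoint Y) h).range := by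
  set ψ := CohIII.stalkToFunctionField f (genericPoint Y) h with hψ
  have hgen : f.base (genericPoint X) = genericPoint Y :=
    Groth.Agent.Lib.SteinNormal5.map_genericPoint_eq f h
  obtain ⟨_, ⟨V₀, hV₀, rfl⟩, hηV₀, -⟩ :=
    Y.isBasis_affineOpens.exists_subset_of_mem_open (Set.mem_univ (genericPoint Y)) isOpen_univ
  have hξ : genericPoint X ∈ f ⁻¹ᵁ V₀ := by
    change f.base _ ∈ V₀
    rw [hgen]
    exact hηV₀
  haveI : Nonempty V₀ := ⟨⟨_, hηV₀⟩⟩
  -- algebra structures
  letI : Algebra Y.functionField X.functionField := ψ.toAlgebra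
  letI : Algebra Γ(Y, V₀) X.functionField :=
    (ψ.comp (algebraMap Γ(Y, V₀) Y.functionField)).toAlgebra
  haveI : IsScalarTower Γ(Y, V₀) Y.functionField X.functionField :=
    IsScalarTower.of_algebraMap_eq' rfl
  haveI : IsFractionRing Γ(Y, V₀) Y.functionField :=
    functionField_isFractionRing_of_isAffineOpen Y V₀ hV₀
  have hx' : IsIntegral Y.functionField x := hx
  obtain ⟨⟨d, hd⟩, hdx⟩ := IsIntegral.exists_multiple_integral_of_isLocalization
    (nonZeroDivisors Γ(Y, V₀)) x hx'
  have hdx' : IsIntegral Γ(Y, V₀) (d • x) := hdx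
  set z : X.functionField := d • x with hz
  have hzdef : z = ψ (Y.presheaf.germ V₀ (genericPoint Y) hηV₀ d) * x := rfl
  -- `z` comes from a section on every affine open of `f⁻¹ V₀`
  obtain ⟨s, hs⟩ := exists_germ_eq_of_forall_affine (f ⁻¹ᵁ V₀) hξ z (by
    intro V hVle hV
    haveI : Nonempty V.1 := ⟨⟨_, hV⟩⟩
    haveI : IsIntegrallyClosed Γ(X, V.1) :=
      Groth.Agent.Lib.IntegralSection.isIntegrallyClosed_sections (fun x => (hX x).2) V.2
    haveI : IsFractionRing Γ(X, V.1) X.functionField :=
      functionField_isFractionRing_of_isAffineOpen X V.1 V.2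
    have hint : IsIntegral Γ(X, V.1) z := by
      obtain ⟨p, hp, hpz⟩ := hdx'
      refine ⟨p.map (f.appLE V₀ V.1 hVle).hom, hp.map _, ?_⟩
      rw [Polynomial.eval₂_map]
      have hcomp : (algebraMap Γ(X, V.1) X.functionField).comp (f.appLE V₀ V.1 hVle).hom =
          algebraMap Γ(Y, V₀) X.functionField := by
        ext b
        exact (stalkToFunctionField_germ f h V₀ hηV₀ V.1 hVle hV b).symm
      rw [hcomp]
      exact hpz
    obtain ⟨y, hy⟩ := IsIntegrallyClosed.isIntegral_iff.mp hint
    exact ⟨y, hy⟩)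
  -- use the fibration property
  haveI := hf V₀
  obtain ⟨b, rfl⟩ := (ConcreteCategory.bijective_of_isIso (f.app V₀)).2 s
  have hb : ψ (Y.presheaf.germ V₀ (genericPoint Y) hηV₀ b) = z := by
    rw [← hs]
    have := stalkToFunctionField_germ f h V₀ hηV₀ (f ⁻¹ᵁ V₀) le_rfl hξ b
    rw [this, ← Scheme.Hom.app_eq_appLE]
  have hd0 : ψ (Y.presheaf.germ V₀ (genericPoint Y) hηV₀ d) ≠ 0 := by
    rw [Ne, map_eq_zero_iff ψ ψ.injective]
    intro h0
    have : d = 0 := germ_injective_of_isIntegral Y (genericPoint Y) hηV₀ (by rw [h0, map_zero])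
    exact nonZeroDivisors.ne_zero hd this
  refine ⟨Y.presheaf.germ V₀ (genericPoint Y) hηV₀ b / Y.presheaf.germ V₀ (genericPoint Y) hηV₀ d,
    ?_⟩
  rw [map_div₀, hb, hzdef, mul_div_cancel_left₀ _ hd0]

/-- Over a field, "algebraic" and "integral" agree: the hypothesis of S2422 from that of S14821. -/
theorem mem_range_of_algebraic_of_forall_integral {K L : Type*} [Field K] [Field L] (ψ : K →+* L)
    (hint : ∀ x : L, ψ.IsIntegralElem x → x ∈ ψ.range) (x : L)
    (hx : ∃ p : Polynomial K, p ≠ 0 ∧ Polynomial.eval₂ ψ x p = 0) : x ∈ Set.range ψ := by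
  obtain ⟨p, hp0, hp⟩ := hx
  have hlc : p.leadingCoeff ≠ 0 := Polynomial.leadingCoeff_ne_zero.mpr hp0
  refine hint x ⟨p * Polynomial.C p.leadingCoeff⁻¹, Polynomial.monic_mul_leadingCoeff_inv hp0, ?_⟩
  rw [Polynomial.eval₂_mul, hp, zero_mul]

/-- **S14821 (hypothesis form on S0002)**: for `f : X ⟶ Y` proper, `X`, `Y` integral and normal,
`Y` locally Noetherian: `O_Y → f_* O_X` is an isomorphism iff `K(Y)` is algebraically closed in
`K(X)`. -/
theorem isIso_app_iff_algClosed (H : Hyp.{u}) [IsLocallyNoetherian Y] [IsProper f]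
    (hX : Pi1.IsNormalScheme X) (hY : Pi1.IsNormalScheme Y)
    (h : f.base (genericPoint X) ⤳ genericPoint Y) :
    (∀ U : Y.Opens, IsIso (f.app U)) ↔
      ∀ x : X.functionField, (CohIII.stalkToFunctionField f (genericPoint Y) h).IsIntegralElem x →
        x ∈ (CohIII.stalkToFunctionField f (genericPoint Y) h).range := by
  constructor
  · intro hf x hx
    exact mem_range_of_isIntegralElem_of_isIso_app f hX h hf x hx
  · intro hint
    exact Groth.Agent.Lib.SteinNormal5.isIso_app_of_hyp H hY f h
      (mem_range_of_algebraic_of_forall_integral _ hint)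

/-- S14821 in its own setting (over a field `k`). -/
theorem isIso_app_iff_algClosed_over_field (H : Hyp.{u}) (k : Type u) [Field k]
    (X Y : Scheme.{u}) [X.Over (Spec (CommRingCat.of k))] [Y.Over (Spec (CommRingCat.of k))]
    [IsProper (X ↘ Spec (CommRingCat.of k))] [IsProper (Y ↘ Spec (CommRingCat.of k))]
    [IsIntegral X] [IsIntegral Y]
    (hX : Pi1.IsNormalScheme X) (hY : Pi1.IsNormalScheme Y) (f : X ⟶ Y)
    (hf : f ≫ (Y ↘ Spec (CommRingCat.of k)) = X ↘ Spec (CommRingCat.of k))
    (h : f.base (genericPoint X) ⤳ genericPoint Y) :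
    (∀ U : Y.Opens, IsIso (f.app U)) ↔
      ∀ x : X.functionField, (CohIII.stalkToFunctionField f (genericPoint Y) h).IsIntegralElem x →
        x ∈ (CohIII.stalkToFunctionField f (genericPoint Y) h).range := by
  haveI : IsProper (f ≫ (Y ↘ Spec (CommRingCat.of k))) := by rw [hf]; infer_instance
  haveI : IsProper f := IsProper.of_comp f (Y ↘ Spec (CommRingCat.of k))
  haveI : IsLocallyNoetherian Y :=
    LocallyOfFiniteType.isLocallyNoetherian (Y ↘ Spec (CommRingCat.of k))
  exact isIso_app_iff_algClosed f H hX hY h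

end Main

end Groth.Agent.Lib.FibrationNormal5
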