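import Groth.Agent.Lib.FibreBaseChange

/-!
# Fibres of a base change along a map surjective on stalks: arbitrary field extensions (helper96)
-/

set_option autoImplicit false
set_option linter.style.haveILetI false
open TensorProduct
universe u

namespace Groth.Agent.Lib.FibreBaseChange2

open Groth.Agent.Lib.FibreBaseChange

variable (A A' B B' : Type u) [CommRing A] [CommRing A'] [CommRing B]
    [CommRing B'] [Algebra A A'] [Algebra A B] [Algebra A' B'] [Algebra B B'] [Algebra A B']
    [IsScalarTower A A' B'] [IsScalarTower A B B'] [Algebra.IsPushout A A' B B']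

/-- For a pushout square with `A → A'` surjective on stalks, and any field `k'` over `κ(p')`: `k'` is a field
over `κ(p)` (`p` the contraction of `p'`) and the base changes to `k'` of the two fibres are isomorphic. -/
theorem exists_algebra_ringEquiv_fibre (p' : Ideal A') [p'.IsPrime] (k' : Type u) [Field k']
    [Algebra p'.ResidueField k'] :
    ∃ (_ : Algebra (p'.comap (algebraMap A A')).ResidueField k'),
      algebraMap (p'.comap (algebraMap A A')).ResidueField k' =
        (algebraMap p'.ResidueField k').comp
          (Ideal.ResidueField.map (p'.comap (algebraMap A A')) p' (algebraMap A A') rfl) ∧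
      Nonempty ((k' ⊗[p'.ResidueField] (p'.Fiber B')) ≃+*
        (k' ⊗[(p'.comap (algebraMap A A')).ResidueField] ((p'.comap (algebraMap A A')).Fiber B))) := by
  let φ : (p'.comap (algebraMap A A')).ResidueField →+* p'.ResidueField :=
    Ideal.ResidueField.map (p'.comap (algebraMap A A')) p' (algebraMap A A') rfl
  letI : Algebra A' k' :=
    ((algebraMap p'.ResidueField k').comp (algebraMap A' p'.ResidueField)).toAlgebra
  haveI : IsScalarTower A' p'.ResidueField k' := IsScalarTower.of_algebraMap_eq (fun _ => rfl)
  letI : Algebra A k' := ((algebraMap A' k').comp (algebraMap A A')).toAlgebra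
  haveI : IsScalarTower A A' k' := IsScalarTower.of_algebraMap_eq (fun _ => rfl)
  letI inst : Algebra (p'.comap (algebraMap A A')).ResidueField k' :=
    ((algebraMap p'.ResidueField k').comp φ).toAlgebra
  haveI : IsScalarTower A (p'.comap (algebraMap A A')).ResidueField k' :=
    IsScalarTower.of_algebraMap_eq (fun a => by
      show algebraMap p'.ResidueField k' (algebraMap A' p'.ResidueField (algebraMap A A' a)) =
        algebraMap p'.ResidueField k'
          (φ (algebraMap A (p'.comap (algebraMap A A')).ResidueField a))
      rw [Ideal.ResidueField.map_algebraMap])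
  exact ⟨inst, rfl, nonempty_ringEquiv_fibre A A' B B' (p'.comap (algebraMap A A')) p' k'⟩

/-- The fibres themselves are isomorphic. -/
theorem nonempty_ringEquiv_fiber (hso : (algebraMap A A').SurjectiveOnStalks)
    (p' : Ideal A') [p'.IsPrime] :
    Nonempty (p'.Fiber B' ≃+* (p'.comap (algebraMap A A')).Fiber B) := by
  obtain ⟨inst, halg, ⟨e⟩⟩ := exists_algebra_ringEquiv_fibre A A' B B' p' p'.ResidueField
  have hφ : Function.Bijective
      (Ideal.ResidueField.map (p'.comap (algebraMap A A')) p' (algebraMap A A') rfl) :=
    hso.residueFieldMap_bijective (p'.comap (algebraMap A A')) p' rfl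
  have hbij : Function.Bijective
      (algebraMap (p'.comap (algebraMap A A')).ResidueField p'.ResidueField) := by
    rw [halg]
    exact hφ
  let e1 : p'.ResidueField ⊗[p'.ResidueField] (p'.Fiber B') ≃ₐ[p'.ResidueField] p'.Fiber B' :=
    Algebra.TensorProduct.lid _ _
  let e0 : (p'.comap (algebraMap A A')).ResidueField
      ≃ₐ[(p'.comap (algebraMap A A')).ResidueField] p'.ResidueField :=
    AlgEquiv.ofBijective (Algebra.ofId _ _) hbij
  let e2 : (p'.comap (algebraMap A A')).ResidueField ⊗[(p'.comap (algebraMap A A')).ResidueField]
        ((p'.comap (algebraMap A A')).Fiber B)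
      ≃ₐ[(p'.comap (algebraMap A A')).ResidueField]
      p'.ResidueField ⊗[(p'.comap (algebraMap A A')).ResidueField]
        ((p'.comap (algebraMap A A')).Fiber B) :=
    Algebra.TensorProduct.congr e0 AlgEquiv.refl
  let e3 : (p'.comap (algebraMap A A')).ResidueField ⊗[(p'.comap (algebraMap A A')).ResidueField]
        ((p'.comap (algebraMap A A')).Fiber B)
      ≃ₐ[(p'.comap (algebraMap A A')).ResidueField] (p'.comap (algebraMap A A')).Fiber B :=
    Algebra.TensorProduct.lid _ _
  exact ⟨e1.symm.toRingEquiv.trans (e.trans (e2.symm.toRingEquiv.trans e3.toRingEquiv))⟩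

end Groth.Agent.Lib.FibreBaseChange2
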