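import Mathlib
import Groth.Agent.Lib.BranchesNbhdC96

/-!
# helper96: étale neighbourhoods separating finitely many incomparable primes, with the map from
the local ring

`exists_nbhd_injOn`: for a local `O_{X,x}`-algebra `S` generated by étale `O_{X,x}`-algebras and a
finite set `T` of pairwise incomparable primes of `S`, there are an étale neighbourhood `(U, g, u)`
of `(X, x)` and a morphism `a : Spec S ⟶ U` over `X` sending the closed point to `u` and injective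
on `T`.
-/

set_option autoImplicit false
set_option linter.style.haveILetI false
universe u

namespace Groth.Agent.Lib.BranchesNbhd96

open IsLocalRing AlgebraicGeometry CategoryTheory Groth.Agent.Lib.ElemEtaleNbhd96

/-- Finitely many pairwise incomparable primes of `S` are separated by a suitable étale
`A`-algebra mapping to `S`. -/
theorem exists_etale_injOn' {A : Type u} [CommRing A] (p : Ideal A)
    [p.IsPrime] (R : Type u) [CommRing R] [Algebra A R] [IsLocalization.AtPrime R p]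
    (S : Type u) [CommRing S] [IsLocalRing S] [Algebra R S] [Algebra A S] [IsScalarTower A R S]
    (hgen : ∀ F : Finset S, ∃ (E : Type u) (_ : CommRing E) (_ : Algebra R E)
      (_ : Algebra.Etale R E) (φ : E →ₐ[R] S), ∀ s ∈ F, s ∈ φ.range)
    (T : Set (Ideal S)) (hT : T.Finite) (hTp : ∀ 𝔞 ∈ T, 𝔞.IsPrime)
    (hinc : ∀ 𝔞 ∈ T, ∀ 𝔟 ∈ T, 𝔞 ≤ 𝔟 → 𝔞 = 𝔟) :
    ∃ (C : Type u) (_ : CommRing C) (_ : Algebra A C) (_ : Algebra.Etale A C) (χ : C →ₐ[A] S),
      Set.InjOn (fun 𝔞 : Ideal S => 𝔞.comap χ) T := by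
  classical
  have hsel : ∀ 𝔞 𝔟 : Ideal S, ∃ s : S, 𝔞 ∈ T → 𝔟 ∈ T → 𝔞 ≠ 𝔟 → s ∈ 𝔞 ∧ s ∉ 𝔟 := by
    intro 𝔞 𝔟
    by_cases h : 𝔞 ∈ T ∧ 𝔟 ∈ T ∧ 𝔞 ≠ 𝔟
    · obtain ⟨h𝔞, h𝔟, hne⟩ := h
      have hnle : ¬ 𝔞 ≤ 𝔟 := fun hle => hne (hinc 𝔞 h𝔞 𝔟 h𝔟 hle)
      obtain ⟨s, hs𝔞, hs𝔟⟩ := SetLike.not_le_iff_exists.1 hnle
      exact ⟨s, fun _ _ _ => ⟨hs𝔞, hs𝔟⟩⟩
    · exact ⟨0, fun h1 h2 h3 => (h ⟨h1, h2, h3⟩).elim⟩
  choose sel hsel using hsel
  let F : Finset S := (hT.toFinset ×ˢ hT.toFinset).image (fun ab => sel ab.1 ab.2)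
  obtain ⟨E, _, _, _, φ, hφ⟩ := hgen F
  obtain ⟨C, i1, i2, i3, χ, hχ⟩ := exists_etale_model' p R S E φ
  refine ⟨C, i1, i2, i3, χ, ?_⟩
  intro 𝔞 h𝔞 𝔟 h𝔟 heq
  by_contra hne
  obtain ⟨hs𝔞, hs𝔟⟩ := hsel 𝔞 𝔟 h𝔞 h𝔟 hne
  have hsF : sel 𝔞 𝔟 ∈ F := by
    refine Finset.mem_image.2 ⟨(𝔞, 𝔟), ?_, rfl⟩
    rw [Finset.mem_product]
    exact ⟨hT.mem_toFinset.2 h𝔞, hT.mem_toFinset.2 h𝔟⟩
  obtain ⟨e, he⟩ := hφ _ hsF
  obtain ⟨c, v, hv, hc⟩ := hχ e
  have he' : φ e = sel 𝔞 𝔟 := he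
  rw [he'] at hc
  have h𝔟p : 𝔟.IsPrime := hTp 𝔟 h𝔟
  have hc₁ : c ∈ 𝔞.comap χ := by
    rw [Ideal.mem_comap, hc]
    exact Ideal.mul_mem_right _ _ hs𝔞
  have heq' : 𝔞.comap χ = 𝔟.comap χ := heq
  rw [heq', Ideal.mem_comap, hc] at hc₁
  rcases h𝔟p.mem_or_mem hc₁ with h | h
  · exact hs𝔟 h
  · exact h𝔟p.ne_top (Ideal.eq_top_of_isUnit_mem _ h hv)

theorem exists_nbhd_injOn {X : Scheme.{u}} (x : X) (S : Type u) [CommRing S] [IsLocalRing S]
    [Algebra (X.presheaf.stalk x) S] [IsLocalHom (algebraMap (X.presheaf.stalk x) S)]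
    (hgen : ∀ F : Finset S, ∃ (E : Type u) (_ : CommRing E) (_ : Algebra (X.presheaf.stalk x) E)
      (_ : Algebra.Etale (X.presheaf.stalk x) E) (φ : E →ₐ[X.presheaf.stalk x] S),
      ∀ s ∈ F, s ∈ φ.range)
    (T : Set (Ideal S)) (hT : T.Finite) (hTp : ∀ 𝔞 ∈ T, 𝔞.IsPrime)
    (hinc : ∀ 𝔞 ∈ T, ∀ 𝔟 ∈ T, 𝔞 ≤ 𝔟 → 𝔞 = 𝔟) :
    ∃ (U : Scheme.{u}) (g : U ⟶ X) (u : U) (a : Spec (CommRingCat.of S) ⟶ U), Etale g ∧ g u = x ∧
      a ≫ g = Spec.map (CommRingCat.ofHom (algebraMap (X.presheaf.stalk x) S)) ≫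
        X.fromSpecStalk x ∧
      a (closedPoint S) = u ∧
      (Function.Surjective (ResidueField.map (algebraMap (X.presheaf.stalk x) S)) →
        Function.Bijective (g.residueFieldMap u)) ∧
      ∀ 𝔞 ∈ T, ∀ 𝔟 ∈ T, ∀ (h𝔞 : 𝔞.IsPrime) (h𝔟 : 𝔟.IsPrime),
        a (⟨𝔞, h𝔞⟩ : PrimeSpectrum S) = a (⟨𝔟, h𝔟⟩ : PrimeSpectrum S) → 𝔞 = 𝔟 := by
  obtain ⟨V, hV, hxV⟩ : ∃ V : X.Opens, IsAffineOpen V ∧ x ∈ V := by
    obtain ⟨_, ⟨V, hV, rfl⟩, hxV, -⟩ :=
      X.isBasis_affineOpens.exists_subset_of_mem_open (Set.mem_univ x) isOpen_univ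
    exact ⟨V, hV, hxV⟩
  let R := X.presheaf.stalk x
  let p := (hV.primeIdealOf ⟨x, hxV⟩).asIdeal
  letI : Algebra Γ(X, V) R := X.presheaf.algebra_section_stalk ⟨x, hxV⟩
  haveI : IsLocalization.AtPrime R p := hV.isLocalization_stalk ⟨x, hxV⟩
  letI : Algebra Γ(X, V) S := ((algebraMap R S).comp (algebraMap Γ(X, V) R)).toAlgebra
  haveI : IsScalarTower Γ(X, V) R S := IsScalarTower.of_algebraMap_eq fun _ => rfl
  have hcomap : (maximalIdeal S).comap (algebraMap Γ(X, V) S) = p := by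
    ext a
    rw [Ideal.mem_comap, IsScalarTower.algebraMap_apply Γ(X, V) R S, ← Ideal.mem_comap,
      IsLocalRing.maximalIdeal_comap, IsLocalization.AtPrime.to_map_mem_maximal_iff R p]
  obtain ⟨C, _, _, _, χ, hinj⟩ := exists_etale_injOn' p R S hgen T hT hTp hinc
  let Q : Ideal C := (maximalIdeal S).comap χ
  haveI : Q.IsPrime := Ideal.comap_isPrime _ _
  have hQp : Q.comap (algebraMap Γ(X, V) C) = p := by
    rw [← hcomap]
    ext a
    simp only [Q, Ideal.mem_comap, AlgHom.commutes]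
  let φ : Γ(X, V) ⟶ CommRingCat.of C := CommRingCat.ofHom (algebraMap Γ(X, V) C)
  let g : Spec (CommRingCat.of C) ⟶ X := Spec.map φ ≫ hV.fromSpec
  have hφ : Etale (Spec.map φ) := by
    rw [HasRingHomProperty.Spec_iff (P := @Etale)]
    show (algebraMap Γ(X, V) C).Etale
    rw [RingHom.etale_algebraMap]
    infer_instance
  have hg : Etale g := inferInstance
  let u : Spec (CommRingCat.of C) := ⟨Q, inferInstance⟩
  have hgu : g u = x := by
    have h1 : Spec.map φ u = hV.primeIdealOf ⟨x, hxV⟩ := by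
      apply PrimeSpectrum.ext
      exact hQp
    show hV.fromSpec (Spec.map φ u) = x
    rw [h1, hV.fromSpec_primeIdealOf]
  let a : Spec (CommRingCat.of S) ⟶ Spec (CommRingCat.of C) :=
    Spec.map (CommRingCat.ofHom (χ : C →+* S))
  refine ⟨_, g, u, a, hg, hgu, ?_, rfl, fun hsurjres => ?_, ?_⟩
  · show Spec.map (CommRingCat.ofHom (χ : C →+* S)) ≫ Spec.map φ ≫ hV.fromSpec = _
    rw [← Spec.map_comp_assoc, ← hV.fromSpecStalk_eq_fromSpecStalk hxV, IsAffineOpen.fromSpecStalk,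
      ← Spec.map_comp_assoc]
    congr 2
    ext r
    show χ (algebraMap Γ(X, V) C r) = algebraMap R S (algebraMap Γ(X, V) R r)
    rw [AlgHom.commutes]
    rfl
  · have hres : ResSurj (Localization.localRingHom (Q.comap (algebraMap Γ(X, V) C)) Q
        (algebraMap Γ(X, V) C) rfl) := by
      have hsurj : ∀ s : S, ∃ a t : Γ(X, V), t ∉ p ∧
          algebraMap Γ(X, V) S t * s - algebraMap Γ(X, V) S a ∈ maximalIdeal S := by
        intro s
        obtain ⟨y, hy⟩ := hsurjres (residue S s)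
        obtain ⟨r, rfl⟩ := residue_surjective y
        obtain ⟨a, t, rfl⟩ := IsLocalization.exists_mk'_eq p.primeCompl r
        refine ⟨a, t.1, t.2, ?_⟩
        rw [ResidueField.map_residue] at hy
        have h0 : s - algebraMap R S (IsLocalization.mk' R a t) ∈ maximalIdeal S := by
          rw [← residue_eq_zero_iff, map_sub, hy, sub_self]
        have h1 : algebraMap Γ(X, V) S t.1 * s - algebraMap Γ(X, V) S a =
            algebraMap Γ(X, V) S t.1 * (s - algebraMap R S (IsLocalization.mk' R a t)) := by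
          have e1 := IsLocalization.mk'_spec R a t
          rw [IsScalarTower.algebraMap_apply Γ(X, V) R S,
            IsScalarTower.algebraMap_apply Γ(X, V) R S, ← e1, map_mul]
          ring
        rw [h1]
        exact Ideal.mul_mem_left _ _ h0
      refine resSurj_localRingHom_of_ringHom (algebraMap Γ(X, V) C) (χ : C →+* S) _ rfl _ rfl ?_
      intro s
      obtain ⟨a, t, ht, hat⟩ := hsurj s
      refine ⟨a, t, ?_, ?_⟩
      · intro hmem
        exact ht (hQp.le hmem)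
      · simpa only [RingHom.coe_coe, AlgHom.commutes] using hat
    have h1 : Function.Bijective ((Spec.map φ).residueFieldMap u) :=
      (bijective_residueFieldMap_SpecMap_iff φ u).2 hres
    have h2 : Function.Bijective (hV.fromSpec.residueFieldMap (Spec.map φ u)) :=
      ConcreteCategory.bijective_of_isIso _
    have h3 : g.residueFieldMap u =
        hV.fromSpec.residueFieldMap (Spec.map φ u) ≫ (Spec.map φ).residueFieldMap u :=
      Scheme.residueFieldMap_comp _ _ _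
    rw [h3]
    exact h1.comp h2
  · intro 𝔞 h𝔞 𝔟 h𝔟 hp𝔞 hp𝔟 heq
    apply hinj h𝔞 h𝔟
    exact congrArg PrimeSpectrum.asIdeal heq

end Groth.Agent.Lib.BranchesNbhd96
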