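import Mathlib
import Groth.Agent.Lib.GenericFlatPt

/-!
# helper96: lower bound for the number of components through a point from a flat local chart

* `flat_of_comp_etale`: if `ψ ≫ g` is flat and `g` is étale then `ψ` is flat.
* `encard_le_of_flat_injOn`: for a flat morphism `ψ : Spec S ⟶ W` from a local ring sending the
  closed point to `w`, a set `T` of minimal primes of `S` on which `ψ` is injective has at most as
  many elements as there are irreducible components of `W` through `w`.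
-/

set_option autoImplicit false
set_option linter.style.haveILetI false
universe u

namespace Groth.Agent.Lib.FibreBranches96

open IsLocalRing AlgebraicGeometry CategoryTheory Limits

set_option backward.isDefEq.respectTransparency.types false in
instance : MorphismProperty.HasOfPostcompProperty @Flat @Etale := by
  rw [MorphismProperty.hasOfPostcompProperty_iff_le_diagonal]
  intro X Y f hf
  haveI : Etale f := hf
  haveI : Etale (pullback.diagonal f) := inferInstance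
  exact inferInstanceAs <| Flat (pullback.diagonal f)

set_option backward.isDefEq.respectTransparency.types false in
theorem flat_of_comp_etale {X Y Z : Scheme.{u}} (ψ : X ⟶ Y) (g : Y ⟶ Z) [Etale g]
    [Flat (ψ ≫ g)] : Flat ψ :=
  MorphismProperty.of_postcomp (W := @Flat) (W' := @Etale) ψ g ‹_› ‹_›

theorem encard_le_of_flat_injOn {W : Scheme.{u}} (w : W) (S : Type u) [CommRing S]
    [IsLocalRing S] (ψ : Spec (CommRingCat.of S) ⟶ W) [Flat ψ] (hw : ψ (closedPoint S) = w)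
    (T : Set (Ideal S)) (hTmin : T ⊆ minimalPrimes S)
    (hinj : ∀ 𝔞 ∈ T, ∀ 𝔟 ∈ T, ∀ (h𝔞 : 𝔞.IsPrime) (h𝔟 : 𝔟.IsPrime),
      ψ (⟨𝔞, h𝔞⟩ : PrimeSpectrum S) = ψ (⟨𝔟, h𝔟⟩ : PrimeSpectrum S) → 𝔞 = 𝔟) :
    T.encard ≤ {Z : Set W | Z ∈ irreducibleComponents W ∧ w ∈ Z}.encard := by
  classical
  have hgen : GeneralizingMap ψ := Flat.generalizingMap ψ
  let F : Ideal S → Set W := fun 𝔞 =>
    if h : 𝔞.IsPrime then closure {ψ (⟨𝔞, h⟩ : PrimeSpectrum S)} else ∅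
  refine Set.encard_le_encard_of_injOn (f := F) ?_ ?_
  · intro 𝔞 h𝔞
    have h𝔞min := hTmin h𝔞
    have h𝔞p : 𝔞.IsPrime := Ideal.IsMinimalPrime.isPrime h𝔞min
    have hF : F 𝔞 = closure {ψ (⟨𝔞, h𝔞p⟩ : PrimeSpectrum S)} := dif_pos h𝔞p
    rw [hF]
    refine ⟨⟨isIrreducible_singleton.closure, ?_⟩, ?_⟩
    · intro Z hZ hle
      have hZc : IsIrreducible (closure Z) := hZ.closure
      obtain ⟨ζ, hζ⟩ := QuasiSober.sober hZc isClosed_closure
      have hmem : ψ (⟨𝔞, h𝔞p⟩ : PrimeSpectrum S) ∈ closure Z :=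
        subset_closure (hle (subset_closure rfl))
      have hζu : ζ ⤳ ψ (⟨𝔞, h𝔞p⟩ : PrimeSpectrum S) := by
        rw [specializes_iff_mem_closure, hζ.def]
        exact hmem
      obtain ⟨𝔟, h𝔟sp, h𝔟⟩ := hgen hζu
      have hle' : 𝔟.asIdeal ≤ 𝔞 := (PrimeSpectrum.le_iff_specializes 𝔟 ⟨𝔞, h𝔞p⟩).2 h𝔟sp
      have heq : 𝔟.asIdeal = 𝔞 :=
        le_antisymm hle' (h𝔞min.2 ⟨𝔟.isPrime, bot_le⟩ hle')
      have h𝔟eq : 𝔟 = ⟨𝔞, h𝔞p⟩ := PrimeSpectrum.ext heq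
      rw [h𝔟eq] at h𝔟
      calc Z ⊆ closure Z := subset_closure
        _ = closure {ζ} := hζ.def.symm
        _ = closure {ψ (⟨𝔞, h𝔞p⟩ : PrimeSpectrum S)} := by rw [h𝔟]
    · have hsp : (⟨𝔞, h𝔞p⟩ : PrimeSpectrum S) ⤳ closedPoint S :=
        (PrimeSpectrum.le_iff_specializes _ _).1 (IsLocalRing.le_maximalIdeal h𝔞p.ne_top)
      have := hsp.map ψ.continuous
      rw [hw] at this
      exact specializes_iff_mem_closure.1 this
  · intro 𝔞 h𝔞 𝔟 h𝔟 heq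
    have h𝔞p : 𝔞.IsPrime := Ideal.IsMinimalPrime.isPrime (hTmin h𝔞)
    have h𝔟p : 𝔟.IsPrime := Ideal.IsMinimalPrime.isPrime (hTmin h𝔟)
    have hF𝔞 : F 𝔞 = closure {ψ (⟨𝔞, h𝔞p⟩ : PrimeSpectrum S)} := dif_pos h𝔞p
    have hF𝔟 : F 𝔟 = closure {ψ (⟨𝔟, h𝔟p⟩ : PrimeSpectrum S)} := dif_pos h𝔟p
    rw [hF𝔞, hF𝔟] at heq
    have h1 : IsGenericPoint (ψ (⟨𝔞, h𝔞p⟩ : PrimeSpectrum S))
        (closure {ψ (⟨𝔟, h𝔟p⟩ : PrimeSpectrum S)}) := heq
    have h2 : IsGenericPoint (ψ (⟨𝔟, h𝔟p⟩ : PrimeSpectrum S))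
        (closure {ψ (⟨𝔟, h𝔟p⟩ : PrimeSpectrum S)}) := rfl
    exact hinj 𝔞 h𝔞 𝔟 h𝔟 h𝔞p h𝔟p (h1.eq h2)

end Groth.Agent.Lib.FibreBranches96
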