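import Mathlib
import Groth.Agent.Lib.FibreBranchesA96
import Groth.Agent.Lib.FibreBranchesB96
import Groth.Agent.Lib.FibreBranchesC96

/-!
# helper96: étale neighbourhoods of `(X, x)` whose fibres have many components through the point

`exists_nbhd_fibre_encard_ge`: let `xs` be a point of the fibre `X_s`, `x` its image in `X`,
`Sx` a local `O_{X,x}`-algebra generated by étale algebras, `S'` a flat local `O_{X_s,xs}`-algebra
which is a quotient of `Sx` compatibly with `O_{X,x} → O_{X_s,xs}`. For any finite set `T` of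
minimal primes of `S'` there is an étale neighbourhood `(U, u)` of `(X, x)` such that the fibre
`U_s` has at least `#T` irreducible components through the point above `u`.
-/

set_option autoImplicit false
set_option linter.style.haveILetI false
universe u

namespace Groth.Agent.Lib.FibreBranches96

open IsLocalRing AlgebraicGeometry CategoryTheory Limits Groth.Agent.Lib.BranchesNbhd96

theorem exists_nbhd_fibre_encard_ge {X S : Scheme.{u}} (f : X ⟶ S) (s : S) (xs : f.fiber s)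
    (Sx : Type u) [CommRing Sx] [IsLocalRing Sx]
    [Algebra (X.presheaf.stalk (f.fiberι s xs)) Sx]
    [IsLocalHom (algebraMap (X.presheaf.stalk (f.fiberι s xs)) Sx)]
    (hgen : ∀ F : Finset Sx, ∃ (E : Type u) (_ : CommRing E)
      (_ : Algebra (X.presheaf.stalk (f.fiberι s xs)) E)
      (_ : Algebra.Etale (X.presheaf.stalk (f.fiberι s xs)) E)
      (φ : E →ₐ[X.presheaf.stalk (f.fiberι s xs)] Sx), ∀ s ∈ F, s ∈ φ.range)
    (S' : Type u) [CommRing S'] [IsLocalRing S'] [Algebra ((f.fiber s).presheaf.stalk xs) S']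
    [Module.Flat ((f.fiber s).presheaf.stalk xs) S']
    (π : Sx →+* S') (hπ : Function.Surjective π)
    (hcomm : ∀ r, π (algebraMap (X.presheaf.stalk (f.fiberι s xs)) Sx r) =
      algebraMap ((f.fiber s).presheaf.stalk xs) S' ((f.fiberι s).stalkMap xs r))
    (T : Set (Ideal S')) (hT : T.Finite) (hTmin : T ⊆ minimalPrimes S') :
    ∃ (U : Scheme.{u}) (g : U ⟶ X) (u : U), Etale g ∧ g u = f.fiberι s xs ∧
      (Function.Surjective (ResidueField.map
        (algebraMap (X.presheaf.stalk (f.fiberι s xs)) Sx)) →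
        Function.Bijective (g.residueFieldMap u)) ∧
      T.encard ≤ {Z : Set ((g ≫ f).fiber s) | Z ∈ irreducibleComponents ((g ≫ f).fiber s) ∧
        ∃ u' ∈ Z, (g ≫ f).fiberι s u' = u}.encard := by
  classical
  let T' : Set (Ideal Sx) := (fun 𝔞 : Ideal S' => 𝔞.comap π) '' T
  have hT' : T'.Finite := hT.image _
  have hT'p : ∀ 𝔞 ∈ T', 𝔞.IsPrime := by
    rintro _ ⟨𝔞, h𝔞, rfl⟩
    haveI : 𝔞.IsPrime := Ideal.IsMinimalPrime.isPrime (hTmin h𝔞)
    exact Ideal.comap_isPrime _ _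
  have hinc : ∀ 𝔞 ∈ T', ∀ 𝔟 ∈ T', 𝔞 ≤ 𝔟 → 𝔞 = 𝔟 := by
    rintro _ ⟨𝔞, h𝔞, rfl⟩ _ ⟨𝔟, h𝔟, rfl⟩ hle
    have h𝔞p : 𝔞.IsPrime := Ideal.IsMinimalPrime.isPrime (hTmin h𝔞)
    have hle' : 𝔞 ≤ 𝔟 := (Ideal.comap_le_comap_iff_of_surjective π hπ _ _).1 hle
    have : 𝔞 = 𝔟 := le_antisymm hle' ((hTmin h𝔟).2 ⟨h𝔞p, bot_le⟩ hle')
    rw [this]
  obtain ⟨U, g, u, a, hg, hgu, hag, hau, hres, hinj⟩ :=
    exists_nbhd_injOn (f.fiberι s xs) Sx hgen T' hT' hT'p hinc
  haveI : Etale g := hg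
  refine ⟨U, g, u, hg, hgu, hres, ?_⟩
  -- the two maps from `Spec S'`
  let a' : Spec (CommRingCat.of S') ⟶ U := Spec.map (CommRingCat.ofHom π) ≫ a
  let c : Spec (CommRingCat.of S') ⟶ f.fiber s :=
    Spec.map (CommRingCat.ofHom (algebraMap ((f.fiber s).presheaf.stalk xs) S')) ≫
      (f.fiber s).fromSpecStalk xs
  have hkey : a' ≫ g = c ≫ f.fiberι s := by
    show (Spec.map (CommRingCat.ofHom π) ≫ a) ≫ g = (Spec.map _ ≫ _) ≫ _
    rw [Category.assoc, hag, Category.assoc, ← Scheme.SpecMap_stalkMap_fromSpecStalk,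
      ← Spec.map_comp_assoc, ← Spec.map_comp_assoc]
    congr 2
    ext r
    exact hcomm r
  have hcond : a' ≫ (g ≫ f) = (c ≫ f.fiberToSpecResidueField s) ≫ S.fromSpecResidueField s := by
    calc a' ≫ (g ≫ f) = (a' ≫ g) ≫ f := (Category.assoc _ _ _).symm
      _ = (c ≫ f.fiberι s) ≫ f := by rw [hkey]
      _ = c ≫ (f.fiberι s ≫ f) := Category.assoc _ _ _
      _ = c ≫ (f.fiberToSpecResidueField s ≫ S.fromSpecResidueField s) := by rw [f.fiber_fac s]
      _ = _ := (Category.assoc _ _ _).symm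
  let ψ : Spec (CommRingCat.of S') ⟶ (g ≫ f).fiber s :=
    pullback.lift a' (c ≫ f.fiberToSpecResidueField s) hcond
  have hψ1 : ψ ≫ (g ≫ f).fiberι s = a' := pullback.lift_fst _ _ _
  have hψ2 : ψ ≫ (g ≫ f).fiberToSpecResidueField s = c ≫ f.fiberToSpecResidueField s :=
    pullback.lift_snd _ _ _
  have hψc : ψ ≫ fiberMap g f s = c := by
    apply pullback.hom_ext
    · show (ψ ≫ fiberMap g f s) ≫ f.fiberι s = c ≫ f.fiberι s
      rw [Category.assoc, fiberMap_fiberι, ← Category.assoc, hψ1, hkey]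
    · show (ψ ≫ fiberMap g f s) ≫ f.fiberToSpecResidueField s = c ≫ f.fiberToSpecResidueField s
      rw [Category.assoc, fiberMap_snd, hψ2]
  have hflatc : Flat c := by
    haveI : Flat (Spec.map (CommRingCat.ofHom
        (algebraMap ((f.fiber s).presheaf.stalk xs) S'))) := by
      rw [Flat.SpecMap_iff]
      exact RingHom.flat_algebraMap_iff.2 inferInstance
    haveI := Groth.Agent.Lib.GenericFlatPt.flat_fromSpecStalk (f.fiber s) xs
    infer_instance
  haveI : Flat (ψ ≫ fiberMap g f s) := hψc ▸ hflatc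
  haveI : Flat ψ := flat_of_comp_etale ψ (fiberMap g f s)
  have hπl : IsLocalHom π := IsLocalHom.of_surjective _ hπ
  have hclosed : (g ≫ f).fiberι s (ψ (closedPoint S')) = u := by
    have h0 : (g ≫ f).fiberι s (ψ (closedPoint S')) =
        (ψ ≫ (g ≫ f).fiberι s) (closedPoint S') := rfl
    rw [h0, hψ1]
    show a (Spec.map (CommRingCat.ofHom π) (closedPoint S')) = u
    have : Spec.map (CommRingCat.ofHom π) (closedPoint S') = closedPoint Sx := by
      apply PrimeSpectrum.ext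
      exact IsLocalRing.maximalIdeal_comap π
    rw [this, hau]
  have hinj' : ∀ 𝔞 ∈ T, ∀ 𝔟 ∈ T, ∀ (h𝔞 : 𝔞.IsPrime) (h𝔟 : 𝔟.IsPrime),
      ψ (⟨𝔞, h𝔞⟩ : PrimeSpectrum S') = ψ (⟨𝔟, h𝔟⟩ : PrimeSpectrum S') → 𝔞 = 𝔟 := by
    intro 𝔞 h𝔞 𝔟 h𝔟 hp𝔞 hp𝔟 heq
    have h1 : (ψ ≫ (g ≫ f).fiberι s) (⟨𝔞, hp𝔞⟩ : PrimeSpectrum S') =
        (ψ ≫ (g ≫ f).fiberι s) (⟨𝔟, hp𝔟⟩ : PrimeSpectrum S') :=
      congrArg ((g ≫ f).fiberι s) heq
    rw [hψ1] at h1
    have h2 : a (⟨𝔞.comap π, Ideal.comap_isPrime _ _⟩ : PrimeSpectrum Sx) =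
        a (⟨𝔟.comap π, Ideal.comap_isPrime _ _⟩ : PrimeSpectrum Sx) := h1
    have h3 := hinj _ ⟨𝔞, h𝔞, rfl⟩ _ ⟨𝔟, h𝔟, rfl⟩ _ _ h2
    exact Ideal.comap_injective_of_surjective π hπ h3
  refine (encard_le_of_flat_injOn (ψ (closedPoint S')) S' ψ rfl T hTmin hinj').trans ?_
  apply Set.encard_le_encard
  rintro Z ⟨hZ, hmem⟩
  exact ⟨hZ, _, hmem, hclosed⟩

end Groth.Agent.Lib.FibreBranches96
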