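import Groth.Agent.Lib.TensorAModel3H44
import Groth.Agent.Lib.BaseChangeCohH44

/-!
# K2c: the finite free model `L` together with the base-change bridge (helper21)

`exists_model_bc` re-runs helper44's `TensorAModel3H44.exists_model`, keeping the Čech cover, and adds helper44's
base-change bridge `BaseChangeCohH44.exists_addEquiv_bc_pull` transported to `L`: for every `A`-algebra `R`,
`H^p(X_R, π^*F) ≃+ T^p_L(R)`, equivariantly for the multiplication by elements of `R`.
-/

set_option autoImplicit false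
universe u

open CategoryTheory CategoryTheory.Limits AlgebraicGeometry Opposite MonoidalCategory CohIII

namespace Groth.Agent.Lib.FibreModel21

open Groth.Agent.Lib.EndEquivH44 Groth.Agent.Lib.TensorACechH44 Groth.Agent.Lib.TensorAModelH44
  Groth.Agent.Lib.TensorAModel2H44 Groth.Agent.Lib.TensorAModel3H44 Groth.Agent.Lib.ReesCoh
  Groth.Agent.Lib.BaseChangeSheafH44 Groth.Agent.Lib.BaseChangeCohH44

theorem exists_model_bc (A : Type u) [CommRing A] [IsNoetherianRing A] (X : Scheme.{u})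
    [X.Over (Spec (CommRingCat.of A))] [IsProper (X ↘ Spec (CommRingCat.of A))] (F : X.Modules)
    (hF : Coh.IsCoh F) (hfl : FlatMod.IsFlatOver (X ↘ Spec (CommRingCat.of A)) F) :
    ∃ L : CochainComplex (ModuleCat.{u} A) ℤ,
      (∀ i, Module.Finite A (L.X i) ∧ Module.Free A (L.X i)) ∧
      (∃ b : ℤ, ∀ i, b < i → IsZero (L.X i)) ∧
      (∀ p : ℕ, EndEquiv (tensorAFunctor A F ⋙ HAb X p)
        (TFun L (p : ℤ) ⋙ forget₂ (ModuleCat.{u} A) AddCommGrpCat.{u})) ∧
      (∀ p : ℤ, p < 0 → ∀ M : ModuleCat.{u} A, IsZero ((TFun L p).obj M)) ∧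
      ∀ (R : Type u) [CommRing R] [Algebra A R] (p : ℕ),
        ∃ e : Coh.HH (bc A R X) ((Scheme.Modules.pullback (bcπ A R X)).obj F) p ≃+
            ((TFun L (p : ℤ)).obj (ModuleCat.of A R)),
          ∀ (r : R) (x : Coh.HH (bc A R X) ((Scheme.Modules.pullback (bcπ A R X)).obj F) p),
            e (r • x) = ((TFun L (p : ℤ)).map (mulR A R r)).hom (e x) := by
  haveI : F.IsQuasicoherent := hF.1
  haveI : CompactSpace X :=
    QuasiCompact.compactSpace_of_compactSpace (X ↘ Spec (CommRingCat.of A))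
  obtain ⟨ι, _, U, hcov, hUa⟩ := Groth.Agent.Lib.H90ProperFin.exists_finite_affine_cover X
  have hU : ∀ s : Finset ι, s.Nonempty → IsAffineOpen (⨅ i ∈ s, U i) :=
    isAffineOpen_biInf (X ↘ Spec (CommRingCat.of A)) U hUa
  obtain ⟨t, ht⟩ := exists_vanishing A F U hcov hU
  obtain ⟨L, h1, h2, h3, h4⟩ := Groth.Agent.Lib.MumfordTrunc21.exists_finite_free_model_nat A
    (cechCx A F U) (flat_cechCx_X A U hfl (isAffineOpen_prod U hU))
    (finite_homology_cechCx A U hF hcov hU) t (fun M p hp => ht M p hp.le)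
  refine ⟨L, h1, h2, fun p => ?_, h4, fun R _ _ p => ?_⟩
  · obtain ⟨e⟩ := h3 p
    exact ((EndEquiv.of_iso (Functor.isoWhiskerRight e _)).trans (endEquiv_TFun A F U hcov hU p)).symm
  · obtain ⟨σ⟩ := h3 p
    obtain ⟨e, he⟩ := exists_addEquiv_bc_pull A R F U hcov hU p
    let τ : (TFun (cechCx A F U) p).obj (ModuleCat.of A R) ≃+
        (TFun L (p : ℤ)).obj (ModuleCat.of A R) :=
      (σ.app (ModuleCat.of A R)).symm.toLinearEquiv.toAddEquiv
    refine ⟨e.trans τ, fun r x => ?_⟩
    change τ (e (r • x)) = _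
    rw [he]
    change (σ.inv.app _).hom (((TFun (cechCx A F U) p).map (mulR A R r)).hom (e x)) =
      ((TFun L (p : ℤ)).map (mulR A R r)).hom ((σ.inv.app _).hom (e x))
    have := σ.inv.naturality (mulR A R r)
    exact ConcreteCategory.congr_hom this (e x)

end Groth.Agent.Lib.FibreModel21
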