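import Groth.Agent.Lib.RpushLinear
import Groth.Agent.Lib.OXModTensor
import Groth.Prelude.Def_ega3

/-!
# `A`-linearity of `M ↦ F ⊗_A M` (helper44, K2c geometry)

`(tensorAFunctor A F).map (a • 𝟙 M)` is multiplication by `a` on the `O_X`-module `F ⊗_A M`
(`tensorAFunctor_map_smul`).  General principle (`map_central_of_adjunction`): a left adjoint intertwines central
endomorphisms as soon as its right adjoint does.
-/

set_option autoImplicit false
universe u

open CategoryTheory CategoryTheory.Limits AlgebraicGeometry Opposite MonoidalCategory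

namespace Groth.Agent.Lib.TensorALinH44

open Groth.Agent.Lib.RpushLinear

section Principle

variable {𝒞 𝒟 : Type*} [Category 𝒞] [Category 𝒟] {L : 𝒞 ⥤ 𝒟} {R : 𝒟 ⥤ 𝒞} (adj : L ⊣ R)

include adj in
/-- A left adjoint intertwines central endomorphisms as soon as its right adjoint does. -/
theorem map_central_of_adjunction (z : 𝟭 𝒞 ⟶ 𝟭 𝒞) (z' : 𝟭 𝒟 ⟶ 𝟭 𝒟)
    (h : ∀ P : 𝒟, R.map (z'.app P) = z.app (R.obj P)) (N : 𝒞) :
    L.map (z.app N) = z'.app (L.obj N) := by
  apply (adj.homEquiv N (L.obj N)).injective
  rw [Adjunction.homEquiv_unit, Adjunction.homEquiv_unit, h]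
  have h1 := adj.unit.naturality (z.app N)
  have h2 := z.naturality (adj.unit.app N)
  simp only [Functor.id_obj, Functor.id_map, Functor.comp_obj, Functor.comp_map] at h1 h2
  rw [← h1, h2]

end Principle

section Pullback

variable {X S : Scheme.{u}} (f : X ⟶ S)

/-- pullback of modules is linear over global functions of the base -/
theorem pullback_map_mulHom (N : S.Modules) (g : Coh.Γtop S) :
    (Scheme.Modules.pullback f).map (mulHom N g) =
      mulHom ((Scheme.Modules.pullback f).obj N) (pullFn f g) :=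
  map_central_of_adjunction (Scheme.Modules.pullbackPushforwardAdjunction f) (mulNat g)
    (mulNat (pullFn f g)) (fun P => push_map_mulHom f P g) N

end Pullback

section Tensor

open Groth.Agent.Lib.OXModTensor Groth.Agent.Lib.OXModTensorW CohB1

variable {X : Scheme.{u}}

/-- the restriction of a global function to `W`, typed in the ring of sections of `PMod X` -/
noncomputable abbrev rW (r : Coh.Γtop X) (W : (TopologicalSpace.Opens X)ᵒᵖ) :
    ((X.sheaf.obj ⋙ forget₂ CommRingCat RingCat.{u}).obj W : Type u) :=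
  Coh.resTop X W r

theorem map_rW (r : Coh.Γtop X) {W V : (TopologicalSpace.Opens X)ᵒᵖ} (f : W ⟶ V) :
    ((X.sheaf.obj ⋙ forget₂ CommRingCat RingCat.{u}).map f).hom (rW r W) = rW r V :=
  Coh.resTop_comp W V f r

/-- multiplication by a global function on a presheaf of modules -/
noncomputable def mulP (P : PMod X) (r : Coh.Γtop X) : P ⟶ P where
  app W := rW r W • 𝟙 (P.obj W)
  naturality {W V} f := by
    ext x
    change rW r V • P.map f x = P.map f (rW r W • x)
    rw [PresheafOfModules.map_smul, map_rW]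

theorem mulP_app_apply (P : PMod X) (r : Coh.Γtop X) (W : (TopologicalSpace.Opens X)ᵒᵖ)
    (x : P.obj W) : (mulP P r).app W x = rW r W • x := rfl

theorem mulP_naturality {P Q : PMod X} (φ : P ⟶ Q) (r : Coh.Γtop X) :
    mulP P r ≫ φ = φ ≫ mulP Q r := by
  ext W x
  change φ.app W (rW r W • x) = rW r W • φ.app W x
  exact (φ.app W).hom.map_smul _ x

/-- multiplication by a global function as an endomorphism of the identity functor of presheaves of
modules -/
noncomputable def mulPNat (r : Coh.Γtop X) : 𝟭 (PMod X) ⟶ 𝟭 (PMod X) where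
  app P := mulP P r
  naturality _ _ φ := (mulP_naturality φ r).symm

theorem fg_map_mulHom (N : X.Modules) (r : Coh.Γtop X) :
    (fg X).map (mulHom N r) = mulP ((fg X).obj N) r := by
  ext W x
  change (Coh.smulAb N r).hom.app W x = rW r W • x
  rw [Coh.smulAb_app]
  rfl

theorem sh_map_mulP (Q : PMod X) (r : Coh.Γtop X) :
    (sh X).map (mulP Q r) = mulHom ((sh X).obj Q) r :=
  map_central_of_adjunction (adj (X := X)) (mulPNat r) (mulNat r) (fun N => fg_map_mulHom N r) Q

theorem mulP_whiskerRight (P Q : PMod X) (r : Coh.Γtop X) :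
    mulP P r ▷ Q = mulP (P ⊗ Q) r := by
  ext1 W
  change (rW r W • 𝟙 (P.obj W)) ▷ Q.obj W = rW r W • 𝟙 (P.obj W ⊗ Q.obj W)
  rw [MonoidalLinear.smul_whiskerRight, id_whiskerRight]

/-- `- ⊗ F` is linear over global functions -/
theorem tensorRightMod_map_mulHom (F N : X.Modules) (r : Coh.Γtop X) :
    (DCoh.tensorRightMod F).map (mulHom N r) = mulHom ((DCoh.tensorRightMod F).obj N) r := by
  change (sh X).map ((fg X).map (mulHom N r) ▷ toPMod F) = _
  rw [fg_map_mulHom, mulP_whiskerRight, sh_map_mulP]
  rfl

end Tensor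

section Tilde

variable (R : CommRingCat.{u})

/-- multiplication by `a`, as an endomorphism of the identity functor of `ModuleCat R` -/
noncomputable def smulNat (a : R) : 𝟭 (ModuleCat.{u} R) ⟶ 𝟭 (ModuleCat.{u} R) where
  app M := a • 𝟙 M
  naturality M N φ := by
    simp only [Functor.id_obj, Functor.id_map, Linear.comp_smul, Linear.smul_comp, Category.comp_id,
      Category.id_comp]

theorem Γ_map_mulHom (P : (Spec (.of R)).Modules) (a : R) :
    moduleSpecΓFunctor.map (mulHom P ((Scheme.ΓSpecIso R).inv.hom a)) =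
      a • 𝟙 (moduleSpecΓFunctor.obj P) := by
  ext x
  change (Coh.smulAb P ((Scheme.ΓSpecIso R).inv.hom a)).hom.app (op ⊤) x = _
  rw [Coh.smulAb_app]
  have h : ∀ t : Coh.Γtop (Spec (CommRingCat.of ↑R)),
      Coh.resTop (Spec (CommRingCat.of ↑R)) (op ⊤) t = t := by
    intro t
    change ((Spec (CommRingCat.of ↑R)).ringCatSheaf.obj.map (𝟙 (op ⊤))).hom t = t
    rw [(Spec (CommRingCat.of ↑R)).ringCatSheaf.obj.map_id]
    rfl
  rw [h]
  rfl

/-- `tilde` is linear: it sends multiplication by `a` to multiplication by the global function `a` -/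
theorem tilde_map_smul (M : ModuleCat.{u} R) (a : R) :
    (tilde.functor R).map (a • 𝟙 M) =
      mulHom ((tilde.functor R).obj M) ((Scheme.ΓSpecIso R).inv.hom a) :=
  map_central_of_adjunction (tilde.adjunction (R := R)) (smulNat R a)
    (mulNat ((Scheme.ΓSpecIso R).inv.hom a)) (fun P => Γ_map_mulHom R P a) M

end Tilde

section Main

variable (A : Type u) [CommRing A] {X : Scheme.{u}} [X.Over (Spec (CommRingCat.of A))] (F : X.Modules)

theorem smulModΓ_eq_mulHom (M : X.Modules) (r : Coh.Γtop X) : Formal.smulModΓ M r = mulHom M r := rfl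

/-- **`M ↦ F ⊗_A M` is `A`-linear**: it sends multiplication by `a` on `M` to multiplication by `a` on the
`O_X`-module `F ⊗_A M`. -/
theorem tensorAFunctor_map_smul (M : ModuleCat.{u} A) (a : A) :
    (CohIII.tensorAFunctor A F).map (a • 𝟙 M) =
      Formal.smulMod A ((CohIII.tensorAFunctor A F).obj M) a := by
  change (DCoh.tensorRightMod F).map ((Scheme.Modules.pullback (X ↘ Spec (CommRingCat.of A))).map
    ((tilde.functor (CommRingCat.of A)).map (a • 𝟙 M))) = _
  rw [tilde_map_smul (CommRingCat.of A) M a, pullback_map_mulHom, tensorRightMod_map_mulHom]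
  rfl

end Main

end Groth.Agent.Lib.TensorALinH44
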