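import Groth.Agent.Lib.H90RpushCoh
import Groth.Agent.Lib.FibreModel21
import Groth.Agent.Lib.TensorALinH44

/-!
# K2c: sections of `R^q f_* M` over an affine base and the model `L` (helper21)

* `nonempty_sections_linearEquiv` : `H^q(X, M) ≃ₗ[Γ(S,⊤)] Γ(S, R^q f_* M)` for `S` affine (extracted from helper90's
  `H90RpushCoh.finite_sections_Rpush_of_isAffine`).
* `nonempty_HH_linearEquiv_TFun` : `H^p(X, F) ≃ₗ[A] T^p_L(A)` from the `EndEquiv` property of the model.
-/

set_option autoImplicit false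
set_option linter.style.haveILetI false
universe u

open CategoryTheory CategoryTheory.Limits AlgebraicGeometry TopologicalSpace Opposite CohIII

namespace Groth.Agent.Lib.FibreSections21

open Groth.Agent.Lib.RpushSections Groth.Agent.Lib.CohLoc Groth.Agent.Lib.H90RpushCoh
  Groth.Agent.Lib.EndEquivH44

section Sections

variable {X S : Scheme.{u}} (f : X ⟶ S)

theorem nonempty_sections_linearEquiv [HasInjectiveResolutions X.Modules] [QuasiCompact f]
    [QuasiSeparated f] [IsAffine S] (M : X.Modules) (hM : Coh.IsQCoh M) (q : ℕ) :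
    letI : X.Over (Spec (CommRingCat.of Γ(S, ⊤))) := ⟨f ≫ S.isoSpec.hom⟩
    Nonempty (Coh.HH X M q ≃ₗ[Γ(S, ⊤)] Γ((Coh.Rpush f q).obj M, ⊤)) := by
  letI : X.Over (Spec (CommRingCat.of Γ(S, ⊤))) := ⟨f ≫ S.isoSpec.hom⟩
  obtain ⟨Θ, -, hΘ⟩ := exists_sections_equiv f M q hM
  have htop : (⊤ : Opens S) ∈ Set.range (S.basicOpen : Γ(S, ⊤) → Opens S) :=
    ⟨1, S.basicOpen_one⟩
  let θ : Γ((Coh.Rpush f q).obj M, ⊤) ≃+ CohTop.HU (Coh.toAb M) q (f ⁻¹ᵁ ⊤) := Θ ⊤ htop
  let E : Coh.HH X M q ≃+ CohTop.HU (Coh.toAb M) q (f ⁻¹ᵁ ⊤) :=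
    Groth.Agent.Lib.HBridge.HEquivHUTop (Coh.toAb M) q
  exact ⟨{ E.trans θ.symm with
      map_smul' := fun b x => by
        change θ.symm (E (b • x)) = b • θ.symm (E x)
        refine (AddEquiv.symm_apply_eq θ).mpr ?_
        have h1 : E (b • x) = gact M (CohLocPush.pullFn f b) q ⊤ (E x) := by
          rw [← toGlobal_eq_pullFn f b]
          exact Groth.Agent.Lib.CechLinear9.HEquivHUTop_map (Coh.smulAb M _) q x
        have h2 : θ ((Coh.smulAb ((Coh.Rpush f q).obj M) b).hom.app (op ⊤) (θ.symm (E x))) =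
            gact M (CohLocPush.pullFn f b) q (f ⁻¹ᵁ ⊤) (θ (θ.symm (E x))) :=
          hΘ ⊤ htop b (θ.symm (E x))
        rw [AddEquiv.apply_symm_apply] at h2
        refine h1.trans (h2.symm.trans ?_)
        congr 1
        exact smulAb_app_top _ b _ }⟩

end Sections

section Model

variable (A : Type u) [CommRing A] {X : Scheme.{u}} [X.Over (Spec (CommRingCat.of A))]
  (F : X.Modules)

theorem toSheaf_map_smulMod (N : X.Modules) (a : A) :
    (SheafOfModules.toSheaf X.ringCatSheaf).map (Formal.smulMod A N a) =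
      Coh.smulAb N (Coh.toGlobal (X ↘ Spec (CommRingCat.of A)) a) := rfl

/-- `H^p(X, F) ≃ₗ[A] T^p_L(A)` -/
theorem nonempty_HH_linearEquiv_TFun {ι : Type} {c : ComplexShape ι}
    (L : HomologicalComplex (ModuleCat.{u} A) c) (p : ℕ) (i : ι)
    (h : EndEquiv (tensorAFunctor A F ⋙ HAb X p)
      (TFun L i ⋙ forget₂ (ModuleCat.{u} A) AddCommGrpCat.{u})) :
    Nonempty (Coh.HH X F p ≃ₗ[A] (TFun L i).obj (ModuleCat.of A A)) := by
  obtain ⟨e, he⟩ := h (ModuleCat.of A A)
  let e' : Coh.HH X ((tensorAFunctor A F).obj (ModuleCat.of A A)) p ≃+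
      (TFun L i).obj (ModuleCat.of A A) := e
  let σ := Groth.Agent.Lib.BaseChangeCohH44.HHlinEquiv A
    (Groth.Agent.Lib.TensorAModel2H44.tensorASelfIso A F) p
  refine ⟨σ.symm.trans { e' with map_smul' := fun a x => ?_ }⟩
  have h1 : e' (((tensorAFunctor A F ⋙ HAb X p).map (a • 𝟙 (ModuleCat.of A A))).hom x) =
      ((TFun L i).map (a • 𝟙 (ModuleCat.of A A))).hom (e' x) :=
    he (a • 𝟙 (ModuleCat.of A A)) x
  have h2 : ((tensorAFunctor A F ⋙ HAb X p).map (a • 𝟙 (ModuleCat.of A A))).hom x = a • x := by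
    change ((HAb X p).map ((tensorAFunctor A F).map (a • 𝟙 (ModuleCat.of A A)))).hom x = _
    rw [Groth.Agent.Lib.TensorALinH44.tensorAFunctor_map_smul]
    rfl
  have h3 : ((TFun L i).map (a • 𝟙 (ModuleCat.of A A))).hom (e' x) = a • e' x := by
    rw [Functor.map_smul, CategoryTheory.Functor.map_id]
    rfl
  rw [h2, h3] at h1
  exact h1

end Model

end Groth.Agent.Lib.FibreSections21
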