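import Groth.Agent.Lib.FibreOpen21
import Groth.Agent.Lib.FibreSections21
import Groth.Agent.Lib.QCohStalk

/-!
# K2c: the stalks of `R^p f_* F` as localizations of `T^p_L(A)` (helper21)

`f : X ⟶ Y` proper, `Y` locally Noetherian, `F` coherent, `V ⊆ Y` affine open, `A = Γ(↑V, ⊤) = Γ(Y, V.ι ''ᵁ ⊤)`, and `L` a
complex over `A` with the `EndEquiv` property for `F|_{f⁻¹V}`.  For `z ∈ V` there is an `A`-linear map
`T^p_L(A) ⟶ (R^p f_* F)_z` which is the localization at the prime `x_z` of `z`.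
-/

set_option autoImplicit false
set_option linter.style.haveILetI false
universe u

open CategoryTheory CategoryTheory.Limits AlgebraicGeometry Opposite CohIII

namespace Groth.Agent.Lib.FibreStalk21

open Groth.Agent.Lib.FibreOpen21 Groth.Agent.Lib.EndEquivH44 Groth.Agent.Lib.QCohStalk
  Scheme.Modules

section Gen

variable {X : Scheme.{u}}

/-- an isomorphism of modules induces linear equivalences on sections -/
noncomputable def appLinearEquiv {M N : X.Modules} (e : M ≅ N) (U : X.Opens) :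
    Γ(M, U) ≃ₗ[Γ(X, U)] Γ(N, U) where
  toFun := e.hom.app U
  invFun := e.inv.app U
  map_add' := map_add _
  map_smul' r x := Hom.app_smul e.hom r x
  left_inv x := by
    change (e.hom.app U ≫ e.inv.app U) x = x
    rw [← Hom.comp_app, e.hom_inv_id]
    rfl
  right_inv x := by
    change (e.inv.app U ≫ e.hom.app U) x = x
    rw [← Hom.comp_app, e.inv_hom_id]
    rfl

end Gen

variable {X Y : Scheme.{u}} (f : X ⟶ Y) {V : Y.Opens}

/-- `Γ(G, V.ι ''ᵁ ⊤)`, regarded as an `A`-module (`A = Γ(↑V, ⊤)` is definitionally `Γ(Y, V.ι ''ᵁ ⊤)`) -/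
abbrev GW (G : Y.Modules) (V : Y.Opens) : Type u := Γ(G, V.ι ''ᵁ ⊤)

@[reducible] noncomputable def moduleGW (G : Y.Modules) : Module (AV V) (GW G V) :=
  inferInstanceAs (Module Γ(Y, V.ι ''ᵁ ⊤) Γ(G, V.ι ''ᵁ ⊤))

attribute [local instance] moduleGW

/-- sections of a restriction to an open subscheme -/
noncomputable def restrictTopLinearEquiv (G : Y.Modules) :
    Γ(G.restrict V.ι, ⊤) ≃ₗ[AV V] GW G V :=
  { toFun := fun x => x
    invFun := fun x => x
    map_add' := fun _ _ => rfl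
    map_smul' := fun r x => by
      have := smul_restrictAppIso_hom_apply V.ι G ⊤ r x
      rw [Scheme.Opens.ι_appIso] at this
      exact this
    left_inv := fun _ => rfl
    right_inv := fun _ => rfl }

/-- the stalk of a module on `Y` at `z ∈ V`, as an `A`-module -/
@[reducible] noncomputable def moduleStalkA (G : Y.Modules) (z : Y) (hz : z ∈ V.ι ''ᵁ ⊤) :
    Module (AV V) (G.presheaf.stalk z) :=
  moduleSectionStalk G (U := V.ι ''ᵁ ⊤) ⟨z, hz⟩

/-- **The stalk of `R^p f_* F` at `z ∈ V` is the localization of `T^p_L(A)` at the prime of `z`.** -/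
theorem exists_isLocalizedModule_stalk [IsProper f] [IsLocallyNoetherian Y]
    [HasInjectiveResolutions X.Modules] (F : X.Modules) (hF : Coh.IsCoh F) (hV : IsAffineOpen V)
    (L : CochainComplex (ModuleCat.{u} (AV V)) ℤ) (p : ℕ)
    (hL : letI := overV f hV
      EndEquiv (tensorAFunctor (AV V) (F.restrict (f ⁻¹ᵁ V).ι) ⋙ HAb (f ⁻¹ᵁ V).toScheme p)
        (TFun L (p : ℤ) ⋙ forget₂ (ModuleCat.{u} (AV V)) AddCommGrpCat.{u}))
    (z : Y) (hz : z ∈ V.ι ''ᵁ ⊤) :
    letI := moduleStalkA ((Coh.Rpush f p).obj F) z hz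
    ∃ ℓ : (TFun L (p : ℤ)).obj (ModuleCat.of (AV V) (AV V)) →ₗ[AV V]
        ((Coh.Rpush f p).obj F).presheaf.stalk z,
      IsLocalizedModule (xV hV z hz).asIdeal.primeCompl ℓ := by
  letI := overV f hV
  letI := moduleStalkA ((Coh.Rpush f p).obj F) z hz
  haveI : IsAffine V.toScheme := hV
  haveI := Groth.Agent.Lib.RpushRestrict.hasInjectiveResolutions (f ⁻¹ᵁ V).toScheme
  have hF' : Coh.IsCoh (F.restrict (f ⁻¹ᵁ V).ι) :=
    Groth.Agent.Lib.H90CohRestrict.isCoh_restrict _ F hF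
  obtain ⟨e1⟩ := Groth.Agent.Lib.FibreSections21.nonempty_HH_linearEquiv_TFun (AV V)
    (F.restrict (f ⁻¹ᵁ V).ι) L p (p : ℤ) hL
  obtain ⟨e2⟩ := Groth.Agent.Lib.FibreSections21.nonempty_sections_linearEquiv (f ∣_ V)
    (F.restrict (f ⁻¹ᵁ V).ι) hF'.1 p
  obtain ⟨ea⟩ := Groth.Agent.Lib.RpushRestrict.nonempty_iso f V F p
  let e3 := appLinearEquiv ea ⊤
  let e4 := restrictTopLinearEquiv (V := V) ((Coh.Rpush f p).obj F)
  let E : (TFun L (p : ℤ)).obj (ModuleCat.of (AV V) (AV V)) ≃ₗ[AV V]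
      GW ((Coh.Rpush f p).obj F) V := e1.symm.trans (e2.trans (e3.symm.trans e4))
  haveI : ((Coh.Rpush f p).obj F).IsQuasicoherent :=
    (Groth.Agent.Lib.H90RpushCoh.isCoh_Rpush f F hF p).1
  have hloc := isLocalizedModule_germ ((Coh.Rpush f p).obj F) (isAffineOpen_W hV) ⟨z, hz⟩
  let g : GW ((Coh.Rpush f p).obj F) V →ₗ[AV V] ((Coh.Rpush f p).obj F).presheaf.stalk z :=
    germLinear ((Coh.Rpush f p).obj F) (U := V.ι ''ᵁ ⊤) ⟨z, hz⟩
  haveI : IsLocalizedModule (xV hV z hz).asIdeal.primeCompl g := hloc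
  exact ⟨g ∘ₗ E.toLinearMap, IsLocalizedModule.of_linearEquiv_right _ g E⟩

end Groth.Agent.Lib.FibreStalk21
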