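import Groth.Agent.Lib.FibreOpenGen21
import Groth.Agent.Lib.FibreStalk21
import Groth.Agent.Lib.RpushQCoh
import Groth.Agent.Lib.QCohLocFree81
import Groth.Agent.Lib.CopcTransfer21
import Groth.Agent.Lib.LocalVanish21

/-!
# K2c over an arbitrary base: the sections of `R^p f_* F` over an affine open (helper21)

`f : X ⟶ Y` proper and locally of finite presentation over an ARBITRARY base, `F` of finite presentation and flat over
`Y`, `V ⊆ Y` an affine open with `A = Γ(V, O_Y)`.  There are a Noetherian subring `A₀ ⊆ A` and a bounded complex `L₀` of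
finite free `A₀`-modules with

* `dim H^p(X_z, F_z) = dRank L₀ p (image of z in Spec A₀)` for `z ∈ V`, and
* `Γ(V, R^p f_* F) ≃ₗ[A] H^p(A ⊗ L₀)`.

Consequences (with `CopcTransfer21`): vanishing of `R^p f_* F` over `V` when the fibre cohomology in degree `p` vanishes
on `V`; finite local freeness of `R^p f_* F` over `V` when the fibre cohomology in degrees `p ± 1` vanishes on `V`.
-/

set_option autoImplicit false
set_option linter.style.haveILetI false
universe u

open CategoryTheory CategoryTheory.Limits AlgebraicGeometry Opposite CohIII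

namespace Groth.Agent.Lib.FibreChartGen21

open Groth.Agent.Lib.FibreOpen21 Groth.Agent.Lib.FibreDict21 Groth.Agent.Lib.FibreStalk21
  Groth.Agent.Lib.FibreAlg21 Groth.Agent.Lib.QCohStalk Groth.Agent.Lib.TFunCompare Scheme.Modules

section Alg

variable {A : Type u} [CommRing A]

/-- restriction of scalars along the identity -/
noncomputable def rbSelfEquiv (N : ModuleCat.{u} A) : N ≃ₗ[A] (RB (A := A) A).obj N where
  toFun := fun n => n
  invFun := fun n => n
  map_add' := fun _ _ => rfl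
  map_smul' := fun _ _ => rfl
  left_inv := fun _ => rfl
  right_inv := fun _ => rfl

end Alg

variable {X Y : Scheme.{u}} (f : X ⟶ Y) {V : Y.Opens}

attribute [local instance] moduleGW

set_option maxHeartbeats 1000000 in
/-- **The chart over an affine open of an arbitrary base.** -/
theorem exists_chart [IsProper f] [LocallyOfFinitePresentation f]
    [HasInjectiveResolutions X.Modules] (F : X.Modules)
    (hF : CohB1.IsFP F) (hfl : FlatMod.IsFlatOver f F) (hV : IsAffineOpen V) :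
    ∃ (A₀ : Subalgebra ℤ (AV V)) (_ : IsNoetherianRing ↥A₀)
      (L₀ : CochainComplex (ModuleCat.{u} ↥A₀) ℤ),
      (∀ i, Module.Finite ↥A₀ (L₀.X i) ∧ Module.Free ↥A₀ (L₀.X i)) ∧
      (∃ b : ℤ, ∀ i, b < i → IsZero (L₀.X i)) ∧
      (∀ p : ℤ, p < 0 → ∀ M : ModuleCat.{u} ↥A₀, IsZero ((TFun L₀ p).obj M)) ∧
      (∀ (z : Y) (hz : z ∈ V.ι ''ᵁ ⊤) (p : ℕ),
        CohIII.fiberRank f F p z =
          dRank L₀ (p : ℤ) (PrimeSpectrum.comap (algebraMap ↥A₀ (AV V)) (xV hV z hz))) ∧
      ∀ p : ℕ, Nonempty (GW ((Coh.Rpush f p).obj F) V ≃ₗ[AV V]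
        NN (bcCx (algebraMap ↥A₀ (AV V)) L₀) (p : ℤ)) := by
  letI := overV f hV
  haveI : IsAffine V.toScheme := hV
  haveI := Groth.Agent.Lib.RpushRestrict.hasInjectiveResolutions (f ⁻¹ᵁ V).toScheme
  obtain ⟨A₀, -, hN, L₀, h1, h2, h4, hBC, h5⟩ :=
    Groth.Agent.Lib.FibreOpenGen21.exists_model_V_gen f F hF hfl hV
  refine ⟨A₀, hN, L₀, h1, h2, h4, h5, fun p => ?_⟩
  have hqc : Coh.IsQCoh (F.restrict (f ⁻¹ᵁ V).ι) := by
    haveI : F.IsQuasicoherent := (Groth.Agent.Lib.ConsLocusMod.isCoh_of_isFP F hF).1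
    change (F.restrict (f ⁻¹ᵁ V).ι).IsQuasicoherent
    infer_instance
  -- base change along the identity of `A`
  have hpb : IsPullback (𝟙 (f ⁻¹ᵁ V).toScheme)
      ((f ⁻¹ᵁ V).toScheme ↘ Spec (CommRingCat.of (AV V)))
      ((f ⁻¹ᵁ V).toScheme ↘ Spec (CommRingCat.of (AV V)))
      (Spec.map (CommRingCat.ofHom (algebraMap (AV V) (AV V)))) := by
    have h : Spec.map (CommRingCat.ofHom (algebraMap (AV V) (AV V))) = 𝟙 _ := Spec.map_id _
    rw [h]
    exact IsPullback.id_horiz _
  obtain ⟨eBC⟩ := hBC (AV V) (f ⁻¹ᵁ V).toScheme (𝟙 _) hpb p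
  let e0 := Groth.Agent.Lib.BaseChangeCohH44.HHlinEquiv (AV V)
    ((Scheme.Modules.pullbackId (f ⁻¹ᵁ V).toScheme).app (F.restrict (f ⁻¹ᵁ V).ι)) p
  obtain ⟨e2⟩ := Groth.Agent.Lib.FibreSections21.nonempty_sections_linearEquiv (f ∣_ V)
    (F.restrict (f ⁻¹ᵁ V).ι) hqc p
  obtain ⟨ea⟩ := Groth.Agent.Lib.RpushRestrict.nonempty_iso f V F p
  let e3 := appLinearEquiv ea ⊤
  let e4 := restrictTopLinearEquiv (V := V) ((Coh.Rpush f p).obj F)
  let e5 := rbSelfEquiv ((bcCx (algebraMap (AV V) (AV V))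
    (bcCx (algebraMap ↥A₀ (AV V)) L₀)).homology (p : ℤ))
  let e6 := (homologyCompare (AV V) (bcCx (algebraMap ↥A₀ (AV V)) L₀) (p : ℤ)).toLinearEquiv
  exact ⟨e4.symm ≪≫ₗ e3 ≪≫ₗ e2.symm ≪≫ₗ e0.symm ≪≫ₗ eBC ≪≫ₗ e5 ≪≫ₗ e6⟩

section Geo

variable (G : Y.Modules) [G.IsQuasicoherent]

/-- a quasi-coherent module with no sections over the affine open `V` restricts to zero on `V` -/
theorem isZero_restrict_of_subsingleton (hV : IsAffineOpen V) (h : Subsingleton (GW G V)) :
    IsZero (G.restrict V.ι) := by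
  apply Groth.Agent.Lib.ModPullback.isZero_of_forall_subsingleton_stalk
  intro y
  rw [Groth.Agent.Lib.ModStalk.subsingleton_stalk_restrict_iff]
  have hy : V.ι y ∈ V.ι ''ᵁ ⊤ := ⟨y, trivial, rfl⟩
  letI := moduleSectionStalk G (U := V.ι ''ᵁ ⊤) ⟨V.ι y, hy⟩
  haveI := isLocalizedModule_germ G (isAffineOpen_W hV) ⟨V.ι y, hy⟩
  exact IsLocalizedModule.subsingleton_of_subsingleton
    ((isAffineOpen_W hV).primeIdealOf ⟨V.ι y, hy⟩).asIdeal.primeCompl
    (germLinear G (U := V.ι ''ᵁ ⊤) ⟨V.ι y, hy⟩)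

/-- a quasi-coherent module with finite projective sections over the affine open `V` is finite locally free on `V` -/
theorem isFinLocFree_restrict_of_projective (hV : IsAffineOpen V)
    (hf : Module.Finite (AV V) (GW G V)) (hp : Module.Projective (AV V) (GW G V)) :
    FlatMod.IsFinLocFree (G.restrict V.ι) := by
  haveI : IsAffine V.toScheme := hV
  haveI : (G.restrict V.ι).IsQuasicoherent := inferInstance
  refine Groth.Agent.Lib.QCohLocFree81.isFinLocFree_of_affine_cover_projective (G.restrict V.ι)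
    (fun _ : PUnit.{u + 1} => (⊤ : V.toScheme.Opens)) (by simp)
    (fun _ => isAffineOpen_top V.toScheme) (fun _ => ?_) (fun _ => ?_)
  · exact Module.Finite.equiv (restrictTopLinearEquiv (V := V) G).symm
  · exact Module.Projective.of_equiv (restrictTopLinearEquiv (V := V) G).symm

end Geo

section Main

variable [IsProper f] [LocallyOfFinitePresentation f] [HasInjectiveResolutions X.Modules]
  (F : X.Modules) (hF : CohB1.IsFP F) (hfl : FlatMod.IsFlatOver f F)
include hF hfl

omit [LocallyOfFinitePresentation f] hfl in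
theorem isQuasicoherent_Rpush (p : ℕ) : ((Coh.Rpush f p).obj F).IsQuasicoherent :=
  Groth.Agent.Lib.RpushQCoh.isQuasicoherent_Rpush f F p
    (Groth.Agent.Lib.ConsLocusMod.isCoh_of_isFP F hF).1

/-- **Vanishing over an affine open**: if `H^p(X_z, F_z) = 0` for all `z ∈ V` then `Γ(V, R^p f_* F) = 0`. -/
theorem subsingleton_sections (hV : IsAffineOpen V) (p : ℕ)
    (h : ∀ z ∈ V, CohIII.fiberRank f F p z = 0) :
    Subsingleton (GW ((Coh.Rpush f p).obj F) V) := by
  obtain ⟨A₀, hN, L₀, h1, -, -, h5, h6⟩ := exists_chart f F hF hfl hV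
  obtain ⟨E⟩ := h6 p
  have hx : ∀ x : PrimeSpectrum (AV V),
      dRank L₀ (p : ℤ) (PrimeSpectrum.comap (algebraMap ↥A₀ (AV V)) x) = 0 := by
    intro x
    have hm := Groth.Agent.Lib.FibreOpenGen21.fromSpec_mem hV x
    have := h5 _ hm p
    rw [Groth.Agent.Lib.FibreOpenGen21.xV_fromSpec hV x] at this
    rw [← this]
    apply h
    exact (le_of_eq V.ι_image_top : V.ι ''ᵁ ⊤ ≤ V) hm
  haveI := Groth.Agent.Lib.CopcTransfer21.vanish (AV V) L₀ h1 (p : ℤ) hx
  exact E.toEquiv.subsingleton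

/-- **Vanishing of `R^p f_* F` over an affine open.** -/
theorem isZero_restrict (hV : IsAffineOpen V) (p : ℕ)
    (h : ∀ z ∈ V, CohIII.fiberRank f F p z = 0) :
    IsZero (((Coh.Rpush f p).obj F).restrict V.ι) := by
  haveI := isQuasicoherent_Rpush f F hF p
  exact isZero_restrict_of_subsingleton _ hV (subsingleton_sections f F hF hfl hV p h)

/-- **Concentration over an affine open**: if `H^{p+1}(X_z, F_z) = 0` for all `z ∈ V`, and `p = 0` or
`H^{p-1}(X_z, F_z) = 0` for all `z ∈ V`, then `Γ(V, R^p f_* F)` is finite projective. -/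
theorem finite_projective_sections (hV : IsAffineOpen V) (p : ℕ)
    (hup : ∀ z ∈ V, CohIII.fiberRank f F (p + 1) z = 0)
    (hdown : p = 0 ∨ ∀ z ∈ V, CohIII.fiberRank f F (p - 1) z = 0) :
    Module.Finite (AV V) (GW ((Coh.Rpush f p).obj F) V) ∧
      Module.Projective (AV V) (GW ((Coh.Rpush f p).obj F) V) := by
  obtain ⟨A₀, hN, L₀, h1, -, h4, h5, h6⟩ := exists_chart f F hF hfl hV
  obtain ⟨E⟩ := h6 p
  have key : ∀ (q : ℕ), (∀ z ∈ V, CohIII.fiberRank f F q z = 0) →
      ∀ x : PrimeSpectrum (AV V),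
        dRank L₀ (q : ℤ) (PrimeSpectrum.comap (algebraMap ↥A₀ (AV V)) x) = 0 := by
    intro q h x
    have hm := Groth.Agent.Lib.FibreOpenGen21.fromSpec_mem hV x
    have := h5 _ hm q
    rw [Groth.Agent.Lib.FibreOpenGen21.xV_fromSpec hV x] at this
    rw [← this]
    apply h
    exact (le_of_eq V.ι_image_top : V.ι ''ᵁ ⊤ ≤ V) hm
  have hU : ∀ x : PrimeSpectrum (AV V),
      dRank L₀ ((p : ℤ) + 1) (PrimeSpectrum.comap (algebraMap ↥A₀ (AV V)) x) = 0 := by
    intro x
    have := key (p + 1) hup x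
    push_cast at this
    exact this
  have hD : ∀ x : PrimeSpectrum (AV V),
      dRank L₀ ((p : ℤ) - 1) (PrimeSpectrum.comap (algebraMap ↥A₀ (AV V)) x) = 0 := by
    intro x
    rcases hdown with h0 | hd
    · subst h0
      -- `T^{-1} = 0`
      have hz := h4 ((0 : ℕ) - 1 : ℤ) (by norm_num)
        (ModuleCat.of ↥A₀ (PrimeSpectrum.comap (algebraMap ↥A₀ (AV V)) x).asIdeal.ResidueField)
      have h0' : IsZero ((bcCx (algebraMap ↥A₀ (PrimeSpectrum.comap (algebraMap ↥A₀ (AV V))
          x).asIdeal.ResidueField) L₀).homology (((0 : ℕ) : ℤ) - 1)) :=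
        (isZero_RB_iff (A := ↥A₀) _ _).mp (hz.of_iso (homologyCompare _ L₀ _))
      have : Subsingleton ((bcCx (algebraMap ↥A₀ (PrimeSpectrum.comap (algebraMap ↥A₀ (AV V))
          x).asIdeal.ResidueField) L₀).homology (((0 : ℕ) : ℤ) - 1)) :=
        ModuleCat.subsingleton_of_isZero h0'
      unfold dRank
      exact Module.finrank_zero_of_subsingleton
    · by_cases hp0 : p = 0
      · subst hp0
        have hz := h4 ((0 : ℕ) - 1 : ℤ) (by norm_num)
          (ModuleCat.of ↥A₀ (PrimeSpectrum.comap (algebraMap ↥A₀ (AV V)) x).asIdeal.ResidueField)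
        have h0' : IsZero ((bcCx (algebraMap ↥A₀ (PrimeSpectrum.comap (algebraMap ↥A₀ (AV V))
            x).asIdeal.ResidueField) L₀).homology (((0 : ℕ) : ℤ) - 1)) :=
          (isZero_RB_iff (A := ↥A₀) _ _).mp (hz.of_iso (homologyCompare _ L₀ _))
        have : Subsingleton ((bcCx (algebraMap ↥A₀ (PrimeSpectrum.comap (algebraMap ↥A₀ (AV V))
            x).asIdeal.ResidueField) L₀).homology (((0 : ℕ) : ℤ) - 1)) :=
          ModuleCat.subsingleton_of_isZero h0'
        unfold dRank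
        exact Module.finrank_zero_of_subsingleton
      · have := key (p - 1) hd x
        have hcast : ((p - 1 : ℕ) : ℤ) = (p : ℤ) - 1 := by omega
        rw [hcast] at this
        exact this
  obtain ⟨hf, hpr⟩ := Groth.Agent.Lib.CopcTransfer21.concentrated (AV V) L₀ h1 (p : ℤ) hD hU
  exact ⟨Module.Finite.equiv E.symm, Module.Projective.of_equiv E.symm⟩

/-- **Finite local freeness of `R^p f_* F` over an affine open.** -/
theorem isFinLocFree_restrict (hV : IsAffineOpen V) (p : ℕ)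
    (hup : ∀ z ∈ V, CohIII.fiberRank f F (p + 1) z = 0)
    (hdown : p = 0 ∨ ∀ z ∈ V, CohIII.fiberRank f F (p - 1) z = 0) :
    FlatMod.IsFinLocFree (((Coh.Rpush f p).obj F).restrict V.ι) := by
  haveI := isQuasicoherent_Rpush f F hF p
  obtain ⟨h1, h2⟩ := finite_projective_sections f F hF hfl hV p hup hdown
  exact isFinLocFree_restrict_of_projective _ hV h1 h2

end Main

end Groth.Agent.Lib.FibreChartGen21
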