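import Groth.Agent.Lib.LimDescentImm
import Groth.Agent.Lib.ConsTop2
import Mathlib.AlgebraicGeometry.Morphisms.FinitePresentation
import Mathlib.AlgebraicGeometry.Fiber

/-!
# Constructibility of the locus where the fibre map is surjective / universally injective
(EGA IV 9.6.1 (i), (ii))
-/

set_option autoImplicit false
universe u

open CategoryTheory Limits AlgebraicGeometry Topology

namespace Groth.Agent.Lib.FibreConstructible

open Groth.Agent.Lib.LimDescent

variable {X Y S : Scheme.{u}} (f : X ⟶ Y) (g : Y ⟶ S)

/-- The fibre map `f_s` is surjective iff the fibre of `g` over `s` is contained in the range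
of `f`. -/
theorem surjective_bcMap_iff (s : S) :
    Function.Surjective (bcMap f g (S.fromSpecResidueField s)).base ↔
      g.base ⁻¹' {s} ⊆ Set.range f.base := by
  rw [← Set.range_eq_univ, range_eq_preimage_of_isPullback
    (isPullback_bcMap f g (S.fromSpecResidueField s)), Set.preimage_eq_univ_iff]
  have h1 : Set.range (pullback.fst g (S.fromSpecResidueField s)).base = g.base ⁻¹' {s} := by
    have := Scheme.Pullback.range_fst g (S.fromSpecResidueField s)
    rw [Scheme.range_fromSpecResidueField] at this
    exact this
  rw [h1]

theorem setOf_surjective_bcMap_eq :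
    {s : S | Function.Surjective (bcMap f g (S.fromSpecResidueField s)).base} =
      (g.base '' (Set.range f.base)ᶜ)ᶜ := by
  ext s
  rw [Set.mem_setOf_eq, surjective_bcMap_iff]
  constructor
  · rintro h ⟨y, hy, rfl⟩
    exact hy (h rfl)
  · intro h y hy
    by_contra hy'
    exact h ⟨y, hy', hy⟩

/-- EGA IV 9.6.1 (i): the set of `s` such that `f_s` is surjective is locally constructible. -/
theorem isLocallyConstructible_setOf_surjective
    [LocallyOfFinitePresentation g] [QuasiCompact g]
    [LocallyOfFinitePresentation (f ≫ g)] [QuasiCompact (f ≫ g)] [QuasiSeparated g] :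
    IsLocallyConstructible
      {s : S | Function.Surjective (bcMap f g (S.fromSpecResidueField s)).base} := by
  rw [setOf_surjective_bcMap_eq]
  haveI : LocallyOfFinitePresentation f := Groth.Agent.S12442.result f g
  haveI : QuasiCompact f := QuasiCompact.of_comp f g
  apply Groth.Agent.Lib.ConsTop.isLocallyConstructible_compl
  apply Scheme.Hom.isLocallyConstructible_image g
  apply Groth.Agent.Lib.ConsTop.isLocallyConstructible_compl
  have := Scheme.Hom.isLocallyConstructible_image f IsLocallyConstructible.univ
  rwa [Set.image_univ] at this

end Groth.Agent.Lib.FibreConstructible
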