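/-
helper96: number of points of a fibre of a finite étale cover of a domain over a point with
separably closed residue field equals the degree of the fraction field extension.
-/
import Mathlib

set_option autoImplicit false
universe u

open TensorProduct

namespace Groth.Agent.Lib.FibreDegree96

/-- A finite split algebra over a field has as many primes as its rank. -/
theorem card_primeSpectrum_eq_finrank_of_isFiniteSplit (k R : Type*) [Field k] [CommRing R]
    [Algebra k R] [Algebra.IsFiniteSplit k R] :
    Nat.card (PrimeSpectrum R) = Module.finrank k R := by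
  obtain ⟨n, ⟨e⟩⟩ := Algebra.IsFiniteSplit.nonempty_algEquiv_fun k R
  rw [e.toLinearEquiv.finrank_eq, Module.finrank_fin_fun]
  have e1 : PrimeSpectrum R ≃ PrimeSpectrum (Fin n → k) :=
    (PrimeSpectrum.comapEquiv e.toRingEquiv).toEquiv
  have e2 : (Σ _ : Fin n, PrimeSpectrum k) ≃ PrimeSpectrum (Fin n → k) :=
    Equiv.ofBijective _ (PrimeSpectrum.sigmaToPi_bijective (fun _ : Fin n => k))
  rw [Nat.card_congr e1, ← Nat.card_congr e2, Nat.card_sigma]
  simp

/-- Ring core: for a finite étale algebra `B` over a domain `A`, the fibre of `Spec B → Spec A`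
over a point with separably closed residue field has `[L : K]` points, `K`, `L` the fraction
fields. -/
theorem card_preimage_eq_finrank (A K B L : Type u) [CommRing A] [IsDomain A] [CommRing K]
    [CommRing B] [CommRing L] [Algebra A B] [Module K L] [Algebra A K] [Algebra B L] [Algebra A L]
    [IsScalarTower A K L] [IsScalarTower A B L] [IsFractionRing A K] [IsFractionRing B L]
    [Module.Finite A B] [Algebra.Etale A B] (p : PrimeSpectrum A)
    [IsSepClosed p.asIdeal.ResidueField] :
    Nat.card (PrimeSpectrum.comap (algebraMap A B) ⁻¹' {p}) = Module.finrank K L := by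
  rw [IsFractionRing.finrank_eq A K B L, Nat.card_congr (PrimeSpectrum.preimageEquivFiber A B p)]
  have h1 : Algebra.IsFiniteSplit p.asIdeal.ResidueField (p.asIdeal.Fiber B) := by
    unfold Ideal.Fiber
    infer_instance
  rw [card_primeSpectrum_eq_finrank_of_isFiniteSplit p.asIdeal.ResidueField (p.asIdeal.Fiber B)]
  exact Ideal.finrank_fiber_eq_finrank p.asIdeal

end Groth.Agent.Lib.FibreDegree96
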