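/-
helper96: fibres of finite étale morphisms of integral schemes over points with separably closed
residue field have [K(Y):K(X)] points.
-/
import Mathlib
import Groth.Agent.Lib.FibreDegree96A

set_option autoImplicit false
set_option linter.style.haveILetI false
universe u

open CategoryTheory AlgebraicGeometry

namespace Groth.Agent.Lib.FibreDegree96

/-- Points of the fibre of `π` over `p ∈ U` (`U`, `π⁻¹ U` affine) are the primes of `Γ(Y, π⁻¹ U)`
over the prime of `p`. -/
theorem card_fibre_eq_card_preimage {X Y : Scheme.{u}} (π : Y ⟶ X) (U : X.Opens)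
    (hU : IsAffineOpen U) (hV : IsAffineOpen (π ⁻¹ᵁ U)) (p : X) (hp : p ∈ U) :
    Nat.card {q : Y // π q = p} =
      Nat.card (PrimeSpectrum.comap (π.app U).hom ⁻¹' {hU.primeIdealOf ⟨p, hp⟩}) := by
  symm
  have hcomm : Spec.map (π.app U) ≫ hU.fromSpec = hV.fromSpec ≫ π := by
    rw [Scheme.Hom.app_eq_appLE]
    exact IsAffineOpen.SpecMap_appLE_fromSpec π hU hV le_rfl
  have hkey : ∀ P : Spec Γ(Y, π ⁻¹ᵁ U),
      π (hV.fromSpec P) = hU.fromSpec (Spec.map (π.app U) P) := by
    intro P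
    rw [← Scheme.Hom.comp_apply, ← hcomm, Scheme.Hom.comp_apply]
  let G : (PrimeSpectrum.comap (π.app U).hom ⁻¹' {hU.primeIdealOf ⟨p, hp⟩}) →
      {q : Y // π q = p} := fun P =>
    ⟨hV.fromSpec P.1, by
      rw [hkey]
      have h1 : Spec.map (π.app U) P.1 = hU.primeIdealOf ⟨p, hp⟩ := P.2
      rw [h1, hU.fromSpec_primeIdealOf]⟩
  refine Nat.card_congr (Equiv.ofBijective G ⟨?_, ?_⟩)
  · intro P₁ P₂ h
    have h1 : hV.fromSpec P₁.1 = hV.fromSpec P₂.1 := congrArg (fun z => (z.1 : Y)) h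
    exact Subtype.ext (hV.fromSpec.isOpenEmbedding.injective h1)
  · rintro ⟨q, hq⟩
    have hqV : q ∈ Set.range hV.fromSpec := by
      rw [hV.range_fromSpec]
      change π q ∈ U
      rw [hq]; exact hp
    obtain ⟨P, rfl⟩ := hqV
    refine ⟨⟨P, ?_⟩, rfl⟩
    change Spec.map (π.app U) P = hU.primeIdealOf ⟨p, hp⟩
    apply hU.fromSpec.isOpenEmbedding.injective
    rw [← hkey, hq, hU.fromSpec_primeIdealOf]

/-- For a finite étale morphism of integral schemes mapping generic point to generic point, the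
fibre over a point with separably closed residue field has `[K(Y) : K(X)]` points. -/
theorem card_fibre_eq_finrank_of_finite_etale {X Y : Scheme.{u}} [IsIntegral X] [IsIntegral Y]
    (π : Y ⟶ X) [IsFinite π] [Etale π] (e : π (genericPoint Y) = genericPoint X) (p : X)
    (U : X.Opens) (hU : IsAffineOpen U) (hp : p ∈ U)
    (hsep : IsSepClosed (hU.primeIdealOf ⟨p, hp⟩).asIdeal.ResidueField) :
    Nat.card {q : Y // π q = p} =
      @Module.finrank X.functionField Y.functionField _ _
        ((X.presheaf.stalkSpecializes (specializes_of_eq e) ≫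
          π.stalkMap (genericPoint Y)).hom.toAlgebra.toModule) := by
  have hV : IsAffineOpen (π ⁻¹ᵁ U) := hU.preimage π
  have hne : Nonempty U := ⟨⟨p, hp⟩⟩
  have hηU : genericPoint X ∈ U :=
    ((genericPoint_spec X).mem_open_set_iff U.isOpen).2 ⟨p, trivial, hp⟩
  have hηV : genericPoint Y ∈ π ⁻¹ᵁ U := by
    change π (genericPoint Y) ∈ U
    rw [e]; exact hηU
  have hneV : Nonempty (π ⁻¹ᵁ U : Y.Opens) := ⟨⟨genericPoint Y, hηV⟩⟩
  rw [card_fibre_eq_card_preimage π U hU hV p hp]
  set ψ := (X.presheaf.stalkSpecializes (specializes_of_eq e) ≫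
          π.stalkMap (genericPoint Y)).hom with hψ
  letI algKL : Algebra X.functionField Y.functionField := ψ.toAlgebra
  letI algAB : Algebra Γ(X, U) Γ(Y, π ⁻¹ᵁ U) := (π.app U).hom.toAlgebra
  letI algAL : Algebra Γ(X, U) Y.functionField :=
    (ψ.comp (algebraMap Γ(X, U) X.functionField)).toAlgebra
  haveI tow1 : IsScalarTower Γ(X, U) X.functionField Y.functionField :=
    IsScalarTower.of_algebraMap_eq (fun _ => rfl)
  haveI tow2 : IsScalarTower Γ(X, U) Γ(Y, π ⁻¹ᵁ U) Y.functionField := by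
    refine IsScalarTower.of_algebraMap_eq (fun a => ?_)
    have h1 : X.germToFunctionField U ≫ X.presheaf.stalkSpecializes (specializes_of_eq e) ≫
        π.stalkMap (genericPoint Y) = π.app U ≫ Y.germToFunctionField (π ⁻¹ᵁ U) := by
      rw [Scheme.germToFunctionField, TopCat.Presheaf.germ_stalkSpecializes_assoc,
        Scheme.Hom.germ_stalkMap]
    exact congr($(h1).hom a)
  haveI fr1 : IsFractionRing Γ(X, U) X.functionField :=
    functionField_isFractionRing_of_isAffineOpen X U hU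
  haveI fr2 : IsFractionRing Γ(Y, π ⁻¹ᵁ U) Y.functionField :=
    functionField_isFractionRing_of_isAffineOpen Y (π ⁻¹ᵁ U) hV
  haveI fin : Module.Finite Γ(X, U) Γ(Y, π ⁻¹ᵁ U) := IsFinite.finite_app π U hU
  haveI et : Algebra.Etale Γ(X, U) Γ(Y, π ⁻¹ᵁ U) := by
    have h1 := HasRingHomProperty.appLE (P := @Etale) π inferInstance ⟨U, hU⟩ ⟨π ⁻¹ᵁ U, hV⟩ le_rfl
    rw [← Scheme.Hom.app_eq_appLE] at h1
    exact h1
  exact card_preimage_eq_finrank Γ(X, U) X.functionField Γ(Y, π ⁻¹ᵁ U) Y.functionField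
    (hU.primeIdealOf ⟨p, hp⟩)

end Groth.Agent.Lib.FibreDegree96
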