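/-
helper96: residue fields at closed points of schemes locally of finite type over an algebraically
closed field are separably closed.
-/
import Mathlib
import Groth.Agent.Lib.FibreDegree96B

set_option autoImplicit false
set_option linter.style.haveILetI false
universe u

open CategoryTheory AlgebraicGeometry

namespace Groth.Agent.Lib.FibreDegree96

/-- The residue field at a closed point of a scheme locally of finite type over an algebraically
closed field is separably closed (it is `k`). -/
theorem isSepClosed_residueField_of_isClosed (k : Type u) [Field k] [IsAlgClosed k]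
    {X : Scheme.{u}} (s : X ⟶ Spec (CommRingCat.of k)) [LocallyOfFiniteType s]
    (U : X.Opens) (hU : IsAffineOpen U) (p : X) (hp : p ∈ U) (hcl : IsClosed ({p} : Set X)) :
    IsSepClosed (hU.primeIdealOf ⟨p, hp⟩).asIdeal.ResidueField := by
  have hmax : (hU.primeIdealOf ⟨p, hp⟩).asIdeal.IsMaximal :=
    hU.primeIdealOf_isMaximal_of_isClosed ⟨p, hp⟩ hcl
  set 𝔭 := (hU.primeIdealOf ⟨p, hp⟩).asIdeal with h𝔭
  have hle : U ≤ s ⁻¹ᵁ ⊤ := le_top
  have h1 : (s.appLE ⊤ U hle).hom.FiniteType :=
    HasRingHomProperty.appLE (P := @LocallyOfFiniteType) s inferInstance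
      ⟨⊤, isAffineOpen_top _⟩ ⟨U, hU⟩ hle
  have h2 : (Scheme.ΓSpecIso (CommRingCat.of k)).inv.hom.FiniteType :=
    RingHom.FiniteType.of_surjective _
      (ConcreteCategory.bijective_of_isIso (Scheme.ΓSpecIso (CommRingCat.of k)).inv).2
  have h3 : (algebraMap Γ(X, U) 𝔭.ResidueField).FiniteType :=
    RingHom.FiniteType.of_surjective _ 𝔭.algebraMap_residueField_surjective
  let g : k →+* 𝔭.ResidueField :=
    (algebraMap Γ(X, U) 𝔭.ResidueField).comp
      ((s.appLE ⊤ U hle).hom.comp (Scheme.ΓSpecIso (CommRingCat.of k)).inv.hom)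
  have hg : g.FiniteType := h3.comp (h1.comp h2)
  have hgfin : g.Finite := RingHom.finite_iff_finiteType_of_isJacobsonRing.2 hg
  algebraize [g]
  have hint : Algebra.IsIntegral k 𝔭.ResidueField := inferInstance
  have hbij : Function.Bijective (algebraMap k 𝔭.ResidueField) :=
    IsAlgClosed.algebraMap_bijective_of_isIntegral
  have : IsAlgClosed 𝔭.ResidueField :=
    IsAlgClosed.of_ringEquiv k 𝔭.ResidueField (RingEquiv.ofBijective _ hbij)
  infer_instance

end Groth.Agent.Lib.FibreDegree96
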