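import Groth.Agent.Lib.TFunCompare
import Groth.Agent.Lib.SemilinearFinrank
import Groth.Agent.Lib.BaseChangeSheafH44

/-!
# K2c: from an equivariant identification `V ≃+ T^p_L(K)` to `finrank_K V = dRank L p x` (helper21)

`K` is an `A`-algebra identified (as a ring, compatibly with `A`) with the residue field `κ(x)` of a prime `x` of `A`.
-/

set_option autoImplicit false
universe u

open CategoryTheory CategoryTheory.Limits CohIII

namespace Groth.Agent.Lib.FibreRank21

open Groth.Agent.Lib.BaseChangeSheafH44 Groth.Agent.Lib.TFunCompare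

variable {A : Type u} [CommRing A] {ι : Type} {c : ComplexShape ι}
  (L : HomologicalComplex (ModuleCat.{u} A) c) (p : ι)
  (K : Type u) [CommRing K] [Algebra A K] (x : PrimeSpectrum A)
  (θ : K ≃+* x.asIdeal.ResidueField)
  (hθ : ∀ a : A, θ (algebraMap A K a) = algebraMap A x.asIdeal.ResidueField a)

/-- `θ` as an `A`-linear equivalence -/
noncomputable def thetaLin : K ≃ₗ[A] x.asIdeal.ResidueField :=
  { θ.toAddEquiv with
    map_smul' := fun a k => by
      change θ (a • k) = a • θ k
      rw [Algebra.smul_def, map_mul, hθ, Algebra.smul_def] }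

/-- `T^p_L(K) ≃ₗ[A] T^p_L(κ(x))` -/
noncomputable def tEquiv : (TFun L p).obj (ModuleCat.of A K) ≃ₗ[A]
    (TFun L p).obj (ModuleCat.of A x.asIdeal.ResidueField) :=
  ((TFun L p).mapIso (thetaLin K x θ hθ).toModuleIso).toLinearEquiv

theorem mulR_algebraMap (a : A) : mulR A K (algebraMap A K a) = a • 𝟙 (ModuleCat.of A K) := by
  ext k
  change algebraMap A K a * k = a • k
  rw [Algebra.smul_def]

theorem TFun_map_mulR_algebraMap (a : A) (t : (TFun L p).obj (ModuleCat.of A K)) :
    ((TFun L p).map (mulR A K (algebraMap A K a))).hom t = a • t := by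
  rw [mulR_algebraMap, Functor.map_smul, CategoryTheory.Functor.map_id]
  rfl

variable {V : Type u} [AddCommGroup V] [Module K V]
  (e : V ≃+ (TFun L p).obj (ModuleCat.of A K))
  (he : ∀ (a : A) (v : V), e (algebraMap A K a • v) = a • e v)

/-- the comparison with the homology of the base-changed complex -/
noncomputable def gEquiv :
    V ≃+ ((bcCx (algebraMap A x.asIdeal.ResidueField) L).homology p) :=
  e.trans ((tEquiv L p K x θ hθ).toAddEquiv.trans
    (homologyCompare x.asIdeal.ResidueField L p).symm.toLinearEquiv.toAddEquiv)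

include he in
theorem gEquiv_algebraMap_smul (a : A) (v : V) :
    gEquiv L p K x θ hθ e (algebraMap A K a • v) =
      algebraMap A x.asIdeal.ResidueField a • gEquiv L p K x θ hθ e v := by
  change (homologyCompare x.asIdeal.ResidueField L p).symm.toLinearEquiv
      (tEquiv L p K x θ hθ (e (algebraMap A K a • v))) =
    algebraMap A x.asIdeal.ResidueField a •
      (homologyCompare x.asIdeal.ResidueField L p).symm.toLinearEquiv (tEquiv L p K x θ hθ (e v))
  rw [he, map_smul, map_smul]
  rfl

include he in
theorem gEquiv_smul (k : K) (v : V) :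
    gEquiv L p K x θ hθ e (k • v) = θ k • gEquiv L p K x θ hθ e v := by
  obtain ⟨a, s, hs, hsc⟩ :=
    Groth.Agent.Lib.SemilinearFinrank.residueField_fraction x.asIdeal (θ k)
  have h0 : algebraMap A K s * k = algebraMap A K a := by
    apply θ.injective
    rw [map_mul, hθ, hθ, hsc]
  have h1 : algebraMap A x.asIdeal.ResidueField s • gEquiv L p K x θ hθ e (k • v) =
      algebraMap A x.asIdeal.ResidueField s • (θ k • gEquiv L p K x θ hθ e v) := by
    rw [← gEquiv_algebraMap_smul L p K x θ hθ e he, smul_smul, h0,
      gEquiv_algebraMap_smul L p K x θ hθ e he, smul_smul, hsc]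
  exact smul_right_injective _ hs h1

include θ hθ e he in
/-- **the rank formula** -/
theorem finrank_eq_dRank : Module.finrank K V = dRank L p x := by
  have h := rank_eq_of_equiv_equiv θ (gEquiv L p K x θ hθ e) θ.bijective
    (gEquiv_smul L p K x θ hθ e he)
  unfold dRank Module.finrank
  rw [h]

/-- the `mulR`-equivariant form of the hypothesis implies the `A`-linear one -/
theorem he_of_mulR (e : V ≃+ (TFun L p).obj (ModuleCat.of A K))
    (he' : ∀ (k : K) (v : V), e (k • v) = ((TFun L p).map (mulR A K k)).hom (e v))
    (a : A) (v : V) : e (algebraMap A K a • v) = a • e v := by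
  rw [he', TFun_map_mulR_algebraMap]

omit [Module K V] in
include θ hθ e in
/-- **the vanishing criterion** -/
theorem subsingleton_iff :
    Subsingleton V ↔ IsZero ((TFun L p).obj (ModuleCat.of A x.asIdeal.ResidueField)) := by
  rw [ModuleCat.isZero_iff_subsingleton]
  exact (e.trans (tEquiv L p K x θ hθ).toAddEquiv).toEquiv.subsingleton_congr

end Groth.Agent.Lib.FibreRank21
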