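import Groth.Agent.Lib.FibreIso21
import Groth.Agent.Lib.FibreRank21
import Groth.Agent.Lib.BaseChangeCohH44
import Groth.Prelude.Def_ega3

/-!
# K2c: fibre cohomology and the model `L` (generic dictionary, helper21)

Setting: `f : X ⟶ Y`, `z : Y`, a scheme `X'` over `Spec A` with `j : X' ⟶ X`, `i : Spec A ⟶ Y` forming a cartesian
square (`X' = f⁻¹(Spec A)`), an `A`-algebra structure on `κ(z)` with `Spec κ(z) ⟶ Spec A ⟶ Y` the canonical map, and a
complex `L` with the base-change property of helper44's `FibreModelH44.exists_model_bc` (stated as a hypothesis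
`BCProp`).  Then `H^p(X_z, F_z) ≃ₗ[κ(z)] H^p(κ(z) ⊗_A L)`, and, given an identification `θ` of `κ(z)` with the residue
field of a prime `x` of `A`, `dim H^p(X_z, F_z) = dRank L p x`.
-/

set_option autoImplicit false
set_option linter.style.haveILetI false
universe u

open CategoryTheory CategoryTheory.Limits AlgebraicGeometry Opposite CohIII

namespace Groth.Agent.Lib.FibreDict21

open Groth.Agent.Lib.ReesCoh Groth.Agent.Lib.FibreIso21 Scheme.Modules

/-- the base-change property of the model `L` (last clause of `FibreModelH44.exists_model_bc`) -/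
def BCProp (A : Type u) [CommRing A] {X' : Scheme.{u}} [X'.Over (Spec (CommRingCat.of A))]
    (F' : X'.Modules) (L : CochainComplex (ModuleCat.{u} A) ℤ) : Prop :=
  ∀ (R : Type u) [CommRing R] [Algebra A R] (X'' : Scheme.{u}) [X''.Over (Spec (CommRingCat.of R))]
    (g' : X'' ⟶ X')
    (_ : IsPullback g' (X'' ↘ Spec (CommRingCat.of R)) (X' ↘ Spec (CommRingCat.of A))
      (Spec.map (CommRingCat.ofHom (algebraMap A R)))) (p : ℕ),
    Nonempty (Coh.HH X'' ((Scheme.Modules.pullback g').obj F') p ≃ₗ[R]
      (bcCx (algebraMap A R) L).homology (p : ℤ))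

variable {X Y : Scheme.{u}} (f : X ⟶ Y) (z : Y)
variable (A : Type u) [CommRing A] {X' : Scheme.{u}} [X'.Over (Spec (CommRingCat.of A))]
  (j : X' ⟶ X) (i : Spec (CommRingCat.of A) ⟶ Y)
  (hpb : IsPullback j (X' ↘ Spec (CommRingCat.of A)) f i)
  [Algebra A (Y.residueField z)]
  (hz : specAlg A (Y.residueField z) ≫ i = Y.fromSpecResidueField z)

/-- the restriction of `F` to the fibre, as a pullback from `X'` -/
noncomputable def fiberModIso (F : X.Modules) (F' : X'.Modules)
    (α : F' ≅ (Scheme.Modules.pullback j).obj F) :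
    CohIII.fiberMod f F z ≅
      (Scheme.Modules.pullback (fiberLift f z A j i hpb hz)).obj F' :=
  (pullbackCongr (fiberLift_j f z A j i hpb hz).symm).app F ≪≫
    (pullbackComp (fiberLift f z A j i hpb hz) j).symm.app F ≪≫
    (Scheme.Modules.pullback (fiberLift f z A j i hpb hz)).mapIso α.symm

include hpb hz in
/-- **Fibre cohomology is computed by the model.** -/
theorem nonempty_fiberH_linearEquiv (F : X.Modules) (F' : X'.Modules)
    (α : F' ≅ (Scheme.Modules.pullback j).obj F) (L : CochainComplex (ModuleCat.{u} A) ℤ)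
    (hL : BCProp A F' L) (p : ℕ) :
    Nonempty (CohIII.fiberH f F z p ≃ₗ[Y.residueField z]
      (bcCx (algebraMap A (Y.residueField z)) L).homology (p : ℤ)) := by
  letI : (f.fiber z).Over (Spec (CommRingCat.of (Y.residueField z))) := CohIII.fiberOver f z
  obtain ⟨e⟩ := hL (Y.residueField z) (f.fiber z) (fiberLift f z A j i hpb hz)
    (isPullback_fiberLift f z A j i hpb hz) p
  exact ⟨(Groth.Agent.Lib.BaseChangeCohH44.HHlinEquiv (Y.residueField z)
    (fiberModIso f z A j i hpb hz F F' α) p).trans e⟩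

section Rank

open Groth.Agent.Lib.TFunCompare

variable (x : PrimeSpectrum A) (θ : Y.residueField z ≃+* x.asIdeal.ResidueField)
  (hθ : ∀ a : A, θ (algebraMap A (Y.residueField z) a) = algebraMap A x.asIdeal.ResidueField a)

/-- the comparison `H^p(X_z, F_z) ≃+ T^p_L(κ(z))` used for the rank formula -/
noncomputable def toT (F : X.Modules) (L : CochainComplex (ModuleCat.{u} A) ℤ) (p : ℕ)
    (E : CohIII.fiberH f F z p ≃ₗ[Y.residueField z]
      (bcCx (algebraMap A (Y.residueField z)) L).homology (p : ℤ)) :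
    CohIII.fiberH f F z p ≃+ (TFun L (p : ℤ)).obj (ModuleCat.of A (Y.residueField z)) :=
  E.toAddEquiv.trans (homologyCompare (Y.residueField z) L (p : ℤ)).toLinearEquiv.toAddEquiv

theorem toT_smul (F : X.Modules) (L : CochainComplex (ModuleCat.{u} A) ℤ) (p : ℕ)
    (E : CohIII.fiberH f F z p ≃ₗ[Y.residueField z]
      (bcCx (algebraMap A (Y.residueField z)) L).homology (p : ℤ)) (a : A)
    (v : CohIII.fiberH f F z p) :
    toT f z A F L p E (algebraMap A (Y.residueField z) a • v) = a • toT f z A F L p E v := by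
  change (homologyCompare (Y.residueField z) L (p : ℤ)).toLinearEquiv
      (E (algebraMap A (Y.residueField z) a • v)) =
    a • (homologyCompare (Y.residueField z) L (p : ℤ)).toLinearEquiv (E v)
  rw [map_smul E]
  exact (homologyCompare (Y.residueField z) L (p : ℤ)).toLinearEquiv.map_smul a (E v)

include hpb hz θ hθ in
/-- **The rank formula**: `dim_{κ(z)} H^p(X_z, F_z) = dRank L p x`. -/
theorem fiberRank_eq_dRank (F : X.Modules) (F' : X'.Modules)
    (α : F' ≅ (Scheme.Modules.pullback j).obj F) (L : CochainComplex (ModuleCat.{u} A) ℤ)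
    (hL : BCProp A F' L) (p : ℕ) :
    CohIII.fiberRank f F p z = dRank L (p : ℤ) x := by
  obtain ⟨E⟩ := nonempty_fiberH_linearEquiv f z A j i hpb hz F F' α L hL p
  exact Groth.Agent.Lib.FibreRank21.finrank_eq_dRank L (p : ℤ) (Y.residueField z) x θ hθ
    (toT f z A F L p E) (toT_smul f z A F L p E)

include hpb hz θ hθ in
/-- **The vanishing criterion**: `H^p(X_z, F_z) = 0 ↔ T^p_L(κ(x)) = 0`. -/
theorem subsingleton_fiberH_iff (F : X.Modules) (F' : X'.Modules)
    (α : F' ≅ (Scheme.Modules.pullback j).obj F) (L : CochainComplex (ModuleCat.{u} A) ℤ)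
    (hL : BCProp A F' L) (p : ℕ) :
    Subsingleton (CohIII.fiberH f F z p) ↔
      IsZero ((TFun L (p : ℤ)).obj (ModuleCat.of A x.asIdeal.ResidueField)) := by
  obtain ⟨E⟩ := nonempty_fiberH_linearEquiv f z A j i hpb hz F F' α L hL p
  exact Groth.Agent.Lib.FibreRank21.subsingleton_iff L (p : ℤ) (Y.residueField z) x θ hθ
    (toT f z A F L p E)

end Rank

end Groth.Agent.Lib.FibreDict21
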