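import Groth.Agent.Lib.FibreModelH44
import Groth.Agent.Lib.DRankBC

/-!
# Fibres over an affine base and Mumford's complex (helper44)

`X` proper over a Noetherian ring `A`, `F` coherent and flat over `A`, `L` the complex of `exists_model_bc`.
For a point `y` of `Spec A`, the fibre cohomology `H^p(X_y, F_y)` is `H^p(L ⊗_A κ(y))` linearly over the residue
field; in particular `CohIII.fiberRank … p y = CohIII.dRank L p y`.
-/

set_option autoImplicit false
set_option linter.style.haveILetI false
universe u

open CategoryTheory CategoryTheory.Limits AlgebraicGeometry Opposite MonoidalCategory CohIII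

namespace Groth.Agent.Lib.FibreDictAffH44

open Groth.Agent.Lib.EndEquivH44

section Point

variable (A : Type u) [CommRing A] (y : ↥(Spec (CommRingCat.of A)))

/-- the ring map `A ⟶ κ(y)` whose `Spec` is the canonical morphism `Spec κ(y) ⟶ Spec A` -/
noncomputable def toResidue : CommRingCat.of A ⟶ (Spec (CommRingCat.of A)).residueField y :=
  Spec.preimage ((Spec (CommRingCat.of A)).fromSpecResidueField y)

theorem spec_map_toResidue :
    Spec.map (toResidue A y) = (Spec (CommRingCat.of A)).fromSpecResidueField y :=
  Spec.map_preimage _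

/-- `κ(y)` as an `A`-algebra -/
@[reducible] noncomputable def algebraResidue :
    Algebra A ((Spec (CommRingCat.of A)).residueField y) := (toResidue A y).hom.toAlgebra

/-- the point of `Spec A` below the unique point of `Spec κ(y)` is `y` -/
theorem comap_bot :
    letI := algebraResidue A y
    PrimeSpectrum.comap (algebraMap A ((Spec (CommRingCat.of A)).residueField y))
      (⟨⊥, Ideal.isPrime_bot⟩ : PrimeSpectrum ((Spec (CommRingCat.of A)).residueField y)) = y := by
  have h := Scheme.fromSpecResidueField_apply (X := Spec (CommRingCat.of A)) y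
    (⟨⊥, Ideal.isPrime_bot⟩ : PrimeSpectrum ((Spec (CommRingCat.of A)).residueField y))
  rw [← spec_map_toResidue] at h
  exact h

variable {A} in
/-- over a field, homology dimension of a base change to the field is `dRank` at the point below -/
theorem finrank_homology_eq_dRank {ι : Type} {c : ComplexShape ι}
    (L : HomologicalComplex (ModuleCat.{u} A) c) (p : ι) :
    letI := algebraResidue A y
    Module.finrank ((Spec (CommRingCat.of A)).residueField y)
      ((bcCx (algebraMap A ((Spec (CommRingCat.of A)).residueField y)) L).homology p) =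
      dRank L p y := by
  letI := algebraResidue A y
  have h1 := Groth.Agent.Lib.DRankBC.dRank_bcCx (B := (Spec (CommRingCat.of A)).residueField y) L p
    (⟨⊥, Ideal.isPrime_bot⟩ : PrimeSpectrum ((Spec (CommRingCat.of A)).residueField y))
  rw [comap_bot A y] at h1
  rw [← h1]
  exact (Groth.Agent.Lib.DRankBC.finrank_homology_bcCx_field
    (algebraMap ((Spec (CommRingCat.of A)).residueField y)
      (⟨⊥, Ideal.isPrime_bot⟩ : PrimeSpectrum
        ((Spec (CommRingCat.of A)).residueField y)).asIdeal.ResidueField)
    (bcCx (algebraMap A ((Spec (CommRingCat.of A)).residueField y)) L) p).symm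

end Point

attribute [local instance] HasDerivedCategory.standard in
/-- **Mumford's complex computes the cohomology of all fibres** (affine base). -/
theorem exists_model_fibre (A : Type u) [CommRing A] [IsNoetherianRing A] (X : Scheme.{u})
    [X.Over (Spec (CommRingCat.of A))] [IsProper (X ↘ Spec (CommRingCat.of A))] (F : X.Modules)
    (hF : Coh.IsCoh F) (hfl : FlatMod.IsFlatOver (X ↘ Spec (CommRingCat.of A)) F) :
    ∃ L : CochainComplex (ModuleCat.{u} A) ℤ,
      (∀ i, Module.Finite A (L.X i) ∧ Module.Free A (L.X i)) ∧
      (∃ b : ℤ, ∀ i, b < i → IsZero (L.X i)) ∧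
      (∀ p : ℕ, EndEquiv (tensorAFunctor A F ⋙ HAb X p)
        (TFun L (p : ℤ) ⋙ forget₂ (ModuleCat.{u} A) AddCommGrpCat.{u})) ∧
      (∀ p : ℤ, p < 0 → ∀ M : ModuleCat.{u} A, IsZero ((TFun L p).obj M)) ∧
      (∀ (R : Type u) [CommRing R] [Algebra A R] (X' : Scheme.{u}) [X'.Over (Spec (CommRingCat.of R))]
        (g' : X' ⟶ X)
        (_ : IsPullback g' (X' ↘ Spec (CommRingCat.of R)) (X ↘ Spec (CommRingCat.of A))
          (Spec.map (CommRingCat.ofHom (algebraMap A R)))) (p : ℕ),
        Nonempty (Coh.HH X' ((Scheme.Modules.pullback g').obj F) p ≃ₗ[R]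
          (bcCx (algebraMap A R) L).homology (p : ℤ))) ∧
      (∀ (y : ↥(Spec (CommRingCat.of A))) (p : ℕ),
        letI := algebraResidue A y
        Nonempty (fiberH (X ↘ Spec (CommRingCat.of A)) F y p ≃ₗ[(Spec (CommRingCat.of A)).residueField y]
          (bcCx (algebraMap A ((Spec (CommRingCat.of A)).residueField y)) L).homology (p : ℤ))) ∧
      ∀ (y : ↥(Spec (CommRingCat.of A))) (p : ℕ),
        fiberRank (X ↘ Spec (CommRingCat.of A)) F p y = dRank L (p : ℤ) y := by
  obtain ⟨L, h1, h2, h3, h4, h5⟩ := Groth.Agent.Lib.FibreModelH44.exists_model_bc A X F hF hfl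
  have key : ∀ (y : ↥(Spec (CommRingCat.of A))) (p : ℕ),
      letI := algebraResidue A y
      Nonempty (fiberH (X ↘ Spec (CommRingCat.of A)) F y p ≃ₗ[(Spec (CommRingCat.of A)).residueField y]
        (bcCx (algebraMap A ((Spec (CommRingCat.of A)).residueField y)) L).homology (p : ℤ)) := by
    intro y p
    letI := algebraResidue A y
    have hsq : IsPullback ((X ↘ Spec (CommRingCat.of A)).fiberι y)
        ((X ↘ Spec (CommRingCat.of A)).fiberToSpecResidueField y) (X ↘ Spec (CommRingCat.of A))
        (Spec.map (toResidue A y)) := by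
      rw [spec_map_toResidue]
      exact IsPullback.of_hasPullback _ _
    exact @h5 ((Spec (CommRingCat.of A)).residueField y) inferInstance (algebraResidue A y)
      ((X ↘ Spec (CommRingCat.of A)).fiber y) (fiberOver (X ↘ Spec (CommRingCat.of A)) y)
      ((X ↘ Spec (CommRingCat.of A)).fiberι y) hsq p
  refine ⟨L, h1, h2, h3, h4, h5, key, fun y p => ?_⟩
  letI := algebraResidue A y
  obtain ⟨e⟩ := key y p
  unfold fiberRank
  rw [e.finrank_eq]
  exact finrank_homology_eq_dRank y L (p : ℤ)

end Groth.Agent.Lib.FibreDictAffH44
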