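import Mathlib.RingTheory.AdicCompletion.Basic

/-!
# Pure algebra behind the theorem on formal functions (helper20)

`A` a commutative ring, `I` an ideal, `H` an `A`-module, `(G n, t n : G (n+1) → G n)` a tower of
`A`-modules and `φ n : H → G n` a compatible family of linear maps such that

* `I^(n+1) H ≤ ker (φ n)`,
* `ker (φ n) ≤ I^(n-c) H` for `n ≥ c`,
* every compatible family `y` has `y n ∈ range (φ n)` (consequence of the Mittag-Leffler condition).

Then the canonical map from the `I`-adic completion of `H` to the inverse limit of the `G n` is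
bijective (`exists_addEquiv`), and if `AdicCompletion.of I H` is bijective so is `H → lim G n`
(`bijective_toLim`).
-/

set_option autoImplicit false

namespace Groth.Agent.Lib.FormalFnAlg20

open Submodule

variable {A : Type*} [CommRing A] (I : Ideal A) {H : Type*} [AddCommGroup H] [Module A H]
  {G : ℕ → Type*} [∀ n, AddCommGroup (G n)] [∀ n, Module A (G n)]
  (t : ∀ n, G (n + 1) →ₗ[A] G n) (φ : ∀ n, H →ₗ[A] G n)

/-- The induced map `H / I^(n+1) H → G n`. -/
noncomputable def bar (h1 : ∀ n, I ^ (n + 1) • (⊤ : Submodule A H) ≤ LinearMap.ker (φ n)) (n : ℕ) :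
    H ⧸ (I ^ (n + 1) • (⊤ : Submodule A H)) →ₗ[A] G n :=
  Submodule.liftQ _ (φ n) (h1 n)

@[simp] theorem bar_mk (h1 : ∀ n, I ^ (n + 1) • (⊤ : Submodule A H) ≤ LinearMap.ker (φ n)) (n : ℕ)
    (x : H) : bar I φ h1 n (Submodule.Quotient.mk x) = φ n x := rfl

variable {t φ}

/-- Going down the tower: if `φ k x = y k` then `φ j x = y j` for `j ≤ k`. -/
theorem phi_eq_of_le (hφ : ∀ n x, t n (φ (n + 1) x) = φ n x) (y : ∀ n, G n)
    (hy : ∀ n, t n (y (n + 1)) = y n) {j k : ℕ} (hjk : j ≤ k) (x : H) (hx : φ k x = y k) :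
    φ j x = y j := by
  induction k, hjk using Nat.le_induction with
  | base => exact hx
  | succ k _ ih =>
    apply ih
    rw [← hφ k x, hx, hy k]

section Main

variable (hφ : ∀ n x, t n (φ (n + 1) x) = φ n x)
  (h1 : ∀ n, I ^ (n + 1) • (⊤ : Submodule A H) ≤ LinearMap.ker (φ n))
  (c : ℕ) (h2 : ∀ n, c ≤ n → LinearMap.ker (φ n) ≤ I ^ (n - c) • (⊤ : Submodule A H))
  (h3 : ∀ y : ∀ n, G n, (∀ n, t n (y (n + 1)) = y n) → ∀ n, y n ∈ LinearMap.range (φ n))

variable (t φ) in
/-- The canonical map from the completion to the product of the tower. -/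
noncomputable def toProd : AdicCompletion I H →+ (∀ n, G n) where
  toFun x := fun n => bar I φ h1 n (x.val (n + 1))
  map_zero' := by
    funext n
    simp
  map_add' x y := by
    funext n
    simp

theorem toProd_apply (x : AdicCompletion I H) (n : ℕ) :
    toProd I φ h1 x n = bar I φ h1 n (x.val (n + 1)) := rfl

include hφ in
theorem toProd_compatible (x : AdicCompletion I H) (n : ℕ) :
    t n (toProd I φ h1 x (n + 1)) = toProd I φ h1 x n := by
  rw [toProd_apply, toProd_apply]
  obtain ⟨h, hh⟩ := Submodule.Quotient.mk_surjective _ (x.val (n + 1 + 1))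
  have e : x.val (n + 1) = Submodule.Quotient.mk h := by
    rw [← x.property (Nat.le_succ (n + 1)), ← hh]
    rfl
  rw [e, ← hh, bar_mk, bar_mk, hφ]

theorem toProd_of (h : H) (n : ℕ) : toProd I φ h1 (AdicCompletion.of I H h) n = φ n h := rfl

include h2 in
theorem toProd_injective : Function.Injective (toProd I φ h1) := by
  rw [injective_iff_map_eq_zero]
  intro x hx
  apply AdicCompletion.ext
  intro m
  have hm := congrFun hx (m + c)
  rw [toProd_apply] at hm
  obtain ⟨h, hh⟩ := Submodule.Quotient.mk_surjective _ (x.val (m + c + 1))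
  rw [← hh, bar_mk] at hm
  have hmem : h ∈ I ^ m • (⊤ : Submodule A H) := by
    have := h2 (m + c) (Nat.le_add_left _ _) (LinearMap.mem_ker.mpr hm)
    rwa [Nat.add_sub_cancel] at this
  have e : x.val m = Submodule.Quotient.mk h := by
    rw [← x.property (show m ≤ m + c + 1 by omega), ← hh]
    rfl
  rw [e]
  exact (Submodule.Quotient.mk_eq_zero _).mpr hmem

include hφ h2 h3 in
theorem exists_toProd_eq (y : ∀ n, G n) (hy : ∀ n, t n (y (n + 1)) = y n) :
    ∃ x : AdicCompletion I H, toProd I φ h1 x = y := by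
  choose h hh using h3 y hy
  -- the sequence `h (m + c)` is Cauchy
  have key : ∀ m m' : ℕ, m ≤ m' → h (m' + c) - h (m + c) ∈ I ^ m • (⊤ : Submodule A H) := by
    intro m m' hmm
    have e1 : φ (m + c) (h (m' + c)) = y (m + c) :=
      phi_eq_of_le hφ y hy (by omega) _ (hh (m' + c))
    have := h2 (m + c) (Nat.le_add_left _ _)
      (LinearMap.mem_ker.mpr (by rw [map_sub, e1, hh (m + c), sub_self] :
        φ (m + c) (h (m' + c) - h (m + c)) = 0))
    rwa [Nat.add_sub_cancel] at this
  refine ⟨⟨fun m => Submodule.Quotient.mk (h (m + c)), ?_⟩, ?_⟩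
  · intro m m' hmm
    change (Submodule.Quotient.mk (h (m' + c)) : H ⧸ (I ^ m • (⊤ : Submodule A H))) =
      Submodule.Quotient.mk (h (m + c))
    rw [Submodule.Quotient.eq]
    exact key m m' hmm
  · funext n
    rw [toProd_apply]
    change bar I φ h1 n (Submodule.Quotient.mk (h (n + 1 + c))) = y n
    rw [bar_mk]
    exact phi_eq_of_le hφ y hy (by omega) _ (hh (n + 1 + c))

include hφ h2 h3 in
/-- The completion of `H` is isomorphic to the limit of the tower, by the canonical map. -/
theorem exists_addEquiv (L : AddSubgroup (∀ n, G n))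
    (hL : ∀ y, y ∈ L ↔ ∀ n, t n (y (n + 1)) = y n) :
    ∃ e : AdicCompletion I H ≃+ L, ∀ (x : AdicCompletion I H) (n : ℕ),
      (e x).1 n = bar I φ h1 n (x.val (n + 1)) := by
  let f : AdicCompletion I H →+ L :=
    (toProd I φ h1).codRestrict L (fun x => (hL _).mpr (toProd_compatible I hφ h1 x))
  have hf : Function.Bijective f := by
    constructor
    · intro x x' hxx
      exact toProd_injective I h1 c h2 (congrArg Subtype.val hxx)
    · rintro ⟨y, hy⟩
      obtain ⟨x, hx⟩ := exists_toProd_eq I hφ h1 c h2 h3 y ((hL y).mp hy)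
      exact ⟨x, Subtype.ext hx⟩
  exact ⟨AddEquiv.ofBijective f hf, fun x n => rfl⟩

include hφ h1 h2 h3 in
/-- If `H` is already complete, `H → lim G n` is bijective. -/
theorem bijective_toLim (hof : Function.Bijective (AdicCompletion.of I H))
    (L : AddSubgroup (∀ n, G n)) (hL : ∀ y, y ∈ L ↔ ∀ n, t n (y (n + 1)) = y n)
    (g : H → L) (hg : ∀ h n, (g h).1 n = φ n h) : Function.Bijective g := by
  obtain ⟨e, he⟩ := exists_addEquiv I hφ h1 c h2 h3 L hL
  have : g = e ∘ AdicCompletion.of I H := by
    funext h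
    apply Subtype.ext
    funext n
    rw [hg, Function.comp_apply, he]
    rfl
  rw [this]
  exact e.bijective.comp hof

end Main

end Groth.Agent.Lib.FormalFnAlg20
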