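import Groth.Agent.Lib.CohLESLinear
import Groth.Agent.Lib.FormalFnAlg20
import Groth.Agent.Lib.ProperFinHyp
import Mathlib.RingTheory.AdicCompletion.AsTensorProduct
import Groth.Agent.Lib.CohFormal
import Groth.Prelude.Def_Formal2
import Groth.Prelude.Def_ega3

/-!
# Geometry behind the theorem on formal functions (helper20)
-/

set_option autoImplicit false
universe u
open CategoryTheory CategoryTheory.Limits AlgebraicGeometry TopologicalSpace Opposite Abelian

namespace Groth.Agent.Lib.FormalFn20

open Groth.Agent.Lib.CohLES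

variable {X : Scheme.{u}}

/-- General fact: the connecting class is natural in the short exact sequence. -/
theorem comp_extClass_nat {C : Type*} [Category C] [Abelian C] [HasExt C] {T T' : ShortComplex C}
    (hT : T.ShortExact) (hT' : T'.ShortExact) (σ : T ⟶ T') {A : C} {n : ℕ} (x : Ext A T.X₃ n) :
    (x.comp (Ext.mk₀ σ.τ₃) (add_zero n)).comp hT'.extClass rfl =
      (x.comp hT.extClass rfl).comp (Ext.mk₀ σ.τ₁) (add_zero (n + 1)) := by
  rw [Ext.comp_assoc_of_second_deg_zero, Ext.comp_assoc_of_third_deg_zero,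
    ShortComplex.ShortExact.extClass_naturality hT hT' σ]

set_option maxHeartbeats 400000 in
theorem δ_naturality_aux {S S' : ShortComplex X.Modules} (hT : (S.map (toAbF X)).ShortExact)
    (hT' : (S'.map (toAbF X)).ShortExact)
    (σ : S.map (toAbF X) ⟶ S'.map (toAbF X)) (n : ℕ)
    (x : Ext.{u} (constZ X) (S.map (toAbF X)).X₃ n) :
    (x.comp (Ext.mk₀ σ.τ₃) (add_zero n)).comp hT'.extClass rfl =
      (x.comp hT.extClass rfl).comp (Ext.mk₀ σ.τ₁) (add_zero (n + 1)) := by
  generalize S.map (toAbF X) = T at *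
  generalize S'.map (toAbF X) = T' at *
  exact comp_extClass_nat hT hT' σ x

set_option maxHeartbeats 400000 in
/-- The connecting homomorphism is natural in the short exact sequence. -/
theorem δ_naturality {S S' : ShortComplex X.Modules} (hS : S.ShortExact) (hS' : S'.ShortExact)
    (σ : S ⟶ S') (n : ℕ) (x : Coh.HH X S.X₃ n) :
    δ hS' n (map σ.τ₃ n x) = map σ.τ₁ (n + 1) (δ hS n x) :=
  δ_naturality_aux (shortExact_toAb hS) (shortExact_toAb hS') ((toAbF X).mapShortComplex.map σ) n x

section Over

variable {A : Type u} [CommRing A] [X.Over (Spec (CommRingCat.of A))]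

theorem toAbF_map_smulMod (M : X.Modules) (a : A) :
    (toAbF X).map (Formal.smulMod A M a) =
      Coh.smulAb M (Coh.toGlobal (X ↘ Spec (CommRingCat.of A)) a) := rfl

/-- Multiplication by `a : A` on cohomology is induced by `Formal.smulMod`. -/
theorem map_smulMod (M : X.Modules) (a : A) (n : ℕ) (x : Coh.HH X M n) :
    map (Formal.smulMod A M a) n x = a • x := rfl

theorem smul_eq_zero_of_killedBy {J : Ideal A} {M : X.Modules} (hM : Formal.KilledBy J M)
    {a : A} (ha : a ∈ J) (n : ℕ) (x : Coh.HH X M n) : a • x = 0 := by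
  rw [← map_smulMod, hM a ha, map_zero']

instance epi_modPowπ (I : Ideal A) (n : ℕ) (M : X.Modules) : Epi (Formal.modPowπ I n M) := by
  unfold Formal.modPowπ
  exact coequalizer.π_epi

theorem killedBy_modPow (I : Ideal A) (n : ℕ) (M : X.Modules) :
    Formal.KilledBy (I ^ n) (Formal.modPow I n M) := by
  intro a ha
  rw [← cancel_epi (Formal.modPowπ I n M), comp_zero, ← Formal.smulMod_naturality]
  have e : Formal.smulMod A M a =
      Sigma.ι (fun _ : ↥(I ^ n) => M) ⟨a, ha⟩ ≫ Formal.smulFamily (I ^ n) M := by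
    simp [Formal.smulFamily]
  have hc : Formal.smulFamily (I ^ n) M ≫ Formal.modPowπ I n M = 0 := cokernel.condition _
  rw [e, Category.assoc, hc, comp_zero]

/-- The sequence `0 → I^n M → M → M/I^n M → 0`. -/
noncomputable def ses (I : Ideal A) (n : ℕ) (M : X.Modules) : ShortComplex X.Modules :=
  ShortComplex.mk (Formal2.idealPowModι I n M) (Formal.modPowπ I n M) (kernel.condition _)

theorem ses_shortExact (I : Ideal A) (n : ℕ) (M : X.Modules) : (ses I n M).ShortExact := by
  exact
    { exact := ShortComplex.exact_of_f_is_kernel _ (kernelIsKernel (Formal.modPowπ I n M))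
      mono_f := by dsimp [ses]; infer_instance
      epi_g := by dsimp [ses]; infer_instance }

/-- The map of sequences `(0 → I^k M → M → M/I^k M → 0) ⟶ (0 → I^n M → M → M/I^n M → 0)`, `n ≤ k`. -/
noncomputable def sesMap (I : Ideal A) {n k : ℕ} (h : n ≤ k) (M : X.Modules) :
    ses I k M ⟶ ses I n M where
  τ₁ := Formal2.idealPowIncl I h M
  τ₂ := 𝟙 M
  τ₃ := Formal2.modPowLE I h M
  comm₁₂ := by
    dsimp [ses, Formal2.idealPowIncl]
    rw [kernel.lift_ι, Category.comp_id]
  comm₂₃ := by
    dsimp [ses]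
    rw [Category.id_comp, Formal2.modPowπ_modPowLE]

theorem modPowπ_completion_map (I : Ideal A) (M : X.Modules) {n k : ℕ} (h : n ≤ k) :
    Formal.modPowπ I (k + 1) M ≫ (Formal.completion I M).map (homOfLE h).op =
      Formal.modPowπ I (n + 1) M := by
  induction k, h using Nat.le_induction with
  | base =>
    exact (congrArg (fun f => Formal.modPowπ I (n + 1) M ≫ f)
      ((Formal.completion I M).map_id (op n))).trans (Category.comp_id _)
  | succ k hnk ih =>
    have e : (homOfLE (hnk.trans (Nat.le_succ k))).op =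
        (homOfLE (Nat.le_add_right k 1)).op ≫ (homOfLE hnk).op := rfl
    rw [e, Functor.map_comp]
    have e2 : (Formal.completion I M).map (homOfLE (Nat.le_add_right k 1)).op =
        Formal.modPowTrans I (k + 1) M := by
      unfold Formal.completion
      exact Functor.ofOpSequence_map_homOfLE_succ _ k
    rw [e2]
    exact (Category.assoc _ _ _).symm.trans
      ((congrArg (fun f => f ≫ (Formal.completion I M).map (homOfLE hnk).op)
        (Formal.modPowπ_trans I (k + 1) M)).trans ih)

theorem completion_map_eq (I : Ideal A) (M : X.Modules) {n k : ℕ} (h : n ≤ k) :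
    (Formal.completion I M).map (homOfLE h).op = Formal2.modPowLE I (Nat.succ_le_succ h) M := by
  apply (cancel_epi (Formal.modPowπ I (k + 1) M)).mp
  exact (modPowπ_completion_map I M h).trans (Formal2.modPowπ_modPowLE I _ M).symm

/-- Bridge: the kernel of `M ⟶ coker (∐_{a ∈ J} M ⟶ M)` is the image `J · M`. -/
noncomputable def bridge (J : Ideal A) (M : X.Modules) :
    kernel (cokernel.π (Formal.smulFamily J M)) ≅ CohIII.idealMul J M :=
  Abelian.imageIsoImage (Formal.smulFamily J M)

theorem bridge_hom_ι (J : Ideal A) (M : X.Modules) :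
    (bridge J M).hom ≫ CohIII.idealMulι J M = kernel.ι (cokernel.π (Formal.smulFamily J M)) :=
  Abelian.imageIsoImage_hom_comp_image_ι _

/-- Bridge for powers: `I^n M` (kernel of `M ⟶ M/I^n M`) is `idealMul (I^n) M`. -/
noncomputable def bridgePow (I : Ideal A) (n : ℕ) (M : X.Modules) :
    Formal2.idealPowMod I n M ≅ CohIII.idealMul (I ^ n) M :=
  bridge (I ^ n) M

theorem bridgePow_hom_ι (I : Ideal A) (n : ℕ) (M : X.Modules) :
    (bridgePow I n M).hom ≫ CohIII.idealMulι (I ^ n) M = Formal2.idealPowModι I n M :=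
  bridge_hom_ι (I ^ n) M

/-- Multiplication by `a ∈ I` from `J M` to `(I J) M` is compatible with the inclusions into `M`. -/
theorem mulMap_ι (I J : Ideal A) (M : X.Modules) (a : I) :
    CohIII.mulMap I J M a ≫ CohIII.idealMulι (I * J) M =
      CohIII.idealMulι J M ≫ Formal.smulMod A M (a : A) :=
  Limits.image.map_ι (CohIII.mulSq I J M a)

/-- If `H^p(X, (I J) M)` is generated by the images of the multiplications by the elements of `I`,
then the image of `H^p(X, (I J) M) → H^p(X, M)` lies in `I · H^p(X, M)`. -/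
theorem map_idealMulι_mem (I J K : Ideal A) (hK : K = I * J) (M : X.Modules) (p : ℕ)
    (hgen : (⨆ a : ↥I, (CohIII.HmulMap I J M a p).range) = ⊤)
    (z : Coh.HH X (CohIII.idealMul K M) p) :
    map (CohIII.idealMulι K M) p z ∈ I • (⊤ : Submodule A (Coh.HH X M p)) := by
  subst hK
  have hz : z ∈ ⨆ a : ↥I, (CohIII.HmulMap I J M a p).range := by rw [hgen]; trivial
  refine AddSubgroup.iSup_induction _ (C := fun z => map (CohIII.idealMulι (I * J) M) p z ∈
    I • (⊤ : Submodule A (Coh.HH X M p))) hz ?_ ?_ ?_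
  · rintro a _ ⟨y, rfl⟩
    have e : map (CohIII.idealMulι (I * J) M) p (CohIII.HmulMap I J M a p y) =
        (a : A) • map (CohIII.idealMulι J M) p y := by
      change map (CohIII.idealMulι (I * J) M) p (map (CohIII.mulMap I J M a) p y) = _
      rw [← map_comp, mulMap_ι, map_comp, map_smulMod]
    rw [e]
    exact Submodule.smul_mem_smul a.2 trivial
  · rw [map_zero]
    exact zero_mem _
  · intro x y hx hy
    rw [map_add]
    exact add_mem hx hy

/-- The image of `H^p(X, I^n M) → H^p(X, M)` computed with `idealMul`. -/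
theorem exists_map_idealMulι_eq (I : Ideal A) (n : ℕ) (M : X.Modules) (p : ℕ)
    (y : Coh.HH X (Formal2.idealPowMod I n M) p) :
    ∃ z : Coh.HH X (CohIII.idealMul (I ^ n) M) p,
      map (CohIII.idealMulι (I ^ n) M) p z = map (Formal2.idealPowModι I n M) p y :=
  ⟨map (bridgePow I n M).hom p y, by rw [← map_comp, bridgePow_hom_ι]⟩

/-- The kernel of `H^p(X, M) → H^p(X, M/I^n M)` is the image of `H^p(X, I^n M)`. -/
theorem exists_of_map_modPowπ_eq_zero (I : Ideal A) (n : ℕ) (M : X.Modules) (p : ℕ)
    (x : Coh.HH X M p) (hx : map (Formal.modPowπ I n M) p x = 0) :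
    ∃ y : Coh.HH X (Formal2.idealPowMod I n M) p, map (Formal2.idealPowModι I n M) p y = x :=
  exact₂ (ses_shortExact I n M) p x hx

end Over

/-- The statement of S2435 (Rees finiteness of `⊕ H^p(X, m^k F)`), as a proposition. -/
def Hyp2435 : Prop :=
  ∀ (A : Type u) [CommRing A] [IsNoetherianRing A]
    (m : Ideal A) (X : Scheme.{u}) [X.Over (Spec (CommRingCat.of A))]
    [IsProper (X ↘ Spec (CommRingCat.of A))] (F : X.Modules) (_ : Coh.IsCoh F) (p : ℕ),
    ∃ k₀ : ℕ, ∀ k : ℕ, k₀ ≤ k → ∀ r : ℕ,
      (⨆ a : ↥(m ^ r), (CohIII.HmulMap (m ^ r) (m ^ k) F a p).range) = ⊤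

/-- S0057 from the statement of S2435. -/
theorem ker_toHHmodPow_subset (H : Hyp2435.{u}) (A : Type u) [CommRing A] [IsNoetherianRing A]
    (I : Ideal A) (X : Scheme.{u}) [X.Over (Spec (CommRingCat.of A))]
    [IsProper (X ↘ Spec (CommRingCat.of A))] (M : X.Modules) (hM : Coh.IsCoh M) (p : ℕ) :
    ∃ c : ℕ, ∀ n : ℕ, c ≤ n →
      ((Formal.toHHmodPow I M p n).ker : Set (Coh.HH X M p)) ⊆
        ((I ^ (n - c) • (⊤ : Submodule A (Coh.HH X M p)) : Submodule A (Coh.HH X M p)) :
          Set (Coh.HH X M p)) := by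
  obtain ⟨k₀, hk₀⟩ := H A I X M hM p
  refine ⟨k₀, fun n hn x hx => ?_⟩
  have hx' : map (Formal.modPowπ I (n + 1) M) p x = 0 := hx
  obtain ⟨y, rfl⟩ := exists_of_map_modPowπ_eq_zero I (n + 1) M p x hx'
  obtain ⟨z, hz⟩ := exists_map_idealMulι_eq I (n + 1) M p y
  rw [← hz]
  have hK : I ^ (n + 1) = I ^ (n + 1 - k₀) * I ^ k₀ := by
    rw [← pow_add]
    congr 1
    omega
  have := map_idealMulι_mem (I ^ (n + 1 - k₀)) (I ^ k₀) (I ^ (n + 1)) hK M p
    (hk₀ k₀ le_rfl (n + 1 - k₀)) z
  refine Submodule.smul_mono_left (Ideal.pow_le_pow_right (by omega)) this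

section Over2

variable {A : Type u} [CommRing A] [X.Over (Spec (CommRingCat.of A))]

theorem idealPowIncl_ι (I : Ideal A) {a b : ℕ} (h : a ≤ b) (M : X.Modules) :
    Formal2.idealPowIncl I h M ≫ Formal2.idealPowModι I a M = Formal2.idealPowModι I b M := by
  unfold Formal2.idealPowIncl
  exact kernel.lift_ι _ _ _

theorem idealPowIncl_comp (I : Ideal A) {a b c : ℕ} (h1 : a ≤ b) (h2 : b ≤ c) (M : X.Modules) :
    Formal2.idealPowIncl I h2 M ≫ Formal2.idealPowIncl I h1 M =
      Formal2.idealPowIncl I (h1.trans h2) M := by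
  apply (cancel_mono (Formal2.idealPowModι I a M)).mp
  rw [Category.assoc, idealPowIncl_ι, idealPowIncl_ι, idealPowIncl_ι]

end Over2

/-- The statement of S0837, as a proposition. -/
def Hyp0837 : Prop :=
  ∀ (A : Type u) [CommRing A] [IsNoetherianRing A]
    (I : Ideal A) (X : Scheme.{u}) [X.Over (Spec (CommRingCat.of A))]
    [IsProper (X ↘ Spec (CommRingCat.of A))]
    (F : X.Modules) (_ : Coh.IsCoh F) (p : ℕ),
    ∃ c : ℕ, ∀ (n : ℕ) (_ : c ≤ n),
      (Sheaf.H.map ((SheafOfModules.toSheaf _).map (Formal2.idealPowModι I n F)) p).ker =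
        (Sheaf.H.map ((SheafOfModules.toSheaf _).map
          (Formal2.idealPowIncl I (Nat.sub_le n c) F)) p).ker

/-- S0058 from the statement of S0837. -/
theorem range_completion_map_eq (H : Hyp0837.{u}) (A : Type u) [CommRing A] [IsNoetherianRing A]
    (I : Ideal A) (X : Scheme.{u}) [X.Over (Spec (CommRingCat.of A))]
    [IsProper (X ↘ Spec (CommRingCat.of A))] (M : X.Modules) (hM : Coh.IsCoh M) (p : ℕ) :
    ∃ c : ℕ, ∀ (n k : ℕ) (h : n ≤ k), n + c ≤ k →
      Set.range (Sheaf.H.map ((SheafOfModules.toSheaf X.ringCatSheaf).map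
        ((Formal.completion I M).map (homOfLE h).op)) p) =
          Set.range (Formal.toHHmodPow I M p n) := by
  obtain ⟨c, hc⟩ := H A I X M hM (p + 1)
  refine ⟨c, fun n k h hnk => ?_⟩
  apply Set.Subset.antisymm
  · rintro _ ⟨x, rfl⟩
    have e := completion_map_eq I M h
    have hS := ses_shortExact I (k + 1) M
    have hS' := ses_shortExact I (n + 1) M
    have nat := δ_naturality hS hS' (sesMap I (Nat.succ_le_succ h) M) p x
    have h0 : map (Formal2.idealPowModι I (k + 1) M) (p + 1) (δ hS p x) = 0 := map_f_δ hS p x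
    have hck : c ≤ k + 1 := by omega
    have h1 : map (Formal2.idealPowIncl I (Nat.sub_le (k + 1) c) M) (p + 1) (δ hS p x) = 0 :=
      (hc (k + 1) hck).le h0
    have h3 : map (Formal2.idealPowIncl I (Nat.succ_le_succ h) M) (p + 1) (δ hS p x) = 0 := by
      rw [← idealPowIncl_comp I (show n + 1 ≤ k + 1 - c by omega) (Nat.sub_le (k + 1) c) M,
        map_comp, h1, map_zero]
    obtain ⟨y, hy⟩ := exact₃ hS' p _ (nat.trans h3)
    refine ⟨y, ?_⟩
    change map (Formal.modPowπ I (n + 1) M) p y =
      map ((Formal.completion I M).map (homOfLE h).op) p x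
    rw [e]
    exact hy
  · rintro _ ⟨x, rfl⟩
    refine ⟨map (Formal.modPowπ I (k + 1) M) p x, ?_⟩
    change map ((Formal.completion I M).map (homOfLE h).op) p
      (map (Formal.modPowπ I (k + 1) M) p x) = map (Formal.modPowπ I (n + 1) M) p x
    exact (map_comp (Formal.modPowπ I (k + 1) M)
      ((Formal.completion I M).map (homOfLE h).op) p x).symm.trans
      (congrArg (fun f => map f p x) (modPowπ_completion_map I M h))

section Completion

variable {A : Type u} [CommRing A] [X.Over (Spec (CommRingCat.of A))]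

/-- The transition map of the tower `H^p(X, M/I^(n+1) M)` as a linear map. -/
noncomputable def tL (I : Ideal A) (M : X.Modules) (p n : ℕ) :
    Formal.HHmodPow I M p (n + 1) →ₗ[A] Formal.HHmodPow I M p n :=
  mapₗ A (Formal.modPowTrans I (n + 1) M) p

/-- The map `H^p(X, M) → H^p(X, M/I^(n+1) M)` as a linear map. -/
noncomputable def φL (I : Ideal A) (M : X.Modules) (p n : ℕ) :
    Coh.HH X M p →ₗ[A] Formal.HHmodPow I M p n :=
  mapₗ A (Formal.modPowπ I (n + 1) M) p

theorem tL_apply (I : Ideal A) (M : X.Modules) (p n : ℕ) (x : Formal.HHmodPow I M p (n + 1)) :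
    tL I M p n x = Formal.HHmodPowTrans I M p n x := rfl

theorem φL_apply (I : Ideal A) (M : X.Modules) (p n : ℕ) (x : Coh.HH X M p) :
    φL I M p n x = Formal.toHHmodPow I M p n x := rfl

theorem tL_φL (I : Ideal A) (M : X.Modules) (p n : ℕ) (x : Coh.HH X M p) :
    tL I M p n (φL I M p (n + 1) x) = φL I M p n x :=
  (Formal.HHmap_comp (Formal.modPowπ I (n + 1 + 1) M) (Formal.modPowTrans I (n + 1) M) p x).trans
    (congrArg (fun φ => Sheaf.H.map ((SheafOfModules.toSheaf _).map φ) p x)
      (Formal.modPowπ_trans I (n + 1) M))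

theorem pow_smul_le_ker_φL (I : Ideal A) (M : X.Modules) (p n : ℕ) :
    I ^ (n + 1) • (⊤ : Submodule A (Coh.HH X M p)) ≤ LinearMap.ker (φL I M p n) := by
  rw [Submodule.smul_le]
  intro a ha x _
  rw [LinearMap.mem_ker, LinearMap.map_smul]
  exact smul_eq_zero_of_killedBy (killedBy_modPow I (n + 1) M) ha p _

theorem map_completion_map_of_compatible (I : Ideal A) (M : X.Modules) (p : ℕ)
    (y : ∀ n, Formal.HHmodPow I M p n) (hy : ∀ n, tL I M p n (y (n + 1)) = y n) {n k : ℕ}
    (h : n ≤ k) :
    Sheaf.H.map ((SheafOfModules.toSheaf X.ringCatSheaf).map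
        ((Formal.completion I M).map (homOfLE h).op)) p (y k) = y n := by
  induction k, h using Nat.le_induction with
  | base =>
    exact (congrArg (fun f => map f p (y n)) ((Formal.completion I M).map_id (op n))).trans
      (map_id _ p (y n))
  | succ k hnk ih =>
    have e : (homOfLE (hnk.trans (Nat.le_succ k))).op =
        (homOfLE (Nat.le_add_right k 1)).op ≫ (homOfLE hnk).op := rfl
    have e2 : (Formal.completion I M).map (homOfLE (Nat.le_add_right k 1)).op =
        Formal.modPowTrans I (k + 1) M := by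
      unfold Formal.completion
      exact Functor.ofOpSequence_map_homOfLE_succ _ k
    have e3 : (Formal.completion I M).map (homOfLE (hnk.trans (Nat.le_succ k))).op =
        Formal.modPowTrans I (k + 1) M ≫ (Formal.completion I M).map (homOfLE hnk).op := by
      rw [e, Functor.map_comp, e2]
      rfl
    refine (congrArg (fun f => map f p (y (k + 1))) e3).trans ?_
    refine (map_comp (Formal.modPowTrans I (k + 1) M)
      ((Formal.completion I M).map (homOfLE hnk).op) p (y (k + 1))).trans ?_
    have := hy k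
    rw [tL_apply] at this
    exact (congrArg _ this).trans ih

/-- S0059 (canonical form) from the statements of S2435 and S0837: the `I`-adic completion of
`H^p(X, M)` maps isomorphically onto `lim_n H^p(X, M/I^(n+1) M)`. -/
theorem exists_addEquiv_HHlim (H1 : Hyp2435.{u}) (H2 : Hyp0837.{u})
    (A : Type u) [CommRing A] [IsNoetherianRing A] (I : Ideal A)
    (X : Scheme.{u}) [X.Over (Spec (CommRingCat.of A))] [IsProper (X ↘ Spec (CommRingCat.of A))]
    (M : X.Modules) (hM : Coh.IsCoh M) (p : ℕ) :
    ∃ e : AdicCompletion I (Coh.HH X M p) ≃+ Formal.HHlim I M p,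
      ∀ x : Coh.HH X M p, e (AdicCompletion.of I _ x) = Formal.toHHlim I M p x := by
  obtain ⟨c, hc⟩ := ker_toHHmodPow_subset H1 A I X M hM p
  obtain ⟨c', hc'⟩ := range_completion_map_eq H2 A I X M hM p
  have h2 : ∀ n, c ≤ n →
      LinearMap.ker (φL I M p n) ≤ I ^ (n - c) • (⊤ : Submodule A (Coh.HH X M p)) :=
    fun n hn x hx => hc n hn hx
  have h3 : ∀ y : ∀ n, Formal.HHmodPow I M p n, (∀ n, tL I M p n (y (n + 1)) = y n) →
      ∀ n, y n ∈ LinearMap.range (φL I M p n) := by
    intro y hy n
    have h := map_completion_map_of_compatible I M p y hy (Nat.le_add_right n c')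
    have hmem : y n ∈ Set.range (Formal.toHHmodPow I M p n) := by
      rw [← hc' n (n + c') (Nat.le_add_right n c') le_rfl]
      exact ⟨_, h⟩
    obtain ⟨x, hx⟩ := hmem
    exact ⟨x, hx⟩
  obtain ⟨e, he⟩ := FormalFnAlg20.exists_addEquiv I (tL_φL I M p) (pow_smul_le_ker_φL I M p) c h2 h3
    (Formal.HHlim I M p) (fun y => Iff.rfl)
  refine ⟨e, fun x => ?_⟩
  apply Subtype.ext
  funext n
  rw [he]
  rfl

/-- If `H^p(X, M)` is `I`-adically complete, `H^p(X, M) → lim_n H^p(X, M/I^(n+1) M)` is bijective. -/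
theorem bijective_toHHlim_of_bijective_of (H1 : Hyp2435.{u}) (H2 : Hyp0837.{u})
    (A : Type u) [CommRing A] [IsNoetherianRing A] (I : Ideal A)
    (X : Scheme.{u}) [X.Over (Spec (CommRingCat.of A))] [IsProper (X ↘ Spec (CommRingCat.of A))]
    (M : X.Modules) (hM : Coh.IsCoh M) (p : ℕ)
    (hof : Function.Bijective (AdicCompletion.of I (Coh.HH X M p))) :
    Function.Bijective (Formal.toHHlim I M p) := by
  obtain ⟨e, he⟩ := exists_addEquiv_HHlim H1 H2 A I X M hM p
  have : ⇑(Formal.toHHlim I M p) = e ∘ AdicCompletion.of I (Coh.HH X M p) :=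
    funext fun x => (he x).symm
  rw [this]
  exact e.bijective.comp hof

open TensorProduct in
/-- A finite module over a Noetherian `I`-adically complete ring is `I`-adically complete. -/
theorem of_bijective_of_finite {A : Type u} [CommRing A] [IsNoetherianRing A] (I : Ideal A)
    [IsAdicComplete I A] (N : Type u) [AddCommGroup N] [Module A N] [Module.Finite A N] :
    Function.Bijective (AdicCompletion.of I N) := by
  let e1 : N ≃ₗ[A] A ⊗[A] N := (TensorProduct.lid A N).symm
  let e2 : A ⊗[A] N ≃ₗ[A] AdicCompletion I A ⊗[A] N :=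
    TensorProduct.congr (AdicCompletion.ofLinearEquiv I A) (LinearEquiv.refl A N)
  have h3 := AdicCompletion.ofTensorProduct_bijective_of_finite_of_isNoetherian I N
  have : ⇑(AdicCompletion.of I N) = ⇑(AdicCompletion.ofTensorProduct I N) ∘ e2 ∘ e1 := by
    funext x
    have h1 : (AdicCompletion.of I A) 1 = 1 := rfl
    simp [e1, e2, AdicCompletion.ofLinearEquiv, h1]
  rw [this]
  exact h3.comp (e2.bijective.comp e1.bijective)

/-- S0003 from the statements of S0002, S2435 and S0837. -/
theorem bijective_toHHlim (H0 : ProperFinHyp.Hyp.{u}) (H1 : Hyp2435.{u}) (H2 : Hyp0837.{u})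
    (A : Type u) [CommRing A] [IsNoetherianRing A] (I : Ideal A) [IsAdicComplete I A]
    (X : Scheme.{u}) [X.Over (Spec (CommRingCat.of A))] [IsProper (X ↘ Spec (CommRingCat.of A))]
    (M : X.Modules) (hM : Coh.IsCoh M) (p : ℕ) :
    Function.Bijective (Formal.toHHlim I M p) := by
  have : Module.Finite A (Coh.HH X M p) := H0 A X M hM p
  exact bijective_toHHlim_of_bijective_of H1 H2 A I X M hM p (of_bijective_of_finite I _)

end Completion

end Groth.Agent.Lib.FormalFn20
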