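import Groth.Agent.Lib.ReesCohN
import Groth.Agent.Lib.CohSigmaFin

/-!
# K2b (S2435), part O: EGA III 3.3.2 in generation form (lead)

`⊕_k H^p(X, m^k F)` is a finitely generated graded module over the Rees algebra, in the form: there is
`k₀` such that for `k ≥ k₀` and all `r`, `H^p(X, m^{r+k}F)` is generated by the images of the
multiplication maps `a : H^p(X, m^k F) → H^p(X, m^{r+k} F)`, `a ∈ m^r`.
-/

set_option autoImplicit false
set_option linter.style.haveILetI false
set_option linter.unusedSectionVars false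
universe u
open CategoryTheory CategoryTheory.Limits AlgebraicGeometry Opposite TopologicalSpace

namespace Groth.Agent.Lib.ReesCoh

open Scheme.Modules Formal CohIII Groth.Agent.Lib.ReesGen

variable (A : Type u) [CommRing A] (m : Ideal A) (X : Scheme.{u}) [X.Over (Spec (CommRingCat.of A))]
  (F : X.Modules) [F.IsQuasicoherent] (p : ℕ)

theorem exists_generation_coh [QuasiSeparatedSpace X] [CompactSpace X]
    [IsAffineHom (pullback.diagonal (terminal.from X))]
    [Module.Finite (RB A m) (HB A m X F p)] :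
    ∃ k₀ : ℕ, ∀ k : ℕ, k₀ ≤ k → ∀ (r : ℕ) (y : Hk A m X F p (r + k)),
      y ∈ AddSubgroup.closure (⋃ a : ↥(m ^ r), Set.range (μk A m X F p r k a)) := by
  haveI := isIso_Φ A m X F
  obtain ⟨e₁, he₁⟩ := Groth.Agent.Lib.CechPushEnd.exists_addEquiv_push_end_of_isAffineHom
    (πB A m X) (GG A m X F) p
  let inc : ∀ k, Hk A m X F p k →+ HB A m X F p := fun k =>
    (e₁.symm : _ →+ _).comp ((Hm (Φ A m X F) p).comp (Hm (Sigma.ι (Nk A m X F) (ULift.up k)) p))
  let pr : ∀ k, HB A m X F p →+ Hk A m X F p k := fun k =>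
    (Hm (prN A m X F (ULift.up k)) p).comp ((Hm (inv (Φ A m X F)) p).comp (e₁ : _ →+ _))
  refine Groth.Agent.Lib.ReesGen.exists_generation m (HB A m X F p) (Hk A m X F p) inc pr
    ?_ ?_ (μk A m X F p) ?_ ?_
  · -- pr_inc
    intro k x
    change Hm (prN A m X F (ULift.up k)) p (Hm (inv (Φ A m X F)) p (e₁ (e₁.symm
      (Hm (Φ A m X F) p (Hm (Sigma.ι (Nk A m X F) (ULift.up k)) p x))))) = x
    rw [AddEquiv.apply_symm_apply, Hm_comp, Hm_comp, Hm_comp]
    have h : Sigma.ι (Nk A m X F) (ULift.up k) ≫ Φ A m X F ≫ inv (Φ A m X F) ≫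
        prN A m X F (ULift.up k) = 𝟙 _ := by
      rw [IsIso.hom_inv_id_assoc, ι_prN_self]
    rw [Hm_eq_of_eq h, Hm_id]
  · -- fin_supp
    intro h
    obtain ⟨S, y, hy⟩ := Groth.Agent.Lib.CohSigmaFin.exists_finset_HH_sigma (Nk A m X F) p
      (Hm (inv (Φ A m X F)) p (e₁ h))
    refine ⟨(S.image ULift.down).sup id + 1, ?_⟩
    intro k hk
    change Hm (prN A m X F (ULift.up k)) p (Hm (inv (Φ A m X F)) p (e₁ h)) = 0
    rw [hy, map_sum]
    refine Finset.sum_eq_zero ?_
    intro i hi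
    change Hm (prN A m X F (ULift.up k)) p (Hm (Sigma.ι (Nk A m X F) i) p (y i)) = 0
    rw [Hm_comp]
    have hne : i ≠ ULift.up k := by
      rintro rfl
      have : (ULift.up k : ULift.{u} ℕ).down ≤ (S.image ULift.down).sup id :=
        Finset.le_sup (f := id) (Finset.mem_image_of_mem ULift.down hi)
      simp only at this
      omega
    rw [Hm_eq_of_eq (ι_prN_of_ne A m X F hne), Hm_zero]
  · -- act_hi
    intro r k a h
    change Hm (prN A m X F (ULift.up (r + k))) p (Hm (inv (Φ A m X F)) p (e₁ (mono m r a • h))) =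
      Hm (actNk A m X F r a (ULift.up k)) p (Hm (prN A m X F (ULift.up k)) p
        (Hm (inv (Φ A m X F)) p (e₁ h)))
    rw [smul_HB]
    have h1 : e₁ (Hm (smulMod (RB A m) (GG A m X F) (mono m r a)) p h) =
        Hm (actG A m X F (mono m r a)) p (e₁ h) := he₁ _ h
    rw [h1, Hm_comp, Hm_comp, Hm_comp, Hm_comp]
    exact Hm_eq_of_eq (key_hi A m X F r k a) p (e₁ h)
  · -- act_lo
    intro r j a h hj
    change Hm (prN A m X F (ULift.up j)) p (Hm (inv (Φ A m X F)) p (e₁ (mono m r a • h))) = 0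
    rw [smul_HB]
    have h1 : e₁ (Hm (smulMod (RB A m) (GG A m X F) (mono m r a)) p h) =
        Hm (actG A m X F (mono m r a)) p (e₁ h) := he₁ _ h
    rw [h1, Hm_comp, Hm_comp, Hm_eq_of_eq (key_lo A m X F r j a hj), Hm_zero]

end Groth.Agent.Lib.ReesCoh
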