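import Groth.Agent.Lib.KilledBySections
import Groth.Agent.Lib.H43GVMain
import Groth.Agent.S0002
import Groth.Agent.S0057

/-!
# Vanishing of cohomology above the fibre dimension (helper10)

* `subsingleton_HH_modPow` : `X` over `Spec A` with Noetherian underlying space, `I` an ideal of `A`
  whose zero locus has preimage of dimension `≤ d` in `X`: `H^p(X, M / Iⁿ M) = 0` for `p > d`
  (Grothendieck vanishing + support).
* `subsingleton_HH_of_fibre_dim_le` : `A` Noetherian, `X` proper over `Spec A`, all fibres over closed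
  points of dimension `≤ d`, `M` coherent, `p > d`: `H^p(X, M) = 0`
  (finiteness S0002 + formal functions in the form S0057 + Nakayama).
* `subsingleton_HH_of_fibre_dim_le'` : the same for a proper `f : X ⟶ Y`, `Y` affine Noetherian.
* `dim_preimage_restrict_le` : fibres of `f ∣_ W` embed in the fibres of `f`.
-/

set_option autoImplicit false
universe u
open CategoryTheory CategoryTheory.Limits AlgebraicGeometry Opposite TopologicalSpace

namespace Groth.Agent.Lib.FibreDimVanish

section ModPow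

variable (A : Type u) [CommRing A] (I : Ideal A) (X : Scheme.{u}) [X.Over (Spec (CommRingCat.of A))]

theorem subsingleton_HH_modPow [NoetherianSpace X] (d : ℕ)
    (hd : topologicalKrullDim
      ↥((X ↘ Spec (CommRingCat.of A)) ⁻¹' (PrimeSpectrum.zeroLocus (I : Set A))) ≤ d)
    (M : X.Modules) (n p : ℕ) (hp : d < p) :
    Subsingleton (Coh.HH X (Formal.modPow I n M) p) := by
  have : NoetherianSpace X.toTopCat := ‹NoetherianSpace X›
  let Z : Set X.toTopCat :=
    (X ↘ Spec (CommRingCat.of A)) ⁻¹' (PrimeSpectrum.zeroLocus (I : Set A))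
  have hZ : IsClosed Z :=
    (PrimeSpectrum.isClosed_zeroLocus (I : Set A)).preimage
      (X ↘ Spec (CommRingCat.of A)).continuous
  have hG : Groth.Agent.Lib.H43GV.SuppIn (Coh.toAb (Formal.modPow I n M)) Z := by
    intro V hV
    exact Groth.Agent.Lib.KilledBySections.subsingleton_sections_modPow I n M V hV
  have hdim : topologicalKrullDim (TopCat.of Z) < ((d + 1 : ℕ) : WithBot ℕ∞) := by
    refine lt_of_le_of_lt hd ?_
    exact_mod_cast Nat.lt_succ_self d
  have hN : NoetherianSpace (TopCat.of Z) := inferInstanceAs (NoetherianSpace ↥Z)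
  exact Groth.Agent.Lib.H43GV.vanGE_of_suppIn_closed Z hZ _ hG (d + 1)
    (fun G' => Groth.Agent.Lib.H43GV.main (d + 1) (TopCat.of Z) hdim G') p hp

end ModPow

section Core

variable (A : Type u) [CommRing A] [IsNoetherianRing A] (X : Scheme.{u})
  [X.Over (Spec (CommRingCat.of A))] [IsProper (X ↘ Spec (CommRingCat.of A))]

theorem subsingleton_HH_of_fibre_dim_le (d : ℕ)
    (hd : ∀ z : Spec (CommRingCat.of A),
      topologicalKrullDim ↥((X ↘ Spec (CommRingCat.of A)) ⁻¹' {z}) ≤ d)
    (M : X.Modules) (hM : Coh.IsCoh M) (p : ℕ) (hp : d < p) :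
    Subsingleton (Coh.HH X M p) := by
  have hfin : Module.Finite A (Coh.HH X M p) := Groth.Agent.S0002.result A X M hM p
  have hLN : IsLocallyNoetherian X :=
    LocallyOfFiniteType.isLocallyNoetherian (X ↘ Spec (CommRingCat.of A))
  have hcomp : CompactSpace X :=
    QuasiCompact.compactSpace_of_compactSpace (X ↘ Spec (CommRingCat.of A))
  have hNoeth : IsNoetherian X := { }
  by_contra hns
  rw [not_subsingleton_iff_nontrivial] at hns
  -- a maximal ideal containing the annihilator
  have hann : Module.annihilator A (Coh.HH X M p) ≠ ⊤ := by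
    intro h
    have h1 : (1 : A) ∈ Module.annihilator A (Coh.HH X M p) := by rw [h]; trivial
    obtain ⟨x, hx⟩ := exists_ne (0 : Coh.HH X M p)
    apply hx
    have := Module.mem_annihilator.mp h1 x
    rwa [one_smul] at this
  obtain ⟨m, hm, hle⟩ := Ideal.exists_le_maximal _ hann
  -- vanishing of the cohomology of the thickenings of the fibre
  have hzl : PrimeSpectrum.zeroLocus (m : Set A) = {⟨m, hm.isPrime⟩} := by
    ext q
    rw [PrimeSpectrum.mem_zeroLocus, Set.mem_singleton_iff]
    constructor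
    · intro h
      ext1
      exact (hm.eq_of_le q.2.ne_top h).symm
    · intro h
      rw [h]
  have hvan : ∀ n : ℕ, Subsingleton (Coh.HH X (Formal.modPow m n M) p) := by
    intro n
    refine subsingleton_HH_modPow A m X d ?_ M n p hp
    rw [hzl]
    exact hd _
  obtain ⟨c, hc⟩ := Groth.Agent.S0057.result A m X M hM p
  have htop : (⊤ : Submodule A (Coh.HH X M p)) ≤ m • (⊤ : Submodule A (Coh.HH X M p)) := by
    intro x _
    have h1 := hc (c + 1) (Nat.le_succ c)
    have hx : x ∈ ((Formal.toHHmodPow m M p (c + 1)).ker : Set (Coh.HH X M p)) := by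
      have := hvan (c + 1 + 1)
      exact Subsingleton.elim _ _
    have h2 := h1 hx
    have e : c + 1 - c = 1 := by omega
    rw [e, pow_one] at h2
    exact h2
  obtain ⟨r, hr1, hr2⟩ := Submodule.exists_sub_one_mem_and_smul_eq_zero_of_fg_of_le_smul m
    (⊤ : Submodule A (Coh.HH X M p)) Module.Finite.fg_top htop
  have hrm : r ∈ m := hle (Module.mem_annihilator.mpr fun x => hr2 x trivial)
  have h1m : (1 : A) ∈ m := by
    have := m.sub_mem hrm hr1
    rwa [sub_sub_cancel] at this
  exact hm.ne_top ((Ideal.eq_top_iff_one m).mpr h1m)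

end Core

section SchemeForm

variable {X Y : Scheme.{u}} (f : X ⟶ Y)

theorem subsingleton_HH_of_fibre_dim_le' [IsProper f] [IsAffine Y] [IsLocallyNoetherian Y] (d : ℕ)
    (hd : ∀ z : Y, topologicalKrullDim ↥(f ⁻¹' {z}) ≤ d)
    (M : X.Modules) (hM : Coh.IsCoh M) (p : ℕ) (hp : d < p) :
    Subsingleton (Coh.HH X M p) := by
  have : IsNoetherianRing Γ(Y, ⊤) :=
    IsLocallyNoetherian.component_noetherian ⟨⊤, isAffineOpen_top Y⟩
  let _ : X.Over (Spec (CommRingCat.of Γ(Y, ⊤))) := ⟨f ≫ Y.isoSpec.hom⟩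
  have : IsProper (X ↘ Spec (CommRingCat.of Γ(Y, ⊤))) :=
    (inferInstance : IsProper (f ≫ Y.isoSpec.hom))
  refine subsingleton_HH_of_fibre_dim_le Γ(Y, ⊤) X d (fun z => ?_) M hM p hp
  have hset : ((X ↘ Spec (CommRingCat.of Γ(Y, ⊤))) ⁻¹' {z} : Set X) =
      f ⁻¹' {Y.isoSpec.inv z} := by
    ext x
    change (f ≫ Y.isoSpec.hom) x = z ↔ f x = Y.isoSpec.inv z
    rw [Scheme.Hom.comp_apply]
    constructor
    · intro h
      rw [← h]
      exact (congr($(Y.isoSpec.hom_inv_id) (f x))).symm
    · intro h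
      rw [h]
      exact congr($(Y.isoSpec.inv_hom_id) z)
  rw [hset]
  exact hd _

/-- the fibres of `f ∣_ W` embed in the fibres of `f` -/
theorem dim_preimage_restrict_le (W : Y.Opens) (z : W) :
    topologicalKrullDim ↥((f ∣_ W) ⁻¹' {z}) ≤ topologicalKrullDim ↥(f ⁻¹' {(z : Y)}) := by
  let φ : ↥((f ∣_ W) ⁻¹' {z}) → ↥(f ⁻¹' {(z : Y)}) := fun x =>
    ⟨(f ⁻¹ᵁ W).ι x.1, by
      have hx : (f ∣_ W) x.1 = z := x.2
      change f ((f ⁻¹ᵁ W).ι x.1) = (z : Y)
      have := congr($(morphismRestrict_ι f W) x.1)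
      rw [Scheme.Hom.comp_apply, Scheme.Hom.comp_apply] at this
      rw [← this, hx]
      rfl⟩
  have hφ : Topology.IsInducing φ := by
    have h1 : Topology.IsInducing (fun x : ↥((f ∣_ W) ⁻¹' {z}) => (f ⁻¹ᵁ W).ι x.1) :=
      (f ⁻¹ᵁ W).ι.isOpenEmbedding.isInducing.comp Topology.IsInducing.subtypeVal
    exact Topology.IsInducing.of_comp (by fun_prop) continuous_subtype_val h1
  exact hφ.topologicalKrullDim_le

end SchemeForm

end Groth.Agent.Lib.FibreDimVanish
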