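import Groth.Agent.Lib.FlatCrit
import Groth.Agent.Lib.H77GenFlatAlg
import Mathlib

/-!
# Critère de platitude par fibres, the case `C = B` (helper88)

For a finitely presented module `N` over a local ring `R` which is flat over a base `A`, flatness
of the fibre `N/pN` over `R/pR` implies that `N` is free (Nakayama; no Noetherian hypothesis).
Globally: `M` finitely presented over `B`, flat over `A`, fibrewise flat over `B ⊗ κ(p)` ⇒ flat
over `B`.
-/

set_option autoImplicit false
set_option maxHeartbeats 400000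

namespace Groth.Agent.Lib.FibreFree88

open TensorProduct Function Groth.Agent.Lib.FlatCrit

universe u

section Local

variable {A R N : Type u} [CommRing A] [CommRing R] [IsLocalRing R] [Algebra A R]
  [AddCommGroup N] [Module R N] [Module A N] [IsScalarTower A R N]
  [Module.FinitePresentation R N] [Module.Flat A N]

/-- Relative Nakayama: `N` finitely presented over the local ring `R`, flat over `A`, and `N/pN`
flat over `R/pR` for an ideal `p` of `A` with `pR ≠ R`. Then `N` is free over `R`. -/
theorem free_of_flat_of_fibre_flat (p : Ideal A)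
    (hp : p.map (algebraMap A R) ≤ IsLocalRing.maximalIdeal R)
    [Module.Flat (R ⧸ p.map (algebraMap A R)) ((R ⧸ p.map (algebraMap A R)) ⊗[R] N)] :
    Module.Free R N := by
  set I := p.map (algebraMap A R) with hI
  have h1 : Injective (I.subtype.rTensor N) :=
    rTensor_map_injective p
      (Module.Flat.rTensor_preserves_injective_linearMap _ (Submodule.subtype_injective _))
  have h2 : Tor1Zero R (R ⧸ I) N := (tor1Zero_quotient_iff I).mpr h1
  have h3 : Tor1Zero R (R ⧸ IsLocalRing.maximalIdeal R) N := by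
    apply tor1Zero_of_smul_eq_bot I h2
    rw [eq_bot_iff]
    intro x hx
    refine Submodule.smul_induction_on hx ?_ ?_
    · intro a ha y _
      obtain ⟨y, rfl⟩ := Ideal.Quotient.mk_surjective y
      rw [Submodule.mem_bot]
      change Ideal.Quotient.mk _ (a * y) = 0
      rw [Ideal.Quotient.eq_zero_iff_mem]
      exact Ideal.mul_mem_right _ _ (hp ha)
    · intro a b ha hb
      exact Submodule.add_mem _ ha hb
  exact Module.free_of_maximalIdeal_rTensor_injective
    ((tor1Zero_quotient_iff (IsLocalRing.maximalIdeal R)).mp h3)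

end Local

section Transfer

variable {B B₁ B₂ M : Type u} [CommRing B] [CommRing B₁] [CommRing B₂] [Algebra B B₁]
  [Algebra B B₂] [AddCommGroup M] [Module B M]

/-- Flatness of a base change passes along an algebra map `B₁ → B₂` over `B`. -/
theorem flat_baseChange_of_algHom (φ : B₁ →ₐ[B] B₂) [Module.Flat B₁ (B₁ ⊗[B] M)] :
    Module.Flat B₂ (B₂ ⊗[B] M) := by
  letI : Algebra B₁ B₂ := φ.toRingHom.toAlgebra
  haveI : IsScalarTower B B₁ B₂ := IsScalarTower.of_algebraMap_eq (fun x => (φ.commutes x).symm)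
  have h1 : Module.Flat B₂ (B₂ ⊗[B₁] (B₁ ⊗[B] M)) := inferInstance
  exact Module.Flat.of_linearEquiv (AlgebraTensorModule.cancelBaseChange B B₁ B₂ B₂ M).symm

end Transfer

section Global

variable {A B M : Type u} [CommRing A] [CommRing B] [Algebra A B]
  [AddCommGroup M] [Module B M] [Module A M] [IsScalarTower A B M]
  [Module.FinitePresentation B M] [Module.Flat A M]

/-- **Critère de platitude par fibres, case `C = B`**: `M` finitely presented over `B`, flat over
`A`, and every fibre `(B ⊗ κ(p)) ⊗_B M` flat over `B ⊗ κ(p)`. Then `M` is flat over `B`. -/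
theorem flat_of_fibre_flat
    (h : ∀ (p : Ideal A) [p.IsPrime],
      Module.Flat (B ⊗[A] p.ResidueField) ((B ⊗[A] p.ResidueField) ⊗[B] M)) :
    Module.Flat B M := by
  apply Module.flat_of_localized_maximal
  intro Q hQ
  have hQp : Q.IsPrime := hQ.isPrime
  let R := Localization.AtPrime Q
  let N := LocalizedModule Q.primeCompl M
  let p : Ideal A := Q.comap (algebraMap A B)
  have hflatN : Module.Flat A N :=
    Groth.Agent.Lib.H77GenFlatAlg.flat_of_isLocalizedModule A (M := M) (N := N) Q.primeCompl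
      (LocalizedModule.mkLinearMap Q.primeCompl M)
  let I : Ideal R := p.map (algebraMap A R)
  have hI : I ≤ IsLocalRing.maximalIdeal R := by
    rw [Ideal.map_le_iff_le_comap]
    intro a ha
    rw [Ideal.mem_comap, IsScalarTower.algebraMap_apply A B R,
      ← Localization.AtPrime.map_eq_maximalIdeal]
    exact Ideal.mem_map_of_mem _ ha
  -- the map from the fibre ring
  have hf₁ : p ≤ RingHom.ker (Algebra.ofId A (R ⧸ I) : A →ₐ[A] R ⧸ I) := by
    intro a ha
    rw [RingHom.mem_ker]
    change algebraMap A (R ⧸ I) a = 0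
    rw [IsScalarTower.algebraMap_apply A R (R ⧸ I), Ideal.Quotient.algebraMap_eq,
      Ideal.Quotient.eq_zero_iff_mem]
    exact Ideal.mem_map_of_mem _ ha
  have hf₂ : p.primeCompl ≤ (IsUnit.submonoid (R ⧸ I)).comap
      (Algebra.ofId A (R ⧸ I) : A →ₐ[A] R ⧸ I) := by
    intro a ha
    rw [Submonoid.mem_comap]
    change IsUnit (algebraMap A (R ⧸ I) a)
    rw [IsScalarTower.algebraMap_apply A R (R ⧸ I), IsScalarTower.algebraMap_apply A B R]
    apply IsUnit.map
    exact IsLocalization.map_units R (⟨algebraMap A B a, ha⟩ : Q.primeCompl)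
  let φ : (B ⊗[A] p.ResidueField) →ₐ[B] (R ⧸ I) :=
    Algebra.TensorProduct.lift (Algebra.ofId B (R ⧸ I))
      (Ideal.ResidueField.liftₐ p (Algebra.ofId A (R ⧸ I)) hf₁ hf₂) (fun _ _ => Commute.all _ _)
  haveI := h p
  have h2 : Module.Flat (R ⧸ I) ((R ⧸ I) ⊗[B] M) := flat_baseChange_of_algHom φ
  -- identify with `(R/I) ⊗[R] N`
  have hbc : IsBaseChange R (LocalizedModule.mkLinearMap Q.primeCompl M) :=
    (isLocalizedModule_iff_isBaseChange Q.primeCompl R _).mp inferInstance
  let e3 : R ⊗[B] M ≃ₗ[R] N := hbc.equiv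
  let e2 : (R ⧸ I) ⊗[R] (R ⊗[B] M) ≃ₗ[R ⧸ I] (R ⧸ I) ⊗[B] M :=
    AlgebraTensorModule.cancelBaseChange B R (R ⧸ I) (R ⧸ I) M
  let e4 : (R ⧸ I) ⊗[R] (R ⊗[B] M) ≃ₗ[R ⧸ I] (R ⧸ I) ⊗[R] N :=
    AlgebraTensorModule.congr (LinearEquiv.refl (R ⧸ I) (R ⧸ I)) e3
  haveI h3 : Module.Flat (R ⧸ I) ((R ⧸ I) ⊗[R] N) :=
    Module.Flat.of_linearEquiv (e4.symm ≪≫ₗ e2)
  haveI := hflatN
  have hfree : Module.Free R N := free_of_flat_of_fibre_flat (A := A) (R := R) (N := N) p hI
  have hflatR : Module.Flat R N := inferInstance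
  exact Module.Flat.trans B R N

end Global

end Groth.Agent.Lib.FibreFree88
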