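import Groth.Agent.Lib.ReesCohB
import Mathlib.AlgebraicGeometry.Fiber

set_option autoImplicit false
universe u

open CategoryTheory CategoryTheory.Limits AlgebraicGeometry Opposite

namespace Groth.Agent.Lib.FibreIso21

open Groth.Agent.Lib.ReesCoh

variable {X Y : Scheme.{u}} (f : X ⟶ Y) (z : Y)
variable (A : Type u) [CommRing A] {X' : Scheme.{u}} [X'.Over (Spec (CommRingCat.of A))]
  (j : X' ⟶ X) (i : Spec (CommRingCat.of A) ⟶ Y)
  (hpb : IsPullback j (X' ↘ Spec (CommRingCat.of A)) f i)
  [Algebra A (Y.residueField z)]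
  (hz : specAlg A (Y.residueField z) ≫ i = Y.fromSpecResidueField z)

include hpb hz in
theorem fiber_w : f.fiberι z ≫ f = (f.fiberToSpecResidueField z ≫ specAlg A (Y.residueField z)) ≫ i := by
  rw [Category.assoc, hz, Scheme.Hom.fiber_fac]

/-- the map from the fibre to `X' = f⁻¹(Spec A)` -/
noncomputable def fiberLift : f.fiber z ⟶ X' :=
  hpb.lift (f.fiberι z) (f.fiberToSpecResidueField z ≫ specAlg A (Y.residueField z))
    (fiber_w f z A j i hpb hz)

@[reassoc]
theorem fiberLift_j : fiberLift f z A j i hpb hz ≫ j = f.fiberι z := hpb.lift_fst _ _ _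

@[reassoc]
theorem fiberLift_over : fiberLift f z A j i hpb hz ≫ (X' ↘ Spec (CommRingCat.of A)) =
    f.fiberToSpecResidueField z ≫ specAlg A (Y.residueField z) := hpb.lift_snd _ _ _

theorem isPullback_fiberLift :
    IsPullback (fiberLift f z A j i hpb hz) (f.fiberToSpecResidueField z)
      (X' ↘ Spec (CommRingCat.of A)) (specAlg A (Y.residueField z)) := by
  refine IsPullback.of_right (h₁₂ := j) (h₂₂ := i) ?_ (fiberLift_over f z A j i hpb hz) hpb
  rw [fiberLift_j, hz]
  exact IsPullback.of_hasPullback f (Y.fromSpecResidueField z)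

/-- the fibre of `f` at `z` is the base change of `X' = f⁻¹(Spec A)` to the residue field -/
noncomputable def fiberIso : f.fiber z ≅ bc A (Y.residueField z) X' :=
  (isPullback_fiberLift f z A j i hpb hz).isoPullback

@[reassoc]
theorem fiberIso_hom_bcπ : (fiberIso f z A j i hpb hz).hom ≫ bcπ A (Y.residueField z) X' =
    fiberLift f z A j i hpb hz :=
  (isPullback_fiberLift f z A j i hpb hz).isoPullback_hom_fst

@[reassoc]
theorem fiberIso_hom_bcπ_j : (fiberIso f z A j i hpb hz).hom ≫ bcπ A (Y.residueField z) X' ≫ j =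
    f.fiberι z := by
  rw [fiberIso_hom_bcπ_assoc, fiberLift_j]

@[reassoc]
theorem fiberIso_hom_over : (fiberIso f z A j i hpb hz).hom ≫
    (bc A (Y.residueField z) X' ↘ Spec (CommRingCat.of (Y.residueField z))) =
    f.fiberToSpecResidueField z :=
  (isPullback_fiberLift f z A j i hpb hz).isoPullback_hom_snd

end Groth.Agent.Lib.FibreIso21
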