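import Groth.Agent.Lib.SmoothFibreRel
import Groth.Agent.Lib.SmoothLocusBC
import Groth.Agent.Lib.EtaleLocusBC
import Groth.Agent.Lib.H80EtaleStalk
import Groth.Agent.Lib.EtaleDescend45
import Groth.Prelude.Def_ega3

/-!
# Relative fibre criterion for smoothness and étaleness (EGA IV 17.8.2), scheme level (helper37)

For `f : X ⟶ Y`, `g : Y ⟶ S` with `g` locally of finite type and `f ≫ g` locally of finite
presentation, a point `s : S` and a cartesian square `P = X ×_Y Y_s`:

* `formallySmooth_stalkMap_of_fibre`: if `f ≫ g` is flat at `x = fst x'` and `snd : P ⟶ Y_s` is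
  smooth at `x'` then `f` is smooth at `x`.
* `formallySmooth_stalkMap_iff_fibre`: the iff version.
* `smooth_of_fibres`, `etale_of_fibres`, `flat_stalkMap_of_fibres`: global versions.
-/

set_option autoImplicit false
universe u

open CategoryTheory Limits AlgebraicGeometry TensorProduct

namespace Groth.Agent.Lib.SmoothFibreRelSch

open Groth.Agent.Lib.UnramifiedLocusBC Groth.Agent.Lib.SmoothFibreRel

lemma fromSpecResidueField_appLE {S : Scheme.{u}} (s : S) (V : S.Opens) (hV : IsAffineOpen V)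
    (hs : s ∈ V) (e : ⊤ ≤ (S.fromSpecResidueField s) ⁻¹ᵁ V) :
    (S.fromSpecResidueField s).appLE V ⊤ e =
      S.evaluation V s hs ≫ (Scheme.ΓSpecIso (S.residueField s)).inv := by
  apply Spec.map_injective
  rw [← cancel_mono hV.fromSpec,
    IsAffineOpen.SpecMap_appLE_fromSpec _ hV (isAffineOpen_top _) e, IsAffineOpen.fromSpec_top,
    Scheme.isoSpec_Spec_inv, Scheme.fromSpecResidueField, ← hV.fromSpecStalk_eq_fromSpecStalk hs,
    IsAffineOpen.fromSpecStalk, ← Scheme.germ_residue, Spec.map_comp, Spec.map_comp]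
  simp only [Category.assoc]

lemma fromSpecResidueField_appLE_props {S : Scheme.{u}} (s : S) (V : S.Opens)
    (hV : IsAffineOpen V) (hs : s ∈ V) (e : ⊤ ≤ (S.fromSpecResidueField s) ⁻¹ᵁ V) :
    (∀ t ∉ (hV.primeIdealOf ⟨s, hs⟩).asIdeal,
      IsUnit (((S.fromSpecResidueField s).appLE V ⊤ e).hom t)) ∧
    (∀ c, ∃ t ∉ (hV.primeIdealOf ⟨s, hs⟩).asIdeal, ∃ r,
      ((S.fromSpecResidueField s).appLE V ⊤ e).hom t * c =
        ((S.fromSpecResidueField s).appLE V ⊤ e).hom r) := by
  rw [fromSpecResidueField_appLE s V hV hs e]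
  constructor
  · intro t ht
    rw [CommRingCat.hom_comp, RingHom.comp_apply]
    refine IsUnit.map _ ?_
    rw [isUnit_iff_ne_zero]
    refine (Scheme.evaluation_ne_zero_iff_mem_basicOpen S s hs t).2 ?_
    rw [mem_basicOpen_iff_primeIdealOf hV t hs]
    exact ht
  · intro c
    obtain ⟨c₀, rfl⟩ : ∃ c₀, (Scheme.ΓSpecIso (S.residueField s)).inv.hom c₀ = c :=
      ⟨(Scheme.ΓSpecIso (S.residueField s)).hom.hom c, by
        rw [← CommRingCat.comp_apply, Iso.hom_inv_id]; rfl⟩
    obtain ⟨z, rfl⟩ := S.residue_surjective s c₀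
    let _ := (S.presheaf.germ V s hs).hom.toAlgebra
    have := hV.isLocalization_stalk ⟨s, hs⟩
    obtain ⟨⟨r, t⟩, hrt⟩ := IsLocalization.surj (hV.primeIdealOf ⟨s, hs⟩).asIdeal.primeCompl z
    refine ⟨t.1, t.2, r, ?_⟩
    simp only [CommRingCat.hom_comp, RingHom.comp_apply]
    rw [← map_mul]
    congr 1
    rw [← Scheme.germ_residue, CommRingCat.hom_comp, RingHom.comp_apply, RingHom.comp_apply,
      ← map_mul]
    congr 1
    rw [mul_comm]
    exact hrt


/-- `g ∘ fiberι` sends every point of the fibre over `s` to `s`. -/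
lemma fiberι_apply {Y S : Scheme.{u}} (g : Y ⟶ S) (s : S) (y' : g.fiber s) :
    g (g.fiberι s y') = s := by
  have := congr($(g.fiber_fac s) y')
  rw [Scheme.Hom.comp_apply, Scheme.Hom.comp_apply, Scheme.fromSpecResidueField_apply] at this
  exact this

lemma flat_localization_congr {R B : Type*} [CommRing R] [CommRing B] [Algebra R B]
    (I J : Ideal B) [I.IsPrime] [J.IsPrime] (h : I = J)
    (hJ : Module.Flat R (Localization.AtPrime J)) : Module.Flat R (Localization.AtPrime I) := by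
  subst h
  exact hJ

/-- **Relative fibre criterion for smoothness** (EGA IV 17.8.2): if `X → S` is flat at `x` and
the fibre map `X_s → Y_s` is smooth at a point over `x`, then `X → Y` is smooth at `x`. -/
theorem formallySmooth_stalkMap_of_fibre {X Y S : Scheme.{u}} (g : Y ⟶ S)
    [LocallyOfFiniteType g] (f : X ⟶ Y) [LocallyOfFinitePresentation (f ≫ g)]
    (s : S) {P : Scheme.{u}} {fst : P ⟶ X} {snd : P ⟶ g.fiber s}
    (hP : IsPullback fst snd f (g.fiberι s)) (x' : P)
    (hflat : ((f ≫ g).stalkMap (fst x')).hom.Flat)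
    (hsm : (snd.stalkMap x').hom.FormallySmooth) :
    (f.stalkMap (fst x')).hom.FormallySmooth := by
  have hy : f (fst x') = g.fiberι s (snd x') := congr($(hP.w) x')
  have hgy : g (f (fst x')) = s := by rw [hy]; exact fiberι_apply g s _
  -- charts
  obtain ⟨_, ⟨VS, hVS, rfl⟩, hsVS, -⟩ :=
    S.isBasis_affineOpens.exists_subset_of_mem_open (Set.mem_univ s) isOpen_univ
  have hyS : f (fst x') ∈ g ⁻¹ᵁ VS := by
    show g (f (fst x')) ∈ VS
    rw [hgy]; exact hsVS
  obtain ⟨_, ⟨VY, hVY, rfl⟩, hyVY, hVYS⟩ :=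
    Y.isBasis_affineOpens.exists_subset_of_mem_open hyS (VS.2.preimage g.continuous)
  obtain ⟨_, ⟨VX, hVX, rfl⟩, hxVX, hVXY⟩ :=
    X.isBasis_affineOpens.exists_subset_of_mem_open hyVY (VY.2.preimage f.continuous)
  have hVXS : VX ≤ (f ≫ g) ⁻¹ᵁ VS := fun z hz ↦ hVYS (hVXY hz)
  replace hVS : IsAffineOpen VS := hVS
  replace hVY : IsAffineOpen VY := hVY
  replace hVX : IsAffineOpen VX := hVX
  -- square 1
  have h1 : IsPullback (g.fiberι s) (g.fiberToSpecResidueField s) g
      (S.fromSpecResidueField s) := IsPullback.of_hasPullback _ _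
  have hT : (⊤ : (Spec (S.residueField s)).Opens) ≤ (S.fromSpecResidueField s) ⁻¹ᵁ VS := by
    intro z _
    show S.fromSpecResidueField s z ∈ VS
    rw [Scheme.fromSpecResidueField_apply]; exact hsVS
  let VY' : (g.fiber s).Opens := (g.fiberι s) ⁻¹ᵁ VY ⊓ (g.fiberToSpecResidueField s) ⁻¹ᵁ ⊤
  have hVY' : IsAffineOpen VY' := by
    have : IsAffine VS := hVS
    have : IsAffine (⊤ : (Spec (S.residueField s)).Opens) := isAffineOpen_top _
    have : IsAffine VY := hVY
    exact .of_isIso (Scheme.Hom.isPullback_resLE h1 hT hVYS rfl).isoPullback.hom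
  have hVY'Y : VY' ≤ (g.fiberι s) ⁻¹ᵁ VY := inf_le_left
  have hVY'T : VY' ≤ (g.fiberToSpecResidueField s) ⁻¹ᵁ ⊤ := inf_le_right
  have hpo1 : IsPushout (g.appLE VS VY hVYS) ((S.fromSpecResidueField s).appLE VS ⊤ hT)
      ((g.fiberι s).appLE VY VY' hVY'Y) ((g.fiberToSpecResidueField s).appLE ⊤ VY' hVY'T) :=
    (isIso_pushoutSection_iff h1 hT hVYS rfl).mp
      (isIso_pushoutSection_of_isAffineOpen h1 hT hVYS rfl hVS (isAffineOpen_top _) hVY)
  -- square 2
  let W' : P.Opens := fst ⁻¹ᵁ VX ⊓ snd ⁻¹ᵁ VY'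
  have hx'W' : x' ∈ W' := ⟨hxVX, by
    refine ⟨?_, trivial⟩
    show g.fiberι s (snd x') ∈ VY
    rw [← hy]; exact hyVY⟩
  have hW' : IsAffineOpen W' := by
    have : IsAffine VY := hVY
    have : IsAffine VY' := hVY'
    have : IsAffine VX := hVX
    exact .of_isIso (Scheme.Hom.isPullback_resLE hP hVY'Y hVXY rfl).isoPullback.hom
  have hW'X : W' ≤ fst ⁻¹ᵁ VX := inf_le_left
  have hW'Y : W' ≤ snd ⁻¹ᵁ VY' := inf_le_right
  have hpo2 : IsPushout (f.appLE VY VX hVXY) ((g.fiberι s).appLE VY VY' hVY'Y)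
      (fst.appLE VX W' hW'X) (snd.appLE VY' W' hW'Y) :=
    (isIso_pushoutSection_iff hP hVY'Y hVXY rfl).mp
      (isIso_pushoutSection_of_isAffineOpen hP hVY'Y hVXY rfl hVY hVY' hVX)
  -- algebra instances
  let _iRk : Algebra Γ(S, VS) Γ(Spec (S.residueField s), ⊤) :=
    ((S.fromSpecResidueField s).appLE VS ⊤ hT).hom.toAlgebra
  let _iRA : Algebra Γ(S, VS) Γ(Y, VY) := (g.appLE VS VY hVYS).hom.toAlgebra
  let _iRB : Algebra Γ(S, VS) Γ(X, VX) := ((f ≫ g).appLE VS VX hVXS).hom.toAlgebra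
  let _iAB : Algebra Γ(Y, VY) Γ(X, VX) := (f.appLE VY VX hVXY).hom.toAlgebra
  have tRAB : IsScalarTower Γ(S, VS) Γ(Y, VY) Γ(X, VX) := .of_algebraMap_eq' (by
    exact congr(($(Scheme.Hom.appLE_comp_appLE f g VS VY VX hVYS hVXY)).hom).symm)
  let _ikA' : Algebra Γ(Spec (S.residueField s), ⊤) Γ(g.fiber s, VY') :=
    ((g.fiberToSpecResidueField s).appLE ⊤ VY' hVY'T).hom.toAlgebra
  let _iAA' : Algebra Γ(Y, VY) Γ(g.fiber s, VY') :=
    ((g.fiberι s).appLE VY VY' hVY'Y).hom.toAlgebra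
  let _iRA' : Algebra Γ(S, VS) Γ(g.fiber s, VY') :=
    (g.appLE VS VY hVYS ≫ (g.fiberι s).appLE VY VY' hVY'Y).hom.toAlgebra
  have tRAA' : IsScalarTower Γ(S, VS) Γ(Y, VY) Γ(g.fiber s, VY') := .of_algebraMap_eq' rfl
  have tRkA' : IsScalarTower Γ(S, VS) Γ(Spec (S.residueField s), ⊤) Γ(g.fiber s, VY') :=
    .of_algebraMap_eq' congr(($hpo1.w).hom)
  have po1 : Algebra.IsPushout Γ(S, VS) Γ(Spec (S.residueField s), ⊤) Γ(Y, VY)
      Γ(g.fiber s, VY') := CommRingCat.isPushout_iff_isPushout.mp hpo1.flip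
  let _iA'B' : Algebra Γ(g.fiber s, VY') Γ(P, W') := (snd.appLE VY' W' hW'Y).hom.toAlgebra
  let _iBB' : Algebra Γ(X, VX) Γ(P, W') := (fst.appLE VX W' hW'X).hom.toAlgebra
  let _iAB' : Algebra Γ(Y, VY) Γ(P, W') :=
    (f.appLE VY VX hVXY ≫ fst.appLE VX W' hW'X).hom.toAlgebra
  have tABB' : IsScalarTower Γ(Y, VY) Γ(X, VX) Γ(P, W') := .of_algebraMap_eq' rfl
  have tAA'B' : IsScalarTower Γ(Y, VY) Γ(g.fiber s, VY') Γ(P, W') :=
    .of_algebraMap_eq' congr(($hpo2.w).hom)
  have po2 : Algebra.IsPushout Γ(Y, VY) Γ(g.fiber s, VY') Γ(X, VX) Γ(P, W') :=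
    CommRingCat.isPushout_iff_isPushout.mp hpo2.flip
  have fpRB : Algebra.FinitePresentation Γ(S, VS) Γ(X, VX) :=
    (f ≫ g).finitePresentation_appLE hVS hVX hVXS
  have ftRA : Algebra.FiniteType Γ(S, VS) Γ(Y, VY) := g.finiteType_appLE hVS hVY hVYS
  have fpAB : Algebra.FinitePresentation Γ(Y, VY) Γ(X, VX) :=
    Algebra.FinitePresentation.of_restrict_scalars_finitePresentation Γ(S, VS) _ _
  obtain ⟨hk1, hk2⟩ := fromSpecResidueField_appLE_props s VS hVS hsVS hT
  -- primes
  have hq : PrimeSpectrum.comap (algebraMap Γ(X, VX) Γ(P, W')) (hW'.primeIdealOf ⟨x', hx'W'⟩) =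
      hVX.primeIdealOf ⟨fst x', hxVX⟩ :=
    IsAffineOpen.comap_primeIdealOf_appLE VX hVX W' hW' hW'X hx'W'
  have hqI : (hW'.primeIdealOf ⟨x', hx'W'⟩).asIdeal.comap (algebraMap Γ(X, VX) Γ(P, W')) =
      (hVX.primeIdealOf ⟨fst x', hxVX⟩).asIdeal := congr($(hq).asIdeal)
  have hp : PrimeSpectrum.comap (algebraMap Γ(S, VS) Γ(X, VX)) (hVX.primeIdealOf ⟨fst x', hxVX⟩) =
      hVS.primeIdealOf ⟨(f ≫ g) (fst x'), hVXS hxVX⟩ :=
    IsAffineOpen.comap_primeIdealOf_appLE VS hVS VX hVX hVXS hxVX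
  have hpI : (hVX.primeIdealOf ⟨fst x', hxVX⟩).asIdeal.comap (algebraMap Γ(S, VS) Γ(X, VX)) =
      (hVS.primeIdealOf ⟨s, hsVS⟩).asIdeal := by
    have hs' : (f ≫ g) (fst x') = s := by rw [Scheme.Hom.comp_apply]; exact hgy
    refine (congr($(hp).asIdeal)).trans ?_
    congr 2
    exact Subtype.ext hs'
  rw [formallySmooth_stalkMap_iff VY' hVY' W' hW' hW'Y hx'W'] at hsm
  rw [formallySmooth_stalkMap_iff VY hVY VX hVX hVXY hxVX]
  rw [Groth.Agent.Lib.EtaleLocusBC.flat_stalkMap_iff VS hVS VX hVX hVXS hxVX] at hflat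
  have key := mem_smoothLocus_of_flat_of_isPushout (R := Γ(S, VS))
    (k := Γ(Spec (S.residueField s), ⊤)) (A := Γ(Y, VY)) (B := Γ(X, VX))
    (A' := Γ(g.fiber s, VY')) (B' := Γ(P, W')) (hVS.primeIdealOf ⟨s, hsVS⟩).asIdeal hk1 hk2
    (hW'.primeIdealOf ⟨x', hx'W'⟩) (by rw [hqI, hpI])
    (flat_localization_congr _ _ hqI hflat) hsm
  rw [hq] at key
  exact key

/-- If `f ≫ g` is locally of finite presentation and `g` is locally of finite type then `f` is
locally of finite presentation. -/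
theorem locallyOfFinitePresentation_of_comp {X Y Z : Scheme.{u}} (f : X ⟶ Y) (g : Y ⟶ Z)
    (h : LocallyOfFinitePresentation (f ≫ g)) (hg : LocallyOfFiniteType g) :
    LocallyOfFinitePresentation f := by
  wlog hZ : IsAffine Z generalizing X Y Z
  · rw [IsZariskiLocalAtTarget.iff_of_iSup_eq_top (P := @LocallyOfFinitePresentation) _
      (g.iSup_preimage_eq_top (iSup_affineOpens_eq_top Z))]
    intro U
    have H := IsZariskiLocalAtTarget.restrict h U.1
    rw [morphismRestrict_comp] at H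
    exact this _ _ H (IsZariskiLocalAtTarget.restrict hg U.1) inferInstance
  wlog hY : IsAffine Y generalizing X Y
  · rw [IsZariskiLocalAtTarget.iff_of_iSup_eq_top (P := @LocallyOfFinitePresentation) _
      (iSup_affineOpens_eq_top Y)]
    intro U
    have H := HasRingHomProperty.comp_of_isOpenImmersion @LocallyOfFinitePresentation
      (f ⁻¹ᵁ U.1).ι (f ≫ g) h
    rw [← morphismRestrict_ι_assoc] at H
    exact this _ _ H (inferInstance : LocallyOfFiniteType (U.1.ι ≫ g)) inferInstance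
  wlog hX : IsAffine X generalizing X
  · rw [IsZariskiLocalAtSource.iff_of_iSup_eq_top (P := @LocallyOfFinitePresentation) _
      (iSup_affineOpens_eq_top X)]
    intro U
    have H := HasRingHomProperty.comp_of_isOpenImmersion @LocallyOfFinitePresentation U.1.ι
      (f ≫ g) h
    rw [← Category.assoc] at H
    exact this _ H inferInstance
  rw [HasRingHomProperty.iff_of_isAffine (P := @LocallyOfFinitePresentation)] at h ⊢
  rw [HasRingHomProperty.iff_of_isAffine (P := @LocallyOfFiniteType)] at hg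
  exact RingHom.FinitePresentation.of_comp_finiteType _ (by simpa using h) hg

open Groth.Agent.Lib.SmoothLocusBC in
/-- **Relative fibre criterion for smoothness**, iff form. -/
theorem formallySmooth_stalkMap_iff_fibre {X Y S : Scheme.{u}} (g : Y ⟶ S)
    [LocallyOfFiniteType g] (f : X ⟶ Y) [LocallyOfFinitePresentation (f ≫ g)]
    (s : S) {P : Scheme.{u}} {fst : P ⟶ X} {snd : P ⟶ g.fiber s}
    (hP : IsPullback fst snd f (g.fiberι s)) (x' : P)
    (hflat : ((f ≫ g).stalkMap (fst x')).hom.Flat) :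
    (f.stalkMap (fst x')).hom.FormallySmooth ↔ (snd.stalkMap x').hom.FormallySmooth := by
  have : LocallyOfFinitePresentation f := locallyOfFinitePresentation_of_comp f g ‹_› ‹_›
  exact ⟨fun h ↦ formallySmooth_stalkMap_snd_of_isPullback hP x' h,
    formallySmooth_stalkMap_of_fibre g f s hP x' hflat⟩

open Groth.Agent.Lib.SmoothLocusBC in
/-- Neighbourhood form of the relative fibre criterion for smoothness. -/
theorem exists_nhds_smooth_iff_fibre {X Y S : Scheme.{u}} (g : Y ⟶ S)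
    [LocallyOfFiniteType g] (f : X ⟶ Y) [LocallyOfFinitePresentation (f ≫ g)]
    (s : S) {P : Scheme.{u}} {fst : P ⟶ X} {snd : P ⟶ g.fiber s}
    (hP : IsPullback fst snd f (g.fiberι s)) (x' : P)
    (hflat : ((f ≫ g).stalkMap (fst x')).hom.Flat) :
    (∃ U : X.Opens, fst x' ∈ U ∧ Smooth (U.ι ≫ f)) ↔
      ∃ V : P.Opens, x' ∈ V ∧ Smooth (V.ι ≫ snd) := by
  have : LocallyOfFinitePresentation f := locallyOfFinitePresentation_of_comp f g ‹_› ‹_›
  have : LocallyOfFinitePresentation snd := MorphismProperty.of_isPullback hP ‹_›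
  rw [exists_nhds_smooth_iff, exists_nhds_smooth_iff]
  exact formallySmooth_stalkMap_iff_fibre g f s hP x' hflat

open Groth.Agent.Lib.UnramifiedLocusBC Groth.Agent.Lib.H80EtaleStalk in
/-- Neighbourhood form of the relative fibre criterion for étaleness. -/
theorem exists_nhds_etale_iff_fibre {X Y S : Scheme.{u}} (g : Y ⟶ S)
    [LocallyOfFiniteType g] (f : X ⟶ Y) [LocallyOfFinitePresentation (f ≫ g)]
    (s : S) {P : Scheme.{u}} {fst : P ⟶ X} {snd : P ⟶ g.fiber s}
    (hP : IsPullback fst snd f (g.fiberι s)) (x' : P)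
    (hflat : ((f ≫ g).stalkMap (fst x')).hom.Flat) :
    (∃ U : X.Opens, fst x' ∈ U ∧ Etale (U.ι ≫ f)) ↔
      ∃ V : P.Opens, x' ∈ V ∧ Etale (V.ι ≫ snd) := by
  have : LocallyOfFinitePresentation f := locallyOfFinitePresentation_of_comp f g ‹_› ‹_›
  have : LocallyOfFinitePresentation snd := MorphismProperty.of_isPullback hP ‹_›
  rw [exists_etale_nhd_iff, exists_etale_nhd_iff,
    formallySmooth_stalkMap_iff_fibre g f s hP x' hflat,
    formallyUnramified_stalkMap_iff_of_isPullback hP x']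

/-- A point of `X ×_Y Y_{g (f x)}` over `x`. -/
lemma exists_fst_eq {X Y S : Scheme.{u}} (g : Y ⟶ S) (f : X ⟶ Y) (x : X) :
    ∃ x' : ↑(pullback f (g.fiberι (g (f x)))), pullback.fst f (g.fiberι (g (f x))) x' = x := by
  obtain ⟨x', hx', -⟩ := Scheme.Pullback.exists_preimage_pullback (f := f)
    (g := g.fiberι (g (f x))) x (g.asFiber (f x)) (g.fiberι_asFiber (f x)).symm
  exact ⟨x', hx'⟩

open Groth.Agent.Lib.SmoothLocusBC in
/-- If `f ≫ g` is flat at `x` and the fibre map `X_s → Y_s` (`s = g (f x)`) is smooth, then `f` is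
smooth at `x`. -/
theorem formallySmooth_stalkMap_of_smooth_fibre {X Y S : Scheme.{u}} (g : Y ⟶ S)
    [LocallyOfFiniteType g] (f : X ⟶ Y) [LocallyOfFinitePresentation (f ≫ g)] (x : X)
    (hflat : ((f ≫ g).stalkMap x).hom.Flat)
    (H : Smooth (pullback.snd f (g.fiberι (g (f x))))) :
    (f.stalkMap x).hom.FormallySmooth := by
  obtain ⟨x', hx'⟩ := exists_fst_eq g f x
  have hP := IsPullback.of_hasPullback f (g.fiberι (g (f x)))
  have h1 : (pullback.snd f (g.fiberι (g (f x)))).smoothLocus = ⊤ :=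
    Scheme.Hom.smoothLocus_eq_top _
  have h2 : ((pullback.snd f (g.fiberι (g (f x)))).stalkMap x').hom.FormallySmooth := by
    rw [← Scheme.Hom.mem_smoothLocus, h1]; trivial
  have hflat' : ((f ≫ g).stalkMap (pullback.fst f (g.fiberι (g (f x))) x')).hom.Flat := by
    rw [hx']; exact hflat
  exact (formallySmooth_stalkMap_congr hx').1
    (formallySmooth_stalkMap_of_fibre g f _ hP x' hflat' h2)

/-- **Fibrewise criterion for smoothness** (global form): if `X → S` is flat and all fibre maps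
`X_s → Y_s` are smooth then `X → Y` is smooth. -/
theorem smooth_of_fibres {X Y S : Scheme.{u}} (g : Y ⟶ S)
    [LocallyOfFiniteType g] (f : X ⟶ Y) [LocallyOfFinitePresentation (f ≫ g)] [Flat (f ≫ g)]
    (H : ∀ s : S, Smooth (pullback.snd f (g.fiberι s))) : Smooth f := by
  have : LocallyOfFinitePresentation f := locallyOfFinitePresentation_of_comp f g ‹_› ‹_›
  rw [← Scheme.Hom.smoothLocus_eq_top_iff, ← top_le_iff]
  rintro x -
  exact formallySmooth_stalkMap_of_smooth_fibre g f x (Flat.stalkMap (f ≫ g) x) (H _)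

open Groth.Agent.Lib.UnramifiedLocusBC in
/-- **Fibrewise criterion for étaleness** (global form). -/
theorem etale_of_fibres {X Y S : Scheme.{u}} (g : Y ⟶ S)
    [LocallyOfFiniteType g] (f : X ⟶ Y) [LocallyOfFinitePresentation (f ≫ g)] [Flat (f ≫ g)]
    (H : ∀ s : S, Etale (pullback.snd f (g.fiberι s))) : Etale f := by
  have : LocallyOfFinitePresentation f := locallyOfFinitePresentation_of_comp f g ‹_› ‹_›
  have : Smooth f := smooth_of_fibres g f fun s ↦ by have := H s; infer_instance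
  have : FormallyUnramified f := by
    refine formallyUnramified_of_forall_stalkMap f fun x ↦ ?_
    obtain ⟨x', hx'⟩ := exists_fst_eq g f x
    have hP := IsPullback.of_hasPullback f (g.fiberι (g (f x)))
    have := H (g (f x))
    have h1 := FormallyUnramified.stalkMap (pullback.snd f (g.fiberι (g (f x)))) x'
    rw [formallyUnramified_stalkMap_iff_of_isPullback hP x'] at h1
    rw [hx'] at h1
    exact h1
  exact Etale.of_formallyUnramified_of_flat _

open Groth.Agent.Lib.H80EtaleStalk Groth.Agent.Lib.EtaleDescend45 in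
/-- If `X → S` is flat at `x` and the fibre map `X_s → Y_s` is smooth, then `Y → S` is flat at
`f x`. -/
theorem flat_stalkMap_of_smooth_fibre {X Y S : Scheme.{u}} (g : Y ⟶ S)
    [LocallyOfFiniteType g] (f : X ⟶ Y) [LocallyOfFinitePresentation (f ≫ g)] (x : X)
    (hflat : ((f ≫ g).stalkMap x).hom.Flat)
    (H : Smooth (pullback.snd f (g.fiberι (g (f x))))) :
    (g.stalkMap (f x)).hom.Flat := by
  have : LocallyOfFinitePresentation f := locallyOfFinitePresentation_of_comp f g ‹_› ‹_›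
  have hsm := formallySmooth_stalkMap_of_smooth_fibre g f x hflat H
  have hfl : (f.stalkMap x).hom.Flat := flat_stalkMap_of_mem_smoothLocus f x hsm
  rw [Scheme.Hom.stalkMap_comp] at hflat
  exact ringHom_flat_of_comp_of_flat (g.stalkMap (f x)).hom (f.stalkMap x).hom hflat hfl

/-- The square `X_z → Y_z` over `X → Y` is cartesian. -/
lemma isPullback_fiberMapOver {X Y S : Scheme.{u}} (g : Y ⟶ S) (h : X ⟶ S) (f : X ⟶ Y)
    (w : f ≫ g = h) (z : S) :
    IsPullback (h.fiberι z) (CohIII.fiberMapOver f h g w z) f (g.fiberι z) := by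
  have t : IsPullback (pullback.snd g (S.fromSpecResidueField z)) (g.fiberι z)
      (S.fromSpecResidueField z) g := (IsPullback.of_hasPullback g (S.fromSpecResidueField z)).flip
  have s : IsPullback (CohIII.fiberMapOver f h g w z ≫ pullback.snd g (S.fromSpecResidueField z))
      (h.fiberι z) (S.fromSpecResidueField z) (f ≫ g) := by
    have e : CohIII.fiberMapOver f h g w z ≫ pullback.snd g (S.fromSpecResidueField z) =
        pullback.snd h (S.fromSpecResidueField z) :=
      (pullback.lift_snd _ _ _).trans (Category.comp_id _)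
    rw [e, w]
    exact (IsPullback.of_hasPullback h (S.fromSpecResidueField z)).flip
  have p : CohIII.fiberMapOver f h g w z ≫ g.fiberι z = h.fiberι z ≫ f :=
    pullback.lift_fst _ _ _
  exact (IsPullback.of_right s p t).flip

end Groth.Agent.Lib.SmoothFibreRelSch
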