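import Mathlib
import Groth.Agent.Lib.SmoothFibreRelSch

/-!
# Isomorphism on a fibre spreads out (helper62)

`S` locally Noetherian, `X → S` proper flat, `Y → S` proper, `p : X → Y` over `S` whose fibre over
`s` is an isomorphism: then `p` is an isomorphism over a neighbourhood of `s`
(`exists_nhd_isIso_of_fibre`).  Ingredients: helper37's relative fibre criterion for étaleness,
Mathlib's rank of finite flat morphisms and `exists_isFinite_morphismRestrict_of_finite_preimage_singleton`.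
-/

set_option autoImplicit false
set_option linter.style.haveILetI false
universe u
open CategoryTheory Limits AlgebraicGeometry

namespace Groth.Agent.Lib.FibreIsoNhd62


/-- Restricting a morphism to a smaller open of the target is a base change. -/
lemma isPullback_morphismRestrict_homOfLE {X Y : Scheme.{u}} (f : X ⟶ Y) {W V : Y.Opens}
    (hWV : W ≤ V) :
    IsPullback (X.homOfLE (f.preimage_mono hWV)) (f ∣_ W) (f ∣_ V) (Y.homOfLE hWV) := by
  have h1 : IsPullback (f ∣_ W) (f ⁻¹ᵁ W).ι W.ι f := isPullback_morphismRestrict f W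
  have h2 : IsPullback (f ∣_ V) (f ⁻¹ᵁ V).ι V.ι f := isPullback_morphismRestrict f V
  have h3 : IsPullback (f ∣_ W) (X.homOfLE (f.preimage_mono hWV) ≫ (f ⁻¹ᵁ V).ι)
      (Y.homOfLE hWV ≫ V.ι) f := by
    rw [Scheme.homOfLE_ι, Scheme.homOfLE_ι]; exact h1
  exact IsPullback.of_right h3.flip (morphismRestrict_homOfLE f W V hWV).symm h2.flip

/-- A proper morphism which is étale near the unique point `x` of the fibre over `y`, and whose
base change along some `t : T ⟶ Y` hitting only `y` is an isomorphism, is an isomorphism over an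
open neighbourhood of `y`. -/
theorem exists_isIso_morphismRestrict {X Y : Scheme.{u}} (p : X ⟶ Y) [IsProper p] (y : Y) (x : X)
    (hfib : p ⁻¹' {y} = {x}) (X₁ : X.Opens) (hx : x ∈ X₁) (het : Etale (X₁.ι ≫ p))
    {T P' : Scheme.{u}} (t : T ⟶ Y) (a : P' ⟶ X) (b : P' ⟶ T) (hsq : IsPullback a b p t)
    [IsIso b] (z : T) (ht : Set.range t ⊆ {y}) :
    ∃ V : Y.Opens, y ∈ V ∧ IsIso (p ∣_ V) := by
  -- finite near y
  obtain ⟨V₁, hyV₁, hfin⟩ := exists_isFinite_morphismRestrict_of_finite_preimage_singleton p y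
    (by rw [hfib]; exact Set.finite_singleton x)
  -- V₂
  have hcl : IsClosed (p '' (X₁ : Set X)ᶜ) := p.isClosedMap _ X₁.isOpen.isClosed_compl
  let V₂ : Y.Opens := ⟨(p '' (X₁ : Set X)ᶜ)ᶜ, hcl.isOpen_compl⟩
  have hyV₂ : y ∈ V₂ := by
    rintro ⟨x', hx', hx'y⟩
    have h1 : x' ∈ p ⁻¹' {y} := hx'y
    rw [hfib] at h1
    exact hx' (h1 ▸ hx)
  have hV₂ : p ⁻¹ᵁ V₂ ≤ X₁ := by
    intro x' hx'
    by_contra hn
    exact hx' ⟨x', hn, rfl⟩
  let W : Y.Opens := V₁ ⊓ V₂
  have hyW : y ∈ W := ⟨hyV₁, hyV₂⟩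
  -- properties of `p ∣_ W`
  have hfinW : IsFinite (p ∣_ W) := MorphismProperty.of_isPullback
    (isPullback_morphismRestrict_homOfLE p (inf_le_left : W ≤ V₁)) hfin
  have hetW : Etale (p ∣_ W) := by
    have h1 : Etale ((p ∣_ W) ≫ W.ι) := by
      rw [morphismRestrict_ι]
      have h2 : (p ⁻¹ᵁ W).ι = X.homOfLE ((p.preimage_mono inf_le_right).trans hV₂) ≫ X₁.ι :=
        (X.homOfLE_ι _).symm
      rw [h2, Category.assoc]
      infer_instance
    exact MorphismProperty.of_postcomp (W := @Etale) (W' := @Etale) _ W.ι inferInstance h1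
  -- the rank at `y` is one
  have hrange : Set.range t ⊆ Set.range W.ι := by
    rintro _ ⟨z', rfl⟩
    have h1 : t z' = y := ht ⟨z', rfl⟩
    rw [h1, Scheme.Opens.range_ι]; exact hyW
  let t' : T ⟶ W := IsOpenImmersion.lift W.ι t hrange
  have ht' : t' ≫ W.ι = t := IsOpenImmersion.lift_fac _ _ _
  have hR := isPullback_morphismRestrict p W
  let a' : P' ⟶ p ⁻¹ᵁ W := hR.lift (b ≫ t') a (by rw [Category.assoc, ht', hsq.w])
  have ha'1 : a' ≫ (p ∣_ W) = b ≫ t' := hR.lift_fst _ _ _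
  have ha'2 : a' ≫ (p ⁻¹ᵁ W).ι = a := hR.lift_snd _ _ _
  have hsq' : IsPullback a' b (p ∣_ W) t' := by
    refine IsPullback.of_right ?_ ha'1 hR.flip
    rw [ha'2, ht']; exact hsq
  have hone : (p ∣_ W).finrank (t' z) = 1 := by
    rw [← Scheme.Hom.finrank_of_isPullback a' b (p ∣_ W) t' hsq' z,
      Scheme.Hom.finrank_eq_one_of_isIso]; rfl
  -- the locus where the rank is one
  have hO : IsOpen {w : W | (p ∣_ W).finrank w = 1} :=
    (Scheme.Hom.isLocallyConstant_finrank (p ∣_ W)).isOpen_fiber 1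
  let V : Y.Opens := W.ι ''ᵁ ⟨_, hO⟩
  have hVW : V ≤ W := by
    rintro _ ⟨w, -, rfl⟩; exact w.2
  have hyV : y ∈ V := by
    refine ⟨t' z, hone, ?_⟩
    change (t' ≫ W.ι) z = y
    rw [ht']; exact ht ⟨z, rfl⟩
  refine ⟨V, hyV, ?_⟩
  have hsqV := isPullback_morphismRestrict_homOfLE p hVW
  have hfinV : IsFinite (p ∣_ V) := MorphismProperty.of_isPullback hsqV hfinW
  have hflatV : Flat (p ∣_ V) := MorphismProperty.of_isPullback hsqV inferInstance
  rw [Scheme.Hom.isIso_iff_finrank_eq]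
  ext v
  rw [Scheme.Hom.finrank_of_isPullback _ _ _ _ hsqV v]
  obtain ⟨w, hw, hwv⟩ := v.2
  have : Y.homOfLE hVW v = w := by
    apply W.ι.isOpenEmbedding.injective
    rw [← Scheme.Hom.comp_apply, Scheme.homOfLE_ι]
    exact hwv.symm
  rw [this]; exact hw



/-- `X ×_S S' → Y ×_S S'` is the base change of `p : X → Y` along `Y ×_S S' → Y`. -/
lemma isPullback_pullbackMap {X Y S S' : Scheme.{u}} (g : X ⟶ S) (h : Y ⟶ S) (p : X ⟶ Y)
    (w : p ≫ h = g) (j : S' ⟶ S) (e1 : g ≫ 𝟙 S = p ≫ h) (e2 : j ≫ 𝟙 S = 𝟙 S' ≫ j) :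
    IsPullback (pullback.fst g j) (pullback.map g j h j p (𝟙 _) (𝟙 _) e1 e2) p
      (pullback.fst h j) := by
  have hbot : IsPullback (pullback.fst h j) (pullback.snd h j) h j := IsPullback.of_hasPullback h j
  have hbig : IsPullback (pullback.fst g j)
      (pullback.map g j h j p (𝟙 _) (𝟙 _) e1 e2 ≫ pullback.snd h j) (p ≫ h) j := by
    have e : pullback.map g j h j p (𝟙 _) (𝟙 _) e1 e2 ≫ pullback.snd h j = pullback.snd g j :=
      (pullback.lift_snd _ _ _).trans (Category.comp_id _)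
    rw [e, w]
    exact IsPullback.of_hasPullback g j
  exact IsPullback.of_bot hbig (pullback.lift_fst _ _ _).symm hbot

/-- If `snd` is a base change of `f` along `g`, and `f` is an isomorphism over a neighbourhood
of every point in the range of `g`, then `snd` is an isomorphism. -/
lemma isIso_of_isPullback_of_forall_exists {P X Y T : Scheme.{u}} {fst : P ⟶ X} {snd : P ⟶ T}
    {f : X ⟶ Y} {g : T ⟶ Y} (hsq : IsPullback fst snd f g)
    (H : ∀ t : T, ∃ V : Y.Opens, g t ∈ V ∧ IsIso (f ∣_ V)) : IsIso snd := by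
  rw [← MorphismProperty.isomorphisms.iff]
  apply IsZariskiLocalAtTarget.of_forall_exists_morphismRestrict (P := .isomorphisms Scheme)
  intro t
  obtain ⟨V, hV, hiso⟩ := H t
  refine ⟨g ⁻¹ᵁ V, hV, ?_⟩
  rw [MorphismProperty.isomorphisms.iff]
  -- `snd ∣_ g⁻¹V` is a base change of `f ∣_ V`
  have hR := isPullback_morphismRestrict f V
  have hR' := isPullback_morphismRestrict snd (g ⁻¹ᵁ V)
  have hbig : IsPullback ((snd ⁻¹ᵁ g ⁻¹ᵁ V).ι ≫ fst) (snd ∣_ g ⁻¹ᵁ V) f ((g ⁻¹ᵁ V).ι ≫ g) :=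
    hR'.flip.paste_horiz hsq
  let a : (snd ⁻¹ᵁ g ⁻¹ᵁ V : Scheme.{u}) ⟶ (f ⁻¹ᵁ V : Scheme.{u}) :=
    hR.lift ((snd ∣_ g ⁻¹ᵁ V) ≫ (g ∣_ V)) ((snd ⁻¹ᵁ g ⁻¹ᵁ V).ι ≫ fst) (by
      rw [Category.assoc, morphismRestrict_ι, hbig.w])
  have ha1 : a ≫ (f ∣_ V) = (snd ∣_ g ⁻¹ᵁ V) ≫ (g ∣_ V) := hR.lift_fst _ _ _
  have ha2 : a ≫ (f ⁻¹ᵁ V).ι = (snd ⁻¹ᵁ g ⁻¹ᵁ V).ι ≫ fst := hR.lift_snd _ _ _
  have hsq' : IsPullback a (snd ∣_ g ⁻¹ᵁ V) (f ∣_ V) (g ∣_ V) := by
    refine IsPullback.of_right ?_ ha1 hR.flip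
    rw [ha2, morphismRestrict_ι]; exact hbig
  exact (MorphismProperty.isomorphisms Scheme).of_isPullback hsq' hiso



open Groth.Agent.Lib.SmoothFibreRelSch in
theorem exists_nhd_isIso_of_fibre {S X Y : Scheme.{u}} [IsLocallyNoetherian S] (s : S)
    (g : X ⟶ S) (h : Y ⟶ S) (p : X ⟶ Y) (w : p ≫ h = g) [IsProper g] [IsProper h] [Flat g]
    (e1 : g ≫ 𝟙 S = p ≫ h)
    (e2 : S.fromSpecResidueField s ≫ 𝟙 S = 𝟙 _ ≫ S.fromSpecResidueField s)
    (hs : IsIso (pullback.map g (S.fromSpecResidueField s) h (S.fromSpecResidueField s) p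
      (𝟙 _) (𝟙 _) e1 e2)) :
    ∃ U : S.Opens, s ∈ U ∧ ∀ (e1' : g ≫ 𝟙 S = p ≫ h) (e2' : U.ι ≫ 𝟙 S = 𝟙 _ ≫ U.ι),
      IsIso (pullback.map g U.ι h U.ι p (𝟙 _) (𝟙 _) e1' e2') := by
  have hpp : IsProper p := by
    haveI : IsProper (p ≫ h) := by rw [w]; infer_instance
    exact IsProper.of_comp p h
  haveI : LocallyOfFinitePresentation (p ≫ h) := by rw [w]; infer_instance
  haveI : Flat (p ≫ h) := by rw [w]; infer_instance
  let ps : g.fiber s ⟶ h.fiber s :=
    pullback.map g (S.fromSpecResidueField s) h (S.fromSpecResidueField s) p (𝟙 _) (𝟙 _) e1 e2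
  haveI : IsIso ps := hs
  have hP : IsPullback (g.fiberι s) ps p (h.fiberι s) :=
    isPullback_pullbackMap g h p w _ e1 e2
  have key : ∀ y : Y, h y = s → ∃ V : Y.Opens, y ∈ V ∧ IsIso (p ∣_ V) := by
    intro y hy
    obtain ⟨y', rfl⟩ : y ∈ Set.range (h.fiberι s) := by
      rw [Scheme.Hom.range_fiberι]; exact hy
    let x' : g.fiber s := (inv ps) y'
    have hx' : ps x' = y' := by
      change (inv ps ≫ ps) y' = y'
      rw [IsIso.inv_hom_id]; rfl
    let x : X := g.fiberι s x'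
    have hxy : p x = h.fiberι s y' := by
      change (g.fiberι s ≫ p) x' = _
      rw [hP.w]
      change h.fiberι s (ps x') = _
      rw [hx']
    have hinj : Function.Injective ps := by
      intro a b hab
      have : (ps ≫ inv ps) a = (ps ≫ inv ps) b := congrArg (inv ps) hab
      rw [IsIso.hom_inv_id] at this
      exact this
    have hfib : p ⁻¹' {h.fiberι s y'} = {x} := by
      ext x₂
      constructor
      · intro hx₂
        obtain ⟨z, hz1, hz2⟩ := Scheme.Pullback.exists_preimage_pullback (f := p)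
          (g := h.fiberι s) x₂ y' hx₂
        let z' : g.fiber s := hP.isoPullback.inv z
        have h1 : g.fiberι s z' = x₂ := by
          change (hP.isoPullback.inv ≫ g.fiberι s) z = _
          rw [hP.isoPullback_inv_fst]; exact hz1
        have h2 : ps z' = y' := by
          change (hP.isoPullback.inv ≫ ps) z = _
          rw [hP.isoPullback_inv_snd]; exact hz2
        have h3 : z' = x' := hinj (h2.trans hx'.symm)
        rw [Set.mem_singleton_iff, ← h1, h3]
      · intro hx₂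
        rw [Set.mem_singleton_iff] at hx₂
        rw [hx₂]; exact hxy
    have hflat : ((p ≫ h).stalkMap (g.fiberι s x')).hom.Flat := Flat.stalkMap (p ≫ h) _
    obtain ⟨X₁, hxX₁, het⟩ := (exists_nhds_etale_iff_fibre h p s hP x' hflat).mpr
      ⟨⊤, trivial, inferInstance⟩
    let τ := (h.fiber s).fromSpecResidueField y'
    have hsq := (IsPullback.of_hasPullback ps τ).paste_horiz hP
    refine exists_isIso_morphismRestrict p _ x hfib X₁ hxX₁ het (τ ≫ h.fiberι s) _
      (pullback.snd ps τ) hsq (IsLocalRing.closedPoint _) ?_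
    rintro _ ⟨z, rfl⟩
    have h1 : τ z ∈ Set.range τ := ⟨z, rfl⟩
    rw [Scheme.range_fromSpecResidueField] at h1
    change h.fiberι s (τ z) = _
    rw [Set.mem_singleton_iff.mp h1]
  let 𝒲 : Set Y := {y | ∃ V : Y.Opens, y ∈ V ∧ IsIso (p ∣_ V)}
  have h𝒲 : IsOpen 𝒲 := isOpen_iff_forall_mem_open.mpr fun y ⟨V, hyV, hV⟩ =>
    ⟨V, fun y' hy' => ⟨V, hy', hV⟩, V.2, hyV⟩
  have hcl : IsClosed (h '' 𝒲ᶜ) := h.isClosedMap _ h𝒲.isClosed_compl
  let U : S.Opens := ⟨(h '' 𝒲ᶜ)ᶜ, hcl.isOpen_compl⟩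
  have hsU : s ∈ U := by
    rintro ⟨y, hy, hys⟩
    exact hy (key y hys)
  refine ⟨U, hsU, fun e1' e2' => ?_⟩
  apply isIso_of_isPullback_of_forall_exists (isPullback_pullbackMap g h p w U.ι e1' e2')
  intro t
  by_contra hn
  have h1 : h (pullback.fst h U.ι t) ∈ U := by
    change (pullback.fst h U.ι ≫ h) t ∈ U
    rw [pullback.condition]
    exact (pullback.snd h U.ι t).2
  exact h1 ⟨_, hn, rfl⟩

end Groth.Agent.Lib.FibreIsoNhd62
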