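import Groth.Agent.Lib.StageAbs88
import Groth.Agent.Lib.FlatLimDirected88
import Groth.Agent.Lib.FlatCrit

/-!
# Kernels of surjections onto flat finitely presented modules are finitely presented (helper88)

`A → B` of finite presentation, `H` a finitely presented `B`-module flat over `A`,
`π : G → H` a surjection from a finitely presented `B`-module: then `ker π` is finitely presented
(EGA IV 11.3.9.1-type statement; no Noetherian hypothesis). Proof by Noetherian approximation.
-/

set_option autoImplicit false
set_option maxHeartbeats 400000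
set_option linter.style.haveILetI false

namespace Groth.Agent.Lib.KerFP88

open TensorProduct Function Groth.Agent.Lib.FlatLimStage88 Groth.Agent.Lib.FlatLimGlobal88
  Groth.Agent.Lib.FlatLimModel88 Groth.Agent.Lib.FlatLimDirected88 Groth.Agent.Lib.StageAbs88
open scoped Groth.Agent.Lib.FlatLimStage88

universe u

section Abs

variable {A' : Type u} (A : Type u) {S' B : Type u} [CommRing A'] [CommRing A] [CommRing S']
  [CommRing B]
  [Algebra A' A] [Algebra A' S'] [Algebra A B] [Algebra S' B] [Algebra A' B]
  [IsScalarTower A' A B] [IsScalarTower A' S' B] [Algebra.IsPushout A' A S' B]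
  {F' H' : Type u} [AddCommGroup F'] [Module S' F'] [Module A' F'] [IsScalarTower A' S' F']
  [AddCommGroup H'] [Module S' H'] [Module A' H'] [IsScalarTower A' S' H']

include A in
/-- Base change of the kernel inclusion stays injective when the cokernel is flat over the base. -/
theorem injective_baseChange_ker [Module.Flat A' H'] (π' : F' →ₗ[S'] H') (hπ' : Surjective π') :
    Injective ((LinearMap.ker π').subtype.baseChange B) := by
  let K' := LinearMap.ker π'
  let ι' : K' →ₗ[A'] F' := K'.subtype.restrictScalars A'
  have hinj : Injective (ι'.lTensor A) := by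
    rw [LinearMap.lTensor_inj_iff_rTensor_inj]
    exact Groth.Agent.Lib.FlatCrit.rTensor_injective_of_tor1Zero (f := ι')
      (g := π'.restrictScalars A') (Submodule.subtype_injective _)
      (LinearMap.exact_subtype_ker_map π') hπ' Groth.Agent.Lib.FlatCrit.tor1Zero_of_flat_left
  have hnat : ∀ z : A ⊗[A'] K', (K'.subtype.baseChange B)
      ((Algebra.IsPushout.cancelBaseChange A' A S' B K').symm z) =
      (Algebra.IsPushout.cancelBaseChange A' A S' B F').symm (ι'.lTensor A z) := by
    intro z
    induction z with
    | zero => simp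
    | add a b ha hb => simp only [map_add, ha, hb]
    | tmul a x =>
      rw [Algebra.IsPushout.cancelBaseChange_symm_tmul, LinearMap.baseChange_tmul,
        LinearMap.lTensor_tmul, Algebra.IsPushout.cancelBaseChange_symm_tmul]
      rfl
  intro x y hxy
  obtain ⟨z, rfl⟩ := (Algebra.IsPushout.cancelBaseChange A' A S' B K').symm.surjective x
  obtain ⟨w, rfl⟩ := (Algebra.IsPushout.cancelBaseChange A' A S' B K').symm.surjective y
  rw [hnat, hnat] at hxy
  rw [hinj ((Algebra.IsPushout.cancelBaseChange A' A S' B F').symm.injective hxy)]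

include A in
/-- The kernel of the base change of a surjection onto a module flat over the base is finitely
presented, over a Noetherian stage. -/
theorem finitePresentation_ker_baseChange [IsNoetherianRing S'] [Module.Finite S' F']
    [Module.Flat A' H'] (π' : F' →ₗ[S'] H') (hπ' : Surjective π') :
    Module.FinitePresentation B (LinearMap.ker (π'.baseChange B)) := by
  let K' := LinearMap.ker π'
  haveI : IsNoetherian S' F' := isNoetherian_of_isNoetherianRing_of_finite S' F'
  haveI : Module.Finite S' K' := Module.IsNoetherian.finite S' K'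
  haveI : Module.FinitePresentation S' K' := Module.finitePresentation_of_finite S' K'
  let j : B ⊗[S'] K' →ₗ[B] B ⊗[S'] F' := K'.subtype.baseChange B
  have hj : Injective j := injective_baseChange_ker (A' := A') A π' hπ'
  have hex : Function.Exact j (π'.baseChange B) :=
    lTensor_exact B (LinearMap.exact_subtype_ker_map π') hπ'
  have hrange : LinearMap.range j = LinearMap.ker (π'.baseChange B) :=
    ((LinearMap.exact_iff).mp hex).symm
  have h1 := Module.FinitePresentation.of_equiv (R := B) (M := B ⊗[S'] K')
    (N := LinearMap.range j) (LinearEquiv.ofInjective j hj)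
  rw [hrange] at h1
  exact h1

end Abs

section Gen

variable {k R S₀ : Type u} [CommRing k] [CommRing R] [Algebra k R] [CommRing S₀] [Algebra k S₀]
  {n m : ℕ} (ub : Fin m → Fin n → S₀)

/-- The canonical surjection `(R ⊗ S₀)^n → R ⊗ Model0`. -/
noncomputable def genMap : (Fin n → R ⊗[k] S₀) →ₗ[R ⊗[k] S₀] R ⊗[k] Model0 ub :=
  Fintype.linearCombination (R ⊗[k] S₀) (fun i => gen (k := k) (R := R) (ub := ub) i)

theorem genMap_apply (w : Fin n → R ⊗[k] S₀) :
    genMap (k := k) (R := R) ub w = ∑ i, w i • gen (k := k) (R := R) (ub := ub) i :=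
  Fintype.linearCombination_apply _ _ w

theorem genMap_single (i : Fin n) :
    genMap (k := k) (R := R) ub (Pi.single i 1) = gen (k := k) (R := R) (ub := ub) i := by
  rw [genMap_apply, Finset.sum_eq_single i]
  · rw [Pi.single_eq_same, one_smul]
  · intro j _ hji
    rw [Pi.single_eq_of_ne hji]
    exact zero_smul _ _
  · intro hi
    exact absurd (Finset.mem_univ i) hi

theorem genMap_surjective : Surjective (genMap (k := k) (R := R) ub) := by
  intro y
  induction y with
  | zero => exact ⟨0, map_zero _⟩
  | add y₁ y₂ h₁ h₂ =>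
    obtain ⟨w₁, rfl⟩ := h₁
    obtain ⟨w₂, rfl⟩ := h₂
    exact ⟨w₁ + w₂, map_add _ _ _⟩
  | tmul a x =>
    obtain ⟨w, rfl⟩ := Submodule.Quotient.mk_surjective _ x
    refine ⟨fun i => a ⊗ₜ[k] w i, ?_⟩
    rw [genMap_apply]
    have h1 : ∀ i : Fin n, ((a ⊗ₜ[k] w i : R ⊗[k] S₀)) • gen (k := k) (R := R) (ub := ub) i =
        a • ((((1 : R) ⊗ₜ[k] w i : R ⊗[k] S₀)) • gen (k := k) (R := R) (ub := ub) i) := by
      intro i
      rw [← smul_assoc, TensorProduct.smul_tmul', smul_eq_mul, mul_one]
    simp only [h1]
    rw [← Finset.smul_sum, one_tmul_smul_gen, TensorProduct.smul_tmul', smul_eq_mul, mul_one]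

end Gen

section Concrete

variable {A B : Type u} [CommRing A] [CommRing B] [Algebra A B] [Algebra.FinitePresentation A B]
  {H : Type u} [AddCommGroup H] [Module B H] [Module A H] [IsScalarTower A B H]

set_option synthInstance.maxHeartbeats 400000 in
set_option maxHeartbeats 1600000 in
/-- The kernel of a surjection from a finite free module onto a finitely presented module which is
flat over the base is finitely presented. -/
theorem finitePresentation_ker_of_free [Module.FinitePresentation B H] [Module.Flat A H] {r : ℕ}
    (π : (Fin r → B) →ₗ[B] H) (hπ : Surjective π) :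
    Module.FinitePresentation B (LinearMap.ker π) := by
  classical
  have hfg : (LinearMap.ker π).FG := Module.FinitePresentation.fg_ker π hπ
  obtain ⟨m, u, hu⟩ := Submodule.fg_iff_exists_fin_generating_family.mp hfg
  obtain ⟨k, _, _, S₀, _, _, e, ub, hk, hS₀, hub⟩ := exists_model_data (R := A) (S := B) u
  haveI : IsNoetherianRing k := Algebra.FiniteType.isNoetherianRing ℤ k
  letI : Module k H := Module.compHom H (algebraMap k A)
  haveI : IsScalarTower k A H := IsScalarTower.of_algebraMap_smul fun _ _ => rfl
  let ε : A ⊗[k] Model0 ub ≃ₗ[A] H := modelEquiv e π u hub hu.symm hπ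
  have hε : ∀ (c : A ⊗[k] S₀) (y : A ⊗[k] Model0 ub), ε (c • y) = e c • ε y :=
    modelEquiv_smul e π u hub hu.symm hπ
  have hεgen : ∀ i, ε (gen (k := k) (R := A) (ub := ub) i) = π (Pi.single i 1) := by
    intro i
    change Psi e π u hub hu.symm ((1 : A) ⊗ₜ[k] Submodule.Quotient.mk (Pi.single i (1 : S₀))) = _
    rw [Psi_tmul, one_smul]
    congr 1
    funext i'
    simp only [Pi.single_apply]
    split_ifs <;> simp
  haveI : Module.Flat A (A ⊗[k] Model0 ub) := Module.Flat.of_linearEquiv ε
  obtain ⟨A', -, hA', hflat⟩ :=
    exists_fg_flat_global (k := k) S₀ (M₀ := Model0 ub) (R := A) ⊥ Subalgebra.fg_bot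
  haveI : Algebra.FiniteType k A' := (Subalgebra.fg_iff_finiteType A').mp hA'
  haveI : IsNoetherianRing A' := Algebra.FiniteType.isNoetherianRing k A'
  haveI : IsNoetherianRing (A' ⊗[k] S₀) := Algebra.FiniteType.isNoetherianRing A' (A' ⊗[k] S₀)
  letI := stageAlgebra e A'
  letI := stageModuleTop e A' (M := H)
  haveI := isScalarTower_stage e A'
  haveI := isScalarTower_stageModuleTop e A' (M := H)
  haveI := isPushout_stage e A'
  have hbc := isBaseChange_stageMap e ε hε A'
  -- the stage surjection
  let π' : (Fin r → A' ⊗[k] S₀) →ₗ[A' ⊗[k] S₀] A' ⊗[k] Model0 ub := genMap (k := k) (R := A') ub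
  have hπ' : Surjective π' := genMap_surjective (k := k) (R := A') ub
  have key := finitePresentation_ker_baseChange (A' := A') A (B := B) π' hπ'
  -- identifications
  let ΦF : B ⊗[A' ⊗[k] S₀] (Fin r → A' ⊗[k] S₀) ≃ₗ[B] (Fin r → B) :=
    TensorProduct.piScalarRight (A' ⊗[k] S₀) B B (Fin r)
  have hsmul : ∀ (x : A' ⊗[k] S₀) (z : H), x • z = algebraMap (A' ⊗[k] S₀) B x • z :=
    fun _ _ => rfl
  have hstage : ∀ w : Fin r → A' ⊗[k] S₀,
      StageAbs88.stageMap e ε hε A' (π' w) = π (fun i => algebraMap (A' ⊗[k] S₀) B (w i)) := by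
    intro w
    have h0 : ∀ i, StageAbs88.stageMap e ε hε A' (gen (k := k) (R := A') (ub := ub) i) = π (Pi.single i 1) := by
      intro i
      rw [StageAbs88.stageMap_apply]
      have h3 : mMap (IsScalarTower.toAlgHom k A' A) (Model0 ub) (gen (k := k) (R := A') (ub := ub) i) =
          gen (k := k) (R := A) (ub := ub) i := by
        simp only [gen, mMap_tmul, map_one]
      rw [h3, hεgen]
    change StageAbs88.stageMap e ε hε A' (genMap (k := k) (R := A') ub w) = _
    rw [genMap_apply, map_sum]
    have h4 : ∀ i, StageAbs88.stageMap e ε hε A' (w i • gen (k := k) (R := A') (ub := ub) i) =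
        π (algebraMap (A' ⊗[k] S₀) B (w i) • Pi.single i 1) := by
      intro i
      rw [map_smul, h0, hsmul, map_smul]
    rw [Finset.sum_congr rfl (fun i _ => h4 i), ← map_sum]
    congr 1
    exact sum_smul_single _
  have hsq : ∀ z, π (ΦF z) = hbc.equiv ((π'.baseChange B) z) := by
    intro z
    induction z with
    | zero => simp
    | add a b ha hb => simp only [map_add, ha, hb]
    | tmul b w =>
      rw [LinearMap.baseChange_tmul, IsBaseChange.equiv_tmul, hstage]
      have h1 : ΦF (b ⊗ₜ[A' ⊗[k] S₀] w) = b • fun i => algebraMap (A' ⊗[k] S₀) B (w i) := by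
        funext i
        simp only [ΦF, TensorProduct.piScalarRight_apply, TensorProduct.piScalarRightHom_tmul,
          Pi.smul_apply, smul_eq_mul]
        rw [Algebra.smul_def, mul_comm]
      rw [h1, map_smul]
  have hmap : Submodule.map ΦF.toLinearMap (LinearMap.ker (π'.baseChange B)) = LinearMap.ker π := by
    ext x
    simp only [Submodule.mem_map, LinearMap.mem_ker, LinearEquiv.coe_coe]
    constructor
    · rintro ⟨z, hz, rfl⟩
      rw [hsq, hz, map_zero]
    · intro hx
      refine ⟨ΦF.symm x, ?_, ΦF.apply_symm_apply x⟩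
      apply hbc.equiv.injective
      rw [← hsq, ΦF.apply_symm_apply, hx, map_zero]
  exact Module.FinitePresentation.of_equiv (R := B)
    (M := LinearMap.ker (π'.baseChange B)) (N := LinearMap.ker π)
    (ΦF.ofSubmodules _ _ hmap)

end Concrete

end Groth.Agent.Lib.KerFP88
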