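import Groth.Agent.Lib.KoszulRelBC
import Groth.Agent.Lib.KerFP88
import Groth.Agent.Lib.FlatKer
import Groth.Agent.Lib.ArtinianFlatten88

/-!
# Cycles of a partially exact Koszul complex are finitely presented and flat over the base (helper19)

Namespace `Groth.Agent.Lib.KoszulFibreZ`.

`R → Q` flat of finite presentation, `l` a list in `Q` with `Q/(l)` flat over `R`.  If `K(l; Q)` is exact in degrees
`[-n, -1]` then for `1 ≤ m ≤ n + 1` the cycles `Z^{-m}` are finitely presented over `Q`, flat over `R`, and
`K^{-m}/Z^{-m}` is flat over `R` (helper88's `KerFP88.finitePresentation_ker_of_free`, no Noetherian hypothesis).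
-/

set_option autoImplicit false
set_option linter.style.haveILetI false
universe u
open CategoryTheory CategoryTheory.Limits TensorProduct Function

namespace Groth.Agent.Lib.KoszulFibreZ

section KF

variable {R Q : Type u} [CommRing R] [CommRing Q] [Algebra R Q]
variable {F H : Type u} [AddCommGroup F] [Module Q F] [Module R F] [IsScalarTower R Q F]
  [AddCommGroup H] [Module Q H] [Module R H] [IsScalarTower R Q H]

/-- the kernel of a `Q`-linear map, as an `R`-module, is the kernel of the restriction of scalars -/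
def kerEquiv (π : F →ₗ[Q] H) : LinearMap.ker (π.restrictScalars R) ≃ₗ[R] LinearMap.ker π where
  toFun x := ⟨x.1, x.2⟩
  invFun x := ⟨x.1, x.2⟩
  map_add' _ _ := rfl
  map_smul' _ _ := rfl
  left_inv _ := rfl
  right_inv _ := rfl

theorem flat_ker [Module.Flat R F] [Module.Flat R H] (π : F →ₗ[Q] H) (hπ : Surjective π) :
    Module.Flat R (LinearMap.ker π) := by
  have h := Groth.Agent.Lib.FlatKer.flat_ker_of_surjective (π.restrictScalars R) hπ
  exact Module.Flat.of_linearEquiv (kerEquiv π).symm

omit [Module R F] [IsScalarTower R Q F] in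
theorem finitePresentation_ker [Algebra.FinitePresentation R Q] [Module.Free Q F] [Module.Finite Q F]
    [Module.FinitePresentation Q H] [Module.Flat R H] (π : F →ₗ[Q] H) (hπ : Surjective π) :
    Module.FinitePresentation Q (LinearMap.ker π) := by
  rcases subsingleton_or_nontrivial Q with hQ | hQ
  · have : Subsingleton F := Module.subsingleton Q F
    infer_instance
  let b : Module.Basis (Fin (Module.finrank Q F)) Q F := Module.finBasis Q F
  let e : (Fin (Module.finrank Q F) → Q) ≃ₗ[Q] F := b.equivFun.symm
  have h1 : Module.FinitePresentation Q (LinearMap.ker (π ∘ₗ e.toLinearMap)) :=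
    Groth.Agent.Lib.KerFP88.finitePresentation_ker_of_free (A := R) (π ∘ₗ e.toLinearMap)
      (hπ.comp e.surjective)
  have hk : LinearMap.ker (π ∘ₗ e.toLinearMap) = (LinearMap.ker π).comap e.toLinearMap :=
    LinearMap.ker_comp _ _
  let e' : LinearMap.ker (π ∘ₗ e.toLinearMap) ≃ₗ[Q] LinearMap.ker π :=
    (LinearEquiv.ofEq _ _ hk).trans (e.submoduleMap _ |>.trans (LinearEquiv.ofEq _ _ (by
      rw [Submodule.map_comap_eq_of_surjective e.surjective])))
  exact Module.FinitePresentation.of_equiv e'

end KF

section flatOver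

variable (R Q : Type u) [CommRing R] [CommRing Q] [Algebra R Q]

/-- `R`-flatness of a `Q`-module, for the `R`-module structure through `R → Q` -/
def FlatOver (M : Type u) [AddCommGroup M] [Module Q M] : Prop :=
  letI := Module.compHom (R := Q) M (algebraMap R Q)
  Module.Flat R M

variable {R Q}

theorem flatOver_iff (M : Type u) [AddCommGroup M] [Module Q M] [Module R M] [IsScalarTower R Q M] :
    FlatOver R Q M ↔ Module.Flat R M := by
  have key : ∀ (r : R) (x : M), algebraMap R Q r • x = r • x := fun r x => algebraMap_smul Q r x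
  have heq : Module.compHom (R := Q) M (algebraMap R Q) = ‹Module R M› := by
    apply Module.ext'
    intro r x
    exact key r x
  unfold FlatOver
  rw [heq]

theorem FlatOver.of_linearEquiv {M N : Type u} [AddCommGroup M] [Module Q M] [AddCommGroup N]
    [Module Q N] (e : M ≃ₗ[Q] N) (h : FlatOver R Q M) : FlatOver R Q N := by
  letI : Module R M := Module.compHom (R := Q) M (algebraMap R Q)
  letI : Module R N := Module.compHom (R := Q) N (algebraMap R Q)
  have e' : N ≃ₗ[R] M :=
    { toFun := e.symm
      invFun := e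
      map_add' := fun x y => map_add _ x y
      map_smul' := fun r x => by
        show e.symm (algebraMap R Q r • x) = algebraMap R Q r • e.symm x
        exact map_smul _ _ _
      left_inv := fun x => e.apply_symm_apply x
      right_inv := fun x => e.symm_apply_apply x }
  have hM : Module.Flat R M := h
  exact Module.Flat.of_linearEquiv e'

end flatOver

section chain

variable {R Q : Type u} [CommRing R] [CommRing Q] [Algebra R Q]

theorem flatOver_of_free [Module.Flat R Q] (F : Type u) [AddCommGroup F] [Module Q F]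
    [Module.Free Q F] : FlatOver R Q F := by
  letI : Module R F := Module.compHom (R := Q) F (algebraMap R Q)
  haveI : IsScalarTower R Q F := IsScalarTower.of_algebraMap_smul (fun _ _ => rfl)
  exact Module.Flat.trans R Q F

/-- the kernel of a surjection from a finite free module onto a finitely presented, `R`-flat module -/
theorem step_ker' [Algebra.FinitePresentation R Q] [Module.Flat R Q] {F H : Type u} [AddCommGroup F]
    [Module Q F] [Module.Free Q F] [Module.Finite Q F] [AddCommGroup H] [Module Q H]
    (π : F →ₗ[Q] H) (hπ : Surjective π)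
    (hfp : Module.FinitePresentation Q H) (hfl : FlatOver R Q H) :
    Module.FinitePresentation Q (LinearMap.ker π) ∧ FlatOver R Q (LinearMap.ker π) := by
  letI : Module R F := Module.compHom (R := Q) F (algebraMap R Q)
  letI : Module R H := Module.compHom (R := Q) H (algebraMap R Q)
  haveI : IsScalarTower R Q F := IsScalarTower.of_algebraMap_smul (fun _ _ => rfl)
  haveI : IsScalarTower R Q H := IsScalarTower.of_algebraMap_smul (fun _ _ => rfl)
  haveI : Module.Flat R F := Module.Flat.trans R Q F
  haveI : Module.Flat R H := hfl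
  refine ⟨finitePresentation_ker (R := R) π hπ, ?_⟩
  rw [flatOver_iff]
  exact flat_ker (R := R) π hπ

/-- one step of the chain: the kernel of a map from a finite free module onto a finitely presented, `R`-flat module -/
theorem step_ker [Algebra.FinitePresentation R Q] [Module.Flat R Q] {F F' : Type u} [AddCommGroup F]
    [Module Q F] [Module.Free Q F] [Module.Finite Q F] [AddCommGroup F'] [Module Q F']
    (φ : F →ₗ[Q] F') (Z' : Submodule Q F') (hZ' : LinearMap.range φ = Z')
    (hfp : Module.FinitePresentation Q Z') (hfl : FlatOver R Q Z') :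
    Module.FinitePresentation Q (LinearMap.ker φ) ∧ FlatOver R Q (LinearMap.ker φ) ∧
      FlatOver R Q (F ⧸ LinearMap.ker φ) := by
  subst hZ'
  have hquot : FlatOver R Q (F ⧸ LinearMap.ker φ) :=
    FlatOver.of_linearEquiv φ.quotKerEquivRange.symm hfl
  letI : Module R F := Module.compHom (R := Q) F (algebraMap R Q)
  letI : Module R F' := Module.compHom (R := Q) F' (algebraMap R Q)
  haveI : IsScalarTower R Q F := IsScalarTower.of_algebraMap_smul (fun _ _ => rfl)
  haveI : IsScalarTower R Q F' := IsScalarTower.of_algebraMap_smul (fun _ _ => rfl)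
  haveI : Module.Flat R F := Module.Flat.trans R Q F
  haveI : Module.Flat R (LinearMap.range φ) := (flatOver_iff _).mp hfl
  have hπ : Surjective φ.rangeRestrict := LinearMap.surjective_rangeRestrict φ
  have h1 := finitePresentation_ker (R := R) φ.rangeRestrict hπ
  have h2 := flat_ker (R := R) φ.rangeRestrict hπ
  have hk : LinearMap.ker φ.rangeRestrict = LinearMap.ker φ := LinearMap.ker_rangeRestrict φ
  refine ⟨?_, ?_, hquot⟩
  · exact Module.FinitePresentation.of_equiv (LinearEquiv.ofEq _ _ hk)
  · rw [flatOver_iff]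
    exact Module.Flat.of_linearEquiv ((LinearEquiv.ofEq _ _ hk).restrictScalars R).symm

end chain

section terms

open Groth.Agent.Lib.KoszulCone Groth.Agent.Lib.KoszulElem CochainComplex

variable {Q : Type u} [CommRing Q]

/-- the cone in degree `n` is the product of its two coordinates -/
noncomputable def coneEquiv {F G : CochainComplex (ModuleCat.{u} Q) ℤ} (φ : F ⟶ G) (n : ℤ) :
    (mappingCone φ).X n ≃ₗ[Q] (F.X (n + 1) × G.X n) :=
  LinearEquiv.ofBijective ((fstL φ n).prod (sndL φ n)) (by
    constructor
    · intro z z' h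
      exact ext_cone φ n z z' (congrArg Prod.fst h) (congrArg Prod.snd h)
    · rintro ⟨a, b⟩
      refine ⟨mkE φ n a b, ?_⟩
      show (fstE φ n (mkE φ n a b), sndE φ n (mkE φ n a b)) = (a, b)
      rw [fstE_mkE, sndE_mkE])

/-- the terms of `K(l; Q)` are finite free -/
theorem free_finite_X : ∀ (l : List Q) (j : ℤ),
    Module.Free Q ((kcx (ModuleCat.of Q Q) l).X j) ∧ Module.Finite Q ((kcx (ModuleCat.of Q Q) l).X j)
  | [], j => by
    by_cases hj : j = 0
    · let e : Q ≃ₗ[Q] (kcx (ModuleCat.of Q Q) []).X j :=
        (HomologicalComplex.singleObjXIsoOfEq (ComplexShape.up ℤ) 0 (ModuleCat.of Q Q) j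
          hj).toLinearEquiv.symm
      exact ⟨Module.Free.of_equiv e, Module.Finite.equiv e⟩
    · have : Subsingleton ((kcx (ModuleCat.of Q Q) []).X j) :=
        ModuleCat.subsingleton_of_isZero
          (HomologicalComplex.isZero_single_obj_X (ComplexShape.up ℤ) 0 _ j hj)
      exact ⟨inferInstance, inferInstance⟩
  | f :: l, j => by
    obtain ⟨h1, h1'⟩ := free_finite_X l (j + 1)
    obtain ⟨h2, h2'⟩ := free_finite_X l j
    let e := (coneEquiv (f • 𝟙 (kcx (ModuleCat.of Q Q) l)) j).symm
    exact ⟨Module.Free.of_equiv e, Module.Finite.equiv e⟩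

end terms

section cycles

open Groth.Agent.Lib.KoszulCone Groth.Agent.Lib.KoszulElem Groth.Agent.Lib.KoszulTop
  Groth.Agent.Lib.KoszulReduce

variable {R Q : Type u} [CommRing R] [CommRing Q] [Algebra R Q]

/-- the augmentation `K^0(l; Q) → Q/(l)` -/
noncomputable def augQ (l : List Q) (k : ℤ) (hk : k = 0) :
    (kcx (ModuleCat.of Q Q) l).X k →ₗ[Q] Q ⧸ Ideal.ofList l :=
  (Submodule.mkQ (Ideal.ofList l)) ∘ₗ (topJ (ModuleCat.of Q Q) l k hk)

theorem augQ_surjective (l : List Q) (k : ℤ) (hk : k = 0) : Surjective (augQ l k hk) :=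
  (Submodule.mkQ_surjective _).comp (topJ_bijective _ l k hk).2

theorem ker_augQ (l : List Q) (j k : ℤ) (hjk : j + 1 = k) (hk : k = 0) :
    LinearMap.ker (augQ l k hk) = LinearMap.range ((kcx (ModuleCat.of Q Q) l).d j k).hom := by
  ext y
  rw [LinearMap.mem_ker, LinearMap.mem_range]
  show Submodule.mkQ (Ideal.ofList l) (topJ (ModuleCat.of Q Q) l k hk y) = 0 ↔ _
  rw [Submodule.mkQ_apply, Submodule.Quotient.mk_eq_zero]
  have h := topJ_d_iff (ModuleCat.of Q Q) l j k hjk hk (topJ (ModuleCat.of Q Q) l k hk y)
  have h2 : topJ (ModuleCat.of Q Q) l k hk y ∈ Ideal.ofList l ↔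
      topJ (ModuleCat.of Q Q) l k hk y ∈ Ideal.ofList l • (⊤ : Submodule Q (ModuleCat.of Q Q)) :=
    (mem_smul_top_self_iff (Ideal.ofList l) _).symm
  rw [h2, ← h]
  constructor
  · rintro ⟨w, hw⟩
    exact ⟨w, (topJ_bijective _ l k hk).1 hw⟩
  · rintro ⟨w, hw⟩
    exact ⟨w, congrArg _ hw⟩

/-- **cycles are finitely presented and flat over the base** -/
theorem cycles_fp_flat [Algebra.FinitePresentation R Q] [Module.Flat R Q] (l : List Q)
    [Module.Flat R (Q ⧸ Ideal.ofList l)] (n : ℕ)
    (hn : ∀ j : ℤ, -(n : ℤ) ≤ j → j < 0 → IsZero ((kcx (ModuleCat.of Q Q) l).homology j)) :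
    ∀ (m : ℕ), 1 ≤ m → m ≤ n + 1 → ∀ (j k : ℤ), j = -(m : ℤ) → j + 1 = k →
      Module.FinitePresentation Q (LinearMap.ker ((kcx (ModuleCat.of Q Q) l).d j k).hom) ∧
      FlatOver R Q (LinearMap.ker ((kcx (ModuleCat.of Q Q) l).d j k).hom) ∧
      FlatOver R Q ((kcx (ModuleCat.of Q Q) l).X j ⧸
        LinearMap.ker ((kcx (ModuleCat.of Q Q) l).d j k).hom) := by
  intro m
  induction m with
  | zero => intro h; omega
  | succ m ih =>
    intro _ hmn j k hj hjk
    obtain ⟨hfree, hfin⟩ := free_finite_X l j
    rcases Nat.eq_zero_or_pos m with rfl | hm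
    · -- base: `j = -1`, `k = 0`
      have hk : k = 0 := by omega
      obtain ⟨hfree0, hfin0⟩ := free_finite_X l k
      have hfpQ : Module.FinitePresentation Q (Q ⧸ Ideal.ofList l) := by
        refine Module.finitePresentation_of_surjective (Submodule.mkQ (Ideal.ofList l))
          (Submodule.mkQ_surjective _) ?_
        rw [Submodule.ker_mkQ]
        exact Submodule.fg_span (List.finite_toSet l)
      have hflQ : FlatOver R Q (Q ⧸ Ideal.ofList l) := (flatOver_iff _).mpr inferInstance
      obtain ⟨h1, h2⟩ := step_ker' (R := R) (augQ l k hk) (augQ_surjective l k hk) hfpQ hflQ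
      have hker := ker_augQ l j k hjk hk
      refine step_ker (R := R) ((kcx (ModuleCat.of Q Q) l).d j k).hom _ hker.symm h1 h2
    · -- step
      have hex : Function.Exact ((kcx (ModuleCat.of Q Q) l).d j k)
          ((kcx (ModuleCat.of Q Q) l).d k (k + 1)) :=
        (isZero_homology_iff _ j k (k + 1) hjk rfl).mp (hn k (by omega) (by omega))
      obtain ⟨h1, h2, -⟩ := ih hm (by omega) k (k + 1) (by omega) rfl
      have hrange : LinearMap.range ((kcx (ModuleCat.of Q Q) l).d j k).hom =
          LinearMap.ker ((kcx (ModuleCat.of Q Q) l).d k (k + 1)).hom :=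
        (LinearMap.exact_iff.mp hex).symm
      exact step_ker (R := R) ((kcx (ModuleCat.of Q Q) l).d j k).hom _ hrange h1 h2

end cycles

end Groth.Agent.Lib.KoszulFibreZ
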