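import Groth.Agent.Lib.ArtinianFlatten88
import Groth.Agent.Lib.KoszulFibreZ
import Mathlib.LinearAlgebra.TensorProduct.Vanishing
import Mathlib.LinearAlgebra.Matrix.Charpoly.LinearMap
import Mathlib.RingTheory.Flat.Basic

/-!
# Fibrewise exactness: module-level lemmas (helper19)

Namespace `Groth.Agent.Lib.FibreKR1`.

* `exists_smul_eq_zero_of_tmul_eq_zero` : flat `A → B`, `𝔮 B ≠ B`, `1 ⊗ m = 0` in `B ⊗ M` ⇒ `s • m = 0` for some `s ∉ 𝔮`.
* `exists_smul_mem_of_tmul_eq_zero` : the same modulo an ideal `𝔟` with `B` flat over `A/𝔟`.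
* `exists_smul_eq_zero_of_forall` : local Nakayama: `N` f.g., every element is moved into `𝔟 N` by some `s ∉ 𝔮`,
  `𝔟 ≤ 𝔮` prime ⇒ `r N = 0` for some `r ∉ 𝔮`.
* `exists_smul_mem_range` : the abstract step: a complex `X₁ → X₂ → X₃` over `Q` whose cycles are finitely generated and
  relatively flat, exact after tensoring with a test ring `T` flat over `Q/𝔟`: the homology is killed by some `r ∉ 𝔮`.
-/

set_option autoImplicit false
set_option linter.style.haveILetI false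
universe u
open TensorProduct Function

namespace Groth.Agent.Lib.FibreKR1

section Pure

variable {A : Type*} [CommRing A] {B : Type*} [CommRing B] [Algebra A B]
  {M : Type*} [AddCommGroup M] [Module A M]

/-- flatness: `1 ⊗ m = 0` in `B ⊗ M` forces `Ann(m) B = B`; with `𝔮 B ≠ B` some annihilating element is outside `𝔮`. -/
theorem exists_smul_eq_zero_of_tmul_eq_zero [Module.Flat A B] (𝔮 : Ideal A)
    (h𝔮 : 𝔮.map (algebraMap A B) ≠ ⊤) (m : M) (h : (1 : B) ⊗ₜ[A] m = 0) :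
    ∃ s : A, s ∉ 𝔮 ∧ s • m = 0 := by
  have h0 : ∑ _i : Unit, m ⊗ₜ[A] (1 : B) = (0 : M ⊗[A] B) := by
    have := congrArg (TensorProduct.comm A B M) h
    simpa using this
  have hinj : Function.Injective
      (LinearMap.rTensor B (Submodule.span A (Set.range (fun _ : Unit => m))).subtype) :=
    Module.Flat.rTensor_preserves_injective_linearMap _ (Submodule.injective_subtype _)
  obtain ⟨k, a, y, hy, ha⟩ :=
    TensorProduct.vanishesTrivially_of_sum_tmul_eq_zero_of_rTensor_injective A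
      (m := fun _ : Unit => m) (n := fun _ : Unit => (1 : B)) hinj h0
  by_contra hcon
  push Not at hcon
  apply h𝔮
  rw [Ideal.eq_top_iff_one]
  have h1 : (1 : B) = ∑ j, a () j • y j := hy ()
  rw [h1]
  refine Ideal.sum_mem _ fun j _ => ?_
  rw [Algebra.smul_def]
  refine Ideal.mul_mem_right _ _ (Ideal.mem_map_of_mem _ ?_)
  by_contra hj
  exact hcon (a () j) hj (by simpa using ha j)

end Pure

section PureMod

variable {Q : Type*} [CommRing Q] {T : Type*} [CommRing T] [Algebra Q T] (𝔟 : Ideal Q)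
  [Algebra (Q ⧸ 𝔟) T] [IsScalarTower Q (Q ⧸ 𝔟) T]
  {M₀ : Type*} [AddCommGroup M₀] [Module Q M₀]

/-- the comparison map `M₀ ⊗_Q T → T ⊗_{Q/𝔟} M₀/𝔟M₀` -/
noncomputable def cmp : M₀ ⊗[Q] T →+ T ⊗[Q ⧸ 𝔟] (M₀ ⧸ 𝔟 • (⊤ : Submodule Q M₀)) :=
  TensorProduct.liftAddHom
    { toFun := fun m =>
        { toFun := fun t => t ⊗ₜ[Q ⧸ 𝔟] (Submodule.Quotient.mk m : M₀ ⧸ 𝔟 • (⊤ : Submodule Q M₀))
          map_zero' := by simp
          map_add' := fun t t' => by rw [add_tmul] }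
      map_zero' := by ext t; simp
      map_add' := fun m m' => by ext t; simp [tmul_add] }
    (fun r m t => by
      show t ⊗ₜ[Q ⧸ 𝔟] (Submodule.Quotient.mk (r • m) : M₀ ⧸ 𝔟 • (⊤ : Submodule Q M₀)) =
        (r • t) ⊗ₜ[Q ⧸ 𝔟] (Submodule.Quotient.mk m : M₀ ⧸ 𝔟 • (⊤ : Submodule Q M₀))
      rw [← Module.Quotient.mk_smul_mk, ← TensorProduct.smul_tmul,
        ← IsScalarTower.algebraMap_smul (Q ⧸ 𝔟) r t]
      rfl)

theorem cmp_tmul (m : M₀) (t : T) :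
    cmp 𝔟 (m ⊗ₜ[Q] t) = t ⊗ₜ[Q ⧸ 𝔟] (Submodule.Quotient.mk m : M₀ ⧸ 𝔟 • (⊤ : Submodule Q M₀)) := rfl

/-- purity modulo `𝔟`: `T` flat over `Q/𝔟`, `𝔮 T ≠ T`, `m ⊗ 1 = 0` in `M₀ ⊗_Q T` ⇒ `s • m ∈ 𝔟 M₀` for some `s ∉ 𝔮`. -/
theorem exists_smul_mem_of_tmul_eq_zero [Module.Flat (Q ⧸ 𝔟) T] (𝔮 : Ideal Q)
    (h𝔮 : 𝔮.map (algebraMap Q T) ≠ ⊤) (m : M₀) (h : m ⊗ₜ[Q] (1 : T) = 0) :
    ∃ s : Q, s ∉ 𝔮 ∧ s • m ∈ 𝔟 • (⊤ : Submodule Q M₀) := by
  have h1 : (1 : T) ⊗ₜ[Q ⧸ 𝔟] (Submodule.Quotient.mk m : M₀ ⧸ 𝔟 • (⊤ : Submodule Q M₀)) = 0 := by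
    rw [← cmp_tmul, h, map_zero]
  have h𝔮' : (𝔮.map (Ideal.Quotient.mk 𝔟)).map (algebraMap (Q ⧸ 𝔟) T) ≠ ⊤ := by
    rw [Ideal.map_map]
    have : (algebraMap (Q ⧸ 𝔟) T).comp (Ideal.Quotient.mk 𝔟) = algebraMap Q T := by
      ext r
      exact (IsScalarTower.algebraMap_apply Q (Q ⧸ 𝔟) T r).symm
    rw [this]
    exact h𝔮
  obtain ⟨sb, hsb, hsbm⟩ := exists_smul_eq_zero_of_tmul_eq_zero (𝔮.map (Ideal.Quotient.mk 𝔟)) h𝔮' _ h1
  obtain ⟨s, rfl⟩ := Ideal.Quotient.mk_surjective sb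
  refine ⟨s, fun hs => hsb (Ideal.mem_map_of_mem _ hs), ?_⟩
  rw [Module.Quotient.mk_smul_mk] at hsbm
  exact (Submodule.Quotient.mk_eq_zero _).mp hsbm

end PureMod

section Nak

variable {Q : Type*} [CommRing Q] {N : Type*} [AddCommGroup N] [Module Q N]

/-- local Nakayama (determinant trick): if every element of the finite module `N` is moved into `𝔟 N` by some
`s ∉ 𝔮`, where `𝔟 ≤ 𝔮` and `𝔮` is prime, then `N` is killed by some `r ∉ 𝔮`. -/
theorem exists_smul_eq_zero_of_forall [Module.Finite Q N] (𝔟 𝔮 : Ideal Q) [h𝔮 : 𝔮.IsPrime] (h𝔟 : 𝔟 ≤ 𝔮)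
    (h : ∀ n : N, ∃ s : Q, s ∉ 𝔮 ∧ s • n ∈ 𝔟 • (⊤ : Submodule Q N)) :
    ∃ r : Q, r ∉ 𝔮 ∧ ∀ n : N, r • n = 0 := by
  classical
  obtain ⟨S, hS⟩ := (Module.Finite.fg_top : (⊤ : Submodule Q N).FG)
  choose σ hσ hσm using h
  set s : Q := ∏ n ∈ S, σ n with hs
  have hs𝔮 : s ∉ 𝔮 := by
    rw [hs]
    intro hmem
    obtain ⟨n, -, hn⟩ := (Ideal.IsPrime.prod_mem_iff).mp hmem
    exact hσ n hn
  have hgen : ∀ n ∈ S, s • n ∈ 𝔟 • (⊤ : Submodule Q N) := by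
    intro n hn
    rw [hs, ← Finset.mul_prod_erase S σ hn, mul_comm, mul_smul]
    exact Submodule.smul_mem _ _ (hσm n)
  let f : Module.End Q N := algebraMap Q (Module.End Q N) s
  have hf : ∀ x, f x = s • x := fun x => rfl
  have hall : ∀ x : N, s • x ∈ 𝔟 • (⊤ : Submodule Q N) := by
    intro x
    have hx : x ∈ Submodule.span Q (S : Set N) := by rw [hS]; trivial
    have hle : Submodule.span Q (S : Set N) ≤ (𝔟 • (⊤ : Submodule Q N)).comap f := by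
      rw [Submodule.span_le]
      intro n hn
      rw [SetLike.mem_coe, Submodule.mem_comap, hf]
      exact hgen n hn
    have := hle hx
    rwa [Submodule.mem_comap, hf] at this
  have hrange : LinearMap.range f ≤ 𝔟 • (⊤ : Submodule Q N) := by
    rintro _ ⟨x, rfl⟩
    rw [hf]
    exact hall x
  obtain ⟨p, hmonic, -, hcoeff, hp⟩ :=
    LinearMap.exists_monic_and_natDegree_eq_and_coeff_mem_pow_and_aeval_eq_zero Q f 𝔟 hrange
  rw [Polynomial.aeval_algebraMap_apply_eq_algebraMap_eval] at hp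
  refine ⟨p.eval s, ?_, fun n => ?_⟩
  · intro hmem
    rw [Polynomial.eval_eq_sum_range, Finset.sum_range_succ, hmonic.coeff_natDegree, one_mul] at hmem
    have hsum : ∑ i ∈ Finset.range p.natDegree, p.coeff i * s ^ i ∈ 𝔮 := by
      refine Ideal.sum_mem _ fun i hi => ?_
      refine Ideal.mul_mem_right _ _ (h𝔟 ?_)
      have hi' : i < p.natDegree := Finset.mem_range.mp hi
      have h1 := hcoeff i
      exact Ideal.pow_le_self (by omega) h1
    have hpow : s ^ p.natDegree ∈ 𝔮 := by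
      have := Ideal.sub_mem _ hmem hsum
      simpa using this
    exact hs𝔮 (h𝔮.mem_of_pow_mem _ hpow)
  · have := LinearMap.congr_fun hp n
    exact this

end Nak

section Int

open Groth.Agent.Lib.KoszulFibreZ

variable {R Q : Type u} [CommRing R] [CommRing Q] [Algebra R Q]
  {X : Type u} [AddCommGroup X] [Module Q X]

/-- if `X/Z` is flat over `R` then `Z ∩ 𝔞 X = 𝔞 Z` -/
theorem inf_smul_top_le (Z : Submodule Q X) (hfl : FlatOver R Q (X ⧸ Z)) (𝔞 : Ideal R) :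
    Z ⊓ (𝔞.map (algebraMap R Q)) • (⊤ : Submodule Q X) ≤ (𝔞.map (algebraMap R Q)) • Z := by
  letI : Module R X := Module.compHom (R := Q) X (algebraMap R Q)
  letI : Module R (X ⧸ Z) := Module.compHom (R := Q) (X ⧸ Z) (algebraMap R Q)
  haveI : IsScalarTower R Q X := IsScalarTower.of_algebraMap_smul (fun _ _ => rfl)
  haveI : IsScalarTower R Q (X ⧸ Z) := IsScalarTower.of_algebraMap_smul (fun _ _ => rfl)
  haveI : Module.Flat R (X ⧸ Z) := hfl
  have h := Groth.Agent.Lib.ArtinianFlatten88.ker_inf_smul_le (Z.mkQ.restrictScalars R)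
    (Submodule.mkQ_surjective Z) 𝔞
  have hk : LinearMap.ker (Z.mkQ.restrictScalars R) = Z.restrictScalars R := by
    ext y
    simp
  intro y hy
  have h1 : y ∈ LinearMap.ker (Z.mkQ.restrictScalars R) ⊓ 𝔞 • (⊤ : Submodule R X) := by
    refine ⟨by rw [hk]; exact hy.1, ?_⟩
    have := Ideal.smul_restrictScalars (R := R) (S := Q) 𝔞 (⊤ : Submodule Q X)
    rw [Submodule.restrictScalars_top] at this
    rw [← this]
    exact hy.2
  have h2 := h h1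
  rw [hk, ← Ideal.smul_restrictScalars] at h2
  exact h2

end Int

section Step

open Groth.Agent.Lib.KoszulFibreZ

variable {R Q : Type u} [CommRing R] [CommRing Q] [Algebra R Q] {T : Type*} [CommRing T] [Algebra Q T]
  (𝔞 : Ideal R) (𝔟 : Ideal Q) [Algebra (Q ⧸ 𝔟) T] [IsScalarTower Q (Q ⧸ 𝔟) T]
  [Module.Flat (Q ⧸ 𝔟) T]
  {X₁ X₂ X₃ : Type u} [AddCommGroup X₁] [Module Q X₁] [AddCommGroup X₂] [Module Q X₂]
  [AddCommGroup X₃] [Module Q X₃]

/-- **the abstract step**: a complex `X₁ → X₂ → X₃` of `Q`-modules with finitely generated cycles `Z`, `X₂/Z` flat over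
`R`, exact after tensoring with a test ring `T` which is flat over `Q/𝔞Q` and with `𝔮 T ≠ T`: then the homology is
killed by some `r ∉ 𝔮`. -/
theorem exists_smul_mem_range (h𝔟eq : 𝔟 = 𝔞.map (algebraMap R Q)) (𝔮 : Ideal Q) [𝔮.IsPrime] (h𝔟 : 𝔟 ≤ 𝔮)
    (h𝔮 : 𝔮.map (algebraMap Q T) ≠ ⊤) (d₁ : X₁ →ₗ[Q] X₂) (d₂ : X₂ →ₗ[Q] X₃)
    (hd : ∀ x, d₂ (d₁ x) = 0) (hfg : (LinearMap.ker d₂).FG)
    (hfl : FlatOver R Q (X₂ ⧸ LinearMap.ker d₂))
    (hex : Function.Exact (d₁.rTensor T) (d₂.rTensor T)) :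
    ∃ r : Q, r ∉ 𝔮 ∧ ∀ z, d₂ z = 0 → ∃ w, r • z = d₁ w := by
  set Z : Submodule Q X₂ := LinearMap.ker d₂ with hZ
  have hBZ : ∀ w, d₁ w ∈ Z := fun w => hd w
  -- fibrewise: cycles are boundaries modulo `𝔟 Z`, locally at `𝔮`
  have FC : ∀ z ∈ Z, ∃ s : Q, s ∉ 𝔮 ∧ ∃ w, s • z - d₁ w ∈ 𝔟 • Z := by
    intro z hz
    have h1 : (d₂.rTensor T) (z ⊗ₜ[Q] (1 : T)) = 0 := by
      rw [LinearMap.rTensor_tmul, LinearMap.mem_ker.mp hz, zero_tmul]
    obtain ⟨w', hw'⟩ := (hex _).mp h1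
    let π := (LinearMap.range d₁).mkQ
    have h2 : (π z) ⊗ₜ[Q] (1 : T) = 0 := by
      have : (π.rTensor T) (z ⊗ₜ[Q] (1 : T)) = 0 := by
        rw [← hw', ← LinearMap.comp_apply, ← LinearMap.rTensor_comp, LinearMap.range_mkQ_comp,
          LinearMap.rTensor_zero, LinearMap.zero_apply]
      exact this
    obtain ⟨s, hs, hsm⟩ := exists_smul_mem_of_tmul_eq_zero 𝔟 𝔮 h𝔮 (π z) h2
    have hmap : (𝔟 • (⊤ : Submodule Q (X₂ ⧸ LinearMap.range d₁))) =
        (𝔟 • (⊤ : Submodule Q X₂)).map π := by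
      rw [Submodule.map_smul'', Submodule.map_top, Submodule.range_mkQ]
    rw [hmap] at hsm
    obtain ⟨y, hy, hyz⟩ := hsm
    have h3 : s • z - y ∈ LinearMap.range d₁ := by
      rw [← Submodule.ker_mkQ (LinearMap.range d₁), LinearMap.mem_ker, map_sub, map_smul, hyz, sub_self]
    obtain ⟨w, hw⟩ := h3
    refine ⟨s, hs, w, ?_⟩
    have hy' : s • z - d₁ w = y := by rw [hw]; abel
    rw [hy']
    have hint := inf_smul_top_le Z hfl 𝔞
    rw [← h𝔟eq] at hint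
    apply hint
    refine ⟨?_, hy⟩
    rw [← hy']
    exact Z.sub_mem (Z.smul_mem s hz) (hBZ w)
  -- the homology module
  let B' : Submodule Q Z := (LinearMap.range d₁).comap Z.subtype
  haveI : Module.Finite Q Z := Module.Finite.iff_fg.mpr hfg
  have hN : ∀ n : Z ⧸ B', ∃ s : Q, s ∉ 𝔮 ∧ s • n ∈ 𝔟 • (⊤ : Submodule Q (Z ⧸ B')) := by
    intro n
    obtain ⟨z, rfl⟩ := Submodule.mkQ_surjective B' n
    obtain ⟨s, hs, w, hw⟩ := FC z.1 z.2
    refine ⟨s, hs, ?_⟩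
    have hu : (s • z - ⟨d₁ w, hBZ w⟩ : Z) ∈ 𝔟 • (⊤ : Submodule Q Z) := by
      have h4 : (𝔟 • (⊤ : Submodule Q Z)).map Z.subtype = 𝔟 • Z := by
        rw [Submodule.map_smul'', Submodule.map_subtype_top]
      rw [← h4] at hw
      obtain ⟨u', hu', hu'e⟩ := hw
      have : u' = s • z - ⟨d₁ w, hBZ w⟩ := Subtype.ext hu'e
      rw [← this]
      exact hu'
    have h5 : B'.mkQ (s • z - ⟨d₁ w, hBZ w⟩) = s • B'.mkQ z := by
      rw [map_sub, map_smul]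
      have : B'.mkQ ⟨d₁ w, hBZ w⟩ = 0 := by
        rw [← LinearMap.mem_ker, Submodule.ker_mkQ]
        exact ⟨w, rfl⟩
      rw [this, sub_zero]
    rw [← h5]
    exact Groth.Agent.Lib.KoszulReduce.map_mem_smul_top 𝔟 B'.mkQ hu
  obtain ⟨r, hr, hrN⟩ := exists_smul_eq_zero_of_forall 𝔟 𝔮 h𝔟 hN
  refine ⟨r, hr, fun z hz => ?_⟩
  have h6 := hrN (B'.mkQ ⟨z, hz⟩)
  rw [← map_smul, ← LinearMap.mem_ker, Submodule.ker_mkQ] at h6
  obtain ⟨w, hw⟩ := h6
  exact ⟨w, hw.symm⟩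

end Step

end Groth.Agent.Lib.FibreKR1
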