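import Groth.Agent.Lib.KoszulTop
import Mathlib.LinearAlgebra.TensorProduct.RightExactness
import Mathlib.RingTheory.IsTensorProduct
import Mathlib.RingTheory.Flat.Stability

/-!
# Base change of Koszul-regular sequences with flat quotient (helper19)

Namespace `Groth.Agent.Lib.KoszulRelBC`.

`R → P` a ring map, `l` a list in `P`, `P` and `P/(l)` flat over `R`.  If `K(l; P)` is acyclic in degrees `[-n, -1]`
then so is `K(l; P ⊗_R N)` for every `R`-module `N` (`isZero_homology_kcx_tensor`); in particular Koszul-regular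
sequences with flat quotient in a flat algebra stay Koszul-regular after ANY base change `R → R'`
(`isKoszulRegularSeq_map_of_isPushout`).  No `Tor`: dimension shifting on the Koszul δ-functor.
-/

set_option autoImplicit false
universe u
open CategoryTheory CategoryTheory.Limits TensorProduct

namespace Groth.Agent.Lib.KoszulRelBC

open Groth.Agent.Lib.KoszulCone Groth.Agent.Lib.KoszulQuot Groth.Agent.Lib.KoszulTop
  Groth.Agent.Lib.KoszulReduce

variable (R : Type u) [CommRing R] {P : Type u} [CommRing P] [Algebra R P]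

section quot

variable (I : Ideal P) (N : Type u) [AddCommGroup N] [Module R N]

/-- the quotient map `P ⊗ N → (P/I) ⊗ N`, `P`-linear -/
noncomputable def qmap : P ⊗[R] N →ₗ[P] (P ⧸ I) ⊗[R] N :=
  AlgebraTensorModule.rTensor R N (Submodule.mkQ I)

theorem qmap_tmul (p : P) (n : N) : qmap R I N (p ⊗ₜ n) = (Ideal.Quotient.mk I p) ⊗ₜ n := rfl

theorem smul_eq_zero_of_mem {a : P} (ha : a ∈ I) (z : (P ⧸ I) ⊗[R] N) : a • z = 0 := by
  induction z with
  | zero => simp
  | add x y hx hy => rw [smul_add, hx, hy, add_zero]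
  | tmul b n =>
    obtain ⟨b, rfl⟩ := Ideal.Quotient.mk_surjective b
    rw [TensorProduct.smul_tmul']
    have : a • (Ideal.Quotient.mk I b) = 0 := by
      rw [Algebra.smul_def, Ideal.Quotient.algebraMap_eq, ← map_mul,
        Ideal.Quotient.eq_zero_iff_mem]
      exact I.mul_mem_right _ ha
    rw [this, TensorProduct.zero_tmul]

/-- the kernel of `P ⊗ N → (P/I) ⊗ N` is `I (P ⊗ N)` -/
theorem mem_smul_top_iff (x : P ⊗[R] N) :
    x ∈ I • (⊤ : Submodule P (P ⊗[R] N)) ↔ qmap R I N x = 0 := by
  constructor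
  · intro hx
    refine Submodule.smul_induction_on hx ?_ ?_
    · intro a ha y _
      rw [map_smul]
      exact smul_eq_zero_of_mem R I N ha _
    · intro y z hy hz
      rw [map_add, hy, hz, add_zero]
  · intro hx
    have hex : Function.Exact ((I.restrictScalars R).subtype) ((Submodule.mkQ I).restrictScalars R) := by
      intro p
      show Submodule.mkQ I p = 0 ↔ p ∈ Set.range (I.restrictScalars R).subtype
      rw [Submodule.mkQ_apply, Submodule.Quotient.mk_eq_zero]
      constructor
      · intro hp; exact ⟨⟨p, hp⟩, rfl⟩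
      · rintro ⟨⟨q, hq⟩, rfl⟩; exact hq
    have hsurj : Function.Surjective ((Submodule.mkQ I).restrictScalars R) :=
      Submodule.mkQ_surjective I
    have h2 := rTensor_exact N hex hsurj
    obtain ⟨y, rfl⟩ := (h2 x).mp hx
    induction y with
    | zero => simp
    | add y z hy hz =>
      rw [map_add]
      refine Submodule.add_mem _ (hy ?_) (hz ?_)
      · exact (h2 _).mpr ⟨y, rfl⟩
      · exact (h2 _).mpr ⟨z, rfl⟩
    | tmul a n =>
      have : (LinearMap.rTensor N (I.restrictScalars R).subtype) (a ⊗ₜ[R] n) =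
          (a : P) • ((1 : P) ⊗ₜ[R] n) := by
        rw [LinearMap.rTensor_tmul, TensorProduct.smul_tmul', smul_eq_mul, mul_one]
        rfl
      rw [this]
      exact Submodule.smul_mem_smul a.2 Submodule.mem_top

end quot

section cls

/-- `P`-modules of the form `P ⊗_R N` (up to isomorphism) -/
def IsBC (M : ModuleCat.{u} P) : Prop :=
  ∃ (N : Type u) (_ : AddCommGroup N) (_ : Module R N), Nonempty (M ≅ ModuleCat.of P (P ⊗[R] N))

theorem qmap_lTensor (I : Ideal P) {N' N : Type u} [AddCommGroup N'] [Module R N'] [AddCommGroup N]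
    [Module R N] (f : N' →ₗ[R] N) (x : P ⊗[R] N') :
    qmap R I N (LinearMap.lTensor P f x) = LinearMap.lTensor (P ⧸ I) f (qmap R I N' x) := by
  induction x with
  | zero => simp
  | add x y hx hy => rw [map_add, map_add, hx, hy, map_add, map_add]
  | tmul p n => rfl

/-- flat covers inside the class -/
theorem isBC_cover [Module.Flat R P] (l : List P) [Module.Flat R (P ⧸ Ideal.ofList l)]
    (M : ModuleCat.{u} P) (hM : IsBC R M) :
    ∃ (M' F : ModuleCat.{u} P) (ι : M' ⟶ F) (p : F ⟶ M) (w : ι ≫ p = 0),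
      (ShortComplex.mk ι p w).ShortExact ∧ IsBC R M' ∧ Module.Flat P F ∧
        ∀ x : M', ι x ∈ Ideal.ofList l • (⊤ : Submodule P F) →
          x ∈ Ideal.ofList l • (⊤ : Submodule P M') := by
  obtain ⟨N, _, _, ⟨e⟩⟩ := hM
  let π : (N →₀ R) →ₗ[R] N := Finsupp.linearCombination R (id : N → N)
  have hπ : Function.Surjective π := Finsupp.linearCombination_id_surjective R N
  let N' : Submodule R (N →₀ R) := LinearMap.ker π
  let ι₀ : P ⊗[R] N' →ₗ[P] P ⊗[R] (N →₀ R) := AlgebraTensorModule.lTensor P P N'.subtype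
  let p₀ : P ⊗[R] (N →₀ R) →ₗ[P] P ⊗[R] N := AlgebraTensorModule.lTensor P P π
  have hinj : Function.Injective ι₀ :=
    Module.Flat.lTensor_preserves_injective_linearMap N'.subtype Subtype.val_injective
  have hex : Function.Exact ι₀ p₀ := by
    have h0 : Function.Exact N'.subtype π := LinearMap.exact_subtype_ker_map π
    exact lTensor_exact (M := ↥N') (N := N →₀ R) (P := N) P h0 hπ
  have hsurj : Function.Surjective p₀ := LinearMap.lTensor_surjective P hπ
  have w₀ : ModuleCat.ofHom ι₀ ≫ ModuleCat.ofHom p₀ = 0 := by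
    apply ModuleCat.hom_ext
    apply LinearMap.ext
    intro x
    exact hex.apply_apply_eq_zero x
  have hS₀ : (ShortComplex.mk (ModuleCat.ofHom ι₀) (ModuleCat.ofHom p₀) w₀).ShortExact :=
    ModuleCat.shortComplex_shortExact _ hex hinj hsurj
  have w : ModuleCat.ofHom ι₀ ≫ (ModuleCat.ofHom p₀ ≫ e.inv) = 0 := by
    rw [← Category.assoc, w₀, zero_comp]
  refine ⟨ModuleCat.of P (P ⊗[R] N'), ModuleCat.of P (P ⊗[R] (N →₀ R)), ModuleCat.ofHom ι₀,
    ModuleCat.ofHom p₀ ≫ e.inv, w, ?_, ⟨N', inferInstance, inferInstance, ⟨Iso.refl _⟩⟩, ?_, ?_⟩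
  · let S₁ : ShortComplex (ModuleCat.{u} P) :=
      ShortComplex.mk (ModuleCat.ofHom ι₀) (ModuleCat.ofHom p₀) w₀
    let S₂ : ShortComplex (ModuleCat.{u} P) :=
      ShortComplex.mk (ModuleCat.ofHom ι₀) (ModuleCat.ofHom p₀ ≫ e.inv) w
    have i : S₁ ≅ S₂ := ShortComplex.isoMk (Iso.refl _) (Iso.refl _) e.symm
      (by simp [S₁, S₂]) (by simp [S₁, S₂])
    exact ShortComplex.shortExact_of_iso i hS₀
  · show Module.Flat P (P ⊗[R] (N →₀ R))
    infer_instance
  · intro x hx
    have hx' := (mem_smul_top_iff R (Ideal.ofList l) (N →₀ R) _).mp hx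
    refine (mem_smul_top_iff R (Ideal.ofList l) ↥N' x).mpr ?_
    have h1 : qmap R (Ideal.ofList l) (N →₀ R) (LinearMap.lTensor P N'.subtype x) = 0 := hx'
    have h2 := qmap_lTensor R (Ideal.ofList l) (N' := ↥N') (N := N →₀ R) N'.subtype
      (show P ⊗[R] ↥N' from x)
    have hinj' : Function.Injective (LinearMap.lTensor (P ⧸ Ideal.ofList l) N'.subtype) :=
      Module.Flat.lTensor_preserves_injective_linearMap N'.subtype Subtype.val_injective
    exact hinj' ((h2.symm.trans h1).trans (map_zero _).symm)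

/-- **acyclicity after tensoring**: `K(l; P ⊗_R N)` is acyclic in the degrees where `K(l; P)` is -/
theorem isZero_homology_kcx_of_isBC [Module.Flat R P] (l : List P)
    [Module.Flat R (P ⧸ Ideal.ofList l)] (n : ℕ)
    (hn : ∀ j : ℤ, -(n : ℤ) ≤ j → j < 0 → IsZero ((kcx (ModuleCat.of P P) l).homology j))
    (M : ModuleCat.{u} P) (hM : IsBC R M) (j : ℤ) (hj : -(n : ℤ) ≤ j) (hj0 : j < 0) :
    IsZero ((kcx M l).homology j) := by
  obtain ⟨k, rfl⟩ : ∃ k : ℕ, j = -(k : ℤ) := ⟨(-j).toNat, by omega⟩
  exact isZero_homology_kcx_of_class l (IsBC R) (isBC_cover R l) n hn k (by omega) (by omega) M hM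

end cls

section ring

variable {R}
variable {R' P' : Type u} [CommRing R'] [CommRing P'] [Algebra R R'] [Algebra P P'] [Algebra R' P']
  [Algebra R P'] [IsScalarTower R P P'] [IsScalarTower R R' P'] [Algebra.IsPushout R P R' P']

/-- `P'` with the restricted module structure is `P'` -/
def restrictSelfEquiv' :
    ((ModuleCat.restrictScalars (algebraMap P P')).obj (ModuleCat.of P' P')) ≃ₗ[P] P' where
  toFun := fun x => x
  invFun := fun x => x
  map_add' := fun _ _ => rfl
  map_smul' := fun a x => by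
    show algebraMap P P' a * (show P' from x) = a • (show P' from x)
    rw [Algebra.smul_def]
  left_inv := fun _ => rfl
  right_inv := fun _ => rfl

include R R' in
theorem isBC_restrict_self :
    IsBC R ((ModuleCat.restrictScalars (algebraMap P P')).obj (ModuleCat.of P' P')) := by
  have h : IsBaseChange P (IsScalarTower.toAlgHom R R' P').toLinearMap := Algebra.IsPushout.out
  exact ⟨R', inferInstance, inferInstance,
    ⟨(restrictSelfEquiv'.trans h.equiv.symm).toModuleIso⟩⟩

include R R' in
/-- partial acyclicity is preserved by any base change, when `P` and `P/(l)` are flat over `R` -/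
theorem isZero_homology_map_of_isPushout [Module.Flat R P] (l : List P)
    [Module.Flat R (P ⧸ Ideal.ofList l)] (n : ℕ)
    (hn : ∀ j : ℤ, -(n : ℤ) ≤ j → j < 0 → IsZero ((kcx (ModuleCat.of P P) l).homology j))
    (j : ℤ) (hj : -(n : ℤ) ≤ j) (hj0 : j < 0) :
    IsZero ((kcx (ModuleCat.of P' P') (l.map (algebraMap P P'))).homology j) := by
  rw [← isZero_homology_restrict_iff (algebraMap P P')]
  refine ((HomologicalComplex.homologyFunctor _ _ j).mapIso
    (resKcxIso (algebraMap P P') (ModuleCat.of P' P') l)).isZero_iff.mpr ?_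
  exact isZero_homology_kcx_of_isBC R l n hn _ (isBC_restrict_self (R := R) (R' := R')) j hj hj0

/-- **base change of Koszul-regular sequences**: if `P` and `P/(l)` are flat over `R`, a Koszul-regular sequence `l`
of `P` stays Koszul-regular in `P' = P ⊗_R R'` for every `R`-algebra `R'` -/
theorem isKoszulRegularSeq_map_of_isPushout (R R' : Type u) [CommRing R] [CommRing R']
    {P P' : Type u} [CommRing P] [CommRing P'] [Algebra R P] [Algebra R R'] [Algebra P P']
    [Algebra R' P'] [Algebra R P'] [IsScalarTower R P P'] [IsScalarTower R R' P']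
    [Algebra.IsPushout R P R' P'] [Module.Flat R P] (l : List P)
    [Module.Flat R (P ⧸ Ideal.ofList l)] (h : LCI.IsKoszulRegularSeq P l) :
    LCI.IsKoszulRegularSeq P' (l.map (algebraMap P P')) := by
  rw [isKoszulRegularSeq_iff] at h ⊢
  intro i hi
  obtain ⟨n, hn⟩ : ∃ n : ℕ, -(n : ℤ) ≤ i := ⟨(-i).toNat, by omega⟩
  exact isZero_homology_map_of_isPushout (R := R) (R' := R') l n (fun j _ hj0 => h j hj0) i hn hi

end ring

end Groth.Agent.Lib.KoszulRelBC
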