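import Groth.Agent.Lib.FibreKR1
import Groth.Agent.Lib.KoszulRelBC

/-!
# Fibrewise exactness of Koszul complexes: the Koszul step (helper19)

Namespace `Groth.Agent.Lib.FibreKR2`.

* `restrictSelfEquiv` : `T` with restricted scalars is `T`.
* `exact_rTensor_of_isZero` : acyclicity of `K(l.map; T)` in a degree, as exactness of `K(l; Q) ⊗_Q T`.
* `isZero_of_exact_rTensor` : the converse.
* `isZero_homology_map_of_flat` : degreewise flat base change.
* `koszul_step` : the Koszul form of `FibreKR1.exists_smul_mem_range`.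
* `isZero_homology_of_torsion` : homology killed by `r` dies in flat algebras where `r` is invertible.
-/

set_option autoImplicit false
set_option linter.style.haveILetI false
universe u
open CategoryTheory CategoryTheory.Limits TensorProduct Function

namespace Groth.Agent.Lib.FibreKR2

open Groth.Agent.Lib.KoszulCone Groth.Agent.Lib.KoszulReduce Groth.Agent.Lib.KoszulQuot
  Groth.Agent.Lib.KoszulFibreZ Groth.Agent.Lib.FibreKR1 MonoidalCategory

section base

variable {Q T : Type u} [CommRing Q] [CommRing T] [Algebra Q T]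

/-- `T` with the restricted module structure is `T` -/
def restrictSelfEquiv :
    ((ModuleCat.restrictScalars (algebraMap Q T)).obj (ModuleCat.of T T)) ≃ₗ[Q] T where
  toFun := fun x => x
  invFun := fun x => x
  map_add' := fun _ _ => rfl
  map_smul' := fun a x => by
    show algebraMap Q T a * (show T from x) = a • (show T from x)
    rw [Algebra.smul_def]
  left_inv := fun _ => rfl
  right_inv := fun _ => rfl

variable (T) in
/-- acyclicity of `K(l.map; T)` in degree `j` is that of `K(l; T)` (as a `Q`-module) -/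
theorem isZero_iff_restrict (l : List Q) (j : ℤ) :
    IsZero ((kcx (ModuleCat.of T T) (l.map (algebraMap Q T))).homology j) ↔
      IsZero ((kcx ((ModuleCat.restrictScalars (algebraMap Q T)).obj (ModuleCat.of T T)) l).homology j) := by
  rw [← isZero_homology_restrict_iff (algebraMap Q T)]
  exact ((HomologicalComplex.homologyFunctor _ _ j).mapIso
    (resKcxIso (algebraMap Q T) (ModuleCat.of T T) l)).isZero_iff

/-- acyclicity of `K(l; M)` in degree `j` as exactness of `K(l; Q) ⊗ M` -/
theorem isZero_iff_exact_rTensor (M : ModuleCat.{u} Q) (l : List Q) (i j k : ℤ) (hij : i + 1 = j)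
    (hjk : j + 1 = k) :
    IsZero ((kcx M l).homology j) ↔
      Function.Exact (((kcx (ModuleCat.of Q Q) l).d i j).hom.rTensor M)
        (((kcx (ModuleCat.of Q Q) l).d j k).hom.rTensor M) := by
  have h1 := ((HomologicalComplex.homologyFunctor _ _ j).mapIso (tensorKcxIso M l)).isZero_iff
  have h2 := isZero_homology_iff
    (((tensorRight M).mapHomologicalComplex (ComplexShape.up ℤ)).obj (kcx (ModuleCat.of Q Q) l))
    i j k hij hjk
  exact h1.symm.trans h2

end base

section flat

variable {Q T : Type u} [CommRing Q] [CommRing T] [Algebra Q T]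

theorem flat_restrict [Module.Flat Q T] :
    Module.Flat Q ((ModuleCat.restrictScalars (algebraMap Q T)).obj (ModuleCat.of T T)) :=
  Module.Flat.of_linearEquiv (restrictSelfEquiv (Q := Q) (T := T))

variable (T) in
/-- degreewise flat base change of Koszul acyclicity -/
theorem isZero_homology_map_of_flat [Module.Flat Q T] (l : List Q) (j : ℤ)
    (h : IsZero ((kcx (ModuleCat.of Q Q) l).homology j)) :
    IsZero ((kcx (ModuleCat.of T T) (l.map (algebraMap Q T))).homology j) := by
  rw [isZero_iff_restrict T, isZero_iff_exact_rTensor _ l (j - 1) j (j + 1) (by omega) rfl]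
  haveI := flat_restrict (Q := Q) (T := T)
  exact Module.Flat.rTensor_exact _ ((isZero_homology_iff _ (j - 1) j (j + 1) (by omega) rfl).mp h)

/-- **torsion homology dies**: if `r` kills the homology of `K(l; Q)` in degree `j` then `K(l.map; T)` is acyclic in
degree `j` for every flat `Q`-algebra `T` in which `r` is invertible. -/
theorem isZero_homology_of_torsion [Module.Flat Q T] (l : List Q) (i j k : ℤ) (hij : i + 1 = j)
    (hjk : j + 1 = k) (r : Q) (hr : IsUnit (algebraMap Q T r))
    (hkill : ∀ z : (kcx (ModuleCat.of Q Q) l).X j, (kcx (ModuleCat.of Q Q) l).d j k z = 0 →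
      ∃ w, r • z = (kcx (ModuleCat.of Q Q) l).d i j w) :
    IsZero ((kcx (ModuleCat.of T T) (l.map (algebraMap Q T))).homology j) := by
  rw [isZero_iff_restrict T, isZero_iff_exact_rTensor _ l i j k hij hjk]
  haveI := flat_restrict (Q := Q) (T := T)
  set M := (ModuleCat.restrictScalars (algebraMap Q T)).obj (ModuleCat.of T T) with hM
  set d₁ := ((kcx (ModuleCat.of Q Q) l).d i j).hom with hd₁
  set d₂ := ((kcx (ModuleCat.of Q Q) l).d j k).hom with hd₂
  have hdd : d₂ ∘ₗ d₁ = 0 := by
    ext x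
    exact Groth.Agent.Lib.KoszulElem.d_d_apply _ i j k x
  have hdiv : ∀ t : M, ∃ t' : M, r • t' = t := by
    intro t
    obtain ⟨u, hu⟩ := hr
    refine ⟨(show M from ((↑u⁻¹ : T) * (show T from t))), ?_⟩
    show algebraMap Q T r * ((↑u⁻¹ : T) * (show T from t)) = t
    rw [← hu, ← mul_assoc, Units.mul_inv, one_mul]
  intro x
  constructor
  · intro hx
    have hex := Module.Flat.rTensor_exact M (LinearMap.exact_subtype_ker_map d₂)
    obtain ⟨ζ, rfl⟩ := (hex x).mp hx
    clear hx
    induction ζ using TensorProduct.induction_on with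
    | zero => exact ⟨0, by simp⟩
    | tmul z t =>
      obtain ⟨t', rfl⟩ := hdiv t
      obtain ⟨w, hw⟩ := hkill z.1 z.2
      refine ⟨w ⊗ₜ t', ?_⟩
      rw [LinearMap.rTensor_tmul, LinearMap.rTensor_tmul, TensorProduct.tmul_smul,
        TensorProduct.smul_tmul']
      congr 1
      exact hw.symm
    | add a b ha hb =>
      obtain ⟨wa, hwa⟩ := ha
      obtain ⟨wb, hwb⟩ := hb
      exact ⟨wa + wb, by rw [map_add, map_add, hwa, hwb]⟩
  · rintro ⟨y, rfl⟩
    rw [← LinearMap.comp_apply, ← LinearMap.rTensor_comp, hdd, LinearMap.rTensor_zero,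
      LinearMap.zero_apply]

end flat

section step

variable {R Q : Type u} [CommRing R] [CommRing Q] [Algebra R Q] {T : Type u} [CommRing T] [Algebra Q T]
  (𝔞 : Ideal R) (𝔟 : Ideal Q) [Algebra (Q ⧸ 𝔟) T] [IsScalarTower Q (Q ⧸ 𝔟) T]
  [Module.Flat (Q ⧸ 𝔟) T]

/-- **the Koszul step**: `R → Q` flat of finite presentation, `Q/(l)` flat over `R`, `K(l; Q)` exact in degrees
`[-n, -1]`, and `K(l.map; T)` exact in degree `-(n+1)` for a test ring `T` flat over `Q/𝔞Q` with `𝔮 T ≠ T`: then
`H^{-(n+1)}(K(l; Q))` is killed by some `r ∉ 𝔮`. -/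
theorem koszul_step [Algebra.FinitePresentation R Q] [Module.Flat R Q] (l : List Q)
    [Module.Flat R (Q ⧸ Ideal.ofList l)] (h𝔟eq : 𝔟 = 𝔞.map (algebraMap R Q)) (𝔮 : Ideal Q) [𝔮.IsPrime]
    (h𝔟 : 𝔟 ≤ 𝔮) (h𝔮 : 𝔮.map (algebraMap Q T) ≠ ⊤) (n : ℕ)
    (hn : ∀ j : ℤ, -(n : ℤ) ≤ j → j < 0 → IsZero ((kcx (ModuleCat.of Q Q) l).homology j))
    (i j k : ℤ) (hij : i + 1 = j) (hjk : j + 1 = k) (hj : j = -((n : ℤ) + 1))
    (hT : IsZero ((kcx (ModuleCat.of T T) (l.map (algebraMap Q T))).homology j)) :
    ∃ r : Q, r ∉ 𝔮 ∧ ∀ z : (kcx (ModuleCat.of Q Q) l).X j, (kcx (ModuleCat.of Q Q) l).d j k z = 0 →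
      ∃ w, r • z = (kcx (ModuleCat.of Q Q) l).d i j w := by
  obtain ⟨hfp, -, hfl⟩ := cycles_fp_flat (R := R) l n hn (n + 1) (by omega) le_rfl j k
    (by rw [hj]; push_cast; ring) hjk
  have hfg : (LinearMap.ker ((kcx (ModuleCat.of Q Q) l).d j k).hom).FG :=
    Module.Finite.iff_fg.mp inferInstance
  rw [isZero_iff_restrict T, isZero_iff_exact_rTensor _ l i j k hij hjk] at hT
  have hex : Function.Exact (((kcx (ModuleCat.of Q Q) l).d i j).hom.rTensor T)
      (((kcx (ModuleCat.of Q Q) l).d j k).hom.rTensor T) := by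
    refine Function.Exact.of_ladder_linearEquiv_of_exact
      (e₁ := LinearEquiv.lTensor _ (restrictSelfEquiv (Q := Q) (T := T)))
      (e₂ := LinearEquiv.lTensor _ (restrictSelfEquiv (Q := Q) (T := T)))
      (e₃ := LinearEquiv.lTensor _ (restrictSelfEquiv (Q := Q) (T := T))) ?_ ?_ hT
    · ext x t
      rfl
    · ext x t
      rfl
  exact exists_smul_mem_range 𝔞 𝔟 h𝔟eq 𝔮 h𝔟 h𝔮 _ _
    (fun x => Groth.Agent.Lib.KoszulElem.d_d_apply _ i j k x) hfg hfl hex

end step

end Groth.Agent.Lib.FibreKR2
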