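import Groth.Agent.Lib.FibreKR2
import Mathlib.RingTheory.Localization.Ideal
import Mathlib.RingTheory.Flat.Localization
import Mathlib.RingTheory.FinitePresentation

/-!
# Fibrewise criterion for Koszul-regularity (helper19)

Namespace `Groth.Agent.Lib.FibreKR3`.

`R → P` flat of finite presentation, `I ⊆ P` an ideal with `P/I` flat over `R`, `𝔮` a prime of `P`, `𝔞` an ideal of `R` with
`𝔞 P ⊆ 𝔮`, and a test ring `T` over `P`, flat over `P/𝔞P`, in which the elements outside `𝔮` become invertible and `𝔮 T ≠ T`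
(e.g. a flat local algebra over the local ring of the fibre).  If `l ⊆ I` generates `I` near `𝔮` and is Koszul-regular in `T`,
then `l` is Koszul-regular in `P_G` for some `G ∉ 𝔮`.
-/

set_option autoImplicit false
set_option linter.style.haveILetI false
universe u
open CategoryTheory CategoryTheory.Limits TensorProduct Function

namespace Groth.Agent.Lib.FibreKR3

open Groth.Agent.Lib.KoszulCone Groth.Agent.Lib.KoszulReduce Groth.Agent.Lib.KoszulQuot
  Groth.Agent.Lib.KoszulFibreZ Groth.Agent.Lib.FibreKR1 Groth.Agent.Lib.FibreKR2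

section gen

variable {P Q : Type*} [CommRing P] [CommRing Q]

/-- if `l ⊆ I` and `G₀ I ⊆ (l)` then `l` generates the extension of `I` wherever `G₀` is invertible -/
theorem ofList_map_eq (I : Ideal P) (l : List P) (hlI : ∀ x ∈ l, x ∈ I) (G₀ : P)
    (hG₀ : ∀ x ∈ I, G₀ * x ∈ Ideal.ofList l) (φ : P →+* Q) (hφ : IsUnit (φ G₀)) :
    Ideal.ofList (l.map φ) = I.map φ := by
  rw [← Ideal.map_ofList]
  apply le_antisymm
  · apply Ideal.map_mono
    unfold Ideal.ofList
    rw [Ideal.span_le]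
    exact fun x hx => hlI x hx
  · rw [Ideal.map_le_iff_le_comap]
    intro x hx
    rw [Ideal.mem_comap]
    obtain ⟨u, hu⟩ := hφ
    have h1 : φ (G₀ * x) ∈ (Ideal.ofList l).map φ := Ideal.mem_map_of_mem _ (hG₀ x hx)
    have h2 : φ x = ↑u⁻¹ * φ (G₀ * x) := by
      rw [map_mul, ← hu, ← mul_assoc, Units.inv_mul, one_mul]
    rw [h2]
    exact Ideal.mul_mem_left _ _ h1

end gen

section loc

variable {R P : Type u} [CommRing R] [CommRing P] [Algebra R P]

/-- flatness of the quotient of a localization -/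
theorem flat_quotient_away (I : Ideal P) [Module.Flat R (P ⧸ I)] (G : P) (Q : Type u) [CommRing Q]
    [Algebra P Q] [IsLocalization.Away G Q] [Algebra R Q] [IsScalarTower R P Q] :
    Module.Flat R (Q ⧸ I.map (algebraMap P Q)) := by
  haveI : Module.Flat (P ⧸ I) (Q ⧸ I.map (algebraMap P Q)) :=
    IsLocalization.flat _ (Algebra.algebraMapSubmonoid (P ⧸ I) (Submonoid.powers G))
  haveI : IsScalarTower R (P ⧸ I) (Q ⧸ I.map (algebraMap P Q)) := by
    refine IsScalarTower.of_algebraMap_eq fun r => ?_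
    show Ideal.Quotient.mk _ (algebraMap R Q r) =
      algebraMap (P ⧸ I) (Q ⧸ I.map (algebraMap P Q)) (Ideal.Quotient.mk I (algebraMap R P r))
    rw [IsScalarTower.algebraMap_apply R P Q]
    rfl
  exact Module.Flat.trans R (P ⧸ I) _

end loc

section test

variable {P : Type u} [CommRing P] (𝔟 : Ideal P) {T : Type u} [CommRing T] [Algebra P T]
  [Algebra (P ⧸ 𝔟) T] [IsScalarTower P (P ⧸ 𝔟) T]

/-- the test ring stays flat over the fibre of a localization -/
theorem flat_quotient_test [Module.Flat (P ⧸ 𝔟) T] (G : P) (Q : Type u) [CommRing Q] [Algebra P Q]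
    [IsLocalization.Away G Q] [Algebra Q T] [IsScalarTower P Q T]
    [Algebra (Q ⧸ 𝔟.map (algebraMap P Q)) T] [IsScalarTower Q (Q ⧸ 𝔟.map (algebraMap P Q)) T] :
    Module.Flat (Q ⧸ 𝔟.map (algebraMap P Q)) T := by
  haveI : IsScalarTower (P ⧸ 𝔟) (Q ⧸ 𝔟.map (algebraMap P Q)) T := by
    refine IsScalarTower.of_algebraMap_eq fun x => ?_
    obtain ⟨x, rfl⟩ := Ideal.Quotient.mk_surjective x
    have h1 : algebraMap (P ⧸ 𝔟) T (Ideal.Quotient.mk 𝔟 x) = algebraMap P T x :=
      (IsScalarTower.algebraMap_apply P (P ⧸ 𝔟) T x).symm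
    have h2 : algebraMap (P ⧸ 𝔟) (Q ⧸ 𝔟.map (algebraMap P Q)) (Ideal.Quotient.mk 𝔟 x) =
        Ideal.Quotient.mk _ (algebraMap P Q x) := rfl
    have h3 : algebraMap (Q ⧸ 𝔟.map (algebraMap P Q)) T (Ideal.Quotient.mk _ (algebraMap P Q x)) =
        algebraMap Q T (algebraMap P Q x) :=
      (IsScalarTower.algebraMap_apply Q (Q ⧸ 𝔟.map (algebraMap P Q)) T _).symm
    rw [h1, h2, h3, ← IsScalarTower.algebraMap_apply P Q T]
  exact (Module.flat_iff_of_isLocalization (Q ⧸ 𝔟.map (algebraMap P Q))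
    (Algebra.algebraMapSubmonoid (P ⧸ 𝔟) (Submonoid.powers G)) T).mpr inferInstance

end test

section main

variable {R P : Type u} [CommRing R] [CommRing P] [Algebra R P] [Algebra.FinitePresentation R P]
  [Module.Flat R P] (I : Ideal P) [Module.Flat R (P ⧸ I)] (𝔞 : Ideal R) (𝔮 : Ideal P) [𝔮.IsPrime]
  {T : Type u} [CommRing T] [Algebra P T] [Algebra (P ⧸ 𝔞.map (algebraMap R P)) T]
  [IsScalarTower P (P ⧸ 𝔞.map (algebraMap R P)) T] [Module.Flat (P ⧸ 𝔞.map (algebraMap R P)) T]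

include I in
/-- the step, over a localization `Q = P_G` -/
theorem step_loc (h𝔞 : 𝔞.map (algebraMap R P) ≤ 𝔮) (h𝔮T : 𝔮.map (algebraMap P T) ≠ ⊤)
    (hunit : ∀ s : P, s ∉ 𝔮 → IsUnit (algebraMap P T s))
    (l : List P) (hlI : ∀ x ∈ l, x ∈ I) (G₀ : P) (hG₀ : ∀ x ∈ I, G₀ * x ∈ Ideal.ofList l)
    (hT : LCI.IsKoszulRegularSeq T (l.map (algebraMap P T)))
    (G : P) (hG : G ∉ 𝔮) (hdvd : G₀ ∣ G)
    (Q : Type u) [CommRing Q] [Algebra P Q] [IsLocalization.Away G Q] (n : ℕ)
    (hn : ∀ j : ℤ, -(n : ℤ) ≤ j → j < 0 →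
      IsZero ((kcx (ModuleCat.of Q Q) (l.map (algebraMap P Q))).homology j))
    (i j k : ℤ) (hij : i + 1 = j) (hjk : j + 1 = k) (hj : j = -((n : ℤ) + 1)) :
    ∃ a : P, a ∉ 𝔮 ∧ ∀ z : (kcx (ModuleCat.of Q Q) (l.map (algebraMap P Q))).X j,
      (kcx (ModuleCat.of Q Q) (l.map (algebraMap P Q))).d j k z = 0 →
        ∃ w, algebraMap P Q a • z = (kcx (ModuleCat.of Q Q) (l.map (algebraMap P Q))).d i j w := by
  letI : Algebra R Q := ((algebraMap P Q).comp (algebraMap R P)).toAlgebra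
  haveI : IsScalarTower R P Q := IsScalarTower.of_algebraMap_eq (fun _ => rfl)
  haveI : Algebra.FinitePresentation P Q := IsLocalization.Away.finitePresentation G
  haveI : Algebra.FinitePresentation R Q := Algebra.FinitePresentation.trans R P Q
  haveI : Module.Flat P Q := IsLocalization.flat Q (Submonoid.powers G)
  haveI : Module.Flat R Q := Module.Flat.trans R P Q
  have hGunit : IsUnit (algebraMap P Q G) := IsLocalization.Away.algebraMap_isUnit G
  have hG₀unit : IsUnit (algebraMap P Q G₀) := by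
    obtain ⟨c, rfl⟩ := hdvd
    rw [map_mul] at hGunit
    exact isUnit_of_mul_isUnit_left hGunit
  have hIQ : Ideal.ofList (l.map (algebraMap P Q)) = I.map (algebraMap P Q) :=
    ofList_map_eq I l hlI G₀ hG₀ (algebraMap P Q) hG₀unit
  haveI : Module.Flat R (Q ⧸ Ideal.ofList (l.map (algebraMap P Q))) := by
    rw [hIQ]
    exact flat_quotient_away I G Q
  -- the test ring over `Q`
  have hGT : IsUnit (algebraMap P T G) := hunit G hG
  letI : Algebra Q T := (IsLocalization.Away.lift G hGT).toAlgebra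
  haveI : IsScalarTower P Q T :=
    IsScalarTower.of_algebraMap_eq (fun x => (IsLocalization.Away.lift_eq G hGT x).symm)
  have h0 : ∀ x ∈ (𝔞.map (algebraMap R P)).map (algebraMap P Q), algebraMap Q T x = 0 := by
    intro x hx
    have hle : (𝔞.map (algebraMap R P)).map (algebraMap P Q) ≤ RingHom.ker (algebraMap Q T) := by
      rw [Ideal.map_le_iff_le_comap]
      intro y hy
      rw [Ideal.mem_comap, RingHom.mem_ker, ← IsScalarTower.algebraMap_apply P Q T,
        IsScalarTower.algebraMap_apply P (P ⧸ 𝔞.map (algebraMap R P)) T]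
      have : algebraMap P (P ⧸ 𝔞.map (algebraMap R P)) y = 0 :=
        Ideal.Quotient.eq_zero_iff_mem.mpr hy
      rw [this, map_zero]
    exact hle hx
  letI : Algebra (Q ⧸ (𝔞.map (algebraMap R P)).map (algebraMap P Q)) T :=
    (Ideal.Quotient.lift _ (algebraMap Q T) h0).toAlgebra
  haveI : IsScalarTower Q (Q ⧸ (𝔞.map (algebraMap R P)).map (algebraMap P Q)) T :=
    IsScalarTower.of_algebraMap_eq (fun _ => rfl)
  haveI : Module.Flat (Q ⧸ (𝔞.map (algebraMap R P)).map (algebraMap P Q)) T :=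
    flat_quotient_test (𝔞.map (algebraMap R P)) G Q
  have h𝔟eq : (𝔞.map (algebraMap R P)).map (algebraMap P Q) = 𝔞.map (algebraMap R Q) := by
    rw [Ideal.map_map]
    rfl
  -- the prime of `Q`
  have hdisj : Disjoint (Submonoid.powers G : Set P) (𝔮 : Set P) :=
    (Ideal.disjoint_powers_iff_notMem G (Ideal.IsPrime.isRadical inferInstance)).mpr hG
  haveI h𝔮Q : (𝔮.map (algebraMap P Q)).IsPrime :=
    IsLocalization.isPrime_of_isPrime_disjoint (Submonoid.powers G) Q 𝔮 inferInstance hdisj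
  have h𝔮QT : (𝔮.map (algebraMap P Q)).map (algebraMap Q T) ≠ ⊤ := by
    rw [Ideal.map_map, ← IsScalarTower.algebraMap_eq P Q T]
    exact h𝔮T
  have hlT : (l.map (algebraMap P Q)).map (algebraMap Q T) = l.map (algebraMap P T) := by
    rw [List.map_map, IsScalarTower.algebraMap_eq P Q T]
    rfl
  have hTj : IsZero ((kcx (ModuleCat.of T T)
      ((l.map (algebraMap P Q)).map (algebraMap Q T))).homology j) := by
    rw [hlT]
    exact (isKoszulRegularSeq_iff _).mp hT j (by omega)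
  obtain ⟨r, hr, hkill⟩ := koszul_step (R := R) 𝔞 ((𝔞.map (algebraMap R P)).map (algebraMap P Q))
    (l.map (algebraMap P Q)) h𝔟eq (𝔮.map (algebraMap P Q)) (Ideal.map_mono h𝔞) h𝔮QT n hn i j k hij hjk
    hj hTj
  obtain ⟨m, a, ha⟩ := IsLocalization.Away.surj G r
  refine ⟨a, fun haq => hr ?_, fun z hz => ?_⟩
  · have h1 : r * algebraMap P Q G ^ m ∈ 𝔮.map (algebraMap P Q) := by
      rw [ha]
      exact Ideal.mem_map_of_mem _ haq
    rcases h𝔮Q.mem_or_mem h1 with h | h
    · exact h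
    · exfalso
      exact h𝔮Q.ne_top (Ideal.eq_top_of_isUnit_mem _ h (hGunit.pow m))
  · obtain ⟨w, hw⟩ := hkill z hz
    refine ⟨algebraMap P Q G ^ m • w, ?_⟩
    rw [map_smul, ← hw, ← ha, mul_comm, mul_smul]

end main

section vanish

open Groth.Agent.Lib.KoszulElem

variable {A : Type u} [CommRing A]

theorem subsingleton_X_kcx (M : ModuleCat.{u} A) :
    ∀ (l : List A) (j : ℤ), j < -(l.length : ℤ) → Subsingleton ((kcx M l).X j)
  | [], j, hj => by
    have hj0 : j ≠ 0 := by simp at hj; omega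
    exact ModuleCat.subsingleton_of_isZero (HomologicalComplex.isZero_single_obj_X _ _ _ _ hj0)
  | f :: l, j, hj => by
    have h1 : Subsingleton ((kcx M l).X (j + 1)) := by
      apply subsingleton_X_kcx M l
      simp only [List.length_cons, Nat.cast_add, Nat.cast_one] at hj
      omega
    have h2 : Subsingleton ((kcx M l).X j) := by
      apply subsingleton_X_kcx M l
      simp only [List.length_cons, Nat.cast_add, Nat.cast_one] at hj
      omega
    refine ⟨fun z w => ?_⟩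
    exact ext_cone (f • 𝟙 (kcx M l)) j z w (Subsingleton.elim _ _) (Subsingleton.elim _ _)

theorem isZero_homology_of_lt (M : ModuleCat.{u} A) (l : List A) (j : ℤ) (hj : j < -(l.length : ℤ)) :
    IsZero ((kcx M l).homology j) := by
  have hs := subsingleton_X_kcx M l j hj
  have h0 : IsZero ((kcx M l).X j) := ModuleCat.isZero_of_subsingleton _
  exact ShortComplex.isZero_homology_of_isZero_X₂ ((kcx M l).sc j) h0

end vanish

section induction

variable {R P : Type u} [CommRing R] [CommRing P] [Algebra R P] [Algebra.FinitePresentation R P]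
  [Module.Flat R P] (I : Ideal P) [Module.Flat R (P ⧸ I)] (𝔞 : Ideal R) (𝔮 : Ideal P) [𝔮.IsPrime]
  {T : Type u} [CommRing T] [Algebra P T] [Algebra (P ⧸ 𝔞.map (algebraMap R P)) T]
  [IsScalarTower P (P ⧸ 𝔞.map (algebraMap R P)) T] [Module.Flat (P ⧸ 𝔞.map (algebraMap R P)) T]

include I 𝔞 T in
/-- the inductive claim: exactness in degrees `[-n, -1]` on a principal open around `𝔮` -/
theorem exists_exact_upto (h𝔞 : 𝔞.map (algebraMap R P) ≤ 𝔮) (h𝔮T : 𝔮.map (algebraMap P T) ≠ ⊤)
    (hunit : ∀ s : P, s ∉ 𝔮 → IsUnit (algebraMap P T s))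
    (l : List P) (hlI : ∀ x ∈ l, x ∈ I) (G₀ : P) (hG₀𝔮 : G₀ ∉ 𝔮)
    (hG₀ : ∀ x ∈ I, G₀ * x ∈ Ideal.ofList l)
    (hT : LCI.IsKoszulRegularSeq T (l.map (algebraMap P T))) (n : ℕ) :
    ∃ G : P, G ∉ 𝔮 ∧ G₀ ∣ G ∧ ∃ (Q : Type u) (_ : CommRing Q) (_ : Algebra P Q)
      (_ : IsLocalization.Away G Q), ∀ j : ℤ, -(n : ℤ) ≤ j → j < 0 →
        IsZero ((kcx (ModuleCat.of Q Q) (l.map (algebraMap P Q))).homology j) := by
  induction n with
  | zero =>
    refine ⟨G₀, hG₀𝔮, dvd_rfl, Localization.Away G₀, inferInstance, inferInstance, inferInstance, ?_⟩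
    intro j h1 h2
    simp at h1
    omega
  | succ n ih =>
    obtain ⟨G, hG, hdvd, Q, _, _, _, hn⟩ := ih
    obtain ⟨a, ha, hkill⟩ := step_loc I 𝔞 𝔮 h𝔞 h𝔮T hunit l hlI G₀ hG₀ hT G hG hdvd Q n hn
      (-((n : ℤ) + 1) - 1) (-((n : ℤ) + 1)) (-(n : ℤ)) (by ring) (by ring) rfl
    have hGa : G * a ∉ 𝔮 := fun h => (Ideal.IsPrime.mem_or_mem inferInstance h).elim hG ha
    refine ⟨G * a, hGa, hdvd.mul_right a, Localization.Away (algebraMap P Q a), inferInstance,
      inferInstance, inferInstance, ?_⟩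
    intro j h1 h2
    have hl : (l.map (algebraMap P Q)).map (algebraMap Q (Localization.Away (algebraMap P Q a))) =
        l.map (algebraMap P (Localization.Away (algebraMap P Q a))) := by
      rw [List.map_map, IsScalarTower.algebraMap_eq P Q (Localization.Away (algebraMap P Q a))]
      rfl
    rw [← hl]
    haveI : Module.Flat Q (Localization.Away (algebraMap P Q a)) :=
      IsLocalization.flat _ (Submonoid.powers (algebraMap P Q a))
    by_cases hj : -(n : ℤ) ≤ j
    · exact isZero_homology_map_of_flat _ _ j (hn j hj h2)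
    · have hj' : j = -((n : ℤ) + 1) := by push_cast at h1; omega
      subst hj'
      exact isZero_homology_of_torsion (l.map (algebraMap P Q)) (-((n : ℤ) + 1) - 1) _ (-(n : ℤ))
        (by ring) (by ring) (algebraMap P Q a) (IsLocalization.Away.algebraMap_isUnit _) hkill

include I 𝔞 T in
/-- **fibrewise criterion for Koszul-regularity**: see the module docstring. -/
theorem exists_isKoszulRegularSeq_away (h𝔞 : 𝔞.map (algebraMap R P) ≤ 𝔮)
    (h𝔮T : 𝔮.map (algebraMap P T) ≠ ⊤) (hunit : ∀ s : P, s ∉ 𝔮 → IsUnit (algebraMap P T s))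
    (l : List P) (hlI : ∀ x ∈ l, x ∈ I) (G₀ : P) (hG₀𝔮 : G₀ ∉ 𝔮)
    (hG₀ : ∀ x ∈ I, G₀ * x ∈ Ideal.ofList l)
    (hT : LCI.IsKoszulRegularSeq T (l.map (algebraMap P T))) :
    ∃ G : P, G ∉ 𝔮 ∧ G₀ ∣ G ∧ ∃ (Q : Type u) (_ : CommRing Q) (_ : Algebra P Q)
      (_ : IsLocalization.Away G Q), LCI.IsKoszulRegularSeq Q (l.map (algebraMap P Q)) := by
  obtain ⟨G, hG, hdvd, Q, _, _, _, hn⟩ :=
    exists_exact_upto I 𝔞 𝔮 h𝔞 h𝔮T hunit l hlI G₀ hG₀𝔮 hG₀ hT l.length
  refine ⟨G, hG, hdvd, Q, inferInstance, inferInstance, inferInstance, ?_⟩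
  rw [isKoszulRegularSeq_iff]
  intro j hj
  by_cases h : -(l.length : ℤ) ≤ j
  · exact hn j h hj
  · exact isZero_homology_of_lt _ _ j (by rw [List.length_map]; omega)

end induction

end Groth.Agent.Lib.FibreKR3
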