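import Groth.Agent.Lib.FibreKR3
import Groth.Agent.Lib.KRDescC

/-!
# Fibrewise criterion for Koszul-regular ideals (helper19)

Namespace `Groth.Agent.Lib.FibreKR4`.

`exists_genAt_of_test` : `R → P` flat of finite presentation, `I ⊆ P` finitely generated with `P/I` flat over `R`, `T` a local
`P`-algebra, flat over `P/𝔞P`, `𝔮` the contraction of its maximal ideal, `𝔞 P ⊆ 𝔮`.  If `I T` is generated by a Koszul-regular
sequence then `I P_G` is generated by a Koszul-regular sequence for some `G ∉ 𝔮`.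
-/

set_option autoImplicit false
set_option linter.style.haveILetI false
universe u
open CategoryTheory CategoryTheory.Limits TensorProduct Function

namespace Groth.Agent.Lib.FibreKR4

open Groth.Agent.Lib.KoszulIdeal Groth.Agent.Lib.KoszulFibreZ Groth.Agent.Lib.FibreKR1
  Groth.Agent.Lib.FibreKR3 Groth.Agent.Lib.KRDescB Groth.Agent.Lib.KRDescC

section nak

variable {R P : Type u} [CommRing R] [CommRing P] [Algebra R P] (I : Ideal P) [Module.Flat R (P ⧸ I)]
  (𝔞 : Ideal R) (𝔮 : Ideal P) [𝔮.IsPrime]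

/-- Nakayama: if `a I ⊆ (l) + 𝔞 P` with `a ∉ 𝔮`, `l ⊆ I`, `𝔞 P ⊆ 𝔮`, `P/I` flat over `R` and `I` finitely generated, then
`G₀ I ⊆ (l)` for some `G₀ ∉ 𝔮`. -/
theorem exists_mul_mem_ofList (hI : I.FG) (h𝔞 : 𝔞.map (algebraMap R P) ≤ 𝔮) (l : List P)
    (hlI : ∀ x ∈ l, x ∈ I) (a : P) (ha : a ∉ 𝔮)
    (hal : ∀ x ∈ I, ∃ y ∈ Ideal.ofList l, a * x - y ∈ 𝔞.map (algebraMap R P)) :
    ∃ G₀ : P, G₀ ∉ 𝔮 ∧ ∀ x ∈ I, G₀ * x ∈ Ideal.ofList l := by
  have hL : Ideal.ofList l ≤ I := by
    unfold Ideal.ofList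
    rw [Ideal.span_le]
    exact fun x hx => hlI x hx
  have hfl : FlatOver R P (P ⧸ (I : Submodule P P)) := (flatOver_iff _).mpr ‹_›
  have hint := inf_smul_top_le (R := R) (I : Submodule P P) hfl 𝔞
  let IS : Submodule P P := I
  let L' : Submodule P IS := Submodule.comap IS.subtype (Ideal.ofList l)
  haveI : Module.Finite P IS := Module.Finite.iff_fg.mpr hI
  have hN : ∀ n : IS ⧸ L', ∃ s : P, s ∉ 𝔮 ∧
      s • n ∈ (𝔞.map (algebraMap R P)) • (⊤ : Submodule P (IS ⧸ L')) := by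
    intro n
    obtain ⟨x, rfl⟩ := Submodule.mkQ_surjective L' n
    refine ⟨a, ha, ?_⟩
    obtain ⟨y, hy, hxy⟩ := hal x.1 x.2
    have hu : a * x.1 - y ∈ (𝔞.map (algebraMap R P)) • IS := by
      apply hint
      refine ⟨I.sub_mem (I.mul_mem_left a x.2) (hL hy), ?_⟩
      rw [smul_eq_mul, Ideal.mul_top]
      exact hxy
    have h4 : ((𝔞.map (algebraMap R P)) • (⊤ : Submodule P IS)).map IS.subtype =
        (𝔞.map (algebraMap R P)) • IS := by
      rw [Submodule.map_smul'', Submodule.map_subtype_top]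
    rw [← h4] at hu
    obtain ⟨u', hu', hu'e⟩ := hu
    have h5 : L'.mkQ u' = a • L'.mkQ x := by
      rw [← map_smul, ← sub_eq_zero, ← map_sub, ← LinearMap.mem_ker, Submodule.ker_mkQ]
      show IS.subtype (u' - a • x) ∈ Ideal.ofList l
      rw [map_sub, hu'e, map_smul]
      have : a * x.1 - y - a • IS.subtype x = -y := by
        show a * x.1 - y - a * x.1 = -y
        ring
      rw [this]
      exact (Ideal.ofList l).neg_mem hy
    rw [← h5]
    exact Groth.Agent.Lib.KoszulReduce.map_mem_smul_top _ L'.mkQ hu'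
  obtain ⟨G₀, hG₀, hkill⟩ := exists_smul_eq_zero_of_forall (𝔞.map (algebraMap R P)) 𝔮 h𝔞 hN
  refine ⟨G₀, hG₀, fun x hx => ?_⟩
  have h6 := hkill (L'.mkQ ⟨x, hx⟩)
  rw [← map_smul, ← LinearMap.mem_ker, Submodule.ker_mkQ] at h6
  exact h6

end nak

section test

variable {R P : Type u} [CommRing R] [CommRing P] [Algebra R P] [Algebra.FinitePresentation R P]
  [Module.Flat R P] (I : Ideal P) [Module.Flat R (P ⧸ I)] (𝔞 : Ideal R) (𝔮 : Ideal P) [𝔮.IsPrime]
  {T : Type u} [CommRing T] [IsLocalRing T] [Algebra P T] [Algebra (P ⧸ 𝔞.map (algebraMap R P)) T]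
  [IsScalarTower P (P ⧸ 𝔞.map (algebraMap R P)) T] [Module.Flat (P ⧸ 𝔞.map (algebraMap R P)) T]

include 𝔞 in
/-- **fibrewise criterion for Koszul-regular ideals**, test ring form -/
theorem exists_genAt_of_test (hI : I.FG) (h𝔞 : 𝔞.map (algebraMap R P) ≤ 𝔮)
    (h𝔮 : 𝔮 = (IsLocalRing.maximalIdeal T).comap (algebraMap P T))
    (g : List T) (hg : LCI.IsKoszulRegularSeq T g) (hIg : I.map (algebraMap P T) = Ideal.ofList g) :
    ∃ G : P, G ∉ 𝔮 ∧ GenAt I G := by
  classical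
  let A := P ⧸ 𝔞.map (algebraMap R P)
  let mk : P →+* A := Ideal.Quotient.mk (𝔞.map (algebraMap R P))
  have hmk : Function.Surjective mk := Ideal.Quotient.mk_surjective
  let Ib : Ideal A := I.map mk
  have hIb : Ib.FG := hI.map mk
  have hcomp : (algebraMap A T).comp mk = algebraMap P T := by
    ext x
    exact (IsScalarTower.algebraMap_apply P A T x).symm
  have hIbT : Ib.map (algebraMap A T) = I.map (algebraMap P T) := by
    rw [Ideal.map_map, hcomp]
  haveI : IsLocalization.Away (1 : T) T :=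
    IsLocalization.away_of_isUnit_of_bijective T isUnit_one Function.bijective_id
  have hgenLen : GenLen (Ib.map (algebraMap A T)) (1 : T) g.length := by
    refine ⟨T, inferInstance, inferInstance, inferInstance, g, rfl, hg, ?_⟩
    rw [hIbT, Algebra.algebraMap_self, Ideal.map_id, hIg]
  have h1 : (1 : T) ∉ IsLocalRing.maximalIdeal T := fun h =>
    (IsLocalRing.maximalIdeal.isMaximal T).ne_top ((Ideal.eq_top_iff_one _).mpr h)
  obtain ⟨n, hn, vb, ab, hab, hnear⟩ :=
    hgenLen.exists_nearGen hIb (IsLocalRing.maximalIdeal T) h1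
  have habu : IsUnit (algebraMap A T ab) := by
    by_contra hnu
    exact hab ((IsLocalRing.mem_maximalIdeal _).mpr hnu)
  have hKRb := kr_of_genLen hnear hn hgenLen T habu (by simp)
  -- lifts
  have hvb : ∀ i, ∃ x ∈ I, mk x = vb i := fun i =>
    (Ideal.mem_map_iff_of_surjective mk hmk).mp (hnear.1 i)
  choose v hvI hv using hvb
  obtain ⟨a, ha⟩ := hmk ab
  have haT : algebraMap P T a = algebraMap A T ab := by
    rw [← ha, ← hcomp]
    rfl
  have ha𝔮 : a ∉ 𝔮 := by
    rw [h𝔮, Ideal.mem_comap, haT]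
    exact hab
  let l : List P := List.ofFn v
  have hlI : ∀ x ∈ l, x ∈ I := by
    intro x hx
    obtain ⟨i, rfl⟩ := (List.mem_ofFn' v x).mp hx
    exact hvI i
  have hlT : l.map (algebraMap P T) = List.ofFn (algebraMap A T ∘ vb) := by
    rw [List.map_ofFn]
    congr 1
    funext i
    show algebraMap P T (v i) = algebraMap A T (vb i)
    rw [← hv i, ← hcomp]
    rfl
  have hKR : LCI.IsKoszulRegularSeq T (l.map (algebraMap P T)) := by
    rw [hlT]
    exact hKRb
  have hlmk : (Ideal.ofList l).map mk = Ideal.span (Set.range vb) := by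
    rw [ofList_ofFn, Ideal.map_span, ← Set.range_comp]
    congr 2
    funext i
    exact hv i
  have hal : ∀ x ∈ I, ∃ y ∈ Ideal.ofList l, a * x - y ∈ 𝔞.map (algebraMap R P) := by
    intro x hx
    have h2 : ab * mk x ∈ Ideal.span (Set.range vb) := hnear.2 (mk x) (Ideal.mem_map_of_mem mk hx)
    rw [← hlmk] at h2
    obtain ⟨y, hy, hye⟩ := (Ideal.mem_map_iff_of_surjective mk hmk).mp h2
    refine ⟨y, hy, ?_⟩
    rw [← Ideal.Quotient.eq_zero_iff_mem]
    show mk (a * x - y) = 0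
    rw [map_sub, map_mul, ha, hye, sub_self]
  obtain ⟨G₀, hG₀𝔮, hG₀⟩ := exists_mul_mem_ofList I 𝔞 𝔮 hI h𝔞 l hlI a ha𝔮 hal
  have h𝔮T : 𝔮.map (algebraMap P T) ≠ ⊤ := by
    intro htop
    have hle : 𝔮.map (algebraMap P T) ≤ IsLocalRing.maximalIdeal T := by
      rw [Ideal.map_le_iff_le_comap, h𝔮]
    exact (IsLocalRing.maximalIdeal.isMaximal T).ne_top (top_le_iff.mp (htop ▸ hle))
  have hunit : ∀ s : P, s ∉ 𝔮 → IsUnit (algebraMap P T s) := by
    intro s hs
    by_contra hnu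
    apply hs
    rw [h𝔮, Ideal.mem_comap]
    exact (IsLocalRing.mem_maximalIdeal _).mpr hnu
  obtain ⟨G, hG, hdvd, Q, _, _, _, hKRQ⟩ :=
    exists_isKoszulRegularSeq_away I 𝔞 𝔮 h𝔞 h𝔮T hunit l hlI G₀ hG₀𝔮 hG₀ hKR
  refine ⟨G, hG, GenAt.mk Q (l.map (algebraMap P Q)) hKRQ ?_⟩
  have hGunit : IsUnit (algebraMap P Q G) := IsLocalization.Away.algebraMap_isUnit G
  have hG₀unit : IsUnit (algebraMap P Q G₀) := by
    obtain ⟨c, rfl⟩ := hdvd
    rw [map_mul] at hGunit
    exact isUnit_of_mul_isUnit_left hGunit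
  exact (ofList_map_eq I l hlI G₀ hG₀ (algebraMap P Q) hG₀unit).symm

end test

end Groth.Agent.Lib.FibreKR4
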