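import Groth.Agent.Lib.FibreKR4
import Mathlib.RingTheory.TensorProduct.Quotient
import Mathlib.RingTheory.IsTensorProduct
import Mathlib.RingTheory.Localization.FractionRing
import Mathlib.RingTheory.Localization.AtPrime.Basic

/-!
# Fibrewise criterion for Koszul-regular ideals: base change form (helper19)

Namespace `Groth.Agent.Lib.FibreKR5`.

* `isPushout_quotient` : `B/IB` is the pushout of `B` along `A → A/I`.
* `flat_quotient_ker_field` : `R/ker(R → k)` → `k` is flat for a field `k`.
* `exists_genAt_of_field` : `R → P` flat f.p., `I` f.g. with `P/I` flat; `P'' = P ⊗_R k` for a field `k`; if `I P''` is generated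
  by a Koszul-regular sequence near a prime `q''` then `I` is so near `q'' ∩ P`.
-/

set_option autoImplicit false
set_option linter.style.haveILetI false
universe u
open CategoryTheory CategoryTheory.Limits TensorProduct Function

namespace Groth.Agent.Lib.FibreKR5

open Groth.Agent.Lib.KoszulIdeal Groth.Agent.Lib.FibreKR4 Groth.Agent.Lib.KRDescC

section quot

attribute [local instance] Algebra.TensorProduct.rightAlgebra in
/-- `B/IB` is the pushout of `B` along `A → A/I` -/
theorem isPushout_quotient (A B : Type*) [CommRing A] [CommRing B] [Algebra A B] (I : Ideal A) :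
    Algebra.IsPushout A (A ⧸ I) B (B ⧸ I.map (algebraMap A B)) := by
  have h : Algebra.IsPushout A (A ⧸ I) B ((A ⧸ I) ⊗[A] B) := inferInstance
  refine Algebra.IsPushout.of_equiv (h := h)
    (Algebra.TensorProduct.quotIdealMapEquivQuotTensor B I).symm ?_
  ext b
  show (Algebra.TensorProduct.quotIdealMapEquivQuotTensor B I).symm ((1 : A ⧸ I) ⊗ₜ[A] b) = _
  rw [AlgEquiv.symm_apply_eq]
  rfl

end quot

section field

variable {R : Type*} [CommRing R] (k : Type*) [Field k] [Algebra R k]

/-- the algebra structure of `k` over `R / ker` -/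
noncomputable abbrev kerAlgebra : Algebra (R ⧸ RingHom.ker (algebraMap R k)) k :=
  (RingHom.kerLift (algebraMap R k)).toAlgebra

attribute [local instance] kerAlgebra in
theorem flat_quotient_ker_field : Module.Flat (R ⧸ RingHom.ker (algebraMap R k)) k := by
  haveI : (RingHom.ker (algebraMap R k)).IsPrime := RingHom.ker_isPrime _
  let Rb := R ⧸ RingHom.ker (algebraMap R k)
  let K := FractionRing Rb
  have hinj : Function.Injective (algebraMap Rb k) := RingHom.kerLift_injective _
  letI : Algebra K k := (IsFractionRing.lift hinj).toAlgebra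
  haveI : IsScalarTower Rb K k :=
    IsScalarTower.of_algebraMap_eq (fun x => (IsFractionRing.lift_algebraMap hinj x).symm)
  haveI : Module.Flat Rb K := IsLocalization.flat K (nonZeroDivisors Rb)
  exact Module.Flat.trans Rb K k

end field

section main

attribute [local instance] kerAlgebra

/-- **fibrewise criterion, field form**: if `I (P ⊗_R k)` is Koszul-regularly generated near `q''`, then `I` is so near
`q'' ∩ P`. -/
theorem exists_genAt_of_field {R P : Type u} [CommRing R] [CommRing P] [Algebra R P]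
    [Algebra.FinitePresentation R P] [Module.Flat R P] (I : Ideal P) [Module.Flat R (P ⧸ I)]
    (k : Type u) [Field k] [Algebra R k] (P'' : Type u) [CommRing P''] [Algebra P P''] [Algebra k P'']
    [Algebra R P''] [IsScalarTower R P P''] [IsScalarTower R k P''] [Algebra.IsPushout R P k P'']
    (hI : I.FG) (q'' : Ideal P'') [q''.IsPrime] (G'' : P'') (hG'' : G'' ∉ q'')
    (h : GenAt (I.map (algebraMap P P'')) G'') :
    ∃ G : P, G ∉ q''.comap (algebraMap P P'') ∧ GenAt I G := by
  set 𝔞 : Ideal R := RingHom.ker (algebraMap R k) with h𝔞def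
  let T := Localization.AtPrime q''
  have hker : ∀ a ∈ 𝔞, algebraMap P P'' (algebraMap R P a) = 0 := by
    intro a ha
    rw [← IsScalarTower.algebraMap_apply R P P'', IsScalarTower.algebraMap_apply R k P'',
      (RingHom.mem_ker).mp ha, map_zero]
  have h0 : ∀ x ∈ 𝔞.map (algebraMap R P), algebraMap P P'' x = 0 := by
    intro x hx
    have hle : 𝔞.map (algebraMap R P) ≤ RingHom.ker (algebraMap P P'') := by
      rw [Ideal.map_le_iff_le_comap]
      intro a ha
      exact hker a ha
    exact hle hx
  letI : Algebra (P ⧸ 𝔞.map (algebraMap R P)) P'' :=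
    (Ideal.Quotient.lift _ (algebraMap P P'') h0).toAlgebra
  haveI : IsScalarTower P (P ⧸ 𝔞.map (algebraMap R P)) P'' :=
    IsScalarTower.of_algebraMap_eq (fun _ => rfl)
  haveI : IsScalarTower P (P ⧸ 𝔞.map (algebraMap R P)) T := by
    refine IsScalarTower.of_algebraMap_eq fun x => ?_
    rw [IsScalarTower.algebraMap_apply P P'' T,
      IsScalarTower.algebraMap_apply (P ⧸ 𝔞.map (algebraMap R P)) P'' T]
    rfl
  -- flatness of `P''` over `P / 𝔞 P`
  letI : Algebra (R ⧸ 𝔞) P'' := ((algebraMap k P'').comp (algebraMap (R ⧸ 𝔞) k)).toAlgebra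
  haveI : IsScalarTower (R ⧸ 𝔞) k P'' := IsScalarTower.of_algebraMap_eq (fun _ => rfl)
  haveI : IsScalarTower R (R ⧸ 𝔞) k := IsScalarTower.of_algebraMap_eq (fun _ => rfl)
  haveI : IsScalarTower (R ⧸ 𝔞) (P ⧸ 𝔞.map (algebraMap R P)) P'' := by
    refine IsScalarTower.of_algebraMap_eq fun x => ?_
    obtain ⟨r, rfl⟩ := Ideal.Quotient.mk_surjective x
    show algebraMap k P'' (algebraMap R k r) = algebraMap P P'' (algebraMap R P r)
    rw [← IsScalarTower.algebraMap_apply R k P'', ← IsScalarTower.algebraMap_apply R P P'']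
  haveI : IsScalarTower R (P ⧸ 𝔞.map (algebraMap R P)) P'' := by
    refine IsScalarTower.of_algebraMap_eq fun r => ?_
    show algebraMap R P'' r = algebraMap P P'' (algebraMap R P r)
    rw [← IsScalarTower.algebraMap_apply R P P'']
  haveI : Algebra.IsPushout R (R ⧸ 𝔞) P (P ⧸ 𝔞.map (algebraMap R P)) := isPushout_quotient R P 𝔞
  haveI hpo : Algebra.IsPushout (R ⧸ 𝔞) (P ⧸ 𝔞.map (algebraMap R P)) k P'' := by
    have h1 : Algebra.IsPushout R k P P'' := Algebra.IsPushout.symm inferInstance
    exact ((Algebra.IsPushout.comp_iff R (R ⧸ 𝔞) P (P ⧸ 𝔞.map (algebraMap R P))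
      (T := k) (T' := P'')).mp h1).symm
  haveI : Module.Flat (R ⧸ 𝔞) k := flat_quotient_ker_field k
  haveI : Module.Flat (P ⧸ 𝔞.map (algebraMap R P)) P'' :=
    Module.Flat.isBaseChange (R := R ⧸ 𝔞) (S := P ⧸ 𝔞.map (algebraMap R P)) (M := k) P'' hpo.out
  haveI : Module.Flat (P ⧸ 𝔞.map (algebraMap R P)) T :=
    Module.Flat.trans (P ⧸ 𝔞.map (algebraMap R P)) P'' T
  -- the prime
  have h𝔞 : 𝔞.map (algebraMap R P) ≤ q''.comap (algebraMap P P'') := by
    intro x hx
    rw [Ideal.mem_comap, h0 x hx]
    exact q''.zero_mem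
  have h𝔮 : q''.comap (algebraMap P P'') = (IsLocalRing.maximalIdeal T).comap (algebraMap P T) := by
    have hc : (IsLocalRing.maximalIdeal T).comap (algebraMap P'' T) = q'' :=
      IsLocalization.AtPrime.under_maximalIdeal T q''
    rw [IsScalarTower.algebraMap_eq P P'' T, ← Ideal.comap_comap, hc]
  -- generators in `T`
  obtain ⟨s, hs⟩ := h.exists_genLen
  have hGu : IsUnit (algebraMap P'' T G'') :=
    (IsLocalization.AtPrime.isUnit_to_map_iff T q'' G'').mpr hG''
  obtain ⟨l, -, hl, hIl⟩ := hs.transfer T hGu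
  have hIl' : I.map (algebraMap P T) = Ideal.ofList l := by
    rw [IsScalarTower.algebraMap_eq P P'' T, ← Ideal.map_map]
    exact hIl
  exact exists_genAt_of_test I 𝔞 (q''.comap (algebraMap P P'')) hI h𝔞 h𝔮 l hl hIl'

end main

end Groth.Agent.Lib.FibreKR5
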