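import Groth.Agent.Lib.FibreKR5
import Groth.Agent.Lib.KoszulRelBC
import Mathlib.RingTheory.Localization.BaseChange
import Mathlib.RingTheory.LocalRing.ResidueField.Fiber

/-!
# Base change of Koszul-regularly generated ideals with flat quotient (helper19)

Namespace `Groth.Agent.Lib.FibreKR6`.

* `flat_of_isPushout`, `flat_quotient_of_isPushout` : flatness of `P' = P ⊗_R R'` and of `P'/IP'` over `R'`.
* `genAt_baseChange` : `GenAt I G`, `P` and `P/I` flat over `R` ⇒ `GenAt (I P') G` for `P' = P ⊗_R R'`.
-/

set_option autoImplicit false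
set_option linter.style.haveILetI false
universe u
open CategoryTheory CategoryTheory.Limits TensorProduct Function

namespace Groth.Agent.Lib.FibreKR6

open Groth.Agent.Lib.KoszulIdeal Groth.Agent.Lib.FibreKR3 Groth.Agent.Lib.FibreKR5
  Groth.Agent.Lib.KoszulRelBC

section flat

variable {R P R' P' : Type u} [CommRing R] [CommRing P] [CommRing R'] [CommRing P']
  [Algebra R P] [Algebra R R'] [Algebra P P'] [Algebra R' P'] [Algebra R P']
  [IsScalarTower R P P'] [IsScalarTower R R' P'] [Algebra.IsPushout R P R' P']

include R P in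
theorem flat_of_isPushout [Module.Flat R P] : Module.Flat R' P' := by
  have h : Algebra.IsPushout R R' P P' := Algebra.IsPushout.symm inferInstance
  exact Module.Flat.isBaseChange (R := R) (S := R') (M := P) P' h.out

include R in
theorem flat_quotient_of_isPushout (I : Ideal P) [Module.Flat R (P ⧸ I)] :
    Module.Flat R' (P' ⧸ I.map (algebraMap P P')) := by
  haveI : IsScalarTower R (P ⧸ I) (P' ⧸ I.map (algebraMap P P')) := by
    refine IsScalarTower.of_algebraMap_eq fun r => ?_
    show Ideal.Quotient.mk _ (algebraMap R P' r) =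
      algebraMap (P ⧸ I) (P' ⧸ I.map (algebraMap P P')) (Ideal.Quotient.mk I (algebraMap R P r))
    rw [IsScalarTower.algebraMap_apply R P P']
    rfl
  haveI : Algebra.IsPushout P (P ⧸ I) P' (P' ⧸ I.map (algebraMap P P')) := isPushout_quotient P P' I
  have h1 : Algebra.IsPushout R (P ⧸ I) R' (P' ⧸ I.map (algebraMap P P')) :=
    (Algebra.IsPushout.comp_iff R P R' P' (T := P ⧸ I) (T' := P' ⧸ I.map (algebraMap P P'))).mpr
      inferInstance
  have h2 : Algebra.IsPushout R R' (P ⧸ I) (P' ⧸ I.map (algebraMap P P')) := h1.symm
  exact Module.Flat.isBaseChange (R := R) (S := R') (M := P ⧸ I) _ h2.out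

end flat

section bc

variable {R P R' P' : Type u} [CommRing R] [CommRing P] [CommRing R'] [CommRing P']
  [Algebra R P] [Algebra R R'] [Algebra P P'] [Algebra R' P'] [Algebra R P']
  [IsScalarTower R P P'] [IsScalarTower R R' P'] [Algebra.IsPushout R P R' P']

include R R' in
/-- **base change of Koszul-regularly generated ideals**: `P` and `P/I` flat over `R`, `P' = P ⊗_R R'` -/
theorem genAt_baseChange [Module.Flat R P] (I : Ideal P) [Module.Flat R (P ⧸ I)] (G : P)
    (h : GenAt I G) : GenAt (I.map (algebraMap P P')) (algebraMap P P' G) := by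
  obtain ⟨Q, _, _, _, l, hl, hI⟩ := h
  let Q' := Localization.Away (algebraMap P P' G)
  -- algebra structures
  letI : Algebra R Q := ((algebraMap P Q).comp (algebraMap R P)).toAlgebra
  haveI : IsScalarTower R P Q := IsScalarTower.of_algebraMap_eq (fun _ => rfl)
  have hGu : IsUnit (algebraMap P Q' G) := by
    rw [IsScalarTower.algebraMap_apply P P' Q']
    exact IsLocalization.Away.algebraMap_isUnit _
  letI : Algebra Q Q' := (IsLocalization.Away.lift G hGu).toAlgebra
  haveI : IsScalarTower P Q Q' :=
    IsScalarTower.of_algebraMap_eq (fun x => (IsLocalization.Away.lift_eq G hGu x).symm)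
  haveI : IsScalarTower R Q Q' := by
    refine IsScalarTower.of_algebraMap_eq fun r => ?_
    rw [IsScalarTower.algebraMap_apply R P Q', IsScalarTower.algebraMap_apply P Q Q']
    rfl
  -- the pushout
  haveI : IsLocalization (Algebra.algebraMapSubmonoid P' (Submonoid.powers G)) Q' := by
    have : Algebra.algebraMapSubmonoid P' (Submonoid.powers G) =
        Submonoid.powers (algebraMap P P' G) := Submonoid.map_powers _ _
    rw [this]
    infer_instance
  have hpo1 : Algebra.IsPushout P P' Q Q' :=
    Algebra.isPushout_of_isLocalization (R := P) (A := Q) (Submonoid.powers G) P' Q'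
  have hpo2 : Algebra.IsPushout P Q P' Q' := hpo1.symm
  haveI hpo3 : Algebra.IsPushout R Q R' Q' :=
    (Algebra.IsPushout.comp_iff R P R' P' (T := Q) (T' := Q')).mpr hpo2
  -- flatness
  haveI : Module.Flat P Q := IsLocalization.flat Q (Submonoid.powers G)
  haveI : Module.Flat R Q := Module.Flat.trans R P Q
  haveI : Module.Flat R (Q ⧸ Ideal.ofList l) := by
    rw [← hI]
    exact flat_quotient_away I G Q
  have hKR := isKoszulRegularSeq_map_of_isPushout R R' (P := Q) (P' := Q') l hl
  refine GenAt.mk Q' (l.map (algebraMap Q Q')) hKR ?_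
  rw [Ideal.map_map, ← IsScalarTower.algebraMap_eq P P' Q', IsScalarTower.algebraMap_eq P Q Q',
    ← Ideal.map_map, hI, Ideal.map_ofList]

end bc

section general

section fibre

attribute [local instance] Algebra.TensorProduct.rightAlgebra

/-- a prime `q'` of an `R'`-algebra `P'` comes from a prime of the fibre `κ(p') ⊗ P'`, `p' = q' ∩ R'` -/
theorem exists_fibre_prime {R' P' : Type u} [CommRing R'] [CommRing P'] [Algebra R' P'] (q' : Ideal P')
    [q'.IsPrime] :
    ∃ (k : Type u) (_ : Field k) (_ : Algebra R' k) (P'' : Type u) (_ : CommRing P'')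
      (_ : Algebra P' P'') (_ : Algebra k P'') (_ : Algebra R' P'') (_ : IsScalarTower R' P' P'')
      (_ : IsScalarTower R' k P'') (_ : Algebra.IsPushout R' P' k P'') (q'' : Ideal P''),
      q''.IsPrime ∧ q''.comap (algebraMap P' P'') = q' := by
  let p' : Ideal R' := q'.comap (algebraMap R' P')
  let pt : PrimeSpectrum R' := ⟨p', inferInstance⟩
  let qt : (PrimeSpectrum.comap (algebraMap R' P')) ⁻¹' {pt} := ⟨⟨q', inferInstance⟩, rfl⟩
  let q''s : PrimeSpectrum (p'.ResidueField ⊗[R'] P') := PrimeSpectrum.preimageEquivFiber R' P' pt qt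
  refine ⟨p'.ResidueField, inferInstance, inferInstance, p'.ResidueField ⊗[R'] P', inferInstance,
    inferInstance, inferInstance, inferInstance, inferInstance, inferInstance, inferInstance,
    q''s.asIdeal, q''s.isPrime, ?_⟩
  have := (PrimeSpectrum.preimageEquivFiber R' P' pt).symm_apply_apply qt
  exact congrArg (fun z => z.1.asIdeal) this

end fibre

/-- **fibrewise criterion for Koszul-regular ideals, base change form**: `R → P` flat of finite presentation, `I ⊆ P`
finitely generated with `P/I` flat over `R`, `R → R'` any ring map and `P' = P ⊗_R R'`.  If `I P'` is generated by a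
Koszul-regular sequence near a prime `q'` then `I` is generated by a Koszul-regular sequence near `q' ∩ P`. -/
theorem exists_genAt_of_baseChange {R P R' P' : Type u} [CommRing R] [CommRing P] [CommRing R']
    [CommRing P'] [Algebra R P] [Algebra R R'] [Algebra P P'] [Algebra R' P'] [Algebra R P']
    [IsScalarTower R P P'] [IsScalarTower R R' P'] [Algebra.IsPushout R P R' P']
    [Algebra.FinitePresentation R P] [Module.Flat R P] (I : Ideal P) (hI : I.FG)
    [Module.Flat R (P ⧸ I)] (q' : Ideal P') [q'.IsPrime] (G' : P') (hG' : G' ∉ q')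
    (h : GenAt (I.map (algebraMap P P')) G') :
    ∃ G : P, G ∉ q'.comap (algebraMap P P') ∧ GenAt I G := by
  obtain ⟨k, _, _, P'', _, _, _, _, _, _, _, q'', hq''prime, hq''⟩ := exists_fibre_prime (R' := R') q'
  -- base change to the fibre
  haveI : Module.Flat R' P' := flat_of_isPushout (R := R) (P := P)
  haveI : Module.Flat R' (P' ⧸ I.map (algebraMap P P')) := flat_quotient_of_isPushout (R := R) I
  have h'' := genAt_baseChange (R := R') (R' := k) (P := P') (P' := P'') (I.map (algebraMap P P')) G' h
  -- the composite pushout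
  letI : Algebra R k := ((algebraMap R' k).comp (algebraMap R R')).toAlgebra
  haveI : IsScalarTower R R' k := IsScalarTower.of_algebraMap_eq (fun _ => rfl)
  letI : Algebra P P'' := ((algebraMap P' P'').comp (algebraMap P P')).toAlgebra
  haveI : IsScalarTower P P' P'' := IsScalarTower.of_algebraMap_eq (fun _ => rfl)
  letI : Algebra R P'' := ((algebraMap R' P'').comp (algebraMap R R')).toAlgebra
  haveI : IsScalarTower R R' P'' := IsScalarTower.of_algebraMap_eq (fun _ => rfl)
  haveI : IsScalarTower R k P'' := by
    refine IsScalarTower.of_algebraMap_eq fun r => ?_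
    show algebraMap R' P'' (algebraMap R R' r) = algebraMap k P'' (algebraMap R' k (algebraMap R R' r))
    rw [← IsScalarTower.algebraMap_apply R' k P'']
  haveI : IsScalarTower R P' P'' := by
    refine IsScalarTower.of_algebraMap_eq fun r => ?_
    show algebraMap R' P'' (algebraMap R R' r) = algebraMap P' P'' (algebraMap R P' r)
    rw [IsScalarTower.algebraMap_apply R R' P', ← IsScalarTower.algebraMap_apply R' P' P'']
  haveI : IsScalarTower R P P'' := by
    refine IsScalarTower.of_algebraMap_eq fun r => ?_
    rw [IsScalarTower.algebraMap_apply R P' P'', IsScalarTower.algebraMap_apply R P P']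
    rfl
  haveI : Algebra.IsPushout R R' P P' := Algebra.IsPushout.symm inferInstance
  haveI hpo : Algebra.IsPushout R P k P'' := by
    have h1 : Algebra.IsPushout R' k P' P'' := Algebra.IsPushout.symm inferInstance
    exact ((Algebra.IsPushout.comp_iff R R' P P' (T := k) (T' := P'')).mpr h1).symm
  have h3 : GenAt (I.map (algebraMap P P'')) (algebraMap P' P'' G') := by
    rw [IsScalarTower.algebraMap_eq P P' P'', ← Ideal.map_map]
    exact h''
  have hG'' : algebraMap P' P'' G' ∉ q'' := by
    intro hmem
    apply hG'
    rw [← hq'']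
    exact hmem
  obtain ⟨G, hG, hGen⟩ := exists_genAt_of_field (R := R) I k P'' hI q'' _ hG'' h3
  refine ⟨G, ?_, hGen⟩
  rw [← hq'', Ideal.comap_comap, ← IsScalarTower.algebraMap_eq P P' P'']
  exact hG

end general

end Groth.Agent.Lib.FibreKR6
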