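import Mathlib
import Groth.Agent.Lib.FibreLoc21

/-!
# K2c: freeness of an abstract localization from freeness of the standard one (helper21, Mathlib only)
-/

set_option autoImplicit false
set_option linter.style.haveILetI false
universe u

namespace Groth.Agent.Lib.FibreLoc21

variable {A : Type u} [CommRing A] (x : PrimeSpectrum A)
  (O : Type u) [CommRing O] [Algebra A O] [IsLocalization.AtPrime O x.asIdeal]
  (N : Type u) [AddCommGroup N] [Module A N]
  (G : Type u) [AddCommGroup G] [Module A G] [Module O G] [IsScalarTower A O G]
  (ℓ : N →ₗ[A] G) [IsLocalizedModule x.asIdeal.primeCompl ℓ]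

include ℓ in
/-- if the standard localization `N_x` is free over `A_x`, then any localization `G` of `N` at `x` is free
over any localization `O` of `A` at `x`, of the same rank -/
theorem free_and_finrank_of_free_localized [Module.Finite A N]
    [Module.Free (Localization.AtPrime x.asIdeal) (LocalizedModule x.asIdeal.primeCompl N)] :
    Module.Free O G ∧ Module.finrank O G =
      Module.finrank (Localization.AtPrime x.asIdeal) (LocalizedModule x.asIdeal.primeCompl N) := by
  haveI : IsLocalRing O := IsLocalization.AtPrime.isLocalRing O x.asIdeal
  haveI : Module.Flat (Localization.AtPrime x.asIdeal) (LocalizedModule x.asIdeal.primeCompl N) :=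
    inferInstance
  haveI : Module.Flat A (LocalizedModule x.asIdeal.primeCompl N) :=
    (Module.flat_iff_of_isLocalization (Localization.AtPrime x.asIdeal) x.asIdeal.primeCompl
      (LocalizedModule x.asIdeal.primeCompl N)).mp inferInstance
  haveI : Module.Flat A G :=
    Module.Flat.of_linearEquiv (IsLocalizedModule.iso x.asIdeal.primeCompl ℓ).symm
  haveI : Module.Flat O G :=
    (Module.flat_iff_of_isLocalization O x.asIdeal.primeCompl G).mpr inferInstance
  haveI : Module.Finite O G := Module.Finite.of_isLocalizedModule x.asIdeal.primeCompl ℓ
  refine ⟨Module.free_of_flat_of_isLocalRing, ?_⟩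
  have h := rank_eq_of_equiv_equiv
    (IsLocalization.algEquiv x.asIdeal.primeCompl (Localization.AtPrime x.asIdeal) O)
    (IsLocalizedModule.iso x.asIdeal.primeCompl ℓ).toAddEquiv
    (IsLocalization.algEquiv x.asIdeal.primeCompl (Localization.AtPrime x.asIdeal) O).bijective
    (iso_smul x O N G ℓ)
  unfold Module.finrank
  rw [h]

end Groth.Agent.Lib.FibreLoc21
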