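import Mathlib

set_option autoImplicit false
universe u

open TensorProduct

namespace Groth.Agent.Lib.FibreLocIso64

/-- The localization at `q` of the fibre module `M ⊗ κ(p)` is `N/𝔪_R N`, `N = M_q`,
compatibly with the action of `B`. -/
theorem exists_addEquiv {A B R S : Type*} [CommRing A] [CommRing B] [CommRing R] [CommRing S]
    [Algebra A B] [Algebra A R] [Algebra R S] [Algebra B S] [Algebra A S]
    [IsScalarTower A R S] [IsScalarTower A B S] [IsLocalRing R]
    (p : Ideal A) [p.IsPrime] [IsLocalization.AtPrime R p] (q : Ideal B) [q.IsPrime]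
    {M : Type*} [AddCommGroup M] [Module A M] [Module B M] [IsScalarTower A B M]
    {N : Type*} [AddCommGroup N] [Module A N] [Module B N] [Module R N] [Module S N]
    [IsScalarTower A B N] [IsScalarTower B S N] [IsScalarTower R S N] [IsScalarTower A R N]
    (f : M →ₗ[B] N) [IsLocalizedModule q.primeCompl f]
    {T' : Type*} [AddCommGroup T'] [Module B T']
    (g : M ⊗[A] IsLocalRing.ResidueField R →ₗ[B] T') [IsLocalizedModule q.primeCompl g] :
    ∃ e : T' ≃+ N ⧸ ((IsLocalRing.maximalIdeal R).map (algebraMap R S) • ⊤ : Submodule S N),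
      ∀ (b : B) (x : T'), e (b • x) = algebraMap B S b • e x := by
  let κ := IsLocalRing.ResidueField R
  let e₁ : T' ≃ₗ[B] N ⊗[A] κ :=
    IsLocalizedModule.linearEquiv q.primeCompl g (AlgebraTensorModule.rTensor A κ f)
  have : TensorProduct.CompatibleSMul A R N κ :=
    IsLocalization.tensorProduct_compatibleSMul p.primeCompl R N κ
  let e₂ : N ⊗[A] κ ≃ₗ[A] N ⊗[R] κ := TensorProduct.equivOfCompatibleSMul R A A N κ
  let e₃ : N ⊗[R] κ ≃ₗ[R] N ⧸ (IsLocalRing.maximalIdeal R • ⊤ : Submodule R N) :=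
    TensorProduct.tensorQuotEquivQuotSMul N (IsLocalRing.maximalIdeal R)
  have h4 : (IsLocalRing.maximalIdeal R • ⊤ : Submodule R N) =
      ((IsLocalRing.maximalIdeal R).map (algebraMap R S) • (⊤ : Submodule S N)).restrictScalars R := by
    rw [Ideal.smul_restrictScalars, Submodule.restrictScalars_top]
  let e₄ : (N ⧸ (IsLocalRing.maximalIdeal R • ⊤ : Submodule R N)) ≃ₗ[R]
      N ⧸ ((IsLocalRing.maximalIdeal R).map (algebraMap R S) • ⊤ : Submodule S N) :=
    Submodule.quotEquivOfEq _ _ h4 ≪≫ₗ Submodule.Quotient.restrictScalarsEquiv R _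
  let E : N ⊗[A] κ ≃+ N ⧸ ((IsLocalRing.maximalIdeal R).map (algebraMap R S) • ⊤ : Submodule S N) :=
    (e₂.toAddEquiv.trans e₃.toAddEquiv).trans e₄.toAddEquiv
  have hE : ∀ (n : N) (r : R), E (n ⊗ₜ[A] (Ideal.Quotient.mk (IsLocalRing.maximalIdeal R) r : κ)) =
      Submodule.Quotient.mk (r • n) := by
    intro n r
    have h0 : E (n ⊗ₜ[A] (Ideal.Quotient.mk (IsLocalRing.maximalIdeal R) r : κ)) =
        e₄ (e₃ (e₂ (n ⊗ₜ[A] (Ideal.Quotient.mk (IsLocalRing.maximalIdeal R) r : κ)))) := rfl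
    rw [h0]
    have h2 : e₂ (n ⊗ₜ[A] (Ideal.Quotient.mk (IsLocalRing.maximalIdeal R) r : κ)) =
        n ⊗ₜ[R] (Ideal.Quotient.mk (IsLocalRing.maximalIdeal R) r : κ) := rfl
    rw [h2]
    have h3 : e₃ (n ⊗ₜ[R] (Ideal.Quotient.mk (IsLocalRing.maximalIdeal R) r : κ)) =
        Submodule.Quotient.mk (r • n) :=
      TensorProduct.tensorQuotEquivQuotSMul_tmul_mk (M := N) (IsLocalRing.maximalIdeal R) n r
    exact (congrArg e₄ h3).trans rfl
  have hEb : ∀ (b : B) (t : N ⊗[A] κ), E (b • t) = algebraMap B S b • E t := by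
    intro b t
    induction t with
    | zero => simp
    | add x y hx hy => rw [smul_add, map_add, map_add, smul_add, hx, hy]
    | tmul n x =>
      obtain ⟨r, rfl⟩ := Ideal.Quotient.mk_surjective x
      rw [TensorProduct.smul_tmul', hE, hE, ← Submodule.Quotient.mk_smul]
      congr 1
      rw [← algebraMap_smul S r (b • n), ← algebraMap_smul S b n, ← algebraMap_smul S r n,
        smul_smul, smul_smul, mul_comm]
  refine ⟨e₁.toAddEquiv.trans E, fun b x => ?_⟩
  change E (e₁ (b • x)) = algebraMap B S b • E (e₁ x)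
  rw [map_smul, hEb]

end Groth.Agent.Lib.FibreLocIso64
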