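import Groth.Agent.Lib.FibreGeo21

/-!
# K2c: cohomology and base change for a proper morphism and a flat coherent sheaf (helper21)

Final local statements (EGA III 7.7–7.9 / Hartshorne III.12): vanishing of `R^n f_* F` near a point with
`H^n(X_y, F_y) = 0`; Grauert's theorem over a reduced base; concentration in one degree; local constancy of the
fibre ranks when all `R^i f_* F` are locally free; the case `R^i f_* F = 0` for `i > 0`.
-/

set_option autoImplicit false
set_option linter.style.haveILetI false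
set_option linter.unusedSectionVars false
universe u

open CategoryTheory CategoryTheory.Limits AlgebraicGeometry Opposite CohIII

namespace Groth.Agent.Lib.FibreMain21

open Groth.Agent.Lib.FibreOpen21 Groth.Agent.Lib.FibreStalk21 Groth.Agent.Lib.FibreAlg21
  Groth.Agent.Lib.FibreGeo21 Groth.Agent.Lib.TFunRank

variable {X Y : Scheme.{u}} (f : X ⟶ Y) [IsProper f] [IsLocallyNoetherian Y]
  [HasInjectiveResolutions X.Modules] (F : X.Modules) (hF : Coh.IsCoh F)
  (hfl : FlatMod.IsFlatOver f F)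

theorem exists_affine_nbhd (y : Y) : ∃ V : Y.Opens, IsAffineOpen V ∧ y ∈ V.ι ''ᵁ ⊤ := by
  obtain ⟨_, ⟨V, hV, rfl⟩, hyV, -⟩ :=
    Y.isBasis_affineOpens.exists_subset_of_mem_open (Set.mem_univ y) isOpen_univ
  refine ⟨V, hV, ?_⟩
  rw [Scheme.Opens.ι_image_top]
  exact hyV

include hF in
theorem isFP_Rpush (p : ℕ) : CohB1.IsFP ((Coh.Rpush f p).obj F) :=
  (Groth.Agent.S0018.result Y _).mp (Groth.Agent.Lib.H90RpushCoh.isCoh_Rpush f F hF p)

include hF hfl in
/-- **Vanishing near a point** (S2385). -/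
theorem vanish_near (y : Y) (n : ℕ) (hvan : Subsingleton (CohIII.fiberH f F y n)) :
    ∃ U : Y.Opens, y ∈ U ∧ IsZero (((Coh.Rpush f n).obj F).restrict U.ι) := by
  obtain ⟨V, hV, hz⟩ := exists_affine_nbhd y
  obtain ⟨L, P⟩ := exists_package f F hF hfl hV
  haveI := isNoetherianRing_AV hV
  have h1 := (P.vanish y hz n).mp hvan
  have h2 := subsingleton_localizedModule_of_isZero_residue L P.flat P.finite (xV hV y hz) n h1
  have h3 := P.subsingleton_stalk y hz n h2
  exact Groth.Agent.Lib.H90OXModStalkLocal.exists_isZero_restrict_of_stalk _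
    (Groth.Agent.Lib.H90RpushCoh.isCoh_Rpush f F hF n).2 y h3

include hF in
/-- common last step: if `T^p(A)` is flat and `dRank = fibRank` at the prime of `y`, then `R^p f_* F` is free near `y` of
rank `dim H^p(X_y, F_y)`. -/
theorem free_near_of_flat {V : Y.Opens} {hV : IsAffineOpen V}
    {L : CochainComplex (ModuleCat.{u} (AV V)) ℤ} (P : Package f F hV L) (y : Y)
    (hz : y ∈ V.ι ''ᵁ ⊤) (p : ℕ) (hflN : Module.Flat (AV V) (NN L (p : ℤ)))
    (hrk : dRank L (p : ℤ) (xV hV y hz) = fibRank (NN L (p : ℤ)) (xV hV y hz)) :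
    ∃ U : Y.Opens, y ∈ U ∧ Nonempty (((Coh.Rpush f p).obj F).restrict U.ι ≅
      FlatMod.freeMod (↑U) (CohIII.fiberRank f F p y)) := by
  obtain ⟨hfree, hfr⟩ := P.free_stalk y hz p hflN
  obtain ⟨U, hyU, ⟨e⟩⟩ := exists_restrict_iso_freeMod _ (isFP_Rpush f F hF p) y hfree
  refine ⟨U, hyU, ?_⟩
  rw [P.rank y hz p, hrk, ← hfr]
  exact ⟨e⟩

section Grauert

/-- the prime of the point `hW.fromSpec x` is `x` -/
theorem xV_fromSpec {V : Y.Opens} (hV : IsAffineOpen V) (x : PrimeSpectrum (AV V))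
    (hmem : (isAffineOpen_W hV).fromSpec x ∈ V.ι ''ᵁ ⊤) :
    xV hV ((isAffineOpen_W hV).fromSpec x) hmem = x := by
  change (isAffineOpen_W hV).isoSpec.hom ⟨(isAffineOpen_W hV).fromSpec x, hmem⟩ = x
  have h : (⟨(isAffineOpen_W hV).fromSpec x, hmem⟩ : ↥(V.ι ''ᵁ ⊤)) =
      (isAffineOpen_W hV).isoSpec.inv x := Subtype.ext rfl
  rw [h, ← Scheme.Hom.comp_apply, Iso.inv_hom_id]
  rfl

theorem fromSpec_mem {V : Y.Opens} (hV : IsAffineOpen V) (x : PrimeSpectrum (AV V)) :
    (isAffineOpen_W hV).fromSpec x ∈ V.ι ''ᵁ ⊤ :=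
  ((isAffineOpen_W hV).isoSpec.inv x).2

/-- the rank function of the model is the fibre rank composed with `Spec A ⟶ Y` -/
theorem dRank_eq_fiberRank_comp {V : Y.Opens} {hV : IsAffineOpen V}
    {L : CochainComplex (ModuleCat.{u} (AV V)) ℤ} (P : Package f F hV L) (p : ℕ)
    (x : PrimeSpectrum (AV V)) :
    dRank L (p : ℤ) x = CohIII.fiberRank f F p ((isAffineOpen_W hV).fromSpec x) := by
  rw [P.rank _ (fromSpec_mem hV x) p, xV_fromSpec hV x]

include hF hfl in
/-- **Grauert's theorem** (S2391): over a reduced base, if `y ↦ dim H^p(X_y, F_y)` is locally constant then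
`R^p f_* F` is free near each `y`, of rank `dim H^p(X_y, F_y)`. -/
theorem grauert [IsReduced Y] (p : ℕ) (hconst : IsLocallyConstant (CohIII.fiberRank f F p))
    (y : Y) :
    ∃ U : Y.Opens, y ∈ U ∧ Nonempty (((Coh.Rpush f p).obj F).restrict U.ι ≅
      FlatMod.freeMod (↑U) (CohIII.fiberRank f F p y)) := by
  obtain ⟨V, hV, hz⟩ := exists_affine_nbhd y
  obtain ⟨L, P⟩ := exists_package f F hF hfl hV
  haveI := isNoetherianRing_AV hV
  haveI : IsReduced (AV V) := inferInstanceAs (IsReduced Γ(Y, V.ι ''ᵁ ⊤))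
  have hd : IsLocallyConstant (dRank L (p : ℤ)) := by
    have h1 : IsLocallyConstant (fun x : PrimeSpectrum (AV V) =>
        CohIII.fiberRank f F p ((isAffineOpen_W hV).fromSpec x)) :=
      hconst.comp_continuous (isAffineOpen_W hV).fromSpec.continuous
    have h2 : dRank L (p : ℤ) = fun x : PrimeSpectrum (AV V) =>
        CohIII.fiberRank f F p ((isAffineOpen_W hV).fromSpec x) :=
      funext fun x => dRank_eq_fiberRank_comp f F P p x
    rw [h2]
    exact h1
  obtain ⟨hflN, hrk⟩ := flat_and_dRank_of_isLocallyConstant L P.flat P.finite (p : ℤ) hd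
  exact free_near_of_flat f F hF P y hz p hflN (hrk _)

end Grauert

end Groth.Agent.Lib.FibreMain21
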