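import Groth.Agent.Lib.TensorAModel3H44
import Groth.Agent.Lib.BaseChangeCohSqH44
import Groth.Agent.Lib.TFunCompareLinH44

/-!
# Mumford's complex, with functoriality and with base change (helper44)

`exists_model_bc`: for `X` proper over a Noetherian ring `A` and `F` coherent and flat over `A` there is ONE
bounded-above complex `L` of finite free `A`-modules computing both the functors `M ↦ H^p(X, F ⊗_A M)`
(`EndEquiv`) and the cohomology of every base change: `H^p(X', g'^*F) ≃ₗ[R] H^p(R ⊗_A L)` for every cartesian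
square `X' = X ×_A R`.
-/

set_option autoImplicit false
universe u

open CategoryTheory CategoryTheory.Limits AlgebraicGeometry Opposite MonoidalCategory CohIII

namespace Groth.Agent.Lib.FibreModelH44

open Groth.Agent.Lib.TensorACechH44 Groth.Agent.Lib.EndEquivH44 Groth.Agent.Lib.TensorAModelH44
  Groth.Agent.Lib.TensorAModel2H44 Groth.Agent.Lib.TensorAModel3H44

attribute [local instance] HasDerivedCategory.standard in
/-- **Mumford's complex, with functoriality and base change.** -/
theorem exists_model_bc (A : Type u) [CommRing A] [IsNoetherianRing A] (X : Scheme.{u})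
    [X.Over (Spec (CommRingCat.of A))] [IsProper (X ↘ Spec (CommRingCat.of A))] (F : X.Modules)
    (hF : Coh.IsCoh F) (hfl : FlatMod.IsFlatOver (X ↘ Spec (CommRingCat.of A)) F) :
    ∃ L : CochainComplex (ModuleCat.{u} A) ℤ,
      (∀ i, Module.Finite A (L.X i) ∧ Module.Free A (L.X i)) ∧
      (∃ b : ℤ, ∀ i, b < i → IsZero (L.X i)) ∧
      (∀ p : ℕ, EndEquiv (tensorAFunctor A F ⋙ HAb X p)
        (TFun L (p : ℤ) ⋙ forget₂ (ModuleCat.{u} A) AddCommGrpCat.{u})) ∧
      (∀ p : ℤ, p < 0 → ∀ M : ModuleCat.{u} A, IsZero ((TFun L p).obj M)) ∧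
      ∀ (R : Type u) [CommRing R] [Algebra A R] (X' : Scheme.{u}) [X'.Over (Spec (CommRingCat.of R))]
        (g' : X' ⟶ X)
        (_ : IsPullback g' (X' ↘ Spec (CommRingCat.of R)) (X ↘ Spec (CommRingCat.of A))
          (Spec.map (CommRingCat.ofHom (algebraMap A R)))) (p : ℕ),
        Nonempty (Coh.HH X' ((Scheme.Modules.pullback g').obj F) p ≃ₗ[R]
          (bcCx (algebraMap A R) L).homology (p : ℤ)) := by
  haveI : F.IsQuasicoherent := hF.1
  haveI : CompactSpace X :=
    QuasiCompact.compactSpace_of_compactSpace (X ↘ Spec (CommRingCat.of A))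
  obtain ⟨ι, _, U, hcov, hUa⟩ := Groth.Agent.Lib.H90ProperFin.exists_finite_affine_cover X
  have hU : ∀ s : Finset ι, s.Nonempty → IsAffineOpen (⨅ i ∈ s, U i) :=
    isAffineOpen_biInf (X ↘ Spec (CommRingCat.of A)) U hUa
  obtain ⟨t, ht⟩ := exists_vanishing A F U hcov hU
  obtain ⟨L, h1, h2, h3, h4⟩ := Groth.Agent.Lib.MumfordTrunc21.exists_finite_free_model_nat A
    (cechCx A F U) (flat_cechCx_X A U hfl (isAffineOpen_prod U hU))
    (finite_homology_cechCx A U hF hcov hU) t (fun M p hp => ht M p hp.le)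
  refine ⟨L, h1, h2, fun p => ?_, h4, ?_⟩
  · obtain ⟨e⟩ := h3 p
    exact ((EndEquiv.of_iso (Functor.isoWhiskerRight e _)).trans (endEquiv_TFun A F U hcov hU p)).symm
  · intro R _ _ X' _ g' hsq p
    obtain ⟨e, he⟩ := Groth.Agent.Lib.BaseChangeCohSqH44.exists_addEquiv_sq_pull A R g' F U hsq hcov hU p
    obtain ⟨θ⟩ := h3 p
    let e' : Coh.HH X' ((Scheme.Modules.pullback g').obj F) p ≃+
        ((TFun L (p : ℤ)).obj (ModuleCat.of A R)) :=
      e.trans (θ.symm.app (ModuleCat.of A R)).toLinearEquiv.toAddEquiv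
    refine Groth.Agent.Lib.TFunCompareLinH44.nonempty_linearEquiv_of_equivariant R L (p : ℤ) e' ?_
    intro r x
    change (θ.inv.app (ModuleCat.of A R)).hom (e (r • x)) =
      ((TFun L (p : ℤ)).map _).hom ((θ.inv.app (ModuleCat.of A R)).hom (e x))
    rw [he r x]
    exact ConcreteCategory.congr_hom
      (θ.inv.naturality (Groth.Agent.Lib.BaseChangeSheafH44.mulR A R r)) (e x)

end Groth.Agent.Lib.FibreModelH44
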