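import Mathlib

/-!
# Fibrewise Nakayama for complexes of finite modules (helper21)

Pure module theory.  Let `I ≤ Jac(R)` and let `(M i, d)` be a ℤ-indexed complex of finite `R`-modules with
`R`-linear maps `h i j : M i → M j` such that `d h + h d ≡ id` modulo `I • M i` in certain ("good") degrees.
Then the complex is exact in (suitable) good degrees and images of the differential are direct summands.

* `FourTerm.exact_mid`, `FourTerm.exists_proj_range`, `FourTerm.exists_proj_ker`: the 4-term algebra.
* `bijective_of_sub_mem`: an endomorphism of a finite module congruent to the identity mod `I ≤ Jac R` is bijective.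
* `Good`, `exact_lower`, `exists_proj_range`, `exact_upper`, `projective_quot_range`.
-/

set_option autoImplicit false

namespace Groth.Agent.Lib.FibreNak21

section FourTerm

variable {R : Type*} [CommRing R] {A B C D : Type*} [AddCommGroup A] [Module R A]
  [AddCommGroup B] [Module R B] [AddCommGroup C] [Module R C] [AddCommGroup D] [Module R D]
  (f : A →ₗ[R] B) (g : B →ₗ[R] C) (k : C →ₗ[R] D) (hB : B →ₗ[R] A) (hC : C →ₗ[R] B) (hD : D →ₗ[R] C)

namespace FourTerm

/-- `u_C ∘ g = g ∘ u_B`. -/
lemma comm (gf : ∀ x, g (f x) = 0) (kg : ∀ x, k (g x) = 0) (w : B) :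
    g (hC (g w)) + hD (k (g w)) = g (f (hB w) + hC (g w)) := by
  simp [gf, kg]

theorem exact_mid (gf : ∀ x, g (f x) = 0) (kg : ∀ x, k (g x) = 0)
    (uB : Function.Surjective (fun x : B => f (hB x) + hC (g x)))
    (uC : Function.Injective (fun x : C => g (hC x) + hD (k x))) (x : C) (hx : k x = 0) :
    ∃ y, g y = x := by
  obtain ⟨y, hy⟩ := uB (hC x)
  refine ⟨y, uC ?_⟩
  change g (hC (g y)) + hD (k (g y)) = g (hC x) + hD (k x)
  rw [comm f g k hB hC hD gf kg y]
  have hy' : f (hB y) + hC (g y) = hC x := hy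
  rw [hy', hx, map_zero, add_zero]

theorem exists_proj_range (gf : ∀ x, g (f x) = 0) (kg : ∀ x, k (g x) = 0)
    (uB : Function.Surjective (fun x : B => f (hB x) + hC (g x)))
    (uC : Function.Bijective (fun x : C => g (hC x) + hD (k x))) :
    ∃ e : D →ₗ[R] D, (∀ x, e (k x) = k x) ∧ ∀ x, e x ∈ LinearMap.range k := by
  let uCl : C →ₗ[R] C := g ∘ₗ hC + hD ∘ₗ k
  have huCl : Function.Bijective uCl := uC
  let uCe : C ≃ₗ[R] C := LinearEquiv.ofBijective uCl huCl
  refine ⟨k ∘ₗ uCe.symm.toLinearMap ∘ₗ hD, fun x => ?_, fun x => ⟨_, rfl⟩⟩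
  change k (uCe.symm (hD (k x))) = k x
  -- `hD (k x) = uC x - g (hC x)` and `g (hC x) = uC (g w)` with `uB w = hC x`
  obtain ⟨w, hw⟩ := uB (hC x)
  have hw' : f (hB w) + hC (g w) = hC x := hw
  have h1 : uCe (x - g w) = hD (k x) := by
    change g (hC (x - g w)) + hD (k (x - g w)) = hD (k x)
    have := comm f g k hB hC hD gf kg w
    rw [hw'] at this
    simp only [map_sub, kg, sub_zero]
    rw [kg] at this
    simp only [map_zero, add_zero] at this
    rw [this]
    abel
  rw [← h1, LinearEquiv.symm_apply_apply, map_sub, kg, sub_zero]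

theorem exists_proj_ker (gf : ∀ x, g (f x) = 0) (kg : ∀ x, k (g x) = 0)
    (uB : Function.Bijective (fun x : B => f (hB x) + hC (g x)))
    (uC : Function.Injective (fun x : C => g (hC x) + hD (k x))) :
    ∃ p : A →ₗ[R] A, (∀ x, f (p x) = 0) ∧ ∀ x, f x = 0 → p x = x := by
  let uBl : B →ₗ[R] B := f ∘ₗ hB + hC ∘ₗ g
  have huBl : Function.Bijective uBl := uB
  let uBe : B ≃ₗ[R] B := LinearEquiv.ofBijective uBl huBl
  refine ⟨LinearMap.id - hB ∘ₗ uBe.symm.toLinearMap ∘ₗ f, fun x => ?_, fun x hx => ?_⟩
  · change f (x - hB (uBe.symm (f x))) = 0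
    set w := uBe.symm (f x) with hw
    have h1 : uBe w = f x := by rw [hw, LinearEquiv.apply_symm_apply]
    have h1' : f (hB w) + hC (g w) = f x := h1
    -- `g w = 0`
    have h2 : g w = 0 := by
      apply uC
      change g (hC (g w)) + hD (k (g w)) = g (hC 0) + hD (k 0)
      rw [comm f g k hB hC hD gf kg w, h1', gf]
      simp
    rw [h2, map_zero, add_zero] at h1'
    rw [map_sub, h1', sub_self]
  · change x - hB (uBe.symm (f x)) = x
    rw [hx, map_zero, map_zero, sub_zero]

end FourTerm

end FourTerm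

section Nak

variable {R : Type*} [CommRing R] {I : Ideal R}

/-- An endomorphism of a finite module which is congruent to the identity modulo `I ≤ Jac(R)` is bijective. -/
theorem bijective_of_sub_mem (hI : I ≤ Ideal.jacobson ⊥) {M : Type*} [AddCommGroup M] [Module R M]
    [Module.Finite R M] (u : M →ₗ[R] M) (hu : ∀ x, u x - x ∈ I • (⊤ : Submodule R M)) :
    Function.Bijective u := by
  have hsurj : Function.Surjective u := by
    rw [← LinearMap.range_eq_top]
    refine top_le_iff.mp ?_
    refine Submodule.le_of_le_smul_of_le_jacobson_bot (Module.Finite.fg_top) hI ?_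
    intro x _
    have : x = u x - (u x - x) := by abel
    rw [this]
    exact Submodule.sub_mem _ (Submodule.mem_sup_left ⟨x, rfl⟩) (Submodule.mem_sup_right (hu x))
  exact ⟨OrzechProperty.injective_of_surjective_endomorphism u hsurj, hsurj⟩

end Nak

section Complex

variable {R : Type*} [CommRing R] (I : Ideal R)
  (M : ℤ → Type*) [∀ i, AddCommGroup (M i)] [∀ i, Module R (M i)]
  (d h : ∀ i j : ℤ, M i →ₗ[R] M j)

/-- Degree `i` is good: `d h + h d ≡ id` modulo `I` on `M i`. -/
def Good (i : ℤ) : Prop :=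
  ∀ (p n : ℤ), p + 1 = i → i + 1 = n → ∀ x : M i,
    d p i (h i p x) + h n i (d i n x) - x ∈ I • (⊤ : Submodule R (M i))

variable {I M d h}

lemma Good.bijective [∀ i, Module.Finite R (M i)] (hI : I ≤ Ideal.jacobson ⊥) {i : ℤ}
    (hi : Good I M d h i) (p n : ℤ) (hp : p + 1 = i) (hn : i + 1 = n) :
    Function.Bijective (fun x : M i => d p i (h i p x) + h n i (d i n x)) :=
  bijective_of_sub_mem hI (d p i ∘ₗ h i p + h n i ∘ₗ d i n) (hi p n hp hn)

variable [∀ i, Module.Finite R (M i)] (hI : I ≤ Ideal.jacobson ⊥)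
  (dd : ∀ (i j k : ℤ) (x : M i), d j k (d i j x) = 0)

include hI dd

/-- Exactness at `i` when `i` and `i - 1` are good. -/
theorem exact_lower (q p i n : ℤ) (hq : q + 1 = p) (hp : p + 1 = i) (hn : i + 1 = n)
    (h1 : Good I M d h p) (h2 : Good I M d h i) (x : M i) (hx : d i n x = 0) :
    ∃ y : M p, d p i y = x :=
  FourTerm.exact_mid (d q p) (d p i) (d i n) (h p q) (h i p) (h n i) (dd q p i) (dd p i n)
    (h1.bijective hI q i hq hp).2 (h2.bijective hI p n hp hn).1 x hx

/-- The image of `d : M i → M n` is a direct summand when `i` and `i - 1` are good. -/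
theorem exists_proj_range (q p i n : ℤ) (hq : q + 1 = p) (hp : p + 1 = i) (hn : i + 1 = n)
    (h1 : Good I M d h p) (h2 : Good I M d h i) :
    ∃ e : M n →ₗ[R] M n, (∀ x, e (d i n x) = d i n x) ∧ ∀ x, e x ∈ LinearMap.range (d i n) :=
  FourTerm.exists_proj_range (d q p) (d p i) (d i n) (h p q) (h i p) (h n i) (dd q p i) (dd p i n)
    (h1.bijective hI q i hq hp).2 (h2.bijective hI p n hp hn)

/-- Exactness at `i` when `i`, `i + 1`, `i + 2` are good. -/
theorem exact_upper (p i n m l : ℤ) (hp : p + 1 = i) (hn : i + 1 = n) (hm : n + 1 = m) (hl : m + 1 = l)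
    (h0 : Good I M d h i) (h1 : Good I M d h n) (h2 : Good I M d h m) (x : M i) (hx : d i n x = 0) :
    ∃ y : M p, d p i y = x := by
  obtain ⟨pr, hpr1, hpr2⟩ := FourTerm.exists_proj_ker (d i n) (d n m) (d m l) (h n i) (h m n) (h l m)
    (dd i n m) (dd n m l) (h1.bijective hI i m hn hm) (h2.bijective hI n l hm hl).1
  have hker : LinearMap.ker (d i n) = LinearMap.range pr := by
    apply le_antisymm
    · intro z hz
      exact ⟨z, hpr2 z hz⟩
    · rintro _ ⟨z, rfl⟩
      exact hpr1 z
  have hfg : (LinearMap.ker (d i n)).FG := by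
    rw [hker, LinearMap.range_eq_map]
    exact Submodule.FG.map _ Module.Finite.fg_top
  have hle : LinearMap.ker (d i n) ≤ LinearMap.range (d p i) := by
    refine Submodule.le_of_le_smul_of_le_jacobson_bot hfg hI ?_
    intro z hz
    have hz' : d i n z = 0 := hz
    have hg := h0 p n hp hn z
    rw [hz', map_zero, add_zero] at hg
    -- `z = d (h z) - (d (h z) - z)`
    have e1 : z = d p i (h i p z) - pr (d p i (h i p z) - z) := by
      rw [map_sub, hpr2 z hz', hpr2 _ (dd p i n _)]
      abel
    rw [e1]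
    refine Submodule.sub_mem _ (Submodule.mem_sup_left ⟨_, rfl⟩) (Submodule.mem_sup_right ?_)
    have : pr (d p i (h i p z) - z) ∈ Submodule.map pr (I • (⊤ : Submodule R (M i))) := ⟨_, hg, rfl⟩
    rw [Submodule.map_smul'', Submodule.map_top, ← hker] at this
    exact this
  exact hle hx

omit hI dd in
/-- If the image of `φ` is cut out by a projector, the cokernel of `φ` is projective (for projective target). -/
theorem projective_quot_range {N N' : Type*} [AddCommGroup N] [Module R N] [AddCommGroup N'] [Module R N']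
    [Module.Projective R N'] (φ : N →ₗ[R] N') (e : N' →ₗ[R] N') (he1 : ∀ x, e (φ x) = φ x)
    (he2 : ∀ x, e x ∈ LinearMap.range φ) : Module.Projective R (N' ⧸ LinearMap.range φ) := by
  let s : (N' ⧸ LinearMap.range φ) →ₗ[R] N' :=
    (LinearMap.range φ).liftQ (LinearMap.id - e) (by
      rintro _ ⟨y, rfl⟩
      simp [he1])
  refine Module.Projective.of_split s (LinearMap.range φ).mkQ ?_
  ext x
  simp only [LinearMap.coe_comp, Function.comp_apply, Submodule.mkQ_apply, LinearMap.id_comp, s,
    Submodule.liftQ_apply, LinearMap.sub_apply, LinearMap.id_coe, id_eq, Submodule.Quotient.mk_sub]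
  rw [sub_eq_self, Submodule.Quotient.mk_eq_zero]
  exact he2 x

end Complex

end Groth.Agent.Lib.FibreNak21
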