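import Groth.Agent.Lib.SupportPullback
import Groth.Agent.Lib.H90OXModExact
import Groth.Agent.Lib.ModStalkCoker
import Groth.Agent.Lib.ModStalkIso
import Groth.Agent.Lib.ModStalk

/-!
# Nakayama along a morphism, and the epi / mono loci of a morphism of coherent modules (helper44)

* `stalkLin_surjective_iff`, `stalkLin_injective_iff`: surjectivity (injectivity) of the stalk map of `e : P ⟶ Q` at `x`
  is the vanishing of the stalk of the cokernel (kernel).
* `isOpen_setOf_stalkLin_surjective`, `isOpen_setOf_stalkLin_injective`: these loci are open (coherent case).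
* `stalkLin_surjective_of_epi_pullback`: if `g^* e` is an epimorphism then `e` is surjective on the stalks at all points
  of the image of `g` (Nakayama).
-/

set_option autoImplicit false
universe u

open CategoryTheory CategoryTheory.Limits AlgebraicGeometry Opposite

namespace Groth.Agent.Lib.FibreNakH44

open Groth.Agent.Lib.ModStalkLin Groth.Agent.Lib.ModStalkCoker Groth.Agent.Lib.ModStalk
  Groth.Agent.Lib.H90OXModExact

variable {X : Scheme.{u}}

/-- surjectivity of the stalk map is the vanishing of the stalk of the cokernel -/
theorem stalkLin_surjective_iff {P Q : X.Modules} (e : P ⟶ Q) (x : X) :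
    Function.Surjective (stalkLin e x) ↔ Subsingleton ((cokernel e).presheaf.stalk x) := by
  constructor
  · intro h
    have hz : ∀ a : (cokernel e).presheaf.stalk x, a = 0 := by
      intro a
      obtain ⟨a', rfl⟩ := stalkLin_cokernel_surjective e x a
      obtain ⟨a'', rfl⟩ := h a'
      exact stalkLin_comp_eq_zero e _ (cokernel.condition e) x a''
    exact ⟨fun a b => (hz a).trans (hz b).symm⟩
  · intro h q
    exact ((stalkLin_cokernel_exact e x) q).mp (Subsingleton.elim _ _)

/-- injectivity of the stalk map is the vanishing of the stalk of the kernel -/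
theorem stalkLin_injective_iff {P Q : X.Modules} (e : P ⟶ Q) (x : X) :
    Function.Injective (stalkLin e x) ↔ Subsingleton ((kernel e).presheaf.stalk x) := by
  have iso : (stalkFunctor x).obj (kernel e) ≅ kernel ((stalkFunctor x).map e) :=
    PreservesKernel.iso (stalkFunctor x) e
  change Function.Injective ((stalkFunctor x).map e) ↔ _
  rw [← AddCommGrpCat.mono_iff_injective]
  constructor
  · intro h
    have h1 : IsZero (kernel ((stalkFunctor x).map e)) := isZero_kernel_of_mono _
    exact AddCommGrpCat.subsingleton_of_isZero (h1.of_iso iso)
  · intro h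
    haveI : Subsingleton ((stalkFunctor x).obj (kernel e)) := h
    have h0 : IsZero ((stalkFunctor x).obj (kernel e)) := AddCommGrpCat.isZero_of_subsingleton _
    exact Preadditive.mono_of_isZero_kernel _ (h0.of_iso iso.symm)

/-- the locus where the stalk map is surjective is open -/
theorem isOpen_setOf_stalkLin_surjective {P Q : X.Modules} [P.IsQuasicoherent]
    (hQ : Coh.IsCoh Q) (e : P ⟶ Q) : IsOpen {x : X | Function.Surjective (stalkLin e x)} := by
  have hC := isCoh_cokernel e hQ
  have hcl := isClosed_support_of_isFT (cokernel e) hC.2
  have : {x : X | Function.Surjective (stalkLin e x)} = (CohB1.support (cokernel e))ᶜ := by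
    ext x
    simp only [Set.mem_ofPred_eq, Set.mem_compl_iff, CohB1.support, not_not]
    exact stalkLin_surjective_iff e x
  rw [this]
  exact hcl.isOpen_compl

/-- the locus where the stalk map is injective is open (locally Noetherian case) -/
theorem isOpen_setOf_stalkLin_injective [IsLocallyNoetherian X] {P Q : X.Modules}
    (hP : Coh.IsCoh P) [Q.IsQuasicoherent] (e : P ⟶ Q) :
    IsOpen {x : X | Function.Injective (stalkLin e x)} := by
  have hC := isCoh_kernel e hP
  have hcl := isClosed_support_of_isFT (kernel e) hC.2
  have : {x : X | Function.Injective (stalkLin e x)} = (CohB1.support (kernel e))ᶜ := by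
    ext x
    simp only [Set.mem_ofPred_eq, Set.mem_compl_iff, CohB1.support, not_not]
    exact stalkLin_injective_iff e x
  rw [this]
  exact hcl.isOpen_compl

/-- **Nakayama along a morphism**: if `g^* e` is an epimorphism, `e` is surjective on stalks along the image of `g`. -/
theorem stalkLin_surjective_of_epi_pullback {X' : Scheme.{u}} (g : X' ⟶ X) {P Q : X.Modules}
    [P.IsQuasicoherent] (hQ : Coh.IsCoh Q) (e : P ⟶ Q)
    [Epi ((Scheme.Modules.pullback g).map e)] (x' : X') :
    Function.Surjective (stalkLin e (g x')) := by
  have hC := isCoh_cokernel e hQ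
  haveI : (cokernel e).IsQuasicoherent := hC.1
  haveI : (cokernel e).IsFiniteType := hC.2
  rw [stalkLin_surjective_iff,
    ← Groth.Agent.Lib.SupportPullback.subsingleton_stalk_pullback_iff g (cokernel e) x']
  haveI := (Scheme.Modules.pullbackPushforwardAdjunction g).leftAdjoint_preservesColimits
  have hz : IsZero ((Scheme.Modules.pullback g).obj (cokernel e)) :=
    (isZero_cokernel_of_epi ((Scheme.Modules.pullback g).map e)).of_iso
      (PreservesCokernel.iso (Scheme.Modules.pullback g) e)
  have hz' : IsZero ((stalkFunctor x').obj ((Scheme.Modules.pullback g).obj (cokernel e))) :=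
    (stalkFunctor x').map_isZero hz
  exact AddCommGrpCat.subsingleton_of_isZero hz'

end Groth.Agent.Lib.FibreNakH44
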