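import Groth.Agent.Lib.FibreNak21

/-!
# Fibrewise Nakayama at all maximal ideals (helper21)

Pure module theory: a ℤ-indexed complex `(M i, d)` of finite modules over any commutative ring `R`, such that for every
maximal ideal `m` there are maps `h` with `d h + h d ≡ id` modulo `m` in the good degrees, is exact in (suitable) good
degrees, and the cokernels of `d` into a projective term are flat.

* `good_loc`: `Good` passes to the localization at a prime.
* `exact_lower`, `exact_upper`, `flat_quot_range`.
-/

set_option autoImplicit false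

namespace Groth.Agent.Lib.FibreNakLoc21

open Groth.Agent.Lib.FibreNak21

section Loc

variable {R : Type*} [CommRing R] (m : Ideal R) [m.IsPrime]

lemma mk_eq_smul {N : Type*} [AddCommGroup N] [Module R N] (y : N) (s : m.primeCompl) :
    LocalizedModule.mk y s =
      (Localization.mk 1 s : Localization.AtPrime m) • LocalizedModule.mkLinearMap m.primeCompl N y := by
  rw [LocalizedModule.mkLinearMap_apply, LocalizedModule.mk_smul_mk, one_smul, mul_one]

lemma mkLinearMap_mem {N : Type*} [AddCommGroup N] [Module R N] (y : N)
    (hy : y ∈ m • (⊤ : Submodule R N)) :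
    LocalizedModule.mkLinearMap m.primeCompl N y ∈
      (IsLocalRing.maximalIdeal (Localization.AtPrime m)) •
        (⊤ : Submodule (Localization.AtPrime m) (LocalizedModule m.primeCompl N)) := by
  refine Submodule.smul_induction_on hy (fun r hr z _ => ?_) (fun x y hx hy => ?_)
  · rw [map_smul, ← algebraMap_smul (Localization.AtPrime m) r]
    exact Submodule.smul_mem_smul
      ((IsLocalization.AtPrime.to_map_mem_maximal_iff (Localization.AtPrime m) m r).mpr hr)
      Submodule.mem_top
  · rw [map_add]
    exact Submodule.add_mem _ hx hy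

variable (M : ℤ → Type*) [∀ i, AddCommGroup (M i)] [∀ i, Module R (M i)]
  (d h : ∀ i j : ℤ, M i →ₗ[R] M j)

lemma good_loc (i : ℤ) (hi : Good m M d h i) :
    Good (IsLocalRing.maximalIdeal (Localization.AtPrime m))
      (fun i => LocalizedModule m.primeCompl (M i))
      (fun i j => LocalizedModule.map m.primeCompl (d i j))
      (fun i j => LocalizedModule.map m.primeCompl (h i j)) i := by
  intro p n hp hn x
  induction x using LocalizedModule.induction_on with
  | h x s =>
    simp only [LocalizedModule.map_mk]
    rw [mk_eq_smul, mk_eq_smul, mk_eq_smul, ← smul_add, ← smul_sub, ← map_add, ← map_sub]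
    exact Submodule.smul_mem _ _ (mkLinearMap_mem m _ (hi p n hp hn x))

lemma dd_loc (dd : ∀ (i j k : ℤ) (x : M i), d j k (d i j x) = 0) (i j k : ℤ)
    (x : LocalizedModule m.primeCompl (M i)) :
    LocalizedModule.map m.primeCompl (d j k) (LocalizedModule.map m.primeCompl (d i j) x) = 0 := by
  induction x using LocalizedModule.induction_on with
  | h x s =>
    simp only [LocalizedModule.map_mk, dd, LocalizedModule.zero_mk]

end Loc

section Global

variable {R : Type*} [CommRing R]
  {M : ℤ → Type*} [∀ i, AddCommGroup (M i)] [∀ i, Module R (M i)] [∀ i, Module.Finite R (M i)]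
  {d : ∀ i j : ℤ, M i →ₗ[R] M j} (dd : ∀ (i j k : ℤ) (x : M i), d j k (d i j x) = 0)
  (G : ℤ → Prop)
  (H : ∀ (m : Ideal R) [m.IsMaximal], ∃ h : ∀ i j : ℤ, M i →ₗ[R] M j, ∀ i, G i → Good m M d h i)

include dd H

theorem exact_lower (q p i n : ℤ) (hq : q + 1 = p) (hp : p + 1 = i) (hn : i + 1 = n)
    (h1 : G p) (h2 : G i) : Function.Exact (d p i) (d i n) := by
  refine exact_of_localized_maximal _ _ (fun J hJ => ?_)
  obtain ⟨h, hh⟩ := H J
  have hI : IsLocalRing.maximalIdeal (Localization.AtPrime J) ≤ Ideal.jacobson ⊥ := by
    rw [IsLocalRing.jacobson_eq_maximalIdeal ⊥ bot_ne_top]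
  intro y
  constructor
  · intro hy
    exact FibreNak21.exact_lower (M := fun i => LocalizedModule J.primeCompl (M i))
      (d := fun i j => LocalizedModule.map J.primeCompl (d i j)) hI (dd_loc J M d dd) q p i n hq hp hn
      (good_loc J M d h p (hh p h1)) (good_loc J M d h i (hh i h2)) y hy
  · rintro ⟨z, rfl⟩
    exact dd_loc J M d dd p i n z

theorem exact_upper (p i n m' l : ℤ) (hp : p + 1 = i) (hn : i + 1 = n) (hm : n + 1 = m')
    (hl : m' + 1 = l) (h0 : G i) (h1 : G n) (h2 : G m') : Function.Exact (d p i) (d i n) := by
  refine exact_of_localized_maximal _ _ (fun J hJ => ?_)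
  obtain ⟨h, hh⟩ := H J
  have hI : IsLocalRing.maximalIdeal (Localization.AtPrime J) ≤ Ideal.jacobson ⊥ := by
    rw [IsLocalRing.jacobson_eq_maximalIdeal ⊥ bot_ne_top]
  intro y
  constructor
  · intro hy
    exact FibreNak21.exact_upper (M := fun i => LocalizedModule J.primeCompl (M i))
      (d := fun i j => LocalizedModule.map J.primeCompl (d i j)) hI (dd_loc J M d dd) p i n m' l hp hn hm hl
      (good_loc J M d h i (hh i h0)) (good_loc J M d h n (hh n h1)) (good_loc J M d h m' (hh m' h2)) y hy
  · rintro ⟨z, rfl⟩
    exact dd_loc J M d dd p i n z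

theorem flat_quot_range (q p i n : ℤ) (hq : q + 1 = p) (hp : p + 1 = i) (hn : i + 1 = n)
    (h1 : G p) (h2 : G i) [Module.Projective R (M n)] :
    Module.Flat R (M n ⧸ LinearMap.range (d i n)) := by
  refine Module.flat_of_localized_maximal _ (fun J hJ => ?_)
  obtain ⟨h, hh⟩ := H J
  have hI : IsLocalRing.maximalIdeal (Localization.AtPrime J) ≤ Ideal.jacobson ⊥ := by
    rw [IsLocalRing.jacobson_eq_maximalIdeal ⊥ bot_ne_top]
  obtain ⟨pe, hpe1, hpe2⟩ := FibreNak21.exists_proj_range
    (M := fun i => LocalizedModule J.primeCompl (M i))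
    (d := fun i j => LocalizedModule.map J.primeCompl (d i j)) hI (dd_loc J M d dd) q p i n hq hp hn
    (good_loc J M d h p (hh p h1)) (good_loc J M d h i (hh i h2))
  have hproj := FibreNak21.projective_quot_range (LocalizedModule.map J.primeCompl (d i n)) pe hpe1 hpe2
  -- compare with the localization of the quotient
  have hex : Function.Exact (LocalizedModule.map J.primeCompl (d i n))
      (LocalizedModule.map J.primeCompl (LinearMap.range (d i n)).mkQ) := by
    have h0 : Function.Exact (d i n) (LinearMap.range (d i n)).mkQ := by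
      rw [LinearMap.exact_iff, Submodule.ker_mkQ]
    exact LocalizedModule.map_exact J.primeCompl _ _ h0
  have hsurj : Function.Surjective (LocalizedModule.map J.primeCompl (LinearMap.range (d i n)).mkQ) :=
    LocalizedModule.map_surjective _ _ (Submodule.mkQ_surjective _)
  let e : (LocalizedModule J.primeCompl (M n) ⧸
      LinearMap.range (LocalizedModule.map J.primeCompl (d i n))) ≃ₗ[Localization.AtPrime J]
      LocalizedModule J.primeCompl (M n ⧸ LinearMap.range (d i n)) :=
    (Submodule.quotEquivOfEq _ _ (LinearMap.exact_iff.1 hex).symm).trans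
      (LinearMap.quotKerEquivOfSurjective _ hsurj)
  have hp2 : Module.Projective (Localization.AtPrime J)
      (LocalizedModule J.primeCompl (M n ⧸ LinearMap.range (d i n))) :=
    Module.Projective.of_equiv e
  have hfl : Module.Flat (Localization.AtPrime J)
      (LocalizedModule J.primeCompl (M n ⧸ LinearMap.range (d i n))) := inferInstance
  exact Module.Flat.trans R (Localization.AtPrime J) _

end Global

end Groth.Agent.Lib.FibreNakLoc21
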