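import Groth.Agent.Lib.FibreNakLoc21
import Groth.Agent.Lib.FibreNakD21

/-!
# Fibrewise criterion for perfectness over all maximal ideals (helper21)

`K ∈ D(R)` pseudo-coherent with `H^i(K ⊗^L R/m) = 0` for all maximal `m` and all `i ∉ [a, b]` has finite projective
amplitude in `[a, b]` (`main`).
-/

set_option autoImplicit false
universe u
open CategoryTheory CategoryTheory.Limits ZeroObject

namespace Groth.Agent.Lib.FibreNakLocD21

open Groth.Agent.Lib.DRingPCoh21 Groth.Agent.Lib.DRingPerfAmp Groth.Agent.Lib.PCohAmp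
  Groth.Agent.Lib.FibreNakD21

attribute [local instance] HasDerivedCategory.standard

variable {R : Type u} [CommRing R]

/-- fibre at a maximal ideal exact outside `[a, b]` gives a homotopy mod `m` in these degrees -/
theorem exists_good_of_field (m : Ideal R) [hm : m.IsMaximal] (E : CochainComplex (ModuleCat.{u} R) ℤ)
    (c : ℤ) (hc : ∀ i, c < i → IsZero (E.X i)) (hE : ∀ i, FF R (E.X i)) (a b : ℤ) (hab : a ≤ b)
    (hex : ∀ i, i < a ∨ b < i → (bc m E).ExactAt i) :
    ∃ h : ∀ i j : ℤ, E.X i →ₗ[R] E.X j, ∀ i, (i < a ∨ b < i) →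
      FibreNak21.Good m (fun i => E.X i) (fun i j => (E.d i j).hom) h i := by
  let _ := Ideal.Quotient.field m
  have hcbar : ∀ i, c < i → IsZero ((bc m E).X i) := fun i hi =>
    (ModuleCat.extendScalars.{u, u, u} (Ideal.Quotient.mk m)).map_isZero (hc i hi)
  have hpa : PA (FL (R ⧸ m)) a b (DerivedCategory.Q.obj (bc m E)) :=
    Groth.Agent.Lib.FlatAmp.pa_fl_of_opcycles (R ⧸ m) (bc m E) a b c hab
      (fun i _ => (inferInstance : Module.Flat _ _)) hcbar
      (inferInstance : Module.Flat _ _) (fun i hi => hex i (Or.inl hi)) (fun i hi => hex i (Or.inr hi))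
  have hpc : PCoh.IsStrictPC (FF (R ⧸ m)) (a - 1) (bc m E) :=
    Groth.Agent.Lib.PCohProjRep21.isStrictPC_extendScalars (Ideal.Quotient.mk m) (a - 1) E ⟨c, hc⟩
      (fun i _ => hE i)
  obtain ⟨F, hF1, hF2, ⟨e⟩⟩ := pa_fp_of_pc_of_flat (R ⧸ m) _ a b hab ⟨bc m E, hpc, ⟨Iso.refl _⟩⟩ hpa
  obtain ⟨hbar, hhbar⟩ := exists_hbar E c hc (fun i => (ff_le_fp R _ (hE i)).2) a b F hF2
    (fun i => (hF1 i).2) e
  exact exists_lift_good E (fun i => (ff_le_fp R _ (hE i)).2) hbar (fun i => i < a ∨ b < i) hhbar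

theorem exact_and_flat (E : CochainComplex (ModuleCat.{u} R) ℤ)
    (c : ℤ) (hc : ∀ i, c < i → IsZero (E.X i)) (hE : ∀ i, FF R (E.X i)) (a b : ℤ) (hab : a ≤ b)
    (hex : ∀ (m : Ideal R) [m.IsMaximal], ∀ i, i < a ∨ b < i → (bc m E).ExactAt i) :
    (∀ i, i < a ∨ b < i → E.ExactAt i) ∧ Module.Flat R (E.opcycles a) := by
  have hfin : ∀ i, Module.Finite R (E.X i) := fun i => (hE i).1
  have dd : ∀ (i j k : ℤ) (x : E.X i), (E.d j k).hom ((E.d i j).hom x) = 0 := fun i j k x => by
    have : (E.d i j ≫ E.d j k).hom x = 0 := by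
      rw [E.d_comp_d]
      rfl
    simpa only [ModuleCat.hom_comp, LinearMap.comp_apply] using this
  have H : ∀ (m : Ideal R) [m.IsMaximal], ∃ h : ∀ i j : ℤ, E.X i →ₗ[R] E.X j, ∀ i, (i < a ∨ b < i) →
      FibreNak21.Good m (fun i => E.X i) (fun i j => (E.d i j).hom) h i :=
    fun m _ => exists_good_of_field m E c hc hE a b hab (hex m)
  constructor
  · intro i hi
    rw [HomologicalComplex.exactAt_iff' E (i - 1) i (i + 1) (by simp) (by simp),
      ShortComplex.ShortExact.moduleCat_exact_iff_function_exact]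
    rcases hi with hi | hi
    · exact FibreNakLoc21.exact_lower (M := fun i => E.X i) (d := fun i j => (E.d i j).hom) dd
        (fun i => i < a ∨ b < i) H (i - 2) (i - 1) i (i + 1) (by ring) (by ring) rfl
        (Or.inl (by lia)) (Or.inl hi)
    · exact FibreNakLoc21.exact_upper (M := fun i => E.X i) (d := fun i j => (E.d i j).hom) dd
        (fun i => i < a ∨ b < i) H (i - 1) i (i + 1) (i + 2) (i + 3) (by ring) rfl (by ring) (by ring)
        (Or.inr hi) (Or.inr (by lia)) (Or.inr (by lia))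
  · have := (ff_le_fp R _ (hE a)).2
    have hq := FibreNakLoc21.flat_quot_range (M := fun i => E.X i) (d := fun i j => (E.d i j).hom) dd
      (fun i => i < a ∨ b < i) H (a - 3) (a - 2) (a - 1) a (by ring) (by ring) (by ring)
      (Or.inl (by lia)) (Or.inl (by lia))
    exact Module.Flat.of_linearEquiv
      (Groth.Agent.Lib.FlatAmp.quotRangeEquivOpcycles E (a - 1) a (by ring)).symm

/-- complex-level version -/
theorem pa_of_forall_maximal (E : CochainComplex (ModuleCat.{u} R) ℤ)
    (c : ℤ) (hc : ∀ i, c < i → IsZero (E.X i)) (hE : ∀ i, FF R (E.X i)) (a b : ℤ)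
    (hex : ∀ (m : Ideal R) [m.IsMaximal], ∀ i, i < a ∨ b < i → (bc m E).ExactAt i) :
    PA (FP R) a b (DerivedCategory.Q.obj E) := by
  by_cases hab : a ≤ b
  · obtain ⟨h1, h2⟩ := exact_and_flat E c hc hE a b hab hex
    have hfl : PA (FL R) a b (DerivedCategory.Q.obj E) :=
      Groth.Agent.Lib.FlatAmp.pa_fl_of_opcycles R E a b c hab (fun i _ => ff_le_fl R _ (hE i)) hc
        h2 (fun i hi => h1 i (Or.inl hi)) (fun i hi => h1 i (Or.inr hi))
    exact pa_fp_of_pc_of_flat R _ a b hab ⟨E, ⟨⟨c, hc⟩, fun i _ => hE i⟩, ⟨Iso.refl _⟩⟩ hfl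
  · have h1 := (exact_and_flat E c hc hE a a le_rfl (fun m _ i _ => hex m i (by lia))).1
    have h2 := (exact_and_flat E c hc hE b b le_rfl (fun m _ i _ => hex m i (by lia))).1
    have hall : ∀ i : ℤ, E.ExactAt i := fun i => by
      by_cases hi : i = a
      · exact h2 i (by lia)
      · exact h1 i (by lia)
    have hex' : ∀ i : ℤ, IsZero ((DerivedCategory.homologyFunctor (ModuleCat.{u} R) i).obj
        (DerivedCategory.Q.obj E)) := fun i =>
      ((HomologicalComplex.exactAt_iff_isZero_homology _ _).mp (hall i)).of_iso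
        ((DerivedCategory.homologyFunctorFactors (ModuleCat.{u} R) i).app E)
    have h3 : (DerivedCategory.Q.obj E).IsLE 0 := by
      rw [DerivedCategory.isLE_iff]
      exact fun i _ => hex' i
    have h4 : (DerivedCategory.Q.obj E).IsGE 1 := by
      rw [DerivedCategory.isGE_iff]
      exact fun i _ => hex' i
    exact Groth.Agent.Lib.FlatAmp.pa_of_isZero R a b
      (DerivedCategory.TStructure.t.isZero (DerivedCategory.Q.obj E) 0 1 (by lia))

/-- **Main theorem**: a pseudo-coherent `K` whose derived fibres at all maximal ideals have cohomology only in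
`[a, b]` has finite projective amplitude in `[a, b]`. -/
theorem main [∀ m : Ideal R, DRing.HasLBaseChange (Ideal.Quotient.mk m)] (K : Dual.D R)
    (hK : DRing.IsPseudoCoherent' R K) (a b : ℤ)
    (h : ∀ (m : Ideal R), m.IsMaximal → ∀ i : ℤ, (i < a ∨ b < i) →
      Subsingleton (Dual.HD (R ⧸ m) ((DRing.LBaseChange (Ideal.Quotient.mk m)).obj K) i)) :
    PA (FP R) a b K := by
  obtain ⟨E, c, hc, hE, ⟨eK⟩⟩ := hK
  have h1 : E.IsStrictlyLE c := by
    rw [CochainComplex.isStrictlyLE_iff]
    exact hc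
  have h2 : ∀ i, Projective (E.X i) := fun i => by
    have := (hE i).1
    have := (hE i).2
    exact ModuleCat.projective_of_categoryTheory_projective _
  refine pa_of_iso eK (pa_of_forall_maximal E c hc hE a b (fun m hm i hi => ?_))
  let j : DerivedCategory.Q.obj (bc m E) ≅ (DRing.LBaseChange (Ideal.Quotient.mk m)).obj K :=
    (Groth.Agent.Lib.LBaseChangeKProj.lbcIsoOfBdd (Ideal.Quotient.mk m) E c).symm ≪≫
      (DRing.LBaseChange (Ideal.Quotient.mk m)).mapIso eK
  have h3 := h m hm i hi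
  have h4 : IsZero ((DerivedCategory.homologyFunctor (ModuleCat.{u} (R ⧸ m)) i).obj
      ((DRing.LBaseChange (Ideal.Quotient.mk m)).obj K)) := ModuleCat.isZero_of_subsingleton _
  have h5 := h4.of_iso ((DerivedCategory.homologyFunctor _ i).mapIso j)
  rw [HomologicalComplex.exactAt_iff_isZero_homology]
  exact h5.of_iso ((DerivedCategory.homologyFunctorFactors _ i).app _).symm

end Groth.Agent.Lib.FibreNakLocD21
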