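import Groth.Agent.Lib.FibreDict21
import Groth.Agent.Lib.FibreModelH44
import Groth.Agent.Lib.H72FlatBaseChange
import Groth.Agent.Lib.H72FlatBaseChange2
import Groth.Agent.Lib.H90CohRestrict

/-!
# K2c: the fibre dictionary over an affine open of the base (helper21)

`f : X ⟶ Y`, `V` an affine open of `Y`, `A = Γ(↑V, ⊤)`, `X' = f⁻¹V` over `Spec A` through `f ∣_ V ≫ (↑V).isoSpec.hom`
(helper90's convention).  We set up the data needed by `FibreDict21` and get: one complex `L` over `A` such that for all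
`z ∈ V` and `p`, `dim H^p(X_z, F_z) = dRank L p x_z` and `H^p(X_z, F_z) = 0 ↔ T^p_L(κ(x_z)) = 0`.
-/

set_option autoImplicit false
set_option linter.style.haveILetI false
universe u

open CategoryTheory CategoryTheory.Limits AlgebraicGeometry Opposite CohIII

namespace Groth.Agent.Lib.FibreOpen21

open Groth.Agent.Lib.ReesCoh Groth.Agent.Lib.FibreDict21

variable {X Y : Scheme.{u}} (f : X ⟶ Y) {V : Y.Opens}

theorem isAffineOpen_W (hV : IsAffineOpen V) : IsAffineOpen (V.ι ''ᵁ ⊤) := by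
  rw [V.ι_image_top]; exact hV

/-- the ring `A = Γ(↑V, ⊤)` -/
abbrev AV (V : Y.Opens) : Type u := Γ(V.toScheme, ⊤)

/-- `f⁻¹V` as a scheme over `Spec A` -/
@[reducible] noncomputable def overV (hV : IsAffineOpen V) :
    (f ⁻¹ᵁ V).toScheme.Over (Spec (CommRingCat.of (AV V))) :=
  haveI : IsAffine V.toScheme := hV
  ⟨f ∣_ V ≫ V.toScheme.isoSpec.hom⟩

/-- `Spec A ⟶ Y` -/
noncomputable def iV (hV : IsAffineOpen V) : Spec (CommRingCat.of (AV V)) ⟶ Y :=
  haveI : IsAffine V.toScheme := hV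
  V.toScheme.isoSpec.inv ≫ V.ι

theorem iV_eq (hV : IsAffineOpen V) : iV hV = (isAffineOpen_W hV).fromSpec := by
  haveI : IsAffine V.toScheme := hV
  have h1 := IsAffineOpen.map_fromSpec hV (isAffineOpen_W hV) (homOfLE (le_of_eq V.ι_image_top)).op
  have key : Spec.map (Y.presheaf.map (homOfLE (le_of_eq V.ι_image_top)).op) ≫
      Spec.map (Y.presheaf.map (eqToHom V.ι_image_top.symm).op) = 𝟙 _ := by
    rw [← Spec.map_comp, ← CategoryTheory.Functor.map_comp]
    have : (eqToHom V.ι_image_top.symm).op ≫ (homOfLE (le_of_eq V.ι_image_top)).op =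
        𝟙 (op (V.ι ''ᵁ ⊤)) := Subsingleton.elim _ _
    rw [this, CategoryTheory.Functor.map_id, Spec.map_id]
  have h2 : hV.fromSpec = Spec.map (Y.presheaf.map (eqToHom V.ι_image_top.symm).op) ≫
      (V.toScheme.isoSpec.inv ≫ V.ι) :=
    (congrArg (· ≫ V.ι) (IsAffineOpen.isoSpec_inv hV)).trans (Category.assoc _ _ _)
  unfold iV
  rw [← h1, h2, ← Category.assoc, key, Category.id_comp]
  rfl

theorem isPullback_V (hV : IsAffineOpen V) :
    letI := overV f hV
    IsPullback (f ⁻¹ᵁ V).ι ((f ⁻¹ᵁ V).toScheme ↘ Spec (CommRingCat.of (AV V))) f (iV hV) := by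
  haveI : IsAffine V.toScheme := hV
  exact IsPullback.of_iso (isPullback_morphismRestrict f V).flip (Iso.refl _) (Iso.refl _)
    V.toScheme.isoSpec (Iso.refl _) (by simp) (by simp; rfl) (by simp) (by simp [iV])


section Point

variable (hV : IsAffineOpen V) (z : Y) (hz : z ∈ V.ι ''ᵁ ⊤)

/-- the ring map `A ⟶ κ(z)` -/
noncomputable def toResidue : AV V →+* Y.residueField z :=
  (Y.presheaf.germ (V.ι ''ᵁ ⊤) z hz ≫ Y.residue z).hom

/-- `κ(z)` as an `A`-algebra -/
@[reducible] noncomputable def algV : Algebra (AV V) (Y.residueField z) :=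
  (toResidue z hz).toAlgebra

theorem specAlg_iV :
    letI := algV z hz
    specAlg (AV V) (Y.residueField z) ≫ iV hV = Y.fromSpecResidueField z := by
  letI := algV z hz
  rw [iV_eq]
  have h1 : specAlg (AV V) (Y.residueField z) =
      Spec.map (Y.residue z) ≫ Spec.map (Y.presheaf.germ (V.ι ''ᵁ ⊤) z hz) := by
    rw [← Spec.map_comp]
    rfl
  have h2 : Spec.map (Y.presheaf.germ (V.ι ''ᵁ ⊤) z hz) ≫ (isAffineOpen_W hV).fromSpec =
      Y.fromSpecStalk z := (isAffineOpen_W hV).fromSpecStalk_eq_fromSpecStalk hz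
  exact (congrArg (· ≫ (isAffineOpen_W hV).fromSpec) h1).trans
    ((Category.assoc _ _ _).trans (congrArg (Spec.map (Y.residue z) ≫ ·) h2))

/-- the prime of `A` corresponding to `z` -/
noncomputable def xV : PrimeSpectrum (AV V) := (isAffineOpen_W hV).primeIdealOf ⟨z, hz⟩

/-- `κ(z)` is the residue field of `A` at `x_z` -/
noncomputable def thetaV :
    Y.residueField z ≃+* (xV hV z hz).asIdeal.ResidueField :=
  letI := Y.presheaf.algebra_section_stalk (U := V.ι ''ᵁ ⊤) ⟨z, hz⟩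
  haveI := (isAffineOpen_W hV).isLocalization_stalk ⟨z, hz⟩
  IsLocalRing.ResidueField.mapEquiv
    (IsLocalization.algEquiv ((isAffineOpen_W hV).primeIdealOf ⟨z, hz⟩).asIdeal.primeCompl
      (Y.presheaf.stalk z)
      (Localization.AtPrime ((isAffineOpen_W hV).primeIdealOf ⟨z, hz⟩).asIdeal)).toRingEquiv

theorem thetaV_algebraMap (a : AV V) :
    letI := algV z hz
    thetaV hV z hz (algebraMap (AV V) (Y.residueField z) a) =
      algebraMap (AV V) (xV hV z hz).asIdeal.ResidueField a := by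
  letI := Y.presheaf.algebra_section_stalk (U := V.ι ''ᵁ ⊤) ⟨z, hz⟩
  haveI := (isAffineOpen_W hV).isLocalization_stalk ⟨z, hz⟩
  let a' : Γ(Y, V.ι ''ᵁ ⊤) := a
  have e1 : (IsLocalization.algEquiv ((isAffineOpen_W hV).primeIdealOf ⟨z, hz⟩).asIdeal.primeCompl
      (Y.presheaf.stalk z)
      (Localization.AtPrime ((isAffineOpen_W hV).primeIdealOf ⟨z, hz⟩).asIdeal))
        (algebraMap Γ(Y, V.ι ''ᵁ ⊤) (Y.presheaf.stalk z) a') =
      algebraMap Γ(Y, V.ι ''ᵁ ⊤)
        (Localization.AtPrime ((isAffineOpen_W hV).primeIdealOf ⟨z, hz⟩).asIdeal) a' :=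
    AlgEquiv.commutes _ a'
  exact congrArg (IsLocalRing.residue _) e1

end Point


section Model

open Groth.Agent.Lib.EndEquivH44

/-- the restriction of `F` to `f⁻¹V` is the pullback along the inclusion -/
noncomputable def alphaV (F : X.Modules) :
    F.restrict (f ⁻¹ᵁ V).ι ≅ (Scheme.Modules.pullback (f ⁻¹ᵁ V).ι).obj F :=
  (Scheme.Modules.restrictFunctorIsoPullback (f ⁻¹ᵁ V).ι).app F

theorem isNoetherianRing_AV [IsLocallyNoetherian Y] (hV : IsAffineOpen V) :
    IsNoetherianRing (AV V) :=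
  IsLocallyNoetherian.component_noetherian (X := Y) ⟨V.ι ''ᵁ ⊤, isAffineOpen_W hV⟩

theorem isProper_V [IsProper f] (hV : IsAffineOpen V) :
    letI := overV f hV
    IsProper ((f ⁻¹ᵁ V).toScheme ↘ Spec (CommRingCat.of (AV V))) := by
  haveI : IsAffine V.toScheme := hV
  exact (inferInstance : IsProper (f ∣_ V ≫ V.toScheme.isoSpec.hom))

theorem isFlatOver_V (F : X.Modules) (hF : Coh.IsCoh F) (hfl : FlatMod.IsFlatOver f F)
    (hV : IsAffineOpen V) :
    letI := overV f hV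
    FlatMod.IsFlatOver ((f ⁻¹ᵁ V).toScheme ↘ Spec (CommRingCat.of (AV V)))
      (F.restrict (f ⁻¹ᵁ V).ι) := by
  letI := overV f hV
  haveI : F.IsQuasicoherent := hF.1
  intro x'
  rw [Groth.Agent.Lib.H72FlatBaseChange.isFlatOverAt_iff_of_iso _ (alphaV f F) x']
  exact Groth.Agent.Lib.H72FlatBaseChange.isFlatOverAt_pullback_of_isPullback
    (isPullback_V f hV) F x' (hfl _)

/-- **The model over an affine open of the base**, with the fibre dictionary. -/
theorem exists_model_V [IsProper f] [IsLocallyNoetherian Y] (F : X.Modules) (hF : Coh.IsCoh F)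
    (hfl : FlatMod.IsFlatOver f F) (hV : IsAffineOpen V) :
    letI := overV f hV
    ∃ L : CochainComplex (ModuleCat.{u} (AV V)) ℤ,
      (∀ i, Module.Finite (AV V) (L.X i) ∧ Module.Free (AV V) (L.X i)) ∧
      (∃ b : ℤ, ∀ i, b < i → IsZero (L.X i)) ∧
      (∀ p : ℕ, EndEquiv (tensorAFunctor (AV V) (F.restrict (f ⁻¹ᵁ V).ι) ⋙
          HAb (f ⁻¹ᵁ V).toScheme p)
        (TFun L (p : ℤ) ⋙ forget₂ (ModuleCat.{u} (AV V)) AddCommGrpCat.{u})) ∧
      (∀ p : ℤ, p < 0 → ∀ M : ModuleCat.{u} (AV V), IsZero ((TFun L p).obj M)) ∧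
      ∀ (z : Y) (hz : z ∈ V.ι ''ᵁ ⊤) (p : ℕ),
        CohIII.fiberRank f F p z = dRank L (p : ℤ) (xV hV z hz) ∧
        (Subsingleton (CohIII.fiberH f F z p) ↔
          IsZero ((TFun L (p : ℤ)).obj
            (ModuleCat.of (AV V) (xV hV z hz).asIdeal.ResidueField))) := by
  letI := overV f hV
  haveI := isNoetherianRing_AV hV
  haveI := isProper_V f hV
  obtain ⟨L, h1, h2, h3, h4, h5⟩ := Groth.Agent.Lib.FibreModelH44.exists_model_bc (AV V)
    (f ⁻¹ᵁ V).toScheme (F.restrict (f ⁻¹ᵁ V).ι)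
    (Groth.Agent.Lib.H90CohRestrict.isCoh_restrict _ F hF) (isFlatOver_V f F hF hfl hV)
  refine ⟨L, h1, h2, h3, h4, fun z hz p => ?_⟩
  letI := algV z hz
  exact ⟨fiberRank_eq_dRank f z (AV V) (f ⁻¹ᵁ V).ι (iV hV) (isPullback_V f hV)
      (specAlg_iV hV z hz) (xV hV z hz) (thetaV hV z hz) (thetaV_algebraMap hV z hz) F
      (F.restrict (f ⁻¹ᵁ V).ι) (alphaV f F) L h5 p,
    subsingleton_fiberH_iff f z (AV V) (f ⁻¹ᵁ V).ι (iV hV) (isPullback_V f hV)
      (specAlg_iV hV z hz) (xV hV z hz) (thetaV hV z hz) (thetaV_algebraMap hV z hz) F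
      (F.restrict (f ⁻¹ᵁ V).ι) (alphaV f F) L h5 p⟩

end Model

end Groth.Agent.Lib.FibreOpen21
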