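import Mathlib
import Groth.Agent.Lib.H78PullSec
import Groth.Agent.Lib.H78SecAdd
import Groth.Agent.Lib.UnitBaseChange
import Groth.Agent.Lib.Conormal81

/-!
# Transition maps on sections of pulled back modules (helper72)

For `f : X ⟶ Y`, `g : Y ⟶ Z`, `h : X ⟶ Z` with `w : f ≫ g = h`, a module `M` on `Z` and an open
`W ⊆ Z`, the map
`tr w M W : Γ(g^*M, g⁻¹W) → Γ(h^*M, h⁻¹W)`
is "pull back along `f`, then identify `f^*g^*M ≅ h^*M`" (`cIso w M`).  It is additive, semilinear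
(`tr_smul`), sends `pb g M e` to `pb h M e` (`tr_pb`), commutes with restrictions (`tr_rs`), vanishes
exactly when the pulled back section vanishes (`tr_eq_zero_iff`), is compatible with conjugation by
`cIso` (`conj_app_tr`) and, over affine opens for quasi-coherent `M`, is transitive (`tr_tr`).
-/

set_option autoImplicit false
universe u

open CategoryTheory AlgebraicGeometry TopologicalSpace Opposite

namespace Groth.Agent.Lib.H72SecTrans

open Groth.Agent.Lib.H78PullSec Groth.Agent.Lib.H78TensorGen Groth.Agent.Lib.H78Atlas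
  Groth.Agent.Lib.H78SecCoord Groth.Agent.Lib.H78SecAdd Groth.Agent.Lib.H78KeyLemma

variable {X Y Z : Scheme.{u}} {f : X ⟶ Y} {g : Y ⟶ Z} {h : X ⟶ Z} (w : f ≫ g = h)

/-- The canonical identification `f^* g^* M ≅ h^* M` for `f ≫ g = h`. -/
noncomputable abbrev cIso (M : Z.Modules) :
    (Scheme.Modules.pullback f).obj ((Scheme.Modules.pullback g).obj M) ≅
      (Scheme.Modules.pullback h).obj M :=
  (Scheme.Modules.pullbackComp f g ≪≫ Scheme.Modules.pullbackCongr w).app M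

include w in
theorem preimage_le (W : Z.Opens) : h ⁻¹ᵁ W ≤ f ⁻¹ᵁ (g ⁻¹ᵁ W) := by
  subst w; exact le_rfl

include w in
theorem preimage_eq (W : Z.Opens) : h ⁻¹ᵁ W = f ⁻¹ᵁ (g ⁻¹ᵁ W) := by
  subst w; rfl

/-- The transition map on sections. -/
noncomputable def tr (M : Z.Modules) (W : Z.Opens)
    (y : Γ((Scheme.Modules.pullback g).obj M, g ⁻¹ᵁ W)) :
    Γ((Scheme.Modules.pullback h).obj M, h ⁻¹ᵁ W) :=
  rs _ (preimage_le w W) ((cIso w M).hom.app (f ⁻¹ᵁ (g ⁻¹ᵁ W)) (pb f _ y))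

theorem tr_add (M : Z.Modules) (W : Z.Opens)
    (y y' : Γ((Scheme.Modules.pullback g).obj M, g ⁻¹ᵁ W)) :
    tr w M W (y + y') = tr w M W y + tr w M W y' := by
  unfold tr
  rw [pb_add, map_add, rs_add]

theorem tr_zero (M : Z.Modules) (W : Z.Opens) :
    tr w M W (0 : Γ((Scheme.Modules.pullback g).obj M, g ⁻¹ᵁ W)) = 0 := by
  unfold tr
  rw [pb_zero, map_zero, rs_zero]

theorem cIso_hom_app (M : Z.Modules) (U : X.Opens)
    (x : Γ((Scheme.Modules.pullback f).obj ((Scheme.Modules.pullback g).obj M), U)) :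
    (cIso w M).hom.app U x =
      ((Scheme.Modules.pullbackCongr w).hom.app M).app U
        (((Scheme.Modules.pullbackComp f g).hom.app M).app U x) := rfl

/-- `tr` sends pulled back sections to pulled back sections. -/
theorem tr_pb (M : Z.Modules) (W : Z.Opens) (e : Γ(M, W)) :
    tr w M W (pb g M e) = pb h M e := by
  unfold tr
  rw [cIso_hom_app, pb_comp']
  have h1 := pb_congr w M e
  refine (congrArg (rs _ (preimage_le w W)) h1).trans ?_
  exact (rs_rs _ _ _ _).trans (rs_self _ _)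

/-- `tr` is semilinear. -/
theorem tr_smul (M : Z.Modules) (W : Z.Opens) (b : Γ(Y, g ⁻¹ᵁ W))
    (y : Γ((Scheme.Modules.pullback g).obj M, g ⁻¹ᵁ W)) :
    tr w M W (b • y) = (f.appLE (g ⁻¹ᵁ W) (h ⁻¹ᵁ W) (preimage_le w W)).hom b • tr w M W y := by
  unfold tr
  rw [pb_smul, Scheme.Modules.Hom.app_smul, rs_smul]
  rfl

/-- `tr` commutes with restrictions. -/
theorem tr_rs (M : Z.Modules) {W W' : Z.Opens} (hW : W' ≤ W)
    (y : Γ((Scheme.Modules.pullback g).obj M, g ⁻¹ᵁ W)) :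
    tr w M W' (rs _ (g.preimage_mono hW) y) = rs _ (h.preimage_mono hW) (tr w M W y) := by
  unfold tr
  rw [pb_rs, app_rs, rs_rs, rs_rs]

theorem rs_injective_of_eq {P : X.Modules} {U V : X.Opens} (hVU : V ≤ U) (heq : V = U) :
    Function.Injective (rs P hVU) := by
  subst heq
  intro a b hab
  rwa [rs_self, rs_self] at hab

theorem tr_eq_zero_iff (M : Z.Modules) (W : Z.Opens)
    (y : Γ((Scheme.Modules.pullback g).obj M, g ⁻¹ᵁ W)) :
    tr w M W y = 0 ↔ pb f _ y = 0 := by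
  constructor
  · intro h0
    unfold tr at h0
    have h1 : (cIso w M).hom.app (f ⁻¹ᵁ (g ⁻¹ᵁ W)) (pb f _ y) = 0 := by
      apply rs_injective_of_eq (preimage_le w W) (preimage_eq w W)
      rw [h0, rs_zero]
    have h2 := iso_inv_hom_app (cIso w M) _ (pb f _ y)
    rw [h1, map_zero] at h2
    exact h2.symm
  · intro h0
    unfold tr
    rw [h0, map_zero, rs_zero]

/-- Compatibility with conjugation by `cIso`. -/
theorem conj_app_tr {M M' : Z.Modules}
    (θ : (Scheme.Modules.pullback g).obj M ⟶ (Scheme.Modules.pullback g).obj M') (W : Z.Opens)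
    (y : Γ((Scheme.Modules.pullback g).obj M, g ⁻¹ᵁ W)) :
    ((cIso w M).inv ≫ (Scheme.Modules.pullback f).map θ ≫ (cIso w M').hom).app (h ⁻¹ᵁ W)
      (tr w M W y) = tr w M' W (θ.app (g ⁻¹ᵁ W) y) := by
  unfold tr
  rw [app_rs]
  congr 1
  change (cIso w M').hom.app _ (((Scheme.Modules.pullback f).map θ).app _
    ((cIso w M).inv.app _ ((cIso w M).hom.app _ (pb f _ y)))) = _
  rw [iso_inv_hom_app, pb_map]

theorem unitSecFun_eq_pb (M : Z.Modules) (W : Z.Opens) (e : Γ(M, W)) :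
    Groth.Agent.Lib.UnitBaseChange.unitSecFun g M (le_refl (g ⁻¹ᵁ W)) e = pb g M e :=
  rs_self _ _

/-- Two additive maps out of the sections of a pullback over an affine chart which agree on pulled
back sections and are compatibly semilinear are equal. -/
theorem ext_of_pb {Q : Type*} [AddCommGroup Q] (M : Z.Modules) [M.IsQuasicoherent] {W : Z.Opens}
    (hW : IsAffineOpen W) (hgW : IsAffineOpen (g ⁻¹ᵁ W))
    (a b : Γ((Scheme.Modules.pullback g).obj M, g ⁻¹ᵁ W) →+ Q)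
    (hsmul : ∀ (r : Γ(Y, g ⁻¹ᵁ W)) (y : Γ((Scheme.Modules.pullback g).obj M, g ⁻¹ᵁ W)),
      a y = b y → a (r • y) = b (r • y))
    (hpb : ∀ e : Γ(M, W), a (pb g M e) = b (pb g M e)) : a = b := by
  ext y
  have hy : y ∈ Submodule.span Γ(Y, g ⁻¹ᵁ W)
      (Set.range (Groth.Agent.Lib.UnitBaseChange.unitSecFun g M (le_refl (g ⁻¹ᵁ W)))) := by
    rw [Groth.Agent.Lib.Conormal81.span_unitSecFun g M hgW hW le_rfl]; trivial
  induction hy using Submodule.span_induction with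
  | mem x hx =>
    obtain ⟨e, rfl⟩ := hx
    rw [unitSecFun_eq_pb]
    exact hpb e
  | zero => rw [map_zero, map_zero]
  | add x y _ _ hx hy => rw [map_add, map_add, hx, hy]
  | smul r x _ hx => exact hsmul r x hx

section Trans

variable {X₁ : Scheme.{u}} {a : X₁ ⟶ X} {h₁ : X₁ ⟶ Z} {f' : X₁ ⟶ Y}
  (w₁ : a ≫ h = h₁) (wf : a ≫ f = f') (w' : f' ≫ g = h₁)

include wf in
theorem appLE_appLE (W : Z.Opens) (r : Γ(Y, g ⁻¹ᵁ W)) :
    (a.appLE (h ⁻¹ᵁ W) (h₁ ⁻¹ᵁ W) (preimage_le w₁ W)).hom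
      ((f.appLE (g ⁻¹ᵁ W) (h ⁻¹ᵁ W) (preimage_le w W)).hom r) =
    (f'.appLE (g ⁻¹ᵁ W) (h₁ ⁻¹ᵁ W) (preimage_le w' W)).hom r := by
  subst wf
  have := Scheme.Hom.appLE_comp_appLE a f (g ⁻¹ᵁ W) (h ⁻¹ᵁ W) (h₁ ⁻¹ᵁ W) (preimage_le w W)
    (preimage_le w₁ W)
  exact congr($(this).hom r)

include wf in
/-- Transitivity of `tr` over affine charts. -/
theorem tr_tr (M : Z.Modules) [M.IsQuasicoherent] {W : Z.Opens}
    (hW : IsAffineOpen W) (hgW : IsAffineOpen (g ⁻¹ᵁ W))
    (y : Γ((Scheme.Modules.pullback g).obj M, g ⁻¹ᵁ W)) :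
    tr w₁ M W (tr w M W y) = tr w' M W y := by
  let α : Γ((Scheme.Modules.pullback g).obj M, g ⁻¹ᵁ W) →+
      Γ((Scheme.Modules.pullback h₁).obj M, h₁ ⁻¹ᵁ W) :=
    AddMonoidHom.mk' (fun y => tr w₁ M W (tr w M W y)) (fun x y => by
      rw [tr_add, tr_add])
  let β : Γ((Scheme.Modules.pullback g).obj M, g ⁻¹ᵁ W) →+
      Γ((Scheme.Modules.pullback h₁).obj M, h₁ ⁻¹ᵁ W) :=
    AddMonoidHom.mk' (fun y => tr w' M W y) (fun x y => tr_add w' M W x y)
  have key : α = β := by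
    refine ext_of_pb M hW hgW α β ?_ ?_
    · intro r y hy
      change tr w₁ M W (tr w M W (r • y)) = tr w' M W (r • y)
      rw [tr_smul, tr_smul, tr_smul, appLE_appLE w w₁ wf w']
      congr 1
    · intro e
      change tr w₁ M W (tr w M W (pb g M e)) = tr w' M W (pb g M e)
      rw [tr_pb, tr_pb, tr_pb]
  exact DFunLike.congr_fun key y

end Trans

include w in
theorem appLE_app (W : Z.Opens) (r : Γ(Z, W)) :
    (f.appLE (g ⁻¹ᵁ W) (h ⁻¹ᵁ W) (preimage_le w W)).hom ((g.app W).hom r) = (h.app W).hom r := by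
  subst w
  have h1 : f.appLE (g ⁻¹ᵁ W) (f ⁻¹ᵁ (g ⁻¹ᵁ W)) le_rfl = f.app (g ⁻¹ᵁ W) :=
    Scheme.Hom.appLE_eq_app f
  exact congr($(h1).hom ((g.app W).hom r))

/-- `tr` as a linear map between sections of the pushforwards. -/
noncomputable def trL (M : Z.Modules) (W : Z.Opens) :
    Γ((Scheme.Modules.pushforward g).obj ((Scheme.Modules.pullback g).obj M), W) →ₗ[Γ(Z, W)]
      Γ((Scheme.Modules.pushforward h).obj ((Scheme.Modules.pullback h).obj M), W) where
  toFun := tr w M W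
  map_add' := tr_add w M W
  map_smul' r y := by
    let y' : Γ((Scheme.Modules.pullback g).obj M, g ⁻¹ᵁ W) := y
    change tr w M W ((g.app W).hom r • y') = (h.app W).hom r • tr w M W y'
    rw [tr_smul, appLE_app w]

theorem trL_apply (M : Z.Modules) (W : Z.Opens)
    (y : Γ((Scheme.Modules.pullback g).obj M, g ⁻¹ᵁ W)) : trL w M W y = tr w M W y := rfl

end Groth.Agent.Lib.H72SecTrans
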