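import Mathlib
import Groth.Agent.Lib.H72SecTrans
import Groth.Agent.Lib.ModHomBasis

/-!
# Gluing morphisms out of a quasi-coherent module from a two-level affine cover (helper72)

* `span_res`, `exists_lift_res`: for `F` quasi-coherent and affine opens `V ≤ W`, the restriction
  `Γ(F, W) → Γ(F, V)` is a base change along `Γ(X, W) → Γ(X, V)` (in elementary form);
* `exists_hom_of_two_level`: GLUING.  Given affine opens `Ω i` covering `X`, affine opens `Θ c` such
  that every point of `Ω i ⊓ Ω i'` lies in some `Θ c ≤ Ω i ⊓ Ω i'`, linear maps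
  `m i : Γ(F, Ω i) → Γ(N, Ω i)`, `n c : Γ(F, Θ c) → Γ(N, Θ c)` compatible with the restrictions
  `Ω i ⊇ Θ c`, there is a morphism `F ⟶ N` (`N` an arbitrary module) inducing the `m i`.
-/

set_option autoImplicit false
set_option linter.style.haveILetI false
universe u

open CategoryTheory AlgebraicGeometry TopologicalSpace Opposite

namespace Groth.Agent.Lib.H72HomGlue

open Groth.Agent.Lib.H78PullSec Groth.Agent.Lib.H78TensorGen Groth.Agent.Lib.H78Atlas
  Groth.Agent.Lib.H78SecCoord Groth.Agent.Lib.H78SecAdd Groth.Agent.Lib.H78KeyLemma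
  Groth.Agent.Lib.UnitBaseChange

variable {X : Scheme.{u}}

set_option backward.isDefEq.respectTransparency false in
theorem pullbackId_hom_app_pb (M : X.Modules) (U : X.Opens) (m : Γ(M, U)) :
    ((Scheme.Modules.pullbackId X).hom.app M).app U (pb (𝟙 X) M m) = m := by
  have h := congrArg (fun α => α.app M) (Scheme.Modules.conjugateEquiv_pullbackId_hom X)
  simp only [conjugateEquiv_apply_app] at h
  have h2 := congrArg (fun β => (Scheme.Modules.Hom.app β U) m) h
  simp at h2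
  exact h2

theorem pullbackId_inv_app (M : X.Modules) (U : X.Opens) (m : Γ(M, U)) :
    ((Scheme.Modules.pullbackId X).inv.app M).app U m = pb (𝟙 X) M m := by
  have h1 := pullbackId_hom_app_pb M U m
  have h2 := congrArg (((Scheme.Modules.pullbackId X).inv.app M).app U) h1
  rw [← h2]
  exact iso_inv_hom_app ((Scheme.Modules.pullbackId X).app M) U _

theorem exists_affine_le {U : X.Opens} {x : X} (hx : x ∈ U) :
    ∃ V : X.Opens, IsAffineOpen V ∧ x ∈ V ∧ V ≤ U := by
  obtain ⟨V, hV, hxV, hVU⟩ := Opens.isBasis_iff_nbhd.mp X.isBasis_affineOpens hx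
  exact ⟨V, hV, hxV, hVU⟩

section Res

variable (F : X.Modules) [F.IsQuasicoherent] {V W : X.Opens} (hV : IsAffineOpen V)
  (hW : IsAffineOpen W) (hVW : V ≤ W)

include hV hW in
/-- The sections over a smaller affine open are generated by restrictions. -/
theorem span_res : Submodule.span Γ(X, V) (Set.range (rs F hVW)) = ⊤ := by
  have hs := Groth.Agent.Lib.Conormal81.span_unitSecFun (𝟙 X) F hV hW hVW
  rw [eq_top_iff]
  intro y _
  have key : ∀ y' : Γ((Scheme.Modules.pullback (𝟙 X)).obj F, V),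
      y' ∈ Submodule.span Γ(X, V) (Set.range (unitSecFun (𝟙 X) F hVW)) →
      ((Scheme.Modules.pullbackId X).hom.app F).app V y' ∈
        Submodule.span Γ(X, V) (Set.range (rs F hVW)) := by
    intro y' hy'
    induction hy' using Submodule.span_induction with
    | mem z hz =>
      obtain ⟨x, rfl⟩ := hz
      refine Submodule.subset_span ⟨x, ?_⟩
      exact ((app_rs ((Scheme.Modules.pullbackId X).hom.app F) hVW (pb (𝟙 X) F x)).trans
        (congrArg (rs F hVW) (pullbackId_hom_app_pb F W x))).symm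
    | zero => rw [map_zero]; exact Submodule.zero_mem _
    | add a b _ _ ha hb => rw [map_add]; exact Submodule.add_mem _ ha hb
    | smul r a _ ha =>
      rw [Scheme.Modules.Hom.app_smul]
      exact Submodule.smul_mem _ r ha
  have h1 := key (((Scheme.Modules.pullbackId X).inv.app F).app V y) (by rw [hs]; trivial)
  have h2 : ((Scheme.Modules.pullbackId X).hom.app F).app V
      (((Scheme.Modules.pullbackId X).inv.app F).app V y) = y :=
    iso_hom_inv_app ((Scheme.Modules.pullbackId X).app F) V y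
  rwa [h2] at h1

include hV hW in
/-- Semilinear maps out of `Γ(F, W)` extend along the restriction to `Γ(F, V)`. -/
theorem exists_lift_res {Q : Type*} [AddCommGroup Q] [Module Γ(X, V) Q] (a : Γ(F, W) →+ Q)
    (ha : ∀ (r : Γ(X, W)) (x : Γ(F, W)), a (r • x) = rf hVW r • a x) :
    ∃ b : Γ(F, V) →ₗ[Γ(X, V)] Q, ∀ x, b (rs F hVW x) = a x := by
  letI : Algebra Γ(X, W) Γ(X, V) := (Scheme.Hom.appLE (𝟙 X) W V hVW).hom.toAlgebra
  letI : Module Γ(X, W) Γ((Scheme.Modules.pullback (𝟙 X)).obj F, V) :=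
    Module.compHom _ (Scheme.Hom.appLE (𝟙 X) W V hVW).hom
  haveI : IsScalarTower Γ(X, W) Γ(X, V) Γ((Scheme.Modules.pullback (𝟙 X)).obj F, V) :=
    .of_algebraMap_smul fun _ _ => rfl
  have hbc := isBaseChange_unitSec (𝟙 X) F hV hW hVW
  letI : Module Γ(X, W) Q := Module.compHom _ (Scheme.Hom.appLE (𝟙 X) W V hVW).hom
  haveI : IsScalarTower Γ(X, W) Γ(X, V) Q := .of_algebraMap_smul fun _ _ => rfl
  let a' : Γ(F, W) →ₗ[Γ(X, W)] Q :=
    { toFun := a
      map_add' := a.map_add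
      map_smul' := fun r x => (ha r x).trans rfl }
  let Jinv : Γ(F, V) →ₗ[Γ(X, V)] Γ((Scheme.Modules.pullback (𝟙 X)).obj F, V) :=
    { toFun := fun s => ((Scheme.Modules.pullbackId X).inv.app F).app V s
      map_add' := fun s s' => map_add _ s s'
      map_smul' := fun r s => Scheme.Modules.Hom.app_smul _ r s }
  refine ⟨(hbc.lift a') ∘ₗ Jinv, fun x => ?_⟩
  change hbc.lift a' (((Scheme.Modules.pullbackId X).inv.app F).app V (rs F hVW x)) = a x
  have h1 : ((Scheme.Modules.pullbackId X).inv.app F).app V (rs F hVW x) =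
      unitSec (𝟙 X) F hVW x :=
    (app_rs ((Scheme.Modules.pullbackId X).inv.app F) hVW x).trans
      (congrArg (rs _ hVW) (pullbackId_inv_app F W x))
  rw [h1]
  exact hbc.lift_eq a' x

include hV hW in
/-- Two semilinear maps out of `Γ(F, V)` agreeing on restrictions from `W` are equal. -/
theorem ext_of_res {N : X.Modules} {V₂ : X.Opens} (hV₂ : V₂ ≤ V)
    (α β : Γ(F, V) → Γ(N, V₂))
    (hα0 : α 0 = 0) (hβ0 : β 0 = 0)
    (hαadd : ∀ s s', α (s + s') = α s + α s') (hβadd : ∀ s s', β (s + s') = β s + β s')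
    (hα : ∀ (r : Γ(X, V)) (s : Γ(F, V)), α (r • s) = rf hV₂ r • α s)
    (hβ : ∀ (r : Γ(X, V)) (s : Γ(F, V)), β (r • s) = rf hV₂ r • β s)
    (h : ∀ x : Γ(F, W), α (rs F hVW x) = β (rs F hVW x)) (s : Γ(F, V)) : α s = β s := by
  have hs : s ∈ Submodule.span Γ(X, V) (Set.range (rs F hVW)) := by
    rw [span_res F hV hW hVW]; trivial
  induction hs using Submodule.span_induction with
  | mem z hz =>
    obtain ⟨x, rfl⟩ := hz
    exact h x
  | zero => rw [hα0, hβ0]
  | add a b _ _ ha hb => rw [hαadd, hβadd, ha, hb]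
  | smul r a _ ha => rw [hα, hβ, ha]

end Res

section Glue

variable {F N : X.Modules} [F.IsQuasicoherent] {ι σ : Type*} (Ω : ι → X.Opens) (Θ : σ → X.Opens)
  (hΩ : ∀ i, IsAffineOpen (Ω i)) (hΘ : ∀ c, IsAffineOpen (Θ c))
  (hcov : ∀ x : X, ∃ i, x ∈ Ω i)
  (hint : ∀ (i i' : ι) (x : X), x ∈ Ω i → x ∈ Ω i' → ∃ c, x ∈ Θ c ∧ Θ c ≤ Ω i ∧ Θ c ≤ Ω i')
  (m : ∀ i, Γ(F, Ω i) →ₗ[Γ(X, Ω i)] Γ(N, Ω i)) (n : ∀ c, Γ(F, Θ c) →ₗ[Γ(X, Θ c)] Γ(N, Θ c))
  (compat : ∀ (i : ι) (c : σ) (hle : Θ c ≤ Ω i) (x : Γ(F, Ω i)),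
    rs N hle (m i x) = n c (rs F hle x))

/-- The extension of a linear map over an affine open to a smaller affine open. -/
theorem exists_ext_linear {W V : X.Opens} (hW : IsAffineOpen W) (hV : IsAffineOpen V) (hVW : V ≤ W)
    (μ : Γ(F, W) →ₗ[Γ(X, W)] Γ(N, W)) :
    ∃ b : Γ(F, V) →ₗ[Γ(X, V)] Γ(N, V), ∀ x, b (rs F hVW x) = rs N hVW (μ x) := by
  let a : Γ(F, W) →+ Γ(N, V) := AddMonoidHom.mk' (fun x => rs N hVW (μ x)) (fun x y => by
    rw [map_add, rs_add])
  refine exists_lift_res F hV hW hVW a (fun r x => ?_)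
  change rs N hVW (μ (r • x)) = rf hVW r • rs N hVW (μ x)
  rw [map_smul, rs_smul]

include hΩ hΘ hcov hint compat in
/-- **Gluing from a two-level affine cover.** -/
theorem exists_hom_of_two_level :
    ∃ u : F ⟶ N, ∀ (i : ι) (x : Γ(F, Ω i)), u.app (Ω i) x = m i x := by
  classical
  let β := Σ i : ι, {V : X.Opens // IsAffineOpen V ∧ V ≤ Ω i}
  let B : β → X.Opens := fun b => b.2.1
  have hB : Opens.IsBasis (Set.range B) := by
    rw [Opens.isBasis_iff_nbhd]
    intro U x hx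
    obtain ⟨i, hi⟩ := hcov x
    obtain ⟨V, hV, hxV, hVU⟩ := exists_affine_le (U := U ⊓ Ω i) (x := x) ⟨hx, hi⟩
    exact ⟨V, ⟨⟨i, ⟨V, hV, hVU.trans inf_le_right⟩⟩, rfl⟩, hxV, hVU.trans inf_le_left⟩
  choose φ hφ using fun b : β => exists_ext_linear (F := F) (N := N) (hΩ b.1) b.2.2.1 b.2.2.2 (m b.1)
  -- the key independence statement
  have star : ∀ (b : β) (i : ι) (hle : B b ≤ Ω i) (x : Γ(F, Ω i)),
      φ b (rs F hle x) = rs N hle (m i x) := by
    rintro ⟨i', V', hV', hle'⟩ i hle x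
    change V' ≤ Ω i at hle
    refine sec_ext N _ _ (fun y hy => ?_)
    obtain ⟨c, hyc, hci, hci'⟩ := hint i i' y (hle hy) (hle' hy)
    obtain ⟨V'', hV'', hyV'', hV''le⟩ := exists_affine_le (U := V' ⊓ Θ c) (x := y) ⟨hy, hyc⟩
    have h1 : V'' ≤ V' := hV''le.trans inf_le_left
    have h2 : V'' ≤ Θ c := hV''le.trans inf_le_right
    refine ⟨V'', h1, hyV'', ?_⟩
    obtain ⟨μ, hμ⟩ := exists_ext_linear (F := F) (N := N) (hΘ c) hV'' h2 (n c)
    have claimA : ∀ (j : ι) (hj : Θ c ≤ Ω j) (x : Γ(F, Ω j)),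
        μ (rs F (h2.trans hj) x) = rs N (h2.trans hj) (m j x) := by
      intro j hj x
      rw [← rs_rs F hj h2, hμ, ← compat j c hj, rs_rs]
    have claimB : ∀ s : Γ(F, V'), rs N h1 (φ ⟨i', V', hV', hle'⟩ s) = μ (rs F h1 s) := by
      intro s
      refine ext_of_res F hV' (hΩ i') hle' h1
        (fun s => rs N h1 (φ ⟨i', V', hV', hle'⟩ s)) (fun s => μ (rs F h1 s)) ?_ ?_ ?_ ?_ ?_ ?_ ?_ s
      · simp only [map_zero]
      · simp only [map_zero]
      · intro s s'; simp only [map_add]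
      · intro s s'; simp only [map_add]
      · intro r s; simp only [map_smul, rs_smul]
      · intro r s; simp only [map_smul, rs_smul]
      · intro x'
        change rs N h1 (φ ⟨i', V', hV', hle'⟩ (rs F hle' x')) = μ (rs F h1 (rs F hle' x'))
        rw [hφ ⟨i', V', hV', hle'⟩ x', rs_rs, rs_rs]
        exact (claimA i' hci' x').symm
    rw [claimB, rs_rs, rs_rs]
    exact claimA i hci x
  have nat : ∀ (b b' : β) (h : B b' ≤ B b) (s : Γ(F, B b)),
      rs N h (φ b s) = φ b' (rs F h s) := by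
    intro b b' h s
    refine ext_of_res F b.2.2.1 (hΩ b.1) b.2.2.2 h
      (fun s => rs N h (φ b s)) (fun s => φ b' (rs F h s)) ?_ ?_ ?_ ?_ ?_ ?_ ?_ s
    · simp only [map_zero]
    · simp only [map_zero]
    · intro s s'; simp only [map_add]
    · intro s s'; simp only [map_add]
    · intro r s; simp only [map_smul, rs_smul]
    · intro r s; simp only [map_smul, rs_smul]
    · intro x
      change rs N h (φ b (rs F b.2.2.2 x)) = φ b' (rs F h (rs F b.2.2.2 x))
      rw [hφ b x, rs_rs, rs_rs]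
      exact (star b' b.1 (h.trans b.2.2.2) x).symm
  let Φ : ∀ b : β, Γ(F, B b) ⟶ Γ(N, B b) := fun b => AddCommGrpCat.ofHom (φ b).toAddMonoidHom
  have hΦ : ∀ (b : β) (s : Γ(F, B b)), Φ b s = φ b s := fun _ _ => rfl
  obtain ⟨u, hu⟩ := Groth.Agent.Lib.ModHomBasis.exists_hom_of_basis hB Φ
    (by
      intro b b' h s
      rw [hΦ, hΦ]
      exact nat b b' h s)
    (by
      intro b r s
      rw [hΦ, hΦ]
      exact (φ b).map_smul r s)
  refine ⟨u, fun i x => ?_⟩
  have h1 := hu ⟨i, Ω i, hΩ i, le_rfl⟩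
  have h2 : u.app (Ω i) x = φ ⟨i, Ω i, hΩ i, le_rfl⟩ x := congr($(h1) x)
  rw [h2]
  have h3 := star ⟨i, Ω i, hΩ i, le_rfl⟩ i le_rfl x
  rwa [rs_self, rs_self] at h3

end Glue

end Groth.Agent.Lib.H72HomGlue
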