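import Mathlib
import Groth.Agent.Lib.H72SecTrans
import Groth.Agent.Lib.H72HomGlue
import Groth.Agent.Lib.H72LimRing
import Groth.Agent.Lib.H72LimHomAlg
import Groth.Agent.Lib.H90OXModFP
import Groth.Agent.Lib.CohFinite
import Groth.Agent.Lib.H72PullbackQCoh
import Groth.Agent.Lib.QCohHomGlue

/-!
# Homomorphisms of modules on a cofiltered limit of schemes come from a finite stage (helper72)

EGA IV 8.5.2 (i), surjectivity part.
-/

set_option autoImplicit false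
set_option linter.style.haveILetI false
universe u

open CategoryTheory Limits AlgebraicGeometry TensorProduct TopologicalSpace

namespace Groth.Agent.Lib.H72LimHom

open Groth.Agent.Lib.H78PullSec Groth.Agent.Lib.H78TensorGen Groth.Agent.Lib.H78Atlas
  Groth.Agent.Lib.H78SecCoord Groth.Agent.Lib.H78SecAdd Groth.Agent.Lib.H78KeyLemma
  Groth.Agent.Lib.UnitBaseChange Groth.Agent.Lib.H72SecTrans Groth.Agent.Lib.ColimTensor96
  Groth.Agent.Lib.H72LimRing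

theorem trL_rs {X Y Z : Scheme.{u}} {f : X ⟶ Y} {g : Y ⟶ Z} {h : X ⟶ Z} (w : f ≫ g = h)
    (M : Z.Modules) {W W' : Z.Opens} (hW : W' ≤ W)
    (y : Γ((Scheme.Modules.pushforward g).obj ((Scheme.Modules.pullback g).obj M), W)) :
    trL w M W' (rs _ hW y) = rs _ hW (trL w M W y) :=
  tr_rs w M hW y

section Algebra

variable {R B A : Type*} [CommRing R] [CommRing B] [CommRing A] [Algebra R B] [Algebra R A]
  (gi : B →ₐ[R] A) {N P Pl : Type*} [AddCommGroup N] [Module R N]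
  [AddCommGroup P] [Module R P] [Module B P] [IsScalarTower R B P]
  [AddCommGroup Pl] [Module R Pl] [Module A Pl] [IsScalarTower R A Pl]
  {τ : N →ₗ[R] P} (hτ : IsBaseChange B τ) {τl : N →ₗ[R] Pl} (hτl : IsBaseChange A τl)

/-- A semilinear map between base changes, described on the tensor products. -/
theorem equiv_rTensor (ρ : P →+ Pl) (hρ : ∀ (b : B) (n : N), ρ (b • τ n) = gi b • τl n)
    (z : B ⊗[R] N) : ρ (hτ.equiv z) = hτl.equiv (gi.toLinearMap.rTensor N z) := by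
  induction z using TensorProduct.induction_on with
  | zero => simp
  | tmul b n =>
    rw [IsBaseChange.equiv_tmul, hρ, LinearMap.rTensor_tmul, IsBaseChange.equiv_tmul]
    rfl
  | add z₁ z₂ h₁ h₂ => rw [map_add, map_add, h₁, h₂, map_add, map_add]

end Algebra

section UnitKill

attribute [local instance] Groth.Agent.Lib.H72LimRing.algAt Groth.Agent.Lib.H72LimRing.algLim

variable {J : Type u} [Category.{u} J] [IsCofiltered J] (E : J ⥤ Scheme.{u})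
  [∀ {i j} (φ : i ⟶ j), IsAffineHom (E.map φ)] (c : Cone E) (hc : IsLimit c) (j₀ : J)
  (G : (E.obj j₀).Modules) [G.IsQuasicoherent] {Ω : (E.obj j₀).Opens} (hΩ : IsAffineOpen Ω)

include hc hΩ in
/-- A section over an affine open whose pullback to the limit vanishes already vanishes after
pullback to a finite stage. -/
theorem exists_pb_eq_zero (y : Γ(G, Ω)) (hy : pb (c.π.app j₀) G y = 0) :
    ∃ l : Over j₀, pb (E.map l.hom) G y = 0 := by
  haveI := isAffineHom_π_app E c hc j₀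
  have hΩL : IsAffineOpen (ΩLim E c j₀ Ω) := hΩ.preimage (c.π.app j₀)
  have hW := isWeakColimAlg E c j₀ Ω hc hΩ
  -- the limit
  letI : Module Γ(E.obj j₀, Ω) Γ((Scheme.Modules.pullback (c.π.app j₀)).obj G, ΩLim E c j₀ Ω) :=
    Module.compHom _ ((c.π.app j₀).appLE Ω (ΩLim E c j₀ Ω) le_rfl).hom
  haveI : IsScalarTower Γ(E.obj j₀, Ω) Γ(c.pt, ΩLim E c j₀ Ω)
      Γ((Scheme.Modules.pullback (c.π.app j₀)).obj G, ΩLim E c j₀ Ω) :=
    .of_algebraMap_smul fun _ _ => rfl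
  have hτl := isBaseChange_unitSec (X := c.pt) (c.π.app j₀) G hΩL hΩ le_rfl
  have h1 : (1 : Γ(c.pt, ΩLim E c j₀ Ω)) ⊗ₜ[Γ(E.obj j₀, Ω)] y = 0 := by
    rw [← hτl.equiv_symm_apply]
    have : unitSec (X := c.pt) (c.π.app j₀) G (le_refl (ΩLim E c j₀ Ω)) y = 0 :=
      (unitSecFun_eq_pb G Ω y).trans hy
    rw [this, map_zero]
  let i₀ : Over j₀ := Over.mk (𝟙 j₀)
  have h2 : (toLim E c j₀ Ω i₀).toLinearMap.rTensor Γ(G, Ω)
      ((1 : Γ(E.obj i₀.left, ΩAt E j₀ Ω i₀)) ⊗ₜ[Γ(E.obj j₀, Ω)] y) = 0 := by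
    rw [LinearMap.rTensor_tmul, AlgHom.toLinearMap_apply, map_one, h1]
  obtain ⟨l, hl, -, hk⟩ := hW.kill_rTensor Γ(G, Ω) i₀ _ h2
  rw [LinearMap.rTensor_tmul, AlgHom.toLinearMap_apply, map_one] at hk
  refine ⟨l, ?_⟩
  letI : Module Γ(E.obj j₀, Ω) Γ((Scheme.Modules.pullback (E.map l.hom)).obj G, ΩAt E j₀ Ω l) :=
    Module.compHom _ ((E.map l.hom).appLE Ω (ΩAt E j₀ Ω l) le_rfl).hom
  haveI : IsScalarTower Γ(E.obj j₀, Ω) Γ(E.obj l.left, ΩAt E j₀ Ω l)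
      Γ((Scheme.Modules.pullback (E.map l.hom)).obj G, ΩAt E j₀ Ω l) :=
    .of_algebraMap_smul fun _ _ => rfl
  have hτ := isBaseChange_unitSec (E.map l.hom) G (hΩ.preimage (E.map l.hom)) hΩ le_rfl
  have h3 := hτ.equiv_tmul (1 : Γ(E.obj l.left, ΩAt E j₀ Ω l)) y
  rw [hk, map_zero, one_smul] at h3
  exact (unitSecFun_eq_pb G Ω y).symm.trans h3.symm

end UnitKill

section Stage

attribute [local instance] Groth.Agent.Lib.H72LimRing.algAt Groth.Agent.Lib.H72LimRing.algLim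

variable {J : Type u} [Category.{u} J] [IsCofiltered J] (E : J ⥤ Scheme.{u})
  [∀ {i j} (φ : i ⟶ j), IsAffineHom (E.map φ)] (c : Cone E) (hc : IsLimit c) (j₀ : J)
  (G₀ : (E.obj j₀).Modules)

/-- The pushforward to the base of the pullback of `G₀` to the stage `k`. -/
noncomputable abbrev NAt (k : Over j₀) : (E.obj j₀).Modules :=
  (Scheme.Modules.pushforward (E.map k.hom)).obj ((Scheme.Modules.pullback (E.map k.hom)).obj G₀)

/-- The pushforward to the base of the pullback of `G₀` to the limit. -/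
noncomputable abbrev NLim : (E.obj j₀).Modules :=
  (Scheme.Modules.pushforward (c.π.app j₀)).obj ((Scheme.Modules.pullback (c.π.app j₀)).obj G₀)

omit [IsCofiltered J] [∀ {i j} (φ : i ⟶ j), IsAffineHom (E.map φ)] in
theorem wAt {k l : Over j₀} (ψ : l ⟶ k) : E.map ψ.left ≫ E.map k.hom = E.map l.hom := by
  rw [← E.map_comp, Over.w ψ]

omit [IsCofiltered J] [∀ {i j} (φ : i ⟶ j), IsAffineHom (E.map φ)] in
theorem wLim (k : Over j₀) : c.π.app k.left ≫ E.map k.hom = c.π.app j₀ := c.w k.hom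

variable [G₀.IsQuasicoherent] {Ω : (E.obj j₀).Opens} (hΩ : IsAffineOpen Ω)

include hc hΩ in
/-- **Lifting**: a linear map from the sections of a finitely presented module into the sections
of `π_* π^* G₀` over an affine open lifts to a finite stage. -/
theorem exists_lift_sec (F₀ : (E.obj j₀).Modules) [F₀.IsFinitePresentation]
    (f : Γ(F₀, Ω) →ₗ[Γ(E.obj j₀, Ω)] Γ(NLim E c j₀ G₀, Ω)) :
    ∃ (k : Over j₀) (m : Γ(F₀, Ω) →ₗ[Γ(E.obj j₀, Ω)] Γ(NAt E j₀ G₀ k, Ω)),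
      ∀ x, trL (wLim E c j₀ k) G₀ Ω (m x) = f x := by
  haveI := isAffineHom_π_app E c hc j₀
  have hΩL : IsAffineOpen (ΩLim E c j₀ Ω) := hΩ.preimage (c.π.app j₀)
  have hW := isWeakColimAlg E c j₀ Ω hc hΩ
  haveI : Module.FinitePresentation Γ(E.obj j₀, Ω) Γ(F₀, Ω) :=
    Groth.Agent.Lib.H90OXModFP.finitePresentation_sections F₀ hΩ
  letI : Module Γ(E.obj j₀, Ω) Γ((Scheme.Modules.pullback (c.π.app j₀)).obj G₀, ΩLim E c j₀ Ω) :=
    Module.compHom _ ((c.π.app j₀).appLE Ω (ΩLim E c j₀ Ω) le_rfl).hom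
  haveI : IsScalarTower Γ(E.obj j₀, Ω) Γ(c.pt, ΩLim E c j₀ Ω)
      Γ((Scheme.Modules.pullback (c.π.app j₀)).obj G₀, ΩLim E c j₀ Ω) :=
    .of_algebraMap_smul fun _ _ => rfl
  have hτl := isBaseChange_unitSec (X := c.pt) (c.π.app j₀) G₀ hΩL hΩ le_rfl
  let f' : Γ(F₀, Ω) →ₗ[Γ(E.obj j₀, Ω)]
      Γ((Scheme.Modules.pullback (c.π.app j₀)).obj G₀, ΩLim E c j₀ Ω) :=
    { toFun := fun x => f x
      map_add' := f.map_add
      map_smul' := fun r x => by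
        rw [RingHom.id_apply, f.map_smul]
        let z : Γ((Scheme.Modules.pullback (c.π.app j₀)).obj G₀, ΩLim E c j₀ Ω) := f x
        change ((c.π.app j₀).app Ω).hom r • z =
          ((c.π.app j₀).appLE Ω (ΩLim E c j₀ Ω) le_rfl).hom r • z
        rw [Scheme.Hom.appLE_eq_app] }
  let v : Γ(F₀, Ω) →ₗ[Γ(E.obj j₀, Ω)] Γ(c.pt, ΩLim E c j₀ Ω) ⊗[Γ(E.obj j₀, Ω)] Γ(G₀, Ω) :=
    (hτl.equiv.symm.restrictScalars Γ(E.obj j₀, Ω)).toLinearMap ∘ₗ f'
  obtain ⟨k, vk, hvk⟩ := Groth.Agent.Lib.H72LimHomAlg.exists_hom_lift hW v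
  letI : Module Γ(E.obj j₀, Ω) Γ((Scheme.Modules.pullback (E.map k.hom)).obj G₀, ΩAt E j₀ Ω k) :=
    Module.compHom _ ((E.map k.hom).appLE Ω (ΩAt E j₀ Ω k) le_rfl).hom
  haveI : IsScalarTower Γ(E.obj j₀, Ω) Γ(E.obj k.left, ΩAt E j₀ Ω k)
      Γ((Scheme.Modules.pullback (E.map k.hom)).obj G₀, ΩAt E j₀ Ω k) :=
    .of_algebraMap_smul fun _ _ => rfl
  have hτ := isBaseChange_unitSec (E.map k.hom) G₀ (hΩ.preimage (E.map k.hom)) hΩ le_rfl
  let m' : Γ(F₀, Ω) →ₗ[Γ(E.obj j₀, Ω)]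
      Γ((Scheme.Modules.pullback (E.map k.hom)).obj G₀, ΩAt E j₀ Ω k) :=
    (hτ.equiv.restrictScalars Γ(E.obj j₀, Ω)).toLinearMap ∘ₗ vk
  let m : Γ(F₀, Ω) →ₗ[Γ(E.obj j₀, Ω)] Γ(NAt E j₀ G₀ k, Ω) :=
    { toFun := fun x => m' x
      map_add' := m'.map_add
      map_smul' := fun r x => by
        rw [RingHom.id_apply, m'.map_smul]
        change ((E.map k.hom).appLE Ω (ΩAt E j₀ Ω k) le_rfl).hom r • m' x =
          ((E.map k.hom).app Ω).hom r • m' x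
        rw [Scheme.Hom.appLE_eq_app] }
  refine ⟨k, m, fun x => ?_⟩
  change tr (wLim E c j₀ k) G₀ Ω (hτ.equiv (vk x)) = f x
  have key := equiv_rTensor (toLim E c j₀ Ω k) hτ hτl
    (AddMonoidHom.mk' (tr (wLim E c j₀ k) G₀ Ω) (tr_add (wLim E c j₀ k) G₀ Ω)) (by
      intro b n
      change tr (wLim E c j₀ k) G₀ Ω (b • unitSecFun (E.map k.hom) G₀ le_rfl n) =
        toLim E c j₀ Ω k b • unitSecFun (c.π.app j₀) G₀ le_rfl n
      rw [tr_smul, unitSecFun_eq_pb, tr_pb, unitSecFun_eq_pb]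
      rfl) (vk x)
  refine key.trans ?_
  rw [hvk x]
  exact hτl.equiv.apply_symm_apply (f x)

include hc hΩ in
/-- **Killing**: a section at a finite stage dying in the limit dies at a later stage. -/
theorem exists_tr_eq_zero (k : Over j₀)
    (y : Γ((Scheme.Modules.pullback (E.map k.hom)).obj G₀, ΩAt E j₀ Ω k))
    (hy : tr (wLim E c j₀ k) G₀ Ω y = 0) :
    ∃ (l : Over j₀) (ψ : l ⟶ k), tr (wAt E j₀ ψ) G₀ Ω y = 0 := by
  have h1 := (tr_eq_zero_iff (wLim E c j₀ k) G₀ Ω y).mp hy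
  obtain ⟨l', hl'⟩ := exists_pb_eq_zero E c hc k.left
    ((Scheme.Modules.pullback (E.map k.hom)).obj G₀) (hΩ.preimage (E.map k.hom)) y h1
  refine ⟨Over.mk (l'.hom ≫ k.hom), Over.homMk l'.hom rfl, ?_⟩
  exact (tr_eq_zero_iff (wAt E j₀ (Over.homMk l'.hom rfl : Over.mk (l'.hom ≫ k.hom) ⟶ k)) G₀ Ω
    y).mpr hl'

omit [IsCofiltered J] [∀ {i j} (φ : i ⟶ j), IsAffineHom (E.map φ)] [G₀.IsQuasicoherent] in
theorem tr_eq_zero_of_comp {k l l' : Over j₀} (ψ : l ⟶ k) (a : l' ⟶ l) (χ : l' ⟶ k)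
    (hχ : a ≫ ψ = χ) (W : (E.obj j₀).Opens)
    (y : Γ((Scheme.Modules.pullback (E.map k.hom)).obj G₀, ΩAt E j₀ W k))
    (h : tr (wAt E j₀ ψ) G₀ W y = 0) : tr (wAt E j₀ χ) G₀ W y = 0 := by
  subst hχ
  have h1 := (tr_eq_zero_iff (wAt E j₀ ψ) G₀ W y).mp h
  refine (tr_eq_zero_iff (wAt E j₀ (a ≫ ψ)) G₀ W y).mpr ?_
  have w : E.map a.left ≫ E.map ψ.left = E.map (a ≫ ψ).left := by
    rw [← E.map_comp]; rfl
  generalize E.map (a ≫ ψ).left = q at w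
  subst w
  rw [← pb_comp', h1, pb_zero, map_zero]
  rfl

include hc in
/-- Finitely many sections (over affine opens) at a finite stage dying in the limit die at a
common later stage. -/
theorem exists_tr_eq_zero_finset (k : Over j₀)
    (T : Finset (Σ W : (E.obj j₀).affineOpens, Γ(NAt E j₀ G₀ k, W.1)))
    (hT : ∀ p ∈ T, trL (wLim E c j₀ k) G₀ p.1.1 p.2 = 0) :
    ∃ (l : Over j₀) (ψ : l ⟶ k), ∀ p ∈ T, trL (wAt E j₀ ψ) G₀ p.1.1 p.2 = 0 := by
  classical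
  induction T using Finset.induction_on with
  | empty => exact ⟨k, 𝟙 k, fun p hp => absurd hp (Finset.notMem_empty p)⟩
  | insert p T _ ih =>
    obtain ⟨l₁, ψ₁, h₁⟩ := ih (fun q hq => hT q (Finset.mem_insert_of_mem hq))
    obtain ⟨l₂, ψ₂, h₂⟩ := exists_tr_eq_zero E c hc j₀ G₀ p.1.2 k p.2
      (hT p (Finset.mem_insert_self p T))
    obtain ⟨l, a, b, hab⟩ := IsCofiltered.cospan ψ₁ ψ₂
    refine ⟨l, a ≫ ψ₁, fun q hq => ?_⟩
    rcases Finset.mem_insert.mp hq with rfl | hq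
    · exact tr_eq_zero_of_comp E j₀ G₀ ψ₂ b (a ≫ ψ₁) hab.symm q.1.1 q.2 h₂
    · exact tr_eq_zero_of_comp E j₀ G₀ ψ₁ a (a ≫ ψ₁) rfl q.1.1 q.2 (h₁ q hq)

include hΩ in
omit [IsCofiltered J] in
/-- Moving to a later stage is compatible with the maps to the limit. -/
theorem tr_wLim_tr_wAt {k l : Over j₀} (ψ : l ⟶ k)
    (y : Γ((Scheme.Modules.pullback (E.map k.hom)).obj G₀, ΩAt E j₀ Ω k)) :
    tr (wLim E c j₀ l) G₀ Ω (tr (wAt E j₀ ψ) G₀ Ω y) = tr (wLim E c j₀ k) G₀ Ω y :=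
  tr_tr (wAt E j₀ ψ) (wLim E c j₀ l) (c.w ψ.left) (wLim E c j₀ k) G₀ hΩ
    (hΩ.preimage (E.map k.hom)) y

include hc in
/-- **Compatible lifts over a finite family of affine opens.** -/
theorem exists_compatible_lifts (F₀ : (E.obj j₀).Modules) [F₀.IsFinitePresentation]
    {ι : Type*} [Finite ι] (Ω : ι → (E.obj j₀).Opens) (hΩ : ∀ i, IsAffineOpen (Ω i))
    (f : ∀ i, Γ(F₀, Ω i) →ₗ[Γ(E.obj j₀, Ω i)] Γ(NLim E c j₀ G₀, Ω i))
    (hf : ∀ (i c' : ι) (hle : Ω c' ≤ Ω i) (x : Γ(F₀, Ω i)),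
      rs (NLim E c j₀ G₀) hle (f i x) = f c' (rs F₀ hle x)) :
    ∃ (l : Over j₀) (m : ∀ i, Γ(F₀, Ω i) →ₗ[Γ(E.obj j₀, Ω i)] Γ(NAt E j₀ G₀ l, Ω i)),
      (∀ i x, trL (wLim E c j₀ l) G₀ (Ω i) (m i x) = f i x) ∧
      ∀ (i c' : ι) (hle : Ω c' ≤ Ω i) (x : Γ(F₀, Ω i)),
        rs (NAt E j₀ G₀ l) hle (m i x) = m c' (rs F₀ hle x) := by
  classical
  haveI := Fintype.ofFinite ι
  choose kk mm hmm using fun i => exists_lift_sec E c hc j₀ G₀ (hΩ i) F₀ (f i)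
  obtain ⟨k₀, hk₀⟩ := IsCofiltered.inf_objs_exists (Finset.univ.image kk)
  have hψ : ∀ i, Nonempty (k₀ ⟶ kk i) := fun i =>
    hk₀ (Finset.mem_image_of_mem kk (Finset.mem_univ i))
  let ψ : ∀ i, k₀ ⟶ kk i := fun i => (hψ i).some
  let m0 : ∀ i, Γ(F₀, Ω i) →ₗ[Γ(E.obj j₀, Ω i)] Γ(NAt E j₀ G₀ k₀, Ω i) := fun i =>
    trL (wAt E j₀ (ψ i)) G₀ (Ω i) ∘ₗ mm i
  have hm0 : ∀ i x, trL (wLim E c j₀ k₀) G₀ (Ω i) (m0 i x) = f i x := fun i x =>
    (tr_wLim_tr_wAt E c j₀ G₀ (hΩ i) (ψ i) (mm i x)).trans (hmm i x)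
  have hfin : ∀ i, Module.Finite Γ(E.obj j₀, Ω i) Γ(F₀, Ω i) := fun i => by
    haveI := Groth.Agent.Lib.H90OXModFP.finitePresentation_sections F₀ (hΩ i)
    infer_instance
  choose S hS using fun i => Module.finite_def.mp (hfin i)
  let d : ∀ (i c' : ι) (_ : Ω c' ≤ Ω i) (_ : Γ(F₀, Ω i)), Γ(NAt E j₀ G₀ k₀, Ω c') :=
    fun i c' hle x => rs (NAt E j₀ G₀ k₀) hle (m0 i x) - m0 c' (rs F₀ hle x)
  let T : Finset (Σ W : (E.obj j₀).affineOpens, Γ(NAt E j₀ G₀ k₀, W.1)) :=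
    (Finset.univ : Finset (ι × ι)).biUnion (fun p =>
      if hle : Ω p.2 ≤ Ω p.1 then
        (S p.1).image (fun x => ⟨⟨Ω p.2, hΩ p.2⟩, d p.1 p.2 hle x⟩)
      else ∅)
  have hT : ∀ q ∈ T, trL (wLim E c j₀ k₀) G₀ q.1.1 q.2 = 0 := by
    intro q hq
    obtain ⟨p, -, hp⟩ := Finset.mem_biUnion.mp hq
    by_cases hle : Ω p.2 ≤ Ω p.1
    · rw [dif_pos hle] at hp
      obtain ⟨x, -, rfl⟩ := Finset.mem_image.mp hp
      change trL (wLim E c j₀ k₀) G₀ (Ω p.2) (d p.1 p.2 hle x) = 0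
      rw [map_sub, trL_rs, hm0, hm0, hf, sub_self]
    · rw [dif_neg hle] at hp
      exact absurd hp (Finset.notMem_empty _)
  obtain ⟨l, ψ', hl⟩ := exists_tr_eq_zero_finset E c hc j₀ G₀ k₀ T hT
  let m1 : ∀ i, Γ(F₀, Ω i) →ₗ[Γ(E.obj j₀, Ω i)] Γ(NAt E j₀ G₀ l, Ω i) := fun i =>
    trL (wAt E j₀ ψ') G₀ (Ω i) ∘ₗ m0 i
  refine ⟨l, m1, fun i x =>
    (tr_wLim_tr_wAt E c j₀ G₀ (hΩ i) ψ' (m0 i x)).trans (hm0 i x), ?_⟩
  intro i c' hle x
  have hx : x ∈ Submodule.span Γ(E.obj j₀, Ω i) (S i : Set Γ(F₀, Ω i)) := by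
    rw [hS i]; trivial
  induction hx using Submodule.span_induction with
  | mem x hx =>
    have h0 : trL (wAt E j₀ ψ') G₀ (Ω c') (d i c' hle x) = 0 :=
      hl ⟨⟨Ω c', hΩ c'⟩, d i c' hle x⟩ (Finset.mem_biUnion.mpr ⟨(i, c'), Finset.mem_univ _, by
        rw [dif_pos hle]
        exact Finset.mem_image_of_mem _ hx⟩)
    rw [map_sub, trL_rs, sub_eq_zero] at h0
    exact h0
  | zero => rw [map_zero, rs_zero, rs_zero, map_zero]
  | add a b _ _ ha hb => rw [map_add, rs_add, ha, hb, rs_add, map_add]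
  | smul r a _ ha => rw [map_smul, rs_smul, ha, rs_smul, map_smul]

end Stage

section General

/-- A quasi-compact quasi-separated scheme has a finite affine open cover `t` and a finite family
`s` of affine opens covering the pairwise intersections of the members of `t`. -/
theorem exists_two_level_cover (X : Scheme.{u}) [CompactSpace X] [QuasiSeparatedSpace X] :
    ∃ (t s : Finset X.affineOpens), (∀ x : X, ∃ U ∈ t, x ∈ U.1) ∧
      ∀ U ∈ t, ∀ U' ∈ t, ∀ x : X, x ∈ U.1 → x ∈ U'.1 →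
        ∃ V ∈ s, x ∈ V.1 ∧ V.1 ≤ U.1 ∧ V.1 ≤ U'.1 := by
  classical
  obtain ⟨t, ht⟩ := isCompact_univ.elim_finite_subcover
    (fun U : X.affineOpens => (U.1 : Set X)) (fun U => U.1.2) (by
      intro x _
      obtain ⟨V, hV, hxV, -⟩ := Groth.Agent.Lib.H72HomGlue.exists_affine_le (X := X) (U := ⊤)
        (x := x) trivial
      exact Set.mem_iUnion.mpr ⟨⟨V, hV⟩, hxV⟩)
  have key : ∀ p : X.affineOpens × X.affineOpens, ∃ s : Finset X.affineOpens,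
      (∀ V ∈ s, V.1 ≤ p.1.1 ⊓ p.2.1) ∧ ∀ x : X, x ∈ p.1.1 → x ∈ p.2.1 → ∃ V ∈ s, x ∈ V.1 := by
    rintro ⟨U, U'⟩
    have hK : IsCompact ((U.1 : Set X) ∩ (U'.1 : Set X)) :=
      QuasiSeparatedSpace.inter_isCompact _ _ U.1.2 U.2.isCompact U'.1.2 U'.2.isCompact
    obtain ⟨s', hs'⟩ := hK.elim_finite_subcover
      (fun V : {V : X.affineOpens // V.1 ≤ U.1 ⊓ U'.1} => (V.1.1 : Set X)) (fun V => V.1.1.2) (by
        intro x hx
        obtain ⟨V, hV, hxV, hVle⟩ := Groth.Agent.Lib.H72HomGlue.exists_affine_le (X := X)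
          (U := U.1 ⊓ U'.1) (x := x) hx
        exact Set.mem_iUnion.mpr ⟨⟨⟨V, hV⟩, hVle⟩, hxV⟩)
    refine ⟨s'.image Subtype.val, ?_, ?_⟩
    · intro V hV
      obtain ⟨V', -, rfl⟩ := Finset.mem_image.mp hV
      exact V'.2
    · intro x hx hx'
      obtain ⟨V, hV, hxV⟩ := Set.mem_iUnion₂.mp (hs' ⟨hx, hx'⟩)
      exact ⟨V.1, Finset.mem_image_of_mem _ hV, hxV⟩
  choose s₀ h1 h2 using key
  refine ⟨t, (t ×ˢ t).biUnion s₀, fun x => ?_, fun U hU U' hU' x hx hx' => ?_⟩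
  · obtain ⟨U, hU, hx⟩ := Set.mem_iUnion₂.mp (ht (Set.mem_univ x))
    exact ⟨U, hU, hx⟩
  · obtain ⟨V, hV, hxV⟩ := h2 (U, U') x hx hx'
    refine ⟨V, Finset.mem_biUnion.mpr ⟨(U, U'), Finset.mem_product.mpr ⟨hU, hU'⟩, hV⟩, hxV, ?_, ?_⟩
    · exact (h1 (U, U') V hV).trans inf_le_left
    · exact (h1 (U, U') V hV).trans inf_le_right

variable {X Y : Scheme.{u}} (f : X ⟶ Y)

/-- The map on sections `Γ(F, W) → Γ(f_* Q, W)` adjoint to `a : f^* F ⟶ Q`. -/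
noncomputable def secOfHom {F : Y.Modules} {Q : X.Modules}
    (a : (Scheme.Modules.pullback f).obj F ⟶ Q) (W : Y.Opens) :
    Γ(F, W) →ₗ[Γ(Y, W)] Γ((Scheme.Modules.pushforward f).obj Q, W) where
  toFun x := a.app (f ⁻¹ᵁ W) (pb f F x)
  map_add' x y := by rw [pb_add, map_add]; rfl
  map_smul' r x := by
    rw [pb_smul, Scheme.Modules.Hom.app_smul]
    rfl

theorem secOfHom_apply {F : Y.Modules} {Q : X.Modules}
    (a : (Scheme.Modules.pullback f).obj F ⟶ Q) (W : Y.Opens) (x : Γ(F, W)) :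
    secOfHom f a W x = a.app (f ⁻¹ᵁ W) (pb f F x) := rfl

theorem secOfHom_rs {F : Y.Modules} {Q : X.Modules}
    (a : (Scheme.Modules.pullback f).obj F ⟶ Q) {W W' : Y.Opens} (hW : W' ≤ W) (x : Γ(F, W)) :
    rs ((Scheme.Modules.pushforward f).obj Q) hW (secOfHom f a W x) =
      secOfHom f a W' (rs F hW x) := by
  rw [secOfHom_apply, secOfHom_apply, pb_rs, app_rs]
  rfl

/-- Two morphisms out of the pullback of a quasi-coherent module agreeing on pulled back sections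
over an affine open cover are equal. -/
theorem hom_ext_pb {F : Y.Modules} [F.IsQuasicoherent] {Q : X.Modules}
    (a b : (Scheme.Modules.pullback f).obj F ⟶ Q) {ι : Type*} (U : ι → Y.Opens)
    (hU : ∀ i, IsAffineOpen (U i)) (hcov : ⨆ i, U i = ⊤)
    (hab : ∀ i (x : Γ(F, U i)), a.app (f ⁻¹ᵁ U i) (pb f F x) = b.app (f ⁻¹ᵁ U i) (pb f F x)) :
    a = b := by
  apply ((Scheme.Modules.pullbackPushforwardAdjunction f).homEquiv F Q).injective
  refine Groth.Agent.Lib.QCohHomGlue.hom_ext_of_affine_family F _ U hU hcov _ _ (fun i x => ?_)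
  rw [Adjunction.homEquiv_unit, Adjunction.homEquiv_unit]
  exact hab i x

theorem homEquiv_symm_app_pb {F : Y.Modules} {Q : X.Modules}
    (u : F ⟶ (Scheme.Modules.pushforward f).obj Q) (W : Y.Opens) (x : Γ(F, W)) :
    (((Scheme.Modules.pullbackPushforwardAdjunction f).homEquiv F Q).symm u).app (f ⁻¹ᵁ W)
      (pb f F x) = u.app W x := by
  have h1 := ((Scheme.Modules.pullbackPushforwardAdjunction f).homEquiv F Q).apply_symm_apply u
  rw [Adjunction.homEquiv_unit] at h1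
  exact congr($(h1).app W x)

end General

section Main

variable {J : Type u} [Category.{u} J] [IsCofiltered J] (E : J ⥤ Scheme.{u})
  [∀ {i j} (φ : i ⟶ j), IsAffineHom (E.map φ)] (c : Cone E) (hc : IsLimit c) (j₀ : J)
  [CompactSpace (E.obj j₀)] [QuasiSeparatedSpace (E.obj j₀)]
  (F₀ G₀ : (E.obj j₀).Modules) [F₀.IsQuasicoherent] [F₀.IsFinitePresentation]
  [G₀.IsQuasicoherent]

include hc in
/-- **EGA IV 8.5.2 (i), surjectivity**: every homomorphism between the pullbacks to the limit of a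
finitely presented quasi-coherent module and a quasi-coherent module comes from a finite stage. -/
theorem exists_hom_stage
    (h : (Scheme.Modules.pullback (c.π.app j₀)).obj F₀ ⟶
      (Scheme.Modules.pullback (c.π.app j₀)).obj G₀) :
    ∃ (l : Over j₀) (hj : (Scheme.Modules.pullback (E.map l.hom)).obj F₀ ⟶
        (Scheme.Modules.pullback (E.map l.hom)).obj G₀),
      (cIso (wLim E c j₀ l) F₀).inv ≫ (Scheme.Modules.pullback (c.π.app l.left)).map hj ≫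
        (cIso (wLim E c j₀ l) G₀).hom = h := by
  classical
  obtain ⟨t, s, htcov, hts⟩ := exists_two_level_cover (E.obj j₀)
  let Ω : ↥t ⊕ ↥s → (E.obj j₀).Opens := Sum.elim (fun U => U.1.1) (fun V => V.1.1)
  have hΩ : ∀ i, IsAffineOpen (Ω i) := by
    rintro (U | V)
    · exact U.1.2
    · exact V.1.2
  let f : ∀ i, Γ(F₀, Ω i) →ₗ[Γ(E.obj j₀, Ω i)] Γ(NLim E c j₀ G₀, Ω i) := fun i =>
    secOfHom (c.π.app j₀) h (Ω i)
  obtain ⟨l, m, hm, hcompat⟩ := exists_compatible_lifts E c hc j₀ G₀ F₀ Ω hΩ f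
    (fun i c' hle x => secOfHom_rs (c.π.app j₀) h hle x)
  obtain ⟨u, hu⟩ := Groth.Agent.Lib.H72HomGlue.exists_hom_of_two_level (F := F₀)
    (N := NAt E j₀ G₀ l)
    (fun U : ↥t => U.1.1) (fun V : ↥s => V.1.1) (fun U => U.1.2) (fun V => V.1.2)
    (fun x => by
      obtain ⟨U, hU, hx⟩ := htcov x
      exact ⟨⟨U, hU⟩, hx⟩)
    (fun U U' x hx hx' => by
      obtain ⟨V, hV, hxV, h1, h2⟩ := hts U.1 U.2 U'.1 U'.2 x hx hx'
      exact ⟨⟨V, hV⟩, hxV, h1, h2⟩)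
    (fun U => m (Sum.inl U)) (fun V => m (Sum.inr V))
    (fun U V hle x => hcompat (Sum.inl U) (Sum.inr V) hle x)
  refine ⟨l, ((Scheme.Modules.pullbackPushforwardAdjunction (E.map l.hom)).homEquiv F₀ _).symm u,
    ?_⟩
  have hcov : ⨆ U : ↥t, U.1.1 = ⊤ := by
    rw [eq_top_iff]
    intro x _
    obtain ⟨U, hU, hx⟩ := htcov x
    exact Opens.mem_iSup.mpr ⟨⟨U, hU⟩, hx⟩
  refine hom_ext_pb (c.π.app j₀) _ _ (fun U : ↥t => U.1.1) (fun U => U.1.2) hcov (fun U x => ?_)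
  have e1 : pb (c.π.app j₀) F₀ x = tr (wLim E c j₀ l) F₀ U.1.1 (pb (E.map l.hom) F₀ x) :=
    (tr_pb (wLim E c j₀ l) F₀ U.1.1 x).symm
  rw [e1, conj_app_tr, homEquiv_symm_app_pb, hu U x, ← e1]
  exact hm (Sum.inl U) x

end Main

end Groth.Agent.Lib.H72LimHom
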