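import Mathlib
import Groth.Agent.Lib.LimDescent

set_option autoImplicit false
universe u
open CategoryTheory Limits AlgebraicGeometry TopologicalSpace Opposite

namespace Groth.Agent.Lib.ModDesc62

open Groth.Agent.Lib.LimPullback Groth.Agent.Lib.LimDescent

section Incl

variable {X₀ Z Z' : Scheme.{u}}

/-- the inclusion `U' ×_{X₀} Z ⟶ U ×_{X₀} Z` for `U' ≤ U` -/
noncomputable def inclMap {U' U : X₀.Opens} (h : U' ≤ U) (z : Z ⟶ X₀) :
    pullback U'.ι z ⟶ pullback U.ι z :=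
  pullback.map U'.ι z U.ι z (X₀.homOfLE h) (𝟙 Z) (𝟙 X₀) (by simp) (by simp)

@[reassoc (attr := simp)]
theorem inclMap_snd {U' U : X₀.Opens} (h : U' ≤ U) (z : Z ⟶ X₀) :
    inclMap h z ≫ pullback.snd U.ι z = pullback.snd U'.ι z := by
  unfold inclMap pullback.map
  rw [pullback.lift_snd, Category.comp_id]

@[reassoc (attr := simp)]
theorem inclMap_fst {U' U : X₀.Opens} (h : U' ≤ U) (z : Z ⟶ X₀) :
    inclMap h z ≫ pullback.fst U.ι z = pullback.fst U'.ι z ≫ X₀.homOfLE h := by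
  unfold inclMap pullback.map
  rw [pullback.lift_fst]

instance {U' U : X₀.Opens} (h : U' ≤ U) (z : Z ⟶ X₀) : IsOpenImmersion (inclMap h z) := by
  have : IsOpenImmersion (inclMap h z ≫ pullback.snd U.ι z) := by
    rw [inclMap_snd]; infer_instance
  exact IsOpenImmersion.of_comp _ (pullback.snd U.ι z)

theorem opensRange_snd (U : X₀.Opens) (z : Z ⟶ X₀) :
    (pullback.snd U.ι z).opensRange = z ⁻¹ᵁ U := by
  rw [Scheme.Hom.opensRange_pullbackSnd, Scheme.Opens.opensRange_ι]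

theorem opensRange_inclMap {U' U : X₀.Opens} (h : U' ≤ U) (z : Z ⟶ X₀) :
    (inclMap h z).opensRange = (pullback.snd U.ι z) ⁻¹ᵁ (z ⁻¹ᵁ U') := by
  have h1 : (pullback.snd U.ι z) ''ᵁ (inclMap h z).opensRange = z ⁻¹ᵁ U' := by
    rw [← opensRange_snd U' z, ← Scheme.Hom.opensRange_comp]
    congr 1
    exact inclMap_snd h z
  rw [← h1, Scheme.Hom.preimage_image_eq]

theorem isPullback_inclMap (U V : X₀.Opens) (z : Z ⟶ X₀) :
    IsPullback (inclMap (inf_le_left : U ⊓ V ≤ U) z) (inclMap (inf_le_right : U ⊓ V ≤ V) z)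
      (pullback.snd U.ι z) (pullback.snd V.ι z) := by
  refine IsOpenImmersion.isPullback _ _ _ _ (by simp) ?_
  rw [opensRange_inclMap, opensRange_snd]
  apply TopologicalSpace.Opens.ext
  ext x
  have hx : (pullback.snd V.ι z) x ∈ z ⁻¹ᵁ V := by
    rw [← opensRange_snd V z]
    exact ⟨x, rfl⟩
  constructor
  · intro h1
    exact ⟨h1, hx⟩
  · intro h1
    exact h1.1

theorem cover_snd {U V : X₀.Opens} (hUV : U ⊔ V = ⊤) (z : Z ⟶ X₀) :
    (pullback.snd U.ι z).opensRange ⊔ (pullback.snd V.ι z).opensRange = ⊤ := by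
  rw [opensRange_snd, opensRange_snd]
  apply TopologicalSpace.Opens.ext
  ext x
  have : z x ∈ U ⊔ V := by rw [hUV]; trivial
  simpa using this

end Incl

section Sys

variable {J : Type u} [Category.{u} J] (E : J ⥤ Scheme.{u}) (c : Cone E) (j₀ : J)
  {U' U : (E.obj j₀).Opens} (h : U' ≤ U)

theorem pbMap_inclMap {k' k : Over j₀} (f : k' ⟶ k) :
    pbMap E j₀ U'.ι f ≫ inclMap h (E.map k.hom) =
      inclMap h (E.map k'.hom) ≫ pbMap E j₀ U.ι f := by
  apply pullback.hom_ext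
  · rw [Category.assoc, Category.assoc, inclMap_fst, pbMap_fst, pbMap_fst_assoc, inclMap_fst]
  · rw [Category.assoc, Category.assoc, inclMap_snd, pbMap_snd, pbMap_snd, inclMap_snd_assoc]

theorem pbProj_inclMap (k : Over j₀) :
    pbProj E c j₀ U'.ι k ≫ inclMap h (E.map k.hom) =
      inclMap h (c.π.app j₀) ≫ pbProj E c j₀ U.ι k := by
  apply pullback.hom_ext
  · rw [Category.assoc, Category.assoc, inclMap_fst, pbProj_fst, pbProj_fst_assoc, inclMap_fst]
  · rw [Category.assoc, Category.assoc, inclMap_snd, pbProj_snd, pbProj_snd, inclMap_snd_assoc]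

end Sys

end Groth.Agent.Lib.ModDesc62
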