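import Mathlib
import Groth.Agent.Lib.H90InvertibleFP
import Groth.Agent.Lib.H90OXModFP
import Groth.Agent.Lib.H90RestrictEquiv

set_option autoImplicit false
universe u
open CategoryTheory Limits AlgebraicGeometry TopologicalSpace Opposite
open AlgebraicGeometry.Scheme AlgebraicGeometry.Scheme.Modules

namespace Groth.Agent.Lib.ModDesc62

open Groth.Agent.Lib.H90RestrictEquiv

section Loc

variable {X A B : Scheme.{u}} (a : A ⟶ X) (b : B ⟶ X) [IsOpenImmersion a] [IsOpenImmersion b]

/-- the comparison iso for the transported presentation -/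
noncomputable def imageIso (G : X.Modules) (O : A.Opens) :
    G.restrict (a ''ᵁ O).ι ≅ ((G.restrict a).restrict O.ι).restrict (a.isoImage O).inv :=
  (restrictCompIso (a.isoImage O).inv (O.ι ≫ a) (a ''ᵁ O).ι (a.isoImage_inv_ι O)).app G ≪≫
    (restrictFunctor (a.isoImage O).inv).mapIso ((restrictFunctorComp O.ι a).app G)

set_option backward.isDefEq.respectTransparency false in
/-- transport of a presentation over an open of `A` to its image in `X` -/
noncomputable def presImage (G : X.Modules) (O : A.Opens)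
    (P : ((G.restrict a).restrict O.ι).Presentation) : (G.restrict (a ''ᵁ O).ι).Presentation :=
  (presentationRestrict (a.isoImage O).inv P).ofIsIso (imageIso a G O).inv

set_option backward.isDefEq.respectTransparency false in
instance (G : X.Modules) (O : A.Opens) (P : ((G.restrict a).restrict O.ι).Presentation) [P.IsFinite] :
    (presImage a G O P).IsFinite := by
  haveI := Groth.Agent.Lib.H90OXModAffine.isFinite_presentationRestrict (a.isoImage O).inv P
  unfold presImage
  infer_instance

theorem iSup_image {κ : Type u} (U : κ → A.Opens) (hU : ⨆ i, U i = ⊤) :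
    ⨆ i, a ''ᵁ U i = a.opensRange := by
  apply le_antisymm
  · exact iSup_le fun i => Scheme.Hom.image_le_opensRange a (U i)
  · rintro _ ⟨x, rfl⟩
    have hx : x ∈ (⨆ i, U i : A.Opens) := by rw [hU]; trivial
    obtain ⟨i, hi⟩ := TopologicalSpace.Opens.mem_iSup.mp hx
    exact TopologicalSpace.Opens.mem_iSup.mpr ⟨i, x, hi, rfl⟩

theorem isQuasicoherent_of_two (hcov : a.opensRange ⊔ b.opensRange = ⊤) (G : X.Modules)
    [(G.restrict a).IsQuasicoherent] [(G.restrict b).IsQuasicoherent] : G.IsQuasicoherent := by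
  obtain ⟨κA, UA, PA, hUA, -⟩ := (G.restrict a).exists_isOpenCover_presentation
  obtain ⟨κB, UB, PB, hUB, -⟩ := (G.restrict b).exists_isOpenCover_presentation
  let U : κA ⊕ κB → X.Opens := Sum.elim (fun i => a ''ᵁ UA i) (fun i => b ''ᵁ UB i)
  have hU : ⨆ i, U i = ⊤ := by
    rw [iSup_sum]
    change (⨆ i, a ''ᵁ UA i) ⊔ (⨆ i, b ''ᵁ UB i) = ⊤
    rw [iSup_image a UA hUA, iSup_image b UB hUB, hcov]
  refine Groth.Agent.Lib.H90Invertible.isQuasicoherent_of_cover G U hU ?_
  rintro (i | i)
  · exact presImage a G (UA i) (PA i)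
  · exact presImage b G (UB i) (PB i)

theorem isFinitePresentation_of_two (hcov : a.opensRange ⊔ b.opensRange = ⊤) (G : X.Modules)
    [SheafOfModules.IsFinitePresentation (R := A.ringCatSheaf) (G.restrict a)]
    [SheafOfModules.IsFinitePresentation (R := B.ringCatSheaf) (G.restrict b)] :
    SheafOfModules.IsFinitePresentation (R := X.ringCatSheaf) G := by
  obtain ⟨κA, UA, PA, hPA, hUA, -⟩ :=
    Groth.Agent.Lib.H90OXModFP.exists_isOpenCover_finite_presentation (G.restrict a)
  obtain ⟨κB, UB, PB, hPB, hUB, -⟩ :=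
    Groth.Agent.Lib.H90OXModFP.exists_isOpenCover_finite_presentation (G.restrict b)
  let U : κA ⊕ κB → X.Opens := Sum.elim (fun i => a ''ᵁ UA i) (fun i => b ''ᵁ UB i)
  have hU : ⨆ i, U i = ⊤ := by
    rw [iSup_sum]
    change (⨆ i, a ''ᵁ UA i) ⊔ (⨆ i, b ''ᵁ UB i) = ⊤
    rw [iSup_image a UA hUA, iSup_image b UB hUB, hcov]
  let P : ∀ i, (G.restrict (U i).ι).Presentation := fun i =>
    match i with
    | Sum.inl i => presImage a G (UA i) (PA i)
    | Sum.inr i => presImage b G (UB i) (PB i)
  haveI : ∀ i, (P i).IsFinite := by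
    rintro (i | i)
    · haveI := hPA i
      exact inferInstanceAs (presImage a G (UA i) (PA i)).IsFinite
    · haveI := hPB i
      exact inferInstanceAs (presImage b G (UB i) (PB i)).IsFinite
  exact Groth.Agent.Lib.H90Invertible.isFinitePresentation_of_cover G U hU P

end Loc

end Groth.Agent.Lib.ModDesc62
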