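import Mathlib
import Groth.Agent.Lib.H90OXModLocal

set_option autoImplicit false
universe u
open CategoryTheory Limits AlgebraicGeometry TopologicalSpace Opposite
open AlgebraicGeometry.Scheme AlgebraicGeometry.Scheme.Modules

namespace Groth.Agent.Lib.ModGlue62

variable {X Y : Scheme.{u}}

/-- the sections functor -/
noncomputable def secFunctor (X : Scheme.{u}) (O : X.Opens) : X.Modules ⥤ Ab :=
  Scheme.Modules.toPresheaf X ⋙ (CategoryTheory.evaluation _ _).obj (op O)

theorem secFunctor_map {M N : X.Modules} (f : M ⟶ N) (O : X.Opens) :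
    (secFunctor X O).map f = f.app O := rfl

noncomputable instance (O : X.Opens) : PreservesLimits (secFunctor X O) := by
  unfold secFunctor
  have h2 : PreservesLimits ((CategoryTheory.evaluation (TopologicalSpace.Opens ↥X)ᵒᵖ Ab.{u}).obj
    (op O)) := inferInstance
  exact @comp_preservesLimits _ _ _ _ _ _ (Scheme.Modules.toPresheaf X) _ inferInstance h2

/-- For an open immersion `j`, a morphism whose restriction along `j` is an isomorphism is an
isomorphism on sections over opens inside the range. -/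
theorem isIso_app_of_isIso_restrict (j : Y ⟶ X) [IsOpenImmersion j] {M N : X.Modules} (f : M ⟶ N)
    [h : IsIso ((restrictFunctor j).map f)] (O : X.Opens) (hO : O ≤ j.opensRange) :
    IsIso (f.app O) := by
  have key : IsIso (f.app (j ''ᵁ (j ⁻¹ᵁ O))) :=
    inferInstanceAs (IsIso (((restrictFunctor j).map f).app (j ⁻¹ᵁ O)))
  have e : j ''ᵁ (j ⁻¹ᵁ O) = O := by
    rw [Scheme.Hom.image_preimage_eq_opensRange_inf]
    exact inf_eq_right.mpr hO
  rwa [e] at key

theorem isIso_restrict_of_isIso_app (j : Y ⟶ X) [IsOpenImmersion j] {M N : X.Modules} (f : M ⟶ N)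
    (h : ∀ O : X.Opens, O ≤ j.opensRange → IsIso (f.app O)) :
    IsIso ((restrictFunctor j).map f) := by
  rw [Scheme.Modules.Hom.isIso_iff_isIso_app]
  intro O
  exact h (j ''ᵁ O) (Scheme.Hom.image_le_opensRange j O)


section Glue

variable {X A B C : Scheme.{u}} (a : A ⟶ X) (b : B ⟶ X) (p : C ⟶ A) (q : C ⟶ B)
  [IsOpenImmersion a] [IsOpenImmersion b] [IsOpenImmersion p] [IsOpenImmersion q]
  (w : p ≫ a = q ≫ b)
  {MA : A.Modules} {MB : B.Modules} {MC : C.Modules}
  (ρA : MA ⟶ (pushforward p).obj MC) (ρB : MB ⟶ (pushforward q).obj MC)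

/-- the common target -/
noncomputable abbrev tgt (MC : C.Modules) : X.Modules := (pushforward (p ≫ a)).obj MC

noncomputable def uA : (pushforward a).obj MA ⟶ tgt a p MC :=
  (pushforward a).map ρA ≫ (pushforwardComp p a).hom.app MC

noncomputable def uB : (pushforward b).obj MB ⟶ tgt a p MC :=
  (pushforward b).map ρB ≫ (pushforwardComp q b).hom.app MC ≫ (pushforwardCongr w.symm).hom.app MC

theorem uA_app (O : X.Opens) : (uA a p ρA).app O = ρA.app (a ⁻¹ᵁ O) := by
  simp only [uA, Scheme.Modules.Hom.comp_app, pushforward_map_app, pushforwardComp_hom_app_app]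
  exact Category.comp_id _

include w in
omit [IsOpenImmersion a] [IsOpenImmersion b] [IsOpenImmersion p] [IsOpenImmersion q] in
theorem preimage_comp_eq (O : X.Opens) : (p ≫ a) ⁻¹ᵁ O = q ⁻¹ᵁ b ⁻¹ᵁ O :=
  congrArg (fun f : C ⟶ X => f ⁻¹ᵁ O) w

theorem uB_app (O : X.Opens) : (uB a b p q w ρB).app O = ρB.app (b ⁻¹ᵁ O) ≫
    MC.presheaf.map (eqToHom (preimage_comp_eq a b p q w O)).op := by
  simp only [uB, Scheme.Modules.Hom.comp_app, pushforward_map_app, pushforwardComp_hom_app_app,
    pushforwardCongr_hom_app_app]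
  erw [Category.id_comp]
  rfl

end Glue

section Cart

variable {B C : Scheme.{u}} (q : C ⟶ B) [IsOpenImmersion q] {MB : B.Modules} {MC : C.Modules}
  (ρB : MB ⟶ (pushforward q).obj MC)

/-- the adjoint of `ρB` -/
noncomputable abbrev sharp : (restrictFunctor q).obj MB ⟶ MC :=
  ((restrictAdjunction q).homEquiv MB MC).symm ρB

theorem isIso_presheaf_map_of_eq (M : B.Modules) {U V : B.Opens} (h : U ≤ V) (e : U = V) :
    IsIso (M.presheaf.map (homOfLE h).op) := by
  subst e
  have : homOfLE h = 𝟙 _ := rfl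
  rw [this, op_id, M.presheaf.map_id]
  infer_instance

theorem isIso_map_eqToHom_op (M : B.Modules) {U V : B.Opens} (e : U = V) :
    IsIso (M.presheaf.map (eqToHom e).op) := by
  subst e
  rw [eqToHom_refl, op_id, M.presheaf.map_id]
  infer_instance

theorem isIso_app_of_isIso_sharp [IsIso (sharp q ρB)] (O : B.Opens) (hO : O ≤ q.opensRange) :
    IsIso (ρB.app O) := by
  have h1 : ρB = (restrictAdjunction q).unit.app MB ≫ (pushforward q).map (sharp q ρB) := by
    have := ((restrictAdjunction q).homEquiv MB MC).apply_symm_apply ρB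
    rw [Adjunction.homEquiv_unit] at this
    exact this.symm
  have h2 : ρB.app O = ((restrictAdjunction q).unit.app MB).app O ≫
      (sharp q ρB).app (q ⁻¹ᵁ O) := by
    conv_lhs => rw [h1]
    rfl
  rw [h2, restrictAdjunction_unit_app_app]
  have e : q ''ᵁ (q ⁻¹ᵁ O) = O := by
    rw [Scheme.Hom.image_preimage_eq_opensRange_inf]
    exact inf_eq_right.mpr hO
  have i1 := isIso_presheaf_map_of_eq MB (q.image_preimage_le O) e
  have i2 : IsIso ((sharp q ρB).app (q ⁻¹ᵁ O)) := inferInstance
  exact @IsIso.comp_isIso _ _ _ _ _ _ _ i1 i2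

end Cart


section Glue2

variable {X A B C : Scheme.{u}} {a : A ⟶ X} {b : B ⟶ X} {p : C ⟶ A} {q : C ⟶ B}
  [IsOpenImmersion a] [IsOpenImmersion b] [IsOpenImmersion p] [IsOpenImmersion q]
  (sq : IsPullback p q a b)
  {MA : A.Modules} {MB : B.Modules} {MC : C.Modules}
  (ρA : MA ⟶ (pushforward p).obj MC) (ρB : MB ⟶ (pushforward q).obj MC)

theorem range_eq_preimage_of_isPullback {P X Y Z : Scheme.{u}} {p : P ⟶ X} {h' : P ⟶ Y}
    {f : X ⟶ Z} {q : Y ⟶ Z} (sq : IsPullback p h' f q) :
    Set.range h'.base = q.base ⁻¹' Set.range f.base := by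
  have := Scheme.image_preimage_eq_of_isPullback sq Set.univ
  rwa [Set.preimage_univ, Set.image_univ, Set.image_univ] at this

include sq in
theorem preimage_le_opensRange (O : X.Opens) (hO : O ≤ a.opensRange) :
    b ⁻¹ᵁ O ≤ q.opensRange := by
  intro x hx
  have h1 : b x ∈ Set.range a.base := hO hx
  have h2 := range_eq_preimage_of_isPullback sq
  change x ∈ Set.range q.base
  rw [h2]
  exact h1

/-- The glued module. -/
noncomputable def glue : X.Modules := pullback (uA a p ρA) (uB a b p q sq.w ρB)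

noncomputable def gfst : glue sq ρA ρB ⟶ (pushforward a).obj MA := pullback.fst _ _

noncomputable def gsnd : glue sq ρA ρB ⟶ (pushforward b).obj MB := pullback.snd _ _

theorem gcondition : gfst sq ρA ρB ≫ uA a p ρA = gsnd sq ρA ρB ≫ uB a b p q sq.w ρB :=
  pullback.condition

theorem isIso_uB_app [IsIso (sharp q ρB)] (O : X.Opens) (hO : O ≤ a.opensRange) :
    IsIso ((uB a b p q sq.w ρB).app O) := by
  rw [uB_app]
  have i1 := isIso_app_of_isIso_sharp q ρB (b ⁻¹ᵁ O) (preimage_le_opensRange sq O hO)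
  exact @IsIso.comp_isIso _ _ _ _ _ _ _ i1 (isIso_map_eqToHom_op MC _)

include sq in
theorem isIso_uA_app [IsIso (sharp p ρA)] (O : X.Opens) (hO : O ≤ b.opensRange) :
    IsIso ((uA a p ρA).app O) := by
  rw [uA_app]
  exact isIso_app_of_isIso_sharp p ρA (a ⁻¹ᵁ O) (preimage_le_opensRange sq.flip O hO)

theorem isIso_gfst_app [IsIso (sharp q ρB)] (O : X.Opens) (hO : O ≤ a.opensRange) :
    IsIso ((gfst sq ρA ρB).app O) := by
  have h := (IsPullback.of_hasPullback (uA a p ρA) (uB a b p q sq.w ρB)).map (secFunctor X O)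
  have i1 : IsIso ((secFunctor X O).map (uB a b p q sq.w ρB)) := isIso_uB_app sq ρB O hO
  exact h.isIso_fst_of_isIso

theorem isIso_gsnd_app [IsIso (sharp p ρA)] (O : X.Opens) (hO : O ≤ b.opensRange) :
    IsIso ((gsnd sq ρA ρB).app O) := by
  have h := (IsPullback.of_hasPullback (uA a p ρA) (uB a b p q sq.w ρB)).map (secFunctor X O)
  have i1 : IsIso ((secFunctor X O).map (uA a p ρA)) := isIso_uA_app sq ρA O hO
  exact h.isIso_snd_of_isIso

/-- the comparison maps -/
noncomputable def αhom : (restrictFunctor a).obj (glue sq ρA ρB) ⟶ MA :=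
  ((restrictAdjunction a).homEquiv _ _).symm (gfst sq ρA ρB)

noncomputable def βhom : (restrictFunctor b).obj (glue sq ρA ρB) ⟶ MB :=
  ((restrictAdjunction b).homEquiv _ _).symm (gsnd sq ρA ρB)

instance isIso_αhom [IsIso (sharp q ρB)] : IsIso (αhom sq ρA ρB) := by
  unfold αhom
  rw [Adjunction.homEquiv_counit]
  haveI : IsIso ((restrictFunctor a).map (gfst sq ρA ρB)) :=
    isIso_restrict_of_isIso_app a _ (fun O hO => isIso_gfst_app sq ρA ρB O hO)
  infer_instance

instance isIso_βhom [IsIso (sharp p ρA)] : IsIso (βhom sq ρA ρB) := by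
  unfold βhom
  rw [Adjunction.homEquiv_counit]
  haveI : IsIso ((restrictFunctor b).map (gsnd sq ρA ρB)) :=
    isIso_restrict_of_isIso_app b _ (fun O hO => isIso_gsnd_app sq ρA ρB O hO)
  infer_instance

end Glue2

end Groth.Agent.Lib.ModGlue62
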