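import Mathlib
import Groth.Agent.Lib.ModGlue62

set_option autoImplicit false
universe u
open CategoryTheory Limits AlgebraicGeometry TopologicalSpace Opposite
open AlgebraicGeometry.Scheme AlgebraicGeometry.Scheme.Modules

namespace Groth.Agent.Lib.ModGlue62

section GlueMap

variable {X A B C : Scheme.{u}} {a : A ⟶ X} {b : B ⟶ X} {p : C ⟶ A} {q : C ⟶ B}
  [IsOpenImmersion a] [IsOpenImmersion b] [IsOpenImmersion p] [IsOpenImmersion q]
  (sq : IsPullback p q a b)
  {MA : A.Modules} {MB : B.Modules} {MC : C.Modules}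
  (ρA : MA ⟶ (pushforward p).obj MC) (ρB : MB ⟶ (pushforward q).obj MC)
  {MA' : A.Modules} {MB' : B.Modules} {MC' : C.Modules}
  (ρA' : MA' ⟶ (pushforward p).obj MC') (ρB' : MB' ⟶ (pushforward q).obj MC')
  (fA : MA ⟶ MA') (fB : MB ⟶ MB') (fC : MC ⟶ MC')
  (hA : ρA ≫ (pushforward p).map fC = fA ≫ ρA') (hB : ρB ≫ (pushforward q).map fC = fB ≫ ρB')

theorem presheaf_map_eq {Y : Scheme.{u}} (M : Y.Modules) {U V : (TopologicalSpace.Opens Y)ᵒᵖ} (f g : U ⟶ V) :
    M.presheaf.map f = M.presheaf.map g := by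
  rw [Subsingleton.elim f g]

include hA in
theorem uA_comm : uA a p ρA ≫ (pushforward (p ≫ a)).map fC = (pushforward a).map fA ≫ uA a p ρA' := by
  apply Scheme.Modules.hom_ext
  intro O
  simp only [Scheme.Modules.Hom.comp_app, uA_app, pushforward_map_app]
  exact congr($(hA).app (a ⁻¹ᵁ O))

include hB in
theorem uB_comm : uB a b p q sq.w ρB ≫ (pushforward (p ≫ a)).map fC =
    (pushforward b).map fB ≫ uB a b p q sq.w ρB' := by
  apply Scheme.Modules.hom_ext
  intro O
  simp only [Scheme.Modules.Hom.comp_app, uB_app, pushforward_map_app]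
  have h1 := congr($(hB).app (b ⁻¹ᵁ O))
  simp only [Scheme.Modules.Hom.comp_app, pushforward_map_app] at h1
  have nat : MC.presheaf.map (eqToHom (preimage_comp_eq a b p q sq.w O)).op ≫
      fC.app ((p ≫ a) ⁻¹ᵁ O) =
      fC.app (q ⁻¹ᵁ b ⁻¹ᵁ O) ≫ MC'.presheaf.map (eqToHom (preimage_comp_eq a b p q sq.w O)).op :=
    fC.mapPresheaf.naturality _
  refine (Category.assoc _ _ _).trans ?_
  refine (congrArg (fun z => ρB.app (b ⁻¹ᵁ O) ≫ z) nat).trans ?_
  refine (Category.assoc _ _ _).symm.trans ?_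
  refine (congrArg (fun z => z ≫ MC'.presheaf.map
    (eqToHom (preimage_comp_eq a b p q sq.w O)).op) h1).trans ?_
  exact Category.assoc _ _ _

/-- functoriality of the glueing -/
noncomputable def glueMap : glue sq ρA ρB ⟶ glue sq ρA' ρB' :=
  pullback.map _ _ _ _ ((pushforward a).map fA) ((pushforward b).map fB)
    ((pushforward (p ≫ a)).map fC) (uA_comm ρA ρA' fA fC hA) (uB_comm sq ρB ρB' fB fC hB)

theorem glueMap_gfst : glueMap sq ρA ρB ρA' ρB' fA fB fC hA hB ≫ gfst sq ρA' ρB' =
    gfst sq ρA ρB ≫ (pushforward a).map fA := pullback.lift_fst _ _ _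

theorem glueMap_gsnd : glueMap sq ρA ρB ρA' ρB' fA fB fC hA hB ≫ gsnd sq ρA' ρB' =
    gsnd sq ρA ρB ≫ (pushforward b).map fB := pullback.lift_snd _ _ _

end GlueMap


section SheafGlue

variable {X A B C : Scheme.{u}} {a : A ⟶ X} {b : B ⟶ X} {p : C ⟶ A} {q : C ⟶ B}
  [IsOpenImmersion a] [IsOpenImmersion b] [IsOpenImmersion p] [IsOpenImmersion q]
  (sq : IsPullback p q a b) (H : X.Modules)

/-- canonical glue datum of a module: A-side -/
noncomputable def ρHA : (restrictFunctor a).obj H ⟶
    (pushforward p).obj ((restrictFunctor (p ≫ a)).obj H) :=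
  (restrictAdjunction p).homEquiv _ _ ((restrictFunctorComp p a).inv.app H)

/-- canonical glue datum of a module: B-side -/
noncomputable def ρHB : (restrictFunctor b).obj H ⟶
    (pushforward q).obj ((restrictFunctor (p ≫ a)).obj H) :=
  (restrictAdjunction q).homEquiv _ _
    ((restrictFunctorComp q b).inv.app H ≫ (restrictFunctorCongr sq.w.symm).hom.app H)

instance : IsIso (sharp p (ρHA (a := a) (p := p) H)) := by
  unfold sharp ρHA
  rw [Equiv.symm_apply_apply]
  infer_instance

instance : IsIso (sharp q (ρHB sq H)) := by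
  unfold sharp ρHB
  rw [Equiv.symm_apply_apply]
  infer_instance

theorem restrict_presheaf_map {Y Z : Scheme.{u}} (j : Y ⟶ Z) [IsOpenImmersion j] (M : Z.Modules)
    {U V : (TopologicalSpace.Opens Y)ᵒᵖ} (i : U ⟶ V) :
    ((restrictFunctor j).obj M).presheaf.map i = M.presheaf.map (j.opensFunctor.op.map i) := rfl

theorem κ_cond : (restrictAdjunction a).unit.app H ≫ uA a p (ρHA (a := a) (p := p) H) =
    (restrictAdjunction b).unit.app H ≫ uB a b p q sq.w (ρHB sq H) := by
  apply Scheme.Modules.hom_ext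
  intro O
  simp only [Scheme.Modules.Hom.comp_app, uA_app, uB_app, ρHA, ρHB, Adjunction.homEquiv_unit,
    pushforward_map_app, restrictAdjunction_unit_app_app, restrictFunctorComp_inv_app_app,
    restrictFunctorCongr_hom_app_app, restrict_presheaf_map]
  repeat erw [← Functor.map_comp]
  exact presheaf_map_eq _ _ _

/-- the comparison of a module with the glueing of its restrictions -/
noncomputable def κ : H ⟶ glue sq (ρHA (a := a) (p := p) H) (ρHB sq H) :=
  pullback.lift _ _ (κ_cond sq H)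

theorem κ_gfst : κ sq H ≫ gfst sq _ _ = (restrictAdjunction a).unit.app H := pullback.lift_fst _ _ _

theorem κ_gsnd : κ sq H ≫ gsnd sq _ _ = (restrictAdjunction b).unit.app H := pullback.lift_snd _ _ _

theorem isIso_unit_app_app {Y Z : Scheme.{u}} (j : Y ⟶ Z) [IsOpenImmersion j] (M : Z.Modules)
    (W : Z.Opens) (hW : W ≤ j.opensRange) : IsIso (((restrictAdjunction j).unit.app M).app W) := by
  rw [restrictAdjunction_unit_app_app]
  have e : j ''ᵁ (j ⁻¹ᵁ W) = W := by
    rw [Scheme.Hom.image_preimage_eq_opensRange_inf]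
    exact inf_eq_right.mpr hW
  exact isIso_presheaf_map_of_eq M (j.image_preimage_le W) e

theorem isIso_κ (hcov : a.opensRange ⊔ b.opensRange = ⊤) : IsIso (κ sq H) := by
  have hU : ⨆ i : Bool, (if i then a.opensRange else b.opensRange) = ⊤ := by
    rw [iSup_bool_eq]
    simpa using hcov
  refine Groth.Agent.Lib.H90OXModLocal.isIso_of_small hU (κ sq H) ?_
  rintro W ⟨i, hi⟩
  cases i
  · have hW : W ≤ b.opensRange := by simpa using hi
    have h1 : (κ sq H).app W ≫ (gsnd sq _ _).app W = ((restrictAdjunction b).unit.app H).app W :=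
      congr($(κ_gsnd sq H).app W)
    have i1 : IsIso ((gsnd sq (ρHA (a := a) (p := p) H) (ρHB sq H)).app W) :=
      isIso_gsnd_app sq _ _ W hW
    have i2 : IsIso ((κ sq H).app W ≫ (gsnd sq _ _).app W) := by
      rw [h1]
      exact isIso_unit_app_app b H W hW
    exact IsIso.of_isIso_comp_right _ ((gsnd sq _ _).app W)
  · have hW : W ≤ a.opensRange := by simpa using hi
    have h1 : (κ sq H).app W ≫ (gfst sq _ _).app W = ((restrictAdjunction a).unit.app H).app W :=
      congr($(κ_gfst sq H).app W)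
    have i1 : IsIso ((gfst sq (ρHA (a := a) (p := p) H) (ρHB sq H)).app W) :=
      isIso_gfst_app sq _ _ W hW
    have i2 : IsIso ((κ sq H).app W ≫ (gfst sq _ _).app W) := by
      rw [h1]
      exact isIso_unit_app_app a H W hW
    exact IsIso.of_isIso_comp_right _ ((gfst sq _ _).app W)

end SheafGlue

end Groth.Agent.Lib.ModGlue62
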