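import Mathlib
import Groth.Agent.Lib.ModGlue62b

set_option autoImplicit false
universe u
open CategoryTheory Limits AlgebraicGeometry TopologicalSpace Opposite
open AlgebraicGeometry.Scheme AlgebraicGeometry.Scheme.Modules

namespace Groth.Agent.Lib.ModBC62

open Groth.Agent.Lib.ModGlue62

section General

variable {C D : Type*} [Category C] [Category D] {L₁ L₂ : C ⥤ D} {R₁ R₂ : D ⥤ C}
  (adj₁ : L₁ ⊣ R₁) (adj₂ : L₂ ⊣ R₂)

/-- Transposing along conjugate natural transformations. -/
theorem homEquiv_conj (β : R₁ ⟶ R₂) (c : C) (d : D) (f : L₁.obj c ⟶ d) :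
    adj₂.homEquiv c d (((conjugateEquiv adj₁ adj₂).symm β).app c ≫ f) =
      adj₁.homEquiv c d f ≫ β.app d := by
  rw [Adjunction.homEquiv_unit, Adjunction.homEquiv_unit, Functor.map_comp, ← Category.assoc,
    ← unit_conjugateEquiv_symm, Category.assoc, Category.assoc, β.naturality]

theorem comp_aux {P Q R S T Q' : C} (g : P ⟶ Q) (t : Q ⟶ R) (a : R ⟶ S) (e : S ⟶ T)
    (t' : P ⟶ Q') (m : Q' ⟶ R) (b : Q' ⟶ T) (nat : g ≫ t = t' ≫ m) (hF : m ≫ a ≫ e = b) :
    (g ≫ t ≫ a) ≫ e = t' ≫ b := by
  rw [← hF, Category.assoc, Category.assoc, ← Category.assoc g, nat, Category.assoc]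

end General

section Square

variable {Y Y' W W' : Scheme.{u}} (j : W ⟶ Y) (j' : W' ⟶ Y') (h : Y' ⟶ Y) (hW : W' ⟶ W)
  [IsOpenImmersion j] [IsOpenImmersion j'] (w : j' ≫ h = hW ≫ j)

/-- the strict isomorphism of right adjoints attached to a commutative square -/
noncomputable def pushSq : pushforward j' ⋙ pushforward h ≅ pushforward hW ⋙ pushforward j :=
  pushforwardComp j' h ≪≫ pushforwardCongr w ≪≫ (pushforwardComp hW j).symm

/-- the base change map `j^! h_* F ⟶ hW_* j'^! F` -/
noncomputable def bcHom (F : Y'.Modules) : (restrictFunctor j).obj ((pushforward h).obj F) ⟶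
    (pushforward hW).obj ((restrictFunctor j').obj F) :=
  (restrictFunctor j).map ((pushforward h).map ((restrictAdjunction j').unit.app F) ≫
    (pushSq j j' h hW w).hom.app _) ≫ (restrictAdjunction j).counit.app _

theorem bcHom_app (F : Y'.Modules) (O : W.Opens) :
    (bcHom j j' h hW w F).app O = F.presheaf.map (homOfLE (by
      rintro _ ⟨x, hx, rfl⟩
      change h (j' x) ∈ j ''ᵁ O
      rw [← Scheme.Hom.comp_apply, w, Scheme.Hom.comp_apply]
      exact ⟨hW x, hx, rfl⟩ : j' ''ᵁ (hW ⁻¹ᵁ O) ≤ h ⁻¹ᵁ (j ''ᵁ O))).op := by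
  simp only [bcHom, pushSq, Scheme.Modules.Hom.comp_app,
    Groth.Agent.Lib.H90OXModLocal.restrictFunctor_map_app, Iso.trans_hom, Iso.symm_hom,
    NatTrans.comp_app, pushforward_map_app, restrictAdjunction_unit_app_app,
    pushforwardComp_hom_app_app, pushforwardComp_inv_app_app, pushforwardCongr_hom_app_app,
    restrictAdjunction_counit_app_app]
  erw [Category.id_comp, Category.comp_id]
  simp only [Groth.Agent.Lib.ModGlue62.restrict_presheaf_map, pushforward_obj_presheaf_map]
  repeat erw [← Functor.map_comp]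
  exact presheaf_map_eq _ _ _

theorem isIso_bcHom (sq : IsPullback hW j' j h) (F : Y'.Modules) :
    IsIso (bcHom j j' h hW sq.w.symm F) := by
  rw [Scheme.Modules.Hom.isIso_iff_isIso_app]
  intro O
  rw [bcHom_app]
  refine isIso_presheaf_map_of_eq F _ ?_
  apply TopologicalSpace.Opens.ext
  exact Scheme.image_preimage_eq_of_isPullback sq (O : Set W)

/-- adjunction: restrict then pull back -/
noncomputable abbrev adjL₁ : restrictFunctor j ⋙ pullback hW ⊣ pushforward hW ⋙ pushforward j :=
  (restrictAdjunction j).comp (pullbackPushforwardAdjunction hW)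

/-- adjunction: pull back then restrict -/
noncomputable abbrev adjL₂ : pullback h ⋙ restrictFunctor j' ⊣ pushforward j' ⋙ pushforward h :=
  (pullbackPushforwardAdjunction h).comp (restrictAdjunction j')

/-- the canonical isomorphism `j'^! h^* ≅ hW^* j^!` -/
noncomputable def can : pullback h ⋙ restrictFunctor j' ≅ restrictFunctor j ⋙ pullback hW :=
  (conjugateIsoEquiv (adjL₁ j hW) (adjL₂ j' h)).symm (pushSq j j' h hW w).symm

/-- restriction of a morphism into a pushforward -/
noncomputable def restrθ {G : Y.Modules} {F : Y'.Modules} (θ : G ⟶ (pushforward h).obj F) :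
    (restrictFunctor j).obj G ⟶ (pushforward hW).obj ((restrictFunctor j').obj F) :=
  (restrictFunctor j).map θ ≫ bcHom j j' h hW w F

theorem restrθ_app {G : Y.Modules} {F : Y'.Modules} (θ : G ⟶ (pushforward h).obj F) (O : W.Opens) :
    (restrθ j j' h hW w θ).app O = θ.app (j ''ᵁ O) ≫ (bcHom j j' h hW w F).app O := rfl

theorem can_comp_sharp {G : Y.Modules} {F : Y'.Modules} (θ : G ⟶ (pushforward h).obj F) :
    (can j j' h hW w).hom.app G ≫
      ((pullbackPushforwardAdjunction hW).homEquiv _ _).symm (restrθ j j' h hW w θ) =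
    (restrictFunctor j').map (((pullbackPushforwardAdjunction h).homEquiv _ _).symm θ) := by
  apply ((adjL₂ j' h).homEquiv _ _).injective
  have e1 : (can j j' h hW w).hom =
      (conjugateEquiv (adjL₁ j hW) (adjL₂ j' h)).symm (pushSq j j' h hW w).symm.hom := rfl
  rw [e1, homEquiv_conj]
  rw [Adjunction.comp_homEquiv, Adjunction.comp_homEquiv]
  simp only [Equiv.trans_apply, Equiv.apply_symm_apply]
  have e2 : ((restrictAdjunction j').homEquiv ((Modules.pullback h).obj G)
      ((Modules.restrictFunctor j').obj F))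
        ((Modules.restrictFunctor j').map (((pullbackPushforwardAdjunction h).homEquiv G F).symm θ)) =
      ((pullbackPushforwardAdjunction h).homEquiv G F).symm θ ≫
        (restrictAdjunction j').unit.app F := by
    rw [Adjunction.homEquiv_unit]
    exact ((restrictAdjunction j').unit.naturality _).symm
  rw [e2, Adjunction.homEquiv_naturality_right, Equiv.apply_symm_apply, Adjunction.homEquiv_unit]
  apply Scheme.Modules.hom_ext
  intro O
  simp only [Scheme.Modules.Hom.comp_app, pushSq, Iso.symm_hom, Iso.trans_inv, Iso.symm_inv,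
    NatTrans.comp_app, pushforward_map_app, restrictAdjunction_unit_app_app,
    pushforwardComp_hom_app_app, pushforwardComp_inv_app_app, pushforwardCongr_inv_app_app,
    restrθ_app, bcHom_app]
  have nat : G.presheaf.map (homOfLE (j.image_preimage_le O)).op ≫ θ.app (j ''ᵁ j ⁻¹ᵁ O) =
      θ.app O ≫ ((pushforward h).obj F).presheaf.map (homOfLE (j.image_preimage_le O)).op :=
    θ.mapPresheaf.naturality (homOfLE (j.image_preimage_le O)).op
  erw [Category.id_comp, Category.comp_id]
  refine comp_aux _ _ _ _ _ _ _ nat ?_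
  simp only [Groth.Agent.Lib.ModGlue62.restrict_presheaf_map, pushforward_obj_presheaf_map]
  repeat erw [← Functor.map_comp]
  exact presheaf_map_eq _ _ _

end Square

section Op1

variable {Y Y₁ Y' : Scheme.{u}} (t : Y₁ ⟶ Y) (h₁ : Y' ⟶ Y₁) (h : Y' ⟶ Y) (w : h₁ ≫ t = h)

/-- the strict isomorphism `h_* F ≅ t_* h₁_* F` -/
noncomputable def strictIso (F : Y'.Modules) :
    (pushforward h).obj F ≅ (pushforward t).obj ((pushforward h₁).obj F) :=
  ((pushforwardCongr w.symm).app F) ≪≫ ((pushforwardComp h₁ t).symm.app F)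

/-- transport of a morphism into a pushforward to a later stage -/
noncomputable def op1 {G : Y.Modules} {F : Y'.Modules} (θ : G ⟶ (pushforward h).obj F) :
    (Modules.pullback t).obj G ⟶ (pushforward h₁).obj F :=
  ((pullbackPushforwardAdjunction t).homEquiv _ _).symm (θ ≫ (strictIso t h₁ h w F).hom)

theorem sharp_op1 {G : Y.Modules} {F : Y'.Modules} (θ : G ⟶ (pushforward h).obj F) :
    ((pullbackPushforwardAdjunction h₁).homEquiv _ _).symm (op1 t h₁ h w θ) =
      (pullbackComp h₁ t ≪≫ pullbackCongr w).hom.app G ≫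
        ((pullbackPushforwardAdjunction h).homEquiv _ _).symm θ := by
  subst w
  apply ((pullbackPushforwardAdjunction h₁).homEquiv _ _).injective
  apply ((pullbackPushforwardAdjunction t).homEquiv _ _).injective
  rw [Equiv.apply_symm_apply]
  unfold op1
  rw [Equiv.apply_symm_apply]
  have key := homEquiv_conj ((pullbackPushforwardAdjunction t).comp (pullbackPushforwardAdjunction h₁))
    (pullbackPushforwardAdjunction (h₁ ≫ t)) (pushforwardComp h₁ t).hom G F
    ((pullbackComp h₁ t ≪≫ pullbackCongr rfl).hom.app G ≫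
        ((pullbackPushforwardAdjunction (h₁ ≫ t)).homEquiv _ _).symm θ)
  rw [← conjugateEquiv_pullbackComp_inv, Equiv.symm_apply_apply] at key
  rw [conjugateEquiv_pullbackComp_inv, Adjunction.comp_homEquiv] at key
  have e1 : (pullbackComp h₁ t).inv.app G ≫ (pullbackComp h₁ t ≪≫ pullbackCongr rfl).hom.app G ≫
      ((pullbackPushforwardAdjunction (h₁ ≫ t)).homEquiv G F).symm θ =
      ((pullbackPushforwardAdjunction (h₁ ≫ t)).homEquiv G F).symm θ := by
    simp [pullbackCongr]
  rw [e1, Equiv.apply_symm_apply] at key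
  have e2 : (strictIso t h₁ (h₁ ≫ t) rfl F).hom = (pushforwardComp h₁ t).inv.app F := by
    apply Scheme.Modules.hom_ext
    intro O
    simp only [strictIso, Iso.trans_hom, Iso.app_hom, Iso.symm_hom, Scheme.Modules.Hom.comp_app,
      pushforwardCongr_hom_app_app, pushforwardComp_inv_app_app]
    erw [Category.comp_id]
    exact F.presheaf.map_id _
  rw [e2]
  conv_lhs => rw [key]
  simp only [Equiv.trans_apply, Category.assoc]
  erw [Iso.hom_inv_id_app]
  exact Category.comp_id _

end Op1

end Groth.Agent.Lib.ModBC62
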