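import Mathlib
import Groth.Agent.Lib.ModBC62

set_option autoImplicit false
universe u
open CategoryTheory Limits AlgebraicGeometry TopologicalSpace Opposite
open AlgebraicGeometry.Scheme AlgebraicGeometry.Scheme.Modules

namespace Groth.Agent.Lib.ModBC62

open Groth.Agent.Lib.ModGlue62

section General

variable {C : Type*} [Category C]

theorem comp_aux2 {P Q R Q' Z : C} (g : P ⟶ Q) (t : Q ⟶ R) (x : R ⟶ Z) (t' : P ⟶ Q')
    (m : Q' ⟶ R) (y : Q' ⟶ Z) (nat : g ≫ t = t' ≫ m) (hF : m ≫ x = y) :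
    g ≫ t ≫ x = t' ≫ y := by
  rw [← hF, ← Category.assoc, nat, Category.assoc]

theorem comp_aux3 {P Q R S T Z Q' B1 B2 : C} (g : P ⟶ Q) (t : Q ⟶ R) (a : R ⟶ S) (e : S ⟶ T)
    (e' : T ⟶ Z) (t' : P ⟶ Q') (m : Q' ⟶ R) (b1 : Q' ⟶ B1) (b2 : B1 ⟶ B2) (b3 : B2 ⟶ Z)
    (nat : g ≫ t = t' ≫ m) (hF : m ≫ a ≫ e ≫ e' = b1 ≫ b2 ≫ b3) :
    ((g ≫ t ≫ a) ≫ e) ≫ e' = (t' ≫ b1) ≫ b2 ≫ b3 := by
  simp only [Category.assoc]
  rw [← hF, ← Category.assoc, nat, Category.assoc]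

end General

section Op1Nat

variable {Y Y₁ Y' : Scheme.{u}} (t : Y₁ ⟶ Y) (h₁ : Y' ⟶ Y₁) (h : Y' ⟶ Y) (w : h₁ ≫ t = h)

theorem op1_comp {G G' : Y.Modules} {F : Y'.Modules} (m : G ⟶ G')
    (θ : G' ⟶ (pushforward h).obj F) :
    op1 t h₁ h w (m ≫ θ) = (Modules.pullback t).map m ≫ op1 t h₁ h w θ := by
  unfold op1
  rw [Category.assoc, Adjunction.homEquiv_naturality_left_symm]

theorem homEquiv_op1 {G : Y.Modules} {F : Y'.Modules} (θ : G ⟶ (pushforward h).obj F) :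
    (pullbackPushforwardAdjunction t).homEquiv _ _ (op1 t h₁ h w θ) =
      θ ≫ (strictIso t h₁ h w F).hom := by
  unfold op1
  rw [Equiv.apply_symm_apply]

theorem strictIso_hom_app (F : Y'.Modules) (O : Y.Opens) :
    (strictIso t h₁ h w F).hom.app O = F.presheaf.map (eqToHom (by subst w; rfl)).op := by
  simp only [strictIso, Iso.trans_hom, Iso.app_hom, Iso.symm_hom, Scheme.Modules.Hom.comp_app,
    pushforwardCongr_hom_app_app, pushforwardComp_inv_app_app]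
  erw [Category.comp_id]
  exact presheaf_map_eq _ _ _

end Op1Nat

section Cube

variable {Y Y₁ Y' W W₁ W' : Scheme.{u}}
  (t : Y₁ ⟶ Y) (h₁ : Y' ⟶ Y₁) (h : Y' ⟶ Y) (wh : h₁ ≫ t = h)
  (tW : W₁ ⟶ W) (h₁W : W' ⟶ W₁) (hW : W' ⟶ W) (whW : h₁W ≫ tW = hW)
  (j : W ⟶ Y) (j₁ : W₁ ⟶ Y₁) (j' : W' ⟶ Y')
  [IsOpenImmersion j] [IsOpenImmersion j₁] [IsOpenImmersion j']
  (w₀ : j' ≫ h = hW ≫ j) (w₁ : j' ≫ h₁ = h₁W ≫ j₁) (wt : j₁ ≫ t = tW ≫ j)

theorem coh {G : Y.Modules} {F : Y'.Modules} (θ : G ⟶ (pushforward h).obj F) :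
    (can j j₁ t tW wt).hom.app G ≫ op1 tW h₁W hW whW (restrθ j j' h hW w₀ θ) =
      restrθ j₁ j' h₁ h₁W w₁ (op1 t h₁ h wh θ) := by
  apply ((adjL₂ j₁ t).homEquiv _ _).injective
  have e1 : (can j j₁ t tW wt).hom =
      (conjugateEquiv (adjL₁ j tW) (adjL₂ j₁ t)).symm (pushSq j j₁ t tW wt).symm.hom := rfl
  rw [e1, homEquiv_conj]
  rw [Adjunction.comp_homEquiv, Adjunction.comp_homEquiv]
  simp only [Equiv.trans_apply]
  rw [homEquiv_op1]
  have e2 : (restrictAdjunction j₁).homEquiv _ _ (restrθ j₁ j' h₁ h₁W w₁ (op1 t h₁ h wh θ)) =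
      op1 t h₁ h wh θ ≫ (restrictAdjunction j₁).unit.app ((pushforward h₁).obj F) ≫
        (pushforward j₁).map (bcHom j₁ j' h₁ h₁W w₁ F) := by
    unfold restrθ
    rw [Adjunction.homEquiv_naturality_left, Adjunction.homEquiv_unit]
  rw [e2, Adjunction.homEquiv_naturality_right, Adjunction.homEquiv_naturality_right,
    homEquiv_op1, Adjunction.homEquiv_unit]
  apply Scheme.Modules.hom_ext
  intro O
  simp only [Scheme.Modules.Hom.comp_app, pushSq, Iso.symm_hom, Iso.trans_inv, Iso.symm_inv,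
    NatTrans.comp_app, pushforward_map_app, restrictAdjunction_unit_app_app,
    pushforwardComp_hom_app_app, pushforwardComp_inv_app_app, pushforwardCongr_inv_app_app,
    restrθ_app, bcHom_app, strictIso_hom_app]
  have nat : G.presheaf.map (homOfLE (j.image_preimage_le O)).op ≫ θ.app (j ''ᵁ j ⁻¹ᵁ O) =
      θ.app O ≫ ((pushforward h).obj F).presheaf.map (homOfLE (j.image_preimage_le O)).op :=
    θ.mapPresheaf.naturality (homOfLE (j.image_preimage_le O)).op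
  erw [Category.id_comp, Category.comp_id]
  refine comp_aux3 _ _ _ _ _ _ _ _ _ _ nat ?_
  simp only [Groth.Agent.Lib.ModGlue62.restrict_presheaf_map, pushforward_obj_presheaf_map]
  repeat erw [← Functor.map_comp]
  exact presheaf_map_eq _ _ _

end Cube

end Groth.Agent.Lib.ModBC62
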