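import Mathlib
import Groth.Agent.Lib.ModBC62b

set_option autoImplicit false
universe u
open CategoryTheory Limits AlgebraicGeometry TopologicalSpace Opposite
open AlgebraicGeometry.Scheme AlgebraicGeometry.Scheme.Modules

namespace Groth.Agent.Lib.ModDesc62

open Groth.Agent.Lib.ModGlue62 Groth.Agent.Lib.ModBC62

section MV

variable {X A B C S A' B' C' : Scheme.{u}}
  {a : A ⟶ X} {b : B ⟶ X} {p : C ⟶ A} {q : C ⟶ B}
  {a' : A' ⟶ S} {b' : B' ⟶ S} {p' : C' ⟶ A'} {q' : C' ⟶ B'}
  [IsOpenImmersion a] [IsOpenImmersion b] [IsOpenImmersion p] [IsOpenImmersion q]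
  [IsOpenImmersion a'] [IsOpenImmersion b'] [IsOpenImmersion p'] [IsOpenImmersion q']
  (π : S ⟶ X) (πA : A' ⟶ A) (πB : B' ⟶ B) (πC : C' ⟶ C)
  (wa : a' ≫ π = πA ≫ a) (wb : b' ≫ π = πB ≫ b)
  (wp : p' ≫ πA = πC ≫ p) (wq : q' ≫ πB = πC ≫ q)
  (w : p ≫ a = q ≫ b) (w' : p' ≫ a' = q' ≫ b')
  (F : S.Modules)

/-- the module on `C'` -/
noncomputable abbrev FC (a' : A' ⟶ S) (p' : C' ⟶ A') [IsOpenImmersion a'] [IsOpenImmersion p']
    (F : S.Modules) : C'.Modules := (restrictFunctor (p' ≫ a')).obj F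

noncomputable def ιA : (restrictFunctor p').obj ((restrictFunctor a').obj F) ⟶ FC a' p' F :=
  (restrictFunctorComp p' a').inv.app F

noncomputable def ιB : (restrictFunctor q').obj ((restrictFunctor b').obj F) ⟶ FC a' p' F :=
  (restrictFunctorComp q' b').inv.app F ≫ (restrictFunctorCongr w'.symm).hom.app F

instance : IsIso (ιA (a' := a') (p' := p') F) := by unfold ιA; infer_instance

instance : IsIso (ιB w' F) := by unfold ιB; infer_instance

include wa wp in
theorem wC : (p' ≫ a') ≫ π = πC ≫ (p ≫ a) := by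
  rw [Category.assoc, wa, ← Category.assoc, wp, Category.assoc]

theorem bc_comp_A :
    (restrictFunctor p).map (bcHom a a' π πA wa F) ≫
      bcHom p p' πA πC wp ((restrictFunctor a').obj F) ≫ (pushforward πC).map (ιA F) =
    (restrictFunctorComp p a).inv.app ((pushforward π).obj F) ≫
      bcHom (p ≫ a) (p' ≫ a') π πC (wC π πA πC wa wp) F := by
  apply Scheme.Modules.hom_ext
  intro O
  simp only [Scheme.Modules.Hom.comp_app, bcHom_app, ιA,
    Groth.Agent.Lib.H90OXModLocal.restrictFunctor_map_app, pushforward_map_app,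
    restrictFunctorComp_inv_app_app, Groth.Agent.Lib.ModGlue62.restrict_presheaf_map,
    pushforward_obj_presheaf_map]
  repeat erw [← Functor.map_comp]
  exact presheaf_map_eq _ _ _

include wb wq w w' in
theorem wC' : (p' ≫ a') ≫ π = πC ≫ (p ≫ a) := by
  rw [w', w, Category.assoc, wb, ← Category.assoc, wq, Category.assoc]

theorem bc_comp_B :
    (restrictFunctor q).map (bcHom b b' π πB wb F) ≫
      bcHom q q' πB πC wq ((restrictFunctor b').obj F) ≫ (pushforward πC).map (ιB w' F) =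
    ((restrictFunctorComp q b).inv.app ((pushforward π).obj F) ≫
      (restrictFunctorCongr w.symm).hom.app ((pushforward π).obj F)) ≫
      bcHom (p ≫ a) (p' ≫ a') π πC (wC' π πB πC wb wq w w') F := by
  apply Scheme.Modules.hom_ext
  intro O
  simp only [Scheme.Modules.Hom.comp_app, bcHom_app, ιB,
    Groth.Agent.Lib.H90OXModLocal.restrictFunctor_map_app, pushforward_map_app,
    restrictFunctorComp_inv_app_app, restrictFunctorCongr_hom_app_app,
    Groth.Agent.Lib.ModGlue62.restrict_presheaf_map,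
    pushforward_obj_presheaf_map]
  repeat erw [← Functor.map_comp]
  exact presheaf_map_eq _ _ _

/-- restriction to `C` of a morphism on `A` -/
noncomputable def θAC {GA : A.Modules}
    (θA : GA ⟶ (pushforward πA).obj ((restrictFunctor a').obj F)) :
    (restrictFunctor p).obj GA ⟶ (pushforward πC).obj (FC a' p' F) :=
  restrθ p p' πA πC wp θA ≫ (pushforward πC).map (ιA F)

/-- restriction to `C` of a morphism on `B` -/
noncomputable def θBC {GB : B.Modules}
    (θB : GB ⟶ (pushforward πB).obj ((restrictFunctor b').obj F)) :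
    (restrictFunctor q).obj GB ⟶ (pushforward πC).obj (FC a' p' F) :=
  restrθ q q' πB πC wq θB ≫ (pushforward πC).map (ιB w' F)

end MV

section Two

variable {S A' B' : Scheme.{u}} (a' : A' ⟶ S) (b' : B' ⟶ S) [IsOpenImmersion a'] [IsOpenImmersion b']

theorem isIso_of_two (hcov : a'.opensRange ⊔ b'.opensRange = ⊤) {M N : S.Modules} (f : M ⟶ N)
    [IsIso ((restrictFunctor a').map f)] [IsIso ((restrictFunctor b').map f)] : IsIso f := by
  have hU : ⨆ i : Bool, (if i then a'.opensRange else b'.opensRange) = ⊤ := by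
    rw [iSup_bool_eq]
    simpa using hcov
  refine Groth.Agent.Lib.H90OXModLocal.isIso_of_small hU f ?_
  rintro W ⟨i, hi⟩
  cases i
  · have hW : W ≤ b'.opensRange := by simpa using hi
    exact isIso_app_of_isIso_restrict b' f W hW
  · have hW : W ≤ a'.opensRange := by simpa using hi
    exact isIso_app_of_isIso_restrict a' f W hW

end Two

section CatAux

variable {D : Type*} [Category D]

theorem inv_aux {P Q R T : D} (α : P ⟶ Q) [IsIso α] (x : Q ⟶ R) (γ : T ⟶ R) [IsIso γ] (ι : P ⟶ T)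
    (h : α ≫ x = ι ≫ γ) : inv α ≫ ι = x ≫ inv γ := by
  rw [IsIso.inv_comp_eq, ← Category.assoc, IsIso.eq_comp_inv, h]

theorem glue_aux {P Q R T V Z : D} (t : P ⟶ Q) (x : Q ⟶ R) (y : R ⟶ T) (g : T ⟶ Z)
    (t' : Q ⟶ V) (ι : V ⟶ Z) (key : t' ≫ ι = (x ≫ y) ≫ g) :
    ((t ≫ x) ≫ y) ≫ g = (t ≫ t') ≫ ι := by
  rw [Category.assoc t t' ι, key]
  simp only [Category.assoc]

theorem homEquiv_symm_unit {E : Type*} [Category E] {L : D ⥤ E} {R : E ⥤ D} (adj : L ⊣ R) (X : D) :
    (adj.homEquiv X (L.obj X)).symm (adj.unit.app X) = 𝟙 _ := by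
  have h : adj.unit.app X = adj.homEquiv X (L.obj X) (𝟙 _) := (adj.homEquiv_id X).symm
  rw [h]
  exact Equiv.symm_apply_apply _ _

end CatAux

section GlueThm

variable {X A B C S A' B' C' : Scheme.{u}}
  {a : A ⟶ X} {b : B ⟶ X} {p : C ⟶ A} {q : C ⟶ B}
  {a' : A' ⟶ S} {b' : B' ⟶ S} {p' : C' ⟶ A'} {q' : C' ⟶ B'}
  [IsOpenImmersion a] [IsOpenImmersion b] [IsOpenImmersion p] [IsOpenImmersion q]
  [IsOpenImmersion a'] [IsOpenImmersion b'] [IsOpenImmersion p'] [IsOpenImmersion q']
  {π : S ⟶ X} {πA : A' ⟶ A} {πB : B' ⟶ B} {πC : C' ⟶ C}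
  (sq : IsPullback p q a b) (sq' : IsPullback p' q' a' b')
  (sqA : IsPullback πA a' a π) (sqB : IsPullback πB b' b π)
  (sqC : IsPullback πC (p' ≫ a') (p ≫ a) π)
  (wp : p' ≫ πA = πC ≫ p) (wq : q' ≫ πB = πC ≫ q)
  (hcov : a.opensRange ⊔ b.opensRange = ⊤) (hcov' : a'.opensRange ⊔ b'.opensRange = ⊤)
  (F : S.Modules) {GA : A.Modules} {GB : B.Modules}
  (θA : GA ⟶ (pushforward πA).obj ((restrictFunctor a').obj F))
  (θB : GB ⟶ (pushforward πB).obj ((restrictFunctor b').obj F))
  (χ : (restrictFunctor p).obj GA ⟶ (restrictFunctor q).obj GB)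

/-- the transpose of a morphism into a pushforward -/
noncomputable abbrev sharpπ {Y Y' : Scheme.{u}} (h : Y' ⟶ Y) {G : Y.Modules} {F : Y'.Modules}
    (θ : G ⟶ (pushforward h).obj F) : (Modules.pullback h).obj G ⟶ F :=
  ((pullbackPushforwardAdjunction h).homEquiv _ _).symm θ

include sq sq' sqA sqB sqC hcov hcov' in
theorem exists_glue [IsIso (sharpπ πA θA)] [IsIso (sharpπ πB θB)] [IsIso χ]
    (hχ : χ ≫ θBC πB πC wq sq'.w F θB = θAC πA πC wp F θA) :
    ∃ (G : X.Modules) (_ : (restrictFunctor a).obj G ≅ GA) (_ : (restrictFunctor b).obj G ≅ GB)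
      (θ : G ⟶ (pushforward π).obj F), IsIso (sharpπ π θ) := by
  -- base change isos
  haveI iA : IsIso (bcHom a a' π πA sqA.w.symm F) := isIso_bcHom a a' π πA sqA F
  haveI iB : IsIso (bcHom b b' π πB sqB.w.symm F) := isIso_bcHom b b' π πB sqB F
  haveI iC : IsIso (bcHom (p ≫ a) (p' ≫ a') π πC sqC.w.symm F) :=
    isIso_bcHom (p ≫ a) (p' ≫ a') π πC sqC F
  let H : X.Modules := (pushforward π).obj F
  let ρB : GB ⟶ (pushforward q).obj ((restrictFunctor q).obj GB) := (restrictAdjunction q).unit.app GB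
  let ρA : GA ⟶ (pushforward p).obj ((restrictFunctor q).obj GB) :=
    (restrictAdjunction p).homEquiv _ _ χ
  let fA : GA ⟶ (restrictFunctor a).obj H := θA ≫ inv (bcHom a a' π πA sqA.w.symm F)
  let fB : GB ⟶ (restrictFunctor b).obj H := θB ≫ inv (bcHom b b' π πB sqB.w.symm F)
  let fC : (restrictFunctor q).obj GB ⟶ (restrictFunctor (p ≫ a)).obj H :=
    θBC πB πC wq sq'.w F θB ≫ inv (bcHom (p ≫ a) (p' ≫ a') π πC sqC.w.symm F)
  have keyB : (restrictFunctor q).map (inv (bcHom b b' π πB sqB.w.symm F)) ≫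
      ((restrictFunctorComp q b).inv.app H ≫ (restrictFunctorCongr sq.w.symm).hom.app H) =
      (bcHom q q' πB πC wq ((restrictFunctor b').obj F) ≫ (pushforward πC).map (ιB sq'.w F)) ≫
        inv (bcHom (p ≫ a) (p' ≫ a') π πC sqC.w.symm F) := by
    rw [Functor.map_inv]
    exact inv_aux _ _ _ _ (bc_comp_B π πB πC sqB.w.symm wq sq.w sq'.w F)
  have keyA : (restrictFunctor p).map (inv (bcHom a a' π πA sqA.w.symm F)) ≫
      (restrictFunctorComp p a).inv.app H =
      (bcHom p p' πA πC wp ((restrictFunctor a').obj F) ≫ (pushforward πC).map (ιA F)) ≫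
        inv (bcHom (p ≫ a) (p' ≫ a') π πC sqC.w.symm F) := by
    rw [Functor.map_inv]
    exact inv_aux _ _ _ _ (bc_comp_A π πA πC sqA.w.symm wp F)
  have hB : ρB ≫ (pushforward q).map fC = fB ≫ ρHB sq H := by
    have e1 : ρB ≫ (pushforward q).map fC = (restrictAdjunction q).homEquiv _ _ fC :=
      ((restrictAdjunction q).homEquiv_unit _ _ _).symm
    have e2 : fB ≫ ρHB sq H = (restrictAdjunction q).homEquiv _ _ ((restrictFunctor q).map fB ≫
        ((restrictFunctorComp q b).inv.app H ≫ (restrictFunctorCongr sq.w.symm).hom.app H)) := by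
      rw [Adjunction.homEquiv_naturality_left]
      rfl
    rw [e1, e2]
    congr 1
    have e3 : (restrictFunctor q).map fB = (restrictFunctor q).map θB ≫
        (restrictFunctor q).map (inv (bcHom b b' π πB sqB.w.symm F)) := Functor.map_comp _ _ _
    rw [e3]
    exact glue_aux _ _ _ _ _ _ keyB
  have hA : ρA ≫ (pushforward p).map fC = fA ≫ ρHA H := by
    have e1 : ρA ≫ (pushforward p).map fC = (restrictAdjunction p).homEquiv _ _ (χ ≫ fC) :=
      ((restrictAdjunction p).homEquiv_naturality_right _ _).symm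
    have e2 : fA ≫ ρHA H = (restrictAdjunction p).homEquiv _ _ ((restrictFunctor p).map fA ≫
        (restrictFunctorComp p a).inv.app H) := by
      rw [Adjunction.homEquiv_naturality_left]
      rfl
    rw [e1, e2]
    congr 1
    have e3 : (restrictFunctor p).map fA = (restrictFunctor p).map θA ≫
        (restrictFunctor p).map (inv (bcHom a a' π πA sqA.w.symm F)) := Functor.map_comp _ _ _
    have e4 : χ ≫ fC = θAC πA πC wp F θA ≫ inv (bcHom (p ≫ a) (p' ≫ a') π πC sqC.w.symm F) := by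
      rw [← hχ]
      exact (Category.assoc _ _ _).symm
    rw [e3, e4]
    exact glue_aux _ _ _ _ _ _ keyA
  -- sharps of the gluing data
  haveI isB : IsIso (sharp q ρB) := by
    have : sharp q ρB = 𝟙 _ := by
      exact homEquiv_symm_unit (restrictAdjunction q) GB
    rw [this]; infer_instance
  haveI isA : IsIso (sharp p ρA) := by
    have : sharp p ρA = χ := Equiv.symm_apply_apply _ _
    rw [this]; infer_instance
  haveI iκ : IsIso (κ sq H) := isIso_κ sq H hcov
  let gm := glueMap sq ρA ρB (ρHA H) (ρHB sq H) fA fB fC hA hB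
  let θ : glue sq ρA ρB ⟶ H := gm ≫ inv (κ sq H)
  refine ⟨glue sq ρA ρB, asIso (αhom sq ρA ρB), asIso (βhom sq ρA ρB), θ, ?_⟩
  -- restriction of θ to A
  have hαθ : restrθ a a' π πA sqA.w.symm θ = αhom sq ρA ρB ≫ θA := by
    have h1 : (restrictFunctor a).map gm ≫ αhom sq (ρHA H) (ρHB sq H) = αhom sq ρA ρB ≫ fA := by
      unfold αhom
      rw [← Adjunction.homEquiv_naturality_left_symm, ← Adjunction.homEquiv_naturality_right_symm]
      congr 1
      exact glueMap_gfst sq ρA ρB (ρHA H) (ρHB sq H) fA fB fC hA hB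
    have h2 : (restrictFunctor a).map (κ sq H) ≫ αhom sq (ρHA H) (ρHB sq H) = 𝟙 _ := by
      unfold αhom
      rw [← Adjunction.homEquiv_naturality_left_symm, κ_gfst]
      exact homEquiv_symm_unit (restrictAdjunction a) H
    have h3 : (restrictFunctor a).map (inv (κ sq H)) = αhom sq (ρHA H) (ρHB sq H) := by
      rw [Functor.map_inv, IsIso.inv_eq_of_hom_inv_id h2]
    unfold restrθ
    change (restrictFunctor a).map (gm ≫ inv (κ sq H)) ≫ _ = _
    rw [Functor.map_comp, h3, h1]
    change (αhom sq ρA ρB ≫ θA ≫ inv (bcHom a a' π πA sqA.w.symm F)) ≫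
      bcHom a a' π πA sqA.w.symm F = _
    simp only [Category.assoc, IsIso.inv_hom_id, Category.comp_id]
  have hβθ : restrθ b b' π πB sqB.w.symm θ = βhom sq ρA ρB ≫ θB := by
    have h1 : (restrictFunctor b).map gm ≫ βhom sq (ρHA H) (ρHB sq H) = βhom sq ρA ρB ≫ fB := by
      unfold βhom
      rw [← Adjunction.homEquiv_naturality_left_symm, ← Adjunction.homEquiv_naturality_right_symm]
      congr 1
      exact glueMap_gsnd sq ρA ρB (ρHA H) (ρHB sq H) fA fB fC hA hB
    have h2 : (restrictFunctor b).map (κ sq H) ≫ βhom sq (ρHA H) (ρHB sq H) = 𝟙 _ := by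
      unfold βhom
      rw [← Adjunction.homEquiv_naturality_left_symm, κ_gsnd]
      exact homEquiv_symm_unit (restrictAdjunction b) H
    have h3 : (restrictFunctor b).map (inv (κ sq H)) = βhom sq (ρHA H) (ρHB sq H) := by
      rw [Functor.map_inv, IsIso.inv_eq_of_hom_inv_id h2]
    unfold restrθ
    change (restrictFunctor b).map (gm ≫ inv (κ sq H)) ≫ _ = _
    rw [Functor.map_comp, h3, h1]
    change (βhom sq ρA ρB ≫ θB ≫ inv (bcHom b b' π πB sqB.w.symm F)) ≫
      bcHom b b' π πB sqB.w.symm F = _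
    simp only [Category.assoc, IsIso.inv_hom_id, Category.comp_id]
  haveI i1 : IsIso ((restrictFunctor a').map (sharpπ π θ)) := by
    rw [← can_comp_sharp a a' π πA sqA.w.symm θ, hαθ]
    have : sharpπ πA (αhom sq ρA ρB ≫ θA) = (Modules.pullback πA).map (αhom sq ρA ρB) ≫ sharpπ πA θA :=
      Adjunction.homEquiv_naturality_left_symm _ _ _
    change IsIso (_ ≫ sharpπ πA (αhom sq ρA ρB ≫ θA))
    rw [this]
    infer_instance
  haveI i2 : IsIso ((restrictFunctor b').map (sharpπ π θ)) := by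
    rw [← can_comp_sharp b b' π πB sqB.w.symm θ, hβθ]
    have : sharpπ πB (βhom sq ρA ρB ≫ θB) = (Modules.pullback πB).map (βhom sq ρA ρB) ≫ sharpπ πB θB :=
      Adjunction.homEquiv_naturality_left_symm _ _ _
    change IsIso (_ ≫ sharpπ πB (βhom sq ρA ρB ≫ θB))
    rw [this]
    infer_instance
  exact isIso_of_two a' b' hcov' _

end GlueThm

end Groth.Agent.Lib.ModDesc62
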