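import Mathlib
import Groth.Agent.Lib.ModDesc62Glue

set_option autoImplicit false
universe u
open CategoryTheory Limits AlgebraicGeometry TopologicalSpace Opposite
open AlgebraicGeometry.Scheme AlgebraicGeometry.Scheme.Modules

namespace Groth.Agent.Lib.ModDesc62

open Groth.Agent.Lib.ModGlue62 Groth.Agent.Lib.ModBC62

section Op1More

variable {Y Y₁ Y' : Scheme.{u}} (t : Y₁ ⟶ Y) (h₁ : Y' ⟶ Y₁) (h : Y' ⟶ Y) (w : h₁ ≫ t = h)

theorem strictIso_naturality {F F' : Y'.Modules} (ι : F ⟶ F') :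
    (pushforward h).map ι ≫ (strictIso t h₁ h w F').hom =
      (strictIso t h₁ h w F).hom ≫ (pushforward t).map ((pushforward h₁).map ι) := by
  apply Scheme.Modules.hom_ext
  intro O
  simp only [Scheme.Modules.Hom.comp_app, strictIso_hom_app, pushforward_map_app]
  exact (ι.mapPresheaf.naturality _).symm

theorem op1_map {G : Y.Modules} {F F' : Y'.Modules} (θ : G ⟶ (pushforward h).obj F) (ι : F ⟶ F') :
    op1 t h₁ h w (θ ≫ (pushforward h).map ι) = op1 t h₁ h w θ ≫ (pushforward h₁).map ι := by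
  unfold op1
  rw [Category.assoc, strictIso_naturality, ← Category.assoc,
    Adjunction.homEquiv_naturality_right_symm]

/-- the transpose of `op1` -/
theorem sharpπ_op1 {G : Y.Modules} {F : Y'.Modules} (θ : G ⟶ (pushforward h).obj F) :
    sharpπ h₁ (op1 t h₁ h w θ) =
      ((pullbackComp h₁ t ≪≫ pullbackCongr w).app G).hom ≫ sharpπ h θ :=
  sharp_op1 t h₁ h w θ

instance isIso_sharpπ_op1 {G : Y.Modules} {F : Y'.Modules} (θ : G ⟶ (pushforward h).obj F)
    [IsIso (sharpπ h θ)] : IsIso (sharpπ h₁ (op1 t h₁ h w θ)) := by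
  rw [sharpπ_op1]
  infer_instance

theorem sharpπ_comp {G G' : Y.Modules} {F : Y'.Modules} (m : G ⟶ G')
    (θ : G' ⟶ (pushforward h).obj F) :
    sharpπ h (m ≫ θ) = (Modules.pullback h).map m ≫ sharpπ h θ :=
  Adjunction.homEquiv_naturality_left_symm _ _ _

theorem sharpπ_map {G : Y.Modules} {F F' : Y'.Modules} (θ : G ⟶ (pushforward h).obj F) (ι : F ⟶ F') :
    sharpπ h (θ ≫ (pushforward h).map ι) = sharpπ h θ ≫ ι :=
  Adjunction.homEquiv_naturality_right_symm _ _ _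

/-- **K3**: a morphism at a later stage inducing `sharp θ ≫ (sharp θ')⁻¹` at the limit is
compatible with the transported morphisms. -/
theorem K3 {G G' : Y.Modules} {F : Y'.Modules} (θ : G ⟶ (pushforward h).obj F)
    (θ' : G' ⟶ (pushforward h).obj F) [IsIso (sharpπ h θ')]
    (hj : (Modules.pullback t).obj G ⟶ (Modules.pullback t).obj G')
    (hhj : ((pullbackComp h₁ t ≪≫ pullbackCongr w).app G).inv ≫ (Modules.pullback h₁).map hj ≫
      ((pullbackComp h₁ t ≪≫ pullbackCongr w).app G').hom = sharpπ h θ ≫ inv (sharpπ h θ')) :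
    hj ≫ op1 t h₁ h w θ' = op1 t h₁ h w θ := by
  apply ((pullbackPushforwardAdjunction h₁).homEquiv _ _).symm.injective
  change sharpπ h₁ (hj ≫ op1 t h₁ h w θ') = sharpπ h₁ (op1 t h₁ h w θ)
  rw [sharpπ_comp, sharpπ_op1, sharpπ_op1]
  rw [Iso.inv_comp_eq] at hhj
  rw [← Category.assoc, hhj]
  simp only [Category.assoc, IsIso.inv_hom_id, Category.comp_id]

/-- a morphism compatible with cartesian morphisms becomes an isomorphism at the limit -/
theorem isIso_pullback_of_compat {G G' : Y.Modules} {F : Y'.Modules} (θ : G ⟶ (pushforward h).obj F)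
    (θ' : G' ⟶ (pushforward h).obj F) [IsIso (sharpπ h θ)] [IsIso (sharpπ h θ')]
    (χ : G ⟶ G') (hχ : χ ≫ θ' = θ) : IsIso ((Modules.pullback h).map χ) := by
  have h1 : (Modules.pullback h).map χ = sharpπ h θ ≫ inv (sharpπ h θ') := by
    rw [IsIso.eq_comp_inv, ← sharpπ_comp, hχ]
  rw [h1]
  infer_instance

end Op1More

section Cube

variable {Y Y₁ Y' W W₁ W' : Scheme.{u}}
  (t : Y₁ ⟶ Y) (h₁ : Y' ⟶ Y₁) (h : Y' ⟶ Y) (wh : h₁ ≫ t = h)
  (tW : W₁ ⟶ W) (h₁W : W' ⟶ W₁) (hW : W' ⟶ W) (whW : h₁W ≫ tW = hW)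
  (j : W ⟶ Y) (j₁ : W₁ ⟶ Y₁) (j' : W' ⟶ Y')
  [IsOpenImmersion j] [IsOpenImmersion j₁] [IsOpenImmersion j']
  (w₀ : j' ≫ h = hW ≫ j) (w₁ : j' ≫ h₁ = h₁W ≫ j₁) (wt : j₁ ≫ t = tW ≫ j)

theorem coh_ι {G : Y.Modules} {F : Y'.Modules} {F'' : W'.Modules} (θ : G ⟶ (pushforward h).obj F)
    (ι : (restrictFunctor j').obj F ⟶ F'') :
    (can j j₁ t tW wt).hom.app G ≫
        op1 tW h₁W hW whW (restrθ j j' h hW w₀ θ ≫ (pushforward hW).map ι) =
      restrθ j₁ j' h₁ h₁W w₁ (op1 t h₁ h wh θ) ≫ (pushforward h₁W).map ι := by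
  rw [op1_map, ← Category.assoc, coh t h₁ h wh tW h₁W hW whW j j₁ j' w₀ w₁ wt θ]

instance isIso_sharpπ_restrθ {G : Y.Modules} {F : Y'.Modules} (θ : G ⟶ (pushforward h).obj F)
    [IsIso (sharpπ h θ)] : IsIso (sharpπ hW (restrθ j j' h hW w₀ θ)) := by
  have h1 := can_comp_sharp j j' h hW w₀ θ
  have h2 : sharpπ hW (restrθ j j' h hW w₀ θ) = (can j j' h hW w₀).inv.app G ≫
      (restrictFunctor j').map (sharpπ h θ) := by
    rw [← h1, ← Category.assoc, Iso.inv_hom_id_app]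
    exact (Category.id_comp _).symm
  rw [h2]
  infer_instance

end Cube

end Groth.Agent.Lib.ModDesc62
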