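import Mathlib
import Groth.Agent.Lib.ModDesc62Geom
import Groth.Agent.Lib.ModDesc62Trans
import Groth.Agent.Lib.ModDesc62Loc
import Groth.Agent.Lib.H72LimHom
import Groth.Agent.Lib.H72LimMod2
import Groth.Agent.Lib.H72LimLocFree
import Groth.Agent.Lib.H72PullbackQCoh
import Groth.Agent.Lib.Fitting82U

set_option autoImplicit false
universe u
open CategoryTheory Limits AlgebraicGeometry TopologicalSpace Opposite
open AlgebraicGeometry.Scheme AlgebraicGeometry.Scheme.Modules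

namespace Groth.Agent.Lib.ModDesc62

open Groth.Agent.Lib.ModGlue62 Groth.Agent.Lib.ModBC62
open Groth.Agent.Lib.LimPullback Groth.Agent.Lib.LimDescent

/-- a descent datum for `F` along `π`, in transposed form -/
structure DescAt {S Xk : Scheme.{u}} (π : S ⟶ Xk) (F : S.Modules) where
  /-- the module -/
  G : Xk.Modules
  qc : G.IsQuasicoherent
  fp : SheafOfModules.IsFinitePresentation (R := Xk.ringCatSheaf) G
  /-- the comparison morphism -/
  θ : G ⟶ (pushforward π).obj F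
  cart : IsIso (sharpπ π θ)

namespace DescAt

variable {S Xk Xl : Scheme.{u}} {π : S ⟶ Xk} {F : S.Modules}

/-- transport to a later stage -/
noncomputable def op1 (d : DescAt π F) (t : Xl ⟶ Xk) (π' : S ⟶ Xl) (w : π' ≫ t = π) :
    DescAt π' F where
  G := (Modules.pullback t).obj d.G
  qc := by
    haveI := d.qc
    exact Groth.Agent.Lib.H72PullbackQCoh.isQuasicoherent_pullback t d.G
  fp := by
    haveI := d.fp
    exact Groth.Agent.Lib.Fitting82.isFinitePresentation_pullback t d.G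
  θ := ModBC62.op1 t π' π w d.θ
  cart := by
    haveI := d.cart
    exact isIso_sharpπ_op1 t π' π w d.θ

/-- from an isomorphism -/
noncomputable def ofIso (G : Xk.Modules) (qc : G.IsQuasicoherent)
    (fp : SheafOfModules.IsFinitePresentation (R := Xk.ringCatSheaf) G)
    (φ : (Modules.pullback π).obj G ≅ F) : DescAt π F where
  G := G
  qc := qc
  fp := fp
  θ := (pullbackPushforwardAdjunction π).homEquiv _ _ φ.hom
  cart := by
    have : sharpπ π ((pullbackPushforwardAdjunction π).homEquiv _ _ φ.hom) = φ.hom :=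
      Equiv.symm_apply_apply _ _
    rw [this]
    infer_instance

/-- the isomorphism of a descent datum -/
noncomputable def iso (d : DescAt π F) : (Modules.pullback π).obj d.G ≅ F :=
  @asIso _ _ _ _ (sharpπ π d.θ) d.cart

end DescAt

theorem cat_aux {D : Type*} [Category D] {P Q R T Z : D} (a : P ⟶ Q) (m : Q ⟶ R) (bi : R ⟶ T)
    (b : T ⟶ R) (x : R ⟶ Z) (h : bi ≫ b = 𝟙 R) : (a ≫ m ≫ bi) ≫ (b ≫ x) = a ≫ (m ≫ x) := by
  simp only [Category.assoc]
  rw [← Category.assoc bi, h, Category.id_comp]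

section Sys

variable {J : Type u} [Category.{u} J] [IsCofiltered J] (E : J ⥤ Scheme.{u})
  [∀ {i j} (φ : i ⟶ j), IsAffineHom (E.map φ)] (c : Cone E) (hc : IsLimit c) (j₀ : J)
  (U V : (E.obj j₀).Opens) (F : c.pt.Modules)

/-- `F` restricted to the part over `Y` -/
noncomputable abbrev FY (Y : (E.obj j₀).Opens) : (pullback Y.ι (c.π.app j₀)).Modules :=
  (restrictFunctor (pullback.snd Y.ι (c.π.app j₀))).obj F

/-- `C_k ⟶ A_k` -/
noncomputable abbrev pK (k : Over j₀) :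
    pullback (U ⊓ V).ι (E.map k.hom) ⟶ pullback U.ι (E.map k.hom) :=
  inclMap (inf_le_left : U ⊓ V ≤ U) (E.map k.hom)

/-- `C_k ⟶ B_k` -/
noncomputable abbrev qK (k : Over j₀) :
    pullback (U ⊓ V).ι (E.map k.hom) ⟶ pullback V.ι (E.map k.hom) :=
  inclMap (inf_le_right : U ⊓ V ≤ V) (E.map k.hom)

/-- `C_∞ ⟶ A_∞` -/
noncomputable abbrev pI : pullback (U ⊓ V).ι (c.π.app j₀) ⟶ pullback U.ι (c.π.app j₀) :=
  inclMap (inf_le_left : U ⊓ V ≤ U) (c.π.app j₀)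

/-- `C_∞ ⟶ B_∞` -/
noncomputable abbrev qI : pullback (U ⊓ V).ι (c.π.app j₀) ⟶ pullback V.ι (c.π.app j₀) :=
  inclMap (inf_le_right : U ⊓ V ≤ V) (c.π.app j₀)

theorem wpK (k : Over j₀) :
    pI E c j₀ U V ≫ pbProj E c j₀ U.ι k = pbProj E c j₀ (U ⊓ V).ι k ≫ pK E j₀ U V k :=
  (pbProj_inclMap E c j₀ inf_le_left k).symm

theorem wqK (k : Over j₀) :
    qI E c j₀ U V ≫ pbProj E c j₀ V.ι k = pbProj E c j₀ (U ⊓ V).ι k ≫ qK E j₀ U V k :=
  (pbProj_inclMap E c j₀ inf_le_right k).symm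

theorem sqI : IsPullback (pI E c j₀ U V) (qI E c j₀ U V) (pullback.snd U.ι (c.π.app j₀))
    (pullback.snd V.ι (c.π.app j₀)) := isPullback_inclMap U V (c.π.app j₀)

theorem sqK (k : Over j₀) : IsPullback (pK E j₀ U V k) (qK E j₀ U V k)
    (pullback.snd U.ι (E.map k.hom)) (pullback.snd V.ι (E.map k.hom)) :=
  isPullback_inclMap U V (E.map k.hom)

/-- the module on `C_∞` -/
noncomputable abbrev FW : (pullback (U ⊓ V).ι (c.π.app j₀)).Modules :=
  FC (pullback.snd U.ι (c.π.app j₀)) (pI E c j₀ U V) F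

variable {E c j₀ U V F}

/-- restriction of the `A`-side datum to `C_k` -/
noncomputable def θAk {k : Over j₀} (dA : DescAt (pbProj E c j₀ U.ι k) (FY E c j₀ F U)) :
    (restrictFunctor (pK E j₀ U V k)).obj dA.G ⟶
      (pushforward (pbProj E c j₀ (U ⊓ V).ι k)).obj (FW E c j₀ U V F) :=
  θAC (pbProj E c j₀ U.ι k) (pbProj E c j₀ (U ⊓ V).ι k) (wpK E c j₀ U V k) F dA.θ

/-- restriction of the `B`-side datum to `C_k` -/
noncomputable def θBk {k : Over j₀} (dB : DescAt (pbProj E c j₀ V.ι k) (FY E c j₀ F V)) :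
    (restrictFunctor (qK E j₀ U V k)).obj dB.G ⟶
      (pushforward (pbProj E c j₀ (U ⊓ V).ι k)).obj (FW E c j₀ U V F) :=
  θBC (pbProj E c j₀ V.ι k) (pbProj E c j₀ (U ⊓ V).ι k) (wqK E c j₀ U V k) (sqI E c j₀ U V).w F dB.θ

/-- compatibility of a gluing morphism -/
def Compat {k : Over j₀} (dA : DescAt (pbProj E c j₀ U.ι k) (FY E c j₀ F U))
    (dB : DescAt (pbProj E c j₀ V.ι k) (FY E c j₀ F V))
    (χ : (restrictFunctor (pK E j₀ U V k)).obj dA.G ⟶ (restrictFunctor (qK E j₀ U V k)).obj dB.G) :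
    Prop :=
  χ ≫ θBk dB = θAk dA

/-- transport of the `A`-side datum -/
noncomputable abbrev trA {k l : Over j₀} (f : l ⟶ k)
    (dA : DescAt (pbProj E c j₀ U.ι k) (FY E c j₀ F U)) :
    DescAt (pbProj E c j₀ U.ι l) (FY E c j₀ F U) :=
  dA.op1 (pbMap E j₀ U.ι f) (pbProj E c j₀ U.ι l) (pbProj_pbMap E c j₀ U.ι f)

/-- transport of the `B`-side datum -/
noncomputable abbrev trB {k l : Over j₀} (f : l ⟶ k)
    (dB : DescAt (pbProj E c j₀ V.ι k) (FY E c j₀ F V)) :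
    DescAt (pbProj E c j₀ V.ι l) (FY E c j₀ F V) :=
  dB.op1 (pbMap E j₀ V.ι f) (pbProj E c j₀ V.ι l) (pbProj_pbMap E c j₀ V.ι f)

theorem wtA {k l : Over j₀} (f : l ⟶ k) :
    pK E j₀ U V l ≫ pbMap E j₀ U.ι f = pbMap E j₀ (U ⊓ V).ι f ≫ pK E j₀ U V k :=
  (pbMap_inclMap E j₀ inf_le_left f).symm

theorem wtB {k l : Over j₀} (f : l ⟶ k) :
    qK E j₀ U V l ≫ pbMap E j₀ V.ι f = pbMap E j₀ (U ⊓ V).ι f ≫ qK E j₀ U V k :=
  (pbMap_inclMap E j₀ inf_le_right f).symm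

theorem θAk_trA {k l : Over j₀} (f : l ⟶ k)
    (dA : DescAt (pbProj E c j₀ U.ι k) (FY E c j₀ F U)) :
    θAk (V := V) (trA f dA) =
      (can (pK E j₀ U V k) (pK E j₀ U V l) (pbMap E j₀ U.ι f) (pbMap E j₀ (U ⊓ V).ι f)
        (wtA f)).hom.app dA.G ≫
      ModBC62.op1 (pbMap E j₀ (U ⊓ V).ι f) (pbProj E c j₀ (U ⊓ V).ι l)
        (pbProj E c j₀ (U ⊓ V).ι k) (pbProj_pbMap E c j₀ (U ⊓ V).ι f) (θAk dA) :=
  (coh_ι _ _ _ _ _ _ _ _ _ _ _ _ _ _ dA.θ (ιA F)).symm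

theorem θBk_trB {k l : Over j₀} (f : l ⟶ k)
    (dB : DescAt (pbProj E c j₀ V.ι k) (FY E c j₀ F V)) :
    θBk (U := U) (trB f dB) =
      (can (qK E j₀ U V k) (qK E j₀ U V l) (pbMap E j₀ V.ι f) (pbMap E j₀ (U ⊓ V).ι f)
        (wtB f)).hom.app dB.G ≫
      ModBC62.op1 (pbMap E j₀ (U ⊓ V).ι f) (pbProj E c j₀ (U ⊓ V).ι l)
        (pbProj E c j₀ (U ⊓ V).ι k) (pbProj_pbMap E c j₀ (U ⊓ V).ι f) (θBk dB) :=
  (coh_ι _ _ _ _ _ _ _ _ _ _ _ _ _ _ dB.θ (ιB (sqI E c j₀ U V).w F)).symm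

/-- the transported gluing morphism -/
noncomputable def trχ {k l : Over j₀} (f : l ⟶ k)
    (dA : DescAt (pbProj E c j₀ U.ι k) (FY E c j₀ F U))
    (dB : DescAt (pbProj E c j₀ V.ι k) (FY E c j₀ F V))
    (m : (Modules.pullback (pbMap E j₀ (U ⊓ V).ι f)).obj ((restrictFunctor (pK E j₀ U V k)).obj dA.G) ⟶
      (Modules.pullback (pbMap E j₀ (U ⊓ V).ι f)).obj ((restrictFunctor (qK E j₀ U V k)).obj dB.G)) :
    (restrictFunctor (pK E j₀ U V l)).obj (trA f dA).G ⟶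
      (restrictFunctor (qK E j₀ U V l)).obj (trB f dB).G :=
  (can (pK E j₀ U V k) (pK E j₀ U V l) (pbMap E j₀ U.ι f) (pbMap E j₀ (U ⊓ V).ι f)
      (wtA f)).hom.app dA.G ≫ m ≫
    (can (qK E j₀ U V k) (qK E j₀ U V l) (pbMap E j₀ V.ι f) (pbMap E j₀ (U ⊓ V).ι f)
      (wtB f)).inv.app dB.G

instance {k l : Over j₀} (f : l ⟶ k)
    (dA : DescAt (pbProj E c j₀ U.ι k) (FY E c j₀ F U))
    (dB : DescAt (pbProj E c j₀ V.ι k) (FY E c j₀ F V))
    (m : (Modules.pullback (pbMap E j₀ (U ⊓ V).ι f)).obj ((restrictFunctor (pK E j₀ U V k)).obj dA.G) ⟶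
      (Modules.pullback (pbMap E j₀ (U ⊓ V).ι f)).obj ((restrictFunctor (qK E j₀ U V k)).obj dB.G))
    [hm : IsIso m] : IsIso (trχ f dA dB m) := by
  have i1 : IsIso ((can (pK E j₀ U V k) (pK E j₀ U V l) (pbMap E j₀ U.ι f) (pbMap E j₀ (U ⊓ V).ι f)
      (wtA f)).hom.app dA.G) := inferInstance
  have i3 : IsIso ((can (qK E j₀ U V k) (qK E j₀ U V l) (pbMap E j₀ V.ι f) (pbMap E j₀ (U ⊓ V).ι f)
      (wtB f)).inv.app dB.G) := inferInstance
  exact @IsIso.comp_isIso _ _ _ _ _ _ _ i1 (@IsIso.comp_isIso _ _ _ _ _ _ _ hm i3)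

theorem compat_trχ {k l : Over j₀} (f : l ⟶ k)
    (dA : DescAt (pbProj E c j₀ U.ι k) (FY E c j₀ F U))
    (dB : DescAt (pbProj E c j₀ V.ι k) (FY E c j₀ F V))
    (m : (Modules.pullback (pbMap E j₀ (U ⊓ V).ι f)).obj ((restrictFunctor (pK E j₀ U V k)).obj dA.G) ⟶
      (Modules.pullback (pbMap E j₀ (U ⊓ V).ι f)).obj ((restrictFunctor (qK E j₀ U V k)).obj dB.G))
    (hm : m ≫ ModBC62.op1 (pbMap E j₀ (U ⊓ V).ι f) (pbProj E c j₀ (U ⊓ V).ι l)
        (pbProj E c j₀ (U ⊓ V).ι k) (pbProj_pbMap E c j₀ (U ⊓ V).ι f) (θBk dB) =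
      ModBC62.op1 (pbMap E j₀ (U ⊓ V).ι f) (pbProj E c j₀ (U ⊓ V).ι l)
        (pbProj E c j₀ (U ⊓ V).ι k) (pbProj_pbMap E c j₀ (U ⊓ V).ι f) (θAk dA)) :
    Compat (trA f dA) (trB f dB) (trχ f dA dB m) := by
  unfold Compat
  rw [θAk_trA, θBk_trB, ← hm]
  exact cat_aux _ _ _ _ _ (Iso.inv_hom_id_app _ _)

instance isIso_sharpπ_θAk {k : Over j₀} (dA : DescAt (pbProj E c j₀ U.ι k) (FY E c j₀ F U)) :
    IsIso (sharpπ (pbProj E c j₀ (U ⊓ V).ι k) (θAk (V := V) dA)) := by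
  haveI := dA.cart
  unfold θAk θAC
  rw [sharpπ_map]
  infer_instance

instance isIso_sharpπ_θBk {k : Over j₀} (dB : DescAt (pbProj E c j₀ V.ι k) (FY E c j₀ F V)) :
    IsIso (sharpπ (pbProj E c j₀ (U ⊓ V).ι k) (θBk (U := U) dB)) := by
  haveI := dB.cart
  unfold θBk θBC
  rw [sharpπ_map]
  infer_instance

end Sys

section Restr

variable {X Y : Scheme.{u}} (f : Y ⟶ X) [IsOpenImmersion f] (M : X.Modules)

theorem isFP_restrict [SheafOfModules.IsFinitePresentation (R := X.ringCatSheaf) M] :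
    SheafOfModules.IsFinitePresentation (R := Y.ringCatSheaf) ((restrictFunctor f).obj M) := by
  have h := Groth.Agent.Lib.Fitting82.isFinitePresentation_pullback f M
  exact (SheafOfModules.isFinitePresentation Y.ringCatSheaf).prop_of_iso
    ((restrictFunctorIsoPullback f).app M).symm h

end Restr

section Steps

variable {J : Type u} [Category.{u} J] [IsCofiltered J] {E : J ⥤ Scheme.{u}}
  [∀ {i j} (φ : i ⟶ j), IsAffineHom (E.map φ)] {c : Cone E} (hc : IsLimit c) {j₀ : J}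
  {U V : (E.obj j₀).Opens} {F : c.pt.Modules}
  [CompactSpace (U ⊓ V).toScheme] [QuasiSeparatedSpace (U ⊓ V).toScheme]

include hc in
theorem stepHom {k : Over j₀} (dA : DescAt (pbProj E c j₀ U.ι k) (FY E c j₀ F U))
    (dB : DescAt (pbProj E c j₀ V.ι k) (FY E c j₀ F V)) :
    ∃ (l : Over j₀) (f : l ⟶ k)
      (χ : (restrictFunctor (pK E j₀ U V l)).obj (trA f dA).G ⟶
        (restrictFunctor (qK E j₀ U V l)).obj (trB f dB).G),
      Compat (trA f dA) (trB f dB) χ := by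
  haveI := dA.qc
  haveI := dB.qc
  haveI := dA.fp
  haveI := dB.fp
  let F₀ : ((pbDiagram E j₀ (U ⊓ V).ι).obj k).Modules := (restrictFunctor (pK E j₀ U V k)).obj dA.G
  let G₀ : ((pbDiagram E j₀ (U ⊓ V).ι).obj k).Modules := (restrictFunctor (qK E j₀ U V k)).obj dB.G
  haveI : F₀.IsQuasicoherent :=
    inferInstanceAs ((restrictFunctor (pK E j₀ U V k)).obj dA.G).IsQuasicoherent
  haveI : G₀.IsQuasicoherent :=
    inferInstanceAs ((restrictFunctor (qK E j₀ U V k)).obj dB.G).IsQuasicoherent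
  haveI : F₀.IsFinitePresentation := isFP_restrict (pK E j₀ U V k) dA.G
  haveI i2 : IsIso (sharpπ (pbProj E c j₀ (U ⊓ V).ι k) (θBk (U := U) dB)) := isIso_sharpπ_θBk dB
  let h₀ := sharpπ (pbProj E c j₀ (U ⊓ V).ι k) (θAk (V := V) dA) ≫
      inv (sharpπ (pbProj E c j₀ (U ⊓ V).ι k) (θBk (U := U) dB))
  let h : (Modules.pullback ((pbCone E c j₀ (U ⊓ V).ι).π.app k)).obj F₀ ⟶
      (Modules.pullback ((pbCone E c j₀ (U ⊓ V).ι).π.app k)).obj G₀ := h₀
  obtain ⟨l, hj, hhj⟩ := Groth.Agent.Lib.H72LimHom.exists_hom_stage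
    (pbDiagram E j₀ (U ⊓ V).ι) (pbCone E c j₀ (U ⊓ V).ι)
    (isLimitPbCone (D := E) (c := c) (i := j₀) (a := (U ⊓ V).ι) hc) k F₀ G₀ h
  refine ⟨l.left, l.hom, trχ l.hom dA dB hj, compat_trχ l.hom dA dB hj ?_⟩
  exact K3 (pbMap E j₀ (U ⊓ V).ι l.hom) (pbProj E c j₀ (U ⊓ V).ι l.left)
    (pbProj E c j₀ (U ⊓ V).ι k) (pbProj_pbMap E c j₀ (U ⊓ V).ι l.hom) (θAk (V := V) dA) (θBk (U := U) dB) hj hhj

include hc in
theorem stepIso {k : Over j₀} (dA : DescAt (pbProj E c j₀ U.ι k) (FY E c j₀ F U))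
    (dB : DescAt (pbProj E c j₀ V.ι k) (FY E c j₀ F V))
    (χ : (restrictFunctor (pK E j₀ U V k)).obj dA.G ⟶ (restrictFunctor (qK E j₀ U V k)).obj dB.G)
    (hχ : Compat dA dB χ) :
    ∃ (l : Over j₀) (f : l ⟶ k)
      (χ' : (restrictFunctor (pK E j₀ U V l)).obj (trA f dA).G ⟶
        (restrictFunctor (qK E j₀ U V l)).obj (trB f dB).G),
      Compat (trA f dA) (trB f dB) χ' ∧ IsIso χ' := by
  haveI := dA.qc
  haveI := dB.qc
  haveI := dA.fp
  haveI := dB.fp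
  let F₀ : ((pbDiagram E j₀ (U ⊓ V).ι).obj k).Modules := (restrictFunctor (pK E j₀ U V k)).obj dA.G
  let G₀ : ((pbDiagram E j₀ (U ⊓ V).ι).obj k).Modules := (restrictFunctor (qK E j₀ U V k)).obj dB.G
  haveI : F₀.IsQuasicoherent :=
    inferInstanceAs ((restrictFunctor (pK E j₀ U V k)).obj dA.G).IsQuasicoherent
  haveI : G₀.IsQuasicoherent :=
    inferInstanceAs ((restrictFunctor (qK E j₀ U V k)).obj dB.G).IsQuasicoherent
  haveI hF₀ : F₀.IsFinitePresentation := isFP_restrict (pK E j₀ U V k) dA.G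
  haveI hG₀ : G₀.IsFinitePresentation := isFP_restrict (qK E j₀ U V k) dB.G
  have hFT : F₀.IsFiniteType :=
    Groth.Agent.Lib.H72LimLocFree.isFiniteType_of_isFinitePresentation F₀
  haveI i1 : IsIso (sharpπ (pbProj E c j₀ (U ⊓ V).ι k) (θAk (V := V) dA)) := isIso_sharpπ_θAk dA
  haveI i2 : IsIso (sharpπ (pbProj E c j₀ (U ⊓ V).ι k) (θBk (U := U) dB)) := isIso_sharpπ_θBk dB
  have hlim : IsIso ((Modules.pullback (pbProj E c j₀ (U ⊓ V).ι k)).map χ) :=
    isIso_pullback_of_compat (pbProj E c j₀ (U ⊓ V).ι k) (θAk (V := V) dA) (θBk (U := U) dB) χ hχ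
  let χ₀ : F₀ ⟶ G₀ := χ
  obtain ⟨l, f, hf⟩ := (Groth.Agent.Lib.H72LimMod2.isIso_iff (D := pbDiagram E j₀ (U ⊓ V).ι)
    (c := pbCone E c j₀ (U ⊓ V).ι)
    (isLimitPbCone (D := E) (c := c) (i := j₀) (a := (U ⊓ V).ι) hc) k hFT hG₀ χ₀).mp hlim
  haveI hf' : IsIso ((Modules.pullback (pbMap E j₀ (U ⊓ V).ι f)).map χ) := hf
  refine ⟨l, f, trχ f dA dB ((Modules.pullback (pbMap E j₀ (U ⊓ V).ι f)).map χ), compat_trχ f dA dB _ ?_,
    inferInstance⟩
  rw [← op1_comp]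
  congr 1

theorem stepGlue (hUV : U ⊔ V = ⊤) {k : Over j₀}
    (dA : DescAt (pbProj E c j₀ U.ι k) (FY E c j₀ F U))
    (dB : DescAt (pbProj E c j₀ V.ι k) (FY E c j₀ F V))
    (χ : (restrictFunctor (pK E j₀ U V k)).obj dA.G ⟶ (restrictFunctor (qK E j₀ U V k)).obj dB.G)
    (hχ : Compat dA dB χ) [IsIso χ] : Nonempty (DescAt (c.π.app k.left) F) := by
  haveI := dA.cart
  haveI := dB.cart
  have sqC : IsPullback (pbProj E c j₀ (U ⊓ V).ι k)
      (pI E c j₀ U V ≫ pullback.snd U.ι (c.π.app j₀))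
      (pK E j₀ U V k ≫ pullback.snd U.ι (E.map k.hom)) (c.π.app k.left) := by
    have h := isPullback_pbProj E c j₀ (U ⊓ V).ι k
    rwa [← inclMap_snd (inf_le_left : U ⊓ V ≤ U) (c.π.app j₀),
      ← inclMap_snd (inf_le_left : U ⊓ V ≤ U) (E.map k.hom)] at h
  obtain ⟨G, α, β, θ, hθ⟩ := exists_glue (sqK E j₀ U V k) (sqI E c j₀ U V)
    (isPullback_pbProj E c j₀ U.ι k) (isPullback_pbProj E c j₀ V.ι k) sqC
    (wpK E c j₀ U V k) (wqK E c j₀ U V k) (cover_snd hUV (E.map k.hom))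
    (cover_snd hUV (c.π.app j₀)) F dA.θ dB.θ χ hχ
  haveI := dA.qc
  haveI := dB.qc
  haveI := dA.fp
  haveI := dB.fp
  haveI : ((restrictFunctor (pullback.snd U.ι (E.map k.hom))).obj G).IsQuasicoherent :=
    (SheafOfModules.isQuasicoherent (pullback U.ι (E.map k.hom)).ringCatSheaf).prop_of_iso α.symm
      dA.qc
  haveI : ((restrictFunctor (pullback.snd V.ι (E.map k.hom))).obj G).IsQuasicoherent :=
    (SheafOfModules.isQuasicoherent (pullback V.ι (E.map k.hom)).ringCatSheaf).prop_of_iso β.symm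
      dB.qc
  haveI : SheafOfModules.IsFinitePresentation (R := Scheme.ringCatSheaf _)
      ((restrictFunctor (pullback.snd U.ι (E.map k.hom))).obj G) :=
    (SheafOfModules.isFinitePresentation (pullback U.ι (E.map k.hom)).ringCatSheaf).prop_of_iso
      α.symm dA.fp
  haveI : SheafOfModules.IsFinitePresentation (R := Scheme.ringCatSheaf _)
      ((restrictFunctor (pullback.snd V.ι (E.map k.hom))).obj G) :=
    (SheafOfModules.isFinitePresentation (pullback V.ι (E.map k.hom)).ringCatSheaf).prop_of_iso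
      β.symm dB.fp
  exact ⟨{ G := G
           qc := isQuasicoherent_of_two _ _ (cover_snd hUV (E.map k.hom)) G
           fp := isFinitePresentation_of_two _ _ (cover_snd hUV (E.map k.hom)) G
           θ := θ
           cart := hθ }⟩

include hc in
/-- **The gluing step**: descent data over `U` and over `V` (at possibly different stages) give a
descent datum over `U ⊔ V = ⊤`. -/
theorem step (hUV : U ⊔ V = ⊤) {k₁ k₂ : Over j₀}
    (dA : DescAt (pbProj E c j₀ U.ι k₁) (FY E c j₀ F U))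
    (dB : DescAt (pbProj E c j₀ V.ι k₂) (FY E c j₀ F V)) :
    ∃ l : Over j₀, Nonempty (DescAt (c.π.app l.left) F) := by
  obtain ⟨l, f, χ, hχ⟩ := stepHom hc (trA (IsCofiltered.minToLeft k₁ k₂) dA)
    (trB (IsCofiltered.minToRight k₁ k₂) dB)
  obtain ⟨l', f', χ', hχ', hiso⟩ := stepIso hc _ _ χ hχ
  exact ⟨l', stepGlue hUV _ _ χ' hχ'⟩

end Steps

end Groth.Agent.Lib.ModDesc62
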