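import Groth.Agent.Lib.ApproxProperFlat21
import Groth.Agent.Lib.BCPropTransfer21
import Groth.Agent.Lib.FibreOpen21
import Groth.Agent.Lib.FibreModelH44
import Groth.Agent.Lib.ModDesc62Step

/-!
# The fibre dictionary over an affine open of an ARBITRARY base (helper21)

`f : X ⟶ Y` proper of finite presentation, `F` a finitely presented `O_X`-module flat over `Y`, `V ⊆ Y` an affine open with
ring `A = Γ(↑V, ⊤)` (no Noetherian hypothesis).  By Noetherian approximation there are a finitely generated `ℤ`-subalgebra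
`A₀ ⊆ A` and a complex `L₀` of finite free `A₀`-modules, bounded above, with `T^p_{L₀} = 0` for `p < 0`, such that
`L₀ ⊗_{A₀} A` has the base change property for `F|_{f⁻¹V}` and `dim H^p(X_z, F_z) = d_p(L₀)(x_z ∩ A₀)` for all `z ∈ V`.
-/

set_option autoImplicit false
set_option linter.style.haveILetI false
universe u

open CategoryTheory CategoryTheory.Limits AlgebraicGeometry Opposite CohIII

namespace Groth.Agent.Lib.FibreOpenGen21

open Groth.Agent.Lib.FibreOpen21 Groth.Agent.Lib.FibreDict21 Groth.Agent.Lib.ConsLocusMod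

variable {X Y : Scheme.{u}} (f : X ⟶ Y) {V : Y.Opens}

set_option maxHeartbeats 1000000 in
theorem exists_model_V_gen [IsProper f] [LocallyOfFinitePresentation f] (F : X.Modules)
    (hF : CohB1.IsFP F) (hfl : FlatMod.IsFlatOver f F) (hV : IsAffineOpen V) :
    letI := overV f hV
    ∃ (A₀ : Subalgebra ℤ (AV V)) (_ : A₀.FG) (_ : IsNoetherianRing ↥A₀)
      (L₀ : CochainComplex (ModuleCat.{u} ↥A₀) ℤ),
      (∀ i, Module.Finite ↥A₀ (L₀.X i) ∧ Module.Free ↥A₀ (L₀.X i)) ∧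
      (∃ b : ℤ, ∀ i, b < i → IsZero (L₀.X i)) ∧
      (∀ p : ℤ, p < 0 → ∀ M : ModuleCat.{u} ↥A₀, IsZero ((TFun L₀ p).obj M)) ∧
      BCProp (AV V) (F.restrict (f ⁻¹ᵁ V).ι) (bcCx (algebraMap ↥A₀ (AV V)) L₀) ∧
      ∀ (z : Y) (hz : z ∈ V.ι ''ᵁ ⊤) (p : ℕ),
        CohIII.fiberRank f F p z =
          dRank L₀ (p : ℤ) (PrimeSpectrum.comap (algebraMap ↥A₀ (AV V)) (xV hV z hz)) := by
  letI := overV f hV
  haveI := isProper_V f hV
  haveI : IsAffine V.toScheme := hV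
  haveI : LocallyOfFinitePresentation ((f ⁻¹ᵁ V).toScheme ↘ Spec (CommRingCat.of (AV V))) :=
    (inferInstance : LocallyOfFinitePresentation (f ∣_ V ≫ V.toScheme.isoSpec.hom))
  haveI : SheafOfModules.IsFinitePresentation (R := X.ringCatSheaf) F := hF
  have hF' : CohB1.IsFP (F.restrict (f ⁻¹ᵁ V).ι) :=
    Groth.Agent.Lib.ModDesc62.isFP_restrict (f ⁻¹ᵁ V).ι F
  have hfl' := isFlatOver_V f F (isCoh_of_isFP F hF) hfl hV
  obtain ⟨A₀, hfg, X₀, f₀, g₀, F₀, hprop, hlfp, sq, hF₀, hfl₀, ⟨β⟩⟩ :=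
    Groth.Agent.Lib.ApproxProperFlat21.exists_model_mod_flat_proper (AV V)
      ((f ⁻¹ᵁ V).toScheme ↘ Spec (CommRingCat.of (AV V))) (F.restrict (f ⁻¹ᵁ V).ι) hF' hfl'
  haveI : Algebra.FiniteType ℤ ↥A₀ := (Subalgebra.fg_iff_finiteType A₀).mp hfg
  haveI hN : IsNoetherianRing ↥A₀ := Algebra.FiniteType.isNoetherianRing ℤ ↥A₀
  letI : X₀.Over (Spec (CommRingCat.of ↥A₀)) := ⟨f₀⟩
  haveI : IsProper (X₀ ↘ Spec (CommRingCat.of ↥A₀)) := hprop
  obtain ⟨L₀, h1, h2, -, h4, h5⟩ := Groth.Agent.Lib.FibreModelH44.exists_model_bc ↥A₀ X₀ F₀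
    (isCoh_of_isFP F₀ hF₀) hfl₀
  have hBC : BCProp (AV V) (F.restrict (f ⁻¹ᵁ V).ι) (bcCx (algebraMap ↥A₀ (AV V)) L₀) :=
    Groth.Agent.Lib.BCPropTransfer21.bcProp_of_isPullback (algebraMap ↥A₀ (AV V)) g₀ sq F₀
      (F.restrict (f ⁻¹ᵁ V).ι) β.symm L₀ h5
  refine ⟨A₀, hfg, hN, L₀, h1, h2, h4, hBC, fun z hz p => ?_⟩
  letI := algV z hz
  rw [fiberRank_eq_dRank f z (AV V) (f ⁻¹ᵁ V).ι (iV hV) (isPullback_V f hV)
      (specAlg_iV hV z hz) (xV hV z hz) (thetaV hV z hz) (thetaV_algebraMap hV z hz) F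
      (F.restrict (f ⁻¹ᵁ V).ι) (alphaV f F) (bcCx (algebraMap ↥A₀ (AV V)) L₀) hBC p]
  exact Groth.Agent.Lib.DRankBC.dRank_bcCx L₀ (p : ℤ) (xV hV z hz)

section Points

variable {Y : Scheme.{u}}

theorem exists_affine_nbhd (y : Y) : ∃ V : Y.Opens, IsAffineOpen V ∧ y ∈ V.ι ''ᵁ ⊤ := by
  obtain ⟨_, ⟨V, hV, rfl⟩, hyV, -⟩ :=
    Y.isBasis_affineOpens.exists_subset_of_mem_open (Set.mem_univ y) isOpen_univ
  refine ⟨V, hV, ?_⟩
  rw [Scheme.Opens.ι_image_top]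
  exact hyV

/-- the prime of the point `hW.fromSpec x` is `x` -/
theorem xV_fromSpec {V : Y.Opens} (hV : IsAffineOpen V) (x : PrimeSpectrum (AV V))
    (hmem : (isAffineOpen_W hV).fromSpec x ∈ V.ι ''ᵁ ⊤) :
    xV hV ((isAffineOpen_W hV).fromSpec x) hmem = x := by
  change (isAffineOpen_W hV).isoSpec.hom ⟨(isAffineOpen_W hV).fromSpec x, hmem⟩ = x
  have h : (⟨(isAffineOpen_W hV).fromSpec x, hmem⟩ : ↥(V.ι ''ᵁ ⊤)) =
      (isAffineOpen_W hV).isoSpec.inv x := Subtype.ext rfl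
  rw [h, ← Scheme.Hom.comp_apply, Iso.inv_hom_id]
  rfl

theorem fromSpec_mem {V : Y.Opens} (hV : IsAffineOpen V) (x : PrimeSpectrum (AV V)) :
    (isAffineOpen_W hV).fromSpec x ∈ V.ι ''ᵁ ⊤ :=
  ((isAffineOpen_W hV).isoSpec.inv x).2

end Points

end Groth.Agent.Lib.FibreOpenGen21
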