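import Groth.Agent.Lib.FibreStalkChart
import Groth.Agent.Lib.DimIneqLocal

/-!
# Generic points of fibre components when only the local ring of the base is Noetherian (helper63)

Variants of `FibreStalkChart.exists_minimalPrimes_height_add_le` and
`FibreStalkChart.exists_generization_fibre_generic` with finiteness of heights in place of
Noetherian hypotheses.
-/

set_option autoImplicit false
universe u

namespace Groth.Agent.Lib.FibreStalkChartLocal

open CategoryTheory AlgebraicGeometry IsLocalRing Groth.Agent.Lib.DimIneqCore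
  Groth.Agent.Lib.DimIneqScheme Groth.Agent.Lib.FibreStalkChart Groth.Agent.Lib.DimIneqLocal

section Alg

variable {R : Type*} [CommRing R]

theorem exists_minimalPrimes_height_le' (q : Ideal R) [q.IsPrime] (hfin : q.height ≠ ⊤) :
    ∃ Q₀ ∈ minimalPrimes R, Q₀ ≤ q ∧ q.height ≤ (q.map (Ideal.Quotient.mk Q₀)).height := by
  by_contra hcon
  push Not at hcon
  obtain ⟨n, hn⟩ := ENat.ne_top_iff_exists.mp hfin
  cases n with
  | zero =>
    obtain ⟨Q₀, hQ₀, hle⟩ := Ideal.exists_minimalPrimes_le (bot_le : (⊥ : Ideal R) ≤ q)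
    have := hcon Q₀ hQ₀ hle
    rw [← hn] at this
    exact absurd this (by simp)
  | succ m =>
    have h1 : q.height ≤ m := by
      refine height_le_of_forall_minimalPrimes m q (fun Q₀ hQ₀ hle => ?_)
      have := hcon Q₀ hQ₀ hle
      rw [← hn, Nat.cast_succ] at this
      exact (ENat.lt_add_one_iff (ENat.natCast_ne_top m)).mp this
    rw [← hn] at h1
    have : (m + 1 : ℕ) ≤ m := by exact_mod_cast h1
    omega

variable {B : Type u} [CommRing B]

theorem exists_minimalPrimes_height_add_le' (I q : Ideal B) [q.IsPrime]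
    (hIq : I ≤ q) (hfin : q.height ≠ ⊤) :
    ∃ Q : Ideal B, Q ∈ I.minimalPrimes ∧ Q ≤ q ∧ (Q.map (Ideal.Quotient.mk I)).height = 0 ∧
      Q.height + (q.map (Ideal.Quotient.mk I)).height ≤ q.height := by
  haveI hq' : (q.map (Ideal.Quotient.mk I)).IsPrime := isPrime_map_mk I q hIq
  have hfin' : (q.map (Ideal.Quotient.mk I)).height ≠ ⊤ := by
    intro h
    have := height_map_mk_le I q hIq
    rw [h, top_le_iff] at this
    exact hfin this
  obtain ⟨Q₀', hQ₀', hle', hht'⟩ :=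
    exists_minimalPrimes_height_le' (q.map (Ideal.Quotient.mk I)) hfin'
  haveI hQ₀'prime : Q₀'.IsPrime := hQ₀'.1.1
  have hQmin : Q₀'.comap (Ideal.Quotient.mk I) ∈ I.minimalPrimes := by
    rw [Ideal.minimalPrimes_eq_comap]
    exact ⟨Q₀', hQ₀', rfl⟩
  haveI hQprime : (Q₀'.comap (Ideal.Quotient.mk I)).IsPrime := hQmin.1.1
  have hIQ : I ≤ Q₀'.comap (Ideal.Quotient.mk I) := hQmin.1.2
  have hQq : Q₀'.comap (Ideal.Quotient.mk I) ≤ q := by
    have := Ideal.comap_mono (f := Ideal.Quotient.mk I) hle'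
    rwa [comap_map_mk_eq I q hIq] at this
  have hmap : (Q₀'.comap (Ideal.Quotient.mk I)).map (Ideal.Quotient.mk I) = Q₀' :=
    Ideal.map_comap_of_surjective _ Ideal.Quotient.mk_surjective Q₀'
  refine ⟨Q₀'.comap (Ideal.Quotient.mk I), hQmin, hQq, ?_, ?_⟩
  · rw [hmap]
    exact Ideal.height_eq_zero_iff.mpr hQ₀'
  · let E : ((B ⧸ I) ⧸ Q₀') ≃+* (B ⧸ Q₀'.comap (Ideal.Quotient.mk I)) :=
      (Ideal.quotEquivOfEq hmap.symm).trans (DoubleQuot.quotQuotEquivQuotOfLE hIQ)
    have hE : ∀ b : B, E (Ideal.Quotient.mk Q₀' (Ideal.Quotient.mk I b)) =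
        Ideal.Quotient.mk (Q₀'.comap (Ideal.Quotient.mk I)) b := fun b => rfl
    have hcomap : (q.map (Ideal.Quotient.mk (Q₀'.comap (Ideal.Quotient.mk I)))).comap
        (E : ((B ⧸ I) ⧸ Q₀') →+* _) =
        (q.map (Ideal.Quotient.mk I)).map (Ideal.Quotient.mk Q₀') := by
      ext y
      obtain ⟨y', rfl⟩ := Ideal.Quotient.mk_surjective y
      obtain ⟨b, rfl⟩ := Ideal.Quotient.mk_surjective y'
      rw [Ideal.mem_comap]
      change E _ ∈ _ ↔ _
      rw [hE b, Ideal.mem_quotient_iff_mem hQq, Ideal.mem_quotient_iff_mem hle',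
        Ideal.mem_quotient_iff_mem hIq]
    have hheq : ((q.map (Ideal.Quotient.mk I)).map (Ideal.Quotient.mk Q₀')).height =
        (q.map (Ideal.Quotient.mk (Q₀'.comap (Ideal.Quotient.mk I)))).height := by
      rw [← hcomap]
      exact RingEquiv.height_comap E _
    rw [hheq] at hht'
    calc (Q₀'.comap (Ideal.Quotient.mk I)).height + (q.map (Ideal.Quotient.mk I)).height
        ≤ (Q₀'.comap (Ideal.Quotient.mk I)).height +
          (q.map (Ideal.Quotient.mk (Q₀'.comap (Ideal.Quotient.mk I)))).height := by gcongr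
      _ ≤ q.height := Groth.Agent.Lib.Faltings53.height_add_quot_le _ q hQq

end Alg

section Sch

variable {X S : Scheme.{u}} (f : X ⟶ S)

/-- For `f` locally of finite type and `x` a point with `O_{S,f x}` Noetherian, `x` has a
generization `z` in the same fibre which is a generic point of the fibre (its fibre local ring has
dimension `0`), such that `dim O_{X,z} + dim O_{X_{f x},x} ≤ dim O_{X,x}`. -/
theorem exists_generization_fibre_generic_local [LocallyOfFiniteType f] (x : X)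
    [IsNoetherianRing (S.presheaf.stalk (f x))] :
    ∃ z : X, z ⤳ x ∧ f z = f x ∧
      ringKrullDim ((f.fiber (f z)).presheaf.stalk (f.asFiber z)) = 0 ∧
      ringKrullDim (X.presheaf.stalk z) +
        ringKrullDim ((f.fiber (f x)).presheaf.stalk (f.asFiber x)) ≤
        ringKrullDim (X.presheaf.stalk x) := by
  obtain ⟨V, hV, hfxV⟩ : ∃ V : S.Opens, IsAffineOpen V ∧ f x ∈ V := by
    obtain ⟨_, ⟨V, hV, rfl⟩, hxV, -⟩ := S.isBasis_affineOpens.exists_subset_of_mem_open
      (Set.mem_univ (f x)) isOpen_univ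
    exact ⟨V, hV, hxV⟩
  obtain ⟨U, hU, hx, e⟩ : ∃ U : X.Opens, IsAffineOpen U ∧ x ∈ U ∧ U ≤ f ⁻¹ᵁ V := by
    obtain ⟨_, ⟨U, hU, rfl⟩, hxU, hUV⟩ := X.isBasis_affineOpens.exists_subset_of_mem_open
      (show x ∈ ((f ⁻¹ᵁ V : X.Opens) : Set X) from hfxV) (f ⁻¹ᵁ V).isOpen
    exact ⟨U, hU, hxU, hUV⟩
  letI alg := (f.appLE V U e).hom.toAlgebra
  haveI : Algebra.FiniteType Γ(S, V) Γ(X, U) := f.finiteType_appLE hV hU e
  have hunder : (hU.primeIdealOf ⟨x, hx⟩).asIdeal.under Γ(S, V) =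
      (hV.primeIdealOf ⟨f x, e hx⟩).asIdeal :=
    congrArg PrimeSpectrum.asIdeal (IsAffineOpen.comap_primeIdealOf_appLE V hV U hU e hx)
  haveI : IsNoetherianRing (Localization.AtPrime
      ((hU.primeIdealOf ⟨x, hx⟩).asIdeal.under Γ(S, V))) :=
    isNoetherianRing_localization_of_stalk hV (f x) (e hx) _ hunder
  obtain ⟨hfin1, -⟩ := height_ne_top_local (R := Γ(S, V)) (hU.primeIdealOf ⟨x, hx⟩).asIdeal
  obtain ⟨I, hI⟩ : ∃ I : Ideal Γ(X, U),
      I = ((hU.primeIdealOf ⟨x, hx⟩).asIdeal.under Γ(S, V)).map (algebraMap Γ(S, V) Γ(X, U)) :=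
    ⟨_, rfl⟩
  have hIq : I ≤ (hU.primeIdealOf ⟨x, hx⟩).asIdeal := by
    rw [hI, Ideal.map_le_iff_le_comap]
  obtain ⟨Q, hQmin, hQq, hQ0, hsum⟩ :=
    exists_minimalPrimes_height_add_le' I (hU.primeIdealOf ⟨x, hx⟩).asIdeal hIq hfin1
  haveI hQprime : Q.IsPrime := hQmin.1.1
  have hIQ : I ≤ Q := hQmin.1.2
  let P : Spec Γ(X, U) := ⟨Q, hQprime⟩
  have hzU : hU.fromSpec P ∈ U := by
    have : hU.fromSpec P ∈ Set.range hU.fromSpec := Set.mem_range_self P
    rwa [hU.range_fromSpec] at this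
  have hP : hU.primeIdealOf ⟨hU.fromSpec P, hzU⟩ = P :=
    hU.fromSpec.isOpenEmbedding.injective (hU.fromSpec_primeIdealOf ⟨_, hzU⟩)
  have hPQ : (hU.primeIdealOf ⟨hU.fromSpec P, hzU⟩).asIdeal = Q :=
    congrArg PrimeSpectrum.asIdeal hP
  have hund : Q.under Γ(S, V) = (hU.primeIdealOf ⟨x, hx⟩).asIdeal.under Γ(S, V) := by
    apply le_antisymm (Ideal.comap_mono hQq)
    refine le_trans ?_ (Ideal.comap_mono hIQ)
    rw [hI]
    exact Ideal.le_comap_map
  have hfz : f (hU.fromSpec P) = f x := by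
    have h2 : (hU.primeIdealOf ⟨hU.fromSpec P, hzU⟩).asIdeal.under Γ(S, V) =
        (hV.primeIdealOf ⟨f (hU.fromSpec P), e hzU⟩).asIdeal :=
      congrArg PrimeSpectrum.asIdeal (IsAffineOpen.comap_primeIdealOf_appLE V hV U hU e hzU)
    rw [hP] at h2
    have h3 : hV.primeIdealOf ⟨f (hU.fromSpec P), e hzU⟩ = hV.primeIdealOf ⟨f x, e hx⟩ := by
      apply PrimeSpectrum.ext
      rw [← h2, ← hunder]
      exact hund
    have h4 := congrArg hV.fromSpec h3
    rwa [hV.fromSpec_primeIdealOf ⟨_, e hzU⟩, hV.fromSpec_primeIdealOf ⟨_, e hx⟩] at h4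
  refine ⟨hU.fromSpec P, ?_, hfz, ?_, ?_⟩
  · have h1 : P ⤳ hU.primeIdealOf ⟨x, hx⟩ := (PrimeSpectrum.le_iff_specializes P _).mp hQq
    have h2 := h1.map hU.fromSpec.continuous
    rwa [hU.fromSpec_primeIdealOf ⟨x, hx⟩] at h2
  · rw [ringKrullDim_fibre_stalk_eq f hU hV e (hU.fromSpec P) hzU I (by rw [hPQ, hund, hI]), hPQ,
      hQ0]
    rfl
  · have hdimx : ringKrullDim (X.presheaf.stalk x) = (hU.primeIdealOf ⟨x, hx⟩).asIdeal.height := by
      letI := X.presheaf.algebra_section_stalk ⟨x, hx⟩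
      haveI := hU.isLocalization_stalk ⟨x, hx⟩
      exact IsLocalization.AtPrime.ringKrullDim_eq_height _ _
    have hdimz : ringKrullDim (X.presheaf.stalk (hU.fromSpec P)) = Q.height := by
      letI := X.presheaf.algebra_section_stalk ⟨hU.fromSpec P, hzU⟩
      haveI := hU.isLocalization_stalk ⟨hU.fromSpec P, hzU⟩
      rw [hP] at this
      exact IsLocalization.AtPrime.ringKrullDim_eq_height Q _
    rw [hdimx, hdimz, ringKrullDim_fibre_stalk_eq f hU hV e x hx I hI]
    exact_mod_cast hsum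

end Sch

end Groth.Agent.Lib.FibreStalkChartLocal
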