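import Groth.Agent.Lib.LBaseChangeFlat
import Groth.Agent.Lib.DRingPCoh21D
import Groth.Prelude.Def_ega3

/-!
# Mumford's finite free model of a flat complex with finite cohomology (helper21)

Mumford, Abelian varieties II.5, Lemmas 1-2 (Hartshorne III.12.3, EGA III 6.10.5): over a Noetherian ring `A`, a bounded
above complex `C` of flat `A`-modules with finite cohomology modules admits a quasi-isomorphism `f : L ⟶ C` from a bounded
above complex of finite free modules, and `f ⊗ M` is a quasi-isomorphism for every `A`-module `M`.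

* `exists_lift_of_iso`: an isomorphism `Q L ≅ Q C` with `L` K-projective is `Q f` for a quasi-isomorphism `f : L ⟶ C`.
* `exists_finite_free_model`.
* `TFunIso`: the natural isomorphism `CohIII.TFun L p ≅ CohIII.TFun C p` of functors `M ↦ H^p(- ⊗ M)`.
* `exists_finite_free_model_TFun`: packaged form.
-/

set_option autoImplicit false
universe u
open CategoryTheory CategoryTheory.Limits MonoidalCategory

namespace Groth.Agent.Lib.MumfordCx21

section KProj

variable {C : Type*} [Category C] [Abelian C] [HasDerivedCategory C]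

/-- a morphism `Q L ⟶ Q K` in the derived category with `L` K-projective is `Q f` for a chain map `f` -/
theorem exists_lift_of_hom (L K : CochainComplex C ℤ) [L.IsKProjective]
    (φ : DerivedCategory.Q.obj L ⟶ DerivedCategory.Q.obj K) :
    ∃ f : L ⟶ K, DerivedCategory.Q.map f = φ := by
  obtain ⟨f', hf'⟩ := (CochainComplex.IsKProjective.Qh_map_bijective L
    ((HomotopyCategory.quotient _ _).obj K)).surjective
    ((DerivedCategory.quotientCompQhIso C).hom.app L ≫ φ ≫
      (DerivedCategory.quotientCompQhIso C).inv.app K)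
  obtain ⟨f, rfl⟩ := (HomotopyCategory.quotient _ _).map_surjective f'
  refine ⟨f, ?_⟩
  have h1 := (DerivedCategory.quotientCompQhIso C).hom.naturality f
  simp only [Functor.comp_map] at h1
  rw [hf'] at h1
  simp only [Category.assoc, Iso.inv_hom_id_app, Category.comp_id] at h1
  exact (cancel_epi ((DerivedCategory.quotientCompQhIso C).hom.app L)).1 h1.symm

theorem exists_lift_of_iso (L K : CochainComplex C ℤ) [L.IsKProjective]
    (e : DerivedCategory.Q.obj L ≅ DerivedCategory.Q.obj K) :
    ∃ f : L ⟶ K, QuasiIso f ∧ DerivedCategory.Q.map f = e.hom := by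
  obtain ⟨f, hf⟩ := exists_lift_of_hom L K e.hom
  refine ⟨f, ?_, hf⟩
  rw [← DerivedCategory.isIso_Q_map_iff_quasiIso, hf]
  infer_instance

end KProj

attribute [local instance] HasDerivedCategory.standard

variable (A : Type u) [CommRing A]

/-- **Mumford's lemma**: finite free model of a bounded above flat complex with finite cohomology. -/
theorem exists_finite_free_model [IsNoetherianRing A] (C : CochainComplex (ModuleCat.{u} A) ℤ)
    (b : ℤ) (hb : ∀ i, b < i → IsZero (C.X i)) (hfl : ∀ i, Module.Flat A (C.X i))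
    (hfin : ∀ i, Module.Finite A (C.homology i)) :
    ∃ (L : CochainComplex (ModuleCat.{u} A) ℤ) (f : L ⟶ C),
      (∀ i, Module.Finite A (L.X i) ∧ Module.Free A (L.X i)) ∧
      (∃ b' : ℤ, ∀ i, b' < i → IsZero (L.X i)) ∧ QuasiIso f ∧
      ∀ M : ModuleCat.{u} A,
        QuasiIso (((tensorRight M).mapHomologicalComplex (ComplexShape.up ℤ)).map f) := by
  have hR : ∀ I : Ideal A, I.FG → Module.FinitePresentation A I := fun I _ =>
    Module.finitePresentation_of_finite A I
  have hbK : ∃ b : ℤ, ∀ i : ℤ, b < i → Subsingleton (Dual.HD A (DerivedCategory.Q.obj C) i) := by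
    refine ⟨b, fun i hi => ?_⟩
    have h0 : IsZero (C.homology i) :=
      (HomologicalComplex.exactAt_iff_isZero_homology _ _).mp
        (HomologicalComplex.ExactAt.of_isZero (hb i hi))
    exact ModuleCat.subsingleton_of_isZero
      (h0.of_iso ((DerivedCategory.homologyFunctorFactors (ModuleCat.{u} A) i).app C))
  have hfp : ∀ i : ℤ, Module.FinitePresentation A (Dual.HD A (DerivedCategory.Q.obj C) i) := by
    intro i
    have e := ((DerivedCategory.homologyFunctorFactors (ModuleCat.{u} A) i).app C).toLinearEquiv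
    have h0 : Module.Finite A
        ((HomologicalComplex.homologyFunctor (ModuleCat.{u} A) (ComplexShape.up ℤ) i).obj C) := hfin i
    have : Module.Finite A (Dual.HD A (DerivedCategory.Q.obj C) i) := Module.Finite.equiv e.symm
    exact Module.finitePresentation_of_finite A _
  obtain ⟨L, b', hb', hL, ⟨e⟩⟩ :=
    (Groth.Agent.Lib.DRingPCoh21.isPseudoCoherent'_iff_of_coherent A hR _ hbK).2 hfp
  have h1 : L.IsStrictlyLE b' := by
    rw [CochainComplex.isStrictlyLE_iff]
    exact hb'
  have h2 : ∀ i, Projective (L.X i) := fun i => by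
    have := (hL i).1
    have := (hL i).2
    exact ModuleCat.projective_of_categoryTheory_projective _
  have := CochainComplex.isKProjective_of_projective L b'
  obtain ⟨f, hf, -⟩ := exists_lift_of_iso L C e
  refine ⟨L, f, hL, ⟨b', hb'⟩, hf, fun M => ?_⟩
  exact Groth.Agent.Lib.LBaseChangeFlat.quasiIso_map_of_flat
    (Groth.Agent.Lib.LBaseChangeFlat.killsFlatAcyclic_tensorRight M) f
    (fun i => by
      have := (hL i).1
      have := (hL i).2
      infer_instance) hfl (max b b')
    (fun i hi => hb' i (lt_of_le_of_lt (le_max_right _ _) hi))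
    (fun i hi => hb i (lt_of_le_of_lt (le_max_left _ _) hi))

variable {A}

/-- the natural isomorphism `H^p(L ⊗ M) ≅ H^p(C ⊗ M)` induced by a universal quasi-isomorphism -/
noncomputable def TFunIso {L C : CochainComplex (ModuleCat.{u} A) ℤ} (f : L ⟶ C)
    (hf : ∀ M : ModuleCat.{u} A,
      QuasiIso (((tensorRight M).mapHomologicalComplex (ComplexShape.up ℤ)).map f)) (p : ℤ) :
    CohIII.TFun L p ≅ CohIII.TFun C p :=
  NatIso.ofComponents
    (fun M => by
      have h0 := hf M
      have : IsIso (HomologicalComplex.homologyMap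
          (((tensorRight M).mapHomologicalComplex (ComplexShape.up ℤ)).map f) p) :=
        (quasiIsoAt_iff_isIso_homologyMap _ p).1 (h0.quasiIsoAt p)
      exact @asIso _ _ _ _ _ this)
    (fun {M N} g => by
      dsimp [CohIII.TFun]
      rw [← HomologicalComplex.homologyMap_comp, ← HomologicalComplex.homologyMap_comp]
      congr 1
      exact ((NatTrans.mapHomologicalComplex ((tensoringRight (ModuleCat.{u} A)).map g)
        (ComplexShape.up ℤ)).naturality f).symm)

lemma TFunIso_hom_app {L C : CochainComplex (ModuleCat.{u} A) ℤ} (f : L ⟶ C)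
    (hf : ∀ M : ModuleCat.{u} A,
      QuasiIso (((tensorRight M).mapHomologicalComplex (ComplexShape.up ℤ)).map f)) (p : ℤ)
    (M : ModuleCat.{u} A) :
    (TFunIso f hf p).hom.app M = HomologicalComplex.homologyMap
      (((tensorRight M).mapHomologicalComplex (ComplexShape.up ℤ)).map f) p := rfl

variable (A)

/-- packaged form: a finite free bounded above `L` with `M ↦ H^p(L ⊗ M)` naturally isomorphic to `M ↦ H^p(C ⊗ M)` -/
theorem exists_finite_free_model_TFun [IsNoetherianRing A] (C : CochainComplex (ModuleCat.{u} A) ℤ)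
    (b : ℤ) (hb : ∀ i, b < i → IsZero (C.X i)) (hfl : ∀ i, Module.Flat A (C.X i))
    (hfin : ∀ i, Module.Finite A (C.homology i)) :
    ∃ (L : CochainComplex (ModuleCat.{u} A) ℤ),
      (∀ i, Module.Finite A (L.X i) ∧ Module.Free A (L.X i)) ∧
      (∃ b' : ℤ, ∀ i, b' < i → IsZero (L.X i)) ∧ ∀ p : ℤ, Nonempty (CohIII.TFun L p ≅ CohIII.TFun C p) := by
  obtain ⟨L, f, h1, h2, -, h4⟩ := exists_finite_free_model A C b hb hfl hfin
  exact ⟨L, h1, h2, fun p => ⟨TFunIso f h4 p⟩⟩

end Groth.Agent.Lib.MumfordCx21
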