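import Groth.Agent.Lib.FibreNakLocD21
import Groth.Agent.Lib.MumfordCx21
import Groth.Agent.Lib.DRankBC
import Groth.Agent.Lib.TFunCompare

/-!
# Finite projective models of prescribed amplitude from fibrewise vanishing (helper44)

Assembly of helper21's fibrewise Nakayama (`FibreNakLocD21.pa_of_forall_maximal`) and Mumford lifting
(`MumfordCx21`): a bounded above complex `L` of finite free modules whose reductions modulo all maximal ideals are
exact outside `[a, b]` can be replaced by a complex `E` of finite projective modules vanishing outside `[a, b]`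
with `H^p(E ⊗ M) ≅ H^p(L ⊗ M)` naturally in `M` (`exists_fp_model`).  Exactness of the reductions from vanishing of
`T`-functors (`exactAt_bc_of_isZero_TFun`) or of `dRank` (`exactAt_bc_of_dRank_eq_zero`).
-/

set_option autoImplicit false
set_option linter.style.haveILetI false
universe u

open CategoryTheory CategoryTheory.Limits MonoidalCategory CohIII

namespace Groth.Agent.Lib.FibreTruncH44

open Groth.Agent.Lib.DRingPCoh21 Groth.Agent.Lib.DRingPerfAmp Groth.Agent.Lib.PCohAmp
  Groth.Agent.Lib.FibreNakD21

attribute [local instance] HasDerivedCategory.standard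

variable {A : Type u} [CommRing A]

/-- **Finite projective model of amplitude `[a, b]`.** -/
theorem exists_fp_model (L : CochainComplex (ModuleCat.{u} A) ℤ) (hL : ∀ i, FF A (L.X i)) (c : ℤ)
    (hc : ∀ i, c < i → IsZero (L.X i)) (a b : ℤ)
    (hex : ∀ (m : Ideal A) [m.IsMaximal], ∀ i, i < a ∨ b < i → (bc m L).ExactAt i) :
    ∃ E : CochainComplex (ModuleCat.{u} A) ℤ,
      (∀ i, Module.Finite A (E.X i) ∧ Module.Projective A (E.X i)) ∧
      (∀ i, i < a ∨ b < i → IsZero (E.X i)) ∧ ∀ p : ℤ, Nonempty (TFun E p ≅ TFun L p) := by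
  obtain ⟨E, h1, h2, ⟨e⟩⟩ := Groth.Agent.Lib.FibreNakLocD21.pa_of_forall_maximal L c hc hL a b hex
  have hEb : ∀ i, b < i → IsZero (E.X i) := fun i hi => h2 i (Or.inr hi)
  have hle : E.IsStrictlyLE b := by
    rw [CochainComplex.isStrictlyLE_iff]
    exact hEb
  have hproj : ∀ i, Projective (E.X i) := fun i => by
    have := (h1 i).1
    have := (h1 i).2
    exact ModuleCat.projective_of_categoryTheory_projective _
  have := CochainComplex.isKProjective_of_projective E b
  obtain ⟨f, hf, -⟩ := Groth.Agent.Lib.MumfordCx21.exists_lift_of_iso E L e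
  have hflE : ∀ i, Module.Flat A (E.X i) := fun i => by
    have := (h1 i).2
    infer_instance
  have hflL : ∀ i, Module.Flat A (L.X i) := fun i => by
    have := (hL i).2
    infer_instance
  have hq : ∀ M : ModuleCat.{u} A,
      QuasiIso (((tensorRight M).mapHomologicalComplex (ComplexShape.up ℤ)).map f) := fun M =>
    Groth.Agent.Lib.LBaseChangeFlat.quasiIso_map_of_flat
      (Groth.Agent.Lib.LBaseChangeFlat.killsFlatAcyclic_tensorRight M) f hflE hflL (max b c)
      (fun i hi => hEb i (lt_of_le_of_lt (le_max_left _ _) hi))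
      (fun i hi => hc i (lt_of_le_of_lt (le_max_right _ _) hi))
  exact ⟨E, h1, h2, fun p => ⟨Groth.Agent.Lib.MumfordCx21.TFunIso f hq p⟩⟩

/-- if `T_i(A/m) = 0` then the reduction of `L` modulo `m` is exact in degree `i` -/
theorem exactAt_bc_of_isZero_TFun (m : Ideal A) (L : CochainComplex (ModuleCat.{u} A) ℤ) (i : ℤ)
    (h : IsZero ((TFun L i).obj (ModuleCat.of A (A ⧸ m)))) : (bc m L).ExactAt i := by
  rw [HomologicalComplex.exactAt_iff_isZero_homology]
  have e := Groth.Agent.Lib.TFunCompare.homologyCompare (A ⧸ m) L i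
  have h1 : IsZero ((Groth.Agent.Lib.TFunCompare.RB (A := A) (A ⧸ m)).obj
      ((bcCx (algebraMap A (A ⧸ m)) L).homology i)) := h.of_iso e
  have h2 : Subsingleton ((Groth.Agent.Lib.TFunCompare.RB (A := A) (A ⧸ m)).obj
      ((bcCx (algebraMap A (A ⧸ m)) L).homology i)) := ModuleCat.subsingleton_of_isZero h1
  have h3 : Subsingleton ((bc m L).homology i) := h2
  exact ModuleCat.isZero_of_subsingleton _

/-- if `dRank L i` vanishes at a maximal ideal `m` then the reduction of `L` modulo `m` is exact in degree `i` -/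
theorem exactAt_bc_of_dRank_eq_zero (m : Ideal A) [hm : m.IsMaximal]
    (L : CochainComplex (ModuleCat.{u} A) ℤ) (hfin : ∀ i, Module.Finite A (L.X i)) (i : ℤ)
    (h : dRank L i ⟨m, hm.isPrime⟩ = 0) : (bc m L).ExactAt i := by
  rw [HomologicalComplex.exactAt_iff_isZero_homology]
  letI : Field (A ⧸ m) := Ideal.Quotient.field m
  have hcomp : (algebraMap (A ⧸ m) m.ResidueField).comp (Ideal.Quotient.mk m) =
      algebraMap A m.ResidueField := by
    ext x
    rfl
  have h1 : Module.finrank (A ⧸ m) ((bc m L).homology i) = 0 := by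
    rw [← Groth.Agent.Lib.DRankBC.finrank_homology_bcCx_field (algebraMap (A ⧸ m) m.ResidueField)
      (bc m L) i, Groth.Agent.Lib.DRankBC.finrank_homology_bcCx_comp L (Ideal.Quotient.mk m)
      (algebraMap (A ⧸ m) m.ResidueField) i]
    have h2 : bcCx ((algebraMap (A ⧸ m) m.ResidueField).comp (Ideal.Quotient.mk m)) L =
        bcCx (algebraMap A m.ResidueField) L := by rw [hcomp]
    rw [h2]
    exact h
  -- the homology is finite dimensional
  have hfd : Module.Finite (A ⧸ m) ((bc m L).X i) :=
    Module.Finite.equiv (Groth.Agent.Lib.TildePullback.extendScalarsEquiv A (A ⧸ m) (L.X i)).symm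
  have e : (bc m L).homology i ≃ₗ[A ⧸ m]
      (LinearMap.ker ((bc m L).sc i).g.hom ⧸ LinearMap.range ((bc m L).sc i).moduleCatToCycles) :=
    ((bc m L).sc i).moduleCatHomologyIso.toLinearEquiv
  haveI : Module.Finite (A ⧸ m) ((bc m L).sc i).X₂ := hfd
  haveI : Module.Finite (A ⧸ m) ((bc m L).homology i) := Module.Finite.equiv e.symm
  have h3 : Subsingleton ((bc m L).homology i) := Module.finrank_zero_iff.mp h1
  exact ModuleCat.isZero_of_subsingleton _

end Groth.Agent.Lib.FibreTruncH44
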