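/-
helper20: **graded Hilbert basis theorem for systems of modules** (module-level core of uniform Serre vanishing).

`B` a Noetherian ring, `M n` (`n : ℕ`) finite `B`-modules with commuting degree-one operators
`t i n : M n →ₗ[B] M (n+1)` (`i : Fin r`) such that `M (n+1) = ∑ i, t i n (M n)` for `n ≥ n₁`.  Then every family of
submodules `N n ≤ M n` stable under the operators is also eventually generated:
`N (n+1) = ∑ i, t i n (N n)` for `n ≥ n₂`.

Proof: `⨁ n, M n` is a finite module over the polynomial ring `B[X_1..X_r]` (acting through the shift operators), hence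
Noetherian; the submodule `⨁ N n` is finitely generated, by elements supported in degrees `≤ n₂`.
-/
import Mathlib

set_option autoImplicit false

open DirectSum

namespace Groth.Agent.Lib.UnifVanAlg20

universe u v

variable {B : Type u} [CommRing B] {r : ℕ} (M : ℕ → Type v) [∀ n, AddCommGroup (M n)]
  [∀ n, Module B (M n)] (t : Fin r → ∀ n, M n →ₗ[B] M (n + 1))

/-- The shift operator on `⨁ n, M n` induced by `t i`. -/
noncomputable def tau (i : Fin r) : (⨁ n, M n) →ₗ[B] (⨁ n, M n) :=
  DirectSum.toModule B ℕ _ (fun n => (DirectSum.lof B ℕ M (n + 1)).comp (t i n))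

@[simp]
lemma tau_lof (i : Fin r) (n : ℕ) (x : M n) :
    tau M t i (DirectSum.lof B ℕ M n x) = DirectSum.lof B ℕ M (n + 1) (t i n x) := by
  simp [tau]

lemma tau_apply_succ (i : Fin r) (z : ⨁ n, M n) (n : ℕ) : (tau M t i z) (n + 1) = t i n (z n) := by
  induction z using DirectSum.induction_on with
  | zero => simp
  | of m x =>
    rw [← DirectSum.lof_eq_of B, tau_lof]
    by_cases h : m = n
    · subst h
      rw [DirectSum.lof_eq_of, DirectSum.lof_eq_of, DirectSum.of_eq_same, DirectSum.of_eq_same]
    · rw [DirectSum.lof_eq_of, DirectSum.lof_eq_of, DirectSum.of_eq_of_ne _ _ _ (by omega),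
        DirectSum.of_eq_of_ne _ _ _ (Ne.symm h), map_zero]
  | add x y hx hy => simp [hx, hy]

lemma tau_apply_zero (i : Fin r) (z : ⨁ n, M n) : (tau M t i z) 0 = 0 := by
  induction z using DirectSum.induction_on with
  | zero => simp
  | of m x =>
    rw [← DirectSum.lof_eq_of B, tau_lof, DirectSum.lof_eq_of,
      DirectSum.of_eq_of_ne _ _ _ (by omega)]
  | add x y hx hy => simp [hx, hy]

variable {M t}

lemma tau_comm (hcomm : ∀ i j n x, t i (n + 1) (t j n x) = t j (n + 1) (t i n x)) (i j : Fin r) :
    tau M t i * tau M t j = tau M t j * tau M t i := by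
  apply DirectSum.linearMap_ext
  intro n
  ext x
  simp only [LinearMap.coe_comp, Function.comp_apply, Module.End.mul_apply, tau_lof]
  rw [hcomm]

section Poly

open scoped IsMulCommutative

variable (hcomm : ∀ i j n x, t i (n + 1) (t j n x) = t j (n + 1) (t i n x))

/-- The action of the polynomial ring `B[X_1..X_r]` on `⨁ n, M n` through the shift operators. -/
noncomputable def polyHom :
    MvPolynomial (Fin r) B →ₐ[B] Module.End B (⨁ n, M n) :=
  haveI : IsMulCommutative (Algebra.adjoin B (Set.range (tau M t))) :=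
    Algebra.isMulCommutative_adjoin B (by
      rintro _ ⟨i, rfl⟩ _ ⟨j, rfl⟩
      exact tau_comm hcomm i j)
  (Algebra.adjoin B (Set.range (tau M t))).val.comp
    (MvPolynomial.aeval (fun i => (⟨tau M t i, Algebra.subset_adjoin ⟨i, rfl⟩⟩ :
      Algebra.adjoin B (Set.range (tau M t)))))

lemma polyHom_X (i : Fin r) : polyHom hcomm (MvPolynomial.X i) = tau M t i := by
  simp [polyHom]

/-- `⨁ n, M n` as a module over the polynomial ring. -/
@[reducible] noncomputable def polyModule : Module (MvPolynomial (Fin r) B) (⨁ n, M n) :=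
  Module.compHom _ (polyHom hcomm).toRingHom

lemma X_smul (i : Fin r) (z : ⨁ n, M n) :
    letI := polyModule hcomm
    (MvPolynomial.X i : MvPolynomial (Fin r) B) • z = tau M t i z := by
  letI := polyModule hcomm
  change polyHom hcomm (MvPolynomial.X i) z = _
  rw [polyHom_X]

lemma C_smul (b : B) (z : ⨁ n, M n) :
    letI := polyModule hcomm
    (MvPolynomial.C b : MvPolynomial (Fin r) B) • z = b • z := by
  letI := polyModule hcomm
  change polyHom hcomm (MvPolynomial.C b) z = _
  rw [← MvPolynomial.algebraMap_eq, AlgHom.commutes]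
  rfl

lemma isScalarTower_poly :
    letI := polyModule hcomm
    IsScalarTower B (MvPolynomial (Fin r) B) (⨁ n, M n) := by
  letI := polyModule hcomm
  refine ⟨fun b p z => ?_⟩
  change polyHom hcomm (b • p) z = b • polyHom hcomm p z
  rw [map_smul]
  rfl

/-- A `B`-submodule stable under all shift operators is a submodule over the polynomial ring. -/
noncomputable def polySubmodule (Q : Submodule B (⨁ n, M n))
    (hQ : ∀ i, ∀ z ∈ Q, tau M t i z ∈ Q) :
    letI := polyModule hcomm
    Submodule (MvPolynomial (Fin r) B) (⨁ n, M n) :=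
  letI := polyModule hcomm
  { carrier := Q
    add_mem' := Q.add_mem
    zero_mem' := Q.zero_mem
    smul_mem' := by
      intro p
      induction p using MvPolynomial.induction_on with
      | C b =>
        intro z hz
        rw [C_smul]
        exact Q.smul_mem b hz
      | add p q hp hq =>
        intro z hz
        rw [add_smul]
        exact Q.add_mem (hp hz) (hq hz)
      | mul_X p i hp =>
        intro z hz
        rw [mul_smul, X_smul]
        exact hp (hQ i z hz) }

set_option linter.style.haveILetI false in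
/-- `⨁ n, M n` is a finite module over the polynomial ring. -/
theorem finite_poly [∀ n, Module.Finite B (M n)] (n₁ : ℕ)
    (hgen : ∀ n, n₁ ≤ n → ⨆ i, LinearMap.range (t i n) = ⊤) :
    letI := polyModule hcomm
    Module.Finite (MvPolynomial (Fin r) B) (⨁ n, M n) := by
  classical
  letI := polyModule hcomm
  haveI := isScalarTower_poly hcomm
  choose g hg using fun n => (Module.Finite.fg_top : (⊤ : Submodule B (M n)).FG)
  let G : Set (⨁ n, M n) := ⋃ n ∈ Finset.range (n₁ + 1), (DirectSum.lof B ℕ M n) '' (g n)
  have hGfin : G.Finite :=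
    Set.Finite.biUnion (Finset.finite_toSet _) (fun n _ => (g n).finite_toSet.image _)
  have direct : ∀ m, m ≤ n₁ → ∀ x : M m,
      DirectSum.lof B ℕ M m x ∈ Submodule.span (MvPolynomial (Fin r) B) G := by
    intro m hm x
    have hx : x ∈ Submodule.span B (g m : Set (M m)) := by rw [hg m]; trivial
    have h1 := Submodule.apply_mem_span_image_of_mem_span (DirectSum.lof B ℕ M m) hx
    have h2 := Submodule.span_le_restrictScalars B (MvPolynomial (Fin r) B)
      ((DirectSum.lof B ℕ M m) '' (g m)) h1
    refine Submodule.span_mono ?_ h2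
    intro z hz
    exact Set.mem_biUnion (Finset.mem_coe.mpr (Finset.mem_range.mpr (Nat.lt_succ_of_le hm))) hz
  have key : ∀ m (x : M m),
      DirectSum.lof B ℕ M m x ∈ Submodule.span (MvPolynomial (Fin r) B) G := by
    intro m
    induction m with
    | zero => exact direct 0 (Nat.zero_le _)
    | succ m ih =>
      by_cases h : m + 1 ≤ n₁
      · exact direct _ h
      · intro x
        have hx : x ∈ ⨆ i, LinearMap.range (t i m) := by rw [hgen m (by omega)]; trivial
        induction hx using Submodule.iSup_induction' with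
        | mem i x hx =>
          obtain ⟨y, rfl⟩ := hx
          rw [← tau_lof, ← X_smul hcomm]
          exact Submodule.smul_mem _ _ (ih y)
        | zero => rw [map_zero]; exact zero_mem _
        | add x y _ _ hx hy => rw [map_add]; exact add_mem hx hy
  refine ⟨⟨hGfin.toFinset, ?_⟩⟩
  rw [Set.Finite.coe_toFinset, eq_top_iff]
  intro z hz
  clear hz
  induction z using DirectSum.induction_on with
  | zero => exact zero_mem _
  | of m x => rw [← DirectSum.lof_eq_of B]; exact key m x
  | add x y hx hy => exact add_mem hx hy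

include hcomm in
set_option linter.style.haveILetI false in
/-- **Graded Hilbert basis theorem for systems of modules.** -/
theorem exists_bound [IsNoetherianRing B] [∀ n, Module.Finite B (M n)] (n₁ : ℕ)
    (hgen : ∀ n, n₁ ≤ n → ⨆ i, LinearMap.range (t i n) = ⊤)
    (N : ∀ n, Submodule B (M n)) (hN : ∀ i n, ∀ x ∈ N n, t i n x ∈ N (n + 1)) :
    ∃ n₂, ∀ n, n₂ ≤ n → N (n + 1) ≤ ⨆ i, (N n).map (t i n) := by
  classical
  letI := polyModule hcomm
  haveI := isScalarTower_poly hcomm
  haveI := finite_poly hcomm n₁ hgen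
  haveI : IsNoetherian (MvPolynomial (Fin r) B) (⨁ n, M n) :=
    isNoetherian_of_isNoetherianRing_of_finite _ _
  let Q : Submodule B (⨁ n, M n) :=
    { carrier := {z | ∀ n, z n ∈ N n}
      add_mem' := fun {a b} ha hb n => by
        rw [DirectSum.add_apply]; exact add_mem (ha n) (hb n)
      zero_mem' := fun n => by rw [DirectSum.zero_apply]; exact zero_mem _
      smul_mem' := fun c z hz n => by
        rw [DirectSum.smul_apply]; exact Submodule.smul_mem _ c (hz n) }
  have hQ : ∀ i, ∀ z ∈ Q, tau M t i z ∈ Q := by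
    intro i z hz n
    cases n with
    | zero => rw [tau_apply_zero]; exact zero_mem _
    | succ n => rw [tau_apply_succ]; exact hN i n _ (hz n)
  obtain ⟨S, hS⟩ := (IsNoetherian.noetherian (polySubmodule hcomm Q hQ) :
    (polySubmodule hcomm Q hQ).FG)
  let n₂ := S.sup (fun s => (DFinsupp.support s).sup id)
  have hsupp : ∀ s ∈ S, ∀ m, n₂ < m → s m = 0 := by
    intro s hs m hm
    by_contra h
    have h1 : m ∈ DFinsupp.support s := (DFinsupp.mem_support_iff).mpr h
    have h2 : m ≤ (DFinsupp.support s).sup id := Finset.le_sup (f := id) h1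
    have h3 : (DFinsupp.support s).sup id ≤ n₂ :=
      Finset.le_sup (f := fun s : (⨁ n, M n) => (DFinsupp.support s).sup id) hs
    omega
  let Q' : Submodule B (⨁ n, M n) :=
    { carrier := {z | (∀ n, z n ∈ N n) ∧ ∀ m, n₂ ≤ m → z (m + 1) ∈ ⨆ i, (N m).map (t i m)}
      add_mem' := fun {a b} ha hb => ⟨fun n => by
        rw [DirectSum.add_apply]; exact add_mem (ha.1 n) (hb.1 n), fun m hm => by
        rw [DirectSum.add_apply]; exact add_mem (ha.2 m hm) (hb.2 m hm)⟩
      zero_mem' := ⟨fun n => by rw [DirectSum.zero_apply]; exact zero_mem _, fun m _ => by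
        rw [DirectSum.zero_apply]; exact zero_mem _⟩
      smul_mem' := fun c z hz => ⟨fun n => by
        rw [DirectSum.smul_apply]; exact Submodule.smul_mem _ c (hz.1 n), fun m hm => by
        rw [DirectSum.smul_apply]; exact Submodule.smul_mem _ c (hz.2 m hm)⟩ }
  have hQ' : ∀ i, ∀ z ∈ Q', tau M t i z ∈ Q' := by
    intro i z hz
    refine ⟨hQ i z hz.1, fun m _ => ?_⟩
    rw [tau_apply_succ]
    exact Submodule.mem_iSup_of_mem i (Submodule.mem_map_of_mem (hz.1 m))
  have hle : polySubmodule hcomm Q hQ ≤ polySubmodule hcomm Q' hQ' := by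
    rw [← hS]
    apply Submodule.span_le.mpr
    intro s hs
    have hsQ : s ∈ polySubmodule hcomm Q hQ := by rw [← hS]; exact Submodule.subset_span hs
    refine ⟨hsQ, fun m hm => ?_⟩
    rw [hsupp s hs (m + 1) (by omega)]
    exact zero_mem _
  refine ⟨n₂, fun n hn x hx => ?_⟩
  have hmem : DirectSum.lof B ℕ M (n + 1) x ∈ polySubmodule hcomm Q hQ := by
    intro m
    by_cases h : m = n + 1
    · subst h
      rw [DirectSum.lof_eq_of, DirectSum.of_eq_same]
      exact hx
    · rw [DirectSum.lof_eq_of, DirectSum.of_eq_of_ne _ _ _ h]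
      exact zero_mem _
  have h2 := (hle hmem).2 n hn
  rwa [DirectSum.lof_eq_of, DirectSum.of_eq_same] at h2

end Poly

/-- Elementwise form of membership in `⨆ i, (N).map (t i)`. -/
theorem exists_of_mem_iSup_map {ι : Type*} [Fintype ι] [DecidableEq ι] {M₁ M₂ : Type*}
    [AddCommGroup M₁] [Module B M₁]
    [AddCommGroup M₂] [Module B M₂] (f : ι → M₁ →ₗ[B] M₂) (N : Submodule B M₁) {x : M₂}
    (hx : x ∈ ⨆ i, N.map (f i)) : ∃ y : ι → M₁, (∀ i, y i ∈ N) ∧ x = ∑ i, f i (y i) := by
  induction hx using Submodule.iSup_induction' with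
  | mem i x hx =>
    obtain ⟨w, hw, rfl⟩ := hx
    refine ⟨Pi.single i w, fun j => ?_, ?_⟩
    · by_cases h : j = i
      · subst h; rw [Pi.single_eq_same]; exact hw
      · rw [Pi.single_eq_of_ne h]; exact zero_mem _
    · rw [Finset.sum_eq_single i]
      · rw [Pi.single_eq_same]
      · intro j _ hj; rw [Pi.single_eq_of_ne hj, map_zero]
      · intro h; exact absurd (Finset.mem_univ i) h
  | zero => exact ⟨0, fun _ => zero_mem _, by simp⟩
  | add x y _ _ hx hy =>
    obtain ⟨a, ha, rfl⟩ := hx
    obtain ⟨b, hb, rfl⟩ := hy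
    exact ⟨a + b, fun i => add_mem (ha i) (hb i), by simp [Finset.sum_add_distrib]⟩

end Groth.Agent.Lib.UnifVanAlg20
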