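/-
helper20: **graded systems in an abelian category and the abstract uniform vanishing induction**.

A `Sys C r` is a sequence of objects `G n` (`n : ℕ`) with `r` commuting degree-one operators `t i n : G n ⟶ G (n+1)`
(a "graded module over a polynomial ring in `r` variables of degree one", internal to `C`).  It is finitely generated
(`IsFG`) if the operators into `G (n+1)` are jointly epimorphic for all large `n`.

`Sys.ker`, `Sys.coker`: kernel and (shifted) cokernel systems of the last operator, systems with one operator less.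

`uniform_vanishing`: abstract induction on the number of operators.  Given a class `P` of objects closed under kernels
and cokernels, a predicate `V d F` ("`F` twisted by `d` has no higher cohomology") compatible with short exact
sequences and isomorphisms and eventually true for every single object of `P`, and given the Hilbert basis property
(`hHB`: kernel systems of f.g. systems in `P` are f.g.), every f.g. system in `P` satisfies `V d` uniformly:
there is `d₀` with `V d (G n)` for all `d ≥ d₀` and ALL `n`.
-/
import Mathlib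

set_option autoImplicit false

open CategoryTheory CategoryTheory.Limits

namespace Groth.Agent.Lib.UnifVanSys20

universe v u

/-- A graded system with `r` commuting operators of degree one. -/
structure Sys (C : Type u) [Category.{v} C] (r : ℕ) where
  G : ℕ → C
  t : Fin r → ∀ n, G n ⟶ G (n + 1)
  comm : ∀ i j n, t i n ≫ t j (n + 1) = t j n ≫ t i (n + 1)

namespace Sys

variable {C : Type u} [Category.{v} C] [Abelian C] {r : ℕ}

/-- The operators into `G (n+1)` are jointly epimorphic for `n ≥ n₁`. -/
def IsFGFrom (S : Sys C r) (n₁ : ℕ) : Prop :=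
  ∀ n, n₁ ≤ n → ∀ ⦃Z : C⦄ (g : S.G (n + 1) ⟶ Z), (∀ i, S.t i n ≫ g = 0) → g = 0

/-- Finitely generated systems. -/
def IsFG (S : Sys C r) : Prop := ∃ n₁, S.IsFGFrom n₁

/-- The kernel system of the last operator. -/
@[reducible] noncomputable def ker (S : Sys C (r + 1)) : Sys C r where
  G n := kernel (S.t (Fin.last r) n)
  t i n := kernel.map (S.t (Fin.last r) n) (S.t (Fin.last r) (n + 1)) (S.t i.castSucc n)
    (S.t i.castSucc (n + 1)) (S.comm _ _ n)
  comm i j n := by
    ext
    simp only [Category.assoc, kernel.lift_ι, kernel.lift_ι_assoc, kernel.map]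
    rw [S.comm]

@[reassoc (attr := simp)]
lemma ker_t_ι (S : Sys C (r + 1)) (i : Fin r) (n : ℕ) :
    S.ker.t i n ≫ kernel.ι (S.t (Fin.last r) (n + 1)) =
      kernel.ι (S.t (Fin.last r) n) ≫ S.t i.castSucc n := by
  simp [ker, kernel.map]

/-- The (shifted) cokernel system of the last operator: `G (n+1) / t (G n)` in degree `n`. -/
@[reducible] noncomputable def coker (S : Sys C (r + 1)) : Sys C r where
  G n := cokernel (S.t (Fin.last r) n)
  t i n := cokernel.map (S.t (Fin.last r) n) (S.t (Fin.last r) (n + 1)) (S.t i.castSucc n)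
    (S.t i.castSucc (n + 1)) (S.comm _ _ n)
  comm i j n := by
    ext
    simp only [cokernel.map, cokernel.π_desc_assoc, Category.assoc, cokernel.π_desc]
    rw [← Category.assoc, ← Category.assoc, S.comm]

@[reassoc (attr := simp)]
lemma π_coker_t (S : Sys C (r + 1)) (i : Fin r) (n : ℕ) :
    cokernel.π (S.t (Fin.last r) n) ≫ S.coker.t i n =
      S.t i.castSucc (n + 1) ≫ cokernel.π (S.t (Fin.last r) (n + 1)) := by
  simp [coker, cokernel.map]

lemma isFGFrom_coker (S : Sys C (r + 1)) {n₁ : ℕ} (h : S.IsFGFrom n₁) : S.coker.IsFGFrom n₁ := by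
  intro n hn Z g hg
  change cokernel (S.t (Fin.last r) (n + 1)) ⟶ Z at g
  have hg' : ∀ i : Fin r, S.coker.t i n ≫ g = 0 := hg
  have h1 : cokernel.π (S.t (Fin.last r) (n + 1)) ≫ g = 0 := by
    apply h (n + 1) (by omega)
    intro j
    induction j using Fin.lastCases with
    | last => rw [cokernel.condition_assoc, zero_comp]
    | cast i => rw [← π_coker_t_assoc, hg' i, comp_zero]
  exact (cancel_epi (cokernel.π (S.t (Fin.last r) (n + 1)))).mp (h1.trans comp_zero.symm)

lemma isFG_coker (S : Sys C (r + 1)) (h : S.IsFG) : S.coker.IsFG := by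
  obtain ⟨n₁, h⟩ := h
  exact ⟨n₁, S.isFGFrom_coker h⟩

end Sys

section UV

variable {C : Type u} [Category.{v} C] [Abelian C]

/-- **Abstract uniform vanishing**: induction on the number of operators. -/
theorem uniform_vanishing (P : C → Prop) (V : ℕ → C → Prop)
    (hPker : ∀ {F G : C} (φ : F ⟶ G), P F → P G → P (kernel φ))
    (hPcoker : ∀ {F G : C} (φ : F ⟶ G), P F → P G → P (cokernel φ))
    (hViso : ∀ (d : ℕ) {F G : C}, (F ≅ G) → V d F → V d G)
    (hV3 : ∀ (d : ℕ) (S : ShortComplex C), S.ShortExact → V d S.X₁ → V d S.X₂ → V d S.X₃)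
    (hV2 : ∀ (d : ℕ) (S : ShortComplex C), S.ShortExact → V d S.X₁ → V d S.X₃ → V d S.X₂)
    (hSV : ∀ F, P F → ∃ d₀, ∀ d, d₀ ≤ d → V d F)
    (hHB : ∀ (r : ℕ) (S : Sys C (r + 1)), (∀ n, P (S.G n)) → S.IsFG → S.ker.IsFG) :
    ∀ (r : ℕ) (S : Sys C r), (∀ n, P (S.G n)) → S.IsFG →
      ∃ d₀, ∀ d, d₀ ≤ d → ∀ n, V d (S.G n) := by
  intro r
  induction r with
  | zero =>
    intro S hP ⟨n₁, hfg⟩
    have hz : ∀ n, n₁ ≤ n → IsZero (S.G (n + 1)) := by
      intro n hn
      rw [IsZero.iff_id_eq_zero]
      exact hfg n hn (𝟙 _) (fun i => i.elim0)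
    choose f hf using fun n => hSV (S.G n) (hP n)
    refine ⟨(Finset.range (n₁ + 2)).sup f, fun d hd n => ?_⟩
    by_cases hn : n ≤ n₁ + 1
    · exact hf n d (le_trans (Finset.le_sup (Finset.mem_range.mpr (by omega))) hd)
    · have h1 : V d (S.G (n₁ + 1)) :=
        hf (n₁ + 1) d (le_trans (Finset.le_sup (Finset.mem_range.mpr (by omega))) hd)
      obtain ⟨m, rfl⟩ : ∃ m, n = m + 1 := ⟨n - 1, by omega⟩
      exact hViso d ((hz n₁ le_rfl).iso (hz m (by omega))) h1
  | succ r ih =>
    intro S hP hfg
    obtain ⟨dK, hK⟩ := ih S.ker (fun n => hPker _ (hP n) (hP (n + 1))) (hHB r S hP hfg)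
    obtain ⟨dQ, hQ⟩ := ih S.coker (fun n => hPcoker _ (hP n) (hP (n + 1))) (S.isFG_coker hfg)
    obtain ⟨d0, h0⟩ := hSV (S.G 0) (hP 0)
    refine ⟨max (max dK dQ) d0, fun d hd n => ?_⟩
    have hdK : dK ≤ d := le_trans (le_trans (le_max_left _ _) (le_max_left _ _)) hd
    have hdQ : dQ ≤ d := le_trans (le_trans (le_max_right _ _) (le_max_left _ _)) hd
    have hd0 : d0 ≤ d := le_trans (le_max_right _ _) hd
    induction n with
    | zero => exact h0 d hd0
    | succ n ihn =>
      set f := S.t (Fin.last r) n with hf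
      -- first sequence: 0 → ker f → G n → coim f → 0
      let S1 : ShortComplex C := ShortComplex.mk (kernel.ι f) (cokernel.π (kernel.ι f))
        (cokernel.condition _)
      have hS1 : S1.ShortExact :=
        { exact := ShortComplex.exact_of_g_is_cokernel _ (cokernelIsCokernel _)
          mono_f := inferInstanceAs (Mono (kernel.ι f))
          epi_g := inferInstanceAs (Epi (cokernel.π (kernel.ι f))) }
      have h1 : V d (Abelian.coimage f) := hV3 d S1 hS1 (hK d hdK n) ihn
      have h2 : V d (Abelian.image f) := hViso d (Abelian.coimageIsoImage f) h1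
      -- second sequence: 0 → im f → G (n+1) → coker f → 0
      let S2 : ShortComplex C := ShortComplex.mk (kernel.ι (cokernel.π f)) (cokernel.π f)
        (kernel.condition _)
      have hS2 : S2.ShortExact :=
        { exact := ShortComplex.exact_of_f_is_kernel _ (kernelIsKernel _)
          mono_f := inferInstanceAs (Mono (kernel.ι (cokernel.π f)))
          epi_g := inferInstanceAs (Epi (cokernel.π f)) }
      exact hV2 d S2 hS2 h2 (hQ d hdQ n)

end UV

end Groth.Agent.Lib.UnifVanSys20
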