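/-
helper20: **Hilbert basis theorem for graded systems of coherent sheaves** on a Noetherian scheme.

`isFG_ker`: for a finitely generated system `S : Sys X.Modules (r+1)` of coherent modules on a Noetherian scheme, the
kernel system of the last operator is finitely generated (as a system with `r` operators).

Proof: on every affine open the sections form a system of finite modules over a Noetherian ring, to which the module
level statement `UnifVanAlg20.exists_bound` applies; finitely many affine opens cover `X`.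
-/
import Groth.Agent.Lib.UnifVanAlg20
import Groth.Agent.Lib.UnifVanSys20
import Groth.Agent.Lib.H90CohSum
import Groth.Agent.Lib.H72LimMod
import Groth.Agent.Lib.H90OXModExact
import Groth.Agent.Lib.H90OXModNoeth

set_option autoImplicit false
set_option linter.style.haveILetI false
universe u

open CategoryTheory CategoryTheory.Limits AlgebraicGeometry TopologicalSpace Opposite
open AlgebraicGeometry.Scheme AlgebraicGeometry.Scheme.Modules
open Groth.Agent.Lib.UnifVanSys20 Groth.Agent.Lib.H90OXModSections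

namespace Groth.Agent.Lib.UnifVanCoh20

attribute [local instance] CategoryTheory.Abelian.hasFiniteBiproducts

section General

variable {C : Type*} [Category C] [Abelian C] {r : ℕ}

/-- A jointly epimorphic finite family induces an epimorphism from the biproduct. -/
lemma epi_desc_of_jointly_epi {A : Fin r → C} {B : C} (f : ∀ i, A i ⟶ B)
    (h : ∀ ⦃Z : C⦄ (g : B ⟶ Z), (∀ i, f i ≫ g = 0) → g = 0) : Epi (biproduct.desc f) :=
  Preadditive.epi_of_cancel_zero _ fun g hg => h g fun i => by
    rw [← biproduct.ι_desc f i, Category.assoc, hg, comp_zero]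

lemma jointly_epi_of_epi_desc {A : Fin r → C} {B : C} (f : ∀ i, A i ⟶ B)
    [Epi (biproduct.desc f)] ⦃Z : C⦄ (g : B ⟶ Z) (hg : ∀ i, f i ≫ g = 0) : g = 0 := by
  apply (cancel_epi (biproduct.desc f)).mp
  rw [comp_zero]
  apply biproduct.hom_ext'
  intro i
  rw [biproduct.ι_desc_assoc, hg, comp_zero]

end General

variable {X : Scheme.{u}} {r : ℕ}

/-- a quasi-compact scheme is covered by finitely many affine opens -/
theorem exists_fin_affine_cover (X : Scheme.{u}) [CompactSpace X] :
    ∃ (t : ℕ) (U : Fin t → X.Opens), (∀ i, IsAffineOpen (U i)) ∧ ∀ x : X, ∃ i, x ∈ U i := by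
  have hcov : (Set.univ : Set X) ⊆ ⋃ V : X.affineOpens, ((V : X.Opens) : Set X) := by
    intro x _
    obtain ⟨_, ⟨V, hV, rfl⟩, hxV, -⟩ := (X.isBasis_affineOpens).exists_subset_of_mem_open
      (Set.mem_univ x) isOpen_univ
    exact Set.mem_iUnion.mpr ⟨⟨V, hV⟩, hxV⟩
  obtain ⟨s, hs⟩ := isCompact_univ.elim_finite_subcover
    (fun V : X.affineOpens => ((V : X.Opens) : Set X)) (fun V => (V : X.Opens).2) hcov
  refine ⟨s.card, fun i => ((s.equivFin.symm i : X.affineOpens) : X.Opens),
    fun i => (s.equivFin.symm i : X.affineOpens).2, fun x => ?_⟩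
  obtain ⟨V, hV⟩ := Set.mem_iUnion.mp (hs (Set.mem_univ x))
  obtain ⟨hVs, hxV⟩ := Set.mem_iUnion.mp hV
  refine ⟨s.equivFin ⟨V, hVs⟩, ?_⟩
  simpa using hxV

/-- Sections over an affine open of an epimorphism from a finite biproduct of quasi-coherent modules: the images
of the components span. -/
theorem iSup_range_appLin_eq_top {A : Fin r → X.Modules} {B : X.Modules} (f : ∀ i, A i ⟶ B)
    (hA : ∀ i, (A i).IsQuasicoherent) [B.IsQuasicoherent] [Epi (biproduct.desc f)] {U : X.Opens}
    (hU : IsAffineOpen U) : ⨆ i, LinearMap.range (appLin (f i) U) = ⊤ := by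
  haveI := Groth.Agent.Lib.QCohBiproduct.isQuasicoherent_biproduct A hA
  rw [eq_top_iff]
  intro x _
  obtain ⟨y, rfl⟩ := Groth.Agent.Lib.H90OXModExact.surjective_app_of_epi (biproduct.desc f) hU x
  rw [Groth.Agent.Lib.QCohBiproduct.biproduct_decomp A U y,
    Groth.Agent.Lib.QCohBiproduct.app_sum']
  refine Submodule.sum_mem _ fun i _ => Submodule.mem_iSup_of_mem i ⟨(biproduct.π A i).app U y, ?_⟩
  rw [appLin_apply]
  have h := congrArg (fun χ => (Scheme.Modules.Hom.app χ U) ((biproduct.π A i).app U y))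
    (biproduct.ι_desc f i)
  simp only [Scheme.Modules.Hom.comp_app] at h
  exact h.symm

/-- Affine-local form of the Hilbert basis theorem for the kernel system. -/
theorem exists_bound_affine [IsLocallyNoetherian X] (S : Sys X.Modules (r + 1))
    (hS : ∀ n, Coh.IsCoh (S.G n)) {n₁ : ℕ} (hfg : S.IsFGFrom n₁) {U : X.Opens}
    (hU : IsAffineOpen U) :
    ∃ n₂, ∀ n, n₂ ≤ n → ∀ s : Γ(S.ker.G (n + 1), U),
      ∃ k : Fin r → Γ(S.ker.G n, U), s = ∑ i, (S.ker.t i n).app U (k i) := by
  classical
  haveI : IsNoetherianRing Γ(X, U) := IsLocallyNoetherian.component_noetherian ⟨U, hU⟩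
  haveI : ∀ n, Module.Finite Γ(X, U) Γ(S.G n, U) := fun n =>
    Groth.Agent.Lib.CohFinite.finite_sections_of_isCoh _ (hS n) hU
  haveI hq : ∀ n, (S.G n).IsQuasicoherent := fun n => (hS n).1
  have hcomm : ∀ (i j : Fin (r + 1)) (n : ℕ) (x : Γ(S.G n, U)),
      appLin (S.t i (n + 1)) U (appLin (S.t j n) U x) =
        appLin (S.t j (n + 1)) U (appLin (S.t i n) U x) := by
    intro i j n x
    have h := congrArg (fun χ => (Scheme.Modules.Hom.app χ U) x) (S.comm j i n)
    simp only [Scheme.Modules.Hom.comp_app] at h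
    exact h
  have hgen : ∀ n, n₁ ≤ n → ⨆ i, LinearMap.range (appLin (S.t i n) U) = ⊤ := by
    intro n hn
    haveI := epi_desc_of_jointly_epi (fun i => S.t i n) (hfg n hn)
    exact iSup_range_appLin_eq_top (fun i => S.t i n) (fun _ => hq n) hU
  let N : ∀ n, Submodule Γ(X, U) Γ(S.G n, U) := fun n =>
    LinearMap.ker (appLin (S.t (Fin.last r) n) U)
  have hN : ∀ (i : Fin (r + 1)) (n : ℕ), ∀ x ∈ N n, appLin (S.t i n) U x ∈ N (n + 1) := by
    intro i n x hx
    change appLin (S.t (Fin.last r) (n + 1)) U (appLin (S.t i n) U x) = 0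
    rw [hcomm, (LinearMap.mem_ker.mp hx), map_zero]
  obtain ⟨n₂, h2⟩ := Groth.Agent.Lib.UnifVanAlg20.exists_bound
    (M := fun n => Γ(S.G n, U)) (t := fun i n => appLin (S.t i n) U) hcomm n₁ hgen N hN
  refine ⟨n₂, fun n hn s => ?_⟩
  have hι : ∀ m, Function.Injective ((kernel.ι (S.t (Fin.last r) m)).app U) := fun m =>
    injective_app_of_mono _ U
  set x := (kernel.ι (S.t (Fin.last r) (n + 1))).app U s with hx
  have hxN : x ∈ N (n + 1) := by
    change (S.t (Fin.last r) (n + 1)).app U ((kernel.ι (S.t (Fin.last r) (n + 1))).app U s) = 0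
    have h := congrArg (fun χ => (Scheme.Modules.Hom.app χ U) s)
      (kernel.condition (S.t (Fin.last r) (n + 1)))
    simp only [Scheme.Modules.Hom.comp_app, ConcreteCategory.comp_apply] at h
    rw [h]
    rfl
  obtain ⟨y, hy, hxy⟩ := Groth.Agent.Lib.UnifVanAlg20.exists_of_mem_iSup_map
    (fun i => appLin (S.t i n) U) (N n) (h2 n hn hxN)
  have hk : ∀ i : Fin r, ∃ k : Γ(S.ker.G n, U),
      (kernel.ι (S.t (Fin.last r) n)).app U k = y i.castSucc := by
    intro i
    exact ((Groth.Agent.Lib.IdealMod.kernel_sections (S.t (Fin.last r) n) U).2 (y i.castSucc)).mp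
      (LinearMap.mem_ker.mp (hy i.castSucc))
  choose k hk using hk
  refine ⟨k, ?_⟩
  apply hι (n + 1)
  rw [← hx, hxy, Fin.sum_univ_castSucc, Groth.Agent.Lib.QCohBiproduct.app_sum']
  have hlast : appLin (S.t (Fin.last r) n) U (y (Fin.last r)) = 0 :=
    LinearMap.mem_ker.mp (hy (Fin.last r))
  rw [hlast, add_zero]
  refine Finset.sum_congr rfl fun i _ => ?_
  have h := congrArg (fun χ => (Scheme.Modules.Hom.app χ U) (k i)) (S.ker_t_ι i n)
  simp only [Scheme.Modules.Hom.comp_app] at h
  rw [appLin_apply, ← hk i]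
  exact h.symm

/-- **Hilbert basis theorem for graded systems of coherent sheaves**: the kernel system of a finitely generated system
of coherent modules on a Noetherian scheme is finitely generated. -/
theorem isFG_ker [IsLocallyNoetherian X] [CompactSpace X] (S : Sys X.Modules (r + 1))
    (hS : ∀ n, Coh.IsCoh (S.G n)) (hfg : S.IsFG) : S.ker.IsFG := by
  obtain ⟨n₁, hfg⟩ := hfg
  obtain ⟨t, Ω, hΩ, hcov⟩ := exists_fin_affine_cover X
  choose b hb using fun a => exists_bound_affine S hS hfg (hΩ a)
  refine ⟨Finset.univ.sup b, fun n hn => ?_⟩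
  haveI hq : ∀ m, (S.G m).IsQuasicoherent := fun m => (hS m).1
  haveI hK : ∀ m, (S.ker.G m).IsQuasicoherent := fun m =>
    Groth.Agent.Lib.H90OXModExact.isQuasicoherent_kernel _
  haveI : Epi (biproduct.desc (fun i => S.ker.t i n)) := by
    apply Groth.Agent.Lib.H72LimMod.epi_of_cover _ Ω hΩ hcov
    intro a s
    obtain ⟨k, hk⟩ := hb a n (le_trans (Finset.le_sup (Finset.mem_univ a)) hn) s
    refine ⟨∑ i, (biproduct.ι (fun _ : Fin r => S.ker.G n) i).app (Ω a) (k i), ?_⟩
    rw [Groth.Agent.Lib.H72PullbackNat.secModMap_apply, Groth.Agent.Lib.QCohBiproduct.app_sum', hk]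
    refine Finset.sum_congr rfl fun i _ => ?_
    have h := congrArg (fun χ => (Scheme.Modules.Hom.app χ (Ω a)) (k i))
      (biproduct.ι_desc (fun i => S.ker.t i n) i)
    simp only [Scheme.Modules.Hom.comp_app] at h
    exact h
  exact fun Z g hg => jointly_epi_of_epi_desc (fun i => S.ker.t i n) g hg

end Groth.Agent.Lib.UnifVanCoh20
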