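/-
helper20: **uniform Serre vanishing for finitely generated graded systems of coherent sheaves**.

`Van L d F` : `H^p(X, F ⊗ L^d) = 0` for all `p > 0`.

`uniform_vanishing` (general form): `X` Noetherian, `L ⊗ L' ≅ O_X`, `P` a class of coherent modules closed under kernels
and cokernels such that every member satisfies Serre vanishing w.r.t. `L`.  Then every finitely generated graded system
`S : Sys X.Modules r` with terms in `P` satisfies Serre vanishing UNIFORMLY: `∃ d₀, ∀ d ≥ d₀, ∀ n, Van L d (S.G n)`.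

`uniform_serre_vanishing`: `X` proper over a Noetherian ring, `L` ample, all coherent systems.

This is the uniform vanishing needed for EGA III 4.7.1 / 5.2.3 (Stacks 30.20/30.21), proved by induction on the number of
operators without ever forming `X ×_A Spec(gr_I A)`.
-/
import Groth.Agent.Lib.UnifVanCoh20
import Groth.Agent.Lib.TwistEquiv
import Groth.Agent.Lib.CohLESExact
import Groth.Agent.Lib.CohFinAmple
import Groth.Agent.Lib.H78SerreVan
import Groth.Agent.Lib.H78Dual

set_option autoImplicit false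
set_option linter.style.haveILetI false
universe u

open CategoryTheory CategoryTheory.Limits AlgebraicGeometry CohB1
open Groth.Agent.Lib.OXModTensor Groth.Agent.Lib.CohLES Groth.Agent.Lib.CohFinAmple
open Groth.Agent.Lib.TwistEquiv Groth.Agent.Lib.UnifVanSys20

namespace Groth.Agent.Lib.UnifVan20

variable {X : Scheme.{u}}

/-- `F ⊗ L^d` has no higher cohomology. -/
def Van (L : X.Modules) (d : ℕ) (F : X.Modules) : Prop :=
  ∀ p : ℕ, 0 < p → Subsingleton (Coh.HH X (tensorMod F (tensorPow L d)) p)

theorem van_of_iso {L : X.Modules} {d : ℕ} {F G : X.Modules} (e : F ≅ G) (h : Van L d F) :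
    Van L d G := fun p hp =>
  haveI := h p hp
  subsingleton_of_iso (tensorModIso e.symm (Iso.refl (tensorPow L d))) p

theorem van_X₃ {L L' : X.Modules} (e : tensorMod L L' ≅ Coh.structureModule X) (d : ℕ)
    (S : ShortComplex X.Modules) (hS : S.ShortExact) (h1 : Van L d S.X₁) (h2 : Van L d S.X₂) :
    Van L d S.X₃ := by
  intro p hp
  have hS' : (S.map (tensorRightFunctor (tensorPow L d))).ShortExact :=
    shortExact_map_tensorRight (M' := tensorPow L' d) (powInvIso e d) hS
  haveI : Subsingleton (Coh.HH X (S.map (tensorRightFunctor (tensorPow L d))).X₂ p) := h2 p hp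
  haveI : Subsingleton (Coh.HH X (S.map (tensorRightFunctor (tensorPow L d))).X₁ (p + 1)) :=
    h1 (p + 1) (Nat.succ_pos p)
  exact subsingleton_right hS' p

theorem van_X₂ {L L' : X.Modules} (e : tensorMod L L' ≅ Coh.structureModule X) (d : ℕ)
    (S : ShortComplex X.Modules) (hS : S.ShortExact) (h1 : Van L d S.X₁) (h3 : Van L d S.X₃) :
    Van L d S.X₂ := by
  intro p hp
  have hS' : (S.map (tensorRightFunctor (tensorPow L d))).ShortExact :=
    shortExact_map_tensorRight (M' := tensorPow L' d) (powInvIso e d) hS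
  haveI : Subsingleton (Coh.HH X (S.map (tensorRightFunctor (tensorPow L d))).X₁ p) := h1 p hp
  haveI : Subsingleton (Coh.HH X (S.map (tensorRightFunctor (tensorPow L d))).X₃ p) := h3 p hp
  exact subsingleton_mid hS' p

/-- **Uniform vanishing**, general form. -/
theorem uniform_vanishing [IsLocallyNoetherian X] [CompactSpace X] {L L' : X.Modules}
    (e : tensorMod L L' ≅ Coh.structureModule X) (P : X.Modules → Prop)
    (hPcoh : ∀ F, P F → Coh.IsCoh F)
    (hPker : ∀ {F G : X.Modules} (φ : F ⟶ G), P F → P G → P (kernel φ))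
    (hPcoker : ∀ {F G : X.Modules} (φ : F ⟶ G), P F → P G → P (cokernel φ))
    (hSV : ∀ F, P F → ∃ d₀, ∀ d, d₀ ≤ d → Van L d F)
    {r : ℕ} (S : Sys X.Modules r) (hS : ∀ n, P (S.G n)) (hfg : S.IsFG) :
    ∃ d₀, ∀ d, d₀ ≤ d → ∀ n, Van L d (S.G n) :=
  Groth.Agent.Lib.UnifVanSys20.uniform_vanishing P (Van L) hPker hPcoker
    (fun _ _ _ e' h => van_of_iso e' h) (van_X₃ e) (van_X₂ e) hSV
    (fun _ S hS hfg => Groth.Agent.Lib.UnifVanCoh20.isFG_ker S (fun n => hPcoh _ (hS n)) hfg)
    r S hS hfg

/-- **Uniform Serre vanishing** for finitely generated graded systems of coherent modules on a scheme proper over a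
Noetherian ring, with respect to an ample invertible module. -/
theorem uniform_serre_vanishing {R : Type u} [CommRing R] [IsNoetherianRing R]
    (f : X ⟶ Spec (CommRingCat.of R)) [IsProper f] {L : X.Modules} (hL : CohB1.IsAmple L)
    {r : ℕ} (S : Sys X.Modules r) (hS : ∀ n, Coh.IsCoh (S.G n)) (hfg : S.IsFG) :
    ∃ d₀, ∀ d, d₀ ≤ d → ∀ n, Van L d (S.G n) := by
  haveI : IsLocallyNoetherian X := LocallyOfFiniteType.isLocallyNoetherian f
  haveI : CompactSpace X := QuasiCompact.compactSpace_of_compactSpace f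
  obtain ⟨L', -, ⟨e'⟩⟩ := Groth.Agent.Lib.H78Dual.exists_tensor_inverse hL.1
  refine uniform_vanishing (braiding L L' ≪≫ e') Coh.IsCoh (fun _ h => h)
    (fun φ hF hG => ?_) (fun φ hF hG => ?_) (fun F hF => ?_) S hS hfg
  · haveI := hG.1
    exact Groth.Agent.Lib.H90OXModExact.isCoh_kernel φ hF
  · haveI := hF.1
    exact Groth.Agent.Lib.H90OXModExact.isCoh_cokernel φ hG
  · exact Groth.Agent.Lib.H78SerreVan.serre_vanishing_of_isAmple f hL F hF

end Groth.Agent.Lib.UnifVan20
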