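/-
helper20: **the graded system of kernels of a coherent formal module**.

For a coherent formal module `(G_n)` for `I` on `X` over `Spec A` (`Formal.IsCohFormal I G`) and `a : Fin r → A` generating
`I`, the kernels `K_n = Ker(G_{n+1} → G_n) = I^{n+1} G_{n+1}` form a graded system `kerSys` with `r` commuting operators
("multiplication by `a i`" `I^{n+1}G/I^{n+2}G → I^{n+2}G/I^{n+3}G`) which is finitely generated (from degree `0`).

Consequence (`uniform_vanishing_kernels`): uniform Serre vanishing for the kernels of the transition maps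
(EGA III 5.2.3 / Stacks 30.21.? "Lemma 2" in the proof of Grothendieck's existence theorem).
-/
import Groth.Agent.Lib.UnifVan20
import Groth.Agent.Lib.CohFormal
import Groth.Prelude.Def_ega3

set_option autoImplicit false
set_option linter.style.haveILetI false
universe u

open CategoryTheory CategoryTheory.Limits AlgebraicGeometry Opposite

namespace Groth.Agent.Lib.FormalKerSys20

open Formal Groth.Agent.Lib.UnifVanSys20 Groth.Agent.Lib.CohLES

section Basic

variable {X : Scheme.{u}}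

instance : (toAbF X).Faithful :=
  inferInstanceAs (SheafOfModules.toSheaf.{u} X.ringCatSheaf).Faithful

theorem smulModΓ_add (M : X.Modules) (r s : Coh.Γtop X) :
    smulModΓ M (r + s) = smulModΓ M r + smulModΓ M s := by
  apply (toAbF X).map_injective
  rw [Functor.map_add]
  exact Coh.smulAb_add M r s

theorem smulModΓ_zero (M : X.Modules) : smulModΓ M 0 = 0 := by
  apply (toAbF X).map_injective
  rw [Functor.map_zero]
  exact Coh.smulAb_zero M

end Basic

variable {A : Type u} [CommRing A] {X : Scheme.{u}} [X.Over (Spec (CommRingCat.of A))]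

theorem smulMod_add (M : X.Modules) (a b : A) :
    smulMod A M (a + b) = smulMod A M a + smulMod A M b := by
  unfold smulMod
  rw [map_add, smulModΓ_add]

theorem smulMod_zero (M : X.Modules) : smulMod A M (0 : A) = 0 := by
  unfold smulMod
  rw [map_zero, smulModΓ_zero]

theorem ι_smulFamily (J : Ideal A) (M : X.Modules) (b : J) :
    Sigma.ι (fun _ : J => M) b ≫ smulFamily J M = smulMod A M (b : A) := by
  simp [smulFamily]

/-- The transition map `G_{n+1} ⟶ G_n`. -/
abbrev tr (G : ℕᵒᵖ ⥤ X.Modules) (n : ℕ) : G.obj (op (n + 1)) ⟶ G.obj (op n) :=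
  G.map (homOfLE (Nat.le_succ n)).op

variable {I : Ideal A} {G : ℕᵒᵖ ⥤ X.Modules}

theorem smulFamily_tr (hG : IsCohFormal I G) (n : ℕ) :
    smulFamily (I ^ (n + 1)) (G.obj (op (n + 1))) ≫ tr G n = 0 :=
  (hG.2.2 n).choose

theorem epi_tr (hG : IsCohFormal I G) (n : ℕ) : Epi (tr G n) := hG.epi_succ n

/-- `I^{n+1} G_{n+1} → Ker(G_{n+1} → G_n)` is an epimorphism. -/
theorem epi_lift (hG : IsCohFormal I G) (n : ℕ) :
    Epi (kernel.lift (tr G n) (smulFamily (I ^ (n + 1)) (G.obj (op (n + 1)))) (smulFamily_tr hG n)) := by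
  obtain ⟨h0, hiso⟩ := hG.2.2 n
  have hex : (ShortComplex.mk _ _ (smulFamily_tr hG n)).Exact := by
    rw [ShortComplex.exact_iff_mono_cokernel_desc]
    dsimp
    infer_instance
  exact hex.epi_kernelLift

/-- Multiplication by `b ∈ I^{n+1}` as a map `G_{n+1} ⟶ Ker(G_{n+1} → G_n)`. -/
noncomputable def mulK (hG : IsCohFormal I G) (n : ℕ) (b : A) (hb : b ∈ I ^ (n + 1)) :
    G.obj (op (n + 1)) ⟶ kernel (tr G n) :=
  Sigma.ι (fun _ : ↥(I ^ (n + 1)) => G.obj (op (n + 1))) ⟨b, hb⟩ ≫
    kernel.lift (tr G n) (smulFamily (I ^ (n + 1)) (G.obj (op (n + 1)))) (smulFamily_tr hG n)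

@[reassoc]
theorem mulK_ι (hG : IsCohFormal I G) (n : ℕ) (b : A) (hb : b ∈ I ^ (n + 1)) :
    mulK hG n b hb ≫ kernel.ι (tr G n) = smulMod A (G.obj (op (n + 1))) b := by
  unfold mulK
  rw [Category.assoc, kernel.lift_ι, ι_smulFamily]

/-- A map out of `Ker(G_{n+1} → G_n)` vanishing on all `b G_{n+1}`, `b ∈ I^{n+1}`, is zero. -/
theorem eq_zero_of_mulK (hG : IsCohFormal I G) (n : ℕ) {Z : X.Modules} (g : kernel (tr G n) ⟶ Z)
    (h : ∀ b (hb : b ∈ I ^ (n + 1)), mulK hG n b hb ≫ g = 0) : g = 0 := by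
  haveI := epi_lift hG n
  rw [← cancel_epi (kernel.lift (tr G n) (smulFamily (I ^ (n + 1)) (G.obj (op (n + 1))))
    (smulFamily_tr hG n)), comp_zero]
  apply Sigma.hom_ext
  intro b
  rw [comp_zero, ← Category.assoc]
  exact h b.1 b.2

/-- `Ker(G_{n+1} → G_n)` is killed by `I`. -/
theorem ι_smulMod (hG : IsCohFormal I G) (n : ℕ) (a : A) (ha : a ∈ I) :
    kernel.ι (tr G n) ≫ smulMod A (G.obj (op (n + 1))) a = 0 := by
  apply eq_zero_of_mulK hG n
  intro b hb
  rw [mulK_ι_assoc, ← CohIII.smulMod_mul]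
  apply hG.2.1 (n + 1)
  rw [pow_succ' I (n + 1)]
  exact Ideal.mul_mem_mul ha hb

/-- "Division by the transition map": multiplication by `a ∈ I` on `G_{n+1}` factors through `G_{n+1} → G_n`. -/
theorem exists_sec (hG : IsCohFormal I G) (a : A) (ha : a ∈ I) (n : ℕ) :
    ∃ s : G.obj (op n) ⟶ G.obj (op (n + 1)), tr G n ≫ s = smulMod A (G.obj (op (n + 1))) a := by
  obtain ⟨h0, hiso⟩ := hG.2.2 n
  have hz : smulFamily (I ^ (n + 1)) (G.obj (op (n + 1))) ≫ smulMod A (G.obj (op (n + 1))) a = 0 := by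
    apply Sigma.hom_ext
    intro b
    rw [comp_zero, ← Category.assoc, ι_smulFamily, ← CohIII.smulMod_mul]
    apply hG.2.1 (n + 1)
    rw [pow_succ' I (n + 1)]
    exact Ideal.mul_mem_mul ha b.2
  refine ⟨inv (cokernel.desc _ _ h0) ≫ cokernel.desc _ _ hz, ?_⟩
  have e2 : tr G n = cokernel.π _ ≫ cokernel.desc _ _ h0 := by simp
  calc tr G n ≫ inv (cokernel.desc _ _ h0) ≫ cokernel.desc _ _ hz
      = (cokernel.π _ ≫ cokernel.desc _ _ h0) ≫ inv (cokernel.desc _ _ h0) ≫ cokernel.desc _ _ hz := by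
        rw [← e2]
    _ = _ := by rw [Category.assoc, IsIso.hom_inv_id_assoc, cokernel.π_desc]

/-- The sections `s` of `exists_sec` satisfy `s ≫ tr = a` as well. -/
theorem sec_tr (hG : IsCohFormal I G) (a : A) (n : ℕ) (s : G.obj (op n) ⟶ G.obj (op (n + 1)))
    (hs : tr G n ≫ s = smulMod A (G.obj (op (n + 1))) a) :
    s ≫ tr G n = smulMod A (G.obj (op n)) a := by
  haveI := epi_tr hG n
  rw [← cancel_epi (tr G n), ← Category.assoc, hs, smulMod_naturality]

/-- The sections for different scalars commute. -/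
theorem sec_comm (hG : IsCohFormal I G) (a a' : A) (n : ℕ)
    (s s' : G.obj (op n) ⟶ G.obj (op (n + 1))) (t t' : G.obj (op (n + 1)) ⟶ G.obj (op (n + 1 + 1)))
    (hs : tr G n ≫ s = smulMod A _ a) (hs' : tr G n ≫ s' = smulMod A _ a')
    (ht : tr G (n + 1) ≫ t = smulMod A _ a) (ht' : tr G (n + 1) ≫ t' = smulMod A _ a') :
    s ≫ t' = s' ≫ t := by
  haveI := epi_tr hG n
  haveI := epi_tr hG (n + 1)
  rw [← cancel_epi (tr G n), ← Category.assoc, ← Category.assoc, hs, hs', smulMod_naturality,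
    smulMod_naturality, ← cancel_epi (tr G (n + 1)), ← Category.assoc, ← Category.assoc, ht, ht',
    ← CohIII.smulMod_mul, ← CohIII.smulMod_mul, mul_comm]


section System

variable (hG : IsCohFormal I G) {r : ℕ} (a : Fin r → A) (ha : ∀ i, a i ∈ I)
  (s : Fin r → ∀ n, G.obj (op n) ⟶ G.obj (op (n + 1)))
  (hs : ∀ i n, tr G n ≫ s i n = smulMod A (G.obj (op (n + 1))) (a i))

/-- The operator "multiplication by `a i`" `Ker(G_{n+1} → G_n) ⟶ Ker(G_{n+2} → G_{n+1})`. -/
noncomputable def kerOp (i : Fin r) (n : ℕ) : kernel (tr G n) ⟶ kernel (tr G (n + 1)) :=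
  kernel.lift (tr G (n + 1)) (kernel.ι (tr G n) ≫ s i (n + 1)) (by
    rw [Category.assoc, sec_tr hG (a i) (n + 1) (s i (n + 1)) (hs i (n + 1)),
      ι_smulMod hG n (a i) (ha i)])

@[reassoc]
theorem kerOp_ι (i : Fin r) (n : ℕ) :
    kerOp hG a ha s hs i n ≫ kernel.ι (tr G (n + 1)) = kernel.ι (tr G n) ≫ s i (n + 1) :=
  kernel.lift_ι _ _ _

/-- The graded system of the kernels of the transition maps. -/
@[reducible] noncomputable def kerSys : Sys X.Modules r where
  G n := kernel (tr G n)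
  t i n := kerOp hG a ha s hs i n
  comm i j n := by
    rw [← cancel_mono (kernel.ι (tr G (n + 1 + 1))), Category.assoc, Category.assoc, kerOp_ι,
      kerOp_ι, kerOp_ι_assoc, kerOp_ι_assoc,
      sec_comm hG (a i) (a j) (n + 1) (s i (n + 1)) (s j (n + 1)) (s i (n + 1 + 1)) (s j (n + 1 + 1))
        (hs i _) (hs j _) (hs i _) (hs j _)]

include hs ha in
/-- The system of kernels is generated in degree `0`. -/
theorem isFGFrom_kerSys (hspan : Ideal.span (Set.range a) = I) :
    (kerSys hG a ha s hs).IsFGFrom 0 := by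
  intro n _ Z g hg
  change kernel (tr G (n + 1)) ⟶ Z at g
  have hg' : ∀ i, kerOp hG a ha s hs i n ≫ g = 0 := hg
  let Q : A → Prop := fun b => ∃ m : G.obj (op (n + 1 + 1)) ⟶ kernel (tr G (n + 1)),
      m ≫ kernel.ι (tr G (n + 1)) = smulMod A _ b ∧ m ≫ g = 0
  have Q0 : Q 0 := ⟨0, by rw [zero_comp, smulMod_zero], zero_comp⟩
  have Qadd : ∀ x y, Q x → Q y → Q (x + y) := by
    rintro x y ⟨m, hm, hmg⟩ ⟨m', hm', hmg'⟩
    exact ⟨m + m', by rw [Preadditive.add_comp, hm, hm', smulMod_add],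
      by rw [Preadditive.add_comp, hmg, hmg', add_zero]⟩
  have Qsmul : ∀ (x : A) y, Q y → Q (x * y) := by
    rintro x y ⟨m, hm, hmg⟩
    refine ⟨smulMod A _ x ≫ m, ?_, ?_⟩
    · rw [Category.assoc, hm, ← CohIII.smulMod_mul, mul_comm]
    · rw [Category.assoc, hmg, comp_zero]
  have Qbase : ∀ i, ∀ c ∈ I ^ (n + 1), Q (a i * c) := by
    intro i c hc
    refine ⟨tr G (n + 1) ≫ mulK hG n c hc ≫ kerOp hG a ha s hs i n, ?_, ?_⟩
    · rw [Category.assoc, Category.assoc, kerOp_ι, mulK_ι_assoc, ← Category.assoc,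
        ← smulMod_naturality, Category.assoc, hs i (n + 1), ← CohIII.smulMod_mul]
    · rw [Category.assoc, Category.assoc, hg' i, comp_zero, comp_zero]
  have QI : ∀ x ∈ I, ∀ c ∈ I ^ (n + 1), Q (x * c) := by
    intro x hx
    rw [← hspan] at hx
    induction hx using Submodule.span_induction with
    | mem x hx =>
      obtain ⟨i, rfl⟩ := hx
      exact Qbase i
    | zero => intro c _; rw [zero_mul]; exact Q0
    | add x y _ _ hx hy => intro c hc; rw [add_mul]; exact Qadd _ _ (hx c hc) (hy c hc)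
    | smul k x _ hx => intro c hc; rw [smul_eq_mul, mul_assoc]; exact Qsmul k _ (hx c hc)
  have Qall : ∀ b ∈ I ^ (n + 1 + 1), Q b := by
    intro b hb
    rw [pow_succ' I (n + 1)] at hb
    exact Submodule.mul_induction_on hb QI Qadd
  apply eq_zero_of_mulK hG (n + 1)
  intro b hb
  obtain ⟨m, hm, hmg⟩ := Qall b hb
  have : mulK hG (n + 1) b hb = m := by
    rw [← cancel_mono (kernel.ι (tr G (n + 1))), mulK_ι, hm]
  rw [this, hmg]

end System

open Groth.Agent.Lib.UnifVan20 in
/-- **Uniform Serre vanishing for the kernels of the transition maps of a coherent formal module**. -/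
theorem uniform_vanishing_kernels [IsNoetherianRing A] [IsProper (X ↘ Spec (CommRingCat.of A))]
    (L : X.Modules) (hL : CohB1.IsAmple L) (hG : IsCohFormal I G) :
    ∃ d₀, ∀ d, d₀ ≤ d → ∀ n, Van L d (kernel (tr G n)) := by
  haveI : IsLocallyNoetherian X :=
    LocallyOfFiniteType.isLocallyNoetherian (X ↘ Spec (CommRingCat.of A))
  obtain ⟨r, a, hspan⟩ := Submodule.fg_iff_exists_fin_generating_family.mp
    (IsNoetherian.noetherian I)
  have ha : ∀ i, a i ∈ I := fun i => by
    rw [← hspan]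
    exact Submodule.subset_span ⟨i, rfl⟩
  choose s hs using fun (i : Fin r) n => exists_sec hG (a i) (ha i) n
  refine uniform_serre_vanishing (X ↘ Spec (CommRingCat.of A)) hL (kerSys hG a ha s hs) (fun n => ?_)
    ⟨0, isFGFrom_kerSys hG a ha s hs hspan⟩
  haveI := (hG.1 n).1
  exact Groth.Agent.Lib.H90OXModExact.isCoh_kernel (tr G n) (hG.1 (n + 1))

end Groth.Agent.Lib.FormalKerSys20
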