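/-
helper42: quasi-coherent modules are stable under binary biproducts and fibre products (computed in all modules):
`isQuasicoherent_biprod_spec`, `isQuasicoherent_biprod`, `isQuasicoherent_pullback`.
-/
import Groth.Agent.Lib.H90OXModExact
import Groth.Agent.Lib.H60TildeExact
import Groth.Agent.Lib.H90OXModQcqs
import Groth.Agent.Lib.H72PullbackQCoh
import Groth.Agent.Lib.OXModTensorQCoh
import Groth.Agent.Lib.H90OXModPush

set_option autoImplicit false
universe u
open CategoryTheory CategoryTheory.Limits AlgebraicGeometry TopologicalSpace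

namespace Groth.Agent.Lib.QCohBiprod

section Spec
variable {R : CommRingCat.{u}}

theorem isQuasicoherent_biprod_spec (M N : (Spec R).Modules) [M.IsQuasicoherent] [N.IsQuasicoherent] :
    (M ⊞ N).IsQuasicoherent := by
  haveI : PreservesBinaryBiproducts (tilde.functor R) :=
    preservesBinaryBiproducts_of_preservesBiproducts _
  have e : M ⊞ N ≅ (tilde.functor R).obj (Groth.Agent.Lib.H90OXModAffine.ΓSpec M ⊞ Groth.Agent.Lib.H90OXModAffine.ΓSpec N) :=
    (biprod.mapIso (Groth.Agent.Lib.OXModTensorQCoh.tildeΓIso M) (Groth.Agent.Lib.OXModTensorQCoh.tildeΓIso N)).symm ≪≫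
      ((tilde.functor R).mapBiprod _ _).symm
  exact Groth.Agent.Lib.H60TildeExact.isQuasicoherent_of_iso_tilde e

end Spec

variable {X : Scheme.{u}}

open Scheme.Modules in
set_option backward.isDefEq.respectTransparency false in
/-- binary biproducts of quasi-coherent modules are quasi-coherent -/
theorem isQuasicoherent_biprod (M N : X.Modules) [M.IsQuasicoherent] [N.IsQuasicoherent] :
    (M ⊞ N).IsQuasicoherent := by
  refine Groth.Agent.Lib.H90OXModExact.isQuasicoherent_of_forall_restrict (M ⊞ N)
    (fun U : X.affineOpens => U.1) (AlgebraicGeometry.iSup_affineOpens_eq_top X) (fun U => U.2) fun U => ?_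
  haveI : ((restrictFunctor U.2.fromSpec).obj M).IsQuasicoherent :=
    Scheme.Modules.isQuasicoherent_restrictFunctor _ _
  haveI : ((restrictFunctor U.2.fromSpec).obj N).IsQuasicoherent :=
    Scheme.Modules.isQuasicoherent_restrictFunctor _ _
  haveI : PreservesBinaryBiproducts (restrictFunctor U.2.fromSpec) :=
    preservesBinaryBiproducts_of_preservesBinaryCoproducts _
  have e : (restrictFunctor U.2.fromSpec).obj (M ⊞ N) ≅
      (restrictFunctor U.2.fromSpec).obj M ⊞ (restrictFunctor U.2.fromSpec).obj N :=
    (restrictFunctor U.2.fromSpec).mapBiprod M N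
  have h := isQuasicoherent_biprod_spec ((restrictFunctor U.2.fromSpec).obj M)
    ((restrictFunctor U.2.fromSpec).obj N)
  exact (SheafOfModules.isQuasicoherent.{u} (Spec Γ(X, U.1)).ringCatSheaf).prop_of_iso e.symm h

/-- fibre products (in all modules) of quasi-coherent modules are quasi-coherent -/
theorem isQuasicoherent_pullback {A B C : X.Modules} [A.IsQuasicoherent] [B.IsQuasicoherent]
    [C.IsQuasicoherent] (f : A ⟶ C) (g : B ⟶ C) : (pullback f g).IsQuasicoherent := by
  haveI := isQuasicoherent_biprod A B
  have h := Groth.Agent.Lib.H90OXModExact.isQuasicoherent_kernel (biprod.desc f (-g))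
  have e : pullback f g ≅ kernel (biprod.desc f (-g)) :=
    IsLimit.conePointUniqueUpToIso
      (Abelian.PullbackToBiproductIsKernel.isLimitPullbackToBiproduct f g) (limit.isLimit _)
  exact (SheafOfModules.isQuasicoherent.{u} X.ringCatSheaf).prop_of_iso e.symm h


section Spec2
variable {R : CommRingCat.{u}}

theorem isQuasicoherent_sigmaObj_spec {J : Type u} (M : J → (Spec R).Modules)
    (h : ∀ j, (M j).IsQuasicoherent) : (∐ M).IsQuasicoherent :=
  Groth.Agent.Lib.H60TildeExact.isQuasicoherent_colimit (Discrete.functor M) (fun j => h j.as)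

end Spec2

open Scheme.Modules in
set_option backward.isDefEq.respectTransparency false in
/-- arbitrary (small) coproducts of quasi-coherent modules are quasi-coherent -/
theorem isQuasicoherent_sigmaObj {J : Type u} (M : J → X.Modules)
    (h : ∀ j, (M j).IsQuasicoherent) : (∐ M).IsQuasicoherent := by
  refine Groth.Agent.Lib.H90OXModExact.isQuasicoherent_of_forall_restrict (∐ M)
    (fun U : X.affineOpens => U.1) (AlgebraicGeometry.iSup_affineOpens_eq_top X) (fun U => U.2) fun U => ?_
  have h' : ∀ j, ((restrictFunctor U.2.fromSpec).obj (M j)).IsQuasicoherent := fun j =>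
    haveI := h j
    Scheme.Modules.isQuasicoherent_restrictFunctor _ _
  have e : (restrictFunctor U.2.fromSpec).obj (∐ M) ≅
      ∐ fun j => (restrictFunctor U.2.fromSpec).obj (M j) :=
    PreservesCoproduct.iso (restrictFunctor U.2.fromSpec) M
  exact (SheafOfModules.isQuasicoherent.{u} (Spec Γ(X, U.1)).ringCatSheaf).prop_of_iso e.symm
    (isQuasicoherent_sigmaObj_spec _ h')

/-- finite products of quasi-coherent modules are quasi-coherent -/
theorem isQuasicoherent_piObj_of_finite {J : Type u} [Finite J] (M : J → X.Modules)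
    (h : ∀ j, (M j).IsQuasicoherent) : (∏ᶜ M).IsQuasicoherent := by
  have := Fintype.ofFinite J
  haveI : HasFiniteBiproducts X.Modules := HasFiniteBiproducts.of_hasFiniteProducts
  haveI : HasBiproductsOfShape J X.Modules := hasBiproductsOfShape_finite _
  have e : ∏ᶜ M ≅ ∐ M := (biproduct.isoProduct M).symm ≪≫ biproduct.isoCoproduct M
  exact (SheafOfModules.isQuasicoherent.{u} X.ringCatSheaf).prop_of_iso e.symm
    (isQuasicoherent_sigmaObj M h)

end Groth.Agent.Lib.QCohBiprod
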