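/-
helper20: **uniform vanishing for the `I`-adic quotients `M / I^{n+1} M`**.

`X` over `Spec A` (Noetherian), `I` an ideal of `A`, `L` a tensor-invertible `O_X`-module such that every coherent
module killed by `I` satisfies Serre vanishing w.r.t. `L` (e.g. `L` ample on `V(I O_X)`).  Then for every coherent `M`
there is `d₀` with `H^p(X, (M/I^{n+1}M) ⊗ L^d) = 0` and `H^p(X, (M ⊗ L^d)/I^{n+1}(M ⊗ L^d)) = 0`
for ALL `n`, all `d ≥ d₀` and `p > 0`; hence `lim_n H^p(X, (M ⊗ L^d)/I^{n+1}) = 0`.

* `isCohFormal_completion`: `(M/I^{n+1}M)_n` is a coherent formal module.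
* `isCokerSmul_map`: a left adjoint commuting with the scalar multiplications preserves cokernels of `I · -`.
* `nonempty_tensor_modPow_iso`: `(M/I^k M) ⊗ N ≅ (M ⊗ N)/I^k(M ⊗ N)` for `N` tensor-invertible.
-/
import Groth.Agent.Lib.FormalKerSys20
import Groth.Agent.Lib.TensorALinH44
import Groth.Agent.Lib.FormalCoker13
import Groth.Agent.Lib.QCohBiprod
import Groth.Agent.Lib.FormalFn20

set_option autoImplicit false
set_option linter.style.haveILetI false
universe u

open CategoryTheory CategoryTheory.Limits AlgebraicGeometry Opposite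

namespace Groth.Agent.Lib.FormalGr20

open Formal Groth.Agent.Lib.UnifVanSys20 Groth.Agent.Lib.UnifVan20 Groth.Agent.Lib.FormalCoker13
open Groth.Agent.Lib.FormalKerSys20 Groth.Agent.Lib.TwistEquiv Groth.Agent.Lib.OXModTensor
open Groth.Agent.Lib.CohLES CohB1

variable {A : Type u} [CommRing A] {X : Scheme.{u}} [X.Over (Spec (CommRingCat.of A))]

/-- cancellation: if `q₁` is epi and `q₁ ≫ q₂` is a cokernel of `J · -` then so is `q₂`. -/
theorem isCokerSmul_of_comp {J : Ideal A} {N N' N'' : X.Modules} (q₁ : N ⟶ N') [Epi q₁]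
    (q₂ : N' ⟶ N'') (h : IsCokerSmul J (q₁ ≫ q₂)) : IsCokerSmul J q₂ := by
  haveI := h.epi
  refine ⟨fun a ha => ?_, epi_of_epi q₁ q₂, ?_⟩
  · rw [← cancel_epi q₁, comp_zero, ← Category.assoc, ← smulMod_naturality, Category.assoc]
    exact h.1 a ha
  · intro T g hg
    obtain ⟨g', hg'⟩ := h.2.2 (q₁ ≫ g) (fun a ha => by
      rw [← Category.assoc, smulMod_naturality, Category.assoc, hg a ha, comp_zero])
    exact ⟨g', by rw [← cancel_epi q₁, ← Category.assoc, hg']⟩

theorem isCoh_modPow (I : Ideal A) (k : ℕ) {M : X.Modules} (hM : Coh.IsCoh M) :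
    Coh.IsCoh (modPow I k M) := by
  haveI : (∐ fun _ : ↥(I ^ k) => M).IsQuasicoherent :=
    QCohBiprod.isQuasicoherent_sigmaObj _ (fun _ => hM.1)
  exact H90OXModExact.isCoh_cokernel (smulFamily (I ^ k) M) hM

theorem completion_map_succ (I : Ideal A) (M : X.Modules) (n : ℕ) :
    (completion I M).map (homOfLE (Nat.le_succ n)).op = modPowTrans I (n + 1) M := by
  unfold completion
  exact Functor.ofOpSequence_map_homOfLE_succ _ n

/-- The `I`-adic system of a coherent module is a coherent formal module. -/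
theorem isCohFormal_completion (I : Ideal A) {M : X.Modules} (hM : Coh.IsCoh M) :
    IsCohFormal I (completion I M) := by
  refine ⟨fun n => isCoh_modPow I (n + 1) hM, fun n => FormalFn20.killedBy_modPow I (n + 1) M,
    fun n => ?_⟩
  have h1 : IsCokerSmul (I ^ (n + 1)) (modPowTrans I (n + 1) M) := by
    haveI : Epi (modPowπ I (n + 1 + 1) M) := FormalFn20.epi_modPowπ I (n + 1 + 1) M
    apply isCokerSmul_of_comp (modPowπ I (n + 1 + 1) M)
    rw [modPowπ_trans]
    exact isCokerSmul_modPowπ I (n + 1) M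
  exact (isCokerSmul_iff _ _).1 (by rw [completion_map_succ]; exact h1)

theorem killedBy_kernel {J : Ideal A} {F G : X.Modules} (φ : F ⟶ G) (hF : KilledBy J F) :
    KilledBy J (kernel φ) := by
  intro a ha
  rw [← cancel_mono (kernel.ι φ), zero_comp, smulMod_naturality, hF a ha, comp_zero]

theorem killedBy_cokernel {J : Ideal A} {F G : X.Modules} (φ : F ⟶ G) (hG : KilledBy J G) :
    KilledBy J (cokernel φ) := by
  intro a ha
  rw [← cancel_epi (cokernel.π φ), comp_zero, ← smulMod_naturality, hG a ha, zero_comp]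

/-- The kernels of the transition maps of a coherent formal module are killed by `I`. -/
theorem killedBy_kernel_tr {I : Ideal A} {G : ℕᵒᵖ ⥤ X.Modules} (hG : IsCohFormal I G) (n : ℕ) :
    KilledBy I (kernel (tr G n)) := by
  intro a ha
  rw [← cancel_mono (kernel.ι (tr G n)), zero_comp, smulMod_naturality, ι_smulMod hG n a ha]

section Uniform

variable [IsNoetherianRing A] [IsLocallyNoetherian X] [CompactSpace X]

/-- **Uniform vanishing for the kernels of the transition maps**, assuming Serre vanishing for coherent modules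
killed by `I`. -/
theorem uniform_vanishing_kernels {I : Ideal A} {L L' : X.Modules}
    (e : tensorMod L L' ≅ Coh.structureModule X)
    (hSV : ∀ F : X.Modules, Coh.IsCoh F → KilledBy I F → ∃ d₀, ∀ d, d₀ ≤ d → Van L d F)
    {G : ℕᵒᵖ ⥤ X.Modules} (hG : IsCohFormal I G) :
    ∃ d₀, ∀ d, d₀ ≤ d → ∀ n, Van L d (kernel (tr G n)) := by
  obtain ⟨r, a, hspan⟩ := Submodule.fg_iff_exists_fin_generating_family.mp
    (IsNoetherian.noetherian I)
  have ha : ∀ i, a i ∈ I := fun i => by
    rw [← hspan]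
    exact Submodule.subset_span ⟨i, rfl⟩
  choose s hs using fun (i : Fin r) n => exists_sec hG (a i) (ha i) n
  refine UnifVan20.uniform_vanishing e (fun F => Coh.IsCoh F ∧ KilledBy I F) (fun F h => h.1)
    (fun φ hF hG' => ⟨?_, killedBy_kernel φ hF.2⟩) (fun φ hF hG' => ⟨?_, killedBy_cokernel φ hG'.2⟩)
    (fun F hF => hSV F hF.1 hF.2) (kerSys hG a ha s hs) (fun n => ⟨?_, killedBy_kernel_tr hG n⟩)
    ⟨0, isFGFrom_kerSys hG a ha s hs hspan⟩
  · haveI := hG'.1.1
    exact H90OXModExact.isCoh_kernel φ hF.1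
  · haveI := hF.1.1
    exact H90OXModExact.isCoh_cokernel φ hG'.1
  · haveI := (hG.1 n).1
    exact H90OXModExact.isCoh_kernel (tr G n) (hG.1 (n + 1))

/-- **Uniform vanishing for all terms of a coherent formal module.** -/
theorem uniform_vanishing_terms {I : Ideal A} {L L' : X.Modules}
    (e : tensorMod L L' ≅ Coh.structureModule X)
    (hSV : ∀ F : X.Modules, Coh.IsCoh F → KilledBy I F → ∃ d₀, ∀ d, d₀ ≤ d → Van L d F)
    {G : ℕᵒᵖ ⥤ X.Modules} (hG : IsCohFormal I G) :
    ∃ d₀, ∀ d, d₀ ≤ d → ∀ n, Van L d (G.obj (op n)) := by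
  obtain ⟨d₁, h₁⟩ := uniform_vanishing_kernels e hSV hG
  obtain ⟨d₂, h₂⟩ := hSV (G.obj (op 0)) (hG.1 0) (by
    have := hG.2.1 0
    rwa [zero_add, pow_one] at this)
  refine ⟨max d₁ d₂, fun d hd n => ?_⟩
  induction n with
  | zero => exact h₂ d (le_trans (le_max_right _ _) hd)
  | succ n ih =>
    haveI := epi_tr hG n
    let S : ShortComplex X.Modules :=
      ShortComplex.mk (kernel.ι (tr G n)) (tr G n) (kernel.condition _)
    have hS : S.ShortExact :=
      { exact := ShortComplex.exact_of_f_is_kernel _ (kernelIsKernel (tr G n))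
        mono_f := inferInstanceAs (Mono (kernel.ι (tr G n)))
        epi_g := inferInstanceAs (Epi (tr G n)) }
    have h1 : Van L d S.X₁ := h₁ d (le_trans (le_max_left _ _) hd) n
    have h3 : Van L d S.X₃ := ih
    exact van_X₂ e d S hS h1 h3

end Uniform


section Adj

variable {X' : Scheme.{u}} [X'.Over (Spec (CommRingCat.of A))]

/-- A left adjoint commuting with the scalar multiplications preserves cokernels of `J · -`. -/
theorem isCokerSmul_map {T : X.Modules ⥤ X'.Modules} {T' : X'.Modules ⥤ X.Modules} (adj : T ⊣ T')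
    [T.PreservesZeroMorphisms] [T'.PreservesZeroMorphisms]
    (hT : ∀ (N : X.Modules) (a : A), T.map (smulMod A N a) = smulMod A (T.obj N) a)
    {J : Ideal A} {N N' : X.Modules} {q : N ⟶ N'} (h : IsCokerSmul J q) :
    IsCokerSmul J (T.map q) := by
  haveI := h.epi
  haveI : T.PreservesEpimorphisms := Functor.preservesEpimorphisms_of_adjunction adj
  refine ⟨fun a ha => ?_, inferInstance, ?_⟩
  · rw [← hT, ← T.map_comp, h.1 a ha, T.map_zero]
  · intro Z g hg
    have hg0 : ∀ a ∈ J, smulMod A N a ≫ adj.homEquiv N Z g = 0 := by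
      intro a ha
      rw [← adj.homEquiv_naturality_left, hT, hg a ha, adj.homEquiv_unit, T'.map_zero, comp_zero]
    obtain ⟨g₀, hg₀⟩ := h.2.2 (adj.homEquiv N Z g) hg0
    refine ⟨(adj.homEquiv N' Z).symm g₀, ?_⟩
    rw [← adj.homEquiv_naturality_left_symm, hg₀, Equiv.symm_apply_apply]

/-- A left adjoint commuting with the scalar multiplications commutes with `M ↦ M / I^k M`. -/
theorem exists_map_modPow_iso {T : X.Modules ⥤ X'.Modules} {T' : X'.Modules ⥤ X.Modules}
    (adj : T ⊣ T') [T.PreservesZeroMorphisms] [T'.PreservesZeroMorphisms]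
    (hT : ∀ (N : X.Modules) (a : A), T.map (smulMod A N a) = smulMod A (T.obj N) a)
    (I : Ideal A) (k : ℕ) (M : X.Modules) :
    ∃ e : T.obj (modPow I k M) ≅ modPow I k (T.obj M),
      T.map (modPowπ I k M) ≫ e.hom = modPowπ I k (T.obj M) :=
  IsCokerSmul.uniqueIso (isCokerSmul_map adj hT (isCokerSmul_modPowπ I k M))
    (isCokerSmul_modPowπ I k (T.obj M))

end Adj

theorem tensorRightFunctor_map_smulMod (N M : X.Modules) (a : A) :
    (tensorRightFunctor N).map (smulMod A M a) = smulMod A ((tensorRightFunctor N).obj M) a :=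
  TensorALinH44.tensorRightMod_map_mulHom N M _

/-- `(M / I^k M) ⊗ N ≅ (M ⊗ N) / I^k (M ⊗ N)` for tensor-invertible `N`. -/
theorem nonempty_tensor_modPow_iso {N N' : X.Modules} (e : tensorMod N N' ≅ Coh.structureModule X)
    (I : Ideal A) (k : ℕ) (M : X.Modules) :
    Nonempty (tensorMod (modPow I k M) N ≅ modPow I k (tensorMod M N)) := by
  haveI := isEquivalence_tensorRightFunctor e
  obtain ⟨e', -⟩ := exists_map_modPow_iso (tensorRightFunctor N).asEquivalence.toAdjunction
    (fun M a => tensorRightFunctor_map_smulMod N M a) I k M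
  exact ⟨e'⟩

section Uniform2

variable [IsNoetherianRing A] [IsLocallyNoetherian X] [CompactSpace X]

/-- **Uniform vanishing for the `I`-adic quotients of the twists.** -/
theorem uniform_vanishing_modPow_twist {I : Ideal A} {L L' : X.Modules}
    (e : tensorMod L L' ≅ Coh.structureModule X)
    (hSV : ∀ F : X.Modules, Coh.IsCoh F → KilledBy I F → ∃ d₀, ∀ d, d₀ ≤ d → Van L d F)
    {M : X.Modules} (hM : Coh.IsCoh M) :
    ∃ d₀, ∀ d, d₀ ≤ d → ∀ n p, 0 < p →
      Subsingleton (Coh.HH X (modPow I (n + 1) (tensorMod M (tensorPow L d))) p) := by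
  obtain ⟨d₀, h⟩ := uniform_vanishing_terms e hSV (isCohFormal_completion I hM)
  refine ⟨d₀, fun d hd n p hp => ?_⟩
  obtain ⟨e'⟩ := nonempty_tensor_modPow_iso (CohFinAmple.powInvIso e d) I (n + 1) M
  haveI : Subsingleton (Coh.HH X (tensorMod (modPow I (n + 1) M) (tensorPow L d)) p) := h d hd n p hp
  exact subsingleton_of_iso e'.symm p

/-- ... hence the inverse limit `lim_n H^p(X, (M ⊗ L^d)/I^{n+1})` vanishes. -/
theorem uniform_vanishing_HHlim {I : Ideal A} {L L' : X.Modules}
    (e : tensorMod L L' ≅ Coh.structureModule X)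
    (hSV : ∀ F : X.Modules, Coh.IsCoh F → KilledBy I F → ∃ d₀, ∀ d, d₀ ≤ d → Van L d F)
    {M : X.Modules} (hM : Coh.IsCoh M) :
    ∃ d₀, ∀ d, d₀ ≤ d → ∀ p, 0 < p →
      Subsingleton (HHlim I (tensorMod M (tensorPow L d)) p) := by
  obtain ⟨d₀, h⟩ := uniform_vanishing_modPow_twist e hSV hM
  refine ⟨d₀, fun d hd p hp => ⟨fun x y => ?_⟩⟩
  apply Subtype.ext
  funext n
  haveI := h d hd n p hp
  exact Subsingleton.elim _ _

end Uniform2


/-- isomorphic modules have isomorphic `I`-adic quotients -/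
theorem nonempty_modPow_iso {N N' : X.Modules} (e : N ≅ N') (I : Ideal A) (k : ℕ) :
    Nonempty (modPow I k N ≅ modPow I k N') := by
  obtain ⟨e', -⟩ := IsCokerSmul.uniqueIso (isCokerSmul_modPowπ I k N)
    ((isCokerSmul_modPowπ I k N').of_iso_left e.hom)
  exact ⟨e'⟩

/-- vanishing of `lim_n H^p(X, N/I^{n+1}N)` from termwise vanishing for an isomorphic module -/
theorem subsingleton_HHlim_of_iso {N N' : X.Modules} (e : N ≅ N') (I : Ideal A) (p : ℕ)
    (h : ∀ n, Subsingleton (Coh.HH X (modPow I (n + 1) N') p)) : Subsingleton (HHlim I N p) := by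
  refine ⟨fun x y => ?_⟩
  apply Subtype.ext
  funext n
  obtain ⟨e'⟩ := nonempty_modPow_iso e I (n + 1)
  haveI := h n
  haveI : Subsingleton (Coh.HH X (modPow I (n + 1) N) p) := subsingleton_of_iso e' p
  exact Subsingleton.elim _ _

end Groth.Agent.Lib.FormalGr20
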