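/-
helper78: inclusions of ideal modules `idealMod 𝔟 ⟶ idealMod 𝔞` for `𝔟 ≤ 𝔞`, and annihilation statements:
* `idealModMap h`, `idealModMap_ι`, `mono_idealModMap`, `idealFn_idealModMap`
* `killedByIdeal_idealMod_of_mul_eq_bot : J * 𝔟 = ⊥ → KilledByIdeal J (idealMod 𝔟)`
* `killedByIdeal_cokernel I 𝔞 : KilledByIdeal I (cokernel (idealMod (I * 𝔞) ⟶ idealMod 𝔞))`
-/
import Groth.Agent.Lib.IdealMod2
import Groth.Agent.Lib.H90OXModExact
import Groth.Agent.Lib.H77QCohKernel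

set_option autoImplicit false
universe u

open CategoryTheory CategoryTheory.Limits AlgebraicGeometry Opposite TopologicalSpace
open Groth.Agent.Lib.IdealMod

namespace Groth.Agent.Lib.H78IdealProd

variable {X : Scheme.{u}}

theorem subschemeι_app_eq_zero_of_le {𝔟 𝔞 : X.IdealSheafData} (h : 𝔟 ≤ 𝔞) (U : X.Opens) (s : Γ(X, U))
    (hs : (𝔟.subschemeι.app U).hom s = 0) : (𝔞.subschemeι.app U).hom s = 0 := by
  have e : 𝔞.subschemeι = Scheme.IdealSheafData.inclusion h ≫ 𝔟.subschemeι :=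
    (Scheme.IdealSheafData.inclusion_subschemeι h).symm
  rw [Scheme.Hom.congr_app e U]
  have h2 : ((Scheme.IdealSheafData.inclusion h ≫ 𝔟.subschemeι).app U).hom s = 0 := by
    change ((Scheme.IdealSheafData.inclusion h).app (𝔟.subschemeι ⁻¹ᵁ U)).hom
      ((𝔟.subschemeι.app U).hom s) = 0
    rw [hs, map_zero]
  rw [CommRingCat.hom_comp, RingHom.comp_apply, h2, map_zero]

theorem idealModι_comp_toSubscheme {𝔟 𝔞 : X.IdealSheafData} (h : 𝔟 ≤ 𝔞) :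
    ClSub.idealModι 𝔟 ≫ ClSub.toSubscheme 𝔞 = 0 := by
  apply Scheme.Modules.hom_ext
  intro U
  ext s
  have h1 := (mem_range_idealModι_iff 𝔟 U _).1 ⟨s, rfl⟩
  exact subschemeι_app_eq_zero_of_le h U _ h1

/-- The inclusion `idealMod 𝔟 ⟶ idealMod 𝔞` for `𝔟 ≤ 𝔞`. -/
noncomputable def idealModMap {𝔟 𝔞 : X.IdealSheafData} (h : 𝔟 ≤ 𝔞) :
    ClSub.idealMod 𝔟 ⟶ ClSub.idealMod 𝔞 :=
  kernel.lift (ClSub.toSubscheme 𝔞) (ClSub.idealModι 𝔟) (idealModι_comp_toSubscheme h)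

@[reassoc]
theorem idealModMap_ι {𝔟 𝔞 : X.IdealSheafData} (h : 𝔟 ≤ 𝔞) :
    idealModMap h ≫ ClSub.idealModι 𝔞 = ClSub.idealModι 𝔟 :=
  kernel.lift_ι _ _ _

instance mono_idealModMap {𝔟 𝔞 : X.IdealSheafData} (h : 𝔟 ≤ 𝔞) : Mono (idealModMap h) := by
  have : Mono (idealModMap h ≫ ClSub.idealModι 𝔞) := by
    rw [idealModMap_ι]; infer_instance
  exact mono_of_mono (idealModMap h) (ClSub.idealModι 𝔞)

theorem idealFn_idealModMap {𝔟 𝔞 : X.IdealSheafData} (h : 𝔟 ≤ 𝔞) (U : X.Opens)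
    (t : Γ(ClSub.idealMod 𝔟, U)) :
    idealFn 𝔞 U ((idealModMap h).app U t) = idealFn 𝔟 U t := by
  have := congrArg (fun φ => (Scheme.Modules.Hom.app φ U) t) (idealModMap_ι h)
  exact this

theorem smul_eq_zero_of_mul_eq_bot {J 𝔟 : X.IdealSheafData} (h : J * 𝔟 = ⊥) (U : X.affineOpens)
    (a : Γ(X, U.1)) (ha : a ∈ J.ideal U) (m : Γ(ClSub.idealMod 𝔟, U.1)) : a • m = 0 := by
  apply idealFn_injective 𝔟 U.1
  rw [idealFn_smul, idealFn_zero]
  have h1 : a * idealFn 𝔟 U.1 m ∈ (J * 𝔟).ideal U := Ideal.mul_mem_mul ha (idealFn_mem 𝔟 U m)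
  rw [h] at h1
  exact h1

/-- If `J * 𝔟 = ⊥` then the ideal sheaf `𝔟` is killed by `J`. -/
theorem killedByIdeal_idealMod_of_mul_eq_bot {J 𝔟 : X.IdealSheafData} (h : J * 𝔟 = ⊥) :
    ClSub.KilledByIdeal J (ClSub.idealMod 𝔟) := by
  intro U a ha m
  exact smul_eq_zero_of_mul_eq_bot h U a ha m

theorem smul_cokernel_eq_zero (I 𝔞 : X.IdealSheafData) (h : I * 𝔞 ≤ 𝔞) (U : X.affineOpens)
    (a : Γ(X, U.1)) (ha : a ∈ I.ideal U) (q : Γ(cokernel (idealModMap h), U.1)) : a • q = 0 := by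
  haveI : (ClSub.idealMod 𝔞).IsQuasicoherent := Groth.Agent.Lib.H77QCohKernel.isQuasicoherent_idealMod _
  haveI : (ClSub.idealMod (I * 𝔞)).IsQuasicoherent :=
    Groth.Agent.Lib.H77QCohKernel.isQuasicoherent_idealMod _
  haveI : (cokernel (idealModMap h)).IsQuasicoherent :=
    Groth.Agent.Lib.H90OXModExact.isQuasicoherent_cokernel _
  obtain ⟨m, rfl⟩ := Groth.Agent.Lib.H90OXModExact.surjective_app_of_epi (cokernel.π (idealModMap h)) U.2 q
  have h1 : a * idealFn 𝔞 U.1 m ∈ (I * 𝔞).ideal U := Ideal.mul_mem_mul ha (idealFn_mem 𝔞 U m)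
  obtain ⟨t, ht⟩ := exists_idealFn_eq (I * 𝔞) U h1
  have h2 : (idealModMap h).app U.1 t = a • m := by
    apply idealFn_injective 𝔞 U.1
    rw [idealFn_idealModMap, ht, idealFn_smul]
  have h3 : (cokernel.π (idealModMap h)).app U.1 ((idealModMap h).app U.1 t) = 0 := by
    have := congrArg (fun φ => (Scheme.Modules.Hom.app φ U.1) t) (cokernel.condition (idealModMap h))
    exact this
  rw [h2, Scheme.Modules.Hom.app_smul] at h3
  exact h3

/-- The quotient `𝔞 / I𝔞` is killed by `I`. -/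
theorem killedByIdeal_cokernel (I 𝔞 : X.IdealSheafData) (h : I * 𝔞 ≤ 𝔞) :
    ClSub.KilledByIdeal I (cokernel (idealModMap h)) := by
  intro U a ha q
  exact smul_cokernel_eq_zero I 𝔞 h U a ha q

end Groth.Agent.Lib.H78IdealProd
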