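/-
helper78: devissage tools for ampleness via ideal sheaves.
* `isAmple_of_H1_idealMod`: variant of S0050 whose hypothesis only concerns the ideal modules `idealMod 𝔞`
  of `IdealSheafData`.
* `subsingleton_HH_push_twist`: for `f` affine, `H^q(Z, G ⊗ f^*L) = 0 ⇒ H^q(P, f_*G ⊗ L) = 0`.
* `vanishing_push`: `i : Z ⟶ X` affine, `Z` proper over Noetherian `R`, `i^*L` ample, `G` coherent on `Z` ⇒
  `H^p(X, i_*G ⊗ L^n) = 0` for `n ≫ 0`, `p > 0`.
* `vanishing_of_killed`: the same for a coherent module on `X` killed by an ideal sheaf `I` with `L|V(I)` ample.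
-/
import Groth.Agent.Lib.H78IdealProd
import Groth.Agent.Lib.H78SerreVan
import Groth.Agent.Lib.H78H1Ample
import Groth.Agent.Lib.H78AtlasIso
import Groth.Agent.Lib.CohLESExact
import Groth.Agent.Lib.H90DevFilt
import Groth.Agent.S0786

set_option autoImplicit false
universe u

open CategoryTheory CategoryTheory.Limits AlgebraicGeometry Opposite TopologicalSpace CohB1
open Groth.Agent.Lib.IdealMod Groth.Agent.Lib.OXModTensor Groth.Agent.Lib.CohLES
open Groth.Agent.Lib.H90Invertible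

namespace Groth.Agent.Lib.H78IdealDev

/-- Variant of S0050: it suffices to test `H¹` on the ideal modules of `IdealSheafData`. -/
theorem isAmple_of_H1_idealMod (X : Scheme.{u}) [CompactSpace X] (L : X.Modules)
    (hL : PicF.IsInvertible L)
    (h : ∀ 𝔞 : X.IdealSheafData,
      ∃ n : ℕ, Subsingleton (Coh.HH X (CohB1.tensorMod (ClSub.idealMod 𝔞) (CohB1.tensorPow L (n + 1))) 1)) :
    CohB1.IsAmple L := by
  refine ⟨hL, inferInstance, fun x₀ => ?_⟩
  obtain ⟨x, hxmem, hx⟩ := IsClosed.exists_closed_singleton (isClosed_closure (s := ({x₀} : Set X)))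
    ⟨x₀, subset_closure rfl⟩
  have hspec : x₀ ⤳ x := specializes_iff_mem_closure.2 hxmem
  obtain ⟨U₀, hxU₀, e₀, he₀⟩ := (Groth.Agent.Lib.H90Invertible.isInvertible_iff_exists_isGen L).1 hL x
  obtain ⟨U, hU, hxU, hUle⟩ := TopologicalSpace.Opens.isBasis_iff_nbhd.1 X.isBasis_affineOpens hxU₀
  have he : Groth.Agent.Lib.H90Invertible.IsGen L U (Groth.Agent.Lib.H78TensorGen.rs L hUle e₀) := he₀.mono hUle
  obtain ⟨n, hn⟩ := h (Scheme.IdealSheafData.vanishingIdeal (Groth.Agent.Lib.H78H1Ample.cl U hx))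
  obtain ⟨s, hxs, haff⟩ := Groth.Agent.Lib.H78H1Ample.exists_sec_of_H1
    (Groth.Agent.Lib.H78TensorGen.isInvertible_tensorPow hL (n + 1)) hU
    (Groth.Agent.Lib.H78TensorGen.isGen_epow he (n + 1)) hxU hx hn
  exact ⟨n, s, hspec.mem_open (CohB1.genLocus _ s).2 hxs, haff⟩

/-- for `f : Z ⟶ P` affine, `G` quasi-coherent on `Z`, `L` invertible on `P`:
`H^q(Z, G ⊗ f^*L) = 0 ⇒ H^q(P, f_*G ⊗ L) = 0`. -/
theorem subsingleton_HH_push_twist {Z P : Scheme.{u}} (f : Z ⟶ P) [IsAffineHom f]
    (G : Z.Modules) [hG : G.IsQuasicoherent] (L : P.Modules) (hL : PicF.IsInvertible L) (q : ℕ)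
    [h : Subsingleton (Coh.HH Z (tensorMod G ((Scheme.Modules.pullback f).obj L)) q)] :
    Subsingleton (Coh.HH P (tensorMod ((Scheme.Modules.pushforward f).obj G) L) q) := by
  haveI : ((Scheme.Modules.pullback f).obj L).IsQuasicoherent :=
    (isCoh_of_isInvertible (isInvertible_pullback f hL)).1
  haveI : Coh.IsQCoh (tensorMod G ((Scheme.Modules.pullback f).obj L)) :=
    Groth.Agent.Lib.OXModTensorQCoh.isQuasicoherent_tensorMod G _
  obtain ⟨e⟩ := Groth.Agent.S0012.result f (tensorMod G ((Scheme.Modules.pullback f).obj L)) q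
  haveI : Subsingleton (Coh.HH P
      ((Coh.push f).obj (tensorMod G ((Scheme.Modules.pullback f).obj L))) q) :=
    e.symm.toEquiv.subsingleton
  exact subsingleton_of_iso (Groth.Agent.Lib.ProjFormulaInv.projIso f G L hL) q

attribute [local instance] ULift.algebra' in
theorem vanishing_push (R : Type u) [CommRing R] [IsNoetherianRing R] {Z X : Scheme.{u}}
    (g : Z ⟶ Spec (CommRingCat.of R)) [IsProper g] (i : Z ⟶ X) [IsAffineHom i]
    (L : X.Modules) (hL : PicF.IsInvertible L)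
    (hamp : CohB1.IsAmple ((Scheme.Modules.pullback i).obj L)) (G : Z.Modules) (hG : Coh.IsCoh G) :
    ∃ n₀ : ℕ, ∀ n, n₀ ≤ n → ∀ p : ℕ, 0 < p →
      Subsingleton (Coh.HH X (tensorMod ((Scheme.Modules.pushforward i).obj G) (tensorPow L n)) p) := by
  obtain ⟨n₀, h⟩ := Groth.Agent.Lib.H78SerreVan.serre_vanishing_of_isAmple g hamp G hG
  refine ⟨n₀, fun n hn p hp => ?_⟩
  haveI := hG.1
  obtain ⟨e⟩ := Groth.Agent.Lib.H78AtlasIso.nonempty_pullback_tensorPow_iso i hL n
  haveI := h n hn p hp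
  haveI : Subsingleton (Coh.HH Z (tensorMod G ((Scheme.Modules.pullback i).obj (tensorPow L n))) p) :=
    subsingleton_of_iso (tensorModIso (Iso.refl G) e) p
  exact subsingleton_HH_push_twist i G (tensorPow L n)
    (Groth.Agent.Lib.H78TensorGen.isInvertible_tensorPow hL n) p

/-- A coherent module killed by an ideal sheaf `I` such that `L|V(I)` is ample (and `V(I)` is proper over a
Noetherian ring) has vanishing higher cohomology after twisting by high powers of `L`. -/
theorem vanishing_of_killed (R : Type u) [CommRing R] [IsNoetherianRing R] {X : Scheme.{u}}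
    [IsLocallyNoetherian X] (I : X.IdealSheafData)
    (g : I.subscheme ⟶ Spec (CommRingCat.of R)) [IsProper g]
    (L : X.Modules) (hL : PicF.IsInvertible L)
    (hamp : CohB1.IsAmple ((Scheme.Modules.pullback I.subschemeι).obj L)) (F : X.Modules)
    (hF : Coh.IsCoh F) (hk : ClSub.KilledByIdeal I F) :
    ∃ n₀ : ℕ, ∀ n, n₀ ≤ n → ∀ p : ℕ, 0 < p →
      Subsingleton (Coh.HH X (tensorMod F (tensorPow L n)) p) := by
  have hk' : ClSub.KilledByIdeal I.subschemeι.ker F := by
    rw [Scheme.IdealSheafData.ker_subschemeι]; exact hk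
  obtain ⟨G, hG, ⟨e⟩⟩ := Groth.Agent.S0786.result I.subschemeι F hF hk'
  obtain ⟨n₀, h⟩ := vanishing_push R g I.subschemeι L hL hamp G hG
  refine ⟨n₀, fun n hn p hp => ?_⟩
  haveI := h n hn p hp
  exact subsingleton_of_iso (tensorModIso e.symm (Iso.refl (tensorPow L n))) p

open Groth.Agent.Lib.H78IdealProd in
/-- **Two ideals with product zero**: if `I * J = ⊥` and `L` is ample on `V(I)` and on `V(J)`, then `L` is ample
(`X` proper over a Noetherian ring). -/
theorem isAmple_of_mul_eq_bot (R : Type u) [CommRing R] [IsNoetherianRing R] {X : Scheme.{u}}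
    (f : X ⟶ Spec (CommRingCat.of R)) [IsProper f] (L : X.Modules) (hL : PicF.IsInvertible L)
    (I J : X.IdealSheafData) (hIJ : I * J = ⊥)
    (hI : CohB1.IsAmple ((Scheme.Modules.pullback I.subschemeι).obj L))
    (hJ : CohB1.IsAmple ((Scheme.Modules.pullback J.subschemeι).obj L)) :
    CohB1.IsAmple L := by
  haveI : IsLocallyNoetherian X := LocallyOfFiniteType.isLocallyNoetherian f
  haveI : CompactSpace X := QuasiCompact.compactSpace_of_compactSpace f
  refine isAmple_of_H1_idealMod X L hL (fun 𝔞 => ?_)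
  have hle : I * 𝔞 ≤ 𝔞 := fun U => (Ideal.mul_le_right : I.ideal U * 𝔞.ideal U ≤ 𝔞.ideal U)
  have hS : (ShortComplex.mk (idealModMap hle) (cokernel.π (idealModMap hle))
      (cokernel.condition (idealModMap hle))).ShortExact :=
    ShortComplex.ShortExact.mk' (ShortComplex.exact_of_g_is_cokernel _ (cokernelIsCokernel _))
      inferInstance inferInstance
  have hbot : J * (I * 𝔞) = ⊥ := by
    rw [← mul_assoc, mul_comm J I, hIJ]
    exact zero_mul 𝔞
  have hk1 : ClSub.KilledByIdeal J (ClSub.idealMod (I * 𝔞)) :=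
    killedByIdeal_idealMod_of_mul_eq_bot hbot
  have hk2 : ClSub.KilledByIdeal I (cokernel (idealModMap hle)) := killedByIdeal_cokernel I 𝔞 hle
  have hcO := Groth.Agent.Lib.CohFinAmple.isCoh_structureModule X
  have hc1 : Coh.IsCoh (ClSub.idealMod (I * 𝔞)) :=
    Groth.Agent.Lib.H90DevFilt.isCoh_of_mono (ClSub.idealModι _) hcO
  have hc0 : Coh.IsCoh (ClSub.idealMod 𝔞) :=
    Groth.Agent.Lib.H90DevFilt.isCoh_of_mono (ClSub.idealModι _) hcO
  haveI := hc1.1
  have hc2 : Coh.IsCoh (cokernel (idealModMap hle)) :=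
    Groth.Agent.Lib.H90OXModExact.isCoh_cokernel _ hc0
  obtain ⟨n₁, h₁⟩ := vanishing_of_killed R J (J.subschemeι ≫ f) L hL hJ _ hc1 hk1
  obtain ⟨n₂, h₂⟩ := vanishing_of_killed R I (I.subschemeι ≫ f) L hL hI _ hc2 hk2
  refine ⟨max n₁ n₂, ?_⟩
  obtain ⟨P', -, ⟨e'⟩⟩ := Groth.Agent.Lib.H78Dual.exists_tensor_inverse
    (Groth.Agent.Lib.H78TensorGen.isInvertible_tensorPow hL (max n₁ n₂ + 1))
  have e'' : CohB1.tensorMod (tensorPow L (max n₁ n₂ + 1)) P' ≅ Coh.structureModule X :=
    braiding _ P' ≪≫ e'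
  have hT := Groth.Agent.Lib.TwistEquiv.shortExact_map_tensorRight e'' hS
  haveI : Subsingleton (Coh.HH X ((ShortComplex.mk (idealModMap hle) (cokernel.π (idealModMap hle))
      (cokernel.condition (idealModMap hle))).map
        (Groth.Agent.Lib.TwistEquiv.tensorRightFunctor (tensorPow L (max n₁ n₂ + 1)))).X₁ 1) :=
    h₁ _ (by omega) 1 one_pos
  haveI : Subsingleton (Coh.HH X ((ShortComplex.mk (idealModMap hle) (cokernel.π (idealModMap hle))
      (cokernel.condition (idealModMap hle))).map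
        (Groth.Agent.Lib.TwistEquiv.tensorRightFunctor (tensorPow L (max n₁ n₂ + 1)))).X₃ 1) :=
    h₂ _ (by omega) 1 one_pos
  exact Groth.Agent.Lib.CohLES.subsingleton_mid hT 1

end Groth.Agent.Lib.H78IdealDev
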