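/-
helper90: the annihilator ideal sheaf of a quasi-coherent module of finite type, and the scheme-theoretic support.
* `annIdeal F hft : X.IdealSheafData` with `ideal U = Module.annihilator Γ(X,U) Γ(F,U)`.
* `isIso_unit_annIdeal`: `F ≅ i_* i^* F` via the unit for `i` the closed immersion of `annIdeal F`.
* `le_annIdeal_of_isIso_unit`, `support_annIdeal`.
-/
import Mathlib
import Groth.Agent.Lib.H90AnnLoc
import Groth.Agent.Lib.H90OXModFP
import Groth.Agent.Lib.H90OXModAffineFT
import Groth.Agent.Lib.H90ClosedUnit
import Groth.Agent.Lib.SupportTensor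

set_option autoImplicit false
set_option linter.style.haveILetI false
universe u
open CategoryTheory AlgebraicGeometry TopologicalSpace Opposite TensorProduct

namespace Groth.Agent.Lib.H90AnnIdeal

open AlgebraicGeometry.Scheme.Modules Groth.Agent.Lib.H90OXModFP Groth.Agent.Lib.AssPush
  Groth.Agent.Lib.H90AnnLoc Groth.Agent.Lib.H90ClosedUnit

variable {X : Scheme.{u}}

set_option backward.isDefEq.respectTransparency false in
theorem map_annihilator_basicOpen (F : X.Modules) [F.IsQuasicoherent] (U : X.affineOpens)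
    [Module.Finite Γ(X, U.1) Γ(F, U.1)] (f : Γ(X, U.1)) :
    (Module.annihilator Γ(X, U.1) Γ(F, U.1)).map
        (X.presheaf.map (homOfLE <| X.basicOpen_le f).op).hom =
      Module.annihilator Γ(X, X.basicOpen f) Γ(F, X.basicOpen f) := by
  letI := moduleBasicOpen F f
  haveI := isScalarTower_basicOpen F f
  haveI := isLocalizedModule_resBasicOpen F (isLocalizingOn_of_isQuasicoherent F U.2) f
  haveI : IsLocalization.Away f Γ(X, X.basicOpen f) := U.2.isLocalization_basicOpen f
  exact (annihilator_eq_map (Submonoid.powers f) Γ(X, X.basicOpen f) (resBasicOpen F f)).symm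

/-- The annihilator ideal sheaf of a quasi-coherent module with finitely generated sections over affine opens. -/
noncomputable def annIdeal (F : X.Modules) [F.IsQuasicoherent]
    (hft : ∀ U : X.affineOpens, Module.Finite Γ(X, U.1) Γ(F, U.1)) : X.IdealSheafData where
  ideal U := Module.annihilator Γ(X, U.1) Γ(F, U.1)
  map_ideal_basicOpen U f := by
    haveI := hft U
    exact map_annihilator_basicOpen F U f

theorem annIdeal_ideal (F : X.Modules) [F.IsQuasicoherent]
    (hft : ∀ U : X.affineOpens, Module.Finite Γ(X, U.1) Γ(F, U.1)) (U : X.affineOpens) :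
    (annIdeal F hft).ideal U = Module.annihilator Γ(X, U.1) Γ(F, U.1) := rfl

/-- A quasi-coherent module is the pushforward of its pullback to any closed subscheme whose ideal kills it. -/
theorem isIso_unit_of_le_annihilator (F : X.Modules) [F.IsQuasicoherent] (J : X.IdealSheafData)
    (h : ∀ U : X.affineOpens, J.ideal U ≤ Module.annihilator Γ(X, U.1) Γ(F, U.1)) :
    IsIso ((pullbackPushforwardAdjunction J.subschemeι).unit.app F) := by
  rw [isIso_unit_iff, Scheme.IdealSheafData.ker_subschemeι]
  intro U a ha s
  exact Module.mem_annihilator.mp (h U ha) s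

theorem le_annihilator_of_isIso_unit (F : X.Modules) [F.IsQuasicoherent] (J : X.IdealSheafData)
    (h : IsIso ((pullbackPushforwardAdjunction J.subschemeι).unit.app F)) (U : X.affineOpens) :
    J.ideal U ≤ Module.annihilator Γ(X, U.1) Γ(F, U.1) := by
  rw [isIso_unit_iff, Scheme.IdealSheafData.ker_subschemeι] at h
  intro a ha
  exact Module.mem_annihilator.mpr (h U a ha)

theorem isIso_unit_annIdeal (F : X.Modules) [F.IsQuasicoherent]
    (hft : ∀ U : X.affineOpens, Module.Finite Γ(X, U.1) Γ(F, U.1)) :
    IsIso ((pullbackPushforwardAdjunction (annIdeal F hft).subschemeι).unit.app F) :=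
  isIso_unit_of_le_annihilator F _ fun _ => le_rfl

theorem le_annIdeal_of_isIso_unit (F : X.Modules) [F.IsQuasicoherent]
    (hft : ∀ U : X.affineOpens, Module.Finite Γ(X, U.1) Γ(F, U.1)) (J : X.IdealSheafData)
    (h : IsIso ((pullbackPushforwardAdjunction J.subschemeι).unit.app F)) : J ≤ annIdeal F hft :=
  Scheme.IdealSheafData.le_def.mpr fun U => le_annihilator_of_isIso_unit F J h U

/-- The support of an ideal sheaf which is the annihilator of `F` on affine opens is the support of `F`. -/
theorem support_eq_of_ideal_eq_annihilator (F : X.Modules) [F.IsQuasicoherent]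
    (hft : ∀ U : X.affineOpens, Module.Finite Γ(X, U.1) Γ(F, U.1)) (J : X.IdealSheafData)
    (hJ : ∀ U : X.affineOpens, J.ideal U = Module.annihilator Γ(X, U.1) Γ(F, U.1)) :
    (J.support : Set X) = CohB1.support F := by
  ext x
  obtain ⟨_, ⟨U, hU : IsAffineOpen U, rfl⟩, hxU, -⟩ :=
    X.isBasis_affineOpens.exists_subset_of_mem_open (Set.mem_univ x) isOpen_univ
  haveI := hft ⟨U, hU⟩
  rw [SetLike.mem_coe, Scheme.IdealSheafData.mem_support_iff_of_mem (U := ⟨U, hU⟩) hxU, hJ,
    Groth.Agent.Lib.SupportTensor.mem_support_iff_of_affine F hU ⟨x, hxU⟩,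
    Module.support_eq_zeroLocus, ← hU.fromSpec_preimage_zeroLocus]
  change _ ↔ hU.fromSpec (hU.primeIdealOf ⟨x, hxU⟩) ∈
    X.zeroLocus (U := U) (Module.annihilator Γ(X, U) Γ(F, U) : Set Γ(X, U))
  rw [hU.fromSpec_primeIdealOf]

theorem support_annIdeal (F : X.Modules) [F.IsQuasicoherent]
    (hft : ∀ U : X.affineOpens, Module.Finite Γ(X, U.1) Γ(F, U.1)) :
    ((annIdeal F hft).support : Set X) = CohB1.support F :=
  support_eq_of_ideal_eq_annihilator F hft _ fun _ => rfl

end Groth.Agent.Lib.H90AnnIdeal
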