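/-
helper20: **Serre vanishing for coherent modules killed by an ideal of the base, from ampleness on the closed fibre**.

`X` proper over a Noetherian ring `A`, `I` an ideal of `A`, `j : Z ⟶ X` the closed fibre `X ×_A Spec(A/I)`, `L` invertible
on `X` with `j^* L` ample.  Then every coherent `F` killed by `I` (`Formal.KilledBy I F`) satisfies Serre vanishing
w.r.t. `L` (`serre_vanishing_of_killedBy`).  Combined with `FormalGr20` this gives `lim_n H^p(X, (M ⊗ L^d)/I^{n+1}) = 0`
for `d ≫ 0`, `p > 0` (`uniform_vanishing_HHlim_of_fibre_ample`).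

Proof: `K = Ann(F)` (ideal sheaf); the image of `I` in `O_X` lies in `K`, so `V(K) ⟶ Spec A` factors through
`Spec (A/I)`, so `V(K) ⟶ X` factors through `Z` by an affine morphism; hence `L|V(K)` is ample and
helper78's `vanishing_of_killed` applies.
-/
import Groth.Agent.Lib.FormalGr20
import Groth.Agent.Lib.H78IdealDev
import Groth.Agent.Lib.H78PullAmple
import Groth.Agent.Lib.H78AmpleUnit
import Groth.Agent.Lib.H90AnnIdeal
import Groth.Agent.Lib.CohFinite

set_option autoImplicit false
set_option linter.style.haveILetI false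
universe u

open CategoryTheory CategoryTheory.Limits AlgebraicGeometry Opposite

namespace Groth.Agent.Lib.FibreVan20

open Formal Groth.Agent.Lib.UnifVan20 CohB1

variable {A : Type u} [CommRing A]

/-- A morphism `T ⟶ Spec A` whose ring map kills `I` factors through `Spec (A/I)`. -/
theorem exists_lift_quot {T : Scheme.{u}} (h : T ⟶ Spec (CommRingCat.of A)) (I : Ideal A)
    (hI : ∀ a ∈ I, h.appTop.hom ((Scheme.ΓSpecIso (CommRingCat.of A)).inv.hom a) = 0) :
    ∃ t : T ⟶ Spec (CommRingCat.of (A ⧸ I)),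
      t ≫ Spec.map (CommRingCat.ofHom (Ideal.Quotient.mk I)) = h := by
  let φ : A →+* Γ(T, ⊤) := (h.appTop).hom.comp (Scheme.ΓSpecIso (CommRingCat.of A)).inv.hom
  refine ⟨T.toSpecΓ ≫ Spec.map (CommRingCat.ofHom (Ideal.Quotient.lift I φ hI)), ?_⟩
  rw [Category.assoc, ← Spec.map_comp]
  have e : CommRingCat.ofHom (Ideal.Quotient.mk I) ≫
      CommRingCat.ofHom (Ideal.Quotient.lift I φ hI) =
      (Scheme.ΓSpecIso (CommRingCat.of A)).inv ≫ h.appTop := by
    ext a
    change Ideal.Quotient.lift I φ hI (Ideal.Quotient.mk I a) = _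
    rw [Ideal.Quotient.lift_mk]
    rfl
  rw [e, Spec.map_comp, ← Scheme.toSpecΓ_naturality_assoc, toSpecΓ_SpecMap_ΓSpecIso_inv,
    Category.comp_id]

variable {X : Scheme.{u}} [X.Over (Spec (CommRingCat.of A))]

/-- If `a` kills `F` then the image of `a` in `Γ(X, U)` lies in the annihilator of `Γ(F, U)`. -/
theorem res_mem_annihilator {F : X.Modules} {a : A} (ha : smulMod A F a = 0) (U : X.Opens) :
    (X.presheaf.map (homOfLE (le_top (a := U))).op).hom
      (Coh.toGlobal (X ↘ Spec (CommRingCat.of A)) a) ∈ Module.annihilator Γ(X, U) Γ(F, U) := by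
  rw [Module.mem_annihilator]
  intro m
  have h := smulModΓ_app (M := F) (Coh.toGlobal (X ↘ Spec (CommRingCat.of A)) a) U m
  have h0 : (smulModΓ F (Coh.toGlobal (X ↘ Spec (CommRingCat.of A)) a)) = 0 := ha
  rw [h0] at h
  exact h.symm.trans rfl

/-- A global function whose restrictions to all affine opens lie in `K` vanishes on `V(K)`. -/
theorem subschemeι_appTop_eq_zero (K : X.IdealSheafData) (r : Γ(X, ⊤))
    (hr : ∀ U : X.affineOpens, (X.presheaf.map (homOfLE (le_top (a := U.1))).op).hom r ∈ K.ideal U) :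
    K.subschemeι.appTop.hom r = 0 := by
  have hcov : (⊤ : K.subscheme.Opens) ≤ ⨆ U : X.affineOpens, K.subschemeι ⁻¹ᵁ U.1 := by
    intro z _
    rw [TopologicalSpace.Opens.mem_iSup]
    obtain ⟨U, hU, hzU, -⟩ := TopologicalSpace.Opens.isBasis_iff_nbhd.1 X.isBasis_affineOpens
      (show K.subschemeι z ∈ (⊤ : X.Opens) from trivial)
    exact ⟨⟨U, hU⟩, hzU⟩
  refine TopCat.Sheaf.eq_of_locally_eq' K.subscheme.sheaf
    (fun U : X.affineOpens => K.subschemeι ⁻¹ᵁ U.1) ⊤ (fun U => homOfLE le_top) hcov _ _ (fun U => ?_)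
  refine Eq.trans ?_ (RingHom.map_zero _).symm
  have hnat := K.subschemeι.naturality (homOfLE (le_top (a := U.1))).op
  have hker : (X.presheaf.map (homOfLE (le_top (a := U.1))).op).hom r ∈
      RingHom.ker (K.subschemeι.app U.1).hom := by
    rw [Scheme.IdealSheafData.ker_subschemeι_app]
    exact hr U
  have h2 := congr($hnat r)
  rw [CommRingCat.comp_apply, CommRingCat.comp_apply] at h2
  rw [RingHom.mem_ker] at hker
  rw [hker] at h2
  exact h2.symm


section Main

variable [IsNoetherianRing A] [IsProper (X ↘ Spec (CommRingCat.of A))]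

/-- **Serre vanishing for coherent modules killed by `I`, from ampleness on the closed fibre.** -/
theorem serre_vanishing_of_killedBy (I : Ideal A) {L : X.Modules} (hL : PicF.IsInvertible L)
    {Z : Scheme.{u}} (j : Z ⟶ X) (q : Z ⟶ Spec (CommRingCat.of (A ⧸ I)))
    (hsq : IsPullback j q (X ↘ Spec (CommRingCat.of A))
      (Spec.map (CommRingCat.ofHom (Ideal.Quotient.mk I))))
    (hamp : CohB1.IsAmple ((Scheme.Modules.pullback j).obj L))
    (F : X.Modules) (hF : Coh.IsCoh F) (hk : KilledBy I F) :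
    ∃ d₀, ∀ d, d₀ ≤ d → Van L d F := by
  haveI : IsLocallyNoetherian X :=
    LocallyOfFiniteType.isLocallyNoetherian (X ↘ Spec (CommRingCat.of A))
  haveI : F.IsQuasicoherent := hF.1
  have hft : ∀ U : X.affineOpens, Module.Finite Γ(X, U.1) Γ(F, U.1) := fun U =>
    CohFinite.finite_sections_of_isCoh F hF U.2
  let K := H90AnnIdeal.annIdeal F hft
  have hkK : ClSub.KilledByIdeal K F := fun U a ha m => Module.mem_annihilator.mp ha m
  have hI : ∀ a ∈ I, (K.subschemeι ≫ (X ↘ Spec (CommRingCat.of A))).appTop.hom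
      ((Scheme.ΓSpecIso (CommRingCat.of A)).inv.hom a) = 0 := by
    intro a ha
    rw [Scheme.Hom.comp_appTop]
    change K.subschemeι.appTop.hom (Coh.toGlobal (X ↘ Spec (CommRingCat.of A)) a) = 0
    exact subschemeι_appTop_eq_zero K _ (fun U => res_mem_annihilator (hk a ha) U.1)
  obtain ⟨t, ht⟩ := exists_lift_quot (K.subschemeι ≫ (X ↘ Spec (CommRingCat.of A))) I hI
  let c : K.subscheme ⟶ Z := hsq.lift K.subschemeι t ht.symm
  have hc : c ≫ j = K.subschemeι := hsq.lift_fst _ _ _
  haveI : IsClosedImmersion (Spec.map (CommRingCat.ofHom (Ideal.Quotient.mk I))) :=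
    IsClosedImmersion.spec_of_surjective _ Ideal.Quotient.mk_surjective
  haveI : IsClosedImmersion j := MorphismProperty.of_isPullback hsq.flip inferInstance
  haveI : IsAffineHom (c ≫ j) := by rw [hc]; infer_instance
  haveI : IsAffineHom c := IsAffineHom.of_comp c j
  have hampK : CohB1.IsAmple ((Scheme.Modules.pullback K.subschemeι).obj L) := by
    have h1 := H78PullAmple.isAmple_pullback_of_isAffineHom c hamp
    exact H78AmpleUnit.isAmple_of_iso ((Scheme.Modules.pullbackComp c j).app L ≪≫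
      (Scheme.Modules.pullbackCongr hc).app L) h1
  obtain ⟨n₀, h⟩ := H78IdealDev.vanishing_of_killed A K
    (K.subschemeι ≫ (X ↘ Spec (CommRingCat.of A))) L hL hampK F hF hkK
  exact ⟨n₀, fun d hd p hp => h d hd p hp⟩

/-- **Vanishing of `lim_n H^p(X, (M ⊗ L^d)/I^{n+1})`** for `d ≫ 0`, `p > 0`, when `L` is ample on the closed fibre. -/
theorem uniform_vanishing_HHlim_of_fibre_ample (I : Ideal A) {L : X.Modules}
    (hL : PicF.IsInvertible L) {Z : Scheme.{u}} (j : Z ⟶ X) (q : Z ⟶ Spec (CommRingCat.of (A ⧸ I)))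
    (hsq : IsPullback j q (X ↘ Spec (CommRingCat.of A))
      (Spec.map (CommRingCat.ofHom (Ideal.Quotient.mk I))))
    (hamp : CohB1.IsAmple ((Scheme.Modules.pullback j).obj L))
    {M : X.Modules} (hM : Coh.IsCoh M) :
    ∃ d₀, ∀ d, d₀ ≤ d → ∀ p, 0 < p →
      Subsingleton (HHlim I (tensorMod M (tensorPow L d)) p) := by
  haveI : IsLocallyNoetherian X :=
    LocallyOfFiniteType.isLocallyNoetherian (X ↘ Spec (CommRingCat.of A))
  haveI : CompactSpace X :=
    QuasiCompact.compactSpace_of_compactSpace (X ↘ Spec (CommRingCat.of A))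
  obtain ⟨L', -, ⟨e'⟩⟩ := H78Dual.exists_tensor_inverse hL
  exact FormalGr20.uniform_vanishing_HHlim (OXModTensor.braiding L L' ≪≫ e')
    (fun F hF hk => serre_vanishing_of_killedBy I hL j q hsq hamp F hF hk) hM

/-- **Vanishing of `H^p(X, (M ⊗ L^d)/I^{n+1})`** for all `n`, `d ≫ 0`, `p > 0`, when `L` is ample on the closed fibre. -/
theorem uniform_vanishing_modPow_of_fibre_ample (I : Ideal A) {L : X.Modules}
    (hL : PicF.IsInvertible L) {Z : Scheme.{u}} (j : Z ⟶ X) (q : Z ⟶ Spec (CommRingCat.of (A ⧸ I)))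
    (hsq : IsPullback j q (X ↘ Spec (CommRingCat.of A))
      (Spec.map (CommRingCat.ofHom (Ideal.Quotient.mk I))))
    (hamp : CohB1.IsAmple ((Scheme.Modules.pullback j).obj L))
    {M : X.Modules} (hM : Coh.IsCoh M) :
    ∃ d₀, ∀ d, d₀ ≤ d → ∀ n p, 0 < p →
      Subsingleton (Coh.HH X (modPow I (n + 1) (tensorMod M (tensorPow L d))) p) := by
  haveI : IsLocallyNoetherian X :=
    LocallyOfFiniteType.isLocallyNoetherian (X ↘ Spec (CommRingCat.of A))
  haveI : CompactSpace X :=
    QuasiCompact.compactSpace_of_compactSpace (X ↘ Spec (CommRingCat.of A))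
  obtain ⟨L', -, ⟨e'⟩⟩ := H78Dual.exists_tensor_inverse hL
  exact FormalGr20.uniform_vanishing_modPow_twist (OXModTensor.braiding L L' ≪≫ e')
    (fun F hF hk => serre_vanishing_of_killedBy I hL j q hsq hamp F hF hk) hM

end Main

end Groth.Agent.Lib.FibreVan20
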