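import Groth.Agent.Lib.H71SepClosedGeom
import Mathlib.AlgebraicGeometry.PullbackCarrier
import Mathlib.AlgebraicGeometry.Morphisms.UniversallyOpen
import Mathlib.AlgebraicGeometry.Geometrically.Connected

/-!
# Base change of schemes along algebraic field extensions (helper13)

For a `k`-scheme `X` and an algebraic field extension `K/k`, the projection `X_K ⟶ X` is
surjective, open and closed.  Consequence (`connectedSpace_pullback_of_connectedSpace`): if `X` is
connected and receives a `k`-morphism from a `k`-scheme `T` with `T_K` connected, then `X_K` is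
connected.  (`geometricallyConnected_of_comp`) : a connected `k`-scheme receiving a morphism from a
nonempty geometrically connected `k`-scheme is geometrically connected.
-/

set_option autoImplicit false
universe u

open CategoryTheory CategoryTheory.Limits AlgebraicGeometry

namespace Groth.Agent.Lib.FieldBC13

variable {k : Type u} [Field k] (K : Type u) [Field K] [Algebra k K]

section

variable {X : Scheme.{u}} (f : X ⟶ Spec (CommRingCat.of k))

theorem surjective_fst :
    Function.Surjective (pullback.fst f (Spec.map (CommRingCat.ofHom (algebraMap k K)))) := by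
  have h : Surjective (Spec.map (CommRingCat.ofHom (algebraMap k K))) :=
    Groth.Agent.Lib.H71SepClosedGeom.surjective_SpecMap K
  exact (pullback.fst f (Spec.map (CommRingCat.ofHom (algebraMap k K)))).surjective

theorem isOpenMap_fst :
    IsOpenMap (pullback.fst f (Spec.map (CommRingCat.ofHom (algebraMap k K)))) := by
  have h : UniversallyOpen (Spec.map (CommRingCat.ofHom (algebraMap k K))) := inferInstance
  have h' : UniversallyOpen (pullback.fst f (Spec.map (CommRingCat.ofHom (algebraMap k K)))) :=
    MorphismProperty.pullback_fst _ _ h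
  exact (pullback.fst f _).isOpenMap

theorem isClosedMap_fst [Algebra.IsAlgebraic k K] :
    IsClosedMap (pullback.fst f (Spec.map (CommRingCat.ofHom (algebraMap k K)))) := by
  have h : IsIntegralHom (Spec.map (CommRingCat.ofHom (algebraMap k K))) :=
    Groth.Agent.Lib.H71SepClosedGeom.isIntegralHom_SpecMap K
  have h' : IsIntegralHom (pullback.fst f (Spec.map (CommRingCat.ofHom (algebraMap k K)))) :=
    MorphismProperty.pullback_fst _ _ h
  exact (pullback.fst f _).isClosedMap

end

variable {X T : Scheme.{u}} (fX : X ⟶ Spec (CommRingCat.of k)) (fT : T ⟶ Spec (CommRingCat.of k))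
  (g : T ⟶ X) (w : g ≫ fX = fT)

/-- The base change of a `k`-morphism to `K`. -/
noncomputable def mapK : pullback fT (Spec.map (CommRingCat.ofHom (algebraMap k K))) ⟶
    pullback fX (Spec.map (CommRingCat.ofHom (algebraMap k K))) :=
  pullback.map fT _ fX _ g (𝟙 _) (𝟙 _) (by rw [Category.comp_id, w]) (by simp)

theorem isPullback_mapK :
    IsPullback (mapK K fX fT g w) (pullback.fst fT _) (pullback.fst fX _) g := by
  have hR := (IsPullback.of_hasPullback fX (Spec.map (CommRingCat.ofHom (algebraMap k K)))).flip
  have hB := (IsPullback.of_hasPullback fT (Spec.map (CommRingCat.ofHom (algebraMap k K)))).flip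
  refine IsPullback.of_right ?_ ?_ hR
  · have e1 : mapK K fX fT g w ≫ pullback.snd fX _ = pullback.snd fT _ := by
      unfold mapK
      rw [pullback.lift_snd, Category.comp_id]
    rw [e1, w]
    exact hB
  · unfold mapK
    rw [pullback.lift_fst]

include g w in
/-- If `X` is connected, `K/k` algebraic, and `T ⟶ X` is a `k`-morphism with `T_K` connected, then
`X_K` is connected. -/
theorem connectedSpace_pullback_of_connectedSpace [Algebra.IsAlgebraic k K] [ConnectedSpace X]
    [ConnectedSpace ↥(pullback fT (Spec.map (CommRingCat.ofHom (algebraMap k K))))] :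
    ConnectedSpace ↥(pullback fX (Spec.map (CommRingCat.ofHom (algebraMap k K)))) := by
  let π := pullback.fst fX (Spec.map (CommRingCat.ofHom (algebraMap k K)))
  let gK := mapK K fX fT g w
  have hpb := isPullback_mapK K fX fT g w
  obtain ⟨t₀⟩ : Nonempty ↥(pullback fT (Spec.map (CommRingCat.ofHom (algebraMap k K)))) :=
    inferInstance
  have hne : Nonempty ↥(pullback fX (Spec.map (CommRingCat.ofHom (algebraMap k K)))) := ⟨gK t₀⟩
  rw [connectedSpace_iff_clopen]
  refine ⟨hne, fun U hU => ?_⟩
  -- the image of `T_K` lies in `U` or in its complement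
  have hconn : _root_.IsPreconnected (Set.range gK) :=
    isPreconnected_range gK.continuous
  -- general claim: a clopen set containing the image of `T_K` is everything
  have key : ∀ V : Set ↥(pullback fX (Spec.map (CommRingCat.ofHom (algebraMap k K)))),
      IsClopen V → Set.range gK ⊆ V → V = Set.univ := by
    intro V hV hsub
    by_contra hne'
    have hVc : (Vᶜ).Nonempty := Set.nonempty_compl.mpr hne'
    have hcl : IsClopen (π '' Vᶜ) :=
      ⟨isClosedMap_fst K fX _ hV.compl.1, isOpenMap_fst K fX _ hV.compl.2⟩
    have huniv : π '' Vᶜ = Set.univ :=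
      (isClopen_iff.mp hcl).resolve_left (hVc.image _).ne_empty
    have hx : g (pullback.fst fT _ t₀) ∈ π '' Vᶜ := huniv ▸ Set.mem_univ _
    obtain ⟨v, hv, hvx⟩ := hx
    obtain ⟨p, hp1, hp2⟩ := Scheme.exists_preimage_of_isPullback hpb v
      (pullback.fst fT _ t₀) hvx
    exact hv (hsub ⟨p, hp1⟩)
  by_cases hmem : gK t₀ ∈ U
  · exact Or.inr (key U hU (hconn.subset_isClopen hU ⟨gK t₀, ⟨t₀, rfl⟩, hmem⟩))
  · refine Or.inl ?_
    have := key Uᶜ hU.compl (hconn.subset_isClopen hU.compl ⟨gK t₀, ⟨t₀, rfl⟩, hmem⟩)
    exact Set.compl_univ_iff.mp this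

/-- A connected `k`-scheme receiving a morphism from a nonempty geometrically connected `k`-scheme
is geometrically connected. -/
theorem geometricallyConnected_of_comp {X Y : Scheme.{u}} (g : Y ⟶ X)
    (f : X ⟶ Spec (CommRingCat.of k)) [ConnectedSpace X]
    [GeometricallyConnected (g ≫ f)] : GeometricallyConnected f := by
  have h1 : ConnectedSpace ↥(pullback (g ≫ f)
      (Spec.map (CommRingCat.ofHom (algebraMap k (SeparableClosure k))))) :=
    GeometricallyConnected.geometrically_connectedSpace _ _ _ (.of_hasPullback _ _)
  have h2 : ConnectedSpace ↥(pullback f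
      (Spec.map (CommRingCat.ofHom (algebraMap k (SeparableClosure k))))) :=
    connectedSpace_pullback_of_connectedSpace (SeparableClosure k) f (g ≫ f) g rfl
  exact Groth.Agent.Lib.H71SepClosedGeom.geometricallyConnected_of_connectedSpace_pullback
    (SeparableClosure k) f

end Groth.Agent.Lib.FieldBC13
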