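import Groth.Agent.Lib.FieldBC13
import Mathlib.AlgebraicGeometry.IdealSheaf.Subscheme
import Mathlib.AlgebraicGeometry.Morphisms.ClosedImmersion
import Mathlib.AlgebraicGeometry.Morphisms.Flat
import Mathlib.AlgebraicGeometry.Geometrically.Irreducible

/-!
# Closed subsets of a `k`-scheme and field base change (helper13)

For a closed subset `T` of a `k`-scheme `X`, with its reduced induced structure `Y ↪ X`:
the base change `Y_K ⟶ X_K` is a closed immersion with range the preimage of `T` in `X_K`.
Consequently, if the preimage of `T` in `X_{k^sep}` is irreducible (connected), then the preimage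
of `T` in `X_K` is irreducible (connected) for *every* field extension `K/k`.
-/

set_option autoImplicit false
universe u

open CategoryTheory CategoryTheory.Limits AlgebraicGeometry

namespace Groth.Agent.Lib.FieldBC13

variable {k : Type u} [Field k] (K : Type u) [Field K] [Algebra k K]
variable {X : Scheme.{u}} (f : X ⟶ Spec (CommRingCat.of k))

section Sub

variable {Y : Scheme.{u}} (i : Y ⟶ X)

/-- The range of the base change of `i : Y ⟶ X` is the preimage of the range of `i`. -/
theorem range_mapK :
    Set.range (mapK K f (i ≫ f) i rfl) = pullback.fst f _ ⁻¹' Set.range i := by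
  have h := Scheme.image_preimage_eq_of_isPullback (isPullback_mapK K f (i ≫ f) i rfl).flip Set.univ
  simpa using h

instance [IsClosedImmersion i] : IsClosedImmersion (mapK K f (i ≫ f) i rfl) :=
  MorphismProperty.of_isPullback (isPullback_mapK K f (i ≫ f) i rfl).flip ‹_›

theorem irreducibleSpace_of_isIrreducible_preimage [IsClosedImmersion i]
    (h : IsIrreducible (pullback.fst f (Spec.map (CommRingCat.ofHom (algebraMap k K))) ⁻¹'
      Set.range i)) :
    IrreducibleSpace ↥(pullback (i ≫ f) (Spec.map (CommRingCat.ofHom (algebraMap k K)))) := by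
  rw [← range_mapK] at h
  have e := (mapK K f (i ≫ f) i rfl).isEmbedding.toHomeomorph
  exact e.irreducibleSpace_iff.mpr (isIrreducible_iff_irreducibleSpace.mp h)

theorem connectedSpace_of_isConnected_preimage [IsClosedImmersion i]
    (h : _root_.IsConnected (pullback.fst f (Spec.map (CommRingCat.ofHom (algebraMap k K))) ⁻¹'
      Set.range i)) :
    ConnectedSpace ↥(pullback (i ≫ f) (Spec.map (CommRingCat.ofHom (algebraMap k K)))) := by
  rw [← range_mapK] at h
  have e := (mapK K f (i ≫ f) i rfl).isEmbedding.toHomeomorph
  have := isConnected_iff_connectedSpace.mp h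
  exact e.symm.surjective.connectedSpace e.symm.continuous

theorem isIrreducible_preimage_of_irreducibleSpace
    [IrreducibleSpace ↥(pullback (i ≫ f) (Spec.map (CommRingCat.ofHom (algebraMap k K))))] :
    IsIrreducible (pullback.fst f (Spec.map (CommRingCat.ofHom (algebraMap k K))) ⁻¹'
      Set.range i) := by
  rw [← range_mapK, ← Set.image_univ]
  exact (IrreducibleSpace.isIrreducible_univ _).image _
    (mapK K f (i ≫ f) i rfl).continuous.continuousOn

theorem isConnected_preimage_of_connectedSpace
    [ConnectedSpace ↥(pullback (i ≫ f) (Spec.map (CommRingCat.ofHom (algebraMap k K))))] :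
    _root_.IsConnected (pullback.fst f (Spec.map (CommRingCat.ofHom (algebraMap k K))) ⁻¹'
      Set.range i) := by
  rw [← range_mapK]
  exact isConnected_range (mapK K f (i ≫ f) i rfl).continuous

end Sub

/-- If the preimage of a closed `T ⊆ X` in `X_{k^sep}` is irreducible, so is its preimage in `X_K`
for every field extension `K/k`. -/
theorem isIrreducible_preimage_of_sepClosure (T : Set X) (hT : IsClosed T)
    (h : IsIrreducible (pullback.fst f
      (Spec.map (CommRingCat.ofHom (algebraMap k (SeparableClosure k)))) ⁻¹' T)) :
    IsIrreducible (pullback.fst f (Spec.map (CommRingCat.ofHom (algebraMap k K))) ⁻¹' T) := by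
  let I := Scheme.IdealSheafData.vanishingIdeal ⟨T, hT⟩
  have hr : Set.range I.subschemeι = T := by
    rw [Scheme.IdealSheafData.range_subschemeι]
    exact Scheme.IdealSheafData.coe_support_vanishingIdeal _
  rw [← hr] at h ⊢
  have h1 := irreducibleSpace_of_isIrreducible_preimage (SeparableClosure k) f I.subschemeι h
  have h2 : GeometricallyIrreducible (I.subschemeι ≫ f) :=
    Groth.Agent.Lib.H71SepClosedGeom.geometricallyIrreducible_of_irreducibleSpace_pullback
      (SeparableClosure k) (I.subschemeι ≫ f)
  have h3 : IrreducibleSpace ↥(pullback (I.subschemeι ≫ f)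
      (Spec.map (CommRingCat.ofHom (algebraMap k K)))) :=
    GeometricallyIrreducible.geometrically_irreducibleSpace _ _ _ (.of_hasPullback _ _)
  exact isIrreducible_preimage_of_irreducibleSpace K f I.subschemeι

/-- If the preimage of a closed `T ⊆ X` in `X_{k^sep}` is connected, so is its preimage in `X_K`
for every field extension `K/k`. -/
theorem isConnected_preimage_of_sepClosure (T : Set X) (hT : IsClosed T)
    (h : _root_.IsConnected (pullback.fst f
      (Spec.map (CommRingCat.ofHom (algebraMap k (SeparableClosure k)))) ⁻¹' T)) :
    _root_.IsConnected (pullback.fst f (Spec.map (CommRingCat.ofHom (algebraMap k K))) ⁻¹' T) := by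
  let I := Scheme.IdealSheafData.vanishingIdeal ⟨T, hT⟩
  have hr : Set.range I.subschemeι = T := by
    rw [Scheme.IdealSheafData.range_subschemeι]
    exact Scheme.IdealSheafData.coe_support_vanishingIdeal _
  rw [← hr] at h ⊢
  have h1 := connectedSpace_of_isConnected_preimage (SeparableClosure k) f I.subschemeι h
  have h2 : GeometricallyConnected (I.subschemeι ≫ f) :=
    Groth.Agent.Lib.H71SepClosedGeom.geometricallyConnected_of_connectedSpace_pullback
      (SeparableClosure k) (I.subschemeι ≫ f)
  have h3 : ConnectedSpace ↥(pullback (I.subschemeι ≫ f)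
      (Spec.map (CommRingCat.ofHom (algebraMap k K)))) :=
    GeometricallyConnected.geometrically_connectedSpace _ _ _ (.of_hasPullback _ _)
  exact isConnected_preimage_of_connectedSpace K f I.subschemeι

/-- The projection `X_K ⟶ X` is generalizing (it is flat). -/
theorem generalizingMap_fst :
    GeneralizingMap (pullback.fst f (Spec.map (CommRingCat.ofHom (algebraMap k K)))) := by
  have h : Flat (Spec.map (CommRingCat.ofHom (algebraMap k K))) := by
    rw [Flat.SpecMap_iff]
    change (algebraMap k K).Flat
    rw [RingHom.flat_algebraMap_iff]; infer_instance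
  have h' : Flat (pullback.fst f (Spec.map (CommRingCat.ofHom (algebraMap k K)))) :=
    MorphismProperty.pullback_fst _ _ h
  exact Flat.generalizingMap _

end Groth.Agent.Lib.FieldBC13
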