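import Groth.Prelude.Def_EGA4b
import Mathlib

/-!
# Equational characterization of `EGA4.IsNormalRing`

`IsNormalRing T ↔ LocDomainEq T ∧ LocIntClosedEq T`, where both conditions on the right are
"first-order" statements about elements of `T` (existence of finitely many elements satisfying
polynomial equations).  This makes normality easy to transport along filtered colimits.
-/

set_option autoImplicit false
universe u
open Polynomial

namespace Groth.Agent.Lib.H30NormalEq


/-- In an integrally closed domain, `a^n + c_{n-1} a^{n-1} b + ... + c_0 b^n = 0` with `b ≠ 0` forces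
`b ∣ a`. -/
theorem dvd_of_isIntegrallyClosed {L : Type*} [CommRing L] [IsDomain L] [IsIntegrallyClosed L]
    (p : L[X]) (a b : L) (hp : p.Monic) (hb : b ≠ 0) (h : (p.scaleRoots b).eval a = 0) : b ∣ a := by
  let K := FractionRing L
  let f := algebraMap L K
  have hfb : f b ≠ 0 := by
    intro h0
    exact hb ((map_eq_zero_iff f (IsFractionRing.injective L K)).mp h0)
  have h1 : eval₂ f (f b * (f a / f b)) (scaleRoots p b) = f b ^ p.natDegree * eval₂ f (f a / f b) p :=
    scaleRoots_eval₂_mul f (f a / f b) b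
  have h2 : f b * (f a / f b) = f a := mul_div_cancel₀ (f a) hfb
  rw [h2, Polynomial.eval₂_at_apply, h, map_zero] at h1
  have h3 : eval₂ f (f a / f b) p = 0 := by
    rcases mul_eq_zero.mp h1.symm with h' | h'
    · exact absurd h' (pow_ne_zero _ hfb)
    · exact h'
  have hint : IsIntegral L (f a / f b) := ⟨p, hp, h3⟩
  obtain ⟨y, hy⟩ := IsIntegrallyClosed.algebraMap_eq_of_integral hint
  refine ⟨y, ?_⟩
  apply IsFractionRing.injective L K
  rw [map_mul, hy]
  exact (mul_div_cancel₀ (f a) hfb).symm



/-- Equational form of "all local rings are domains". -/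
def LocDomainEq (T : Type*) [CommRing T] : Prop :=
  ∀ a b : T, a * b = 0 → ∃ u v, u * a = 0 ∧ v * b = 0 ∧ u + v = 1

/-- Equational form of "all local rings are integrally closed". -/
def LocIntClosedEq (T : Type*) [CommRing T] : Prop :=
  ∀ (p : T[X]) (a b : T), p.Monic → (p.scaleRoots b).eval a = 0 →
    ∃ u w y, u * b = 0 ∧ w * a = b * y ∧ u + w = 1

theorem exists_add_eq_one_of_forall_maximal {T : Type*} [CommRing T] (I J : Ideal T)
    (h : ∀ m : Ideal T, m.IsMaximal → I ≤ m → J ≤ m → False) :
    ∃ u ∈ I, ∃ v ∈ J, u + v = 1 := by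
  have htop : I ⊔ J = ⊤ := by
    by_contra hne
    obtain ⟨m, hm, hle⟩ := Ideal.exists_le_maximal _ hne
    exact h m hm (le_sup_left.trans hle) (le_sup_right.trans hle)
  have h1 : (1 : T) ∈ I ⊔ J := htop ▸ Submodule.mem_top
  obtain ⟨u, hu, v, hv, huv⟩ := Submodule.mem_sup.mp h1
  exact ⟨u, hu, v, hv, huv⟩

theorem locDomainEq_of_isNormalRing (T : Type u) [CommRing T] (hT : EGA4.IsNormalRing T) :
    LocDomainEq T := by
  intro a b hab
  obtain ⟨u, hu, v, hv, huv⟩ := exists_add_eq_one_of_forall_maximal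
    (Ideal.span {a}).annihilator (Ideal.span {b}).annihilator (by
      intro m hm hI hJ
      have hp : m.IsPrime := hm.isPrime
      obtain ⟨hdom, -⟩ := hT m
      have h0 : algebraMap T (Localization.AtPrime m) a * algebraMap T (Localization.AtPrime m) b = 0 := by
        rw [← map_mul, hab, map_zero]
      rcases mul_eq_zero.mp h0 with h | h
      · rw [IsLocalization.map_eq_zero_iff m.primeCompl] at h
        obtain ⟨c, hc⟩ := h
        exact c.2 (hI (Submodule.mem_annihilator_span_singleton _ _ |>.mpr hc))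
      · rw [IsLocalization.map_eq_zero_iff m.primeCompl] at h
        obtain ⟨c, hc⟩ := h
        exact c.2 (hJ (Submodule.mem_annihilator_span_singleton _ _ |>.mpr hc)))
  exact ⟨u, v, (Submodule.mem_annihilator_span_singleton _ _).mp hu,
    (Submodule.mem_annihilator_span_singleton _ _).mp hv, huv⟩

theorem locIntClosedEq_of_isNormalRing (T : Type u) [CommRing T] (hT : EGA4.IsNormalRing T) :
    LocIntClosedEq T := by
  intro p a b hp hE
  obtain ⟨u, hu, w, hw, huw⟩ := exists_add_eq_one_of_forall_maximal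
    (Ideal.span {b}).annihilator ((Ideal.span {b}).colon ({a} : Set T)) (by
      intro m hm hI hJ
      have hpr : m.IsPrime := hm.isPrime
      obtain ⟨hdom, hic⟩ := hT m
      let f := algebraMap T (Localization.AtPrime m)
      by_cases hfb : f b = 0
      · rw [IsLocalization.map_eq_zero_iff m.primeCompl] at hfb
        obtain ⟨c, hc⟩ := hfb
        exact c.2 (hI (Submodule.mem_annihilator_span_singleton _ _ |>.mpr hc))
      · have hlead : f p.leadingCoeff ≠ 0 := by
          rw [hp.leadingCoeff, map_one]; exact one_ne_zero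
        have hE' : ((p.map f).scaleRoots (f b)).eval (f a) = 0 := by
          rw [← map_scaleRoots p b f hlead, eval_map, eval₂_at_apply, hE, map_zero]
        obtain ⟨z, hz⟩ := dvd_of_isIntegrallyClosed (p.map f) (f a) (f b) (hp.map f) hfb hE'
        obtain ⟨y, s, rfl⟩ := IsLocalization.exists_mk'_eq m.primeCompl z
        have h1 : f (s * a) = f (b * y) := by
          rw [map_mul, map_mul, hz, mul_comm (f s), mul_assoc, IsLocalization.mk'_spec]
        obtain ⟨c, hc⟩ := (IsLocalization.eq_iff_exists m.primeCompl _).mp h1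
        have hmem : (c : T) * s ∈ (Ideal.span {b}).colon ({a} : Set T) := by
          rw [Submodule.mem_colon_singleton, smul_eq_mul, Ideal.mem_span_singleton']
          refine ⟨c * y, ?_⟩
          rw [mul_assoc, mul_assoc, hc]; ring
        exact (hpr.mul_notMem c.2 s.2) (hJ hmem))
  rw [Submodule.mem_colon_singleton, smul_eq_mul, Ideal.mem_span_singleton'] at hw
  obtain ⟨y, hy⟩ := hw
  exact ⟨u, w, y, (Submodule.mem_annihilator_span_singleton _ _).mp hu, by rw [← hy, mul_comm], huw⟩



/-- Scaling both arguments. -/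
theorem eval_scaleRoots_mul_mul {R : Type*} [CommRing R] (q : R[X]) (c a b : R) :
    (q.scaleRoots (c * b)).eval (c * a) = c ^ q.natDegree * (q.scaleRoots b).eval a := by
  rw [mul_comm c b, scaleRoots_mul, scaleRoots_eval_mul, natDegree_scaleRoots]

theorem isDomain_atPrime_of_locDomainEq (T : Type u) [CommRing T] (hD : LocDomainEq T)
    (P : Ideal T) [hP : P.IsPrime] : IsDomain (Localization.AtPrime P) := by
  have : NoZeroDivisors (Localization.AtPrime P) := by
    constructor
    intro x y hxy
    obtain ⟨a, s, rfl⟩ := IsLocalization.exists_mk'_eq P.primeCompl x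
    obtain ⟨b, t, rfl⟩ := IsLocalization.exists_mk'_eq P.primeCompl y
    rw [← IsLocalization.mk'_mul, IsLocalization.mk'_eq_zero_iff] at hxy
    obtain ⟨c, hc⟩ := hxy
    obtain ⟨u, v, hu, hv, huv⟩ := hD (c * a) b (by rw [mul_assoc]; exact hc)
    by_cases huP : u ∈ P
    · have hvP : v ∉ P := by
        intro hvP
        exact hP.ne_top ((Ideal.eq_top_iff_one _).mpr (huv ▸ P.add_mem huP hvP))
      right
      rw [IsLocalization.mk'_eq_zero_iff]
      exact ⟨⟨v, hvP⟩, hv⟩
    · left
      rw [IsLocalization.mk'_eq_zero_iff]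
      exact ⟨⟨u, huP⟩ * c, by
        show u * c * a = 0
        rw [mul_assoc]; exact hu⟩
  exact NoZeroDivisors.to_isDomain _



theorem isIntegrallyClosed_atPrime_of_eq (T : Type u) [CommRing T]
    (hIC : LocIntClosedEq T)
    (P : Ideal T) [hP : P.IsPrime] [IsDomain (Localization.AtPrime P)] :
    IsIntegrallyClosed (Localization.AtPrime P) := by
  set L := Localization.AtPrime P with hL
  let K := FractionRing L
  let g : T →+* L := algebraMap T L
  let ι : L →+* K := algebraMap L K
  have hι : Function.Injective ι := IsFractionRing.injective L K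
  have hunit : ∀ s : P.primeCompl, IsUnit (g s) := fun s => IsLocalization.map_units L s
  have hne : ∀ s : P.primeCompl, g s ≠ 0 := fun s => (hunit s).ne_zero
  rw [isIntegrallyClosed_iff K]
  intro x hx
  obtain ⟨α, β, hβ, rfl⟩ := IsFractionRing.div_surjective (A := L) x
  obtain ⟨a, s, rfl⟩ := IsLocalization.exists_mk'_eq P.primeCompl α
  obtain ⟨b, t, rfl⟩ := IsLocalization.exists_mk'_eq P.primeCompl β
  have hβ0 : IsLocalization.mk' L b t ≠ 0 := nonZeroDivisors.ne_zero hβ
  -- a' = a * t, b' = b * s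
  have hgb : g b ≠ 0 := by
    intro h0
    apply hβ0
    rw [IsLocalization.mk'_eq_zero_iff]
    obtain ⟨c, hc⟩ := (IsLocalization.map_eq_zero_iff P.primeCompl L b).mp h0
    exact ⟨c, hc⟩
  have hgb' : g (b * s) ≠ 0 := by
    rw [map_mul]; exact mul_ne_zero hgb (hne s)
  have hιb' : ι (g (b * s)) ≠ 0 := fun h0 => hgb' (hι (by rw [h0, map_zero]))
  have hrel : g (a * t) * IsLocalization.mk' L b t = g (b * s) * IsLocalization.mk' L a s := by
    rw [map_mul, map_mul, mul_assoc, mul_assoc, IsLocalization.mk'_spec', IsLocalization.mk'_spec']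
    ring
  set x := ι (IsLocalization.mk' L a s) / ι (IsLocalization.mk' L b t) with hxdef
  have hιβ : ι (IsLocalization.mk' L b t) ≠ 0 := fun h0 => hβ0 (hι (by rw [h0, map_zero]))
  have hxb : x * ι (g (b * s)) = ι (g (a * t)) := by
    rw [hxdef, div_mul_eq_mul_div, div_eq_iff hιβ, ← map_mul, ← map_mul, mul_comm, ← hrel]
  -- integrality over T
  obtain ⟨m, hm⟩ := IsIntegral.exists_multiple_integral_of_isLocalization P.primeCompl x hx
  obtain ⟨q₀, hq₀, hq₀x⟩ := hm
  let φ : T →+* K := algebraMap T K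
  have hφ : ∀ r : T, φ r = ι (g r) := fun r => IsScalarTower.algebraMap_apply T L K r
  have hmx : m • x = φ m * x := by
    rw [Submonoid.smul_def, Algebra.smul_def]
  set q := q₀ * X with hq
  have hqm : q.Monic := hq₀.mul monic_X
  have hqx : eval₂ φ (m • x) q = 0 := by
    rw [hq, eval₂_mul, hq₀x, zero_mul]
  have : Nontrivial T :=
    ⟨⟨0, 1, fun h => hP.ne_top ((Ideal.eq_top_iff_one _).mpr (h ▸ P.zero_mem))⟩⟩
  have hqdeg : q.natDegree = q₀.natDegree + 1 := by
    rw [hq, hq₀.natDegree_mul monic_X, natDegree_X]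
  set a' := a * t
  set b' := b * s
  set E := (q.scaleRoots b').eval ((m : T) * a') with hE
  have hφE : φ E = 0 := by
    have h1 := scaleRoots_eval₂_mul (p := q) φ (m • x) b'
    rw [hqx, mul_zero] at h1
    have h2 : φ b' * (m • x) = φ ((m : T) * a') := by
      rw [hmx, map_mul φ (m : T) a', hφ a', ← hxb, hφ b']; ring
    rw [h2, eval₂_at_apply] at h1
    exact h1
  have hgE : g E = 0 := hι (by rw [← hφ, hφE, map_zero])
  obtain ⟨v, hv⟩ := (IsLocalization.map_eq_zero_iff P.primeCompl L E).mp hgE
  have hEv : (q.scaleRoots ((v : T) * b')).eval ((v : T) * ((m : T) * a')) = 0 := by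
    rw [eval_scaleRoots_mul_mul, hqdeg, pow_succ, mul_assoc, ← hE, hv, mul_zero]
  obtain ⟨u, w, y, hu, hw, huw⟩ := hIC q ((v : T) * ((m : T) * a')) ((v : T) * b') hqm hEv
  have hgu : g u = 0 := by
    have h0 : g u * (g v * g b') = 0 := by rw [← map_mul, ← map_mul, hu, map_zero]
    rcases mul_eq_zero.mp h0 with h | h
    · exact h
    · exact absurd h (mul_ne_zero (hne v) hgb')
  have hgw : g w = 1 := by
    have := congrArg g huw
    rwa [map_add, hgu, zero_add, map_one] at this
  have hw' : g v * (g m * g a') = g v * (g b' * g y) := by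
    have := congrArg g hw
    rw [map_mul, hgw, one_mul, map_mul g (v : T), map_mul g (m : T)] at this
    rw [this, map_mul g ((v : T) * b'), map_mul g (v : T) b']; ring
  have hw'' : g m * g a' = g b' * g y := mul_left_cancel₀ (hne v) hw'
  refine ⟨IsLocalization.mk' L y m, ?_⟩
  have hz : g b' * IsLocalization.mk' L y m = g a' := by
    apply mul_left_cancel₀ (hne m)
    rw [hw'', mul_left_comm, IsLocalization.mk'_spec']
  have : x * ι (g b') = ι (IsLocalization.mk' L y m) * ι (g b') := by
    rw [hxb, ← map_mul, mul_comm, hz]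
  exact (mul_right_cancel₀ hιb' this).symm


theorem isNormalRing_of_eq (T : Type u) [CommRing T] (hD : LocDomainEq T) (hIC : LocIntClosedEq T) :
    EGA4.IsNormalRing T := by
  intro P hP
  have := isDomain_atPrime_of_locDomainEq T hD P
  exact ⟨inferInstance, isIntegrallyClosed_atPrime_of_eq T hIC P⟩

theorem isNormalRing_iff (T : Type u) [CommRing T] :
    EGA4.IsNormalRing T ↔ LocDomainEq T ∧ LocIntClosedEq T :=
  ⟨fun h => ⟨locDomainEq_of_isNormalRing T h, locIntClosedEq_of_isNormalRing T h⟩,
    fun h => isNormalRing_of_eq T h.1 h.2⟩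


theorem map_eval_scaleRoots {R S : Type*} [CommRing R] [CommRing S] [Nontrivial S] (f : R →+* S)
    (q : R[X]) (hq : q.Monic) (a b : R) :
    f (eval a (scaleRoots q b)) = eval (f a) (scaleRoots (q.map f) (f b)) := by
  have hlead : f q.leadingCoeff ≠ 0 := by
    rw [hq.leadingCoeff, map_one]; exact one_ne_zero
  rw [← map_scaleRoots q b f hlead, eval_map, eval₂_at_apply]

theorem isNormalRing_of_subsingleton (R : Type u) [CommRing R] [Subsingleton R] :
    EGA4.IsNormalRing R := by
  intro P hP
  exact absurd (Subsingleton.elim _ _) hP.ne_top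

/-- Normality passes to a ring which is "approximated" by normal rings. -/
theorem isNormalRing_of_approx {R : Type u} [CommRing R] {J : Type*} (G : J → Type u)
    [∀ j, CommRing (G j)] (φ : ∀ j, G j →+* R)
    (hfin : ∀ s : Finset R, ∃ j, (s : Set R) ⊆ Set.range (φ j))
    (hker : ∀ j (x : G j), φ j x = 0 →
      ∃ (j' : J) (ψ : G j →+* G j'), (φ j').comp ψ = φ j ∧ ψ x = 0)
    (hG : ∀ j, EGA4.IsNormalRing (G j)) : EGA4.IsNormalRing R := by
  classical
  rcases subsingleton_or_nontrivial R with hs | hn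
  · exact isNormalRing_of_subsingleton R
  have hGn : ∀ j, Nontrivial (G j) := fun j => (φ j).domain_nontrivial
  apply isNormalRing_of_eq
  · intro a b hab
    obtain ⟨j, hj⟩ := hfin {a, b}
    obtain ⟨a₀, rfl⟩ : a ∈ Set.range (φ j) := hj (by simp)
    obtain ⟨b₀, rfl⟩ : b ∈ Set.range (φ j) := hj (by simp)
    obtain ⟨j', ψ, hψ, h0⟩ := hker j (a₀ * b₀) (by rw [map_mul, hab])
    have hψ' : ∀ x, φ j x = φ j' (ψ x) := fun x => by rw [← hψ]; rfl
    rw [map_mul] at h0
    obtain ⟨u, v, hu, hv, huv⟩ := locDomainEq_of_isNormalRing _ (hG j') _ _ h0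
    refine ⟨φ j' u, φ j' v, ?_, ?_, ?_⟩
    · rw [hψ', ← map_mul, hu, map_zero]
    · rw [hψ', ← map_mul, hv, map_zero]
    · rw [← map_add, huv, map_one]
  · intro p a b hp hE
    obtain ⟨j, hj⟩ := hfin ({a, b} ∪ p.coeffs)
    obtain ⟨a₀, rfl⟩ : a ∈ Set.range (φ j) := hj (by simp)
    obtain ⟨b₀, rfl⟩ : b ∈ Set.range (φ j) := hj (by simp)
    have hlift : p ∈ lifts (φ j) := by
      rw [lifts_iff_coeffs_subset_range]
      intro x hx
      exact hj (by simp only [Finset.coe_union, Set.mem_union]; right; exact hx)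
    obtain ⟨q, rfl, -, hq⟩ := lifts_and_degree_eq_and_monic hlift hp
    rw [← map_eval_scaleRoots (φ j) q hq] at hE
    obtain ⟨j', ψ, hψ, h0⟩ := hker j _ hE
    have hψ' : ∀ x, φ j x = φ j' (ψ x) := fun x => by rw [← hψ]; rfl
    have := hGn j'
    rw [map_eval_scaleRoots ψ q hq] at h0
    obtain ⟨u, w, y, hu, hw, huw⟩ :=
      locIntClosedEq_of_isNormalRing _ (hG j') _ _ _ (hq.map ψ) h0
    refine ⟨φ j' u, φ j' w, φ j' y, ?_, ?_, ?_⟩
    · rw [hψ', ← map_mul, hu, map_zero]
    · rw [hψ', hψ' b₀, ← map_mul, hw, map_mul]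
    · rw [← map_add, huw, map_one]


end Groth.Agent.Lib.H30NormalEq
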