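import Mathlib
import Groth.Agent.Lib.FieldBranches96G

/-!
# helper96: geometric branches under field base change — scheme level

`numGeomBranchesAt_pullback_field`: for a scheme `X` over a field `k`, a field extension `K/k` and
a point `y` of `X ×_k Spec K`: the number of geometric branches of `X ×_k Spec K` at `y` equals
that of `X` at the image of `y`.
-/

set_option autoImplicit false
set_option linter.style.haveILetI false
universe u

namespace Groth.Agent.Lib.FieldBranches96

open IsLocalRing TensorProduct CategoryTheory CategoryTheory.Limits AlgebraicGeometry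

theorem numGeomBranches_atPrime_tensor_eq_left (k A K : Type u) [Field k] [CommRing A]
    [Algebra k A] [Field K] [Algebra k K] (q : Ideal (A ⊗[k] K)) [q.IsPrime]
    (p : Ideal A) [p.IsPrime]
    (hp : q.comap (Algebra.TensorProduct.includeLeftRingHom : A →+* A ⊗[k] K) = p) :
    Brnch.numGeomBranches (Localization.AtPrime q) =
      Brnch.numGeomBranches (Localization.AtPrime p) := by
  let e : (K ⊗[k] A) ≃+* (A ⊗[k] K) := (Algebra.TensorProduct.comm k K A).toRingEquiv
  have h1 := numGeomBranches_atPrime_comap_ringEquiv e q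
  rw [← h1]
  apply numGeomBranches_atPrime_tensor_eq k A K
  rw [Ideal.comap_comap, ← hp]
  congr 1

/-- Open immersions preserve the number of geometric branches. -/
theorem numGeomBranchesAt_eq_of_isOpenImmersion {Y X : Scheme.{u}} (f : Y ⟶ X)
    [IsOpenImmersion f] (y : Y) :
    Brnch.numGeomBranchesAt Y y = Brnch.numGeomBranchesAt X (f y) := by
  unfold Brnch.numGeomBranchesAt
  exact (numGeomBranches_eq_of_ringEquiv
    (asIso (f.stalkMap y)).commRingCatIsoToRingEquiv).symm

theorem numGeomBranchesAt_Spec (R : Type u) [CommRing R] (p : Ideal R) [p.IsPrime]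
    (x : ↥(Spec (CommRingCat.of R))) (hx : PrimeSpectrum.asIdeal (R := R) x = p) :
    Brnch.numGeomBranchesAt (Spec (CommRingCat.of R)) x =
      Brnch.numGeomBranches (Localization.AtPrime p) := by
  subst hx
  unfold Brnch.numGeomBranchesAt
  exact numGeomBranches_eq_of_ringEquiv
    (Spec.stalkIso (CommRingCat.of R) x).commRingCatIsoToRingEquiv

/-- Affine case. -/
theorem numGeomBranchesAt_pullback_field_affine (k R K : Type u) [Field k] [CommRing R]
    [Algebra k R] [Field K] [Algebra k K]
    (y : ↥(pullback (Spec.map (CommRingCat.ofHom (algebraMap k R)))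
      (Spec.map (CommRingCat.ofHom (algebraMap k K))))) :
    Brnch.numGeomBranchesAt (pullback (Spec.map (CommRingCat.ofHom (algebraMap k R)))
      (Spec.map (CommRingCat.ofHom (algebraMap k K)))) y =
    Brnch.numGeomBranchesAt (Spec (CommRingCat.of R))
      ((pullback.fst (Spec.map (CommRingCat.ofHom (algebraMap k R)))
      (Spec.map (CommRingCat.ofHom (algebraMap k K)))) y) := by
  let e := pullbackSpecIso k R K
  let y' : ↥(Spec (CommRingCat.of (R ⊗[k] K))) := e.hom y
  have hy : y = e.inv y' := by
    simp [y']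
  have h1 : Brnch.numGeomBranchesAt _ y = Brnch.numGeomBranchesAt _ y' := by
    rw [hy]
    exact (numGeomBranchesAt_eq_of_isOpenImmersion e.inv y').symm
  have h2 : (pullback.fst (Spec.map (CommRingCat.ofHom (algebraMap k R)))
      (Spec.map (CommRingCat.ofHom (algebraMap k K)))) y =
      Spec.map (CommRingCat.ofHom (Algebra.TensorProduct.includeLeftRingHom :
        R →+* R ⊗[k] K)) y' := by
    rw [hy, ← Scheme.Hom.comp_apply, pullbackSpecIso_inv_fst]
  haveI : (PrimeSpectrum.asIdeal (R := R ⊗[k] K) y').IsPrime := PrimeSpectrum.isPrime _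
  haveI : ((PrimeSpectrum.asIdeal (R := R ⊗[k] K) y').comap
      (Algebra.TensorProduct.includeLeftRingHom : R →+* R ⊗[k] K)).IsPrime :=
    Ideal.comap_isPrime _ _
  rw [h1, h2, numGeomBranchesAt_Spec (R ⊗[k] K) (PrimeSpectrum.asIdeal (R := R ⊗[k] K) y') y' rfl,
    numGeomBranchesAt_Spec R ((PrimeSpectrum.asIdeal (R := R ⊗[k] K) y').comap
      (Algebra.TensorProduct.includeLeftRingHom : R →+* R ⊗[k] K)) _ rfl]
  exact numGeomBranches_atPrime_tensor_eq_left k R K (PrimeSpectrum.asIdeal (R := R ⊗[k] K) y') _ rfl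

/-- Affine case, general form. -/
theorem numGeomBranchesAt_pullback_field_affine' (k K : Type u) [Field k] [Field K] [Algebra k K]
    (R : CommRingCat.{u}) (h : Spec R ⟶ Spec (CommRingCat.of k))
    (y : ↥(pullback h (Spec.map (CommRingCat.ofHom (algebraMap k K))))) :
    Brnch.numGeomBranchesAt (pullback h (Spec.map (CommRingCat.ofHom (algebraMap k K)))) y =
    Brnch.numGeomBranchesAt (Spec R)
      ((pullback.fst h (Spec.map (CommRingCat.ofHom (algebraMap k K)))) y) := by
  obtain ⟨φ, rfl⟩ : ∃ φ, h = Spec.map φ := ⟨_, (Spec.map_preimage h).symm⟩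
  letI : Algebra k R := φ.hom.toAlgebra
  exact numGeomBranchesAt_pullback_field_affine k R K y

theorem numGeomBranchesAt_pullback_field_aux (k : Type u) [Field k] (X : Scheme.{u})
    (f : X ⟶ Spec (CommRingCat.of k)) (K : Type u) [Field K] [Algebra k K]
    (𝒰 : X.OpenCover) (hU : ∀ j, ∃ R : CommRingCat.{u}, 𝒰.X j = Spec R) (j : 𝒰.I₀)
    (y' : ↥(pullback (𝒰.f j ≫ f) (Spec.map (CommRingCat.ofHom (algebraMap k K))))) :
    Brnch.numGeomBranchesAt X
      ((pullback.fst f (Spec.map (CommRingCat.ofHom (algebraMap k K))))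
        ((pullback.map (𝒰.f j ≫ f) (Spec.map (CommRingCat.ofHom (algebraMap k K))) f
          (Spec.map (CommRingCat.ofHom (algebraMap k K))) (𝒰.f j) (𝟙 _) (𝟙 _)
          (by simp) (by simp)) y')) =
    Brnch.numGeomBranchesAt (pullback f (Spec.map (CommRingCat.ofHom (algebraMap k K))))
      ((pullback.map (𝒰.f j ≫ f) (Spec.map (CommRingCat.ofHom (algebraMap k K))) f
          (Spec.map (CommRingCat.ofHom (algebraMap k K))) (𝒰.f j) (𝟙 _) (𝟙 _)
          (by simp) (by simp)) y') := by
  haveI hopen : IsOpenImmersion (pullback.map (𝒰.f j ≫ f)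
      (Spec.map (CommRingCat.ofHom (algebraMap k K))) f
      (Spec.map (CommRingCat.ofHom (algebraMap k K))) (𝒰.f j) (𝟙 _) (𝟙 _)
      (by simp) (by simp)) :=
    (Scheme.Pullback.openCoverOfLeft 𝒰 f
      (Spec.map (CommRingCat.ofHom (algebraMap k K)))).map_prop j
  conv_rhs => rw [← numGeomBranchesAt_eq_of_isOpenImmersion]
  rw [← Scheme.Hom.comp_apply, pullback.lift_fst,
    Scheme.Hom.comp_apply, ← numGeomBranchesAt_eq_of_isOpenImmersion (𝒰.f j)]
  obtain ⟨R, hR⟩ := hU j
  clear hopen
  generalize 𝒰.f j ≫ f = h at y'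
  generalize 𝒰.X j = Z at *
  subst hR
  exact (numGeomBranchesAt_pullback_field_affine' k K _ h y').symm

theorem numGeomBranchesAt_pullback_field (k : Type u) [Field k] (X : Scheme.{u})
    (f : X ⟶ Spec (CommRingCat.of k)) (K : Type u) [Field K] [Algebra k K]
    (y : ↥(pullback f (Spec.map (CommRingCat.ofHom (algebraMap k K))))) :
    Brnch.numGeomBranchesAt X
      ((pullback.fst f (Spec.map (CommRingCat.ofHom (algebraMap k K)))) y) =
    Brnch.numGeomBranchesAt (pullback f (Spec.map (CommRingCat.ofHom (algebraMap k K)))) y := by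
  obtain ⟨j, y', rfl⟩ := (Scheme.Pullback.openCoverOfLeft X.affineCover f
      (Spec.map (CommRingCat.ofHom (algebraMap k K)))).exists_eq y
  exact numGeomBranchesAt_pullback_field_aux k X f K X.affineCover (fun j => ⟨_, rfl⟩) j y'

end Groth.Agent.Lib.FieldBranches96
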