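import Mathlib

/-!
# Finite equivalence relations on the spectrum of a field: the algebra (owner: helper91)

Namespace `Groth.Agent.Lib.FieldGroupoid`.  Append-only please.

Let `K` be a field, `A` a `K`-algebra (structure map `s = algebraMap K A`) with a second ring homomorphism `t : K →+* A`
(think: `Spec A = R ⇉ Spec K` an equivalence relation).  Let `k₀ = {x | s x = t x}`.  If `R` is transitive (in the form: the pair
of maps `K → A ⊗_{s,K,t} A` through the two outer factors comes from a ring map `A → A ⊗ A`), then a family of elements of `K`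
linearly independent over `k₀` stays linearly independent over `K` after applying `t` (Artin's lemma for groupoids).
-/

set_option autoImplicit false
universe u
open TensorProduct

namespace Groth.Agent.Lib.FieldGroupoid

variable {K : Type u} {A : Type u} [Field K] [CommRing A] [Algebra K A]

/-- The ring `A` with the `K`-algebra structure given by `t`. -/
def Tw (_t : K →+* A) : Type u := A

instance (t : K →+* A) : CommRing (Tw t) := inferInstanceAs (CommRing A)

instance (t : K →+* A) : Algebra K (Tw t) := t.toAlgebra

omit [Algebra K A] in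
theorem Tw.algebraMap_eq (t : K →+* A) (c : K) : algebraMap K (Tw t) c = t c := rfl

/-- The subfield of `K` on which the two structure maps agree. -/
def eqField (t : K →+* A) : Subfield K where
  carrier := {x | algebraMap K A x = t x}
  mul_mem' := by
    intro a b ha hb
    change algebraMap K A a = t a at ha
    change algebraMap K A b = t b at hb
    change algebraMap K A (a * b) = t (a * b)
    rw [map_mul, map_mul, ha, hb]
  one_mem' := by
    change algebraMap K A 1 = t 1
    rw [map_one, map_one]
  add_mem' := by
    intro a b ha hb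
    change algebraMap K A a = t a at ha
    change algebraMap K A b = t b at hb
    change algebraMap K A (a + b) = t (a + b)
    rw [map_add, map_add, ha, hb]
  zero_mem' := by
    change algebraMap K A 0 = t 0
    rw [map_zero, map_zero]
  neg_mem' := by
    intro a ha
    change algebraMap K A a = t a at ha
    change algebraMap K A (-a) = t (-a)
    rw [map_neg, map_neg, ha]
  inv_mem' := by
    intro a ha
    change algebraMap K A a = t a at ha
    change algebraMap K A a⁻¹ = t a⁻¹
    by_cases h0 : a = 0
    · subst h0; simp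
    · have h1 : algebraMap K A a⁻¹ * algebraMap K A a = 1 := by
        rw [← map_mul, inv_mul_cancel₀ h0, map_one]
      have h2 : t a⁻¹ * algebraMap K A a = 1 := by
        rw [ha, ← map_mul, inv_mul_cancel₀ h0, map_one]
      have hu : IsUnit (algebraMap K A a) := IsUnit.of_mul_eq_one _ (by rw [mul_comm]; exact h1)
      exact hu.mul_right_cancel (h1.trans h2.symm)

theorem mem_eqField (t : K →+* A) {x : K} : x ∈ eqField t ↔ algebraMap K A x = t x :=
  Iff.rfl

/-- The identity map `A → Tw t` as a ring homomorphism. -/
def toTw (t : K →+* A) : A →+* Tw t := RingHom.id A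

omit [Algebra K A] in
theorem toTw_injective (t : K →+* A) : Function.Injective (toTw t) := fun _ _ h => h

/-- The contraction `A ⊗[K] Tw t → A` induced by a `K`-linear functional on `Tw t`. -/
noncomputable def contract (t : K →+* A) (θ : Module.Dual K (Tw t)) : A ⊗[K] Tw t →ₗ[K] A :=
  (TensorProduct.rid K A).toLinearMap ∘ₗ LinearMap.lTensor A θ

theorem contract_tmul (t : K →+* A) (θ : Module.Dual K (Tw t)) (a : A) (b : Tw t) :
    contract t θ (a ⊗ₜ b) = θ b • a := by
  simp [contract]

theorem algebraMap_tmul_one (t : K →+* A) (c : K) :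
    (algebraMap K A c) ⊗ₜ[K] (1 : Tw t) = (1 : A) ⊗ₜ[K] toTw t (t c) := by
  rw [Algebra.algebraMap_eq_smul_one, TensorProduct.smul_tmul]
  congr 1
  change c • (1 : Tw t) = algebraMap K (Tw t) c
  rw [Algebra.algebraMap_eq_smul_one]

/-- **Artin's lemma for groupoids.**  Suppose the relation `Spec A ⇉ Spec K` is transitive, in the form of a ring map
`f : A → A ⊗_{s,K,t} A` restricting to `1 ⊗ s` and `t ⊗ 1`.  Then a relation `∑ s(xᵢ) t(yᵢ) = 0` with the `yᵢ` linearly independent over
the subfield where `s` and `t` agree has all `xᵢ = 0`. -/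
theorem eq_zero_of_sum_eq_zero [Nontrivial A] (t : K →+* A) (f : A →+* A ⊗[K] Tw t)
    (hfs : ∀ c : K, f (algebraMap K A c) = (1 : A) ⊗ₜ[K] toTw t (algebraMap K A c))
    (hft : ∀ c : K, f (t c) = (t c) ⊗ₜ[K] (1 : Tw t))
    {ι : Type*} (y : ι → K) (hy : LinearIndependent (eqField t) y)
    (x : ι →₀ K) (hx : (x.sum fun i xi => algebraMap K A xi * t (y i)) = 0) : x = 0 := by
  classical
  induction' hn : x.support.card using Nat.strong_induction_on with n ih generalizing x
  by_contra hne
  obtain ⟨i₀, hi₀⟩ : ∃ i, x i ≠ 0 := by
    by_contra h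
    exact hne (Finsupp.ext fun i => by
      by_contra hi
      exact h ⟨i, hi⟩)
  set x' : ι →₀ K := (x i₀)⁻¹ • x with hx'
  have hx'rel : (x'.sum fun i xi => algebraMap K A xi * t (y i)) = 0 := by
    rw [hx', Finsupp.sum_smul_index (by simp)]
    have : (x.sum fun i c => algebraMap K A ((x i₀)⁻¹ * c) * t (y i)) =
        algebraMap K A (x i₀)⁻¹ * x.sum fun i xi => algebraMap K A xi * t (y i) := by
      rw [Finsupp.mul_sum]
      refine Finsupp.sum_congr fun i _ => ?_
      rw [map_mul, mul_assoc]
    rw [this, hx, mul_zero]
  have hx'i₀ : x' i₀ = 1 := by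
    rw [hx', Finsupp.smul_apply, smul_eq_mul, inv_mul_cancel₀ hi₀]
  have hsupp : x'.support = x.support := Finsupp.support_smul_eq (inv_ne_zero hi₀)
  -- the key relation in the tensor product
  have hB : (x'.sum fun i c => (t (y i)) ⊗ₜ[K] toTw t (algebraMap K A c - t c)) = 0 := by
    have E1 : (x'.sum fun i c => ((algebraMap K A c) ⊗ₜ[K] (1 : Tw t)) * ((t (y i)) ⊗ₜ[K] (1 : Tw t))) = 0 := by
      have := congrArg (Algebra.TensorProduct.includeLeftRingHom (R := K) (A := A) (B := Tw t)) hx'rel
      rw [map_finsuppSum, map_zero] at this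
      rw [← this]
      refine Finsupp.sum_congr fun i _ => ?_
      rw [map_mul]
      rfl
    have E2 : (x'.sum fun i c => ((1 : A) ⊗ₜ[K] toTw t (algebraMap K A c)) * ((t (y i)) ⊗ₜ[K] (1 : Tw t))) = 0 := by
      have := congrArg f hx'rel
      rw [map_finsuppSum, map_zero] at this
      rw [← this]
      refine Finsupp.sum_congr fun i _ => ?_
      rw [map_mul, hfs, hft]
    have E3 : (x'.sum fun i c => (t (y i)) ⊗ₜ[K] toTw t (algebraMap K A c - t c)) =
        (x'.sum fun i c => ((1 : A) ⊗ₜ[K] toTw t (algebraMap K A c)) * ((t (y i)) ⊗ₜ[K] (1 : Tw t))) -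
        (x'.sum fun i c => ((algebraMap K A c) ⊗ₜ[K] (1 : Tw t)) * ((t (y i)) ⊗ₜ[K] (1 : Tw t))) := by
      rw [← Finsupp.sum_sub]
      refine Finsupp.sum_congr fun i _ => ?_
      rw [algebraMap_tmul_one, Algebra.TensorProduct.tmul_mul_tmul, Algebra.TensorProduct.tmul_mul_tmul,
        one_mul, mul_one, mul_one, map_sub, TensorProduct.tmul_sub]
    rw [E3, E1, E2, sub_zero]
  have key : ∀ θ : Module.Dual K (Tw t), ∀ i, θ (toTw t (algebraMap K A (x' i) - t (x' i))) = 0 := by
    intro θ
    have h0 : (fun c : K => θ (toTw t (algebraMap K A c - t c))) 0 = 0 := by simp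
    set x'' : ι →₀ K := x'.mapRange (fun c => θ (toTw t (algebraMap K A c - t c))) h0 with hx''
    have hrel'' : (x''.sum fun i xi => algebraMap K A xi * t (y i)) = 0 := by
      rw [hx'', Finsupp.sum_mapRange_index (by simp)]
      have := congrArg (contract t θ) hB
      rw [map_finsuppSum, map_zero] at this
      rw [← this]
      refine Finsupp.sum_congr fun i _ => ?_
      rw [contract_tmul, Algebra.smul_def]
    have hcard : x''.support.card < n := by
      have hsub : x''.support ⊆ x'.support.erase i₀ := by
        intro i hi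
        rw [Finsupp.mem_support_iff] at hi
        rw [Finset.mem_erase, Finsupp.mem_support_iff]
        refine ⟨fun h => hi ?_, fun h => hi ?_⟩
        · rw [hx'', Finsupp.mapRange_apply, h, hx'i₀]; simp
        · rw [hx'', Finsupp.mapRange_apply, h]; simp
      have hi₀mem : i₀ ∈ x'.support := by
        rw [Finsupp.mem_support_iff, hx'i₀]; exact one_ne_zero
      calc x''.support.card ≤ (x'.support.erase i₀).card := Finset.card_le_card hsub
        _ < x'.support.card := Finset.card_erase_lt_of_mem hi₀mem
        _ = n := by rw [hsupp, hn]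
    have hz := ih _ hcard x'' hrel'' rfl
    intro i
    have := DFunLike.congr_fun hz i
    rwa [hx'', Finsupp.mapRange_apply] at this
  have hmem : ∀ i, x' i ∈ eqField t := by
    intro i
    rw [mem_eqField, ← sub_eq_zero]
    apply toTw_injective t
    rw [map_zero]
    exact (Module.forall_dual_apply_eq_zero_iff K _).1 (fun θ => key θ i)
  -- conclude
  have hsum : (x'.sum fun i c => c * y i) = 0 := by
    have ht : Function.Injective t := t.injective
    apply ht
    rw [map_finsuppSum, map_zero, ← hx'rel]
    refine Finsupp.sum_congr fun i _ => ?_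
    rw [map_mul, ← (mem_eqField t).1 (hmem i)]
  let l : ι →₀ eqField t := Finsupp.onFinset x'.support (fun i => ⟨x' i, hmem i⟩) (by
    intro i hi
    rw [Finsupp.mem_support_iff]
    intro h
    exact hi (Subtype.ext h))
  have hl : Finsupp.linearCombination (eqField t) y l = 0 := by
    rw [Finsupp.linearCombination_apply, Finsupp.sum, ← hsum, Finsupp.sum]
    have hls : l.support = x'.support := by
      ext i
      rw [Finsupp.mem_support_iff, Finsupp.mem_support_iff, Finsupp.onFinset_apply]
      exact ⟨fun h h' => h (Subtype.ext h'), fun h h' => h (congrArg Subtype.val h')⟩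
    rw [hls]
    rfl
  have := (linearIndependent_iff.1 hy) l hl
  have h1 : (l i₀ : K) = 0 := by rw [this]; rfl
  rw [Finsupp.onFinset_apply] at h1
  have h2 : x' i₀ = 0 := h1
  rw [hx'i₀] at h2
  exact one_ne_zero h2

section Consequences

variable [Nontrivial A] (t : K →+* A) (f : A →+* A ⊗[K] Tw t)
  (hfs : ∀ c : K, f (algebraMap K A c) = (1 : A) ⊗ₜ[K] toTw t (algebraMap K A c))
  (hft : ∀ c : K, f (t c) = (t c) ⊗ₜ[K] (1 : Tw t))

include hfs hft in
/-- Linear independence over the equalizer subfield is preserved by `t`. -/
theorem linearIndependent_comp {ι : Type*} (y : ι → K) (hy : LinearIndependent (eqField t) y) :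
    LinearIndependent K (fun i => t (y i)) := by
  rw [linearIndependent_iff]
  intro l hl
  refine eq_zero_of_sum_eq_zero t f hfs hft y hy l ?_
  rw [Finsupp.linearCombination_apply] at hl
  rw [← hl]
  refine Finsupp.sum_congr fun i _ => ?_
  rw [Algebra.smul_def]

include hfs hft in
/-- If `A` is finite over `K` then `K` is finite over the equalizer subfield. -/
theorem finite_eqField [Module.Finite K A] : Module.Finite (eqField t) K := by
  let b := Module.Basis.ofVectorSpace (eqField t) K
  have h1 : LinearIndependent K (fun i => t (b i)) :=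
    linearIndependent_comp t f hfs hft _ b.linearIndependent
  have : Finite (Module.Basis.ofVectorSpaceIndex (eqField t) K) := h1.finite
  exact Module.Finite.of_basis b

/-- The second structure map as an algebra homomorphism over the equalizer subfield. -/
def tAlgHom : K →ₐ[eqField t] A where
  toRingHom := t
  commutes' := by
    intro c
    exact ((mem_eqField t).1 c.2).symm

/-- The comparison map `K ⊗_{k₀} K → A`, `x ⊗ y ↦ s(x) t(y)`. -/
noncomputable def phi : K ⊗[eqField t] K →ₐ[eqField t] A :=
  Algebra.TensorProduct.lift (IsScalarTower.toAlgHom (eqField t) K A) (tAlgHom t)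
    (fun _ _ => Commute.all _ _)

omit [Nontrivial A] in
theorem phi_tmul (x y : K) : phi t (x ⊗ₜ y) = algebraMap K A x * t y := by
  simp [phi, tAlgHom]

include hfs hft in
theorem phi_injective : Function.Injective (phi t) := by
  rw [injective_iff_map_eq_zero]
  intro z hz
  let b := Module.Basis.ofVectorSpace (eqField t) K
  let B := Algebra.TensorProduct.basis K b
  have hrepr : z = (B.repr z).sum fun i c => c • B i := (B.linearCombination_repr z).symm
  have h2 : (B.repr z).sum (fun i c => algebraMap K A c * t (b i)) = 0 := by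
    rw [← hz]
    conv_rhs => rw [hrepr]
    rw [map_finsuppSum]
    refine Finsupp.sum_congr fun i _ => ?_
    rw [Algebra.TensorProduct.basis_apply, TensorProduct.smul_tmul', smul_eq_mul, mul_one, phi_tmul]
  have h3 := eq_zero_of_sum_eq_zero t f hfs hft _ b.linearIndependent (B.repr z) h2
  rw [hrepr, h3]
  simp

omit [Nontrivial A] in
/-- If `Spec A → Spec K × Spec K` is a monomorphism (in the form: ring maps out of `A` are determined by their restrictions along
`s` and `t`) and `A` is finite over `K`, then `K ⊗_{k₀} K → A` is surjective. -/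
theorem phi_surjective [Module.Finite K A]
    (hepi : ∀ (B : Type u) [CommRing B] (g₁ g₂ : A →+* B), g₁.comp (algebraMap K A) = g₂.comp (algebraMap K A) →
      g₁.comp t = g₂.comp t → g₁ = g₂) : Function.Surjective (phi t) := by
  have hE : CategoryTheory.Epi (CommRingCat.ofHom (phi t).toRingHom) := by
    constructor
    intro C g₁ g₂ h
    have h' : ∀ z, g₁.hom (phi t z) = g₂.hom (phi t z) := fun z =>
      congrArg (fun k => k.hom z) h
    have := hepi C g₁.hom g₂.hom
      (by
        ext x
        have := h' (x ⊗ₜ 1)
        rwa [phi_tmul, map_one, mul_one] at this)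
      (by
        ext x
        have := h' (1 ⊗ₜ x)
        rwa [phi_tmul, map_one, one_mul] at this)
    exact CommRingCat.hom_ext this
  have hF : (CommRingCat.ofHom (phi t).toRingHom).hom.Finite := by
    have h1 : ((phi t).toRingHom.comp
        (Algebra.TensorProduct.includeLeftRingHom (R := eqField t) (A := K) (B := K))).Finite := by
      have : (phi t).toRingHom.comp
          (Algebra.TensorProduct.includeLeftRingHom (R := eqField t) (A := K) (B := K)) =
          algebraMap K A := by
        ext x
        change phi t (x ⊗ₜ 1) = _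
        rw [phi_tmul, map_one, mul_one]
      rw [this]
      exact RingHom.finite_algebraMap.2 inferInstance
    exact RingHom.Finite.of_comp_finite h1
  exact RingHom.surjective_of_epi_of_finite _ hF

include hfs hft in
/-- **Extension property.**  Two ring maps out of `K` agreeing on the equalizer subfield come from a ring map out of `A`. -/
theorem exists_ringHom_of_agree [Module.Finite K A]
    (hepi : ∀ (B : Type u) [CommRing B] (g₁ g₂ : A →+* B), g₁.comp (algebraMap K A) = g₂.comp (algebraMap K A) →
      g₁.comp t = g₂.comp t → g₁ = g₂)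
    {B : Type u} [CommRing B] (g₁ g₂ : K →+* B) (h : ∀ x ∈ eqField t, g₁ x = g₂ x) :
    ∃ F : A →+* B, F.comp (algebraMap K A) = g₁ ∧ F.comp t = g₂ := by
  have hbij : Function.Bijective (phi t) := ⟨phi_injective t f hfs hft, phi_surjective t hepi⟩
  let e : (K ⊗[eqField t] K) ≃+* A := RingEquiv.ofBijective (phi t).toRingHom hbij
  let _ : Algebra (eqField t) B := (g₁.comp (eqField t).subtype).toAlgebra
  let G₁ : K →ₐ[eqField t] B := { toRingHom := g₁, commutes' := fun _ => rfl }
  let G₂ : K →ₐ[eqField t] B := { toRingHom := g₂, commutes' := fun c => (h c.1 c.2).symm }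
  let L : K ⊗[eqField t] K →ₐ[eqField t] B :=
    Algebra.TensorProduct.lift G₁ G₂ (fun _ _ => Commute.all _ _)
  refine ⟨L.toRingHom.comp e.symm.toRingHom, ?_, ?_⟩
  · ext x
    have h1 : e.symm (algebraMap K A x) = x ⊗ₜ 1 := by
      rw [RingEquiv.symm_apply_eq]
      change _ = phi t (x ⊗ₜ 1)
      rw [phi_tmul, map_one, mul_one]
    change L (e.symm (algebraMap K A x)) = g₁ x
    rw [h1]
    simp [L, G₁, G₂]
  · ext x
    have h1 : e.symm (t x) = 1 ⊗ₜ x := by
      rw [RingEquiv.symm_apply_eq]
      change _ = phi t (1 ⊗ₜ x)
      rw [phi_tmul, map_one, one_mul]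
    change L (e.symm (t x)) = g₂ x
    rw [h1]
    simp [L, G₁, G₂]

end Consequences

/-- A finite equivalence relation `Spec A ⇉ Spec K` on the spectrum of a field, in ring-theoretic terms: `A` is a nonzero finite
`K`-algebra through `s = algebraMap K A`, `t : K →+* A` is the second projection, the relation is transitive (`trans`) and
`Spec A → Spec K × Spec K` is a monomorphism (`epi`). -/
structure FinEqRel (t : K →+* A) : Prop where
  nontrivial : Nontrivial A
  finite : Module.Finite K A
  trans : ∃ f : A →+* A ⊗[K] Tw t,
    (∀ c : K, f (algebraMap K A c) = (1 : A) ⊗ₜ[K] toTw t (algebraMap K A c)) ∧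
      (∀ c : K, f (t c) = (t c) ⊗ₜ[K] (1 : Tw t))
  epi : ∀ (B : Type u) [CommRing B] (g₁ g₂ : A →+* B),
    g₁.comp (algebraMap K A) = g₂.comp (algebraMap K A) → g₁.comp t = g₂.comp t → g₁ = g₂

theorem FinEqRel.finite_eqField {t : K →+* A} (h : FinEqRel t) : Module.Finite (eqField t) K := by
  have := h.nontrivial
  have := h.finite
  obtain ⟨f, hfs, hft⟩ := h.trans
  exact Groth.Agent.Lib.FieldGroupoid.finite_eqField t f hfs hft

theorem FinEqRel.exists_ringHom_of_agree {t : K →+* A} (h : FinEqRel t) {B : Type u} [CommRing B]
    (g₁ g₂ : K →+* B) (hg : ∀ x ∈ eqField t, g₁ x = g₂ x) :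
    ∃ F : A →+* B, F.comp (algebraMap K A) = g₁ ∧ F.comp t = g₂ := by
  have := h.nontrivial
  have := h.finite
  obtain ⟨f, hfs, hft⟩ := h.trans
  exact Groth.Agent.Lib.FieldGroupoid.exists_ringHom_of_agree t f hfs hft h.epi g₁ g₂ hg

end Groth.Agent.Lib.FieldGroupoid
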