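import Mathlib

/-!
# Chains of closed subschemes as cofiltered limits (helper62)

For a nonempty chain `C` of ideal sheaves on `T`, the closed subscheme of `sSup C` is the limit, in
`Over T`, of the closed subschemes of the members of `C`.
-/

set_option autoImplicit false
universe u

open CategoryTheory Limits AlgebraicGeometry

namespace Groth.Agent.Lib.FieldPointChain

open Scheme.IdealSheafData

variable {T : Scheme.{u}} (C : Set T.IdealSheafData)

/-- The diagram of closed subschemes indexed by the chain with reversed order. -/
noncomputable def chainDiagram : (↥C)ᵒᵈ ⥤ Over T where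
  obj I := Over.mk (OrderDual.ofDual I).1.subschemeι
  map {I J} f := Over.homMk (inclusion (show (OrderDual.ofDual J).1 ≤ (OrderDual.ofDual I).1 from
    leOfHom f)) (inclusion_subschemeι _)
  map_id I := by
    ext1
    exact inclusion_id _
  map_comp f g := by
    ext1
    exact (inclusion_comp _ _).symm

/-- The cone with point the closed subscheme of `sSup C`. -/
noncomputable def chainCone : Cone (chainDiagram C) where
  pt := Over.mk (sSup C).subschemeι
  π :=
  { app := fun I => Over.homMk (inclusion (le_sSup (OrderDual.ofDual I).2))
      (inclusion_subschemeι _)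
    naturality := fun I J f => by
      ext1
      change 𝟙 _ ≫ inclusion _ = inclusion _ ≫ inclusion _
      rw [Category.id_comp, inclusion_comp] }

theorem sSup_le_ker (s : Cone (chainDiagram C)) :
    (sSup C).subschemeι.ker ≤ Scheme.Hom.ker (show s.pt.left ⟶ T from s.pt.hom) := by
  rw [ker_subschemeι]
  apply sSup_le
  intro I hI
  have h1 : (s.π.app (OrderDual.toDual ⟨I, hI⟩)).left ≫ I.subschemeι = s.pt.hom :=
    Over.w (s.π.app (OrderDual.toDual ⟨I, hI⟩))
  have h2 : I.subschemeι.ker ≤ ((s.π.app (OrderDual.toDual ⟨I, hI⟩)).left ≫ I.subschemeι).ker :=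
    Scheme.Hom.le_ker_comp _ _
  rw [ker_subschemeι] at h2
  rw [← h1]
  exact h2

/-- The lift of a cone to the closed subscheme of the supremum. -/
noncomputable def liftAux (s : Cone (chainDiagram C)) : s.pt.left ⟶ (sSup C).subscheme :=
  IsClosedImmersion.lift (sSup C).subschemeι (show s.pt.left ⟶ T from s.pt.hom) (sSup_le_ker C s)

theorem liftAux_fac (s : Cone (chainDiagram C)) :
    liftAux C s ≫ (sSup C).subschemeι = s.pt.hom :=
  IsClosedImmersion.lift_fac _ _ _

/-- The cone is a limit cone. -/
noncomputable def isLimitChainCone : IsLimit (chainCone C) where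
  lift s := Over.homMk (liftAux C s) (liftAux_fac C s)
  fac s I := by
    apply Over.OverMorphism.ext
    have key : liftAux C s ≫ inclusion (le_sSup (OrderDual.ofDual I).2) = (s.π.app I).left := by
      rw [← cancel_mono (OrderDual.ofDual I).1.subschemeι, Category.assoc, inclusion_subschemeι,
        liftAux_fac]
      exact (Over.w (s.π.app I)).symm
    exact key
  uniq s m hm := by
    apply Over.OverMorphism.ext
    have key : (show s.pt.left ⟶ (sSup C).subscheme from m.left) = liftAux C s := by
      rw [← cancel_mono (sSup C).subschemeι, liftAux_fac]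
      exact Over.w m
    exact key

instance (I : T.IdealSheafData) [CompactSpace T] : CompactSpace I.subscheme :=
  QuasiCompact.compactSpace_of_compactSpace I.subschemeι

instance (I : T.IdealSheafData) [QuasiSeparatedSpace T] : QuasiSeparatedSpace I.subscheme :=
  quasiSeparatedSpace_of_quasiSeparated I.subschemeι

theorem isAffineHom_chainDiagram_map {I J : (↥C)ᵒᵈ} (f : I ⟶ J) :
    IsAffineHom ((chainDiagram C).map f).left := by
  have hle : (OrderDual.ofDual J).1 ≤ (OrderDual.ofDual I).1 := leOfHom f
  change IsAffineHom (inclusion hle)
  have : IsClosedImmersion (inclusion hle ≫ (OrderDual.ofDual J).1.subschemeι) := by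
    rw [inclusion_subschemeι]
    infer_instance
  have : IsClosedImmersion (inclusion hle) :=
    IsClosedImmersion.of_comp_isClosedImmersion _ (OrderDual.ofDual J).1.subschemeι
  infer_instance

/-- The closed subscheme of the supremum of a nonempty chain of ideal sheaves with nonempty
closed subschemes on a quasi-compact scheme is nonempty. -/
theorem nonempty_subscheme_sSup [CompactSpace T] (hC : IsChain (· ≤ ·) C) (hne : C.Nonempty)
    (h : ∀ I ∈ C, Nonempty I.subscheme) : Nonempty (sSup C).subscheme := by
  have hsupp : ∀ I : T.IdealSheafData, Nonempty I.subscheme ↔ (I.support : Set T).Nonempty := by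
    intro I
    rw [← range_subschemeι, Set.range_nonempty_iff_nonempty]
  rw [hsupp, support_sSup]
  have : Nonempty ↥C := hne.to_subtype
  have hdir : Directed (· ⊇ ·) (fun I : ↥C => (I.1.support : Set T)) := by
    intro I J
    rcases hC.total I.2 J.2 with hIJ | hIJ
    · exact ⟨J, support_antitone hIJ, subset_rfl⟩
    · exact ⟨I, subset_rfl, support_antitone hIJ⟩
  have := IsCompact.nonempty_iInter_of_directed_nonempty_isCompact_isClosed
    (fun I : ↥C => (I.1.support : Set T)) hdir (fun I => (hsupp I.1).mp (h I.1 I.2))
    (fun I => I.1.support.isClosed.isCompact) (fun I => I.1.support.isClosed)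
  convert this using 1
  ext x
  simp only [TopologicalSpace.Closeds.coe_iInf, Set.mem_iInter, Subtype.forall]

end Groth.Agent.Lib.FieldPointChain
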