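import Mathlib
import Groth.Agent.Lib.FieldPointChain
import Groth.Agent.Lib.FieldPointStalk

/-!
# Existence of a field-valued point with a property that descends (helper62)

Zorn's lemma on closed subschemes + the generic point of an irreducible component of a minimal one.
-/

set_option autoImplicit false
universe u

open CategoryTheory Limits AlgebraicGeometry TopologicalSpace

namespace Groth.Agent.Lib.FieldPointMain

open Scheme.IdealSheafData Groth.Agent.Lib.FieldPointChain Groth.Agent.Lib.FieldPointStalk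

/-- A nonempty scheme has a point without nontrivial generizations. -/
theorem exists_forall_specializes_eq (Z : Scheme.{u}) [Nonempty Z] :
    ∃ η : Z, ∀ y : Z, y ⤳ η → y = η := by
  obtain ⟨z⟩ := ‹Nonempty Z›
  obtain ⟨η, hη⟩ := QuasiSober.sober (isIrreducible_irreducibleComponent (x := z))
    isClosed_irreducibleComponent
  refine ⟨η, fun y hy => ?_⟩
  have h1 : closure {η} ⊆ closure {y} := specializes_iff_closure_subset.mp hy
  have hmax := irreducibleComponent_mem_irreducibleComponents z
  have h2 : closure {y} ⊆ irreducibleComponent z :=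
    hmax.le_of_ge (isIrreducible_singleton.closure) (hη.def ▸ h1)
  rw [← hη.def] at h2
  have : η ⤳ y := specializes_iff_closure_subset.mpr h2
  exact (hy.antisymm this).eq

section

variable {T : Scheme.{u}} [CompactSpace T] [QuasiSeparatedSpace T]
  (P : ∀ ⦃T' : Scheme.{u}⦄, (T' ⟶ T) → Prop)
  (h1 : ∀ ⦃T' T'' : Scheme.{u}⦄ (a : T' ⟶ T) (t : T'' ⟶ T') [IsClosedImmersion t] [Surjective t]
    [CompactSpace T'] [QuasiSeparatedSpace T'] [CompactSpace T''] [QuasiSeparatedSpace T''],
    P (t ≫ a) ↔ P a)
  (h3 : ∀ ⦃T' Z V : Scheme.{u}⦄ (a : T' ⟶ T) [CompactSpace T'] [QuasiSeparatedSpace T']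
    (i : Z ⟶ T') [IsClosedImmersion i] (j : V ⟶ T') [IsOpenImmersion j] [CompactSpace V],
    Set.range j = (Set.range i)ᶜ → P a → P (j ≫ a) ∨ P (i ≫ a))
  (I : T.IdealSheafData)
  (hmax : ∀ J : T.IdealSheafData, Nonempty J.subscheme → P J.subschemeι → I ≤ J → J ≤ I)

include h1 hmax in
/-- A nonempty closed subscheme of a minimal one with the property is everything. -/
theorem surjective_of_minimal {Z' : Scheme.{u}} (i : Z' ⟶ I.subscheme) [IsClosedImmersion i]
    [Nonempty Z'] (hP : P (i ≫ I.subschemeι)) : Function.Surjective i := by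
  haveI : CompactSpace Z' := QuasiCompact.compactSpace_of_compactSpace i
  haveI : QuasiSeparatedSpace Z' := quasiSeparatedSpace_of_quasiSeparated i
  set f : Z' ⟶ T := i ≫ I.subschemeι with hf
  set J : T.IdealSheafData := f.ker with hJ
  have hfac : f.toImage ≫ J.subschemeι = f := f.toImage_imageι
  have hPJ : P J.subschemeι := by
    have := h1 J.subschemeι f.toImage
    rw [hfac] at this
    exact this.mp hP
  have hneJ : Nonempty J.subscheme := by
    obtain ⟨z⟩ := ‹Nonempty Z'›
    exact ⟨f.toImage z⟩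
  have hIJ : I ≤ J := by
    have := Scheme.Hom.le_ker_comp i I.subschemeι
    rwa [ker_subschemeι] at this
  have hJI : J ≤ I := hmax J hneJ hPJ hIJ
  have hsupp : (I.support : Set T) ⊆ J.support := support_antitone hJI
  intro z
  have hz : I.subschemeι z ∈ (J.support : Set T) := hsupp (by
    rw [← range_subschemeι]
    exact ⟨z, rfl⟩)
  rw [← range_subschemeι] at hz
  obtain ⟨w, hw⟩ := hz
  obtain ⟨z', rfl⟩ := (inferInstance : Surjective f.toImage).surj w
  refine ⟨z', ?_⟩
  apply I.subschemeι.isEmbedding.injective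
  rw [← hw, ← Scheme.Hom.comp_apply, ← Scheme.Hom.comp_apply, hfac]

include h1 h3 hmax in
/-- Every nonempty quasi-compact open of a minimal closed subscheme has the property. -/
theorem of_isOpenImmersion_of_minimal (hPI : P I.subschemeι) {V : Scheme.{u}}
    (j : V ⟶ I.subscheme) [IsOpenImmersion j] [CompactSpace V] [Nonempty V] :
    P (j ≫ I.subschemeι) := by
  haveI : QuasiSeparatedSpace V := quasiSeparatedSpace_of_quasiSeparated j
  by_cases hj : Set.range j = Set.univ
  · haveI : Surjective j := ⟨Set.range_eq_univ.mp hj⟩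
    haveI : IsIso j := (isIso_iff_isOpenImmersion_and_surjective j).mpr ⟨inferInstance, inferInstance⟩
    exact (h1 I.subschemeι j).mpr hPI
  · let C : Closeds I.subscheme := ⟨(Set.range j)ᶜ, j.isOpenEmbedding.isOpen_range.isClosed_compl⟩
    let K : I.subscheme.IdealSheafData := vanishingIdeal C
    have hrange : Set.range K.subschemeι = (Set.range j)ᶜ := by
      rw [range_subschemeι]
      exact coe_support_vanishingIdeal C
    rcases h3 I.subschemeι K.subschemeι j (by rw [hrange, compl_compl]) hPI with h | h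
    · exact h
    · exfalso
      have hne : Nonempty K.subscheme := by
        have : (Set.range K.subschemeι).Nonempty := by
          rw [hrange]
          exact Set.nonempty_compl.mpr hj
        obtain ⟨_, ⟨w, _⟩⟩ := this
        exact ⟨w⟩
      have hsurj := surjective_of_minimal P h1 I hmax K.subschemeι h
      have : Set.range K.subschemeι = Set.univ := Set.range_eq_univ.mpr hsurj
      rw [hrange, Set.compl_univ_iff] at this
      obtain ⟨v⟩ := ‹Nonempty V›
      exact (this ▸ Set.mem_range_self v : j v ∈ (∅ : Set _))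

end

/-- The spectrum of the local ring at a point without nontrivial generizations is a singleton. -/
theorem subsingleton_spec_stalk (Z : Scheme.{u}) (η : Z) (hη : ∀ y : Z, y ⤳ η → y = η) :
    Subsingleton (Spec (Z.presheaf.stalk η)) := by
  refine ⟨fun p q => ?_⟩
  apply (Z.fromSpecStalk η).isEmbedding.injective
  have hp : Z.fromSpecStalk η p ∈ Set.range (Z.fromSpecStalk η) := ⟨p, rfl⟩
  have hq : Z.fromSpecStalk η q ∈ Set.range (Z.fromSpecStalk η) := ⟨q, rfl⟩
  rw [Scheme.range_fromSpecStalk] at hp hq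
  rw [hη _ hp, hη _ hq]

theorem exists_field_point (T : Scheme.{u}) [CompactSpace T] [QuasiSeparatedSpace T]
    [Nonempty T] (P : ∀ ⦃T' : Scheme.{u}⦄, (T' ⟶ T) → Prop)
    (h1 : ∀ ⦃T' T'' : Scheme.{u}⦄ (a : T' ⟶ T) (t : T'' ⟶ T') [IsClosedImmersion t] [Surjective t]
      [CompactSpace T'] [QuasiSeparatedSpace T'] [CompactSpace T''] [QuasiSeparatedSpace T''],
      P (t ≫ a) ↔ P a)
    (h2 : ∀ ⦃I : Type u⦄ [SmallCategory I] [IsCofiltered I] (D : I ⥤ Over T) (c : Limits.Cone D)
      (_ : Limits.IsLimit c),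
      (∀ (i j : I) (m : i ⟶ j), IsAffineHom (D.map m).left) →
      (∀ i, CompactSpace (D.obj i).left ∧ QuasiSeparatedSpace (D.obj i).left) →
      (∀ i, P (D.obj i).hom) → P c.pt.hom)
    (h3 : ∀ ⦃T' Z V : Scheme.{u}⦄ (a : T' ⟶ T) [CompactSpace T'] [QuasiSeparatedSpace T']
      (i : Z ⟶ T') [IsClosedImmersion i] (j : V ⟶ T') [IsOpenImmersion j] [CompactSpace V],
      Set.range j = (Set.range i)ᶜ → P a → P (j ≫ a) ∨ P (i ≫ a))
    (hT : P (𝟙 T)) :
    ∃ (K : Type u) (_ : Field K) (t : Spec (CommRingCat.of K) ⟶ T), P t := by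
  classical
  let S : Set T.IdealSheafData := {I | Nonempty I.subscheme ∧ P I.subschemeι}
  have hbot : (⊥ : T.IdealSheafData) ∈ S := by
    refine ⟨?_, ?_⟩
    · obtain ⟨x⟩ := ‹Nonempty T›
      obtain ⟨y, -⟩ := (inferInstance : Surjective (⊥ : T.IdealSheafData).subschemeι).surj x
      exact ⟨y⟩
    · have := (h1 (𝟙 T) (⊥ : T.IdealSheafData).subschemeι).mpr hT
      rwa [Category.comp_id] at this
  obtain ⟨I, hI⟩ : ∃ I, Maximal (· ∈ S) I := by
    apply zorn_le₀
    intro C hCS hC
    by_cases hne : C.Nonempty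
    · refine ⟨sSup C, ⟨nonempty_subscheme_sSup C hC hne (fun I hI => (hCS hI).1), ?_⟩,
        fun I hI => le_sSup hI⟩
      haveI : Nonempty ↥C := hne.to_subtype
      haveI : IsDirected ↥C (· ≤ ·) := ⟨fun a b => by
        rcases hC.total a.2 b.2 with h | h
        · exact ⟨b, h, le_rfl⟩
        · exact ⟨a, le_rfl, h⟩⟩
      haveI : IsCofiltered (↥C)ᵒᵈ := isCofiltered_of_directed_ge_nonempty _
      exact h2 (chainDiagram C) (chainCone C) (isLimitChainCone C)
        (fun _ _ m => isAffineHom_chainDiagram_map C m)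
        (fun i => ⟨inferInstanceAs (CompactSpace (OrderDual.ofDual i).1.subscheme),
          inferInstanceAs (QuasiSeparatedSpace (OrderDual.ofDual i).1.subscheme)⟩)
        (fun i => (hCS (OrderDual.ofDual i).2).2)
    · refine ⟨⊥, hbot, fun I hI => (hne ⟨I, hI⟩).elim⟩
  have hmax : ∀ J : T.IdealSheafData, Nonempty J.subscheme → P J.subschemeι → I ≤ J → J ≤ I :=
    fun J hJ1 hJ2 hIJ => hI.le_of_ge ⟨hJ1, hJ2⟩ hIJ
  obtain ⟨hIne, hPI⟩ := hI.prop
  obtain ⟨η, hη⟩ := exists_forall_specializes_eq I.subscheme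
  -- the property holds for the spectrum of the local ring at `η`
  have hstalk : P (I.subscheme.fromSpecStalk η ≫ I.subschemeι) := by
    refine h2 (DOver I.subscheme η I.subschemeι) (coneOver I.subscheme η I.subschemeι)
      (isLimitConeOver I.subscheme η I.subschemeι) ?_ ?_ ?_
    · intro V W m
      change IsAffineHom (Spec.map _)
      infer_instance
    · intro V
      exact ⟨inferInstanceAs (CompactSpace (Spec _)), inferInstanceAs (QuasiSeparatedSpace (Spec _))⟩
    · intro V
      haveI : Nonempty (Spec Γ(I.subscheme, V.unop.U)) := by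
        have : η ∈ Set.range V.unop.isAffine.fromSpec := by
          rw [V.unop.isAffine.range_fromSpec]
          exact V.unop.mem
        obtain ⟨w, _⟩ := this
        exact ⟨w⟩
      exact of_isOpenImmersion_of_minimal P h1 h3 I hmax hPI V.unop.isAffine.fromSpec
  haveI := subsingleton_spec_stalk I.subscheme η hη
  let t : Spec (I.subscheme.residueField η) ⟶ Spec (I.subscheme.presheaf.stalk η) :=
    Spec.map (I.subscheme.residue η)
  haveI : Surjective t := ⟨fun p => by
    obtain ⟨q⟩ : Nonempty (Spec (I.subscheme.residueField η)) := inferInstance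
    exact ⟨q, Subsingleton.elim _ _⟩⟩
  have hres := (h1 (I.subscheme.fromSpecStalk η ≫ I.subschemeι) t).mpr hstalk
  exact ⟨I.subscheme.residueField η, inferInstance, t ≫ I.subscheme.fromSpecStalk η ≫ I.subschemeι,
    hres⟩

end Groth.Agent.Lib.FieldPointMain
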