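/-
Closures in fibre products over (the spectrum of) a field (helper12).

If `B` is integral with a single point (e.g. `Spec k`), `P = X ×_B Y`, then for subsets `A ⊆ X`,
`A' ⊆ Y` we have `pr₁⁻¹(closure A) ∩ pr₂⁻¹(closure A') ⊆ closure (pr₁⁻¹ A ∩ pr₂⁻¹ A')`.
-/
import Mathlib.AlgebraicGeometry.Morphisms.UniversallyOpen
import Mathlib.AlgebraicGeometry.Fiber
import Mathlib.AlgebraicGeometry.PullbackCarrier

set_option autoImplicit false
universe u
open CategoryTheory CategoryTheory.Limits AlgebraicGeometry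

namespace Groth.Agent.Lib.FieldProdClosure

variable {P X Y B : Scheme.{u}}

/-- moving one coordinate in a fibre product over a "point". -/
theorem exists_mem_of_isPullback {a : P ⟶ X} {b : P ⟶ Y} {f : X ⟶ B} {g : Y ⟶ B}
    (h : IsPullback a b f g) [IsIntegral B] [Subsingleton B] (A' : Set Y) (p : P)
    (W : Set P) (hW : IsOpen W) (hpW : p ∈ W) (hp : b p ∈ closure A') :
    ∃ q ∈ W, a q = a p ∧ b q ∈ A' := by
  have sq1 : IsPullback (a.fiberι (a p)) (a.fiberToSpecResidueField (a p)) a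
      (X.fromSpecResidueField (a p)) := IsPullback.of_hasPullback _ _
  have sq := sq1.paste_horiz h.flip
  have huo : UniversallyOpen (X.fromSpecResidueField (a p) ≫ f) := inferInstance
  have huo' : UniversallyOpen (a.fiberι (a p) ≫ b) :=
    MorphismProperty.of_isPullback sq.flip huo
  have hopen : IsOpenMap (a.fiberι (a p) ≫ b) := Scheme.Hom.isOpenMap _
  obtain ⟨p', hp'⟩ : p ∈ Set.range (a.fiberι (a p)) := by
    rw [Scheme.Hom.range_fiberι]; rfl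
  have hW' : IsOpen ((a.fiberι (a p)) ⁻¹' W) := hW.preimage (a.fiberι (a p)).continuous
  have hopen' := hopen _ hW'
  have hmem : b p ∈ (a.fiberι (a p) ≫ b) '' ((a.fiberι (a p)) ⁻¹' W) := by
    refine ⟨p', ?_, ?_⟩
    · show a.fiberι (a p) p' ∈ W
      rw [hp']; exact hpW
    · simp [hp']
  obtain ⟨y, ⟨q', hq'W, hq'y⟩, hyA⟩ := mem_closure_iff.mp hp _ hopen' hmem
  refine ⟨a.fiberι (a p) q', hq'W, ?_, ?_⟩
  · have : a.fiberι (a p) q' ∈ a ⁻¹' {a p} := by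
      rw [← Scheme.Hom.range_fiberι]; exact ⟨q', rfl⟩
    exact this
  · have : b (a.fiberι (a p) q') = y := by simpa using hq'y
    rw [this]; exact hyA

/-- closure of a "product" of subsets in a fibre product over a point. -/
theorem mem_closure_of_isPullback {a : P ⟶ X} {b : P ⟶ Y} {f : X ⟶ B} {g : Y ⟶ B}
    (h : IsPullback a b f g) [IsIntegral B] [Subsingleton B] (A : Set X) (A' : Set Y) (p : P)
    (h₁ : a p ∈ closure A) (h₂ : b p ∈ closure A') :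
    p ∈ closure (a ⁻¹' A ∩ b ⁻¹' A') := by
  rw [mem_closure_iff]
  intro W hW hpW
  obtain ⟨q, hqW, hqb, hqa⟩ := exists_mem_of_isPullback h.flip A p W hW hpW h₁
  obtain ⟨q', hq'W, hq'a, hq'b⟩ := exists_mem_of_isPullback h A' q W hW hqW (hqb ▸ h₂)
  exact ⟨q', hq'W, by rw [Set.mem_preimage, hq'a]; exact hqa, hq'b⟩

theorem mem_closure_pullback {f : X ⟶ B} {g : Y ⟶ B}
    [IsIntegral B] [Subsingleton B] (A : Set X) (A' : Set Y) (p : ↑(pullback f g))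
    (h₁ : pullback.fst f g p ∈ closure A) (h₂ : pullback.snd f g p ∈ closure A') :
    p ∈ closure (pullback.fst f g ⁻¹' A ∩ pullback.snd f g ⁻¹' A') :=
  mem_closure_of_isPullback (IsPullback.of_hasPullback f g) A A' p h₁ h₂

/-- Lifting a point `q` of `P` whose images under `φ₁, φ₂` lie in the ranges of `a₁, a₂`
to a scheme `Q` with maps to `R₁, R₂` compatible with `φ₁, φ₂`. -/
theorem exists_lift_two {R₁ R₂ X₁ X₂ : Scheme.{u}} (a₁ : R₁ ⟶ X₁) (a₂ : R₂ ⟶ X₂)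
    (φ₁ : P ⟶ X₁) (φ₂ : P ⟶ X₂) (q : P) (hq₁ : φ₁ q ∈ Set.range a₁) (hq₂ : φ₂ q ∈ Set.range a₂) :
    ∃ (Q : Scheme.{u}) (z : Q) (q' : Q ⟶ P) (x₁ : Q ⟶ R₁) (x₂ : Q ⟶ R₂),
      q' z = q ∧ x₁ ≫ a₁ = q' ≫ φ₁ ∧ x₂ ≫ a₂ = q' ≫ φ₂ := by
  obtain ⟨r₁, hr₁⟩ := hq₁
  obtain ⟨r₂, hr₂⟩ := hq₂
  obtain ⟨z₁, hz₁q, hz₁r⟩ :=
    Scheme.Pullback.exists_preimage_pullback (f := φ₁) (g := a₁) q r₁ hr₁.symm
  have hz₁ : (pullback.fst φ₁ a₁ ≫ φ₂) z₁ = a₂ r₂ := by
    simp [hz₁q, hr₂]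
  obtain ⟨z₂, hz₂z, hz₂r⟩ :=
    Scheme.Pullback.exists_preimage_pullback (f := pullback.fst φ₁ a₁ ≫ φ₂) (g := a₂) z₁ r₂ hz₁
  refine ⟨pullback (pullback.fst φ₁ a₁ ≫ φ₂) a₂, z₂,
    pullback.fst _ _ ≫ pullback.fst φ₁ a₁, pullback.fst _ _ ≫ pullback.snd φ₁ a₁,
    pullback.snd _ _, ?_, ?_, ?_⟩
  · simp [hz₂z, hz₁q]
  · rw [Category.assoc, Category.assoc, pullback.condition]
  · rw [← pullback.condition, Category.assoc]

end Groth.Agent.Lib.FieldProdClosure
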