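import Groth.Prelude.Def_RegImm
import Groth.Agent.S2680
import Mathlib.RingTheory.Extension.Presentation.Basic
import Mathlib.RingTheory.Ideal.KrullsHeightTheorem
import Mathlib.RingTheory.Localization.Away.Basic
import Mathlib.RingTheory.RingHom.FiniteType

/-!
# Global / local complete intersections over a field (`Synt.IsGlobalCI`, `Synt.IsLCIOver`)

* `isGlobalCI_of_algEquiv`, `isLCIOver_of_algEquiv`: invariance under `k`-algebra isomorphisms.
* `le_height_add_of_presentation`: in `k[x_1..x_n]/(r_1..r_c)` every maximal ideal has height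
  at least `n - c`.
* `isGlobalCI_localizationAway`, `isLCIOver_localizationAway`: principal localizations.
-/

set_option autoImplicit false
universe u

namespace Groth.Agent.Lib.GlobalCI

open Synt MvPolynomial

variable {k : Type u} [Field k]

theorem isGlobalCI_of_algEquiv {S T : Type u} [CommRing S] [CommRing T] [Algebra k S]
    [Algebra k T] (e : S ≃ₐ[k] T) (h : IsGlobalCI k S) : IsGlobalCI k T := by
  rcases h with hS | ⟨n, c, hcn, φ, r, hφ, hker, hdim⟩
  · exact Or.inl (e.symm.toEquiv.subsingleton)
  · refine Or.inr ⟨n, c, hcn, (e : S →ₐ[k] T).comp φ, r, e.surjective.comp hφ, ?_, ?_⟩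
    · rw [← hker]
      ext x
      simp only [RingHom.mem_ker]
      change e (φ x) = 0 ↔ φ x = 0
      exact e.map_eq_zero_iff
    · rw [← hdim]
      exact (ringKrullDim_eq_of_ringEquiv e.toRingEquiv).symm

/-- In `k[x_1, …, x_n]/(r_1, …, r_c)` every maximal ideal has height at least `n - c`. -/
theorem le_height_add_of_presentation {n c : ℕ} {S : Type u} [CommRing S] [Algebra k S]
    (φ : MvPolynomial (Fin n) k →ₐ[k] S) (r : Fin c → MvPolynomial (Fin n) k)
    (hφ : Function.Surjective φ) (hker : RingHom.ker φ.toRingHom = Ideal.span (Set.range r))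
    (m : Ideal S) [hm : m.IsMaximal] : (n : ℕ∞) ≤ m.height + c := by
  classical
  let M : Ideal (MvPolynomial (Fin n) k) := m.comap φ.toRingHom
  have hM : M.IsMaximal := Ideal.comap_isMaximal_of_surjective φ.toRingHom hφ
  have hMh : M.height = n := Groth.Agent.S2680.height_of_isMaximal_mvPolynomial k n M
  have hsub : Set.range r ⊆ (M : Set (MvPolynomial (Fin n) k)) := by
    rintro _ ⟨i, rfl⟩
    have : r i ∈ RingHom.ker φ.toRingHom := by
      rw [hker]; exact Ideal.subset_span ⟨i, rfl⟩
    show φ.toRingHom (r i) ∈ m
    rw [this]
    exact zero_mem _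
  have h1 := Ideal.height_le_height_add_encard_of_subset (Set.range r) hsub
  -- the quotient by `span (range r)` is isomorphic to `S`
  let e : (MvPolynomial (Fin n) k ⧸ Ideal.span (Set.range r)) ≃+* S :=
    (Ideal.quotEquivOfEq hker.symm).trans (RingHom.quotientKerEquivOfSurjective hφ)
  have he : ∀ x, e (Ideal.Quotient.mk _ x) = φ x := fun x ↦ rfl
  have h2 : (M.map (Ideal.Quotient.mk (Ideal.span (Set.range r)))).map e = m := by
    have h' : (M.map (Ideal.Quotient.mk (Ideal.span (Set.range r)))).map (e : _ →+* S) = m := by
      rw [Ideal.map_map]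
      have : (e : _ →+* S).comp (Ideal.Quotient.mk (Ideal.span (Set.range r))) = φ.toRingHom :=
        RingHom.ext he
      rw [this]
      exact Ideal.map_comap_of_surjective _ hφ m
    exact h'
  have h3 : (M.map (Ideal.Quotient.mk (Ideal.span (Set.range r)))).height = m.height := by
    rw [← h2, e.height_map]
  have h4 : (Set.range r).encard ≤ c := by
    calc (Set.range r).encard = (r '' Set.univ).encard := by rw [Set.image_univ]
      _ ≤ (Set.univ : Set (Fin c)).encard := Set.encard_image_le _ _
      _ = c := by simp
  rw [hMh, h3] at h1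
  exact h1.trans (by gcongr)

/-- The dimension of a localization is at most the dimension of the ring. -/
theorem ringKrullDim_le_of_isLocalization {R : Type*} [CommRing R] (M : Submonoid R)
    (A : Type*) [CommRing A] [Algebra R A] [IsLocalization M A] :
    ringKrullDim A ≤ ringKrullDim R := by
  rw [ringKrullDim_le_iff_height_le]
  intro p hp
  rw [← IsLocalization.height_under M p]
  exact Ideal.height_le_ringKrullDim_of_ne_top Ideal.IsPrime.ne_top'

/-- A principal localization of a global complete intersection over a field is a global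
complete intersection. -/
theorem isGlobalCI_localizationAway {S : Type u} [CommRing S] [Algebra k S] (g : S)
    (h : IsGlobalCI k S) : IsGlobalCI k (Localization.Away g) := by
  classical
  rcases h with hS | ⟨n, c, hcn, φ, r, hφ, hker, hdim⟩
  · exact Or.inl (IsLocalization.subsingleton (M := Submonoid.powers g)
      (by simp [Subsingleton.elim (0 : S) g] : (0 : S) ∈ Submonoid.powers g))
  by_cases hT : Subsingleton (Localization.Away g)
  · exact Or.inl hT
  rw [not_subsingleton_iff_nontrivial] at hT
  -- the presentation of `S`
  let P : Algebra.Presentation k S (Fin n) (Fin c) :=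
    { toGenerators := Algebra.Generators.ofAlgHom φ hφ
      relation := r
      span_range_relation_eq_ker := by
        rw [Algebra.Generators.ker_ofAlgHom]; exact hker.symm }
  let Q : Algebra.Presentation S (Localization.Away g) Unit Unit :=
    Algebra.Presentation.localizationAway (Localization.Away g) g
  let e : Fin (n + 1) ≃ Unit ⊕ Fin n := Fintype.equivOfCardEq (by simp [add_comm])
  let f : Fin (c + 1) ≃ Unit ⊕ Fin c := Fintype.equivOfCardEq (by simp [add_comm])
  let P' : Algebra.Presentation k (Localization.Away g) (Fin (n + 1)) (Fin (c + 1)) :=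
    (Q.comp P).reindex e f
  have hsurj : Function.Surjective (aeval (R := k) P'.val) := P'.aeval_val_surjective
  have hker' : RingHom.ker (aeval (R := k) P'.val).toRingHom = Ideal.span (Set.range P'.relation) := by
    rw [P'.span_range_relation_eq_ker, Algebra.Generators.ker_eq_ker_aeval_val]
    rfl
  refine Or.inr ⟨n + 1, c + 1, by omega, aeval (R := k) P'.val, P'.relation, hsurj, hker', ?_⟩
  have hnc : n + 1 - (c + 1) = n - c := by omega
  rw [hnc]
  apply le_antisymm
  · rw [← hdim]
    exact ringKrullDim_le_of_isLocalization (Submonoid.powers g) _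
  · obtain ⟨m, hm⟩ := Ideal.exists_maximal (Localization.Away g)
    have h1 := le_height_add_of_presentation (aeval (R := k) P'.val) P'.relation hsurj hker' m
    have h2 : (m.height : WithBot ℕ∞) ≤ ringKrullDim (Localization.Away g) :=
      Ideal.height_le_ringKrullDim_of_ne_top Ideal.IsPrime.ne_top'
    refine le_trans ?_ h2
    have h3 : ((n - c : ℕ) : ℕ∞) ≤ m.height := by
      cases hh : m.height with
      | top => exact le_top
      | coe a =>
        rw [hh] at h1
        have : (n + 1 : ℕ) ≤ a + (c + 1) := by exact_mod_cast h1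
        exact_mod_cast (by omega : n - c ≤ a)
    calc ((n - c : ℕ) : WithBot ℕ∞) = (((n - c : ℕ) : ℕ∞) : WithBot ℕ∞) := rfl
      _ ≤ _ := WithBot.coe_le_coe.mpr h3

/-- A principal localization of a local complete intersection over a field is a local
complete intersection. -/
theorem isLCIOver_localizationAway {S : Type u} [CommRing S] [Algebra k S] (g : S)
    (h : IsLCIOver k S) : IsLCIOver k (Localization.Away g) := by
  obtain ⟨hft, hloc⟩ := h
  refine ⟨Algebra.FiniteType.trans hft
    (IsLocalization.finiteType_of_monoid_fg (Submonoid.powers g) _), ?_⟩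
  intro p
  obtain ⟨h', hh', hCI⟩ := hloc (PrimeSpectrum.comap (algebraMap S (Localization.Away g)) p)
  refine ⟨algebraMap S _ h', hh', ?_⟩
  have h1 := isGlobalCI_localizationAway (algebraMap S (Localization.Away h') g) hCI
  let E : Localization.Away (algebraMap S (Localization.Away h') g) ≃ₐ[S]
      Localization.Away (algebraMap S (Localization.Away g) h') :=
    IsLocalization.algEquiv (Submonoid.powers (h' * g)) _ _
  exact isGlobalCI_of_algEquiv (E.restrictScalars k) h1

theorem isLCIOver_of_algEquiv {S T : Type u} [CommRing S] [CommRing T] [Algebra k S]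
    [Algebra k T] (e : S ≃ₐ[k] T) (h : IsLCIOver k S) : IsLCIOver k T := by
  obtain ⟨hft, hloc⟩ := h
  refine ⟨Algebra.FiniteType.equiv hft e, ?_⟩
  intro p
  obtain ⟨g, hg, hCI⟩ := hloc (PrimeSpectrum.comap (e : S →+* T) p)
  refine ⟨e g, hg, ?_⟩
  let E : Localization.Away g ≃ₐ[k] Localization.Away (e g) :=
    IsLocalization.algEquivOfAlgEquiv (M := Submonoid.powers g) (T := Submonoid.powers (e g))
      (Localization.Away g) (Localization.Away (e g)) e
      (by rw [Submonoid.map_powers])
  exact isGlobalCI_of_algEquiv E hCI

/-- Being a local complete intersection over a field is local on the spectrum: if every prime has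
a basic open neighbourhood which is a local complete intersection, then so is the ring. -/
theorem isLCIOver_of_cover {S : Type u} [CommRing S] [Algebra k S] [hft : Algebra.FiniteType k S]
    (hcov : ∀ p : PrimeSpectrum S, ∃ g : S, g ∉ p.asIdeal ∧ IsLCIOver k (Localization.Away g)) :
    IsLCIOver k S := by
  refine ⟨hft, fun p ↦ ?_⟩
  obtain ⟨g, hg, -, hloc⟩ := hcov p
  have hdisj : Disjoint (Submonoid.powers g : Set S) (p.asIdeal : Set S) := by
    rw [Set.disjoint_left]
    rintro _ ⟨n, rfl⟩ hn
    exact hg (p.isPrime.mem_of_pow_mem n hn)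
  have hP : (p.asIdeal.map (algebraMap S (Localization.Away g))).IsPrime :=
    IsLocalization.isPrime_of_isPrime_disjoint (Submonoid.powers g) _ _ p.isPrime hdisj
  obtain ⟨h, hh, hCI⟩ := hloc ⟨_, hP⟩
  obtain ⟨⟨h', ⟨_, n, rfl⟩⟩, hh'⟩ := IsLocalization.surj (Submonoid.powers g) h
  simp only at hh'
  -- `algebraMap h'` is associated to `h`
  have hunit : IsUnit (algebraMap S (Localization.Away g) (g ^ n)) :=
    IsLocalization.map_units (Localization.Away g) (⟨g ^ n, n, rfl⟩ : Submonoid.powers g)
  have hass : Associated (algebraMap S (Localization.Away g) h') h := by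
    rw [← hh']
    exact (associated_mul_unit_right h _ hunit).symm
  have hloc' : IsLocalization.Away (g * h') (Localization.Away h) :=
    IsLocalization.Away.mul_of_associated g h' h hass
  refine ⟨g * h', ?_, ?_⟩
  · intro hmem
    rcases p.isPrime.mem_or_mem hmem with h1 | h1
    · exact hg h1
    · apply hh
      have : algebraMap S (Localization.Away g) h' ∈
          p.asIdeal.map (algebraMap S (Localization.Away g)) := Ideal.mem_map_of_mem _ h1
      rw [← hh'] at this
      exact (Ideal.IsPrime.mem_or_mem hP this).resolve_right fun h2 ↦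
        hP.ne_top (Ideal.eq_top_of_isUnit_mem _ h2 hunit)
  · let E : Localization.Away h ≃ₐ[S] Localization.Away (g * h') :=
      IsLocalization.algEquiv (Submonoid.powers (g * h')) _ _
    exact isGlobalCI_of_algEquiv (E.restrictScalars k) hCI

/-- A presentation over a field with `n` variables and `c ≤ n` relations whose ring has dimension
`n - c` (or is zero) exhibits a global complete intersection. -/
theorem isGlobalCI_of_presentation {S : Type u} [CommRing S] [Algebra k S] {n c : ℕ}
    (P : Algebra.Presentation k S (Fin n) (Fin c)) (hcn : c ≤ n)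
    (hdim : Subsingleton S ∨ ringKrullDim S = ((n - c : ℕ) : WithBot ℕ∞)) : IsGlobalCI k S := by
  rcases hdim with h | h
  · exact Or.inl h
  · refine Or.inr ⟨n, c, hcn, aeval (R := k) P.val, P.relation, P.aeval_val_surjective, ?_, h⟩
    rw [P.span_range_relation_eq_ker, Algebra.Generators.ker_eq_ker_aeval_val]
    rfl

/-- A global complete intersection of finite type is a local complete intersection. -/
theorem isLCIOver_of_isGlobalCI {S : Type u} [CommRing S] [Algebra k S]
    [hft : Algebra.FiniteType k S] (h : IsGlobalCI k S) : IsLCIOver k S :=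
  ⟨hft, fun p ↦ ⟨1, fun h1 ↦ p.isPrime.ne_top ((Ideal.eq_top_iff_one _).mpr h1),
    isGlobalCI_localizationAway 1 h⟩⟩

end Groth.Agent.Lib.GlobalCI
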