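import Mathlib
import Groth.Agent.Lib.GlobalCI
import Groth.Agent.Lib.FTDim

/-!
# A field extension is the directed union of its global complete intersection subalgebras — helper6

Iterative construction (Stacks 00SV-type): starting from `k`, adjoin the elements of a finite set one
at a time; a transcendental element gives a polynomial ring (one more generator), an algebraic one is
handled by inverting the leading coefficient of a minimal-degree relation and adjoining a root of the
resulting monic polynomial (two more generators, two more relations, same dimension).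

* `adjoinRootPresentation`: `Algebra.Presentation A (AdjoinRoot P) Unit Unit`.
* `isGlobalCI_adjoinRoot`, `isGlobalCI_mvPolynomial_unit`: permanence of `Synt.IsGlobalCI`.
* `exists_subalgebra_isGlobalCI` (S9430).
-/

set_option autoImplicit false
universe u
open Synt Polynomial

namespace Groth.Agent.Lib.FieldUnionCI6

section Part1
section AdjoinRootPres

variable {A : Type u} [CommRing A] (P : A[X])

theorem aeval_root_eq (F : MvPolynomial Unit A) :
    MvPolynomial.aeval (fun _ : Unit => AdjoinRoot.root P) F =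
      AdjoinRoot.mk P (MvPolynomial.uniqueAlgEquiv A Unit F) := by
  rw [MvPolynomial.aeval_def, ← MvPolynomial.eval₂_const_uniqueAlgEquiv,
    ← Polynomial.aeval_def, AdjoinRoot.aeval_eq]

theorem aeval_root_surjective :
    Function.Surjective (MvPolynomial.aeval (R := A) (fun _ : Unit => AdjoinRoot.root P)) := by
  intro x
  obtain ⟨g, rfl⟩ := AdjoinRoot.mk_surjective x
  refine ⟨(MvPolynomial.uniqueAlgEquiv A Unit).symm g, ?_⟩
  rw [aeval_root_eq, AlgEquiv.apply_symm_apply]

/-- Generators of `AdjoinRoot P` over `A`: the root. -/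
noncomputable def adjoinRootGenerators : Algebra.Generators A (AdjoinRoot P) Unit :=
  Algebra.Generators.ofSurjective (fun _ : Unit => AdjoinRoot.root P) (aeval_root_surjective P)

/-- Presentation of `AdjoinRoot P` over `A` with one generator and one relation. -/
noncomputable def adjoinRootPresentation : Algebra.Presentation A (AdjoinRoot P) Unit Unit where
  toGenerators := adjoinRootGenerators P
  relation := fun _ => (MvPolynomial.uniqueAlgEquiv A Unit).symm P
  span_range_relation_eq_ker := by
    rw [(adjoinRootGenerators P).ker_eq_ker_aeval_val, Set.range_const]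
    ext F
    rw [Ideal.mem_span_singleton, RingHom.mem_ker]
    have h1 : (MvPolynomial.aeval (adjoinRootGenerators P).val) F =
        AdjoinRoot.mk P (MvPolynomial.uniqueAlgEquiv A Unit F) := aeval_root_eq P F
    rw [h1, AdjoinRoot.mk_eq_zero]
    constructor
    · intro h
      have := map_dvd (MvPolynomial.uniqueAlgEquiv A Unit) h
      rwa [AlgEquiv.apply_symm_apply] at this
    · intro h
      have := map_dvd (MvPolynomial.uniqueAlgEquiv A Unit).symm h
      rwa [AlgEquiv.symm_apply_apply] at this

end AdjoinRootPres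

end Part1

section Part2
variable {k : Type u} [Field k]

/-- Extract a presentation from a (nontrivial) global complete intersection. -/
theorem exists_presentation_of_isGlobalCI {A : Type u} [CommRing A] [Algebra k A]
    (hA : IsGlobalCI k A) :
    Subsingleton A ∨ ∃ n c : ℕ, c ≤ n ∧ Nonempty (Algebra.Presentation k A (Fin n) (Fin c)) ∧
      ringKrullDim A = ((n - c : ℕ) : WithBot ℕ∞) := by
  rcases hA with hS | ⟨n, c, hcn, φ, r, hφ, hker, hdim⟩
  · exact Or.inl hS
  · refine Or.inr ⟨n, c, hcn, ⟨?_⟩, hdim⟩
    exact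
      { toGenerators := Algebra.Generators.ofAlgHom φ hφ
        relation := r
        span_range_relation_eq_ker := by
          rw [Algebra.Generators.ker_ofAlgHom]; exact hker.symm }

/-- Adjoining a root of a monic polynomial to a global complete intersection. -/
theorem isGlobalCI_adjoinRoot {A : Type u} [CommRing A] [Algebra k A] (hA : IsGlobalCI k A)
    (P : A[X]) (hP : P.Monic) (hinj : Function.Injective (algebraMap A (AdjoinRoot P))) :
    IsGlobalCI k (AdjoinRoot P) := by
  classical
  rcases exists_presentation_of_isGlobalCI hA with hS | ⟨n, c, hcn, ⟨PA⟩, hdim⟩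
  · exact Or.inl (Module.subsingleton A (AdjoinRoot P))
  · let Q : Algebra.Presentation A (AdjoinRoot P) Unit Unit := adjoinRootPresentation P
    let e : Fin (n + 1) ≃ Unit ⊕ Fin n := Fintype.equivOfCardEq (by simp [add_comm])
    let f : Fin (c + 1) ≃ Unit ⊕ Fin c := Fintype.equivOfCardEq (by simp [add_comm])
    let P' : Algebra.Presentation k (AdjoinRoot P) (Fin (n + 1)) (Fin (c + 1)) :=
      (Q.comp PA).reindex e f
    refine Groth.Agent.Lib.GlobalCI.isGlobalCI_of_presentation P' (by omega) (Or.inr ?_)
    have hfin : Module.Finite A (AdjoinRoot P) := hP.finite_adjoinRoot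
    have hint : Algebra.IsIntegral A (AdjoinRoot P) := Algebra.IsIntegral.of_finite A _
    have hnc : n + 1 - (c + 1) = n - c := by omega
    rw [← Groth.Agent.Lib.FTDim.ringKrullDim_eq_of_isIntegral_of_injective hinj, hdim, hnc]

/-- Polynomial ring in one variable over a (Noetherian) global complete intersection. -/
theorem isGlobalCI_mvPolynomial_unit {A : Type u} [CommRing A] [Algebra k A]
    (hA : IsGlobalCI k A) : IsGlobalCI k (MvPolynomial Unit A) := by
  classical
  rcases exists_presentation_of_isGlobalCI hA with hS | ⟨n, c, hcn, ⟨PA⟩, hdim⟩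
  · exact Or.inl (Module.subsingleton A (MvPolynomial Unit A))
  · have hft : Algebra.FiniteType k A := PA.toGenerators.finiteType
    have hnoeth : IsNoetherianRing A := Algebra.FiniteType.isNoetherianRing k A
    let Q : Algebra.Presentation A (MvPolynomial Unit A) Unit (Fin 0) :=
      { toGenerators := Algebra.Generators.mvPolynomial A Unit
        relation := Fin.elim0
        span_range_relation_eq_ker := by
          rw [Algebra.Generators.ker_eq_ker_aeval_val]
          have : Set.range (Fin.elim0 : Fin 0 → (Algebra.Generators.mvPolynomial A Unit).Ring) = ∅ := Set.range_eq_empty _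
          rw [this, Ideal.span_empty]
          symm
          rw [RingHom.ker_eq_bot_iff_eq_zero]
          intro x hx
          have : MvPolynomial.aeval (Algebra.Generators.mvPolynomial A Unit).val x
              = x := by
            change MvPolynomial.aeval (MvPolynomial.X) x = x
            simp
          rw [← this]
          exact hx }
    let e : Fin (n + 1) ≃ Unit ⊕ Fin n := Fintype.equivOfCardEq (by simp [add_comm])
    let f : Fin c ≃ Fin 0 ⊕ Fin c := Fintype.equivOfCardEq (by simp)
    let P' : Algebra.Presentation k (MvPolynomial Unit A) (Fin (n + 1)) (Fin c) :=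
      (Q.comp PA).reindex e f
    refine Groth.Agent.Lib.GlobalCI.isGlobalCI_of_presentation P' (by omega) (Or.inr ?_)
    rw [MvPolynomial.ringKrullDim_of_isNoetherianRing, hdim]
    have : n + 1 - c = (n - c) + 1 := by omega
    rw [this]
    simp

end Part2

section Part3
variable {k : Type u} [Field k] {K : Type u} [Field K] [Algebra k K]

theorem isGlobalCI_range {A : Type u} [CommRing A] [Algebra k A] (hA : IsGlobalCI k A)
    (g : A →ₐ[k] K) (hg : Function.Injective g) : IsGlobalCI k g.range :=
  Groth.Agent.Lib.GlobalCI.isGlobalCI_of_algEquiv (AlgEquiv.ofInjective g hg) hA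

theorem step_transcendental (B : Subalgebra k K) (hB : IsGlobalCI k B) (e : K)
    (he : Transcendental B e) :
    ∃ B' : Subalgebra k K, B ≤ B' ∧ e ∈ B' ∧ IsGlobalCI k B' := by
  let f' : MvPolynomial Unit B →ₐ[B] K := MvPolynomial.aeval (fun _ : Unit => e)
  have hinj : Function.Injective f' := by
    have : AlgebraicIndependent B (fun _ : Unit => e) :=
      algebraicIndependent_unique_type_iff.mpr he
    exact this
  let g : MvPolynomial Unit B →ₐ[k] K := f'.restrictScalars k
  refine ⟨g.range, ?_, ?_, isGlobalCI_range (isGlobalCI_mvPolynomial_unit hB) g hinj⟩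
  · intro b hb
    refine ⟨MvPolynomial.C ⟨b, hb⟩, ?_⟩
    change MvPolynomial.aeval (fun _ : Unit => e) (MvPolynomial.C (⟨b, hb⟩ : B)) = b
    rw [MvPolynomial.aeval_C]
    rfl
  · refine ⟨MvPolynomial.X (), ?_⟩
    change MvPolynomial.aeval (fun _ : Unit => e) (MvPolynomial.X ()) = e
    rw [MvPolynomial.aeval_X]

end Part3

section Part4
variable {k : Type u} [Field k] {K : Type u} [Field K] [Algebra k K]

theorem step_algebraic_aux (B : Subalgebra k K) (e : K) (q : B[X]) (hq0 : q ≠ 0)
    (hqe : aeval e q = 0)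
    (hmin : ∀ q' : B[X], q' ≠ 0 → aeval e q' = 0 → q.natDegree ≤ q'.natDegree)
    (h : B) (hh : h = q.leadingCoeff)
    (Bh : Type u) [CommRing Bh] [Algebra B Bh] [Algebra k Bh] [IsScalarTower k B Bh]
    [IsLocalization.Away h Bh] (hBh : IsGlobalCI k Bh) :
    ∃ B' : Subalgebra k K, B ≤ B' ∧ e ∈ B' ∧ IsGlobalCI k B' := by
  classical
  have hh0 : h ≠ 0 := hh ▸ leadingCoeff_ne_zero.mpr hq0
  have hM : Submonoid.powers h ≤ nonZeroDivisors B :=
    powers_le_nonZeroDivisors_of_noZeroDivisors hh0
  have hinjBh : Function.Injective (algebraMap B Bh) := IsLocalization.injective Bh hM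
  have hunit : ∀ y : Submonoid.powers h, IsUnit (B.val (y : B)) := by
    intro y
    rw [isUnit_iff_ne_zero]
    intro h0
    have h1 : (y : B) = 0 := Subtype.ext (by simpa using h0)
    exact nonZeroDivisors.ne_zero (hM y.2) h1
  obtain ⟨φ, hφ⟩ : ∃ φ : Bh →ₐ[k] K, ∀ b : B, φ (algebraMap B Bh b) = (b : K) :=
    ⟨IsLocalization.liftAlgHom (M := Submonoid.powers h) (f := B.val) hunit, fun b =>
      IsLocalization.lift_eq _ _⟩
  have hφcomp : (φ : Bh →+* K).comp (algebraMap B Bh) = algebraMap B K := RingHom.ext hφ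
  have hφinj : Function.Injective φ := by
    have : Function.Injective (φ : Bh →+* K) := by
      rw [IsLocalization.injective_iff_map_algebraMap_eq (Submonoid.powers h)]
      intro x y
      rw [hinjBh.eq_iff]
      change x = y ↔ φ _ = φ _
      rw [hφ, hφ]
      exact ⟨fun hxy => by rw [hxy], fun hxy => Subtype.ext hxy⟩
    exact this
  have hnt : Nontrivial Bh := hinjBh.nontrivial
  -- the monic polynomial
  obtain ⟨P, hPdef⟩ : ∃ P : Bh[X], P =
    C (IsLocalization.Away.invSelf h) * q.map (algebraMap B Bh) := ⟨_, rfl⟩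
  have hPmonic : P.Monic := by
    rw [hPdef]
    apply monic_C_mul_of_mul_leadingCoeff_eq_one
    rw [leadingCoeff_map_of_injective hinjBh, mul_comm, ← hh]
    exact IsLocalization.Away.mul_invSelf h
  have hPe : P.eval₂ (φ : Bh →+* K) e = 0 := by
    rw [hPdef, eval₂_mul, eval₂_map, hφcomp, ← aeval_def, hqe, mul_zero]
  have hPdeg : P.natDegree ≤ q.natDegree :=
    hPdef ▸ (natDegree_C_mul_le _ _).trans natDegree_map_le
  have hminP : ∀ g : Bh[X], g ≠ 0 → g.eval₂ (φ : Bh →+* K) e = 0 →
      P.natDegree ≤ g.natDegree := by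
    intro g hg0 hge
    obtain ⟨b, hbM, hb⟩ := IsLocalization.integerNormalization_spec (Submonoid.powers h) g
    set g₀ := IsLocalization.integerNormalization (Submonoid.powers h) g with hg₀
    have hbu : IsUnit (algebraMap B Bh b) :=
      IsLocalization.map_units Bh (⟨b, hbM⟩ : Submonoid.powers h)
    have hb' : g₀.map (algebraMap B Bh) = C (algebraMap B Bh b) * g := by
      rw [hb, ← algebraMap_smul Bh b g, smul_eq_C_mul]
    have hg₀0 : g₀ ≠ 0 := by
      intro h0
      rw [h0, Polynomial.map_zero] at hb'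
      have : C (algebraMap B Bh b) * g = 0 := hb'.symm
      exact hg0 (((Polynomial.isUnit_C.mpr hbu).mul_right_eq_zero).mp this)
    have hg₀e : aeval e g₀ = 0 := by
      rw [aeval_def, ← hφcomp, ← eval₂_map, hb', eval₂_mul, hge, mul_zero]
    have h1 := hmin g₀ hg₀0 hg₀e
    have h2 : g₀.natDegree ≤ g.natDegree := by
      rw [← natDegree_map_eq_of_injective hinjBh g₀, hb']
      exact natDegree_C_mul_le _ _
    exact hPdeg.trans (h1.trans h2)
  have hP1 : P ≠ 1 := by
    intro h1
    rw [h1, eval₂_one] at hPe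
    exact one_ne_zero hPe
  -- the extension
  obtain ⟨f', hf'of, hf'root, hf'mk⟩ : ∃ f' : AdjoinRoot P →ₐ[k] K,
      (∀ x, f' (AdjoinRoot.of P x) = φ x) ∧ f' (AdjoinRoot.root P) = e ∧
        ∀ g : Bh[X], f' (AdjoinRoot.mk P g) = g.eval₂ (φ : Bh →+* K) e :=
    ⟨AdjoinRoot.liftAlgHom P φ e hPe, fun x => AdjoinRoot.liftAlgHom_of P φ e hPe x,
      AdjoinRoot.liftAlgHom_root P φ e hPe, fun g => AdjoinRoot.liftAlgHom_mk P φ e hPe g⟩
  have hf'inj : Function.Injective f' := by
    rw [injective_iff_map_eq_zero]
    intro x hx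
    obtain ⟨g, rfl⟩ := AdjoinRoot.mk_surjective x
    rw [AdjoinRoot.mk_eq_zero, ← modByMonic_eq_zero_iff_dvd hPmonic]
    by_contra hr
    have hge : g.eval₂ (φ : Bh →+* K) e = 0 := by
      rw [← hf'mk g]; exact hx
    have hre : (g %ₘ P).eval₂ (φ : Bh →+* K) e = 0 := by
      have hdiv := modByMonic_add_div g P
      have : (g %ₘ P + P * (g /ₘ P)).eval₂ (φ : Bh →+* K) e = 0 := by
        rw [hdiv]; exact hge
      rwa [eval₂_add, eval₂_mul, hPe, zero_mul, add_zero] at this
    have h1 := hminP _ hr hre
    have h2 := natDegree_modByMonic_lt g hPmonic hP1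
    omega
  have hofinj : Function.Injective (algebraMap Bh (AdjoinRoot P)) := by
    rw [AdjoinRoot.algebraMap_eq]
    intro x y hxy
    apply hφinj
    rw [← hf'of, ← hf'of, hxy]
  have hCI : IsGlobalCI k (AdjoinRoot P) := isGlobalCI_adjoinRoot hBh P hPmonic hofinj
  refine ⟨f'.range, ?_, ?_, isGlobalCI_range hCI f' hf'inj⟩
  · intro b hb
    refine ⟨AdjoinRoot.of P (algebraMap B Bh ⟨b, hb⟩), ?_⟩
    change f' _ = b
    rw [hf'of, hφ]
  · exact ⟨AdjoinRoot.root P, hf'root⟩

end Part4

section Part5
variable {k : Type u} [Field k] {K : Type u} [Field K] [Algebra k K]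

theorem step_algebraic (B : Subalgebra k K) (hB : IsGlobalCI k B) (e : K)
    (he : IsAlgebraic B e) :
    ∃ B' : Subalgebra k K, B ≤ B' ∧ e ∈ B' ∧ IsGlobalCI k B' := by
  classical
  have hex : ∃ d : ℕ, ∃ q : B[X], q ≠ 0 ∧ aeval e q = 0 ∧ q.natDegree = d := by
    obtain ⟨q, hq0, hqe⟩ := he
    exact ⟨_, q, hq0, hqe, rfl⟩
  obtain ⟨q, hq0, hqe, hqd⟩ := Nat.find_spec hex
  have hmin : ∀ q' : B[X], q' ≠ 0 → aeval e q' = 0 → q.natDegree ≤ q'.natDegree := by
    intro q' h0 h1
    rw [hqd]
    exact Nat.find_min' hex ⟨q', h0, h1, rfl⟩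
  exact step_algebraic_aux B e q hq0 hqe hmin q.leadingCoeff rfl
    (Localization.Away q.leadingCoeff)
    (Groth.Agent.Lib.GlobalCI.isGlobalCI_localizationAway q.leadingCoeff hB)

theorem step (B : Subalgebra k K) (hB : IsGlobalCI k B) (e : K) :
    ∃ B' : Subalgebra k K, B ≤ B' ∧ e ∈ B' ∧ IsGlobalCI k B' := by
  by_cases he : IsAlgebraic B e
  · exact step_algebraic B hB e he
  · exact step_transcendental B hB e he

theorem isGlobalCI_self : IsGlobalCI k k := by
  refine Or.inr ⟨0, 0, le_rfl, (MvPolynomial.isEmptyAlgEquiv k (Fin 0)).toAlgHom, Fin.elim0,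
    (MvPolynomial.isEmptyAlgEquiv k (Fin 0)).surjective, ?_, ?_⟩
  · have : Set.range (Fin.elim0 : Fin 0 → MvPolynomial (Fin 0) k) = ∅ := Set.range_eq_empty _
    rw [this, Ideal.span_empty]
    rw [RingHom.ker_eq_bot_iff_eq_zero]
    intro x hx
    exact (MvPolynomial.isEmptyAlgEquiv k (Fin 0)).injective (by rw [map_zero]; exact hx)
  · simp

theorem isGlobalCI_bot : IsGlobalCI k (⊥ : Subalgebra k K) :=
  Groth.Agent.Lib.GlobalCI.isGlobalCI_of_algEquiv (Algebra.botEquiv k K).symm isGlobalCI_self

theorem exists_subalgebra_isGlobalCI (k : Type u) [Field k] (K : Type u) [Field K] [Algebra k K]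
    (E : Finset K) :
    ∃ A : Subalgebra k K, (↑E : Set K) ⊆ (A : Set K) ∧ IsGlobalCI k A := by
  classical
  induction E using Finset.induction_on with
  | empty => exact ⟨⊥, by simp, isGlobalCI_bot⟩
  | insert e E _ ih =>
    obtain ⟨A, hEA, hA⟩ := ih
    obtain ⟨A', hAA', heA', hA'⟩ := step A hA e
    refine ⟨A', ?_, hA'⟩
    rw [Finset.coe_insert]
    intro x hx
    rcases hx with rfl | hx
    · exact heA'
    · exact hAA' (hEA hx)

end Part5

end Groth.Agent.Lib.FieldUnionCI6
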