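import Mathlib.Algebra.Homology.HomologySequenceLemmas
import Mathlib.Algebra.Homology.QuasiIso
import Mathlib.Algebra.Homology.HomotopyCategory.KInjective
import Mathlib.Algebra.Homology.HomotopyCategory.DegreewiseSplit
import Mathlib.Algebra.Homology.HomologicalComplexAbelian
import Mathlib.CategoryTheory.Triangulated.Orthogonal
import Mathlib.CategoryTheory.Abelian.Refinements
import Mathlib.CategoryTheory.Preadditive.Injective.Basic
import Mathlib.CategoryTheory.Subobject.Limits

/-!
# Abstract lemmas for filtered K-injective resolutions (helper31)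

* `quasiIso_τ₁` : in a morphism of short exact sequences of cochain complexes, if `τ₂`, `τ₃` are
  quasi-isomorphisms then so is `τ₁`.
* `Good X` : `X` is K-injective with injective terms; stable under isomorphisms and kernels of
  degreewise split epimorphisms.
* the third isomorphism theorem in the form `coker (ker π ⟶ ker (π ≫ ρ)) ≅ ker ρ` for `π` epi.
-/

set_option autoImplicit false

open CategoryTheory Limits HomologicalComplex ComposableArrows

namespace Groth.Agent.FilCore31

section QuasiIso

variable {C : Type*} [Category* C] [Abelian C]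
  {S₁ S₂ : ShortComplex (CochainComplex C ℤ)} (φ : S₁ ⟶ S₂)
  (hS₁ : S₁.ShortExact) (hS₂ : S₂.ShortExact)

include hS₁ hS₂ in
lemma quasiIso_τ₁ (h₂ : QuasiIso φ.τ₂) (h₃ : QuasiIso φ.τ₃) : QuasiIso φ.τ₁ := by
  rw [quasiIso_iff]
  intro j
  rw [quasiIsoAt_iff_isIso_homologyMap]
  have hij : (ComplexShape.up ℤ).Rel (j - 1) j := by simp
  exact Abelian.isIso_of_epi_of_isIso_of_isIso_of_mono' (k := 1) (n := 5) (by omega)
    (HomologySequence.composableArrows₅_exact hS₁ (j - 1) j hij)
    (HomologySequence.composableArrows₅_exact hS₂ (j - 1) j hij)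
    (HomologySequence.mapComposableArrows₅ φ hS₁ hS₂ (j - 1) j hij) 1 2 3 4 5 rfl rfl rfl rfl rfl
    (by change Epi (homologyMap φ.τ₂ (j - 1)); infer_instance)
    (by change IsIso (homologyMap φ.τ₃ (j - 1)); infer_instance)
    (by change IsIso (homologyMap φ.τ₂ j); infer_instance)
    (by change Mono (homologyMap φ.τ₃ j); infer_instance)

include hS₁ hS₂ in
lemma quasiIso_τ₃ (h₁ : QuasiIso φ.τ₁) (h₂ : QuasiIso φ.τ₂) : QuasiIso φ.τ₃ :=
  HomologySequence.quasiIso_τ₃ φ hS₁ hS₂ h₁ h₂

end QuasiIso

section Good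

variable {C : Type*} [Category* C] [Abelian C]

/-- K-injective with injective terms -/
structure Good (X : CochainComplex C ℤ) : Prop where
  kinj : X.IsKInjective
  inj : ∀ n, Injective (X.X n)

lemma Good.of_iso {X Y : CochainComplex C ℤ} (e : X ≅ Y) (h : Good X) : Good Y where
  kinj := by
    have := h.kinj
    exact CochainComplex.isKInjective_of_iso e
  inj n := by
    have h1 : Injective (X.X n) := h.inj n
    have e' : X.X n ≅ Y.X n := (HomologicalComplex.eval C _ n).mapIso e
    exact Injective.of_iso e' h1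

lemma isKInjective_X₁_of_degreewiseSplit (S : ShortComplex (CochainComplex C ℤ))
    (σ : ∀ n, (S.map (HomologicalComplex.eval C _ n)).Splitting)
    [S.X₂.IsKInjective] [S.X₃.IsKInjective] : S.X₁.IsKInjective := by
  rw [CochainComplex.isKInjective_iff_rightOrthogonal]
  have hT : CochainComplex.trianglehOfDegreewiseSplit S σ ∈ distTriang _ :=
    (HomotopyCategory.distinguished_iff_iso_trianglehOfDegreewiseSplit _).2 ⟨S, σ, ⟨Iso.refl _⟩⟩
  exact ObjectProperty.ext_of_isTriangulatedClosed₁ _ _ hT
    (CochainComplex.IsKInjective.rightOrthogonal S.X₂)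
    (CochainComplex.IsKInjective.rightOrthogonal S.X₃)

lemma epi_of_split {X Y : CochainComplex C ℤ} (f : X ⟶ Y)
    (hs : ∀ n, ∃ s : Y.X n ⟶ X.X n, s ≫ f.f n = 𝟙 _) : Epi f := by
  have : ∀ n, Epi (f.f n) := fun n => by
    obtain ⟨s, hs⟩ := hs n
    exact epi_of_epi_fac hs
  exact HomologicalComplex.epi_of_epi_f f this

lemma Good.kernel {X Y : CochainComplex C ℤ} (f : X ⟶ Y) (hX : Good X) (hY : Good Y)
    (hs : ∀ n, ∃ s : Y.X n ⟶ X.X n, s ≫ f.f n = 𝟙 _) : Good (kernel f) := by
  have := epi_of_split f hs
  let S : ShortComplex (CochainComplex C ℤ) := ShortComplex.mk (kernel.ι f) f (kernel.condition f)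
  have hS : S.ShortExact := { exact := ShortComplex.exact_kernel f }
  have σ : ∀ n, (S.map (HomologicalComplex.eval C _ n)).Splitting := fun n =>
    ShortComplex.Splitting.ofExactOfSection _ (hS.map_of_exact (HomologicalComplex.eval C _ n)).exact
      (hs n).choose (hs n).choose_spec
      (hS.map_of_exact (HomologicalComplex.eval C _ n)).mono_f
  refine ⟨?_, fun n => ?_⟩
  · have := hX.kinj
    have := hY.kinj
    exact isKInjective_X₁_of_degreewiseSplit S σ
  · have := hX.inj n
    exact Retract.injective (Y := X.X n) ⟨(kernel.ι f).f n, (σ n).r, (σ n).f_r⟩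

end Good

section ThirdIso

variable {D : Type*} [Category* D] [Abelian D] {J Q Q' : D} (π : J ⟶ Q) (π' : J ⟶ Q') (ρ : Q ⟶ Q')
  (h : π ≫ ρ = π')

include h in
lemma kernelSubobject_le : kernelSubobject π ≤ kernelSubobject π' := by
  subst h
  exact kernelSubobject_comp_le π ρ

/-- the map `ker π' ⟶ ker ρ` induced by `π`. -/
noncomputable def toKer : (kernelSubobject π' : D) ⟶ kernel ρ :=
  kernel.lift ρ ((kernelSubobject π').arrow ≫ π) (by
    rw [Category.assoc, h, kernelSubobject_arrow_comp])

@[reassoc (attr := simp)]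
lemma toKer_ι : toKer π π' ρ h ≫ kernel.ι ρ = (kernelSubobject π').arrow ≫ π := by
  simp [toKer]

/-- the short complex `ker π ⟶ ker π' ⟶ ker ρ` -/
noncomputable def sc (hle : kernelSubobject π ≤ kernelSubobject π') : ShortComplex D :=
  ShortComplex.mk ((kernelSubobject π).ofLE (kernelSubobject π') hle) (toKer π π' ρ h) (by
    rw [← cancel_mono (kernel.ι ρ), Category.assoc, toKer_ι, Subobject.ofLE_arrow_assoc,
      kernelSubobject_arrow_comp, zero_comp])

lemma sc_shortExact [Epi π] (hle : kernelSubobject π ≤ kernelSubobject π') :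
    (sc π π' ρ h hle).ShortExact where
  exact := by
    rw [ShortComplex.exact_iff_exact_up_to_refinements]
    intro T x₂ hx₂
    change T ⟶ (kernelSubobject π' : D) at x₂
    change x₂ ≫ toKer π π' ρ h = 0 at hx₂
    change ∃ (A' : D) (π_1 : A' ⟶ T) (_ : Epi π_1) (x₁ : A' ⟶ (kernelSubobject π : D)),
      π_1 ≫ x₂ = x₁ ≫ (kernelSubobject π).ofLE (kernelSubobject π') hle
    have h1 : (x₂ ≫ (kernelSubobject π').arrow) ≫ π = 0 := by
      have := hx₂ =≫ kernel.ι ρ
      rwa [Category.assoc, toKer_ι, zero_comp, ← Category.assoc] at this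
    refine ⟨T, 𝟙 T, inferInstance, factorThruKernelSubobject π _ h1, ?_⟩
    rw [Category.id_comp, ← cancel_mono (kernelSubobject π').arrow, Category.assoc,
      Subobject.ofLE_arrow, factorThruKernelSubobject_comp_arrow]
  mono_f := by dsimp [sc]; infer_instance
  epi_g := by
    dsimp [sc]
    rw [epi_iff_surjective_up_to_refinements]
    intro T z
    obtain ⟨T', p, hp, y, hy⟩ := surjective_up_to_refinements_of_epi π (z ≫ kernel.ι ρ)
    have h1 : y ≫ π' = 0 := by
      rw [← h, ← reassoc_of% hy, kernel.condition, comp_zero, comp_zero]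
    refine ⟨T', p, hp, factorThruKernelSubobject π' y h1, ?_⟩
    rw [← cancel_mono (kernel.ι ρ), Category.assoc, Category.assoc, toKer_ι,
      ← Category.assoc (factorThruKernelSubobject π' y h1),
      factorThruKernelSubobject_comp_arrow, hy]

/-- third isomorphism theorem -/
noncomputable def cokerIso [Epi π] (hle : kernelSubobject π ≤ kernelSubobject π') :
    cokernel ((kernelSubobject π).ofLE (kernelSubobject π') hle) ≅ kernel ρ :=
  IsColimit.coconePointUniqueUpToIso (cokernelIsCokernel _) (sc_shortExact π π' ρ h hle).gIsCokernel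

end ThirdIso

end Groth.Agent.FilCore31
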