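import Groth.Prelude.Def_SpSeq
import Groth.Agent.Lib.FilCore31

/-!
# Filtered K-injective resolutions: assembling from a "core" (helper31)

A `Core K` consists of a K-injective complex `J` with injective terms, a tower of quotients
`π p : J ⟶ Q p` (degreewise split epimorphisms, transition maps `ρ` degreewise split) and
compatible quasi-isomorphisms `K ⟶ J`, `K / F^p K ⟶ Q p`.  From a core we construct a filtered
K-injective resolution of `K` with `F^p J = ker (π p)`.
-/

set_option autoImplicit false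

universe v u

open CategoryTheory Limits

namespace Groth.Agent.FilAsm31

open SpSeq Groth.Agent.FilCore31

variable {A : Type u} [Category.{v} A] [Abelian A]

section Terms

variable {X Y Z : CochainComplex A ℤ}

/-- the degree `n` term of the cokernel -/
noncomputable def cokerXIso (i : X ⟶ Y) (n : ℤ) : (cokernel i).X n ≅ cokernel (i.f n) :=
  PreservesCokernel.iso (HomologicalComplex.eval A _ n) i

variable (K : FilCx A)

/-- `F^p(K^n) ≅ (F^p K)^n` -/
noncomputable def stepIso (n p : ℤ) : (K.XFil n).step p ≅ (K.step p).X n :=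
  Subobject.underlyingIso ((K.fil p).arrow.f n)

lemma stepIso_hom_arrow (n p : ℤ) :
    (stepIso K n p).hom ≫ (K.fil p).arrow.f n = ((K.XFil n).fil p).arrow :=
  Subobject.underlyingIso_hom_comp_eq_mk _

/-- `K^n / F^p(K^n) ≅ (K / F^p K)^n` -/
noncomputable def quotIso (n p : ℤ) : (K.XFil n).quot p ≅ (K.quot p).X n :=
  cokernel.mapIso ((K.XFil n).fil p).arrow ((K.fil p).arrow.f n) (stepIso K n p) (Iso.refl _)
    (by rw [stepIso_hom_arrow]; exact (Category.comp_id _)) ≪≫
    (cokerXIso (K.fil p).arrow n).symm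

/-- `F^p(K^n) / F^q(K^n) ≅ (F^p K / F^q K)^n` -/
noncomputable def grIso (n : ℤ) {p q : ℤ} (h : p ≤ q) :
    cokernel ((K.XFil n).stepLE h) ≅ (cokernel (K.stepLE h)).X n :=
  cokernel.mapIso ((K.XFil n).stepLE h) ((K.stepLE h).f n) (stepIso K n q) (stepIso K n p)
    (by
      rw [← cancel_mono ((K.fil p).arrow.f n), Category.assoc, Category.assoc, stepIso_hom_arrow,
        ← HomologicalComplex.comp_f, Subobject.ofLE_arrow, stepIso_hom_arrow]
      exact Subobject.ofLE_arrow _) ≪≫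
    (cokerXIso (K.stepLE h) n).symm

end Terms

section Generic

variable {D : Type*} [Category* D] [Abelian D] {X Y : D}

/-- the short exact sequence `ker f ⟶ X ⟶ Y` with the kernel subobject -/
lemma kernelSubobject_shortExact (f : X ⟶ Y) [Epi f] :
    (ShortComplex.mk (kernelSubobject f).arrow f (kernelSubobject_arrow_comp f)).ShortExact where
  exact := by
    let e : ShortComplex.mk (kernel.ι f) f (kernel.condition f) ≅
        ShortComplex.mk (kernelSubobject f).arrow f (kernelSubobject_arrow_comp f) :=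
      ShortComplex.isoMk (kernelSubobjectIso f).symm (Iso.refl _) (Iso.refl _)
        (by simp) (by simp)
    exact ShortComplex.exact_of_iso e (ShortComplex.exact_kernel f)
  mono_f := by dsimp; infer_instance
  epi_g := by dsimp; infer_instance

lemma cokernel_shortExact (i : X ⟶ Y) [Mono i] :
    (ShortComplex.mk i (cokernel.π i) (cokernel.condition i)).ShortExact where
  exact := ShortComplex.exact_cokernel i
  mono_f := by dsimp; infer_instance
  epi_g := by dsimp; infer_instance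

/-- `X / ker f ≅ Y` for an epimorphism `f` -/
noncomputable def cokerKernelSubobjectIso (f : X ⟶ Y) [Epi f] :
    cokernel (kernelSubobject f).arrow ≅ Y :=
  IsColimit.coconePointUniqueUpToIso (cokernelIsCokernel _)
    (kernelSubobject_shortExact f).gIsCokernel

end Generic

/-- The data from which a filtered K-injective resolution is assembled. -/
structure Core (K : FilCx A) where
  J : CochainComplex A ℤ
  Q : ℤ → CochainComplex A ℤ
  π : ∀ p, J ⟶ Q p
  ρ : ∀ {p q : ℤ}, p ≤ q → (Q q ⟶ Q p)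
  π_ρ : ∀ {p q : ℤ} (h : p ≤ q), π q ≫ ρ h = π p
  j₀ : K.obj ⟶ J
  jq : ∀ p, K.quot p ⟶ Q p
  comm : ∀ p, cokernel.π (K.fil p).arrow ≫ jq p = j₀ ≫ π p
  splitπ : ∀ p n, ∃ s : (Q p).X n ⟶ J.X n, s ≫ (π p).f n = 𝟙 _
  splitρ : ∀ {p q : ℤ} (h : p ≤ q) n, ∃ s : (Q p).X n ⟶ (Q q).X n, s ≫ (ρ h).f n = 𝟙 _
  goodJ : Good J
  goodQ : ∀ p, Good (Q p)
  qis₀ : QuasiIso j₀
  qisq : ∀ p, QuasiIso (jq p)

namespace Core

variable {K : FilCx A} (c : Core K)

instance (p : ℤ) : Epi (c.π p) := epi_of_split _ (c.splitπ p)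

/-- the filtered complex -/
noncomputable def fc : FilCx A where
  obj := c.J
  fil p := kernelSubobject (c.π p)
  anti _ _ h := kernelSubobject_le _ _ _ (c.π_ρ h)

lemma w (p : ℤ) : ((K.fil p).arrow ≫ c.j₀) ≫ c.π p = 0 := by
  rw [Category.assoc, ← c.comm, cokernel.condition_assoc, zero_comp]

/-- the morphism of filtered complexes -/
noncomputable def j : K ⟶ c.fc where
  hom := c.j₀
  compat p := Subobject.le_of_factors
    (pullback_factors c.j₀ _ _ (kernelSubobject_factors (c.π p) _ (c.w p)))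

/-- the induced map on `F^p` -/
noncomputable def jp (p : ℤ) : K.step p ⟶ c.fc.step p :=
  factorThruKernelSubobject (c.π p) ((K.fil p).arrow ≫ c.j₀) (c.w p)

lemma jp_arrow (p : ℤ) : c.jp p ≫ (c.fc.fil p).arrow = (K.fil p).arrow ≫ c.j.hom :=
  factorThruKernelSubobject_comp_arrow _ _ _

lemma jp_stepLE {p q : ℤ} (h : p ≤ q) : c.jp q ≫ c.fc.stepLE h = K.stepLE h ≫ c.jp p := by
  rw [← cancel_mono (c.fc.fil p).arrow, Category.assoc, Category.assoc, jp_arrow,
    Subobject.ofLE_arrow, jp_arrow, Subobject.ofLE_arrow_assoc]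

lemma quasiIso_jp (p : ℤ) : QuasiIso (c.jp p) := by
  let φ : ShortComplex.mk (K.fil p).arrow (cokernel.π _) (cokernel.condition _) ⟶
      ShortComplex.mk (kernelSubobject (c.π p)).arrow (c.π p) (kernelSubobject_arrow_comp _) :=
    { τ₁ := c.jp p
      τ₂ := c.j₀
      τ₃ := c.jq p
      comm₁₂ := c.jp_arrow p
      comm₂₃ := (c.comm p).symm }
  exact quasiIso_τ₁ φ (cokernel_shortExact _) (kernelSubobject_shortExact _) c.qis₀ (c.qisq p)

/-- the induced map on `F^p / F^q` -/
noncomputable def jg {p q : ℤ} (h : p ≤ q) : cokernel (K.stepLE h) ⟶ cokernel (c.fc.stepLE h) :=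
  cokernel.map _ _ (c.jp q) (c.jp p) (c.jp_stepLE h).symm

lemma π_jg {p q : ℤ} (h : p ≤ q) :
    cokernel.π (K.stepLE h) ≫ c.jg h = c.jp p ≫ cokernel.π (c.fc.stepLE h) :=
  cokernel.π_desc _ _ _

lemma quasiIso_jg {p q : ℤ} (h : p ≤ q) : QuasiIso (c.jg h) := by
  let φ : ShortComplex.mk (K.stepLE h) (cokernel.π _) (cokernel.condition _) ⟶
      ShortComplex.mk (c.fc.stepLE h) (cokernel.π _) (cokernel.condition _) :=
    { τ₁ := c.jp q
      τ₂ := c.jp p
      τ₃ := c.jg h
      comm₁₂ := c.jp_stepLE h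
      comm₂₃ := (c.π_jg h).symm }
  exact quasiIso_τ₃ φ (cokernel_shortExact _) (cokernel_shortExact _) (c.quasiIso_jp q)
    (c.quasiIso_jp p)

/-- the induced map on quotients -/
noncomputable def jq' (p : ℤ) : K.quot p ⟶ c.fc.quot p :=
  cokernel.map _ _ (c.jp p) c.j₀ (c.jp_arrow p).symm

lemma π_jq' (p : ℤ) :
    cokernel.π (K.fil p).arrow ≫ c.jq' p = c.j.hom ≫ cokernel.π (c.fc.fil p).arrow :=
  cokernel.π_desc _ _ _

lemma quasiIso_jq' (p : ℤ) : QuasiIso (c.jq' p) := by
  let φ : ShortComplex.mk (K.fil p).arrow (cokernel.π _) (cokernel.condition _) ⟶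
      ShortComplex.mk (c.fc.fil p).arrow (cokernel.π _) (cokernel.condition _) :=
    { τ₁ := c.jp p
      τ₂ := c.j₀
      τ₃ := c.jq' p
      comm₁₂ := c.jp_arrow p
      comm₂₃ := (c.π_jq' p).symm }
  exact quasiIso_τ₃ φ (cokernel_shortExact _) (cokernel_shortExact _) (c.quasiIso_jp p) c.qis₀

lemma good_step (p : ℤ) : Good (c.fc.step p) :=
  (Good.kernel (c.π p) c.goodJ (c.goodQ p) (c.splitπ p)).of_iso (kernelSubobjectIso (c.π p)).symm

lemma good_quot (p : ℤ) : Good (c.fc.quot p) :=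
  (c.goodQ p).of_iso (cokerKernelSubobjectIso (c.π p)).symm

lemma good_gr {p q : ℤ} (h : p ≤ q) : Good (cokernel (c.fc.stepLE h)) :=
  (Good.kernel (c.ρ h) (c.goodQ q) (c.goodQ p) (c.splitρ h)).of_iso
    (cokerIso (c.π q) (c.π p) (c.ρ h) (c.π_ρ h) _).symm

include c in
theorem main :
    ∃ (J : SpSeq.FilCx A) (j : K ⟶ J),
      (∀ n p : ℤ, Injective (J.obj.X n) ∧ Injective ((J.XFil n).step p) ∧
        Injective ((J.XFil n).quot p) ∧
        ∀ (p' : ℤ) (h : p ≤ p'), Injective (cokernel ((J.XFil n).stepLE h))) ∧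
      (CochainComplex.IsKInjective J.obj ∧ ∀ p : ℤ, CochainComplex.IsKInjective (J.step p) ∧
        CochainComplex.IsKInjective (J.quot p) ∧
        ∀ (p' : ℤ) (h : p ≤ p'), CochainComplex.IsKInjective (cokernel (J.stepLE h))) ∧
      QuasiIso j.hom ∧
      (∀ p : ℤ, ∃ jp : K.step p ⟶ J.step p,
        jp ≫ (J.fil p).arrow = (K.fil p).arrow ≫ j.hom ∧ QuasiIso jp ∧
        (∀ (p' : ℤ) (h : p ≤ p'), ∃ (jp' : K.step p' ⟶ J.step p')
          (jg : cokernel (K.stepLE h) ⟶ cokernel (J.stepLE h)),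
          jp' ≫ (J.fil p').arrow = (K.fil p').arrow ≫ j.hom ∧
          jp' ≫ J.stepLE h = K.stepLE h ≫ jp ∧
          cokernel.π (K.stepLE h) ≫ jg = jp ≫ cokernel.π (J.stepLE h) ∧ QuasiIso jg)) ∧
      (∀ p : ℤ, ∃ jq : K.quot p ⟶ J.quot p,
        cokernel.π (K.fil p).arrow ≫ jq = j.hom ≫ cokernel.π (J.fil p).arrow ∧ QuasiIso jq) := by
  refine ⟨c.fc, c.j, ?_, ?_, c.qis₀, ?_, ?_⟩
  · intro n p
    refine ⟨c.goodJ.inj n, ?_, ?_, ?_⟩
    · have := (c.good_step p).inj n
      exact Injective.of_iso (stepIso c.fc n p).symm this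
    · have := (c.good_quot p).inj n
      exact Injective.of_iso (quotIso c.fc n p).symm this
    · intro p' h
      have := (c.good_gr h).inj n
      exact Injective.of_iso (grIso c.fc n h).symm this
  · exact ⟨c.goodJ.kinj, fun p => ⟨(c.good_step p).kinj, (c.good_quot p).kinj,
      fun p' h => (c.good_gr h).kinj⟩⟩
  · intro p
    exact ⟨c.jp p, c.jp_arrow p, c.quasiIso_jp p, fun p' h =>
      ⟨c.jp p', c.jg h, c.jp_arrow p', c.jp_stepLE h, c.π_jg h, c.quasiIso_jg h⟩⟩
  · intro p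
    exact ⟨c.jq' p, c.π_jq' p, c.quasiIso_jq' p⟩

end Core

end Groth.Agent.FilAsm31
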