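import Groth.Prelude.Def_SpSeq
import Groth.Agent.Lib.H86SubobjElem
import Mathlib.Data.Int.Interval
import Mathlib.Order.Interval.Finset.Defs

/-!
# Filtered complexes with degreewise finite filtration: boundedness and convergence
-/

set_option autoImplicit false
universe v u

namespace Groth.Agent.Lib.FilCxFin

open CategoryTheory CategoryTheory.Limits SpSeq SpSeq.FilCx Groth.Agent.Lib.H86SubobjElem

variable {A : Type u} [Category.{v} A] [Abelian A]

section Basic

variable {X : A}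

theorem isZero_subquot_of_eq (Z B : Subobject X) (h : B ≤ Z) (he : B = Z) :
    IsZero (subquot Z B h) := by
  subst he
  unfold subquot
  have : IsIso (B.ofLE B h) := by rw [Subobject.ofLE_refl]; infer_instance
  exact isZero_cokernel_of_epi _

theorem imageSubobject_eq_bot_of_eq_zero {X Y : A} {f : X ⟶ Y} (h : f = 0) :
    imageSubobject f = ⊥ := by
  subst h
  exact imageSubobject_zero

theorem pullback_bot {X Y : A} (f : X ⟶ Y) :
    (Subobject.pullback f).obj ⊥ = kernelSubobject f := by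
  apply le_antisymm
  · apply le_kernelSubobject
    rw [Subobject.pullback_obj]
    have h1 : (Subobject.mk (pullback.snd (⊥ : Subobject Y).arrow f)).arrow =
        (Subobject.underlyingIso _).hom ≫ pullback.snd (⊥ : Subobject Y).arrow f :=
      (Subobject.underlyingIso_hom_comp_eq_mk _).symm
    have e0 : pullback.fst (⊥ : Subobject Y).arrow f ≫ (⊥ : Subobject Y).arrow = 0 :=
      (congrArg (fun t => pullback.fst (⊥ : Subobject Y).arrow f ≫ t) Subobject.bot_arrow).trans
        comp_zero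
    rw [h1, Category.assoc, ← pullback.condition, e0, comp_zero]
  · exact kernelSubobject_le_pullback f ⊥

theorem fil_eq_top_of_le (K : FilObj A) {a p : ℤ} (ha : K.fil a = ⊤) (hp : p ≤ a) :
    K.fil p = ⊤ := top_le_iff.mp (ha ▸ K.anti hp)

theorem fil_eq_bot_of_le (K : FilObj A) {b p : ℤ} (hb : K.fil b = ⊥) (hp : b ≤ p) :
    K.fil p = ⊥ := le_bot_iff.mp (hb ▸ K.anti hp)

theorem isSeparated_of_isFinite (K : FilObj A) (h : K.IsFinite) : K.IsSeparated := by
  obtain ⟨b, hb⟩ := h.2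
  refine ⟨fun _ _ => bot_le, fun c hc => ?_⟩
  have := hc ⟨b, rfl⟩
  rwa [hb] at this

theorem isExhaustive_of_isFinite (K : FilObj A) (h : K.IsFinite) : K.IsExhaustive := by
  obtain ⟨a, ha⟩ := h.1
  refine ⟨fun _ _ => le_top, fun c hc => ?_⟩
  have := hc ⟨a, rfl⟩
  rwa [ha] at this

theorem isIso_cokernel_π_of_eq_bot (K : FilObj A) {b : ℤ} (hb : K.fil b = ⊥) :
    IsIso (cokernel.π (K.fil b).arrow) := by
  have h0 : (K.fil b).arrow = 0 := by
    have := Subobject.bot_arrow (B := K.obj)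
    rw [← hb] at this
    exact this
  have hmono : Mono (cokernel.π (K.fil b).arrow) := by
    apply Preadditive.mono_of_cancel_zero
    intro P g hg
    have hex := (ShortComplex.exact_cokernel (K.fil b).arrow)
    have := hex.lift_f g hg
    rw [← this]
    exact (congrArg (fun t => hex.lift g hg ≫ t) h0).trans comp_zero
  exact isIso_of_mono_of_epi _

theorem isComplete_of_isFinite (K : FilObj A) (h : K.IsFinite) : K.IsComplete := by
  obtain ⟨b, hb⟩ := h.2
  intro T f hf
  have hiso := isIso_cokernel_π_of_eq_bot K hb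
  refine ⟨f b ≫ inv (cokernel.π (K.fil b).arrow), fun p => ?_⟩
  rcases le_total p b with hp | hp
  · have e1 : cokernel.π (K.fil b).arrow ≫ K.quotMap hp = cokernel.π (K.fil p).arrow :=
      cokernel.π_desc _ _ _
    rw [← e1, Category.assoc, IsIso.inv_hom_id_assoc, hf p b hp]
  · have hiso' := isIso_cokernel_π_of_eq_bot K (fil_eq_bot_of_le K hb hp)
    have e1 : cokernel.π (K.fil p).arrow ≫ K.quotMap hp = cokernel.π (K.fil b).arrow :=
      cokernel.π_desc _ _ _
    have e2 : K.quotMap hp = inv (cokernel.π (K.fil p).arrow) ≫ cokernel.π (K.fil b).arrow := by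
      rw [← e1, IsIso.inv_hom_id_assoc]
    rw [← hf b p hp, e2, Category.assoc, Category.assoc, Category.assoc, IsIso.hom_inv_id_assoc,
      IsIso.inv_hom_id, Category.comp_id]

end Basic

section FilCx

variable (K : FilCx A)

theorem filX_eq_top_of_le {n a p : ℤ} (ha : K.filX a n = ⊤) (hp : p ≤ a) : K.filX p n = ⊤ :=
  fil_eq_top_of_le (K.XFil n) ha hp

theorem filX_eq_bot_of_le {n b p : ℤ} (hb : K.filX b n = ⊥) (hp : b ≤ p) : K.filX p n = ⊥ :=
  fil_eq_bot_of_le (K.XFil n) hb hp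

theorem ZTop_le_ZSub (r : ℕ) (p n : ℤ) : K.ZTop p n ≤ K.ZSub r p n :=
  sup_le_sup_right (inf_le_inf_left _ (kernelSubobject_le_pullback _ _)) _

theorem BSub_le_BBot (r : ℕ) (p n : ℤ) : K.BSub r p n ≤ K.BBot p n :=
  sup_le_sup_right (inf_le_inf_left _ (imageSubobject_comp_le _ _)) _

theorem ZSub_eq_ZTop {p n : ℤ} {r : ℕ} (h : K.filX (p + r) (n + 1) = ⊥) :
    K.ZSub r p n = K.ZTop p n := by
  unfold ZSub ZTop
  rw [h, pullback_bot]

theorem BSub_eq_BBot {p n : ℤ} {r : ℕ} (h : K.filX (p - r + 1) (n - 1) = ⊤) :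
    K.BSub r p n = K.BBot p n := by
  unfold BSub BBot
  have : IsIso (K.filX (p - r + 1) (n - 1)).arrow := (Subobject.isIso_arrow_iff_eq_top _).mpr h
  rw [imageSubobject_iso_comp]

theorem isBounded_zero (hK : ∀ n : ℤ, (K.XFil n).IsFinite) : K.IsBounded 0 := by
  intro n
  obtain ⟨⟨a, ha⟩, ⟨b, hb⟩⟩ := hK n
  apply (Set.finite_Ico (a - 1) b).subset
  intro p hp
  by_contra hcon
  apply hp
  rw [Set.mem_Ico, not_and_or, not_le, not_lt] at hcon
  rcases hcon with h | h
  · have h1 : K.filX (p + 1) n = ⊤ := filX_eq_top_of_le K ha (by omega)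
    apply isZero_subquot_of_eq
    unfold ZSub BSub
    rw [h1, sup_top_eq, sup_top_eq]
  · have h1 : K.filX p n = ⊥ := filX_eq_bot_of_le K hb h
    have h2 : K.filX (p + 1) n = ⊥ := filX_eq_bot_of_le K hb (by omega)
    apply isZero_subquot_of_eq
    unfold ZSub BSub
    rw [h1, h2, bot_inf_eq, bot_inf_eq]

theorem isRegular (hK : ∀ n : ℤ, (K.XFil n).IsFinite) : K.IsRegular := by
  intro p n
  obtain ⟨b, hb⟩ := (hK (n + 1)).2
  refine ⟨(b - p).toNat, fun r hr => ?_⟩
  have h1 : K.filX (p + r) (n + 1) = ⊥ := filX_eq_bot_of_le K hb (by omega)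
  have h2 : K.filX (p + ((b - p).toNat : ℕ)) (n + 1) = ⊥ := filX_eq_bot_of_le K hb (by omega)
  rw [ZSub_eq_ZTop K h1, ZSub_eq_ZTop K h2]

theorem weaklyConverges (hK : ∀ n : ℤ, (K.XFil n).IsFinite) : K.WeaklyConverges := by
  intro p n
  constructor
  · obtain ⟨b, hb⟩ := (hK (n + 1)).2
    refine ⟨?_, fun c hc => ?_⟩
    · rintro _ ⟨r, rfl⟩
      exact ZTop_le_ZSub K r p n
    · have h2 : K.filX (p + ((b - p).toNat : ℕ)) (n + 1) = ⊥ :=
        filX_eq_bot_of_le K hb (by omega)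
      have h3 : c ≤ K.ZSub (b - p).toNat p n := hc ⟨_, rfl⟩
      rwa [ZSub_eq_ZTop K h2] at h3
  · obtain ⟨a, ha⟩ := (hK (n - 1)).1
    refine ⟨?_, fun c hc => ?_⟩
    · rintro _ ⟨r, rfl⟩
      exact BSub_le_BBot K r p n
    · have h2 : K.filX (p - ((p + 1 - a).toNat : ℕ) + 1) (n - 1) = ⊤ :=
        filX_eq_top_of_le K ha (by omega)
      have h3 : K.BSub (p + 1 - a).toNat p n ≤ c := hc ⟨_, rfl⟩
      rwa [BSub_eq_BBot K h2] at h3

/-- A morphism of cochain complexes which is an isomorphism in degrees `n - 1`, `n`, `n + 1`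
induces an isomorphism on `H^n`. -/
theorem isIso_homologyMap_of_isIso {K L : CochainComplex A ℤ} (φ : K ⟶ L) (n : ℤ)
    (h1 : IsIso (φ.f (n - 1))) (h2 : IsIso (φ.f n)) (h3 : IsIso (φ.f (n + 1))) :
    IsIso (HomologicalComplex.homologyMap φ n) := by
  have e1 : IsIso (φ.f ((ComplexShape.up ℤ).prev n)) := by
    rw [CochainComplex.prev]; exact h1
  have e3 : IsIso (φ.f ((ComplexShape.up ℤ).next n)) := by
    rw [CochainComplex.next]; exact h3
  let ψ := (HomologicalComplex.shortComplexFunctor A (ComplexShape.up ℤ) n).map φ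
  have t1 : Epi ψ.τ₁ := by
    show Epi (φ.f ((ComplexShape.up ℤ).prev n)); infer_instance
  have t2 : IsIso ψ.τ₂ := by
    show IsIso (φ.f n); infer_instance
  have t3 : Mono ψ.τ₃ := by
    show Mono (φ.f ((ComplexShape.up ℤ).next n)); infer_instance
  exact ShortComplex.isIso_homologyMap_of_epi_of_isIso_of_mono ψ

theorem filH_eq_top {p n : ℤ} (h1 : K.filX p (n - 1) = ⊤) (h2 : K.filX p n = ⊤)
    (h3 : K.filX p (n + 1) = ⊤) : K.filH p n = ⊤ := by
  unfold filH
  have i1 : IsIso ((K.fil p).arrow.f (n - 1)) := (Subobject.isIso_iff_mk_eq_top _).mpr h1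
  have i2 : IsIso ((K.fil p).arrow.f n) := (Subobject.isIso_iff_mk_eq_top _).mpr h2
  have i3 : IsIso ((K.fil p).arrow.f (n + 1)) := (Subobject.isIso_iff_mk_eq_top _).mpr h3
  have := isIso_homologyMap_of_isIso (K.fil p).arrow n i1 i2 i3
  rw [imageSubobject_mono]
  exact (Subobject.isIso_iff_mk_eq_top _).mp this

theorem filH_eq_bot {p n : ℤ} (h : K.filX p n = ⊥) : K.filH p n = ⊥ := by
  unfold filH
  have h0 : (K.fil p).arrow.f n = 0 := Subobject.mk_eq_bot_iff_zero.mp h
  have hz : IsZero ((K.fil p : CochainComplex A ℤ).X n) := IsZero.of_mono_eq_zero _ h0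
  have hz' : IsZero ((K.fil p : CochainComplex A ℤ).homology n) :=
    (HomologicalComplex.ExactAt.of_isZero hz).isZero_homology
  exact imageSubobject_eq_bot_of_eq_zero (hz'.eq_of_src _ _)

theorem hfil_isFinite (hK : ∀ n : ℤ, (K.XFil n).IsFinite) (n : ℤ) : (K.HFil n).IsFinite := by
  obtain ⟨a1, ha1⟩ := (hK (n - 1)).1
  obtain ⟨a2, ha2⟩ := (hK n).1
  obtain ⟨a3, ha3⟩ := (hK (n + 1)).1
  obtain ⟨b, hb⟩ := (hK n).2
  refine ⟨⟨min a1 (min a2 a3), ?_⟩, ⟨b, ?_⟩⟩
  · exact filH_eq_top K (filX_eq_top_of_le K ha1 (by omega)) (filX_eq_top_of_le K ha2 (by omega))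
      (filX_eq_top_of_le K ha3 (by omega))
  · exact filH_eq_bot K hb

/-- **S6792**. -/
theorem bounded_finite_converges (hK : ∀ n : ℤ, (K.XFil n).IsFinite) :
    K.IsBounded 0 ∧ (∀ n : ℤ, (K.HFil n).IsFinite) ∧ K.Converges :=
  ⟨isBounded_zero K hK, hfil_isFinite K hK,
    isRegular K hK,
    ⟨weaklyConverges K hK, fun n =>
      ⟨isSeparated_of_isFinite _ (hfil_isFinite K hK n),
        isExhaustive_of_isFinite _ (hfil_isFinite K hK n)⟩⟩,
    fun n => isComplete_of_isFinite _ (hfil_isFinite K hK n)⟩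

end FilCx

end Groth.Agent.Lib.FilCxFin
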