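import Groth.Agent.Lib.FilCxFin
import Mathlib.Algebra.Homology.Refinements

/-!
# Filtered complexes with cohomologically finite filtration: boundedness and convergence (S6794)
-/

set_option autoImplicit false
universe v u

namespace Groth.Agent.Lib.FilCxFin2

open CategoryTheory CategoryTheory.Limits SpSeq SpSeq.FilCx Groth.Agent.Lib.H86SubobjElem
  Groth.Agent.Lib.FilCxFin

variable {A : Type u} [Category.{v} A] [Abelian A]

section Sub

variable {X : A}

theorem factors_sub {W : A} (P : Subobject X) (x y : W ⟶ X) (hx : P.Factors x)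
    (hy : P.Factors y) : P.Factors (x - y) := by
  have : x - y = (P.factorThru x hx - P.factorThru y hy) ≫ P.arrow := by
    rw [Preadditive.sub_comp, Subobject.factorThru_arrow, Subobject.factorThru_arrow]
  rw [this]
  exact Subobject.factors_comp_arrow _

theorem mk_factors_iff' {Y Z : A} (f : Y ⟶ X) [Mono f] (g : Z ⟶ X) :
    (Subobject.mk f).Factors g ↔ ∃ h : Z ⟶ Y, h ≫ f = g := Iff.rfl

/-- Elements of the pullback of a subobject. -/
theorem pullback_factors_iff {Y W : A} (f : X ⟶ Y) (T : Subobject Y) (x : W ⟶ X) :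
    ((Subobject.pullback f).obj T).Factors x ↔ T.Factors (x ≫ f) := by
  rw [Subobject.pullback_obj, mk_factors_iff']
  constructor
  · rintro ⟨h, rfl⟩
    have : (h ≫ pullback.snd T.arrow f) ≫ f = (h ≫ pullback.fst T.arrow f) ≫ T.arrow := by
      rw [Category.assoc, Category.assoc, pullback.condition]
    show T.Factors ((h ≫ pullback.snd T.arrow f) ≫ f)
    rw [this]
    exact Subobject.factors_comp_arrow _
  · intro h
    exact ⟨pullback.lift (T.factorThru _ h) x (Subobject.factorThru_arrow _ _ _),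
      pullback.lift_snd _ _ _⟩

/-- A sum of an element of `S` and an element of `T` lies in `S ⊔ T`. -/
theorem sup_factors_add {W : A} (S T : Subobject X) (s t : W ⟶ X) (hs : S.Factors s)
    (ht : T.Factors t) : (S ⊔ T).Factors (s + t) :=
  Subobject.factors_add _ _ (Subobject.factors_of_le _ le_sup_left hs)
    (Subobject.factors_of_le _ le_sup_right ht)

end Sub

section FilCx

variable (K : FilCx A)

/-- `x ∈ F^p K^n`. -/
theorem filX_factors_iff (p n : ℤ) {W : A} (x : W ⟶ K.obj.X n) :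
    (K.filX p n).Factors x ↔
      ∃ x' : W ⟶ (K.fil p : CochainComplex A ℤ).X n, x' ≫ (K.fil p).arrow.f n = x := Iff.rfl

theorem filX_mono {p q : ℤ} (h : p ≤ q) (n : ℤ) : K.filX q n ≤ K.filX p n := K.filX_anti n h

/-- `d` maps `F^p K^n` into `F^p K^{n+1}`. -/
theorem filX_factors_comp_d (p n m : ℤ) {W : A} (x : W ⟶ K.obj.X n) (hx : (K.filX p n).Factors x) :
    (K.filX p m).Factors (x ≫ K.obj.d n m) := by
  rw [filX_factors_iff] at hx ⊢
  obtain ⟨x', rfl⟩ := hx
  exact ⟨x' ≫ (K.fil p : CochainComplex A ℤ).d n m, by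
    rw [Category.assoc, Category.assoc, HomologicalComplex.Hom.comm]⟩

/-- (L1) If `H^j(F^p K) = 0`, a cocycle of `K` lying in `F^p K^j` is the boundary of an element of
`F^p K^{j-1}`. -/
theorem L1 (p i j k : ℤ) (hi : i + 1 = j) (hk : j + 1 = k)
    (hz : IsZero ((K.fil p : CochainComplex A ℤ).homology j)) {W : A} (x : W ⟶ K.obj.X j)
    (hx : (K.filX p j).Factors x) (hd : x ≫ K.obj.d j k = 0) :
    ∃ (W' : A) (π : W' ⟶ W) (_ : Epi π) (w : W' ⟶ K.obj.X i),
      (K.filX p i).Factors w ∧ π ≫ x = w ≫ K.obj.d i j := by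
  rw [filX_factors_iff] at hx
  obtain ⟨x', rfl⟩ := hx
  have hx' : x' ≫ (K.fil p : CochainComplex A ℤ).d j k = 0 := by
    rw [← cancel_mono ((K.fil p).arrow.f k), Category.assoc, ← HomologicalComplex.Hom.comm,
      ← Category.assoc, hd, zero_comp]
  have hex : (K.fil p : CochainComplex A ℤ).ExactAt j :=
    (HomologicalComplex.exactAt_iff_isZero_homology _ _).mpr hz
  rw [HomologicalComplex.exactAt_iff_exact_up_to_refinements _ i j k (by simp [← hi])
    (by simp [← hk])] at hex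
  obtain ⟨W', π, hπ, w', hw'⟩ := hex x' hx'
  refine ⟨W', π, hπ, w' ≫ (K.fil p).arrow.f i, (filX_factors_iff K p i _).mpr ⟨w', rfl⟩, ?_⟩
  rw [Category.assoc, HomologicalComplex.Hom.comm, ← Category.assoc w', ← hw', Category.assoc]

/-- (L2) If `H^j(F^p K) ⟶ H^j(K)` is a monomorphism, a boundary of `K` lying in `F^p K^j` is the
boundary of an element of `F^p K^{j-1}`. -/
theorem L2 (p i j k : ℤ) (hi : i + 1 = j) (hk : j + 1 = k)
    (hm : Mono (HomologicalComplex.homologyMap (K.fil p).arrow j)) {W : A} (x : W ⟶ K.obj.X j)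
    (hx : (K.filX p j).Factors x) (y : W ⟶ K.obj.X i) (hy : x = y ≫ K.obj.d i j) :
    ∃ (W' : A) (π : W' ⟶ W) (_ : Epi π) (w : W' ⟶ K.obj.X i),
      (K.filX p i).Factors w ∧ π ≫ x = w ≫ K.obj.d i j := by
  rw [filX_factors_iff] at hx
  obtain ⟨x', hx'e⟩ := hx
  have hx' : x' ≫ (K.fil p : CochainComplex A ℤ).d j k = 0 := by
    rw [← cancel_mono ((K.fil p).arrow.f k), Category.assoc, ← HomologicalComplex.Hom.comm,
      ← Category.assoc, hx'e, hy, Category.assoc, HomologicalComplex.d_comp_d, comp_zero, zero_comp]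
  rw [HomologicalComplex.mono_homologyMap_iff_up_to_refinements _ i j k (by simp [← hi])
    (by simp [← hk])] at hm
  obtain ⟨W', π, hπ, w', hw'⟩ := hm x' hx' y (hx'e.trans hy)
  refine ⟨W', π, hπ, w' ≫ (K.fil p).arrow.f i, (filX_factors_iff K p i _).mpr ⟨w', rfl⟩, ?_⟩
  rw [← hx'e, Category.assoc, HomologicalComplex.Hom.comm, ← Category.assoc w', ← hw',
    Category.assoc]

/-- (L3) If `H^j(F^p K) ⟶ H^j(K)` is an epimorphism, every cocycle of `K` is cohomologous to a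
cocycle lying in `F^p K^j`. -/
theorem L3 (p i j k : ℤ) (hi : i + 1 = j) (hk : j + 1 = k)
    (he : Epi (HomologicalComplex.homologyMap (K.fil p).arrow j)) {W : A} (y : W ⟶ K.obj.X j)
    (hy : y ≫ K.obj.d j k = 0) :
    ∃ (W' : A) (π : W' ⟶ W) (_ : Epi π) (z : W' ⟶ K.obj.X j) (v : W' ⟶ K.obj.X i),
      (K.filX p j).Factors z ∧ z ≫ K.obj.d j k = 0 ∧ π ≫ y = z + v ≫ K.obj.d i j := by
  rw [HomologicalComplex.epi_homologyMap_iff_up_to_refinements _ i j k (by simp [← hi])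
    (by simp [← hk])] at he
  obtain ⟨W', π, hπ, z', hz', v, hv⟩ := he y hy
  refine ⟨W', π, hπ, z' ≫ (K.fil p).arrow.f j, v, (filX_factors_iff K p j _).mpr ⟨z', rfl⟩, ?_, hv⟩
  rw [Category.assoc, HomologicalComplex.Hom.comm, ← Category.assoc, hz', zero_comp]

/-- (C1) `Z_r = Z_∞` as soon as `r ≥ 1` and `H^{n+1}(F^{p+r} K) = 0`. -/
theorem ZSub_le_ZTop {p n : ℤ} {r : ℕ} (hr : 1 ≤ r)
    (hz : IsZero ((K.fil (p + r) : CochainComplex A ℤ).homology (n + 1))) :
    K.ZSub r p n ≤ K.ZTop p n := by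
  unfold ZSub
  refine sup_le ?_ le_sup_right
  rw [le_iff_forall_factors]
  intro W x hx
  rw [Subobject.inf_factors, pullback_factors_iff] at hx
  obtain ⟨hx1, hx2⟩ := hx
  have hc : (x ≫ K.obj.d n (n + 1)) ≫ K.obj.d (n + 1) (n + 1 + 1) = 0 := by
    rw [Category.assoc, HomologicalComplex.d_comp_d, comp_zero]
  obtain ⟨W', π, hπ, w, hw1, hw2⟩ := L1 K (p + r) n (n + 1) (n + 1 + 1) rfl rfl hz _ hx2 hc
  apply factors_of_epi_comp _ π
  have e : π ≫ x = (π ≫ x - w) + w := by abel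
  rw [e]
  unfold ZTop
  apply sup_factors_add
  · rw [Subobject.inf_factors]
    refine ⟨factors_sub _ _ _ (Subobject.factors_of_factors_right _ hx1)
      (Subobject.factors_of_le _ (filX_mono K (by omega) n) hw1), ?_⟩
    rw [kernelSubobject_factors_iff, Preadditive.sub_comp, Category.assoc, hw2, sub_self]
  · exact Subobject.factors_of_le _ (filX_mono K (by omega) n) hw1

/-- (C2) `B_r = B_∞` as soon as `r ≥ 1` and `H^n(F^{p-r+1} K) ⟶ H^n(K)` is a monomorphism. -/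
theorem BBot_le_BSub {p n : ℤ} {r : ℕ} (hr : 1 ≤ r)
    (hm : Mono (HomologicalComplex.homologyMap (K.fil (p - r + 1)).arrow n)) :
    K.BBot p n ≤ K.BSub r p n := by
  unfold BBot
  refine sup_le ?_ le_sup_right
  rw [le_iff_forall_factors]
  intro W x hx
  rw [Subobject.inf_factors, imageSubobject_factors_iff] at hx
  obtain ⟨hx1, W₁, π₁, hπ₁, y, hy⟩ := hx
  obtain ⟨W', π, hπ, w, hw1, hw2⟩ := L2 K (p - r + 1) (n - 1) n (n + 1) (by omega) rfl hm (π₁ ≫ x)
    (Subobject.factors_of_le _ (filX_mono K (by omega) n)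
      (Subobject.factors_of_factors_right _ hx1)) y hy
  have : Epi (π ≫ π₁) := epi_comp _ _
  apply factors_of_epi_comp _ (π ≫ π₁)
  unfold BSub
  apply Subobject.factors_of_le _ le_sup_left
  rw [Subobject.inf_factors]
  refine ⟨Subobject.factors_of_factors_right _ hx1, ?_⟩
  rw [imageSubobject_factors_iff]
  refine ⟨W', 𝟙 _, inferInstance, (K.filX (p - r + 1) (n - 1)).factorThru w hw1, ?_⟩
  rw [Category.id_comp, Category.assoc, hw2, Subobject.factorThru_arrow_assoc]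

/-- A sum `d w + t` with `w ∈ F^p K^{n-1}` and `t ∈ F^{p+1} K^n` lies in `B_1`. -/
theorem BSub_one_factors {p n : ℤ} {W : A} (w : W ⟶ K.obj.X (n - 1)) (t : W ⟶ K.obj.X n)
    (hw : (K.filX p (n - 1)).Factors w) (ht : (K.filX (p + 1) n).Factors t) :
    (K.BSub 1 p n).Factors (w ≫ K.obj.d (n - 1) n + t) := by
  unfold BSub
  apply sup_factors_add _ _ _ _ _ ht
  rw [Subobject.inf_factors]
  refine ⟨filX_factors_comp_d K p (n - 1) n w hw, ?_⟩
  have e : p - ((1 : ℕ) : ℤ) + 1 = p := by omega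
  have hw' : (K.filX (p - ((1 : ℕ) : ℤ) + 1) (n - 1)).Factors w := by rw [e]; exact hw
  rw [imageSubobject_factors_iff]
  exact ⟨W, 𝟙 _, inferInstance, (K.filX (p - ((1 : ℕ) : ℤ) + 1) (n - 1)).factorThru w hw', by
    rw [Category.id_comp, Subobject.factorThru_arrow_assoc]⟩

/-- (C3) `E_1^{p,n-p} = 0` when `H^{n+1}(F^{p+1} K) = 0` and `H^n(F^p K) = 0`. -/
theorem ZSub_one_le_BSub_one_of_isZero {p n : ℤ}
    (h1 : IsZero ((K.fil (p + 1) : CochainComplex A ℤ).homology (n + 1)))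
    (h2 : IsZero ((K.fil p : CochainComplex A ℤ).homology n)) :
    K.ZSub 1 p n ≤ K.BSub 1 p n := by
  unfold ZSub
  refine sup_le ?_ (by unfold BSub; exact le_sup_right)
  rw [le_iff_forall_factors]
  intro W x hx
  rw [Subobject.inf_factors, pullback_factors_iff] at hx
  obtain ⟨hx1, hx2⟩ := hx
  have hc : (x ≫ K.obj.d n (n + 1)) ≫ K.obj.d (n + 1) (n + 1 + 1) = 0 := by
    rw [Category.assoc, HomologicalComplex.d_comp_d, comp_zero]
  have e1 : p + ((1 : ℕ) : ℤ) = p + 1 := by omega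
  rw [e1] at hx2
  obtain ⟨W₁, π₁, hπ₁, y, hy1, hy2⟩ := L1 K (p + 1) n (n + 1) (n + 1 + 1) rfl rfl h1 _ hx2 hc
  -- `u = π₁ x - y` is a cocycle in `F^p K^n`
  have hu1 : (K.filX p n).Factors (π₁ ≫ x - y) :=
    factors_sub _ _ _ (Subobject.factors_of_factors_right _ hx1)
      (Subobject.factors_of_le _ (filX_mono K (by omega) n) hy1)
  have hu2 : (π₁ ≫ x - y) ≫ K.obj.d n (n + 1) = 0 := by
    rw [Preadditive.sub_comp, Category.assoc, hy2, sub_self]
  obtain ⟨W₂, π₂, hπ₂, w, hw1, hw2⟩ := L1 K p (n - 1) n (n + 1) (by omega) rfl h2 _ hu1 hu2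
  have : Epi (π₂ ≫ π₁) := epi_comp _ _
  apply factors_of_epi_comp _ (π₂ ≫ π₁)
  have e : (π₂ ≫ π₁) ≫ x = w ≫ K.obj.d (n - 1) n + π₂ ≫ y := by
    rw [← hw2, Preadditive.comp_sub, Category.assoc]
    abel
  rw [e]
  exact BSub_one_factors K w (π₂ ≫ y) hw1 (Subobject.factors_of_factors_right _ hy1)

/-- (C4) `E_1^{p,n-p} = 0` when `H^*(F^{p+1} K) ⟶ H^*(K)` is injective in degree `n + 1` and
surjective in degree `n`, and `H^n(F^p K) ⟶ H^n(K)` is injective. -/
theorem ZSub_one_le_BSub_one_of_iso {p n : ℤ}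
    (m1 : Mono (HomologicalComplex.homologyMap (K.fil (p + 1)).arrow (n + 1)))
    (e2 : Epi (HomologicalComplex.homologyMap (K.fil (p + 1)).arrow n))
    (m3 : Mono (HomologicalComplex.homologyMap (K.fil p).arrow n)) :
    K.ZSub 1 p n ≤ K.BSub 1 p n := by
  unfold ZSub
  refine sup_le ?_ (by unfold BSub; exact le_sup_right)
  rw [le_iff_forall_factors]
  intro W x hx
  rw [Subobject.inf_factors, pullback_factors_iff] at hx
  obtain ⟨hx1, hx2⟩ := hx
  have e1 : p + ((1 : ℕ) : ℤ) = p + 1 := by omega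
  rw [e1] at hx2
  obtain ⟨W₁, π₁, hπ₁, y, hy1, hy2⟩ :=
    L2 K (p + 1) n (n + 1) (n + 1 + 1) rfl rfl m1 _ hx2 x rfl
  have hu1 : (K.filX p n).Factors (π₁ ≫ x - y) :=
    factors_sub _ _ _ (Subobject.factors_of_factors_right _ hx1)
      (Subobject.factors_of_le _ (filX_mono K (by omega) n) hy1)
  have hu2 : (π₁ ≫ x - y) ≫ K.obj.d n (n + 1) = 0 := by
    rw [Preadditive.sub_comp, Category.assoc, hy2, sub_self]
  obtain ⟨W₂, π₂, hπ₂, z, v, hz1, hz2, hzv⟩ :=
    L3 K (p + 1) (n - 1) n (n + 1) (by omega) rfl e2 _ hu2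
  have hb1 : (K.filX p n).Factors (π₂ ≫ (π₁ ≫ x - y) - z) :=
    factors_sub _ _ _ (Subobject.factors_of_factors_right _ hu1)
      (Subobject.factors_of_le _ (filX_mono K (by omega) n) hz1)
  have hb2 : π₂ ≫ (π₁ ≫ x - y) - z = v ≫ K.obj.d (n - 1) n := by
    rw [hzv]; abel
  obtain ⟨W₃, π₃, hπ₃, w, hw1, hw2⟩ :=
    L2 K p (n - 1) n (n + 1) (by omega) rfl m3 _ hb1 v hb2
  have : Epi (π₃ ≫ π₂ ≫ π₁) := epi_comp _ _
  apply factors_of_epi_comp _ (π₃ ≫ π₂ ≫ π₁)
  have e : (π₃ ≫ π₂ ≫ π₁) ≫ x = w ≫ K.obj.d (n - 1) n + π₃ ≫ (z + π₂ ≫ y) := by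
    rw [← hw2]
    simp only [Preadditive.comp_sub, Preadditive.comp_add, Category.assoc]
    abel
  rw [e]
  exact BSub_one_factors K w _ hw1 (Subobject.factors_of_factors_right _
    (Subobject.factors_add _ _ hz1 (Subobject.factors_of_factors_right _ hy1)))

end FilCx

section Assembly

variable (K : FilCx A)

theorem ZSub_eq_ZTop' {p n : ℤ} {r : ℕ} (hr : 1 ≤ r)
    (hz : IsZero ((K.fil (p + r) : CochainComplex A ℤ).homology (n + 1))) :
    K.ZSub r p n = K.ZTop p n :=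
  le_antisymm (ZSub_le_ZTop K hr hz) (ZTop_le_ZSub K r p n)

theorem BSub_eq_BBot' {p n : ℤ} {r : ℕ} (hr : 1 ≤ r)
    (hm : Mono (HomologicalComplex.homologyMap (K.fil (p - r + 1)).arrow n)) :
    K.BSub r p n = K.BBot p n :=
  le_antisymm (BSub_le_BBot K r p n) (BBot_le_BSub K hr hm)

variable
  (h0 : ∀ n : ℤ, ∃ p₀ : ℤ, ∀ p : ℤ, p₀ ≤ p →
    IsZero ((K.fil p : CochainComplex A ℤ).homology n))
  (h1 : ∀ n : ℤ, ∃ p₁ : ℤ, ∀ p : ℤ, p ≤ p₁ →
    IsIso (HomologicalComplex.homologyMap (K.fil p).arrow n))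

include h0 h1 in
theorem isBounded_one : K.IsBounded 1 := by
  intro n
  obtain ⟨a0, ha0⟩ := h0 n
  obtain ⟨a1, ha1⟩ := h0 (n + 1)
  obtain ⟨b0, hb0⟩ := h1 n
  obtain ⟨b1, hb1⟩ := h1 (n + 1)
  apply (Set.finite_Ico (min b0 b1) (max a0 a1)).subset
  intro p hp
  by_contra hcon
  apply hp
  rw [Set.mem_Ico, not_and_or, not_le, not_lt] at hcon
  apply isZero_subquot_of_eq
  apply le_antisymm (K.BSub_le_ZSub 1 p n)
  rcases hcon with h | h
  · have i1 := hb1 (p + 1) (by omega)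
    have i2 := hb0 (p + 1) (by omega)
    have i3 := hb0 p (by omega)
    exact ZSub_one_le_BSub_one_of_iso K inferInstance inferInstance inferInstance
  · exact ZSub_one_le_BSub_one_of_isZero K (ha1 (p + 1) (by omega)) (ha0 p (by omega))

include h0 in
theorem isRegular' : K.IsRegular := by
  intro p n
  obtain ⟨a1, ha1⟩ := h0 (n + 1)
  refine ⟨max 1 (a1 - p).toNat, fun r hr => ?_⟩
  have hr1 : 1 ≤ r := le_trans (le_max_left _ _) hr
  have hr2 : (a1 - p).toNat ≤ r := le_trans (le_max_right _ _) hr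
  have h3 : (a1 - p).toNat ≤ max 1 (a1 - p).toNat := le_max_right _ _
  rw [ZSub_eq_ZTop' K hr1 (ha1 _ (by omega)),
    ZSub_eq_ZTop' K (le_max_left _ _) (ha1 _ (by omega))]

include h0 h1 in
theorem weaklyConverges' : K.WeaklyConverges := by
  intro p n
  constructor
  · obtain ⟨a1, ha1⟩ := h0 (n + 1)
    refine ⟨?_, fun c hc => ?_⟩
    · rintro _ ⟨r, rfl⟩
      exact ZTop_le_ZSub K r p n
    · have h3 : (a1 - p).toNat ≤ max 1 (a1 - p).toNat := le_max_right _ _
      have h4 : c ≤ K.ZSub (max 1 (a1 - p).toNat) p n := hc ⟨_, rfl⟩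
      rwa [ZSub_eq_ZTop' K (le_max_left _ _) (ha1 _ (by omega))] at h4
  · obtain ⟨b0, hb0⟩ := h1 n
    refine ⟨?_, fun c hc => ?_⟩
    · rintro _ ⟨r, rfl⟩
      exact BSub_le_BBot K r p n
    · have h3 : (p + 1 - b0).toNat ≤ max 1 (p + 1 - b0).toNat := le_max_right _ _
      have h4 : K.BSub (max 1 (p + 1 - b0).toNat) p n ≤ c := hc ⟨_, rfl⟩
      have i1 := hb0 (p - ((max 1 (p + 1 - b0).toNat : ℕ) : ℤ) + 1) (by omega)
      rwa [BSub_eq_BBot' K (le_max_left _ _) inferInstance] at h4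

include h0 h1 in
theorem hfil_isFinite' (n : ℤ) : (K.HFil n).IsFinite := by
  obtain ⟨a0, ha0⟩ := h0 n
  obtain ⟨b0, hb0⟩ := h1 n
  refine ⟨⟨b0, ?_⟩, ⟨a0, ?_⟩⟩
  · show K.filH b0 n = ⊤
    unfold filH
    have := hb0 b0 le_rfl
    rw [imageSubobject_mono]
    exact (Subobject.isIso_iff_mk_eq_top _).mp this
  · show K.filH a0 n = ⊥
    unfold filH
    exact imageSubobject_eq_bot_of_eq_zero ((ha0 a0 le_rfl).eq_of_src _ _)

include h0 h1 in
/-- **S6794**. -/
theorem bounded_finite_converges' :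
    K.IsBounded 1 ∧ (∀ n : ℤ, (K.HFil n).IsFinite) ∧ K.Converges :=
  ⟨isBounded_one K h0 h1, hfil_isFinite' K h0 h1,
    isRegular' K h0,
    ⟨weaklyConverges' K h0 h1, fun n =>
      ⟨isSeparated_of_isFinite _ (hfil_isFinite' K h0 h1 n),
        isExhaustive_of_isFinite _ (hfil_isFinite' K h0 h1 n)⟩⟩,
    fun n => isComplete_of_isFinite _ (hfil_isFinite' K h0 h1 n)⟩

end Assembly

end Groth.Agent.Lib.FilCxFin2
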