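import Groth.Prelude.Def_FilD
import Mathlib.CategoryTheory.Abelian.Refinements

/-!
# FilD65Basic: levelwise API for finite filtered objects (`FilD.FilF A`)
-/

universe v u

set_option linter.unusedSectionVars false

open CategoryTheory CategoryTheory.Limits Opposite FilD

namespace Groth.Agent.Lib.FilD65

variable {A : Type u} [Category.{v} A] [Abelian A]

/-! ### Transition maps of functors `ℤᵒᵖ ⥤ A` -/

/-- Transition map `F q ⟶ F p` for `p ≤ q`. -/
def trF (F : ℤᵒᵖ ⥤ A) {p q : ℤ} (h : p ≤ q) : F.obj (op q) ⟶ F.obj (op p) :=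
  F.map (homOfLE h).op

lemma map_eq_trF (F : ℤᵒᵖ ⥤ A) {p q : ℤᵒᵖ} (f : p ⟶ q) :
    F.map f = trF F (leOfHom f.unop) := by
  unfold trF
  congr 1

@[simp] lemma trF_refl (F : ℤᵒᵖ ⥤ A) (p : ℤ) : trF F (le_refl p) = 𝟙 _ := by
  unfold trF
  have : (homOfLE (le_refl p)).op = 𝟙 (op p) := Subsingleton.elim _ _
  rw [this, F.map_id]

@[reassoc (attr := simp)] lemma trF_comp (F : ℤᵒᵖ ⥤ A) {p q r : ℤ} (h : p ≤ q) (h' : q ≤ r) :
    trF F h' ≫ trF F h = trF F (h.trans h') := by
  unfold trF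
  rw [← F.map_comp]
  congr 1

@[reassoc] lemma trF_naturality {F G : ℤᵒᵖ ⥤ A} (φ : F ⟶ G) {p q : ℤ} (h : p ≤ q) :
    trF F h ≫ φ.app (op p) = φ.app (op q) ≫ trF G h :=
  φ.naturality _

lemma stepHom_eq (p : ℤ) : stepHom p = (homOfLE (Int.le_add_one le_rfl : p ≤ p + 1)).op := rfl

lemma map_stepHom (F : ℤᵒᵖ ⥤ A) (p : ℤ) :
    F.map (stepHom p) = trF F (Int.le_add_one le_rfl : p ≤ p + 1) := rfl

/-- A natural transformation of functors on `ℤᵒᵖ` from compatibility with consecutive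
transition maps. -/
def natTransOfPred (F G : ℤᵒᵖ ⥤ A) (α : ∀ p : ℤ, F.obj (op p) ⟶ G.obj (op p))
    (h : ∀ k : ℤ, trF F (sub_one_lt k).le ≫ α (k - 1) = α k ≫ trF G (sub_one_lt k).le) :
    F ⟶ G where
  app p := α p.unop
  naturality := by
    have key : ∀ (n : ℕ) (p q : ℤ) (hpq : p ≤ q), (q - p).toNat = n →
        trF F hpq ≫ α p = α q ≫ trF G hpq := by
      intro n
      induction n with
      | zero =>
        intro p q hpq hn
        obtain rfl : p = q := by omega
        simp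
      | succ n ih =>
        intro p q hpq hn
        have h1 : p ≤ q - 1 := by omega
        have h2 : q - 1 ≤ q := by omega
        rw [← trF_comp F h1 h2, Category.assoc, ih p (q - 1) h1 (by omega),
          ← Category.assoc, h q, Category.assoc, trF_comp]
    intro p q f
    rw [map_eq_trF, map_eq_trF]
    exact key _ _ _ _ rfl

@[simp] lemma natTransOfPred_app (F G : ℤᵒᵖ ⥤ A) (α h) (p : ℤ) :
    (natTransOfPred F G α h).app (op p) = α p := rfl

/-! ### Levels of finite filtered objects -/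

/-- The `p`-th level of a finite filtered object. -/
abbrev lev (X : FilF A) (p : ℤ) : A := X.obj.obj (op p)

/-- Transition map `X q ⟶ X p` for `p ≤ q`. -/
abbrev tr (X : FilF A) {p q : ℤ} (h : p ≤ q) : lev X q ⟶ lev X p := trF X.obj h

instance (X : FilF A) {p q : ℤ} (h : p ≤ q) : Mono (tr X h) := X.property.1 _

instance (X : FilF A) {p q : ℤ} (h : p ≤ q) : Mono (trF X.obj h) := X.property.1 _

instance (X : FilF A) {p q : ℤᵒᵖ} (f : p ⟶ q) : Mono (X.obj.map f) := X.property.1 _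

@[simp] lemma tr_refl (X : FilF A) (p : ℤ) : tr X (le_refl p) = 𝟙 _ := trF_refl _ _

@[reassoc (attr := simp)] lemma tr_comp (X : FilF A) {p q r : ℤ} (h : p ≤ q) (h' : q ≤ r) :
    tr X h' ≫ tr X h = tr X (h.trans h') := trF_comp _ _ _

/-- Component of a morphism at level `p`. -/
abbrev app {X Y : FilF A} (φ : X ⟶ Y) (p : ℤ) : lev X p ⟶ lev Y p := φ.hom.app (op p)

@[reassoc] lemma tr_app {X Y : FilF A} (φ : X ⟶ Y) {p q : ℤ} (h : p ≤ q) :
    tr X h ≫ app φ p = app φ q ≫ tr Y h :=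
  trF_naturality φ.hom h

@[reassoc (attr := simp)] lemma comp_app {X Y Z : FilF A} (φ : X ⟶ Y) (ψ : Y ⟶ Z) (p : ℤ) :
    app (φ ≫ ψ) p = app φ p ≫ app ψ p := rfl

@[simp] lemma id_app (X : FilF A) (p : ℤ) : app (𝟙 X) p = 𝟙 _ := rfl

lemma hom_ext' {X Y : FilF A} {φ ψ : X ⟶ Y} (h : ∀ p, app φ p = app ψ p) : φ = ψ := by
  apply ObjectProperty.hom_ext
  ext p
  exact h p.unop

lemma exists_isZero_ge (X : FilF A) : ∃ b : ℤ, ∀ p : ℤ, b ≤ p → IsZero (lev X p) := X.property.2.1

lemma exists_isIso_le (X : FilF A) :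
    ∃ a : ℤ, ∀ (p q : ℤ) (h : p ≤ q), q ≤ a → IsIso (tr X h) := by
  obtain ⟨a, ha⟩ := X.property.2.2
  exact ⟨a, fun p q h hq => ha _ hq⟩

/-- Morphism of finite filtered objects from a levelwise family compatible with consecutive
transition maps. -/
def homOfPred {X Y : FilF A} (α : ∀ p : ℤ, lev X p ⟶ lev Y p)
    (h : ∀ k : ℤ, tr X (sub_one_lt k).le ≫ α (k - 1) = α k ≫ tr Y (sub_one_lt k).le) :
    X ⟶ Y :=
  ObjectProperty.homMk (natTransOfPred X.obj Y.obj α h)

@[simp] lemma homOfPred_app {X Y : FilF A} (α h) (p : ℤ) :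
    app (homOfPred (X := X) (Y := Y) α h) p = α p := rfl

/-! ### Subobject toolkit -/

lemma factors_imageSubobject_iff {X Y T : A} (f : X ⟶ Y) (t : T ⟶ Y) :
    (imageSubobject f).Factors t ↔
      ∃ (T' : A) (π : T' ⟶ T) (_ : Epi π) (x : T' ⟶ X), π ≫ t = x ≫ f := by
  constructor
  · intro h
    obtain ⟨T', π, hπ, x, hx⟩ := surjective_up_to_refinements_of_epi
      (factorThruImageSubobject f) ((imageSubobject f).factorThru t h)
    refine ⟨T', π, hπ, x, ?_⟩
    have := congrArg (· ≫ (imageSubobject f).arrow) hx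
    simpa using this
  · rintro ⟨T', π, hπ, x, hx⟩
    have : StrongEpi π := strongEpi_of_epi π
    have sq : CommSq (x ≫ factorThruImageSubobject f) π (imageSubobject f).arrow t :=
      ⟨by simp [hx]⟩
    rw [← sq.fac_right]
    exact Subobject.factors_comp_arrow _

lemma subobject_le_iff {Y : A} (S T : Subobject Y) : S ≤ T ↔ T.Factors S.arrow :=
  ⟨fun h => Subobject.factors_of_le _ h S.factors_self,
    fun h => Subobject.le_of_comm (T.factorThru S.arrow h) (Subobject.factorThru_arrow _ _ _)⟩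

/-! ### Strictness in terms of generalized elements -/

lemma isStrict_iff {X Y : FilF A} (φ : X ⟶ Y) :
    IsStrict φ ↔ ∀ (p q : ℤ) (h : p ≤ q) ⦃T : A⦄ (x : T ⟶ lev X p) (y : T ⟶ lev Y q),
      x ≫ app φ p = y ≫ tr Y h →
      ∃ (T' : A) (π : T' ⟶ T) (_ : Epi π) (x' : T' ⟶ lev X q), x' ≫ app φ q = π ≫ y := by
  constructor
  · intro hφ p q h T x y hxy
    have h1 : (imageSubobject (app φ q ≫ tr Y h)).Factors (x ≫ app φ p) := by
      have := hφ p q h
      change imageSubobject (app φ q ≫ tr Y h) = _ at this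
      rw [this, Subobject.inf_factors]
      refine ⟨(factors_imageSubobject_iff _ _).2 ⟨T, 𝟙 T, inferInstance, x, by simp⟩, ?_⟩
      rw [hxy]
      exact (Subobject.mk_factors_iff _ _).2 ⟨y, rfl⟩
    obtain ⟨T', π, hπ, x', hx'⟩ := (factors_imageSubobject_iff _ _).1 h1
    refine ⟨T', π, hπ, x', ?_⟩
    rw [← cancel_mono (tr Y h), Category.assoc, Category.assoc, ← hxy, ← hx']
  · intro H p q h
    change imageSubobject (app φ q ≫ tr Y h) = imageSubobject (app φ p) ⊓ Subobject.mk (tr Y h)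
    apply le_antisymm
    · apply le_inf
      · rw [← tr_app]
        exact imageSubobject_comp_le _ _
      · exact imageSubobject_le_mk _ _ (app φ q) rfl
    · rw [subobject_le_iff]
      set S := imageSubobject (app φ p) ⊓ Subobject.mk (tr Y h)
      have hS := (Subobject.inf_factors (X := imageSubobject (app φ p))
        (Y := Subobject.mk (tr Y h)) S.arrow).1 S.factors_self
      obtain ⟨T1, π1, hπ1, x, hx⟩ := (factors_imageSubobject_iff _ _).1 hS.1
      obtain ⟨y, hy⟩ : ∃ y : (S : A) ⟶ lev Y q, y ≫ tr Y h = S.arrow :=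
        (Subobject.mk_factors_iff _ _).1 hS.2
      obtain ⟨T', π, hπ, x', hx'⟩ := H p q h x (π1 ≫ y) (by rw [← hx, Category.assoc, hy])
      refine (factors_imageSubobject_iff _ _).2 ⟨T', π ≫ π1, epi_comp _ _, x', ?_⟩
      rw [← Category.assoc x', hx', Category.assoc, Category.assoc, Category.assoc, hy]

/-- Strictness can be checked on consecutive levels. -/
lemma isStrict_of_step {X Y : FilF A} (φ : X ⟶ Y)
    (H : ∀ (p : ℤ) ⦃T : A⦄ (x : T ⟶ lev X p) (y : T ⟶ lev Y (p + 1)),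
      x ≫ app φ p = y ≫ tr Y (Int.le_add_one le_rfl) →
      ∃ (T' : A) (π : T' ⟶ T) (_ : Epi π) (x' : T' ⟶ lev X (p + 1)),
        x' ≫ app φ (p + 1) = π ≫ y) :
    IsStrict φ := by
  rw [isStrict_iff]
  have key : ∀ (n : ℕ) (p q : ℤ) (h : p ≤ q), (q - p).toNat = n → ∀ ⦃T : A⦄ (x : T ⟶ lev X p)
      (y : T ⟶ lev Y q), x ≫ app φ p = y ≫ tr Y h →
      ∃ (T' : A) (π : T' ⟶ T) (_ : Epi π) (x' : T' ⟶ lev X q), x' ≫ app φ q = π ≫ y := by
    intro n
    induction n with
    | zero =>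
      intro p q h hn T x y hxy
      obtain rfl : p = q := by omega
      exact ⟨T, 𝟙 T, inferInstance, x, by simpa using hxy⟩
    | succ n ih =>
      intro p q h hn T x y hxy
      have h1 : p ≤ q - 1 := by omega
      have h2 : q - 1 ≤ q := by omega
      obtain ⟨T1, π1, hπ1, x1, hx1⟩ := ih p (q - 1) h1 (by omega) x (y ≫ tr Y h2)
        (by rw [Category.assoc, trF_comp]; exact hxy)
      obtain ⟨q', rfl⟩ : ∃ q', q = q' + 1 := ⟨q - 1, by omega⟩
      have e : q' + 1 - 1 = q' := by omega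
      revert x1 h1 h2
      rw [e]
      intro h1 h2 x1 hx1
      obtain ⟨T', π, hπ, x', hx'⟩ := H q' x1 (π1 ≫ y) (by rw [hx1, Category.assoc])
      exact ⟨T', π ≫ π1, epi_comp _ _, x', by rw [hx', Category.assoc]⟩
  intro p q h T x y hxy
  exact key _ p q h rfl x y hxy

end Groth.Agent.Lib.FilD65
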