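import Groth.Agent.Lib.FilD65Basic
import Mathlib.CategoryTheory.ObjectProperty.FiniteProducts
import Mathlib.CategoryTheory.Limits.FunctorCategory.Basic
import Mathlib.CategoryTheory.Preadditive.Biproducts
import Mathlib.Data.Fintype.Order

/-!
# FilD65Biprod: `Fil^f(A)` is closed under finite limits shapes in the functor category;
binary biproducts in `Fil^f(A)`
-/

universe w v u

set_option linter.unusedSectionVars false

open CategoryTheory CategoryTheory.Limits Opposite FilD

namespace Groth.Agent.Lib.FilD65

variable {A : Type u} [Category.{v} A] [Abelian A]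

instance isClosedUnderLimitsOfShape_isFinFil (J : Type) [SmallCategory J] [Finite J]
    [HasLimitsOfShape J A] :
    (IsFinFil A).IsClosedUnderLimitsOfShape J where
  limitsOfShape_le := by
    rintro X ⟨h⟩
    have hP : ∀ P : ℤᵒᵖ, IsLimit (((evaluation ℤᵒᵖ A).obj P).mapCone
        (Cone.mk X h.π)) := fun P => isLimitOfPreserves _ h.isLimit
    have hD := h.prop_diag_obj
    have nat : ∀ (j : J) {P Q : ℤᵒᵖ} (f : P ⟶ Q),
        (h.π.app j).app P ≫ (h.diag.obj j).map f = X.map f ≫ (h.π.app j).app Q :=
      fun j P Q f => ((h.π.app j).naturality f).symm
    refine ⟨?_, ?_, ?_⟩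
    · intro P Q f
      rw [Preadditive.mono_iff_cancel_zero]
      intro T t ht
      apply (hP P).hom_ext
      intro j
      have : Mono ((h.diag.obj j).map f) := (hD j).1 f
      change t ≫ (h.π.app j).app P = 0 ≫ (h.π.app j).app P
      rw [zero_comp, ← cancel_mono ((h.diag.obj j).map f), Category.assoc, nat, ← Category.assoc,
        ht, zero_comp, zero_comp]
    · choose bj hbj using fun j => (hD j).2.1
      obtain ⟨b, hb⟩ := Finite.bddAbove_range bj
      refine ⟨b, fun p hp => ?_⟩
      rw [IsZero.iff_id_eq_zero]
      apply (hP (op p)).hom_ext
      intro j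
      exact (hbj j p ((hb (Set.mem_range_self j)).trans hp)).eq_of_tgt _ _
    · choose aj haj using fun j => (hD j).2.2
      obtain ⟨a, ha⟩ := Finite.bddBelow_range aj
      refine ⟨a, fun P Q f hPa => ?_⟩
      have hiso : ∀ j, IsIso ((h.diag.obj j).map f) :=
        fun j => haj j f (hPa.trans (ha (Set.mem_range_self j)))
      let c : Cone (h.diag ⋙ (evaluation ℤᵒᵖ A).obj P) :=
        { pt := X.obj Q
          π := { app := fun j => (h.π.app j).app Q ≫ inv ((h.diag.obj j).map f)
                 naturality := by
                   intro j j' g
                   dsimp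
                   rw [Category.id_comp, ← cancel_mono ((h.diag.obj j').map f), Category.assoc,
                     IsIso.inv_hom_id, Category.comp_id, Category.assoc, Category.assoc,
                     ← (h.diag.map g).naturality f, IsIso.inv_hom_id_assoc]
                   have := congrArg (fun η => η.app Q) (h.π.naturality g)
                   dsimp at this
                   rw [Category.id_comp] at this
                   rw [this] } }
      refine ⟨(hP P).lift c, ?_, ?_⟩
      · apply (hP P).hom_ext
        intro j
        rw [Category.assoc, (hP P).fac c j, Category.id_comp]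
        change X.map f ≫ (h.π.app j).app Q ≫ inv ((h.diag.obj j).map f) = (h.π.app j).app P
        rw [← Category.assoc, ← nat, Category.assoc, IsIso.hom_inv_id, Category.comp_id]
      · apply (hP Q).hom_ext
        intro j
        rw [Category.id_comp, Category.assoc]
        change (hP P).lift c ≫ X.map f ≫ (h.π.app j).app Q = (h.π.app j).app Q
        rw [← nat, ← Category.assoc]
        have := (hP P).fac c j
        change (hP P).lift c ≫ (h.π.app j).app P = _ at this
        rw [this]
        change ((h.π.app j).app Q ≫ inv ((h.diag.obj j).map f)) ≫ _ = _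
        rw [Category.assoc, IsIso.inv_hom_id, Category.comp_id]

instance : HasBinaryProducts (FilF A) := by
  change HasLimitsOfShape (Discrete WalkingPair) (IsFinFil A).FullSubcategory
  infer_instance

instance hasBinaryBiproducts_filF : HasBinaryBiproducts (FilF A) :=
  HasBinaryBiproducts.of_hasBinaryProducts

end Groth.Agent.Lib.FilD65
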