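import Groth.Agent.Lib.FilD65Ext
import Mathlib.Order.Interval.Set.Basic
import Mathlib.Order.Interval.Finset.Defs
import Mathlib.Data.Int.Interval

/-!
# FilD65Enough: enough filtered injectives (S1081)
-/

universe w v u

set_option linter.unusedSectionVars false

open CategoryTheory CategoryTheory.Limits Opposite FilD

namespace Groth.Agent.Lib.FilD65

variable {A : Type u} [Category.{v} A] [Abelian A]

section toBase

variable (X : FilF A) (a : ℤ) (ha : ∀ (p q : ℤ) (h : p ≤ q), q ≤ a → IsIso (tr X h))

open Classical in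
/-- The map `X q ⟶ X a` to the "whole object" `X a` (where the filtration is constant below
`a`). -/
noncomputable def toBase (q : ℤ) : lev X q ⟶ lev X a :=
  if h : a ≤ q then tr X h else
    have := ha q a (le_of_not_ge h) le_rfl
    inv (tr X (le_of_not_ge h))

lemma toBase_of_le (q : ℤ) (h : a ≤ q) : toBase X a ha q = tr X h := by
  unfold toBase
  rw [dif_pos h]

lemma toBase_of_ge (q : ℤ) (h : q ≤ a) :
    have := ha q a h le_rfl
    toBase X a ha q = inv (tr X h) := by
  intro _
  by_cases h' : a ≤ q
  · obtain rfl : q = a := le_antisymm h h'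
    rw [toBase_of_le X q ha q le_rfl]
    simp
  · unfold toBase
    rw [dif_neg h']

instance (q : ℤ) : Mono (toBase X a ha q) := by
  by_cases h : a ≤ q
  · rw [toBase_of_le X a ha q h]; infer_instance
  · have := ha q a (le_of_not_ge h) le_rfl
    rw [toBase_of_ge X a ha q (le_of_not_ge h)]; infer_instance

lemma tr_toBase {p q : ℤ} (h : p ≤ q) : tr X h ≫ toBase X a ha p = toBase X a ha q := by
  by_cases hp : a ≤ p
  · rw [toBase_of_le X a ha p hp, toBase_of_le X a ha q (hp.trans h), tr_comp]
  · have hp' : p ≤ a := le_of_not_ge hp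
    have := ha p a hp' le_rfl
    rw [toBase_of_ge X a ha p hp', IsIso.comp_inv_eq]
    by_cases hq : a ≤ q
    · rw [toBase_of_le X a ha q hq, tr_comp]
    · have hq' : q ≤ a := le_of_not_ge hq
      have := ha q a hq' le_rfl
      rw [toBase_of_ge X a ha q hq', IsIso.eq_inv_comp, tr_comp]

end toBase

/-- **Enough filtered injectives** (S1081 in library form). -/
theorem exists_strictMono_into_filteredInjective [EnoughInjectives A] (X : FilF A) :
    ∃ (I : FilF A) (u : X ⟶ I), IsFilteredInjective I ∧ Mono u ∧ IsStrict u := by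
  obtain ⟨b, hb⟩ := exists_isZero_ge X
  obtain ⟨a, ha⟩ := exists_isIso_le X
  let ι : Type := ↥(Set.Ico a b)
  have : Finite ι := (Set.finite_Ico a b).to_subtype
  let deg : ι → ℤ := fun i => i.1
  have hdeg1 : ∀ i : ι, a ≤ deg i + 1 := fun i => by have := i.2.1; dsimp [deg]; omega
  let C : ι → A := fun i => cokernel (tr X (hdeg1 i))
  let J : ι → A := fun i => Injective.under (C i)
  let f : ∀ (i : ι) (q : ℤ), lev X q ⟶ J i :=
    fun i q => toBase X a ha q ≫ cokernel.π (tr X (hdeg1 i)) ≫ Injective.ι (C i)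
  have h1 : ∀ (i : ι) (p q : ℤ) (h : p ≤ q), tr X h ≫ f i p = f i q := by
    intro i p q h
    dsimp only [f]
    rw [← Category.assoc, tr_toBase]
  have h2 : ∀ (i : ι) (q : ℤ), deg i < q → f i q = 0 := by
    intro i q hq
    dsimp only [f]
    have hq' : deg i + 1 ≤ q := hq
    rw [toBase_of_le X a ha q ((hdeg1 i).trans hq'), ← tr_comp X (hdeg1 i) hq', Category.assoc,
      cokernel.condition_assoc, zero_comp, comp_zero]
  let u : X ⟶ Jsum J deg := JsumLift X f h1 h2
  -- key factorization property
  have star : ∀ (n : ℕ) (q q' : ℤ) (hqq' : q ≤ q') (_ : q' - q = n) ⦃T : A⦄ (t : T ⟶ lev X q),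
      (∀ i : ι, q ≤ deg i → deg i < q' → t ≫ f i q = 0) →
      ∃ t' : T ⟶ lev X q', t' ≫ tr X hqq' = t := by
    intro n
    induction n with
    | zero =>
      intro q q' hqq' hn T t _
      obtain rfl : q = q' := by omega
      exact ⟨t, by simp⟩
    | succ n ih =>
      intro q q' hqq' hn T t ht
      obtain ⟨q'', rfl⟩ : ∃ q'', q' = q'' + 1 := ⟨q' - 1, by omega⟩
      have hq'' : q ≤ q'' := by omega
      obtain ⟨t', ht'⟩ := ih q q'' hq'' (by omega) t (fun i hi hi' => ht i hi (by omega))
      suffices ∃ t'' : T ⟶ lev X (q'' + 1), t'' ≫ tr X (le_succ' q'') = t' by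
        obtain ⟨t'', ht''⟩ := this
        exact ⟨t'', by rw [← tr_comp X hq'' (le_succ' q''), ← Category.assoc, ht'', ht']⟩
      by_cases hb' : b ≤ q''
      · exact ⟨0, (hb q'' hb').eq_of_tgt _ _⟩
      by_cases ha' : a ≤ q''
      · let i : ι := ⟨q'', ha', not_le.1 hb'⟩
        have e1 : t' ≫ f i q'' = 0 := by
          rw [← h1 i q q'' hq'', ← Category.assoc, ht']
          exact ht i hq'' (by dsimp [deg, i]; omega)
        dsimp only [f] at e1
        rw [← Category.assoc, ← Category.assoc] at e1
        have e2 := zero_of_comp_mono _ e1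
        rw [toBase_of_le X a ha q'' ha'] at e2
        refine ⟨Abelian.monoLift _ _ e2, ?_⟩
        rw [← cancel_mono (tr X ha'), Category.assoc, tr_comp]
        exact Abelian.monoLift_comp _ _ _
      · have := ha q'' (q'' + 1) (le_succ' q'') (by omega)
        exact ⟨t' ≫ inv (tr X (le_succ' q'')), by simp⟩
  have hmono : ∀ q, Mono (app u q) := by
    intro q
    rw [Preadditive.mono_iff_cancel_zero]
    intro T t ht
    obtain ⟨t', ht'⟩ := star (max q b - q).toNat q (max q b) (le_max_left _ _)
      (by have := le_max_left q b; omega) t (fun i hi _ => by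
        have := JsumLift_app_π X f h1 h2 q i hi
        rw [← this, ← Category.assoc]
        change (t ≫ app u q) ≫ _ = 0
        rw [ht, zero_comp])
    rw [← ht', (hb (max q b) (le_max_right _ _)).eq_of_tgt t' 0, zero_comp]
  refine ⟨Jsum J deg, u, isFilteredInjective_Jsum (fun i => inferInstance),
    mono_of_mono_app u hmono, ?_⟩
  rw [isStrict_iff]
  intro p q hpq T x y hxy
  obtain ⟨x', hx'⟩ := star (q - p).toNat p q hpq (by omega) x (fun i hi hi' => by
    have := JsumLift_app_π X f h1 h2 p i hi
    rw [← this, ← Category.assoc]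
    change (x ≫ app u p) ≫ _ = 0
    rw [hxy, Category.assoc, tr_Jsumπ_eq_zero J deg hpq i (not_le.2 hi') hi, comp_zero])
  refine ⟨T, 𝟙 T, inferInstance, x', ?_⟩
  rw [Category.id_comp, ← cancel_mono (tr (Jsum J deg) hpq), Category.assoc, ← tr_app,
    ← Category.assoc, hx', hxy]

end Groth.Agent.Lib.FilD65
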