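import Groth.Agent.Lib.FilD65TruncGE
import Groth.Agent.Lib.FilD65Enough
import Groth.Agent.Lib.FilD65Biprod

/-!
# FilD65Coker: cokernels of strict morphisms, chosen filtered injective hulls, levels of
biproducts
-/

universe w v u

set_option linter.unusedSectionVars false

open CategoryTheory CategoryTheory.Limits Opposite FilD

namespace Groth.Agent.Lib.FilD65

variable {A : Type u} [Category.{v} A] [Abelian A]

/-! ### Cokernel of a strict morphism -/

/-- The (levelwise) cokernel of a strict morphism, as a finite filtered object. -/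
noncomputable def cokerF {X Y : FilF A} (f : X ⟶ Y) (hf : IsStrict f) : FilF A :=
  ⟨cokernel f.hom, isFinFil_of_isColimit_cokernelCofork f hf (cokernel.π f.hom)
    (cokernel.condition _) (cokernelIsCokernel _)⟩

/-- The projection to the cokernel. -/
noncomputable def cokerπ {X Y : FilF A} (f : X ⟶ Y) (hf : IsStrict f) : Y ⟶ cokerF f hf :=
  ObjectProperty.homMk (cokernel.π f.hom)

@[reassoc (attr := simp)] lemma comp_cokerπ {X Y : FilF A} (f : X ⟶ Y) (hf : IsStrict f) :
    f ≫ cokerπ f hf = 0 := by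
  apply ObjectProperty.hom_ext
  exact cokernel.condition f.hom

lemma app_cokerπ_isColimit {X Y : FilF A} (f : X ⟶ Y) (hf : IsStrict f) (p : ℤ) :
    Nonempty (IsColimit (CokernelCofork.ofπ (f := app f p) (app (cokerπ f hf) p)
      (by rw [← comp_app, comp_cokerπ, app_zero]))) :=
  ⟨CokernelCofork.mapIsColimit _ (cokernelIsCokernel f.hom) ((evaluation ℤᵒᵖ A).obj (op p))⟩

instance {X Y : FilF A} (f : X ⟶ Y) (hf : IsStrict f) (p : ℤ) : Epi (app (cokerπ f hf) p) :=
  epi_of_isColimit_cofork (app_cokerπ_isColimit f hf p).some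

lemma cokerπ_exact {X Y : FilF A} (f : X ⟶ Y) (hf : IsStrict f) (p : ℤ) ⦃T : A⦄
    (y : T ⟶ lev Y p) (hy : y ≫ app (cokerπ f hf) p = 0) :
    ∃ (T' : A) (π : T' ⟶ T) (_ : Epi π) (x : T' ⟶ lev X p), π ≫ y = x ≫ app f p :=
  (ShortComplex.exact_of_g_is_cokernel
    (ShortComplex.mk (app f p) (app (cokerπ f hf) p) (by rw [← comp_app, comp_cokerπ, app_zero]))
    (app_cokerπ_isColimit f hf p).some).exact_up_to_refinements y hy

/-! ### Chosen strict embeddings into filtered injectives -/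

section

variable [EnoughInjectives A]

/-- A chosen filtered injective object containing `X`. -/
noncomputable def hullF (X : FilF A) : FilF A :=
  (exists_strictMono_into_filteredInjective X).choose

/-- The chosen strict monomorphism `X ⟶ hullF X`. -/
noncomputable def hullι (X : FilF A) : X ⟶ hullF X :=
  (exists_strictMono_into_filteredInjective X).choose_spec.choose

lemma isFilteredInjective_hullF (X : FilF A) : IsFilteredInjective (hullF X) :=
  (exists_strictMono_into_filteredInjective X).choose_spec.choose_spec.1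

instance (X : FilF A) : Mono (hullι X) :=
  (exists_strictMono_into_filteredInjective X).choose_spec.choose_spec.2.1

lemma isStrict_hullι (X : FilF A) : IsStrict (hullι X) :=
  (exists_strictMono_into_filteredInjective X).choose_spec.choose_spec.2.2

instance (X : FilF A) (p : ℤ) : Mono (app (hullι X) p) := mono_app_of_mono _ p

end

/-! ### Levels of biproducts -/

section biprod

variable (X Y : FilF A) (p : ℤ)

lemma app_inl_fst : app (biprod.inl : X ⟶ X ⊞ Y) p ≫ app (biprod.fst : X ⊞ Y ⟶ X) p = 𝟙 _ := by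
  rw [← comp_app, biprod.inl_fst, id_app]

lemma app_inl_snd : app (biprod.inl : X ⟶ X ⊞ Y) p ≫ app (biprod.snd : X ⊞ Y ⟶ Y) p = 0 := by
  rw [← comp_app, biprod.inl_snd, app_zero]

lemma app_inr_fst : app (biprod.inr : Y ⟶ X ⊞ Y) p ≫ app (biprod.fst : X ⊞ Y ⟶ X) p = 0 := by
  rw [← comp_app, biprod.inr_fst, app_zero]

lemma app_inr_snd : app (biprod.inr : Y ⟶ X ⊞ Y) p ≫ app (biprod.snd : X ⊞ Y ⟶ Y) p = 𝟙 _ := by
  rw [← comp_app, biprod.inr_snd, id_app]

lemma app_biprod_total :
    app (biprod.fst : X ⊞ Y ⟶ X) p ≫ app (biprod.inl : X ⟶ X ⊞ Y) p +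
      app (biprod.snd : X ⊞ Y ⟶ Y) p ≫ app (biprod.inr : Y ⟶ X ⊞ Y) p = 𝟙 _ := by
  rw [← comp_app, ← comp_app, ← app_add, biprod.total, id_app]

variable {X Y p}

lemma lev_biprod_ext {T : A} {t t' : T ⟶ lev (X ⊞ Y) p}
    (h1 : t ≫ app (biprod.fst : X ⊞ Y ⟶ X) p = t' ≫ app (biprod.fst : X ⊞ Y ⟶ X) p)
    (h2 : t ≫ app (biprod.snd : X ⊞ Y ⟶ Y) p = t' ≫ app (biprod.snd : X ⊞ Y ⟶ Y) p) :
    t = t' := by
  rw [← Category.comp_id t, ← Category.comp_id t', ← app_biprod_total X Y p,
    Preadditive.comp_add, Preadditive.comp_add, ← Category.assoc, ← Category.assoc,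
    ← Category.assoc, ← Category.assoc, h1, h2]

/-- The element `(x, y)` of a level of a biproduct. -/
noncomputable def levPair {T : A} (x : T ⟶ lev X p) (y : T ⟶ lev Y p) : T ⟶ lev (X ⊞ Y) p :=
  x ≫ app (biprod.inl : X ⟶ X ⊞ Y) p + y ≫ app (biprod.inr : Y ⟶ X ⊞ Y) p

@[reassoc (attr := simp)] lemma levPair_fst {T : A} (x : T ⟶ lev X p) (y : T ⟶ lev Y p) :
    levPair x y ≫ app (biprod.fst : X ⊞ Y ⟶ X) p = x := by
  unfold levPair
  rw [Preadditive.add_comp, Category.assoc, Category.assoc, app_inl_fst, app_inr_fst]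
  simp

@[reassoc (attr := simp)] lemma levPair_snd {T : A} (x : T ⟶ lev X p) (y : T ⟶ lev Y p) :
    levPair x y ≫ app (biprod.snd : X ⊞ Y ⟶ Y) p = y := by
  unfold levPair
  rw [Preadditive.add_comp, Category.assoc, Category.assoc, app_inl_snd, app_inr_snd]
  simp

lemma levPair_eta {T : A} (t : T ⟶ lev (X ⊞ Y) p) :
    levPair (t ≫ app (biprod.fst : X ⊞ Y ⟶ X) p) (t ≫ app (biprod.snd : X ⊞ Y ⟶ Y) p) = t :=
  lev_biprod_ext (by simp) (by simp)

lemma levPair_comp_desc {T : A} {W : FilF A} (x : T ⟶ lev X p) (y : T ⟶ lev Y p)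
    (f : X ⟶ W) (g : Y ⟶ W) :
    levPair x y ≫ app (biprod.desc f g) p = x ≫ app f p + y ≫ app g p := by
  unfold levPair
  rw [Preadditive.add_comp, Category.assoc, Category.assoc, ← comp_app, ← comp_app,
    biprod.inl_desc, biprod.inr_desc]

lemma comp_app_desc {T : A} {W : FilF A} (t : T ⟶ lev (X ⊞ Y) p) (f : X ⟶ W) (g : Y ⟶ W) :
    t ≫ app (biprod.desc f g) p =
      (t ≫ app (biprod.fst : X ⊞ Y ⟶ X) p) ≫ app f p +
        (t ≫ app (biprod.snd : X ⊞ Y ⟶ Y) p) ≫ app g p := by
  conv_lhs => rw [← levPair_eta t]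
  rw [levPair_comp_desc]

end biprod

end Groth.Agent.Lib.FilD65
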