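import Groth.Agent.Lib.FilD65Homotopy
import Groth.Agent.Lib.FilD65Biprod
import Mathlib.Algebra.Homology.HomotopyCategory.Acyclic
import Mathlib.Algebra.Homology.HomotopyCategory.Pretriangulated
import Mathlib.Algebra.Homology.Localization

/-!
# FilD65Cone: cones of filtered quasi-isomorphisms; bijectivity of precomposition with filtered
quasi-isomorphisms on homotopy classes of maps into bounded below filtered injective complexes
(S1084)
-/

universe w v u

set_option linter.unusedSectionVars false

open CategoryTheory CategoryTheory.Limits Opposite FilD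

namespace Groth.Agent.Lib.FilD65

variable {A : Type u} [Category.{v} A] [Abelian A]

open CochainComplex HomotopyCategory Pretriangulated

lemma acyclic_mappingCone_of_quasiIso {C : Type*} [Category C] [Abelian C]
    {K L : CochainComplex C ℤ} (φ : K ⟶ L) (hφ : QuasiIso φ) : (mappingCone φ).Acyclic := by
  rw [← HomotopyCategory.quotient_obj_mem_subcategoryAcyclic_iff_acyclic]
  refine ((HomotopyCategory.subcategoryAcyclic C).trW_iff_of_distinguished _
    (HomotopyCategory.mappingCone_triangleh_distinguished φ)).1 ?_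
  rw [← HomotopyCategory.quasiIso_eq_trW_subcategoryAcyclic]
  exact (HomotopyCategory.quotient_map_mem_quasiIso_iff φ).2 hφ

lemma isFilteredAcyclic_mappingCone {K L : CochainComplex (FilF A) ℤ} (α : K ⟶ L)
    (hα : IsFilteredQuasiIso α) : IsFilteredAcyclic (mappingCone α) := by
  intro p n
  have h := acyclic_mappingCone_of_quasiIso ((grCx p).map α) (hα p)
  exact (h n).of_iso (mappingCone.mapHomologicalComplexIso α (grF A p)).symm

/-- Morphisms in the homotopy category from a filtered acyclic complex to a bounded below complex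
of filtered injectives vanish. -/
lemma quotient_hom_eq_zero {C I : CochainComplex (FilF A) ℤ} (hC : IsFilteredAcyclic C) (a : ℤ)
    [I.IsStrictlyGE a] (hI : ∀ n, IsFilteredInjective (I.X n))
    (g : (HomotopyCategory.quotient (FilF A) (ComplexShape.up ℤ)).obj C ⟶
      (HomotopyCategory.quotient (FilF A) (ComplexShape.up ℤ)).obj I) : g = 0 := by
  obtain ⟨g', rfl⟩ := (HomotopyCategory.quotient _ _).map_surjective g
  rw [HomotopyCategory.quotient_map_eq_zero_iff]
  exact nonempty_homotopy_zero_of_isFilteredAcyclic C I hC a hI g'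

lemma quotient_shift_hom_eq_zero {C I : CochainComplex (FilF A) ℤ} (hC : IsFilteredAcyclic C)
    (a : ℤ) [I.IsStrictlyGE a] (hI : ∀ n, IsFilteredInjective (I.X n))
    (f : ((HomotopyCategory.quotient (FilF A) (ComplexShape.up ℤ)).obj C)⟦(-1 : ℤ)⟧ ⟶
      (HomotopyCategory.quotient (FilF A) (ComplexShape.up ℤ)).obj I) : f = 0 := by
  apply (CategoryTheory.shiftFunctor (HomotopyCategory (FilF A) (ComplexShape.up ℤ)) (1 : ℤ)).map_injective
  rw [Functor.map_zero]
  let e1 := (shiftFunctorCompIsoId (HomotopyCategory (FilF A) (ComplexShape.up ℤ)) (-1 : ℤ) 1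
    (by simp)).app ((HomotopyCategory.quotient (FilF A) (ComplexShape.up ℤ)).obj C)
  let e2 := ((HomotopyCategory.quotient (FilF A) (ComplexShape.up ℤ)).commShiftIso (1 : ℤ)).symm.app I
  have : (I⟦(1 : ℤ)⟧).IsStrictlyGE (a - 1) := I.isStrictlyGE_shift a 1 (a - 1) (by omega)
  have h0 := quotient_hom_eq_zero hC (a - 1) (I := I⟦(1 : ℤ)⟧) (fun n => hI (n + 1))
    (e1.inv ≫ (CategoryTheory.shiftFunctor _ (1 : ℤ)).map f ≫ e2.hom)
  rw [← cancel_epi e1.inv, ← cancel_mono e2.hom, comp_zero, zero_comp, Category.assoc]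
  exact h0

/-- S1084 in library form. -/
theorem precomp_filteredQuasiIso_bijective (I : CochainComplex (FilF A) ℤ)
    (a : ℤ) [I.IsStrictlyGE a] (hI : ∀ n, IsFilteredInjective (I.X n))
    {K L : CochainComplex (FilF A) ℤ} (α : K ⟶ L) (hα : IsFilteredQuasiIso α) :
    Function.Bijective (fun β : (HomotopyCategory.quotient (FilF A) (ComplexShape.up ℤ)).obj L ⟶
        (HomotopyCategory.quotient (FilF A) (ComplexShape.up ℤ)).obj I =>
      (HomotopyCategory.quotient (FilF A) (ComplexShape.up ℤ)).map α ≫ β) := by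
  have hC := isFilteredAcyclic_mappingCone α hα
  have hT := HomotopyCategory.mappingCone_triangleh_distinguished α
  constructor
  · intro β₁ β₂ h
    dsimp only at h
    rw [← sub_eq_zero] at h ⊢
    rw [← Preadditive.comp_sub] at h
    obtain ⟨g, hg⟩ := Triangle.yoneda_exact₂ _ hT (β₁ - β₂) h
    rw [hg, quotient_hom_eq_zero hC a hI g]
    exact comp_zero
  · intro γ
    have hT' := inv_rot_of_distTriang _ hT
    obtain ⟨g, hg⟩ := Triangle.yoneda_exact₂ _ hT' γ (quotient_shift_hom_eq_zero hC a hI _)
    exact ⟨g, hg.symm⟩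

end Groth.Agent.Lib.FilD65
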