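import Groth.Agent.Lib.FilD65Ext
import Mathlib.CategoryTheory.Limits.Preserves.Shapes.Kernels
import Mathlib.CategoryTheory.Limits.FunctorCategory.Basic

/-!
# FilD65Exact: exactness on graded pieces implies exactness on levels and strictness
-/

universe w v u

set_option linter.unusedSectionVars false

open CategoryTheory CategoryTheory.Limits Opposite FilD

namespace Groth.Agent.Lib.FilD65

variable {A : Type u} [Category.{v} A] [Abelian A]

section

variable {X Y Z : FilF A} (f : X ⟶ Y) (g : Y ⟶ Z)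

/-- Exactness of `gr^p X ⟶ gr^p Y ⟶ gr^p Z` in terms of generalized elements. -/
def GrExactAt (p : ℤ) : Prop :=
  ∀ ⦃T : A⦄ (y : T ⟶ (gr A p).obj Y.obj), y ≫ (gr A p).map g.hom = 0 →
    ∃ (T' : A) (π : T' ⟶ T) (_ : Epi π) (x : T' ⟶ (gr A p).obj X.obj),
      π ≫ y = x ≫ (gr A p).map f.hom

/-- Exactness of `X p ⟶ Y p ⟶ Z p` in terms of generalized elements. -/
def LevExactAt (p : ℤ) : Prop :=
  ∀ ⦃T : A⦄ (y : T ⟶ lev Y p), y ≫ app g p = 0 →
    ∃ (T' : A) (π : T' ⟶ T) (_ : Epi π) (x : T' ⟶ lev X p), π ≫ y = x ≫ app f p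

variable {f g}

lemma levExactAt_of_isZero (p : ℤ) (h : IsZero (lev Y p)) : LevExactAt f g p := by
  intro T y _
  exact ⟨T, 𝟙 T, inferInstance, 0, h.eq_of_tgt _ _⟩

lemma levExactAt_step (w : f ≫ g = 0) (p : ℤ) (hgr : GrExactAt f g p)
    (ih : LevExactAt f g (p + 1)) : LevExactAt f g p := by
  intro T y hy
  have h1 : (y ≫ grπ Y.obj p) ≫ (gr A p).map g.hom = 0 := by
    rw [Category.assoc, grπ_naturality, ← Category.assoc]
    change (y ≫ app g p) ≫ _ = 0
    rw [hy, zero_comp]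
  obtain ⟨T1, π1, hπ1, xbar, hxbar⟩ := hgr _ h1
  obtain ⟨T2, π2, hπ2, x, hx⟩ := exists_lift_grπ X.obj p xbar
  have h2 : (π2 ≫ π1 ≫ y - x ≫ app f p) ≫ grπ Y.obj p = 0 := by
    have e1 : (x ≫ app f p) ≫ grπ Y.obj p = π2 ≫ π1 ≫ y ≫ grπ Y.obj p := by
      rw [Category.assoc]
      change x ≫ f.hom.app (op p) ≫ _ = _
      rw [← grπ_naturality, ← Category.assoc, ← hx, Category.assoc, ← hxbar]
    rw [Preadditive.sub_comp, e1]
    simp
  obtain ⟨y', hy'⟩ := exists_lift_of_comp_grπ_eq_zero Y.obj p _ h2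
  have h3 : y' ≫ app g (p + 1) = 0 := by
    rw [← cancel_mono (tr Z (le_succ' p)), zero_comp, Category.assoc, ← tr_app,
      ← Category.assoc]
    change (y' ≫ trF Y.obj _) ≫ _ = 0
    rw [hy', Preadditive.sub_comp, Category.assoc, Category.assoc, hy, comp_zero, comp_zero,
      Category.assoc, ← comp_app, w, app_zero, comp_zero, sub_zero]
  obtain ⟨T3, π3, hπ3, x', hx'⟩ := ih y' h3
  refine ⟨T3, π3 ≫ π2 ≫ π1, inferInstance, π3 ≫ x + x' ≫ tr X (le_succ' p), ?_⟩
  have e2 : (x' ≫ tr X (le_succ' p)) ≫ app f p = π3 ≫ (π2 ≫ π1 ≫ y - x ≫ app f p) := by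
    rw [Category.assoc, tr_app, ← Category.assoc, ← hx', Category.assoc]
    change π3 ≫ y' ≫ trF Y.obj _ = _
    rw [hy']
  rw [Preadditive.add_comp, e2, Preadditive.comp_sub]
  simp

/-- If `gr^p X ⟶ gr^p Y ⟶ gr^p Z` is exact for all `p`, then `X p ⟶ Y p ⟶ Z p` is exact for
all `p`. -/
lemma levExactAt_of_grExactAt (w : f ≫ g = 0) (hgr : ∀ p, GrExactAt f g p) (p : ℤ) :
    LevExactAt f g p := by
  obtain ⟨b, hb⟩ := exists_isZero_ge Y
  have key : ∀ (n : ℕ) (p : ℤ), b - n ≤ p → LevExactAt f g p := by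
    intro n
    induction n with
    | zero => intro p hp; exact levExactAt_of_isZero p (hb p (by simpa using hp))
    | succ n ih =>
      intro p hp
      exact levExactAt_step w p (hgr p) (ih (p + 1) (by push_cast at hp ⊢; omega))
  exact key (b - p).toNat p (by omega)

/-- In a levelwise exact sequence `X ⟶ Y ⟶ Z`, the first map is strict. -/
lemma isStrict_of_levExactAt (w : f ≫ g = 0) (h : ∀ p, LevExactAt f g p) : IsStrict f := by
  rw [isStrict_iff]
  intro p q hpq T x y hxy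
  have h1 : y ≫ app g q = 0 := by
    rw [← cancel_mono (tr Z hpq), zero_comp, Category.assoc, ← tr_app, ← Category.assoc, ← hxy,
      Category.assoc, ← comp_app, w, app_zero, comp_zero]
  obtain ⟨T', π, hπ, x', hx'⟩ := h q y h1
  exact ⟨T', π, hπ, x', hx'.symm⟩

/-- If `gr^p X ⟶ gr^p Y ⟶ gr^p Z` is exact for all `p`, then `Y ⟶ Z` is strict. -/
lemma isStrict_of_grExactAt (w : f ≫ g = 0) (hgr : ∀ p, GrExactAt f g p) : IsStrict g := by
  apply isStrict_of_step
  intro p T y z hyz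
  have h1 : (y ≫ grπ Y.obj p) ≫ (gr A p).map g.hom = 0 := by
    rw [Category.assoc, grπ_naturality, ← Category.assoc]
    change (y ≫ app g p) ≫ _ = 0
    rw [hyz, Category.assoc]
    change z ≫ trF Z.obj _ ≫ _ = 0
    rw [trF_grπ, comp_zero]
  obtain ⟨T1, π1, hπ1, xbar, hxbar⟩ := hgr p _ h1
  obtain ⟨T2, π2, hπ2, x, hx⟩ := exists_lift_grπ X.obj p xbar
  have h2 : (π2 ≫ π1 ≫ y - x ≫ app f p) ≫ grπ Y.obj p = 0 := by
    have e1 : (x ≫ app f p) ≫ grπ Y.obj p = π2 ≫ π1 ≫ y ≫ grπ Y.obj p := by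
      rw [Category.assoc]
      change x ≫ f.hom.app (op p) ≫ _ = _
      rw [← grπ_naturality, ← Category.assoc, ← hx, Category.assoc, ← hxbar]
    rw [Preadditive.sub_comp, e1]
    simp
  obtain ⟨y', hy'⟩ := exists_lift_of_comp_grπ_eq_zero Y.obj p _ h2
  refine ⟨T2, π2 ≫ π1, inferInstance, y', ?_⟩
  rw [← cancel_mono (tr Z (le_succ' p)), Category.assoc, ← tr_app, ← Category.assoc]
  change (y' ≫ trF Y.obj _) ≫ _ = _
  rw [hy', Preadditive.sub_comp, Category.assoc, Category.assoc, Category.assoc, ← comp_app, w,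
    app_zero, comp_zero, sub_zero, hyz]
  simp

end

/-! ### Conversion with `ShortComplex.Exact` -/

lemma grExactAt_iff {X Y Z : FilF A} (f : X ⟶ Y) (g : Y ⟶ Z) (w : f ≫ g = 0) (p : ℤ) :
    GrExactAt f g p ↔ ((ShortComplex.mk f g w).map (grF A p)).Exact := by
  rw [ShortComplex.exact_iff_exact_up_to_refinements]
  rfl

lemma levExactAt_iff {X Y Z : FilF A} (f : X ⟶ Y) (g : Y ⟶ Z) (w : f ≫ g = 0) (p : ℤ) :
    LevExactAt f g p ↔ ((ShortComplex.mk f g w).map
      ((IsFinFil A).ι ⋙ (evaluation ℤᵒᵖ A).obj (op p))).Exact := by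
  rw [ShortComplex.exact_iff_exact_up_to_refinements]
  rfl

/-- S1085 in library form. -/
theorem strict_and_exact_of_gr_exact (S : ShortComplex (FilF A))
    (hS : ∀ p : ℤ, (S.map (grF A p)).Exact) :
    (∀ p : ℤ, (S.map ((IsFinFil A).ι ⋙ (evaluation ℤᵒᵖ A).obj (op p))).Exact) ∧
      IsStrict S.f ∧ IsStrict S.g := by
  have hgr : ∀ p, GrExactAt S.f S.g p := fun p => (grExactAt_iff S.f S.g S.zero p).2 (hS p)
  have hlev := levExactAt_of_grExactAt S.zero hgr
  exact ⟨fun p => (levExactAt_iff S.f S.g S.zero p).1 (hlev p),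
    isStrict_of_levExactAt S.zero hlev, isStrict_of_grExactAt S.zero hgr⟩

end Groth.Agent.Lib.FilD65
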