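import Groth.Agent.Lib.FilD65Jsum

/-!
# FilD65Ext: extension of morphisms into filtered injective objects along strict morphisms
-/

universe w v u

set_option linter.unusedSectionVars false

open CategoryTheory CategoryTheory.Limits Opposite FilD

namespace Groth.Agent.Lib.FilD65

variable {A : Type u} [Category.{v} A] [Abelian A]

/-- Descending dependent choice over `ℤ`. -/
lemma exists_desc_family {C : ℤ → Type*} (R : ∀ k, C (k - 1) → C k → Prop) (b : ℤ)
    (c0 : ∀ k, b ≤ k → C k) (h0 : ∀ k, b ≤ k - 1 → ∀ c' c, R k c' c)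
    (step : ∀ k, k ≤ b → ∀ c : C k, ∃ c' : C (k - 1), R k c' c) :
    ∃ G : ∀ k, C k, ∀ k, R k (G (k - 1)) (G k) := by
  refine ⟨fun k => Int.inductionOn' k b (c0 b le_rfl) (fun k hk _ => c0 (k + 1) (by omega))
    (fun k hk c => (step k hk c).choose), fun k => ?_⟩
  by_cases hk : k ≤ b
  · dsimp only
    rw [Int.inductionOn'_sub_one hk]
    exact (step k hk _).choose_spec
  · exact h0 k (by omega) _ _

/-- One step of the extension: from level `q` to level `p ≤ q`. -/
lemma exists_ext_step {X Y I : FilF A} (u : X ⟶ Y) (hu : IsStrict u) (f : X ⟶ I)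
    (hf : ∀ (p : ℤ) ⦃T : A⦄ (t : T ⟶ lev X p), t ≫ app u p = 0 → t ≫ app f p = 0)
    (p q : ℤ) (h : p ≤ q) (hI : Injective (lev I p)) (g' : lev Y q ⟶ lev I q)
    (hg' : app u q ≫ g' = app f q) :
    ∃ g : lev Y p ⟶ lev I p, app u p ≫ g = app f p ∧ tr Y h ≫ g = g' ≫ tr I h := by
  let m : lev X p ⊞ lev Y q ⟶ lev Y p := biprod.desc (app u p) (tr Y h)
  let n : lev X p ⊞ lev Y q ⟶ lev I p := biprod.desc (app f p) (g' ≫ tr I h)
  have hk : kernel.ι m ≫ n = 0 := by
    have hk0 : (kernel.ι m ≫ biprod.fst) ≫ app u p + (kernel.ι m ≫ biprod.snd) ≫ tr Y h = 0 := by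
      have hm : m = biprod.fst ≫ app u p + biprod.snd ≫ tr Y h := biprod.desc_eq
      have := kernel.condition m
      calc _ = kernel.ι m ≫ (biprod.fst ≫ app u p + biprod.snd ≫ tr Y h) := by
            rw [Preadditive.comp_add, Category.assoc, Category.assoc]
        _ = kernel.ι m ≫ m := by rw [← hm]
        _ = 0 := this
    have hxy : (kernel.ι m ≫ biprod.fst) ≫ app u p = (-(kernel.ι m ≫ biprod.snd)) ≫ tr Y h := by
      rw [Preadditive.neg_comp]
      exact eq_neg_of_add_eq_zero_left hk0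
    obtain ⟨T', π, hπ, x', hx'⟩ := (isStrict_iff u).1 hu p q h _ _ hxy
    have h1 : (π ≫ kernel.ι m ≫ biprod.fst - x' ≫ tr X h) ≫ app u p = 0 := by
      rw [Preadditive.sub_comp, Category.assoc, Category.assoc, Category.assoc, tr_app,
        ← Category.assoc x', hx', ← Category.assoc (kernel.ι m), hxy]
      simp
    have h2 := hf p _ h1
    rw [Preadditive.sub_comp, sub_eq_zero, Category.assoc, Category.assoc, Category.assoc, tr_app,
      ← hg', ← Category.assoc x', ← Category.assoc x', hx'] at h2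
    have hn : n = biprod.fst ≫ app f p + biprod.snd ≫ g' ≫ tr I h := biprod.desc_eq
    rw [← cancel_epi π, comp_zero, hn, Preadditive.comp_add, Preadditive.comp_add]
    simp only [Category.assoc] at h2 ⊢
    rw [h2]
    simp
  have := hI
  obtain ⟨g, hg⟩ := exists_factor_of_kernel_comp_eq_zero m n hk
  refine ⟨g, ?_, ?_⟩
  · have := congrArg (biprod.inl ≫ ·) hg
    simpa [m, n] using this
  · have := congrArg (biprod.inr ≫ ·) hg
    simpa [m, n] using this

/-- **Extension theorem.** Let `u : X ⟶ Y` be a strict morphism of finite filtered objects and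
`f : X ⟶ I` a morphism into a filtered injective object which kills the kernel of `u` levelwise.
Then `f` extends along `u`. -/
theorem exists_ext_of_strict {X Y I : FilF A} (u : X ⟶ Y) (hu : IsStrict u)
    (hI : IsFilteredInjective I) (f : X ⟶ I)
    (hf : ∀ (p : ℤ) ⦃T : A⦄ (t : T ⟶ lev X p), t ≫ app u p = 0 → t ≫ app f p = 0) :
    ∃ g : Y ⟶ I, u ≫ g = f := by
  obtain ⟨b, hb⟩ := exists_isZero_ge I
  obtain ⟨G, hG⟩ := exists_desc_family
    (C := fun k => {g : lev Y k ⟶ lev I k // app u k ≫ g = app f k})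
    (fun k c' c => tr Y (sub_one_lt k).le ≫ c'.1 = c.1 ≫ tr I (sub_one_lt k).le) b
    (fun k hk => ⟨0, (hb k hk).eq_of_tgt _ _⟩)
    (fun k hk c' c => (hb (k - 1) hk).eq_of_tgt _ _)
    (fun k hk c => by
      obtain ⟨g, hg1, hg2⟩ := exists_ext_step u hu f hf (k - 1) k (sub_one_lt k).le
        (injective_lev I hI _) c.1 c.2
      exact ⟨⟨g, hg1⟩, hg2⟩)
  refine ⟨homOfPred (fun k => (G k).1) hG, ?_⟩
  apply hom_ext'
  intro p
  rw [comp_app, homOfPred_app]
  exact (G p).2

/-- Extension along strict monomorphisms (Stacks 05TP-type statement). -/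
theorem exists_ext_of_strict_mono {X Y I : FilF A} (u : X ⟶ Y) [Mono u] (hu : IsStrict u)
    (hI : IsFilteredInjective I) (f : X ⟶ I) : ∃ g : Y ⟶ I, u ≫ g = f := by
  apply exists_ext_of_strict u hu hI f
  intro p T t ht
  have := mono_app_of_mono u p
  have h0 : t = 0 := by rw [← cancel_mono (app u p), ht, zero_comp]
  rw [h0, zero_comp]

end Groth.Agent.Lib.FilD65
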