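import Groth.Agent.Lib.FilD65Basic
import Mathlib.CategoryTheory.Abelian.Exact
import Mathlib.CategoryTheory.Preadditive.Injective.Basic
import Mathlib.Algebra.Homology.ShortComplex.Exact

/-!
# FilD65Gr: graded pieces, injectivity of the levels of a filtered injective object
-/

universe v u

set_option linter.unusedSectionVars false

open CategoryTheory CategoryTheory.Limits Opposite FilD

namespace Groth.Agent.Lib.FilD65

variable {A : Type u} [Category.{v} A] [Abelian A]

/-- `p ≤ p + 1`. -/
lemma le_succ' (p : ℤ) : p ≤ p + 1 := Int.le_add_one le_rfl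

/-- The projection `F p ⟶ gr^p F`. -/
noncomputable def grπ (F : ℤᵒᵖ ⥤ A) (p : ℤ) : F.obj (op p) ⟶ (gr A p).obj F :=
  cokernel.π (F.map (stepHom p))

instance (F : ℤᵒᵖ ⥤ A) (p : ℤ) : Epi (grπ F p) := by unfold grπ; exact coequalizer.π_epi

@[reassoc (attr := simp)] lemma trF_grπ (F : ℤᵒᵖ ⥤ A) (p : ℤ) :
    trF F (le_succ' p) ≫ grπ F p = 0 :=
  cokernel.condition _

@[reassoc] lemma grπ_naturality {F G : ℤᵒᵖ ⥤ A} (φ : F ⟶ G) (p : ℤ) :
    grπ F p ≫ (gr A p).map φ = φ.app (op p) ≫ grπ G p := by
  simp [grπ, gr]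

/-- A generalized element of `F p` dying in `gr^p F` comes from `F (p+1)`. -/
lemma exists_lift_of_comp_grπ_eq_zero (F : ℤᵒᵖ ⥤ A) (p : ℤ) [Mono (trF F (le_succ' p))]
    {T : A} (x : T ⟶ F.obj (op p)) (hx : x ≫ grπ F p = 0) :
    ∃ x' : T ⟶ F.obj (op (p + 1)), x' ≫ trF F (le_succ' p) = x := by
  have : Mono (F.map (stepHom p)) := ‹Mono (trF F (le_succ' p))›
  exact ⟨Abelian.monoLift (F.map (stepHom p)) x hx, Abelian.monoLift_comp _ _ _⟩

/-- Generalized elements of `gr^p F` lift to `F p` up to refinement. -/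
lemma exists_lift_grπ (F : ℤᵒᵖ ⥤ A) (p : ℤ) {T : A} (t : T ⟶ (gr A p).obj F) :
    ∃ (T' : A) (π : T' ⟶ T) (_ : Epi π) (x : T' ⟶ F.obj (op p)), π ≫ t = x ≫ grπ F p :=
  surjective_up_to_refinements_of_epi (grπ F p) t

lemma grπ_exact (F : ℤᵒᵖ ⥤ A) (p : ℤ) :
    (ShortComplex.mk (trF F (le_succ' p)) (grπ F p) (trF_grπ F p)).Exact :=
  ShortComplex.exact_cokernel (F.map (stepHom p))

/-! ### Levels of filtered injective objects are injective -/

lemma injective_of_isZero {Z : A} (hZ : IsZero Z) : Injective Z :=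
  ⟨fun _ _ _ => ⟨0, hZ.eq_of_tgt _ _⟩⟩

lemma injective_lev_of_succ (I : FilF A) (p : ℤ) (h1 : Injective (lev I (p + 1)))
    (h2 : Injective ((grF A p).obj I)) : Injective (lev I p) := by
  let S := ShortComplex.mk (tr I (le_succ' p)) (grπ I.obj p) (trF_grπ I.obj p)
  have hS : S.Exact := grπ_exact I.obj p
  let r : lev I p ⟶ lev I (p + 1) := Injective.factorThru (𝟙 _) (tr I (le_succ' p))
  have hr : S.f ≫ r = 𝟙 _ := Injective.comp_factorThru _ _
  have hg : Epi S.g := by dsimp [S]; infer_instance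
  have spl := ShortComplex.Splitting.ofExactOfRetraction S hS r hr hg
  have h2' : Injective ((gr A p).obj I.obj) := h2
  have : Injective (S.X₁ ⊞ S.X₃) := by
    change Injective (lev I (p + 1) ⊞ (gr A p).obj I.obj)
    infer_instance
  exact Injective.of_iso spl.isoBinaryBiproduct.symm this

lemma injective_lev (I : FilF A) (hI : IsFilteredInjective I) (p : ℤ) : Injective (lev I p) := by
  obtain ⟨b, hb⟩ := exists_isZero_ge I
  have key : ∀ (n : ℕ) (p : ℤ), b - n ≤ p → Injective (lev I p) := by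
    intro n
    induction n with
    | zero => intro p hp; exact injective_of_isZero (hb p (by simpa using hp))
    | succ n ih =>
      intro p hp
      exact injective_lev_of_succ I p (ih (p + 1) (by push_cast at hp ⊢; omega)) (hI p)
  exact key (b - p).toNat p (by omega)

/-- If `I` is injective and `n` kills the kernel of `m`, then `n` extends along `m`. -/
lemma exists_factor_of_kernel_comp_eq_zero {U V I : A} [Injective I] (m : U ⟶ V) (n : U ⟶ I)
    (h : kernel.ι m ≫ n = 0) : ∃ g : V ⟶ I, m ≫ g = n := by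
  let n' : Abelian.coimage m ⟶ I := cokernel.desc _ n h
  refine ⟨Injective.factorThru n' (Abelian.factorThruCoimage m), ?_⟩
  calc m ≫ Injective.factorThru n' (Abelian.factorThruCoimage m)
      = (Abelian.coimage.π m ≫ Abelian.factorThruCoimage m) ≫
          Injective.factorThru n' (Abelian.factorThruCoimage m) := by rw [Abelian.coimage.fac]
    _ = n := by
      rw [Category.assoc, Injective.comp_factorThru]
      exact cokernel.π_desc _ _ _

end Groth.Agent.Lib.FilD65
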