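import Groth.Agent.Lib.FilD65Exact
import Mathlib.Algebra.Homology.HomotopyCategory.HomComplexInduction
import Mathlib.Algebra.Homology.Embedding.CochainComplex

/-!
# FilD65Homotopy: maps from filtered acyclic complexes to bounded below complexes of filtered
injectives are null-homotopic (S1083)
-/

universe w v u

set_option linter.unusedSectionVars false

open CategoryTheory CategoryTheory.Limits Opposite FilD

namespace Groth.Agent.Lib.FilD65

variable {A : Type u} [Category.{v} A] [Abelian A]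

lemma grExactAt_of_isFilteredAcyclic {K : CochainComplex (FilF A) ℤ} (hK : IsFilteredAcyclic K)
    (i j k : ℤ) (hij : i + 1 = j) (hjk : j + 1 = k) (p : ℤ) :
    GrExactAt (K.d i j) (K.d j k) p := by
  have h := hK p j
  rw [HomologicalComplex.exactAt_iff' _ i j k (by simp; omega) (by simp; omega)] at h
  rw [grExactAt_iff (K.d i j) (K.d j k) (K.d_comp_d i j k) p]
  exact h

lemma levExactAt_of_isFilteredAcyclic {K : CochainComplex (FilF A) ℤ} (hK : IsFilteredAcyclic K)
    (i j k : ℤ) (hij : i + 1 = j) (hjk : j + 1 = k) (p : ℤ) :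
    LevExactAt (K.d i j) (K.d j k) p :=
  levExactAt_of_grExactAt (K.d_comp_d i j k)
    (fun p => grExactAt_of_isFilteredAcyclic hK i j k hij hjk p) p

lemma isStrict_d_of_isFilteredAcyclic {K : CochainComplex (FilF A) ℤ} (hK : IsFilteredAcyclic K)
    (j k : ℤ) (hjk : j + 1 = k) : IsStrict (K.d j k) :=
  isStrict_of_grExactAt (K.d_comp_d (j - 1) j k)
    (fun p => grExactAt_of_isFilteredAcyclic hK (j - 1) j k (by omega) hjk p)

/-- Extension along the differential of a filtered acyclic complex. -/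
lemma exists_desc_d_of_isFilteredAcyclic {K : CochainComplex (FilF A) ℤ}
    (hK : IsFilteredAcyclic K) (i j k : ℤ) (hij : i + 1 = j) (hjk : j + 1 = k) {I : FilF A}
    (hI : IsFilteredInjective I) (u : K.X j ⟶ I) (hu : K.d i j ≫ u = 0) :
    ∃ β : K.X k ⟶ I, K.d j k ≫ β = u := by
  apply exists_ext_of_strict (K.d j k) (isStrict_d_of_isFilteredAcyclic hK j k hjk) hI u
  intro p T t ht
  obtain ⟨T', π, hπ, s, hs⟩ := levExactAt_of_isFilteredAcyclic hK i j k hij hjk p t ht
  rw [← cancel_epi π, comp_zero, ← Category.assoc, hs, Category.assoc, ← comp_app, hu, app_zero,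
    comp_zero]

open CochainComplex HomComplex Preadditive

lemma nullHomotopic_aux {K L : CochainComplex (FilF A) ℤ}
    (f : K ⟶ L) (α : Cochain K L (-1)) (n m : ℤ) (hnm : n + 1 = m)
    (hK : IsFilteredAcyclic K) (hL : IsFilteredInjective (L.X m))
    (hα : (δ (-1) 0 α).EqUpTo (Cochain.ofHom f) n) :
    ∃ (h : K.X (n + 2) ⟶ L.X (n + 1)),
      (δ (-1) 0 (α + Cochain.single h (-1))).EqUpTo (Cochain.ofHom f) m := by
  subst hnm
  let u := f.f (n + 1) - α.v (n + 1) n (by lia) ≫ L.d n (n + 1) -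
    K.d (n + 1) (n + 2) ≫ α.v (n + 2) (n + 1) (by lia)
  have hu : K.d n (n + 1) ≫ u = 0 := by
    have eq := hα n n (add_zero n) (by rfl)
    simp only [δ_v (-1) 0 (neg_add_cancel 1) α n n (add_zero _) (n - 1) (n + 1)
      (by lia) (by lia), Int.negOnePow_zero, one_smul, Cochain.ofHom_v] at eq
    simp only [u, comp_sub, HomologicalComplex.d_comp_d_assoc, zero_comp,
      ← f.comm, ← eq, add_comp, Category.assoc, L.d_comp_d, comp_zero, zero_add, sub_self]
  obtain ⟨β, hβ⟩ : ∃ (β : K.X (n + 2) ⟶ L.X (n + 1)), K.d (n + 1) (n + 2) ≫ β = u :=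
    exists_desc_d_of_isFilteredAcyclic hK n (n + 1) (n + 2) rfl (by omega) hL u hu
  refine ⟨β, ?_⟩
  intro p q hpq hp
  obtain rfl : p = q := by lia
  obtain hp | rfl := hp.lt_or_eq
  · rw [δ_add, Cochain.add_v, hα p p (by lia) (by lia), add_eq_left,
      δ_v (-1) 0 (neg_add_cancel 1) _ p p hpq (p - 1) (p + 1) rfl rfl,
      Cochain.single_v_eq_zero _ _ _ _ _ (by lia),
      Cochain.single_v_eq_zero _ _ _ _ _ (by lia)]
    simp
  · rw [δ_v (-1) 0 (neg_add_cancel 1) _ (n + 1) (n + 1) (by lia) n (n + 2)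
      (by lia) (by lia), Cochain.add_v,
      Cochain.single_v_eq_zero _ _ _ _ _ (by lia)]
    simp [hβ, u]

open Cochain.InductionUp in
/-- S1083 in library form. -/
theorem nonempty_homotopy_zero_of_isFilteredAcyclic (K L : CochainComplex (FilF A) ℤ)
    (hK : IsFilteredAcyclic K) (d : ℤ) [L.IsStrictlyGE d]
    (hL : ∀ n, IsFilteredInjective (L.X n)) (f : K ⟶ L) : Nonempty (Homotopy f 0) := by
  let X (n : ℕ) : Set (Cochain K L (-1)) :=
    Set.ofPred (fun α => (δ (-1) 0 α).EqUpTo (Cochain.ofHom f) (n + d - 1))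
  let x₀ : X 0 := ⟨0, fun p q hpq hp ↦
    IsZero.eq_of_tgt (L.isZero_of_isStrictlyGE d _ (by lia)) _ _⟩
  let φ (n : ℕ) (α : X n) : X (n + 1) :=
    ⟨_, (nullHomotopic_aux f α.1 (n + d - 1) ((n + 1 : ℕ) + d - 1)
      (by lia) hK (hL _) α.2).choose_spec⟩
  have hφ (k : ℕ) (x : X k) : (φ k x).1.EqUpTo x.1 (d + k) := fun p q hpq hp => by
    dsimp [φ]
    rw [add_eq_left, Cochain.single_v_eq_zero _ _ _ _ _ (by lia)]
  refine ⟨(Cochain.equivHomotopy f 0).symm ⟨limitSequence φ hφ x₀, ?_⟩⟩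
  rw [Cochain.ofHom_zero, add_zero]
  ext n
  let k₀ := (n - d + 1).toNat
  rw [← (sequence φ x₀ k₀).2 n n (add_zero n) (by lia),
    δ_v (-1) 0 (neg_add_cancel 1) _ n n (by lia) (n - 1) (n + 1) rfl (by lia),
    δ_v (-1) 0 (neg_add_cancel 1) _ n n (by lia) (n - 1) (n + 1) rfl (by lia),
    limitSequence_eqUpTo φ hφ x₀ k₀ n (n - 1) (by lia) (by lia),
    limitSequence_eqUpTo φ hφ x₀ k₀ (n + 1) n (by lia) (by lia)]

end Groth.Agent.Lib.FilD65
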