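import Groth.Agent.Lib.FilD65Gr
import Mathlib.Algebra.Homology.HomologySequenceLemmas
import Mathlib.Algebra.Homology.HomologicalComplexAbelian

/-!
# FilD65Lev: levelwise quasi-isomorphisms are filtered quasi-isomorphisms
-/

universe w v u

set_option linter.unusedSectionVars false

open CategoryTheory CategoryTheory.Limits Opposite FilD

namespace Groth.Agent.Lib.FilD65

variable {A : Type u} [Category.{v} A] [Abelian A]

variable (A) in
/-- The functor "`p`-th level" on finite filtered objects. -/
abbrev levF (p : ℤ) : FilF A ⥤ A := (IsFinFil A).ι ⋙ (evaluation ℤᵒᵖ A).obj (op p)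

variable (A) in
/-- The natural transformation given by the transition maps `X (p+1) ⟶ X p`. -/
def trNat (p : ℤ) : levF A (p + 1) ⟶ levF A p where
  app X := tr X (le_succ' p)
  naturality X Y f := (tr_app f (le_succ' p)).symm

variable (A) in
/-- The natural transformation given by the projections `X p ⟶ gr^p X`. -/
noncomputable def grπNat (p : ℤ) : levF A p ⟶ grF A p where
  app X := grπ X.obj p
  naturality X Y f := (grπ_naturality f.hom p).symm

/-- The level functors applied to complexes. -/
noncomputable abbrev levCx (p : ℤ) : CochainComplex (FilF A) ℤ ⥤ CochainComplex A ℤ :=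
  (levF A p).mapHomologicalComplex (ComplexShape.up ℤ)

/-- The short exact sequence of complexes `0 ⟶ M (p+1) ⟶ M p ⟶ gr^p M ⟶ 0`. -/
noncomputable def levGrShortComplex (p : ℤ) (M : CochainComplex (FilF A) ℤ) :
    ShortComplex (CochainComplex A ℤ) :=
  ShortComplex.mk ((NatTrans.mapHomologicalComplex (trNat A p) (ComplexShape.up ℤ)).app M)
    ((NatTrans.mapHomologicalComplex (grπNat A p) (ComplexShape.up ℤ)).app M) (by
      ext n
      exact trF_grπ (M.X n).obj p)

lemma levGrShortComplex_shortExact (p : ℤ) (M : CochainComplex (FilF A) ℤ) :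
    (levGrShortComplex p M).ShortExact := by
  apply HomologicalComplex.shortExact_of_degreewise_shortExact
  intro n
  exact
    { exact := grπ_exact (M.X n).obj p
      mono_f := inferInstanceAs (Mono (tr (M.X n) (le_succ' p)))
      epi_g := inferInstanceAs (Epi (grπ (M.X n).obj p)) }

/-- Functoriality of `levGrShortComplex`. -/
noncomputable def levGrShortComplexMap (p : ℤ) {K L : CochainComplex (FilF A) ℤ} (φ : K ⟶ L) :
    levGrShortComplex p K ⟶ levGrShortComplex p L where
  τ₁ := (levCx (p + 1)).map φ
  τ₂ := (levCx p).map φ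
  τ₃ := (grCx p).map φ
  comm₁₂ := NatTrans.mapHomologicalComplex_naturality (trNat A p) φ
  comm₂₃ := NatTrans.mapHomologicalComplex_naturality (grπNat A p) φ

/-- A levelwise quasi-isomorphism is a filtered quasi-isomorphism. -/
theorem isFilteredQuasiIso_of_levelwise {K L : CochainComplex (FilF A) ℤ} (φ : K ⟶ L)
    (h : ∀ q : ℤ, QuasiIso ((levCx q).map φ)) : IsFilteredQuasiIso φ := fun p =>
  HomologicalComplex.HomologySequence.quasiIso_τ₃ (levGrShortComplexMap p φ)
    (levGrShortComplex_shortExact p K) (levGrShortComplex_shortExact p L) (h (p + 1)) (h p)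

end Groth.Agent.Lib.FilD65
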