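import Groth.Agent.Lib.FilD65ResStep
import Groth.Agent.Lib.FilD65Lev
import Mathlib.Algebra.Homology.Embedding.HomEquiv
import Mathlib.Algebra.Homology.Embedding.CochainComplex
import Mathlib.Algebra.Homology.Refinements

/-!
# FilD65Resolution: filtered injective resolutions of bounded below complexes (S1082)
-/

universe w v u

set_option linter.unusedSectionVars false

open CategoryTheory CategoryTheory.Limits Opposite FilD

namespace Groth.Agent.Lib.FilD65

variable {A : Type u} [Category.{v} A] [Abelian A]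

/-! ### Generalities -/

lemma isFilteredInjective_of_iso {X Y : FilF A} (e : X ≅ Y) (h : IsFilteredInjective X) :
    IsFilteredInjective Y :=
  fun p => Injective.of_iso ((grF A p).mapIso e) (h p)

lemma isFilteredInjective_of_isZero {X : FilF A} (h : IsZero X) : IsFilteredInjective X :=
  fun p => ((grF A p).map_isZero h).injective

lemma isZero_lev_of_isZero {X : FilF A} (h : IsZero X) (p : ℤ) : IsZero (lev X p) :=
  (levF A p).map_isZero h

lemma isStrict_of_isZero_tgt {X Y : FilF A} (f : X ⟶ Y) (hY : IsZero Y) : IsStrict f := by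
  rw [isStrict_iff]
  intro p q hpq T x y _
  exact ⟨T, 𝟙 T, inferInstance, 0, (isZero_lev_of_isZero hY q).eq_of_tgt _ _⟩

lemma isStrict_comp_iso {X Y Y' : FilF A} (f : X ⟶ Y) (e : Y ≅ Y') (hf : IsStrict f) :
    IsStrict (f ≫ e.hom) := by
  rw [isStrict_iff] at hf ⊢
  intro p q hpq T x y hxy
  have h1 : x ≫ app f p = (y ≫ app e.inv q) ≫ tr Y hpq := by
    rw [Category.assoc, ← tr_app, ← Category.assoc, ← hxy, comp_app, Category.assoc,
      Category.assoc, ← comp_app, e.hom_inv_id, id_app, Category.comp_id]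
  obtain ⟨T', π, hπ, x', hx'⟩ := hf p q hpq x _ h1
  refine ⟨T', π, hπ, x', ?_⟩
  rw [comp_app, ← Category.assoc, hx', Category.assoc, Category.assoc, ← comp_app, e.inv_hom_id,
    id_app, Category.comp_id]

/-! ### Cone exactness and filtered quasi-isomorphisms -/

/-- Exactness at level `q` of the cone of `φ` at the term `K^{n₂} ⊕ L^{n₁}`. -/
def ConeExactAt {K L : CochainComplex (FilF A) ℤ} (φ : K ⟶ L) (q n₀ n₁ n₂ : ℤ) : Prop :=
  ∀ ⦃T : A⦄ (x : T ⟶ lev (K.X n₂) q) (i : T ⟶ lev (L.X n₁) q),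
    x ≫ app (φ.f n₂) q + i ≫ app (L.d n₁ n₂) q = 0 →
    ∃ (T' : A) (π : T' ⟶ T) (_ : Epi π) (x' : T' ⟶ lev (K.X n₁) q) (i' : T' ⟶ lev (L.X n₀) q),
      π ≫ x = -(x' ≫ app (K.d n₁ n₂) q) ∧
        π ≫ i = x' ≫ app (φ.f n₁) q + i' ≫ app (L.d n₀ n₁) q

theorem isFilteredQuasiIso_of_coneExactAt {K L : CochainComplex (FilF A) ℤ} (φ : K ⟶ L)
    (h : ∀ (q n₀ n₁ n₂ : ℤ), n₀ + 1 = n₁ → n₁ + 1 = n₂ → ConeExactAt φ q n₀ n₁ n₂) :
    IsFilteredQuasiIso φ := by
  apply isFilteredQuasiIso_of_levelwise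
  intro q
  rw [quasiIso_iff]
  intro n
  rw [quasiIsoAt_iff' _ (n - 1) n (n + 1) (by simp) (by simp), ShortComplex.quasiIso_iff]
  have hm : Mono (ShortComplex.homologyMap
      ((HomologicalComplex.shortComplexFunctor' A (ComplexShape.up ℤ) (n - 1) n (n + 1)).map
        ((levCx q).map φ))) := by
    rw [ShortComplex.mono_homologyMap_iff_up_to_refinements]
    intro T (x₂ : T ⟶ lev (K.X n) q) (hx₂ : x₂ ≫ app (K.d n (n + 1)) q = 0)
      (y₁ : T ⟶ lev (L.X (n - 1)) q) (hy₁ : x₂ ≫ app (φ.f n) q = y₁ ≫ app (L.d (n - 1) n) q)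
    change ∃ (T' : A) (π : T' ⟶ T) (_ : Epi π) (x₁ : T' ⟶ lev (K.X (n - 1)) q),
      π ≫ x₂ = x₁ ≫ app (K.d (n - 1) n) q
    have h' := h q (n - 1 - 1) (n - 1) n (by omega) (by omega)
    obtain ⟨T', π, hπ, x', i', hx', hi'⟩ := h' x₂ (-y₁) (by
      rw [Preadditive.neg_comp, ← sub_eq_add_neg, sub_eq_zero]
      exact hy₁)
    refine ⟨T', π, hπ, -x', ?_⟩
    rw [hx', Preadditive.neg_comp]
  have he : Epi (ShortComplex.homologyMap
      ((HomologicalComplex.shortComplexFunctor' A (ComplexShape.up ℤ) (n - 1) n (n + 1)).map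
        ((levCx q).map φ))) := by
    rw [ShortComplex.epi_homologyMap_iff_up_to_refinements]
    intro T (y₂ : T ⟶ lev (L.X n) q) (hy₂ : y₂ ≫ app (L.d n (n + 1)) q = 0)
    change ∃ (T' : A) (π : T' ⟶ T) (_ : Epi π) (x₂ : T' ⟶ lev (K.X n) q)
      (_ : x₂ ≫ app (K.d n (n + 1)) q = 0) (y₁ : T' ⟶ lev (L.X (n - 1)) q),
      π ≫ y₂ = x₂ ≫ app (φ.f n) q + y₁ ≫ app (L.d (n - 1) n) q
    have h' := h q (n - 1) n (n + 1) (by omega) rfl
    obtain ⟨T', π, hπ, x', i', hx', hi'⟩ := h' 0 y₂ (by
      rw [zero_comp, zero_add]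
      exact hy₂)
    refine ⟨T', π, hπ, x', ?_, i', hi'⟩
    rw [comp_zero] at hx'
    exact neg_eq_zero.1 hx'.symm
  exact isIso_of_mono_of_epi _


/-! ### Assembly of the resolution -/

section assembly

open ComplexShape

variable [EnoughInjectives A] (K : CochainComplex (FilF A) ℤ) (a : ℤ)

/-- The terms `K^{a+k}`. -/
abbrev seqX (k : ℕ) : FilF A := K.X (a + k)

/-- The differentials `K^{a+k} ⟶ K^{a+k+1}`. -/
abbrev seqD (k : ℕ) : seqX K a k ⟶ seqX K a (k + 1) := K.d (a + k) (a + (k + 1 : ℕ))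

lemma seqD_comp (k : ℕ) : seqD K a k ≫ seqD K a (k + 1) = 0 := K.d_comp_d _ _ _

/-- The terms of the resolution. -/
noncomputable abbrev rX (k : ℕ) : FilF A := resX (seqX K a) (seqD K a) (seqD_comp K a) k

/-- The differentials of the resolution. -/
noncomputable abbrev rD (k : ℕ) : rX K a k ⟶ rX K a (k + 1) :=
  resD (seqX K a) (seqD K a) (seqD_comp K a) k

/-- The components of the resolution map. -/
noncomputable abbrev rφ (k : ℕ) : seqX K a k ⟶ rX K a k :=
  resφ (seqX K a) (seqD K a) (seqD_comp K a) k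

/-- The resolution as an `ℕ`-indexed complex. -/
noncomputable def resCx : CochainComplex (FilF A) ℕ :=
  CochainComplex.of (rX K a) (rD K a) (resD_resD _ _ _)

lemma resCx_d (k : ℕ) : (resCx K a).d k (k + 1) = rD K a k := CochainComplex.of_d _ _ _

/-- The resolution map, `ℕ`-indexed. -/
noncomputable def resMapNat : K.restriction (embeddingUpIntGE a) ⟶ resCx K a where
  f k := rφ K a k
  comm' i j hij := by
    obtain rfl : i + 1 = j := hij
    rw [resCx_d]
    exact resφ_resD (seqX K a) (seqD K a) (seqD_comp K a) i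

/-- The resolution. -/
noncomputable def resI : CochainComplex (FilF A) ℤ := (resCx K a).extend (embeddingUpIntGE a)

instance : (resI K a).IsStrictlyGE a :=
  inferInstanceAs (((resCx K a).extend (embeddingUpIntGE a)).IsStrictlySupported
    (embeddingUpIntGE a))

variable [K.IsStrictlyGE a]

lemma hasLift_resMapNat : (embeddingUpIntGE a).HasLift (resMapNat K a) := by
  intro j hj i' hi'
  rw [boundaryGE_embeddingUpIntGE_iff] at hj
  subst hj
  have hi'' : i' + 1 = a + (0 : ℕ) := hi'
  have : IsZero (K.X i') := K.isZero_of_isStrictlyGE a i' (by omega)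
  exact this.eq_of_src _ _

/-- The resolution map. -/
noncomputable def resMap : K ⟶ resI K a :=
  (embeddingUpIntGE a).liftExtend (resMapNat K a) (hasLift_resMapNat K a)

/-- The identification of the terms of the resolution. -/
noncomputable def resIso (k : ℕ) : (resI K a).X (a + k) ≅ rX K a k :=
  (resCx K a).extendXIso (embeddingUpIntGE a) rfl

lemma resMap_f (k : ℕ) : (resMap K a).f (a + k) = rφ K a k ≫ (resIso K a k).inv := by
  have h := (embeddingUpIntGE a).liftExtend_f (resMapNat K a) (hasLift_resMapNat K a)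
    (i' := a + k) (i := k) rfl
  rw [resMap, h]
  simp only [HomologicalComplex.restrictionXIso, resIso, resMapNat, eqToIso.inv]
  erw [eqToHom_refl, Category.id_comp]
  rfl

lemma resI_d (k : ℕ) : (resI K a).d (a + k) (a + (k + 1 : ℕ)) =
    (resIso K a k).hom ≫ rD K a k ≫ (resIso K a (k + 1)).inv := by
  have h := (resCx K a).extend_d_eq (embeddingUpIntGE a) (i' := a + k) (j' := a + (k + 1 : ℕ))
    (i := k) (j := k + 1) rfl rfl
  rw [resCx_d] at h
  exact h

lemma cases_resI (n : ℤ) :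
    (IsZero ((resI K a).X n) ∧ IsZero (K.X n)) ∨ ∃ k : ℕ, n = a + k := by
  by_cases h : n < a
  · exact Or.inl ⟨(resI K a).isZero_of_isStrictlyGE a n h, K.isZero_of_isStrictlyGE a n h⟩
  · exact Or.inr ⟨(n - a).toNat, by omega⟩

lemma isFilteredInjective_resI (n : ℤ) : IsFilteredInjective ((resI K a).X n) := by
  obtain ⟨h, -⟩ | ⟨k, rfl⟩ := cases_resI K a n
  · exact isFilteredInjective_of_isZero h
  · exact isFilteredInjective_of_iso (resIso K a k).symm (isFilteredInjective_resX _ _ _ k)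

instance mono_resMap_f (n : ℤ) : Mono ((resMap K a).f n) := by
  obtain ⟨-, h⟩ | ⟨k, rfl⟩ := cases_resI K a n
  · exact ⟨fun _ _ _ => h.eq_of_tgt _ _⟩
  · rw [resMap_f]
    have : Mono (rφ K a k) := mono_resφ _ _ _ k
    exact mono_comp _ _

instance mono_app_resMap_f (n q : ℤ) : Mono (app ((resMap K a).f n) q) := mono_app_of_mono _ q

lemma isStrict_resMap_f (n : ℤ) : IsStrict ((resMap K a).f n) := by
  obtain ⟨h, -⟩ | ⟨k, rfl⟩ := cases_resI K a n
  · exact isStrict_of_isZero_tgt _ h
  · rw [resMap_f]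
    exact isStrict_comp_iso _ (resIso K a k).symm (isStrict_resφ _ _ _ k)

lemma coneExactAt_resMap (q n₀ n₁ n₂ : ℤ) (h₀₁ : n₀ + 1 = n₁) (h₁₂ : n₁ + 1 = n₂) :
    ConeExactAt (resMap K a) q n₀ n₁ n₂ := by
  intro T x i hxi
  by_cases h1 : n₁ < a
  · have hi : i = 0 :=
      (isZero_lev_of_isZero ((resI K a).isZero_of_isStrictlyGE a n₁ h1) q).eq_of_tgt _ _
    have hx : x = 0 := by
      rw [hi, zero_comp, add_zero] at hxi
      exact zero_of_comp_mono _ hxi
    exact ⟨T, 𝟙 T, inferInstance, 0, 0, by simp [hx], by simp [hi]⟩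
  · obtain ⟨k, rfl⟩ : ∃ k : ℕ, n₁ = a + k := ⟨(n₁ - a).toNat, by omega⟩
    obtain rfl : n₂ = a + (k + 1 : ℕ) := by push_cast; omega
    -- transport to the `ℕ`-indexed data
    have hxi' : x ≫ app (rφ K a (k + 1)) q +
        (i ≫ app (resIso K a k).hom q) ≫ app (rD K a k) q = 0 := by
      have := congrArg (fun t => t ≫ app (resIso K a (k + 1)).hom q) hxi
      simp only [zero_comp, Preadditive.add_comp, Category.assoc] at this
      rw [resMap_f, resI_d] at this
      simp only [comp_app, Category.assoc] at this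
      rw [← comp_app (resIso K a (k + 1)).inv, Iso.inv_hom_id, id_app, Category.comp_id,
        Category.comp_id] at this
      rw [Category.assoc]
      exact this
    cases k with
    | zero =>
      obtain ⟨T', π, hπ, x', hx', hi'⟩ :=
        res_ce_zero (seqX K a) (seqD K a) (seqD_comp K a) q x _ hxi'
      refine ⟨T', π, hπ, x', 0, hx', ?_⟩
      rw [zero_comp, add_zero, resMap_f, comp_app, ← Category.assoc, ← hi', Category.assoc,
        Category.assoc, ← comp_app, Iso.hom_inv_id, id_app, Category.comp_id]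
    | succ k =>
      obtain rfl : n₀ = a + (k : ℕ) := by push_cast at h₀₁; omega
      obtain ⟨T', π, hπ, x', i', hx', hi'⟩ :=
        res_ce_succ (seqX K a) (seqD K a) (seqD_comp K a) k q x _ hxi'
      refine ⟨T', π, hπ, x', i' ≫ app (resIso K a k).inv q, hx', ?_⟩
      have h2 := congrArg (fun t => t ≫ app (resIso K a (k + 1)).inv q) hi'
      simp only [Preadditive.add_comp, Category.assoc] at h2
      rw [← comp_app (resIso K a (k + 1)).hom, Iso.hom_inv_id, id_app, Category.comp_id] at h2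
      rw [h2, resMap_f, resI_d]
      simp only [comp_app, Category.assoc]
      have e : app (resIso K a k).inv q ≫ app (resIso K a k).hom q = 𝟙 _ := by
        rw [← comp_app, Iso.inv_hom_id, id_app]
      rw [reassoc_of% e]

/-- S1082 in library form. -/
theorem exists_filteredInjective_resolution :
    ∃ (I : CochainComplex (FilF A) ℤ) (φ : K ⟶ I), I.IsStrictlyGE a ∧
      (∀ n, IsFilteredInjective (I.X n)) ∧ IsFilteredQuasiIso φ ∧
      ∀ n, Mono (φ.f n) ∧ IsStrict (φ.f n) :=
  ⟨resI K a, resMap K a, inferInstance, isFilteredInjective_resI K a,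
    isFilteredQuasiIso_of_coneExactAt _ (coneExactAt_resMap K a),
    fun n => ⟨inferInstance, isStrict_resMap_f K a n⟩⟩

end assembly

end Groth.Agent.Lib.FilD65
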