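import Groth.Agent.Lib.FilD65Res
import Groth.Agent.Lib.FilD65Resolution

/-!
# FilD65Horseshoe: the horseshoe lemma for filtered injective resolutions (S1091)
-/

universe w v u

set_option linter.unusedSectionVars false

open CategoryTheory CategoryTheory.Limits Opposite FilD

namespace Groth.Agent.Lib.FilD65

/-! ### The twisted direct sum of two complexes -/

section twist

variable {C : Type*} [Category C] [Preadditive C] [HasBinaryBiproducts C]
  (I J : CochainComplex C ℤ) (τ : J ⟶ I⟦(1 : ℤ)⟧)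

/-- The component `J^n ⟶ I^{n+1}` of `τ`. -/
def twistτ (n : ℤ) : J.X n ⟶ I.X (n + 1) := τ.f n

lemma twistτ_comm (n : ℤ) :
    twistτ I J τ n ≫ I.d (n + 1) (n + 1 + 1) + J.d n (n + 1) ≫ twistτ I J τ (n + 1) = 0 := by
  have h := τ.comm n (n + 1)
  rw [CochainComplex.shiftFunctor_obj_d', Int.negOnePow_one, Units.neg_smul, one_smul] at h
  have h' : twistτ I J τ n ≫ (-(I.d (n + 1) (n + 1 + 1))) =
      J.d n (n + 1) ≫ twistτ I J τ (n + 1) := h
  rw [Preadditive.comp_neg] at h'
  rw [← h']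
  exact add_neg_cancel _

/-- The differential of the twisted direct sum. -/
noncomputable def twistD (n : ℤ) : I.X n ⊞ J.X n ⟶ I.X (n + 1) ⊞ J.X (n + 1) :=
  biprod.desc (I.d n (n + 1) ≫ biprod.inl) (biprod.lift (twistτ I J τ n) (J.d n (n + 1)))

lemma twistD_comp (n : ℤ) : twistD I J τ n ≫ twistD I J τ (n + 1) = 0 := by
  unfold twistD
  apply biprod.hom_ext'
  · rw [biprod.inl_desc_assoc, Category.assoc, biprod.inl_desc, comp_zero,
      HomologicalComplex.d_comp_d_assoc, zero_comp]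
  · rw [biprod.inr_desc_assoc, comp_zero, biprod.lift_desc]
    apply biprod.hom_ext
    · simp only [Preadditive.add_comp, Category.assoc, biprod.inl_fst, biprod.lift_fst,
        Category.comp_id, zero_comp]
      exact twistτ_comm I J τ n
    · simp

/-- The twisted direct sum of `I` and `J`. -/
noncomputable abbrev twist : CochainComplex C ℤ :=
  CochainComplex.of (fun n => I.X n ⊞ J.X n) (twistD I J τ) (twistD_comp I J τ)

lemma twist_d (n : ℤ) : (twist I J τ).d n (n + 1) = twistD I J τ n :=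
  CochainComplex.of_d (fun n => I.X n ⊞ J.X n) (twistD I J τ) n

/-- The inclusion of `I`. -/
noncomputable def twistInl : I ⟶ twist I J τ where
  f n := (biprod.inl : I.X n ⟶ I.X n ⊞ J.X n)
  comm' i j hij := by
    obtain rfl : i + 1 = j := hij
    rw [twist_d]
    unfold twistD
    rw [biprod.inl_desc]

/-- The projection to `J`. -/
noncomputable def twistSnd : twist I J τ ⟶ J where
  f n := (biprod.snd : I.X n ⊞ J.X n ⟶ J.X n)
  comm' i j hij := by
    obtain rfl : i + 1 = j := hij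
    rw [twist_d]
    unfold twistD
    apply biprod.hom_ext' <;> simp

end twist


/-! ### Short exact sequences of finite filtered objects -/

section shortExact

variable {A : Type u} [Category.{v} A] [Abelian A] (S : ShortComplex (FilF A))
  (hS : ∀ p : ℤ, (S.map (levF A p)).ShortExact)

include hS

lemma mono_app_f_of_shortExact (p : ℤ) : Mono (app S.f p) := (hS p).mono_f

lemma epi_app_g_of_shortExact (p : ℤ) : Epi (app S.g p) := (hS p).epi_g

lemma mono_f_of_shortExact : Mono S.f :=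
  mono_of_mono_app _ (mono_app_f_of_shortExact S hS)

lemma exact_of_shortExact (p : ℤ) ⦃T : A⦄ (y : T ⟶ lev S.X₂ p) (hy : y ≫ app S.g p = 0) :
    ∃ (T' : A) (π : T' ⟶ T) (_ : Epi π) (x : T' ⟶ lev S.X₁ p), π ≫ y = x ≫ app S.f p :=
  (hS p).exact.exact_up_to_refinements y hy

lemma isStrict_f_of_shortExact : IsStrict S.f := by
  rw [isStrict_iff]
  intro p q hpq T x y hxy
  have hy : y ≫ app S.g q = 0 := by
    rw [← cancel_mono (tr S.X₃ hpq), zero_comp, Category.assoc, ← tr_app, ← Category.assoc, ← hxy,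
      Category.assoc, ← comp_app, S.zero, app_zero, comp_zero]
  obtain ⟨T', π, hπ, x', hx'⟩ := exact_of_shortExact S hS q y hy
  exact ⟨T', π, hπ, x', hx'.symm⟩

lemma isStrict_g_of_shortExact : IsStrict S.g := by
  rw [isStrict_iff]
  intro p q hpq T y z _
  have := epi_app_g_of_shortExact S hS q
  obtain ⟨T', π, hπ, y', hy'⟩ := surjective_up_to_refinements_of_epi (app S.g q) z
  exact ⟨T', π, hπ, y', hy'.symm⟩

lemma comp_eq_zero_of_shortExact {W : FilF A} (w : S.X₃ ⟶ W) (hw : S.g ≫ w = 0) : w = 0 := by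
  apply hom_ext'
  intro p
  have := epi_app_g_of_shortExact S hS p
  rw [← cancel_epi (app S.g p), ← comp_app, hw, app_zero, app_zero, comp_zero]

/-- Morphisms from the middle term killing the subobject factor through the quotient, for
filtered injective targets. -/
lemma exists_desc_of_shortExact {W : FilF A} (hW : IsFilteredInjective W) (w : S.X₂ ⟶ W)
    (hw : S.f ≫ w = 0) : ∃ w' : S.X₃ ⟶ W, S.g ≫ w' = w := by
  apply exists_ext_of_strict S.g (isStrict_g_of_shortExact S hS) hW w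
  intro p T t ht
  obtain ⟨T', π, hπ, x, hx⟩ := exact_of_shortExact S hS p t ht
  rw [← cancel_epi π, comp_zero, ← Category.assoc, hx, Category.assoc, ← comp_app, hw, app_zero,
    comp_zero]

end shortExact


/-! ### The horseshoe lemma -/

section horseshoe

variable {A : Type u} [Category.{v} A] [Abelian A]

open HomologicalComplex in
/-- S1091 in library form. -/
theorem horseshoe (S : ShortComplex (FilF A)) (hS : ∀ p : ℤ, (S.map (levF A p)).ShortExact)
    (I : CochainComplex (FilF A) ℤ) [I.IsStrictlyGE 0] (hI : ∀ n, IsFilteredInjective (I.X n))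
    (a : (CochainComplex.singleFunctor (FilF A) 0).obj S.X₁ ⟶ I)
    (J : CochainComplex (FilF A) ℤ) [J.IsStrictlyGE 0]
    (c : (CochainComplex.singleFunctor (FilF A) 0).obj S.X₃ ⟶ J) (hc : IsFilteredQuasiIso c) :
    ∃ (M : CochainComplex (FilF A) ℤ) (α : I ⟶ M) (β : M ⟶ J)
      (b : (CochainComplex.singleFunctor (FilF A) 0).obj S.X₂ ⟶ M),
      (∀ n, ∃ (r : M.X n ⟶ I.X n) (s : J.X n ⟶ M.X n), α.f n ≫ r = 𝟙 _ ∧ s ≫ β.f n = 𝟙 _ ∧
        α.f n ≫ β.f n = 0 ∧ r ≫ α.f n + β.f n ≫ s = 𝟙 _) ∧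
      a ≫ α = (CochainComplex.singleFunctor (FilF A) 0).map S.f ≫ b ∧
      b ≫ β = (CochainComplex.singleFunctor (FilF A) 0).map S.g ≫ c := by
  let eX : ((CochainComplex.singleFunctor (FilF A) 0).obj S.X₁).X 0 ≅ S.X₁ :=
    singleObjXSelf (ComplexShape.up ℤ) 0 S.X₁
  let eY : ((CochainComplex.singleFunctor (FilF A) 0).obj S.X₂).X 0 ≅ S.X₂ :=
    singleObjXSelf (ComplexShape.up ℤ) 0 S.X₂
  let eZ : ((CochainComplex.singleFunctor (FilF A) 0).obj S.X₃).X 0 ≅ S.X₃ :=
    singleObjXSelf (ComplexShape.up ℤ) 0 S.X₃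
  let a0 : S.X₁ ⟶ I.X 0 := eX.inv ≫ a.f 0
  let c0 : S.X₃ ⟶ J.X 0 := eZ.inv ≫ c.f 0
  have ha0 : a0 ≫ I.d 0 (0 + 1) = 0 := by
    dsimp only [a0]
    rw [Category.assoc, a.comm 0 (0 + 1)]
    have : ((CochainComplex.singleFunctor (FilF A) 0).obj S.X₁).d 0 (0 + 1) = 0 := rfl
    rw [this, zero_comp, comp_zero]
  have hc0 : c0 ≫ J.d 0 (0 + 1) = 0 := by
    dsimp only [c0]
    rw [Category.assoc, c.comm 0 (0 + 1)]
    have : ((CochainComplex.singleFunctor (FilF A) 0).obj S.X₃).d 0 (0 + 1) = 0 := rfl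
    rw [this, zero_comp, comp_zero]
  have hf := isStrict_f_of_shortExact S hS
  have := mono_f_of_shortExact S hS
  obtain ⟨y, hy⟩ := exists_ext_of_strict_mono S.f hf (hI 0) a0
  obtain ⟨w', hw'⟩ := exists_desc_of_shortExact S hS (hI (0 + 1)) (y ≫ I.d 0 (0 + 1))
    (by rw [← Category.assoc, hy, ha0])
  have hw'd : w' ≫ I.d (0 + 1) (0 + 1 + 1) = 0 := by
    apply comp_eq_zero_of_shortExact S hS
    rw [← Category.assoc, hw', Category.assoc, I.d_comp_d, comp_zero]
  -- the morphism `Z[0] ⟶ I⟦1⟧`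
  let ω : (CochainComplex.singleFunctor (FilF A) 0).obj S.X₃ ⟶ I⟦(1 : ℤ)⟧ :=
    mkHomFromSingle (K := I⟦(1 : ℤ)⟧) (j := 0) (-w') (by
      intro k hk
      obtain rfl : 0 + 1 = k := hk
      rw [CochainComplex.shiftFunctor_obj_d', Int.negOnePow_one, Units.neg_smul, one_smul]
      change (-w') ≫ (-(I.d (0 + 1) (0 + 1 + 1))) = 0
      rw [Preadditive.neg_comp, Preadditive.comp_neg, hw'd, neg_zero, neg_zero])
  have hω : ω.f 0 = eZ.hom ≫ (-w') := mkHomFromSingle_f (K := I⟦(1 : ℤ)⟧) (j := 0) (-w') _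
  have : (I⟦(1 : ℤ)⟧).IsStrictlyGE (0 - 1) := I.isStrictlyGE_shift 0 1 (0 - 1) (by omega)
  obtain ⟨β', hβ'⟩ := (precomp_filteredQuasiIso_bijective (I⟦(1 : ℤ)⟧) (0 - 1)
    (fun n => hI (n + 1)) c hc).2 ((HomotopyCategory.quotient _ _).map ω)
  obtain ⟨τ, rfl⟩ := (HomotopyCategory.quotient _ _).map_surjective β'
  dsimp only at hβ'
  rw [← Functor.map_comp] at hβ'
  have H : Homotopy (c ≫ τ) ω := HomotopyCategory.homotopyOfEq _ _ hβ'
  have hH := H.comm 0
  rw [dNext_eq H.hom (show (ComplexShape.up ℤ).Rel 0 1 by simp),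
    prevD_eq H.hom (show (ComplexShape.up ℤ).Rel (-1) 0 by simp)] at hH
  have hd0 : ((CochainComplex.singleFunctor (FilF A) 0).obj S.X₃).d 0 1 = 0 := rfl
  rw [hd0, zero_comp, zero_add, hω, CochainComplex.shiftFunctor_obj_d', Int.negOnePow_one,
    Units.neg_smul, one_smul] at hH
  let hm : ((CochainComplex.singleFunctor (FilF A) 0).obj S.X₃).X 0 ⟶ I.X (-1 + 1) := H.hom 0 (-1)
  have hH' : c.f 0 ≫ twistτ I J τ 0 = hm ≫ (-(I.d (-1 + 1) (0 + 1))) + eZ.hom ≫ (-w') := hH
  let h₁ : S.X₃ ⟶ I.X 0 := eZ.inv ≫ hm ≫ (I.XIsoOfEq (show (-1 : ℤ) + 1 = 0 by norm_num)).hom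
  have key : c0 ≫ twistτ I J τ 0 = -(h₁ ≫ I.d 0 (0 + 1)) - w' := by
    dsimp only [c0, h₁]
    rw [Category.assoc, hH', Preadditive.comp_add, Iso.inv_hom_id_assoc, Category.assoc,
      Category.assoc, HomologicalComplex.XIsoOfEq_hom_comp_d,
      Preadditive.comp_neg, Preadditive.comp_neg, sub_eq_add_neg]
  let y' : S.X₂ ⟶ I.X 0 := y + S.g ≫ h₁
  have hy' : S.f ≫ y' = a0 := by
    dsimp only [y']
    rw [Preadditive.comp_add, hy, S.zero_assoc, zero_comp, add_zero]
  have hb0 : (biprod.lift y' (S.g ≫ c0) : S.X₂ ⟶ I.X 0 ⊞ J.X 0) ≫ twistD I J τ 0 = 0 := by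
    unfold twistD
    rw [biprod.lift_desc]
    apply biprod.hom_ext
    · simp only [Preadditive.add_comp, Category.assoc, biprod.inl_fst, biprod.lift_fst,
        Category.comp_id, zero_comp]
      rw [key]
      dsimp only [y']
      rw [Preadditive.add_comp, Preadditive.comp_sub, Preadditive.comp_neg, hw', Category.assoc]
      abel
    · simp only [Preadditive.add_comp, Category.assoc, biprod.inl_snd, biprod.lift_snd,
        comp_zero, zero_comp, zero_add]
      rw [hc0, comp_zero]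
  let b : (CochainComplex.singleFunctor (FilF A) 0).obj S.X₂ ⟶ twist I J τ :=
    mkHomFromSingle (K := twist I J τ) (j := 0) (biprod.lift y' (S.g ≫ c0)) (by
      intro k hk
      obtain rfl : 0 + 1 = k := hk
      rw [twist_d]
      exact hb0)
  have hbf : b.f 0 = eY.hom ≫ biprod.lift y' (S.g ≫ c0) :=
    mkHomFromSingle_f (K := twist I J τ) (j := 0) (biprod.lift y' (S.g ≫ c0)) _
  have hmapf : ((CochainComplex.singleFunctor (FilF A) 0).map S.f).f 0 =
      eX.hom ≫ S.f ≫ eY.inv := single_map_f_self (ComplexShape.up ℤ) 0 S.f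
  have hmapg : ((CochainComplex.singleFunctor (FilF A) 0).map S.g).f 0 =
      eY.hom ≫ S.g ≫ eZ.inv := single_map_f_self (ComplexShape.up ℤ) 0 S.g
  refine ⟨twist I J τ, twistInl I J τ, twistSnd I J τ, b, ?_, ?_, ?_⟩
  · intro n
    exact ⟨biprod.fst, biprod.inr, biprod.inl_fst, biprod.inr_snd, biprod.inl_snd, biprod.total⟩
  · apply from_single_hom_ext
    rw [comp_f, comp_f, hbf, hmapf]
    simp only [Category.assoc, Iso.inv_hom_id_assoc]
    dsimp only [twistInl]
    apply biprod.hom_ext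
    · simp only [Category.assoc, biprod.inl_fst, biprod.lift_fst, Category.comp_id]
      rw [hy']
      dsimp only [a0]
      rw [Iso.hom_inv_id_assoc]
    · simp only [Category.assoc, biprod.inl_snd, biprod.lift_snd, comp_zero]
      rw [S.zero_assoc, zero_comp, comp_zero]
  · apply from_single_hom_ext
    rw [comp_f, comp_f, hbf, hmapg]
    dsimp only [twistSnd, c0]
    simp only [Category.assoc, biprod.lift_snd] <;> rfl

end horseshoe

end Groth.Agent.Lib.FilD65
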