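import Groth.Agent.Lib.FilD65Gr
import Mathlib.CategoryTheory.Limits.Shapes.Biproducts
import Mathlib.Data.Fintype.Order

/-!
# FilD65Jsum: the filtered objects `⊕ J i ⟨deg i⟩`
-/

universe w v u

set_option linter.unusedSectionVars false

open CategoryTheory CategoryTheory.Limits Opposite FilD

namespace Groth.Agent.Lib.FilD65

variable {A : Type u} [Category.{v} A] [Abelian A]

attribute [local instance] CategoryTheory.Abelian.hasFiniteBiproducts

section Jsum

variable {ι : Type w} [Finite ι] (J : ι → A) (deg : ι → ℤ)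

/-- Level `q` of `⊕ J i ⟨deg i⟩`: the sum of the `J i` with `q ≤ deg i`. -/
noncomputable def JsumLev (q : ℤ) : A := ⨁ (fun i : {i : ι // q ≤ deg i} => J i.1)

/-- Inclusion of a summand in a level. -/
noncomputable def JsumLevι (q : ℤ) (i : ι) (hi : q ≤ deg i) : J i ⟶ JsumLev J deg q :=
  biproduct.ι (fun i : {i : ι // q ≤ deg i} => J i.1) ⟨i, hi⟩

/-- Projection of a level to a summand. -/
noncomputable def JsumLevπ (q : ℤ) (i : ι) (hi : q ≤ deg i) : JsumLev J deg q ⟶ J i :=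
  biproduct.π (fun i : {i : ι // q ≤ deg i} => J i.1) ⟨i, hi⟩

lemma JsumLev_hom_ext {q : ℤ} {T : A} {f g : T ⟶ JsumLev J deg q}
    (h : ∀ i hi, f ≫ JsumLevπ J deg q i hi = g ≫ JsumLevπ J deg q i hi) : f = g :=
  biproduct.hom_ext _ _ (fun j => h j.1 j.2)

lemma JsumLev_hom_ext' {q : ℤ} {T : A} {f g : JsumLev J deg q ⟶ T}
    (h : ∀ i hi, JsumLevι J deg q i hi ≫ f = JsumLevι J deg q i hi ≫ g) : f = g :=
  biproduct.hom_ext' _ _ (fun j => h j.1 j.2)

@[reassoc (attr := simp)] lemma JsumLevι_π_self (q : ℤ) (i : ι) (hi : q ≤ deg i) :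
    JsumLevι J deg q i hi ≫ JsumLevπ J deg q i hi = 𝟙 _ :=
  biproduct.ι_π_self _ _

@[reassoc] lemma JsumLevι_π_ne (q : ℤ) (i i' : ι) (hi : q ≤ deg i) (hi' : q ≤ deg i')
    (h : i ≠ i') : JsumLevι J deg q i hi ≫ JsumLevπ J deg q i' hi' = 0 :=
  biproduct.ι_π_ne _ (fun h' => h (congrArg Subtype.val h'))

/-- Maps out of a level. -/
noncomputable def JsumLevDesc (q : ℤ) {T : A} (g : ∀ i, q ≤ deg i → (J i ⟶ T)) :
    JsumLev J deg q ⟶ T :=
  biproduct.desc (fun i : {i : ι // q ≤ deg i} => g i.1 i.2)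

@[reassoc (attr := simp)] lemma JsumLevι_desc (q : ℤ) {T : A} (g : ∀ i, q ≤ deg i → (J i ⟶ T))
    (i : ι) (hi : q ≤ deg i) : JsumLevι J deg q i hi ≫ JsumLevDesc J deg q g = g i hi :=
  biproduct.ι_desc _ _

/-- Maps into a level. -/
noncomputable def JsumLevLift (q : ℤ) {T : A} (f : ∀ i, q ≤ deg i → (T ⟶ J i)) :
    T ⟶ JsumLev J deg q :=
  biproduct.lift (fun i : {i : ι // q ≤ deg i} => f i.1 i.2)

@[reassoc (attr := simp)] lemma JsumLevLift_π (q : ℤ) {T : A} (f : ∀ i, q ≤ deg i → (T ⟶ J i))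
    (i : ι) (hi : q ≤ deg i) : JsumLevLift J deg q f ≫ JsumLevπ J deg q i hi = f i hi :=
  biproduct.lift_π _ _

open Classical in
/-- Transition maps of `⊕ J i ⟨deg i⟩` (defined for all `q p`; the relevant ones are `p ≤ q`). -/
noncomputable def JsumTr (q p : ℤ) : JsumLev J deg q ⟶ JsumLev J deg p :=
  JsumLevDesc J deg q (fun i _ => if h : p ≤ deg i then JsumLevι J deg p i h else 0)

@[reassoc] lemma JsumLevι_tr {p q : ℤ} (i : ι) (hi : q ≤ deg i) (hi' : p ≤ deg i) :
    JsumLevι J deg q i hi ≫ JsumTr J deg q p = JsumLevι J deg p i hi' := by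
  unfold JsumTr
  rw [JsumLevι_desc, dif_pos hi']

@[reassoc] lemma JsumLevι_tr_eq_zero {p q : ℤ} (i : ι) (hi : q ≤ deg i) (hi' : ¬ p ≤ deg i) :
    JsumLevι J deg q i hi ≫ JsumTr J deg q p = 0 := by
  unfold JsumTr
  rw [JsumLevι_desc, dif_neg hi']

@[reassoc] lemma JsumTr_π {p q : ℤ} (i : ι) (hi : q ≤ deg i) (hi' : p ≤ deg i) :
    JsumTr J deg q p ≫ JsumLevπ J deg p i hi' = JsumLevπ J deg q i hi := by
  apply JsumLev_hom_ext'
  intro j hj
  by_cases hj' : p ≤ deg j
  · rw [JsumLevι_tr_assoc J deg j hj hj']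
    by_cases hji : j = i
    · subst hji; simp
    · rw [JsumLevι_π_ne J deg _ _ _ _ _ hji, JsumLevι_π_ne J deg _ _ _ _ _ hji]
  · rw [JsumLevι_tr_eq_zero_assoc J deg j hj hj', zero_comp]
    have hji : j ≠ i := fun h => hj' (h ▸ hi')
    rw [JsumLevι_π_ne J deg _ _ _ _ _ hji]

@[reassoc] lemma JsumTr_π_eq_zero {p q : ℤ} (i : ι) (hi : ¬ q ≤ deg i) (hi' : p ≤ deg i) :
    JsumTr J deg q p ≫ JsumLevπ J deg p i hi' = 0 := by
  apply JsumLev_hom_ext'
  intro j hj
  rw [comp_zero]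
  have hji : j ≠ i := fun h => hi (h ▸ hj)
  by_cases hj' : p ≤ deg j
  · rw [JsumLevι_tr_assoc J deg j hj hj', JsumLevι_π_ne J deg _ _ _ _ _ hji]
  · rw [JsumLevι_tr_eq_zero_assoc J deg j hj hj', zero_comp]

lemma JsumTr_self (q : ℤ) : JsumTr J deg q q = 𝟙 _ := by
  apply JsumLev_hom_ext'
  intro j hj
  rw [JsumLevι_tr J deg j hj hj, Category.comp_id]

lemma JsumTr_comp {p q r : ℤ} (h : q ≤ r) :
    JsumTr J deg r q ≫ JsumTr J deg q p = JsumTr J deg r p := by
  apply JsumLev_hom_ext'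
  intro j hj
  rw [JsumLevι_tr_assoc J deg j hj (h.trans hj)]
  by_cases hj' : p ≤ deg j
  · rw [JsumLevι_tr J deg j _ hj', JsumLevι_tr J deg j _ hj']
  · rw [JsumLevι_tr_eq_zero J deg j _ hj', JsumLevι_tr_eq_zero J deg j _ hj']

lemma JsumTr_comp' {p q r : ℤ} (h : q ≤ p) :
    JsumTr J deg r q ≫ JsumTr J deg q p = JsumTr J deg r p := by
  apply JsumLev_hom_ext'
  intro j hj
  by_cases hj' : p ≤ deg j
  · rw [JsumLevι_tr_assoc J deg j hj (h.trans hj'), JsumLevι_tr J deg j _ hj',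
      JsumLevι_tr J deg j _ hj']
  · rw [JsumLevι_tr_eq_zero J deg j _ hj']
    by_cases hj'' : q ≤ deg j
    · rw [JsumLevι_tr_assoc J deg j hj hj'', JsumLevι_tr_eq_zero J deg j _ hj']
    · rw [JsumLevι_tr_eq_zero_assoc J deg j hj hj'', zero_comp]

/-- The functor underlying `⊕ J i ⟨deg i⟩`. -/
noncomputable def JsumFunctor : ℤᵒᵖ ⥤ A where
  obj q := JsumLev J deg q.unop
  map {q p} _ := JsumTr J deg q.unop p.unop
  map_id q := JsumTr_self J deg _
  map_comp {r q p} f g := (JsumTr_comp J deg (leOfHom f.unop)).symm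

lemma JsumFunctor_trF {p q : ℤ} (h : p ≤ q) : trF (JsumFunctor J deg) h = JsumTr J deg q p := rfl

lemma JsumTr_retract {p q : ℤ} (h : p ≤ q) : JsumTr J deg q p ≫ JsumTr J deg p q = 𝟙 _ := by
  rw [JsumTr_comp' J deg h, JsumTr_self]

lemma JsumTr_section {p q : ℤ} (hq : ∀ i, q ≤ deg i) :
    JsumTr J deg p q ≫ JsumTr J deg q p = 𝟙 _ := by
  apply JsumLev_hom_ext'
  intro j hj
  rw [JsumLevι_tr_assoc J deg j hj (hq j), JsumLevι_tr J deg j _ hj, Category.comp_id]

lemma isZero_JsumLev (q : ℤ) (hq : ∀ i, deg i < q) : IsZero (JsumLev J deg q) := by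
  rw [IsZero.iff_id_eq_zero]
  apply JsumLev_hom_ext'
  intro j hj
  exact absurd hj (not_le.2 (hq j))

lemma isFinFil_JsumFunctor : IsFinFil A (JsumFunctor J deg) := by
  refine ⟨?_, ?_, ?_⟩
  · intro q p f
    exact (SplitMono.mk _ (JsumTr_retract J deg (leOfHom f.unop))).mono
  · obtain ⟨b, hb⟩ := Finite.bddAbove_range deg
    refine ⟨b + 1, fun p hp => isZero_JsumLev J deg p (fun i => ?_)⟩
    have := hb (Set.mem_range_self i)
    omega
  · obtain ⟨a, ha⟩ := Finite.bddBelow_range deg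
    refine ⟨a, fun q p f hq => ?_⟩
    have hq' : ∀ i, q.unop ≤ deg i := fun i => hq.trans (ha (Set.mem_range_self i))
    exact ⟨JsumTr J deg p.unop q.unop, JsumTr_retract J deg (leOfHom f.unop),
      JsumTr_section J deg hq'⟩

/-- The finite filtered object `⊕ J i ⟨deg i⟩`. -/
noncomputable def Jsum : FilF A := ⟨JsumFunctor J deg, isFinFil_JsumFunctor J deg⟩

lemma Jsum_tr {p q : ℤ} (h : p ≤ q) : tr (Jsum J deg) h = JsumTr J deg q p := rfl

/-- Inclusion of a summand in a level of `Jsum`. -/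
noncomputable def Jsumι (q : ℤ) (i : ι) (hi : q ≤ deg i) : J i ⟶ lev (Jsum J deg) q :=
  JsumLevι J deg q i hi

/-- Projection of a level of `Jsum` to a summand. -/
noncomputable def Jsumπ (q : ℤ) (i : ι) (hi : q ≤ deg i) : lev (Jsum J deg) q ⟶ J i :=
  JsumLevπ J deg q i hi

lemma Jsum_hom_ext {q : ℤ} {T : A} {f g : T ⟶ lev (Jsum J deg) q}
    (h : ∀ i hi, f ≫ Jsumπ J deg q i hi = g ≫ Jsumπ J deg q i hi) : f = g :=
  JsumLev_hom_ext J deg h

lemma Jsum_hom_ext' {q : ℤ} {T : A} {f g : lev (Jsum J deg) q ⟶ T}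
    (h : ∀ i hi, Jsumι J deg q i hi ≫ f = Jsumι J deg q i hi ≫ g) : f = g :=
  JsumLev_hom_ext' J deg h

@[reassoc (attr := simp)] lemma Jsumι_π_self (q : ℤ) (i : ι) (hi : q ≤ deg i) :
    Jsumι J deg q i hi ≫ Jsumπ J deg q i hi = 𝟙 _ :=
  JsumLevι_π_self J deg q i hi

@[reassoc] lemma Jsumι_π_ne (q : ℤ) (i i' : ι) (hi : q ≤ deg i) (hi' : q ≤ deg i')
    (h : i ≠ i') : Jsumι J deg q i hi ≫ Jsumπ J deg q i' hi' = 0 :=
  JsumLevι_π_ne J deg q i i' hi hi' h

@[reassoc] lemma Jsumι_tr {p q : ℤ} (h : p ≤ q) (i : ι) (hi : q ≤ deg i) (hi' : p ≤ deg i) :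
    Jsumι J deg q i hi ≫ tr (Jsum J deg) h = Jsumι J deg p i hi' :=
  JsumLevι_tr J deg i hi hi'

@[reassoc] lemma tr_Jsumπ {p q : ℤ} (h : p ≤ q) (i : ι) (hi : q ≤ deg i) (hi' : p ≤ deg i) :
    tr (Jsum J deg) h ≫ Jsumπ J deg p i hi' = Jsumπ J deg q i hi :=
  JsumTr_π J deg i hi hi'

@[reassoc] lemma tr_Jsumπ_eq_zero {p q : ℤ} (h : p ≤ q) (i : ι) (hi : ¬ q ≤ deg i)
    (hi' : p ≤ deg i) : tr (Jsum J deg) h ≫ Jsumπ J deg p i hi' = 0 :=
  JsumTr_π_eq_zero J deg i hi hi'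

variable {J deg}

/-- A morphism out of `⊕ J i ⟨deg i⟩` from maps `J i ⟶ X (deg i)`. -/
noncomputable def JsumDesc (X : FilF A) (g : ∀ i, J i ⟶ lev X (deg i)) : Jsum J deg ⟶ X :=
  ObjectProperty.homMk
    { app := fun q => JsumLevDesc J deg q.unop (fun i hi => g i ≫ tr X hi)
      naturality := by
        intro q p f
        have hpq : p.unop ≤ q.unop := leOfHom f.unop
        show JsumTr J deg q.unop p.unop ≫ JsumLevDesc J deg p.unop (fun i hi => g i ≫ tr X hi) =
          JsumLevDesc J deg q.unop (fun i hi => g i ≫ tr X hi) ≫ X.obj.map f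
        apply JsumLev_hom_ext'
        intro i hi
        rw [JsumLevι_tr_assoc J deg i hi (hpq.trans hi), JsumLevι_desc, JsumLevι_desc_assoc,
          map_eq_trF, Category.assoc, trF_comp] }

@[reassoc] lemma Jsumι_JsumDesc_app (X : FilF A) (g : ∀ i, J i ⟶ lev X (deg i)) (q : ℤ) (i : ι)
    (hi : q ≤ deg i) :
    Jsumι J deg q i hi ≫ app (JsumDesc X g) q = g i ≫ tr X hi := by
  show JsumLevι J deg q i hi ≫ JsumLevDesc J deg q (fun i hi => g i ≫ tr X hi) = _
  exact JsumLevι_desc _ _ _ _ _ _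

/-- A morphism into `⊕ J i ⟨deg i⟩` from a compatible family of maps `X q ⟶ J i`, vanishing for
`q > deg i`. -/
noncomputable def JsumLift (X : FilF A) (f : ∀ (i : ι) (q : ℤ), lev X q ⟶ J i)
    (h1 : ∀ (i : ι) (p q : ℤ) (h : p ≤ q), tr X h ≫ f i p = f i q)
    (h2 : ∀ (i : ι) (q : ℤ), deg i < q → f i q = 0) : X ⟶ Jsum J deg :=
  ObjectProperty.homMk
    { app := fun q => JsumLevLift J deg q.unop (fun i _ => f i q.unop)
      naturality := by
        intro q p g
        have hpq : p.unop ≤ q.unop := leOfHom g.unop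
        show X.obj.map g ≫ JsumLevLift J deg p.unop (fun i _ => f i p.unop) =
          JsumLevLift J deg q.unop (fun i _ => f i q.unop) ≫ JsumTr J deg q.unop p.unop
        apply JsumLev_hom_ext
        intro i hi
        by_cases hi' : q.unop ≤ deg i
        · rw [Category.assoc, Category.assoc, JsumTr_π J deg i hi' hi, JsumLevLift_π,
            JsumLevLift_π, map_eq_trF]
          exact h1 i _ _ _
        · rw [Category.assoc, Category.assoc, JsumTr_π_eq_zero J deg i hi' hi, comp_zero,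
            JsumLevLift_π, map_eq_trF]
          rw [h1 i _ _ hpq]
          exact h2 i _ (not_le.1 hi') }

@[reassoc] lemma JsumLift_app_π (X : FilF A) (f : ∀ (i : ι) (q : ℤ), lev X q ⟶ J i) (h1 h2)
    (q : ℤ) (i : ι) (hi : q ≤ deg i) :
    app (JsumLift X f h1 h2) q ≫ Jsumπ J deg q i hi = f i q := by
  show JsumLevLift J deg q (fun i _ => f i q) ≫ JsumLevπ J deg q i hi = _
  exact JsumLevLift_π _ _ _ _ _ _

lemma injective_JsumLev (hJ : ∀ i, Injective (J i)) (q : ℤ) : Injective (JsumLev J deg q) :=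
  ⟨fun {X Y} g f _ => ⟨JsumLevLift J deg q
      (fun i hi => Injective.factorThru (g ≫ JsumLevπ J deg q i hi) f), by
    apply JsumLev_hom_ext
    intro i hi
    rw [Category.assoc, JsumLevLift_π, Injective.comp_factorThru]⟩⟩

end Jsum

lemma injective_cokernel_of_retraction {U V : A} (s : U ⟶ V) (r : V ⟶ U) (h : s ≫ r = 𝟙 U)
    [Injective V] : Injective (cokernel s) := by
  let i : cokernel s ⟶ V := cokernel.desc s (𝟙 V - r ≫ s)
    (by rw [Preadditive.comp_sub, Category.comp_id, ← Category.assoc, h, Category.id_comp,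
      sub_self])
  have hi : i ≫ cokernel.π s = 𝟙 _ := by
    rw [← cancel_epi (cokernel.π s)]
    dsimp only [i]
    rw [cokernel.π_desc_assoc, Preadditive.sub_comp, Category.id_comp, Category.assoc,
      cokernel.condition, comp_zero, sub_zero, Category.comp_id]
  exact (Retract.mk i (cokernel.π s) hi).injective

lemma isFilteredInjective_Jsum {ι : Type w} [Finite ι] {J : ι → A} {deg : ι → ℤ}
    (hJ : ∀ i, Injective (J i)) : IsFilteredInjective (Jsum J deg) := by
  intro p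
  have : Injective (JsumLev J deg p) := injective_JsumLev hJ p
  exact injective_cokernel_of_retraction (JsumTr J deg (p + 1) p) (JsumTr J deg p (p + 1))
    (JsumTr_retract J deg (le_succ' p))

/-! ### Components of morphisms: additive structure -/

@[simp] lemma app_zero (X Y : FilF A) (p : ℤ) : app (0 : X ⟶ Y) p = 0 := rfl

@[simp] lemma app_add {X Y : FilF A} (f g : X ⟶ Y) (p : ℤ) : app (f + g) p = app f p + app g p :=
  rfl

@[simp] lemma app_sub {X Y : FilF A} (f g : X ⟶ Y) (p : ℤ) : app (f - g) p = app f p - app g p :=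
  rfl

@[simp] lemma app_neg {X Y : FilF A} (f : X ⟶ Y) (p : ℤ) : app (-f) p = - app f p :=
  rfl

/-! ### Monomorphisms of `Fil^f(A)` are levelwise monomorphisms -/

lemma mono_app_of_mono {X Y : FilF A} (u : X ⟶ Y) [Mono u] (p : ℤ) : Mono (app u p) := by
  rw [Preadditive.mono_iff_cancel_zero]
  intro K k hk
  let t : Jsum (ι := PUnit.{1}) (fun _ => K) (fun _ => p) ⟶ X := JsumDesc X (fun _ => k)
  have ht : t ≫ u = 0 := by
    apply hom_ext'
    intro q
    rw [comp_app, app_zero]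
    apply Jsum_hom_ext'
    intro i hi
    rw [← Category.assoc, Jsumι_JsumDesc_app, Category.assoc, tr_app, ← Category.assoc, hk,
      zero_comp, comp_zero]
  have ht0 : t = 0 := by rw [← cancel_mono u, ht, zero_comp]
  have := Jsumι_JsumDesc_app (J := fun _ : PUnit.{1} => K) (deg := fun _ => p) X (fun _ => k)
    p PUnit.unit le_rfl
  change _ ≫ app t p = _ at this
  rw [ht0, app_zero, comp_zero] at this
  have h3 : k ≫ tr X (le_refl p) = 0 := this.symm
  rwa [tr_refl, Category.comp_id] at h3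

lemma mono_of_mono_app {X Y : FilF A} (u : X ⟶ Y) (h : ∀ p, Mono (app u p)) : Mono u := by
  constructor
  intro Z f g hfg
  apply hom_ext'
  intro p
  have := h p
  rw [← cancel_mono (app u p), ← comp_app, ← comp_app, hfg]

lemma mono_iff_mono_app {X Y : FilF A} (u : X ⟶ Y) : Mono u ↔ ∀ p, Mono (app u p) :=
  ⟨fun _ => mono_app_of_mono u, mono_of_mono_app u⟩

end Groth.Agent.Lib.FilD65
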