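import Groth.Agent.Lib.FilD65Exact

/-!
# FilD65Ker: strictness in terms of the graded pieces of the (levelwise) kernel (S1086)
-/

universe w v u

set_option linter.unusedSectionVars false

open CategoryTheory CategoryTheory.Limits Opposite FilD

namespace Groth.Agent.Lib.FilD65

variable {A : Type u} [Category.{v} A] [Abelian A]

/-- The kernel in the functor category is computed levelwise: lifting property. -/
lemma exists_lift_kernel_app {F G : ℤᵒᵖ ⥤ A} (φ : F ⟶ G) (P : ℤᵒᵖ) {T : A} (t : T ⟶ F.obj P)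
    (ht : t ≫ φ.app P = 0) : ∃ k : T ⟶ (kernel φ).obj P, k ≫ (kernel.ι φ).app P = t := by
  have hl := KernelFork.mapIsLimit _ (kernelIsKernel φ) ((evaluation ℤᵒᵖ A).obj P)
  obtain ⟨k, hk⟩ := KernelFork.IsLimit.lift' hl t ht
  exact ⟨k, hk⟩

@[reassoc] lemma kernel_ι_app_comp {F G : ℤᵒᵖ ⥤ A} (φ : F ⟶ G) (P : ℤᵒᵖ) :
    (kernel.ι φ).app P ≫ φ.app P = 0 := by
  rw [← NatTrans.comp_app, kernel.condition]
  rfl

lemma gr_kernel_exact_iff {X Y : FilF A} (φ : X ⟶ Y) (p : ℤ) :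
    ((ShortComplex.mk (kernel.ι φ.hom) φ.hom (kernel.condition φ.hom)).map (gr A p)).Exact ↔
      ∀ ⦃T : A⦄ (xbar : T ⟶ (gr A p).obj X.obj), xbar ≫ (gr A p).map φ.hom = 0 →
        ∃ (T' : A) (π : T' ⟶ T) (_ : Epi π) (k : T' ⟶ (gr A p).obj (kernel φ.hom)),
          π ≫ xbar = k ≫ (gr A p).map (kernel.ι φ.hom) := by
  rw [ShortComplex.exact_iff_exact_up_to_refinements]
  rfl

/-- S1086 in library form. -/
theorem isStrict_iff_gr_kernel_exact {X Y : FilF A} (φ : X ⟶ Y) :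
    IsStrict φ ↔
      ∀ p : ℤ, ((ShortComplex.mk (kernel.ι φ.hom) φ.hom (kernel.condition φ.hom)).map
        (gr A p)).Exact := by
  constructor
  · intro hφ p
    rw [gr_kernel_exact_iff]
    intro T xbar hxbar
    obtain ⟨T1, π1, hπ1, x, hx⟩ := exists_lift_grπ X.obj p xbar
    have h1 : (x ≫ app φ p) ≫ grπ Y.obj p = 0 := by
      rw [Category.assoc]
      change x ≫ φ.hom.app (op p) ≫ _ = 0
      rw [← grπ_naturality, ← Category.assoc, ← hx, Category.assoc, hxbar, comp_zero]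
    obtain ⟨y, hy⟩ := exists_lift_of_comp_grπ_eq_zero Y.obj p _ h1
    obtain ⟨T2, π2, hπ2, x', hx'⟩ := (isStrict_iff φ).1 hφ p (p + 1) (le_succ' p) x y hy.symm
    have h2 : (π2 ≫ x - x' ≫ tr X (le_succ' p)) ≫ φ.hom.app (op p) = 0 := by
      change (π2 ≫ x - x' ≫ tr X (le_succ' p)) ≫ app φ p = 0
      rw [Preadditive.sub_comp, Category.assoc, Category.assoc, tr_app, ← Category.assoc x', hx',
        ← hy]
      simp
    obtain ⟨k, hk⟩ := exists_lift_kernel_app φ.hom (op p) _ h2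
    refine ⟨T2, π2 ≫ π1, inferInstance, k ≫ grπ (kernel φ.hom) p, ?_⟩
    have e : (k ≫ grπ (kernel φ.hom) p) ≫ (gr A p).map (kernel.ι φ.hom) =
        π2 ≫ x ≫ grπ X.obj p := by
      rw [Category.assoc, grπ_naturality, ← Category.assoc, hk, Preadditive.sub_comp,
        Category.assoc, Category.assoc]
      change _ - x' ≫ trF X.obj _ ≫ grπ X.obj p = _
      rw [trF_grπ, comp_zero, sub_zero]
    rw [e, Category.assoc, hx]
  · intro H
    apply isStrict_of_step
    intro p T x y hxy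
    have hp := (gr_kernel_exact_iff φ p).1 (H p)
    have h1 : (x ≫ grπ X.obj p) ≫ (gr A p).map φ.hom = 0 := by
      rw [Category.assoc, grπ_naturality, ← Category.assoc]
      change (x ≫ app φ p) ≫ _ = 0
      rw [hxy, Category.assoc]
      change y ≫ trF Y.obj _ ≫ _ = 0
      rw [trF_grπ, comp_zero]
    obtain ⟨T1, π1, hπ1, kbar, hkbar⟩ := hp (x ≫ grπ X.obj p) h1
    obtain ⟨T2, π2, hπ2, k, hk⟩ := exists_lift_grπ (kernel φ.hom) p kbar
    have h2 : (π2 ≫ π1 ≫ x - k ≫ (kernel.ι φ.hom).app (op p)) ≫ grπ X.obj p = 0 := by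
      rw [Preadditive.sub_comp, Category.assoc, Category.assoc, Category.assoc, hkbar,
        ← grπ_naturality, ← Category.assoc k, ← hk, Category.assoc, sub_self]
    obtain ⟨x', hx'⟩ := exists_lift_of_comp_grπ_eq_zero X.obj p _ h2
    refine ⟨T2, π2 ≫ π1, inferInstance, x', ?_⟩
    rw [← cancel_mono (tr Y (le_succ' p)), Category.assoc, ← tr_app, ← Category.assoc]
    change (x' ≫ trF X.obj _) ≫ _ = _
    rw [hx', Preadditive.sub_comp, Category.assoc, Category.assoc, Category.assoc]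
    change π2 ≫ π1 ≫ x ≫ app φ p - k ≫ (kernel.ι φ.hom).app (op p) ≫ φ.hom.app (op p) = _
    rw [kernel_ι_app_comp, comp_zero, sub_zero, hxy]
    simp

end Groth.Agent.Lib.FilD65
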