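import Groth.Agent.Lib.FilD65Cone
import Mathlib.Algebra.Homology.HomotopyCategory.SingleFunctors

/-!
# FilD65Res: maps between filtered injective resolutions (S1090)
-/

universe w v u

set_option linter.unusedSectionVars false

open CategoryTheory CategoryTheory.Limits Opposite FilD

namespace Groth.Agent.Lib.FilD65

variable {A : Type u} [Category.{v} A] [Abelian A]

/-- Homotopic maps from a complex concentrated in degree `0` to a complex in degrees `≥ 0` are
equal. -/
lemma eq_of_homotopy_single {C : Type*} [Category C] [Preadditive C] [HasZeroObject C] {X : C}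
    {J : CochainComplex C ℤ} [J.IsStrictlyGE 0]
    (g1 g2 : (CochainComplex.singleFunctor C 0).obj X ⟶ J) (h : Homotopy g1 g2) : g1 = g2 := by
  ext n
  by_cases hn : n = 0
  · subst hn
    have := h.comm 0
    rw [dNext_eq h.hom (show (ComplexShape.up ℤ).Rel 0 1 by simp),
      prevD_eq h.hom (show (ComplexShape.up ℤ).Rel (-1) 0 by simp)] at this
    have h1 : h.hom 0 (-1) = 0 := (J.isZero_of_isStrictlyGE 0 (-1) (by omega)).eq_of_tgt _ _
    have h2 : ((CochainComplex.singleFunctor C 0).obj X).d 0 1 = 0 :=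
      (HomologicalComplex.isZero_single_obj_X (ComplexShape.up ℤ) 0 X 1 (by omega)).eq_of_tgt _ _
    rw [h1, h2, zero_comp, zero_comp, zero_add, zero_add] at this
    exact this
  · exact (HomologicalComplex.isZero_single_obj_X (ComplexShape.up ℤ) 0 X n hn).eq_of_src _ _

/-- S1090 in library form. -/
theorem filteredInjective_resolution_map {X Y : FilF A} (f : X ⟶ Y)
    (I : CochainComplex (FilF A) ℤ) [I.IsStrictlyGE 0] (hI : ∀ n, IsFilteredInjective (I.X n))
    (a : (CochainComplex.singleFunctor (FilF A) 0).obj X ⟶ I) (ha : IsFilteredQuasiIso a)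
    (J : CochainComplex (FilF A) ℤ) [J.IsStrictlyGE 0] (hJ : ∀ n, IsFilteredInjective (J.X n))
    (b : (CochainComplex.singleFunctor (FilF A) 0).obj Y ⟶ J) :
    ∃ φ : I ⟶ J, a ≫ φ = (CochainComplex.singleFunctor (FilF A) 0).map f ≫ b := by
  obtain ⟨β, hβ⟩ := (precomp_filteredQuasiIso_bijective J 0 hJ a ha).2
    ((HomotopyCategory.quotient _ _).map ((CochainComplex.singleFunctor (FilF A) 0).map f ≫ b))
  obtain ⟨φ, rfl⟩ := (HomotopyCategory.quotient _ _).map_surjective β
  dsimp only at hβ
  rw [← Functor.map_comp] at hβ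
  exact ⟨φ, eq_of_homotopy_single _ _ (HomotopyCategory.homotopyOfEq _ _ hβ)⟩

end Groth.Agent.Lib.FilD65
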