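import Groth.Agent.Lib.FilD65Coker

/-!
# FilD65ResStep: one step of the construction of filtered injective resolutions of complexes
-/

universe w v u

set_option linter.unusedSectionVars false

open CategoryTheory CategoryTheory.Limits Opposite FilD

namespace Groth.Agent.Lib.FilD65

variable {A : Type u} [Category.{v} A] [Abelian A] [EnoughInjectives A]

section step

variable {C D : FilF A} (δ : C ⟶ D) (hδ : IsStrict δ)

/-- The next filtered injective object: a hull of the cokernel of `δ`. -/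
noncomputable abbrev nextI : FilF A := hullF (cokerF δ hδ)

/-- The map `D ⟶ nextI δ`. -/
noncomputable def nextψ : D ⟶ nextI δ hδ := cokerπ δ hδ ≫ hullι _

lemma isFilteredInjective_nextI : IsFilteredInjective (nextI δ hδ) := isFilteredInjective_hullF _

@[reassoc (attr := simp)] lemma comp_nextψ : δ ≫ nextψ δ hδ = 0 := by
  unfold nextψ
  rw [← Category.assoc, comp_cokerπ, zero_comp]

lemma nextψ_exact (q : ℤ) ⦃T : A⦄ (y : T ⟶ lev D q) (hy : y ≫ app (nextψ δ hδ) q = 0) :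
    ∃ (T' : A) (π : T' ⟶ T) (_ : Epi π) (c : T' ⟶ lev C q), π ≫ y = c ≫ app δ q := by
  apply cokerπ_exact δ hδ q y
  unfold nextψ at hy
  rw [comp_app, ← Category.assoc] at hy
  exact zero_of_comp_mono _ hy

lemma nextψ_strictLift (p q : ℤ) (hpq : p ≤ q) ⦃T : A⦄ (y : T ⟶ lev D p)
    (j : T ⟶ lev (nextI δ hδ) q) (h : y ≫ app (nextψ δ hδ) p = j ≫ tr _ hpq) :
    ∃ (T' : A) (π : T' ⟶ T) (_ : Epi π) (y' : T' ⟶ lev D q) (c : T' ⟶ lev C p),
      π ≫ y = y' ≫ tr D hpq + c ≫ app δ p ∧ y' ≫ app (nextψ δ hδ) q = π ≫ j := by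
  have h' : (y ≫ app (cokerπ δ hδ) p) ≫ app (hullι (cokerF δ hδ)) p = j ≫ tr _ hpq := by
    rw [Category.assoc, ← comp_app]
    exact h
  obtain ⟨T1, π1, hπ1, z', hz'⟩ :=
    (isStrict_iff (hullι (cokerF δ hδ))).1 (isStrict_hullι _) p q hpq _ j h'
  obtain ⟨T2, π2, hπ2, y', hy'⟩ := surjective_up_to_refinements_of_epi (app (cokerπ δ hδ) q) z'
  have h2 : (π2 ≫ π1 ≫ y - y' ≫ tr D hpq) ≫ app (cokerπ δ hδ) p = 0 := by
    rw [← cancel_mono (app (hullι (cokerF δ hδ)) p), zero_comp, Preadditive.sub_comp,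
      Preadditive.sub_comp, sub_eq_zero]
    simp only [Category.assoc]
    have e1 : y ≫ app (cokerπ δ hδ) p ≫ app (hullι (cokerF δ hδ)) p = j ≫ tr _ hpq := by
      rw [← Category.assoc]
      exact h'
    rw [e1, tr_app_assoc, ← Category.assoc y', ← hy', Category.assoc, tr_app, ← Category.assoc z',
      hz', Category.assoc]
  obtain ⟨T3, π3, hπ3, c, hc⟩ := cokerπ_exact δ hδ p _ h2
  refine ⟨T3, π3 ≫ π2 ≫ π1, inferInstance, π3 ≫ y', c, ?_, ?_⟩
  · rw [← hc, Preadditive.comp_sub]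
    simp
  · unfold nextψ
    rw [comp_app, Category.assoc, ← Category.assoc y', ← hy', Category.assoc, hz']
    simp

end step

/-- The data carried along the inductive construction. -/
structure Stage {K1 K2 : FilF A} (dK : K1 ⟶ K2) where
  /-- the current term of the resolution -/
  I : FilF A
  /-- the previous term of the cone -/
  C : FilF A
  /-- the previous differential of the cone -/
  δ : C ⟶ K1 ⊞ I
  hI : IsFilteredInjective I
  hδ : IsStrict δ
  h0 : δ ≫ biprod.fst ≫ dK = 0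
  hM : ∀ (p : ℤ) ⦃T : A⦄ (c : T ⟶ lev C p), c ≫ app (δ ≫ biprod.snd) p = 0 → c ≫ app δ p = 0
  hMS : ∀ (p q : ℤ) (hpq : p ≤ q) ⦃T : A⦄ (c : T ⟶ lev C p) (i : T ⟶ lev I q),
    c ≫ app (δ ≫ biprod.snd) p = i ≫ tr I hpq →
    ∃ (T' : A) (π : T' ⟶ T) (_ : Epi π) (c' : T' ⟶ lev C q),
      c' ≫ app δ q ≫ tr (K1 ⊞ I) hpq = π ≫ c ≫ app δ p ∧ c' ≫ app (δ ≫ biprod.snd) q = π ≫ i

namespace Stage

variable {K1 K2 : FilF A} {dK : K1 ⟶ K2} (s : Stage dK)

/-- The next term of the resolution. -/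
noncomputable abbrev I' : FilF A := nextI s.δ s.hδ

/-- The map from the cone term. -/
noncomputable def ψ : K1 ⊞ s.I ⟶ s.I' := nextψ s.δ s.hδ

/-- The next component of the resolution map. -/
noncomputable def φ' : K1 ⟶ s.I' := biprod.inl ≫ s.ψ

/-- The differential. -/
noncomputable def d : s.I ⟶ s.I' := biprod.inr ≫ s.ψ

lemma ψ_eq : s.ψ = biprod.desc s.φ' s.d := by
  apply biprod.hom_ext' <;> simp [φ', d]

lemma comp_ψ : s.δ ≫ s.ψ = 0 := comp_nextψ _ _

/-- cone exactness -/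
lemma ce (q : ℤ) ⦃T : A⦄ (x : T ⟶ lev K1 q) (i : T ⟶ lev s.I q)
    (h : x ≫ app s.φ' q + i ≫ app s.d q = 0) :
    ∃ (T' : A) (π : T' ⟶ T) (_ : Epi π) (c : T' ⟶ lev s.C q),
      π ≫ x = c ≫ app (s.δ ≫ biprod.fst) q ∧ π ≫ i = c ≫ app (s.δ ≫ biprod.snd) q := by
  have h1 : levPair x i ≫ app s.ψ q = 0 := by
    rw [ψ_eq, levPair_comp_desc]
    exact h
  obtain ⟨T', π, hπ, c, hc⟩ := nextψ_exact s.δ s.hδ q _ h1
  refine ⟨T', π, hπ, c, ?_, ?_⟩
  · rw [comp_app, ← Category.assoc, ← hc, Category.assoc, levPair_fst]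
  · rw [comp_app, ← Category.assoc, ← hc, Category.assoc, levPair_snd]

instance mono_app_φ' (p : ℤ) : Mono (app s.φ' p) := by
  rw [Preadditive.mono_iff_cancel_zero]
  intro T x hx
  obtain ⟨T', π, hπ, c, hc1, hc2⟩ := s.ce p x 0 (by rw [hx, zero_comp, add_zero])
  rw [comp_zero] at hc2
  have := s.hM p c hc2.symm
  rw [← cancel_epi π, comp_zero, hc1, comp_app, ← Category.assoc, this, zero_comp]

lemma isStrict_φ' : IsStrict s.φ' := by
  rw [isStrict_iff]
  intro p q hpq T x j hxj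
  have h1 : levPair x (0 : T ⟶ lev s.I p) ≫ app s.ψ p = j ≫ tr _ hpq := by
    rw [ψ_eq, levPair_comp_desc, zero_comp, add_zero]
    exact hxj
  obtain ⟨T1, π1, hπ1, y', c, hy1, hy2⟩ := nextψ_strictLift s.δ s.hδ p q hpq _ j h1
  have h2 : c ≫ app (s.δ ≫ biprod.snd) p =
      (-(y' ≫ app (biprod.snd : K1 ⊞ s.I ⟶ s.I) q)) ≫ tr s.I hpq := by
    have := congrArg (· ≫ app (biprod.snd : K1 ⊞ s.I ⟶ s.I) p) hy1
    simp only [Category.assoc, levPair_snd, comp_zero, Preadditive.add_comp] at this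
    rw [tr_app] at this
    rw [comp_app, ← Category.assoc, Preadditive.neg_comp, Category.assoc, Category.assoc]
    exact (eq_neg_of_add_eq_zero_right this.symm)
  obtain ⟨T2, π2, hπ2, c', hc1, hc2⟩ := s.hMS p q hpq c _ h2
  let w : T2 ⟶ lev (K1 ⊞ s.I) q := π2 ≫ y' + c' ≫ app s.δ q
  have hw2 : w ≫ app (biprod.snd : K1 ⊞ s.I ⟶ s.I) q = 0 := by
    dsimp only [w]
    rw [Preadditive.add_comp, Category.assoc, Category.assoc, ← comp_app, hc2]
    simp
  have hw : w = levPair (w ≫ app (biprod.fst : K1 ⊞ s.I ⟶ K1) q) 0 := by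
    apply lev_biprod_ext <;> simp [hw2]
  refine ⟨T2, π2 ≫ π1, inferInstance, w ≫ app (biprod.fst : K1 ⊞ s.I ⟶ K1) q, ?_⟩
  have h3 : w ≫ app s.ψ q = (π2 ≫ π1) ≫ j := by
    dsimp only [w]
    rw [Preadditive.add_comp, Category.assoc, Category.assoc, ← comp_app s.δ, s.comp_ψ, app_zero,
      comp_zero, add_zero]
    change π2 ≫ y' ≫ app (nextψ s.δ s.hδ) q = _
    rw [hy2, Category.assoc]
  rw [← h3]
  conv_rhs => rw [hw, ψ_eq, levPair_comp_desc, zero_comp, add_zero]

instance mono_φ' : Mono s.φ' := mono_of_mono_app _ (fun p => inferInstance)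

/-- The next stage. -/
@[reducible] noncomputable def next {K3 : FilF A} (dK' : K2 ⟶ K3) (hd : dK ≫ dK' = 0) : Stage dK' where
  I := s.I'
  C := K1 ⊞ s.I
  δ := biprod.lift (-(biprod.fst ≫ dK)) s.ψ
  hI := isFilteredInjective_nextI _ _
  hδ := by
    rw [isStrict_iff]
    intro p q hpq T y z hyz
    have h1 : y ≫ app s.ψ p = (z ≫ app (biprod.snd : K2 ⊞ s.I' ⟶ s.I') q) ≫ tr _ hpq := by
      have := congrArg (· ≫ app (biprod.snd : K2 ⊞ s.I' ⟶ s.I') p) hyz
      simp only [Category.assoc] at this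
      rw [← comp_app, biprod.lift_snd, tr_app] at this
      rw [this, Category.assoc]
    obtain ⟨T1, π1, hπ1, y', c, hy1, hy2⟩ := nextψ_strictLift s.δ s.hδ p q hpq y _ h1
    refine ⟨T1, π1, hπ1, y', ?_⟩
    rw [← cancel_mono (tr (K2 ⊞ s.I') hpq), Category.assoc, ← tr_app, Category.assoc, ← hyz,
      ← Category.assoc π1, hy1, Preadditive.add_comp, Category.assoc, Category.assoc, ← comp_app s.δ]
    have : s.δ ≫ biprod.lift (-(biprod.fst ≫ dK)) s.ψ = 0 := by
      apply biprod.hom_ext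
      · simp only [Category.assoc, biprod.lift_fst, Preadditive.comp_neg, zero_comp, neg_eq_zero]
        exact s.h0
      · simp only [Category.assoc, biprod.lift_snd, zero_comp]
        exact s.comp_ψ
    rw [this, app_zero, comp_zero, add_zero]
  h0 := by
    rw [← Category.assoc, biprod.lift_fst, Preadditive.neg_comp, Category.assoc, hd, comp_zero,
      neg_zero]
  hM := by
    intro p T y hy
    rw [biprod.lift_snd] at hy
    obtain ⟨T', π, hπ, c, hc⟩ := nextψ_exact s.δ s.hδ p y hy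
    rw [← cancel_epi π, comp_zero, ← Category.assoc, hc, Category.assoc, ← comp_app]
    have : s.δ ≫ biprod.lift (-(biprod.fst ≫ dK)) s.ψ = 0 := by
      apply biprod.hom_ext
      · simp only [Category.assoc, biprod.lift_fst, Preadditive.comp_neg, zero_comp, neg_eq_zero]
        exact s.h0
      · simp only [Category.assoc, biprod.lift_snd, zero_comp]
        exact s.comp_ψ
    rw [this, app_zero, comp_zero]
  hMS := by
    intro p q hpq T y j hyj
    rw [biprod.lift_snd] at hyj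
    obtain ⟨T1, π1, hπ1, y', c, hy1, hy2⟩ := nextψ_strictLift s.δ s.hδ p q hpq y j hyj
    refine ⟨T1, π1, hπ1, y', ?_, ?_⟩
    · rw [← tr_app, ← Category.assoc π1, hy1, Preadditive.add_comp, Category.assoc, Category.assoc,
        ← comp_app s.δ]
      have : s.δ ≫ biprod.lift (-(biprod.fst ≫ dK)) s.ψ = 0 := by
        apply biprod.hom_ext
        · simp only [Category.assoc, biprod.lift_fst, Preadditive.comp_neg, zero_comp,
            neg_eq_zero]
          exact s.h0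
        · simp only [Category.assoc, biprod.lift_snd, zero_comp]
          exact s.comp_ψ
      rw [this, app_zero, comp_zero, add_zero]
    · rw [biprod.lift_snd]
      exact hy2

end Stage

/-- The initial stage. -/
@[reducible] noncomputable def Stage.base {K0 K1 K2 : FilF A} (d0 : K0 ⟶ K1) (d1 : K1 ⟶ K2)
    (hd : d0 ≫ d1 = 0) : Stage d1 where
  I := hullF K0
  C := K0
  δ := biprod.lift (-d0) (hullι K0)
  hI := isFilteredInjective_hullF _
  hδ := by
    rw [isStrict_iff]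
    intro p q hpq T y z hyz
    have h1 : y ≫ app (hullι K0) p =
        (z ≫ app (biprod.snd : K1 ⊞ hullF K0 ⟶ hullF K0) q) ≫ tr _ hpq := by
      have := congrArg (· ≫ app (biprod.snd : K1 ⊞ hullF K0 ⟶ hullF K0) p) hyz
      simp only [Category.assoc] at this
      rw [← comp_app, biprod.lift_snd, tr_app] at this
      rw [this, Category.assoc]
    obtain ⟨T1, π1, hπ1, y', hy'⟩ := (isStrict_iff (hullι K0)).1 (isStrict_hullι K0) p q hpq _ _ h1
    have h2 : y' ≫ tr K0 hpq = π1 ≫ y := by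
      rw [← cancel_mono (app (hullι K0) p)]
      simp only [Category.assoc]
      rw [tr_app, reassoc_of% hy', h1]
      simp only [Category.assoc]
    refine ⟨T1, π1, hπ1, y', ?_⟩
    rw [← cancel_mono (tr (K1 ⊞ hullF K0) hpq), Category.assoc, ← tr_app, ← Category.assoc, h2,
      Category.assoc, Category.assoc, hyz]
  h0 := by
    rw [← Category.assoc, biprod.lift_fst, Preadditive.neg_comp, hd, neg_zero]
  hM := by
    intro p T c hc
    rw [biprod.lift_snd] at hc
    rw [zero_of_comp_mono _ hc, zero_comp]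
  hMS := by
    intro p q hpq T c i hci
    rw [biprod.lift_snd] at hci
    obtain ⟨T1, π1, hπ1, c', hc'⟩ := (isStrict_iff (hullι K0)).1 (isStrict_hullι K0) p q hpq _ _ hci
    have h2 : c' ≫ tr K0 hpq = π1 ≫ c := by
      rw [← cancel_mono (app (hullι K0) p)]
      simp only [Category.assoc]
      rw [tr_app, reassoc_of% hc', hci]
    refine ⟨T1, π1, hπ1, c', ?_, ?_⟩
    · rw [← tr_app, ← Category.assoc, h2, Category.assoc]
    · rw [biprod.lift_snd]
      exact hc'


/-! ### Relations between successive stages -/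

namespace Stage

variable {K1 K2 K3 : FilF A} {dK : K1 ⟶ K2} (s : Stage dK) (dK' : K2 ⟶ K3) (hd : dK ≫ dK' = 0)

lemma next_δ_ψ : biprod.lift (-(biprod.fst ≫ dK)) s.ψ ≫ (s.next dK' hd).ψ = 0 :=
  (s.next dK' hd).comp_ψ

lemma next_rel_φ : s.φ' ≫ (s.next dK' hd).d = dK ≫ (s.next dK' hd).φ' := by
  have h := congrArg (fun f => biprod.inl ≫ f) (s.next_δ_ψ dK' hd)
  simp only [comp_zero] at h
  rw [(s.next dK' hd).ψ_eq, biprod.lift_desc, Preadditive.comp_add, Preadditive.neg_comp,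
    Preadditive.comp_neg, Category.assoc, biprod.inl_fst_assoc] at h
  rw [← sub_eq_zero, sub_eq_neg_add]
  unfold φ'
  rw [Category.assoc]
  exact h

lemma next_rel_d : s.d ≫ (s.next dK' hd).d = 0 := by
  have h := congrArg (fun f => biprod.inr ≫ f) (s.next_δ_ψ dK' hd)
  simp only [comp_zero] at h
  rw [(s.next dK' hd).ψ_eq, biprod.lift_desc, Preadditive.comp_add, Preadditive.neg_comp,
    Preadditive.comp_neg, Category.assoc, biprod.inr_fst_assoc, zero_comp, neg_zero, zero_add] at h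
  unfold d
  rw [Category.assoc]
  exact h

lemma next_ce (q : ℤ) ⦃T : A⦄ (x : T ⟶ lev K2 q) (i : T ⟶ lev s.I' q)
    (h : x ≫ app (s.next dK' hd).φ' q + i ≫ app (s.next dK' hd).d q = 0) :
    ∃ (T' : A) (π : T' ⟶ T) (_ : Epi π) (x' : T' ⟶ lev K1 q) (i' : T' ⟶ lev s.I q),
      π ≫ x = -(x' ≫ app dK q) ∧ π ≫ i = x' ≫ app s.φ' q + i' ≫ app s.d q := by
  obtain ⟨T', π, hπ, c, hc1, hc2⟩ := (s.next dK' hd).ce q x i h
  refine ⟨T', π, hπ, c ≫ app (biprod.fst : K1 ⊞ s.I ⟶ K1) q,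
    c ≫ app (biprod.snd : K1 ⊞ s.I ⟶ s.I) q, ?_, ?_⟩
  · rw [hc1]
    change c ≫ app (biprod.lift (-(biprod.fst ≫ dK)) s.ψ ≫ biprod.fst) q = _
    rw [biprod.lift_fst, app_neg, Preadditive.comp_neg, comp_app, Category.assoc]
  · rw [hc2]
    change c ≫ app (biprod.lift (-(biprod.fst ≫ dK)) s.ψ ≫ biprod.snd) q = _
    rw [biprod.lift_snd, ψ_eq, comp_app_desc]

end Stage

section base

variable {K0 K1 K2 : FilF A} (d0 : K0 ⟶ K1) (d1 : K1 ⟶ K2) (hd : d0 ≫ d1 = 0)

lemma Stage.base_rel : hullι K0 ≫ (Stage.base d0 d1 hd).d = d0 ≫ (Stage.base d0 d1 hd).φ' := by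
  have h : biprod.lift (-d0) (hullι K0) ≫ (Stage.base d0 d1 hd).ψ = 0 :=
    (Stage.base d0 d1 hd).comp_ψ
  rw [(Stage.base d0 d1 hd).ψ_eq, biprod.lift_desc, Preadditive.neg_comp] at h
  rw [← sub_eq_zero, sub_eq_neg_add, add_comm]
  rw [add_comm] at h
  rw [← h]

lemma Stage.base_ce (q : ℤ) ⦃T : A⦄ (x : T ⟶ lev K1 q) (i : T ⟶ lev (hullF K0) q)
    (h : x ≫ app (Stage.base d0 d1 hd).φ' q + i ≫ app (Stage.base d0 d1 hd).d q = 0) :
    ∃ (T' : A) (π : T' ⟶ T) (_ : Epi π) (x' : T' ⟶ lev K0 q),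
      π ≫ x = -(x' ≫ app d0 q) ∧ π ≫ i = x' ≫ app (hullι K0) q := by
  obtain ⟨T', π, hπ, c, hc1, hc2⟩ := (Stage.base d0 d1 hd).ce q x i h
  refine ⟨T', π, hπ, c, ?_, ?_⟩
  · rw [hc1]
    change c ≫ app (biprod.lift (-d0) (hullι K0) ≫ biprod.fst) q = _
    rw [biprod.lift_fst, app_neg, Preadditive.comp_neg]
  · rw [hc2]
    change c ≫ app (biprod.lift (-d0) (hullι K0) ≫ biprod.snd) q = _
    rw [biprod.lift_snd]

end base

/-! ### The construction for a sequence -/

section seq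

variable (X : ℕ → FilF A) (d : ∀ k, X k ⟶ X (k + 1)) (hd : ∀ k, d k ≫ d (k + 1) = 0)

/-- The stages of the construction. -/
noncomputable def stage : ∀ k, Stage (d (k + 1))
  | 0 => Stage.base (d 0) (d 1) (hd 0)
  | k + 1 => (stage k).next (d (k + 1 + 1)) (hd (k + 1))

/-- The terms of the resolution. -/
noncomputable def resX (k : ℕ) : FilF A := (stage X d hd k).I

/-- The differentials of the resolution. -/
noncomputable def resD (k : ℕ) : resX X d hd k ⟶ resX X d hd (k + 1) := (stage X d hd k).d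

/-- The components of the resolution map. -/
noncomputable def resφ : ∀ k, X k ⟶ resX X d hd k
  | 0 => hullι (X 0)
  | k + 1 => (stage X d hd k).φ'

lemma isFilteredInjective_resX (k : ℕ) : IsFilteredInjective (resX X d hd k) :=
  (stage X d hd k).hI

lemma resφ_resD (k : ℕ) : resφ X d hd k ≫ resD X d hd k = d k ≫ resφ X d hd (k + 1) := by
  cases k with
  | zero => exact Stage.base_rel (d 0) (d 1) (hd 0)
  | succ k => exact (stage X d hd k).next_rel_φ (d (k + 1 + 1)) (hd (k + 1))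

lemma resD_resD (k : ℕ) : resD X d hd k ≫ resD X d hd (k + 1) = 0 :=
  (stage X d hd k).next_rel_d (d (k + 1 + 1)) (hd (k + 1))

instance mono_resφ (k : ℕ) : Mono (resφ X d hd k) := by
  cases k with
  | zero => exact inferInstanceAs (Mono (hullι (X 0)))
  | succ k => exact (stage X d hd k).mono_φ'

lemma isStrict_resφ (k : ℕ) : IsStrict (resφ X d hd k) := by
  cases k with
  | zero => exact isStrict_hullι (X 0)
  | succ k => exact (stage X d hd k).isStrict_φ'

lemma res_ce_zero (q : ℤ) ⦃T : A⦄ (x : T ⟶ lev (X 1) q) (i : T ⟶ lev (resX X d hd 0) q)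
    (h : x ≫ app (resφ X d hd 1) q + i ≫ app (resD X d hd 0) q = 0) :
    ∃ (T' : A) (π : T' ⟶ T) (_ : Epi π) (x' : T' ⟶ lev (X 0) q),
      π ≫ x = -(x' ≫ app (d 0) q) ∧ π ≫ i = x' ≫ app (resφ X d hd 0) q :=
  Stage.base_ce (d 0) (d 1) (hd 0) q x i h

lemma res_ce_succ (k : ℕ) (q : ℤ) ⦃T : A⦄ (x : T ⟶ lev (X (k + 1 + 1)) q)
    (i : T ⟶ lev (resX X d hd (k + 1)) q)
    (h : x ≫ app (resφ X d hd (k + 1 + 1)) q + i ≫ app (resD X d hd (k + 1)) q = 0) :
    ∃ (T' : A) (π : T' ⟶ T) (_ : Epi π) (x' : T' ⟶ lev (X (k + 1)) q)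
      (i' : T' ⟶ lev (resX X d hd k) q),
      π ≫ x = -(x' ≫ app (d (k + 1)) q) ∧
        π ≫ i = x' ≫ app (resφ X d hd (k + 1)) q + i' ≫ app (resD X d hd k) q :=
  (stage X d hd k).next_ce (d (k + 1 + 1)) (hd (k + 1)) q x i h

end seq

end Groth.Agent.Lib.FilD65
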