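import Groth.Agent.Lib.FilD65Lev
import Groth.Agent.Lib.FilD65Exact
import Mathlib.Algebra.Homology.Embedding.CochainComplex
import Mathlib.Algebra.Homology.ShortComplex.ExactFunctor
import Mathlib.Algebra.Homology.FullSubcategory
import Mathlib.CategoryTheory.Limits.FunctorCategory.Finite

/-!
# FilD65Trunc: canonical truncations of complexes of finite filtered objects (S1087, S1088)
-/

universe w v u

set_option linter.unusedSectionVars false

open CategoryTheory CategoryTheory.Limits Opposite FilD

namespace Groth.Agent.Lib.FilD65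

variable {A : Type u} [Category.{v} A] [Abelian A]

lemma exact_of_evaluation {J : Type*} [Category J] (S : ShortComplex (J ⥤ A))
    (h : ∀ j, (S.map ((evaluation J A).obj j)).Exact) : S.Exact := by
  simp only [ShortComplex.exact_iff_isZero_homology] at h ⊢
  rw [Functor.isZero_iff]
  intro j
  exact IsZero.of_iso (h j) (S.mapHomologyIso ((evaluation J A).obj j)).symm

/-! ### Stability properties of `IsFinFil` -/

lemma isFinFil_of_iso {F G : ℤᵒᵖ ⥤ A} (e : F ≅ G) (hF : IsFinFil A F) : IsFinFil A G := by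
  obtain ⟨h1, ⟨b, hb⟩, ⟨a, ha⟩⟩ := hF
  have key : ∀ {P Q : ℤᵒᵖ} (f : P ⟶ Q), G.map f = e.inv.app P ≫ F.map f ≫ e.hom.app Q := by
    intro P Q f
    have h := e.inv.naturality f
    calc G.map f = G.map f ≫ (e.inv.app Q ≫ e.hom.app Q) := by
          rw [← NatTrans.comp_app, e.inv_hom_id]; simp
      _ = e.inv.app P ≫ F.map f ≫ e.hom.app Q := by rw [← Category.assoc, h, Category.assoc]
  refine ⟨fun P Q f => ?_, ⟨b, fun p hp => (hb p hp).of_iso (e.app _).symm⟩, ⟨a, fun P Q f hP => ?_⟩⟩
  · have := h1 f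
    rw [key f]
    infer_instance
  · have := ha f hP
    rw [key f]
    infer_instance

instance : (IsFinFil A).IsClosedUnderIsomorphisms where
  of_iso e h := isFinFil_of_iso e h

lemma isFinFil_of_isZero {F : ℤᵒᵖ ⥤ A} (hF : IsZero F) : IsFinFil A F := by
  have hF' := (Functor.isZero_iff F).1 hF
  refine ⟨fun P Q f => ⟨fun g h _ => (hF' _).eq_of_tgt _ _⟩, ⟨0, fun p _ => hF' _⟩,
    ⟨0, fun P Q f _ => ⟨0, (hF' _).eq_of_src _ _, (hF' _).eq_of_src _ _⟩⟩⟩

/-- A (functor category) kernel of a morphism of finite filtered objects is a finite filtered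
object. -/
lemma isFinFil_of_isLimit_kernelFork {F : ℤᵒᵖ ⥤ A} {Y Z : FilF A} (g : Y ⟶ Z) (i : F ⟶ Y.obj)
    (w : i ≫ g.hom = 0) (h : IsLimit (KernelFork.ofι i w)) : IsFinFil A F := by
  have hlim : ∀ P : ℤᵒᵖ, IsLimit (KernelFork.ofι (f := g.hom.app P) (i.app P)
      (by rw [← NatTrans.comp_app, w]; rfl)) := fun P =>
    KernelFork.mapIsLimit _ h ((evaluation ℤᵒᵖ A).obj P)
  have hmono : ∀ P : ℤᵒᵖ, Mono (i.app P) := fun P => mono_of_isLimit_fork (hlim P)
  obtain ⟨bY, hbY⟩ := Y.property.2.1
  obtain ⟨aY, haY⟩ := Y.property.2.2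
  obtain ⟨aZ, haZ⟩ := Z.property.2.2
  refine ⟨fun P Q f => ?_, ⟨bY, fun p hp => ?_⟩, ⟨min aY aZ, fun P Q f hP => ?_⟩⟩
  · have := hmono P
    have : Mono (F.map f ≫ i.app Q) := by
      rw [i.naturality f]
      infer_instance
    exact mono_of_mono (F.map f) (i.app Q)
  · have := hmono (op p)
    exact IsZero.of_mono (i.app (op p)) (hbY p hp)
  · have hYf : IsIso (Y.obj.map f) := haY f (hP.trans (min_le_left _ _))
    have hZf : IsIso (Z.obj.map f) := haZ f (hP.trans (min_le_right _ _))
    have e1 : (i.app Q ≫ inv (Y.obj.map f)) ≫ g.hom.app P = 0 := by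
      have h1 : inv (Y.obj.map f) ≫ g.hom.app P = g.hom.app Q ≫ inv (Z.obj.map f) := by
        rw [IsIso.inv_comp_eq, ← Category.assoc, g.hom.naturality f, Category.assoc,
          IsIso.hom_inv_id, Category.comp_id]
      rw [Category.assoc, h1, ← Category.assoc, ← NatTrans.comp_app, w]
      simp
    obtain ⟨s, hs⟩ := KernelFork.IsLimit.lift' (hlim P) _ e1
    change s ≫ i.app P = _ at hs
    have := hmono P
    have := hmono Q
    refine ⟨s, ?_, ?_⟩
    · rw [← cancel_mono (i.app P), Category.assoc, hs, ← Category.assoc, i.naturality f,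
        Category.assoc, IsIso.hom_inv_id, Category.comp_id, Category.id_comp]
    · rw [← cancel_mono (i.app Q), Category.assoc, i.naturality f, ← Category.assoc, hs,
        Category.assoc, IsIso.inv_hom_id, Category.comp_id, Category.id_comp]

/-! ### The underlying complex in the functor category -/

/-- The complex of functors underlying a complex of finite filtered objects. -/
noncomputable abbrev toFunctorCx (K : CochainComplex (FilF A) ℤ) : CochainComplex (ℤᵒᵖ ⥤ A) ℤ :=
  ((IsFinFil A).ι.mapHomologicalComplex (ComplexShape.up ℤ)).obj K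

lemma exactAt_toFunctorCx_of_gr (K : CochainComplex (FilF A) ℤ) (n : ℤ)
    (h : ∀ p : ℤ, IsZero (((grCx p).obj K).homology n)) : (toFunctorCx K).ExactAt n := by
  have hgr : ∀ p, GrExactAt (K.d (n - 1) n) (K.d n (n + 1)) p := by
    intro p
    have h1 := (HomologicalComplex.exactAt_iff_isZero_homology _ _).2 (h p)
    rw [HomologicalComplex.exactAt_iff' _ (n - 1) n (n + 1) (by simp) (by simp)] at h1
    rw [grExactAt_iff _ _ (K.d_comp_d _ _ _) p]
    exact h1
  rw [HomologicalComplex.exactAt_iff' _ (n - 1) n (n + 1) (by simp) (by simp)]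
  apply exact_of_evaluation
  intro P
  exact (levExactAt_iff _ _ (K.d_comp_d _ _ _) P.unop).1
    (levExactAt_of_grExactAt (K.d_comp_d _ _ _) hgr P.unop)

lemma isZero_filF_of_isZero {X : FilF A} (h : IsZero X.obj) : IsZero X := by
  rw [IsZero.iff_id_eq_zero]
  apply ObjectProperty.hom_ext
  exact h.eq_of_src _ _

/-- Levelwise quasi-isomorphism criterion in terms of the underlying complexes of functors. -/
lemma isFilteredQuasiIso_of_quasiIso_toFunctorCx {K L : CochainComplex (FilF A) ℤ} (φ : K ⟶ L)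
    (h : QuasiIso (((IsFinFil A).ι.mapHomologicalComplex (ComplexShape.up ℤ)).map φ)) :
    IsFilteredQuasiIso φ := by
  apply isFilteredQuasiIso_of_levelwise
  intro q
  have := HomologicalComplex.quasiIso_map_of_preservesHomology
    (((IsFinFil A).ι.mapHomologicalComplex (ComplexShape.up ℤ)).map φ)
    ((evaluation ℤᵒᵖ A).obj (op q))
  exact this

/-- S1088 in library form. -/
theorem exists_filteredQuasiIso_from_boundedAbove (K : CochainComplex (FilF A) ℤ) (b : ℤ)
    (hK : ∀ (p n : ℤ), b < n → IsZero (((grCx p).obj K).homology n)) :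
    ∃ (M : CochainComplex (FilF A) ℤ) (φ : M ⟶ K), M.IsStrictlyLE b ∧ IsFilteredQuasiIso φ := by
  let Kb := toFunctorCx K
  have hLE : Kb.IsLE b := by
    rw [CochainComplex.isLE_iff]
    intro n hn
    exact exactAt_toFunctorCx_of_gr K n (fun p => hK p n hn)
  have hqi : QuasiIso (Kb.ιTruncLE b) := (CochainComplex.quasiIso_ιTruncLE_iff Kb b).2 hLE
  have hX : ∀ n, IsFinFil A ((Kb.truncLE b).X n) := by
    intro n
    by_cases hn : b < n
    · exact isFinFil_of_isZero ((Kb.truncLE b).isZero_of_isStrictlyLE b n hn)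
    · obtain ⟨k, hk⟩ := Int.le.dest (not_lt.1 hn)
      have hk' : (ComplexShape.embeddingUpIntLE b).f k = n := by
        show b - (k : ℤ) = n
        omega
      by_cases hbd : (ComplexShape.embeddingUpIntLE b).BoundaryLE k
      · have hk0 : n = b := by
          rw [ComplexShape.boundaryLE_embeddingUpIntLE_iff] at hbd
          omega
        subst hk0
        refine isFinFil_of_iso (HomologicalComplex.truncLEXIsoCycles Kb _ hk' hbd).symm ?_
        exact isFinFil_of_isLimit_kernelFork (K.d n (n + 1)) (Kb.iCycles n) _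
          (Kb.cyclesIsKernel n (n + 1) (by simp))
      · exact isFinFil_of_iso (HomologicalComplex.truncLEXIso Kb _ hk' hbd).symm (K.X n).property
  let M : CochainComplex (FilF A) ℤ := HomologicalComplex.liftObjectProperty _ (Kb.truncLE b) hX
  let φ : M ⟶ K :=
    { f := fun n => ObjectProperty.homMk ((Kb.ιTruncLE b).f n)
      comm' := fun i j _ => by
        apply ObjectProperty.hom_ext
        exact (Kb.ιTruncLE b).comm i j }
  refine ⟨M, φ, ?_, ?_⟩
  · rw [CochainComplex.isStrictlyLE_iff]
    intro i hi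
    exact isZero_filF_of_isZero ((Kb.truncLE b).isZero_of_isStrictlyLE b i hi)
  · exact isFilteredQuasiIso_of_quasiIso_toFunctorCx φ hqi

end Groth.Agent.Lib.FilD65
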