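import Groth.Agent.Lib.FilD65Trunc

/-!
# FilD65TruncGE: canonical truncation `τ_{≥ a}` of complexes of finite filtered objects (S1087)
-/

universe w v u

set_option linter.unusedSectionVars false

open CategoryTheory CategoryTheory.Limits Opposite FilD

namespace Groth.Agent.Lib.FilD65

variable {A : Type u} [Category.{v} A] [Abelian A]

/-- A (functor category) cokernel of a strict morphism of finite filtered objects is a finite
filtered object. -/
lemma isFinFil_of_isColimit_cokernelCofork {F : ℤᵒᵖ ⥤ A} {X Y : FilF A} (f : X ⟶ Y)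
    (hf : IsStrict f) (π : Y.obj ⟶ F) (w : f.hom ≫ π = 0)
    (h : IsColimit (CokernelCofork.ofπ π w)) : IsFinFil A F := by
  have hw : ∀ P : ℤᵒᵖ, f.hom.app P ≫ π.app P = 0 := fun P => by
    rw [← NatTrans.comp_app, w]; rfl
  have hcolim : ∀ P : ℤᵒᵖ, IsColimit (CokernelCofork.ofπ (f := f.hom.app P) (π.app P) (hw P)) :=
    fun P => CokernelCofork.mapIsColimit _ h ((evaluation ℤᵒᵖ A).obj P)
  have hepi : ∀ P : ℤᵒᵖ, Epi (π.app P) := fun P => epi_of_isColimit_cofork (hcolim P)
  have hex : ∀ P : ℤᵒᵖ, (ShortComplex.mk (f.hom.app P) (π.app P) (hw P)).Exact :=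
    fun P => ShortComplex.exact_of_g_is_cokernel _ (hcolim P)
  obtain ⟨bY, hbY⟩ := Y.property.2.1
  obtain ⟨aY, haY⟩ := Y.property.2.2
  obtain ⟨aX, haX⟩ := X.property.2.2
  refine ⟨fun P Q f' => ?_, ⟨bY, fun p hp => ?_⟩, ⟨min aX aY, fun P Q f' hP => ?_⟩⟩
  · rcases P with ⟨p⟩
    rcases Q with ⟨q⟩
    have hqp : q ≤ p := leOfHom f'.unop
    rw [Preadditive.mono_iff_cancel_zero]
    intro T t ht
    have := hepi (op p)
    obtain ⟨T1, π1, hπ1, y, hy⟩ := surjective_up_to_refinements_of_epi (π.app (op p)) t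
    have h1 : (y ≫ tr Y hqp) ≫ π.app (op q) = 0 := by
      rw [Category.assoc]
      have := π.naturality f'
      rw [map_eq_trF] at this
      change trF Y.obj hqp ≫ π.app (op q) = π.app (op p) ≫ F.map f' at this
      rw [this, ← Category.assoc, ← hy, Category.assoc, ht, comp_zero]
    obtain ⟨T2, π2, hπ2, x, hx⟩ := (hex (op q)).exact_up_to_refinements _ h1
    change π2 ≫ y ≫ tr Y hqp = x ≫ app f q at hx
    obtain ⟨T3, π3, hπ3, x', hx'⟩ := (isStrict_iff f).1 hf q p hqp x (π2 ≫ y)
      (by rw [← hx, Category.assoc])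
    rw [← cancel_epi π1, ← cancel_epi π2, ← cancel_epi π3, comp_zero, comp_zero, comp_zero, hy,
      ← Category.assoc π2, ← Category.assoc π3, ← hx', Category.assoc]
    change x' ≫ f.hom.app (op p) ≫ π.app (op p) = 0
    rw [hw, comp_zero]
  · have := hepi (op p)
    exact IsZero.of_epi (π.app (op p)) (hbY p hp)
  · have hXf : IsIso (X.obj.map f') := haX f' (hP.trans (min_le_left _ _))
    have hYf : IsIso (Y.obj.map f') := haY f' (hP.trans (min_le_right _ _))
    have e1 : f.hom.app Q ≫ inv (Y.obj.map f') ≫ π.app P = 0 := by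
      have h1 : f.hom.app Q ≫ inv (Y.obj.map f') = inv (X.obj.map f') ≫ f.hom.app P := by
        rw [IsIso.eq_inv_comp, ← Category.assoc, f.hom.naturality f', Category.assoc,
          IsIso.hom_inv_id, Category.comp_id]
      rw [← Category.assoc, h1, Category.assoc, hw, comp_zero]
    obtain ⟨s, hs⟩ := CokernelCofork.IsColimit.desc' (hcolim Q) _ e1
    change π.app Q ≫ s = _ at hs
    have := hepi P
    have := hepi Q
    have hnat := π.naturality f'
    refine ⟨s, ?_, ?_⟩
    · rw [← cancel_epi (π.app P), ← Category.assoc, ← hnat, Category.assoc, hs,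
        IsIso.hom_inv_id_assoc, Category.comp_id]
    · rw [← cancel_epi (π.app Q), ← Category.assoc, hs, Category.assoc, ← hnat,
        IsIso.inv_hom_id_assoc, Category.comp_id]

lemma grExactAt_of_isZero_homology (K : CochainComplex (FilF A) ℤ) (i j k : ℤ) (hij : i + 1 = j)
    (hjk : j + 1 = k) (p : ℤ) (h : IsZero (((grCx p).obj K).homology j)) :
    GrExactAt (K.d i j) (K.d j k) p := by
  have h1 := (HomologicalComplex.exactAt_iff_isZero_homology _ _).2 h
  rw [HomologicalComplex.exactAt_iff' _ i j k (by simp; omega) (by simp; omega)] at h1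
  rw [grExactAt_iff _ _ (K.d_comp_d _ _ _) p]
  exact h1

/-- S1087 in library form. -/
theorem exists_filteredQuasiIso_to_boundedBelow (K : CochainComplex (FilF A) ℤ) (a : ℤ)
    (hK : ∀ (p n : ℤ), n < a → IsZero (((grCx p).obj K).homology n)) :
    ∃ (L : CochainComplex (FilF A) ℤ) (φ : K ⟶ L), L.IsStrictlyGE a ∧ IsFilteredQuasiIso φ := by
  let Kb := toFunctorCx K
  have hGE : Kb.IsGE a := by
    rw [CochainComplex.isGE_iff]
    intro n hn
    exact exactAt_toFunctorCx_of_gr K n (fun p => hK p n hn)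
  have hqi : QuasiIso (Kb.πTruncGE a) := (CochainComplex.quasiIso_πTruncGE_iff Kb a).2 hGE
  have hstrict : IsStrict (K.d (a - 1) a) :=
    isStrict_of_grExactAt (K.d_comp_d (a - 2) (a - 1) a)
      (fun p => grExactAt_of_isZero_homology K (a - 2) (a - 1) a (by omega) (by omega) p
        (hK p (a - 1) (by omega)))
  have hX : ∀ n, IsFinFil A ((Kb.truncGE a).X n) := by
    intro n
    by_cases hn : n < a
    · exact isFinFil_of_isZero ((Kb.truncGE a).isZero_of_isStrictlyGE a n hn)
    · obtain ⟨k, hk⟩ := Int.le.dest (not_lt.1 hn)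
      have hk' : (ComplexShape.embeddingUpIntGE a).f k = n := by
        show a + (k : ℤ) = n
        omega
      by_cases hbd : (ComplexShape.embeddingUpIntGE a).BoundaryGE k
      · have hk0 : n = a := by
          rw [ComplexShape.boundaryGE_embeddingUpIntGE_iff] at hbd
          omega
        subst hk0
        refine isFinFil_of_iso (HomologicalComplex.truncGEXIsoOpcycles Kb _ hk' hbd).symm ?_
        exact isFinFil_of_isColimit_cokernelCofork (K.d (n - 1) n) hstrict (Kb.pOpcycles n) _
          (Kb.opcyclesIsCokernel (n - 1) n (by simp))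
      · exact isFinFil_of_iso (HomologicalComplex.truncGEXIso Kb _ hk' hbd).symm (K.X n).property
  let L : CochainComplex (FilF A) ℤ := HomologicalComplex.liftObjectProperty _ (Kb.truncGE a) hX
  let φ : K ⟶ L :=
    { f := fun n => ObjectProperty.homMk ((Kb.πTruncGE a).f n)
      comm' := fun i j _ => by
        apply ObjectProperty.hom_ext
        exact (Kb.πTruncGE a).comm i j }
  refine ⟨L, φ, ?_, ?_⟩
  · rw [CochainComplex.isStrictlyGE_iff]
    intro i hi
    exact isZero_filF_of_isZero ((Kb.truncGE a).isZero_of_isStrictlyGE a i hi)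
  · exact isFilteredQuasiIso_of_quasiIso_toFunctorCx φ hqi

end Groth.Agent.Lib.FilD65
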