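import Mathlib.CategoryTheory.Abelian.GrothendieckAxioms.FunctorCategory
import Mathlib.CategoryTheory.Abelian.GrothendieckCategory.Basic
import Mathlib.CategoryTheory.Generator.Presheaf
import Mathlib.CategoryTheory.Abelian.FunctorCategory
import Mathlib.CategoryTheory.Adjunction.Evaluation
import Mathlib.CategoryTheory.Adjunction.Additive
import Mathlib.CategoryTheory.Abelian.GrothendieckAxioms.Colim
import Mathlib.Algebra.Homology.ShortComplex.ExactFunctor
import Mathlib.CategoryTheory.Preadditive.Injective.Basic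

/-!
# Presheaf categories with values in a Grothendieck abelian category (helper31)

* `Rᵒᵖ ⥤ A` is Grothendieck abelian for a small category `R : Type`.
* The left adjoint of evaluation is exact.
* Evaluation preserves injective objects; transition maps of injective presheaves along
  epimorphisms are split epimorphisms.
-/

set_option autoImplicit false

universe v u

open CategoryTheory Limits Opposite

namespace Groth.Agent.FunCat31

variable {A : Type u} [Category.{v} A] [Abelian A] [IsGrothendieckAbelian.{v} A]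
variable {R : Type} [SmallCategory R]

instance hasCoproducts₀ : HasCoproducts.{0} A := hasCoproducts_shrink.{0, v}

instance ab4₀ : AB4OfSize.{0} A := AB4OfSize_shrink.{0, v} A

instance : AB5OfSize.{v, v} (Rᵒᵖ ⥤ A) where
  ofShape _ _ _ := inferInstance

instance : IsGrothendieckAbelian.{v} (Rᵒᵖ ⥤ A) where

variable (A) in
/-- the left adjoint of the evaluation at `c` -/
noncomputable abbrev L (c : Rᵒᵖ) : A ⥤ (Rᵒᵖ ⥤ A) := evaluationLeftAdjoint A c

variable (A) in
/-- the adjunction -/
noncomputable abbrev adj (c : Rᵒᵖ) : L A c ⊣ (evaluation Rᵒᵖ A).obj c :=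
  evaluationAdjunctionRight A c

instance (c : Rᵒᵖ) : (L A c).Additive := (adj A c).left_adjoint_additive

instance (c : Rᵒᵖ) : PreservesFiniteColimits (L A c) := by
  have : PreservesColimitsOfSize.{0, 0} (L A c) := (adj A c).leftAdjoint_preservesColimits
  exact PreservesColimitsOfSize.preservesFiniteColimits _

instance (c : Rᵒᵖ) : (L A c).PreservesMonomorphisms where
  preserves {d₁ d₂} f _ := by
    suffices ∀ t, Mono (((L A c).map f).app t) from NatTrans.mono_of_mono_app _
    intro t
    let α : Discrete.functor (fun _ : c ⟶ t => d₁) ⟶ Discrete.functor (fun _ : c ⟶ t => d₂) :=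
      Discrete.natTrans (fun _ => f)
    have : Mono α := by
      have : ∀ k, Mono (α.app k) := fun _ => inferInstanceAs (Mono f)
      exact NatTrans.mono_of_mono_app α
    exact colim.map_mono' α (colimit.isColimit _) (colimit.isColimit _) _ (fun ⟨h⟩ => by
      dsimp [α]
      simp)

instance (c : Rᵒᵖ) : PreservesFiniteLimits (L A c) := by
  rw [Functor.preservesFiniteLimits_iff_forall_exact_map_and_mono]
  intro S hS
  have := hS.mono_f
  exact ⟨((Functor.preservesFiniteColimits_iff_forall_exact_map_and_epi (L A c)).1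
    inferInstance S hS).1, inferInstance⟩

/-- evaluation preserves injective objects -/
lemma injective_obj (I : Rᵒᵖ ⥤ A) [Injective I] (c : Rᵒᵖ) : Injective (I.obj c) :=
  Injective.injective_of_adjoint (adj A c) I

set_option backward.isDefEq.respectTransparency false in
/-- the map `L c' M ⟶ L c M` induced by `f : c ⟶ c'` -/
noncomputable def Lmap {c c' : Rᵒᵖ} (f : c ⟶ c') (M : A) : (L A c').obj M ⟶ (L A c).obj M where
  app t := Sigma.desc (fun h : c' ⟶ t => Sigma.ι (fun _ : c ⟶ t => M) (f ≫ h))
  naturality := by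
    intro X Y g
    apply Sigma.hom_ext
    intro h
    simp

set_option backward.isDefEq.respectTransparency false in
lemma ι_Lmap_app {c c' : Rᵒᵖ} (f : c ⟶ c') (M : A) (t : Rᵒᵖ) (h : c' ⟶ t) :
    Sigma.ι (fun _ : c' ⟶ t => M) h ≫ (Lmap f M).app t =
      Sigma.ι (fun _ : c ⟶ t => M) (f ≫ h) := by
  simp [Lmap]

set_option backward.isDefEq.respectTransparency false in
open Classical in
instance mono_Lmap {c c' : Rᵒᵖ} (f : c ⟶ c') [Epi f] (M : A) : Mono (Lmap f M) := by
  suffices ∀ t, Mono ((Lmap f M).app t) from NatTrans.mono_of_mono_app _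
  intro t
  let r : (∐ fun _ : c ⟶ t => M) ⟶ ∐ fun _ : c' ⟶ t => M :=
    Sigma.desc (fun g => if h : ∃ h : c' ⟶ t, f ≫ h = g then
      Sigma.ι (fun _ : c' ⟶ t => M) h.choose else 0)
  have hr : (Lmap f M).app t ≫ r = 𝟙 (∐ fun _ : c' ⟶ t => M) := by
    apply Sigma.hom_ext
    intro h
    have h0 := ι_Lmap_app f M t h
    erw [reassoc_of% h0, Category.comp_id]
    dsimp only [r]
    rw [Sigma.ι_desc]
    have hex : ∃ h' : c' ⟶ t, f ≫ h' = f ≫ h := ⟨h, rfl⟩
    rw [dif_pos hex]
    have : hex.choose = h := by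
      have := hex.choose_spec
      rwa [cancel_epi] at this
    rw [this]
  have : Mono (𝟙 (∐ fun _ : c' ⟶ t => M)) := inferInstance
  exact mono_of_mono_fac (h := 𝟙 (∐ fun _ : c' ⟶ t => M)) hr

set_option backward.isDefEq.respectTransparency false in
/-- the canonical map `L c (I c) ⟶ I` -/
noncomputable def counitMap (I : Rᵒᵖ ⥤ A) (c : Rᵒᵖ) : (L A c).obj (I.obj c) ⟶ I where
  app t := Sigma.desc (fun h : c ⟶ t => I.map h)
  naturality := by
    intro X Y g
    apply Sigma.hom_ext
    intro h
    simp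

set_option backward.isDefEq.respectTransparency false in
lemma ι_counitMap_app (I : Rᵒᵖ ⥤ A) (c t : Rᵒᵖ) (h : c ⟶ t) :
    Sigma.ι (fun _ : c ⟶ t => I.obj c) h ≫ (counitMap I c).app t = I.map h := by
  simp [counitMap]

set_option backward.isDefEq.respectTransparency false in
lemma ι_L_obj_map (M : A) (c t t' : Rᵒᵖ) (h : c ⟶ t) (g : t ⟶ t') :
    Sigma.ι (fun _ : c ⟶ t => M) h ≫ ((L A c).obj M).map g =
      Sigma.ι (fun _ : c ⟶ t' => M) (h ≫ g) := by
  simp

set_option backward.isDefEq.respectTransparency false in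
/-- Transition maps of injective presheaves along epimorphisms are split epimorphisms. -/
lemma exists_section_map (I : Rᵒᵖ ⥤ A) [Injective I] {c c' : Rᵒᵖ} (f : c ⟶ c') [Epi f] :
    ∃ s : I.obj c' ⟶ I.obj c, s ≫ I.map f = 𝟙 _ := by
  let M := I.obj c'
  let a : (L A c').obj M ⟶ I := counitMap I c'
  let b : (L A c).obj M ⟶ I := Injective.factorThru a (Lmap f M)
  have hb : Lmap f M ≫ b = a := Injective.comp_factorThru a (Lmap f M)
  refine ⟨Sigma.ι (fun _ : c ⟶ c => M) (𝟙 c) ≫ b.app c, ?_⟩
  have h0 : Sigma.ι (fun _ : c ⟶ c => M) (𝟙 c) ≫ ((L A c).obj M).map f =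
      Sigma.ι (fun _ : c ⟶ c' => M) f := by
    have := ι_L_obj_map (A := A) M c c c' (𝟙 c) f
    rwa [Category.id_comp] at this
  have h1 : (Sigma.ι (fun _ : c ⟶ c => M) (𝟙 c) ≫ b.app c) ≫ I.map f =
      Sigma.ι (fun _ : c ⟶ c' => M) f ≫ b.app c' := by
    rw [Category.assoc, ← b.naturality f]
    exact (reassoc_of% h0) (b.app c')
  have h2 : Sigma.ι (fun _ : c' ⟶ c' => M) (𝟙 c') ≫ (Lmap f M).app c' =
      Sigma.ι (fun _ : c ⟶ c' => M) f := by
    have := ι_Lmap_app f M c' (𝟙 c')
    rwa [Category.comp_id] at this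
  have h3 : Sigma.ι (fun _ : c' ⟶ c' => M) (𝟙 c') ≫ a.app c' = 𝟙 M := by
    have := ι_counitMap_app I c' c' (𝟙 c')
    rw [I.map_id] at this
    exact this
  have h4 : (Lmap f M).app c' ≫ b.app c' = a.app c' := by
    rw [← NatTrans.comp_app, hb]
  rw [h1, ← h2]
  erw [Category.assoc]
  rw [h4, h3]

end Groth.Agent.FunCat31
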