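import Groth.Agent.Lib.FilAsm31
import Groth.Agent.Lib.FunCat31
import Groth.Agent.Lib.KInjMain31
import Groth.Agent.Lib.KInjAdj
import Mathlib.Algebra.Homology.Functor

/-!
# Filtered K-injective resolutions: construction of the core (helper31)

For a filtered complex `K` of a Grothendieck abelian category `A`, we consider the diagram of
quotients `r ↦ K / F^r K` indexed by `(WithTop ℤ)ᵒᵖ` (with `F^⊤ K = 0`) as a complex in the
Grothendieck abelian category `(WithTop ℤ)ᵒᵖ ⥤ A`, and take a K-injective resolution with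
injective terms there.  Evaluating gives a `Core K`.
-/

set_option autoImplicit false

universe v u

open CategoryTheory Limits Opposite

namespace Groth.Agent.FilRes31

open SpSeq Groth.Agent.FilCore31 Groth.Agent.FilAsm31 Groth.Agent.FunCat31

section QuotFunctor

variable {D : Type*} [Category* D] [Abelian D] {X : D} {R : Type*} [Preorder R]
  (F : R → Subobject X) (hF : Antitone F)

/-- the transition map `X / F r' ⟶ X / F r` for `r ≤ r'` -/
noncomputable def quotMap {r r' : R} (h : r ≤ r') :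
    cokernel (F r').arrow ⟶ cokernel (F r).arrow :=
  cokernel.desc _ (cokernel.π (F r).arrow) (by
    rw [← Subobject.ofLE_arrow (hF h), Category.assoc, cokernel.condition, comp_zero])

@[reassoc (attr := simp)]
lemma π_quotMap {r r' : R} (h : r ≤ r') :
    cokernel.π (F r').arrow ≫ quotMap F hF h = cokernel.π (F r).arrow :=
  cokernel.π_desc _ _ _

/-- the functor `r ↦ X / F r` -/
noncomputable def quotFunctor : Rᵒᵖ ⥤ D where
  obj r := cokernel (F r.unop).arrow
  map f := quotMap F hF (leOfHom f.unop)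
  map_id r := by
    apply coequalizer.hom_ext
    simp
  map_comp f g := by
    apply coequalizer.hom_ext
    simp

end QuotFunctor

lemma isIso_cokernel_π_of_eq_zero {D : Type*} [Category* D] [Abelian D] {X Y : D} {f : X ⟶ Y}
    (h : f = 0) : IsIso (cokernel.π f) := by
  subst h
  infer_instance

variable {A : Type u} [Category.{v} A] [Abelian A]

section

variable (K : FilCx A)

/-- the extended filtration, with `F^⊤ = 0` -/
noncomputable def F' : WithTop ℤ → Subobject K.obj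
  | none => ⊥
  | some p => K.fil p

lemma F'_anti : Antitone (F' K) := by
  intro r r' h
  match r, r', h with
  | _, none, _ => exact bot_le
  | none, some q, h => exact absurd h (WithTop.not_top_le_coe q)
  | some p, some q, h => exact K.anti (WithTop.coe_le_coe.1 h)

/-- the diagram of quotients -/
noncomputable def E : (WithTop ℤ)ᵒᵖ ⥤ CochainComplex A ℤ := quotFunctor (F' K) (F'_anti K)

/-- the diagram of quotients as a complex of presheaves -/
noncomputable def ℰ : CochainComplex ((WithTop ℤ)ᵒᵖ ⥤ A) ℤ where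
  X n := E K ⋙ HomologicalComplex.eval A _ n
  d i j :=
    { app r := ((E K).obj r).d i j
      naturality _ _ f := ((E K).map f).comm i j }
  shape i j h := by
    ext r
    exact ((E K).obj r).shape i j h
  d_comp_d' i j k _ _ := by
    ext r
    exact ((E K).obj r).d_comp_d i j k

end

section

variable [IsGrothendieckAbelian.{v} A] {R : Type} [SmallCategory R]

/-- evaluation at `r` on complexes -/
noncomputable abbrev evC (A : Type u) [Category.{v} A] [Abelian A] (r : Rᵒᵖ) :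
    CochainComplex (Rᵒᵖ ⥤ A) ℤ ⥤ CochainComplex A ℤ :=
  ((evaluation Rᵒᵖ A).obj r).mapHomologicalComplex (ComplexShape.up ℤ)

/-- transition maps -/
noncomputable def trans (𝒥 : CochainComplex (Rᵒᵖ ⥤ A) ℤ) {r r' : Rᵒᵖ} (f : r ⟶ r') :
    (evC A r).obj 𝒥 ⟶ (evC A r').obj 𝒥 :=
  (NatTrans.mapHomologicalComplex ((evaluation Rᵒᵖ A).map f) (ComplexShape.up ℤ)).app 𝒥

@[simp]
lemma trans_f (𝒥 : CochainComplex (Rᵒᵖ ⥤ A) ℤ) {r r' : Rᵒᵖ} (f : r ⟶ r') (n : ℤ) :
    (trans 𝒥 f).f n = (𝒥.X n).map f := rfl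

lemma trans_comp (𝒥 : CochainComplex (Rᵒᵖ ⥤ A) ℤ) {r r' r'' : Rᵒᵖ} (f : r ⟶ r') (g : r' ⟶ r'') :
    trans 𝒥 f ≫ trans 𝒥 g = trans 𝒥 (f ≫ g) := by
  ext n
  exact ((𝒥.X n).map_comp f g).symm

lemma good_evC (𝒥 : CochainComplex (Rᵒᵖ ⥤ A) ℤ) [𝒥.IsKInjective] [∀ n, Injective (𝒥.X n)]
    (r : Rᵒᵖ) : Good ((evC A r).obj 𝒥) where
  kinj := Groth.Agent.Lib.KInjAdj.isKInjective_map (adj A r) 𝒥
  inj n := injective_obj (𝒥.X n) r

lemma split_trans (𝒥 : CochainComplex (Rᵒᵖ ⥤ A) ℤ) [∀ n, Injective (𝒥.X n)]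
    {r r' : Rᵒᵖ} (f : r ⟶ r') [Epi f] (n : ℤ) :
    ∃ s : ((evC A r').obj 𝒥).X n ⟶ ((evC A r).obj 𝒥).X n, s ≫ (trans 𝒥 f).f n = 𝟙 _ :=
  exists_section_map (𝒥.X n) f

end

section

variable [IsGrothendieckAbelian.{v} A] (K : FilCx A)

/-- the identification of the evaluation of `ℰ` -/
noncomputable def evℰIso (r : (WithTop ℤ)ᵒᵖ) : (evC A r).obj (ℰ K) ≅ (E K).obj r :=
  HomologicalComplex.Hom.isoOfComponents (fun _ => Iso.refl _) (by
    intro i j _
    exact (Category.id_comp _).trans (Category.comp_id _).symm)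

variable {K} {𝒥 : CochainComplex ((WithTop ℤ)ᵒᵖ ⥤ A) ℤ} (φ : ℰ K ⟶ 𝒥)

/-- the components of the resolution -/
noncomputable def a (r : (WithTop ℤ)ᵒᵖ) : (E K).obj r ⟶ (evC A r).obj 𝒥 :=
  (evℰIso K r).inv ≫ (evC A r).map φ

lemma a_f (r : (WithTop ℤ)ᵒᵖ) (n : ℤ) : (a φ r).f n = (φ.f n).app r :=
  Category.id_comp _

lemma a_naturality {r r' : (WithTop ℤ)ᵒᵖ} (f : r ⟶ r') :
    (E K).map f ≫ a φ r' = a φ r ≫ trans 𝒥 f := by
  ext n
  rw [HomologicalComplex.comp_f, HomologicalComplex.comp_f, a_f, a_f, trans_f]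
  exact (φ.f n).naturality f

instance quasiIso_a [QuasiIso φ] (r : (WithTop ℤ)ᵒᵖ) : QuasiIso (a φ r) := by
  have : QuasiIso ((evC A r).map φ) := (HomologicalComplex.quasiIso_iff_evaluation φ).1 inferInstance r
  dsimp only [a]
  infer_instance

variable (K) in
/-- the projection `K ⟶ K / F^r K` -/
noncomputable def πE (r : (WithTop ℤ)ᵒᵖ) : K.obj ⟶ (E K).obj r := cokernel.π (F' K r.unop).arrow

@[reassoc]
lemma πE_map {r r' : (WithTop ℤ)ᵒᵖ} (f : r ⟶ r') : πE K r ≫ (E K).map f = πE K r' :=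
  π_quotMap (F' K) (F'_anti K) (leOfHom f.unop)

lemma πE_a_trans {r r' : (WithTop ℤ)ᵒᵖ} (f : r ⟶ r') :
    πE K r' ≫ a φ r' = (πE K r ≫ a φ r) ≫ trans 𝒥 f := by
  rw [Category.assoc, ← a_naturality φ f, πE_map_assoc]

instance isIso_πE_top : IsIso (πE K (op ⊤)) :=
  isIso_cokernel_π_of_eq_zero (Subobject.bot_arrow)

end

instance epi_op_withTop {r r' : (WithTop ℤ)ᵒᵖ} (f : r ⟶ r') : Epi f :=
  ⟨fun _ _ _ => Quiver.Hom.unop_inj (Subsingleton.elim _ _)⟩

/-- the morphism `op ⊤ ⟶ op p` -/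
def topTo (p : ℤ) : (op (⊤ : WithTop ℤ)) ⟶ op (p : WithTop ℤ) := (homOfLE le_top).op

/-- the morphism `op q ⟶ op p` for `p ≤ q` -/
def coeTo {p q : ℤ} (h : p ≤ q) : (op (q : WithTop ℤ)) ⟶ op (p : WithTop ℤ) :=
  (homOfLE (WithTop.coe_le_coe.2 h)).op

variable [IsGrothendieckAbelian.{v} A] (K : FilCx A)

theorem nonempty_core : Nonempty (Core K) := by
  obtain ⟨𝒥, φ, hK, hφ, -, hinj⟩ := Groth.Agent.KInjMain31.exists_kinjective_resolution (ℰ K)
  exact ⟨{
    J := (evC A (op ⊤)).obj 𝒥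
    Q := fun p => (evC A (op (p : WithTop ℤ))).obj 𝒥
    π := fun p => trans 𝒥 (topTo p)
    ρ := fun h => trans 𝒥 (coeTo h)
    π_ρ := fun h => by
      rw [trans_comp]
      congr 1
    j₀ := πE K (op ⊤) ≫ a φ (op ⊤)
    jq := fun p => a φ (op (p : WithTop ℤ))
    comm := fun p => πE_a_trans φ (topTo p)
    splitπ := fun p n => split_trans 𝒥 (topTo p) n
    splitρ := fun h n => split_trans 𝒥 (coeTo h) n
    goodJ := good_evC 𝒥 _
    goodQ := fun p => good_evC 𝒥 _
    qis₀ := by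
      have h1 : QuasiIso (πE K (op ⊤)) := inferInstance
      have h2 : QuasiIso (a φ (op ⊤)) := quasiIso_a φ _
      exact quasiIso_comp _ _
    qisq := fun p => quasiIso_a φ _ }⟩

end Groth.Agent.FilRes31
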