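import Groth.Agent.Lib.TFinFilt2
import Mathlib.CategoryTheory.Sites.RegularEpi
import Mathlib.CategoryTheory.Limits.Shapes.RegularMono

/-!
# Coherent objects are finitely presentable (surjectivity part)
-/

set_option autoImplicit false
open CategoryTheory CategoryTheory.Limits Opposite
universe u
open ToposFin

namespace Groth.Agent.Lib.TFinFilt
open Groth.Agent.Lib.TFin Groth.Agent.Lib.TFinEps Groth.Agent.Lib.TFinCoprod

variable {C : Type u} [SmallCategory C] {J : GrothendieckTopology C}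

section Glue

/-- Descent of morphisms along a covering family: compatible morphisms on the members of a
covering family glue. -/
theorem exists_desc_of_cov {ι : Type u} {X Y : Sh J} {Q : ι → Sh J} (q : ∀ m, Q m ⟶ X)
    (hq : Cov q) (ψ : ∀ m, Q m ⟶ Y)
    (hψ : ∀ m m', pullback.fst (q m) (q m') ≫ ψ m = pullback.snd (q m) (q m') ≫ ψ m') :
    ∃ χ : X ⟶ Y, ∀ m, q m ≫ χ = ψ m := by
  let p : ∐ Q ⟶ X := Sigma.desc q
  let e : ∐ Q ⟶ Y := Sigma.desc ψ
  have hp : Epi p := (epi_sigmaDesc_iff_cov q).2 hq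
  have : IsRegularEpi p := IsRegularEpiCategory.regularEpiOfEpi p
  have : EffectiveEpi p := inferInstance
  let c₀ : Cofan Q := Cofan.mk (∐ Q) (Sigma.ι Q)
  have hc₀ : IsColimit c₀ := coproductIsCoproduct Q
  have hcov := cov_inj c₀ hc₀
  have key : ∀ {Z : Sh J} (g₁ g₂ : Z ⟶ ∐ Q), g₁ ≫ p = g₂ ≫ p → g₁ ≫ e = g₂ ≫ e := by
    intro Z g₁ g₂ hg
    apply hom_ext_sec
    intro U z
    have hw : ap p (ap g₁ z) = ap p (ap g₂ z) := by rw [← ap_comp, ← ap_comp, hg]
    rw [ap_comp, ap_comp]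
    refine sec_ext _ _ _ (J.intersection_covering (hcov U (ap g₁ z)) (hcov U (ap g₂ z))) ?_
    rintro V g ⟨⟨m, a, ha⟩, ⟨m', a', ha'⟩⟩
    have ha2 : ap (Sigma.ι Q m) a = res g (ap g₁ z) := ha
    have ha2' : ap (Sigma.ι Q m') a' = res g (ap g₂ z) := ha'
    have hqa : ap (q m) a = ap (q m') a' := by
      have e1 : ap (q m) a = ap p (ap (Sigma.ι Q m) a) := by
        rw [← ap_comp]; congr 1; exact (Sigma.ι_desc q m).symm
      have e2 : ap (q m') a' = ap p (ap (Sigma.ι Q m') a') := by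
        rw [← ap_comp]; congr 1; exact (Sigma.ι_desc q m').symm
      rw [e1, e2, ha2, ha2', ap_res, ap_res, hw]
    obtain ⟨b, hb1, hb2⟩ := pb_exists (q m) (q m') a a' hqa
    have h1 : ap (ψ m) a = ap (ψ m') a' := by
      rw [← hb1, ← hb2, ← ap_comp, ← ap_comp, hψ m m']
    have e3 : ap e (ap (Sigma.ι Q m) a) = ap (ψ m) a := by
      rw [← ap_comp]; congr 1; exact Sigma.ι_desc ψ m
    have e4 : ap e (ap (Sigma.ι Q m') a') = ap (ψ m') a' := by
      rw [← ap_comp]; congr 1; exact Sigma.ι_desc ψ m'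
    rw [← ap_res e g (ap g₁ z), ← ap_res e g (ap g₂ z), ← ha2, ← ha2', e3, e4, h1]
  refine ⟨EffectiveEpi.desc p e key, fun m => ?_⟩
  have h1 := EffectiveEpi.fac p e key
  have h2 := congrArg (fun t => Sigma.ι Q m ≫ t) h1
  simp only [p, e, Sigma.ι_desc_assoc, Sigma.ι_desc] at h2
  exact h2

end Glue

section Surj

variable {I : Type u} [SmallCategory I] [IsFiltered I] (D : I ⥤ Sh J)

/-- For a coherent object `X` of a topos with quasi-compact generators, every morphism from `X`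
to a filtered colimit factors through a stage. -/
theorem exists_factor_of_isCoherent (hE : HasQCGenerators J) {X : Sh J} (hX : IsCoherent X)
    (φ : X ⟶ colimit D) : ∃ (j : I) (χ : X ⟶ D.obj j), χ ≫ colimit.ι D j = φ := by
  classical
  -- Step 1: local lifts on sheaves associated to representables
  let T₁ : Type u := Σ (U : C) (x : sec X U) (i : I),
    {y : sec (D.obj i) U // ap (colimit.ι D i) y = ap φ x}
  have hcov₁ : Cov (fun t : T₁ => homOfSec J t.2.1) := by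
    intro U x
    refine J.superset_covering ?_
      (cov_cocone D (colimit.cocone D) (colimit.isColimit D) U (ap φ x))
    rintro V g ⟨i, y, hy⟩
    have hy' : ap (colimit.ι D i) y = ap φ (res g x) := by
      rw [ap_res]; exact hy
    refine ⟨⟨V, res g x, i, ⟨y, hy'⟩⟩, etaSec J V (𝟙 V), ?_⟩
    show ap (homOfSec J (res g x)) (etaSec J V (𝟙 V)) = res g x
    rw [ap_homOfSec, res_id]
  -- Step 2: refine by quasi-compact objects
  obtain ⟨κ, t, Q, r, hQ, hcov₂⟩ := exists_qc_refinement hE _ hcov₁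
  obtain ⟨q, hqdef⟩ : ∃ q : ∀ k, Q k ⟶ X, ∀ k, q k = r k ≫ homOfSec J (t k).2.1 :=
    ⟨_, fun _ => rfl⟩
  have hcov₃ : Cov q := by
    have : q = fun k => r k ≫ homOfSec J (t k).2.1 := funext hqdef
    rw [this]; exact hcov₂
  let idx : κ → I := fun k => (t k).2.2.1
  obtain ⟨ψ₀, hψ₀def⟩ : ∃ ψ₀ : ∀ k, Q k ⟶ D.obj (idx k),
      ∀ k, ψ₀ k = r k ≫ homOfSec J (t k).2.2.2.1 := ⟨_, fun _ => rfl⟩
  have hψ₀ : ∀ k, q k ≫ φ = ψ₀ k ≫ colimit.ι D (idx k) := by
    intro k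
    rw [hqdef, hψ₀def, Category.assoc, Category.assoc]
    congr 1
    apply eps_hom_ext J
    rw [ap_comp, ap_comp, ap_homOfSec, ap_homOfSec, res_id, res_id]
    exact (t k).2.2.2.2.symm
  -- Step 3: finite subcover and common index
  obtain ⟨s, hs⟩ := (isQC_iff_cov X).1 hX.1 κ Q q hcov₃
  obtain ⟨i₀, hi₀⟩ := IsFiltered.sup_objs_exists (s.image idx)
  have harr : ∀ k : s, Nonempty (idx k ⟶ i₀) := fun k =>
    hi₀ (Finset.mem_image_of_mem idx k.2)
  let arr : ∀ k : s, idx k ⟶ i₀ := fun k => (harr k).some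
  obtain ⟨ψ₁, hψ₁def⟩ : ∃ ψ₁ : ∀ k : s, Q k ⟶ D.obj i₀, ∀ k, ψ₁ k = ψ₀ k ≫ D.map (arr k) :=
    ⟨_, fun _ => rfl⟩
  have hψ₁ : ∀ k : s, q k ≫ φ = ψ₁ k ≫ colimit.ι D i₀ := by
    intro k
    rw [hψ₁def, Category.assoc, colimit.w, hψ₀]
  -- Step 4: make the lifts compatible on overlaps
  have hpair : ∀ p : s × s, ∃ (j : I) (f : i₀ ⟶ j),
      (pullback.fst (q p.1) (q p.2) ≫ ψ₁ p.1) ≫ D.map f =
        (pullback.snd (q p.1) (q p.2) ≫ ψ₁ p.2) ≫ D.map f := by
    intro p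
    have hW : IsQC (pullback (q p.1) (q p.2)) := hX.2 _ _ _ _ (hQ _) (hQ _)
    refine exists_eq_of_isQC D hW (colimit.cocone D) (colimit.isColimit D) _ _ ?_
    show (_ ≫ ψ₁ p.1) ≫ colimit.ι D i₀ = (_ ≫ ψ₁ p.2) ≫ colimit.ι D i₀
    rw [Category.assoc, Category.assoc, ← hψ₁ p.1, ← hψ₁ p.2, ← Category.assoc, ← Category.assoc,
      pullback.condition]
  choose jp fp hfp using hpair
  obtain ⟨j₁, f, hf⟩ := exists_common_arrow (Finset.univ : Finset (s × s)) jp fp
  obtain ⟨ψ₂, hψ₂def⟩ : ∃ ψ₂ : ∀ k : s, Q k ⟶ D.obj j₁, ∀ k, ψ₂ k = ψ₁ k ≫ D.map f :=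
    ⟨_, fun _ => rfl⟩
  have hψ₂ : ∀ k k' : s, pullback.fst (q k) (q k') ≫ ψ₂ k = pullback.snd (q k) (q k') ≫ ψ₂ k' := by
    intro k k'
    obtain ⟨c, hc⟩ := hf (k, k') (Finset.mem_univ _)
    have h3 := hfp (k, k')
    rw [hψ₂def, hψ₂def, ← hc, D.map_comp]
    simp only [← Category.assoc] at h3 ⊢
    rw [h3]
  -- Step 5: glue
  obtain ⟨χ, hχ⟩ := exists_desc_of_cov (fun k : s => q k) hs ψ₂ hψ₂
  refine ⟨j₁, χ, hom_ext_of_cov (fun k : s => q k) hs (fun k => ?_)⟩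
  show q k ≫ χ ≫ colimit.ι D j₁ = q k ≫ φ
  rw [← Category.assoc, hχ k, hψ₁ k, hψ₂def, Category.assoc, colimit.w]

/-- Coherent objects of a topos with quasi-compact generators are finitely presentable. -/
theorem post_bijective_of_isCoherent (hE : HasQCGenerators J) {X : Sh J} (hX : IsCoherent X) :
    Function.Bijective (colimit.post D (coyoneda.obj (op X))) := by
  refine ⟨post_injective_of_isQC D X hX.1, fun φ => ?_⟩
  obtain ⟨j, χ, hχ⟩ := exists_factor_of_isCoherent D hE hX φ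
  exact ⟨colimit.ι (D ⋙ coyoneda.obj (op X)) j χ, by rw [post_ι_apply]; exact hχ⟩

end Surj

end Groth.Agent.Lib.TFinFilt
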