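import Groth.Agent.Lib.CechAcyc4
import Groth.Agent.Lib.ModToSheafColim
import Groth.Agent.Lib.TFinFilt3
import Mathlib.CategoryTheory.Sites.PreservesSheafification
import Mathlib.Algebra.Category.Grp.FilteredColimits
import Mathlib.CategoryTheory.Limits.FunctorCategory.Basic

/-!
# Morphisms from free abelian sheaves on coherent objects to filtered colimits (helper95)

* the forgetful functor from abelian sheaves to sheaves of sets preserves filtered colimits;
* morphisms `ℤ[W] ⟶ colim D` factor through a stage for coherent `W`, and morphisms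
  `ℤ[W] ⟶ D i` vanishing in the colimit vanish at a later stage for quasi-compact `W`;
* `HomExactAt` passes to filtered colimits under these conditions.
-/

universe u

open CategoryTheory Limits Opposite Abelian

set_option linter.unusedSectionVars false

namespace Groth.Agent.Lib.FiltHom

open Groth.Agent.Lib.CechAcyc1 Groth.Agent.Lib.CechAcyc3 Groth.Agent.Lib.CechAcyc4
  Groth.Agent.Lib.TFinFilt ToposFin

section Abstract

variable {A : Type*} [Category* A] [Preadditive A] {Λ : Type*} [Category* Λ] [IsFiltered Λ]

/-- `HomExactAt` passes to filtered colimits provided morphisms out of the terms of the complex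
factor through stages and vanish at later stages when they vanish in the colimit. -/
theorem homExactAt_of_filtered (R : ChainComplex A ℕ) (D : Λ ⥤ A) (c : Cocone D) (n : ℕ)
    (hfac : ∀ z : R.X (n + 1) ⟶ c.pt, ∃ (i : Λ) (zi : R.X (n + 1) ⟶ D.obj i), zi ≫ c.ι.app i = z)
    (heq : ∀ (i : Λ) (z : R.X (n + 2) ⟶ D.obj i), z ≫ c.ι.app i = 0 →
      ∃ (j : Λ) (a : i ⟶ j), z ≫ D.map a = 0)
    (hex : ∀ i, HomExactAt R (D.obj i) n) : HomExactAt R c.pt n := by
  intro z hz
  obtain ⟨i, zi, rfl⟩ := hfac z
  obtain ⟨j, a, ha⟩ := heq i (R.d (n + 2) (n + 1) ≫ zi) (by rw [Category.assoc, hz])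
  obtain ⟨t, ht⟩ := hex j (zi ≫ D.map a) (by rw [← Category.assoc, ha])
  refine ⟨t ≫ c.ι.app j, ?_⟩
  rw [← Category.assoc, ht, Category.assoc, c.w]

end Abstract

section Site

variable {C : Type u} [SmallCategory C] {J : GrothendieckTopology C}

/-- the forgetful functor from abelian sheaves to sheaves of sets -/
noncomputable abbrev U : Sheaf J AddCommGrpCat.{u} ⥤ Sheaf J (Type u) :=
  sheafCompose J (forget AddCommGrpCat.{u})

instance preservesFilteredColimits_U (Λ : Type u) [SmallCategory Λ] [IsFiltered Λ] :
    PreservesColimitsOfShape Λ (U (J := J)) := by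
  have h1 : PreservesColimitsOfShape Λ
      ((Functor.whiskeringRight Cᵒᵖ AddCommGrpCat.{u} (Type u)).obj (forget AddCommGrpCat.{u}) ⋙
        presheafToSheaf J (Type u)) := inferInstance
  have h2 : PreservesColimitsOfShape Λ (presheafToSheaf J AddCommGrpCat.{u} ⋙ U (J := J)) :=
    preservesColimitsOfShape_of_natIso (sheafComposeNatIso J (forget AddCommGrpCat.{u})
      (sheafificationAdjunction J AddCommGrpCat.{u}) (sheafificationAdjunction J (Type u)))
  exact Groth.Agent.Lib.ModToSheafColim.preservesColimitsOfShape_of_reflector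
    (sheafificationAdjunction J AddCommGrpCat.{u}) _ Λ

variable {Λ : Type u} [SmallCategory Λ] [IsFiltered Λ] (D : Λ ⥤ Sheaf J AddCommGrpCat.{u})

/-- morphisms from the free abelian sheaf on a coherent object to a filtered colimit factor
through a stage. -/
theorem exists_factor (hE : HasQCGenerators J) {W : Sheaf J (Type u)} (hW : IsCoherent W)
    (z : (T J).obj W ⟶ colimit D) :
    ∃ (i : Λ) (zi : (T J).obj W ⟶ D.obj i), zi ≫ colimit.ι D i = z := by
  obtain ⟨j, χ, hχ⟩ := exists_factor_of_isCoherent (D ⋙ U) hE hW
    ((adj (J := J)).homEquiv W _ z ≫ (preservesColimitIso U D).hom)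
  refine ⟨j, ((adj (J := J)).homEquiv W _).symm χ, ?_⟩
  apply ((adj (J := J)).homEquiv W _).injective
  rw [Adjunction.homEquiv_naturality_right, Equiv.apply_symm_apply,
    ← cancel_mono (preservesColimitIso U D).hom, Category.assoc, ι_preservesColimitIso_hom]
  exact hχ

/-- morphisms from the free abelian sheaf on a quasi-compact object to a stage of a filtered
diagram which vanish in the colimit vanish at a later stage. -/
theorem exists_eq_zero {W : Sheaf J (Type u)} (hW : IsQC W) {i : Λ}
    (z : (T J).obj W ⟶ D.obj i) (hz : z ≫ colimit.ι D i = 0) :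
    ∃ (j : Λ) (a : i ⟶ j), z ≫ D.map a = 0 := by
  obtain ⟨k, f, hf⟩ := exists_eq_of_isQC (D ⋙ U) hW (U.mapCocone (colimit.cocone D))
    (isColimitOfPreserves U (colimit.isColimit D))
    ((adj (J := J)).homEquiv W _ z) ((adj (J := J)).homEquiv W _ 0) (by
      show (adj (J := J)).homEquiv W _ z ≫ U.map (colimit.ι D i) =
        (adj (J := J)).homEquiv W _ 0 ≫ U.map (colimit.ι D i)
      rw [← Adjunction.homEquiv_naturality_right, ← Adjunction.homEquiv_naturality_right, hz,
        zero_comp])
  refine ⟨k, f, ?_⟩
  apply ((adj (J := J)).homEquiv W _).injective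
  have hf : (adj (J := J)).homEquiv W _ z ≫ U.map (D.map f) =
      (adj (J := J)).homEquiv W _ 0 ≫ U.map (D.map f) := hf
  rw [← Adjunction.homEquiv_naturality_right, ← Adjunction.homEquiv_naturality_right,
    zero_comp] at hf
  exact hf

end Site

end Groth.Agent.Lib.FiltHom
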