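import Groth.Agent.Lib.RelCartan
import Groth.Agent.Lib.FinSOb
import Groth.Agent.Lib.ExtAdd95
import Groth.Agent.Lib.FiltHom

/-!
# Filtered colimits of `S`-acyclic abelian sheaves are `S`-acyclic (helper95)

`S` a generating set of quasi-compact objects of a sheaf topos, closed under fibre products.
-/

universe u

open CategoryTheory Limits Opposite Abelian

set_option linter.unusedSectionVars false
set_option backward.defeqAttrib.useBackward true
set_option backward.isDefEq.respectTransparency false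

namespace Groth.Agent.Lib.FiltAcyc

open Groth.Agent.Lib.CechAcyc1 Groth.Agent.Lib.CechAcyc2 Groth.Agent.Lib.CechAcyc3
  Groth.Agent.Lib.CechAcyc4 Groth.Agent.Lib.RelCartan Groth.Agent.Lib.FinSOb
  Groth.Agent.Lib.ExtAdd95 Groth.Agent.Lib.FiltHom Groth.Agent.Lib.TFinAlg
  Groth.Agent.Lib.WidePbIter ToposFin

variable {C : Type u} [SmallCategory C] {J : GrothendieckTopology C}

theorem subsingleton_ext_colimit (S : Set (Sh J)) (hqc : ∀ K ∈ S, IsQC K)
    (hgen : IsGenerating S) (hpb : ClosedUnderPullbacks S)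
    {Λ : Type u} [SmallCategory Λ] [IsFiltered Λ] (D : Λ ⥤ Sheaf J AddCommGrpCat.{u})
    (hD : ∀ (i : Λ) (K : Sh J), K ∈ S → ∀ q : ℕ,
      Subsingleton (Ext ((T J).obj K) (D.obj i) (q + 1)))
    (K : Sh J) (hK : K ∈ S) (q : ℕ) :
    Subsingleton (Ext ((T J).obj K) (colimit D) (q + 1)) := by
  let 𝒞 : ∀ ⦃K' K : Sheaf J (Type u)⦄, (K' ⟶ K) → Prop := fun K' K _ => K ∈ S ∧ FinS S K'
  have hE := hasQCGenerators_of_isGenerating S hqc hgen
  refine subsingleton_ext_of_relCechAcyclic (𝒦 := S) (𝒞 := 𝒞) ?_ ?_ q (colimit D) ?_ K hK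
  · intro K hK X g hg
    obtain ⟨K', h, hepi, hfin⟩ := exists_refinement hqc hgen hK g
    exact ⟨K', h, hepi, hK, hfin⟩
  · intro K' K f hf hC n F hF
    exact subsingleton_ext_of_finS (finS_W hpb f hC.1 hC.2 n) F 1 hF
  · intro K' K f hf hC n
    have := hf
    refine homExactAt_of_filtered (R f) D (colimit.cocone D) n ?_ ?_ ?_
    · intro z
      exact exists_factor D hE ((finS_W hpb f hC.1 hC.2 (n + 1)).isCoherent hqc hgen hpb) z
    · intro i z hz
      exact exists_eq_zero D ((finS_W hpb f hC.1 hC.2 (n + 2)).isCoherent hqc hgen hpb).1 z hz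
    · intro i
      exact homExactAt_of_ext_vanishing (exactAt_R f) ((π f).f 0) (d_comp_f_zero (π f))
        (isColimitCokernelCofork (π f)) n (D.obj i)
        (fun k p => subsingleton_ext_of_finS (finS_W hpb f hC.1 hC.2 k) _ (p + 1)
          (fun L hL => hD i L hL p))
        (fun p => hD i K hC.1 p)

end Groth.Agent.Lib.FiltAcyc
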