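import Groth.Agent.Lib.FiltColimTop

/-!
# Cohomology over a quasi-compact quasi-separated open commutes with filtered colimits (helper49)

Variant of lead's `Lib/FiltColimTop` in which only the open `U` (not the whole space) is assumed quasi-separated:
`X` a space with a basis of quasi-compact opens, `U` a quasi-compact open with `IsQuasiSeparated (U : Set X)`.
Then `H^p(U, -)` preserves filtered colimits of abelian sheaves on `X` (`preservesColimit_qcqs`).
-/

set_option autoImplicit false
set_option linter.unusedSectionVars false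

universe u

open CategoryTheory Limits Opposite TopologicalSpace Abelian

namespace Groth.Agent.Lib.FiltColimQS

open Groth.Agent.Lib.FiltColimSec Groth.Agent.Lib.FiltColimExt Groth.Agent.Lib.FiltColimCoh
open Groth.Agent.Lib.FiltColimTop Groth.Agent.Lib

variable {X : TopCat.{u}}

/-- the class of quasi-compact quasi-separated opens -/
def qcqs (X : TopCat.{u}) : Set (Opens X) := {U | IsCompact (U : Set X) ∧ IsQuasiSeparated (U : Set X)}

/-- finite covers of a quasi-compact quasi-separated open by quasi-compact opens -/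
def QSCov (X : TopCat.{u}) : ∀ (U : Opens X) (ι : Type u), (ι → Over U) → Prop := fun U ι Y =>
  Finite ι ∧ U ∈ qcqs X ∧ (∀ i, IsCompact ((Y i).left : Set X)) ∧
    (U : Set X) ⊆ ⋃ i, ((Y i).left : Set X)

lemma isCompact_iInf_fin_of_le {U : Opens X} (hU : IsQuasiSeparated (U : Set X)) {n : ℕ}
    (V : Fin (n + 1) → Opens X) (hVU : ∀ k, V k ≤ U)
    (hV : ∀ k, IsCompact (V k : Set X)) : IsCompact ((⨅ k, V k : Opens X) : Set X) := by
  have h : (⨅ k, V k : Opens X) = Finset.univ.inf' Finset.univ_nonempty V := by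
    rw [Finset.inf'_eq_inf, Finset.inf_univ_eq_iInf]
  rw [h]
  have key : IsCompact ((Finset.univ.inf' Finset.univ_nonempty V : Opens X) : Set X) ∧
      (Finset.univ.inf' Finset.univ_nonempty V : Opens X) ≤ U := by
    refine Finset.inf'_induction
      (p := fun W : Opens X => IsCompact (W : Set X) ∧ W ≤ U) _ _ ?_ ?_
    · intro a ha b hb
      refine ⟨?_, inf_le_left.trans ha.2⟩
      rw [Opens.coe_inf]
      exact hU _ _ ha.2 a.2 ha.1 hb.2 b.2 hb.1
    · intro k _
      exact ⟨hV k, hVU k⟩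
  exact key.1

lemma h1_qs (U : Opens X) (ι : Type u) (Y : ι → Over U)
    (hY : QSCov X U ι Y) : Finite ι ∧ U ∈ qcqs X ∧
      Sieve.ofArrows (fun i => (Y i).left) (fun i => (Y i).hom) ∈
        Opens.grothendieckTopology X U ∧
      ∀ (p : ℕ) (a : Fin (p + 1) → ι), (∏ᶜ fun k => Y (a k)).left ∈ qcqs X := by
  obtain ⟨hfin, hU, hYc, hcov⟩ := hY
  refine ⟨hfin, hU, ?_, ?_⟩
  · intro x hx
    obtain ⟨i, hi⟩ := Set.mem_iUnion.1 (hcov hx)
    exact ⟨(Y i).left, (Y i).hom, Sieve.ofArrows_mk _ _ i, hi⟩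
  · intro p a
    have hle : ∀ k, (Y (a k)).left ≤ U := fun k => leOfHom (Y (a k)).hom
    have e : (∏ᶜ fun k => Y (a k)).left = ⨅ k, (Y (a k)).left := prod_left_eq _
    constructor
    · change IsCompact (((∏ᶜ fun k => Y (a k)).left : Opens X) : Set X)
      rw [e]
      exact isCompact_iInf_fin_of_le hU.2 _ hle (fun k => hYc (a k))
    · change IsQuasiSeparated (((∏ᶜ fun k => Y (a k)).left : Opens X) : Set X)
      rw [e]
      exact hU.2.of_subset (fun x hx => hle 0 ((iInf_le (fun k => (Y (a k)).left) 0) hx))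

lemma h2_qs (hb : Opens.IsBasis (qc X)) (U : Opens X) (hU : U ∈ qcqs X)
    (T : Sieve U) (hT : T ∈ Opens.grothendieckTopology X U) :
    ∃ (ι : Type u) (Y : ι → Over U), QSCov X U ι Y ∧ ∀ i, T.arrows (Y i).hom := by
  obtain ⟨ι, Y, ⟨hfin, _, hYc, hcov⟩, hT'⟩ := h2_top hb U hU.1 T hT
  exact ⟨ι, Y, ⟨hfin, hU, hYc, hcov⟩, hT'⟩

variable {I : Type u} [SmallCategory I] [IsFiltered I]

/-- `H^p(U, -)` preserves filtered colimits for `U` a quasi-compact quasi-separated open -/
theorem preservesColimit_qcqs (hb : Opens.IsBasis (qc X))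
    (F : I ⥤ Sheaf (Opens.grothendieckTopology X) AddCommGrpCat.{u}) (U : Opens X)
    (hU : IsCompact (U : Set X)) (hqs : IsQuasiSeparated (U : Set X)) (p : ℕ) :
    PreservesColimit F
      ((Sheaf.cohomologyPresheafFunctor (Opens.grothendieckTopology X) p).flip.obj (op U)) :=
  preservesColimit_H (qcqs X) (QSCov X) h1_qs (h2_qs hb) F U ⟨hU, hqs⟩ p

end Groth.Agent.Lib.FiltColimQS
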