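import Groth.Agent.Lib.FiltColimCoh
import Groth.Agent.Lib.HBridge
import Mathlib.Topology.QuasiSeparated
import Mathlib.Topology.Sets.Opens

/-!
# Cohomology commutes with filtered colimits on quasi-compact quasi-separated spaces

`X` a topological space which is quasi-separated and has a basis of quasi-compact opens (e.g. the
underlying space of a quasi-separated scheme, or any spectral space).  For every quasi-compact open
`U`, every `p` and every filtered diagram `F` of abelian sheaves on `X`: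
`colim_i H^p(U, F_i) ≅ H^p(U, colim F_i)` (`extColim_top`, `preservesColimit_top`), and if `X` itself
is quasi-compact the same holds for `Sheaf.H (-) p` (`H_surj`, `H_inj`, for an arbitrary colimit
cocone).  Also `isColimit_of_locally`: recognition of filtered colimits of abelian sheaves on a site.
-/

set_option autoImplicit false
set_option linter.unusedSectionVars false

universe u

open CategoryTheory Limits Opposite TopologicalSpace Abelian

namespace Groth.Agent.Lib.FiltColimTop

open Groth.Agent.Lib.FiltColimSec Groth.Agent.Lib.FiltColimExt Groth.Agent.Lib.FiltColimCoh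
open Groth.Agent.Lib

section Space

variable {X : TopCat.{u}}

/-- the class of quasi-compact opens -/
def qc (X : TopCat.{u}) : Set (Opens X) := {U | IsCompact (U : Set X)}

/-- finite covers of a quasi-compact open by quasi-compact opens -/
def QCov (X : TopCat.{u}) : ∀ (U : Opens X) (ι : Type u), (ι → Over U) → Prop := fun U ι Y =>
  Finite ι ∧ IsCompact (U : Set X) ∧ (∀ i, IsCompact ((Y i).left : Set X)) ∧
    (U : Set X) ⊆ ⋃ i, ((Y i).left : Set X)

lemma prod_left_eq {U : Opens X} {n : ℕ} (Z : Fin (n + 1) → Over U) :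
    (∏ᶜ Z).left = ⨅ k, (Z k).left := by
  apply le_antisymm
  · exact le_iInf fun k => leOfHom (Pi.π Z k).left
  · let V : Opens X := ⨅ k, (Z k).left
    have hVU : V ≤ U := (iInf_le _ 0).trans (leOfHom (Z 0).hom)
    let φ : Over.mk (homOfLE hVU) ⟶ ∏ᶜ Z :=
      Pi.lift (fun k => Over.homMk (homOfLE (iInf_le _ k)) (Subsingleton.elim _ _))
    exact leOfHom φ.left

lemma isCompact_iInf_fin [QuasiSeparatedSpace X] {n : ℕ} (V : Fin (n + 1) → Opens X)
    (hV : ∀ k, IsCompact (V k : Set X)) : IsCompact ((⨅ k, V k : Opens X) : Set X) := by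
  have h : (⨅ k, V k : Opens X) = Finset.univ.inf' Finset.univ_nonempty V := by
    rw [Finset.inf'_eq_inf, Finset.inf_univ_eq_iInf]
  rw [h]
  refine Finset.inf'_induction (p := fun W : Opens X => IsCompact (W : Set X)) _ _ ?_ ?_
  · intro a ha b hb
    rw [Opens.coe_inf]
    exact QuasiSeparatedSpace.inter_isCompact _ _ a.2 ha b.2 hb
  · intro k _
    exact hV k

lemma h1_top [QuasiSeparatedSpace X] (U : Opens X) (ι : Type u) (Y : ι → Over U)
    (hY : QCov X U ι Y) : Finite ι ∧ U ∈ qc X ∧
      Sieve.ofArrows (fun i => (Y i).left) (fun i => (Y i).hom) ∈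
        Opens.grothendieckTopology X U ∧
      ∀ (p : ℕ) (a : Fin (p + 1) → ι), (∏ᶜ fun k => Y (a k)).left ∈ qc X := by
  obtain ⟨hfin, hU, hYc, hcov⟩ := hY
  refine ⟨hfin, hU, ?_, ?_⟩
  · intro x hx
    obtain ⟨i, hi⟩ := Set.mem_iUnion.1 (hcov hx)
    exact ⟨(Y i).left, (Y i).hom, Sieve.ofArrows_mk _ _ i, hi⟩
  · intro p a
    change IsCompact (((∏ᶜ fun k => Y (a k)).left : Opens X) : Set X)
    rw [prod_left_eq]
    exact isCompact_iInf_fin _ (fun k => hYc (a k))

lemma h2_top (hb : Opens.IsBasis (qc X)) (U : Opens X) (hU : U ∈ qc X)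
    (T : Sieve U) (hT : T ∈ Opens.grothendieckTopology X U) :
    ∃ (ι : Type u) (Y : ι → Over U), QCov X U ι Y ∧ ∀ i, T.arrows (Y i).hom := by
  classical
  have key : ∀ x : U, ∃ W : Opens X, IsCompact (W : Set X) ∧ (x : X) ∈ W ∧
      ∃ hW : W ≤ U, T.arrows (homOfLE hW) := by
    intro x
    obtain ⟨V, f, hf, hxV⟩ := hT x.1 x.2
    obtain ⟨W, hW, hxW, hWV⟩ := Opens.isBasis_iff_nbhd.1 hb hxV
    refine ⟨W, hW, hxW, hWV.trans (leOfHom f), ?_⟩
    have h := T.downward_closed hf (homOfLE hWV)
    have e : homOfLE hWV ≫ f = homOfLE (hWV.trans (leOfHom f)) := Subsingleton.elim _ _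
    rw [e] at h
    exact h
  choose W hWc hxW hWU hWT using key
  obtain ⟨t, ht⟩ := hU.elim_finite_subcover (fun x : U => ((W x : Opens X) : Set X))
    (fun x => (W x).2) (fun x hx => Set.mem_iUnion.2 ⟨⟨x, hx⟩, hxW ⟨x, hx⟩⟩)
  refine ⟨↥t, fun i => Over.mk (homOfLE (hWU i.1)), ⟨inferInstance, hU, fun i => hWc i.1, ?_⟩,
    fun i => hWT i.1⟩
  intro x hx
  obtain ⟨i, hi⟩ := Set.mem_iUnion.1 (ht hx)
  obtain ⟨hit, hxi⟩ := Set.mem_iUnion.1 hi
  exact Set.mem_iUnion.2 ⟨⟨i, hit⟩, hxi⟩

variable {I : Type u} [SmallCategory I] [IsFiltered I]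

/-- **Cohomology over a quasi-compact open commutes with filtered colimits** (elementwise). -/
theorem extColim_top [QuasiSeparatedSpace X] (hb : Opens.IsBasis (qc X))
    (F : I ⥤ Sheaf (Opens.grothendieckTopology X) AddCommGrpCat.{u}) (U : Opens X)
    (hU : IsCompact (U : Set X)) (p : ℕ) :
    ExtColim.{u} (SiteCoh.freeYoneda (Opens.grothendieckTopology X) U) F p :=
  extColim (qc X) (QCov X) h1_top (h2_top hb) F U hU p

/-- sections over a quasi-compact open commute with filtered colimits -/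
theorem secColim_top [QuasiSeparatedSpace X] (hb : Opens.IsBasis (qc X))
    (F : I ⥤ Sheaf (Opens.grothendieckTopology X) AddCommGrpCat.{u}) (c : Cocone F)
    (hc : IsColimit c) (U : Opens X) (hU : IsCompact (U : Set X)) :
    SecColim (Opens.grothendieckTopology X) F c U :=
  secColim F (finCov_of _ (qc X) (QCov X) h1_top (h2_top hb)) c hc U hU

/-- `H^p(U, -)` preserves filtered colimits for `U` quasi-compact open -/
theorem preservesColimit_top [QuasiSeparatedSpace X] (hb : Opens.IsBasis (qc X))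
    (F : I ⥤ Sheaf (Opens.grothendieckTopology X) AddCommGrpCat.{u}) (U : Opens X)
    (hU : IsCompact (U : Set X)) (p : ℕ) :
    PreservesColimit F
      ((Sheaf.cohomologyPresheafFunctor (Opens.grothendieckTopology X) p).flip.obj (op U)) :=
  preservesColimit_H (qc X) (QCov X) h1_top (h2_top hb) F U hU p

end Space

section Cocone

variable {A : Type*} [Category A] [Abelian A] [HasExt A]
  {I : Type*} [SmallCategory I] [HasColimitsOfShape I A]

/-- `ExtColim.surj` for an arbitrary colimit cocone -/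
theorem surj_cocone {Z : A} {F : I ⥤ A} {p : ℕ} (h : ExtColim Z F p) (c : Cocone F)
    (hc : IsColimit c) (x : Ext Z c.pt p) :
    ∃ (i : I) (y : Ext Z (F.obj i) p), y.comp (Ext.mk₀ (c.ι.app i)) (add_zero p) = x := by
  let e : colimit F ≅ c.pt := (colimit.isColimit F).coconePointUniqueUpToIso hc
  have he : ∀ i, colimit.ι F i ≫ e.hom = c.ι.app i := fun i =>
    (colimit.isColimit F).comp_coconePointUniqueUpToIso_hom hc i
  obtain ⟨i, y, hy⟩ := h.surj (x.comp (Ext.mk₀ e.inv) (add_zero p))
  refine ⟨i, y, ?_⟩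
  rw [← he i, ← comp_mk₀_comp_mk₀, hy, comp_mk₀_comp_mk₀, e.inv_hom_id, Ext.comp_mk₀_id]

/-- `ExtColim.inj` for an arbitrary colimit cocone -/
theorem inj_cocone {Z : A} {F : I ⥤ A} {p : ℕ} (h : ExtColim Z F p) (c : Cocone F)
    (hc : IsColimit c) (i : I) (y : Ext Z (F.obj i) p)
    (hy : y.comp (Ext.mk₀ (c.ι.app i)) (add_zero p) = 0) :
    ∃ (j : I) (f : i ⟶ j), y.comp (Ext.mk₀ (F.map f)) (add_zero p) = 0 := by
  let e : colimit F ≅ c.pt := (colimit.isColimit F).coconePointUniqueUpToIso hc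
  have he : colimit.ι F i ≫ e.hom = c.ι.app i :=
    (colimit.isColimit F).comp_coconePointUniqueUpToIso_hom hc i
  apply h.inj i y
  have h1 : (y.comp (Ext.mk₀ (c.ι.app i)) (add_zero p)).comp (Ext.mk₀ e.inv) (add_zero p) =
      (0 : Ext Z c.pt p).comp (Ext.mk₀ e.inv) (add_zero p) := by rw [hy]
  rw [comp_mk₀_comp_mk₀, ← he, Category.assoc, e.hom_inv_id, Category.comp_id, Ext.zero_comp]
    at h1
  exact h1

end Cocone

section Global

variable {X : TopCat.{u}} [CompactSpace X] [QuasiSeparatedSpace X]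
  {I : Type u} [SmallCategory I] [IsFiltered I]

lemma HEquivHUTop_naturality {F G : CohTop.Ab X} (φ : F ⟶ G) (p : ℕ) (x : CohTop.H F p) :
    HBridge.HEquivHUTop G p (Sheaf.H.map φ p x) =
      (HBridge.HEquivHUTop F p x).comp (Ext.mk₀ φ) (add_zero p) := by
  rw [HBridge.HEquivHUTop_apply, HBridge.HEquivHUTop_apply, Sheaf.H.map_apply]
  exact (Ext.comp_assoc _ _ _ (zero_add p) (add_zero p) (by omega)).symm

/-- **`H^p(X, -)` commutes with filtered colimits on a qcqs space**: every class comes from a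
stage. -/
theorem H_surj (hb : Opens.IsBasis (qc X))
    (F : I ⥤ Sheaf (Opens.grothendieckTopology X) AddCommGrpCat.{u}) (c : Cocone F)
    (hc : IsColimit c) (p : ℕ) (x : Sheaf.H c.pt p) :
    ∃ (i : I) (y : Sheaf.H (F.obj i) p), Sheaf.H.map (c.ι.app i) p y = x := by
  have h := extColim_top hb F (⊤ : Opens X) (by simpa using isCompact_univ) p
  obtain ⟨i, y', hy'⟩ := surj_cocone h c hc (HBridge.HEquivHUTop c.pt p x)
  refine ⟨i, (HBridge.HEquivHUTop (F.obj i) p).symm y', ?_⟩
  apply (HBridge.HEquivHUTop c.pt p).injective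
  rw [HEquivHUTop_naturality]
  exact (congrArg (fun z => Ext.comp z (Ext.mk₀ (c.ι.app i)) (add_zero p))
    ((HBridge.HEquivHUTop (F.obj i) p).apply_symm_apply y')).trans hy'

/-- **`H^p(X, -)` commutes with filtered colimits on a qcqs space**: a class dying in the colimit
dies at a later stage. -/
theorem H_inj (hb : Opens.IsBasis (qc X))
    (F : I ⥤ Sheaf (Opens.grothendieckTopology X) AddCommGrpCat.{u}) (c : Cocone F)
    (hc : IsColimit c) (p : ℕ) (i : I) (y : Sheaf.H (F.obj i) p)
    (hy : Sheaf.H.map (c.ι.app i) p y = 0) :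
    ∃ (j : I) (f : i ⟶ j), Sheaf.H.map (F.map f) p y = 0 := by
  have h := extColim_top hb F (⊤ : Opens X) (by simpa using isCompact_univ) p
  have h1 : (HBridge.HEquivHUTop (F.obj i) p y).comp (Ext.mk₀ (c.ι.app i)) (add_zero p) = 0 := by
    rw [← HEquivHUTop_naturality, hy]
    exact map_zero _
  obtain ⟨j, f, hf⟩ := inj_cocone h c hc i _ h1
  refine ⟨j, f, ?_⟩
  apply (HBridge.HEquivHUTop (F.obj j) p).injective
  rw [HEquivHUTop_naturality, hf]
  exact (map_zero _).symm

end Global

end Groth.Agent.Lib.FiltColimTop
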