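import Groth.Agent.Lib.ExtCompare95
import Mathlib.CategoryTheory.Filtered.Basic

/-!
# `Ext` and filtered colimits: the inductive step (helper95)

For a filtered system of short exact sequences `0 → S_i.X₁ → S_i.X₂ → S_i.X₃ → 0` with a cocone
`c` whose point is short exact, if `Ext^{q+1}(M, -)` vanishes on the middle terms and
`Ext^q(M, -)` "commutes with the colimit" on the second and third terms, then `Ext^{q+1}(M, -)`
"commutes with the colimit" on the first terms.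
-/

universe w v u

open CategoryTheory Limits Opposite Abelian

set_option linter.unusedSectionVars false

namespace Groth.Agent.Lib.FiltExt

open Groth.Agent.Lib.ExtCompare95

section Push

variable {A : Type u} [Category.{v} A] [Abelian A] [HasExt.{w} A] (M : A)

/-- pushforward on `Ext^n(M, -)` -/
noncomputable abbrev push {X Y : A} (f : X ⟶ Y) (n : ℕ) : Ext.{w} M X n →+ Ext.{w} M Y n :=
  (Ext.mk₀ f).postcomp M (add_zero n)

lemma push_apply {X Y : A} (f : X ⟶ Y) (n : ℕ) (x : Ext.{w} M X n) :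
    push M f n x = x.comp (Ext.mk₀ f) (add_zero n) := rfl

lemma push_comp {X Y Z : A} (f : X ⟶ Y) (g : Y ⟶ Z) (n : ℕ) (x : Ext.{w} M X n) :
    push M g n (push M f n x) = push M (f ≫ g) n x := by
  rw [push_apply, push_apply, push_apply, Ext.comp_assoc_of_third_deg_zero, Ext.mk₀_comp_mk₀]

lemma δ_push {S S' : ShortComplex A} (h : S.ShortExact) (h' : S'.ShortExact) (φ : S ⟶ S')
    (n : ℕ) (x : Ext.{w} M S.X₃ n) :
    δ h' M n (push M φ.τ₃ n x) = push M φ.τ₁ (n + 1) (δ h M n x) := by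
  rw [δ_apply, δ_apply, push_apply, push_apply, Ext.comp_assoc_of_second_deg_zero,
    ← ShortComplex.ShortExact.extClass_naturality h h' φ, Ext.comp_assoc_of_third_deg_zero]

lemma δ_push_g {S : ShortComplex A} (h : S.ShortExact) (n : ℕ) (x : Ext.{w} M S.X₂ n) :
    δ h M n (push M S.g n x) = 0 := by
  rw [δ_apply, push_apply, Ext.comp_assoc_of_second_deg_zero, h.comp_extClass, Ext.comp_zero]

lemma exists_δ_eq {S : ShortComplex A} (h : S.ShortExact) (n : ℕ)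
    (h₂ : Subsingleton (Ext.{w} M S.X₂ (n + 1))) (x : Ext.{w} M S.X₁ (n + 1)) :
    ∃ y : Ext.{w} M S.X₃ n, δ h M n y = x := δ_surjective h M n h₂ x

lemma exists_push_g_eq {S : ShortComplex A} (h : S.ShortExact) (n : ℕ) (y : Ext.{w} M S.X₃ n)
    (hy : δ h M n y = 0) : ∃ b : Ext.{w} M S.X₂ n, push M S.g n b = y :=
  Ext.covariant_sequence_exact₃ M h y rfl hy

end Push

section Step

variable {A : Type u} [Category.{v} A] [Abelian A] [HasExt.{w} A] (M : A)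
  {Λ : Type*} [Category* Λ] [IsFiltered Λ] (𝒮 : Λ ⥤ ShortComplex A) {T : ShortComplex A}
  (ι : ∀ i, 𝒮.obj i ⟶ T) (hw : ∀ (i j : Λ) (a : i ⟶ j), 𝒮.map a ≫ ι j = ι i)
  (h𝒮 : ∀ i, (𝒮.obj i).ShortExact) (hc : T.ShortExact) (q : ℕ)

include h𝒮 hc in
theorem surj₁ (v₂ : Subsingleton (Ext.{w} M T.X₂ (q + 1)))
    (surj₃ : ∀ y : Ext.{w} M T.X₃ q, ∃ (i : Λ) (yi : Ext.{w} M (𝒮.obj i).X₃ q),
      push M (ι i).τ₃ q yi = y)
    (x : Ext.{w} M T.X₁ (q + 1)) :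
    ∃ (i : Λ) (xi : Ext.{w} M (𝒮.obj i).X₁ (q + 1)), push M (ι i).τ₁ (q + 1) xi = x := by
  obtain ⟨y, rfl⟩ := exists_δ_eq M hc q v₂ x
  obtain ⟨i, yi, rfl⟩ := surj₃ y
  exact ⟨i, δ (h𝒮 i) M q yi, (δ_push M (h𝒮 i) hc (ι i) q yi).symm⟩

include h𝒮 hc hw in
theorem inj₁ (v₂' : ∀ i, Subsingleton (Ext.{w} M (𝒮.obj i).X₂ (q + 1)))
    (surj₂ : ∀ b : Ext.{w} M T.X₂ q, ∃ (j : Λ) (bj : Ext.{w} M (𝒮.obj j).X₂ q),
      push M (ι j).τ₂ q bj = b)
    (inj₃ : ∀ (i : Λ) (yi : Ext.{w} M (𝒮.obj i).X₃ q), push M (ι i).τ₃ q yi = 0 →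
      ∃ (j : Λ) (a : i ⟶ j), push M (𝒮.map a).τ₃ q yi = 0)
    (i : Λ) (xi : Ext.{w} M (𝒮.obj i).X₁ (q + 1))
    (hxi : push M (ι i).τ₁ (q + 1) xi = 0) :
    ∃ (j : Λ) (a : i ⟶ j), push M (𝒮.map a).τ₁ (q + 1) xi = 0 := by
  obtain ⟨yi, rfl⟩ := exists_δ_eq M (h𝒮 i) q (v₂' i) xi
  have hxi' : δ hc M q (push M (ι i).τ₃ q yi) = 0 := (δ_push M (h𝒮 i) hc (ι i) q yi).trans hxi
  obtain ⟨b, hb⟩ := exists_push_g_eq M hc q _ hxi'
  obtain ⟨j, bj, rfl⟩ := surj₂ b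
  let k := IsFiltered.max i j
  let a : i ⟶ k := IsFiltered.leftToMax i j
  let a' : j ⟶ k := IsFiltered.rightToMax i j
  have hτ₃ : (𝒮.map a).τ₃ ≫ (ι k).τ₃ = (ι i).τ₃ := by
    rw [← ShortComplex.comp_τ₃, hw]
  have hτ₂ : (𝒮.map a').τ₂ ≫ (ι k).τ₂ = (ι j).τ₂ := by
    rw [← ShortComplex.comp_τ₂, hw]
  have hy' : push M (ι k).τ₃ q
      (push M (𝒮.map a).τ₃ q yi - push M (𝒮.obj k).g q (push M (𝒮.map a').τ₂ q bj)) = 0 := by
    rw [map_sub, push_comp, push_comp, push_comp, hτ₃, ← hb, push_comp, sub_eq_zero,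
      ← (ι k).comm₂₃, ← Category.assoc, hτ₂]
  obtain ⟨l, a'', hl⟩ := inj₃ k _ hy'
  refine ⟨l, a ≫ a'', ?_⟩
  rw [← δ_push M (h𝒮 i) (h𝒮 l) (𝒮.map (a ≫ a'')) q yi]
  rw [map_sub, sub_eq_zero, push_comp, push_comp, push_comp, ← ShortComplex.comp_τ₃,
    ← 𝒮.map_comp] at hl
  rw [hl, ← (𝒮.map a'').comm₂₃, ← Category.assoc, ← push_comp, δ_push_g]

end Step

end Groth.Agent.Lib.FiltExt
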