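import Groth.Agent.Lib.FiltExt
import Mathlib.CategoryTheory.Abelian.GrothendieckAxioms.Basic
import Mathlib.CategoryTheory.Abelian.FunctorCategory
import Mathlib.Algebra.Homology.ShortComplex.ExactFunctor
import Mathlib.Algebra.Homology.ShortComplex.FunctorEquivalence
import Mathlib.CategoryTheory.Preadditive.FunctorCategory
import Mathlib.CategoryTheory.Limits.Types.Filtered
import Mathlib.Algebra.Category.Grp.FilteredColimits
import Mathlib.Algebra.Homology.DerivedCategory.Ext.ExactSequences

/-!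
# `Ext^q(M, -)` commutes with filtered colimits (helper95)

Let `A` be an abelian category with exact `Λ`-indexed colimits (`Λ` small filtered) and a
functorial embedding `j : 𝟭 ⟶ I` into injectives.  Let `M : A` be such that
* `Hom(M, -)` commutes with `Λ`-indexed colimits (`hfac`, `heq`);
* `Ext^{q+1}(M, colim D) = 0` for every `Λ`-indexed diagram `D` of injective objects (`hinj`).
Then `Ext^q(M, -)` preserves `Λ`-indexed colimits for every `q`.
-/

universe u u'

open CategoryTheory Limits Opposite Abelian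

set_option linter.unusedSectionVars false

namespace Groth.Agent.Lib.FiltExt

open Groth.Agent.Lib.ExtCompare95

variable {A : Type u'} [Category.{u} A] [Abelian A] [HasExt.{u} A]
  {Λ : Type u} [SmallCategory Λ]
  [HasColimitsOfShape Λ A]

instance colim_additive : (colim : (Λ ⥤ A) ⥤ A).Additive where
  map_add {X Y f g} := by
    apply colimit.hom_ext
    intro i
    simp

variable (M : A)

/-- every class in `Ext^q(M, colim D)` comes from a stage -/
def Surj (q : ℕ) (D : Λ ⥤ A) : Prop :=
  ∀ x : Ext.{u} M (colimit D) q, ∃ (i : Λ) (xi : Ext.{u} M (D.obj i) q),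
    push M (colimit.ι D i) q xi = x

/-- a class in `Ext^q(M, D i)` vanishing in the colimit vanishes at a later stage -/
def Inj (q : ℕ) (D : Λ ⥤ A) : Prop :=
  ∀ (i : Λ) (xi : Ext.{u} M (D.obj i) q), push M (colimit.ι D i) q xi = 0 →
    ∃ (j : Λ) (a : i ⟶ j), push M (D.map a) q xi = 0

section Construction

variable (I : A ⥤ A) (j : 𝟭 A ⟶ I) (D : Λ ⥤ A)

/-- the embedding of a diagram into a diagram of injectives -/
def jD : D ⟶ D ⋙ I where
  app i := j.app (D.obj i)
  naturality _ _ a := j.naturality (D.map a)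

lemma mono_jD (hj : ∀ F, Mono (j.app F)) : Mono (jD I j D) :=
  have : ∀ i, Mono ((jD I j D).app i) := fun i => hj _
  NatTrans.mono_of_mono_app _

/-- the short exact sequence of diagrams `0 ⟶ D ⟶ D ⋙ I ⟶ Q ⟶ 0` -/
noncomputable def SΛ : ShortComplex (Λ ⥤ A) :=
  ShortComplex.mk (jD I j D) (cokernel.π (jD I j D)) (cokernel.condition _)

lemma SΛ_shortExact (hj : ∀ F, Mono (j.app F)) : (SΛ I j D).ShortExact :=
  have := mono_jD I j D hj
  ShortComplex.ShortExact.mk' (ShortComplex.exact_cokernel _) this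
    (inferInstanceAs (Epi (cokernel.π (jD I j D))))

/-- the system of short exact sequences -/
noncomputable def 𝒮 : Λ ⥤ ShortComplex A :=
  (ShortComplex.FunctorEquivalence.functor Λ A).obj (SΛ I j D)

/-- the colimit injections as a natural transformation -/
noncomputable def ιNat (i : Λ) : (evaluation Λ A).obj i ⟶ colim where
  app D := colimit.ι D i
  naturality := by intros; simp

/-- the colimit short exact sequence -/
noncomputable def T : ShortComplex A := (SΛ I j D).map colim

/-- the maps into the colimit sequence -/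
noncomputable def ι (i : Λ) : (𝒮 I j D).obj i ⟶ T I j D := (SΛ I j D).mapNatTrans (ιNat i)

lemma hw (i i' : Λ) (a : i ⟶ i') : (𝒮 I j D).map a ≫ ι I j D i' = ι I j D i := by
  ext
  · exact colimit.w D a
  · exact colimit.w (D ⋙ I) a
  · exact colimit.w (cokernel (jD I j D)) a

lemma 𝒮_shortExact (hj : ∀ F, Mono (j.app F)) (i : Λ) : ((𝒮 I j D).obj i).ShortExact :=
  (SΛ_shortExact I j D hj).map_of_exact ((evaluation Λ A).obj i)

lemma T_shortExact [HasExactColimitsOfShape Λ A] (hj : ∀ F, Mono (j.app F)) :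
    (T I j D).ShortExact :=
  (SΛ_shortExact I j D hj).map_of_exact colim

end Construction

variable [IsFiltered Λ] [HasExactColimitsOfShape Λ A]
  (I : A ⥤ A) (j : 𝟭 A ⟶ I) (hI : ∀ F, Injective (I.obj F)) (hj : ∀ F, Mono (j.app F))
  (hfac : ∀ (D : Λ ⥤ A) (z : M ⟶ colimit D), ∃ (i : Λ) (zi : M ⟶ D.obj i),
    zi ≫ colimit.ι D i = z)
  (heq : ∀ (D : Λ ⥤ A) (i : Λ) (z : M ⟶ D.obj i), z ≫ colimit.ι D i = 0 →
    ∃ (j : Λ) (a : i ⟶ j), z ≫ D.map a = 0)
  (hinj : ∀ (D : Λ ⥤ A), (∀ i, Injective (D.obj i)) → ∀ q : ℕ,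
    Subsingleton (Ext.{u} M (colimit D) (q + 1)))

include hI hj hfac heq hinj in
theorem surj_inj (q : ℕ) : ∀ D : Λ ⥤ A, Surj M q D ∧ Inj M q D := by
  induction q with
  | zero =>
    intro D
    constructor
    · intro x
      obtain ⟨z, rfl⟩ := (Ext.mk₀_bijective _ _).2 x
      obtain ⟨i, zi, rfl⟩ := hfac D z
      exact ⟨i, Ext.mk₀ zi, by rw [push_apply, Ext.mk₀_comp_mk₀]⟩
    · intro i xi hxi
      obtain ⟨zi, rfl⟩ := (Ext.mk₀_bijective _ _).2 xi
      rw [push_apply, Ext.mk₀_comp_mk₀] at hxi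
      have h0 : zi ≫ colimit.ι D i = 0 := by
        apply (Ext.mk₀_bijective _ _).1
        rw [hxi, Ext.mk₀_zero]
      obtain ⟨j, a, ha⟩ := heq D i zi h0
      exact ⟨j, a, by rw [push_apply, Ext.mk₀_comp_mk₀, ha, Ext.mk₀_zero]⟩
  | succ q ih =>
    intro D
    have h𝒮 := 𝒮_shortExact I j D hj
    have hT := T_shortExact I j D hj
    have hinjI : ∀ i, Injective ((D ⋙ I).obj i) := fun i => hI _
    constructor
    · exact surj₁ M (𝒮 I j D) (ι I j D) h𝒮 hT q (hinj (D ⋙ I) hinjI q)
        (ih (cokernel (jD I j D))).1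
    · exact inj₁ M (𝒮 I j D) (ι I j D) (hw I j D) h𝒮 hT q
        (fun i =>
          have : Injective ((𝒮 I j D).obj i).X₂ := hI _
          ⟨fun a b => (Ext.eq_zero_of_injective a).trans (Ext.eq_zero_of_injective b).symm⟩)
        (ih (D ⋙ I)).1 (ih (cokernel (jD I j D))).2

/-- filtered colimits are preserved by `Ext^q(M, -)` as soon as the surjectivity and injectivity
conditions hold. -/
theorem preservesColimitsOfShape_of_surj_inj (q : ℕ) (h : ∀ D : Λ ⥤ A, Surj M q D ∧ Inj M q D) :
    PreservesColimitsOfShape Λ ((extFunctor.{u} q).obj (op M)) := by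
  constructor
  intro D
  apply preservesColimit_of_preserves_colimit_cocone (colimit.isColimit D)
  have : ReflectsColimit (D ⋙ (extFunctor.{u} q).obj (op M)) (forget AddCommGrpCat.{u}) :=
    reflectsColimit_of_reflectsIsomorphisms _ _
  apply isColimitOfReflects (forget AddCommGrpCat.{u})
  apply Types.FilteredColimit.isColimitOf'
  · intro x
    obtain ⟨i, xi, hx⟩ := (h D).1 x
    exact ⟨i, xi, hx.symm⟩
  · intro i (x : Ext.{u} M (D.obj i) q) (y : Ext.{u} M (D.obj i) q) hxy
    have hxy' : push M (colimit.ι D i) q x = push M (colimit.ι D i) q y := hxy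
    obtain ⟨k, a, ha⟩ := (h D).2 i (x - y) (by rw [map_sub, hxy', sub_self])
    rw [map_sub, sub_eq_zero] at ha
    exact ⟨k, a, ha⟩

include hI hj hfac heq hinj in
/-- **`Ext^q(M, -)` commutes with filtered colimits.** -/
theorem preservesColimitsOfShape_extFunctor (q : ℕ) :
    PreservesColimitsOfShape Λ ((extFunctor.{u} q).obj (op M)) :=
  preservesColimitsOfShape_of_surj_inj M q (surj_inj M I j hI hj hfac heq hinj q)

end Groth.Agent.Lib.FiltExt
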