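import Groth.Agent.Lib.FiltExt2
import Groth.Agent.Lib.FiltAcyc
import Groth.Agent.Lib.FunctorialInjective
import Mathlib.CategoryTheory.Abelian.GrothendieckAxioms.Sheaf

/-!
# Cohomology of coherent objects of an algebraic topos commutes with filtered colimits (helper95)
-/

universe u

open CategoryTheory Limits Opposite Abelian

set_option linter.unusedSectionVars false

namespace Groth.Agent.Lib.FiltExt3

open Groth.Agent.Lib.FiltExt Groth.Agent.Lib.CechAcyc3 Groth.Agent.Lib.FiltHom Groth.Agent.Lib.FiltAcyc
  Groth.Agent.Lib.TFin Groth.Agent.Lib.TFinAlg ToposFin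

variable {C : Type u} [SmallCategory C] {J : GrothendieckTopology C}

/-- the set of coherent objects -/
def cohSet (J : GrothendieckTopology C) : Set (Sh J) := {X | IsCoherent X}

lemma cohSet_isQC : ∀ K ∈ cohSet J, IsQC K := fun _ h => h.1

lemma cohSet_isGenerating (hE : IsAlgebraic J) : IsGenerating (cohSet J) := by
  obtain ⟨S, hqc, hgen, hpb, -⟩ := hE
  intro X
  obtain ⟨ι, F, π, hF, hπ⟩ := hgen X
  exact ⟨ι, F, π, fun i => isCoherent_of_mem S hqc hgen hpb (hF i), hπ⟩

lemma cohSet_closedUnderPullbacks (hE : IsAlgebraic J) : ClosedUnderPullbacks (cohSet J) := by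
  intro K L M f g hK hL hM
  refine ⟨pullback f g, pullback.fst f g, pullback.snd f g, ⟨hM.2 K L f g hK.1 hL.1, ?_⟩,
    IsPullback.of_hasPullback f g⟩
  have h1 : (qcHom (J := J)).diagonal g :=
    (isQSHom_iff g).1 (isQSHom_of_isQS_of_isAlgebraic hE g hL.2)
  have h2 : (qcHom (J := J)).diagonal (pullback.fst f g) :=
    MorphismProperty.of_isPullback (IsPullback.of_hasPullback f g).flip h1
  exact isQS_of_isQSHom _ ((isQSHom_iff _).2 h2) hK.2

/-- in an algebraic topos, filtered colimits of injective abelian sheaves are acyclic on coherent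
objects. -/
theorem subsingleton_ext_colimit_of_injective (hE : IsAlgebraic J)
    {Λ : Type u} [SmallCategory Λ] [IsFiltered Λ] (D : Λ ⥤ Sheaf J AddCommGrpCat.{u})
    (hD : ∀ i, Injective (D.obj i)) (K : Sh J) (hK : IsCoherent K) (q : ℕ) :
    Subsingleton (Ext ((CechAcyc3.T J).obj K) (colimit D) (q + 1)) :=
  subsingleton_ext_colimit (cohSet J) cohSet_isQC (cohSet_isGenerating hE)
    (cohSet_closedUnderPullbacks hE) D
    (fun i _ _ _ =>
      have := hD i
      ⟨fun a b => (Ext.eq_zero_of_injective a).trans (Ext.eq_zero_of_injective b).symm⟩)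
    K hK q

/-- **S3876**: cohomology of a coherent object of an algebraic topos commutes with filtered
colimits. -/
theorem preservesColimitsOfShape_ext_of_isCoherent (hE : IsAlgebraic J) (K : Sh J)
    (hK : IsCoherent K) (Λ : Type u) [SmallCategory Λ] [IsFiltered Λ] (q : ℕ) :
    PreservesColimitsOfShape Λ ((extFunctor.{u} q).obj (op ((CechAcyc3.T J).obj K))) := by
  obtain ⟨I, j, hIj⟩ := Groth.Agent.Lib.FunctorialInjective.exists_functorial_injective_embedding.{u}
    (A := Sheaf J AddCommGrpCat.{u})
  have hQ := hasQCGenerators_of_isAlgebraic hE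
  exact preservesColimitsOfShape_extFunctor ((CechAcyc3.T J).obj K) I j (fun F => (hIj F).1)
    (fun F => (hIj F).2) (fun D z => exists_factor D hQ hK z)
    (fun D i z hz => exists_eq_zero D hK.1 z hz)
    (fun D hD q => subsingleton_ext_colimit_of_injective hE D hD K hK q) q

end Groth.Agent.Lib.FiltExt3
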