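import Groth.Agent.Lib.FiltExt4

/-!
# Cohomology with supports in the complement of a coherent open commutes with filtered colimits
(helper95)

Abstract part: if `0 ⟶ X₁ ⟶ X₂ ⟶ X₃ ⟶ 0` is short exact and `X₁`, `X₂` satisfy the hypotheses of
`FiltExt.preservesColimitsOfShape_extFunctor`, so does `X₃`.
-/

universe u u'

open CategoryTheory Limits Opposite Abelian

set_option linter.unusedSectionVars false

namespace Groth.Agent.Lib.FiltExt5

section Abstract

variable {A : Type u'} [Category.{u} A] [Abelian A] [HasExt.{u} A]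
  {Λ : Type u} [SmallCategory Λ] [HasColimitsOfShape Λ A]
  {S : ShortComplex A} (hS : S.ShortExact)

/-- `Hom(M, -)` is surjective on `Λ`-colimits -/
def HFac (M : A) : Prop :=
  ∀ (D : Λ ⥤ A) (z : M ⟶ colimit D), ∃ (i : Λ) (zi : M ⟶ D.obj i), zi ≫ colimit.ι D i = z

/-- `Hom(M, -)` is injective on `Λ`-colimits -/
def HEq (M : A) : Prop :=
  ∀ (D : Λ ⥤ A) (i : Λ) (z : M ⟶ D.obj i), z ≫ colimit.ι D i = 0 →
    ∃ (j : Λ) (a : i ⟶ j), z ≫ D.map a = 0

/-- `Λ`-colimits of injectives are `Ext(M, -)`-acyclic -/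
def HInj (M : A) : Prop :=
  ∀ (D : Λ ⥤ A), (∀ i, Injective (D.obj i)) → ∀ q : ℕ,
    Subsingleton (Ext.{u} M (colimit D) (q + 1))

include hS in
lemma hEq_X₃ (h₂ : HEq (Λ := Λ) S.X₂) : HEq (Λ := Λ) S.X₃ := by
  intro D i z hz
  have := hS.epi_g
  obtain ⟨j, a, ha⟩ := h₂ D i (S.g ≫ z) (by rw [Category.assoc, hz, comp_zero])
  refine ⟨j, a, ?_⟩
  rw [← cancel_epi S.g, comp_zero, ← Category.assoc]
  exact ha

include hS in
lemma hFac_X₃ (h₂ : HFac (Λ := Λ) S.X₂) (h₁ : HEq (Λ := Λ) S.X₁) : HFac (Λ := Λ) S.X₃ := by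
  intro D z
  have := hS.epi_g
  obtain ⟨i, w, hw⟩ := h₂ D (S.g ≫ z)
  obtain ⟨j, a, ha⟩ := h₁ D i (S.f ≫ w) (by
    rw [Category.assoc, hw, ← Category.assoc, S.zero, zero_comp])
  have h0 : S.f ≫ (w ≫ D.map a) = 0 := by rw [← Category.assoc]; exact ha
  refine ⟨j, hS.exact.desc (w ≫ D.map a) h0, ?_⟩
  rw [← cancel_epi S.g, ← Category.assoc, hS.exact.g_desc, Category.assoc, colimit.w, hw]

include hS in
lemma hInj_X₃ (h₂ : HInj (Λ := Λ) S.X₂) (h₁ : HInj (Λ := Λ) S.X₁) (hf₁ : HFac (Λ := Λ) S.X₁) :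
    HInj (Λ := Λ) S.X₃ := by
  intro D hD q
  have hmono := hS.mono_f
  have key : ∀ x : Ext.{u} S.X₃ (colimit D) (q + 1), x = 0 := by
    intro x
    obtain ⟨x₁, rfl⟩ := Ext.contravariant_sequence_exact₃ hS _ x
      ((h₂ D hD q).elim _ _) (add_comm 1 q)
    cases q with
    | zero =>
      obtain ⟨s, rfl⟩ := (Ext.mk₀_bijective _ _).2 x₁
      obtain ⟨i, si, rfl⟩ := hf₁ D s
      have := hD i
      have hfac : S.f ≫ Injective.factorThru si S.f = si := Injective.comp_factorThru si S.f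
      rw [← hfac, Category.assoc, ← Ext.mk₀_comp_mk₀]
      exact hS.extClass_comp_assoc _
    | succ q =>
      rw [(h₁ D hD q).elim x₁ 0, Ext.comp_zero]
  exact ⟨fun a b => (key a).trans (key b).symm⟩

end Abstract

section Site

open Groth.Agent.Lib.FiltExt Groth.Agent.Lib.FiltExt3 Groth.Agent.Lib.FiltExt4
  Groth.Agent.Lib.CechAcyc3 Groth.Agent.Lib.FiltHom Groth.Agent.Lib.TFinAlg ToposFin

variable {C : Type u} [SmallCategory C] {J : GrothendieckTopology C}

lemma mono_T_map {X Y : Sh J} (g : X ⟶ Y) [Mono g] : Mono ((CechAcyc3.T J).map g) := by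
  have h1 : Mono ((sheafToPresheaf J (Type u)).map g) := inferInstance
  have h2 : Mono (Functor.whiskerRight ((sheafToPresheaf J (Type u)).map g)
      AddCommGrpCat.free.{u}) := by
    have : ∀ V, Mono ((Functor.whiskerRight ((sheafToPresheaf J (Type u)).map g)
        AddCommGrpCat.free.{u}).app V) := fun V => by
      have : Mono (((sheafToPresheaf J (Type u)).map g).app V) := inferInstance
      exact inferInstanceAs (Mono (AddCommGrpCat.free.{u}.map
        (((sheafToPresheaf J (Type u)).map g).app V)))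
    exact NatTrans.mono_of_mono_app _
  exact (presheafToSheaf J AddCommGrpCat.{u}).map_mono _

variable {Λ : Type u} [SmallCategory Λ] [IsFiltered Λ]

lemma hFac_T (hE : IsAlgebraic J) (K : Sh J) (hK : IsCoherent K) :
    HFac (Λ := Λ) ((CechAcyc3.T J).obj K) :=
  fun D z => exists_factor D (hasQCGenerators_of_isAlgebraic hE) hK z

lemma hEq_T (K : Sh J) (hK : IsQC K) : HEq (Λ := Λ) ((CechAcyc3.T J).obj K) :=
  fun D i z hz => exists_eq_zero D hK z hz

lemma hInj_T (hE : IsAlgebraic J) (K : Sh J) (hK : IsCoherent K) :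
    HInj (Λ := Λ) ((CechAcyc3.T J).obj K) :=
  fun D hD q => subsingleton_ext_colimit_of_injective hE D hD K hK q

/-- **S3898** -/
theorem preservesColimitsOfShape_HZ (hE : IsAlgebraic J) (hT : IsCoherent (⊤_ (Sh J)))
    (U : Sh J) [Mono (terminal.from U)] (hU : IsCoherent U) (Λ : Type u) [SmallCategory Λ]
    [IsFiltered Λ] (q : ℕ) : PreservesColimitsOfShape Λ (HZFunctor U q) := by
  obtain ⟨I, j, hIj⟩ := Groth.Agent.Lib.FunctorialInjective.exists_functorial_injective_embedding.{u}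
    (A := Sheaf J AddCommGrpCat.{u})
  have hmono : Mono ((CechAcyc3.T J).map (terminal.from U)) := mono_T_map _
  let S : ShortComplex (Sheaf J AddCommGrpCat.{u}) :=
    ShortComplex.mk ((CechAcyc3.T J).map (terminal.from U))
      (cokernel.π ((CechAcyc3.T J).map (terminal.from U))) (cokernel.condition _)
  have hS : S.ShortExact := ShortComplex.ShortExact.mk' (ShortComplex.exact_cokernel _) hmono
    (inferInstanceAs (Epi (cokernel.π ((CechAcyc3.T J).map (terminal.from U)))))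
  exact preservesColimitsOfShape_extFunctor S.X₃ I j (fun F => (hIj F).1) (fun F => (hIj F).2)
    (hFac_X₃ hS (hFac_T hE _ hT) (hEq_T U hU.1))
    (hEq_X₃ hS (hEq_T _ hT.1))
    (hInj_X₃ hS (hInj_T hE _ hT) (hInj_T hE U hU) (hFac_T hE U hU)) q

end Site

end Groth.Agent.Lib.FiltExt5
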