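import Mathlib
import Groth.Agent.Lib.NormalDecomp58

/-!
# Idempotent lifting for a complete separated filtration (helper58)

A variant of `NormalDecomp58.exists_idempotent_lift` where the module is complete and separated
for a filtration `G n` (not necessarily the `J`-adic one) in which powers of `J` tend to zero.
-/

set_option autoImplicit false
universe u v

namespace Groth.Agent.Lib.FiltIdem58

open Polynomial Groth.Agent.Lib.NormalDecomp58

variable {W : Type u} [CommRing W] {P : Type v} [AddCommGroup P] [Module W P]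

theorem exists_idempotent_lift_filtered (J : Ideal W) (G : ℕ → Submodule W P)
    (hGanti : Antitone G)
    (hGsep : ∀ x : P, (∀ n, x ∈ G n) → x = 0)
    (hGcompl : ∀ x : ℕ → P, (∀ k, x (k + 1) - x k ∈ G k) → ∃ L, ∀ k, L - x k ∈ G k)
    (hGend : ∀ (f : Module.End W P) (n : ℕ) (x : P), x ∈ G n → f x ∈ G n)
    (hJG : ∀ n, ∃ c, J ^ c • (⊤ : Submodule W P) ≤ G n)
    (f₀ : Module.End W P) (h₀ : ∀ m, f₀ (f₀ m) - f₀ m ∈ J • (⊤ : Submodule W P)) :
    ∃ e : Module.End W P, (∀ m, e (e m) = e m) ∧
      ∀ m n, ∃ y ∈ J • (⊤ : Submodule W P), e m - f₀ m - y ∈ G n := by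
  set f : ℕ → Module.End W P := fun n => aeval f₀ (newton W n) with hf
  have hsq : ∀ n m, f n (f n m) - f n m ∈ J ^ (n + 1) • (⊤ : Submodule W P) := by
    intro n m
    have := aeval_apply_mem_of_dvd J f₀ h₀ (n + 1) _ (dvd_newton_sq_sub W n) m
    simpa [hf, pow_two, Module.End.mul_apply] using this
  have hstep : ∀ n m, f (n + 1) m - f n m ∈ J ^ (n + 1) • (⊤ : Submodule W P) := by
    intro n m
    have := aeval_apply_mem_of_dvd J f₀ h₀ (n + 1) _ (dvd_newton_succ_sub W n) m
    simpa [hf] using this
  have hmono : ∀ {a b : ℕ}, a ≤ b → J ^ b • (⊤ : Submodule W P) ≤ J ^ a • (⊤ : Submodule W P) :=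
    fun hab => Submodule.smul_mono (Ideal.pow_le_pow_right hab) le_rfl
  have hcauchy : ∀ (x : P) (a b : ℕ), a ≤ b →
      f b x - f a x ∈ J ^ (a + 1) • (⊤ : Submodule W P) := by
    intro x a b hab
    induction b, hab using Nat.le_induction with
    | base => simp
    | succ b hab ih =>
      have := Submodule.add_mem _ (hmono (by omega : a + 1 ≤ b + 1) (hstep b x)) ih
      rwa [sub_add_sub_cancel] at this
  choose c hc using hJG
  let d : ℕ → ℕ := fun n => (Finset.range (n + 1)).sup c
  have hdmono : Monotone d := by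
    intro a b hab
    exact Finset.sup_mono (Finset.range_mono (Nat.succ_le_succ hab))
  have hcd : ∀ n, c n ≤ d n := fun n =>
    Finset.le_sup (f := c) (Finset.mem_range.mpr (Nat.lt_succ_self n))
  have hd : ∀ n, J ^ (d n) • (⊤ : Submodule W P) ≤ G n := fun n => (hmono (hcd n)).trans (hc n)
  have hlim : ∀ x : P, ∃ L : P, ∀ k, L - f (d k) x ∈ G k := by
    intro x
    refine hGcompl (fun k => f (d k) x) (fun k => ?_)
    exact hd k (hmono (Nat.le_succ _) (hcauchy x (d k) (d (k + 1)) (hdmono (Nat.le_succ k))))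
  choose e he using hlim
  have huniq : ∀ y z : P, (∀ n, y - z ∈ G n) → y = z := by
    intro y z h
    exact sub_eq_zero.mp (hGsep _ h)
  have hadd : ∀ x y, e (x + y) = e x + e y := by
    intro x y
    apply huniq
    intro n
    have : e (x + y) - (e x + e y) =
        (e (x + y) - f (d n) (x + y)) - (e x - f (d n) x) - (e y - f (d n) y) := by
      rw [map_add]; abel
    rw [this]
    exact Submodule.sub_mem _ (Submodule.sub_mem _ (he _ n) (he _ n)) (he _ n)
  have hsmul : ∀ (a : W) x, e (a • x) = a • e x := by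
    intro a x
    apply huniq
    intro n
    have : e (a • x) - a • e x = (e (a • x) - f (d n) (a • x)) - a • (e x - f (d n) x) := by
      rw [map_smul, smul_sub]; abel
    rw [this]
    exact Submodule.sub_mem _ (he _ n) (Submodule.smul_mem _ _ (he _ n))
  let E : Module.End W P :=
    { toFun := e
      map_add' := hadd
      map_smul' := fun a x => by simpa using hsmul a x }
  refine ⟨E, fun m => ?_, fun m n => ?_⟩
  · show e (e m) = e m
    apply huniq
    intro n
    have h1 : e (e m) - f (d n) (e m) ∈ G n := he _ n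
    have h2 : f (d n) (e m - f (d n) m) ∈ G n := hGend (f (d n)) n _ (he m n)
    have h3 : f (d n) (f (d n) m) - f (d n) m ∈ G n :=
      hd n (hmono (Nat.le_succ _) (hsq (d n) m))
    have h4 : e m - f (d n) m ∈ G n := he m n
    have : e (e m) - e m = (e (e m) - f (d n) (e m)) + f (d n) (e m - f (d n) m) +
        (f (d n) (f (d n) m) - f (d n) m) - (e m - f (d n) m) := by
      rw [map_sub]; abel
    rw [this]
    exact Submodule.sub_mem _ (Submodule.add_mem _ (Submodule.add_mem _ h1 h2) h3) h4
  · show ∃ y ∈ J • (⊤ : Submodule W P), e m - f₀ m - y ∈ G n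
    have h3 : f 0 m = f₀ m := by simp [hf, newton_zero]
    refine ⟨f (d n) m - f 0 m, ?_, ?_⟩
    · have := hcauchy m 0 (d n) (Nat.zero_le _)
      rwa [zero_add, pow_one] at this
    · have : e m - f₀ m - (f (d n) m - f 0 m) = e m - f (d n) m := by rw [h3]; abel
      rw [this]
      exact he m n

end Groth.Agent.Lib.FiltIdem58
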