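import Mathlib.Algebra.Field.Subfield.Basic
import Mathlib.Algebra.BigOperators.Field
import Mathlib.Order.Directed
import Mathlib.Tactic.FieldSimp
import Mathlib.Tactic.LinearCombination
import Mathlib.Tactic.Ring

/-!
# helper44: linear independence over a filtered intersection of subfields

If a finite family of elements of a field `K` is linearly independent over the intersection of
a decreasing filtered family of subfields `E i`, it is linearly independent over some `E i`.
(Elementary formulation with explicit sums, to avoid juggling module structures over varying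
subfields.)
-/

set_option autoImplicit false

namespace Groth.Agent.Lib.FilteredIndepH44

variable {K : Type*} [Field K] {κ : Type*}

/-- elementary linear independence of the finite subfamily `s` of `v` over the subfield `F` -/
def IndOn (F : Subfield K) (v : κ → K) (s : Finset κ) : Prop :=
  ∀ c : κ → K, (∀ j ∈ s, c j ∈ F) → ∑ j ∈ s, c j * v j = 0 → ∀ j ∈ s, c j = 0

theorem IndOn.mono_field {F F' : Subfield K} (h : F' ≤ F) {v : κ → K} {s : Finset κ}
    (hi : IndOn F v s) : IndOn F' v s :=
  fun c hc hsum => hi c (fun j hj => h (hc j hj)) hsum

theorem IndOn.subset {F : Subfield K} {v : κ → K} {s t : Finset κ} (hst : s ⊆ t)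
    (hi : IndOn F v t) : IndOn F v s := by
  classical
  intro c hc hsum j hj
  have key := hi (fun j => if j ∈ s then c j else 0)
    (by
      intro j _
      split_ifs with h
      · exact hc j h
      · exact F.zero_mem)
    (by
      refine Eq.trans (Eq.symm ?_) hsum
      apply Finset.sum_subset_zero_on_sdiff hst
      · intro x hx
        rw [if_neg (Finset.mem_sdiff.1 hx).2, zero_mul]
      · intro x hx
        rw [if_pos hx])
    j (hst hj)
  simpa [hj] using key

theorem exists_indOn {ι : Type*} [Preorder ι] [IsDirected ι (· ≤ ·)] [Nonempty ι]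
    (E : ι → Subfield K) (hE : Antitone E) (v : κ → K) (s : Finset κ)
    (h : IndOn (⨅ i, E i) v s) : ∃ i, IndOn (E i) v s := by
  classical
  induction s using Finset.induction_on with
  | empty => exact ⟨Classical.arbitrary ι, fun c _ _ j hj => absurd hj (Finset.notMem_empty j)⟩
  | insert a s' ha ih =>
    obtain ⟨i₀, hi₀⟩ := ih (h.subset (Finset.subset_insert a s'))
    by_contra hcon
    have hcon' : ∀ i, ¬ IndOn (E i) v (insert a s') := fun i hi => hcon ⟨i, hi⟩
    have hrep : ∀ i, i₀ ≤ i → ∃ b : κ → K, (∀ j ∈ s', b j ∈ E i) ∧
        v a = ∑ j ∈ s', b j * v j := by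
      intro i hi
      have h1 := hcon' i
      unfold IndOn at h1
      push Not at h1
      obtain ⟨c, hc, hsum, j, hj, hcj⟩ := h1
      have hca : c a ≠ 0 := by
        intro hca
        rw [Finset.sum_insert ha, hca, zero_mul, zero_add] at hsum
        have h0 := (hi₀.mono_field (hE hi)) c
          (fun j hj => hc j (Finset.mem_insert_of_mem hj)) hsum
        rcases Finset.mem_insert.1 hj with rfl | hj'
        · exact hcj hca
        · exact hcj (h0 j hj')
      refine ⟨fun j => - c j / c a, fun j hj => ?_, ?_⟩
      · exact (E i).div_mem ((E i).neg_mem (hc j (Finset.mem_insert_of_mem hj)))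
          (hc a (Finset.mem_insert_self a s'))
      · rw [Finset.sum_insert ha] at hsum
        have h2 : ∑ j ∈ s', (- c j / c a) * v j = (- (c a)⁻¹) * ∑ j ∈ s', c j * v j := by
          rw [Finset.mul_sum]
          apply Finset.sum_congr rfl
          intro j _
          ring
        rw [h2]
        have h3 : ∑ j ∈ s', c j * v j = - (c a * v a) := by linear_combination hsum
        rw [h3]
        field_simp
    obtain ⟨b, hb, hva⟩ := hrep i₀ le_rfl
    have hbi : ∀ i, i₀ ≤ i → ∀ j ∈ s', b j ∈ E i := by
      intro i hi
      obtain ⟨b', hb', hva'⟩ := hrep i hi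
      have hdiff : ∑ j ∈ s', (b j - b' j) * v j = 0 := by
        simp only [sub_mul, Finset.sum_sub_distrib]
        rw [← hva, ← hva', sub_self]
      have h0 := hi₀ (fun j => b j - b' j)
        (fun j hj => (E i₀).sub_mem (hb j hj) (hE hi (hb' j hj))) hdiff
      intro j hj
      have : b j = b' j := sub_eq_zero.1 (h0 j hj)
      rw [this]
      exact hb' j hj
    have hb0 : ∀ j ∈ s', b j ∈ ⨅ i, E i := by
      intro j hj
      rw [Subfield.mem_iInf]
      intro i
      obtain ⟨i', hi', hi₀'⟩ := exists_ge_ge i i₀
      exact hE hi' (hbi i' hi₀' j hj)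
    have key := h (fun j => if j = a then -1 else b j)
      (by
        intro j hj
        split_ifs with hja
        · exact neg_mem (one_mem _)
        · exact hb0 j ((Finset.mem_insert.1 hj).resolve_left hja))
      (by
        rw [Finset.sum_insert ha, if_pos rfl,
          Finset.sum_congr rfl (fun j hj => by rw [if_neg (ne_of_mem_of_not_mem hj ha)]), ← hva]
        ring)
      a (Finset.mem_insert_self a s')
    simp at key

end Groth.Agent.Lib.FilteredIndepH44
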