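import Groth.Agent.S17335
import Mathlib.RingTheory.Idempotents

/-!
# Finite-dimensional commutative algebras over an algebraically closed field

`k` algebraically closed, `A` a finite-dimensional commutative `k`-algebra, `E = (A →ₐ[k] k)` its
(finite) set of points.  We construct the complete orthogonal idempotents `e f` (`f ∈ E`) with
`g (e f) = δ_{fg}`, the algebra section `sec : (E → k) →ₐ[k] A` of the evaluation map
`ev : A →ₐ[k] (E → k)`, and show `a - sec (ev a)` is nilpotent.
-/

set_option autoImplicit false
set_option linter.unusedSectionVars false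
universe u v

namespace Groth.Agent.Lib.FinAlgIdem

variable (k : Type u) [Field k] [IsAlgClosed k] (A : Type v) [CommRing A] [Algebra k A]
  [Module.Finite k A]

/-- Evaluation at all `k`-points. -/
noncomputable abbrev ev : A →ₐ[k] ((A →ₐ[k] k) → k) := AlgHom.pi (R := k) (fun f : A →ₐ[k] k => f)

theorem ev_apply (a : A) (f : A →ₐ[k] k) : ev k A a f = f a := rfl

theorem ev_surjective : Function.Surjective (ev k A) := (Groth.Agent.S17335.result k A).2.1

theorem ker_ev : RingHom.ker (ev k A) = nilradical A := (Groth.Agent.S17335.result k A).2.2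

theorem finite_points : Finite (A →ₐ[k] k) := (Groth.Agent.S17335.result k A).1

variable {k A}

theorem isNilpotent_of_ev_eq_zero {a : A} (h : ev k A a = 0) : IsNilpotent a := by
  have : a ∈ RingHom.ker (ev k A) := h
  rw [ker_ev] at this
  exact mem_nilradical.mp this

theorem isNilpotent_sub_of_ev_eq {a b : A} (h : ev k A a = ev k A b) : IsNilpotent (a - b) :=
  isNilpotent_of_ev_eq_zero (by rw [map_sub (ev k A), h, sub_self])

theorem ev_eq_zero_of_isNilpotent {a : A} (h : IsNilpotent a) : ev k A a = 0 := by
  ext f
  exact (h.map f).eq_zero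

variable (k A)

open Classical in
/-- Complete orthogonal idempotents of `A` indexed by its points. -/
theorem exists_idem [Fintype (A →ₐ[k] k)] : ∃ e : (A →ₐ[k] k) → A, CompleteOrthogonalIdempotents e ∧
    ∀ f g : A →ₐ[k] k, g (e f) = if g = f then 1 else 0 := by
  have h1 := CompleteOrthogonalIdempotents.single (I := A →ₐ[k] k) (fun _ => k)
  obtain ⟨e, he, hfe⟩ := CompleteOrthogonalIdempotents.lift_of_isNilpotent_ker
    (ev k A).toRingHom (fun x hx => isNilpotent_of_ev_eq_zero hx) h1
    (fun i => ev_surjective k A _)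
  refine ⟨e, he, fun f g => ?_⟩
  have := congrFun (congrFun hfe f) g
  simp only [Function.comp_apply] at this
  rw [← ev_apply, ← Pi.single_apply]
  exact this

open Classical in
theorem exists_idem' : ∃ e : (A →ₐ[k] k) → A,
    (∀ [Fintype (A →ₐ[k] k)], CompleteOrthogonalIdempotents e) ∧
    ∀ f g : A →ₐ[k] k, g (e f) = if g = f then 1 else 0 := by
  have := finite_points k A
  let inst := Fintype.ofFinite (A →ₐ[k] k)
  obtain ⟨e, he, hfe⟩ := exists_idem k A
  refine ⟨e, ?_, hfe⟩
  intro inst'
  obtain rfl : inst' = inst := Subsingleton.elim _ _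
  exact he

/-- A chosen family of complete orthogonal idempotents indexed by the points. -/
noncomputable def idem : (A →ₐ[k] k) → A := Classical.choose (exists_idem' k A)

theorem idem_complete [Fintype (A →ₐ[k] k)] : CompleteOrthogonalIdempotents (idem k A) :=
  (Classical.choose_spec (exists_idem' k A)).1

open Classical in
theorem apply_idem (f g : A →ₐ[k] k) : g (idem k A f) = if g = f then 1 else 0 :=
  (Classical.choose_spec (exists_idem' k A)).2 f g

theorem idem_isIdempotentElem (f : A →ₐ[k] k) : IsIdempotentElem (idem k A f) := by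
  have := finite_points k A
  let _ := Fintype.ofFinite (A →ₐ[k] k)
  exact (idem_complete k A).idem f

theorem apply_idem_self (f : A →ₐ[k] k) : f (idem k A f) = 1 := by
  classical
  rw [apply_idem, if_pos rfl]

theorem apply_idem_of_ne {f g : A →ₐ[k] k} (h : g ≠ f) : g (idem k A f) = 0 := by
  classical
  rw [apply_idem, if_neg h]

/-- The algebra section `(E → k) → A`, `g ↦ ∑ f, g f • e f`. -/
noncomputable def sec [Fintype (A →ₐ[k] k)] : ((A →ₐ[k] k) → k) →ₐ[k] A :=
  AlgHom.ofLinearMap
    (∑ f : A →ₐ[k] k, (LinearMap.proj (R := k) (φ := fun _ : A →ₐ[k] k => k) f).smulRight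
      (idem k A f))
    (by
      rw [LinearMap.sum_apply]
      simp only [LinearMap.smulRight_apply, LinearMap.proj_apply, Pi.one_apply, one_smul]
      exact (idem_complete k A).complete)
    (by
      classical
      intro g h
      rw [LinearMap.sum_apply, LinearMap.sum_apply, LinearMap.sum_apply]
      simp only [LinearMap.smulRight_apply, LinearMap.proj_apply, Pi.mul_apply]
      rw [Finset.sum_mul_sum]
      refine Finset.sum_congr rfl fun f _ => ?_
      rw [Finset.sum_eq_single f]
      · rw [smul_mul_smul_comm, (idem_complete k A).idem f]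
      · intro f' _ hne
        rw [smul_mul_smul_comm, (idem_complete k A).ortho hne.symm, smul_zero]
      · intro hf; exact absurd (Finset.mem_univ f) hf)

theorem sec_apply [Fintype (A →ₐ[k] k)] (g : (A →ₐ[k] k) → k) :
    sec k A g = ∑ f : A →ₐ[k] k, g f • idem k A f := by
  show (∑ f : A →ₐ[k] k, (LinearMap.proj (R := k) (φ := fun _ : A →ₐ[k] k => k) f).smulRight
      (idem k A f)) g = _
  rw [LinearMap.sum_apply]
  rfl

theorem ev_sec [Fintype (A →ₐ[k] k)] (g : (A →ₐ[k] k) → k) : ev k A (sec k A g) = g := by
  classical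
  ext f'
  rw [ev_apply, sec_apply, map_sum]
  simp only [map_smul, smul_eq_mul]
  rw [Finset.sum_eq_single f']
  · rw [apply_idem_self, mul_one]
  · intro f _ hne
    rw [apply_idem_of_ne k A hne.symm, mul_zero]
  · intro hf; exact absurd (Finset.mem_univ f') hf

theorem sec_injective [Fintype (A →ₐ[k] k)] : Function.Injective (sec k A) := by
  intro g h hgh
  rw [← ev_sec k A g, ← ev_sec k A h, hgh]

theorem isNilpotent_sub_sec_ev [Fintype (A →ₐ[k] k)] (a : A) :
    IsNilpotent (a - sec k A (ev k A a)) :=
  isNilpotent_sub_of_ev_eq (by rw [ev_sec])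

theorem sec_ev_of_isReduced [Fintype (A →ₐ[k] k)] [IsReduced A] (a : A) :
    sec k A (ev k A a) = a := by
  have := (isNilpotent_sub_sec_ev k A a).eq_zero
  exact (sub_eq_zero.mp this).symm

theorem sec_ev_of_isIdempotentElem [Fintype (A →ₐ[k] k)] {a : A} (ha : IsIdempotentElem a) :
    sec k A (ev k A a) = a := by
  have h1 : IsIdempotentElem (sec k A (ev k A a)) := (ha.map (ev k A)).map (sec k A)
  exact (eq_of_isNilpotent_sub_of_isIdempotentElem ha h1 (isNilpotent_sub_sec_ev k A a)).symm

end Groth.Agent.Lib.FinAlgIdem
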