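import Mathlib

/-!
# Algebra for finite birational morphisms as blowing ups (helper50)

Let `φ : A → B` be a finite ring map which becomes an isomorphism after inverting a nonzerodivisor `t`
(which stays a nonzerodivisor in `B`).  Then `φ` is injective and `t ^ n • B ⊆ φ A` for some `n`; the
ideal `I = φ⁻¹ (t ^ n B)` then satisfies `I B = t ^ n B = φ I`.
-/

set_option autoImplicit false
set_option linter.style.haveILetI false
universe u

namespace Groth.Agent.Lib.FinBirBlowAlg50

/-- the submodule of elements `b` with `t ^ k b ∈ φ A` -/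
def denomSubmodule {A B : Type*} [CommRing A] [CommRing B] [Algebra A B] (t : A) (k : ℕ) :
    Submodule A B where
  carrier := {b | ∃ a : A, algebraMap A B a = algebraMap A B t ^ k * b}
  add_mem' := by
    rintro b b' ⟨a, ha⟩ ⟨a', ha'⟩
    exact ⟨a + a', by rw [map_add, ha, ha', mul_add]⟩
  zero_mem' := ⟨0, by simp⟩
  smul_mem' := by
    rintro c b ⟨a, ha⟩
    exact ⟨c * a, by rw [map_mul, ha, Algebra.smul_def]; ring⟩

theorem mem_denomSubmodule {A B : Type*} [CommRing A] [CommRing B] [Algebra A B] (t : A) (k : ℕ)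
    (b : B) : b ∈ denomSubmodule (B := B) t k ↔
      ∃ a : A, algebraMap A B a = algebraMap A B t ^ k * b := Iff.rfl

theorem denomSubmodule_mono {A B : Type*} [CommRing A] [CommRing B] [Algebra A B] (t : A)
    {k n : ℕ} (hkn : k ≤ n) : denomSubmodule (B := B) t k ≤ denomSubmodule (B := B) t n := by
  rintro b ⟨a, ha⟩
  refine ⟨t ^ (n - k) * a, ?_⟩
  rw [map_mul, ha, map_pow, ← mul_assoc, ← pow_add, Nat.sub_add_cancel hkn]

theorem exists_denomSubmodule_eq_top {A B : Type*} [CommRing A] [CommRing B] [Algebra A B]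
    [Module.Finite A B] (t : A)
    (h : ∀ b : B, ∃ k : ℕ, b ∈ denomSubmodule (B := B) t k) :
    ∃ n : ℕ, denomSubmodule (B := B) t n = ⊤ := by
  obtain ⟨S, hS⟩ := (Module.Finite.fg_top : (⊤ : Submodule A B).FG)
  choose k hk using h
  refine ⟨S.sup k, ?_⟩
  rw [eq_top_iff, ← hS, Submodule.span_le]
  intro s hs
  exact denomSubmodule_mono t (Finset.le_sup (f := k) hs) (hk s)

/-- The key local statement. -/
theorem injective_and_exists_pow {A B A' B' : Type*} [CommRing A] [CommRing B] [CommRing A']
    [CommRing B'] [Algebra A B] [Algebra A A'] [Algebra B B'] (ψ : A' →+* B')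
    (hψ : Function.Bijective ψ)
    (hcomm : ∀ a : A, ψ (algebraMap A A' a) = algebraMap B B' (algebraMap A B a)) (t : A)
    [IsLocalization.Away t A'] [IsLocalization.Away (algebraMap A B t) B']
    (ht : t ∈ nonZeroDivisors A) (htB : algebraMap A B t ∈ nonZeroDivisors B) :
    Function.Injective (algebraMap A B) ∧ ∀ b : B, ∃ k : ℕ, b ∈ denomSubmodule (B := B) t k := by
  constructor
  · rw [injective_iff_map_eq_zero]
    intro a ha
    have h1 : ψ (algebraMap A A' a) = 0 := by rw [hcomm, ha, map_zero]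
    have h2 : algebraMap A A' a = 0 := hψ.1 (by rw [h1, map_zero])
    obtain ⟨⟨_, m, rfl⟩, hm⟩ := (IsLocalization.map_eq_zero_iff (Submonoid.powers t) A' a).mp h2
    have hm' : t ^ m * a = 0 := hm
    exact (mem_nonZeroDivisors_iff.mp (pow_mem ht m)).1 _ hm'
  · intro b
    obtain ⟨s, hs⟩ := hψ.2 (algebraMap B B' b)
    obtain ⟨k, a, hka⟩ := IsLocalization.Away.surj t s
    have h1 : algebraMap B B' (algebraMap A B t ^ k * b - algebraMap A B a) = 0 := by
      rw [map_sub, map_mul, map_pow, ← hcomm, ← hcomm, ← hs, ← map_pow, ← map_mul, ← hka, mul_comm,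
        sub_self]
    obtain ⟨⟨_, m, rfl⟩, hm⟩ :=
      (IsLocalization.map_eq_zero_iff (Submonoid.powers (algebraMap A B t)) B' _).mp h1
    have hm' : algebraMap A B t ^ m * (algebraMap A B t ^ k * b - algebraMap A B a) = 0 := hm
    have h2 : algebraMap A B t ^ k * b - algebraMap A B a = 0 :=
      (mem_nonZeroDivisors_iff.mp (pow_mem htB m)).1 _ hm'
    exact ⟨k, a, (sub_eq_zero.mp h2).symm⟩

/-- The blow-up data of the conductor-like ideal. -/
theorem blowup_data {A B : Type*} [CommRing A] [CommRing B] [Algebra A B] (t : A) (n : ℕ)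
    (hn : denomSubmodule (B := B) t n = ⊤) :
    ((Ideal.comap (algebraMap A B) (Ideal.span {algebraMap A B t ^ n})).map (algebraMap A B) :
        Set B) ⊆ algebraMap A B ''
          (Ideal.comap (algebraMap A B) (Ideal.span {algebraMap A B t ^ n}) : Set A) ∧
      (Ideal.comap (algebraMap A B) (Ideal.span {algebraMap A B t ^ n})).map (algebraMap A B) =
        Ideal.span {algebraMap A B t ^ n} := by
  have h2 : (Ideal.comap (algebraMap A B) (Ideal.span {algebraMap A B t ^ n})).map
      (algebraMap A B) = Ideal.span {algebraMap A B t ^ n} := by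
    apply le_antisymm Ideal.map_comap_le
    rw [Ideal.span_le, Set.singleton_subset_iff]
    have : algebraMap A B t ^ n = algebraMap A B (t ^ n) := (map_pow _ _ _).symm
    rw [this]
    apply Ideal.mem_map_of_mem
    rw [Ideal.mem_comap, ← this]
    exact Ideal.mem_span_singleton_self _
  refine ⟨?_, h2⟩
  intro x hx
  rw [h2] at hx
  obtain ⟨b, rfl⟩ := Ideal.mem_span_singleton'.mp hx
  have hb : b ∈ denomSubmodule (B := B) t n := hn ▸ Submodule.mem_top
  obtain ⟨a, ha⟩ := hb
  refine ⟨a, ?_, by rw [ha, mul_comm]⟩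
  show algebraMap A B a ∈ Ideal.span {algebraMap A B t ^ n}
  rw [ha]
  exact Ideal.mul_mem_right _ _ (Ideal.mem_span_singleton_self _)

end Groth.Agent.Lib.FinBirBlowAlg50
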