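import Mathlib
import Groth.Agent.Lib.FinBirBlowAlg50
import Groth.Agent.Lib.IdealComap

/-!
# Finite birational morphisms: local geometry (helper50)
-/

set_option autoImplicit false
set_option linter.style.haveILetI false
universe u
open CategoryTheory AlgebraicGeometry TopologicalSpace

namespace Groth.Agent.Lib.FinBirBlow50

open Groth.Agent.Lib.FinBirBlowAlg50

variable {X Y : Scheme.{u}} (f : X ⟶ Y)

theorem mem_basicOpen_of_notMem_support (L : Y.IdealSheafData) (V : Y.affineOpens) (t : Γ(Y, V.1))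
    (hLV : L.ideal V = Ideal.span {t}) (y : Y) (hyV : y ∈ V.1) (hy : y ∉ L.support) :
    y ∈ Y.basicOpen t := by
  rw [Scheme.IdealSheafData.mem_support_iff_of_mem hyV, hLV, Scheme.zeroLocus_span,
    Scheme.mem_zeroLocus_iff] at hy
  push Not at hy
  obtain ⟨g, hg, hyg⟩ := hy
  rw [Set.mem_singleton_iff] at hg
  subst hg
  exact hyg

theorem basicOpen_le_support_compl (L : Y.IdealSheafData) (V : Y.affineOpens) (t : Γ(Y, V.1))
    (hLV : L.ideal V = Ideal.span {t}) : Y.basicOpen t ≤ L.support.compl := by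
  intro y hy
  have hyV : y ∈ V.1 := Y.basicOpen_le t hy
  show y ∉ L.support
  rw [Scheme.IdealSheafData.mem_support_iff_of_mem hyV, hLV, Scheme.zeroLocus_span,
    Scheme.mem_zeroLocus_iff]
  push Not
  exact ⟨t, rfl, hy⟩

/-- the image of the local equation is a nonzerodivisor upstairs -/
theorem app_mem_nonZeroDivisors [IsReduced X] (L : Y.IdealSheafData)
    (hdense : Dense (f.base ⁻¹' ((L.support : Set Y)ᶜ))) (V : Y.affineOpens) (t : Γ(Y, V.1))
    (hLV : L.ideal V = Ideal.span {t}) :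
    (f.app V.1).hom t ∈ nonZeroDivisors Γ(X, f ⁻¹ᵁ V.1) := by
  have key : ∀ b : Γ(X, f ⁻¹ᵁ V.1), b * (f.app V.1).hom t = 0 → b = 0 := by
    intro b hb
    rw [← AlgebraicGeometry.basicOpen_eq_bot_iff]
    by_contra hne
    have hne' : ((X.basicOpen b : X.Opens) : Set X).Nonempty := by
      rw [Set.nonempty_iff_ne_empty]
      intro h
      exact hne (Opens.ext h)
    obtain ⟨x, hxb, hx⟩ := hdense.inter_open_nonempty _ (X.basicOpen b).isOpen hne'
    have hxV : f x ∈ V.1 := X.basicOpen_le b hxb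
    have h1 : f x ∈ Y.basicOpen t := mem_basicOpen_of_notMem_support L V t hLV (f x) hxV hx
    have h2 : x ∈ X.basicOpen ((f.app V.1).hom t) := by
      rw [← Scheme.preimage_basicOpen]
      exact h1
    have h3 : x ∈ X.basicOpen (b * (f.app V.1).hom t) := by
      rw [Scheme.basicOpen_mul]
      exact ⟨hxb, h2⟩
    rw [hb, Scheme.basicOpen_zero] at h3
    exact h3
  rw [mem_nonZeroDivisors_iff]
  exact ⟨fun b hb => key b (by rw [mul_comm]; exact hb), key⟩

theorem isIso_app_of_eq (D D' : Y.Opens) (h : D = D') (hD : IsIso (f.app D)) : IsIso (f.app D') := by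
  subst h; exact hD

/-- an isomorphism over an open `W` gives isomorphisms on sections over smaller opens -/
theorem isIso_app_of_le (W : Y.Opens) [IsIso (f ∣_ W)] (D : Y.Opens) (hD : D ≤ W) :
    IsIso (f.app D) := by
  have h1 : IsIso ((f ∣_ W).app (W.ι ⁻¹ᵁ D)) := inferInstance
  rw [morphismRestrict_app] at h1
  have h2 : IsIso (f.app (W.ι ''ᵁ (W.ι ⁻¹ᵁ D))) :=
    @IsIso.of_isIso_comp_right _ _ _ _ _ _
      (X.presheaf.map (eqToHom (image_morphismRestrict_preimage f W (W.ι ⁻¹ᵁ D))).op)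
      inferInstance h1
  refine isIso_app_of_eq f _ _ ?_ h2
  rw [Scheme.Hom.image_preimage_eq_opensRange_inf, Scheme.Opens.opensRange_ι]
  exact inf_eq_right.mpr hD

set_option maxHeartbeats 400000 in
/-- The local structure: `Γ(Y, V) → Γ(X, f⁻¹ V)` is injective and `tⁿ Γ(X, f⁻¹ V) ⊆ Γ(Y, V)`. -/
theorem local_data [IsReduced X] [IsFinite f] (L : Y.IdealSheafData)
    [hiso : IsIso (f ∣_ L.support.compl)]
    (hdense : Dense (f.base ⁻¹' ((L.support : Set Y)ᶜ))) (V : Y.affineOpens) (t : Γ(Y, V.1))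
    (ht : t ∈ nonZeroDivisors Γ(Y, V.1)) (hLV : L.ideal V = Ideal.span {t}) :
    letI := (f.app V.1).hom.toAlgebra
    Function.Injective (f.app V.1).hom ∧
      ∃ n, denomSubmodule (A := Γ(Y, V.1)) (B := Γ(X, f ⁻¹ᵁ V.1)) t n = ⊤ := by
  letI algAB : Algebra Γ(Y, V.1) Γ(X, f ⁻¹ᵁ V.1) := (f.app V.1).hom.toAlgebra
  have hle : Y.basicOpen t ≤ V.1 := Y.basicOpen_le t
  letI algAA' : Algebra Γ(Y, V.1) Γ(Y, Y.basicOpen t) :=
    (Y.presheaf.map (homOfLE hle).op).hom.toAlgebra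
  have hle' : f ⁻¹ᵁ Y.basicOpen t ≤ f ⁻¹ᵁ V.1 := fun x hx => hle hx
  letI algBB' : Algebra Γ(X, f ⁻¹ᵁ V.1) Γ(X, f ⁻¹ᵁ Y.basicOpen t) :=
    (X.presheaf.map (homOfLE hle').op).hom.toAlgebra
  haveI locA : IsLocalization.Away t Γ(Y, Y.basicOpen t) :=
    V.2.isLocalization_of_eq_basicOpen t (homOfLE hle) rfl
  have hU : IsAffineOpen (f ⁻¹ᵁ V.1) := V.2.preimage f
  haveI locB : IsLocalization.Away (algebraMap Γ(Y, V.1) Γ(X, f ⁻¹ᵁ V.1) t)
      Γ(X, f ⁻¹ᵁ Y.basicOpen t) :=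
    hU.isLocalization_of_eq_basicOpen _ (homOfLE hle') (Scheme.preimage_basicOpen f t)
  haveI : IsIso (f.app (Y.basicOpen t)) :=
    isIso_app_of_le f L.support.compl _ (basicOpen_le_support_compl L V t hLV)
  have hbij : Function.Bijective (f.app (Y.basicOpen t)).hom :=
    ConcreteCategory.bijective_of_isIso _
  have hcomm : ∀ a : Γ(Y, V.1), (f.app (Y.basicOpen t)).hom (algebraMap _ _ a) =
      algebraMap Γ(X, f ⁻¹ᵁ V.1) Γ(X, f ⁻¹ᵁ Y.basicOpen t)
        (algebraMap Γ(Y, V.1) Γ(X, f ⁻¹ᵁ V.1) a) := by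
    intro a
    have := f.naturality (homOfLE hle).op
    exact congr($(this).hom a)
  have htB := app_mem_nonZeroDivisors f L hdense V t hLV
  obtain ⟨hinj, hex⟩ := injective_and_exists_pow (f.app (Y.basicOpen t)).hom hbij hcomm t ht htB
  haveI : Module.Finite Γ(Y, V.1) Γ(X, f ⁻¹ᵁ V.1) := IsFinite.finite_app f V.1 V.2
  exact ⟨hinj, exists_denomSubmodule_eq_top t hex⟩

/-- the candidate centre of the blowing up -/
noncomputable def centre (L : Y.IdealSheafData) (n : ℕ) : Y.IdealSheafData :=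
  (((L ^ n).comap f).subschemeι ≫ f).ker

theorem centre_ideal [IsFinite f] (L : Y.IdealSheafData) (n : ℕ) (V : Y.affineOpens) (t : Γ(Y, V.1))
    (hLV : L.ideal V = Ideal.span {t}) :
    (centre f L n).ideal V =
      Ideal.comap (f.app V.1).hom (Ideal.span {(f.app V.1).hom t ^ n}) := by
  have hU : IsAffineOpen (f ⁻¹ᵁ V.1) := V.2.preimage f
  have h1 := Scheme.IdealSheafData.ker_subschemeι_app ((L ^ n).comap f) ⟨f ⁻¹ᵁ V.1, hU⟩
  have h2 := Groth.Agent.Lib.IdealComap.ideal_comap (L ^ n) f V.1 V.2 (f ⁻¹ᵁ V.1) hU le_rfl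
  rw [Scheme.Hom.appLE_eq_app] at h2
  have h3 : (L ^ n).ideal ⟨V.1, V.2⟩ = Ideal.span {t ^ n} := by
    rw [Scheme.IdealSheafData.ideal_pow, Pi.pow_apply]
    show (L.ideal V) ^ n = _
    rw [hLV, Ideal.span_singleton_pow]
  rw [h3, Ideal.map_span, Set.image_singleton, map_pow] at h2
  unfold centre
  ext a
  rw [Scheme.Hom.ker_apply, RingHom.mem_ker, Ideal.mem_comap, ← h2, ← h1, RingHom.mem_ker]
  rfl

end Groth.Agent.Lib.FinBirBlow50
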