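import Mathlib
import Groth.Agent.Lib.FinBirBlow50
import Groth.Agent.Lib.BlowUpChart50
import Groth.Agent.Lib.BlowUpAdm68
import Groth.Agent.Lib.BlowUpAffine

/-!
# Finite birational morphisms are blowing ups: the local statement (helper50)
-/

set_option autoImplicit false
set_option linter.style.haveILetI false
universe u
open CategoryTheory CategoryTheory.Limits AlgebraicGeometry TopologicalSpace

namespace Groth.Agent.Lib.FinBirBlowLoc50

open Groth.Agent.Lib.FinBirBlowAlg50 Groth.Agent.Lib.FinBirBlow50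

/-- The restriction of an ideal sheaf to an affine open, pulled back to `Spec`. -/
theorem comap_fromSpec_eq {X : Scheme.{u}} (𝓘 : X.IdealSheafData) (V : X.affineOpens) :
    𝓘.comap V.2.fromSpec = Curv2.idealSheaf Γ(X, V.1) (𝓘.ideal V) := by
  rw [Groth.Agent.Lib.BlowUpProper68.eq_idealSheaf Γ(X, V.1) (𝓘.comap V.2.fromSpec)]
  congr 1
  have e : (⊤ : (Spec (CommRingCat.of Γ(X, V.1))).Opens) ≤ V.2.fromSpec ⁻¹ᵁ V.1 := by
    intro z _
    have hz : V.2.fromSpec z ∈ V.2.fromSpec.opensRange := ⟨z, rfl⟩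
    rw [V.2.opensRange_fromSpec] at hz
    exact hz
  rw [Groth.Agent.Lib.IdealComap.ideal_comap 𝓘 V.2.fromSpec V.1 V.2 ⊤ (isAffineOpen_top _) e,
    Ideal.map_map, Groth.Agent.Lib.BlowUpChart50.fromSpec_appLE_top V.2 e]
  have h1 : (Scheme.ΓSpecIso (CommRingCat.of Γ(X, V.1))).hom.hom.comp
      (Scheme.ΓSpecIso Γ(X, V.1)).inv.hom = RingHom.id _ := by
    rw [← CommRingCat.hom_comp]
    have : (Scheme.ΓSpecIso Γ(X, V.1)).inv ≫ (Scheme.ΓSpecIso (CommRingCat.of Γ(X, V.1))).hom =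
        𝟙 _ := Iso.inv_hom_id _
    rw [this]
    rfl
  rw [h1, Ideal.map_id]

variable {X Y : Scheme.{u}} (f : X ⟶ Y)

theorem restrict_isoSpec_eq [IsAffineHom f] (V : Y.affineOpens) :
    (f ∣_ V.1) ≫ V.2.isoSpec.hom =
      (V.2.preimage f).isoSpec.hom ≫ Spec.map (f.app V.1) := by
  rw [← cancel_mono V.2.fromSpec, Category.assoc, Category.assoc,
    IsAffineOpen.isoSpec_hom_fromSpec, morphismRestrict_ι]
  have := IsAffineOpen.SpecMap_appLE_fromSpec f V.2 (V.2.preimage f) le_rfl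
  rw [Scheme.Hom.appLE_eq_app] at this
  rw [this, IsAffineOpen.isoSpec_hom_fromSpec_assoc]

set_option maxHeartbeats 400000 in
theorem isBlowUp_local [IsReduced X] [IsFinite f] (L : Y.IdealSheafData)
    (hdense : Dense (f.base ⁻¹' ((L.support : Set Y)ᶜ))) (V : Y.affineOpens) (t : Γ(Y, V.1))
    (hLV : L.ideal V = Ideal.span {t}) (n : ℕ)
    (hinj : Function.Injective (f.app V.1).hom)
    (hn : letI := (f.app V.1).hom.toAlgebra
      denomSubmodule (A := Γ(Y, V.1)) (B := Γ(X, f ⁻¹ᵁ V.1)) t n = ⊤) :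
    BlowUp.IsBlowUp ((f ∣_ V.1) ≫ V.2.isoSpec.hom) ((centre f L n).comap V.2.fromSpec) := by
  rw [comap_fromSpec_eq, restrict_isoSpec_eq, centre_ideal f L n V t hLV]
  apply Groth.Agent.Lib.BlowUpAdm68.isBlowUp_iso_comp
  letI algAB : Algebra Γ(Y, V.1) Γ(X, f ⁻¹ᵁ V.1) := (f.app V.1).hom.toAlgebra
  obtain ⟨h1, h2⟩ := blowup_data (A := Γ(Y, V.1)) (B := Γ(X, f ⁻¹ᵁ V.1)) t n hn
  have htB := app_mem_nonZeroDivisors f L hdense V t hLV
  exact Groth.Agent.Lib.BlowUpAffine.isBlowUp_Spec_map (A := Γ(Y, V.1)) (B := Γ(X, f ⁻¹ᵁ V.1))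
    _ hinj h1 (algebraMap Γ(Y, V.1) Γ(X, f ⁻¹ᵁ V.1) t ^ n) (pow_mem htB n) h2

/-- the complement of an effective Cartier divisor on a reduced scheme is dense -/
theorem dense_support_compl [IsReduced Y] (L : Y.IdealSheafData)
    (hL : BlowUp.IsEffCartierIdeal L) : Dense ((L.support : Set Y)ᶜ) := by
  rw [dense_iff_inter_open]
  rintro O hO ⟨y, hyO⟩
  obtain ⟨V, hyV, t, ht, hLV⟩ := hL y
  obtain ⟨a, haO, hya⟩ := V.2.exists_basicOpen_le (V := ⟨O, hO⟩) ⟨y, hyO⟩ hyV
  have hne : Y.basicOpen (a * t) ≠ ⊥ := by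
    intro h
    rw [AlgebraicGeometry.basicOpen_eq_bot_iff] at h
    have ha : a = 0 := (mem_nonZeroDivisors_iff.mp ht).2 a h
    rw [ha, Scheme.basicOpen_zero] at hya
    exact hya
  obtain ⟨z, hz⟩ : ((Y.basicOpen (a * t) : Y.Opens) : Set Y).Nonempty := by
    rw [Set.nonempty_iff_ne_empty]
    intro h
    exact hne (Opens.ext h)
  rw [Scheme.basicOpen_mul] at hz
  exact ⟨z, haO hz.1, basicOpen_le_support_compl L V t hLV hz.2⟩

theorem surjective_of_isIso_restrict [IsReduced Y] [IsFinite f] (L : Y.IdealSheafData)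
    (hL : BlowUp.IsEffCartierIdeal L) [hiso : IsIso (f ∣_ L.support.compl)] :
    Function.Surjective f := by
  have hclosed : IsClosed (Set.range f) := f.isClosedMap.isClosed_range
  have hsub : (L.support : Set Y)ᶜ ⊆ Set.range f := by
    intro y hy
    have hyW : y ∈ L.support.compl := hy
    obtain ⟨w, hw⟩ : ∃ w : ↥(f ⁻¹ᵁ L.support.compl), (f ∣_ L.support.compl) w = ⟨y, hyW⟩ :=
      (ConcreteCategory.bijective_of_isIso (f ∣_ L.support.compl).base).2 ⟨y, hyW⟩
    refine ⟨w.1, ?_⟩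
    rw [← morphismRestrict_base_coe f L.support.compl w]
    exact congrArg Subtype.val hw
  have := (dense_support_compl L hL).mono hsub
  rw [← Set.range_eq_univ, ← hclosed.closure_eq]
  exact this.closure_eq

theorem support_centre [IsReduced Y] [IsFinite f] (L : Y.IdealSheafData)
    (hL : BlowUp.IsEffCartierIdeal L) [hiso : IsIso (f ∣_ L.support.compl)] (n : ℕ) (hn : n ≠ 0) :
    (centre f L n).support = L.support := by
  have hsurj := surjective_of_isIso_restrict f L hL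
  apply SetLike.coe_injective
  unfold centre
  rw [Scheme.Hom.support_ker, Scheme.Hom.comp_base, TopCat.coe_comp, Set.range_comp,
    Scheme.IdealSheafData.range_subschemeι, Scheme.IdealSheafData.support_comap,
    Scheme.IdealSheafData.support_pow _ n hn]
  show closure (f '' (f ⁻¹' (L.support : Set Y))) = _
  rw [Set.image_preimage_eq _ hsurj]
  exact L.support.isClosed.closure_eq

end Groth.Agent.Lib.FinBirBlowLoc50
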