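import Groth.Agent.Lib.EffDescHenselLocal2H52
import Groth.Agent.Lib.QFinHenselH52

/-!
# Finite local charts of quasi-finite closed surjective morphisms over a henselian local base
(helper52)

`exists_finCharts_of_quasiFinite_of_isClosedMap`: `B` henselian local, `p : X ⟶ Spec B` locally of
finite type, quasi-finite, quasi-compact, surjective and closed (e.g. finite surjective).  Then the
finite local charts at the (finitely many) points of the closed fibre jointly cover `Spec B`.
-/

set_option autoImplicit false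
set_option linter.style.haveILetI false
set_option backward.isDefEq.respectTransparency false
set_option backward.isDefEq.respectTransparency.types false

universe u

open CategoryTheory CategoryTheory.Limits AlgebraicGeometry Opposite IsLocalRing

namespace Groth.Agent.Lib.FinChartsFiniteH52

open Groth.Agent.Lib.EffDescH52

theorem exists_finCharts_of_quasiFinite_of_isClosedMap (B : Type u) [CommRing B] [IsLocalRing B]
    (hB : HenselianLocalRing B) {X : Scheme.{u}} (p : X ⟶ Spec (CommRingCat.of B))
    [LocallyOfFiniteType p] [LocallyQuasiFinite p] [QuasiCompact p] [Surjective p]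
    (hcl : IsClosedMap p) :
    ∃ (ι : Type u) (_ : Finite ι) (ch : ι → FinChart B p),
      ∀ s : ↥(Spec (CommRingCat.of B)),
        ∃ i, s ∈ Set.range (Spec.map (CommRingCat.ofHom (algebraMap B (ch i).R))) := by
  classical
  let F : Set X := p ⁻¹' {closedPoint B}
  have hF : F.Finite := p.finite_preimage_singleton _
  haveI : Finite ↥F := Set.finite_coe_iff.mpr hF
  have hch : ∀ x : ↥F, ∃ ch : FinChart B p, IsOpenImmersion ch.c ∧
      ch.c (closedPoint ch.R) = x.1 := fun x => by
    obtain ⟨R, _, _, _, _, j, hj1, hj2, hj3⟩ :=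
      @Groth.Agent.Lib.QFinHenselH52.exists_finite_local_chart B _ hB _ p _ x.1 x.2
        (p.quasiFiniteAt x.1)
    exact ⟨⟨R, j, hj2⟩, hj1, hj3⟩
  choose ch hch1 hch2 using hch
  refine ⟨↥F, inferInstance, ch, fun s => ?_⟩
  obtain ⟨x, rfl⟩ := p.surjective s
  -- `x` specializes to a point of the closed fibre
  obtain ⟨t, htF, hxt⟩ : ∃ t ∈ F, x ⤳ t := by
    have hc : IsClosed (p '' closure {x}) := hcl _ isClosed_closure
    have hy : p x ∈ p '' closure {x} := ⟨x, subset_closure rfl, rfl⟩
    have hsp : p x ⤳ closedPoint B := IsLocalRing.specializes_closedPoint _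
    obtain ⟨t, ht, hpt⟩ := hsp.mem_closed hc hy
    exact ⟨t, hpt, specializes_iff_mem_closure.mpr ht⟩
  haveI := hch1 ⟨t, htF⟩
  have hopen : IsOpen (Set.range (ch ⟨t, htF⟩).c) := (ch ⟨t, htF⟩).c.isOpenEmbedding.isOpen_range
  have htmem : t ∈ Set.range (ch ⟨t, htF⟩).c := ⟨closedPoint _, hch2 ⟨t, htF⟩⟩
  obtain ⟨r, rfl⟩ := hxt.mem_open hopen htmem
  refine ⟨⟨t, htF⟩, r, ?_⟩
  rw [← (ch ⟨t, htF⟩).fac]
  rfl

end Groth.Agent.Lib.FinChartsFiniteH52
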