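import Groth.Agent.Lib.FreeModStalk
import Groth.Agent.Lib.H78SecCoord

/-!
# helper3: local bases of finite locally free `O_X`-modules (namespace `Groth.Agent.Lib.NormBasisH3`)

* `IsBasisOn M V e`: the sections `e i ∈ Γ(M, V)` form a basis of `M` over `V`, i.e. for every open `W ≤ V`
  the map `(Fin n → Γ(X, W)) → Γ(M, W)`, `a ↦ ∑ a i • e i|_W` is bijective.
* `IsBasisOn.mono`, `IsBasisOn.of_iso`, `isBasisOn_freeMod`, `isBasisOn_of_restrict`.
* `exists_isBasisOn`: a finite locally free module has local bases.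
-/

set_option autoImplicit false
universe u
open CategoryTheory CategoryTheory.Limits AlgebraicGeometry Opposite TopologicalSpace
open Groth.Agent.Lib.H90Invertible Groth.Agent.Lib.StructureModule Groth.Agent.Lib.H78TensorGen
open Groth.Agent.Lib.H78SecCoord

namespace Groth.Agent.Lib.NormBasisH3

variable {X : Scheme.{u}}

/-- the "linear combination" map of a family of sections over `V`, on an open `W ≤ V` -/
noncomputable def comb (M : X.Modules) {V : X.Opens} {n : ℕ} (e : Fin n → Γ(M, V)) {W : X.Opens}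
    (h : W ≤ V) (a : Fin n → Γ(X, W)) : Γ(M, W) :=
  ∑ i, a i • rs M h (e i)

/-- `e` is a basis of `M` over `V` -/
def IsBasisOn (M : X.Modules) (V : X.Opens) {n : ℕ} (e : Fin n → Γ(M, V)) : Prop :=
  ∀ (W : X.Opens) (h : W ≤ V), Function.Bijective (comb M e h)

variable {M N : X.Modules}

lemma rs_sum (M : X.Modules) {V W : X.Opens} (h : W ≤ V) {ι : Type*} (s : Finset ι)
    (z : ι → Γ(M, V)) : rs M h (∑ i ∈ s, z i) = ∑ i ∈ s, rs M h (z i) :=
  map_sum (M.presheaf.map (homOfLE h).op).hom z s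

lemma rs_smul' (M : X.Modules) {V W : X.Opens} (h : W ≤ V) (a : Γ(X, V)) (t : Γ(M, V)) :
    rs M h (a • t) = X.presheaf.map (homOfLE h).op a • rs M h t :=
  M.map_smul (homOfLE h) a t

lemma comb_rs (M : X.Modules) {V : X.Opens} {n : ℕ} (e : Fin n → Γ(M, V)) {W W' : X.Opens}
    (h : W ≤ V) (h' : W' ≤ W) (a : Fin n → Γ(X, W)) :
    rs M h' (comb M e h a) = comb M e (h'.trans h) (fun i => X.presheaf.map (homOfLE h').op (a i)) := by
  unfold comb
  rw [rs_sum]
  refine Finset.sum_congr rfl (fun i _ => ?_)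
  rw [rs_smul', rs_rs]

theorem IsBasisOn.mono {V : X.Opens} {n : ℕ} {e : Fin n → Γ(M, V)} (he : IsBasisOn M V e)
    {V' : X.Opens} (h : V' ≤ V) : IsBasisOn M V' (fun i => rs M h (e i)) := by
  intro W hW
  have := he W (hW.trans h)
  convert this using 1
  funext a
  unfold comb
  refine Finset.sum_congr rfl (fun i _ => ?_)
  rw [rs_rs]

lemma app_sum {ι : Type*} (s : Finset ι) (φ : ι → (M ⟶ N)) (W : X.Opens) (z : Γ(M, W)) :
    (∑ i ∈ s, φ i).app W z = ∑ i ∈ s, (φ i).app W z := by
  classical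
  induction s using Finset.induction_on with
  | empty => simp
  | insert i s hi ih =>
    rw [Finset.sum_insert hi, Finset.sum_insert hi, Scheme.Modules.Hom.add_app]
    change (φ i).app W z + (∑ i ∈ s, φ i).app W z = _
    rw [ih]

lemma app_comb (φ : M ⟶ N) {V : X.Opens} {n : ℕ} (e : Fin n → Γ(M, V)) {W : X.Opens}
    (h : W ≤ V) (a : Fin n → Γ(X, W)) :
    φ.app W (comb M e h a) = comb N (fun i => φ.app V (e i)) h a := by
  unfold comb
  rw [map_sum]
  refine Finset.sum_congr rfl (fun i _ => ?_)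
  rw [Scheme.Modules.Hom.app_smul, app_rs]

theorem IsBasisOn.of_iso {V : X.Opens} {n : ℕ} {e : Fin n → Γ(M, V)} (he : IsBasisOn M V e)
    (φ : M ≅ N) : IsBasisOn N V (fun i => φ.hom.app V (e i)) := by
  intro W hW
  have h1 := he W hW
  have h2 : Function.Bijective (φ.hom.app W) :=
    (ConcreteCategory.isIso_iff_bijective (φ.hom.app W)).mp inferInstance
  convert h2.comp h1 using 1
  funext a
  exact (app_comb φ.hom e hW a).symm

section Free

variable (X) (n : ℕ)

/-- the standard sections of `O_X^n` -/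
noncomputable def stdSec (i : Fin n) : Γ(FlatMod.freeMod X n, ⊤) :=
  sec (Sigma.ι (fun _ : Fin n => Coh.structureModule X) i)

open Groth.Agent.Lib.FreeModStalk in
lemma proj_stdSec (i j : Fin n) :
    (proj X n i).app ⊤ (stdSec X n j) = if j = i then toSec ⊤ 1 else 0 := by
  have h := ι_proj X n i j
  have h2 := congrArg (fun ψ : Coh.structureModule X ⟶ Coh.structureModule X => ψ.app ⊤ (toSec ⊤ 1)) h
  simp only [Scheme.Modules.Hom.comp_app] at h2
  change (proj X n i).app ⊤ ((Sigma.ι (fun _ : Fin n => Coh.structureModule X) j).app ⊤ (toSec ⊤ 1)) = _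
  refine h2.trans ?_
  split_ifs
  · rfl
  · rfl

/-- a section of the structure module as a function -/
def ofS (W : X.Opens) (s : Γ(Coh.structureModule X, W)) : Γ(X, W) := s

lemma toSec_ofS (W : X.Opens) (s : Γ(Coh.structureModule X, W)) : toSec W (ofS X W s) = s := rfl

lemma ofS_toSec (W : X.Opens) (a : Γ(X, W)) : ofS X W (toSec W a) = a := rfl

lemma ofS_smul (W : X.Opens) (a : Γ(X, W)) (s : Γ(Coh.structureModule X, W)) :
    ofS X W (a • s) = a * ofS X W s := rfl

open Groth.Agent.Lib.FreeModStalk in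
theorem isBasisOn_freeMod : IsBasisOn (FlatMod.freeMod X n) ⊤ (stdSec X n) := by
  intro W hW
  refine Function.bijective_iff_has_inverse.2
    ⟨fun z i => ofS X W ((proj X n i).app W z), ?_, ?_⟩
  · intro a
    funext i
    change ofS X W ((proj X n i).app W (comb _ (stdSec X n) hW a)) = a i
    rw [app_comb]
    unfold comb
    rw [Finset.sum_eq_single i]
    · beta_reduce
      rw [proj_stdSec, if_pos rfl, toSec_rs, map_one, ofS_smul, ofS_toSec, mul_one]
    · intro j _ hji
      beta_reduce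
      rw [proj_stdSec, if_neg hji]
      have : rs (Coh.structureModule X) hW (0 : Γ(Coh.structureModule X, ⊤)) = 0 :=
        map_zero (((Coh.structureModule X).presheaf.map (homOfLE hW).op).hom)
      rw [this, smul_zero]
    · intro h
      exact absurd (Finset.mem_univ i) h
  · intro z
    change comb _ (stdSec X n) hW (fun i => ofS X W ((proj X n i).app W z)) = z
    have h := sum_proj_ι X n
    have h2 := congrArg (fun ψ : FlatMod.freeMod X n ⟶ FlatMod.freeMod X n => ψ.app W z) h
    simp only [Scheme.Modules.Hom.id_app] at h2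
    rw [app_sum] at h2
    refine Eq.trans ?_ h2
    unfold comb
    refine Finset.sum_congr rfl (fun i _ => ?_)
    simp only [Scheme.Modules.Hom.comp_app]
    change _ = (Sigma.ι (fun _ : Fin n => Coh.structureModule X) i).app W
      (toSec W (ofS X W ((proj X n i).app W z)))
    rw [app_toSec]
    rfl

end Free

section Restrict

variable {Y : Scheme.{u}} (j : Y ⟶ X) [IsOpenImmersion j]

/-- a basis of `M.restrict j` over `W` is a basis of `M` over the image of `W` -/
theorem isBasisOn_of_restrict (M : X.Modules) (W : Y.Opens) {n : ℕ} (e : Fin n → Γ(M, j ''ᵁ W))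
    (he : IsBasisOn (M.restrict j) W e) : IsBasisOn M (j ''ᵁ W) e := by
  intro V' hV'
  obtain ⟨W'', hW'', rfl⟩ : ∃ W'' ≤ W, j ''ᵁ W'' = V' := by
    refine ⟨j ⁻¹ᵁ V', ?_, ?_⟩
    · intro y hy
      obtain ⟨y', hy', e⟩ := hV' hy
      rwa [← j.isOpenEmbedding.injective e]
    · rw [Scheme.Hom.image_preimage_eq_opensRange_inf]
      refine inf_eq_right.mpr (hV'.trans ?_)
      rintro _ ⟨y, -, rfl⟩
      exact ⟨y, rfl⟩
  have h1 := he W'' hW''
  have h2 : Function.Bijective (j.appIso W'').hom :=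
    (ConcreteCategory.isIso_iff_bijective (j.appIso W'').hom).mp inferInstance
  have h3 : Function.Bijective (fun b : Fin n → Γ(X, j ''ᵁ W'') => fun i => (j.appIso W'').hom (b i)) :=
    ⟨fun b b' h => funext fun i => h2.1 (congrFun h i),
      fun a => ⟨fun i => (h2.2 (a i)).choose, funext fun i => (h2.2 (a i)).choose_spec⟩⟩
  have key : comb M e hV' =
      comb (M.restrict j) e hW'' ∘ (fun b : Fin n → Γ(X, j ''ᵁ W'') => fun i => (j.appIso W'').hom (b i)) := by
    funext b
    simp only [Function.comp_apply]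
    unfold comb
    refine Finset.sum_congr rfl (fun i _ => ?_)
    rw [restrict_smul, Iso.hom_inv_id_apply]
    rfl
  rw [key]
  exact h1.comp h3

end Restrict

/-- a finite locally free module has local bases -/
theorem exists_isBasisOn (hM : FlatMod.IsFinLocFree M) (x : X) :
    ∃ (V : X.Opens) (n : ℕ) (e : Fin n → Γ(M, V)), x ∈ V ∧ IsBasisOn M V e := by
  obtain ⟨U, n, hxU, ⟨φ⟩⟩ := hM x
  have h1 : IsBasisOn (M.restrict U.ι) ⊤ (fun i => φ.inv.app ⊤ (stdSec (↑U) n i)) :=
    (isBasisOn_freeMod (↑U) n).of_iso φ.symm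
  have h2 := isBasisOn_of_restrict U.ι M ⊤ _ h1
  exact ⟨U.ι ''ᵁ ⊤, n, _, ⟨⟨x, hxU⟩, trivial, rfl⟩, h2⟩

/-- a finite locally free module of rank `n` has local bases with `n` elements -/
theorem exists_isBasisOn_of_rank {n : ℕ} (hM : FlatMod.IsFinLocFreeOfRank n M) (x : X) :
    ∃ (V : X.Opens) (e : Fin n → Γ(M, V)), x ∈ V ∧ IsBasisOn M V e := by
  obtain ⟨U, hxU, ⟨φ⟩⟩ := hM x
  have h1 : IsBasisOn (M.restrict U.ι) ⊤ (fun i => φ.inv.app ⊤ (stdSec (↑U) n i)) :=
    (isBasisOn_freeMod (↑U) n).of_iso φ.symm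
  have h2 := isBasisOn_of_restrict U.ι M ⊤ _ h1
  exact ⟨U.ι ''ᵁ ⊤, _, ⟨⟨x, hxU⟩, trivial, rfl⟩, h2⟩

end Groth.Agent.Lib.NormBasisH3
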