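import Mathlib
import Groth.Agent.Lib.NormBasisH3
import Groth.Agent.Lib.ModHomBasis
import Groth.Agent.Lib.H90QCAlg
import Groth.Agent.Lib.LocFreeRank
import Groth.Agent.Lib.QCohStalk
import Groth.Prelude.Def_FinCov

/-!
# helper93: the trace of a finite locally free quasi-coherent algebra (`FinCov.IsTrace`)

`main`: existence and uniqueness of the trace; `exists_trace`, `isTrace_of`, `trace_unique`,
`app_eq_traceHom_of_isTrace` (an `IsTrace` map is `Algebra.trace` on small affine opens),
`basisOf` (basis of `A(W)` from `NormBasisH3.IsBasisOn`), `trace_resA` (trace commutes with restriction),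
`small_of_basis` (affine open with a finite basis of `A(U)` is small).
-/

namespace Groth.Agent.Lib.FinCovTrace93
set_option linter.style.haveILetI false
universe u
open CategoryTheory CategoryTheory.Limits AlgebraicGeometry TopologicalSpace Opposite
open Groth.Agent.Lib.NormBasisH3 Groth.Agent.Lib.H78TensorGen Groth.Agent.Lib.H90QCAlg

variable {X : Scheme.{u}} (A : RelSpec.QCAlg X)

/-- the algebra structure on sections. -/
@[reducible] noncomputable def alg (W : X.Opens) : Algebra Γ(X, W) (A.presheaf.obj (op W)) :=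
  (A.str.app (op W)).hom.toAlgebra

/-- restriction of sections of `A` as a ring hom. -/
noncomputable def resA {W' W : X.Opens} (h : W' ≤ W) :
    A.presheaf.obj (op W) →+* A.presheaf.obj (op W') :=
  (A.presheaf.map (homOfLE h).op).hom

/-- restriction of functions. -/
noncomputable def resX {W' W : X.Opens} (h : W' ≤ W) : Γ(X, W) →+* Γ(X, W') :=
  (X.presheaf.map (homOfLE h).op).hom

theorem resA_smul {W' W : X.Opens} (h : W' ≤ W) (r : Γ(X, W)) (s : A.presheaf.obj (op W)) :
    letI := alg A W
    letI := alg A W'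
    resA A h (r • s) = resX h r • resA A h s := by
  letI := alg A W
  letI := alg A W'
  change resA A h ((A.str.app (op W)).hom r * s) = (A.str.app (op W')).hom (resX h r) * resA A h s
  rw [map_mul]
  congr 1
  exact (str_res A h r).symm

/-- the linear-combination map as a linear equivalence. -/
noncomputable def combEquiv {V : X.Opens} {n : ℕ} {e : Fin n → Γ(A.toModule, V)}
    (he : IsBasisOn A.toModule V e) {W : X.Opens} (h : W ≤ V) :
    letI := alg A W
    (Fin n → Γ(X, W)) ≃ₗ[Γ(X, W)] (A.presheaf.obj (op W)) :=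
  letI := alg A W
  LinearEquiv.ofBijective
    { toFun := fun a => ofSec A W (comb A.toModule e h a)
      map_add' := fun a b => by
        change ofSec A W (∑ i, (a + b) i • rs A.toModule h (e i)) =
          ofSec A W ((∑ i, a i • rs A.toModule h (e i)) + ∑ i, b i • rs A.toModule h (e i))
        congr 1
        rw [← Finset.sum_add_distrib]
        refine Finset.sum_congr rfl fun i _ => ?_
        rw [Pi.add_apply, add_smul]
      map_smul' := fun r a => by
        change ofSec A W (∑ i, (r • a) i • rs A.toModule h (e i)) =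
          ofSec A W (r • ∑ i, a i • rs A.toModule h (e i))
        congr 1
        rw [Finset.smul_sum]
        refine Finset.sum_congr rfl fun i _ => ?_
        rw [Pi.smul_apply, smul_eq_mul, mul_smul] }
    (he W h)

/-- the basis of `A(W)` induced by a basis of sections over `V ≥ W`. -/
noncomputable def basisOf {V : X.Opens} {n : ℕ} {e : Fin n → Γ(A.toModule, V)}
    (he : IsBasisOn A.toModule V e) {W : X.Opens} (h : W ≤ V) :
    letI := alg A W
    Module.Basis (Fin n) Γ(X, W) (A.presheaf.obj (op W)) :=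
  letI := alg A W
  Module.Basis.ofEquivFun (combEquiv A he h).symm

theorem basisOf_apply {V : X.Opens} {n : ℕ} {e : Fin n → Γ(A.toModule, V)}
    (he : IsBasisOn A.toModule V e) {W : X.Opens} (h : W ≤ V) (i : Fin n) :
    basisOf A he h i = ofSec A W (rs A.toModule h (e i)) := by
  letI := alg A W
  classical
  unfold basisOf
  rw [Module.Basis.coe_ofEquivFun]
  change (combEquiv A he h) (Pi.single i 1) = _
  change ofSec A W (comb A.toModule e h (Pi.single i 1)) = _
  congr 1
  unfold comb
  rw [Finset.sum_eq_single i]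
  · rw [Pi.single_eq_same, one_smul]
  · intro j _ hji
    rw [Pi.single_eq_of_ne hji, zero_smul]
  · intro hi
    exact absurd (Finset.mem_univ i) hi

theorem resA_basisOf {V : X.Opens} {n : ℕ} {e : Fin n → Γ(A.toModule, V)}
    (he : IsBasisOn A.toModule V e) {W W' : X.Opens} (h : W ≤ V) (h' : W' ≤ W) (i : Fin n) :
    resA A h' (basisOf A he h i) = basisOf A he (h'.trans h) i := by
  rw [basisOf_apply, basisOf_apply]
  change ofSec A W' (rs A.toModule h' (rs A.toModule h (e i))) = _
  rw [rs_rs]

/-- coordinates commute with restriction. -/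
theorem repr_resA {V : X.Opens} {n : ℕ} {e : Fin n → Γ(A.toModule, V)}
    (he : IsBasisOn A.toModule V e) {W W' : X.Opens} (h : W ≤ V) (h' : W' ≤ W)
    (s : A.presheaf.obj (op W)) (i : Fin n) :
    letI := alg A W
    letI := alg A W'
    (basisOf A he (h'.trans h)).repr (resA A h' s) i = resX h' ((basisOf A he h).repr s i) := by
  letI := alg A W
  letI := alg A W'
  have hs : s = ∑ j, (basisOf A he h).repr s j • basisOf A he h j :=
    ((basisOf A he h).sum_repr s).symm
  have h2 : resA A h' s =
      ∑ j, resX h' ((basisOf A he h).repr s j) • basisOf A he (h'.trans h) j := by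
    conv_lhs => rw [hs]
    rw [map_sum]
    refine Finset.sum_congr rfl fun j _ => ?_
    rw [resA_smul, resA_basisOf]
  rw [h2, Module.Basis.repr_sum_self]

/-- the trace commutes with restriction. -/
theorem trace_resA {V : X.Opens} {n : ℕ} {e : Fin n → Γ(A.toModule, V)}
    (he : IsBasisOn A.toModule V e) {W W' : X.Opens} (h : W ≤ V) (h' : W' ≤ W)
    (a : A.presheaf.obj (op W)) :
    letI := alg A W
    letI := alg A W'
    Algebra.trace Γ(X, W') (A.presheaf.obj (op W')) (resA A h' a) =
      resX h' (Algebra.trace Γ(X, W) (A.presheaf.obj (op W)) a) := by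
  letI := alg A W
  letI := alg A W'
  rw [Algebra.trace_eq_matrix_trace (basisOf A he h),
    Algebra.trace_eq_matrix_trace (basisOf A he (h'.trans h))]
  unfold Matrix.trace
  rw [map_sum]
  refine Finset.sum_congr rfl fun i _ => ?_
  rw [Matrix.diag_apply, Matrix.diag_apply, Algebra.leftMulMatrix_eq_repr_mul,
    Algebra.leftMulMatrix_eq_repr_mul, ← resA_basisOf A he h h' i, ← map_mul, repr_resA]

/-- opens over which `A` has a basis of sections. -/
def Small (W : X.Opens) : Prop :=
  ∃ (V : X.Opens) (n : ℕ) (e : Fin n → Γ(A.toModule, V)), IsBasisOn A.toModule V e ∧ W ≤ V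

theorem isBasis_small (hA : FlatMod.IsFinLocFree A.toModule) :
    Opens.IsBasis (Set.range (fun i : {W : X.Opens // Small A W} => i.1)) := by
  rw [Opens.isBasis_iff_nbhd]
  intro N x hx
  obtain ⟨V, n, e, hxV, he⟩ := exists_isBasisOn hA x
  exact ⟨V ⊓ N, ⟨⟨V ⊓ N, V, n, e, he, inf_le_left⟩, rfl⟩, ⟨hxV, hx⟩, inf_le_right⟩

/-- the trace over an open, as a morphism of abelian groups on sections. -/
noncomputable def traceHom (W : X.Opens) :
    Γ(A.toModule, W) ⟶ Γ(Coh.structureModule X, W) :=
  letI := alg A W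
  AddCommGrpCat.ofHom (Algebra.trace Γ(X, W) (A.presheaf.obj (op W))).toAddMonoidHom

theorem traceHom_apply (W : X.Opens) (a : Γ(A.toModule, W)) :
    letI := alg A W
    (traceHom A W) a = Algebra.trace Γ(X, W) (A.presheaf.obj (op W)) (ofSec A W a) := rfl

theorem exists_trace (hA : FlatMod.IsFinLocFree A.toModule) :
    ∃ τ : A.toModule ⟶ Coh.structureModule X,
      ∀ W : X.Opens, Small A W → τ.app W = traceHom A W := by
  have nat : ∀ (i j : {W : X.Opens // Small A W}) (h : j.1 ≤ i.1) (s : Γ(A.toModule, i.1)),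
      (Coh.structureModule X).presheaf.map (homOfLE h).op (traceHom A i.1 s) =
        traceHom A j.1 (A.toModule.presheaf.map (homOfLE h).op s) := by
    rintro ⟨W, V, n, e, he, hWV⟩ ⟨W', hW'⟩ h s
    exact (trace_resA A he hWV h (ofSec A W s)).symm
  have lin : ∀ (i : {W : X.Opens // Small A W}) (r : Γ(X, i.1)) (s : Γ(A.toModule, i.1)),
      traceHom A i.1 (r • s) = r • traceHom A i.1 s := by
    rintro ⟨W, hW⟩ r s
    letI := alg A W
    exact map_smul (Algebra.trace Γ(X, W) (A.presheaf.obj (op W))) r (ofSec A W s)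
  obtain ⟨τ, hτ⟩ := Groth.Agent.Lib.ModHomBasis.exists_hom_of_basis
    (B := fun i : {W : X.Opens // Small A W} => i.1) (isBasis_small A hA)
    (fun i => traceHom A i.1) nat lin
  exact ⟨τ, fun W hW => hτ ⟨W, hW⟩⟩

open Groth.Agent.Lib.QCohStalk in
/-- an affine open over which `A(U)` has a finite basis is small. -/
theorem small_of_basis {U : X.Opens} (hU : IsAffineOpen U) {n : ℕ}
    (b : letI := alg A U; Module.Basis (Fin n) Γ(X, U) (A.presheaf.obj (op U))) : Small A U := by
  letI := alg A U
  let b' : Module.Basis (Fin n) Γ(X, U) Γ(A.toModule, U) := b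
  have key : ∀ y : U,
      LinearIndependent (X.presheaf.stalk y.1)
        (fun i => A.toModule.presheaf.germ U y.1 y.2 (b' i)) ∧
      Submodule.span (X.presheaf.stalk y.1)
        (Set.range fun i => A.toModule.presheaf.germ U y.1 y.2 (b' i)) = ⊤ := by
    intro y
    letI := moduleSectionStalk A.toModule y
    haveI := isScalarTower_sectionStalk A.toModule y
    haveI := isLocalizedModule_germ A.toModule hU y
    haveI := hU.isLocalization_stalk y
    let b'' := b'.ofIsLocalizedModule (X.presheaf.stalk y.1) (hU.primeIdealOf y).asIdeal.primeCompl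
      (germLinear A.toModule y)
    have hb' : (fun i => A.toModule.presheaf.germ U y.1 y.2 (b' i)) = b'' := by
      funext i
      rw [Module.Basis.ofIsLocalizedModule_apply, germLinear_apply]
    rw [hb']
    exact ⟨b''.linearIndependent, b''.span_eq⟩
  obtain ⟨φ⟩ := Groth.Agent.Lib.LocFreeRank.nonempty_iso_freeMod_of_forall_basis A.toModule
    (le_refl U) (fun i => b' i) (fun y => (key y).1) (fun y => (key y).2)
  have h1 : IsBasisOn (A.toModule.restrict U.ι) ⊤ (fun i => φ.inv.app ⊤ (stdSec (↑U) n i)) :=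
    (isBasisOn_freeMod (↑U) n).of_iso φ.symm
  have h2 := isBasisOn_of_restrict U.ι A.toModule ⊤ _ h1
  refine ⟨U.ι ''ᵁ ⊤, n, _, h2, ?_⟩
  intro x hx
  exact ⟨⟨x, hx⟩, trivial, rfl⟩

theorem isTrace_of (τ : A.toModule ⟶ Coh.structureModule X)
    (hτ : ∀ W : X.Opens, Small A W → τ.app W = traceHom A W) : FinCov.IsTrace A τ := by
  intro U hU hfree hfin a
  letI := alg A U
  by_cases hnt : Nontrivial Γ(X, U)
  · have hs : Small A U := small_of_basis A hU (Module.finBasis Γ(X, U) (A.presheaf.obj (op U)))
    have := hτ U hs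
    change (τ.app U) a = _
    rw [this]
    rfl
  · haveI : Subsingleton Γ(X, U) := not_nontrivial_iff_subsingleton.mp hnt
    exact Subsingleton.elim (α := Γ(X, U)) _ _

/-- small affine opens. -/
def SmallAff (W : X.Opens) : Prop := IsAffineOpen W ∧ Small A W

theorem isBasis_smallAff (hA : FlatMod.IsFinLocFree A.toModule) :
    Opens.IsBasis (Set.range (fun i : {W : X.Opens // SmallAff A W} => i.1)) := by
  rw [Opens.isBasis_iff_nbhd]
  intro N x hx
  obtain ⟨V, n, e, hxV, he⟩ := exists_isBasisOn hA x
  obtain ⟨_, ⟨U, hU, rfl⟩, hxU, hUV⟩ :=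
    X.isBasis_affineOpens.exists_subset_of_mem_open
      (show x ∈ ((V ⊓ N : X.Opens) : Set X) from ⟨hxV, hx⟩) (V ⊓ N).isOpen
  exact ⟨U, ⟨⟨U, hU, V, n, e, he, fun a ha => (hUV ha).1⟩, rfl⟩, hxU, fun a ha => (hUV ha).2⟩

theorem app_eq_traceHom_of_isTrace (τ : A.toModule ⟶ Coh.structureModule X)
    (hτ : FinCov.IsTrace A τ) {W : X.Opens} (hW : SmallAff A W) : τ.app W = traceHom A W := by
  obtain ⟨hWaff, V, n, e, he, hWV⟩ := hW
  letI := alg A W
  have hfree : Module.Free Γ(X, W) (A.presheaf.obj (op W)) := Module.Free.of_basis (basisOf A he hWV)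
  have hfin : Module.Finite Γ(X, W) (A.presheaf.obj (op W)) := Module.Finite.of_basis (basisOf A he hWV)
  ext a
  exact hτ W hWaff hfree hfin a

theorem trace_unique (hA : FlatMod.IsFinLocFree A.toModule)
    (τ τ' : A.toModule ⟶ Coh.structureModule X)
    (hτ : FinCov.IsTrace A τ) (hτ' : FinCov.IsTrace A τ') : τ = τ' := by
  refine Groth.Agent.Lib.ModHomBasis.hom_ext_of_basis (isBasis_smallAff A hA) τ τ' ?_
  rintro ⟨W, hW⟩
  rw [app_eq_traceHom_of_isTrace A τ hτ hW, app_eq_traceHom_of_isTrace A τ' hτ' hW]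

theorem main (hA : FlatMod.IsFinLocFree A.toModule) :
    ∃! τ : A.toModule ⟶ Coh.structureModule X, FinCov.IsTrace A τ := by
  obtain ⟨τ, hτ⟩ := exists_trace A hA
  exact ⟨τ, isTrace_of A τ hτ, fun τ' hτ' => trace_unique A hA τ' τ hτ' (isTrace_of A τ hτ)⟩

end Groth.Agent.Lib.FinCovTrace93
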