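import Mathlib
import Groth.Agent.Lib.FinCovTrace93
import Groth.Agent.Lib.FreeModSch
import Groth.Agent.Lib.H90Invertible

/-!
# helper93: local bases ⇒ local freeness, and the rank-two algebra `O ⊕ L` (`FinCov.IsDblAlg`)

* `nonempty_iso_freeMod_of_isBasisOn_top`, `isBasisOn_restrict`, `nonempty_restrict_iso_of_isBasisOn`,
  `isFinLocFreeOfRank_of_isBasisOn`: converse of `NormBasisH3.exists_isBasisOn_of_rank`.
* `dblSec`, `IsSplit`, `isBasisOn_dbl`: `{1, j ℓ}` is a basis of `A` over `V` when `ℓ` generates `L` over `V`.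
* `isFinLocFreeOfRank_two` (S19698), `trace_j_gen`, `j_comp_trace` (`j ≫ τ = 0`).
-/

namespace Groth.Agent.Lib.FinCovDbl93
set_option linter.style.haveILetI false
set_option autoImplicit false
universe u
open CategoryTheory CategoryTheory.Limits AlgebraicGeometry TopologicalSpace Opposite
open Groth.Agent.Lib.NormBasisH3 Groth.Agent.Lib.H78TensorGen
open Groth.Agent.Lib.H78SecCoord Groth.Agent.Lib.H90Invertible
open Groth.Agent.Lib.FinCovTrace93

section DB1

variable {X : Scheme.{u}}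

theorem ofSections_app_stdSec {Y : Scheme.{u}} (N : Y.Modules) {n : ℕ} (e : Fin n → Γ(N, ⊤)) (i : Fin n) :
    (Groth.Agent.Lib.FreeModSch.ofSections N e).app ⊤ (stdSec Y n i) = e i := by
  have h := Groth.Agent.Lib.FreeModSch.ι_ofSections N e i
  have h2 := Groth.Agent.Lib.FreeModSch.toSection_ofSection N (e i)
  rw [← h] at h2
  exact h2

/-- a basis over the whole space gives an isomorphism with the free module. -/
theorem nonempty_iso_freeMod_of_isBasisOn_top {Y : Scheme.{u}} (N : Y.Modules) {n : ℕ}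
    (e : Fin n → Γ(N, ⊤)) (he : IsBasisOn N ⊤ e) : Nonempty (N ≅ FlatMod.freeMod Y n) := by
  let g := Groth.Agent.Lib.FreeModSch.ofSections N e
  have hg : ∀ W : Y.Opens, Function.Bijective (g.app W) := by
    intro W
    have h1 := isBasisOn_freeMod Y n W le_top
    have h2 := he W le_top
    have key : comb N e le_top = (g.app W) ∘ comb (FlatMod.freeMod Y n) (stdSec Y n) le_top := by
      funext a
      simp only [Function.comp_apply]
      rw [app_comb]
      congr 1
      funext i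
      exact (ofSections_app_stdSec N e i).symm
    rw [key] at h2
    exact (Function.Bijective.of_comp_iff _ h1).mp h2
  have : IsIso g :=
    Scheme.Modules.Hom.isIso_iff_isIso_app.mpr
      (fun W => (ConcreteCategory.isIso_iff_bijective _).mpr (hg W))
  exact ⟨(asIso g).symm⟩

end DB1

section DB2

variable {X Y : Scheme.{u}} (j : Y ⟶ X) [IsOpenImmersion j]

/-- a basis of `M` over the image of `W` is a basis of `M.restrict j` over `W`. -/
theorem isBasisOn_restrict (M : X.Modules) (W : Y.Opens) {n : ℕ} (e : Fin n → Γ(M, j ''ᵁ W))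
    (he : IsBasisOn M (j ''ᵁ W) e) : IsBasisOn (M.restrict j) W e := by
  intro W'' hW''
  have hV' : j ''ᵁ W'' ≤ j ''ᵁ W := j.image_mono hW''
  have h1 := he (j ''ᵁ W'') hV'
  have h2 : Function.Bijective (j.appIso W'').hom :=
    (ConcreteCategory.isIso_iff_bijective (j.appIso W'').hom).mp inferInstance
  have h3 : Function.Bijective (fun b : Fin n → Γ(X, j ''ᵁ W'') => fun i => (j.appIso W'').hom (b i)) :=
    ⟨fun b b' h => funext fun i => h2.1 (congrFun h i),
      fun a => ⟨fun i => (h2.2 (a i)).choose, funext fun i => (h2.2 (a i)).choose_spec⟩⟩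
  have key : comb M e hV' =
      comb (M.restrict j) e hW'' ∘ (fun b : Fin n → Γ(X, j ''ᵁ W'') => fun i => (j.appIso W'').hom (b i)) := by
    funext b
    simp only [Function.comp_apply]
    unfold comb
    refine Finset.sum_congr rfl (fun i _ => ?_)
    rw [restrict_smul, Iso.hom_inv_id_apply]
    rfl
  rw [key] at h1
  exact (Function.Bijective.of_comp_iff _ h3).mp h1

/-- a basis of `M` over `V` trivialises `M|_V`. -/
theorem nonempty_restrict_iso_of_isBasisOn (M : X.Modules) (V : X.Opens) {n : ℕ}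
    (e : Fin n → Γ(M, V)) (he : IsBasisOn M V e) :
    Nonempty (M.restrict V.ι ≅ FlatMod.freeMod V n) := by
  have hle : V.ι ''ᵁ ⊤ ≤ V := le_of_eq (Scheme.Opens.ι_image_top V)
  have h1 : IsBasisOn M (V.ι ''ᵁ ⊤) (fun i => rs M hle (e i)) := he.mono hle
  have h2 := isBasisOn_restrict V.ι M ⊤ _ h1
  exact nonempty_iso_freeMod_of_isBasisOn_top (M.restrict V.ι) _ h2

theorem isFinLocFreeOfRank_of_isBasisOn (M : X.Modules) (n : ℕ)
    (h : ∀ x : X, ∃ (V : X.Opens) (e : Fin n → Γ(M, V)), x ∈ V ∧ IsBasisOn M V e) :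
    FlatMod.IsFinLocFreeOfRank n M := by
  intro x
  obtain ⟨V, e, hxV, he⟩ := h x
  exact ⟨V, hxV, nonempty_restrict_iso_of_isBasisOn M V e he⟩

end DB2

section DB3

variable {X : Scheme.{u}} (L : X.Modules) (A : RelSpec.QCAlg X) (j : L ⟶ A.toModule)

/-- the sections `1, j ℓ`. -/
noncomputable def dblSec {V : X.Opens} (ℓ : Γ(L, V)) : Fin 2 → Γ(A.toModule, V) :=
  ![Groth.Agent.Lib.H90QCAlg.toSec A V 1, j.app V ℓ]

/-- the first clause of `IsDblAlg`. -/
def IsSplit : Prop :=
  ∀ U : X.Opens, Function.Bijective fun p : Γ(X, U) × L.val.obj (op U) =>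
      (A.str.app (op U)).hom p.1 + FinCov.toSec A ((j.val.app (op U)).hom p.2)

theorem comb_dblSec {V : X.Opens} (ℓ : Γ(L, V)) {W : X.Opens} (hW : W ≤ V) (a : Fin 2 → Γ(X, W)) :
    comb A.toModule (dblSec L A j ℓ) hW a =
      Groth.Agent.Lib.H90QCAlg.toSec A W ((A.str.app (op W)).hom (a 0)) + j.app W (a 1 • rs L hW ℓ) := by
  unfold comb
  rw [Fin.sum_univ_two]
  congr 1
  · change Groth.Agent.Lib.H90QCAlg.toSec A W ((A.str.app (op W)).hom (a 0) *
      (A.presheaf.map (homOfLE hW).op).hom 1) = _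
    rw [map_one, mul_one]
  · rw [Scheme.Modules.Hom.app_smul]
    congr 1
    exact (app_rs j hW ℓ).symm

theorem isBasisOn_dbl (h : IsSplit L A j) {V : X.Opens} {ℓ : Γ(L, V)} (hℓ : IsGen L V ℓ) :
    IsBasisOn A.toModule V (dblSec L A j ℓ) := by
  intro W hW
  have h1 := h W
  have h2 := hℓ W hW
  have h3 : Function.Bijective (fun a : Fin 2 → Γ(X, W) =>
      ((a 0, a 1 • rs L hW ℓ) : Γ(X, W) × L.val.obj (op W))) := by
    constructor
    · intro a b hab
      have e0 : a 0 = b 0 := congrArg Prod.fst hab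
      have e1 : a 1 = b 1 := h2.1 (congrArg Prod.snd hab)
      funext i
      fin_cases i
      · exact e0
      · exact e1
    · rintro ⟨s, l⟩
      obtain ⟨c, hc⟩ := h2.2 l
      refine ⟨![s, c], ?_⟩
      exact Prod.ext rfl hc
  have key : comb A.toModule (dblSec L A j ℓ) hW =
      (fun p : Γ(X, W) × L.val.obj (op W) =>
        (A.str.app (op W)).hom p.1 + FinCov.toSec A ((j.val.app (op W)).hom p.2)) ∘
      (fun a : Fin 2 → Γ(X, W) => ((a 0, a 1 • rs L hW ℓ) : Γ(X, W) × L.val.obj (op W))) := by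
    funext a
    rw [comb_dblSec]
    rfl
  rw [key]
  exact h1.comp h3

theorem isFinLocFreeOfRank_two (hL : PicF.IsInvertible L) (h : IsSplit L A j) :
    FlatMod.IsFinLocFreeOfRank 2 A.toModule := by
  refine isFinLocFreeOfRank_of_isBasisOn A.toModule 2 (fun x => ?_)
  obtain ⟨V, hxV, ℓ, hℓ⟩ := (isInvertible_iff_exists_isGen L).mp hL x
  exact ⟨V, dblSec L A j ℓ, hxV, isBasisOn_dbl L A j h hℓ⟩

end DB3

section DB4

variable {X : Scheme.{u}} (L : X.Modules) (m : CohB1.tensorMod L L ⟶ Coh.structureModule X)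
  (A : RelSpec.QCAlg X) (j : L ⟶ A.toModule)

/-- small affine opens for the double algebra. -/
def DblSmall (W : X.Opens) : Prop :=
  IsAffineOpen W ∧ ∃ (V : X.Opens) (ℓ : Γ(L, V)), IsGen L V ℓ ∧ W ≤ V

theorem isBasis_dblSmall (hL : PicF.IsInvertible L) :
    Opens.IsBasis (Set.range (fun i : {W : X.Opens // DblSmall L W} => i.1)) := by
  rw [Opens.isBasis_iff_nbhd]
  intro N x hx
  obtain ⟨V, hxV, ℓ, hℓ⟩ := (isInvertible_iff_exists_isGen L).mp hL x
  obtain ⟨_, ⟨U, hU, rfl⟩, hxU, hUV⟩ :=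
    X.isBasis_affineOpens.exists_subset_of_mem_open
      (show x ∈ ((V ⊓ N : X.Opens) : Set X) from ⟨hxV, hx⟩) (V ⊓ N).isOpen
  exact ⟨U, ⟨⟨U, hU, V, ℓ, hℓ, fun a ha => (hUV ha).1⟩, rfl⟩, hxU, fun a ha => (hUV ha).2⟩

/-- the trace of `j ℓ` vanishes. -/
theorem trace_j_gen (h : FinCov.IsDblAlg L m A j) {V : X.Opens} {ℓ : Γ(L, V)} (hℓ : IsGen L V ℓ)
    {W : X.Opens} (hWV : W ≤ V) :
    letI := alg A W
    Algebra.trace Γ(X, W) (A.presheaf.obj (op W))
      (Groth.Agent.Lib.H90QCAlg.ofSec A W (j.app W (rs L hWV ℓ))) = 0 := by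
  letI := alg A W
  have he := isBasisOn_dbl L A j h.1 hℓ
  set b := basisOf A he hWV with hb
  set x : A.presheaf.obj (op W) := Groth.Agent.Lib.H90QCAlg.ofSec A W (j.app W (rs L hWV ℓ)) with hx
  have hb0 : b 0 = 1 := by
    rw [hb, basisOf_apply]
    change (A.presheaf.map (homOfLE hWV).op).hom 1 = 1
    rw [map_one]
  have hb1 : b 1 = x := by
    rw [hb, basisOf_apply]
    change Groth.Agent.Lib.H90QCAlg.ofSec A W (rs A.toModule hWV (j.app V ℓ)) = _
    rw [← app_rs]
  have hxx : x * x = (A.str.app (op W)).hom ((m.val.app (op W)).hom (SecTwist.tmul L L W (rs L hWV ℓ) (rs L hWV ℓ))) :=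
    h.2 W (rs L hWV ℓ) (rs L hWV ℓ)
  rw [Algebra.trace_eq_matrix_trace b, Matrix.trace_fin_two, Algebra.leftMulMatrix_eq_repr_mul,
    Algebra.leftMulMatrix_eq_repr_mul, hb0, hb1, mul_one, hxx]
  have e1 : b.repr x 0 = 0 := by
    rw [← hb1, Module.Basis.repr_self, Finsupp.single_apply, if_neg (by decide)]
  have e2 : ∀ c : Γ(X, W), b.repr ((A.str.app (op W)).hom c) 1 = 0 := by
    intro c
    have : (A.str.app (op W)).hom c = c • b 0 := by
      rw [hb0, Algebra.smul_def, mul_one]; rfl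
    rw [this, map_smul, Module.Basis.repr_self, Finsupp.smul_apply, Finsupp.single_apply,
      if_neg (by decide), smul_zero]
  rw [e1, zero_add]
  exact e2 _


theorem isFinLocFree_of_rank {M : X.Modules} {n : ℕ} (hM : FlatMod.IsFinLocFreeOfRank n M) :
    FlatMod.IsFinLocFree M := by
  intro x
  obtain ⟨U, hxU, φ⟩ := hM x
  exact ⟨U, n, hxU, φ⟩

/-- the trace kills `j(L)`. -/
theorem j_comp_trace (hL : PicF.IsInvertible L) (h : FinCov.IsDblAlg L m A j)
    (τ : A.toModule ⟶ Coh.structureModule X) (hτ : FinCov.IsTrace A τ) : j ≫ τ = 0 := by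
  refine Groth.Agent.Lib.ModHomBasis.hom_ext_of_basis (isBasis_dblSmall L hL) _ _ ?_
  rintro ⟨W, hWaff, V, ℓ, hℓ, hWV⟩
  have he := isBasisOn_dbl L A j h.1 hℓ
  have h1 := app_eq_traceHom_of_isTrace A τ hτ (W := W) ⟨hWaff, V, 2, _, he, hWV⟩
  ext l
  obtain ⟨c, rfl⟩ := (hℓ W hWV).2 l
  change (τ.app W) ((j.app W) (c • rs L hWV ℓ)) = 0
  rw [Scheme.Modules.Hom.app_smul, Scheme.Modules.Hom.app_smul, h1]
  have := trace_j_gen L m A j h hℓ hWV
  rw [traceHom_apply, this]
  exact mul_zero c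

end DB4

end Groth.Agent.Lib.FinCovDbl93
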