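import Mathlib
import Groth.Agent.Lib.FinCovDbl93
import Groth.Agent.Lib.LocFreeSummand

/-!
# helper93: retracts of finite locally free modules; rank count for `M ≅ O ⊕ N`

`exists_basisOfMod` (Module.Basis of Γ(M,W) from IsBasisOn), `isFinLocFree_of_retract` (retract of IsFinLocFree),
`rank_of_split` (M ≅ O ⊕ N with local bases of d resp. k elements near x ⇒ d = k+1).
-/

namespace Groth.Agent.Lib.FinCovSplit93
set_option linter.style.haveILetI false
universe u
open CategoryTheory CategoryTheory.Limits AlgebraicGeometry TopologicalSpace Opposite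
open Groth.Agent.Lib.NormBasisH3 Groth.Agent.Lib.H78TensorGen
open Groth.Agent.Lib.H78SecCoord Groth.Agent.Lib.H90Invertible

variable {X : Scheme.{u}}

/-- the basis of `Γ(M, W)` induced by a basis of sections over `V ≥ W`. -/
theorem exists_basisOfMod (M : X.Modules) {V : X.Opens} {n : ℕ} {e : Fin n → Γ(M, V)}
    (he : IsBasisOn M V e) {W : X.Opens} (hW : W ≤ V) :
    ∃ b : Module.Basis (Fin n) Γ(X, W) Γ(M, W), ∀ i, b i = rs M hW (e i) := by
  let v : Fin n → Γ(M, W) := fun i => rs M hW (e i)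
  have hcomb : ∀ a : Fin n → Γ(X, W), Fintype.linearCombination Γ(X, W) v a = comb M e hW a := by
    intro a
    rw [Fintype.linearCombination_apply]
    rfl
  have hli : LinearIndependent Γ(X, W) v := by
    rw [linearIndependent_iff_injective_fintypeLinearCombination]
    intro a a' h
    rw [hcomb, hcomb] at h
    exact (he W hW).1 h
  have hsp : ⊤ ≤ Submodule.span Γ(X, W) (Set.range v) := by
    rw [← Fintype.range_linearCombination]
    intro y _
    obtain ⟨a, ha⟩ := (he W hW).2 y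
    exact ⟨a, by rw [hcomb, ha]⟩
  exact ⟨Module.Basis.mk hli hsp, fun i => Module.Basis.mk_apply hli hsp i⟩

/-- a retract of a finite locally free module is finite locally free. -/
theorem isFinLocFree_of_retract {M N : X.Modules} (i : M ⟶ N) (r : N ⟶ M) (hir : i ≫ r = 𝟙 M)
    (hN : FlatMod.IsFinLocFree N) : FlatMod.IsFinLocFree M := by
  intro x
  obtain ⟨U, n, hxU, ⟨φ⟩⟩ := hN x
  let F := Scheme.Modules.restrictFunctor U.ι
  let i' : M.restrict U.ι ⟶ FlatMod.freeMod U n := F.map i ≫ φ.hom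
  let r' : FlatMod.freeMod U n ⟶ M.restrict U.ι := φ.inv ≫ F.map r
  have hir' : i' ≫ r' = 𝟙 _ := by
    change (F.map i ≫ φ.hom) ≫ φ.inv ≫ F.map r = 𝟙 _
    rw [Category.assoc, φ.hom_inv_id_assoc, ← F.map_comp, hir, F.map_id]
  obtain ⟨k, hk⟩ := Groth.Agent.Lib.LocFreeSummand.exists_locFreeAt_of_retract i' r' hir' ⟨x, hxU⟩
  have h2 := Groth.Agent.Lib.LocFreeCrit.LocFreeAt.of_restrict U hxU hk
  obtain ⟨U', hx', e⟩ := h2.exists_restrict_iso
  exact ⟨U', k, hx', e⟩


/-- rank count for a splitting `M ≅ O ⊕ N`. -/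
theorem rank_of_split {M N : X.Modules} (σ : Coh.structureModule X ⟶ M) (τ : M ⟶ Coh.structureModule X)
    (ι : N ⟶ M) (ρ : M ⟶ N) (h1 : σ ≫ τ = 𝟙 _) (h2 : ι ≫ ρ = 𝟙 _) (h3 : ι ≫ τ = 0) (h4 : σ ≫ ρ = 0)
    (h5 : τ ≫ σ + ρ ≫ ι = 𝟙 _)
    {V V' : X.Opens} {d k : ℕ} {e : Fin d → Γ(M, V)} (he : IsBasisOn M V e)
    {f : Fin k → Γ(N, V')} (hf : IsBasisOn N V' f) (x : X) (hx : x ∈ V) (hx' : x ∈ V') :
    d = k + 1 := by
  let W : X.Opens := V ⊓ V'
  haveI : Nonempty W := ⟨⟨x, hx, hx'⟩⟩
  haveI : Nontrivial Γ(X, W) := Scheme.component_nontrivial X W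
  obtain ⟨bM, -⟩ := exists_basisOfMod M he (inf_le_left : W ≤ V)
  obtain ⟨bN, -⟩ := exists_basisOfMod N hf (inf_le_right : W ≤ V')
  have e1 : ∀ s : Γ(Coh.structureModule X, W), τ.app W (σ.app W s) = s := by
    intro s
    have := congrArg (fun φ : Coh.structureModule X ⟶ Coh.structureModule X => φ.app W s) h1
    exact this
  have e2 : ∀ n : Γ(N, W), ρ.app W (ι.app W n) = n := by
    intro n
    have := congrArg (fun φ : N ⟶ N => φ.app W n) h2
    exact this
  have e3 : ∀ n : Γ(N, W), τ.app W (ι.app W n) = 0 := by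
    intro n
    have := congrArg (fun φ : N ⟶ Coh.structureModule X => φ.app W n) h3
    exact this
  have e4 : ∀ s : Γ(Coh.structureModule X, W), ρ.app W (σ.app W s) = 0 := by
    intro s
    have := congrArg (fun φ : Coh.structureModule X ⟶ N => φ.app W s) h4
    exact this
  have e5 : ∀ a : Γ(M, W), σ.app W (τ.app W a) + ι.app W (ρ.app W a) = a := by
    intro a
    have := congrArg (fun φ : M ⟶ M => φ.app W a) h5
    exact this
  let Φ : Γ(M, W) ≃ₗ[Γ(X, W)] (Γ(X, W) × Γ(N, W)) :=
    { toFun := fun a => (ofS X W (τ.app W a), ρ.app W a)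
      map_add' := fun a b => by
        rw [map_add, map_add]; rfl
      map_smul' := fun r a => by
        rw [Scheme.Modules.Hom.app_smul, Scheme.Modules.Hom.app_smul]; rfl
      invFun := fun p => σ.app W (Groth.Agent.Lib.StructureModule.toSec W p.1) + ι.app W p.2
      left_inv := fun a => e5 a
      right_inv := fun p => by
        obtain ⟨s, n⟩ := p
        change (ofS X W (τ.app W (σ.app W (Groth.Agent.Lib.StructureModule.toSec W s) + ι.app W n)),
          ρ.app W (σ.app W (Groth.Agent.Lib.StructureModule.toSec W s) + ι.app W n)) = (s, n)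
        rw [map_add, map_add, e1, e2, e3, e4, add_zero, zero_add]
        rfl }
  let b' : Module.Basis (Unit ⊕ Fin k) Γ(X, W) Γ(M, W) :=
    ((Module.Basis.singleton Unit Γ(X, W)).prod bN).map Φ.symm
  have hcard := Fintype.card_congr (bM.indexEquiv b')
  rw [Fintype.card_fin, Fintype.card_sum, Fintype.card_fin, Fintype.card_unit] at hcard
  omega

end Groth.Agent.Lib.FinCovSplit93
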