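/-
helper67: a quasi-compact scheme locally of finite type over a field has finite topological Krull dimension
(topologicalKrullDim_lt_top); ringKrullDim_lt_top_of_finiteType.
-/
import Mathlib
import Groth.Agent.Lib.DimDominant97
import Groth.Agent.Lib.H77FibDim

set_option autoImplicit false
universe u
open CategoryTheory CategoryTheory.Limits AlgebraicGeometry TopologicalSpace

namespace Groth.Agent.Lib.FinDimLft67

/-- a ring of finite type over a field has finite Krull dimension -/
theorem ringKrullDim_lt_top_of_finiteType {K A : Type*} [Field K] [CommRing A] (φ : K →+* A)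
    (hφ : φ.FiniteType) : ringKrullDim A < ⊤ := by
  algebraize [φ]
  have hft : Algebra.FiniteType K A := hφ
  obtain ⟨n, f, hf⟩ := Algebra.FiniteType.iff_quotient_mvPolynomial''.mp hft
  have h1 : ringKrullDim A ≤ ringKrullDim (MvPolynomial (Fin n) K) :=
    ringKrullDim_le_of_surjective f.toRingHom hf
  have h2 : ringKrullDim (MvPolynomial (Fin n) K) = ringKrullDim K + (Nat.card (Fin n) : ℕ) :=
    MvPolynomial.ringKrullDim_of_isNoetherianRing
  rw [h2, ringKrullDim_eq_zero_of_field, zero_add] at h1
  refine lt_of_le_of_lt h1 ?_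
  rw [Nat.card_eq_fintype_card, Fintype.card_fin]
  exact WithBot.coe_lt_coe.mpr (ENat.natCast_lt_top n)

/-- a quasi-compact scheme locally of finite type over a field is finite-dimensional -/
theorem topologicalKrullDim_lt_top (k : Type u) [Field k] (X : Scheme.{u})
    (f : X ⟶ Spec (CommRingCat.of k)) [LocallyOfFiniteType f] [CompactSpace X] :
    topologicalKrullDim X < ⊤ := by
  classical
  -- a finite affine cover
  let 𝒰 := X.affineCover.finiteSubcover
  let U : 𝒰.I₀ → X.Opens := fun i => (𝒰.f i).opensRange
  have hA : ∀ i, IsAffineOpen (U i) := fun i => isAffineOpen_opensRange _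
  have hU : ⨆ i, U i = ⊤ := 𝒰.iSup_opensRange
  have hcov : ∀ x : X, ∃ i, x ∈ ((U i : X.Opens) : Set X) := by
    intro x
    have : x ∈ (⨆ i, U i : X.Opens) := by rw [hU]; trivial
    simpa [Opens.mem_iSup] using this
  rw [H77FibDim.dim_eq_iSup_of_isOpen_cover (fun i => ((U i : X.Opens) : Set X))
    (fun i => (U i).2) hcov]
  have hfin : ∀ i, topologicalKrullDim ↥((U i : X.Opens) : Set X) < ⊤ := by
    intro i
    have h1 := DimDominant97.topologicalKrullDim_affineOpen (U i) (hA i)
    rw [show topologicalKrullDim ↥((U i : X.Opens) : Set X) = topologicalKrullDim ↥(U i) from rfl, h1]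
    have hft := LocallyOfFiniteType.finiteType_appLE f (isAffineOpen_top (Spec (CommRingCat.of k)))
      (hA i) (by simp : U i ≤ f ⁻¹ᵁ ⊤)
    have hiso : ((Scheme.ΓSpecIso (CommRingCat.of k)).inv.hom).FiniteType :=
      RingHom.FiniteType.of_surjective _
        (ConcreteCategory.bijective_of_isIso (Scheme.ΓSpecIso (CommRingCat.of k)).inv).2
    exact ringKrullDim_lt_top_of_finiteType _ (hft.comp hiso)
  rcases isEmpty_or_nonempty 𝒰.I₀ with hemp | hne
  · rw [iSup_of_empty]; exact bot_lt_top
  · obtain ⟨i₀, hi₀⟩ := exists_eq_ciSup_of_finite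
      (f := fun i => topologicalKrullDim ↥((U i : X.Opens) : Set X))
    rw [← hi₀]; exact hfin i₀

end Groth.Agent.Lib.FinDimLft67
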