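import Groth.Agent.Lib.H8CM
import Mathlib.RingTheory.Ideal.AssociatedPrime.Finiteness

/-!
# Cohen–Macaulay modules, part 2: regular elements in ideals and the ideal depth (helper8)
-/

set_option autoImplicit false
set_option linter.unusedSectionVars false
universe u v

namespace Groth.Agent.Lib.H8CM

open RingTheory.Sequence IsLocalRing Pointwise Module Groth.Agent.Lib.DepthBasic
  Groth.Agent.Lib.DepthRees LocCoh

section general

variable {R : Type u} [CommRing R] [IsNoetherianRing R]
  {M : Type v} [AddCommGroup M] [Module R M] [Module.Finite R M]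

/-- Prime avoidance: an ideal contained in no associated prime of `M` contains an `M`-regular
element. -/
theorem exists_isSMulRegular_mem_of_forall_not_le (I : Ideal R)
    (h : ∀ p ∈ associatedPrimes R M, ¬ I ≤ p) : ∃ x ∈ I, IsSMulRegular M x := by
  by_contra hcon
  push Not at hcon
  have hsub : (I : Set R) ⊆ ⋃ p ∈ associatedPrimes R M, (p : Set R) := by
    rw [biUnion_associatedPrimes_eq_compl_regular R M]
    exact fun x hx ↦ hcon x hx
  obtain ⟨p, hp, hle⟩ := (Ideal.subset_union_prime_finite (associatedPrimes.finite R M)
    (f := id) 0 0 fun _ h _ _ ↦ h.isPrime).1 hsub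
  exact h p hp hle

/-- An ideal all of whose elements are zero divisors on `M` lies in an associated prime. -/
theorem exists_associatedPrime_ge_of_forall_not_isSMulRegular (I : Ideal R)
    (h : ∀ x ∈ I, ¬ IsSMulRegular M x) : ∃ p ∈ associatedPrimes R M, I ≤ p := by
  by_contra hcon
  push Not at hcon
  obtain ⟨x, hx, hreg⟩ := exists_isSMulRegular_mem_of_forall_not_le (M := M) I hcon
  exact h x hx hreg

/-- A prime in the support containing `I` lies in the support of `M/IM`. -/
theorem mem_support_quotient_of_le (I : Ideal R) {p : PrimeSpectrum R}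
    (hp : p ∈ Module.support R M) (hle : I ≤ p.asIdeal) :
    p ∈ Module.support R (M ⧸ I • (⊤ : Submodule R M)) := by
  rw [Module.support_quotient]
  exact ⟨hp, by simpa [PrimeSpectrum.mem_zeroLocus] using hle⟩

end general

variable {R : Type u} [CommRing R] [IsLocalRing R] [IsNoetherianRing R]
  {M : Type v} [AddCommGroup M] [Module R M] [Module.Finite R M]

/-- In a CM module, an ideal `I` with `dim M/IM < dim M` contains an `M`-regular element. -/
theorem exists_isSMulRegular_mem_of_isCM (h : IsCohenMacaulayModule R M) (I : Ideal R)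
    (hI : supportDim R (M ⧸ I • (⊤ : Submodule R M)) < supportDim R M) :
    ∃ x ∈ I, IsSMulRegular M x := by
  apply exists_isSMulRegular_mem_of_forall_not_le
  intro p hp hle
  have h1 := ringKrullDim_quotient_eq_of_isCM h hp
  have h2 := ringKrullDim_quotient_le_supportDim _
    (mem_support_quotient_of_le I (mem_support_of_mem_associatedPrimes hp)
      (show I ≤ (⟨p, hp.isPrime⟩ : PrimeSpectrum R).asIdeal from hle))
  rw [show (⟨p, hp.isPrime⟩ : PrimeSpectrum R).asIdeal = p from rfl, h1] at h2
  exact absurd hI (not_lt.mpr h2)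

/-- `dim M/IM ≤ dim M`. -/
theorem supportDim_quotient_le (I : Ideal R) :
    supportDim R (M ⧸ I • (⊤ : Submodule R M)) ≤ supportDim R M :=
  supportDim_le_of_surjective (I • (⊤ : Submodule R M)).mkQ (Submodule.mkQ_surjective _)


/-- For `x ∈ I`, the modules `M/IM` and `(M/xM)/I(M/xM)` have the same support dimension. -/
theorem supportDim_quotient_quotSMulTop (I : Ideal R) {x : R} (hx : x ∈ I) :
    supportDim R (QuotSMulTop x M ⧸ I • (⊤ : Submodule R (QuotSMulTop x M))) =
      supportDim R (M ⧸ I • (⊤ : Submodule R M)) := by
  have hset : Module.support R (QuotSMulTop x M ⧸ I • (⊤ : Submodule R (QuotSMulTop x M))) =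
      Module.support R (M ⧸ I • (⊤ : Submodule R M)) := by
    rw [Module.support_quotient, Module.support_quotient, Module.support_quotSMulTop,
      Set.inter_assoc]
    congr 1
    apply Set.inter_eq_right.mpr
    intro p hp
    rw [PrimeSpectrum.mem_zeroLocus] at hp ⊢
    exact Set.singleton_subset_iff.mpr (hp hx)
  unfold supportDim
  rw [hset]

/-- Nakayama: `I M ≠ M` for a proper ideal `I` of a local ring and `M` nontrivial finite. -/
theorem smul_top_ne_top_of_le_maximalIdeal [Nontrivial M] {I : Ideal R}
    (hI : I ≤ maximalIdeal R) : I • (⊤ : Submodule R M) ≠ ⊤ :=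
  (Submodule.top_ne_ideal_smul_of_le_jacobson_annihilator
    (hI.trans (maximalIdeal_le_jacobson _))).symm

/-- **Depth formula for CM modules**: `dim M = dim M/IM + depth_I M` for a proper ideal `I`. -/
theorem supportDim_eq_add_idealDepth_of_isCM [Small.{v} R] (d : ℕ) :
    ∀ {M : Type v} [AddCommGroup M] [Module R M] [Module.Finite R M],
      IsCohenMacaulayModule R M → supportDim R M = (d : WithBot ℕ∞) →
      ∀ I : Ideal R, I ≤ maximalIdeal R →
      supportDim R M = supportDim R (M ⧸ I • (⊤ : Submodule R M)) +
        ((idealDepth I M : ℕ∞) : WithBot ℕ∞) := by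
  induction d with
  | zero =>
    intro M _ _ _ h hd I hI
    have hnt := nontrivial_of_isCM h
    have hIM := smul_top_ne_top_of_le_maximalIdeal (M := M) hI
    have hnt' : Nontrivial (M ⧸ I • (⊤ : Submodule R M)) :=
      Submodule.Quotient.nontrivial_iff.mpr hIM
    obtain ⟨a, ha⟩ := exists_nat_supportDim (R := R) (M := M ⧸ I • (⊤ : Submodule R M))
    have hle := supportDim_quotient_le (M := M) I
    rw [ha, hd] at hle
    have ha0 : a = 0 := by
      have : (a : ℕ∞) ≤ 0 := by exact_mod_cast hle
      simpa using this
    -- the ideal depth vanishes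
    have hdep : idealDepth I M = 0 := by
      by_contra hne
      have h1 : ((1 : ℕ) : ℕ∞) ≤ idealDepth I M := by
        rw [Nat.cast_one]; exact Order.one_le_iff_pos.mpr (pos_iff_ne_zero.mpr hne)
      obtain ⟨rs, hlen, hmem, hreg⟩ := (natCast_le_idealDepth_iff I M hIM 1).mp h1
      obtain ⟨x, rfl⟩ := List.length_eq_one_iff.mp hlen
      have hx : x ∈ maximalIdeal R := hI (hmem x (by simp))
      have hregx : IsSMulRegular M x := ((isWeaklyRegular_cons_iff M x []).mp hreg).1
      have h2 := supportDim_quotSMulTop_succ_eq_supportDim hregx hx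
      have hnt'' := nontrivial_quotSMulTop (M := M) hx
      obtain ⟨b, hb⟩ := exists_nat_supportDim (R := R) (M := QuotSMulTop x M)
      rw [hb, hd] at h2
      have : b + 1 = 0 := by exact_mod_cast h2
      omega
    rw [hdep, hd, ha, ha0]
    rfl
  | succ d ih =>
    intro M _ _ _ h hd I hI
    have hnt := nontrivial_of_isCM h
    have hIM := smul_top_ne_top_of_le_maximalIdeal (M := M) hI
    have hnt' : Nontrivial (M ⧸ I • (⊤ : Submodule R M)) :=
      Submodule.Quotient.nontrivial_iff.mpr hIM
    obtain ⟨a, ha⟩ := exists_nat_supportDim (R := R) (M := M ⧸ I • (⊤ : Submodule R M))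
    have hle := supportDim_quotient_le (M := M) I
    rcases lt_or_eq_of_le hle with hlt | heq
    · -- there is a regular element in `I`
      obtain ⟨x, hxI, hregx⟩ := exists_isSMulRegular_mem_of_isCM h I hlt
      have hx : x ∈ maximalIdeal R := hI hxI
      have hCM' := isCM_quotSMulTop h hx hregx
      have h2 := supportDim_quotSMulTop_succ_eq_supportDim hregx hx
      have hnt'' := nontrivial_quotSMulTop (M := M) hx
      obtain ⟨b, hb⟩ := exists_nat_supportDim (R := R) (M := QuotSMulTop x M)
      have hbd : b = d := by
        rw [hb, hd] at h2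
        have : b + 1 = d + 1 := by exact_mod_cast h2
        omega
      have key := ih hCM' (by rw [hb, hbd]) I hI
      rw [supportDim_quotient_quotSMulTop I hxI] at key
      have hdep := idealDepth_quotSMulTop_add_one I M hIM hxI hregx
      rw [← h2, key, ← hdep]
      push_cast
      rw [add_assoc]
    · -- the ideal depth vanishes
      have hdep : idealDepth I M = 0 := by
        by_contra hne
        have h1 : ((1 : ℕ) : ℕ∞) ≤ idealDepth I M := by
          rw [Nat.cast_one]; exact Order.one_le_iff_pos.mpr (pos_iff_ne_zero.mpr hne)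
        obtain ⟨rs, hlen, hmem, hreg⟩ := (natCast_le_idealDepth_iff I M hIM 1).mp h1
        obtain ⟨x, rfl⟩ := List.length_eq_one_iff.mp hlen
        have hxI : x ∈ I := hmem x (by simp)
        have hx : x ∈ maximalIdeal R := hI hxI
        have hregx : IsSMulRegular M x := ((isWeaklyRegular_cons_iff M x []).mp hreg).1
        have h2 := supportDim_quotSMulTop_succ_eq_supportDim hregx hx
        have hnt'' := nontrivial_quotSMulTop (M := M) hx
        obtain ⟨b, hb⟩ := exists_nat_supportDim (R := R) (M := QuotSMulTop x M)
        have h3 := supportDim_quotient_le (M := QuotSMulTop x M) I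
        rw [supportDim_quotient_quotSMulTop I hxI, heq, ← h2, hb] at h3
        have : b + 1 ≤ b := by exact_mod_cast h3
        omega
      rw [hdep, heq]
      simp


/-- **Depth formula for CM modules**, for a proper ideal. -/
theorem supportDim_eq_add_idealDepth [Small.{v} R] (h : IsCohenMacaulayModule R M) {I : Ideal R}
    (hI : I ≠ ⊤) :
    supportDim R M = supportDim R (M ⧸ I • (⊤ : Submodule R M)) +
      ((idealDepth I M : ℕ∞) : WithBot ℕ∞) := by
  have hnt := nontrivial_of_isCM h
  obtain ⟨d, hd⟩ := exists_nat_supportDim (R := R) (M := M)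
  exact supportDim_eq_add_idealDepth_of_isCM d h hd I (le_maximalIdeal hI)

end Groth.Agent.Lib.H8CM
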