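import Groth.Agent.Lib.H8LocTrans
import Mathlib.RingTheory.KrullDimension.Regular

/-!
# Localising a quotient `M/(rs)M` at a prime (helper8)

* `depth_localizedModule_quotient`, `supportDim_localizedModule_quotient`:
  `(M/(rs)M)_p` and `M_p/(rs)M_p` have the same depth / support dimension over `A_p`.
* `depth_localizedModule_quotient_add_length`, `supportDim_localizedModule_quotient_add_length`:
  for a weakly regular sequence `rs ⊆ p` on a finite module `M` over a Noetherian ring with
  `M_p ≠ 0`: `depth (M/(rs)M)_p + |rs| = depth M_p` and `dim (M/(rs)M)_p + |rs| = dim M_p`.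
-/

set_option autoImplicit false
set_option linter.unusedSectionVars false
universe u

namespace Groth.Agent.Lib.H8LocTrans

open RingTheory.Sequence IsLocalRing Pointwise Module LocCoh Groth.Agent.Lib.H8CM

section quot

variable {A : Type*} [CommRing A] {M : Type*} [AddCommGroup M] [Module A M]
  (p : Ideal A) [p.IsPrime] (rs : List A)

theorem localized'_ofList_smul_top :
    (Ideal.ofList rs • (⊤ : Submodule A M)).localized' (Localization.AtPrime p)
      p.primeCompl (LocalizedModule.mkLinearMap p.primeCompl M) =
      Ideal.ofList (rs.map (algebraMap A (Localization.AtPrime p))) •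
        (⊤ : Submodule (Localization.AtPrime p) (LocalizedModule p.primeCompl M)) := by
  rw [Submodule.localized'_smul, Submodule.localized'_top, ← Ideal.map_ofList,
    Submodule.localized'_eq_span]
  rfl

/-- `depth (M/(rs)M)_p = depth M_p/(rs)M_p`. -/
theorem depth_localizedModule_quotient :
    depth (Localization.AtPrime p)
        (LocalizedModule p.primeCompl (M ⧸ Ideal.ofList rs • (⊤ : Submodule A M))) =
      depth (Localization.AtPrime p) (LocalizedModule p.primeCompl M ⧸
        Ideal.ofList (rs.map (algebraMap A (Localization.AtPrime p))) •
          (⊤ : Submodule (Localization.AtPrime p) (LocalizedModule p.primeCompl M))) := by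
  rw [← localized'_ofList_smul_top]
  exact (depth_eq_of_isLocalizedModule p (Localization.AtPrime p)
    ((Ideal.ofList rs • (⊤ : Submodule A M)).toLocalizedQuotient'
      (Localization.AtPrime p) p.primeCompl (LocalizedModule.mkLinearMap p.primeCompl M))).symm

/-- `dim (M/(rs)M)_p = dim M_p/(rs)M_p`. -/
theorem supportDim_localizedModule_quotient :
    supportDim (Localization.AtPrime p)
        (LocalizedModule p.primeCompl (M ⧸ Ideal.ofList rs • (⊤ : Submodule A M))) =
      supportDim (Localization.AtPrime p) (LocalizedModule p.primeCompl M ⧸
        Ideal.ofList (rs.map (algebraMap A (Localization.AtPrime p))) •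
          (⊤ : Submodule (Localization.AtPrime p) (LocalizedModule p.primeCompl M))) := by
  rw [← localized'_ofList_smul_top]
  exact (supportDim_eq_of_isLocalizedModule p (Localization.AtPrime p)
    ((Ideal.ofList rs • (⊤ : Submodule A M)).toLocalizedQuotient'
      (Localization.AtPrime p) p.primeCompl (LocalizedModule.mkLinearMap p.primeCompl M))).symm

end quot

section noeth

variable {A : Type u} [CommRing A] [IsNoetherianRing A] {M : Type u} [AddCommGroup M] [Module A M]
  [Module.Finite A M] (p : Ideal A) [p.IsPrime] (rs : List A)

theorem map_mem_maximalIdeal (hmem : ∀ r ∈ rs, r ∈ p) :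
    ∀ r ∈ rs.map (algebraMap A (Localization.AtPrime p)),
      r ∈ maximalIdeal (Localization.AtPrime p) := by
  intro r hr
  obtain ⟨r0, hr0, rfl⟩ := List.mem_map.mp hr
  exact (IsLocalization.AtPrime.to_map_mem_maximal_iff _ p _).mpr (hmem r0 hr0)

/-- `depth (M/(rs)M)_p + |rs| = depth M_p` for a weakly regular sequence inside `p`, `M_p ≠ 0`. -/
theorem depth_localizedModule_quotient_add_length (hreg : IsWeaklyRegular M rs)
    (hmem : ∀ r ∈ rs, r ∈ p) [Nontrivial (LocalizedModule p.primeCompl M)] :
    depth (Localization.AtPrime p)
        (LocalizedModule p.primeCompl (M ⧸ Ideal.ofList rs • (⊤ : Submodule A M))) + rs.length =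
      depth (Localization.AtPrime p) (LocalizedModule p.primeCompl M) := by
  rw [depth_localizedModule_quotient]
  have := depth_quotient_ofList_add_length (R := Localization.AtPrime p)
    (rs.map (algebraMap A (Localization.AtPrime p))) (LocalizedModule p.primeCompl M)
    (map_mem_maximalIdeal p rs hmem)
    (hreg.of_isLocalizedModule (Localization.AtPrime p) p.primeCompl
      (LocalizedModule.mkLinearMap p.primeCompl M))
  rwa [List.length_map] at this

/-- `dim (M/(rs)M)_p + |rs| = dim M_p` for a weakly regular sequence inside `p`, `M_p ≠ 0`. -/
theorem supportDim_localizedModule_quotient_add_length (hreg : IsWeaklyRegular M rs)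
    (hmem : ∀ r ∈ rs, r ∈ p) [Nontrivial (LocalizedModule p.primeCompl M)] :
    supportDim (Localization.AtPrime p)
        (LocalizedModule p.primeCompl (M ⧸ Ideal.ofList rs • (⊤ : Submodule A M))) + rs.length =
      supportDim (Localization.AtPrime p) (LocalizedModule p.primeCompl M) := by
  rw [supportDim_localizedModule_quotient]
  have hreg' : IsWeaklyRegular (LocalizedModule p.primeCompl M)
      (rs.map (algebraMap A (Localization.AtPrime p))) :=
    hreg.of_isLocalizedModule (Localization.AtPrime p) p.primeCompl
      (LocalizedModule.mkLinearMap p.primeCompl M)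
  have hmem' := map_mem_maximalIdeal p rs hmem
  have hR : IsRegular (LocalizedModule p.primeCompl M)
      (rs.map (algebraMap A (Localization.AtPrime p))) := by
    refine ⟨hreg', ?_⟩
    intro h
    have hle : Ideal.ofList (rs.map (algebraMap A (Localization.AtPrime p))) ≤
        maximalIdeal (Localization.AtPrime p) := by
      rw [Ideal.ofList, Ideal.span_le]
      intro x hx
      exact hmem' x hx
    have h2 : maximalIdeal (Localization.AtPrime p) •
        (⊤ : Submodule (Localization.AtPrime p) (LocalizedModule p.primeCompl M)) = ⊤ := by
      rw [eq_top_iff]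
      exact h.le.trans (Submodule.smul_mono_left hle)
    exact Groth.Agent.Lib.DepthRees.maximalIdeal_smul_top_ne_top
      (R := Localization.AtPrime p) (LocalizedModule p.primeCompl M) h2
  have := supportDim_add_length_eq_supportDim_of_isRegular
    (rs.map (algebraMap A (Localization.AtPrime p))) hR
  rwa [List.length_map] at this

end noeth

end Groth.Agent.Lib.H8LocTrans
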