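import Groth.Agent.Lib.AdjDepth53
import Groth.Agent.Lib.LocCohLES
import Groth.Agent.Lib.LocCohLinear
import Groth.Agent.Lib.H8LocTrans2
import Groth.Agent.Lib.H8CM2
import Groth.Agent.Lib.H8CM11
import Groth.Agent.Lib.ZClosed58
import Groth.Agent.Lib.H29LocCohAnn

/-!
# Tools for Brodmann–Sharp 9.3.7 (helper53)
-/

set_option maxHeartbeats 400000
set_option linter.unusedSectionVars false
universe u

namespace Groth.Agent.Lib.FinDimRel53
open Groth.Agent.Lib.LocCohLES

section rad
variable {R : Type u} [CommRing R]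

theorem le_radical_annihilator_iff (b : Ideal R) (X : Type*) [AddCommGroup X] [Module R X] :
    b ≤ (Module.annihilator R X).radical ↔ ∀ e ∈ b, ∃ k : ℕ, ∀ x : X, e ^ k • x = 0 := by
  constructor
  · intro h e he
    obtain ⟨k, hk⟩ := h he
    exact ⟨k, fun x => Module.mem_annihilator.1 hk x⟩
  · intro h e he
    obtain ⟨k, hk⟩ := h e he
    exact ⟨k, Module.mem_annihilator.2 hk⟩

variable {X₁ X₂ X₃ : Type*} [AddCommGroup X₁] [Module R X₁] [AddCommGroup X₂] [Module R X₂]
  [AddCommGroup X₃] [Module R X₃]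

theorem le_radical_annihilator_of_exact (b : Ideal R) (f : X₁ →ₗ[R] X₂) (g : X₂ →ₗ[R] X₃)
    (hfg : Function.Exact f g) (h1 : b ≤ (Module.annihilator R X₁).radical)
    (h3 : b ≤ (Module.annihilator R X₃).radical) : b ≤ (Module.annihilator R X₂).radical := by
  rw [le_radical_annihilator_iff] at h1 h3 ⊢
  intro e he
  obtain ⟨k, hk⟩ := h1 e he
  obtain ⟨l, hl⟩ := h3 e he
  refine ⟨k + l, fun x => ?_⟩
  have h : g (e ^ l • x) = 0 := by rw [map_smul, hl]
  obtain ⟨y, hy⟩ := (hfg _).1 h
  rw [pow_add, mul_smul, ← hy, ← map_smul, hk, map_zero]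

end rad

section depth
variable {R : Type u} [CommRing R]

theorem idealDepth_mono {I J : Ideal R} (h : I ≤ J) (M : Type*) [AddCommGroup M] [Module R M] :
    LocCoh.idealDepth I M ≤ LocCoh.idealDepth J M := by
  classical
  unfold LocCoh.idealDepth
  by_cases hJ : J • (⊤ : Submodule R M) = ⊤
  · rw [if_pos hJ]
    exact le_top
  · have hI : I • (⊤ : Submodule R M) ≠ ⊤ := by
      intro hI
      have hle : I • (⊤ : Submodule R M) ≤ J • (⊤ : Submodule R M) := Submodule.smul_mono_left h
      rw [hI] at hle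
      exact hJ (top_le_iff.1 hle)
    rw [if_neg hJ, if_neg hI]
    exact iSup₂_le fun rs hrs => le_iSup₂_of_le rs ⟨hrs.1, fun r hr => h (hrs.2 r hr)⟩ le_rfl

theorem depth_eq_top_of_subsingleton [IsLocalRing R] (M : Type*) [AddCommGroup M] [Module R M]
    [Subsingleton M] : LocCoh.depth R M = ⊤ := by
  classical
  unfold LocCoh.depth LocCoh.idealDepth
  rw [if_pos (Subsingleton.elim _ _)]

theorem nontrivial_of_depth_ne_top [IsLocalRing R] (M : Type*) [AddCommGroup M] [Module R M]
    (h : LocCoh.depth R M ≠ ⊤) : Nontrivial M := by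
  by_contra hn
  rw [not_nontrivial_iff_subsingleton] at hn
  exact h (depth_eq_top_of_subsingleton M)

end depth

section loc
variable {R : Type u} [CommRing R] [IsNoetherianRing R] (p : Ideal R) [p.IsPrime]
  (M : Type u) [AddCommGroup M] [Module R M] [Module.Finite R M]

/-- the kernel of `M → M_p`. -/
noncomputable abbrev K : Submodule R M :=
  LinearMap.ker (LocalizedModule.mkLinearMap p.primeCompl M)

theorem mem_K_iff (m : M) : m ∈ K p M ↔ ∃ s : p.primeCompl, s • m = 0 := by
  rw [LinearMap.mem_ker]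
  exact IsLocalizedModule.eq_zero_iff p.primeCompl _

theorem exists_smul_K_eq_zero : ∃ u : R, u ∉ p ∧ ∀ n ∈ K p M, u • n = 0 := by
  obtain ⟨t, ht, h⟩ := Groth.Agent.Lib.H29LocCohAnn.exists_mem_forall_smul_mem p.primeCompl
    (K p M) ⊥ (IsNoetherian.noetherian _) (fun n hn => by
      obtain ⟨s, hs⟩ := (mem_K_iff p M n).1 hn
      exact ⟨s.1, s.2, by rw [Submodule.mem_bot]; exact hs⟩)
  exact ⟨t, ht, fun n hn => (Submodule.mem_bot R).1 (h n hn)⟩

theorem le_of_mem_associatedPrimes_quotient_K (P : Ideal R)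
    (hP : P ∈ associatedPrimes R (M ⧸ K p M)) : P ≤ p := by
  obtain ⟨hPp, x, hx⟩ := isAssociatedPrime_iff.1 hP
  obtain ⟨m, rfl⟩ := Submodule.Quotient.mk_surjective _ x
  intro r hr
  by_contra hrp
  rw [hx, Submodule.mem_colon_singleton, Submodule.mem_bot, ← Submodule.Quotient.mk_smul,
    Submodule.Quotient.mk_eq_zero] at hr
  obtain ⟨s, hs⟩ := (mem_K_iff p M _).1 hr
  have hm : m ∈ K p M := by
    rw [mem_K_iff]
    refine ⟨⟨s.1 * r, p.primeCompl.mul_mem s.2 hrp⟩, ?_⟩
    rw [Submonoid.mk_smul, mul_smul]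
    exact hs
  apply hPp.ne_top
  rw [hx, Ideal.eq_top_iff_one, Submodule.mem_colon_singleton, one_smul, Submodule.mem_bot,
    Submodule.Quotient.mk_eq_zero]
  exact hm

/-- `M_p ≃ (M/K)_p`. -/
theorem map_mkQ_bijective :
    Function.Bijective (LocalizedModule.map p.primeCompl (K p M).mkQ) := by
  constructor
  · rw [← LinearMap.ker_eq_bot, LinearMap.ker_eq_bot']
    intro z hz
    induction z with
    | h m s =>
      rw [LocalizedModule.map_mk] at hz
      have h0 : LocalizedModule.mk ((K p M).mkQ m) s = LocalizedModule.mk 0 s := by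
        rw [hz, LocalizedModule.zero_mk]
      obtain ⟨t, ht⟩ := LocalizedModule.mk_eq.1 h0
      rw [smul_zero, smul_zero] at ht
      have ht' : (t * s : p.primeCompl) • m ∈ K p M := by
        rw [← Submodule.Quotient.mk_eq_zero, Submodule.Quotient.mk_smul, mul_smul]
        exact ht
      obtain ⟨w, hw⟩ := (mem_K_iff p M _).1 ht'
      have h1 : LocalizedModule.mk m s = LocalizedModule.mk 0 s := by
        rw [LocalizedModule.mk_eq]
        refine ⟨w * (t * s), ?_⟩
        rw [smul_zero, smul_zero, smul_comm, mul_smul, hw, smul_zero]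
      rw [h1, LocalizedModule.zero_mk]
  · intro z
    induction z with
    | h m' s =>
      obtain ⟨m, rfl⟩ := Submodule.Quotient.mk_surjective _ m'
      exact ⟨LocalizedModule.mk m s, LocalizedModule.map_mk _ _ _ _⟩

theorem depth_quotient_K :
    LocCoh.depth (Localization.AtPrime p) (LocalizedModule p.primeCompl (M ⧸ K p M)) =
      LocCoh.depth (Localization.AtPrime p) (LocalizedModule p.primeCompl M) :=
  (Groth.Agent.Lib.H8CM.depth_eq_of_equiv
    (LinearEquiv.ofBijective (LocalizedModule.map p.primeCompl (K p M).mkQ)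
      (map_mkQ_bijective p M))).symm

end loc

end Groth.Agent.Lib.FinDimRel53
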