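import Groth.Agent.Lib.LocCohDerived

/-!
# Local cohomology depends only on the radical of the ideal (helper9)
-/

set_option autoImplicit false
universe u
open CategoryTheory CategoryTheory.Limits Opposite

namespace Groth.Agent.Lib.LocCohRadical9

open Groth.Agent.Lib.LocCohDelta Groth.Agent.Lib.LocCohDerived

variable {R : Type u} [CommRing R]

theorem torsionSub_le_of_pow_le {I J : Ideal R} {k : ℕ} (h : J ^ k ≤ I) (M : Type u)
    [AddCommGroup M] [Module R M] : DRing.torsionSub I M ≤ DRing.torsionSub J M := by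
  rintro m ⟨n, hn⟩
  refine ⟨k * n, fun a ha => hn a ?_⟩
  rw [pow_mul] at ha
  exact Ideal.pow_right_mono h n ha

theorem torsionSub_eq_of_radical_eq [IsNoetherianRing R] {I J : Ideal R}
    (h : I.radical = J.radical) (M : Type u) [AddCommGroup M] [Module R M] :
    DRing.torsionSub I M = DRing.torsionSub J M := by
  obtain ⟨k, hk⟩ := Ideal.exists_pow_le_of_le_radical_of_fg (I := J) (J := I)
    (h ▸ Ideal.le_radical) (IsNoetherian.noetherian _)
  obtain ⟨l, hl⟩ := Ideal.exists_pow_le_of_le_radical_of_fg (I := I) (J := J)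
    (h ▸ Ideal.le_radical) (IsNoetherian.noetherian _)
  exact le_antisymm (torsionSub_le_of_pow_le hk M) (torsionSub_le_of_pow_le hl M)

/-- `Γ_I ≅ Γ_J` when the torsion submodules agree. -/
noncomputable def gammaIso {I J : Ideal R}
    (h : ∀ M : ModuleCat.{u} R, DRing.torsionSub I M = DRing.torsionSub J M) :
    DRing.gammaI I ≅ DRing.gammaI J :=
  NatIso.ofComponents (fun M => (LinearEquiv.ofEq _ _ (h M)).toModuleIso) (by
    intro X Y f
    apply ModuleCat.hom_ext
    apply LinearMap.ext
    intro y
    apply Subtype.ext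
    rfl)

/-- the isomorphism of delta-functors `H^•_I ≅ H^•_J`. -/
noncomputable def deltaIso {I J : Ideal R}
    (h : ∀ M : ModuleCat.{u} R, DRing.torsionSub I M = DRing.torsionSub J M) : T I ≅ T J :=
  (Groth.Agent.S6774.result (T I) (T J) (isUniversal I) (isUniversal J)
    (gammaNatIso I ≪≫ gammaIso h ≪≫ (gammaNatIso J).symm)).choose

/-- `H^i_I ≅ H^i_J` as functors when the torsion functors agree. -/
noncomputable def HIso {I J : Ideal R}
    (h : ∀ M : ModuleCat.{u} R, DRing.torsionSub I M = DRing.torsionSub J M) (i : ℕ) :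
    localCohomology I i ≅ localCohomology J i where
  hom := (deltaIso h).hom.app i
  inv := (deltaIso h).inv.app i
  hom_inv_id := by
    have := congrArg (fun φ : T I ⟶ T I => φ.app i) (deltaIso h).hom_inv_id
    exact this
  inv_hom_id := by
    have := congrArg (fun φ : T J ⟶ T J => φ.app i) (deltaIso h).inv_hom_id
    exact this

/-- `H^i_I(M) ≃ H^i_J(M)` when `√I = √J` (Noetherian ring). -/
noncomputable def HEquiv [IsNoetherianRing R] {I J : Ideal R} (h : I.radical = J.radical) (i : ℕ)
    (M : Type u) [AddCommGroup M] [Module R M] : LocCoh.H I i M ≃ₗ[R] LocCoh.H J i M :=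
  ((HIso (fun M => torsionSub_eq_of_radical_eq h M) i).app (ModuleCat.of R M)).toLinearEquiv

end Groth.Agent.Lib.LocCohRadical9
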