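import Groth.Agent.Lib.LocCohLocalization
import Groth.Agent.Lib.LocCohRadical9
import Groth.Agent.Lib.NonVanish9
import Groth.Agent.Lib.LocCohIndepBase
import Groth.Agent.Lib.LocCohFaltings

/-!
# `H^1_𝔞(D)` is not killed by a nonzero element when `ht 𝔞 = 1` (`D` a Noetherian domain) (helper53)
-/

set_option maxHeartbeats 400000
universe u

namespace Groth.Agent.Lib.LocCohHeightOne
open IsLocalRing

section local1
variable {B : Type u} [CommRing B] [IsDomain B] [IsNoetherianRing B] [IsLocalRing B]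

/-- in a one-dimensional Noetherian local domain every nonzero prime is the maximal ideal. -/
theorem eq_maximalIdeal_of_ne_bot (hdim : ringKrullDim B = 1) (P : Ideal B) [hP : P.IsPrime]
    (hne : P ≠ ⊥) : P = maximalIdeal B := by
  by_contra hPm
  have hlt : P < maximalIdeal B := lt_of_le_of_ne (le_maximalIdeal hP.ne_top) hPm
  have h1 : P.height < (maximalIdeal B).height :=
    Ideal.height_strict_mono_of_isPrime_of_isPrime hlt
  have h2 : ((maximalIdeal B).height : WithBot ℕ∞) = 1 := by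
    rw [IsLocalRing.maximalIdeal_height_eq_ringKrullDim, hdim]
  have h3 : (maximalIdeal B).height = 1 := by exact_mod_cast h2
  have h4 : P.height = 0 := by
    rw [h3] at h1
    exact Order.lt_one_iff.1 h1
  rw [Ideal.height_eq_zero_iff_eq_bot] at h4
  exact hne h4

/-- a nonzero element of a one-dimensional Noetherian local domain does not kill `H^1_m(B)`. -/
theorem not_forall_smul_eq_zero_local (hdim : ringKrullDim B = 1) (c : B) (hc : c ≠ 0) :
    ¬ ∀ y : LocCoh.H (maximalIdeal B) 1 B, c • y = 0 := by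
  intro hkill
  have hsd : Module.supportDim B B = ((1 : ℕ) : WithBot ℕ∞) := by
    rw [Module.supportDim_self_eq_ringKrullDim, hdim]; rfl
  obtain ⟨hnt, hnk⟩ := Groth.Agent.Lib.NonVanish9.main 1 B hsd
  by_cases hu : IsUnit c
  · obtain ⟨u, rfl⟩ := hu
    obtain ⟨y, hy⟩ := exists_ne (0 : LocCoh.H (maximalIdeal B) 1 B)
    apply hy
    have := hkill y
    rw [← one_smul B y, ← u.inv_mul, mul_smul, this, smul_zero]
  · have hcm : c ∈ maximalIdeal B := (mem_maximalIdeal c).2 hu
    have hrad : maximalIdeal B ≤ (Ideal.span {c}).radical := by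
      rw [Ideal.radical_eq_sInf]
      refine le_sInf ?_
      rintro P ⟨hcP, hP⟩
      have hne : P ≠ ⊥ := by
        intro h
        rw [h] at hcP
        exact hc ((Ideal.span_singleton_le_iff_mem _).1 hcP)
      rw [eq_maximalIdeal_of_ne_bot hdim P hne]
    obtain ⟨N, hN⟩ := Ideal.exists_pow_le_of_le_radical_of_fg hrad
      (IsNoetherian.noetherian (maximalIdeal B))
    apply hnk Nat.one_pos N
    intro d hd y
    obtain ⟨e, rfl⟩ := Ideal.mem_span_singleton'.1 (hN hd)
    rw [mul_smul, hkill y, smul_zero]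

end local1

section domain
variable {D : Type u} [CommRing D] [IsDomain D] [IsNoetherianRing D]

/-- if `ht 𝔞 = 1` in a Noetherian domain, no nonzero element kills `H^1_𝔞(D)`. -/
theorem not_forall_smul_eq_zero (𝔞 : Ideal D) (h𝔞 : 𝔞.height = 1) (c : D) (hc : c ≠ 0) :
    ¬ ∀ y : LocCoh.H 𝔞 1 D, c • y = 0 := by
  intro hkill
  have h𝔞' : 𝔞.height = ((1 : ℕ) : ℕ∞) := by rw [h𝔞]; rfl
  obtain ⟨𝔮, hq, h𝔞𝔮, hht'⟩ := Ideal.exists_isPrime_height_eq h𝔞'
  have hht : 𝔮.height = 1 := by rw [hht']; rfl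
  have hmin : 𝔮 ∈ 𝔞.minimalPrimes :=
    Ideal.mem_minimalPrimes_of_height_le h𝔞𝔮 (by rw [hht, h𝔞])
  let B := Localization.AtPrime 𝔮
  have hdim : ringKrullDim B = 1 := by
    rw [IsLocalization.AtPrime.ringKrullDim_eq_height 𝔮 B, hht]; rfl
  have hinj : Function.Injective (algebraMap D B) :=
    IsLocalization.injective B (M := 𝔮.primeCompl) (fun s hs => by
      rw [mem_nonZeroDivisors_iff_ne_zero]
      rintro rfl
      exact hs 𝔮.zero_mem)
  have hc' : algebraMap D B c ≠ 0 := fun h0 => hc (hinj (by rw [h0, map_zero]))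
  apply not_forall_smul_eq_zero_local (B := B) hdim (algebraMap D B c) hc'
  -- transfer the annihilation
  have hrad : (𝔞.map (algebraMap D B)).radical = (maximalIdeal B).radical := by
    rw [IsLocalization.AtPrime.radical_map_of_mem_minimalPrimes B 𝔮 𝔞 hmin,
      IsLocalization.AtPrime.map_eq_maximalIdeal 𝔮 B,
      (IsLocalRing.maximalIdeal.isMaximal _).isPrime.radical]
  have e1 := Groth.Agent.Lib.LocCohRadical9.HEquiv hrad 1 B
  have e2 := Groth.Agent.Lib.LocCohLocalization.localizedEquiv 𝔞 𝔮.primeCompl D 1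
  intro y
  obtain ⟨y', rfl⟩ := e1.surjective y
  rw [← map_smul]
  obtain ⟨z, rfl⟩ := e2.surjective y'
  rw [← map_smul]
  have hz : algebraMap D B c • z = 0 := by
    rw [algebraMap_smul]
    induction z using LocalizedModule.induction_on with
    | h w s => rw [LocalizedModule.smul'_mk, hkill w, LocalizedModule.zero_mk]
  rw [hz, map_zero, map_zero]

end domain

section main
open Groth.Agent.Lib.LocCohLES Groth.Agent.Lib.LocCohFaltings
variable {R : Type u} [CommRing R] [IsNoetherianRing R]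

/-- Brodmann–Sharp 9.3.5-type statement: if `p ∈ Ass M`, `b ⊄ p` and `ht (a + p)/p = 1` then `b` is
not contained in the radical of the annihilator of `H^1_a(M)`. -/
theorem not_le_radical_annihilator (a b : Ideal R) (M : Type u) [AddCommGroup M] [Module R M]
    [Module.Finite R M] (p : Ideal R) [hpp : p.IsPrime] (hp : p ∈ associatedPrimes R M)
    (hb : ¬ b ≤ p) (hht : ((a ⊔ p).map (Ideal.Quotient.mk p)).height = 1) :
    ¬ b ≤ (Module.annihilator R (LocCoh.H a 1 M)).radical := by
  intro hb'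
  obtain ⟨k, hk⟩ := Ideal.exists_pow_le_of_le_radical_of_fg hb' (IsNoetherian.noetherian b)
  -- the embedding `R/p → M`
  obtain ⟨-, x, hx⟩ := isAssociatedPrime_iff.1 hp
  have hpx : ∀ r : R, r ∈ p ↔ r • x = 0 := by
    intro r
    rw [hx, Submodule.mem_colon_singleton, Submodule.mem_bot]
  let φ : (R ⧸ p) →ₗ[R] M := Submodule.liftQ p (LinearMap.toSpanSingleton R M x) (by
    intro r hr
    rw [LinearMap.mem_ker, LinearMap.toSpanSingleton_apply]
    exact (hpx r).1 hr)
  have hφ : Function.Injective φ := by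
    rw [← LinearMap.ker_eq_bot, Submodule.ker_liftQ_eq_bot']
    ext r
    rw [LinearMap.mem_ker, LinearMap.toSpanSingleton_apply]
    exact hpx r
  let g := (LinearMap.range φ).mkQ
  have hg : Function.Surjective g := Submodule.mkQ_surjective _
  have hfg : Function.Exact φ g := LinearMap.exact_map_mkQ_range φ
  -- `a^l` kills `H^0_a(coker)`
  have : Module.Finite R (LocCoh.H a 0 (M ⧸ LinearMap.range φ)) := finite_H_zero a _
  obtain ⟨l, hl⟩ := exists_pow_annihilates_of_finite a (LocCoh.H a 0 (M ⧸ LinearMap.range φ))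
    (Groth.Agent.Lib.H29LocCohReg.isPowerTorsion_H a _ 0)
  -- `a^l * b^k` kills `H^1_a(R/p)`
  have hkill : ∀ c ∈ a ^ l * b ^ k, ∀ y : LocCoh.H a 1 (R ⧸ p), c • y = 0 := by
    intro c hc y
    refine Submodule.mul_induction_on hc ?_ ?_
    · intro c1 hc1 c2 hc2
      have h0 : Hmap a φ 1 (c2 • y) = 0 := by
        rw [map_smul]
        exact Module.mem_annihilator.1 (hk hc2) _
      obtain ⟨w, hw⟩ := (exact₁ a φ g hφ hfg hg 0 (c2 • y)).1 h0
      rw [mul_smul, ← hw, ← map_smul, hl c1 hc1 w, map_zero]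
    · intro c1 c2 h1 h2
      rw [add_smul, h1, h2, add_zero]
  -- `a ⊄ p`
  have hap : ¬ a ≤ p := by
    intro hap
    have : (a ⊔ p).map (Ideal.Quotient.mk p) = ⊥ := by
      rw [sup_eq_right.2 hap, Ideal.map_quotient_self]
    rw [this, Ideal.height_bot] at hht
    exact zero_ne_one hht
  -- an element `c ∈ a^l b^k`, `c ∉ p`
  have hnot : ¬ a ^ l * b ^ k ≤ p := by
    intro h
    rcases hpp.mul_le.1 h with h | h
    · exact hap (hpp.le_of_pow_le h)
    · exact hb (hpp.le_of_pow_le h)
  obtain ⟨c, hc, hcp⟩ := SetLike.not_le_iff_exists.1 hnot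
  -- pass to the domain `R/p`
  obtain ⟨ψ, hψ⟩ := Groth.Agent.Lib.LocCohIndepBase.indep_base (R' := R ⧸ p) a 1 (R ⧸ p)
  have hmap : (a ⊔ p).map (Ideal.Quotient.mk p) = a.map (algebraMap R (R ⧸ p)) := by
    rw [Ideal.map_sup, Ideal.map_quotient_self, sup_bot_eq]
    rfl
  rw [hmap] at hht
  refine not_forall_smul_eq_zero (a.map (algebraMap R (R ⧸ p))) hht (algebraMap R (R ⧸ p) c) ?_ ?_
  · intro h0
    exact hcp (Ideal.Quotient.eq_zero_iff_mem.1 h0)
  · intro y
    apply ψ.injective
    rw [hψ, hkill c hc, map_zero]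

end main

end Groth.Agent.Lib.LocCohHeightOne
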