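import Groth.Agent.Lib.FinDimRel53a
import Groth.Agent.S11648
import Groth.Agent.S11649
import Groth.Agent.S11652

/-!
# Brodmann–Sharp 9.3.7: `f_a^b(M) ≤ λ_a^b(M)` (helper53)
-/

set_option maxHeartbeats 400000
set_option linter.unusedSectionVars false
universe u

namespace Groth.Agent.Lib.FinDimRel53
open Groth.Agent.Lib.LocCohLES Groth.Agent.Lib.DimIneqCore Groth.Agent.Lib.AdjDepth53

section steps
variable {R : Type u} [CommRing R] [IsNoetherianRing R] (a : Ideal R)

/-- passing to a quotient by a submodule killed by `u`. -/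
theorem radAnn_quotient (b : Ideal R) (u : R) {M : Type u} [AddCommGroup M] [Module R M]
    (N : Submodule R M) (hu : ∀ n ∈ N, u • n = 0) (i : ℕ)
    (h : b ≤ (Module.annihilator R (LocCoh.H a i M)).radical) :
    b * Ideal.span {u} ≤ (Module.annihilator R (LocCoh.H a i (M ⧸ N))).radical := by
  have hex := exact₃ a N.subtype N.mkQ N.injective_subtype (LinearMap.exact_subtype_mkQ N)
    N.mkQ_surjective i
  refine le_radical_annihilator_of_exact _ _ _ hex (le_trans Ideal.mul_le_left h) ?_
  refine le_trans Ideal.mul_le_right (le_trans ?_ Ideal.le_radical)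
  rw [Ideal.span_singleton_le_iff_mem, Module.mem_annihilator]
  exact smul_eq_zero_of_forall_smul_eq_zero a u (fun n => Subtype.ext (hu n.1 n.2)) (i + 1)

variable {M : Type u} [AddCommGroup M] [Module R M]

theorem exact_smul_mkQ (x : R) :
    Function.Exact (LinearMap.lsmul R M x)
      (Ideal.ofList [x] • (⊤ : Submodule R M)).mkQ := by
  intro y
  rw [Submodule.mkQ_apply, Submodule.Quotient.mk_eq_zero, Ideal.ofList_singleton,
    Submodule.ideal_span_singleton_smul, Submodule.mem_smul_pointwise_iff_exists]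
  constructor
  · rintro ⟨m, -, rfl⟩
    exact ⟨m, rfl⟩
  · rintro ⟨m, rfl⟩
    exact ⟨m, Submodule.mem_top, rfl⟩

/-- passing to the quotient by a regular element. -/
theorem radAnn_quotient_regular (b : Ideal R) (x : R) (hx : IsSMulRegular M x) (i : ℕ)
    (h0 : b ≤ (Module.annihilator R (LocCoh.H a i M)).radical)
    (h1 : b ≤ (Module.annihilator R (LocCoh.H a (i + 1) M)).radical) :
    b ≤ (Module.annihilator R
      (LocCoh.H a i (M ⧸ Ideal.ofList [x] • (⊤ : Submodule R M)))).radical := by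
  have hex := exact₃ a (LinearMap.lsmul R M x) (Ideal.ofList [x] • (⊤ : Submodule R M)).mkQ
    hx (exact_smul_mkQ x) (Submodule.mkQ_surjective _) i
  exact le_radical_annihilator_of_exact _ _ _ hex h0 h1

end steps

section cases
variable {R : Type u} [CommRing R] [IsNoetherianRing R] (a b : Ideal R)
  (M : Type u) [AddCommGroup M] [Module R M] [Module.Finite R M] (p : PrimeSpectrum R)

/-- `ht((a+p)/p) = 0`. -/
theorem case_h0 (hb : ¬ b ≤ p.asIdeal) (d : ℕ)
    (hd : LocCoh.depth (Localization.AtPrime p.asIdeal)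
      (LocalizedModule p.asIdeal.primeCompl M) = d)
    (hh : ((a ⊔ p.asIdeal).map (Ideal.Quotient.mk p.asIdeal)).height = 0) :
    ∃ i, i ≤ d ∧ ¬ b ≤ (Module.annihilator R (LocCoh.H a i M)).radical := by
  have hap : a ≤ p.asIdeal := by
    rw [Ideal.height_eq_zero_iff_eq_bot, Ideal.map_eq_bot_iff_le_ker, Ideal.mk_ker] at hh
    exact le_sup_left.trans hh
  have hnt : Nontrivial (LocalizedModule p.asIdeal.primeCompl M) :=
    nontrivial_of_depth_ne_top _ (by rw [hd]; exact ENat.natCast_ne_top d)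
  have hsupp : p ∈ Module.support R M := Module.mem_support_iff.2 hnt
  have hle : LocCoh.idealDepth (a.map (algebraMap R (Localization.AtPrime p.asIdeal)))
      (LocalizedModule p.asIdeal.primeCompl M) ≤ d := by
    rw [← hd]
    refine idealDepth_mono ?_ _
    rw [Ideal.map_le_iff_le_comap]
    have hu : (IsLocalRing.maximalIdeal (Localization.AtPrime p.asIdeal)).under R = p.asIdeal :=
      IsLocalization.AtPrime.under_maximalIdeal _ p.asIdeal
    change a ≤ (IsLocalRing.maximalIdeal (Localization.AtPrime p.asIdeal)).under R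
    rw [hu]
    exact hap
  have hne : LocCoh.idealDepth (a.map (algebraMap R (Localization.AtPrime p.asIdeal)))
      (LocalizedModule p.asIdeal.primeCompl M) ≠ ⊤ :=
    ne_top_of_le_ne_top (ENat.natCast_ne_top d) hle
  obtain ⟨t, ht⟩ := ENat.ne_top_iff_exists.1 hne
  refine ⟨t, ?_, Groth.Agent.S11649.result R a b M p hsupp hap hb t ht.symm⟩
  rw [← ht] at hle
  exact_mod_cast hle

/-- `depth M_p = 0`, `ht((a+p)/p) = h ≥ 2`: pass to a prime between `p` and a good minimal
prime of `a + p`. -/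
theorem case_d0 (hb : ¬ b ≤ p.asIdeal) (h : ℕ) (h2 : 1 < h)
    (hd : LocCoh.depth (Localization.AtPrime p.asIdeal)
      (LocalizedModule p.asIdeal.primeCompl M) = 0)
    (hh : ((a ⊔ p.asIdeal).map (Ideal.Quotient.mk p.asIdeal)).height = h)
    (IH : ∀ (t : PrimeSpectrum R) (d' h' : ℕ), h' < h → ¬ b ≤ t.asIdeal →
      LocCoh.depth (Localization.AtPrime t.asIdeal)
        (LocalizedModule t.asIdeal.primeCompl M) = d' →
      ((a ⊔ t.asIdeal).map (Ideal.Quotient.mk t.asIdeal)).height = h' →
      ∃ i, i ≤ d' + h' ∧ ¬ b ≤ (Module.annihilator R (LocCoh.H a i M)).radical) :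
    ∃ i, i ≤ h ∧ ¬ b ≤ (Module.annihilator R (LocCoh.H a i M)).radical := by
  obtain ⟨Q', hQ', hIQ', hQh⟩ := Ideal.exists_isPrime_height_eq hh
  set q : Ideal R := Q'.comap (Ideal.Quotient.mk p.asIdeal) with hqdef
  have hqprime : q.IsPrime := Ideal.IsPrime.comap _
  have hqmap : q.map (Ideal.Quotient.mk p.asIdeal) = Q' :=
    Ideal.map_comap_of_surjective _ Ideal.Quotient.mk_surjective Q'
  have hapq : a ⊔ p.asIdeal ≤ q := Ideal.map_le_iff_le_comap.1 hIQ'
  have hpq : p.asIdeal ≤ q := le_sup_right.trans hapq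
  have hqh : (q.map (Ideal.Quotient.mk p.asIdeal)).height = h := by rw [hqmap, hQh]
  have hne : p.asIdeal ≠ q := by
    intro heq
    rw [← heq, Ideal.map_quotient_self] at hqh
    have h0 : (⊥ : Ideal (R ⧸ p.asIdeal)).height = 0 := Ideal.height_eq_zero_iff_eq_bot.2 rfl
    rw [h0] at hqh
    have : h = 0 := by exact_mod_cast hqh.symm
    omega
  have hlt : p.asIdeal < q := lt_of_le_of_ne hpq hne
  obtain ⟨e, heb, hep⟩ := SetLike.not_le_iff_exists.1 hb
  -- an element of `q \ p`, equal to `e` if `e ∈ q`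
  obtain ⟨e', he'q, he'p, he'⟩ : ∃ e' : R, e' ∈ q ∧ e' ∉ p.asIdeal ∧ (e ∈ q → e' = e) := by
    by_cases heq : e ∈ q
    · exact ⟨e, heq, hep, fun _ => rfl⟩
    · obtain ⟨e', h1, h2⟩ := SetLike.exists_of_lt hlt
      exact ⟨e', h1, h2, fun h => absurd h heq⟩
  have hht : 1 < (q.map (Ideal.Quotient.mk p.asIdeal)).height := by
    rw [hqh]
    exact_mod_cast h2
  obtain ⟨t, htprime, hpt, htq, he't⟩ :=
    Groth.Agent.S11652.result R p.asIdeal q hlt hht e' he'q he'p
  have hbt : ¬ b ≤ t := by
    intro hbt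
    by_cases heq : e ∈ q
    · exact he't (he' heq ▸ hbt heb)
    · exact heq (htq.le (hbt heb))
  -- adjusted depth at `t`
  have hadj : LocCoh.adjDepth a M ⟨t, htprime⟩ ≤ LocCoh.adjDepth a M p := by
    unfold LocCoh.adjDepth
    have h1 := Groth.Agent.S11650.result R M p.asIdeal t hpt.le
    have h2' : ((a ⊔ t).map (Ideal.Quotient.mk t)).height ≤
        (q.map (Ideal.Quotient.mk t)).height :=
      Ideal.height_mono (Ideal.map_mono (sup_le (le_sup_left.trans hapq) htq.le))
    have h3 := height_add_le p.asIdeal t q hpt.le htq.le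
    calc _ ≤ (LocCoh.depth (Localization.AtPrime p.asIdeal)
            (LocalizedModule p.asIdeal.primeCompl M) +
            (t.map (Ideal.Quotient.mk p.asIdeal)).height) +
            (q.map (Ideal.Quotient.mk t)).height := add_le_add h1 h2'
      _ = LocCoh.depth (Localization.AtPrime p.asIdeal)
            (LocalizedModule p.asIdeal.primeCompl M) +
            ((t.map (Ideal.Quotient.mk p.asIdeal)).height +
            (q.map (Ideal.Quotient.mk t)).height) := add_assoc _ _ _
      _ ≤ _ := by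
        rw [hh, ← hqh]
        gcongr
  unfold LocCoh.adjDepth at hadj
  rw [hd, hh, zero_add] at hadj
  -- heights
  have h3 := height_add_le p.asIdeal t q hpt.le htq.le
  rw [hqh] at h3
  have htp : 1 ≤ (t.map (Ideal.Quotient.mk p.asIdeal)).height := by
    rw [Order.one_le_iff_pos, pos_iff_ne_zero, Ne, Ideal.height_eq_zero_iff_eq_bot,
      Ideal.map_eq_bot_iff_le_ker, Ideal.mk_ker]
    exact not_le_of_gt hpt
  have h2' : ((a ⊔ t).map (Ideal.Quotient.mk t)).height ≤
      (q.map (Ideal.Quotient.mk t)).height :=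
    Ideal.height_mono (Ideal.map_mono (sup_le (le_sup_left.trans hapq) htq.le))
  -- finiteness
  have hd'fin : LocCoh.depth (Localization.AtPrime t)
      (LocalizedModule t.primeCompl M) ≠ ⊤ :=
    ne_top_of_le_ne_top (ENat.natCast_ne_top h) (le_trans le_self_add hadj)
  have hh'fin : ((a ⊔ t).map (Ideal.Quotient.mk t)).height ≠ ⊤ :=
    ne_top_of_le_ne_top (ENat.natCast_ne_top h) (le_trans le_add_self hadj)
  obtain ⟨d', hd'⟩ := ENat.ne_top_iff_exists.1 hd'fin
  obtain ⟨h', hh'⟩ := ENat.ne_top_iff_exists.1 hh'fin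
  have hqtfin : (q.map (Ideal.Quotient.mk t)).height ≠ ⊤ :=
    ne_top_of_le_ne_top (ENat.natCast_ne_top h) (le_trans le_add_self h3)
  obtain ⟨k, hk⟩ := ENat.ne_top_iff_exists.1 hqtfin
  have hlt' : h' < h := by
    rw [← hh', ← hk] at h2'
    rw [← hk] at h3
    have h4 : (1 : ℕ∞) + k ≤ h := le_trans (add_le_add htp le_rfl) h3
    have h5 : 1 + k ≤ h := by exact_mod_cast h4
    have h6 : h' ≤ k := by exact_mod_cast h2'
    omega
  obtain ⟨i, hi, hni⟩ := IH ⟨t, htprime⟩ d' h' hlt' hbt hd'.symm hh'.symm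
  refine ⟨i, le_trans hi ?_, hni⟩
  rw [← hd', ← hh'] at hadj
  exact_mod_cast hadj

end cases

end Groth.Agent.Lib.FinDimRel53
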