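import Mathlib
import Groth.Agent.Lib.H80DecentPt
import Groth.Agent.Lib.ClosedCover13b

/-!
# Finiteness of quasi-finite morphisms over one-point schemes (helper46)

* `algebra_isIntegral_of_quasiFinite_of_subsingleton`: a quasi-finite algebra over a ring with a
  single prime ideal is integral (no Noetherian hypothesis).
* `isAffine_of_finite_of_discreteTopology`: a finite discrete scheme is affine.
* `isFinite_of_finite_of_subsingleton`: a locally quasi-finite morphism locally of finite type
  from a finite scheme to a one-point scheme is finite.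
-/

set_option autoImplicit false
universe u

namespace Groth.Agent.Lib.FinEtQuot46b

open CategoryTheory CategoryTheory.Limits AlgebraicGeometry TopologicalSpace Polynomial TensorProduct

theorem algebra_isIntegral_of_quasiFinite_of_subsingleton {A B : Type*} [CommRing A] [CommRing B]
    [Algebra A B] [Algebra.QuasiFinite A B] [Subsingleton (PrimeSpectrum A)] :
    Algebra.IsIntegral A B := by
  constructor
  intro b
  by_cases hA : Subsingleton A
  · have : Subsingleton B := by
      refine ⟨fun x y => ?_⟩
      rw [← one_smul A x, ← one_smul A y, Subsingleton.elim (1 : A) 0, zero_smul, zero_smul]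
    rw [Subsingleton.elim b 0]
    exact isIntegral_zero
  rw [not_subsingleton_iff_nontrivial] at hA
  obtain ⟨P, hP⟩ := Ideal.exists_maximal A
  have hPp : P.IsPrime := hP.isPrime
  -- every element of `P` is nilpotent
  have hnil : ∀ a ∈ P, IsNilpotent a := by
    intro a ha
    rw [← mem_nilradical, nilradical_eq_sInf, Ideal.mem_sInf]
    intro J hJ
    have : (⟨J, hJ⟩ : PrimeSpectrum A) = ⟨P, hPp⟩ := Subsingleton.elim _ _
    have hJP : J = P := congrArg PrimeSpectrum.asIdeal this
    rw [hJP]; exact ha
  let _ : Field (A ⧸ P) := Ideal.Quotient.field P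
  have hfin : Module.Finite (A ⧸ P) ((A ⧸ P) ⊗[A] B) := Module.Finite.of_quasiFinite
  have hint : Algebra.IsIntegral (A ⧸ P) ((A ⧸ P) ⊗[A] B) := inferInstance
  have hAQf : Module.Finite A (A ⧸ P) := inferInstance
  have hAQ : Algebra.IsIntegral A (A ⧸ P) := Algebra.IsIntegral.of_finite A (A ⧸ P)
  have hτ : IsIntegral A ((1 : A ⧸ P) ⊗ₜ[A] b) :=
    isIntegral_trans _ (hint.isIntegral _)
  obtain ⟨p, hpm, hp⟩ := hτ
  -- aeval b p ∈ P • ⊤
  have h1 : (1 : A ⧸ P) ⊗ₜ[A] (aeval b p) = 0 := by
    have := Polynomial.aeval_algHom_apply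
      (Algebra.TensorProduct.includeRight : B →ₐ[A] (A ⧸ P) ⊗[A] B) b p
    rw [Algebra.TensorProduct.includeRight_apply, Algebra.TensorProduct.includeRight_apply] at this
    rw [← this]
    exact hp
  have h2 : aeval b p ∈ (P • (⊤ : Submodule A B)) := by
    have := congrArg (TensorProduct.quotTensorEquivQuotSMul B P) h1
    rw [TensorProduct.quotTensorEquivQuotSMul_mk_one_tmul, map_zero,
      Submodule.Quotient.mk_eq_zero] at this
    exact this
  have h3 : ∀ y ∈ (P • (⊤ : Submodule A B)), IsNilpotent y := by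
    intro y hy
    refine Submodule.smul_induction_on hy (fun a ha m _ => ?_) (fun x y hx hy => ?_)
    · rw [Algebra.smul_def]
      exact (Commute.all _ _).isNilpotent_mul_right ((hnil a ha).map (algebraMap A B))
    · exact (Commute.all _ _).isNilpotent_add hx hy
  obtain ⟨N, hN⟩ := h3 _ h2
  -- use p * X
  have hq : (p * X).Monic := hpm.mul monic_X
  have hdeg : (p * X).natDegree ≠ 0 := by
    rw [hpm.natDegree_mul monic_X, natDegree_X]; omega
  refine IsIntegral.of_aeval_monic hq hdeg ?_
  have h4 : (aeval b (p * X)) ^ (N + 1) = 0 := by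
    rw [map_mul, aeval_X, mul_pow, pow_succ, hN, zero_mul, zero_mul]
  refine IsIntegral.of_pow (Nat.succ_pos N) ?_
  rw [h4]
  exact isIntegral_zero

theorem isAffine_of_finite_of_discreteTopology (R : Scheme.{u}) [Finite ↥R] [DiscreteTopology ↥R] :
    IsAffine R := by
  let O : ↥R → R.Opens := fun r => ⟨{r}, isOpen_discrete _⟩
  have hsub : ∀ r, Subsingleton ↥(O r : Scheme.{u}) := fun r =>
    ⟨fun a b => Subtype.ext (a.2.trans b.2.symm)⟩
  have hne : ∀ r, Nonempty ↥(O r : Scheme.{u}) := fun r => ⟨⟨r, rfl⟩⟩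
  have haff : ∀ r, IsAffine (O r : Scheme.{u}) := fun r =>
    Groth.Agent.Lib.H80DecentPt.isAffine_of_subsingleton _
  have hcl : ∀ r, IsClosedImmersion (O r).ι := fun r =>
    IsClosedImmersion.of_isPreimmersion _ (isClosed_discrete _)
  exact Groth.Agent.Lib.ClosedCover13.isAffine_of_finite_closed_cover R (κ := ↥R)
    (fun r => (O r : Scheme.{u})) (fun r => (O r).ι)
    (fun x => ⟨x, by rw [Scheme.Opens.range_ι]; rfl⟩)

set_option backward.isDefEq.respectTransparency.types false in
theorem isFinite_of_finite_of_subsingleton {R V : Scheme.{u}} (f : R ⟶ V)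
    [LocallyQuasiFinite f] [LocallyOfFiniteType f] [Subsingleton ↥V] [Finite ↥R] [Nonempty ↥R] :
    IsFinite f := by
  obtain ⟨r₀⟩ := ‹Nonempty ↥R›
  have : Nonempty ↥V := ⟨f r₀⟩
  have hV : IsAffine V := Groth.Agent.Lib.H80DecentPt.isAffine_of_subsingleton V
  have hdisc : DiscreteTopology ↥R := by
    have h1 := f.isDiscrete_preimage_singleton (f r₀)
    have h2 : f ⁻¹' {f r₀} = Set.univ := Set.eq_univ_of_forall fun x => Subsingleton.elim _ _
    rw [h2] at h1
    exact isDiscrete_univ_iff.mp h1
  have hR : IsAffine R := isAffine_of_finite_of_discreteTopology R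
  rw [IsFinite.iff_isIntegralHom_and_locallyOfFiniteType]
  refine ⟨?_, inferInstance⟩
  rw [HasAffineProperty.iff_of_isAffine (P := @IsIntegralHom)]
  refine ⟨hR, ?_⟩
  have hqf : RingHom.QuasiFinite (f.appTop).hom :=
    (HasRingHomProperty.iff_of_isAffine (P := @LocallyQuasiFinite)).1 inferInstance
  have hsub : Subsingleton (PrimeSpectrum Γ(V, ⊤)) := by
    have e := (Scheme.homeoOfIso V.isoSpec)
    exact e.symm.injective.subsingleton
  algebraize [(f.appTop).hom]
  have := algebra_isIntegral_of_quasiFinite_of_subsingleton (A := Γ(V, ⊤)) (B := Γ(R, ⊤))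
  exact algebraMap_isIntegral_iff.mpr this

end Groth.Agent.Lib.FinEtQuot46b
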