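import Groth.Agent.Lib.FinEtaleQuotient61
import Mathlib

/-!
# Branches and the decomposition group of a Galois finite etale local algebra (helper61)

`A` Noetherian henselian local, `E'` finite etale local with Galois residue extension,
`G = Aut_A(E')`, `q` a prime of `E'`.  If the stabilizer of `q` is not all of `G`, there is an
element `x₀ ∈ E'` whose class in `E'/q` lies in `Frac(A/(q ∩ A))` but whose residue class in
`κ(E')` does not come from `κ(A)` (`exists_of_smul_ne`).
-/

set_option autoImplicit false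
universe u

namespace Groth.Agent.Lib.FinEtaleBranch61

open IsLocalRing Pointwise
open Groth.Agent.Lib.FinEtaleGalois61 Groth.Agent.Lib.HenselGalois61
  Groth.Agent.Lib.FinEtaleInvariant61 Groth.Agent.Lib.FinEtaleQuotient61

variable (A : Type u) [CommRing A] [HenselianLocalRing A] [IsNoetherianRing A]
variable (E' : Type u) [CommRing E'] [IsLocalRing E'] [Algebra A E']
  [IsLocalHom (algebraMap A E')] [Module.Finite A E'] [Algebra.Etale A E']
  [IsGalois (ResidueField A) (ResidueField E')]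
  (q : Ideal E') [q.IsPrime]

attribute [local instance] FractionRing.liftAlgebra

set_option maxHeartbeats 1600000 in
theorem exists_of_smul_ne (g : E' ≃ₐ[A] E') (hg : g • q ≠ q) :
    ∃ x₀ : E', ∃ b₁ b₂ : A, b₂ ∉ q.under A ∧
      x₀ * algebraMap A E' b₂ - algebraMap A E' b₁ ∈ q ∧
      residue E' x₀ ∉ Set.range (algebraMap (ResidueField A) (ResidueField E')) := by
  classical
  let G := E' ≃ₐ[A] E'
  let k := ResidueField A
  let k' := ResidueField E'
  let P₀ := q.under A
  have : q.LiesOver P₀ := ⟨rfl⟩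
  let B := E' ⧸ q
  let K₀ := FractionRing (A ⧸ P₀)
  let K₁ := FractionRing B
  obtain ⟨hgal, hfd⟩ := isGalois_fractionRing_quotient A E' q
  have hinv : Algebra.IsInvariant A E' G := isInvariant A E'
  have hfin : Finite G := finite_aut A E'
  let φ := IsFractionRing.stabilizerHom G P₀ q K₀ K₁
  have hφ : Function.Surjective φ := IsFractionRing.stabilizerHom_surjective G P₀ q K₀ K₁
  let H : Subgroup G := MulAction.stabilizer G q
  have := Fintype.ofFinite H
  have hHne : H ≠ ⊤ := by
    intro h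
    have : g ∈ H := h ▸ Subgroup.mem_top g
    exact hg (MulAction.mem_stabilizer_iff.mp this)
  let H' : Subgroup (k' ≃ₐ[k] k') := H.map (red (A := A) E')
  have hH'ne : H' ≠ ⊤ := by
    intro h
    apply hHne
    rw [eq_top_iff]
    intro g' _
    have : red (A := A) E' g' ∈ H' := h ▸ Subgroup.mem_top _
    obtain ⟨h₁, hh₁, hh⟩ := this
    have := red_injective (A := A) E' hh
    rwa [← this]
  have hfdk : FiniteDimensional k k' := inferInstance
  have hfix : IntermediateField.fixedField H' ≠ ⊥ := by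
    intro h
    apply hH'ne
    rw [← IntermediateField.fixingSubgroup_fixedField H', h, IntermediateField.fixingSubgroup_bot]
  obtain ⟨c, hcfix, hcbot⟩ : ∃ c : k', c ∈ IntermediateField.fixedField H' ∧
      c ∉ (⊥ : IntermediateField k k') := by
    by_contra hcon
    apply hfix
    rw [eq_bot_iff]
    intro c hc
    by_contra hc'
    exact hcon ⟨c, hc, hc'⟩
  obtain ⟨y₀, hy₀⟩ := exists_sum_eq_one A E' H
  obtain ⟨e, rfl⟩ := residue_surjective c
  let x₀ : E' := ∑ h : H, (h : G) (e * y₀)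
  have hres : residue E' x₀ = residue E' e := by
    have h1 : ∀ h : H, residue E' ((h : G) (e * y₀)) = residue E' e * residue E' ((h : G) y₀) := by
      intro h
      rw [map_mul, map_mul]
      congr 1
      have h2 : red (A := A) E' (h : G) ∈ H' := ⟨h, h.2, rfl⟩
      have h3 := (IntermediateField.mem_fixedField_iff _ _).mp hcfix _ h2
      rw [red_residue] at h3
      exact h3
    simp only [x₀, map_sum, h1]
    rw [← Finset.mul_sum, ← map_sum, hy₀, map_one, mul_one]
  have hfixx : ∀ h' : H, (h' : G) x₀ = x₀ := by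
    intro h'
    simp only [x₀, map_sum]
    exact Fintype.sum_equiv (Equiv.mulLeft h') _ _ (fun h => rfl)
  let toK : E' →+* K₁ := (algebraMap B K₁).comp (Ideal.Quotient.mk q)
  have hbot : toK x₀ ∈ (⊥ : IntermediateField K₀ K₁) := by
    rw [IsGalois.mem_bot_iff_fixed]
    intro σ
    obtain ⟨h₀, rfl⟩ := hφ σ
    have h1 : φ h₀ (toK x₀) = toK ((h₀ : G) x₀) :=
      IsFractionRing.stabilizerHom_apply_apply_mk G P₀ q K₀ K₁ h₀ x₀
    rw [h1, hfixx h₀]
  obtain ⟨κ₀, hκ₀⟩ := IntermediateField.mem_bot.mp hbot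
  obtain ⟨a₁, a₂, ha₂, rfl⟩ := IsFractionRing.div_surjective (A := A ⧸ P₀) κ₀
  obtain ⟨b₁, rfl⟩ := Ideal.Quotient.mk_surjective a₁
  obtain ⟨b₂, rfl⟩ := Ideal.Quotient.mk_surjective a₂
  have hb₂ : b₂ ∉ P₀ := by
    intro h
    have : Ideal.Quotient.mk P₀ b₂ = 0 := Ideal.Quotient.eq_zero_iff_mem.mpr h
    exact nonZeroDivisors.ne_zero ha₂ this
  refine ⟨x₀, b₁, b₂, hb₂, ?_, ?_⟩
  · have hne : algebraMap (A ⧸ P₀) K₀ (Ideal.Quotient.mk P₀ b₂) ≠ 0 :=
      IsFractionRing.to_map_ne_zero_of_mem_nonZeroDivisors ha₂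
    have h1 : algebraMap K₀ K₁ (algebraMap (A ⧸ P₀) K₀ (Ideal.Quotient.mk P₀ b₁)) =
        toK x₀ * algebraMap K₀ K₁ (algebraMap (A ⧸ P₀) K₀ (Ideal.Quotient.mk P₀ b₂)) := by
      rw [← hκ₀, ← map_mul, div_mul_cancel₀ _ hne]
    rw [← IsScalarTower.algebraMap_apply (A ⧸ P₀) K₀ K₁,
      ← IsScalarTower.algebraMap_apply (A ⧸ P₀) K₀ K₁,
      IsScalarTower.algebraMap_apply (A ⧸ P₀) B K₁,
      IsScalarTower.algebraMap_apply (A ⧸ P₀) B K₁] at h1
    have h2 : algebraMap B K₁ (Ideal.Quotient.mk q (algebraMap A E' b₁)) =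
        algebraMap B K₁ (Ideal.Quotient.mk q (x₀ * algebraMap A E' b₂)) := by
      rw [map_mul, map_mul]
      exact h1
    have h3 := IsFractionRing.injective B K₁ h2
    rw [Ideal.Quotient.eq] at h3
    have := q.neg_mem h3
    rwa [neg_sub] at this
  · rw [hres]
    rintro ⟨c₀, hc₀⟩
    exact hcbot (IntermediateField.mem_bot.mpr ⟨c₀, hc₀⟩)

end Groth.Agent.Lib.FinEtaleBranch61
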