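import Groth.Agent.Lib.FiniteEtaleLift
import Mathlib.LinearAlgebra.TensorProduct.Quotient

set_option autoImplicit false
universe u

namespace Groth.Agent.Lib.FiniteEtaleLiftLocal

open IsLocalRing Polynomial TensorProduct

/-- A module-finite algebra `E` over a local ring `A` with a surjection onto a field whose kernel
is `m E`-generated is local, etc. Packaged for `S16430`. -/
theorem exists_local_finite_etale (A : Type u) [CommRing A] [IsLocalRing A] (l : Type u) [Field l]
    [Algebra (ResidueField A) l] [FiniteDimensional (ResidueField A) l]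
    [Algebra.IsSeparable (ResidueField A) l] :
    ∃ (E : Type u) (_ : CommRing E) (_ : IsLocalRing E) (_ : Algebra A E)
      (_ : IsLocalHom (algebraMap A E)),
      Module.Finite A E ∧ Algebra.Etale A E ∧
        Nonempty (ResidueField E ≃ₐ[ResidueField A] l) := by
  classical
  let κ := ResidueField A
  obtain ⟨E, hCR, hAlg, hfin, het, ⟨iso⟩⟩ :=
    Groth.Agent.Lib.FiniteEtaleLift.exists_lift_field (R := A) l
  -- the map to `l`
  let incl : E →+* κ ⊗[A] E := (Algebra.TensorProduct.includeRight : E →ₐ[A] κ ⊗[A] E).toRingHom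
  have hincl : ∀ x, incl x = (1 : κ) ⊗ₜ[A] x := fun _ => rfl
  let φ : E →+* l := (iso : κ ⊗[A] E →+* l).comp incl
  have hφ : ∀ x, φ x = iso ((1 : κ) ⊗ₜ[A] x) := fun _ => rfl
  have hinclsurj : Function.Surjective incl := by
    intro z
    induction z using TensorProduct.induction_on with
    | zero => exact ⟨0, map_zero _⟩
    | tmul x s =>
      obtain ⟨r, rfl⟩ := residue_surjective x
      refine ⟨r • s, ?_⟩
      rw [hincl, TensorProduct.tmul_smul, TensorProduct.smul_tmul', Algebra.smul_def, mul_one]
      rfl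
    | add x y hx hy =>
      obtain ⟨a, rfl⟩ := hx
      obtain ⟨b, rfl⟩ := hy
      exact ⟨a + b, map_add _ _ _⟩
  have hφsurj : Function.Surjective φ := iso.surjective.comp hinclsurj
  have hφalg : ∀ a : A, φ (algebraMap A E a) = algebraMap κ l (residue A a) := by
    intro a
    rw [hφ, Algebra.algebraMap_eq_smul_one, TensorProduct.tmul_smul, TensorProduct.smul_tmul',
      Algebra.smul_def, mul_one]
    have : (algebraMap A κ a) ⊗ₜ[A] (1 : E) = algebraMap κ (κ ⊗[A] E) (residue A a) := rfl
    rw [this, iso.commutes]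
  have hkerφ : RingHom.ker φ ≤ Ideal.map (algebraMap A E) (maximalIdeal A) := by
    intro x hx
    rw [RingHom.mem_ker, hφ, map_eq_zero_iff _ iso.injective] at hx
    have h1 : (1 : A ⧸ maximalIdeal A) ⊗ₜ[A] x = 0 := hx
    have h2 := congr(TensorProduct.quotTensorEquivQuotSMul E (maximalIdeal A) $h1)
    rw [TensorProduct.quotTensorEquivQuotSMul_mk_one_tmul, map_zero,
      Submodule.Quotient.mk_eq_zero, Ideal.smul_top_eq_map] at h2
    exact h2
  have hmaxφ : (RingHom.ker φ).IsMaximal := RingHom.ker_isMaximal_of_surjective φ hφsurj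
  have hint : Algebra.IsIntegral A E := Algebra.IsIntegral.of_finite A E
  have huniq : ∀ n : Ideal E, n.IsMaximal → n = RingHom.ker φ := by
    intro n hn
    have hmax : (Ideal.comap (algebraMap A E) n).IsMaximal :=
      Ideal.isMaximal_comap_of_isIntegral_of_isMaximal n
    have hle : Ideal.map (algebraMap A E) (maximalIdeal A) ≤ n := by
      rw [Ideal.map_le_iff_le_comap]
      exact (IsLocalRing.eq_maximalIdeal hmax).ge
    exact (hmaxφ.eq_of_le hn.ne_top (hkerφ.trans hle)).symm
  have hnt : Nontrivial E := by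
    refine ⟨⟨0, 1, fun h01 => ?_⟩⟩
    have := congr(φ $h01)
    rw [map_zero, map_one] at this
    exact zero_ne_one this
  have hloc : IsLocalRing E := IsLocalRing.of_unique_max_ideal ⟨RingHom.ker φ, hmaxφ, huniq⟩
  have hmE : maximalIdeal E = RingHom.ker φ := huniq _ (maximalIdeal.isMaximal E)
  have hlochom : IsLocalHom (algebraMap A E) := by
    refine ⟨fun a ha => ?_⟩
    by_contra hnu
    have h1 : a ∈ maximalIdeal A := hnu
    have h2 : algebraMap A E a ∈ maximalIdeal E := by
      rw [hmE, RingHom.mem_ker, hφalg, (residue_eq_zero_iff a).mpr h1, map_zero]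
    exact h2 ha
  have hφloc : IsLocalHom φ := by
    refine ⟨fun x hx => ?_⟩
    by_contra hnu
    have h1 : x ∈ maximalIdeal E := hnu
    rw [hmE, RingHom.mem_ker] at h1
    rw [h1] at hx
    exact not_isUnit_zero hx
  refine ⟨E, hCR, hloc, hAlg, hlochom, hfin, het, ⟨?_⟩⟩
  let ψ : ResidueField E →+* l := ResidueField.lift φ
  have hψ : ∀ x, ψ (residue E x) = φ x := fun _ => rfl
  let ψa : ResidueField E →ₐ[κ] l :=
    { ψ with
      commutes' := fun r => by
        obtain ⟨a, rfl⟩ := residue_surjective r
        change ψ (algebraMap κ (ResidueField E) (residue A a)) = _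
        rw [ResidueField.algebraMap_residue, hψ, hφalg] }
  refine AlgEquiv.ofBijective ψa ⟨ψ.injective, ?_⟩
  intro z
  obtain ⟨x, rfl⟩ := hφsurj z
  exact ⟨residue E x, rfl⟩

end Groth.Agent.Lib.FiniteEtaleLiftLocal
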