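import Groth.Agent.Lib.FiniteEtaleHom
import Groth.Agent.Lib.FiniteEtaleLiftLocal
import Mathlib

/-!
# Finite etale local algebras over a henselian local ring and their residue fields (helper61)

* `exists_lift`, `lift_unique`: `A`-algebra maps `E → E'` from an etale local algebra into a finite
  local algebra over a henselian local ring correspond to maps of residue fields.
* `red`: the group homomorphism `Aut_A(E') → Aut_k(κ(E'))`, bijective for finite etale local `E'`.
* `finrank_eq_finrank_residueField`: rank of a finite etale local algebra is the residue degree.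
-/

set_option autoImplicit false
universe u

namespace Groth.Agent.Lib.FinEtaleGalois61

open IsLocalRing

section lift

variable {A : Type u} [CommRing A] [HenselianLocalRing A]
variable (E E' : Type u) [CommRing E] [CommRing E'] [IsLocalRing E] [IsLocalRing E']
  [Algebra A E] [Algebra A E'] [IsLocalHom (algebraMap A E)] [IsLocalHom (algebraMap A E')]

/-- The residue map of a local `A`-algebra as an `A`-algebra map. -/
noncomputable def resAlg : E' →ₐ[A] ResidueField E' :=
  IsScalarTower.toAlgHom A E' (ResidueField E')

omit [HenselianLocalRing A] [IsLocalHom (algebraMap A E')] in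
theorem resAlg_apply (x : E') : resAlg (A := A) E' x = residue E' x := rfl

omit [HenselianLocalRing A] [IsLocalRing E] [IsLocalHom (algebraMap A E)]
  [IsLocalHom (algebraMap A E')] in
theorem lift_unique [Algebra.FormallyUnramified A E] [Algebra.FiniteType A E]
    (φ ψ : E →ₐ[A] E') (h : ∀ x, residue E' (φ x) = residue E' (ψ x)) : φ = ψ := by
  refine Groth.Agent.Lib.FiniteEtaleHom.algHom_ext_of_sub_mem_jacobson φ ψ (maximalIdeal E')
    (IsLocalRing.jacobson_eq_maximalIdeal ⊥ bot_ne_top).ge fun b => ?_
  rw [← residue_eq_zero_iff, map_sub, h, sub_self]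

theorem exists_lift [Algebra.Etale A E] [Module.Finite A E']
    (σ : ResidueField E →ₐ[ResidueField A] ResidueField E') :
    ∃ φ : E →ₐ[A] E', ∀ x, residue E' (φ x) = σ (residue E x) := by
  have hsurj : Function.Surjective (resAlg (A := A) E') := residue_surjective
  have hker : RingHom.ker (resAlg (A := A) E' : E' →+* ResidueField E') ≤ Ideal.jacobson ⊥ := by
    rw [IsLocalRing.jacobson_eq_maximalIdeal ⊥ bot_ne_top]
    intro x hx
    rw [RingHom.mem_ker] at hx
    exact (residue_eq_zero_iff x).mp hx
  let φbar : E →ₐ[A] ResidueField E' := (σ.restrictScalars A).comp (resAlg (A := A) E)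
  obtain ⟨φ, hφ⟩ := (Groth.Agent.Lib.FiniteEtaleHom.bijective_comp_of_surjective E' E
    (resAlg (A := A) E') hsurj hker).2 φbar
  refine ⟨φ, fun x => ?_⟩
  have := congr($hφ x)
  exact this

end lift

section aut

variable {A : Type u} [CommRing A] [HenselianLocalRing A]
variable (E' : Type u) [CommRing E'] [IsLocalRing E'] [Algebra A E']
  [IsLocalHom (algebraMap A E')]

/-- Reduction of automorphisms to the residue field. -/
noncomputable def red : (E' ≃ₐ[A] E') →* (ResidueField E' ≃ₐ[ResidueField A] ResidueField E') where
  toFun g := ResidueField.mapAlgEquiv' g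
  map_one' := by
    ext x
    obtain ⟨x, rfl⟩ := residue_surjective x
    rfl
  map_mul' g h := by
    ext x
    obtain ⟨x, rfl⟩ := residue_surjective x
    rfl

@[simp] theorem red_residue (g : E' ≃ₐ[A] E') (x : E') :
    red E' g (residue E' x) = residue E' (g x) := rfl

theorem red_injective [Algebra.FormallyUnramified A E'] [Algebra.FiniteType A E'] :
    Function.Injective (red (A := A) E') := by
  intro g h hgh
  have : (g : E' →ₐ[A] E') = (h : E' →ₐ[A] E') := by
    apply lift_unique
    intro x
    have := congr($hgh (residue E' x))
    simpa using this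
  ext x
  exact congr($this x)

theorem red_surjective [Algebra.Etale A E'] [Module.Finite A E'] :
    Function.Surjective (red (A := A) E') := by
  intro σ
  obtain ⟨φ, hφ⟩ := exists_lift E' E' (σ : ResidueField E' →ₐ[ResidueField A] ResidueField E')
  obtain ⟨ψ, hψ⟩ := exists_lift E' E'
    (σ.symm : ResidueField E' →ₐ[ResidueField A] ResidueField E')
  have h1 : φ.comp ψ = AlgHom.id A E' := by
    apply lift_unique
    intro x
    simp only [AlgHom.comp_apply, AlgHom.id_apply]
    rw [hφ, hψ]
    exact σ.apply_symm_apply _
  have h2 : ψ.comp φ = AlgHom.id A E' := by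
    apply lift_unique
    intro x
    simp only [AlgHom.comp_apply, AlgHom.id_apply]
    rw [hψ, hφ]
    exact σ.symm_apply_apply _
  refine ⟨AlgEquiv.ofAlgHom φ ψ h1 h2, ?_⟩
  ext x
  obtain ⟨x, rfl⟩ := residue_surjective x
  rw [red_residue]
  exact hφ x

end aut

section rank

variable (A : Type u) [CommRing A] [IsLocalRing A]
variable (E' : Type u) [CommRing E'] [IsLocalRing E'] [Algebra A E']
  [IsLocalHom (algebraMap A E')]

open TensorProduct in
/-- The rank of a finite etale local algebra is the degree of its residue field extension. -/
theorem finrank_eq_finrank_residueField [Module.Finite A E'] [Module.Flat A E']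
    [Algebra.FormallyUnramified A E'] :
    Module.finrank A E' = Module.finrank (ResidueField A) (ResidueField E') := by
  have hfree : Module.Free A E' := Module.free_of_flat_of_isLocalRing
  rw [← Module.finrank_baseChange (R := ResidueField A) (S := A) (M' := E')]
  have hm : (maximalIdeal A).map (algebraMap A E') = maximalIdeal E' :=
    Algebra.FormallyUnramified.map_maximalIdeal
  have hsm : (maximalIdeal A • ⊤ : Submodule A E') = (maximalIdeal E').restrictScalars A := by
    rw [Ideal.smul_top_eq_map, hm]
  let e₀ : (ResidueField A ⊗[A] E') ≃ₗ[A] ResidueField E' :=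
    (TensorProduct.quotTensorEquivQuotSMul E' (maximalIdeal A)) ≪≫ₗ
      (Submodule.quotEquivOfEq _ _ hsm) ≪≫ₗ
      (Submodule.Quotient.restrictScalarsEquiv A (maximalIdeal E'))
  let e₁ : (ResidueField A ⊗[A] E') ≃ₗ[ResidueField A] ResidueField E' :=
    LinearEquiv.extendScalarsOfSurjective (residue_surjective (R := A)) e₀
  exact e₁.finrank_eq

end rank

end Groth.Agent.Lib.FinEtaleGalois61
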