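import Groth.Agent.Lib.HenselGalois61
import Mathlib

/-!
# Invariants of the automorphism group of a Galois finite etale local algebra (helper61)

`A` henselian local, `E'` finite etale local over `A`, `G = Aut_A(E')`.
* `exists_sum_eq_one`: for every subgroup `H` of `G` there is `y₀` with `∑_{h ∈ H} h y₀ = 1`
  (trace-one element; uses Dedekind independence on the residue field).
* `isInvariant`: if `A` is Noetherian and the residue extension is Galois then `E'^G = A`.
* `eq_one_of_sub_mem`: an automorphism congruent to the identity modulo a proper ideal is the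
  identity (trivial inertia).
-/

set_option autoImplicit false
universe u

namespace Groth.Agent.Lib.FinEtaleInvariant61

open IsLocalRing Groth.Agent.Lib.FinEtaleGalois61 Groth.Agent.Lib.HenselGalois61

variable (A : Type u) [CommRing A] [HenselianLocalRing A]
variable (E' : Type u) [CommRing E'] [IsLocalRing E'] [Algebra A E']
  [IsLocalHom (algebraMap A E')] [Module.Finite A E'] [Algebra.Etale A E']

omit [HenselianLocalRing A] [IsLocalHom (algebraMap A E')] [Module.Finite A E'] in
/-- Trivial inertia: an `A`-automorphism of `E'` congruent to the identity modulo a proper ideal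
is the identity. -/
theorem eq_one_of_sub_mem (g : E' ≃ₐ[A] E') (I : Ideal E') (hI : I ≠ ⊤)
    (h : ∀ x, g x - x ∈ I) : g = 1 := by
  have hle : I ≤ Ideal.jacobson ⊥ := by
    rw [IsLocalRing.jacobson_eq_maximalIdeal ⊥ bot_ne_top]
    exact le_maximalIdeal hI
  have : (g : E' →ₐ[A] E') = AlgHom.id A E' :=
    Groth.Agent.Lib.FiniteEtaleHom.algHom_ext_of_sub_mem_jacobson _ _ I hle fun b => h b
  ext x
  exact congr($this x)

omit [Module.Finite A E'] in
/-- A trace-one element for any subgroup of automorphisms. -/
theorem exists_sum_eq_one (H : Subgroup (E' ≃ₐ[A] E')) [Fintype H] :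
    ∃ y₀ : E', ∑ h : H, (h : E' ≃ₐ[A] E') y₀ = 1 := by
  classical
  let k := ResidueField A
  let k' := ResidueField E'
  let f : H → (k' →ₐ[k] k') := fun h => ((red (A := A) E' (h : E' ≃ₐ[A] E')) : k' →ₐ[k] k')
  have hf : Function.Injective f := by
    intro h₁ h₂ h12
    apply Subtype.ext
    apply red_injective (A := A) E'
    ext x
    exact congr($h12 x)
  have hli : LinearIndependent k' (fun h : H => (f h).toLinearMap) :=
    (linearIndependent_toLinearMap k k' k').comp f hf
  have hne : (∑ h : H, (f h).toLinearMap) ≠ 0 := by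
    intro h0
    have h1 := (linearIndependent_iff'.mp hli) Finset.univ (fun _ => (1 : k'))
      (by simpa using h0) (1 : H) (Finset.mem_univ _)
    exact one_ne_zero h1
  obtain ⟨ybar, hybar⟩ : ∃ ybar : k', (∑ h : H, (f h).toLinearMap) ybar ≠ 0 := by
    by_contra hcon
    apply hne
    ext y
    by_contra h'
    exact hcon ⟨y, h'⟩
  obtain ⟨y, rfl⟩ := residue_surjective ybar
  let u : E' := ∑ h : H, (h : E' ≃ₐ[A] E') y
  have hures : residue E' u = (∑ h : H, (f h).toLinearMap) (residue E' y) := by
    simp only [u, map_sum, LinearMap.sum_apply]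
    rfl
  have hu : IsUnit u := by
    rw [← residue_ne_zero_iff_isUnit, hures]
    exact hybar
  have hfixu : ∀ h' : H, (h' : E' ≃ₐ[A] E') u = u := by
    intro h'
    simp only [u, map_sum]
    exact Fintype.sum_equiv (Equiv.mulLeft h') _ _ (fun h => rfl)
  obtain ⟨v, hv⟩ := hu.exists_left_inv
  have hfixv : ∀ h' : H, (h' : E' ≃ₐ[A] E') v = v := by
    intro h'
    have h1 : (h' : E' ≃ₐ[A] E') v * u = 1 := by
      rw [← hfixu h', ← map_mul, hv, map_one]
    calc (h' : E' ≃ₐ[A] E') v = (h' : E' ≃ₐ[A] E') v * (u * v) := by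
          rw [mul_comm u v, hv, mul_one]
      _ = ((h' : E' ≃ₐ[A] E') v * u) * v := by ring
      _ = v := by rw [h1, one_mul]
  refine ⟨v * y, ?_⟩
  simp only [map_mul, hfixv]
  rw [← Finset.mul_sum]
  exact hv

/-- The fixed ring of the automorphism group of a finite etale local algebra with Galois residue
field extension over a Noetherian henselian local ring is the base ring. -/
theorem isInvariant [IsNoetherianRing A] [IsGalois (ResidueField A) (ResidueField E')] :
    Algebra.IsInvariant A E' (E' ≃ₐ[A] E') := by
  classical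
  let G := E' ≃ₐ[A] E'
  have hfin : Finite G := finite_aut A E'
  have := Fintype.ofFinite G
  let k := ResidueField A
  let k' := ResidueField E'
  -- the submodule of fixed points
  let N : Submodule A E' :=
    { carrier := {x | ∀ g : G, g x = x}
      add_mem' := fun {x y} hx hy g => by rw [map_add, hx g, hy g]
      zero_mem' := fun g => map_zero g
      smul_mem' := fun a x hx g => by rw [map_smul, hx g] }
  have hNmem : ∀ x, x ∈ N ↔ ∀ g : G, g x = x := fun _ => Iff.rfl
  let N' : Submodule A E' := LinearMap.range (Algebra.linearMap A E')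
  have hNfg : N.FG := IsNoetherian.noetherian N
  -- the trace map
  let T : E' →ₗ[A] E' := ∑ g : G, (g : E' ≃ₐ[A] E').toLinearMap
  have hT : ∀ x, T x = ∑ g : G, g x := fun x => by
    simp only [T, LinearMap.sum_apply]
    rfl
  have hTN : ∀ x, T x ∈ N := by
    intro x g'
    rw [hT, map_sum]
    exact Fintype.sum_equiv (Equiv.mulLeft g') _ _ (fun g => rfl)
  obtain ⟨y₀, hy₀⟩ : ∃ y₀ : E', ∑ g : G, g y₀ = 1 := by
    obtain ⟨y₀, hy₀⟩ := exists_sum_eq_one A E' (⊤ : Subgroup G)
    refine ⟨y₀, ?_⟩
    rw [← hy₀]
    exact (Fintype.sum_equiv (Subgroup.topEquiv (G := G)).toEquiv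
      (fun h : (⊤ : Subgroup G) => (h : G) y₀) (fun g : G => g y₀) (fun g => rfl)).symm
  have hm : (maximalIdeal A).map (algebraMap A E') = maximalIdeal E' :=
    Algebra.FormallyUnramified.map_maximalIdeal
  have key : N ≤ N' ⊔ maximalIdeal A • N := by
    intro x hx
    -- the residue of `x` is fixed by the Galois group
    have h1 : residue E' x ∈ IntermediateField.fixedField (⊤ : Subgroup (k' ≃ₐ[k] k')) := by
      rintro ⟨σ, -⟩
      obtain ⟨g, rfl⟩ := red_surjective (A := A) E' σ
      change red (A := A) E' g (residue E' x) = residue E' x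
      rw [red_residue, hx g]
    have hgal : IsGalois k k' := inferInstance
    have h2 := ((IsGalois.tfae (F := k) (E := k')).out 0 1).mp hgal
    rw [h2, IntermediateField.mem_bot] at h1
    obtain ⟨abar, ha⟩ := h1
    obtain ⟨a, rfl⟩ := residue_surjective abar
    -- `y = x - a` is fixed and lies in `m_A E'`
    let y : E' := x - algebraMap A E' a
    have hyN : y ∈ N := by
      intro g
      change g (x - algebraMap A E' a) = x - algebraMap A E' a
      rw [map_sub, hx g, AlgEquiv.commutes]
    have hym : y ∈ maximalIdeal E' := by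
      rw [← residue_eq_zero_iff, map_sub, ← ha]
      exact sub_self _
    have hyy : y = T (y * y₀) := by
      rw [hT]
      simp only [map_mul, hyN _]
      rw [← Finset.mul_sum, hy₀, mul_one]
    have hy2 : y * y₀ ∈ (maximalIdeal A • ⊤ : Submodule A E') := by
      rw [Ideal.smul_top_eq_map, hm]
      exact Ideal.mul_mem_right _ _ hym
    have hy3 : y ∈ maximalIdeal A • N := by
      rw [hyy]
      have h4 : T (y * y₀) ∈ Submodule.map T (maximalIdeal A • ⊤ : Submodule A E') :=
        Submodule.mem_map_of_mem hy2
      rw [Submodule.map_smul''] at h4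
      refine Submodule.smul_mono le_rfl ?_ h4
      rintro _ ⟨z, -, rfl⟩
      exact hTN z
    have hx' : x = algebraMap A E' a + y := by simp [y]
    rw [hx']
    exact Submodule.add_mem_sup ⟨a, rfl⟩ hy3
  have hle : N ≤ N' := Submodule.le_of_le_smul_of_le_jacobson_bot hNfg
    (IsLocalRing.jacobson_eq_maximalIdeal ⊥ bot_ne_top).ge key
  refine ⟨fun x hx => ?_⟩
  obtain ⟨a, ha⟩ := hle ((hNmem x).mpr hx)
  exact ⟨a, ha⟩

end Groth.Agent.Lib.FinEtaleInvariant61
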