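import Groth.Agent.Lib.FinEtaleInvariant61
import Mathlib

/-!
# Subfields of the fraction field of a quotient of a Galois finite etale local algebra (helper61)

`A` Noetherian henselian local, `E'` finite etale local with Galois residue extension, `p` a prime
of `E'`, `P₀ = p ∩ A`. Then `Frac(E'/p) / Frac(A/P₀)` is Galois, and for every intermediate field
`L₁` the ring `(E'/p) ∩ L₁` is a finite, formally unramified `A`-algebra
(`finite_unramified_of_intermediateField`).
-/

set_option autoImplicit false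
universe u

namespace Groth.Agent.Lib.FinEtaleQuotient61

open IsLocalRing Pointwise
open Groth.Agent.Lib.FinEtaleGalois61 Groth.Agent.Lib.HenselGalois61
  Groth.Agent.Lib.FinEtaleInvariant61

variable (A : Type u) [CommRing A] [HenselianLocalRing A] [IsNoetherianRing A]
variable (E' : Type u) [CommRing E'] [IsLocalRing E'] [Algebra A E']
  [IsLocalHom (algebraMap A E')] [Module.Finite A E'] [Algebra.Etale A E']
  [IsGalois (ResidueField A) (ResidueField E')]
  (p : Ideal E') [p.IsPrime]

attribute [local instance] FractionRing.liftAlgebra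

theorem isGalois_fractionRing_quotient :
    haveI : p.LiesOver (p.under A) := ⟨rfl⟩
    IsGalois (FractionRing (A ⧸ p.under A)) (FractionRing (E' ⧸ p)) ∧
      FiniteDimensional (FractionRing (A ⧸ p.under A)) (FractionRing (E' ⧸ p)) := by
  let G := E' ≃ₐ[A] E'
  let P₀ := p.under A
  have : p.LiesOver P₀ := ⟨rfl⟩
  have hinv : Algebra.IsInvariant A E' G := isInvariant A E'
  have hfin : Finite G := finite_aut A E'
  let K₀ := FractionRing (A ⧸ P₀)
  let K₁ := FractionRing (E' ⧸ p)
  have hnormal : Normal K₀ K₁ := Ideal.IsFractionRing.normal G P₀ p K₀ K₁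
  have h1 : Algebra.FormallyUnramified E' (E' ⧸ p) := inferInstance
  have h2 : Algebra.FormallyUnramified A (E' ⧸ p) := .comp A E' _
  have h3 : Algebra.FormallyUnramified (A ⧸ P₀) (E' ⧸ p) := .of_restrictScalars A _ _
  have h4 : Algebra.FormallyUnramified (E' ⧸ p) K₁ := inferInstance
  have h5 : Algebra.FormallyUnramified (A ⧸ P₀) K₁ := .comp _ (E' ⧸ p) _
  have h6 : Algebra.FormallyUnramified K₀ K₁ := .of_restrictScalars (A ⧸ P₀) _ _
  have e1 : Algebra.EssFiniteType (A ⧸ P₀) (E' ⧸ p) := inferInstance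
  have e2 : Algebra.EssFiniteType (E' ⧸ p) K₁ := inferInstance
  have e3 : Algebra.EssFiniteType (A ⧸ P₀) K₁ := .comp _ (E' ⧸ p) _
  have e4 : Algebra.EssFiniteType K₀ K₁ := .of_comp (A ⧸ P₀) _ _
  have hsep : Algebra.IsSeparable K₀ K₁ := Algebra.FormallyUnramified.isSeparable _ _
  exact ⟨⟨⟩, Ideal.IsFractionRing.finite_of_isInvariant G P₀ p K₀ K₁⟩

omit [IsNoetherianRing A] [IsGalois (ResidueField A) (ResidueField E')] [HenselianLocalRing A]
  [Algebra A E'] [IsLocalHom (algebraMap A E')] [Module.Finite A E'] [Algebra.Etale A E'] in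
theorem isUnit_mk_iff (e : E') : IsUnit (Ideal.Quotient.mk p e) ↔ IsUnit e := by
  constructor
  · intro h
    obtain ⟨b, hb⟩ := h.exists_right_inv
    obtain ⟨e', rfl⟩ := Ideal.Quotient.mk_surjective b
    rw [← map_mul, ← map_one (Ideal.Quotient.mk p), Ideal.Quotient.eq] at hb
    have hpm : p ≤ maximalIdeal E' := le_maximalIdeal (Ideal.IsPrime.ne_top inferInstance)
    have h1 : e * e' - 1 ∈ maximalIdeal E' := hpm hb
    by_contra hne
    have h2 : e * e' ∈ maximalIdeal E' :=
      Ideal.mul_mem_right _ _ ((mem_maximalIdeal e).mpr hne)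
    have h3 : (1 : E') ∈ maximalIdeal E' := by
      have := (maximalIdeal E').sub_mem h2 h1
      rwa [sub_sub_cancel] at this
    exact (Ideal.ne_top_iff_one _).mp (maximalIdeal.isMaximal E').ne_top h3
  · intro h
    exact h.map _

theorem finite_unramified_of_intermediateField
    (L₁ : IntermediateField (FractionRing (A ⧸ p.under A)) (FractionRing (E' ⧸ p)))
    (D₁ : Subalgebra A (E' ⧸ p))
    (hD₁ : ∀ y, y ∈ D₁ ↔ algebraMap (E' ⧸ p) (FractionRing (E' ⧸ p)) y ∈ L₁) :
    Module.Finite A D₁ ∧ Algebra.FormallyUnramified A D₁ := by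
  classical
  let G := E' ≃ₐ[A] E'
  let P₀ := p.under A
  let B := E' ⧸ p
  let K₀ := FractionRing (A ⧸ P₀)
  let K₁ := FractionRing B
  obtain ⟨hgal, hfd⟩ := isGalois_fractionRing_quotient A E' p
  have hinv : Algebra.IsInvariant A E' G := isInvariant A E'
  have hfin : Finite G := finite_aut A E'
  let φ := IsFractionRing.stabilizerHom G P₀ p K₀ K₁
  have hφ : Function.Surjective φ := IsFractionRing.stabilizerHom_surjective G P₀ p K₀ K₁
  let H₀ : Subgroup (MulAction.stabilizer G p) := (L₁.fixingSubgroup).comap φ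
  let H : Subgroup G := H₀.map (MulAction.stabilizer G p).subtype
  have := Fintype.ofFinite H
  obtain ⟨y₀, hy₀⟩ := exists_sum_eq_one A E' H
  let toK : E' →+* K₁ := (algebraMap B K₁).comp (Ideal.Quotient.mk p)
  have htoK : ∀ e, toK e = algebraMap B K₁ (Ideal.Quotient.mk p e) := fun _ => rfl
  have hHact : ∀ h ∈ H, ∀ e : E', ∃ σ ∈ L₁.fixingSubgroup, σ (toK e) = toK (h e) := by
    rintro h ⟨h₀, hh₀, rfl⟩ e
    exact ⟨φ h₀, hh₀, IsFractionRing.stabilizerHom_apply_apply_mk G P₀ p K₀ K₁ h₀ e⟩
  have hHsurj : ∀ σ ∈ L₁.fixingSubgroup, ∃ h ∈ H, ∀ e : E', σ (toK e) = toK (h e) := by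
    intro σ hσ
    obtain ⟨h₀, rfl⟩ := hφ σ
    exact ⟨h₀.1, ⟨h₀, hσ, rfl⟩, fun e =>
      IsFractionRing.stabilizerHom_apply_apply_mk G P₀ p K₀ K₁ h₀ e⟩
  have hinjK : Function.Injective (algebraMap B K₁) := IsFractionRing.injective B K₁
  -- (a) elements of `D₁` are fixed modulo `p`
  have hfixD : ∀ e : E', Ideal.Quotient.mk p e ∈ D₁ → ∀ h ∈ H, h e - e ∈ p := by
    intro e he h hh
    obtain ⟨σ, hσ, hσe⟩ := hHact h hh e
    have h1 : σ (toK e) = toK e := hσ ⟨toK e, (hD₁ _).mp he⟩
    rw [hσe] at h1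
    have h2 := hinjK h1
    exact Ideal.Quotient.eq.mp h2
  -- the `H`-trace
  let T : E' →ₗ[A] E' := ∑ h : H, ((h : G) : E' ≃ₐ[A] E').toLinearMap
  have hT : ∀ x, T x = ∑ h : H, (h : G) x := fun x => by
    simp only [T, LinearMap.sum_apply]
    rfl
  have hTfix : ∀ h' : H, ∀ x, (h' : G) (T x) = T x := by
    intro h' x
    rw [hT, map_sum]
    exact Fintype.sum_equiv (Equiv.mulLeft h') _ _ (fun h => rfl)
  -- (b) traces land in `D₁`
  have hTD : ∀ z : E', Ideal.Quotient.mk p (T z) ∈ D₁ := by
    intro z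
    rw [hD₁, ← IsGalois.fixedField_fixingSubgroup L₁, IntermediateField.mem_fixedField_iff]
    intro σ hσ
    obtain ⟨h, hh, hσh⟩ := hHsurj σ hσ
    change σ (toK (T z)) = toK (T z)
    rw [hσh, hTfix ⟨h, hh⟩]
  -- finiteness
  have hfinB : Module.Finite A B := inferInstance
  have hnoeB : IsNoetherian A B := isNoetherian_of_isNoetherianRing_of_finite A B
  have hfinD : Module.Finite A D₁ := Module.IsNoetherian.finite A D₁.toSubmodule
  -- units of `D₁`
  have hpne : p ≠ ⊤ := Ideal.IsPrime.ne_top inferInstance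
  have hntB : Nontrivial B := Ideal.Quotient.nontrivial_iff.mpr hpne
  have hlocB : IsLocalRing B :=
    IsLocalRing.of_surjective' (Ideal.Quotient.mk p) Ideal.Quotient.mk_surjective
  have hunitD : ∀ x : D₁, IsUnit x ↔ IsUnit (x : B) := by
    intro x
    constructor
    · intro h
      exact h.map D₁.val
    · intro h
      obtain ⟨b, hb⟩ := h.exists_right_inv
      have hbD : b ∈ D₁ := by
        rw [hD₁]
        have hx : algebraMap B K₁ (x : B) ∈ L₁ := (hD₁ _).mp x.2
        have h1 : algebraMap B K₁ (x : B) * algebraMap B K₁ b = 1 := by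
          rw [← map_mul, hb, map_one]
        have h2 : algebraMap B K₁ b = (algebraMap B K₁ (x : B))⁻¹ :=
          eq_inv_of_mul_eq_one_right h1
        rw [h2]
        exact L₁.inv_mem hx
      exact IsUnit.of_mul_eq_one (⟨b, hbD⟩ : D₁) (Subtype.ext hb)
  have hlocD : IsLocalRing D₁ := by
    apply IsLocalRing.of_nonunits_add
    intro a b ha hb
    rw [mem_nonunits_iff, hunitD] at ha hb ⊢
    exact (IsLocalRing.nonunits_add ha hb : ¬ IsUnit ((a : B) + (b : B)))
  have hlocDB : IsLocalHom (algebraMap D₁ B) := ⟨fun x hx => (hunitD x).mpr hx⟩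
  have hlocAB : IsLocalHom (algebraMap A B) := by
    refine ⟨fun a ha => ?_⟩
    have h1 : IsUnit (Ideal.Quotient.mk p (algebraMap A E' a)) := ha
    rw [isUnit_mk_iff] at h1
    exact isUnit_of_map_unit (algebraMap A E') a h1
  have hlocAD : IsLocalHom (algebraMap A D₁) := by
    refine ⟨fun a ha => ?_⟩
    have h1 : IsUnit (algebraMap A B a) := ((hunitD _).mp ha)
    exact isUnit_of_map_unit (algebraMap A B) a h1
  refine ⟨hfinD, ?_⟩
  -- separability of the residue field
  have hunrB : Algebra.FormallyUnramified A B := .comp A E' _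
  have hsepB : Algebra.IsSeparable (ResidueField A) (ResidueField B) := inferInstance
  have hsepD : Algebra.IsSeparable (ResidueField A) (ResidueField D₁) :=
    Algebra.isSeparable_tower_bot_of_isSeparable (ResidueField A) (ResidueField D₁)
      (ResidueField B)
  -- the maximal ideal
  have hmE : (maximalIdeal A).map (algebraMap A E') = maximalIdeal E' :=
    Algebra.FormallyUnramified.map_maximalIdeal
  have hmax : (maximalIdeal A).map (algebraMap A D₁) = maximalIdeal D₁ := by
    apply le_antisymm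
    · exact ((local_hom_TFAE (algebraMap A D₁)).out 0 2).mp hlocAD
    · intro x hx
      obtain ⟨e, he⟩ := Ideal.Quotient.mk_surjective (x : B)
      have heD : Ideal.Quotient.mk p e ∈ D₁ := by rw [he]; exact x.2
      have hem : e ∈ maximalIdeal E' := by
        rw [mem_maximalIdeal, mem_nonunits_iff, ← isUnit_mk_iff (p := p), he, ← hunitD]
        exact (mem_maximalIdeal x).mp hx
      -- `mk e = mk (T (e * y₀))`
      have h1 : T (e * y₀) - e ∈ p := by
        rw [hT]
        have h2 : ∑ h : H, (h : G) (e * y₀) - e = ∑ h : H, ((h : G) e - e) * (h : G) y₀ := by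
          simp only [map_mul, sub_mul, Finset.sum_sub_distrib]
          rw [← Finset.mul_sum, hy₀, mul_one]
        rw [h2]
        exact p.sum_mem fun h _ => Ideal.mul_mem_right _ _ (hfixD e heD h h.2)
      have h3 : (x : B) = Ideal.Quotient.mk p (T (e * y₀)) := by
        rw [← he]
        exact (Ideal.Quotient.eq.mpr h1).symm
      -- the trace as a map to `D₁`
      let T' : E' →ₗ[A] D₁ :=
        LinearMap.codRestrict D₁.toSubmodule
          ((Ideal.Quotient.mkₐ A p).toLinearMap ∘ₗ T) (fun z => hTD z)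
      have h4 : x = T' (e * y₀) := Subtype.ext h3
      have h5 : e * y₀ ∈ (maximalIdeal A • ⊤ : Submodule A E') := by
        rw [Ideal.smul_top_eq_map, hmE]
        exact Ideal.mul_mem_right _ _ hem
      have h6 : T' (e * y₀) ∈ Submodule.map T' (maximalIdeal A • ⊤ : Submodule A E') :=
        Submodule.mem_map_of_mem h5
      rw [Submodule.map_smul''] at h6
      have h7 : T' (e * y₀) ∈ (maximalIdeal A • ⊤ : Submodule A D₁) :=
        Submodule.smul_mono le_rfl le_top h6
      rw [Ideal.smul_top_eq_map] at h7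
      rw [h4]
      exact h7
  exact Algebra.FormallyUnramified.of_map_maximalIdeal hmax

end Groth.Agent.Lib.FinEtaleQuotient61
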