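import Mathlib.AlgebraicGeometry.ZariskisMainTheorem

/-! # Extending integral surjective morphisms from a retrocompact open (helper34) -/

universe u
open CategoryTheory AlgebraicGeometry Limits

namespace Groth.Agent.Lib.IntExt

theorem toNormalization_of_factor {V S : Scheme.{u}} (U : S.Opens) (f : V ⟶ S) [QuasiCompact f]
    [QuasiSeparated f] (v : V ⟶ U.toScheme) (hv : v ≫ U.ι = f) [IsIntegralHom v] :
    IsOpenImmersion f.toNormalization ∧
      Set.range f.toNormalization = f.fromNormalization ⁻¹' (U : Set S) := by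
  have hp₁s : Surjective (pullback.fst f U.ι) := by
    refine ⟨fun w => ?_⟩
    have : w ∈ Set.range (pullback.fst f U.ι) := by
      rw [IsOpenImmersion.range_pullbackFst]
      show f w ∈ U.ι.opensRange
      rw [Scheme.Opens.opensRange_ι, ← hv, Scheme.Hom.comp_apply]
      exact (v w).2
    exact this
  have hp₁ : IsIso (pullback.fst f U.ι) :=
    (isIso_iff_isOpenImmersion_and_surjective _).mpr ⟨inferInstance, hp₁s⟩
  have hp₂ : pullback.snd f U.ι = pullback.fst f U.ι ≫ v := by
    rw [← cancel_mono U.ι, Category.assoc, hv, pullback.condition]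
  have hint : IsIntegralHom (pullback.snd f U.ι) := by rw [hp₂]; infer_instance
  have h1 : IsIso (pullback.snd f U.ι).toNormalization := inferInstance
  have h2 : IsIso (f.normalizationPullback U.ι) := inferInstance
  have key := Scheme.Hom.toNormalization_normalizationPullback_fst f U.ι
  obtain ⟨φ, hφdef⟩ : ∃ φ : V ⟶ pullback f.fromNormalization U.ι, φ = inv (pullback.fst f U.ι) ≫
    (pullback.snd f U.ι).toNormalization ≫ f.normalizationPullback U.ι := ⟨_, rfl⟩
  have hφ : IsIso φ := by rw [hφdef]; infer_instance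
  have e : f.toNormalization = φ ≫ pullback.fst f.fromNormalization U.ι := by
    rw [hφdef, Category.assoc, Category.assoc, key, IsIso.inv_hom_id_assoc]
  constructor
  · rw [e]; infer_instance
  · have hr : Set.range (φ ≫ pullback.fst f.fromNormalization U.ι) =
        Set.range (pullback.fst f.fromNormalization U.ι) := by
      ext z
      constructor
      · rintro ⟨x, rfl⟩
        exact ⟨φ x, (Scheme.Hom.comp_apply φ _ x).symm⟩
      · rintro ⟨y, rfl⟩
        obtain ⟨x, rfl⟩ := (ConcreteCategory.bijective_of_isIso φ.base).2 y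
        exact ⟨x, Scheme.Hom.comp_apply φ _ x⟩
    rw [e, hr, IsOpenImmersion.range_pullbackFst, Scheme.Opens.opensRange_ι]
    rfl



/-- an integral surjective morphism over a retrocompact open extends to an integral surjective
morphism over the whole scheme. -/
theorem exists_integral_extension {S V : Scheme.{u}} (U : S.Opens) [QuasiCompact U.ι]
    (v : V ⟶ U.toScheme) [IsIntegralHom v] [Surjective v] :
    ∃ (V' : Scheme.{u}) (π : V' ⟶ S) (i : V ⟶ V'), Surjective π ∧ IsIntegralHom π ∧
      IsPullback i v π U.ι := by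
  obtain ⟨f, hf⟩ : ∃ f : V ⟶ S, v ≫ U.ι = f := ⟨_, rfl⟩
  have hqc : QuasiCompact f := hf ▸ inferInstance
  have hqs : QuasiSeparated f := hf ▸ inferInstance
  obtain ⟨ht, hrange⟩ := toNormalization_of_factor U f v hf
  let Zc : TopologicalSpace.Closeds S := ⟨(U : Set S)ᶜ, U.isOpen.isClosed_compl⟩
  let I := Scheme.IdealSheafData.vanishingIdeal Zc
  have hz : Set.range I.subschemeι = (U : Set S)ᶜ := by
    rw [I.range_subschemeι, Scheme.IdealSheafData.coe_support_vanishingIdeal]
    rfl
  let π : f.normalization ⨿ I.subscheme ⟶ S := coprod.desc f.fromNormalization I.subschemeι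
  let i : V ⟶ f.normalization ⨿ I.subscheme := f.toNormalization ≫ coprod.inl
  have hπl : ∀ a, π ((coprod.inl : f.normalization ⟶ f.normalization ⨿ I.subscheme) a) =
      f.fromNormalization a := fun a => by
    rw [← Scheme.Hom.comp_apply, coprod.inl_desc]
  have hπr : ∀ b, π ((coprod.inr : I.subscheme ⟶ f.normalization ⨿ I.subscheme) b) =
      I.subschemeι b := fun b => by
    rw [← Scheme.Hom.comp_apply, coprod.inr_desc]
  have hcases : ∀ p : ↥(f.normalization ⨿ I.subscheme),
      p ∈ Set.range (coprod.inl : f.normalization ⟶ f.normalization ⨿ I.subscheme) ∨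
      p ∈ Set.range (coprod.inr : I.subscheme ⟶ f.normalization ⨿ I.subscheme) := by
    intro p
    have := (isCompl_range_inl_inr f.normalization I.subscheme).2
    rw [codisjoint_iff] at this
    have h' : p ∈ Set.range (coprod.inl : f.normalization ⟶ f.normalization ⨿ I.subscheme) ⊔
        Set.range (coprod.inr : I.subscheme ⟶ f.normalization ⨿ I.subscheme) := this ▸ trivial
    exact h'
  refine ⟨_, π, i, ⟨fun s => ?_⟩, inferInstance, ?_⟩
  · by_cases hs : s ∈ U
    · obtain ⟨w, hw⟩ := v.surjective ⟨s, hs⟩
      refine ⟨i w, ?_⟩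
      show π ((coprod.inl : f.normalization ⟶ f.normalization ⨿ I.subscheme) (f.toNormalization w)) = s
      rw [hπl, ← Scheme.Hom.comp_apply, f.toNormalization_fromNormalization, ← hf,
        Scheme.Hom.comp_apply, hw]
      rfl
    · obtain ⟨b, hb⟩ : s ∈ Set.range I.subschemeι := hz ▸ hs
      exact ⟨(coprod.inr : I.subscheme ⟶ f.normalization ⨿ I.subscheme) b, by rw [hπr, hb]⟩
  · have hcomm : i ≫ π = v ≫ U.ι := by
      dsimp only [i, π]
      rw [Category.assoc, coprod.inl_desc, f.toNormalization_fromNormalization, hf]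
    refine (IsOpenImmersion.isPullback v i U.ι π hcomm ?_).flip
    ext p
    simp only [Scheme.Opens.opensRange_ι]
    constructor
    · intro hp
      have hp' : π p ∈ U := hp
      rcases hcases p with ⟨a, rfl⟩ | ⟨b, rfl⟩
      · rw [hπl] at hp'
        obtain ⟨w, hw⟩ : a ∈ Set.range f.toNormalization := hrange ▸ hp'
        exact ⟨w, by rw [← hw]; rfl⟩
      · rw [hπr] at hp'
        have : I.subschemeι b ∈ (U : Set S)ᶜ := hz ▸ ⟨b, rfl⟩
        exact absurd hp' this
    · rintro ⟨w, rfl⟩
      show π (i w) ∈ U
      rw [← Scheme.Hom.comp_apply, hcomm, Scheme.Hom.comp_apply]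
      exact (v w).2

end Groth.Agent.Lib.IntExt
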