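import Groth.Agent.Lib.ZMTFin
import Groth.Agent.Lib.IntExt

/-! # Extending finite (surjective) morphisms from a quasi-compact open (helper34) -/

universe u
open CategoryTheory AlgebraicGeometry Limits

namespace Groth.Agent.Lib.FinExt
open Groth.Agent.Lib.LocImm _root_.LocImm Groth.Agent.Lib.ZMTFin

lemma isFinite_comp_ι_restrict {S V : Scheme.{u}} (U : S.Opens) (v : V ⟶ U.toScheme) [IsFinite v] :
    IsFinite ((v ≫ U.ι) ∣_ U) := by
  rw [morphismRestrict_comp]
  have h1 : IsFinite (v ∣_ (U.ι ⁻¹ᵁ U)) := IsZariskiLocalAtTarget.restrict ‹IsFinite v› _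
  have h2 : IsIso (U.ι ∣_ U) := by
    refine (isIso_iff_isOpenImmersion_and_surjective _).mpr ⟨inferInstance, ⟨fun u => ?_⟩⟩
    refine ⟨⟨u, u.2⟩, ?_⟩
    apply Subtype.ext
    rw [morphismRestrict_base_coe]
    rfl
  have h3 : IsFinite (U.ι ∣_ U) := inferInstance
  exact MorphismProperty.comp_mem _ _ _ h1 h3

theorem exists_finite_extension {S V : Scheme.{u}} [CompactSpace S] [QuasiSeparatedSpace S]
    (U : S.Opens) (hU : IsCompact (U : Set S)) (v : V ⟶ U.toScheme) [IsFinite v] :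
    ∃ (T : Scheme.{u}) (j : V ⟶ T) (π : T ⟶ S), IsOpenImmersion j ∧ IsFinite π ∧
      j ≫ π = v ≫ U.ι ∧ Set.range j = π ⁻¹' (U : Set S) := by
  have hcU : CompactSpace U.toScheme := isCompact_iff_compactSpace.mp hU
  obtain ⟨f, hf⟩ : ∃ f : V ⟶ S, v ≫ U.ι = f := ⟨_, rfl⟩
  have hUqc : QuasiCompact U.ι := inferInstance
  have h1 : LocallyQuasiFinite f := hf ▸ inferInstance
  have h2 : LocallyOfFiniteType f := hf ▸ inferInstance
  have h3 : QuasiCompact f := hf ▸ inferInstance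
  have h4 : IsSeparated f := hf ▸ inferInstance
  obtain ⟨T, j, π₀, hj, hjqc, hπ₀, hjπ₀⟩ := zmt_finite f
  have hcomp : j.toImage ≫ j.imageι = j := j.toImage_imageι
  have hoi : IsOpenImmersion (j.toImage ≫ j.imageι) := by rw [hcomp]; exact hj
  have hqc' : QuasiCompact (j.toImage ≫ j.imageι) := by rw [hcomp]; exact hjqc
  obtain ⟨hopen, hrange⟩ := isOpenImmersion_of_comp_of_ker_eq_bot j.toImage j.imageι
    (ker_toImage_eq_bot j) j.toImage.denseRange
  obtain ⟨π, hπdef⟩ : ∃ π : j.image ⟶ S, π = j.imageι ≫ π₀ := ⟨_, rfl⟩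
  have hπ : IsFinite π := hπdef ▸ inferInstance
  have hjπ : j.toImage ≫ π = v ≫ U.ι := by
    rw [hπdef, ← Category.assoc, hcomp, hjπ₀, hf]
  refine ⟨j.image, j.toImage, π, hopen, hπ, hjπ, ?_⟩
  apply subset_antisymm
  · rintro _ ⟨x, rfl⟩
    show π (j.toImage x) ∈ U
    rw [← Scheme.Hom.comp_apply, hjπ, Scheme.Hom.comp_apply]
    exact (v x).2
  · intro t ht
    have hfin : IsFinite ((j.toImage ≫ π) ∣_ U) := by
      rw [hjπ]; exact isFinite_comp_ι_restrict U v
    rw [morphismRestrict_comp] at hfin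
    have hfin' : IsFinite (j.toImage ∣_ π ⁻¹ᵁ U ≫ π ∣_ U) := hfin
    have hp : IsProper (j.toImage ∣_ π ⁻¹ᵁ U) := IsProper.of_comp _ (π ∣_ U)
    have hdom : IsDominant j.toImage := inferInstance
    have hd : IsDominant (j.toImage ∣_ π ⁻¹ᵁ U) := IsZariskiLocalAtTarget.restrict hdom _
    have hs : Surjective (j.toImage ∣_ π ⁻¹ᵁ U) :=
      surjective_of_isDominant_of_isClosed_range _
        ((j.toImage ∣_ π ⁻¹ᵁ U).isClosedMap.isClosed_range)
    obtain ⟨x, hx⟩ := (j.toImage ∣_ π ⁻¹ᵁ U).surjective ⟨t, ht⟩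
    refine ⟨x.1, ?_⟩
    have := morphismRestrict_base_coe j.toImage (π ⁻¹ᵁ U) x
    rw [hx] at this
    exact this.symm

/-- a finite surjective morphism over a quasi-compact open of a qcqs scheme extends to a finite
surjective morphism over the whole scheme. -/
theorem exists_finite_surjective_extension {S V : Scheme.{u}} [CompactSpace S]
    [QuasiSeparatedSpace S] (U : S.Opens) (hU : IsCompact (U : Set S)) (v : V ⟶ U.toScheme)
    [IsFinite v] [Surjective v] :
    ∃ (V' : Scheme.{u}) (π : V' ⟶ S) (i : V ⟶ V'), Surjective π ∧ IsFinite π ∧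
      IsPullback i v π U.ι := by
  obtain ⟨T, j, π₁, hj, hπ₁, hjπ₁, hrange⟩ := exists_finite_extension U hU v
  let Zc : TopologicalSpace.Closeds S := ⟨(U : Set S)ᶜ, U.isOpen.isClosed_compl⟩
  let I := Scheme.IdealSheafData.vanishingIdeal Zc
  have hz : Set.range I.subschemeι = (U : Set S)ᶜ := by
    rw [I.range_subschemeι, Scheme.IdealSheafData.coe_support_vanishingIdeal]
    rfl
  let π : T ⨿ I.subscheme ⟶ S := coprod.desc π₁ I.subschemeι
  let i : V ⟶ T ⨿ I.subscheme := j ≫ coprod.inl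
  have hπl : ∀ a, π ((coprod.inl : T ⟶ T ⨿ I.subscheme) a) = π₁ a := fun a => by
    rw [← Scheme.Hom.comp_apply, coprod.inl_desc]
  have hπr : ∀ b, π ((coprod.inr : I.subscheme ⟶ T ⨿ I.subscheme) b) =
      I.subschemeι b := fun b => by
    rw [← Scheme.Hom.comp_apply, coprod.inr_desc]
  have hcases : ∀ p : ↥(T ⨿ I.subscheme),
      p ∈ Set.range (coprod.inl : T ⟶ T ⨿ I.subscheme) ∨
      p ∈ Set.range (coprod.inr : I.subscheme ⟶ T ⨿ I.subscheme) := by
    intro p
    have := (isCompl_range_inl_inr T I.subscheme).2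
    rw [codisjoint_iff] at this
    have h' : p ∈ Set.range (coprod.inl : T ⟶ T ⨿ I.subscheme) ⊔
        Set.range (coprod.inr : I.subscheme ⟶ T ⨿ I.subscheme) := this ▸ trivial
    exact h'
  have hcomm : i ≫ π = v ≫ U.ι := by
    dsimp only [i, π]
    rw [Category.assoc, coprod.inl_desc, hjπ₁]
  refine ⟨_, π, i, ⟨fun s => ?_⟩, inferInstance, ?_⟩
  · by_cases hs : s ∈ U
    · obtain ⟨w, hw⟩ := v.surjective ⟨s, hs⟩
      refine ⟨i w, ?_⟩
      rw [← Scheme.Hom.comp_apply, hcomm, Scheme.Hom.comp_apply, hw]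
      rfl
    · obtain ⟨b, hb⟩ : s ∈ Set.range I.subschemeι := hz ▸ hs
      exact ⟨(coprod.inr : I.subscheme ⟶ T ⨿ I.subscheme) b, by rw [hπr, hb]⟩
  · refine (IsOpenImmersion.isPullback v i U.ι π hcomm ?_).flip
    ext p
    simp only [Scheme.Opens.opensRange_ι]
    constructor
    · intro hp
      have hp' : π p ∈ U := hp
      rcases hcases p with ⟨a, rfl⟩ | ⟨b, rfl⟩
      · rw [hπl] at hp'
        obtain ⟨w, hw⟩ : a ∈ Set.range j := hrange ▸ hp'
        exact ⟨w, by rw [← hw]; rfl⟩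
      · rw [hπr] at hp'
        have : I.subschemeι b ∈ (U : Set S)ᶜ := hz ▸ ⟨b, rfl⟩
        exact absurd hp' this
    · rintro ⟨w, rfl⟩
      show π (i w) ∈ U
      rw [← Scheme.Hom.comp_apply, hcomm, Scheme.Hom.comp_apply]
      exact (v w).2

end Groth.Agent.Lib.FinExt
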