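import Groth.Agent.Lib.QuasiIsoElem

/-!
# Free resolutions of modules, finite over Noetherian rings

`freeRes M : ProjectiveResolution M` for `M : ModuleCat R` with all terms free, and all terms
finite when `R` is Noetherian and `M` is finite (`finite_freeRes_X`).
-/

set_option autoImplicit false

open CategoryTheory Limits

namespace Groth.Agent.Lib.FinFreeRes

open Groth.Agent.Lib.QuasiIsoElem

universe u

variable {R : Type u} [CommRing R]

/-- A free module surjecting onto `M`, finite when `M` is. -/
structure Cover (M : ModuleCat.{u} R) where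
  /-- the free module -/
  F : ModuleCat.{u} R
  /-- the surjection -/
  π : F ⟶ M
  surj : Function.Surjective π.hom
  free : Module.Free R F
  finite : Module.Finite R M → Module.Finite R F

open Classical in
/-- A chosen free cover. -/
noncomputable def cover (M : ModuleCat.{u} R) : Cover M :=
  if h : Module.Finite R M then
    { F := ModuleCat.of R (Fin h.exists_fin.choose → R)
      π := ModuleCat.ofHom (Fintype.linearCombination R h.exists_fin.choose_spec.choose)
      surj := by
        have hs := h.exists_fin.choose_spec.choose_spec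
        intro x
        have hx : x ∈ Submodule.span R (Set.range h.exists_fin.choose_spec.choose) := by
          rw [hs]; exact Submodule.mem_top
        rw [Submodule.mem_span_range_iff_exists_fun] at hx
        obtain ⟨c, hc⟩ := hx
        exact ⟨c, by rw [← hc]; exact Fintype.linearCombination_apply R _ c⟩
      free := inferInstanceAs (Module.Free R (Fin h.exists_fin.choose → R))
      finite := fun _ => inferInstanceAs (Module.Finite R (Fin h.exists_fin.choose → R)) }
  else
    { F := ModuleCat.of R (M →₀ R)
      π := ModuleCat.ofHom (Finsupp.linearCombination R (fun x : M => x))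
      surj := fun x => ⟨Finsupp.single x 1, by
        change Finsupp.linearCombination R (fun x : M => x) (Finsupp.single x 1) = x
        rw [Finsupp.linearCombination_single, one_smul]⟩
      free := inferInstanceAs (Module.Free R (M →₀ R))
      finite := fun h' => absurd h' h }

variable (M : ModuleCat.{u} R)

/-- The syzygy modules. -/
noncomputable def syz : ℕ → ModuleCat.{u} R
  | 0 => M
  | n + 1 => ModuleCat.of R (LinearMap.ker (cover (syz n)).π.hom)

/-- The terms of the resolution. -/
noncomputable def X (n : ℕ) : ModuleCat.{u} R := (cover (syz M n)).F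

/-- The surjections onto the syzygies. -/
noncomputable def ε (n : ℕ) : X M n ⟶ syz M n := (cover (syz M n)).π

/-- The inclusions of the syzygies. -/
noncomputable def ι (n : ℕ) : syz M (n + 1) ⟶ X M n :=
  ModuleCat.ofHom (LinearMap.ker (cover (syz M n)).π.hom).subtype

/-- The differentials. -/
noncomputable def d (n : ℕ) : X M (n + 1) ⟶ X M n := ε M (n + 1) ≫ ι M n

lemma ε_surjective (n : ℕ) : Function.Surjective (ε M n).hom := (cover (syz M n)).surj

lemma ι_injective (n : ℕ) : Function.Injective (ι M n).hom := Subtype.val_injective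

lemma ι_ε (n : ℕ) : ι M n ≫ ε M n = 0 := by
  refine ModuleCat.hom_ext (LinearMap.ext fun z => ?_)
  exact (z : LinearMap.ker (cover (syz M n)).π.hom).2

lemma exists_ι_eq (n : ℕ) (x : X M n) (hx : (ε M n).hom x = 0) :
    ∃ z : syz M (n + 1), (ι M n).hom z = x :=
  ⟨(⟨x, hx⟩ : LinearMap.ker (cover (syz M n)).π.hom), rfl⟩

lemma d_comp_d (n : ℕ) : d M (n + 1) ≫ d M n = 0 := by
  simp only [d, Category.assoc]
  rw [← Category.assoc (ι M (n + 1)), ι_ε, zero_comp, comp_zero]

lemma d_comp_ε : d M 0 ≫ ε M 0 = 0 := by
  simp only [d, Category.assoc]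
  rw [ι_ε, comp_zero]

lemma exact_d (n : ℕ) (x : X M (n + 1)) (hx : (d M n).hom x = 0) :
    ∃ y : X M (n + 2), (d M (n + 1)).hom y = x := by
  have h1 : (ε M (n + 1)).hom x = 0 := ι_injective M n (by rw [map_zero]; exact hx)
  obtain ⟨z, hz⟩ := exists_ι_eq M (n + 1) x h1
  obtain ⟨y, hy⟩ := ε_surjective M (n + 2) z
  exact ⟨y, by rw [← hz, ← hy]; rfl⟩

lemma exact_ε (x : X M 0) (hx : (ε M 0).hom x = 0) : ∃ y : X M 1, (d M 0).hom y = x := by
  obtain ⟨z, hz⟩ := exists_ι_eq M 0 x hx
  obtain ⟨y, hy⟩ := ε_surjective M 1 z
  exact ⟨y, by rw [← hz, ← hy]; rfl⟩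

/-- The complex of the free resolution. -/
noncomputable def cx : ChainComplex (ModuleCat.{u} R) ℕ :=
  ChainComplex.of (X M) (d M) (d_comp_d M)

/-- The augmentation. -/
noncomputable def aug : cx M ⟶ (ChainComplex.single₀ (ModuleCat.{u} R)).obj M :=
  (ChainComplex.toSingle₀Equiv _ _).symm ⟨ε M 0, by
    have : (cx M).d 1 0 = d M 0 := ChainComplex.of_d (X M) (d M) 0
    rw [this]
    exact d_comp_ε M⟩

lemma aug_f_zero : (aug M).f 0 = ε M 0 := by
  simp [aug, ChainComplex.toSingle₀Equiv]

lemma cx_d (n : ℕ) : (cx M).d (n + 1) n = d M n := ChainComplex.of_d (X M) (d M) n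

instance quasiIso_aug : QuasiIso (aug M) := by
  refine ⟨fun n => ?_⟩
  cases n with
  | zero =>
    refine quasiIsoAt_of_elementwise _ 1 0 0 (by simp) (by simp) ?_ ?_
    · intro x₂ _
      obtain ⟨x₁, hx₁⟩ := ε_surjective M 0 x₂
      refine ⟨x₁, ?_, 0, ?_⟩
      · rw [HomologicalComplex.shape _ 0 0 (by simp)]
        rfl
      · rw [map_zero, add_zero, aug_f_zero]
        exact hx₁
    · rintro x₁ _ ⟨y₂, hy₂⟩
      have hs : Subsingleton (((ChainComplex.single₀ (ModuleCat.{u} R)).obj M).X 1) :=
        ModuleCat.subsingleton_of_isZero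
          (HomologicalComplex.isZero_single_obj_X (ComplexShape.down ℕ) 0 M 1 (by simp))
      obtain rfl : y₂ = 0 := Subsingleton.elim _ _
      rw [map_zero, aug_f_zero] at hy₂
      obtain ⟨y, hy⟩ := exact_ε M x₁ hy₂.symm
      exact ⟨y, by rw [cx_d]; exact hy⟩
  | succ n =>
    refine quasiIsoAt_of_elementwise _ (n + 2) (n + 1) n (by simp) (by simp) ?_ ?_
    · intro x₂ _
      have hs : Subsingleton (((ChainComplex.single₀ (ModuleCat.{u} R)).obj M).X (n + 1)) :=
        ModuleCat.subsingleton_of_isZero
          (HomologicalComplex.isZero_single_obj_X (ComplexShape.down ℕ) 0 M (n + 1) (by simp))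
      exact ⟨0, map_zero _, 0, Subsingleton.elim _ _⟩
    · rintro x₁ hx₁ _
      rw [cx_d] at hx₁
      obtain ⟨y, hy⟩ := exact_d M n x₁ hx₁
      exact ⟨y, by rw [cx_d]; exact hy⟩

lemma free_X (n : ℕ) : Module.Free R (X M n) := (cover (syz M n)).free

/-- The free resolution of `M`. -/
noncomputable def freeRes : ProjectiveResolution M where
  complex := cx M
  projective n := by
    have hf := free_X M n
    have hp : Module.Projective R (X M n) := Module.Projective.of_free
    exact (X M n).projective_of_categoryTheory_projective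
  π := aug M
  quasiIso := quasiIso_aug M

lemma freeRes_X (n : ℕ) : (freeRes M).complex.X n = X M n := rfl

section Noetherian

variable [IsNoetherianRing R] [hM : Module.Finite R M]

lemma finite_syz : ∀ n : ℕ, Module.Finite R (syz M n)
  | 0 => hM
  | n + 1 => by
    have h1 := finite_syz n
    have h2 : Module.Finite R (cover (syz M n)).F := (cover (syz M n)).finite h1
    have : IsNoetherian R (cover (syz M n)).F := isNoetherian_of_isNoetherianRing_of_finite R _
    exact inferInstanceAs (Module.Finite R (LinearMap.ker (cover (syz M n)).π.hom))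

lemma finite_X (n : ℕ) : Module.Finite R (X M n) := (cover (syz M n)).finite (finite_syz M n)

end Noetherian

end Groth.Agent.Lib.FinFreeRes
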