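import Groth.Agent.Lib.KerFP88
import Groth.Agent.Lib.FinFreeRes
import Groth.Agent.Lib.FlatKer

/-!
# Finite free resolutions over a flat finitely presented algebra (helper88)

`A → B` flat of finite presentation, `M` a finitely presented `B`-module flat over `A`: then `M` has
a resolution by finite free `B`-modules (EGA IV 11.3.9-type; no Noetherian hypothesis).
-/

set_option autoImplicit false
set_option maxHeartbeats 400000
set_option linter.style.haveILetI false

open CategoryTheory

namespace Groth.Agent.Lib.FinFreeResFP88

open Groth.Agent.Lib.FinFreeRes Groth.Agent.Lib.KerFP88 Function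

universe u

variable (A : Type u) {B : Type u} [CommRing A] [CommRing B] [Algebra A B]

/-- Finitely presented over `B` and flat over `A` (for any compatible `A`-module structure). -/
def Good (N : ModuleCat.{u} B) : Prop :=
  Module.FinitePresentation B N ∧
    ∀ (_ : Module A N) (_ : IsScalarTower A B N), Module.Flat A N

omit [Algebra A B] in
theorem module_eq_of_tower [Algebra A B] {N : Type u} [AddCommGroup N] [Module B N]
    (i1 i2 : Module A N)
    (t1 : @IsScalarTower A B N _ _ i1.toSMul) (t2 : @IsScalarTower A B N _ _ i2.toSMul) :
    i1 = i2 := by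
  apply Module.ext'
  intro a x
  have h1 : i1.smul a x = algebraMap A B a • x := by
    letI := i1
    haveI := t1
    exact (algebraMap_smul B a x).symm
  have h2 : i2.smul a x = algebraMap A B a • x := by
    letI := i2
    haveI := t2
    exact (algebraMap_smul B a x).symm
  exact h1.trans h2.symm

theorem flat_of_tower {N : Type u} [AddCommGroup N] [Module B N] (i1 i2 : Module A N)
    (t1 : @IsScalarTower A B N _ _ i1.toSMul) (t2 : @IsScalarTower A B N _ _ i2.toSMul)
    (h : @Module.Flat A N _ _ i1) : @Module.Flat A N _ _ i2 := by
  have := module_eq_of_tower A i1 i2 t1 t2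
  subst this
  exact h

variable [Algebra.FinitePresentation A B] [Module.Flat A B]

theorem good_ker_cover (N : ModuleCat.{u} B) (hN : Good A N) :
    Good A (ModuleCat.of B (LinearMap.ker (cover N).π.hom)) := by
  classical
  obtain ⟨hfp, hflat⟩ := hN
  have hfin : Module.Finite B N := inferInstance
  letI : Module A N := Module.compHom N (algebraMap A B)
  haveI : IsScalarTower A B N := IsScalarTower.of_algebraMap_smul fun _ _ => rfl
  haveI : Module.Flat A N := hflat inferInstance inferInstance
  unfold cover
  rw [dif_pos hfin]
  simp only [ModuleCat.hom_ofHom]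
  set π : (Fin hfin.exists_fin.choose → B) →ₗ[B] N :=
    Fintype.linearCombination B hfin.exists_fin.choose_spec.choose with hπdef
  have hπ : Surjective π := by
    have hs := hfin.exists_fin.choose_spec.choose_spec
    intro x
    have hx : x ∈ Submodule.span B (Set.range hfin.exists_fin.choose_spec.choose) := by
      rw [hs]; exact Submodule.mem_top
    rw [Submodule.mem_span_range_iff_exists_fun] at hx
    obtain ⟨c, hc⟩ := hx
    exact ⟨c, by rw [← hc]; exact Fintype.linearCombination_apply B _ c⟩
  refine ⟨finitePresentation_ker_of_free (A := A) π hπ, ?_⟩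
  intro inst1 inst2
  haveI : Module.Flat A (Fin hfin.exists_fin.choose → B) :=
    Module.Flat.of_linearEquiv
      (DFinsupp.linearEquivFunOnFintype (R := A) (M := fun _ : Fin hfin.exists_fin.choose => B)).symm
  have hfl : Module.Flat A (LinearMap.ker (π.restrictScalars A)) :=
    Groth.Agent.Lib.FlatKer.flat_ker_of_surjective (π.restrictScalars A) hπ
  let eK : LinearMap.ker (π.restrictScalars A) ≃ₗ[A] LinearMap.ker π :=
    { toFun := fun x => ⟨x.1, x.2⟩
      invFun := fun x => ⟨x.1, x.2⟩
      left_inv := fun _ => rfl
      right_inv := fun _ => rfl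
      map_add' := fun _ _ => rfl
      map_smul' := fun a x => by
        apply Subtype.ext
        rw [RingHom.id_apply, ← algebraMap_smul B a (⟨x.1, x.2⟩ : LinearMap.ker π)]
        change a • x.1 = algebraMap A B a • x.1
        rw [algebraMap_smul] }
  exact Module.Flat.of_linearEquiv eK.symm

theorem good_syz (M : ModuleCat.{u} B) (hM : Good A M) : ∀ n, Good A (syz M n)
  | 0 => hM
  | n + 1 => good_ker_cover A (syz M n) (good_syz M hM n)

/-- Finite free resolution. -/
theorem exists_finite_free_resolution (M : Type u) [AddCommGroup M] [Module B M] [iAM : Module A M]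
    [iT : IsScalarTower A B M] [Module.FinitePresentation B M] [iF : Module.Flat A M] :
    ∃ P : ProjectiveResolution (ModuleCat.of B M),
      ∀ n : ℕ, Module.Finite B (P.complex.X n) ∧ Module.Free B (P.complex.X n) := by
  have hM : Good A (ModuleCat.of B M) := by
    refine ⟨inferInstanceAs (Module.FinitePresentation B M), ?_⟩
    intro inst1 inst2
    exact flat_of_tower A (N := M) iAM inst1 iT inst2 iF
  refine ⟨freeRes (ModuleCat.of B M), fun n => ⟨?_, free_X _ n⟩⟩
  have hg := good_syz A (ModuleCat.of B M) hM n
  haveI := hg.1
  exact (cover (syz (ModuleCat.of B M) n)).finite inferInstance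

end Groth.Agent.Lib.FinFreeResFP88
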