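import Mathlib

/-!
# Finite free subcomplexes of bounded-above complexes of free modules (helper84)

* `subcomplex F W hW`, `subcomplexι`: subcomplex of a cochain complex of modules from a family of
  submodules stable under the differential.
* `exists_finite_free_subcomplex`: finitely many elements of a bounded above complex of free modules
  lie in a bounded finite free subcomplex.
-/

set_option autoImplicit false
universe u
open CategoryTheory CategoryTheory.Limits

namespace Groth.Agent.Lib.FinFreeSubcx

section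
variable {R : Type u} [CommRing R] (F : CochainComplex (ModuleCat.{u} R) ℤ)

/-- A family of submodules of the terms of `F` stable under the differential gives a subcomplex. -/
noncomputable def subcomplex (W : ∀ n : ℤ, Submodule R (F.X n))
    (hW : ∀ i j : ℤ, ∀ x ∈ W i, (F.d i j).hom x ∈ W j) : CochainComplex (ModuleCat.{u} R) ℤ where
  X n := ModuleCat.of R (W n)
  d i j := ModuleCat.ofHom ((F.d i j).hom.restrict (hW i j))
  shape i j hij := by
    ext x
    simp [F.shape i j hij]
  d_comp_d' i j k _ _ := by
    ext x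
    have h1 : (F.d j k).hom ((F.d i j).hom x.1) = 0 :=
      LinearMap.congr_fun (congrArg ModuleCat.Hom.hom (F.d_comp_d i j k)) x.1
    simp
    exact h1

/-- The inclusion of the subcomplex. -/
noncomputable def subcomplexι (W : ∀ n : ℤ, Submodule R (F.X n))
    (hW : ∀ i j : ℤ, ∀ x ∈ W i, (F.d i j).hom x ∈ W j) : subcomplex F W hW ⟶ F where
  f n := ModuleCat.ofHom (W n).subtype
  comm' i j _ := by
    ext x
    rfl

end

theorem exists_finite_free_subcomplex (R : Type u) [CommRing R]
    (F : CochainComplex (ModuleCat.{u} R) ℤ) (hfree : ∀ n : ℤ, Module.Free R (F.X n))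
    (b : ℤ) (hb : ∀ n : ℤ, b < n → IsZero (F.X n))
    (N : ℕ) (deg : Fin N → ℤ) (f : ∀ i : Fin N, F.X (deg i)) :
    ∃ (G : CochainComplex (ModuleCat.{u} R) ℤ) (ι : G ⟶ F),
      (∀ n : ℤ, Function.Injective (ι.f n)) ∧
      (∃ a c : ℤ, ∀ n : ℤ, (n < a ∨ c < n) → IsZero (G.X n)) ∧
      (∀ n : ℤ, Module.Finite R (G.X n) ∧ Module.Free R (G.X n)) ∧
      ∀ i : Fin N, f i ∈ Set.range (ι.f (deg i)) := by
  classical
  let ι : ℤ → Type u := fun n => Module.Free.ChooseBasisIndex R (F.X n)
  let bas : ∀ n, Module.Basis (ι n) R (F.X n) := fun n => Module.Free.chooseBasis R (F.X n)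
  let A : ∀ n, Finset (F.X n) := fun n =>
    Finset.univ.biUnion (fun i : Fin N => if h : deg i = n then {h ▸ f i} else ∅)
  have hA : ∀ i, f i ∈ A (deg i) := by
    intro i
    simp only [A, Finset.mem_biUnion, Finset.mem_univ, true_and]
    exact ⟨i, by simp⟩
  let supp : ∀ n, Finset (F.X n) → Finset (ι n) := fun n X =>
    X.biUnion fun x => ((bas n).repr x).support
  have hsupp : ∀ n (X : Finset (F.X n)) x, x ∈ X →
      x ∈ Submodule.span R (Set.range (fun i : supp n X => bas n i)) := by
    intro n X x hx
    have h1 := (bas n).mem_span_repr_support x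
    refine Submodule.span_mono ?_ h1
    rintro _ ⟨j, hj, rfl⟩
    refine ⟨⟨j, ?_⟩, rfl⟩
    simp only [supp, Finset.mem_biUnion]
    exact ⟨x, hx, hj⟩
  obtain ⟨a, ha⟩ : ∃ a : ℤ, ∀ i, a < deg i := by
    obtain ⟨M, hM⟩ := Finset.exists_le (α := ℤᵒᵈ) (Finset.univ.image (fun i => OrderDual.toDual (deg i)))
    refine ⟨OrderDual.ofDual M - 1, fun i => ?_⟩
    have := hM (OrderDual.toDual (deg i)) (Finset.mem_image_of_mem _ (Finset.mem_univ i))
    have h2 : OrderDual.ofDual M ≤ deg i := this
    omega
  let T : ∀ n, Finset (ι n) := fun n => Int.inductionOn' (motive := fun n => Finset (ι n)) n a ∅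
     (fun k _ Tk => supp (k+1) (A (k+1) ∪ (Tk.image (bas k)).image (F.d k (k+1)).hom))
     (fun k _ _ => ∅)
  have hTsucc : ∀ k, a ≤ k → T (k+1) =
      supp (k+1) (A (k+1) ∪ ((T k).image (bas k)).image (F.d k (k+1)).hom) :=
    fun k hk => Int.inductionOn'_add_one hk
  have hTlow : ∀ n, n < a → T n = ∅ := by
    intro n hn
    obtain ⟨m, rfl⟩ : ∃ m, n = m - 1 := ⟨n + 1, by ring⟩
    exact Int.inductionOn'_sub_one (by omega)
  let W : ∀ n, Submodule R (F.X n) := fun n =>
    Submodule.span R (Set.range (fun i : T n => bas n i))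
  have hWlow : ∀ n, n < a → W n = ⊥ := by
    intro n hn
    simp only [W]
    rw [Submodule.span_eq_bot]
    rintro _ ⟨⟨i, hi⟩, rfl⟩
    rw [hTlow n hn] at hi
    simp at hi
  have hWd : ∀ i j : ℤ, ∀ x ∈ W i, (F.d i j).hom x ∈ W j := by
    intro i j x hx
    by_cases hij : i + 1 = j
    · subst hij
      by_cases hi : i < a
      · rw [hWlow i hi] at hx
        rw [(Submodule.mem_bot R).mp hx, map_zero]; exact Submodule.zero_mem _
      · rw [not_lt] at hi
        have hle : (W i).map (F.d i (i+1)).hom ≤ W (i+1) := by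
          simp only [W]
          rw [Submodule.map_span, Submodule.span_le]
          rintro _ ⟨_, ⟨⟨t, ht⟩, rfl⟩, rfl⟩
          rw [hTsucc i hi]
          apply hsupp
          apply Finset.mem_union_right
          exact Finset.mem_image_of_mem _ (Finset.mem_image_of_mem _ ht)
        exact hle ⟨x, hx, rfl⟩
    · rw [F.shape i j hij]
      exact Submodule.zero_mem _
  have hAW : ∀ i, f i ∈ W (deg i) := by
    intro i
    have hai := ha i
    obtain ⟨k, hk⟩ : ∃ k, deg i = k + 1 := ⟨deg i - 1, by ring⟩
    have h1 : ∀ n (h : deg i = n) (k : ℤ), n = k + 1 → a ≤ k → (h ▸ f i : F.X n) ∈ W n := by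
      intro n h k hk hak
      subst hk
      simp only [W]
      rw [hTsucc k hak]
      apply hsupp
      apply Finset.mem_union_left
      simp only [A, Finset.mem_biUnion, Finset.mem_univ, true_and]
      exact ⟨i, by simp [h]⟩
    exact h1 (deg i) rfl k hk (by omega)
  refine ⟨subcomplex F W hWd, subcomplexι F W hWd, ?_, ⟨a, b, ?_⟩, ?_, ?_⟩
  · intro n
    exact Subtype.val_injective
  · rintro n (hn | hn)
    · have : Subsingleton (W n) := by rw [hWlow n hn]; infer_instance
      change IsZero (ModuleCat.of R (W n))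
      exact ModuleCat.isZero_of_subsingleton _
    · have h0 : Subsingleton (F.X n) := ModuleCat.subsingleton_of_isZero (hb n hn)
      have : Subsingleton (W n) := Subtype.val_injective.subsingleton
      change IsZero (ModuleCat.of R (W n))
      exact ModuleCat.isZero_of_subsingleton _
  · intro n
    constructor
    · exact Module.Finite.span_of_finite R (Set.finite_range _)
    · have li : LinearIndependent R (fun i : T n => bas n i) :=
        (bas n).linearIndependent.comp _ Subtype.val_injective
      exact Module.Free.of_basis (Module.Basis.span li)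
  · intro i
    exact ⟨⟨f i, hAW i⟩, rfl⟩

end Groth.Agent.Lib.FinFreeSubcx
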