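import Groth.Agent.Lib.H78GlobGen2

/-!
# Finite-index form of Serre's global generation theorem (helper48)

helper78's `H78GlobGen2.isGloballyGenerated_twist` hides the index type of the generating family.
Here the same proofs are repeated with the index type exposed and shown to be finite:

* `epi_ofSections_of_span` : the criterion of `isGloballyGenerated_of_span` with the epimorphism
  `ofSections G ξ : free K ⟶ G` exposed;
* `exists_finite_epi_twist` : `X` compact, `L` ample, `F` quasi-coherent of finite type: for all large `n`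
  there is a **finite** type `K` and an epimorphism `free K ⟶ F ⊗ L^n`.
-/

set_option autoImplicit false
universe u
open CategoryTheory CategoryTheory.Limits AlgebraicGeometry MonoidalCategory Opposite TopologicalSpace
open Groth.Agent.Lib.H90Invertible Groth.Agent.Lib.StructureModule Groth.Agent.Lib.H78TensorGen
open Groth.Agent.Lib.H78SecCoord Groth.Agent.Lib.H78Atlas Groth.Agent.Lib.H78KeyLemma
open Groth.Agent.Lib.H78KeyLemma2 Groth.Agent.Lib.H78AmpleBasis Groth.Agent.Lib.H78SecAdd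
open Groth.Agent.Lib.H78GlobGen2

namespace Groth.Agent.Lib.FinGlobGen

variable {X : Scheme.{u}}

/-- `isGloballyGenerated_of_span` with the epimorphism exposed. -/
theorem epi_ofSections_of_span {G : X.Modules} {ι : Type*} (V : ι → X.Opens) (hV : ⨆ i, V i = ⊤)
    (hVaff : ∀ i, IsAffineOpen (V i))
    (hext : ∀ i (f : Γ(X, V i)) (t : Γ(G, X.basicOpen f)),
      ∃ (n : ℕ) (z : Γ(G, V i)), rs G (X.basicOpen_le f) z = rf (X.basicOpen_le f) f ^ n • t)
    {K : Type u} (ξ : K → Γ(G, ⊤))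
    (hspan : ∀ i, Submodule.span Γ(X, V i) (Set.range fun k => rs G (le_top : V i ≤ ⊤) (ξ k)) = ⊤) :
    Epi (ofSections G ξ) := by
  -- local surjectivity
  have hls : ∀ (U : X.Opens) (s : Γ(G, U)) (x : X), x ∈ U → ∃ (W : X.Opens) (hW : W ≤ U), x ∈ W ∧
      ∃ t : Γ(freeM X K, W), (ofSections G ξ).app W t = rs G hW s := by
    intro U s x hxU
    have hx : x ∈ ⨆ i, V i := by rw [hV]; trivial
    obtain ⟨i, hxi⟩ := Opens.mem_iSup.1 hx
    obtain ⟨f, hfU, hxf⟩ := (hVaff i).exists_basicOpen_le (V := U) ⟨x, hxU⟩ hxi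
    refine ⟨X.basicOpen f, hfU, hxf, ?_⟩
    obtain ⟨n, z, hz⟩ := hext i f (rs G hfU s)
    have hzmem : z ∈ Submodule.span Γ(X, V i) (Set.range fun k => rs G (le_top : V i ≤ ⊤) (ξ k)) := by
      rw [hspan i]; trivial
    obtain ⟨c, hc⟩ := (Finsupp.mem_span_range_iff_exists_finsupp).1 hzmem
    have hu : IsUnit (rf (X.basicOpen_le f) f ^ n) := (RingedSpace.isUnit_res_basicOpen _ f).pow n
    obtain ⟨v, hv⟩ := hu.exists_left_inv
    refine ⟨∑ k ∈ c.support, (ιF k).app (X.basicOpen f)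
      (toSec _ (v * rf (X.basicOpen_le f) (c k))), ?_⟩
    rw [map_sum]
    have h1 : rs G hfU s = v • rs G (X.basicOpen_le f) z := by
      rw [hz, ← mul_smul, hv, one_smul]
    rw [h1, ← hc, Finsupp.sum, rs_sum, Finset.smul_sum]
    refine Finset.sum_congr rfl (fun k _ => ?_)
    rw [ofSections_app]
    change _ = v • rs G (X.basicOpen_le f) (c k • rs G le_top (ξ k))
    rw [rs_smul, rs_rs, mul_smul]
  -- epi from local surjectivity
  haveI : (SheafOfModules.toSheaf.{u} X.ringCatSheaf).Faithful := inferInstance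
  refine (SheafOfModules.toSheaf.{u} X.ringCatSheaf).epi_of_epi_map ?_
  haveI : Sheaf.IsLocallySurjective ((SheafOfModules.toSheaf.{u} X.ringCatSheaf).map (ofSections G ξ)) := by
    refine ⟨fun {U} s => ?_⟩
    rw [Opens.mem_grothendieckTopology]
    intro x hx
    obtain ⟨W, hWU, hxW, t, ht⟩ := hls U s x hx
    exact ⟨W, homOfLE hWU, ⟨t, ht⟩, hxW⟩
  exact Sheaf.epi_of_isLocallySurjective _

/-- **Serre's theorem on global generation of twists, finite form**: for an ample `L` on a quasi-compact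
scheme and a quasi-coherent `F` of finite type, `F ⊗ L^n` is a quotient of a free module on a *finite*
type for all large `n`. -/
theorem exists_finite_epi_twist [CompactSpace X] {L : X.Modules} (hL : CohB1.IsAmple L) (F : X.Modules)
    (hF : Coh.IsCoh F) :
    ∃ n₀ : ℕ, ∀ n, n₀ ≤ n → ∃ (K : Type u) (_ : Finite K)
      (p : (SheafOfModules.free K : X.Modules) ⟶ CohB1.tensorMod F (CohB1.tensorPow L n)), Epi p := by
  haveI := quasiSeparatedSpace_of_isAmple hL
  haveI : F.IsQuasicoherent := hF.1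
  haveI : F.IsFiniteType := hF.2
  have hQ : QcLike F := qcLike_of_isQuasicoherent F
  -- the cover by affine `X_s` on which `L` is trivial
  have h1 : ∀ x : X, ∃ (V₀ : X.Opens) (e : Γ(L, V₀)) (n : ℕ)
      (s : Coh.structureModule X ⟶ CohB1.tensorPow L (n + 1)), IsGen L V₀ e ∧
        x ∈ CohB1.genLocus _ s ∧ CohB1.genLocus _ s ≤ V₀ ∧ IsAffineOpen (CohB1.genLocus _ s) := by
    intro x
    obtain ⟨V₀, hxV₀, e, he⟩ := (isInvertible_iff_exists_isGen L).1 hL.1 x
    obtain ⟨n, s, hx, hsV, haff⟩ := exists_sec_nbhd_affine hL x V₀ hxV₀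
    exact ⟨V₀, e, n, s, he, hx, hsV, haff⟩
  choose V₀ e n s he hx hsV haff using h1
  obtain ⟨t, ht⟩ := isCompact_univ.elim_finite_subcover (fun y => (CohB1.genLocus _ (s y) : Set X))
    (fun y => (CohB1.genLocus _ (s y)).2) (fun x _ => Set.mem_iUnion.2 ⟨x, hx x⟩)
  obtain ⟨V, hVdef⟩ : ∃ V : t → X.Opens, ∀ i, V i = CohB1.genLocus _ (s i.1) := ⟨_, fun _ => rfl⟩
  have hV : ⨆ i, V i = ⊤ := by
    refine top_le_iff.1 (fun x _ => ?_)
    obtain ⟨y, hy, hxy⟩ := Set.mem_iUnion₂.1 (ht (Set.mem_univ x))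
    exact Opens.mem_iSup.2 ⟨⟨y, hy⟩, by rw [hVdef]; exact hxy⟩
  have hVaff : ∀ i, IsAffineOpen (V i) := fun i => by rw [hVdef]; exact haff i.1
  have hVle : ∀ i : t, V i ≤ V₀ i.1 := fun i => by rw [hVdef]; exact hsV i.1
  let A : Atlas L V := ⟨fun i => rs L (hVle i) (e i.1), fun i => (he i.1).mono (hVle i)⟩
  -- generators of `F` over the `V j`
  have h2 : ∀ j : t, ∃ (I : Type u) (_ : Finite I) (τ : I → Γ(F, V j)),
      Submodule.span Γ(X, V j) (Set.range τ) = ⊤ := by
    intro j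
    obtain ⟨I, hI, τ, hτ⟩ := Groth.Agent.Lib.CohFinite.exists_sections_span_stalk_affine F (hVaff j)
    exact ⟨I, hI, τ, Groth.Agent.Lib.CohFinite.span_eq_top_of_forall_span_germ_eq_top F (hVaff j) τ hτ⟩
  choose I hI τ hτ using h2
  -- the extension lemma for every `j`
  have h3 : ∀ j : t, ∃ n₀ : ℕ, ∀ n, n₀ ≤ n → ∀ k : I j,
      ∃ (ξ : Γ(CohB1.tensorMod F (CohB1.tensorPow L n), ⊤)) (u : Γ(X, V j)),
        IsUnit u ∧ rs _ (le_top : V j ≤ ⊤) ξ = tmul (u • τ j k) (epow (A.E j) n) := by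
    intro j
    haveI := hI j
    refine exists_sections_twist hQ hV hVaff A j (n j.1 + 1) (Nat.succ_pos _) (sec (s j.1)) ?_ (τ j)
    rw [ofSection_sec, hVdef]
  choose n₀ hn₀ using h3
  refine ⟨Finset.univ.sup n₀, fun N hN => ?_⟩
  have h4 : ∀ (p : Σ j : t, I j), ∃ (ξ : Γ(CohB1.tensorMod F (CohB1.tensorPow L N), ⊤)) (u : Γ(X, V p.1)),
      IsUnit u ∧ rs _ (le_top : V p.1 ≤ ⊤) ξ = tmul (u • τ p.1 p.2) (epow (A.E p.1) N) := fun p =>
    hn₀ p.1 N ((Finset.le_sup (Finset.mem_univ p.1)).trans hN) p.2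
  choose ξ u hu hξ using h4
  haveI : ∀ j : t, Finite (I j) := hI
  refine ⟨Σ j : t, I j, inferInstance, ofSections _ ξ, ?_⟩
  refine epi_ofSections_of_span V hV hVaff (fun i f t' => ?_) ξ (fun i => ?_)
  · exact ext_tensor hQ (hVaff i) (isGen_epow (A.gen i) N) f t'
  · have hsub : Submodule.span Γ(X, V i) (Set.range fun k : I i => rs _ (le_top : V i ≤ ⊤) (ξ ⟨i, k⟩)) ≤
        Submodule.span Γ(X, V i) (Set.range fun p => rs _ (le_top : V i ≤ ⊤) (ξ p)) := by
      apply Submodule.span_mono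
      rintro _ ⟨k, rfl⟩
      exact ⟨⟨i, k⟩, rfl⟩
    refine top_le_iff.1 (le_trans (ge_of_eq ?_) hsub)
    exact span_tensor (isGen_epow (A.gen i) N) (τ i) (hτ i) _ (fun k => ⟨u ⟨i, k⟩, hu ⟨i, k⟩, hξ ⟨i, k⟩⟩)

end Groth.Agent.Lib.FinGlobGen
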