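import Groth.Agent.Lib.FinInjTop64
import Groth.Agent.Lib.AdicFamSch64
import Groth.Agent.Lib.FlatBCComp64

/-!
# Flatness at a point tested after a finite injective extension of the local ring (helper64)

`isFlatOverAt_iff_of_finite_injective`: EGA IV 11.6-type statement for `Y' = Spec A' ⟶ Y` with
`O_{Y,y} → A'` finite and injective: `F` is flat at `x` iff its pullback to `X ×_Y Y'` is flat over
`Y'` at the points over `x` and over a closed point of `Y'`.
-/

set_option autoImplicit false
set_option maxHeartbeats 400000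
set_option linter.style.haveILetI false
set_option linter.unusedSectionVars false
universe u

open CategoryTheory AlgebraicGeometry TopologicalSpace Opposite Limits IsLocalRing
open Groth.Agent.Lib.FlatBCComp64 Groth.Agent.Lib.FinInjTop64

namespace Groth.Agent.Lib.FinInjSch64

set_option synthInstance.maxHeartbeats 400000 in
theorem isFlatOverAt_iff_of_finite_injective {X Y : Scheme.{u}} [IsLocallyNoetherian Y]
    (f : X ⟶ Y) [LocallyOfFiniteType f] (F : X.Modules) (hF : Coh.IsCoh F) (x : X)
    (A' : CommRingCat.{u}) (φ : Y.presheaf.stalk (f.base x) ⟶ A') (hfin : φ.hom.Finite)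
    (hinj : Function.Injective φ.hom) :
    FlatMod.IsFlatOverAt f F x ↔
      ∀ x' : ↥(pullback f (Spec.map φ ≫ Y.fromSpecStalk (f.base x))),
        pullback.fst f (Spec.map φ ≫ Y.fromSpecStalk (f.base x)) x' = x →
        IsClosed ({pullback.snd f (Spec.map φ ≫ Y.fromSpecStalk (f.base x)) x'} :
          Set ↥(Spec A')) →
          FlatMod.IsFlatOverAt (pullback.snd f (Spec.map φ ≫ Y.fromSpecStalk (f.base x)))
            ((Scheme.Modules.pullback
              (pullback.fst f (Spec.map φ ≫ Y.fromSpecStalk (f.base x)))).obj F) x' := by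
  classical
  haveI qc : F.IsQuasicoherent := hF.1
  constructor
  · intro h x' hx' _
    exact Groth.Agent.Lib.H72FlatBaseChange.isFlatOverAt_pullback_of_isPullback
      (IsPullback.of_hasPullback f (Spec.map φ ≫ Y.fromSpecStalk (f.base x))) F x'
      (by rw [hx']; exact h)
  · intro H
    letI alg : Algebra (Y.presheaf.stalk (f.base x)) A' := φ.hom.toAlgebra
    haveI fin : Module.Finite (Y.presheaf.stalk (f.base x)) A' := hfin
    haveI lochom : ∀ 𝔫 : MaximalSpectrum A',
        IsLocalHom ((algebraMap A' (Localization.AtPrime 𝔫.asIdeal)).comp φ.hom) :=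
      fun 𝔫 => isLocalHom_comp_localization (O := Y.presheaf.stalk (f.base x)) 𝔫.asIdeal
    refine Groth.Agent.Lib.AdicFamSch64.isFlatOverAt_of_adic_family f F hF x
      (fun 𝔫 : MaximalSpectrum A' => Localization.AtPrime 𝔫.asIdeal)
      (fun 𝔫 => (algebraMap A' (Localization.AtPrime 𝔫.asIdeal)).comp φ.hom)
      (fun N => exists_finset_iInf_comap_le (O := Y.presheaf.stalk (f.base x)) hinj N) ?_
    intro 𝔫 x'' hx1 hx2
    have e : Spec.map (CommRingCat.ofHom
          ((algebraMap A' (Localization.AtPrime 𝔫.asIdeal)).comp φ.hom)) ≫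
          Y.fromSpecStalk (f.base x) =
        Spec.map (CommRingCat.ofHom (algebraMap A' (Localization.AtPrime 𝔫.asIdeal)) :
          A' ⟶ CommRingCat.of (Localization.AtPrime 𝔫.asIdeal)) ≫
          (Spec.map φ ≫ Y.fromSpecStalk (f.base x)) := by
      rw [← Category.assoc, ← Spec.map_comp]
      rfl
    apply isFlatOverAt_pullback_comp f (Spec.map φ ≫ Y.fromSpecStalk (f.base x))
      (Spec.map (CommRingCat.ofHom (algebraMap A' (Localization.AtPrime 𝔫.asIdeal)) :
          A' ⟶ CommRingCat.of (Localization.AtPrime 𝔫.asIdeal))) _ e F x''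
    apply H
    · rw [← Scheme.Hom.comp_apply, pbMap_fst]
      exact hx1
    · rw [← Scheme.Hom.comp_apply, pbMap_snd, Scheme.Hom.comp_apply, hx2]
      refine (PrimeSpectrum.isClosed_singleton_iff_isMaximal
        (R := A') _).mpr ?_
      change (Ideal.comap (algebraMap A' (Localization.AtPrime 𝔫.asIdeal))
        (maximalIdeal (Localization.AtPrime 𝔫.asIdeal))).IsMaximal
      have h5 : Ideal.comap (algebraMap A' (Localization.AtPrime 𝔫.asIdeal))
          (maximalIdeal (Localization.AtPrime 𝔫.asIdeal)) = 𝔫.asIdeal :=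
        IsLocalization.AtPrime.under_maximalIdeal (Localization.AtPrime 𝔫.asIdeal) 𝔫.asIdeal
      rw [h5]
      exact 𝔫.isMaximal

end Groth.Agent.Lib.FinInjSch64
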