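import Groth.Agent.Lib.ComplSemilocal89
import Groth.Agent.Lib.AzumayaEtaleSub16

/-!
# Finite injective algebras over a Noetherian local ring: the semilocal topology (helper64)

`O` Noetherian local, `A'` a finite `O`-algebra.

* `exists_pow_forall_localization`: an element of `A'` lying in a high power of the maximal ideal
  of every localization `A'_𝔫` lies in `𝔪^K A'`.
* `exists_comap_map_pow_le`: Artin–Rees: if `O → A'` is injective, `O ∩ 𝔪^K A' ≤ 𝔪^N` for large `K`.
* `isLocalHom_comp_localization`: `O → A'_𝔫` is a local homomorphism.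
* `exists_finset_iInf_comap_le`: the topology of `O` defined by the ideals `φ_𝔫⁻¹(𝔪_𝔫^n)` is finer
  than the `𝔪`-adic one.
-/

set_option autoImplicit false
set_option maxHeartbeats 400000
set_option linter.style.haveILetI false
set_option linter.unusedSectionVars false
universe u

open IsLocalRing Function

namespace Groth.Agent.Lib.FinInjTop64

variable {O : Type u} [CommRing O] [IsLocalRing O] [IsNoetherianRing O]
  {A' : Type u} [CommRing A'] [Algebra O A'] [Module.Finite O A']

/-- `A' ⧸ 𝔪 A'` is Artinian. -/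
theorem isArtinianRing_quotient_map :
    IsArtinianRing (A' ⧸ (maximalIdeal O).map (algebraMap O A')) := by
  letI : Field (O ⧸ maximalIdeal O) := Ideal.Quotient.field _
  haveI : Module.Finite (O ⧸ maximalIdeal O) (A' ⧸ (maximalIdeal O).map (algebraMap O A')) :=
    Module.Finite.of_restrictScalars_finite O _ _
  exact IsArtinianRing.of_finite (O ⧸ maximalIdeal O) _

/-- An element of `A'` lying in a high power of the maximal ideal of every localization `A'_𝔫`
lies in `𝔪^K A'`. -/
theorem exists_pow_forall_localization (K : ℕ) :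
    ∃ n : ℕ, ∀ x : A',
      (∀ 𝔫 : MaximalSpectrum A', algebraMap A' (Localization.AtPrime 𝔫.asIdeal) x ∈
        maximalIdeal (Localization.AtPrime 𝔫.asIdeal) ^ n) →
      x ∈ (maximalIdeal O ^ K).map (algebraMap O A') := by
  classical
  haveI : IsNoetherianRing A' := Algebra.FiniteType.isNoetherianRing O A'
  haveI hart : IsArtinianRing (A' ⧸ (maximalIdeal O).map (algebraMap O A')) :=
    isArtinianRing_quotient_map
  haveI : Finite (MaximalSpectrum A') :=
    Groth.Agent.Lib.AzumayaEtaleSub16.finite_maximalSpectrum_of_finite O A'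
  haveI : Fintype (MaximalSpectrum A') := Fintype.ofFinite _
  set J : Ideal A' := (maximalIdeal O).map (algebraMap O A') with hJ
  have h1 : ∀ 𝔫 : MaximalSpectrum A', ∃ n : ℕ,
      maximalIdeal (Localization.AtPrime 𝔫.asIdeal) ^ n ≤
        J.map (algebraMap A' (Localization.AtPrime 𝔫.asIdeal)) := by
    intro 𝔫
    haveI : IsNoetherianRing (Localization.AtPrime 𝔫.asIdeal) :=
      IsLocalization.isNoetherianRing 𝔫.asIdeal.primeCompl _ inferInstance
    obtain ⟨n, hn⟩ := Ideal.exists_radical_pow_le_of_fg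
      (J.map (algebraMap A' (Localization.AtPrime 𝔫.asIdeal))) (IsNoetherian.noetherian _)
    exact ⟨n, (Ideal.pow_right_mono
      (Groth.Agent.Lib.ComplSemilocal89.maximalIdeal_le_radical J 𝔫.asIdeal) n).trans hn⟩
  choose nf hnf using h1
  refine ⟨K * Finset.univ.sup nf, fun x hx => ?_⟩
  apply Ideal.mem_of_localization_maximal
  intro P hP
  have h2 := hx ⟨P, hP⟩
  have h3 : nf ⟨P, hP⟩ * K ≤ K * Finset.univ.sup nf := by
    rw [mul_comm]
    exact Nat.mul_le_mul_left K (Finset.le_sup (Finset.mem_univ _))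
  have h4 : maximalIdeal (Localization.AtPrime P) ^ (K * Finset.univ.sup nf) ≤
      Ideal.map (algebraMap A' (Localization.AtPrime P))
        ((maximalIdeal O ^ K).map (algebraMap O A')) := by
    calc maximalIdeal (Localization.AtPrime P) ^ (K * Finset.univ.sup nf)
        ≤ maximalIdeal (Localization.AtPrime P) ^ (nf ⟨P, hP⟩ * K) := Ideal.pow_le_pow_right h3
      _ = (maximalIdeal (Localization.AtPrime P) ^ nf ⟨P, hP⟩) ^ K := pow_mul _ _ _
      _ ≤ (J.map (algebraMap A' (Localization.AtPrime P))) ^ K :=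
          Ideal.pow_right_mono (hnf ⟨P, hP⟩) K
      _ = Ideal.map (algebraMap A' (Localization.AtPrime P))
            ((maximalIdeal O ^ K).map (algebraMap O A')) := by
          rw [← Ideal.map_pow, hJ, ← Ideal.map_pow]
  exact h4 h2

omit [IsLocalRing O] in
/-- Artin–Rees: if `O → A'` is injective then `O ∩ I^K A' ≤ I^N` for `K` large. -/
theorem exists_comap_map_pow_le (hinj : Injective (algebraMap O A')) (I : Ideal O) (N : ℕ) :
    ∃ K : ℕ, Ideal.comap (algebraMap O A') ((I ^ K).map (algebraMap O A')) ≤ I ^ N := by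
  obtain ⟨c, hc⟩ := Ideal.exists_pow_inf_eq_pow_smul I
    (LinearMap.range (Algebra.linearMap O A'))
  refine ⟨N + c, fun x hx => ?_⟩
  rw [Ideal.mem_comap] at hx
  have h1 : algebraMap O A' x ∈ (I ^ (N + c) • (⊤ : Submodule O A')) ⊓
      LinearMap.range (Algebra.linearMap O A') := by
    refine ⟨?_, ⟨x, rfl⟩⟩
    rw [Ideal.smul_top_eq_map]
    exact hx
  rw [hc (N + c) (Nat.le_add_left c N), Nat.add_sub_cancel] at h1
  have h2 : I ^ N • (I ^ c • (⊤ : Submodule O A') ⊓ LinearMap.range (Algebra.linearMap O A')) ≤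
      Submodule.map (Algebra.linearMap O A') (I ^ N) := by
    have h3 : Submodule.map (Algebra.linearMap O A') (I ^ N) =
        I ^ N • LinearMap.range (Algebra.linearMap O A') := by
      rw [← Submodule.map_top, ← Submodule.map_smul'']
      congr 1
      rw [smul_eq_mul, Ideal.mul_top]
    rw [h3]
    exact Submodule.smul_mono le_rfl inf_le_right
  obtain ⟨y, hy, hxy⟩ := h2 h1
  have : y = x := hinj hxy
  rw [← this]
  exact hy

/-- `O → A'_𝔫` is a local homomorphism for every maximal ideal `𝔫` of the finite `O`-algebra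
`A'`. -/
theorem isLocalHom_comp_localization (𝔫 : Ideal A') [𝔫.IsMaximal] :
    IsLocalHom ((algebraMap A' (Localization.AtPrime 𝔫)).comp (algebraMap O A')) := by
  haveI : Algebra.IsIntegral O A' := Algebra.IsIntegral.of_finite O A'
  constructor
  intro a ha
  rw [RingHom.comp_apply, IsLocalization.AtPrime.isUnit_to_map_iff _ 𝔫] at ha
  have h1 : (𝔫.comap (algebraMap O A')).IsMaximal :=
    Ideal.isMaximal_comap_of_isIntegral_of_isMaximal 𝔫
  have h2 : 𝔫.comap (algebraMap O A') = maximalIdeal O := IsLocalRing.eq_maximalIdeal h1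
  by_contra hna
  have h3 : a ∈ maximalIdeal O := (mem_maximalIdeal a).mpr hna
  rw [← h2, Ideal.mem_comap] at h3
  exact ha h3

/-- The topology of `O` defined by the ideals `φ_𝔫⁻¹(𝔪_𝔫^n)`, `𝔫` a maximal ideal of the finite
injective `O`-algebra `A'`, is finer than the `𝔪`-adic topology. -/
theorem exists_finset_iInf_comap_le (hinj : Injective (algebraMap O A')) (N : ℕ) :
    ∃ s : Finset (MaximalSpectrum A' × ℕ),
      ⨅ j ∈ s, Ideal.comap
        ((algebraMap A' (Localization.AtPrime j.1.asIdeal)).comp (algebraMap O A'))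
        (maximalIdeal (Localization.AtPrime j.1.asIdeal) ^ j.2) ≤ maximalIdeal O ^ N := by
  classical
  haveI : Finite (MaximalSpectrum A') :=
    Groth.Agent.Lib.AzumayaEtaleSub16.finite_maximalSpectrum_of_finite O A'
  haveI : Fintype (MaximalSpectrum A') := Fintype.ofFinite _
  obtain ⟨K, hK⟩ := exists_comap_map_pow_le hinj (maximalIdeal O) N
  obtain ⟨n, hn⟩ := exists_pow_forall_localization (O := O) (A' := A') K
  refine ⟨Finset.univ.image fun 𝔫 => (𝔫, n), fun x hx => ?_⟩
  apply hK
  rw [Ideal.mem_comap]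
  apply hn
  intro 𝔫
  simp only [Ideal.mem_iInf] at hx
  have := hx (𝔫, n) (Finset.mem_image.mpr ⟨𝔫, Finset.mem_univ _, rfl⟩)
  exact this

end Groth.Agent.Lib.FinInjTop64
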