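import Groth.Agent.Lib.FinLocFreeMor
import Groth.Agent.Lib.SemilocalFree
import Mathlib.AlgebraicGeometry.Morphisms.FlatRank

set_option autoImplicit false
set_option linter.style.haveILetI false
universe u
open CategoryTheory AlgebraicGeometry TopologicalSpace Opposite

namespace Groth.Agent.Lib.FinLocFreeMorRank

open Groth.Agent.Lib.FinLocFreeMor

variable {X S : Scheme.{u}} (f : X ⟶ S)

/-- The pullback square of an affine open chart. -/
theorem isPullback_fromSpec {U : S.Opens} (hU : IsAffineOpen U) (hU' : IsAffineOpen (f ⁻¹ᵁ U)) :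
    IsPullback hU'.fromSpec (Spec.map (f.app U)) f hU.fromSpec := by
  refine (IsOpenImmersion.isPullback (Spec.map (f.app U)) hU'.fromSpec hU.fromSpec f ?_ ?_).flip
  · have := IsAffineOpen.SpecMap_appLE_fromSpec f hU hU' le_rfl
    rw [Scheme.Hom.appLE_eq_app] at this
    exact this.symm
  · rw [hU.opensRange_fromSpec, hU'.opensRange_fromSpec]

/-- The rank of a finite flat morphism at `y` is the rank of the stalk of `f_* O_X` at `y`. -/
theorem finrank_eq_finrank_stalk [IsFinite f] [Flat f] (y : S) :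
    f.finrank y = Module.finrank (S.presheaf.stalk y)
      (((Scheme.Modules.pushforward f).obj (Coh.structureModule X)).presheaf.stalk y) := by
  haveI := Groth.Agent.Lib.StructureModule.isQuasicoherent_structureModule X
  haveI : ((Scheme.Modules.pushforward f).obj (Coh.structureModule X)).IsQuasicoherent :=
    Groth.Agent.Lib.H90OXModPush.isQuasicoherent_pushforward f _
  obtain ⟨U, hyU⟩ := Opens.mem_iSup.mp ((iSup_affineOpens_eq_top S).ge (Set.mem_univ y))
  have hU : IsAffineOpen U.1 := U.2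
  have hU' : IsAffineOpen (f ⁻¹ᵁ U.1) := hU.preimage f
  have hpb := isPullback_fromSpec f hU hU'
  have h1 := Scheme.Hom.finrank_of_isPullback _ _ _ _ hpb (hU.primeIdealOf ⟨y, hyU⟩)
  rw [hU.fromSpec_primeIdealOf] at h1
  rw [← h1]
  have hfin : (f.app U.1).hom.Finite := IsFinite.finite_app f U.1 hU
  have hflat : (f.app U.1).hom.Flat :=
    (iff_forall_app_of_isAffineHom (P := @Flat) f RingHom.Flat.stableUnderComposition
        RingHom.Flat.containsIdentities).mp inferInstance U
  rw [Scheme.Hom.finrank_SpecMap_eq_finrank hfin hflat]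
  rw [← Groth.Agent.Lib.SemilocalFree.rankAtStalk_sections_eq _ hU ⟨y, hyU⟩]
  unfold RingHom.finrank
  letI : Algebra Γ(S, U.1) Γ(X, f ⁻¹ᵁ U.1) := (f.app U.1).hom.toAlgebra
  exact congrFun (Module.rankAtStalk_eq_of_equiv (secEquiv f U.1).symm) _

theorem isCover_iff (d : ℕ) :
    Mor2.IsFinLocFreeOfDeg d f ↔
      IsAffineHom f ∧ FlatMod.IsFinLocFreeOfRank d ((Scheme.Modules.pushforward f).obj (Coh.structureModule X)) := by
  constructor
  · rintro ⟨hf, hd⟩
    obtain ⟨hA, hLF⟩ := (isFinLocFree_mor_iff f).mpr hf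
    refine ⟨hA, fun y => ?_⟩
    obtain ⟨hfin, hflat, -⟩ := hf
    obtain ⟨U, n, hyU, ⟨e⟩⟩ := hLF y
    have h1 := Groth.Agent.Lib.SemilocalFree.finrank_stalk_eq_of_restrict_iso U e ⟨y, hyU⟩
    have h2 := finrank_eq_finrank_stalk f y
    have : n = d := by rw [← h1, ← hd y, h2]
    subst this
    exact ⟨U, hyU, ⟨e⟩⟩
  · rintro ⟨hA, hLF⟩
    have hLF' : FlatMod.IsFinLocFree ((Scheme.Modules.pushforward f).obj (Coh.structureModule X)) := by
      intro y
      obtain ⟨U, hyU, he⟩ := hLF y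
      exact ⟨U, d, hyU, he⟩
    have hf := (isFinLocFree_mor_iff f).mp ⟨hA, hLF'⟩
    refine ⟨hf, fun y => ?_⟩
    obtain ⟨hfin, hflat, -⟩ := hf
    obtain ⟨U, hyU, ⟨e⟩⟩ := hLF y
    have h1 := Groth.Agent.Lib.SemilocalFree.finrank_stalk_eq_of_restrict_iso U e ⟨y, hyU⟩
    rw [finrank_eq_finrank_stalk f y]
    exact h1

end Groth.Agent.Lib.FinLocFreeMorRank
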