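import Groth.Agent.Lib.FinEtQuot46c
import Groth.Agent.Lib.DenseOpenSch46c
import Groth.Agent.Lib.AlgSpPoints
import Groth.Agent.Lib.H86CartierChart2

/-!
# Quotients by finite locally free relations: schematic locus (helper46)
-/

set_option autoImplicit false
universe u
open CategoryTheory CategoryTheory.Limits AlgebraicGeometry Opposite

namespace Groth.Agent.Lib.FinEtQuot46

open AlgSp Groth.Agent.Lib.AlgSpDecentSpec Groth.Agent.Lib.RelRestrict46
  Groth.Agent.Lib.CodimZeroNbhd46 Groth.Agent.Lib.AlgSpPoints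

variable {S : Scheme.{u}} {U R : Over S} {s t : R ⟶ U}

/-- Representable flat maps locally of finite presentation are open on points. -/
theorem isOpenMap_map_of_flat_lfp {F G : Sp S} {g : F ⟶ G} (h1 : RepWith @Flat g)
    (h2 : RepWith @LocallyOfFinitePresentation g) : IsOpenMap (Points.map g) := by
  refine isOpenMap_map_of_representable h1.rep fun T g' => ?_
  have : Flat (h1.rep.snd g').left := h1.property_snd g'
  have : LocallyOfFinitePresentation (h1.rep.snd g').left := h2.property_snd g'
  exact (h1.rep.snd g').left.isOpenMap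

theorem isOpenMap_ofPt_of_flat_lfp {F : Sp S} {T : Over S} {g : (yon S).obj T ⟶ F}
    (h1 : RepWith @Flat g) (h2 : RepWith @LocallyOfFinitePresentation g) :
    IsOpenMap (Points.ofPt g) := by
  have : Points.ofPt g = Points.map g ∘ Points.schemeHomeo T := by
    funext t; exact Points.ofPt_eq_map_ofScheme g t
  rw [this]
  exact (isOpenMap_map_of_flat_lfp h1 h2).comp (Points.schemeHomeo T).isOpenMap

/-- A flat, locally finitely presented chart from an affine scheme whose relation is finite has image
an affine open subspace. -/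
theorem exists_affine_open_of_affine_fppf_chart (X : AlgSp.Space S) [IsAffine U.left]
    (a : (yon S).obj U ⟶ X.obj) (hfl : RepWith @Flat a)
    (hfp : RepWith @LocallyOfFinitePresentation a)
    (hR : IsPullback ((yon S).map t) ((yon S).map s) a a) [IsFinite s.left] :
    ∃ (M : Over S) (f : (yon S).obj M ⟶ X.obj), IsAffine M.left ∧ RepWith @IsOpenImmersion f ∧
      Set.range (Points.ofPt a) = Set.range (Points.map f) := by
  have hopen : IsOpen (Set.range (Points.ofPt a)) :=
    (isOpenMap_ofPt_of_flat_lfp hfl hfp).isOpen_range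
  let X' : AlgSp.Space S :=
    ⟨Groth.Agent.Lib.H86AlgSpOpen.openSub X.obj (Set.range (Points.ofPt a)),
      Groth.Agent.Lib.H86AlgSpOpen.isAlgSpace_openSub X.property hopen⟩
  let jj : X' ⟶ X := ObjectProperty.homMk (Groth.Agent.Lib.H86AlgSpOpen.openSubι X.obj _)
  have hjj : RepWith @IsOpenImmersion jj.hom := Groth.Agent.Lib.H86AlgSpOpen.openSubι_repWith hopen
  have hrange : Set.range (Points.map jj.hom) = Set.range (Points.ofPt a) :=
    Groth.Agent.Lib.H86AlgSpOpen.range_map_openSubι
  have hmono : Mono jj.hom := Groth.Agent.Lib.H86AlgSpOpen.openSubι_mono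
  obtain ⟨b', hb'⟩ := Groth.Agent.Lib.H86AlgSpSub.exists_factor_of_range_subset hjj a (by
    rw [hrange, Groth.Agent.Lib.H86AlgSpOpen.range_map_eq_range_ofPt])
  have hb'fl : RepWith @Flat b' :=
    Groth.Agent.Lib.H86AlgSpOpen.repWith_of_comp_mono jj.hom (by rw [hb']; exact hfl)
  have hb'fp : RepWith @LocallyOfFinitePresentation b' :=
    Groth.Agent.Lib.H86AlgSpOpen.repWith_of_comp_mono jj.hom (by rw [hb']; exact hfp)
  have hsurj : IsSurjectiveMor b' := by
    intro x'
    have hx' : Points.map jj.hom x' ∈ Set.range (Points.ofPt a) := by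
      rw [← hrange]
      exact ⟨x', rfl⟩
    obtain ⟨u, hu⟩ := hx'
    refine ⟨Points.ofScheme U u, ?_⟩
    apply Groth.Agent.Lib.H86AlgSpOpen.map_injective_of_mono jj.hom
    rw [← Points.map_comp, hb', ← hu, Points.ofPt_eq_map_ofScheme]
  have hb's : RepWith @Surjective b' :=
    Groth.Agent.Lib.AlgSpQC.repWith_surjective_of_isSurjectiveMor hb'fl.rep hsurj
  have hepi : Epi b' := (Sheaf.isLocallySurjective_iff_epi _).1
    (Groth.Agent.Lib.H69AlgSp.isLocallySurjective_of_repWith b' hb'fl hb'fp hb's)
  have hP : IsPullback ((yon S).map t) ((yon S).map s) b' b' :=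
    Groth.Agent.Lib.H86AlgSpOpen.isPullback_of_comp_mono jj.hom (by rw [hb']; exact hR)
  have : Flat s.left := hfl.property _ _ _ hR
  have : LocallyOfFinitePresentation s.left := hfp.property _ _ _ hR
  obtain ⟨M, e, q, hMaff, -⟩ := exists_iso_of_finite b' hP
  refine ⟨M, e.hom ≫ jj.hom, hMaff, MorphismProperty.RespectsIso.precomp _ e.hom _ hjj, ?_⟩
  rw [← hrange]
  ext x
  constructor
  · rintro ⟨y, rfl⟩
    refine ⟨Points.map e.inv y, ?_⟩
    rw [← Points.map_comp, ← Category.assoc, e.inv_hom_id, Category.id_comp]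
  · rintro ⟨y, rfl⟩
    exact ⟨Points.map e.hom y, by rw [← Points.map_comp]⟩

/-- A point of a flat lfp chart with finite relation whose orbit lies in an affine open has an affine
open neighbourhood in the quotient. -/
theorem exists_affine_open_of_orbit_subset_fppf (X : AlgSp.Space S)
    (a : (yon S).obj U ⟶ X.obj) (hfl : RepWith @Flat a)
    (hfp : RepWith @LocallyOfFinitePresentation a)
    (hR : IsPullback ((yon S).map t) ((yon S).map s) a a) [IsFinite s.left]
    (u : ↥U.left) (V₀ : U.left.Opens) (hV₀ : IsAffineOpen V₀)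
    (horb : ∀ r : ↥R.left, s.left r = u → t.left r ∈ V₀) :
    ∃ (M : Over S) (f : (yon S).obj M ⟶ X.obj), IsAffine M.left ∧ RepWith @IsOpenImmersion f ∧
      Points.ofPt a u ∈ Set.range (Points.map f) := by
  have h := isEqvRel_of_isPullback hR
  let G := grpd h
  have : IsFinite G.s := ‹IsFinite s.left›
  have : Flat G.s := hfl.property _ _ _ hR
  have : LocallyOfFinitePresentation G.s := hfp.property _ _ _ hR
  have hGt : G.i ≫ G.s = G.t := G.i_s
  have : IsFinite G.t := by rw [← hGt]; infer_instance
  have : Flat G.t := by rw [← hGt]; infer_instance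
  have : LocallyOfFinitePresentation G.t := by rw [← hGt]; infer_instance
  obtain ⟨W, hWaff, huW, hWinv⟩ := Groth.Agent.S1881.result S G u V₀ hV₀ horb
  have hR₂ := isPullback_restrict hR W
  have hfin₂ : IsFinite (sW s t W).left :=
    isFinite_sW (V := ⊤) le_top (inferInstance : IsFinite (G.s ∣_ ⊤)) hWinv
  have hj1 : RepWith @Flat ((yon S).map (restrictOverι U W)) :=
    (AlgSp.repWith_yon_map_iff _ _).2 (inferInstance : Flat W.ι)
  have hj2 : RepWith @LocallyOfFinitePresentation ((yon S).map (restrictOverι U W)) :=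
    (AlgSp.repWith_yon_map_iff _ _).2 (inferInstance : LocallyOfFinitePresentation W.ι)
  have ha₂ : RepWith @Flat ((yon S).map (restrictOverι U W) ≫ a) :=
    MorphismProperty.comp_mem _ _ _ hj1 hfl
  have ha₂' : RepWith @LocallyOfFinitePresentation ((yon S).map (restrictOverι U W) ≫ a) :=
    MorphismProperty.comp_mem _ _ _ hj2 hfp
  have hW' : IsAffine (restrictOver U W).left := hWaff
  obtain ⟨M, f, hM, hf, hrange⟩ := exists_affine_open_of_affine_fppf_chart X _ ha₂ ha₂' hR₂
  refine ⟨M, f, hM, hf, ?_⟩
  rw [← hrange]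
  refine ⟨(⟨u, huW⟩ : ↥W), ?_⟩
  rw [ofPt_yon_map_comp]
  rfl

/-- Quasi-affine flat lfp chart with finite relation: every point of the chart has an affine open
neighbourhood in the quotient. -/
theorem exists_affine_open_of_finite_rel_fppf (X : AlgSp.Space S)
    (a : (yon S).obj U ⟶ X.obj) (hfl : RepWith @Flat a)
    (hfp : RepWith @LocallyOfFinitePresentation a)
    (hR : IsPullback ((yon S).map t) ((yon S).map s) a a) [IsFinite s.left]
    {Y : Scheme.{u}} [IsAffine Y] (i : U.left ⟶ Y) [IsImmersion i] (u : ↥U.left) :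
    ∃ (M : Over S) (f : (yon S).obj M ⟶ X.obj), IsAffine M.left ∧ RepWith @IsOpenImmersion f ∧
      Points.ofPt a u ∈ Set.range (Points.map f) := by
  have hfib : (s.left ⁻¹' {u}).Finite := s.left.finite_preimage_singleton u
  have horbfin : (t.left '' (s.left ⁻¹' {u})).Finite := hfib.image _
  obtain ⟨V₀, hV₀, hEV₀⟩ :=
    Groth.Agent.Lib.H60FinitePointsAffine.exists_isAffineOpen_of_finite_of_isImmersion i
      (t.left '' (s.left ⁻¹' {u})) horbfin
  exact exists_affine_open_of_orbit_subset_fppf X a hfl hfp hR u V₀ hV₀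
    (fun r hr => hEV₀ ⟨r, hr, rfl⟩)

end Groth.Agent.Lib.FinEtQuot46
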