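import Groth.Agent.Lib.FinLocFreeQuot46

/-!
# Finite locally free surjections of algebraic spaces: an affine open containing a fibre gives a
point of the schematic locus (helper46)
-/

set_option autoImplicit false
universe u
open CategoryTheory CategoryTheory.Limits AlgebraicGeometry Opposite

namespace Groth.Agent.Lib.FinEtQuot46

open AlgSp Groth.Agent.Lib.AlgSpDecentSpec Groth.Agent.Lib.RelRestrict46
  Groth.Agent.Lib.CodimZeroNbhd46 Groth.Agent.Lib.AlgSpPoints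

variable {S : Scheme.{u}}

theorem isClosedMap_map_of_isFinLocFreeMor {F G : Sp S} {f : F ⟶ G} (hf : IsFinLocFreeMor f) :
    IsClosedMap (Points.map f) := by
  refine isClosedMap_map_of_representable hf.rep fun T g => ?_
  have : IsFinite (hf.rep.snd g).left := (hf.property_snd g).1
  exact (hf.rep.snd g).left.isClosedMap

theorem finLocFree_le_flat : (finLocFree.{u} : MorphismProperty Scheme.{u}) ≤ @Flat :=
  fun _ _ _ h => h.2.1

theorem finLocFree_le_lfp :
    (finLocFree.{u} : MorphismProperty Scheme.{u}) ≤ @LocallyOfFinitePresentation :=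
  fun _ _ _ h => h.2.2

/-- Let `f : X ⟶ Y` be finite locally free and surjective, and `a : h_U ⟶ X` an affine open
containing the fibre over `y`.  Then `y` has an affine open neighbourhood in `Y`. -/
theorem exists_affine_open_of_affine_containing_fibre {X Y : AlgSp.Space S} (f : X ⟶ Y)
    (hf : IsFinLocFreeMor f.hom) (hs : RepWith @Surjective f.hom) (y : Points Y.obj)
    {U : Over S} (a : (yon S).obj U ⟶ X.obj) (hU : IsAffine U.left)
    (ha : RepWith @IsOpenImmersion a)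
    (hfib : Points.map f.hom ⁻¹' {y} ⊆ Set.range (Points.ofPt a)) :
    ∃ (M : Over S) (g : (yon S).obj M ⟶ Y.obj), IsAffine M.left ∧ RepWith @IsOpenImmersion g ∧
      y ∈ Set.range (Points.map g) := by
  have hFcl : IsClosedMap (Points.map f.hom) := isClosedMap_map_of_isFinLocFreeMor hf
  have hae : RepWith @Etale a :=
    Groth.Agent.Lib.H69AlgSp.repWith_mono
      (fun _ _ g (_ : IsOpenImmersion g) => (inferInstance : Etale g)) ha
  have hopen : IsOpen (Set.range (Points.ofPt a)) :=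
    (Groth.Agent.Lib.AlgSpQC.isOpenMap_ofPt_of_repWith_etale hae).isOpen_range
  -- the open `Y₀` over which everything lies in `U`
  obtain ⟨Y₀, hY₀o, hyY₀, hY₀⟩ : ∃ Y₀ : Set (Points Y.obj), IsOpen Y₀ ∧ y ∈ Y₀ ∧
      ∀ x : Points X.obj, Points.map f.hom x ∈ Y₀ → x ∈ Set.range (Points.ofPt a) := by
    refine ⟨(Points.map f.hom '' (Set.range (Points.ofPt a))ᶜ)ᶜ,
      (hFcl _ hopen.isClosed_compl).isOpen_compl, ?_, ?_⟩
    · rintro ⟨x, hx, hxy⟩
      exact hx (hfib hxy)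
    · intro x hx
      by_contra hxa
      exact hx ⟨x, hxa, rfl⟩
  -- the chart `c`
  have hafl : RepWith @Flat a :=
    Groth.Agent.Lib.H69AlgSp.repWith_mono
      (fun _ _ g (_ : IsOpenImmersion g) => (inferInstance : Flat g)) ha
  have hafp : RepWith @LocallyOfFinitePresentation a :=
    Groth.Agent.Lib.H69AlgSp.repWith_mono
      (fun _ _ g (_ : IsOpenImmersion g) => (inferInstance : LocallyOfFinitePresentation g)) ha
  have hffl : RepWith @Flat f.hom := Groth.Agent.Lib.H69AlgSp.repWith_mono finLocFree_le_flat hf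
  have hffp : RepWith @LocallyOfFinitePresentation f.hom :=
    Groth.Agent.Lib.H69AlgSp.repWith_mono finLocFree_le_lfp hf
  have hcfl : RepWith @Flat (a ≫ f.hom) := MorphismProperty.comp_mem _ _ _ hafl hffl
  have hcfp : RepWith @LocallyOfFinitePresentation (a ≫ f.hom) :=
    MorphismProperty.comp_mem _ _ _ hafp hffp
  -- the relation
  have sq2 := hf.rep.isPullback (a ≫ f.hom)
  have hs2 : IsFinite (hf.rep.snd (a ≫ f.hom)).left := (hf.property_snd (a ≫ f.hom)).1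
  have sq1 := ha.rep.isPullback' (hf.rep.fst (a ≫ f.hom))
  have hι : IsOpenImmersion (ha.rep.snd (hf.rep.fst (a ≫ f.hom))).left :=
    ha.property_snd (hf.rep.fst (a ≫ f.hom))
  have hR : IsPullback ((yon S).map (ha.rep.fst' (hf.rep.fst (a ≫ f.hom))))
      ((yon S).map (ha.rep.snd (hf.rep.fst (a ≫ f.hom)) ≫ hf.rep.snd (a ≫ f.hom)))
      (a ≫ f.hom) (a ≫ f.hom) := by
    have := sq1.paste_vert sq2
    rwa [← Functor.map_comp] at this
  -- the invariant open
  let U₀ : U.left.Opens := ⟨Points.ofPt (a ≫ f.hom) ⁻¹' Y₀,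
    (Points.continuous_ofPt _).isOpen_preimage _ hY₀o⟩
  have hinv : (ha.rep.snd (hf.rep.fst (a ≫ f.hom)) ≫ hf.rep.snd (a ≫ f.hom)).left ⁻¹ᵁ U₀ =
      (ha.rep.fst' (hf.rep.fst (a ≫ f.hom))).left ⁻¹ᵁ U₀ := by
    ext r
    change Points.ofPt (a ≫ f.hom) _ ∈ Y₀ ↔ Points.ofPt (a ≫ f.hom) _ ∈ Y₀
    rw [← ofPt_yon_map_comp, ← ofPt_yon_map_comp (ha.rep.fst' (hf.rep.fst (a ≫ f.hom))), hR.w]
  -- over `U₀` the relation is finite
  have hsurjι : Surjective ((ha.rep.snd (hf.rep.fst (a ≫ f.hom))).left ∣_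
      ((hf.rep.snd (a ≫ f.hom)).left ⁻¹ᵁ U₀)) := by
    constructor
    rintro ⟨z, hz⟩
    have hz' : Points.ofPt (a ≫ f.hom) ((hf.rep.snd (a ≫ f.hom)).left z) ∈ Y₀ := hz
    rw [← ofPt_yon_map_comp, ← sq2.w, ← Points.map_ofPt] at hz'
    obtain ⟨u, hu⟩ := hY₀ _ hz'
    obtain ⟨w, -, hw⟩ :=
      Groth.Agent.Lib.H86CartierChart2.exists_scheme_point_of_isPullback sq1 u z hu
    refine ⟨⟨w, ?_⟩, ?_⟩
    · change (ha.rep.snd (hf.rep.fst (a ≫ f.hom))).left w ∈
        ((hf.rep.snd (a ≫ f.hom)).left ⁻¹ᵁ U₀)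
      rw [hw]
      exact hz
    · apply Subtype.ext
      rw [morphismRestrict_base]
      exact hw
  have hisoι : IsIso ((ha.rep.snd (hf.rep.fst (a ≫ f.hom))).left ∣_
      ((hf.rep.snd (a ≫ f.hom)).left ⁻¹ᵁ U₀)) :=
    (isIso_iff_isOpenImmersion_and_surjective _).2 ⟨inferInstance, hsurjι⟩
  have hfinU₀ : IsFinite ((ha.rep.snd (hf.rep.fst (a ≫ f.hom)) ≫
      hf.rep.snd (a ≫ f.hom)).left ∣_ U₀) := by
    rw [Over.comp_left, morphismRestrict_comp]
    have h1 : IsFinite ((hf.rep.snd (a ≫ f.hom)).left ∣_ U₀) := inferInstance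
    have h2 : IsFinite ((ha.rep.snd (hf.rep.fst (a ≫ f.hom))).left ∣_
      ((hf.rep.snd (a ≫ f.hom)).left ⁻¹ᵁ U₀)) := inferInstance
    exact MorphismProperty.comp_mem @IsFinite _ _ h2 h1
  have hR₀ := isPullback_restrict hR U₀
  have hfin₀ : IsFinite (sW (ha.rep.snd (hf.rep.fst (a ≫ f.hom)) ≫ hf.rep.snd (a ≫ f.hom))
      (ha.rep.fst' (hf.rep.fst (a ≫ f.hom))) U₀).left := isFinite_sW le_rfl hfinU₀ hinv
  have hj1 : RepWith @Flat ((yon S).map (restrictOverι U U₀)) :=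
    (AlgSp.repWith_yon_map_iff _ _).2 (inferInstance : Flat U₀.ι)
  have hj2 : RepWith @LocallyOfFinitePresentation ((yon S).map (restrictOverι U U₀)) :=
    (AlgSp.repWith_yon_map_iff _ _).2 (inferInstance : LocallyOfFinitePresentation U₀.ι)
  have hc₀fl : RepWith @Flat ((yon S).map (restrictOverι U U₀) ≫ a ≫ f.hom) :=
    MorphismProperty.comp_mem _ _ _ hj1 hcfl
  have hc₀fp : RepWith @LocallyOfFinitePresentation
      ((yon S).map (restrictOverι U U₀) ≫ a ≫ f.hom) :=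
    MorphismProperty.comp_mem _ _ _ hj2 hcfp
  -- a point over `y`
  obtain ⟨x₀, hx₀⟩ := Groth.Agent.Lib.AlgSpQC.surjective_map_of_repWith_surjective hs y
  obtain ⟨u₀, hu₀⟩ := hfib (show x₀ ∈ Points.map f.hom ⁻¹' {y} from hx₀)
  have hcu₀ : Points.ofPt (a ≫ f.hom) u₀ = y := by
    rw [← Points.map_ofPt, hu₀, hx₀]
  have hu₀U₀ : u₀ ∈ U₀ := by
    change Points.ofPt (a ≫ f.hom) u₀ ∈ Y₀
    rw [hcu₀]
    exact hyY₀
  obtain ⟨M, g, hM, hg, hmem⟩ := exists_affine_open_of_finite_rel_fppf Y _ hc₀fl hc₀fp hR₀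
    U₀.ι (⟨u₀, hu₀U₀⟩ : ↥U₀)
  refine ⟨M, g, hM, hg, ?_⟩
  rw [ofPt_yon_map_comp] at hmem
  have e : (restrictOverι U U₀).left (⟨u₀, hu₀U₀⟩ : ↥U₀) = u₀ := rfl
  rw [e, hcu₀] at hmem
  exact hmem

end Groth.Agent.Lib.FinEtQuot46
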