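import Mathlib

/-!
# Transporting a finite modification along an isomorphism of infinitesimal neighbourhoods (helper76)

`A' ⊆ A` finite, `f ∈ A'` a nonzerodivisor on `A` with `A'_f = A_f`.  Then `f^c A ⊆ A'` for some `c`,
and for `n ≥ 2c+1`, any ring `B'` with a nonzerodivisor `g` and an isomorphism
`A'/f^n ≃ B'/g^n` (`f ↦ g`) carries a finite extension `B' ⊆ B ⊆ B'_g` with `A/fA ≃ B/gB`.
-/

set_option autoImplicit false
universe u

namespace Groth.Agent.Lib.FinModif76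

open Function

theorem mk_eq_mk_iff {R : Type*} [CommRing R] (y a b : R) :
    Ideal.Quotient.mk (Ideal.span {y}) a = Ideal.Quotient.mk (Ideal.span {y}) b ↔
      ∃ t, a = b + y * t := by
  rw [Ideal.Quotient.eq, Ideal.mem_span_singleton']
  constructor
  · rintro ⟨t, ht⟩
    exact ⟨t, by rw [mul_comm, ht]; ring⟩
  · rintro ⟨t, ht⟩
    exact ⟨t, by rw [ht]; ring⟩

section Aside

variable {A' A : Type u} [CommRing A'] [CommRing A] [Algebra A' A]

theorem exists_pow_mul_eq (f : A') (hf : algebraMap A' A f ∈ nonZeroDivisors A)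
    (hloc : Surjective (IsLocalization.Away.map (Localization.Away f)
      (Localization.Away (algebraMap A' A f)) (algebraMap A' A) f)) (a : A) :
    ∃ (k : ℕ) (x : A'), algebraMap A' A x = (algebraMap A' A f) ^ k * a := by
  obtain ⟨y, hy⟩ := hloc (algebraMap A (Localization.Away (algebraMap A' A f)) a)
  obtain ⟨⟨x₀, s⟩, rfl⟩ := IsLocalization.mk'_surjective (Submonoid.powers f) y
  obtain ⟨s, k, rfl⟩ := s
  refine ⟨k, x₀, ?_⟩
  simp only [IsLocalization.Away.map, IsLocalization.map_mk'] at hy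
  rw [IsLocalization.mk'_eq_iff_eq_mul, ← map_mul] at hy
  have hle : Submonoid.powers (algebraMap A' A f) ≤ nonZeroDivisors A :=
    Submonoid.powers_le.mpr hf
  have := IsLocalization.injective (Localization.Away (algebraMap A' A f)) hle hy
  rw [this]
  simp [mul_comm]

theorem exists_uniform_pow [Module.Finite A' A] (f : A')
    (hf : algebraMap A' A f ∈ nonZeroDivisors A)
    (hloc : Surjective (IsLocalization.Away.map (Localization.Away f)
      (Localization.Away (algebraMap A' A f)) (algebraMap A' A) f)) :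
    ∃ c : ℕ, ∀ a : A, ∃ x : A', algebraMap A' A x = (algebraMap A' A f) ^ c * a := by
  classical
  obtain ⟨S, hS⟩ := (Module.Finite.fg_top : (⊤ : Submodule A' A).FG)
  choose k x hx using exists_pow_mul_eq f hf hloc
  refine ⟨S.sup k, fun a => ?_⟩
  have ha : a ∈ Submodule.span A' (S : Set A) := hS ▸ Submodule.mem_top
  induction ha using Submodule.span_induction with
  | mem a ha =>
    refine ⟨f ^ (S.sup k - k a) * x a, ?_⟩
    rw [map_mul, map_pow, hx, ← mul_assoc, ← pow_add, Nat.sub_add_cancel (Finset.le_sup ha)]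
  | zero => exact ⟨0, by simp⟩
  | add a b _ _ ha hb =>
    obtain ⟨xa, hxa⟩ := ha
    obtain ⟨xb, hxb⟩ := hb
    exact ⟨xa + xb, by rw [map_add, hxa, hxb, mul_add]⟩
  | smul r a _ ha =>
    obtain ⟨xa, hxa⟩ := ha
    exact ⟨r * xa, by rw [map_mul, hxa, Algebra.smul_def]; ring⟩

end Aside


/-- The data of the transport problem. -/
structure Setup (A' A B' : Type u) [CommRing A'] [CommRing A] [Algebra A' A] [CommRing B'] where
  f : A'
  g : B'
  c : ℕ
  n : ℕ
  hinj : Injective (algebraMap A' A)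
  hf : algebraMap A' A f ∈ nonZeroDivisors A
  hc : ∀ a : A, ∃ x : A', algebraMap A' A x = (algebraMap A' A f) ^ c * a
  hn : 2 * c + 1 ≤ n
  hg : g ∈ nonZeroDivisors B'
  φ' : (A' ⧸ Ideal.span {f ^ n}) ≃+* (B' ⧸ Ideal.span {g ^ n})
  hφ' : φ' (Ideal.Quotient.mk _ f) = Ideal.Quotient.mk _ g

namespace Setup

variable {A' A B' : Type u} [CommRing A'] [CommRing A] [Algebra A' A] [CommRing B']
  (D : Setup A' A B')

/-- `x ∈ A'` and `b ∈ B'` correspond under `φ'`. -/
def Rel (x : A') (b : B') : Prop :=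
  D.φ' (Ideal.Quotient.mk _ x) = Ideal.Quotient.mk _ b

theorem rel_exists_right (x : A') : ∃ b, D.Rel x b := by
  obtain ⟨b, hb⟩ := Ideal.Quotient.mk_surjective (D.φ' (Ideal.Quotient.mk _ x))
  exact ⟨b, hb.symm⟩

theorem rel_exists_left (b : B') : ∃ x, D.Rel x b := by
  obtain ⟨x, hx⟩ := Ideal.Quotient.mk_surjective (D.φ'.symm (Ideal.Quotient.mk _ b))
  exact ⟨x, by rw [Rel, hx, RingEquiv.apply_symm_apply]⟩

theorem rel_zero : D.Rel 0 0 := by simp [Rel]
theorem rel_one : D.Rel 1 1 := by simp [Rel]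
theorem rel_fg : D.Rel D.f D.g := D.hφ'

variable {D}

theorem Rel.add {x y : A'} {b d : B'} (h₁ : D.Rel x b) (h₂ : D.Rel y d) : D.Rel (x + y) (b + d) := by
  unfold Rel at *
  rw [map_add, map_add, h₁, h₂, map_add]

theorem Rel.mul {x y : A'} {b d : B'} (h₁ : D.Rel x b) (h₂ : D.Rel y d) : D.Rel (x * y) (b * d) := by
  unfold Rel at *
  rw [map_mul, map_mul, h₁, h₂, map_mul]

theorem Rel.pow {x : A'} {b : B'} (h : D.Rel x b) (m : ℕ) : D.Rel (x ^ m) (b ^ m) := by
  unfold Rel at *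
  rw [map_pow, map_pow, h, map_pow]

theorem Rel.right_unique {x : A'} {b d : B'} (h₁ : D.Rel x b) (h₂ : D.Rel x d) :
    ∃ t, b = d + D.g ^ D.n * t := by
  unfold Rel at *
  exact (mk_eq_mk_iff _ _ _).mp (h₁.symm.trans h₂)

theorem Rel.left_unique {x y : A'} {b : B'} (h₁ : D.Rel x b) (h₂ : D.Rel y b) :
    ∃ u, x = y + D.f ^ D.n * u := by
  unfold Rel at *
  exact (mk_eq_mk_iff _ _ _).mp (D.φ'.injective (h₁.trans h₂.symm))

variable (D)

/-- The localization `B'_g`. -/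
abbrev L : Type u := Localization.Away D.g

/-- The canonical map `B' → B'_g`. -/
abbrev ι : B' →+* D.L := algebraMap B' D.L

theorem ι_injective : Injective D.ι :=
  IsLocalization.injective (Localization.Away D.g) (Submonoid.powers_le.mpr D.hg)

theorem isUnit_ιg : IsUnit (D.ι D.g) :=
  IsLocalization.Away.algebraMap_isUnit D.g

theorem ιg_pow_cancel {m : ℕ} {β γ : D.L} (h : D.ι D.g ^ m * β = D.ι D.g ^ m * γ) : β = γ :=
  (D.isUnit_ιg.pow m).mul_left_cancel h

/-- `F = φ(f)` is a nonzerodivisor on `A`. -/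
theorem F_pow_cancel {m : ℕ} {a a' : A}
    (h : (algebraMap A' A D.f) ^ m * a = (algebraMap A' A D.f) ^ m * a') : a = a' := by
  have hm : (algebraMap A' A D.f) ^ m ∈ nonZeroDivisors A := pow_mem D.hf m
  exact (mul_cancel_left_mem_nonZeroDivisors hm).mp h


/-- `a ∈ A` corresponds to `β ∈ B'_g`: `f^c a = x ∈ A'`, `x ↔ b` under `φ'`, `b = g^c β`. -/
def T (a : A) (β : D.L) : Prop :=
  ∃ (x : A') (b : B'), algebraMap A' A x = (algebraMap A' A D.f) ^ D.c * a ∧ D.Rel x b ∧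
    D.ι b = D.ι D.g ^ D.c * β

variable {D}

theorem T_alg {a' : A'} {b' : B'} (h : D.Rel a' b') : D.T (algebraMap A' A a') (D.ι b') :=
  ⟨D.f ^ D.c * a', D.g ^ D.c * b', by rw [map_mul, map_pow], (D.rel_fg.pow _).mul h,
    by rw [map_mul, map_pow]⟩

theorem T.add {a₁ a₂ : A} {β₁ β₂ : D.L} (h₁ : D.T a₁ β₁) (h₂ : D.T a₂ β₂) :
    D.T (a₁ + a₂) (β₁ + β₂) := by
  obtain ⟨x₁, b₁, hx₁, hr₁, hb₁⟩ := h₁
  obtain ⟨x₂, b₂, hx₂, hr₂, hb₂⟩ := h₂
  exact ⟨x₁ + x₂, b₁ + b₂, by rw [map_add, hx₁, hx₂, mul_add], hr₁.add hr₂,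
    by rw [map_add, hb₁, hb₂, mul_add]⟩

theorem T.smul {r : A'} {s : B'} (hrs : D.Rel r s) {a : A} {β : D.L} (h : D.T a β) :
    D.T (algebraMap A' A r * a) (D.ι s * β) := by
  obtain ⟨x, b, hx, hr, hb⟩ := h
  exact ⟨r * x, s * b, by rw [map_mul, hx]; ring, hrs.mul hr, by rw [map_mul, hb]; ring⟩

variable (D) in
theorem T_exists_right (a : A) : ∃ β, D.T a β := by
  obtain ⟨x, hx⟩ := D.hc a
  obtain ⟨b, hb⟩ := D.rel_exists_right x
  obtain ⟨u, hu⟩ := D.isUnit_ιg.pow D.c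
  refine ⟨↑u⁻¹ * D.ι b, x, b, hx, hb, ?_⟩
  rw [← hu, ← mul_assoc, Units.mul_inv, one_mul]

theorem T.unique_right {a : A} {β β' : D.L} (h : D.T a β) (h' : D.T a β') :
    ∃ t : B', β = β' + D.ι (D.g ^ (D.n - D.c) * t) := by
  obtain ⟨x, b, hx, hr, hb⟩ := h
  obtain ⟨x', b', hx', hr', hb'⟩ := h'
  have hxx : x = x' := D.hinj (hx.trans hx'.symm)
  subst hxx
  obtain ⟨t, ht⟩ := hr.right_unique hr'
  refine ⟨t, D.ιg_pow_cancel (m := D.c) ?_⟩
  have hcn : D.c + (D.n - D.c) = D.n := by have := D.hn; omega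
  rw [← hb, ht, map_add, hb', mul_add, ← map_pow, ← map_mul, ← mul_assoc, ← pow_add, hcn]

theorem T.mul {a₁ a₂ : A} {β₁ β₂ : D.L} (h₁ : D.T a₁ β₁) (h₂ : D.T a₂ β₂) :
    ∃ (u : A') (t : B'), D.Rel u t ∧
      D.T (a₁ * a₂ + algebraMap A' A (D.f ^ (D.n - 2 * D.c) * u)) (β₁ * β₂) := by
  obtain ⟨x₁, b₁, hx₁, hr₁, hb₁⟩ := h₁
  obtain ⟨x₂, b₂, hx₂, hr₂, hb₂⟩ := h₂
  obtain ⟨x₃, hx₃⟩ := D.hc (a₁ * a₂)
  obtain ⟨b₃, hr₃⟩ := D.rel_exists_right x₃
  have h12 : x₁ * x₂ = D.f ^ D.c * x₃ :=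
    D.hinj (by rw [map_mul, map_mul, hx₁, hx₂, map_pow, hx₃]; ring)
  have hr12 : D.Rel (x₁ * x₂) (D.g ^ D.c * b₃) := by
    rw [h12]; exact (D.rel_fg.pow _).mul hr₃
  obtain ⟨t, ht⟩ := (hr₁.mul hr₂).right_unique hr12
  obtain ⟨u, hu⟩ := D.rel_exists_left t
  have hn := D.hn
  have e1 : D.c + (D.n - 2 * D.c) = D.n - D.c := by omega
  have e2 : D.c + (D.n - D.c) = D.n := by omega
  refine ⟨u, t, hu, x₃ + D.f ^ (D.n - D.c) * u, b₃ + D.g ^ (D.n - D.c) * t, ?_,
    hr₃.add ((D.rel_fg.pow _).mul hu), ?_⟩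
  · rw [map_add, hx₃, mul_add, map_mul, map_mul, map_pow, map_pow, ← e1, pow_add]
    ring
  · apply D.ιg_pow_cancel (m := D.c)
    have : D.ι D.g ^ D.c * D.ι (b₃ + D.g ^ (D.n - D.c) * t) = D.ι (b₁ * b₂) := by
      rw [ht, ← map_pow, ← map_mul, mul_add, ← mul_assoc, ← pow_add, e2]
    rw [this, map_mul, hb₁, hb₂]
    ring

theorem T.div {a a'' : A} {γ : D.L} (h : D.T a (D.ι D.g * γ)) (h'' : D.T a'' γ) :
    a ∈ Ideal.span {algebraMap A' A D.f} := by
  obtain ⟨x, b, hx, hr, hb⟩ := h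
  obtain ⟨x'', b'', hx'', hr'', hb''⟩ := h''
  have hbb : b = D.g * b'' := D.ι_injective (by rw [hb, map_mul, hb'']; ring)
  subst hbb
  obtain ⟨u, hu⟩ := hr.left_unique (D.rel_fg.mul hr'')
  have hn := D.hn
  have e1 : D.n = D.c + ((D.n - D.c - 1) + 1) := by omega
  rw [Ideal.mem_span_singleton']
  refine ⟨a'' + (algebraMap A' A D.f) ^ (D.n - D.c - 1) * algebraMap A' A u, ?_⟩
  apply D.F_pow_cancel (m := D.c)
  rw [← hx, hu, map_add, map_mul, map_mul, hx'', map_pow]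
  nth_rewrite 2 [e1]
  rw [pow_add, pow_succ]
  ring


variable (D)

/-- The finite extension `B' ⊆ B ⊆ B'_g`. -/
def Bsub : Subalgebra B' D.L where
  carrier := {β | ∃ a, D.T a β}
  mul_mem' := by
    rintro β₁ β₂ ⟨a₁, h₁⟩ ⟨a₂, h₂⟩
    obtain ⟨u, t, _, h⟩ := h₁.mul h₂
    exact ⟨_, h⟩
  add_mem' := by
    rintro β₁ β₂ ⟨a₁, h₁⟩ ⟨a₂, h₂⟩
    exact ⟨_, h₁.add h₂⟩
  algebraMap_mem' := by
    intro s
    obtain ⟨r, hr⟩ := D.rel_exists_left s
    exact ⟨_, T_alg hr⟩

theorem mem_Bsub {β : D.L} : β ∈ D.Bsub ↔ ∃ a, D.T a β := Iff.rfl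

/-- the generator of the ideal `gB`. -/
abbrev gB : D.Bsub := algebraMap B' D.Bsub D.g

/-- a chosen element of `B` corresponding to `a ∈ A`. -/
noncomputable def β₀ (a : A) : D.Bsub :=
  ⟨Classical.choose (D.T_exists_right a), a, Classical.choose_spec (D.T_exists_right a)⟩

theorem T_β₀ (a : A) : D.T a (D.β₀ a : D.L) := Classical.choose_spec (D.T_exists_right a)

/-- the map `A → B/gB` as a function. -/
noncomputable def θfun (a : A) : D.Bsub ⧸ Ideal.span {D.gB} := Ideal.Quotient.mk _ (D.β₀ a)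

theorem θfun_eq {a : A} {β : D.L} (h : D.T a β) (hβ : β ∈ D.Bsub) :
    D.θfun a = Ideal.Quotient.mk _ ⟨β, hβ⟩ := by
  obtain ⟨t, ht⟩ := (D.T_β₀ a).unique_right h
  unfold θfun
  rw [mk_eq_mk_iff]
  have hn := D.hn
  have e1 : D.n - D.c = (D.n - D.c - 1) + 1 := by omega
  refine ⟨algebraMap B' D.Bsub (D.g ^ (D.n - D.c - 1) * t), Subtype.ext ?_⟩
  rw [Subalgebra.coe_add, Subalgebra.coe_mul, Subalgebra.coe_algebraMap, Subalgebra.coe_algebraMap,
    ht, ← map_mul]
  congr 2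
  nth_rewrite 1 [e1]
  rw [pow_succ]
  ring

theorem θfun_alg {a' : A'} {b' : B'} (h : D.Rel a' b') :
    D.θfun (algebraMap A' A a') = Ideal.Quotient.mk _ (algebraMap B' D.Bsub b') :=
  D.θfun_eq (T_alg h) (D.Bsub.algebraMap_mem b')

theorem θfun_add (a₁ a₂ : A) : D.θfun (a₁ + a₂) = D.θfun a₁ + D.θfun a₂ := by
  rw [D.θfun_eq ((D.T_β₀ a₁).add (D.T_β₀ a₂)) (D.Bsub.add_mem (D.β₀ a₁).2 (D.β₀ a₂).2)]
  rfl

theorem mk_algebraMap_pow_eq_zero {m : ℕ} (hm : 1 ≤ m) (t : B') :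
    Ideal.Quotient.mk (Ideal.span {D.gB}) (algebraMap B' D.Bsub (D.g ^ m * t)) = 0 := by
  rw [Ideal.Quotient.eq_zero_iff_mem, Ideal.mem_span_singleton']
  refine ⟨algebraMap B' D.Bsub (D.g ^ (m - 1) * t), ?_⟩
  rw [← map_mul]
  congr 1
  have e1 : m = (m - 1) + 1 := by omega
  nth_rewrite 2 [e1]
  rw [pow_succ]
  ring

theorem θfun_mul (a₁ a₂ : A) : D.θfun (a₁ * a₂) = D.θfun a₁ * D.θfun a₂ := by
  obtain ⟨u, t, hut, h⟩ := (D.T_β₀ a₁).mul (D.T_β₀ a₂)
  have h1 := D.θfun_eq h (D.Bsub.mul_mem (D.β₀ a₁).2 (D.β₀ a₂).2)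
  have hn := D.hn
  rw [θfun_add, D.θfun_alg ((D.rel_fg.pow _).mul hut),
    D.mk_algebraMap_pow_eq_zero (by omega) t, add_zero] at h1
  rw [h1]
  rfl

/-- the ring homomorphism `A → B/gB`. -/
noncomputable def θ : A →+* D.Bsub ⧸ Ideal.span {D.gB} where
  toFun := D.θfun
  map_one' := by
    have := D.θfun_alg D.rel_one
    simpa using this
  map_mul' := D.θfun_mul
  map_zero' := by
    have := D.θfun_alg D.rel_zero
    simpa using this
  map_add' := D.θfun_add

theorem θ_apply (a : A) : D.θ a = D.θfun a := rfl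

theorem θ_eq_zero_iff (a : A) : D.θ a = 0 ↔ a ∈ Ideal.span {algebraMap A' A D.f} := by
  constructor
  · intro h
    change Ideal.Quotient.mk _ (D.β₀ a) = 0 at h
    rw [Ideal.Quotient.eq_zero_iff_mem, Ideal.mem_span_singleton'] at h
    obtain ⟨γ, hγ⟩ := h
    obtain ⟨a'', ha''⟩ := γ.2
    have hT := D.T_β₀ a
    rw [← hγ, Subalgebra.coe_mul, Subalgebra.coe_algebraMap, mul_comm] at hT
    exact T.div hT ha''
  · intro h
    rw [Ideal.mem_span_singleton'] at h
    obtain ⟨a', rfl⟩ := h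
    rw [map_mul]
    have : D.θ (algebraMap A' A D.f) = 0 := by
      rw [θ_apply, D.θfun_alg D.rel_fg, Ideal.Quotient.eq_zero_iff_mem]
      exact Ideal.mem_span_singleton_self _
    rw [this, mul_zero]

theorem θ_surjective : Surjective D.θ := by
  intro q
  obtain ⟨β, rfl⟩ := Ideal.Quotient.mk_surjective q
  obtain ⟨a, ha⟩ := β.2
  exact ⟨a, D.θfun_eq ha β.2⟩

/-- the isomorphism `A/fA ≃ B/gB`. -/
noncomputable def iso :
    (A ⧸ Ideal.span {algebraMap A' A D.f}) ≃+* (D.Bsub ⧸ Ideal.span {D.gB}) :=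
  RingEquiv.ofBijective
    (Ideal.Quotient.lift _ D.θ (fun a ha => (D.θ_eq_zero_iff a).mpr ha))
    ⟨by
      rw [injective_iff_map_eq_zero]
      intro q hq
      obtain ⟨a, rfl⟩ := Ideal.Quotient.mk_surjective q
      rw [Ideal.Quotient.lift_mk] at hq
      exact Ideal.Quotient.eq_zero_iff_mem.mpr ((D.θ_eq_zero_iff a).mp hq),
    by
      intro q
      obtain ⟨a, rfl⟩ := D.θ_surjective q
      exact ⟨Ideal.Quotient.mk _ a, Ideal.Quotient.lift_mk _ _ _⟩⟩

theorem iso_mk_alg {a' : A'} {b' : B'} (h : D.Rel a' b') :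
    D.iso (Ideal.Quotient.mk _ (algebraMap A' A a')) =
      Ideal.Quotient.mk _ (algebraMap B' D.Bsub b') :=
  D.θfun_alg h

theorem algebraMap_Bsub_injective : Injective (algebraMap B' D.Bsub) := by
  intro b b' h
  apply D.ι_injective
  have := congrArg (fun z : D.Bsub => (z : D.L)) h
  simpa using this


theorem finite_Bsub [Module.Finite A' A] : Module.Finite B' D.Bsub := by
  classical
  obtain ⟨S, hS⟩ := (Module.Finite.fg_top : (⊤ : Submodule A' A).FG)
  let SB : Finset D.L := insert (D.ι (D.g ^ (D.n - D.c))) (S.image fun a => (D.β₀ a : D.L))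
  have hg_mem : D.ι (D.g ^ (D.n - D.c)) ∈ Submodule.span B' (SB : Set D.L) :=
    Submodule.subset_span (by simp [SB])
  have hgt : ∀ t : B', D.ι (D.g ^ (D.n - D.c) * t) ∈ Submodule.span B' (SB : Set D.L) := by
    intro t
    have : D.ι (D.g ^ (D.n - D.c) * t) = t • D.ι (D.g ^ (D.n - D.c)) := by
      rw [Algebra.smul_def, mul_comm, map_mul]
    rw [this]
    exact Submodule.smul_mem _ _ hg_mem
  have key : ∀ a : A, ∀ β, D.T a β → β ∈ Submodule.span B' (SB : Set D.L) := by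
    intro a
    have ha : a ∈ Submodule.span A' (S : Set A) := hS ▸ Submodule.mem_top
    induction ha using Submodule.span_induction with
    | mem a ha =>
      intro β hβ
      obtain ⟨t, ht⟩ := hβ.unique_right (D.T_β₀ a)
      rw [ht]
      refine Submodule.add_mem _ (Submodule.subset_span ?_) (hgt t)
      simp only [SB, Finset.coe_insert, Finset.coe_image, Set.mem_insert_iff, Set.mem_image,
        Finset.mem_coe]
      exact Or.inr ⟨a, ha, rfl⟩
    | zero =>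
      intro β hβ
      have h0 : D.T (0 : A) (0 : D.L) := by simpa using T_alg D.rel_zero
      obtain ⟨t, ht⟩ := hβ.unique_right h0
      rw [ht, zero_add]
      exact hgt t
    | add a a' _ _ iha iha' =>
      intro β hβ
      obtain ⟨β₁, h₁⟩ := D.T_exists_right a
      obtain ⟨β₂, h₂⟩ := D.T_exists_right a'
      obtain ⟨t, ht⟩ := hβ.unique_right (h₁.add h₂)
      rw [ht]
      exact add_mem (add_mem (iha _ h₁) (iha' _ h₂)) (hgt t)
    | smul r a _ iha =>
      intro β hβ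
      obtain ⟨β₁, h₁⟩ := D.T_exists_right a
      obtain ⟨s, hs⟩ := D.rel_exists_right r
      have h2 := T.smul hs h₁
      rw [← Algebra.smul_def] at h2
      obtain ⟨t, ht⟩ := hβ.unique_right h2
      rw [ht]
      refine add_mem ?_ (hgt t)
      have : D.ι s * β₁ = s • β₁ := by rw [Algebra.smul_def]
      rw [this]
      exact Submodule.smul_mem _ _ (iha _ h₁)
  have heq : Subalgebra.toSubmodule D.Bsub = Submodule.span B' (SB : Set D.L) := by
    apply le_antisymm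
    · rintro β ⟨a, ha⟩
      exact key a β ha
    · rw [Submodule.span_le]
      intro β hβ
      simp only [SB, Finset.coe_insert, Finset.coe_image, Set.mem_insert_iff, Set.mem_image,
        Finset.mem_coe] at hβ
      rcases hβ with rfl | ⟨a, _, rfl⟩
      · exact D.Bsub.algebraMap_mem _
      · exact (D.β₀ a).2
  have hfg : (Subalgebra.toSubmodule D.Bsub).FG := heq ▸ ⟨SB, rfl⟩
  have : Module.Finite B' (Subalgebra.toSubmodule D.Bsub) := Module.Finite.iff_fg.mpr hfg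
  exact Module.Finite.equiv (Subalgebra.toSubmoduleEquiv D.Bsub)

end Setup

/-- **Main theorem**: transport of a finite modification along `A'/f^n ≃ B'/g^n`. -/
theorem exists_finite_extension_lifting_quotient_iso (A' A : Type u) [CommRing A'] [CommRing A]
    [Algebra A' A] (hinj : Injective (algebraMap A' A)) [Module.Finite A' A] (f : A')
    (hf : algebraMap A' A f ∈ nonZeroDivisors A)
    (hloc : Surjective (IsLocalization.Away.map (Localization.Away f)
      (Localization.Away (algebraMap A' A f)) (algebraMap A' A) f)) :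
    ∃ n₀ : ℕ, 0 < n₀ ∧ ∀ n : ℕ, n₀ ≤ n →
      ∀ (B' : Type u) [CommRing B'] (g : B'), g ∈ nonZeroDivisors B' →
        ∀ φ' : (A' ⧸ Ideal.span {f ^ n}) ≃+* (B' ⧸ Ideal.span {g ^ n}),
        φ' (Ideal.Quotient.mk (Ideal.span {f ^ n}) f) = Ideal.Quotient.mk (Ideal.span {g ^ n}) g →
        ∃ (B : Type u) (_ : CommRing B) (_ : Algebra B' B),
          Function.Injective (algebraMap B' B) ∧ Module.Finite B' B ∧
          ∃ φ : (A ⧸ Ideal.span {algebraMap A' A f}) ≃+* (B ⧸ Ideal.span {algebraMap B' B g}),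
            ∀ (a' : A') (b' : B'),
              φ' (Ideal.Quotient.mk (Ideal.span {f ^ n}) a') =
                  Ideal.Quotient.mk (Ideal.span {g ^ n}) b' →
              φ (Ideal.Quotient.mk (Ideal.span {algebraMap A' A f}) (algebraMap A' A a')) =
                Ideal.Quotient.mk (Ideal.span {algebraMap B' B g}) (algebraMap B' B b') := by
  obtain ⟨c, hc⟩ := exists_uniform_pow f hf hloc
  refine ⟨2 * c + 1, by omega, fun n hn B' _ g hg φ' hφ' => ?_⟩
  let D : Setup A' A B' := ⟨f, g, c, n, hinj, hf, hc, hn, hg, φ', hφ'⟩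
  exact ⟨D.Bsub, inferInstance, inferInstance, D.algebraMap_Bsub_injective, D.finite_Bsub,
    D.iso, fun a' b' h => D.iso_mk_alg h⟩

end Groth.Agent.Lib.FinModif76
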