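import Groth.Agent.Lib.InvGlue42
import Groth.Agent.Lib.ModIsoGlueH3
import Groth.Agent.Lib.H78PullSec
import Groth.Agent.Lib.SemilocalFree
import Mathlib.AlgebraicGeometry.Morphisms.QuasiFinite

/-!
# helper42: descending invertible modules along a modification (namespace `Groth.Agent.Lib.FinModifPic42`)

* `exists_descent_of_atlas`: `f : X ⟶ Y`, `V ⊆ Y` open with `f.app W` bijective for `W ≤ V`, an open cover `W i` of
  `Y` whose pairwise intersections (for `i ≠ j`) lie in `V`, and free generators of `L` over the `f⁻¹(W i)`: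
  then `L ≅ f^* N` for an invertible `N` on `Y` (glued from the descended cocycle, `InvGlue42`).
* `exists_nhd_gen`: for `f` finite and `L` invertible on `X`, every `y : Y` has an open neighbourhood `W` with
  `L` free over `f⁻¹ W`.
* `exists_descent`: `f` finite, iso over `V`, `Y ∖ V` discrete: every invertible module on `X` is a pullback.
-/

set_option autoImplicit false
universe u
open CategoryTheory CategoryTheory.Limits AlgebraicGeometry TopologicalSpace Opposite
open Groth.Agent.Lib.H90Invertible Groth.Agent.Lib.H78TensorGen Groth.Agent.Lib.H78SecCoord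
open Groth.Agent.Lib.H78Atlas Groth.Agent.Lib.InvGlue42 Groth.Agent.Lib.H78PullSec

namespace Groth.Agent.Lib.FinModifPic42

variable {X Y : Scheme.{u}}

lemma app_rf (f : X ⟶ Y) {V W : Y.Opens} (h : W ≤ V) (a : Γ(Y, V)) :
    f.app W (rf h a) = rf (f.preimage_mono h) (f.app V a) := by
  have := f.naturality (homOfLE h).op
  exact congrArg (fun φ => φ.hom a) this

section Descent

variable (f : X ⟶ Y) (V : Y.Opens) (hV : ∀ W : Y.Opens, W ≤ V → Function.Bijective (f.app W))
  {ι : Type u} (W : ι → Y.Opens) (hpair : ∀ i j, i ≠ j → W i ⊓ W j ≤ V)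
  (L : X.Modules) (e : ∀ i, Γ(L, f ⁻¹ᵁ W i)) (he : ∀ i, IsGen L (f ⁻¹ᵁ W i) (e i))

/-- the transition functions upstairs: `e i = u i j • e j` on `f⁻¹(W i ⊓ W j)` -/
noncomputable def u (i j : ι) : Γ(X, f ⁻¹ᵁ (W i ⊓ W j)) :=
  coord (he j) (f.preimage_mono inf_le_right) (rs L (f.preimage_mono inf_le_left) (e i))

lemma u_spec (i j : ι) :
    u f W L e he i j • rs L (f.preimage_mono (inf_le_right : W i ⊓ W j ≤ W j)) (e j) =
      rs L (f.preimage_mono (inf_le_left : W i ⊓ W j ≤ W i)) (e i) :=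
  coord_spec (he j) _ _

lemma u_spec' (i j : ι) {T : X.Opens} (hT : T ≤ f ⁻¹ᵁ (W i ⊓ W j)) :
    rf hT (u f W L e he i j) • rs L (hT.trans (f.preimage_mono inf_le_right)) (e j) =
      rs L (hT.trans (f.preimage_mono inf_le_left)) (e i) := by
  have := congrArg (rs L hT) (u_spec f W L e he i j)
  rwa [rs_smul, rs_rs, rs_rs] at this

lemma u_self (i : ι) : u f W L e he i i = 1 :=
  (coord_unique (he i) _ (one_smul _ _)).symm

lemma u_cocycle (i j k : ι) {T : X.Opens} (hik : T ≤ f ⁻¹ᵁ (W i ⊓ W k)) (hij : T ≤ f ⁻¹ᵁ (W i ⊓ W j))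
    (hjk : T ≤ f ⁻¹ᵁ (W j ⊓ W k)) :
    rf hik (u f W L e he i k) = rf hij (u f W L e he i j) * rf hjk (u f W L e he j k) := by
  have h1 := u_spec' f W L e he i k hik
  have h2 := u_spec' f W L e he i j hij
  have h3 := u_spec' f W L e he j k hjk
  have hTk : T ≤ f ⁻¹ᵁ W k := hik.trans (f.preimage_mono inf_le_right)
  refine ((he k).mono hTk T le_rfl).1 ?_
  change rf hik _ • rs L le_rfl (rs L hTk (e k)) = (rf hij _ * rf hjk _) • rs L le_rfl (rs L hTk (e k))
  rw [rs_self, mul_smul]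
  exact h1.trans (h2.symm.trans (by rw [← h3]))

open Classical in
/-- the descended transition functions -/
noncomputable def eta (i j : ι) : Γ(Y, W i ⊓ W j) :=
  if h : W i ⊓ W j ≤ V then (Equiv.ofBijective _ (hV _ h)).symm (u f W L e he i j) else 1

include hpair in
lemma app_eta (i j : ι) : f.app (W i ⊓ W j) (eta f V hV W L e he i j) = u f W L e he i j := by
  unfold eta
  split_ifs with h
  · exact (Equiv.ofBijective _ (hV _ h)).apply_symm_apply _
  · have hij : i = j := by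
      by_contra hne
      exact h (hpair i j hne)
    subst hij
    rw [map_one, u_self]

lemma eta_self (i : ι) : eta f V hV W L e he i i = 1 := by
  unfold eta
  split_ifs with h
  · rw [Equiv.symm_apply_eq, u_self]
    exact (map_one (f.app (W i ⊓ W i)).hom).symm
  · rfl

include hpair in
lemma eta_cocycle (i j k : ι) :
    rf (inf_le_inf_right (W k) inf_le_left : W i ⊓ W j ⊓ W k ≤ W i ⊓ W k) (eta f V hV W L e he i k) =
      rf (inf_le_left : W i ⊓ W j ⊓ W k ≤ W i ⊓ W j) (eta f V hV W L e he i j) *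
        rf (inf_le_inf_right (W k) inf_le_right : W i ⊓ W j ⊓ W k ≤ W j ⊓ W k) (eta f V hV W L e he j k) := by
  by_cases hT : W i ⊓ W j ⊓ W k ≤ V
  · apply (hV _ hT).1
    rw [map_mul, app_rf, app_rf, app_rf, app_eta f V hV W hpair, app_eta f V hV W hpair,
      app_eta f V hV W hpair]
    exact u_cocycle f W L e he i j k _ _ _
  · have hij : i = j := by
      by_contra hne
      exact hT (inf_le_left.trans (hpair i j hne))
    have hjk : j = k := by
      by_contra hne
      exact hT ((inf_le_inf_right (W k) inf_le_right).trans (hpair j k hne))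
    subst hij hjk
    rw [eta_self, rf_one, mul_one]

include hV hpair he in
/-- **Descent of an invertible module with a compatible atlas.** -/
theorem exists_descent_of_atlas (hW : ⨆ i, W i = ⊤) :
    ∃ N : Y.Modules, PicF.IsInvertible N ∧ Nonempty ((Scheme.Modules.pullback f).obj N ≅ L) := by
  have hc := eta_cocycle f V hV W hpair L e he
  have h1 := eta_self f V hV W L e he
  let N : Y.Modules := glue W (eta f V hV W L e he)
  refine ⟨N, isInvertible_glue hc hW h1, ?_⟩
  let t : ∀ i, Γ((Scheme.Modules.pullback f).obj N, f ⁻¹ᵁ W i) := fun i => pb f N (gen hc i)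
  have ht : ∀ i, IsGen ((Scheme.Modules.pullback f).obj N) (f ⁻¹ᵁ W i) (t i) := fun i =>
    isGen_pb f (isGen_gen hc h1 i)
  have hsw : ∀ i j, f ⁻¹ᵁ W i ⊓ f ⁻¹ᵁ W j ≤ f ⁻¹ᵁ (W j ⊓ W i) := fun i j x hx => ⟨hx.2, hx.1⟩
  have hcov : ⨆ i, f ⁻¹ᵁ W i = ⊤ := by
    rw [eq_top_iff]
    intro x _
    have hx : f x ∈ ⨆ i, W i := by rw [hW]; trivial
    obtain ⟨i, hi⟩ := Opens.mem_iSup.mp hx
    exact Opens.mem_iSup.mpr ⟨i, hi⟩
  obtain ⟨φ, -⟩ := Groth.Agent.Lib.ModIsoGlueH3.exists_iso_of_atlas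
    (L' := (Scheme.Modules.pullback f).obj N) (L := L) (U := fun i => f ⁻¹ᵁ W i)
    (t := t) ht (e := e) he (g := fun i j => rf (hsw i j) (u f W L e he j i))
    (fun i j => by
      have h0 := gen_transition hc j i
      have h2 := congrArg (pb f N) h0
      rw [pb_rs, pb_smul, pb_rs, app_eta f V hV W hpair] at h2
      have h3 := congrArg (rs ((Scheme.Modules.pullback f).obj N) (hsw i j)) h2
      rw [rs_rs, rs_smul, rs_rs] at h3
      exact h3)
    (fun i j => (u_spec' f W L e he j i (hsw i j)).symm)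
    hcov
  exact ⟨φ⟩

end Descent

set_option backward.isDefEq.respectTransparency false in
/-- if `f` is an isomorphism over `V` then `f.app W` is bijective for `W ≤ V` -/
theorem bijective_app_of_isIso_morphismRestrict (f : X ⟶ Y) (V : Y.Opens) [IsIso (f ∣_ V)]
    (W : Y.Opens) (hW : W ≤ V) : Function.Bijective (f.app W) := by
  have hW' : V.ι ''ᵁ (V.ι ⁻¹ᵁ W) = W := by
    rw [Scheme.Hom.image_preimage_eq_opensRange_inf, Scheme.Opens.opensRange_ι]
    exact inf_eq_right.mpr hW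
  have h1 := morphismRestrict_app f V (V.ι ⁻¹ᵁ W)
  have h2 : IsIso (f.app (V.ι ''ᵁ (V.ι ⁻¹ᵁ W))) := by
    have : IsIso (f.app (V.ι ''ᵁ (V.ι ⁻¹ᵁ W)) ≫
        X.presheaf.map (eqToHom (image_morphismRestrict_preimage f V (V.ι ⁻¹ᵁ W))).op) := by
      rw [← h1]; infer_instance
    exact IsIso.of_isIso_comp_right _
      (X.presheaf.map (eqToHom (image_morphismRestrict_preimage f V (V.ι ⁻¹ᵁ W))).op)
  rw [hW'] at h2
  exact (ConcreteCategory.isIso_iff_bijective (f.app W)).mp h2

/-- for `f` finite and `L` invertible, `L` is free over the preimage of a neighbourhood of any point -/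
theorem exists_nhd_gen (f : X ⟶ Y) [IsFinite f] (L : X.Modules) (hL : PicF.IsInvertible L) (y : Y) :
    ∃ W : Y.Opens, y ∈ W ∧ ∃ e : Γ(L, f ⁻¹ᵁ W), IsGen L (f ⁻¹ᵁ W) e := by
  obtain ⟨V0, hV0, hyV0, -⟩ := Opens.isBasis_iff_nbhd.1 Y.isBasis_affineOpens
    (show y ∈ (⊤ : Y.Opens) from trivial)
  have haff : IsAffineOpen (f ⁻¹ᵁ V0) := hV0.preimage f
  have hL1 := (isInvertible_iff_isFinLocFreeOfRank_one L).1 hL
  have hZ : (f ⁻¹' {y}).Finite := f.finite_preimage_singleton y
  obtain ⟨U', hZU, -, ⟨iso⟩⟩ := Groth.Agent.Lib.SemilocalFree.exists_open_free_of_finite 1 L hL1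
    (f ⁻¹' {y}) hZ (f ⁻¹ᵁ V0) haff (fun x hx => by
      have : f x = y := hx
      change f x ∈ V0
      rw [this]; exact hyV0)
  obtain ⟨s, hs⟩ := (nonempty_restrict_ι_iso_iff L U').1 ⟨iso ≪≫ freeModOneIso _⟩
  have hcl : IsClosed (f '' ((U' : Set X)ᶜ)) := f.isClosedMap _ U'.isOpen.isClosed_compl
  let W : Y.Opens := ⟨(f '' ((U' : Set X)ᶜ))ᶜ, hcl.isOpen_compl⟩
  have hyW : y ∈ W := by
    rintro ⟨x, hx, hxy⟩
    exact hx (hZU hxy)
  have hWU : f ⁻¹ᵁ W ≤ U' := fun x hx => by
    by_contra hxU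
    exact hx ⟨x, hxU, rfl⟩
  exact ⟨W, hyW, rs L hWU s, hs.mono hWU⟩

/-- **Invertible modules descend along a finite modification with discrete centre.** -/
theorem exists_descent (f : X ⟶ Y) [IsFinite f] (V : Y.Opens) (hV : IsIso (f ∣_ V))
    (hdisc : DiscreteTopology ((V : Set Y)ᶜ : Set Y)) (L : X.Modules) (hL : PicF.IsInvertible L) :
    ∃ N : Y.Modules, PicF.IsInvertible N ∧ Nonempty ((Scheme.Modules.pullback f).obj N ≅ L) := by
  classical
  -- separating neighbourhoods
  have hO : ∀ y : Y, ∃ O : Y.Opens, y ∈ O ∧ ∀ z ∈ O, z ∉ V → (y ∉ V ∧ z = y) := by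
    intro y
    by_cases hy : y ∈ V
    · exact ⟨V, hy, fun z hz hzV => absurd hz hzV⟩
    · have hopen : IsOpen ({⟨y, hy⟩} : Set ((V : Set Y)ᶜ : Set Y)) := isOpen_discrete _
      obtain ⟨O, hOo, hOeq⟩ := isOpen_induced_iff.mp hopen
      refine ⟨⟨O, hOo⟩, ?_, fun z hz hzV => ⟨hy, ?_⟩⟩
      · have : (⟨y, hy⟩ : ((V : Set Y)ᶜ : Set Y)) ∈ Subtype.val ⁻¹' O := by rw [hOeq]; rfl
        exact this
      · have : (⟨z, hzV⟩ : ((V : Set Y)ᶜ : Set Y)) ∈ Subtype.val ⁻¹' O := hz
        rw [hOeq] at this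
        exact congrArg Subtype.val this
  choose O hyO hOsep using hO
  choose W0 hyW0 e0 he0 using exists_nhd_gen f L hL
  let W : Y → Y.Opens := fun y => W0 y ⊓ O y
  have hpair : ∀ y y' : Y, y ≠ y' → W y ⊓ W y' ≤ V := by
    intro y y' hne z hz
    by_contra hzV
    have h1 := (hOsep y z hz.1.2 hzV).2
    have h2 := (hOsep y' z hz.2.2 hzV).2
    exact hne (h1.symm.trans h2)
  have hW : ⨆ y, W y = ⊤ := by
    rw [eq_top_iff]
    intro y _
    exact Opens.mem_iSup.mpr ⟨y, hyW0 y, hyO y⟩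
  have hWle : ∀ y, f ⁻¹ᵁ W y ≤ f ⁻¹ᵁ W0 y := fun y => f.preimage_mono inf_le_left
  exact exists_descent_of_atlas f V (fun W hW => bijective_app_of_isIso_morphismRestrict f V W hW)
    W hpair L (fun y => rs L (hWle y) (e0 y)) (fun y => (he0 y).mono (hWle y)) hW

end Groth.Agent.Lib.FinModifPic42
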