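import Mathlib
import Groth.Agent.Lib.Cartier38
import Groth.Agent.Lib.ComodDualAlg
import Groth.Agent.Lib.FinEtaleHopf41
import Groth.Agent.Lib.HopfInfinitesimal41
import Groth.Agent.Lib.HopfKilledByOrder41b

/-!
# Finite group schemes of prime order are commutative (helper41)

* `convPow_ofConv`: `d^{*j} = ε ∘ (slice d)^j`.
* `counit_slice_pow_pow`: `d^{*m}(x^m) = m!` for an `ε`-derivation `d` with `d x = 1`, `x ∈ I`.
* `linearIndependent_convPow`: `1, d, …, d^{n-1}` are linearly independent if `(n-1)!` is
  invertible.
* `mul_comm_of_span`, `eq_zero_of_forall_mul'_map`, `isCocomm_of_dual_comm`.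
* `dual_comm_of_isReduced`, `exists_epsDer`, `dual_comm_of_nil`,
  `dual_comm_of_finrank_eq_prime`, `isCocomm_of_finrank_eq_prime`.
-/

set_option autoImplicit false
universe u v w
open scoped TensorProduct
open WithConv

namespace Groth.Agent.Lib.HopfPrimeOrder41

open Groth.Agent.Lib.Comod Groth.Agent.Lib.Cartier38 HopfSplit41



section
variable {k : Type u} [Field k] {A : Type v} [CommRing A] [Bialgebra k A]

/-- Convolution powers of a functional are iterated slices followed by the counit. -/
theorem convPow_ofConv (d : A →ₗ[k] k) (j : ℕ) :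
    ((toConv d : DualAlg k A) ^ j).ofConv =
      (CoalgebraStruct.counit (R := k) (A := A)) ∘ₗ (slice d) ^ j := by
  induction j with
  | zero =>
    rw [pow_zero, pow_zero]
    apply LinearMap.ext
    intro c
    simp [LinearMap.convOne_def]
  | succ j ih =>
    rw [pow_succ, ← comp_slice, ih, pow_succ, LinearMap.comp_assoc]
    rfl

variable {d : A →ₗ[k] k} (hd : IsEpsDer d)

include hd in
theorem slice_pow_mem (j n : ℕ) (a : A) (ha : a ∈ augI k A ^ (n + j)) :
    ((slice d) ^ j) a ∈ augI k A ^ n := by
  induction j generalizing a n with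
  | zero => simpa using ha
  | succ j ih =>
    rw [pow_succ, Module.End.mul_apply]
    apply ih
    have : n + (j + 1) = (n + j) + 1 := by ring
    rw [this] at ha
    exact der_pow_le (slice d) (slice_mul hd) (augI k A) (n + j) a ha

include hd in
theorem counit_slice_pow_eq_zero (j : ℕ) (a : A) (ha : a ∈ augI k A ^ (j + 1)) :
    CoalgebraStruct.counit (R := k) (((slice d) ^ j) a) = 0 := by
  have h := slice_pow_mem hd j 1 a (by rwa [add_comm])
  rw [pow_one] at h
  exact mem_augI.1 h

include hd in
theorem slice_pow (x : A) (m : ℕ) :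
    slice d (x ^ (m + 1)) = ((m + 1 : ℕ) : A) * (x ^ m * slice d x) := by
  induction m with
  | zero => simp
  | succ m ih =>
    rw [pow_succ, slice_mul hd, ih]
    push_cast
    ring

include hd in
/-- The key triangularity: `d^{*m}(x^m) = m!` if `d x = 1`, `x ∈ I`. -/
theorem counit_slice_pow_pow (x : A) (hx : x ∈ augI k A) (hdx : d x = 1) (m : ℕ) :
    CoalgebraStruct.counit (R := k) (((slice d) ^ m) (x ^ m)) = (m.factorial : k) := by
  induction m with
  | zero => simp
  | succ m ih =>
    rw [pow_succ (slice d), Module.End.mul_apply, slice_pow hd]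
    have hv : slice d x - 1 ∈ augI k A := by
      rw [mem_augI, map_sub, Cartier38.counit_slice, hdx, Bialgebra.counit_one, sub_self]
    have e : ((m + 1 : ℕ) : A) * (x ^ m * slice d x) =
        ((m + 1 : ℕ) : k) • (x ^ m) + ((m + 1 : ℕ) : k) • (x ^ m * (slice d x - 1)) := by
      rw [Algebra.smul_def, Algebra.smul_def, map_natCast]
      ring
    rw [e, map_add, map_smul, map_smul, map_add, map_smul, map_smul, ih]
    have h0 : CoalgebraStruct.counit (R := k) (((slice d) ^ m) (x ^ m * (slice d x - 1))) = 0 := by
      apply counit_slice_pow_eq_zero hd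
      rw [pow_succ]
      exact Ideal.mul_mem_mul (Ideal.pow_mem_pow hx m) hv
    rw [h0, smul_zero, add_zero, Nat.factorial_succ, smul_eq_mul]
    push_cast
    ring

include hd in
/-- The first `n` convolution powers of `d` are linearly independent if `(n-1)!` is invertible. -/
theorem linearIndependent_convPow (x : A) (hx : x ∈ augI k A) (hdx : d x = 1) (n : ℕ)
    (hn : ∀ j < n, (j.factorial : k) ≠ 0) :
    LinearIndependent k (fun j : Fin n => (toConv d : DualAlg k A) ^ (j : ℕ)) := by
  induction n with
  | zero => exact linearIndependent_empty_type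
  | succ n ih =>
    have ih' := ih (fun j hj => hn j (Nat.lt_succ_of_lt hj))
    have hlast : (toConv d : DualAlg k A) ^ n ∉
        Submodule.span k (Set.range fun j : Fin n => (toConv d : DualAlg k A) ^ (j : ℕ)) := by
      intro hmem
      -- all earlier powers vanish on x^n
      have hvan : ∀ φ ∈ Submodule.span k
          (Set.range fun j : Fin n => (toConv d : DualAlg k A) ^ (j : ℕ)), φ.ofConv (x ^ n) = 0 := by
        intro φ hφ
        induction hφ using Submodule.span_induction with
        | mem φ hφ =>
          obtain ⟨j, rfl⟩ := hφ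
          rw [convPow_ofConv, LinearMap.comp_apply]
          apply counit_slice_pow_eq_zero hd
          exact Ideal.pow_le_pow_right (Nat.succ_le_of_lt j.2) (Ideal.pow_mem_pow hx n)
        | zero => rfl
        | add φ ψ _ _ h1 h2 =>
          show φ.ofConv (x ^ n) + ψ.ofConv (x ^ n) = 0
          rw [h1, h2, add_zero]
        | smul c φ _ h1 =>
          show c • φ.ofConv (x ^ n) = 0
          rw [h1, smul_zero]
      have h1 := hvan _ hmem
      rw [convPow_ofConv, LinearMap.comp_apply, counit_slice_pow_pow hd x hx hdx] at h1
      exact hn n (Nat.lt_succ_self n) h1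
    have := (linearIndependent_finSnoc (v := fun j : Fin n => (toConv d : DualAlg k A) ^ (j : ℕ))
      (x := (toConv d : DualAlg k A) ^ n)).2 ⟨ih', hlast⟩
    have hfun : (fun j : Fin (n + 1) => (toConv d : DualAlg k A) ^ (j : ℕ)) =
        Fin.snoc (fun j : Fin n => (toConv d : DualAlg k A) ^ (j : ℕ))
          ((toConv d : DualAlg k A) ^ n) := by
      funext j
      refine Fin.lastCases ?_ (fun i => ?_) j
      · simp
      · simp
    rw [hfun]
    exact this

end




/-- A ring spanned by pairwise commuting elements is commutative. -/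
theorem mul_comm_of_span {k : Type u} [CommRing k] {W : Type v} [Ring W] [Algebra k W]
    (S : Set W) (hS : Submodule.span k S = ⊤) (hc : ∀ a ∈ S, ∀ b ∈ S, a * b = b * a)
    (a b : W) : a * b = b * a := by
  have ha : a ∈ Submodule.span k S := by rw [hS]; trivial
  have hb : b ∈ Submodule.span k S := by rw [hS]; trivial
  induction ha using Submodule.span_induction with
  | mem a ha =>
    induction hb using Submodule.span_induction with
    | mem b hb => exact hc a ha b hb
    | zero => simp
    | add x y _ _ hx hy => rw [mul_add, add_mul, hx, hy]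
    | smul c x _ hx => rw [mul_smul_comm, smul_mul_assoc, hx]
  | zero => simp
  | add x y _ _ hx hy => rw [mul_add, add_mul, hx, hy]
  | smul c x _ hx => rw [mul_smul_comm, smul_mul_assoc, hx]

section
variable {k : Type u} [Field k] {A : Type v} [AddCommGroup A] [Module k A]

theorem mul'_map_comm (φ ψ : A →ₗ[k] k) (t : A ⊗[k] A) :
    LinearMap.mul' k k (TensorProduct.map φ ψ (TensorProduct.comm k A A t)) =
      LinearMap.mul' k k (TensorProduct.map ψ φ t) := by
  induction t using TensorProduct.induction_on with
  | zero => simp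
  | tmul x y => simp [mul_comm]
  | add x y hx hy => rw [map_add, map_add, map_add, hx, hy, map_add, map_add]

/-- Functionals of the form `φ ⊗ ψ` separate the points of `A ⊗ A`. -/
theorem eq_zero_of_forall_mul'_map (t : A ⊗[k] A)
    (h : ∀ φ ψ : A →ₗ[k] k, LinearMap.mul' k k (TensorProduct.map φ ψ t) = 0) : t = 0 := by
  classical
  let b := Module.Basis.ofVectorSpace k A
  have key : ∀ i j, (Finsupp.lapply (i, j) ∘ₗ
      ((b.tensorProduct b).repr : A ⊗[k] A →ₗ[k] _)) =
      LinearMap.mul' k k ∘ₗ TensorProduct.map (b.coord i) (b.coord j) := by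
    intro i j
    apply (b.tensorProduct b).ext
    rintro ⟨i', j'⟩
    rw [LinearMap.comp_apply, LinearMap.comp_apply, Module.Basis.tensorProduct_apply,
      TensorProduct.map_tmul, LinearMap.mul'_apply]
    simp only [LinearEquiv.coe_coe, Finsupp.lapply_apply, Module.Basis.coord_apply,
      Module.Basis.repr_self, Finsupp.single_apply]
    have := (b.tensorProduct b).repr_self (i', j')
    rw [Module.Basis.tensorProduct_apply] at this
    rw [this, Finsupp.single_apply]
    by_cases h1 : i' = i <;> by_cases h2 : j' = j <;> simp [h1, h2]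
  apply (b.tensorProduct b).repr.injective
  ext ⟨i, j⟩
  have := LinearMap.congr_fun (key i j) t
  rw [LinearMap.comp_apply, LinearMap.comp_apply] at this
  rw [map_zero, Finsupp.zero_apply]
  exact this.trans (h _ _)

end

/-- If the dual (convolution) algebra is commutative, the coalgebra is cocommutative. -/
theorem isCocomm_of_dual_comm {k : Type u} [Field k] {A : Type v} [AddCommGroup A] [Module k A]
    [Coalgebra k A] (h : ∀ φ ψ : DualAlg k A, φ * ψ = ψ * φ) : Coalgebra.IsCocomm k A := by
  refine ⟨?_⟩
  apply LinearMap.ext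
  intro a
  rw [← sub_eq_zero]
  apply eq_zero_of_forall_mul'_map
  intro φ ψ
  rw [map_sub, map_sub, sub_eq_zero, LinearMap.comp_apply]
  show LinearMap.mul' k k (TensorProduct.map φ ψ (TensorProduct.comm k A A (Coalgebra.comul a))) = _
  rw [mul'_map_comm]
  have h1 := congrArg (fun f : DualAlg k A => f.ofConv a) (h (toConv ψ) (toConv φ))
  exact h1




/-- Étale case: prime order over an algebraically closed field gives a commutative dual. -/
theorem dual_comm_of_isReduced (k : Type u) [Field k] [IsAlgClosed k] (A : Type v) [CommRing A]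
    [HopfAlgebra k A] [Module.Finite k A] [IsReduced A] (p : ℕ) (hp : p.Prime)
    (hA : Module.finrank k A = p) (φ ψ : DualAlg k A) : φ * ψ = ψ * φ := by
  classical
  have hfin : Finite (A →ₐ[k] k) := FinEtaleHopf41.finite_points k A
  have : Fintype (A →ₐ[k] k) := Fintype.ofFinite _
  have hbij : Function.Bijective (FinEtaleHopf41.evPts k A) :=
    ⟨FinEtaleHopf41.evPts_injective k A, FinEtaleHopf41.evPts_surjective k A⟩
  have hcardpts : Fintype.card (A →ₐ[k] k) = Module.finrank k A := by
    have e1 := (LinearEquiv.ofBijective (FinEtaleHopf41.evPts k A).toLinearMap hbij).finrank_eq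
    rw [e1, Module.finrank_fintype_fun_eq_card]
  have hcard : Nat.card (WithConv (A →ₐ[k] k)) = p := by
    rw [← hA, ← hcardpts, ← Nat.card_eq_fintype_card]
    exact Nat.card_congr (WithConv.equiv _)
  have : Fact p.Prime := ⟨hp⟩
  have hcyc : IsCyclic (WithConv (A →ₐ[k] k)) := isCyclic_of_prime_card hcard
  -- the points span the dual
  let v : (A →ₐ[k] k) → DualAlg k A := fun γ => toConv γ.toLinearMap
  have hli : LinearIndependent k v := by
    have h0 := linearIndependent_algHom_toLinearMap k A k
    exact h0.map' (WithConv.linearEquiv k (A →ₗ[k] k)).symm.toLinearMap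
      (LinearMap.ker_eq_bot.2 (WithConv.linearEquiv k (A →ₗ[k] k)).symm.injective)
  have hdim : Module.finrank k (DualAlg k A) = Module.finrank k A :=
    (WithConv.linearEquiv k (A →ₗ[k] k)).finrank_eq.trans Subspace.dual_finrank_eq
  have hfd : FiniteDimensional k (DualAlg k A) :=
    Module.Finite.equiv (WithConv.linearEquiv k (A →ₗ[k] k)).symm
  have hspan : Submodule.span k (Set.range v) = ⊤ :=
    hli.span_eq_top_of_card_eq_finrank' (by rw [hcardpts, hdim])
  refine mul_comm_of_span (Set.range v) hspan ?_ φ ψ
  rintro _ ⟨γ, rfl⟩ _ ⟨δ, rfl⟩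
  have h1 : v γ * v δ = toConv ((toConv γ * toConv δ : WithConv (A →ₐ[k] k)).ofConv.toLinearMap) :=
    (AlgHom.toLinearMap_convMul (toConv γ) (toConv δ)).symm
  have h2 : v δ * v γ = toConv ((toConv δ * toConv γ : WithConv (A →ₐ[k] k)).ofConv.toLinearMap) :=
    (AlgHom.toLinearMap_convMul (toConv δ) (toConv γ)).symm
  rw [h1, h2, mul_comm' (toConv γ) (toConv δ)]




/-- Existence of an `ε`-derivation `d` and `x ∈ I` with `d x = 1` when `I ≠ I²`. -/
theorem exists_epsDer {k : Type u} [Field k] {A : Type v} [CommRing A] [Bialgebra k A]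
    (x : A) (hx : x ∈ augI k A) (hx2 : x ∉ augI k A ^ 2) :
    ∃ d : A →ₗ[k] k, IsEpsDer d ∧ d x = 1 := by
  let U : Submodule k A := (augI k A ^ 2).restrictScalars k ⊔ Submodule.span k {(1 : A)}
  have hxU : x ∉ U := by
    intro h
    obtain ⟨y, hy, z, hz, hyz⟩ := Submodule.mem_sup.1 h
    obtain ⟨c, rfl⟩ := Submodule.mem_span_singleton.1 hz
    have hy' : y ∈ augI k A ^ 2 := hy
    have hyI : y ∈ augI k A := Ideal.pow_le_self two_ne_zero hy'
    have h1 := congrArg (CoalgebraStruct.counit (R := k)) hyz
    rw [map_add, mem_augI.1 hyI, mem_augI.1 hx, map_smul, Bialgebra.counit_one, zero_add,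
      smul_eq_mul, mul_one] at h1
    rw [h1, zero_smul, add_zero] at hyz
    exact hx2 (hyz ▸ hy')
  obtain ⟨f, hfx, hfU⟩ := Submodule.exists_dual_map_eq_bot_of_notMem hxU inferInstance
  have hfU' : ∀ u ∈ U, f u = 0 := by
    intro u hu
    have : f u ∈ U.map f := Submodule.mem_map_of_mem hu
    rw [hfU] at this
    exact this
  refine ⟨(f x)⁻¹ • f, ?_, ?_⟩
  · have h1 : f 1 = 0 := hfU' 1 (Submodule.mem_sup_right (Submodule.mem_span_singleton_self 1))
    have h2 : ∀ y ∈ augI k A ^ 2, f y = 0 := fun y hy => hfU' y (Submodule.mem_sup_left hy)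
    intro a b
    -- a = ε a + a', b = ε b + b'
    have ha := sub_counit_mem (k := k) a
    have hb := sub_counit_mem (k := k) b
    set a' := a - algebraMap k A (CoalgebraStruct.counit (R := k) a) with ha'
    set b' := b - algebraMap k A (CoalgebraStruct.counit (R := k) b) with hb'
    have hab : a * b = algebraMap k A (CoalgebraStruct.counit (R := k) a * CoalgebraStruct.counit (R := k) b)
        + CoalgebraStruct.counit (R := k) a • b' + CoalgebraStruct.counit (R := k) b • a' + a' * b' := by
      rw [ha', hb', Algebra.smul_def, Algebra.smul_def, map_mul]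
      ring
    have ha2 : a = algebraMap k A (CoalgebraStruct.counit (R := k) a) + a' := by rw [ha']; ring
    have hb2 : b = algebraMap k A (CoalgebraStruct.counit (R := k) b) + b' := by rw [hb']; ring
    have hf_alg : ∀ c : k, f (algebraMap k A c) = 0 := by
      intro c
      rw [Algebra.algebraMap_eq_smul_one, map_smul, h1, smul_zero]
    have hfa : f a = f a' := by
      conv_lhs => rw [ha2, map_add, hf_alg, zero_add]
    have hfb : f b = f b' := by
      conv_lhs => rw [hb2, map_add, hf_alg, zero_add]
    have hprod : f (a' * b') = 0 := h2 _ (by rw [pow_two]; exact Ideal.mul_mem_mul ha hb)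
    simp only [LinearMap.smul_apply, smul_eq_mul]
    rw [hab, map_add, map_add, map_add, hf_alg, map_smul, map_smul, hprod, hfa, hfb]
    simp only [smul_eq_mul]
    ring
  · rw [LinearMap.smul_apply, smul_eq_mul, inv_mul_cancel₀ hfx]

/-- Local case: order `p = char k` gives a commutative dual. -/
theorem dual_comm_of_nil (k : Type u) [Field k] (A : Type v) [CommRing A]
    [HopfAlgebra k A] [Module.Finite k A] (p : ℕ) [Fact p.Prime] [CharP k p]
    (hnil : ∀ f : A, CoalgebraStruct.counit (R := k) f = 0 → IsNilpotent f)
    (hA : Module.finrank k A = p) (φ ψ : DualAlg k A) : φ * ψ = ψ * φ := by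
  have hp : p.Prime := Fact.out
  -- I ≠ I²
  have hne : ∃ x ∈ augI k A, x ∉ augI k A ^ 2 := by
    by_contra hcon
    push Not at hcon
    have hle : augI k A ≤ augI k A ^ 2 := hcon
    have hInil : IsNilpotent (augI k A) := by
      have : IsNoetherianRing A := IsNoetherianRing.of_finite k A
      rw [Ideal.FG.isNilpotent_iff_le_nilradical (IsNoetherian.noetherian _)]
      intro f hf
      exact mem_nilradical.2 (hnil f (mem_augI.1 hf))
    obtain ⟨n, hn⟩ := hInil
    have hall : ∀ m : ℕ, augI k A ≤ augI k A ^ (m + 1) := by
      intro m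
      induction m with
      | zero => simp
      | succ m ih =>
        calc augI k A ≤ augI k A ^ 2 := hle
          _ = augI k A * augI k A := pow_two _
          _ ≤ augI k A ^ (m + 1) * augI k A := Ideal.mul_mono_left ih
          _ = augI k A ^ (m + 1 + 1) := (pow_succ _ _).symm
    have hbot : augI k A = ⊥ := by
      apply le_bot_iff.1
      calc augI k A ≤ augI k A ^ (n + 1) := hall n
        _ ≤ augI k A ^ n := Ideal.pow_le_pow_right (Nat.le_succ n)
        _ = ⊥ := hn
    have h1 := HopfInfinitesimal41.finrank_eq_one_of_augIdeal_eq_bot (k := k) (A := A)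
      (fun f hf => by
        have : f ∈ augI k A := mem_augI.2 hf
        rw [hbot] at this
        exact this)
    rw [hA] at h1
    exact hp.one_lt.ne' h1
  obtain ⟨x, hx, hx2⟩ := hne
  obtain ⟨d, hd, hdx⟩ := exists_epsDer x hx hx2
  have hfact : ∀ j < p, (j.factorial : k) ≠ 0 := by
    intro j hj h0
    have := (CharP.cast_eq_zero_iff k p _).1 h0
    exact (hp.dvd_factorial.1 this).not_gt hj
  have hli := linearIndependent_convPow hd x hx hdx p hfact
  have hdim : Module.finrank k (DualAlg k A) = Module.finrank k A :=
    (WithConv.linearEquiv k (A →ₗ[k] k)).finrank_eq.trans Subspace.dual_finrank_eq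
  have hfd : FiniteDimensional k (DualAlg k A) :=
    Module.Finite.equiv (WithConv.linearEquiv k (A →ₗ[k] k)).symm
  have hspan := hli.span_eq_top_of_card_eq_finrank' (by rw [Fintype.card_fin, hdim, hA])
  refine mul_comm_of_span _ hspan ?_ φ ψ
  rintro _ ⟨i, rfl⟩ _ ⟨j, rfl⟩
  exact (Commute.pow_pow (Commute.refl _) _ _)




/-- A finite group scheme of prime order over an algebraically closed field has commutative dual
algebra. -/
theorem dual_comm_of_finrank_eq_prime (k : Type u) (A : Type v) [Field k] [IsAlgClosed k]
    [CommRing A] [HopfAlgebra k A] [Module.Finite k A] (p : ℕ) (hp : p.Prime)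
    (hA : Module.finrank k A = p) (φ ψ : DualAlg k A) : φ * ψ = ψ * φ := by
  by_cases hred : IsReduced A
  · exact dual_comm_of_isReduced k A p hp hA φ ψ
  · obtain ⟨ℓ, hℓ⟩ := CharP.exists k
    rcases CharP.char_is_prime_or_zero k ℓ with hℓp | rfl
    · have : Fact ℓ.Prime := ⟨hℓp⟩
      have hperf : PerfectField k := inferInstance
      have hHI : (nilradical A).IsHopfIdeal k :=
        HopfKilledByOrder41.isHopfIdeal_nilradical_of_isAlgClosed k A
      obtain ⟨σ, hσ⟩ := FrobSection41.exists_section k ℓ A
      have hloc : IsLocalRing (A ⧸ splitIdeal σ) :=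
        isLocalRing_quotient_splitIdeal (Bialgebra.Quotient.mkBialgHom (R := k) (nilradical A)) σ hσ
          (fun a ha => mem_nilradical.1 (Ideal.Quotient.eq_zero_iff_mem.1 ha))
      have hbij := bijective_splitMap (Bialgebra.Quotient.mkBialgHom (R := k) (nilradical A)) σ hσ
      have hdim : Module.finrank k A =
          Module.finrank k (A ⧸ nilradical A) * Module.finrank k (A ⧸ splitIdeal σ) := by
        rw [← Module.finrank_tensorProduct]
        exact (LinearEquiv.ofBijective (splitMap (Bialgebra.Quotient.mkBialgHom (R := k)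
          (nilradical A)) (splitIdeal σ)).toLinearMap hbij).finrank_eq
      obtain ⟨e, he⟩ := HopfInfinitesimal41.exists_finrank_eq_pow k ℓ
        (Module.finrank k (A ⧸ splitIdeal σ)) (A ⧸ splitIdeal σ)
        (fun f hf => HopfInfinitesimal41.nil_of_isLocalRing f hf) rfl
      rw [hA] at hdim
      rcases (Nat.dvd_prime hp).1 (Dvd.intro _ hdim.symm) with h1 | h1
      · -- A / N is one-dimensional: A is local of order p = ℓ
        rw [h1, one_mul] at hdim
        have hpe : p = ℓ ^ e := hdim.trans he
        have hℓeq : ℓ = p := by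
          have hdvd : ℓ ∣ p := by
            rw [hpe]
            refine dvd_pow_self ℓ ?_
            rintro rfl
            rw [pow_zero] at hpe
            exact hp.one_lt.ne' hpe
          exact (Nat.prime_dvd_prime_iff_eq hℓp hp).1 hdvd
        subst hℓeq
        have hnil : ∀ f : A, CoalgebraStruct.counit (R := k) f = 0 → IsNilpotent f := by
          intro f hf
          have h11 : (1 : A ⧸ nilradical A) ≠ 0 := by
            intro h0
            have : Subsingleton (A ⧸ nilradical A) := subsingleton_of_zero_eq_one h0.symm
            have := Module.finrank_zero_of_subsingleton (R := k) (M := A ⧸ nilradical A)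
            omega
          obtain ⟨c, hc⟩ := (finrank_eq_one_iff_of_nonzero' (1 : A ⧸ nilradical A) h11).1 h1
            (Ideal.Quotient.mk _ f)
          have h2 := congrArg (CoalgebraStruct.counit (R := k)) hc
          have h3 : CoalgebraStruct.counit (R := k) (Ideal.Quotient.mk (nilradical A) f) =
              CoalgebraStruct.counit (R := k) f :=
            CoalgHomClass.counit_comp_apply (Bialgebra.Quotient.mkBialgHom (R := k) (nilradical A)) f
          rw [map_smul, Bialgebra.counit_one, smul_eq_mul, mul_one, h3, hf] at h2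
          rw [h2, zero_smul] at hc
          exact mem_nilradical.1 (Ideal.Quotient.eq_zero_iff_mem.1 hc.symm)
        exact dual_comm_of_nil k A ℓ hnil hA φ ψ
      · -- A / N has full dimension: A reduced, contradiction
        exfalso
        apply hred
        have hsurj : Function.Surjective (Ideal.Quotient.mkₐ k (nilradical A)).toLinearMap :=
          Ideal.Quotient.mk_surjective
        have hinj : Function.Injective (Ideal.Quotient.mkₐ k (nilradical A)).toLinearMap :=
          (LinearMap.injective_iff_surjective_of_finrank_eq_finrank (by rw [h1, hA])).2 hsurj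
        have hbot : nilradical A = ⊥ := by
          rw [eq_bot_iff]
          intro a ha
          have : (Ideal.Quotient.mkₐ k (nilradical A)).toLinearMap a = 0 :=
            Ideal.Quotient.eq_zero_iff_mem.2 ha
          rw [← map_zero (Ideal.Quotient.mkₐ k (nilradical A)).toLinearMap] at this
          exact hinj this
        exact nilradical_eq_bot_iff.1 hbot
    · exfalso
      have : CharZero k := CharP.charP_to_charZero k
      exact hred (Cartier38.isReduced_of_charZero k A)

/-- A finite group scheme of prime order over an algebraically closed field is commutative. -/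
theorem isCocomm_of_finrank_eq_prime (k : Type u) (A : Type v) [Field k] [IsAlgClosed k]
    [CommRing A] [HopfAlgebra k A] [Module.Finite k A] (p : ℕ) (hp : p.Prime)
    (hA : Module.finrank k A = p) : Coalgebra.IsCocomm k A :=
  isCocomm_of_dual_comm (dual_comm_of_finrank_eq_prime k A p hp hA)

end Groth.Agent.Lib.HopfPrimeOrder41
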