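import Mathlib
import Groth.Agent.Lib.HopfPrimeOrder41

/-!
# The dual algebra of a group scheme of prime order over an algebraically closed field is
# generated by one element (helper55; extracted from helper41's `HopfPrimeOrder41`)
-/

set_option autoImplicit false
universe u v w
open scoped TensorProduct
open WithConv

namespace Groth.Agent.Lib.PrimeOrderComm55

open Groth.Agent.Lib.Comod Groth.Agent.Lib.Cartier38 HopfSplit41
  Groth.Agent.Lib.HopfPrimeOrder41

/-- Étale case. -/
theorem exists_gen_of_isReduced (k : Type u) [Field k] [IsAlgClosed k] (A : Type v) [CommRing A]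
    [HopfAlgebra k A] [Module.Finite k A] [IsReduced A] (p : ℕ) (hp : p.Prime)
    (hA : Module.finrank k A = p) :
    ∃ d : DualAlg k A, Submodule.span k (Set.range fun j : Fin p => d ^ (j : ℕ)) = ⊤ := by
  classical
  have hfin : Finite (A →ₐ[k] k) := FinEtaleHopf41.finite_points k A
  have : Fintype (A →ₐ[k] k) := Fintype.ofFinite _
  have hbij : Function.Bijective (FinEtaleHopf41.evPts k A) :=
    ⟨FinEtaleHopf41.evPts_injective k A, FinEtaleHopf41.evPts_surjective k A⟩
  have hcardpts : Fintype.card (A →ₐ[k] k) = Module.finrank k A := by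
    have e1 := (LinearEquiv.ofBijective (FinEtaleHopf41.evPts k A).toLinearMap hbij).finrank_eq
    rw [e1, Module.finrank_fintype_fun_eq_card]
  have hcard : Nat.card (WithConv (A →ₐ[k] k)) = p := by
    rw [← hA, ← hcardpts, ← Nat.card_eq_fintype_card]
    exact Nat.card_congr (WithConv.equiv _)
  have : Fact p.Prime := ⟨hp⟩
  have hcyc : IsCyclic (WithConv (A →ₐ[k] k)) := isCyclic_of_prime_card hcard
  let v : (A →ₐ[k] k) → DualAlg k A := fun γ => toConv γ.toLinearMap
  have hli : LinearIndependent k v := by
    have h0 := linearIndependent_algHom_toLinearMap k A k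
    exact h0.map' (WithConv.linearEquiv k (A →ₗ[k] k)).symm.toLinearMap
      (LinearMap.ker_eq_bot.2 (WithConv.linearEquiv k (A →ₗ[k] k)).symm.injective)
  have hdim : Module.finrank k (DualAlg k A) = Module.finrank k A :=
    (WithConv.linearEquiv k (A →ₗ[k] k)).finrank_eq.trans Subspace.dual_finrank_eq
  have hfd : FiniteDimensional k (DualAlg k A) :=
    Module.Finite.equiv (WithConv.linearEquiv k (A →ₗ[k] k)).symm
  have hspan : Submodule.span k (Set.range v) = ⊤ :=
    hli.span_eq_top_of_card_eq_finrank' (by rw [hcardpts, hdim])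
  obtain ⟨γ, hγ⟩ := IsCyclic.exists_generator (α := WithConv (A →ₐ[k] k))
  refine ⟨v γ.ofConv, ?_⟩
  rw [eq_top_iff, ← hspan]
  apply Submodule.span_le.2
  rintro _ ⟨δ, rfl⟩
  -- δ = γ ^ j for some j < p
  have hord : orderOf γ = p := by
    rw [orderOf_eq_card_of_forall_mem_zpowers hγ, hcard]
  have hmem : toConv δ ∈ Submonoid.powers γ := by
    have : toConv δ ∈ Subgroup.zpowers γ := hγ _
    have hfinG : Finite (WithConv (A →ₐ[k] k)) := Nat.finite_of_card_ne_zero (by rw [hcard]; exact hp.ne_zero)
    rwa [← mem_powers_iff_mem_zpowers] at this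
  obtain ⟨j, hj⟩ := hmem
  have hj' : γ ^ (j % p) = toConv δ := by
    rw [← hj, ← hord, pow_mod_orderOf]
  have hlt : j % p < p := Nat.mod_lt _ hp.pos
  apply Submodule.subset_span
  refine ⟨⟨j % p, hlt⟩, ?_⟩
  show (v γ.ofConv) ^ (j % p) = v δ
  have h1 := AlgHom.toLinearMap_convPow γ (j % p)
  rw [hj'] at h1
  exact h1.symm

/-- Local case. -/
theorem exists_gen_of_nil (k : Type u) [Field k] (A : Type v) [CommRing A]
    [HopfAlgebra k A] [Module.Finite k A] (p : ℕ) [Fact p.Prime] [CharP k p]
    (hnil : ∀ f : A, CoalgebraStruct.counit (R := k) f = 0 → IsNilpotent f)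
    (hA : Module.finrank k A = p) :
    ∃ d : DualAlg k A, Submodule.span k (Set.range fun j : Fin p => d ^ (j : ℕ)) = ⊤ := by
  have hp : p.Prime := Fact.out
  -- I ≠ I²
  have hne : ∃ x ∈ augI k A, x ∉ augI k A ^ 2 := by
    by_contra hcon
    push Not at hcon
    have hle : augI k A ≤ augI k A ^ 2 := hcon
    have hInil : IsNilpotent (augI k A) := by
      have : IsNoetherianRing A := IsNoetherianRing.of_finite k A
      rw [Ideal.FG.isNilpotent_iff_le_nilradical (IsNoetherian.noetherian _)]
      intro f hf
      exact mem_nilradical.2 (hnil f (mem_augI.1 hf))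
    obtain ⟨n, hn⟩ := hInil
    have hall : ∀ m : ℕ, augI k A ≤ augI k A ^ (m + 1) := by
      intro m
      induction m with
      | zero => simp
      | succ m ih =>
        calc augI k A ≤ augI k A ^ 2 := hle
          _ = augI k A * augI k A := pow_two _
          _ ≤ augI k A ^ (m + 1) * augI k A := Ideal.mul_mono_left ih
          _ = augI k A ^ (m + 1 + 1) := (pow_succ _ _).symm
    have hbot : augI k A = ⊥ := by
      apply le_bot_iff.1
      calc augI k A ≤ augI k A ^ (n + 1) := hall n
        _ ≤ augI k A ^ n := Ideal.pow_le_pow_right (Nat.le_succ n)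
        _ = ⊥ := hn
    have h1 := HopfInfinitesimal41.finrank_eq_one_of_augIdeal_eq_bot (k := k) (A := A)
      (fun f hf => by
        have : f ∈ augI k A := mem_augI.2 hf
        rw [hbot] at this
        exact this)
    rw [hA] at h1
    exact hp.one_lt.ne' h1
  obtain ⟨x, hx, hx2⟩ := hne
  obtain ⟨d, hd, hdx⟩ := exists_epsDer x hx hx2
  have hfact : ∀ j < p, (j.factorial : k) ≠ 0 := by
    intro j hj h0
    have := (CharP.cast_eq_zero_iff k p _).1 h0
    exact (hp.dvd_factorial.1 this).not_gt hj
  have hli := linearIndependent_convPow hd x hx hdx p hfact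
  have hdim : Module.finrank k (DualAlg k A) = Module.finrank k A :=
    (WithConv.linearEquiv k (A →ₗ[k] k)).finrank_eq.trans Subspace.dual_finrank_eq
  have hfd : FiniteDimensional k (DualAlg k A) :=
    Module.Finite.equiv (WithConv.linearEquiv k (A →ₗ[k] k)).symm
  have hspan := hli.span_eq_top_of_card_eq_finrank' (by rw [Fintype.card_fin, hdim, hA])
  exact ⟨toConv d, hspan⟩

/-- The dual algebra of a Hopf algebra of prime dimension over an algebraically closed field is
generated by one element. -/
theorem exists_gen_of_finrank_eq_prime (k : Type u) (A : Type v) [Field k] [IsAlgClosed k]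
    [CommRing A] [HopfAlgebra k A] [Module.Finite k A] (p : ℕ) (hp : p.Prime)
    (hA : Module.finrank k A = p) :
    ∃ d : DualAlg k A, Submodule.span k (Set.range fun j : Fin p => d ^ (j : ℕ)) = ⊤ := by
  by_cases hred : IsReduced A
  · exact exists_gen_of_isReduced k A p hp hA
  · obtain ⟨ℓ, hℓ⟩ := CharP.exists k
    rcases CharP.char_is_prime_or_zero k ℓ with hℓp | rfl
    · have : Fact ℓ.Prime := ⟨hℓp⟩
      have hperf : PerfectField k := inferInstance
      have hHI : (nilradical A).IsHopfIdeal k :=
        HopfKilledByOrder41.isHopfIdeal_nilradical_of_isAlgClosed k A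
      obtain ⟨σ, hσ⟩ := FrobSection41.exists_section k ℓ A
      have hloc : IsLocalRing (A ⧸ splitIdeal σ) :=
        isLocalRing_quotient_splitIdeal (Bialgebra.Quotient.mkBialgHom (R := k) (nilradical A)) σ hσ
          (fun a ha => mem_nilradical.1 (Ideal.Quotient.eq_zero_iff_mem.1 ha))
      have hbij := bijective_splitMap (Bialgebra.Quotient.mkBialgHom (R := k) (nilradical A)) σ hσ
      have hdim : Module.finrank k A =
          Module.finrank k (A ⧸ nilradical A) * Module.finrank k (A ⧸ splitIdeal σ) := by
        rw [← Module.finrank_tensorProduct]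
        exact (LinearEquiv.ofBijective (splitMap (Bialgebra.Quotient.mkBialgHom (R := k)
          (nilradical A)) (splitIdeal σ)).toLinearMap hbij).finrank_eq
      obtain ⟨e, he⟩ := HopfInfinitesimal41.exists_finrank_eq_pow k ℓ
        (Module.finrank k (A ⧸ splitIdeal σ)) (A ⧸ splitIdeal σ)
        (fun f hf => HopfInfinitesimal41.nil_of_isLocalRing f hf) rfl
      rw [hA] at hdim
      rcases (Nat.dvd_prime hp).1 (Dvd.intro _ hdim.symm) with h1 | h1
      · -- A / N is one-dimensional: A is local of order p = ℓ
        rw [h1, one_mul] at hdim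
        have hpe : p = ℓ ^ e := hdim.trans he
        have hℓeq : ℓ = p := by
          have hdvd : ℓ ∣ p := by
            rw [hpe]
            refine dvd_pow_self ℓ ?_
            rintro rfl
            rw [pow_zero] at hpe
            exact hp.one_lt.ne' hpe
          exact (Nat.prime_dvd_prime_iff_eq hℓp hp).1 hdvd
        subst hℓeq
        have hnil : ∀ f : A, CoalgebraStruct.counit (R := k) f = 0 → IsNilpotent f := by
          intro f hf
          have h11 : (1 : A ⧸ nilradical A) ≠ 0 := by
            intro h0
            have : Subsingleton (A ⧸ nilradical A) := subsingleton_of_zero_eq_one h0.symm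
            have := Module.finrank_zero_of_subsingleton (R := k) (M := A ⧸ nilradical A)
            omega
          obtain ⟨c, hc⟩ := (finrank_eq_one_iff_of_nonzero' (1 : A ⧸ nilradical A) h11).1 h1
            (Ideal.Quotient.mk _ f)
          have h2 := congrArg (CoalgebraStruct.counit (R := k)) hc
          have h3 : CoalgebraStruct.counit (R := k) (Ideal.Quotient.mk (nilradical A) f) =
              CoalgebraStruct.counit (R := k) f :=
            CoalgHomClass.counit_comp_apply (Bialgebra.Quotient.mkBialgHom (R := k) (nilradical A)) f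
          rw [map_smul, Bialgebra.counit_one, smul_eq_mul, mul_one, h3, hf] at h2
          rw [h2, zero_smul] at hc
          exact mem_nilradical.1 (Ideal.Quotient.eq_zero_iff_mem.1 hc.symm)
        exact exists_gen_of_nil k A ℓ hnil hA
      · -- A / N has full dimension: A reduced, contradiction
        exfalso
        apply hred
        have hsurj : Function.Surjective (Ideal.Quotient.mkₐ k (nilradical A)).toLinearMap :=
          Ideal.Quotient.mk_surjective
        have hinj : Function.Injective (Ideal.Quotient.mkₐ k (nilradical A)).toLinearMap :=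
          (LinearMap.injective_iff_surjective_of_finrank_eq_finrank (by rw [h1, hA])).2 hsurj
        have hbot : nilradical A = ⊥ := by
          rw [eq_bot_iff]
          intro a ha
          have : (Ideal.Quotient.mkₐ k (nilradical A)).toLinearMap a = 0 :=
            Ideal.Quotient.eq_zero_iff_mem.2 ha
          rw [← map_zero (Ideal.Quotient.mkₐ k (nilradical A)).toLinearMap] at this
          exact hinj this
        exact nilradical_eq_bot_iff.1 hbot
    · exfalso
      have : CharZero k := CharP.charP_to_charZero k
      exact hred (Cartier38.isReduced_of_charZero k A)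


end Groth.Agent.Lib.PrimeOrderComm55
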