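import Mathlib

/-!
# A free algebra over a local ring which is monogenic at a geometric point is commutative
(helper55)

`mul_comm_of_monogenic_fibre`: `R` local, `B` an `R`-algebra free of finite rank, `L` a field over
the residue field such that `L ⊗ B` is spanned by the powers of one element.  Then `B` is
commutative.  Proof by the generic element over `R[t_1..t_n]` localised at the determinant.
-/

set_option autoImplicit false
universe u v w
open scoped TensorProduct

namespace Groth.Agent.Lib.PrimeOrderComm55

section Generic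

variable {R : Type u} [CommRing R] {B : Type v} [Ring B] [Algebra R B] {n : ℕ}
  (e : Module.Basis (Fin n) R B)

/-- the element `Σ c_i ⊗ e_i` of `T ⊗ B` -/
noncomputable def gen (T : Type w) [CommRing T] [Algebra R T] (c : Fin n → T) : T ⊗[R] B :=
  ∑ i, c i ⊗ₜ[R] e i

/-- coordinate matrix of the powers of the generic element -/
noncomputable def powMat (T : Type w) [CommRing T] [Algebra R T] (c : Fin n → T) :
    Matrix (Fin n) (Fin n) T :=
  (Algebra.TensorProduct.basis T e).toMatrix (fun j : Fin n => gen e T c ^ (j : ℕ))

variable {T : Type w} [CommRing T] [Algebra R T] {T' : Type*} [CommRing T'] [Algebra R T']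

theorem map_gen (θ : T →ₐ[R] T') (c : Fin n → T) :
    Algebra.TensorProduct.map θ (AlgHom.id R B) (gen e T c) = gen e T' (fun i => θ (c i)) := by
  simp [gen, map_sum]

theorem repr_map (θ : T →ₐ[R] T') (y : T ⊗[R] B) (i : Fin n) :
    (Algebra.TensorProduct.basis T' e).repr (Algebra.TensorProduct.map θ (AlgHom.id R B) y) i =
      θ ((Algebra.TensorProduct.basis T e).repr y i) := by
  induction y using TensorProduct.induction_on with
  | zero => simp
  | add y z hy hz => simp only [map_add, Finsupp.add_apply, hy, hz]
  | tmul t b =>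
    rw [Algebra.TensorProduct.map_tmul, Algebra.TensorProduct.basis_repr_tmul,
      Algebra.TensorProduct.basis_repr_tmul]
    simp

theorem powMat_map (θ : T →ₐ[R] T') (c : Fin n → T) :
    powMat e T' (fun i => θ (c i)) = (powMat e T c).map θ := by
  ext i j
  rw [Matrix.map_apply, powMat, powMat, Module.Basis.toMatrix_apply, Module.Basis.toMatrix_apply,
    ← map_gen, ← map_pow, repr_map]

theorem det_powMat_map (θ : T →ₐ[R] T') (c : Fin n → T) :
    (powMat e T' (fun i => θ (c i))).det = θ ((powMat e T c).det) := by
  rw [powMat_map]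
  exact (RingHom.map_det (θ : T →+* T') (powMat e T c)).symm

theorem gen_repr (x : T ⊗[R] B) :
    gen e T (fun i => (Algebra.TensorProduct.basis T e).repr x i) = x := by
  conv_rhs => rw [← (Algebra.TensorProduct.basis T e).sum_repr x]
  unfold gen
  refine Finset.sum_congr rfl fun i _ => ?_
  rw [Algebra.TensorProduct.basis_apply, TensorProduct.smul_tmul', smul_eq_mul, mul_one]

/-- if the determinant is a unit, `T ⊗ B` is commutative -/
theorem mul_comm_of_isUnit_det (c : Fin n → T) (h : IsUnit (powMat e T c).det)
    (a b : T ⊗[R] B) : a * b = b * a := by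
  have h1 : IsUnit ((Algebra.TensorProduct.basis T e).det
      (fun j : Fin n => gen e T c ^ (j : ℕ))) := by
    rw [Module.Basis.det_apply]
    exact h
  have h2 := ((Algebra.TensorProduct.basis T e).is_basis_iff_det).2 h1
  have hspan := h2.2
  have ha : a ∈ Submodule.span T (Set.range fun j : Fin n => gen e T c ^ (j : ℕ)) := by
    rw [hspan]; trivial
  have hb : b ∈ Submodule.span T (Set.range fun j : Fin n => gen e T c ^ (j : ℕ)) := by
    rw [hspan]; trivial
  induction ha using Submodule.span_induction with
  | mem a ha =>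
    induction hb using Submodule.span_induction with
    | mem b hb =>
      obtain ⟨i, rfl⟩ := ha
      obtain ⟨j, rfl⟩ := hb
      exact (Commute.pow_pow (Commute.refl _) _ _)
    | zero => simp
    | add x y _ _ hx hy => rw [mul_add, add_mul, hx, hy]
    | smul c x _ hx => rw [mul_smul_comm, smul_mul_assoc, hx]
  | zero => simp
  | add x y _ _ hx hy => rw [mul_add, add_mul, hx, hy]
  | smul c x _ hx => rw [mul_smul_comm, smul_mul_assoc, hx]

end Generic


section Main

variable {R : Type u} [CommRing R] [IsLocalRing R] {B : Type v} [Ring B] [Algebra R B] {n : ℕ}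
  (e : Module.Basis (Fin n) R B) {L : Type w} [Field L] [Algebra R L]

theorem isPrime_map_C_maximalIdeal :
    (Ideal.map (MvPolynomial.C : R →+* MvPolynomial (Fin n) R)
      (IsLocalRing.maximalIdeal R)).IsPrime := by
  have h := MvPolynomial.ker_map (σ := Fin n) (IsLocalRing.residue R)
  rw [IsLocalRing.ker_residue] at h
  rw [← h]
  exact RingHom.ker_isPrime _

include e in
theorem mul_comm_of_monogenic_fibre
    (hL : ∀ r ∈ IsLocalRing.maximalIdeal R, algebraMap R L r = 0)
    (x₀ : L ⊗[R] B) (hx₀ : Submodule.span L (Set.range fun j : Fin n => x₀ ^ (j : ℕ)) = ⊤)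
    (a b : B) : a * b = b * a := by
  classical
  let S := MvPolynomial (Fin n) R
  let c₀ : Fin n → L := fun i => (Algebra.TensorProduct.basis L e).repr x₀ i
  let ψ₀ : S →ₐ[R] L := MvPolynomial.aeval c₀
  let D : S := (powMat e S MvPolynomial.X).det
  -- the determinant is nonzero at the geometric point
  have hgen : gen e L c₀ = x₀ := gen_repr e x₀
  have hψD : ψ₀ D = (powMat e L c₀).det := by
    have h := det_powMat_map e ψ₀ (MvPolynomial.X : Fin n → S)
    have h2 : (fun i => ψ₀ (MvPolynomial.X i)) = c₀ := by
      funext i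
      exact MvPolynomial.aeval_X c₀ i
    rw [h2] at h
    exact h.symm
  have hne : (powMat e L c₀).det ≠ 0 := by
    have hfr : Module.finrank L (L ⊗[R] B) = n := by
      rw [Module.finrank_eq_card_basis (Algebra.TensorProduct.basis L e), Fintype.card_fin]
    have hfin : Module.Finite L (L ⊗[R] B) :=
      Module.Finite.of_basis (Algebra.TensorProduct.basis L e)
    have hli : LinearIndependent L (fun j : Fin n => x₀ ^ (j : ℕ)) :=
      linearIndependent_of_top_le_span_of_card_eq_finrank (le_of_eq hx₀.symm)
        (by rw [Fintype.card_fin, hfr])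
    have hu := ((Algebra.TensorProduct.basis L e).is_basis_iff_det).1 ⟨hli, hx₀⟩
    rw [Module.Basis.det_apply] at hu
    have : powMat e L c₀ = (Algebra.TensorProduct.basis L e).toMatrix
        (fun j : Fin n => x₀ ^ (j : ℕ)) := by
      unfold powMat
      rw [hgen]
    rw [this]
    exact hu.ne_zero
  -- hence D is not in m[t]
  let P : Ideal S := Ideal.map (MvPolynomial.C : R →+* S) (IsLocalRing.maximalIdeal R)
  have hP : P.IsPrime := isPrime_map_C_maximalIdeal
  have hPker : P ≤ RingHom.ker (ψ₀ : S →+* L) := by
    rw [Ideal.map_le_iff_le_comap]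
    intro r hr
    rw [Ideal.mem_comap, RingHom.mem_ker]
    show ψ₀ (MvPolynomial.C r) = 0
    rw [← MvPolynomial.algebraMap_eq, AlgHom.commutes]
    exact hL r hr
  have hDP : D ∉ P := by
    intro h
    have := hPker h
    rw [RingHom.mem_ker] at this
    apply hne
    rw [← hψD]
    exact this
  -- localise at D
  let T := Localization.Away D
  let ι : S →ₐ[R] T := IsScalarTower.toAlgHom R S T
  have hunit : IsUnit (powMat e T (fun i => ι (MvPolynomial.X i))).det := by
    rw [det_powMat_map]
    exact IsLocalization.Away.algebraMap_isUnit D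
  have hcomm := mul_comm_of_isUnit_det e (fun i => ι (MvPolynomial.X i)) hunit
  -- R → T is injective
  have hinjR : Function.Injective (algebraMap R T) := by
    rw [injective_iff_map_eq_zero]
    intro r hr
    have h1 : algebraMap R T r = algebraMap S T (MvPolynomial.C r) := by
      rw [IsScalarTower.algebraMap_apply R S T, MvPolynomial.algebraMap_eq]
    rw [h1, IsLocalization.map_eq_zero_iff (Submonoid.powers D)] at hr
    obtain ⟨⟨m, k, rfl⟩, hm⟩ := hr
    have hk : D ^ k ∉ P := fun h => hDP (hP.mem_of_pow_mem k h)
    rw [MvPolynomial.mem_map_C_iff] at hk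
    push_neg at hk
    obtain ⟨μ, hμ⟩ := hk
    have hu : IsUnit (MvPolynomial.coeff μ (D ^ k)) := by
      by_contra hnu
      exact hμ ((IsLocalRing.mem_maximalIdeal _).2 hnu)
    have h2 := congrArg (MvPolynomial.coeff μ) hm
    simp only at h2
    rw [mul_comm, MvPolynomial.coeff_C_mul, MvPolynomial.coeff_zero] at h2
    exact (hu.mul_left_eq_zero).1 h2
  -- B → T ⊗ B is injective
  have hinjB : Function.Injective (fun b : B => (1 : T) ⊗ₜ[R] b) := by
    intro b b' h
    apply e.repr.injective
    ext i
    have h3 := congrArg (fun y => (Algebra.TensorProduct.basis T e).repr y i) h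
    simp only [Algebra.TensorProduct.basis_repr_tmul, one_smul, Finsupp.mapRange_apply] at h3
    exact hinjR h3
  apply hinjB
  show (1 : T) ⊗ₜ[R] (a * b) = (1 : T) ⊗ₜ[R] (b * a)
  have h4 : ∀ a b : B, (1 : T) ⊗ₜ[R] (a * b) = ((1 : T) ⊗ₜ[R] a) * ((1 : T) ⊗ₜ[R] b) := by
    intro a b
    rw [Algebra.TensorProduct.tmul_mul_tmul, one_mul]
  rw [h4, h4, hcomm]

end Main

end Groth.Agent.Lib.PrimeOrderComm55
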