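import Mathlib
import Groth.Agent.Lib.PrimeOrderComm55a
import Groth.Agent.Lib.PrimeOrderComm55b
import Groth.Agent.Lib.ComodIntegral

/-!
# Group schemes of prime order are commutative, over any base ring (helper55)

* `bc`: base change of functionals as an algebra map `DualAlg R A → DualAlg L (L ⊗ A)`.
* `isCocomm_of_dual_comm_of_basis`: commutative dual ⇒ cocommutative (free case over a ring).
* `isCocomm_of_isLocalRing`: the local case.
* `isCocomm_of_rankAtStalk_eq_prime`: the general case.
-/

set_option autoImplicit false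
universe u v w
open scoped TensorProduct
open WithConv

namespace Groth.Agent.Lib.PrimeOrderComm55

open Groth.Agent.Lib.Comod

section BaseChange

variable {R : Type u} [CommRing R] (L : Type w) [CommRing L] [Algebra R L]
  {A : Type v} [CommRing A] [Bialgebra R A]

instance : IsScalarTower R L (DualAlg L (L ⊗[R] A)) :=
  ⟨fun r l f => by
    apply WithConv.ofConv_injective
    apply LinearMap.ext
    intro x
    simp [smul_assoc]⟩

/-- base change of a functional -/
noncomputable def bcLin : DualAlg R A →ₗ[R] DualAlg L (L ⊗[R] A) where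
  toFun f := toConv ((TensorProduct.AlgebraTensorModule.rid R L L).toLinearMap ∘ₗ
    f.ofConv.baseChange L)
  map_add' f g := by
    apply WithConv.ofConv_injective
    apply LinearMap.ext
    intro x
    simp [LinearMap.baseChange_add]
  map_smul' r f := by
    apply WithConv.ofConv_injective
    apply LinearMap.ext
    intro x
    simp only [WithConv.ofConv_smul, LinearMap.baseChange_smul, WithConv.ofConv_toConv,
      LinearMap.coe_comp, LinearEquiv.coe_coe, Function.comp_apply, LinearMap.smul_apply,
      RingHom.id_apply]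
    rw [← algebraMap_smul L r, map_smul, algebraMap_smul]

theorem bcLin_apply_tmul (f : DualAlg R A) (l : L) (a : A) :
    (bcLin L f).ofConv (l ⊗ₜ[R] a) = f.ofConv a • l := by
  simp [bcLin]

theorem ext_one_tmul {f g : DualAlg L (L ⊗[R] A)}
    (h : ∀ a : A, f.ofConv ((1 : L) ⊗ₜ[R] a) = g.ofConv ((1 : L) ⊗ₜ[R] a)) : f = g := by
  apply WithConv.ofConv_injective
  apply LinearMap.ext
  intro x
  induction x using TensorProduct.induction_on with
  | zero => simp
  | add x y hx hy => rw [map_add, map_add, hx, hy]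
  | tmul l a =>
    have : l ⊗ₜ[R] a = l • ((1 : L) ⊗ₜ[R] a) := by
      rw [TensorProduct.smul_tmul', smul_eq_mul, mul_one]
    rw [this, map_smul, map_smul, h]

/-- base change of functionals, as an algebra map of the convolution algebras -/
noncomputable def bc : DualAlg R A →ₐ[R] DualAlg L (L ⊗[R] A) :=
  AlgHom.ofLinearMap (bcLin L)
    (by
      apply ext_one_tmul
      intro a
      rw [bcLin_apply_tmul]
      show CoalgebraStruct.counit (R := R) a • (1 : L) =
        algebraMap L L (CoalgebraStruct.counit (R := L) ((1 : L) ⊗ₜ[R] a))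
      rw [TensorProduct.counit_tmul]
      simp [Algebra.smul_def])
    (by
      intro f g
      apply ext_one_tmul
      intro a
      have ℛ := Coalgebra.Repr.arbitrary R a
      rw [bcLin_apply_tmul]
      have h1 : (bcLin L f * bcLin L g).ofConv ((1 : L) ⊗ₜ[R] a) =
          (bcLin L f * bcLin L g) ((1 : L) ⊗ₜ[R] a) := rfl
      have h2 : (f * g).ofConv a = (f * g) a := rfl
      rw [h1, h2, (HopfKilledByOrder41.reprBaseChange L ℛ).convMul_apply, ℛ.convMul_apply,
        Finset.sum_smul]
      refine Finset.sum_congr rfl fun i _ => ?_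
      show _ = (bcLin L f).ofConv ((1 : L) ⊗ₜ[R] ℛ.left i) *
        (bcLin L g).ofConv ((1 : L) ⊗ₜ[R] ℛ.right i)
      rw [bcLin_apply_tmul, bcLin_apply_tmul]
      simp [Algebra.smul_def, mul_comm])

theorem bc_apply_tmul (f : DualAlg R A) (l : L) (a : A) :
    (bc L f).ofConv (l ⊗ₜ[R] a) = f.ofConv a • l := bcLin_apply_tmul L f l a

end BaseChange


section Cocomm

variable {R : Type u} [CommRing R] {A : Type v} [AddCommGroup A] [Module R A] {ι : Type*}
  [Fintype ι] [DecidableEq ι] (b : Module.Basis ι R A)

include b in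
/-- Functionals of the form `φ ⊗ ψ` separate the points of `A ⊗ A` (free case). -/
theorem eq_zero_of_forall_mul'_map_of_basis (t : A ⊗[R] A)
    (h : ∀ φ ψ : A →ₗ[R] R, LinearMap.mul' R R (TensorProduct.map φ ψ t) = 0) : t = 0 := by
  classical
  have key : ∀ i j, (Finsupp.lapply (i, j) ∘ₗ
      ((b.tensorProduct b).repr : A ⊗[R] A →ₗ[R] _)) =
      LinearMap.mul' R R ∘ₗ TensorProduct.map (b.coord i) (b.coord j) := by
    intro i j
    apply (b.tensorProduct b).ext
    rintro ⟨i', j'⟩
    rw [LinearMap.comp_apply, LinearMap.comp_apply, Module.Basis.tensorProduct_apply,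
      TensorProduct.map_tmul, LinearMap.mul'_apply]
    simp only [LinearEquiv.coe_coe, Finsupp.lapply_apply, Module.Basis.coord_apply,
      Module.Basis.repr_self, Finsupp.single_apply]
    have := (b.tensorProduct b).repr_self (i', j')
    rw [Module.Basis.tensorProduct_apply] at this
    rw [this, Finsupp.single_apply]
    by_cases h1 : i' = i <;> by_cases h2 : j' = j <;> simp [h1, h2]
  apply (b.tensorProduct b).repr.injective
  ext ⟨i, j⟩
  have := LinearMap.congr_fun (key i j) t
  rw [LinearMap.comp_apply, LinearMap.comp_apply] at this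
  rw [map_zero, Finsupp.zero_apply]
  exact this.trans (h _ _)

include b in
/-- If the dual (convolution) algebra is commutative, the coalgebra is cocommutative. -/
theorem isCocomm_of_dual_comm_of_basis [Coalgebra R A]
    (h : ∀ φ ψ : DualAlg R A, φ * ψ = ψ * φ) : Coalgebra.IsCocomm R A := by
  refine ⟨?_⟩
  apply LinearMap.ext
  intro a
  rw [← sub_eq_zero]
  apply eq_zero_of_forall_mul'_map_of_basis b
  intro φ ψ
  rw [map_sub, map_sub, sub_eq_zero, LinearMap.comp_apply]
  show LinearMap.mul' R R (TensorProduct.map φ ψ (TensorProduct.comm R A A (Coalgebra.comul a))) = _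
  have hcomm : ∀ t : A ⊗[R] A,
      LinearMap.mul' R R (TensorProduct.map φ ψ (TensorProduct.comm R A A t)) =
        LinearMap.mul' R R (TensorProduct.map ψ φ t) := by
    intro t
    induction t using TensorProduct.induction_on with
    | zero => simp
    | tmul x y => simp [mul_comm]
    | add x y hx hy => rw [map_add, map_add, map_add, hx, hy, map_add, map_add]
  rw [hcomm]
  have h1 := congrArg (fun f : DualAlg R A => f.ofConv a) (h (toConv ψ) (toConv φ))
  exact h1

end Cocomm


section Local

variable (R : Type u) [CommRing R] [IsLocalRing R] (A : Type v) [CommRing A] [HopfAlgebra R A]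
  [Module.Finite R A] [Module.Free R A]

/-- A Hopf algebra free of prime rank over a local ring is cocommutative. -/
theorem isCocomm_of_isLocalRing (p : ℕ) (hp : p.Prime) (hA : Module.finrank R A = p) :
    Coalgebra.IsCocomm R A := by
  classical
  let b : Module.Basis (Fin p) R A := Module.finBasisOfFinrankEq R A hA
  let e : Module.Basis (Fin p) R (DualAlg R A) :=
    b.dualBasis.map (WithConv.linearEquiv R (A →ₗ[R] R)).symm
  apply isCocomm_of_dual_comm_of_basis b
  let k := IsLocalRing.ResidueField R
  let L := AlgebraicClosure k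
  have hL : ∀ r ∈ IsLocalRing.maximalIdeal R, algebraMap R L r = 0 := by
    intro r hr
    rw [IsScalarTower.algebraMap_apply R k L]
    have : algebraMap R k r = 0 := (IsLocalRing.residue_eq_zero_iff r).2 hr
    rw [this, map_zero]
  have hrkL : Module.finrank L (L ⊗[R] A) = p := by rw [Module.finrank_baseChange, hA]
  obtain ⟨d, hd⟩ := exists_gen_of_finrank_eq_prime L (L ⊗[R] A) p hp hrkL
  let bL : Module.Basis (Fin p) L (L ⊗[R] A) := Algebra.TensorProduct.basis L b
  let e' : Module.Basis (Fin p) L (DualAlg L (L ⊗[R] A)) :=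
    bL.dualBasis.map (WithConv.linearEquiv L ((L ⊗[R] A) →ₗ[L] L)).symm
  have hbc : ∀ i, bc L (e i) = e' i := by
    intro i
    apply ext_one_tmul
    intro a
    rw [bc_apply_tmul]
    show (b.dualBasis i) a • (1 : L) = (bL.dualBasis i) ((1 : L) ⊗ₜ[R] a)
    rw [Module.Basis.coe_dualBasis, Module.Basis.coe_dualBasis, Module.Basis.coord_apply,
      Module.Basis.coord_apply, Algebra.TensorProduct.basis_repr_tmul]
    simp [Algebra.smul_def]
  let Θ : L ⊗[R] DualAlg R A →ₐ[L] DualAlg L (L ⊗[R] A) :=
    Algebra.TensorProduct.lift (Algebra.ofId L _) (bc L) (fun l f => Algebra.commutes l (bc L f))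
  let E : (L ⊗[R] DualAlg R A) ≃ₗ[L] DualAlg L (L ⊗[R] A) :=
    (Algebra.TensorProduct.basis L e).equiv e' (Equiv.refl _)
  have hΘE : ∀ x, Θ x = E x := by
    have : Θ.toLinearMap = E.toLinearMap := by
      apply (Algebra.TensorProduct.basis L e).ext
      intro i
      rw [AlgHom.toLinearMap_apply, LinearEquiv.coe_coe, Module.Basis.equiv_apply,
        Algebra.TensorProduct.basis_apply]
      show Θ ((1 : L) ⊗ₜ[R] e i) = e' i
      rw [Algebra.TensorProduct.lift_tmul, map_one, one_mul, hbc]
    intro x
    exact LinearMap.congr_fun this x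
  let x₀ := E.symm d
  have hx₀pow : ∀ j : ℕ, x₀ ^ j = E.symm (d ^ j) := by
    intro j
    apply E.injective
    have hpow : ∀ j : ℕ, Θ (x₀ ^ j) = Θ x₀ ^ j := by
      intro j
      induction j with
      | zero => rw [pow_zero, pow_zero]; exact Θ.map_one'
      | succ j ih => rw [pow_succ, pow_succ, ← ih]; exact Θ.map_mul' _ _
    rw [E.apply_symm_apply, ← hΘE, hpow, hΘE, E.apply_symm_apply]
  have hx₀ : Submodule.span L (Set.range fun j : Fin p => x₀ ^ (j : ℕ)) = ⊤ := by
    have h1 : (Set.range fun j : Fin p => x₀ ^ (j : ℕ)) =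
        E.symm '' (Set.range fun j : Fin p => d ^ (j : ℕ)) := by
      rw [← Set.range_comp]
      congr 1
      funext j
      exact hx₀pow j
    rw [h1, ← LinearEquiv.coe_coe, ← Submodule.map_span, hd, Submodule.map_top,
      LinearMap.range_eq_top]
    exact E.symm.surjective
  exact mul_comm_of_monogenic_fibre e hL x₀ hx₀

end Local


section Global

open Groth.Agent.Lib.ComodIntegral

variable {k : Type u} [CommRing k] (K : Type w) [CommRing K] [Algebra k K] {A : Type v} [CommRing A]
  [HopfAlgebra k A]

/-- The canonical isomorphism `K ⊗ (A ⊗ A) ≃ (K ⊗ A) ⊗_K (K ⊗ A)` (ring version). -/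
noncomputable def phiR : K ⊗[k] (A ⊗[k] A) ≃ₗ[K] (K ⊗[k] A) ⊗[K] (K ⊗[k] A) :=
  (TensorProduct.AlgebraTensorModule.congr (TensorProduct.lid K K).symm
    (LinearEquiv.refl k (A ⊗[k] A))) ≪≫ₗ
    TensorProduct.AlgebraTensorModule.tensorTensorTensorComm k K k K K K A A

theorem phiR_tmul (x : K) (t : A ⊗[k] A) :
    phiR K (x ⊗ₜ[k] t) =
      TensorProduct.AlgebraTensorModule.tensorTensorTensorComm k K k K K K A A
        (((1 : K) ⊗ₜ[K] x) ⊗ₜ[k] t) := by
  simp [phiR]

theorem phiR_tmul_tmul (x : K) (p q : A) :
    phiR K (x ⊗ₜ[k] (p ⊗ₜ[k] q)) = ((1 : K) ⊗ₜ[k] p) ⊗ₜ[K] (x ⊗ₜ[k] q) := by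
  rw [phiR_tmul, TensorProduct.AlgebraTensorModule.tensorTensorTensorComm_tmul]

theorem comul_tmul_phiR (x : K) (a : A) :
    CoalgebraStruct.comul (R := K) (x ⊗ₜ[k] a) =
      phiR K (x ⊗ₜ[k] CoalgebraStruct.comul (R := k) a) := by
  rw [comul_tmul_eq, phiR_tmul]

theorem phiR_comm (t : A ⊗[k] A) :
    phiR K ((1 : K) ⊗ₜ[k] (TensorProduct.comm k A A t)) =
      TensorProduct.comm K (K ⊗[k] A) (K ⊗[k] A) (phiR K ((1 : K) ⊗ₜ[k] t)) := by
  induction t using TensorProduct.induction_on with
  | zero => simp
  | add x y hx hy => simp only [map_add, TensorProduct.tmul_add, hx, hy]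
  | tmul p q =>
    rw [TensorProduct.comm_tmul, phiR_tmul_tmul, phiR_tmul_tmul, TensorProduct.comm_tmul]

/-- **Group schemes of prime order are commutative** (any base ring). -/
theorem isCocomm_of_rankAtStalk_eq_prime (R : Type u) [CommRing R] (p : ℕ) (hp : p.Prime)
    (A : Type v) [CommRing A] [HopfAlgebra R A] [Module.Finite R A] [Module.Projective R A]
    (h : ∀ q : PrimeSpectrum R, Module.rankAtStalk A q = p) : Coalgebra.IsCocomm R A := by
  refine ⟨LinearMap.ext fun a => ?_⟩
  rw [LinearMap.comp_apply, ← sub_eq_zero]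
  refine Module.eq_zero_of_localization_maximal
    (fun P _ => Localization.AtPrime P ⊗[R] (A ⊗[R] A))
    (fun P _ => TensorProduct.mk R (Localization.AtPrime P) (A ⊗[R] A) 1) _ ?_
  intro P hP
  have hPp : P.IsPrime := hP.isPrime
  show (1 : Localization.AtPrime P) ⊗ₜ[R] _ = 0
  have hfree : Module.Free (Localization.AtPrime P) (Localization.AtPrime P ⊗[R] A) :=
    Module.free_of_flat_of_isLocalRing
  have hfr : Module.finrank (Localization.AtPrime P) (Localization.AtPrime P ⊗[R] A) = p := by
    rw [← h ⟨P, hPp⟩, Module.rankAtStalk_eq_finrank_tensorProduct]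
  have hc := isCocomm_of_isLocalRing (Localization.AtPrime P) (Localization.AtPrime P ⊗[R] A) p hp
    hfr
  rw [TensorProduct.tmul_sub, sub_eq_zero]
  apply (phiR (Localization.AtPrime P) (A := A)).injective
  have key := phiR_comm (Localization.AtPrime P) (CoalgebraStruct.comul (R := R) a)
  refine key.trans ?_
  rw [← comul_tmul_phiR, Coalgebra.comm_comul]

end Global

end Groth.Agent.Lib.PrimeOrderComm55
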