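import Mathlib
import Groth.Prelude.Def_CartDual2
import Groth.Prelude.Def_SGA3b
import Groth.Agent.Lib.PrimeOrderComm55c

/-!
# Finite groups of multiplicative type and étale Cartier duals (helper41)

* `connectedSpace_of_idempotents`, `eq_zero_or_eq_one_of_connectedSpace`: connected spectrum ↔ only
  trivial idempotents.
* `exists_connected_quotient`, `exists_connected_split_cover`: over a connected base a finite étale
  algebra is split by a *connected* finite étale faithfully flat cover (on top of Mathlib's
  `Algebra.IsFiniteSplit.exists_tensorProduct_of_etale`).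
* `dualBC`, `dualBC_bijective`: base change of the dual Hopf algebra of a finite projective Hopf
  algebra, `L ⊗ D_R(A) ≃ D_L(L ⊗ A)` (on helper55's `bc`).
* `evalAlgHom`, `exists_groupLike_of_algHom`: group-likes of `A` = algebra maps `D(A) → T`.
* `exists_eq_eval_of_algHom`: algebra maps `T^n → T` are projections (no nontrivial idempotents).
* `isDiag_of_split_dual`, `etale_dual_of_isDiag`, `etale_dual_of_isIsotrivial`,
  `isIsotrivial_of_etale_dual`.
-/

set_option autoImplicit false
set_option linter.unusedSectionVars false

universe u v w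

open scoped TensorProduct

namespace Groth.Agent.Lib.FinMult41

open CartDual Groth.Agent.Lib.PrimeOrderComm55


section Connected

variable {R : Type u} [CommRing R]

/-- A nontrivial ring with only trivial idempotents has connected spectrum. -/
theorem connectedSpace_of_idempotents (T : Type*) [CommRing T] [Nontrivial T]
    (h : ∀ e : T, IsIdempotentElem e → e = 0 ∨ e = 1) : ConnectedSpace (PrimeSpectrum T) := by
  rw [connectedSpace_iff_clopen]
  refine ⟨inferInstance, fun s hs => ?_⟩
  obtain ⟨e, he, rfl⟩ := PrimeSpectrum.isClopen_iff.1 hs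
  rcases h e he with h0 | h1
  · left
    rw [h0, PrimeSpectrum.basicOpen_zero]
    rfl
  · right
    rw [h1, PrimeSpectrum.basicOpen_one]
    rfl

theorem eq_zero_of_basicOpen_eq_empty (e : R) (he : IsIdempotentElem e)
    (h : (PrimeSpectrum.basicOpen e : Set (PrimeSpectrum R)) = ∅) : e = 0 := by
  have h1 : PrimeSpectrum.basicOpen e = ⊥ := by
    ext x
    simp only [TopologicalSpace.Opens.coe_bot, Set.mem_empty_iff_false, iff_false]
    intro hx
    have : x ∈ (PrimeSpectrum.basicOpen e : Set (PrimeSpectrum R)) := hx
    rw [h] at this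
    exact this
  rw [PrimeSpectrum.basicOpen_eq_bot_iff] at h1
  obtain ⟨n, hn⟩ := h1
  rcases Nat.eq_zero_or_pos n with rfl | hpos
  · rw [pow_zero] at hn
    have : Subsingleton R := subsingleton_of_zero_eq_one hn.symm
    exact Subsingleton.elim _ _
  · rw [he.pow_eq (Nat.pos_iff_ne_zero.1 hpos)] at hn
    exact hn

/-- In a ring with connected spectrum the only idempotents are `0` and `1`. -/
theorem eq_zero_or_eq_one_of_connectedSpace [ConnectedSpace (PrimeSpectrum R)] (e : R)
    (he : IsIdempotentElem e) : e = 0 ∨ e = 1 := by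
  have hcl : IsClopen (PrimeSpectrum.basicOpen e : Set (PrimeSpectrum R)) :=
    PrimeSpectrum.isClopen_iff.2 ⟨e, he, rfl⟩
  rcases isClopen_iff.1 hcl with h | h
  · left
    exact eq_zero_of_basicOpen_eq_empty e he h
  · right
    have h2 : (PrimeSpectrum.basicOpen (1 - e) : Set (PrimeSpectrum R)) = ∅ := by
      ext x
      simp only [Set.mem_empty_iff_false, iff_false]
      intro hx
      have hx1 : x ∈ (PrimeSpectrum.basicOpen e : Set (PrimeSpectrum R)) := by rw [h]; trivial
      have hx2 : x ∈ PrimeSpectrum.basicOpen (e * (1 - e)) := by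
        rw [PrimeSpectrum.basicOpen_mul]
        exact ⟨hx1, hx⟩
      rw [mul_sub, mul_one, he.eq, sub_self, PrimeSpectrum.basicOpen_zero] at hx2
      exact hx2
    have := eq_zero_of_basicOpen_eq_empty (1 - e) he.one_sub h2
    exact (sub_eq_zero.1 this).symm

variable [ConnectedSpace (PrimeSpectrum R)]

/-- Over a connected base, a finite flat finitely presented module has constant rank. -/
theorem exists_rankAtStalk_eq (M : Type v) [AddCommGroup M] [Module R M]
    [Module.FinitePresentation R M] [Module.Flat R M] :
    ∃ n : ℕ, Module.rankAtStalk (R := R) M = n := by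
  obtain ⟨p⟩ : Nonempty (PrimeSpectrum R) := inferInstance
  refine ⟨Module.rankAtStalk M p, ?_⟩
  funext q
  exact (Module.isLocallyConstant_rankAtStalk (R := R) (M := M)).apply_eq_of_preconnectedSpace q p

/-- A quotient of an étale algebra by an ideal generated by an idempotent is étale. -/
theorem etale_quotient_span_idem (T : Type u) [CommRing T] [Algebra R T] [Algebra.Etale R T]
    (e : T) (he : IsIdempotentElem e) : Algebra.Etale R (T ⧸ Ideal.span {e}) := by
  have hloc : IsLocalization.Away (1 - e) (T ⧸ Ideal.span {e}) := by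
    apply IsLocalization.away_of_isIdempotentElem he.one_sub
    · rw [sub_sub_cancel]
      exact Ideal.mk_ker
    · exact Ideal.Quotient.mk_surjective
  have : Algebra.Etale T (T ⧸ Ideal.span {e}) := Algebra.Etale.of_isLocalizationAway (1 - e)
  exact Algebra.Etale.comp R T (T ⧸ Ideal.span {e})

theorem nontrivial_quotient_span_idem (T : Type u) [CommRing T] (e : T)
    (he : IsIdempotentElem e) (he1 : e ≠ 1) : Nontrivial (T ⧸ Ideal.span {e}) := by
  rw [Ideal.Quotient.nontrivial_iff]
  intro htop
  rw [Ideal.span_singleton_eq_top] at htop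
  obtain ⟨u, rfl⟩ := htop
  apply he1
  have : (u : T) * u = u := he
  calc (u : T) = ↑u⁻¹ * (↑u * ↑u) := by rw [← mul_assoc, Units.inv_mul, one_mul]
    _ = ↑u⁻¹ * ↑u := by rw [this]
    _ = 1 := Units.inv_mul u

/-- Over a connected base, every nontrivial finite étale algebra maps to a connected finite étale
algebra. -/
theorem exists_connected_quotient :
    ∀ (n : ℕ) (T : Type u) [CommRing T] [Algebra R T] [Algebra.Etale R T] [Module.Finite R T],
      Module.rankAtStalk (R := R) T = n → Nontrivial T →
      ∃ (T' : Type u) (_ : CommRing T') (_ : Algebra R T') (_ : T →ₐ[R] T'),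
        Algebra.Etale R T' ∧ Module.Finite R T' ∧ Nontrivial T' ∧
          ∀ e : T', IsIdempotentElem e → e = 0 ∨ e = 1 := by
  intro n
  induction n using Nat.strong_induction_on with
  | _ n ih =>
    intro T _ _ _ _ hn hnt
    by_cases hT : ∀ e : T, IsIdempotentElem e → e = 0 ∨ e = 1
    · exact ⟨T, inferInstance, inferInstance, AlgHom.id R T, inferInstance, inferInstance, hnt, hT⟩
    · push Not at hT
      obtain ⟨e, he, he0, he1⟩ := hT
      have hnt₁ : Nontrivial (T ⧸ Ideal.span {e}) := nontrivial_quotient_span_idem T e he he1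
      have hnt₂ : Nontrivial (T ⧸ Ideal.span {1 - e}) :=
        nontrivial_quotient_span_idem T (1 - e) he.one_sub (fun h => he0 (by
          have := sub_eq_self.1 h
          exact this))
      have het₁ : Algebra.Etale R (T ⧸ Ideal.span {e}) := etale_quotient_span_idem T e he
      have het₂ : Algebra.Etale R (T ⧸ Ideal.span {1 - e}) :=
        etale_quotient_span_idem T (1 - e) he.one_sub
      have hfin₁ : Module.Finite R (T ⧸ Ideal.span {e}) :=
        Module.Finite.of_surjective (Ideal.Quotient.mkₐ R (Ideal.span {e})).toLinearMap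
          (Ideal.Quotient.mkₐ_surjective R _)
      have hfin₂ : Module.Finite R (T ⧸ Ideal.span {1 - e}) :=
        Module.Finite.of_surjective (Ideal.Quotient.mkₐ R (Ideal.span {1 - e})).toLinearMap
          (Ideal.Quotient.mkₐ_surjective R _)
      let eq : T ≃ₐ[R] (T ⧸ Ideal.span {e}) × (T ⧸ Ideal.span {1 - e}) :=
        AlgEquiv.prodQuotientOfIsIdempotentElem R he he.one_sub (by ring)
          (by rw [mul_sub, mul_one, he.eq, sub_self])
      have hfp₁ : Module.FinitePresentation R (T ⧸ Ideal.span {e}) :=
        Module.FinitePresentation.of_finite_of_finitePresentation _ _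
      have hfp₂ : Module.FinitePresentation R (T ⧸ Ideal.span {1 - e}) :=
        Module.FinitePresentation.of_finite_of_finitePresentation _ _
      obtain ⟨n₁, hn₁⟩ := exists_rankAtStalk_eq (R := R) (T ⧸ Ideal.span {e})
      obtain ⟨n₂, hn₂⟩ := exists_rankAtStalk_eq (R := R) (T ⧸ Ideal.span {1 - e})
      have hsum : n = n₁ + n₂ := by
        obtain ⟨p⟩ : Nonempty (PrimeSpectrum R) := inferInstance
        have h1 := Module.rankAtStalk_eq_of_equiv (R := R) eq.toLinearEquiv
        rw [Module.rankAtStalk_prod, hn, hn₁, hn₂] at h1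
        have := congrFun h1 p
        simpa using this
      have hn₂pos : 0 < n₂ := by
        rw [Nat.pos_iff_ne_zero]
        rintro rfl
        rw [Nat.cast_zero, Module.rankAtStalk_eq_zero_iff_subsingleton] at hn₂
        exact not_subsingleton _ hn₂
      obtain ⟨T', _, _, φ, h1, h2, h3, h4⟩ := ih n₁ (by omega) (T ⧸ Ideal.span {e}) hn₁ hnt₁
      exact ⟨T', inferInstance, inferInstance, φ.comp (Ideal.Quotient.mkₐ R (Ideal.span {e})),
        h1, h2, h3, h4⟩

end Connected


section SplitCover

variable {R : Type u} [CommRing R] [ConnectedSpace (PrimeSpectrum R)]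

/-- A nontrivial finite étale algebra over a connected base is faithfully flat. -/
theorem faithfullyFlat_of_finite_etale_of_nontrivial (T : Type u) [CommRing T] [Algebra R T]
    [Algebra.Etale R T] [Module.Finite R T] [Nontrivial T] : Module.FaithfullyFlat R T := by
  have hfp : Module.FinitePresentation R T :=
    Module.FinitePresentation.of_finite_of_finitePresentation _ _
  obtain ⟨n, hn⟩ := exists_rankAtStalk_eq (R := R) T
  have hpos : 0 < n := by
    rw [Nat.pos_iff_ne_zero]
    rintro rfl
    rw [Nat.cast_zero, Module.rankAtStalk_eq_zero_iff_subsingleton] at hn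
    exact not_subsingleton _ hn
  apply Module.FaithfullyFlat.of_comap_surjective
  rw [← PrimeSpectrum.rankAtStalk_pos_iff_comap_surjective]
  intro p
  simp [hn, hpos]

/-- Over a connected base, a finite étale algebra is split by a connected finite étale faithfully
flat cover. -/
theorem exists_connected_split_cover (E : Type u) [CommRing E] [Algebra R E] [Algebra.Etale R E]
    [Module.Finite R E] :
    ∃ (T : Type u) (_ : CommRing T) (_ : Algebra R T),
      Algebra.Etale R T ∧ Module.Finite R T ∧ Module.FaithfullyFlat R T ∧ Nontrivial T ∧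
        (∀ e : T, IsIdempotentElem e → e = 0 ∨ e = 1) ∧
        ∃ n : ℕ, Nonempty ((T ⊗[R] E) ≃ₐ[T] (Fin n → T)) := by
  have hfpE : Module.FinitePresentation R E :=
    Module.FinitePresentation.of_finite_of_finitePresentation _ _
  obtain ⟨n, hn⟩ := exists_rankAtStalk_eq (R := R) E
  obtain ⟨T₀, _, _, hff₀, hfin₀, het₀, hsplit₀⟩ :=
    Algebra.IsFiniteSplit.exists_tensorProduct_of_etale (R := R) (S := E) hn
  have hntR : Nontrivial R := PrimeSpectrum.nonempty_iff_nontrivial.1 inferInstance
  have hnt₀ : Nontrivial T₀ :=
    (FaithfulSMul.algebraMap_injective R T₀).nontrivial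
  have hfp₀ : Module.FinitePresentation R T₀ :=
    Module.FinitePresentation.of_finite_of_finitePresentation _ _
  obtain ⟨m, hm⟩ := exists_rankAtStalk_eq (R := R) T₀
  obtain ⟨T', _, _, φ, het', hfin', hnt', hidem'⟩ := exists_connected_quotient m T₀ hm hnt₀
  refine ⟨T', inferInstance, inferInstance, het', hfin',
    faithfullyFlat_of_finite_etale_of_nontrivial T', hnt', hidem', ?_⟩
  let _ : Algebra T₀ T' := φ.toRingHom.toAlgebra
  have : IsScalarTower R T₀ T' := IsScalarTower.of_algebraMap_eq fun x => (φ.commutes x).symm
  have h1 : Algebra.IsFiniteSplit T' (T' ⊗[T₀] (T₀ ⊗[R] E)) := inferInstance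
  have h2 : Algebra.IsFiniteSplit T' (T' ⊗[R] E) :=
    Algebra.IsFiniteSplit.of_algEquiv (Algebra.TensorProduct.cancelBaseChange R T₀ T' T' E)
  exact Algebra.IsFiniteSplit.nonempty_algEquiv_fun T' (T' ⊗[R] E)

end SplitCover



section DualBC

variable (R : Type u) [CommRing R] (L : Type u) [CommRing L] [Algebra R L]
  (A : Type u) [CommRing A] [HopfAlgebra R A] [Module.Finite R A] [Module.Projective R A]

/-- Base change of the dual algebra, as an `L`-algebra map. -/
noncomputable def dualBC : L ⊗[R] D R A →ₐ[L] D L (L ⊗[R] A) :=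
  Algebra.TensorProduct.lift (Algebra.ofId L (D L (L ⊗[R] A))) (bc (R := R) (A := A) L)
    (fun l _ => Algebra.commutes l _)

theorem dualBC_tmul (l : L) (φ : D R A) : dualBC R L A (l ⊗ₜ[R] φ) = l • bc (R := R) (A := A) L φ := by
  refine (Algebra.TensorProduct.lift_tmul _ _ _ l φ).trans ?_
  exact (Algebra.smul_def l _).symm

theorem dualBC_tmul_apply (l l' : L) (φ : D R A) (a : A) :
    dualBC R L A (l ⊗ₜ[R] φ) (l' ⊗ₜ[R] a) = l * (φ a • l') := by
  rw [dualBC_tmul]
  show l • (bc (R := R) (A := A) L φ).ofConv (l' ⊗ₜ[R] a) = _
  rw [bc_apply_tmul, smul_eq_mul]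

theorem dualBC_bijective : Function.Bijective (dualBC R L A) := by
  let e1 : L ⊗[R] D R A ≃ₗ[R] Module.Dual R A ⊗[R] L :=
    (TensorProduct.congr (LinearEquiv.refl R L) (toDual R A)).trans (TensorProduct.comm R L _)
  let e2 : Module.Dual R A ⊗[R] L ≃ₗ[R] (A →ₗ[R] L) := dualTensorHomEquiv R A L
  let e3 : (A →ₗ[R] L) ≃ₗ[L] (L ⊗[R] A →ₗ[L] L) := LinearMap.liftBaseChangeEquiv L
  have key : ∀ z : L ⊗[R] D R A, (dualBC R L A z).ofConv = e3 (e2 (e1 z)) := by
    intro z
    induction z using TensorProduct.induction_on with
    | zero => simp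
    | add x y hx hy =>
      rw [map_add, map_add, map_add, map_add, ← hx, ← hy]
      rfl
    | tmul l φ =>
      apply LinearMap.ext
      intro w
      induction w using TensorProduct.induction_on with
      | zero => simp
      | add x y hx hy => rw [map_add, map_add, hx, hy]
      | tmul l' a =>
        have h1 := dualBC_tmul_apply R L A l l' φ a
        rw [coe_apply] at h1
        rw [h1]
        show _ = l' • (e2 (e1 (l ⊗ₜ[R] φ)) a)
        simp [e1, e2, mul_comm, Algebra.smul_def, mul_left_comm]
  constructor
  · intro x y hxy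
    have := congrArg WithConv.ofConv hxy
    rw [key, key] at this
    exact e1.injective (e2.injective (e3.injective this))
  · intro ψ
    obtain ⟨z, hz⟩ : ∃ z, e3 (e2 (e1 z)) = ψ.ofConv :=
      ⟨e1.symm (e2.symm (e3.symm ψ.ofConv)), by simp⟩
    refine ⟨z, ?_⟩
    apply WithConv.ofConv_injective
    rw [key, hz]

end DualBC



section Points

variable {T : Type u} [CommRing T] {A : Type u} [CommRing A] [HopfAlgebra T A]
  [Module.Finite T A] [Module.Projective T A]

/-- Elements of `A` are separated by the dual. -/
theorem eq_of_forall_dual_apply_eq {a b : A} (h : ∀ x : D T A, x a = x b) : a = b := by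
  rw [← sub_eq_zero, ← Module.forall_dual_apply_eq_zero_iff T]
  intro φ
  have := h ((toDual T A).symm φ)
  rw [map_sub, sub_eq_zero]
  exact this

/-- Evaluation at a group-like element is an algebra map on the dual. -/
noncomputable def evalAlgHom {a : A} (ha : IsGroupLikeElem T a) : D T A →ₐ[T] T :=
  AlgHom.ofLinearMap (evalLin T A a).ofConv
    (by
      show (1 : D T A) a = 1
      rw [LinearMap.convOne_apply, ha.counit_eq_one]
      simp)
    (by
      intro x y
      show (x * y) a = x a * y a
      rw [LinearMap.convMul_apply, ha.comul_eq_tmul_self]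
      simp)

theorem evalAlgHom_apply {a : A} (ha : IsGroupLikeElem T a) (x : D T A) :
    evalAlgHom ha x = x a := rfl

/-- Every algebra map from the dual to the base is evaluation at a group-like element. -/
theorem exists_groupLike_of_algHom (χ : D T A →ₐ[T] T) :
    ∃ a : A, IsGroupLikeElem T a ∧ ∀ x : D T A, χ x = x a := by
  let ψ : Module.Dual T (Module.Dual T A) := χ.toLinearMap ∘ₗ (toDual T A).symm.toLinearMap
  obtain ⟨a, ha⟩ := (Module.evalEquiv T A).surjective ψ
  have hχ : ∀ x : D T A, χ x = x a := by
    intro x
    have := LinearMap.congr_fun ha (toDual T A x)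
    rw [Module.evalEquiv_apply, Module.Dual.eval_apply] at this
    show χ x = (toDual T A x) a
    rw [this]
    show _ = χ ((toDual T A).symm (toDual T A x))
    rw [LinearEquiv.symm_apply_apply]
  refine ⟨a, ⟨?_, ?_⟩, hχ⟩
  · have h1 : χ 1 = 1 := map_one χ
    rw [hχ, LinearMap.convOne_apply] at h1
    simpa using h1
  · rw [← sub_eq_zero, ← Module.forall_dual_apply_eq_zero_iff T]
    intro φ
    obtain ⟨z, rfl⟩ := (ev₂ T A).surjective φ
    rw [map_sub, sub_eq_zero]
    induction z using TensorProduct.induction_on with
    | zero => simp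
    | add z w hz hw => rw [map_add, LinearMap.add_apply, LinearMap.add_apply, hz, hw]
    | tmul x y =>
      rw [ev₂_tmul]
      have h2 : χ (x * y) = χ x * χ y := map_mul χ x y
      rw [hχ, hχ, hχ, LinearMap.convMul_apply] at h2
      rw [← h2]
      generalize CoalgebraStruct.comul (R := T) a = w
      induction w using TensorProduct.induction_on with
      | zero => simp
      | add w1 w2 h1 h2 => rw [map_add, map_add, map_add, h1, h2]
      | tmul c d => simp

end Points


section PiHom

variable {T : Type u} [CommRing T] [Nontrivial T] {n : ℕ}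

/-- Over a ring without nontrivial idempotents, every algebra map from a finite product of copies
of the ring to the ring is a projection. -/
theorem exists_eq_eval_of_algHom (hidem : ∀ e : T, IsIdempotentElem e → e = 0 ∨ e = 1)
    (χ : (Fin n → T) →ₐ[T] T) : ∃ i : Fin n, ∀ x : Fin n → T, χ x = x i := by
  classical
  have hid : ∀ i : Fin n, IsIdempotentElem (χ (Pi.single i 1)) := by
    intro i
    show χ (Pi.single i 1) * χ (Pi.single i 1) = χ (Pi.single i 1)
    rw [← map_mul, ← Pi.single_mul, mul_one]
  have hsum : ∑ i : Fin n, χ (Pi.single i (1 : T)) = 1 := by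
    rw [← map_sum, Finset.univ_sum_single]
    exact map_one χ
  have hex : ∃ i : Fin n, χ (Pi.single i (1 : T)) = 1 := by
    by_contra hcon
    push Not at hcon
    have : ∀ i : Fin n, χ (Pi.single i (1 : T)) = 0 := fun i =>
      (hidem _ (hid i)).resolve_right (hcon i)
    rw [Finset.sum_eq_zero (fun i _ => this i)] at hsum
    exact zero_ne_one hsum
  obtain ⟨i, hi⟩ := hex
  refine ⟨i, fun x => ?_⟩
  have horth : ∀ j : Fin n, j ≠ i → χ (Pi.single j (1 : T)) = 0 := by
    intro j hj
    have h1 : χ (Pi.single j (1 : T)) * χ (Pi.single i (1 : T)) = 0 := by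
      rw [← map_mul]
      have : (Pi.single j (1 : T) * Pi.single i (1 : T) : Fin n → T) = 0 := by
        ext k
        simp only [Pi.mul_apply, Pi.single_apply, Pi.zero_apply]
        by_cases h1 : k = j
        · have h2 : k ≠ i := fun h => hj (h1.symm.trans h)
          simp [h1, h2]
          intro h
          exact absurd h hj
        · simp [h1]
      rw [this, map_zero]
    rwa [hi, mul_one] at h1
  have hx : x = ∑ j : Fin n, x j • (Pi.single j (1 : T) : Fin n → T) := by
    ext k
    simp [Finset.sum_apply, Pi.single_apply]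
  conv_lhs => rw [hx]
  rw [map_sum]
  simp only [map_smul, smul_eq_mul]
  rw [Finset.sum_eq_single i]
  · rw [hi, mul_one]
  · intro j _ hj
    rw [horth j hj, mul_zero]
  · intro h
    exact absurd (Finset.mem_univ i) h

end PiHom



section LiftGL

variable {R : Type u} [CommRing R] {B : Type u} [CommRing B] [HopfAlgebra R B]

/-- If the group-like elements are linearly independent and span, `B` is the group algebra of its
group-likes. -/
theorem bijective_liftGroupLike_of_linearIndependent
    (hli : LinearIndependent R (GroupLike.val (R := R) (A := B)))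
    (h : Submodule.span R {a : B | IsGroupLikeElem R a} = ⊤) : Function.Bijective
      (MonoidAlgebra.liftGroupLikeBialgHom : MonoidAlgebra R (GroupLike R B) →ₐc[R] B) := by
  have happ : ∀ x : MonoidAlgebra R (GroupLike R B),
      (MonoidAlgebra.liftGroupLikeBialgHom : MonoidAlgebra R (GroupLike R B) →ₐc[R] B) x =
        Finsupp.linearCombination R (GroupLike.val (R := R) (A := B)) x.coeff := by
    intro x
    rw [Finsupp.linearCombination_apply]
    show MonoidAlgebra.lift R B (GroupLike R B) _ x = _
    rw [MonoidAlgebra.lift_apply]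
    rfl
  constructor
  · rw [injective_iff_map_eq_zero]
    intro x hx
    rw [happ] at hx
    have := (linearIndependent_iff.mp hli) x.coeff hx
    apply MonoidAlgebra.ext
    rw [this]
    rfl
  · intro y
    have hy : y ∈ Submodule.span R {a : B | IsGroupLikeElem R a} := by
      rw [h]; trivial
    clear h
    induction hy using Submodule.span_induction with
    | mem a ha =>
      refine ⟨MonoidAlgebra.single ⟨a, ha⟩ 1, ?_⟩
      rw [happ, MonoidAlgebra.coeff_single, Finsupp.linearCombination_single, one_smul]
    | zero => exact ⟨0, map_zero _⟩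
    | add a b _ _ ha hb =>
      obtain ⟨x, hx⟩ := ha
      obtain ⟨z, hz⟩ := hb
      exact ⟨x + z, by rw [map_add, hx, hz]⟩
    | smul r a _ ha =>
      obtain ⟨x, hx⟩ := ha
      exact ⟨r • x, by rw [map_smul, hx]⟩

end LiftGL

section SplitDual

variable {T : Type u} [CommRing T] [Nontrivial T] {A : Type u} [CommRing A] [HopfAlgebra T A]
  [Module.Finite T A] [Module.Projective T A]

/-- Over a ring without nontrivial idempotents, a finite projective Hopf algebra whose dual is a
split algebra is diagonalisable. -/
theorem isDiag_of_split_dual (hidem : ∀ e : T, IsIdempotentElem e → e = 0 ∨ e = 1) {n : ℕ}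
    (ε : D T A ≃ₐ[T] (Fin n → T)) : SGA3b.IsDiag T A := by
  classical
  -- the characters of the dual
  let χ : Fin n → (D T A →ₐ[T] T) := fun i => (Pi.evalAlgHom T (fun _ : Fin n => T) i).comp ε
  have hχ : ∀ i x, χ i x = ε x i := fun i x => rfl
  choose g hg hgx using fun i => exists_groupLike_of_algHom (χ i)
  -- the dual basis
  let b : Fin n → D T A := fun j => ε.symm (Pi.single j 1)
  have hb : ∀ i j, b j (g i) = if i = j then 1 else 0 := by
    intro i j
    rw [← hgx, hχ]
    show ε (ε.symm (Pi.single j 1)) i = _
    rw [AlgEquiv.apply_symm_apply, Pi.single_apply]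
  have hxb : ∀ x : D T A, x = ∑ j, ε x j • b j := by
    intro x
    apply ε.injective
    rw [map_sum]
    simp only [map_smul, b, AlgEquiv.apply_symm_apply]
    ext k
    simp [Finset.sum_apply, Pi.single_apply]
  -- every group-like is one of the `g i`
  have hall : ∀ a : A, IsGroupLikeElem T a → ∃ i, a = g i := by
    intro a ha
    obtain ⟨i, hi⟩ := exists_eq_eval_of_algHom hidem ((evalAlgHom ha).comp ε.symm.toAlgHom)
    refine ⟨i, eq_of_forall_dual_apply_eq (T := T) fun x => ?_⟩
    have := hi (ε x)
    rw [← hgx, hχ, ← this]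
    show x a = evalAlgHom ha (ε.symm (ε x))
    rw [AlgEquiv.symm_apply_apply]
    rfl
  -- spanning
  have hspan : Submodule.span T {a : A | IsGroupLikeElem T a} = ⊤ := by
    rw [eq_top_iff]
    rintro a -
    have ha : a = ∑ i, b i a • g i := by
      apply eq_of_forall_dual_apply_eq (T := T)
      intro x
      rw [coe_apply, map_sum]
      conv_lhs => rw [hxb x]
      rw [WithConv.ofConv_sum, LinearMap.sum_apply]
      refine Finset.sum_congr rfl fun i _ => ?_
      rw [map_smul, smul_eq_mul, ← coe_apply, ← hgx, hχ, mul_comm]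
      rfl
    rw [ha]
    exact Submodule.sum_mem _ fun i _ => Submodule.smul_mem _ _ (Submodule.subset_span (hg i))
  -- linear independence
  have hli : LinearIndependent T (GroupLike.val (R := T) (A := A)) := by
    rw [linearIndependent_iff']
    intro s c h0 k hk
    obtain ⟨ik, hik⟩ := hall k.val k.isGroupLikeElem_val
    have h1 := congrArg (fun a => b ik a) h0
    beta_reduce at h1
    rw [coe_apply, map_sum, map_zero] at h1
    rw [Finset.sum_eq_single k] at h1
    · rw [map_smul, smul_eq_mul, ← coe_apply, hik, hb, if_pos rfl, mul_one] at h1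
      exact h1
    · intro m _ hmk
      obtain ⟨im, him⟩ := hall m.val m.isGroupLikeElem_val
      rw [map_smul, smul_eq_mul, ← coe_apply, him, hb]
      have : im ≠ ik := by
        intro h
        apply hmk
        apply GroupLike.val_injective
        rw [him, hik, h]
      rw [if_neg this, mul_zero]
    · intro h
      exact absurd hk h
  refine ⟨GroupLike T A, inferInstance, ⟨?_⟩⟩
  exact (BialgEquiv.ofBijective _ (bijective_liftGroupLike_of_linearIndependent hli hspan)).symm

end SplitDual



section EtaleDual

variable {T : Type u} [CommRing T] [Nontrivial T] {A : Type u} [CommRing A] [HopfAlgebra T A]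
  [Module.Finite T A] [Module.Projective T A] [Coalgebra.IsCocomm T A]

/-- The dual of a finite diagonalisable Hopf algebra is étale. -/
theorem etale_dual_of_isDiag (h : SGA3b.IsDiag T A) : Algebra.Etale T (D T A) := by
  classical
  obtain ⟨M, _, ⟨e⟩⟩ := h
  let bM : Module.Basis M T A :=
    (MonoidAlgebra.basis M T).map (e.symm : MonoidAlgebra T M ≃ₐc[T] A).toLinearEquiv
  have hfinM : Finite M := Module.Finite.finite_basis bM
  have hg : ∀ m : M, IsGroupLikeElem T (bM m) := by
    intro m
    have h1 : bM m = (e.symm : MonoidAlgebra T M ≃ₐc[T] A) (MonoidAlgebra.single m 1) := rfl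
    rw [h1]
    exact (MonoidAlgebra.isGroupLikeElem_single_one m).map _
  let Φ : D T A →ₐ[T] (M → T) := AlgHom.pi (fun m => evalAlgHom (hg m))
  have hΦ : ∀ x m, Φ x m = x (bM m) := fun x m => rfl
  have hbij : Function.Bijective Φ := by
    constructor
    · intro x y hxy
      apply WithConv.ofConv_injective
      apply bM.ext
      intro m
      have := congrFun hxy m
      rw [hΦ, hΦ] at this
      exact this
    · intro f
      refine ⟨WithConv.toConv (bM.constr T f), ?_⟩
      funext m
      rw [hΦ]
      show (bM.constr T f) (bM m) = f m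
      rw [Module.Basis.constr_basis]
  exact Algebra.Etale.of_equiv (AlgEquiv.ofBijective Φ hbij).symm

end EtaleDual

section Isotrivial

variable (R : Type u) [CommRing R] [Nontrivial R] (A : Type u) [CommRing A] [HopfAlgebra R A]
  [Coalgebra.IsCocomm R A] [Module.Finite R A] [Module.Projective R A]

/-- The dual of a finite isotrivial Hopf algebra is étale. -/
theorem etale_dual_of_isIsotrivial (h : SGA3b.IsIsotrivial R A) : Algebra.Etale R (D R A) := by
  obtain ⟨R', _, _, het, hfin, hff, hdiag⟩ := h
  have hnt : Nontrivial R' := (FaithfulSMul.algebraMap_injective R R').nontrivial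
  have h1 : Algebra.Etale R' (D R' (R' ⊗[R] A)) := etale_dual_of_isDiag hdiag
  have h2 : Algebra.Etale R' (R' ⊗[R] D R A) :=
    Algebra.Etale.of_equiv (AlgEquiv.ofBijective (dualBC R R' A) (dualBC_bijective R R' A)).symm
  exact Algebra.Etale.of_etale_tensorProduct_of_faithfullyFlat R'

/-- A finite projective cocommutative Hopf algebra over a connected base whose dual is étale is
isotrivial. -/
theorem isIsotrivial_of_etale_dual [ConnectedSpace (PrimeSpectrum R)]
    (h : Algebra.Etale R (D R A)) : SGA3b.IsIsotrivial R A := by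
  obtain ⟨T, _, _, het, hfin, hff, hnt, hidem, n, ⟨e⟩⟩ := exists_connected_split_cover (R := R) (D R A)
  refine ⟨T, inferInstance, inferInstance, het, hfin, hff, ?_⟩
  let ε : D T (T ⊗[R] A) ≃ₐ[T] (Fin n → T) :=
    (AlgEquiv.ofBijective (dualBC R T A) (dualBC_bijective R T A)).symm.trans e
  exact isDiag_of_split_dual hidem ε

end Isotrivial

end Groth.Agent.Lib.FinMult41
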