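import Groth.Agent.Lib.MultTors55e
import Groth.Agent.Lib.MultType58e

/-!
# Groups of multiplicative type over a local ring

* `isMultTypeConst_of_isLocalRing`: over a local ring the type is constant.
* `free_of_finite_of_isMultTypeConst`: a finite group of multiplicative type over a local ring is
  free as a module.
* `trivial_of_closedFibre_of_finite`: a homomorphism from a finite group of multiplicative type over
  a local ring which is trivial on the closed fibre is trivial (Nakayama / Krull).
-/

set_option autoImplicit false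
set_option linter.unusedSectionVars false
set_option linter.unusedVariables false

universe u

open TensorProduct WithConv

namespace Groth.Agent.Lib.MultTors55

open Groth.Agent.Lib.MultType58

section Local

variable {R : Type u} [CommRing R] {A : Type u} [CommRing A] [HopfAlgebra R A]

theorem exists_isUnit_of_span_eq_top [IsLocalRing R] (s : Set R) (hs : Ideal.span s = ⊤) :
    ∃ f ∈ s, IsUnit f := by
  by_contra hcon
  push_neg at hcon
  have h1 : Ideal.span s ≤ IsLocalRing.maximalIdeal R := by
    rw [Ideal.span_le]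
    intro x hx
    exact (IsLocalRing.mem_maximalIdeal x).mpr (hcon x hx)
  rw [hs] at h1
  exact (IsLocalRing.maximalIdeal.isMaximal R).ne_top (top_le_iff.mp h1)

theorem isDiag_of_bialgEquiv {B : Type u} [CommRing B] [HopfAlgebra R B] (e : A ≃ₐc[R] B)
    (h : SGA3b.IsDiag R B) : SGA3b.IsDiag R A := by
  obtain ⟨M, _, ⟨e'⟩⟩ := h
  exact ⟨M, inferInstance, ⟨e.trans e'⟩⟩

/-- Over a local ring, a group of multiplicative type has constant type. -/
theorem isMultTypeConst_of_isLocalRing [IsLocalRing R] (h : SGA3b.IsMultType R A) :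
    SGA3b.IsMultTypeConst R A := by
  obtain ⟨s, hs, hf⟩ := h
  obtain ⟨f, hfs, hfu⟩ := exists_isUnit_of_span_eq_top s hs
  obtain ⟨R', _, _, hff, hd⟩ := hf f hfs
  letI : Algebra R R' :=
    ((algebraMap (Localization.Away f) R').comp (algebraMap R (Localization.Away f))).toAlgebra
  haveI : IsScalarTower R (Localization.Away f) R' := IsScalarTower.of_algebraMap_eq' rfl
  have e : R ≃ₐ[R] Localization.Away f :=
    IsLocalization.atUnits R (Submonoid.powers f) (by
      rintro x ⟨n, rfl⟩
      exact hfu.pow n)
  haveI : Module.FaithfullyFlat R (Localization.Away f) :=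
    Module.FaithfullyFlat.of_linearEquiv R R e.symm.toLinearEquiv
  haveI : Module.FaithfullyFlat R R' := Module.FaithfullyFlat.trans R (Localization.Away f) R'
  refine ⟨R', inferInstance, inferInstance, inferInstance, ?_⟩
  have hbij : Function.Bijective (cancelBialgHom R (Localization.Away f) R' A) :=
    (Algebra.TensorProduct.cancelBaseChange R (Localization.Away f) R' R' A).bijective
  exact isDiag_of_bialgEquiv
    (BialgEquiv.ofBijective (cancelBialgHom R (Localization.Away f) R' A) hbij).symm hd

/-- A finite group of multiplicative type over a local ring is free as a module. -/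
theorem free_of_finite_of_isMultTypeConst [IsLocalRing R] [Module.Finite R A]
    (h : SGA3b.IsMultTypeConst R A) : Module.Free R A := by
  obtain ⟨R', _, _, hff, M, _, ⟨e⟩⟩ := h
  haveI : Module.Free R' (R' ⊗[R] A) :=
    Module.Free.of_equiv ((e : R' ⊗[R] A ≃ₐ[R'] MonoidAlgebra R' M).toLinearEquiv.symm)
  haveI : Module.Flat R A := Module.Flat.of_flat_tensorProduct R A R'
  exact Module.free_of_flat_of_isLocalRing

end Local

section FiniteCase

variable {R : Type u} [CommRing R] {B : Type u} [CommRing B] [HopfAlgebra R B]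

theorem mem_map_iff_repr_mem {ι : Type*} (β : Module.Basis ι R B) (I : Ideal R) (x : B) :
    x ∈ I.map (algebraMap R B) ↔ ∀ i, β.repr x i ∈ I := by
  have h1 : x ∈ I.map (algebraMap R B) ↔ x ∈ I • (⊤ : Submodule R B) := by
    rw [Ideal.smul_top_eq_map]
    rfl
  rw [h1, ← β.span_eq, Submodule.mem_ideal_smul_span_iff_exists_sum]
  constructor
  · rintro ⟨a, ha, rfl⟩ i
    have h2 : β.repr (a.sum fun i c => c • β i) = a := by
      have := β.repr_linearCombination a
      rwa [Finsupp.linearCombination_apply] at this
    rw [h2]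
    exact ha i
  · intro h
    refine ⟨β.repr x, h, ?_⟩
    have := β.linearCombination_repr x
    rwa [Finsupp.linearCombination_apply] at this

variable {C : Type u} [CommRing C] [Bialgebra R C]

/-- The elements on which `φ` and the trivial map agree modulo `J` form a subalgebra. -/
theorem forall_sub_counit_mem_of_adjoin (φ : C →ₐc[R] B) (J : Ideal B) (G : Set C)
    (hG : Algebra.adjoin R G = ⊤)
    (h : ∀ c ∈ G, φ c - algebraMap R B (Coalgebra.counit c) ∈ J) (c : C) :
    φ c - algebraMap R B (Coalgebra.counit c) ∈ J := by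
  let f : C →ₐ[R] B ⧸ J := (Ideal.Quotient.mkₐ R J).comp (φ : C →ₐ[R] B)
  let g : C →ₐ[R] B ⧸ J :=
    (Ideal.Quotient.mkₐ R J).comp ((Algebra.ofId R B).comp (Bialgebra.counitAlgHom R C))
  have hle : Algebra.adjoin R G ≤ AlgHom.equalizer f g := by
    rw [Algebra.adjoin_le_iff]
    intro c hc
    rw [SetLike.mem_coe, AlgHom.mem_equalizer]
    exact Ideal.Quotient.eq.mpr (h c hc)
  rw [hG] at hle
  have hc : c ∈ AlgHom.equalizer f g := hle Algebra.mem_top
  rw [AlgHom.mem_equalizer] at hc
  exact Ideal.Quotient.eq.mp hc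

/-- A homomorphism from a finite group of multiplicative type over a local ring, trivial on the
closed fibre, is trivial. -/
theorem trivial_of_closedFibre_of_finite [IsLocalRing R] [Module.Finite R B]
    (hB : SGA3b.IsMultType R B) (hC : IsNoetherianRing R ∨ Algebra.FiniteType R C)
    (φ : C →ₐc[R] B)
    (hs : ∀ c : C, φ c - algebraMap R B (Coalgebra.counit c) ∈
      (IsLocalRing.maximalIdeal R).map (algebraMap R B)) :
    ∀ c : C, φ c = algebraMap R B (Coalgebra.counit c) := by
  classical
  have hrig := rigid2_of_isMultType hB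
  rcases hC with hN | hft
  · intro c
    have h2 : φ c - algebraMap R B (Coalgebra.counit c) ∈
        (⨅ i : ℕ, (IsLocalRing.maximalIdeal R) ^ i • ⊤ : Submodule R B) := by
      rw [Submodule.mem_iInf]
      intro i
      rcases i with _ | k
      · rw [pow_zero, Ideal.one_eq_top, Submodule.top_smul]
        exact Submodule.mem_top
      · rw [Ideal.smul_top_eq_map]
        exact hrig _ C φ hs k c
    rw [Ideal.iInf_pow_smul_eq_bot_of_isLocalRing _ (IsLocalRing.maximalIdeal.isMaximal R).ne_top,
      Submodule.mem_bot] at h2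
    exact sub_eq_zero.mp h2
  · have hconst := isMultTypeConst_of_isLocalRing hB
    haveI hfree : Module.Free R B := free_of_finite_of_isMultTypeConst hconst
    let β := Module.Free.chooseBasis R B
    obtain ⟨G, hG⟩ := hft.out
    let d : C → B := fun c => φ c - algebraMap R B (Coalgebra.counit c)
    let T : Finset R := (G ×ˢ (Finset.univ : Finset (Module.Free.ChooseBasisIndex R B))).image
      (fun p => β.repr (d p.1) p.2)
    let 𝔞 : Ideal R := Ideal.span (T : Set R)
    have hT : ∀ c ∈ G, ∀ i, β.repr (d c) i ∈ T := by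
      intro c hc i
      exact Finset.mem_image.mpr ⟨(c, i), Finset.mem_product.mpr ⟨hc, Finset.mem_univ i⟩, rfl⟩
    have h𝔞fg : (𝔞 : Submodule R R).FG := ⟨T, rfl⟩
    have h𝔞le : 𝔞 ≤ IsLocalRing.maximalIdeal R := by
      rw [Ideal.span_le]
      intro r hr
      obtain ⟨p, hp, rfl⟩ := Finset.mem_image.mp hr
      exact (mem_map_iff_repr_mem β _ _).mp (hs p.1) p.2
    have hgen : ∀ c ∈ (G : Set C), d c ∈ 𝔞.map (algebraMap R B) := by
      intro c hc
      rw [mem_map_iff_repr_mem β]
      intro i
      exact Ideal.subset_span (hT c hc i)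
    have hall : ∀ c, d c ∈ 𝔞.map (algebraMap R B) :=
      forall_sub_counit_mem_of_adjoin φ _ (G : Set C) hG hgen
    have hsq : ∀ c, d c ∈ (𝔞 ^ 2).map (algebraMap R B) := fun c => hrig 𝔞 C φ hall 1 c
    have hle : (𝔞 : Submodule R R) ≤ 𝔞 • (𝔞 : Submodule R R) := by
      have h1 : 𝔞 ≤ 𝔞 ^ 2 := by
        rw [Ideal.span_le]
        intro r hr
        obtain ⟨p, hp, rfl⟩ := Finset.mem_image.mp hr
        exact (mem_map_iff_repr_mem β _ _).mp (hsq p.1) p.2
      rw [sq] at h1
      exact h1
    have h0 : 𝔞 = ⊥ :=
      Submodule.eq_bot_of_le_smul_of_le_jacobson_bot 𝔞 𝔞 h𝔞fg hle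
        (h𝔞le.trans (IsLocalRing.maximalIdeal_le_jacobson ⊥))
    intro c
    have := hall c
    rw [h0, Ideal.map_bot, Ideal.mem_bot] at this
    exact sub_eq_zero.mp this

end FiniteCase

section Main

variable {R : Type u} [CommRing R] {A : Type u} [CommRing A] [HopfAlgebra R A]
variable {C : Type u} [CommRing C] [Bialgebra R C]

/-- Over a local base, a homomorphism from a group of multiplicative type and of finite type
which is trivial on the closed fibre is trivial (S5245 in library form). -/
theorem trivial_of_closedFibre [IsLocalRing R] (hft : Algebra.FiniteType R A)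
    (hH : SGA3b.IsMultType R A) (hC : IsNoetherianRing R ∨ Algebra.FiniteType R C)
    (φ : C →ₐc[R] A)
    (hs : ∀ c : C, φ c - algebraMap R A (Coalgebra.counit c) ∈
      (IsLocalRing.maximalIdeal R).map (algebraMap R A)) :
    ∀ c : C, φ c = algebraMap R A (Coalgebra.counit c) := by
  haveI := isCocomm_of_isMultType hH
  intro c
  rw [← sub_eq_zero]
  apply weakDense_of_isMultType hft hH
  intro n hn
  haveI : (SGA3b.torsionIdeal R A n).IsHopfIdeal R := isHopfIdeal_torsionIdeal R A n
  have hq : TorsQuot R A (A ⧸ SGA3b.torsionIdeal R A n) n :=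
    torsQuot_quotient n (SGA3b.torsionIdeal R A n) rfl
  have hB : SGA3b.IsMultType R (A ⧸ SGA3b.torsionIdeal R A n) := hq.isMultType hH
  haveI : Module.Finite R (A ⧸ SGA3b.torsionIdeal R A n) := hq.finite hn hft hH
  let π : A →ₐc[R] A ⧸ SGA3b.torsionIdeal R A n :=
    Bialgebra.Quotient.mkBialgHom (SGA3b.torsionIdeal R A n)
  have hπ : ∀ a : A, π a = Ideal.Quotient.mk (SGA3b.torsionIdeal R A n) a := fun a => rfl
  have key := trivial_of_closedFibre_of_finite hB hC (π.comp φ) ?_ c
  · rw [BialgHom.comp_apply, hπ] at key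
    have h2 : algebraMap R (A ⧸ SGA3b.torsionIdeal R A n) (Coalgebra.counit c) =
        Ideal.Quotient.mk (SGA3b.torsionIdeal R A n) (algebraMap R A (Coalgebra.counit c)) := rfl
    rw [h2] at key
    exact Ideal.Quotient.eq.mp key
  · intro c
    have h2 : algebraMap R (A ⧸ SGA3b.torsionIdeal R A n) (Coalgebra.counit c) =
        Ideal.Quotient.mk (SGA3b.torsionIdeal R A n) (algebraMap R A (Coalgebra.counit c)) := rfl
    rw [BialgHom.comp_apply, hπ, h2, ← map_sub]
    have h3 := Ideal.mem_map_of_mem (Ideal.Quotient.mk (SGA3b.torsionIdeal R A n)) (hs c)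
    rw [Ideal.map_map] at h3
    exact h3

end Main

end Groth.Agent.Lib.MultTors55
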