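import Groth.Agent.Lib.FinMult41
import Groth.Agent.Lib.MultTors55f
import Groth.Agent.Lib.FFDescent16

/-!
# Finite groups of multiplicative type: projectivity, étale dual, isotriviality

* `projective_of_isMultType`: a finite Hopf algebra of multiplicative type is projective.
* `etale_of_span`: étaleness is Zariski-local on the base.
* `etale_dual_of_isMultType`: the dual of a finite Hopf algebra of multiplicative type is étale.
* `isIsotrivial_of_isMultType`: over a connected base, finite multiplicative type ⇒ isotrivial.
-/

set_option autoImplicit false
set_option linter.unusedSectionVars false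

universe u v w

open scoped TensorProduct

namespace Groth.Agent.Lib.FinMult41

open CartDual Groth.Agent.Lib.PrimeOrderComm55




section Proj

variable {R : Type u} [CommRing R] {A : Type u} [CommRing A] [HopfAlgebra R A]

theorem projective_of_isMultTypeConst [Module.Finite R A] (h : SGA3b.IsMultTypeConst R A) :
    Module.Projective R A := by
  obtain ⟨R', _, _, hff, M, _, ⟨e⟩⟩ := h
  have : Module.Free R' (R' ⊗[R] A) :=
    Module.Free.of_equiv ((e : R' ⊗[R] A ≃ₐ[R'] MonoidAlgebra R' M).toLinearEquiv.symm)
  exact (Groth.Agent.Lib.FFDescent16.finite_projective_of_baseChange R R' A).2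

theorem projective_of_isMultType [Module.Finite R A] (h : SGA3b.IsMultType R A) :
    Module.Projective R A := by
  obtain ⟨s, hs, hf⟩ := h
  have hproj : ∀ g : s, Module.Projective (Localization.Away (g : R))
      (Localization.Away (g : R) ⊗[R] A) := fun g => projective_of_isMultTypeConst (hf g g.2)
  have hfp : Module.FinitePresentation R A :=
    Module.FinitePresentation.of_localizationSpan' s hs
      (Mₚ := fun g => Localization.Away (g : R) ⊗[R] A)
      (Rₚ := fun g => Localization.Away (g : R))
      (fun g => TensorProduct.mk R (Localization.Away (g : R)) A 1)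
      (fun g => Module.finitePresentation_of_projective _ _)
  have hflat : Module.Flat R A :=
    Module.flat_of_isLocalized_span R A s hs
      (fun g => Localization.Away (g : R) ⊗[R] A)
      (fun g => TensorProduct.mk R (Localization.Away (g : R)) A 1)
      (fun g => by
        have := hproj g
        have h1 : Module.Flat (Localization.Away (g : R)) (Localization.Away (g : R) ⊗[R] A) :=
          inferInstance
        exact Module.Flat.trans R (Localization.Away (g : R)) _)
  exact Module.Flat.projective_of_finitePresentation

end Proj




section EtaleGlue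

attribute [local instance] Algebra.TensorProduct.rightAlgebra

theorem etale_of_span {R : Type u} [CommRing R] (E : Type u) [CommRing E] [Algebra R E]
    (s : Set R) (hs : Ideal.span s = ⊤)
    (h : ∀ f ∈ s, Algebra.Etale (Localization.Away f) (Localization.Away f ⊗[R] E)) :
    Algebra.Etale R E := by
  rw [← RingHom.etale_algebraMap]
  apply RingHom.Etale.ofLocalizationSpanTarget (algebraMap R E) (algebraMap R E '' s)
  · rw [← Ideal.map_span, hs, Ideal.map_top]
  · rintro ⟨r, f, hf, rfl⟩
    have h1 := h f hf
    let e : Localization.Away f ⊗[R] E ≃ₐ[E] Localization.Away (algebraMap R E f) :=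
      IsLocalization.Away.tensorRightEquiv E (A := Localization.Away f) (r := f)
    have h2 : RingHom.Etale (algebraMap (Localization.Away f) (Localization.Away f ⊗[R] E)) :=
      RingHom.etale_algebraMap.2 h1
    have h3 : RingHom.Etale (algebraMap R (Localization.Away f)) :=
      RingHom.etale_algebraMap.2 (Algebra.Etale.of_isLocalizationAway f)
    have h4 := RingHom.Etale.stableUnderComposition _ _ h3 h2
    have h5 := RingHom.Etale.respectsIso.1 _ e.toRingEquiv h4
    convert h5 using 1
    ext x
    simp only [RingHom.comp_apply]
    have h6 : algebraMap (Localization.Away f) (Localization.Away f ⊗[R] E)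
        (algebraMap R (Localization.Away f) x) =
        algebraMap E (Localization.Away f ⊗[R] E) (algebraMap R E x) := by
      rw [← IsScalarTower.algebraMap_apply, ← IsScalarTower.algebraMap_apply]
    rw [h6]
    exact (e.commutes (algebraMap R E x)).symm

end EtaleGlue





section EtaleMT

theorem etale_of_subsingleton (T : Type u) (E : Type u) [CommRing T] [CommRing E] [Algebra T E]
    [Subsingleton T] : Algebra.Etale T E := by
  have : Subsingleton E := Module.subsingleton T E
  exact Algebra.Etale.of_equiv (AlgEquiv.ofBijective (Algebra.ofId T E)
    ⟨fun _ _ _ => Subsingleton.elim _ _, fun y => ⟨0, Subsingleton.elim _ _⟩⟩)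

variable {R : Type u} [CommRing R] {A : Type u} [CommRing A] [HopfAlgebra R A]
  [Coalgebra.IsCocomm R A] [Module.Finite R A] [Module.Projective R A]

theorem etale_dual_of_isDiag' (h : SGA3b.IsDiag R A) : Algebra.Etale R (D R A) := by
  rcases subsingleton_or_nontrivial R with hR | hR
  · exact etale_of_subsingleton R (D R A)
  · exact etale_dual_of_isDiag h

theorem etale_dual_of_isMultTypeConst (h : SGA3b.IsMultTypeConst R A) :
    Algebra.Etale R (D R A) := by
  obtain ⟨R', _, _, hff, hd⟩ := h
  have h1 : Algebra.Etale R' (D R' (R' ⊗[R] A)) := etale_dual_of_isDiag' hd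
  have h2 : Algebra.Etale R' (R' ⊗[R] D R A) :=
    Algebra.Etale.of_equiv (AlgEquiv.ofBijective (dualBC R R' A) (dualBC_bijective R R' A)).symm
  exact Algebra.Etale.of_etale_tensorProduct_of_faithfullyFlat R'

theorem etale_dual_of_isMultType (h : SGA3b.IsMultType R A) : Algebra.Etale R (D R A) := by
  obtain ⟨s, hs, hf⟩ := h
  apply etale_of_span (D R A) s hs
  intro f hfs
  have h1 : Algebra.Etale (Localization.Away f)
      (D (Localization.Away f) (Localization.Away f ⊗[R] A)) :=
    etale_dual_of_isMultTypeConst (hf f hfs)
  exact Algebra.Etale.of_equiv (AlgEquiv.ofBijective (dualBC R (Localization.Away f) A)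
    (dualBC_bijective R _ A)).symm

end EtaleMT

/-- A finite group of multiplicative type over a connected base is isotrivial. -/
theorem isIsotrivial_of_isMultType (R : Type u) [CommRing R] [ConnectedSpace (PrimeSpectrum R)]
    (A : Type u) [CommRing A] [HopfAlgebra R A] [Module.Finite R A]
    (hA : SGA3b.IsMultType R A) : SGA3b.IsIsotrivial R A := by
  have hnt : Nontrivial R := PrimeSpectrum.nonempty_iff_nontrivial.1 inferInstance
  have hc := Groth.Agent.Lib.MultTors55.isCocomm_of_isMultType hA
  have hp := projective_of_isMultType hA
  exact isIsotrivial_of_etale_dual R A (etale_dual_of_isMultType hA)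


end Groth.Agent.Lib.FinMult41
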