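import Groth.Agent.Lib.GorChartFlat83
import Groth.Agent.Lib.H8CM6
import Groth.Agent.Lib.H87Serre2
import Groth.Agent.Lib.FTDim

/-!
# Finite injective extensions of regular local rings are free (helper89)

* `free_of_finite_of_injective'` : same-universe version via miracle flatness
  (helper83 `GorChartFlat83.flat_of_regular_of_cm_of_quasiFinite`).
* `free_of_finite_of_injective` : universe-polymorphic version (`R : Type u`, `A : Type v`).
-/

set_option autoImplicit false
universe u v w

open IsLocalRing

namespace Groth.Agent.Lib.FinRegFree89

theorem free_of_finite_of_injective' (R A : Type w) [CommRing R] [CommRing A]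
    [IsRegularLocalRing R] [IsRegularLocalRing A] [Algebra R A] [Module.Finite R A]
    (hinj : Function.Injective (algebraMap R A)) : Module.Free R A := by
  have hint : (algebraMap R A).IsIntegral := Algebra.IsIntegral.isIntegral (R := R) (A := A)
  have : IsLocalHom (algebraMap R A) := hint.isLocalHom hinj
  have hCM : LocCoh.IsCohenMacaulayLocalRing A :=
    Groth.Agent.Lib.H8CM.isCMLocalRing_of_isRegularLocalRing
  have hqf : (algebraMap R A).QuasiFinite := by
    rw [RingHom.quasiFinite_algebraMap]
    infer_instance
  have hdim : ringKrullDim A = ringKrullDim R :=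
    (Groth.Agent.Lib.FTDim.ringKrullDim_eq_of_isIntegral_of_injective hinj).symm
  have hflat := Groth.Agent.Lib.GorChartFlat83.flat_of_regular_of_cm_of_quasiFinite
    (algebraMap R A) hCM hqf hdim
  have : Module.Flat R A := by
    rwa [RingHom.flat_algebraMap_iff] at hflat
  exact Module.free_of_flat_of_isLocalRing

/-- Universe-polymorphic version. -/
theorem free_of_finite_of_injective (R : Type u) (A : Type v) [CommRing R] [CommRing A]
    [IsRegularLocalRing R] [IsRegularLocalRing A] [Algebra R A] [Module.Finite R A]
    (hinj : Function.Injective (algebraMap R A)) : Module.Free R A := by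
  let R' := ULift.{v} R
  let A' := ULift.{u} A
  let eR : R' ≃+* R := ULift.ringEquiv
  let eA : A' ≃+* A := ULift.ringEquiv
  letI : Algebra R' A' := Algebra.ofModule
    (fun r x y => by
      apply ULift.ext
      show (r.down • x.down) * y.down = r.down • (x.down * y.down)
      rw [smul_mul_assoc])
    (fun r x y => by
      apply ULift.ext
      show x.down * (r.down • y.down) = r.down • (x.down * y.down)
      rw [mul_smul_comm])
  have halg : ∀ r : R', algebraMap R' A' r = eA.symm (algebraMap R A (eR r)) := fun r => by
    apply ULift.ext
    show (r • (1 : A')).down = algebraMap R A r.down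
    rw [Algebra.algebraMap_eq_smul_one]
    rfl
  have : IsRegularLocalRing R' := IsRegularLocalRing.of_ringEquiv eR.symm
  have : IsRegularLocalRing A' := IsRegularLocalRing.of_ringEquiv eA.symm
  -- semilinear equivalence
  letI : RingHomInvPair (eR : R' →+* R) (eR.symm : R →+* R') := RingHomInvPair.of_ringEquiv eR
  letI : RingHomInvPair (eR.symm : R →+* R') (eR : R' →+* R) :=
    RingHomInvPair.symm (eR : R' →+* R) (eR.symm : R →+* R')
  let e : A' ≃ₛₗ[(eR : R' →+* R)] A :=
    { eA.toAddEquiv with
      map_smul' := fun r a => rfl }
  have : Module.Finite R' A' := by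
    refine Module.Finite.of_equiv_equiv eR.symm eA.symm ?_
    ext r
    simp [halg]
  have hinj' : Function.Injective (algebraMap R' A') := by
    intro x y hxy
    rw [halg, halg] at hxy
    exact eR.injective (hinj (eA.symm.injective hxy))
  have := free_of_finite_of_injective' R' A' hinj'
  exact Module.Free.of_equiv e

end Groth.Agent.Lib.FinRegFree89
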