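import Groth.Agent.Lib.KoszulIdeal
import Mathlib.RingTheory.Localization.Algebra
import Mathlib.RingTheory.Flat.Localization
import Mathlib.RingTheory.Polynomial.Basic
import Mathlib.RingTheory.FiniteType
import Mathlib.Algebra.MvPolynomial.Equiv

/-!
# Koszul-regular ideals: flat base change and composition (helper19)

* `isKoszulRegularIdeal_bot`;
* `isKoszulRegularIdeal_map_of_flat`: flat base change of Koszul-regular ideals;
* `isKoszulRegularIdeal_comap_of_surjective`: if `π : Q ↠ Q̄` has Koszul-regular kernel and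
  `J ⊆ Q̄` is a Koszul-regular ideal then `π⁻¹ J` is a Koszul-regular ideal (Stacks 0669 for
  ideals); in particular Koszul-regular ideals are transported by ring isomorphisms.
-/

set_option autoImplicit false
universe u

namespace Groth.Agent.Lib.LCIComp

open Groth.Agent.Lib.KoszulQuot Groth.Agent.Lib.KoszulIdeal

section

variable {A : Type u} [CommRing A]

theorem genAt_bot_one : GenAt (⊥ : Ideal A) 1 := by
  haveI : IsLocalization.Away (1 : A) A := IsLocalization.away_of_isUnit_of_bijective A isUnit_one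
    Function.bijective_id
  refine GenAt.mk A [] isKoszulRegularSeq_nil ?_
  rw [Ideal.ofList_nil, Ideal.map_bot]

theorem isKoszulRegularIdeal_bot : LCI.IsKoszulRegularIdeal (⊥ : Ideal A) := by
  rw [isKoszulRegularIdeal_iff]
  intro 𝔭 _
  exact ⟨1, fun h => 𝔭.isPrime.ne_top ((Ideal.eq_top_iff_one _).mpr h), genAt_bot_one⟩

end

section flat

variable {A₁ A₂ : Type u} [CommRing A₁] [CommRing A₂] [Algebra A₁ A₂]

/-- flat base change of `GenAt` -/
theorem GenAt.map_of_flat [Module.Flat A₁ A₂] {I : Ideal A₁} {g : A₁} (h : GenAt I g) :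
    GenAt (I.map (algebraMap A₁ A₂)) (algebraMap A₁ A₂ g) := by
  obtain ⟨l, hl, hIl⟩ := h.exists_list (Localization.Away g)
  haveI : IsLocalization.Away (algebraMap A₁ A₂ g)
      (Localization (Algebra.algebraMapSubmonoid A₂ (Submonoid.powers g))) := by
    have h1 := Algebra.algebraMapSubmonoid_powers (S := A₂) g
    show IsLocalization (Submonoid.powers (algebraMap A₁ A₂ g)) _
    rw [← h1]
    infer_instance
  refine GenAt.mk (Localization (Algebra.algebraMapSubmonoid A₂ (Submonoid.powers g)))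
    (l.map (algebraMap (Localization.Away g) _)) (isKoszulRegularSeq_map_of_flat l hl) ?_
  rw [Ideal.map_map, ← IsScalarTower.algebraMap_eq,
    IsScalarTower.algebraMap_eq A₁ (Localization.Away g), ← Ideal.map_map, hIl, Ideal.map_ofList]

/-- **flat base change** of Koszul-regular ideals -/
theorem isKoszulRegularIdeal_map_of_flat [Module.Flat A₁ A₂] (I : Ideal A₁)
    (hI : LCI.IsKoszulRegularIdeal I) : LCI.IsKoszulRegularIdeal (I.map (algebraMap A₁ A₂)) := by
  rw [isKoszulRegularIdeal_iff] at hI ⊢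
  intro 𝔮 h𝔮
  obtain ⟨g, hg, hgen⟩ := hI (𝔮.comap (algebraMap A₁ A₂)) (Ideal.le_comap_of_map_le h𝔮)
  exact ⟨algebraMap A₁ A₂ g, hg, GenAt.map_of_flat hgen⟩

end flat


section comp

variable {Q Q' : Type u} [CommRing Q] [CommRing Q']

/-- generators in a tower -/
theorem map_eq_ofList_tower (I : Ideal Q) (T₁ T : Type*) [CommRing T₁] [CommRing T] [Algebra Q T₁]
    [Algebra T₁ T] [Algebra Q T] [IsScalarTower Q T₁ T] (l₁ : List T₁)
    (h : I.map (algebraMap Q T₁) = Ideal.ofList l₁) :
    I.map (algebraMap Q T) = Ideal.ofList (l₁.map (algebraMap T₁ T)) := by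
  rw [IsScalarTower.algebraMap_eq Q T₁ T, ← Ideal.map_map, h, Ideal.map_ofList]

/-- localizing a surjection: the preimage of the extension is the extension of the preimage -/
theorem map_comap_eq_comap_map (π : Q →+* Q') (G : Q) (T T' : Type*) [CommRing T] [CommRing T']
    [Algebra Q T] [Algebra Q' T'] [IsLocalization.Away G T] [IsLocalization.Away (π G) T']
    (πT : T →+* T') (hπT : ∀ x, πT (algebraMap Q T x) = algebraMap Q' T' (π x)) (J : Ideal Q') :
    (J.comap π).map (algebraMap Q T) = (J.map (algebraMap Q' T')).comap πT := by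
  apply le_antisymm
  · rw [Ideal.map_le_iff_le_comap]
    intro x hx
    show πT (algebraMap Q T x) ∈ J.map (algebraMap Q' T')
    rw [hπT]
    exact Ideal.mem_map_of_mem _ hx
  · intro y hy
    obtain ⟨x, s, rfl⟩ := IsLocalization.exists_mk'_eq (Submonoid.powers G) y
    have hy' : πT (IsLocalization.mk' T x s) ∈ J.map (algebraMap Q' T') := hy
    -- `πT (mk' x s) * alg (π s) = alg (π x)`
    have h1 : πT (IsLocalization.mk' T x s) * algebraMap Q' T' (π s) = algebraMap Q' T' (π x) := by
      rw [← hπT, ← hπT, ← map_mul, IsLocalization.mk'_spec]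
    have h2 : algebraMap Q' T' (π x) ∈ J.map (algebraMap Q' T') := by
      rw [← h1]
      exact Ideal.mul_mem_right _ _ hy'
    obtain ⟨⟨⟨j, hj⟩, ⟨_, a, rfl⟩⟩, hs⟩ :=
      (IsLocalization.mem_map_algebraMap_iff (Submonoid.powers (π G)) T').mp h2
    have hs' : algebraMap Q' T' (π x * π G ^ a) = algebraMap Q' T' j := by
      rw [map_mul]; exact hs
    obtain ⟨⟨_, b, rfl⟩, hc⟩ := (IsLocalization.eq_iff_exists (Submonoid.powers (π G)) T').mp hs'
    rw [IsLocalization.mk'_mem_map_algebraMap_iff (Submonoid.powers G)]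
    refine ⟨G ^ (b + a), ⟨b + a, rfl⟩, ?_⟩
    show π (G ^ (b + a) * x) ∈ J
    have h3 : π (G ^ (b + a) * x) = π G ^ b * (π x * π G ^ a) := by
      rw [map_mul, map_pow, pow_add]; ring
    rw [h3]
    have h4 : π G ^ b * (π x * π G ^ a) = π G ^ b * j := hc
    rw [h4]
    exact Ideal.mul_mem_left _ _ hj

/-- **Koszul-regular ideals pull back along surjections with Koszul-regular kernel.** -/
theorem isKoszulRegularIdeal_comap_of_surjective (π : Q →+* Q') (hπ : Function.Surjective π)
    (hE : LCI.IsKoszulRegularIdeal (RingHom.ker π)) (J : Ideal Q')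
    (hJ : LCI.IsKoszulRegularIdeal J) : LCI.IsKoszulRegularIdeal (J.comap π) := by
  rw [isKoszulRegularIdeal_iff] at hE hJ ⊢
  intro 𝔮 h𝔮
  have hker𝔮 : RingHom.ker π ≤ 𝔮.asIdeal := le_trans (Ideal.comap_mono bot_le) h𝔮
  obtain ⟨g₁, hg₁, hgen₁⟩ := hE 𝔮 hker𝔮
  have hprime : (𝔮.asIdeal.map π).IsPrime := Ideal.map_isPrime_of_surjective hπ hker𝔮
  have hcomap : (𝔮.asIdeal.map π).comap π = 𝔮.asIdeal := by
    rw [Ideal.comap_map_of_surjective π hπ]
    exact sup_eq_left.mpr hker𝔮
  have hJ𝔮 : J ≤ 𝔮.asIdeal.map π := by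
    rw [← Ideal.map_comap_of_surjective π hπ J]
    exact Ideal.map_mono h𝔮
  obtain ⟨g', hg', hgen₂⟩ := hJ ⟨_, hprime⟩ hJ𝔮
  obtain ⟨g, rfl⟩ := hπ g'
  have hg : g ∉ 𝔮.asIdeal := fun h => hg' (Ideal.mem_map_of_mem _ h)
  refine ⟨g₁ * g, fun h => (𝔮.isPrime.mem_or_mem h).elim hg₁ hg, ?_⟩
  -- the localization of `Q`
  obtain ⟨l₁, hl₁, hIl₁⟩ := hgen₁.exists_list (Localization.Away g₁)
  have hflat : Module.Flat (Localization.Away g₁)
      (Localization.Away (algebraMap Q (Localization.Away g₁) g)) :=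
    IsLocalization.flat _ (Submonoid.powers (algebraMap Q (Localization.Away g₁) g))
  have hl₁' := isKoszulRegularSeq_map_of_flat
    (R' := Localization.Away (algebraMap Q (Localization.Away g₁) g)) l₁ hl₁
  have hIl₁' : (RingHom.ker π).map
      (algebraMap Q (Localization.Away (algebraMap Q (Localization.Away g₁) g))) =
      Ideal.ofList (l₁.map (algebraMap (Localization.Away g₁)
        (Localization.Away (algebraMap Q (Localization.Away g₁) g)))) :=
    map_eq_ofList_tower _ _ _ l₁ hIl₁
  -- the localization of `Q'`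
  have hgen₂' : GenAt J (π (g₁ * g)) := by
    have := hgen₂.mul (π g₁)
    rwa [mul_comm, ← map_mul] at this
  obtain ⟨l', hl', hJl'⟩ := hgen₂'.exists_list (Localization.Away (π (g₁ * g)))
  have hT : Submonoid.map π (Submonoid.powers (g₁ * g)) = Submonoid.powers (π (g₁ * g)) :=
    Submonoid.map_powers _ _
  let πT : Localization.Away (algebraMap Q (Localization.Away g₁) g) →+*
      Localization.Away (π (g₁ * g)) :=
    IsLocalization.map (Localization.Away (π (g₁ * g))) π
      (hT.symm ▸ (Submonoid.powers (g₁ * g)).le_comap_map)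
  have hπT : ∀ x, πT (algebraMap Q _ x) = algebraMap Q' _ (π x) := fun x =>
    IsLocalization.map_eq _ x
  have hπTker : RingHom.ker πT = Ideal.ofList (l₁.map (algebraMap (Localization.Away g₁)
      (Localization.Away (algebraMap Q (Localization.Away g₁) g)))) := by
    rw [← hIl₁']
    exact IsLocalization.ker_map (Localization.Away (π (g₁ * g))) π hT
  have hπTsurj : Function.Surjective πT := by
    intro y
    obtain ⟨p, ⟨_, k, rfl⟩, rfl⟩ := IsLocalization.exists_mk'_eq
      (Submonoid.powers (π (g₁ * g))) y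
    obtain ⟨p', rfl⟩ := hπ p
    refine ⟨IsLocalization.mk' _ p' (⟨(g₁ * g) ^ k, k, rfl⟩ : Submonoid.powers (g₁ * g)), ?_⟩
    rw [IsLocalization.map_mk']
    congr 1
    exact Subtype.ext (map_pow π _ k)
  obtain ⟨l₂, hl₂⟩ := (List.map_surjective_iff.mpr hπTsurj) l'
  refine GenAt.mk (Localization.Away (algebraMap Q (Localization.Away g₁) g))
    (l₂ ++ l₁.map (algebraMap (Localization.Away g₁)
      (Localization.Away (algebraMap Q (Localization.Away g₁) g)))) ?_ ?_
  · rw [isKoszulRegularSeq_append_iff πT hπTsurj _ hπTker hl₁', hl₂]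
    exact hl'
  · rw [map_comap_eq_comap_map π (g₁ * g) _ _ πT hπT J, hJl', ← hl₂, ← Ideal.map_ofList,
      Ideal.comap_map_of_surjective πT hπTsurj, Ideal.ofList_append]
    congr 1

/-- Koszul-regular ideals are transported by ring isomorphisms -/
theorem isKoszulRegularIdeal_comap_ringEquiv (e : Q ≃+* Q') (J : Ideal Q')
    (hJ : LCI.IsKoszulRegularIdeal J) : LCI.IsKoszulRegularIdeal (J.comap (e : Q →+* Q')) := by
  refine isKoszulRegularIdeal_comap_of_surjective (e : Q →+* Q') e.surjective ?_ J hJ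
  rw [RingHom.ker_coe_equiv]
  exact isKoszulRegularIdeal_bot

end comp


section lci

variable {A B : Type u} [CommRing A] [CommRing B] [Algebra A B]

/-- `IsLCI` is invariant under isomorphisms of algebras -/
theorem isLCI_of_algEquiv {B' : Type u} [CommRing B'] [Algebra A B'] (e : B ≃ₐ[A] B')
    (h : LCI.IsLCI A B) : LCI.IsLCI A B' := by
  obtain ⟨hft, n, f, hf, hK⟩ := h
  refine ⟨hft.equiv e, n, e.toAlgHom.comp f, e.surjective.comp hf, ?_⟩
  have h1 : RingHom.ker (e.toAlgHom.comp f).toRingHom = RingHom.ker f.toRingHom := by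
    ext x
    simp only [RingHom.mem_ker]
    show e (f x) = 0 ↔ f x = 0
    exact map_eq_zero_iff e e.injective
  rw [h1]
  exact hK

/-- **composition of local complete intersection homomorphisms** -/
theorem isLCI_comp {C : Type u} [CommRing C] [Algebra B C] [Algebra A C] [IsScalarTower A B C]
    (h1 : LCI.IsLCI A B) (h2 : LCI.IsLCI B C) : LCI.IsLCI A C := by
  obtain ⟨hft1, n, α, hα, hI⟩ := h1
  obtain ⟨hft2, k, β, hβ, hJ⟩ := h2
  refine ⟨Algebra.FiniteType.trans hft1 hft2, k + n, ?_⟩
  -- the surjection `A[x][y] → B[y]`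
  let π : MvPolynomial (Fin k) (MvPolynomial (Fin n) A) →ₐ[A] MvPolynomial (Fin k) B :=
    MvPolynomial.mapAlgHom α
  have hπsurj : Function.Surjective π := MvPolynomial.map_surjective α.toRingHom hα
  have hπker : RingHom.ker π.toRingHom = (RingHom.ker α.toRingHom).map
      (algebraMap (MvPolynomial (Fin n) A) (MvPolynomial (Fin k) (MvPolynomial (Fin n) A))) :=
    MvPolynomial.ker_map α.toRingHom
  have hE : LCI.IsKoszulRegularIdeal (RingHom.ker π.toRingHom) := by
    rw [hπker]
    exact isKoszulRegularIdeal_map_of_flat _ hI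
  have hK := isKoszulRegularIdeal_comap_of_surjective π.toRingHom hπsurj hE _ hJ
  -- the polynomial ring in `k + n` variables
  let e : MvPolynomial (Fin (k + n)) A ≃ₐ[A] MvPolynomial (Fin k) (MvPolynomial (Fin n) A) :=
    (MvPolynomial.renameEquiv A finSumFinEquiv.symm).trans (MvPolynomial.sumAlgEquiv A (Fin k) (Fin n))
  have hK' := isKoszulRegularIdeal_comap_ringEquiv e.toRingEquiv _ hK
  refine ⟨((β.restrictScalars A).comp π).comp e.toAlgHom, ?_, ?_⟩
  · exact (hβ.comp hπsurj).comp e.surjective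
  · have h3 : RingHom.ker (((β.restrictScalars A).comp π).comp e.toAlgHom).toRingHom =
        ((RingHom.ker β.toRingHom).comap π.toRingHom).comap (e.toRingEquiv : _ →+* _) := by
      rw [RingHom.comap_ker, RingHom.comap_ker]
      rfl
    rw [h3]
    exact hK'

end lci

end Groth.Agent.Lib.LCIComp
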