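import Mathlib

/-!
# Spreading out regular sequences from a localization at a prime to a principal localization

* `isWeaklyRegular_self_iff_forall`: elementwise criterion for weak regularity on the ring itself.
* `isWeaklyRegular_of_forall₂_units`: multiplying the members of a weakly regular sequence by units.
* `exists_mul_mem_of_map_le`: `C_𝔭 ≤ J_𝔭` for ideals of a Noetherian ring ⇒ `g C ≤ J`, some `g ∉ 𝔭`.
* `exists_spread`: main spreading lemma.
* `isWeaklyRegular_away` and `map_eq_ofList_away`: conclusions in `A_g`.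
-/

set_option autoImplicit false
universe u

namespace Groth.Agent.Lib.RegSpread

open RingTheory.Sequence Ideal Pointwise

/-- Elementwise criterion for weak regularity on the ring itself. -/
theorem isWeaklyRegular_self_iff_forall {R : Type*} [CommRing R] (rs : List R) :
    IsWeaklyRegular R rs ↔ ∀ i (h : i < rs.length) (x : R),
      rs[i] * x ∈ ofList (rs.take i) → x ∈ ofList (rs.take i) := by
  rw [isWeaklyRegular_iff]
  refine forall_congr' fun i => forall_congr' fun h => ?_
  rw [isSMulRegular_quotient_iff_mem_of_smul_mem]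
  have e : (ofList (rs.take i) • ⊤ : Submodule R R) = ofList (rs.take i) := by simp
  rw [e]
  rfl

/-- Unit multiples of a weakly regular sequence. -/
theorem isWeaklyRegular_of_forall₂_units {R : Type*} [CommRing R] {rs rs' : List R}
    (h : List.Forall₂ (fun (r r' : R) => ∃ u : Rˣ, r' = (u : R) * r) rs rs') :
    ∀ {M : Type*} [AddCommGroup M] [Module R M], IsWeaklyRegular M rs → IsWeaklyRegular M rs' := by
  induction h with
  | nil => intro M _ _ h; exact h
  | @cons r r' rs rs' hr _ ih =>
    intro M _ _ hreg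
    obtain ⟨u, rfl⟩ := hr
    rw [isWeaklyRegular_cons_iff] at hreg ⊢
    refine ⟨?_, ?_⟩
    · have hu : IsSMulRegular M (u : R) := IsUnit.isSMulRegular M u.isUnit
      exact hu.mul hreg.1
    · have heq : ((u : R) * r) • (⊤ : Submodule R M) = r • (⊤ : Submodule R M) := by
        ext x
        rw [Submodule.mem_smul_pointwise_iff_exists, Submodule.mem_smul_pointwise_iff_exists]
        constructor
        · rintro ⟨m, -, rfl⟩
          exact ⟨(u : R) • m, trivial, by rw [smul_smul, mul_comm]⟩
        · rintro ⟨m, -, rfl⟩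
          refine ⟨((u⁻¹ : Rˣ) : R) • m, trivial, ?_⟩
          rw [smul_smul, mul_comm (u : R) r, mul_assoc, Units.mul_inv, mul_one]
      let e : QuotSMulTop r M ≃ₗ[R] QuotSMulTop ((u : R) * r) M :=
        Submodule.quotEquivOfEq _ _ heq.symm
      exact (e.isWeaklyRegular_congr rs').mp (ih hreg.2)

/-- Unit multiples generate the same ideal. -/
theorem ofList_eq_of_forall₂_units {R : Type*} [CommRing R] {rs rs' : List R}
    (h : List.Forall₂ (fun (r r' : R) => ∃ u : Rˣ, r' = (u : R) * r) rs rs') : ofList rs = ofList rs' := by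
  induction h with
  | nil => rfl
  | @cons r r' rs rs' hr _ ih =>
    obtain ⟨u, rfl⟩ := hr
    rw [ofList_cons, ofList_cons, ih, Ideal.span_singleton_mul_left_unit u.isUnit]

section spread

variable {A : Type u} [CommRing A] (𝔭 : Ideal A) [𝔭.IsPrime]
  (Ap : Type*) [CommRing Ap] [Algebra A Ap] [IsLocalization.AtPrime Ap 𝔭]

/-- If `C_𝔭 ≤ J_𝔭` with `C` finitely generated then `g C ≤ J` for some `g ∉ 𝔭`. -/
theorem exists_mul_mem_of_map_le (C J : Ideal A) (hC : C.FG)
    (hle : C.map (algebraMap A Ap) ≤ J.map (algebraMap A Ap)) :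
    ∃ g : A, g ∉ 𝔭 ∧ ∀ x ∈ C, g * x ∈ J := by
  classical
  obtain ⟨S, rfl⟩ := hC
  have key : ∀ s ∈ S, ∃ t : A, t ∉ 𝔭 ∧ t * s ∈ J := by
    intro s hs
    have h1 : algebraMap A Ap s ∈ J.map (algebraMap A Ap) :=
      hle (Ideal.mem_map_of_mem _ (Ideal.subset_span hs))
    rw [IsLocalization.mem_map_algebraMap_iff 𝔭.primeCompl] at h1
    obtain ⟨⟨⟨j, hj⟩, t⟩, hjt⟩ := h1
    simp only at hjt
    rw [← map_mul, IsLocalization.eq_iff_exists 𝔭.primeCompl] at hjt
    obtain ⟨c, hc⟩ := hjt
    refine ⟨c * t, (c * t).2, ?_⟩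
    have : ((c * t : 𝔭.primeCompl) : A) * s = c * j := by
      push_cast
      rw [mul_assoc, mul_comm (t : A) s, hc]
    change ((c * t : 𝔭.primeCompl) : A) * s ∈ J
    rw [this]
    exact J.mul_mem_left _ hj
  choose! t ht htJ using key
  refine ⟨∏ s ∈ S, t s, ?_, ?_⟩
  · intro hmem
    obtain ⟨s, hs, hts⟩ := (Ideal.IsPrime.prod_mem_iff (p := 𝔭)).mp hmem
    exact ht s hs hts
  · intro x hx
    refine Submodule.span_induction ?_ ?_ ?_ ?_ hx
    · intro s hs
      obtain ⟨q, hq⟩ := Finset.dvd_prod_of_mem t hs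
      rw [hq, mul_right_comm]
      exact J.mul_mem_right _ (htJ s hs)
    · simp
    · intro a b _ _ ha hb
      rw [mul_add]; exact J.add_mem ha hb
    · intro a b _ hb
      rw [smul_eq_mul, mul_left_comm]; exact J.mul_mem_left _ hb

/-- **Spreading out**: a sequence in a Noetherian ring `A`, whose image in `A_𝔭` is weakly regular
and generates `I A_𝔭`, satisfies the elementwise regularity and generation conditions up to a
single `g ∉ 𝔭`. -/
theorem exists_spread [IsNoetherianRing A] (I : Ideal A) (as : List A)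
    (hreg : IsWeaklyRegular Ap (as.map (algebraMap A Ap)))
    (hgen : I.map (algebraMap A Ap) = ofList (as.map (algebraMap A Ap))) :
    ∃ g : A, g ∉ 𝔭 ∧
      (∀ i (h : i < as.length) (x : A),
        as[i] * x ∈ ofList (as.take i) → g * x ∈ ofList (as.take i)) ∧
      ∀ x ∈ I, g * x ∈ ofList as := by
  classical
  -- generation
  obtain ⟨g₀, hg₀, hg₀I⟩ := exists_mul_mem_of_map_le 𝔭 Ap I (ofList as)
    (IsNoetherian.noetherian I) (by rw [hgen, Ideal.map_ofList])
  -- regularity, for each index
  have hreg' := (isWeaklyRegular_self_iff_forall _).mp hreg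
  have key : ∀ i : Fin as.length, ∃ g : A, g ∉ 𝔭 ∧ ∀ x : A,
      as[i] * x ∈ ofList (as.take i) → g * x ∈ ofList (as.take i) := by
    intro i
    let C : Ideal A :=
      { carrier := {x | as[i] * x ∈ ofList (as.take i)}
        add_mem' := fun {a b} ha hb => by
          show as[i] * (a + b) ∈ ofList (as.take i)
          rw [mul_add]; exact Ideal.add_mem _ ha hb
        zero_mem' := by
          show as[i] * 0 ∈ ofList (as.take i)
          simp
        smul_mem' := fun c {a} ha => by
          show as[i] * (c • a) ∈ ofList (as.take i)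
          rw [smul_eq_mul, mul_left_comm]; exact Ideal.mul_mem_left _ _ ha }
    have hCle : C.map (algebraMap A Ap) ≤ (ofList (as.take i)).map (algebraMap A Ap) := by
      rw [Ideal.map_le_iff_le_comap]
      intro x hx
      rw [Ideal.mem_comap, Ideal.map_ofList, List.map_take]
      have hi : (i : ℕ) < (as.map (algebraMap A Ap)).length := by simp
      apply hreg' i hi
      rw [List.getElem_map, ← List.map_take, ← Ideal.map_ofList, ← map_mul]
      exact Ideal.mem_map_of_mem _ hx
    obtain ⟨g, hg, hgC⟩ := exists_mul_mem_of_map_le 𝔭 Ap C (ofList (as.take i))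
      (IsNoetherian.noetherian C) hCle
    exact ⟨g, hg, fun x hx => hgC x hx⟩
  choose gi hgi hgiC using key
  refine ⟨g₀ * ∏ i, gi i, ?_, ?_, ?_⟩
  · intro hmem
    rcases (‹𝔭.IsPrime›.mul_mem_iff_mem_or_mem).mp hmem with h | h
    · exact hg₀ h
    · obtain ⟨i, -, hi⟩ := (Ideal.IsPrime.prod_mem_iff (p := 𝔭)).mp h
      exact hgi i hi
  · intro i h x hx
    obtain ⟨q, hq⟩ := Finset.dvd_prod_of_mem gi (Finset.mem_univ (⟨i, h⟩ : Fin as.length))
    have e : g₀ * (gi ⟨i, h⟩ * q) * x = (g₀ * q) * (gi ⟨i, h⟩ * x) := by ring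
    rw [hq, e]
    exact Ideal.mul_mem_left _ _ (hgiC ⟨i, h⟩ x hx)
  · intro x hx
    rw [mul_right_comm]
    exact Ideal.mul_mem_right _ _ (hg₀I x hx)

end spread

section away

variable {A : Type*} [CommRing A] (g : A) (Ag : Type*) [CommRing Ag] [Algebra A Ag]
  [IsLocalization.Away g Ag]

/-- Membership in an extended ideal of `A_g`. -/
theorem mem_map_away_iff (J : Ideal A) (x : A) :
    algebraMap A Ag x ∈ J.map (algebraMap A Ag) ↔ ∃ n : ℕ, g ^ n * x ∈ J := by
  constructor
  · intro h
    rw [IsLocalization.mem_map_algebraMap_iff (Submonoid.powers g)] at h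
    obtain ⟨⟨⟨j, hj⟩, ⟨_, n, rfl⟩⟩, hjt⟩ := h
    simp only at hjt
    rw [← map_mul, IsLocalization.eq_iff_exists (Submonoid.powers g)] at hjt
    obtain ⟨⟨_, m, rfl⟩, hc⟩ := hjt
    refine ⟨m + n, ?_⟩
    have : g ^ (m + n) * x = g ^ m * j := by
      rw [pow_add, mul_assoc, mul_comm (g ^ n) x]
      exact hc
    rw [this]
    exact J.mul_mem_left _ hj
  · rintro ⟨n, hn⟩
    have h1 := Ideal.mem_map_of_mem (algebraMap A Ag) hn
    rw [map_mul] at h1
    have hu : IsUnit (algebraMap A Ag (g ^ n)) :=
      IsLocalization.map_units Ag (⟨g ^ n, n, rfl⟩ : Submonoid.powers g)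
    exact (Ideal.unit_mul_mem_iff_mem _ hu).mp h1

/-- The elementwise regularity condition up to `g` gives weak regularity in `A_g`. -/
theorem isWeaklyRegular_away (as : List A)
    (h : ∀ i (h : i < as.length) (x : A),
      as[i] * x ∈ ofList (as.take i) → g * x ∈ ofList (as.take i)) :
    IsWeaklyRegular Ag (as.map (algebraMap A Ag)) := by
  rw [isWeaklyRegular_self_iff_forall]
  intro i hi y hy
  have hi' : i < as.length := by simpa using hi
  rw [List.getElem_map, ← List.map_take, ← Ideal.map_ofList] at hy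
  rw [← List.map_take, ← Ideal.map_ofList]
  obtain ⟨⟨x, ⟨_, n, rfl⟩⟩, hx⟩ := IsLocalization.surj (Submonoid.powers g) y
  simp only at hx
  have hu : IsUnit (algebraMap A Ag (g ^ n)) :=
    IsLocalization.map_units Ag (⟨g ^ n, n, rfl⟩ : Submonoid.powers g)
  have h1 : algebraMap A Ag (as[i] * x) ∈ (ofList (as.take i)).map (algebraMap A Ag) := by
    rw [map_mul, ← hx, ← mul_assoc]
    exact Ideal.mul_mem_right _ _ hy
  obtain ⟨m, hm⟩ := (mem_map_away_iff g Ag _ _).mp h1
  have h2 : as[i] * (g ^ m * x) ∈ ofList (as.take i) := by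
    rw [mul_left_comm]; exact hm
  have h3 := h i hi' _ h2
  have h4 : algebraMap A Ag x ∈ (ofList (as.take i)).map (algebraMap A Ag) := by
    rw [mem_map_away_iff g Ag]
    exact ⟨m + 1, by rw [pow_succ', mul_assoc]; exact h3⟩
  rw [← hx] at h4
  exact (Ideal.mul_unit_mem_iff_mem _ hu).mp h4

/-- Generation up to `g` gives generation in `A_g`. -/
theorem map_eq_ofList_away (I : Ideal A) (as : List A) (has : ∀ a ∈ as, a ∈ I)
    (h : ∀ x ∈ I, g * x ∈ ofList as) :
    I.map (algebraMap A Ag) = ofList (as.map (algebraMap A Ag)) := by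
  rw [← Ideal.map_ofList]
  apply le_antisymm
  · rw [Ideal.map_le_iff_le_comap]
    intro x hx
    rw [Ideal.mem_comap, mem_map_away_iff g Ag]
    exact ⟨1, by rw [pow_one]; exact h x hx⟩
  · apply Ideal.map_mono
    rw [ofList, Ideal.span_le]
    intro a ha
    exact has a ha

end away

end Groth.Agent.Lib.RegSpread
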