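import Groth.Agent.Lib.SyntLCI3
import Groth.Agent.Lib.RegSpread
import Groth.Agent.Lib.RegAwayPres

/-!
# Local structure of lci algebras over a Noetherian ring (helper19)

Namespace `Groth.Agent.Lib.SyntRegPres`.

* `exists_lift_list` : lifting a list in `I·A_𝔭` to a list in `I` up to units.
* `exists_weaklyRegular_away` : `A` Noetherian, `I·A_g` generated by a Koszul-regular sequence near `𝔭 ⊇ I` ⇒
  after shrinking, `I·A_g'` is generated by a weakly regular sequence.
* `exists_regular_presentation` : `A` Noetherian, `B` lci over `A` ⇒ `B` is locally `A[T]/(regular sequence)`.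
-/

set_option autoImplicit false
set_option linter.style.haveILetI false
universe u

namespace Groth.Agent.Lib.SyntRegPres

open RingTheory.Sequence Groth.Agent.Lib.KoszulIdeal Groth.Agent.Lib.SyntLCI Groth.Agent.Lib.RegSpread
  Groth.Agent.Lib.KRDescC

section lift

theorem exists_lift_list {P : Type u} [CommRing P] (Q : Ideal P) [Q.IsPrime]
    (T : Type u) [CommRing T] [Algebra P T] [IsLocalization.AtPrime T Q] (I : Ideal P) (l : List T) (hl : ∀ x ∈ l, x ∈ I.map (algebraMap P T)) :
    ∃ as : List P, (∀ a ∈ as, a ∈ I) ∧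
      List.Forall₂ (fun (r r' : T) => ∃ u : Tˣ, r' = (u : T) * r) l (as.map (algebraMap P T)) := by
  induction l with
  | nil => exact ⟨[], by simp, by simp⟩
  | cons x l ih =>
    obtain ⟨as, has, hF⟩ := ih (fun y hy => hl y (List.mem_cons_of_mem _ hy))
    have hx := hl x List.mem_cons_self
    rw [IsLocalization.mem_map_algebraMap_iff Q.primeCompl T] at hx
    obtain ⟨⟨a, s⟩, hxs⟩ := hx
    have hu : IsUnit (algebraMap P T s) := IsLocalization.map_units T s
    refine ⟨a :: as, ?_, ?_⟩
    · intro b hb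
      rcases List.mem_cons.mp hb with rfl | hb
      · exact a.2
      · exact has b hb
    · rw [List.map_cons]
      refine List.Forall₂.cons ⟨hu.unit, ?_⟩ hF
      rw [IsUnit.unit_spec, mul_comm]
      exact hxs.symm

end lift

section spread

variable {P : Type u} [CommRing P] [IsNoetherianRing P]

/-- from Koszul-regular generation near `Q` to weakly regular generation near `Q` -/
theorem exists_weaklyRegular_away (I : Ideal P) (Q : Ideal P) [Q.IsPrime] (hIQ : I ≤ Q)
    {G : P} (hG : G ∉ Q) (hgen : GenAt I G) :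
    ∃ g : P, g ∉ Q ∧ ∃ f : List (Localization.Away g),
      IsWeaklyRegular (Localization.Away g) f ∧
      I.map (algebraMap P (Localization.Away g)) = Ideal.ofList f := by
  let T := Localization.AtPrime Q
  haveI : Module.Flat P T := IsLocalization.flat T Q.primeCompl
  have hug : IsUnit (algebraMap P T G) := (IsLocalization.AtPrime.isUnit_to_map_iff T Q G).mpr hG
  obtain ⟨s, hs⟩ := hgen.exists_genLen
  obtain ⟨l, -, hl, hIl⟩ := hs.transfer T hug
  haveI : IsNoetherianRing T := IsLocalization.isNoetherianRing Q.primeCompl T inferInstance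
  have hmem : ∀ x ∈ l, x ∈ IsLocalRing.maximalIdeal T := by
    intro x hx
    have h1 : x ∈ Ideal.ofList l := Ideal.subset_span hx
    rw [← hIl] at h1
    have h2 : I.map (algebraMap P T) ≤ Q.map (algebraMap P T) := Ideal.map_mono hIQ
    rw [Localization.AtPrime.map_eq_maximalIdeal] at h2
    exact h2 h1
  have hw := isWeaklyRegular_of_isKoszulRegularSeq l hl hmem
  obtain ⟨as, has, hF⟩ := exists_lift_list Q T I l (fun x hx => by
    rw [hIl]; exact Ideal.subset_span hx)
  have hw' := isWeaklyRegular_of_forall₂_units hF hw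
  have hgen' : I.map (algebraMap P T) = Ideal.ofList (as.map (algebraMap P T)) := by
    rw [hIl]
    exact ofList_eq_of_forall₂_units hF
  obtain ⟨g, hg, h1, h2⟩ := exists_spread Q T I as hw' hgen'
  exact ⟨g, hg, as.map (algebraMap P (Localization.Away g)),
    isWeaklyRegular_away g (Localization.Away g) as h1,
    map_eq_ofList_away g (Localization.Away g) I as has h2⟩

end spread

section main

theorem nontrivial_away_of_notMem {R : Type*} [CommRing R] (𝔭 : Ideal R) [𝔭.IsPrime] {x : R}
    (hx : x ∉ 𝔭) : Nontrivial (Localization.Away x) := by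
  rw [← not_subsingleton_iff_nontrivial, IsLocalization.subsingleton_iff (M := Submonoid.powers x)]
  rintro ⟨k, hk⟩
  have hk' : x ^ k = 0 := hk
  exact hx (Ideal.IsPrime.mem_of_pow_mem inferInstance k (by rw [hk']; exact Ideal.zero_mem _))

/-- `A` Noetherian, `B` lci over `A` ⇒ `B` is locally of the form `A[T]/(regular sequence)` -/
theorem exists_regular_presentation (A : Type u) [CommRing A] [IsNoetherianRing A]
    (B : Type u) [CommRing B] [Algebra A B] (h : LCI.IsLCI A B) (q : PrimeSpectrum B) :
    ∃ g : B, g ∉ q.asIdeal ∧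
      ∃ (n d : ℕ) (P : Fin d → MvPolynomial (Fin n) A),
        RingTheory.Sequence.IsRegular (MvPolynomial (Fin n) A) (List.ofFn P) ∧
        Nonempty (Localization.Away g ≃ₐ[A]
          (MvPolynomial (Fin n) A ⧸ Ideal.ofList (List.ofFn P))) := by
  obtain ⟨-, n, α, hα, hK⟩ := h
  haveI := q.2
  let Q : Ideal (MvPolynomial (Fin n) A) := q.asIdeal.comap α.toRingHom
  haveI : Q.IsPrime := Ideal.comap_isPrime _ _
  have hIQ : RingHom.ker α.toRingHom ≤ Q := by
    intro x hx
    show α.toRingHom x ∈ q.asIdeal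
    rw [(RingHom.mem_ker).mp hx]
    exact Ideal.zero_mem _
  obtain ⟨G, hG, hgen⟩ := (isKoszulRegularIdeal_iff _).mp hK ⟨Q, inferInstance⟩ hIQ
  obtain ⟨g, hg, f, hf, hIf⟩ := exists_weaklyRegular_away _ Q hIQ hG hgen
  let e0 : (MvPolynomial (Fin n) A ⧸ RingHom.ker α.toRingHom) ≃ₐ[A] B :=
    Ideal.quotientKerAlgEquivOfSurjective hα
  have he0 : e0 (Ideal.Quotient.mk _ g) = α g := rfl
  have hgq : Ideal.Quotient.mk (RingHom.ker α.toRingHom) g ∉
      q.asIdeal.comap (e0 : _ →+* B) := fun hmem => hg hmem
  haveI : (q.asIdeal.comap (e0 : (MvPolynomial (Fin n) A ⧸ RingHom.ker α.toRingHom) →+* B)).IsPrime :=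
    Ideal.comap_isPrime _ _
  haveI : Nontrivial (Localization.Away (Ideal.Quotient.mk (RingHom.ker α.toRingHom) g)) :=
    nontrivial_away_of_notMem _ hgq
  obtain ⟨d, P', hreg, ⟨e⟩⟩ :=
    Groth.Agent.Lib.RegAwayPres.exists_presentation_away (RingHom.ker α.toRingHom) g f hf hIf
  refine ⟨α g, hg, n + 1, d, P', hreg, ⟨?_⟩⟩
  let E : Localization.Away (Ideal.Quotient.mk (RingHom.ker α.toRingHom) g) ≃ₐ[A]
      Localization.Away (α g) :=
    IsLocalization.algEquivOfAlgEquiv
      (M := Submonoid.powers (Ideal.Quotient.mk (RingHom.ker α.toRingHom) g))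
      (T := Submonoid.powers (α g)) _ _ e0 (by rw [Submonoid.map_powers]; rfl)
  exact E.symm.trans e

end main

end Groth.Agent.Lib.SyntRegPres
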