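import Groth.Agent.Lib.SyntRelGCI89
import Groth.Agent.Lib.LCIComp
import Mathlib.RingTheory.LocalRing.Module
import Mathlib.RingTheory.Nakayama
import Mathlib.RingTheory.QuasiFinite.Basic
import Groth.Agent.Lib.KRDescC
import Groth.Agent.Lib.SyntRegPres

/-!
# Finite syntomic algebras over a local ring have square presentations — helper32

* `length_le_of_isKoszulRegularSeq`: a Koszul-regular list `l` in `R[x_1..x_N]` with `R`-flat nontrivial
  quotient has at most `N` elements.
* `length_le_of_isKoszulRegularSeq_away`: the same for a Koszul-regular list generating `I·R[x]_h`.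
* `exists_generators_of_semilocal`: a finite module over a semilocal ring which is spanned by `n` elements
  modulo every maximal ideal is spanned by `n` elements.
-/

set_option autoImplicit false
universe u

namespace Groth.Agent.Lib.FinSynt32

open MvPolynomial Groth.Agent.Lib.KoszulAway Groth.Agent.Lib.RegAwayPres
  Groth.Agent.Lib.RelGCIFlat89

attribute [local instance] MvPolynomial.algebraMvPolynomial

section Length

variable {R : Type u} [CommRing R]

/-- A Koszul-regular list in `R[x_1, …, x_N]` whose quotient is `R`-flat and nontrivial has length `≤ N`. -/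
theorem length_le_of_isKoszulRegularSeq {N : ℕ} (l : List (MvPolynomial (Fin N) R))
    (hl : LCI.IsKoszulRegularSeq (MvPolynomial (Fin N) R) l)
    [Module.Flat R (MvPolynomial (Fin N) R ⧸ Ideal.ofList l)]
    [Nontrivial (MvPolynomial (Fin N) R ⧸ Ideal.ofList l)] : l.length ≤ N := by
  have hspan : Ideal.span (Set.range l.get) = Ideal.ofList l := by
    rw [Set.range_list_get]
  let e : Synt.RelGCIRing R N l.length l.get ≃ₐ[R] (MvPolynomial (Fin N) R ⧸ Ideal.ofList l) :=
    Ideal.quotientEquivAlgOfEq R hspan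
  have : Nontrivial (Synt.RelGCIRing R N l.length l.get) := e.symm.injective.nontrivial
  obtain ⟨Q⟩ := (inferInstance : Nonempty (PrimeSpectrum (Synt.RelGCIRing R N l.length l.get)))
  let p : PrimeSpectrum R :=
    PrimeSpectrum.comap (algebraMap R (Synt.RelGCIRing R N l.length l.get)) Q
  have := p.2
  have hnt : Nontrivial (p.asIdeal.Fiber (Synt.RelGCIRing R N l.length l.get)) :=
    (PrimeSpectrum.nontrivial_iff_mem_rangeComap p).mpr ⟨Q, rfl⟩
  have hbar : LCI.IsKoszulRegularSeq (MvPolynomial (Fin N) p.asIdeal.ResidueField)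
      (l.map (algebraMap (MvPolynomial (Fin N) R)
        (MvPolynomial (Fin N) p.asIdeal.ResidueField))) :=
    Groth.Agent.Lib.KoszulRelBC.isKoszulRegularSeq_map_of_isPushout R p.asIdeal.ResidueField l hl
  let Pres : Algebra.Presentation p.asIdeal.ResidueField
      (p.asIdeal.Fiber (Synt.RelGCIRing R N l.length l.get)) (Fin N) (Fin l.length) :=
    (Algebra.Presentation.naive (v := l.get)).baseChange p.asIdeal.ResidueField
  have hrel : List.ofFn Pres.relation =
      l.map (algebraMap (MvPolynomial (Fin N) R)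
        (MvPolynomial (Fin N) p.asIdeal.ResidueField)) := by
    have h1 : Pres.relation = (algebraMap (MvPolynomial (Fin N) R)
        (MvPolynomial (Fin N) p.asIdeal.ResidueField)) ∘ l.get := rfl
    rw [h1, ← List.map_ofFn, List.ofFn_get]
  have e' := presEquiv Pres
  rw [hrel] at e'
  have : Nontrivial (MvPolynomial (Fin N) p.asIdeal.ResidueField ⧸
      Ideal.ofList (l.map (algebraMap (MvPolynomial (Fin N) R)
        (MvPolynomial (Fin N) p.asIdeal.ResidueField)))) :=
    e'.symm.injective.nontrivial
  obtain ⟨hlen, -⟩ := Groth.Agent.Lib.SyntLCI.ringKrullDim_quotient_of_isKoszulRegularSeq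
    p.asIdeal.ResidueField N _ hbar
  rw [List.length_map] at hlen
  exact hlen

end Length

section Away

variable {R : Type u} [CommRing R] {n : ℕ} (I : Ideal (MvPolynomial (Fin n) R))
  (h₀ : MvPolynomial (Fin n) R)

/-- If `I·R[x]_h` is generated by a list `f`, then `(R[x]/I)_h` is presented by `|f| + 1` equations in `n + 1`
variables; the equations are Koszul-regular if `f` is. -/
theorem exists_away_presentation (f : List (Localization.Away h₀))
    (hID : I.map (algebraMap (MvPolynomial (Fin n) R) (Localization.Away h₀)) = Ideal.ofList f) :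
    ∃ l : List (MvPolynomial (Fin (n + 1)) R), l.length = f.length + 1 ∧
      (LCI.IsKoszulRegularSeq (Localization.Away h₀) f →
        LCI.IsKoszulRegularSeq (MvPolynomial (Fin (n + 1)) R) l) ∧
      Nonempty (Localization.Away (Ideal.Quotient.mk I h₀) ≃ₐ[R]
        (MvPolynomial (Fin (n + 1)) R ⧸ Ideal.ofList l)) := by
  have hθ : Function.Surjective (θ h₀) := θ_surjective h₀
  let ft : List (MvPolynomial (Fin (n + 1)) R) := f.map (Function.surjInv hθ)
  have hft : ft.map (θ h₀) = f := by
    rw [List.map_map]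
    conv_rhs => rw [← List.map_id f]
    refine List.map_congr_left fun a _ => ?_
    exact Function.surjInv_eq hθ a
  let l : List (MvPolynomial (Fin (n + 1)) R) := ft ++ [z₀ h₀]
  let Ψ : MvPolynomial (Fin (n + 1)) R →ₐ[R] Localization.Away (Ideal.Quotient.mk I h₀) :=
    { toRingHom := (μ I h₀).comp (θ h₀).toRingHom
      commutes' := by
        intro a
        show μ I h₀ (θ h₀ (algebraMap R _ a)) = _
        rw [(θ h₀).commutes, IsScalarTower.algebraMap_apply R (MvPolynomial (Fin n) R)
          (Localization.Away h₀), μ_algebraMap]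
        rfl }
  have hΨ : Function.Surjective Ψ := (μ_surjective I h₀).comp hθ
  have hker : RingHom.ker Ψ.toRingHom = Ideal.ofList l := by
    have h1 : RingHom.ker Ψ.toRingHom = (RingHom.ker (μ I h₀)).comap (θ h₀).toRingHom := by
      ext x
      rw [RingHom.mem_ker, Ideal.mem_comap, RingHom.mem_ker]
      rfl
    rw [h1, ker_μ, hID, ← hft]
    have h2 : Ideal.ofList (ft.map (θ h₀)) = (Ideal.ofList ft).map (θ h₀).toRingHom := by
      rw [Ideal.map_ofList]
      rfl
    rw [h2, Ideal.comap_map_of_surjective (θ h₀).toRingHom hθ, ← RingHom.ker_eq_comap_bot, ker_θ]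
    show _ = Ideal.ofList (ft ++ [z₀ h₀])
    rw [Ideal.ofList_append]
  refine ⟨l, ?_, ?_, ⟨((Ideal.quotientEquivAlgOfEq R hker.symm).trans
      (Ideal.quotientKerAlgEquivOfSurjective hΨ)).symm⟩⟩
  · show (ft ++ [z₀ h₀]).length = _
    rw [List.length_append, List.length_map, List.length_singleton]
  · intro hkr
    refine (KoszulQuot.isKoszulRegularSeq_append_iff (θ h₀).toRingHom hθ [z₀ h₀] (ker_θ h₀)
      (isKoszulRegularSeq_z₀ h₀) ft).mpr ?_
    have : ft.map (θ h₀).toRingHom = ft.map (θ h₀) := rfl
    rw [this, hft]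
    exact hkr

/-- A Koszul-regular list generating `I·R[x_1..x_n]_h`, with `(R[x]/I)_h` flat over `R` and nontrivial, has at
most `n` elements. -/
theorem length_le_of_isKoszulRegularSeq_away (f : List (Localization.Away h₀))
    (hkr : LCI.IsKoszulRegularSeq (Localization.Away h₀) f)
    (hID : I.map (algebraMap (MvPolynomial (Fin n) R) (Localization.Away h₀)) = Ideal.ofList f)
    [Module.Flat R (Localization.Away (Ideal.Quotient.mk I h₀))]
    [Nontrivial (Localization.Away (Ideal.Quotient.mk I h₀))] : f.length ≤ n := by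
  obtain ⟨l, hlen, hl, ⟨e⟩⟩ := exists_away_presentation I h₀ f hID
  have : Module.Flat R (MvPolynomial (Fin (n + 1)) R ⧸ Ideal.ofList l) :=
    Module.Flat.of_linearEquiv e.symm.toLinearEquiv
  have : Nontrivial (MvPolynomial (Fin (n + 1)) R ⧸ Ideal.ofList l) := e.injective.nontrivial
  have := length_le_of_isKoszulRegularSeq l (hl hkr)
  omega

end Away

section Semilocal

variable {B : Type*} [CommRing B] {M : Type*} [AddCommGroup M] [Module B M]

/-- A submodule `N` of a finite module `M` with `M = N + Q M` for every maximal ideal `Q` is everything. -/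
theorem eq_top_of_forall_maximal_sup [Module.Finite B M] (N : Submodule B M)
    (h : ∀ Q : Ideal B, Q.IsMaximal → (⊤ : Submodule B M) ≤ N ⊔ Q • ⊤) : N = ⊤ := by
  by_contra hne
  let J : Ideal B := N.colon (⊤ : Submodule B M)
  have hJ : J ≠ ⊤ := by
    intro hJ
    apply hne
    rw [eq_top_iff]
    intro m _
    have h1 : (1 : B) ∈ J := hJ ▸ Submodule.mem_top
    have := Submodule.mem_colon.mp h1 m Submodule.mem_top
    simpa using this
  obtain ⟨Q, hQ, hJQ⟩ := Ideal.exists_le_maximal J hJ
  have hfg : (⊤ : Submodule B (M ⧸ N)).FG := Module.Finite.fg_top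
  have hle : (⊤ : Submodule B (M ⧸ N)) ≤ Q • (⊤ : Submodule B (M ⧸ N)) := by
    intro x _
    obtain ⟨m, rfl⟩ := N.mkQ_surjective x
    have hm := h Q hQ (Submodule.mem_top : m ∈ ⊤)
    obtain ⟨a, ha, c, hc, rfl⟩ := Submodule.mem_sup.mp hm
    have h1 : N.mkQ (a + c) = N.mkQ c := by
      rw [map_add, Submodule.mkQ_apply, Submodule.mkQ_apply,
        (Submodule.Quotient.mk_eq_zero N).mpr ha, zero_add]
    rw [h1]
    have h2 : N.mkQ c ∈ (Q • (⊤ : Submodule B M)).map N.mkQ := Submodule.mem_map_of_mem hc
    rw [Submodule.map_smul'', Submodule.map_top, Submodule.range_mkQ] at h2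
    exact h2
  obtain ⟨r, hr1, hr0⟩ :=
    Submodule.exists_sub_one_mem_and_smul_eq_zero_of_fg_of_le_smul Q ⊤ hfg hle
  have hrJ : r ∈ J := by
    refine Submodule.mem_colon.mpr fun m _ => ?_
    have := hr0 (N.mkQ m) Submodule.mem_top
    rw [← map_smul] at this
    exact (Submodule.Quotient.mk_eq_zero N).mp this
  have h1 : (1 : B) ∈ Q := by
    have := Q.sub_mem (hJQ hrJ) hr1
    simpa using this
  exact hQ.ne_top ((Ideal.eq_top_iff_one Q).mpr h1)

/-- A finite module over a semilocal ring which is spanned by `n` elements modulo every maximal ideal is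
spanned by `n` elements. -/
theorem exists_generators_of_semilocal [Finite (MaximalSpectrum B)] [Module.Finite B M] (n : ℕ)
    (h : ∀ P : MaximalSpectrum B, ∃ b : Fin n → M,
      (⊤ : Submodule B M) ≤ Submodule.span B (Set.range b) ⊔ P.asIdeal • ⊤) :
    ∃ b : Fin n → M, Submodule.span B (Set.range b) = ⊤ := by
  classical
  have : Fintype (MaximalSpectrum B) := Fintype.ofFinite _
  choose b' hb' using h
  have hcop : Pairwise (Function.onFun IsCoprime fun P : MaximalSpectrum B => P.asIdeal) :=
    fun P Q ne => Ideal.isCoprime_of_isMaximal (MaximalSpectrum.ext_iff.ne.mp ne)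
  let δ : MaximalSpectrum B → MaximalSpectrum B → B := fun P => Pi.single P (1 : B)
  choose u hu using fun P : MaximalSpectrum B =>
    Ideal.exists_forall_sub_mem_ideal hcop (δ P)
  let b : Fin n → M := fun i => ∑ P : MaximalSpectrum B, u P • b' P i
  refine ⟨b, eq_top_of_forall_maximal_sup _ fun Q hQ => ?_⟩
  let Q' : MaximalSpectrum B := ⟨Q, hQ⟩
  have hkey : ∀ i, b' Q' i ∈ Submodule.span B (Set.range b) ⊔ Q • (⊤ : Submodule B M) := by
    intro i
    have h1 : b' Q' i = b i - ∑ P : MaximalSpectrum B, (u P - δ P Q') • b' P i := by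
      simp only [b, sub_smul, Finset.sum_sub_distrib]
      rw [sub_sub_cancel]
      rw [Finset.sum_eq_single Q']
      · simp [δ]
      · intro P _ hP
        show (Pi.single P (1 : B) : MaximalSpectrum B → B) Q' • b' P i = 0
        rw [Pi.single_eq_of_ne (Ne.symm hP), zero_smul]
      · intro hQ'
        exact absurd (Finset.mem_univ _) hQ'
    rw [h1]
    refine Submodule.sub_mem _ (Submodule.mem_sup_left (Submodule.subset_span ⟨i, rfl⟩))
      (Submodule.mem_sup_right (Submodule.sum_mem _ fun P _ => ?_))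
    exact Submodule.smul_mem_smul (hu P Q') Submodule.mem_top
  refine (hb' Q').trans (sup_le ?_ le_sup_right)
  rw [Submodule.span_le]
  rintro _ ⟨i, rfl⟩
  exact hkey i

end Semilocal

section Cot

variable {P : Type*} [CommRing P] (J : Ideal P) (g : P)

/-- numerators in `J` of a list in `J·P_g` -/
theorem exists_numerators (l : List (Localization.Away g))
    (hl : ∀ x ∈ l, x ∈ J.map (algebraMap P (Localization.Away g))) :
    ∃ y : Fin l.length → J, ∀ j, ∃ k : ℕ,
      l.get j * algebraMap P (Localization.Away g) (g ^ k) =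
        algebraMap P (Localization.Away g) (y j : P) := by
  have h : ∀ j : Fin l.length, ∃ (a : J) (k : ℕ),
      l.get j * algebraMap P (Localization.Away g) (g ^ k) =
        algebraMap P (Localization.Away g) (a : P) := by
    intro j
    have hx := hl (l.get j) (List.get_mem l j)
    rw [IsLocalization.mem_map_algebraMap_iff (Submonoid.powers g)] at hx
    obtain ⟨⟨a, ⟨s, k, rfl⟩⟩, hxs⟩ := hx
    exact ⟨a, k, hxs⟩
  choose y k hk using h
  exact ⟨y, fun j => ⟨k j, hk j⟩⟩

/-- if `J·P_g` is generated by `l` with numerators `y`, then a power of `g` multiplies `J` into `(y)` -/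
theorem exists_pow_mul_mem_span (l : List (Localization.Away g))
    (hJl : J.map (algebraMap P (Localization.Away g)) = Ideal.ofList l)
    (y : Fin l.length → J)
    (hy : ∀ j, ∃ k : ℕ, l.get j * algebraMap P (Localization.Away g) (g ^ k) =
        algebraMap P (Localization.Away g) (y j : P))
    (x₀ : P) (hx₀ : x₀ ∈ J) :
    ∃ K : ℕ, g ^ K * x₀ ∈ Ideal.span (Set.range fun j => (y j : P)) := by
  set N : Ideal P := Ideal.span (Set.range fun j => (y j : P)) with hN
  have h1 : Ideal.ofList l ≤ N.map (algebraMap P (Localization.Away g)) := by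
    rw [Ideal.ofList, Ideal.span_le]
    intro x hx
    obtain ⟨j, rfl⟩ := List.mem_iff_get.mp hx
    obtain ⟨k, hk⟩ := hy j
    have hu : IsUnit (algebraMap P (Localization.Away g) (g ^ k)) :=
      IsLocalization.map_units (Localization.Away g) (⟨g ^ k, k, rfl⟩ : Submonoid.powers g)
    obtain ⟨u, hu⟩ := hu
    have h2 : l.get j = algebraMap P (Localization.Away g) (y j : P) * (↑u⁻¹ : Localization.Away g) := by
      rw [← hk, ← hu, mul_assoc, Units.mul_inv, mul_one]
    rw [SetLike.mem_coe, h2]
    exact Ideal.mul_mem_right _ _ (Ideal.mem_map_of_mem _ (Ideal.subset_span ⟨j, rfl⟩))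
  have h3 : algebraMap P (Localization.Away g) x₀ ∈ N.map (algebraMap P (Localization.Away g)) :=
    h1 (hJl ▸ Ideal.mem_map_of_mem _ hx₀)
  rw [IsLocalization.mem_map_algebraMap_iff (Submonoid.powers g)] at h3
  obtain ⟨⟨a, ⟨s, k, rfl⟩⟩, has⟩ := h3
  have h4 : algebraMap P (Localization.Away g) (x₀ * g ^ k) =
      algebraMap P (Localization.Away g) (a : P) := by
    rw [map_mul]
    exact has
  obtain ⟨⟨m, k', rfl⟩, hm⟩ := (IsLocalization.eq_iff_exists (Submonoid.powers g) _).mp h4
  refine ⟨k' + k, ?_⟩
  have h5 : g ^ (k' + k) * x₀ = g ^ k' * (a : P) := by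
    rw [← hm, pow_add]
    ring
  rw [h5]
  exact Ideal.mul_mem_left _ _ a.2

/-- the conormal module of `J` is spanned by `n` elements modulo a maximal ideal near which `J` is generated by
at most `n` elements -/
theorem exists_span_cotangent (l : List (Localization.Away g))
    (hJl : J.map (algebraMap P (Localization.Away g)) = Ideal.ofList l) (n : ℕ)
    (hn : l.length ≤ n) (𝔫 : Ideal (P ⧸ J)) [h𝔫 : 𝔫.IsMaximal] (hg : Ideal.Quotient.mk J g ∉ 𝔫) :
    ∃ b : Fin n → J.Cotangent,
      (⊤ : Submodule (P ⧸ J) J.Cotangent) ≤ Submodule.span (P ⧸ J) (Set.range b) ⊔ 𝔫 • ⊤ := by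
  classical
  obtain ⟨y, hy⟩ := exists_numerators J g l (fun x hx => hJl ▸ Ideal.subset_span hx)
  let b : Fin n → J.Cotangent := fun i =>
    if h : (i : ℕ) < l.length then J.toCotangent (y ⟨i, h⟩) else 0
  have hb : ∀ j : Fin l.length, J.toCotangent (y j) ∈ Submodule.span (P ⧸ J) (Set.range b) := by
    intro j
    refine Submodule.subset_span ⟨⟨j, lt_of_lt_of_le j.2 hn⟩, ?_⟩
    simp only [b, j.2, dite_true]
  refine ⟨b, fun x _ => ?_⟩
  obtain ⟨x₀, rfl⟩ := J.toCotangent_surjective x
  obtain ⟨K, hK⟩ := exists_pow_mul_mem_span J g l hJl y hy x₀ x₀.2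
  obtain ⟨c, hc⟩ := (Ideal.mem_span_range_iff_exists_fun (R := P)).mp hK
  have h1 : (g ^ K) • x₀ = ∑ j, c j • y j := by
    apply Subtype.ext
    rw [Submodule.coe_smul, Submodule.coe_sum, smul_eq_mul, ← hc]
    rfl
  have h2 : (Ideal.Quotient.mk J (g ^ K)) • J.toCotangent x₀ ∈
      Submodule.span (P ⧸ J) (Set.range b) := by
    have h3 : (Ideal.Quotient.mk J (g ^ K)) • J.toCotangent x₀ = J.toCotangent ((g ^ K) • x₀) := by
      rw [map_smul]
      rfl
    rw [h3, h1, map_sum]
    refine Submodule.sum_mem _ fun j _ => ?_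
    have h4 : J.toCotangent (c j • y j) = (Ideal.Quotient.mk J (c j)) • J.toCotangent (y j) := by
      rw [map_smul]
      rfl
    rw [h4]
    exact Submodule.smul_mem _ _ (hb j)
  have hgK : Ideal.Quotient.mk J (g ^ K) ∉ 𝔫 := by
    rw [map_pow]
    exact fun h => hg (h𝔫.isPrime.mem_of_pow_mem K h)
  obtain ⟨v, i, hi, hvi⟩ := h𝔫.exists_inv hgK
  have h5 : J.toCotangent x₀ = v • ((Ideal.Quotient.mk J (g ^ K)) • J.toCotangent x₀) +
      i • J.toCotangent x₀ := by
    rw [smul_smul, ← add_smul, hvi, one_smul]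
  rw [h5]
  exact Submodule.add_mem _ (Submodule.mem_sup_left (Submodule.smul_mem _ _ h2))
    (Submodule.mem_sup_right (Submodule.smul_mem_smul hi Submodule.mem_top))

end Cot

section Main

/-- a finite algebra over a local ring is semilocal -/
theorem finite_maximalSpectrum_of_finite (A B : Type*) [CommRing A] [IsLocalRing A] [CommRing B]
    [Algebra A B] [Module.Finite A B] : Finite (MaximalSpectrum B) := by
  have hfin := Algebra.QuasiFinite.finite_primesOver (R := A) (S := B) (IsLocalRing.maximalIdeal A)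
  have : Finite ((IsLocalRing.maximalIdeal A).primesOver B) := hfin.to_subtype
  have hmem : ∀ M : MaximalSpectrum B, M.asIdeal ∈ (IsLocalRing.maximalIdeal A).primesOver B := by
    intro M
    have := M.isMaximal
    refine ⟨M.isMaximal.isPrime, ⟨?_⟩⟩
    have hmax : (M.asIdeal.comap (algebraMap A B)).IsMaximal :=
      Ideal.isMaximal_comap_of_isIntegral_of_isMaximal M.asIdeal
    exact (IsLocalRing.eq_maximalIdeal hmax).symm
  exact Finite.of_injective
    (fun M : MaximalSpectrum B =>
      (⟨M.asIdeal, hmem M⟩ : (IsLocalRing.maximalIdeal A).primesOver B))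
    (fun M M' h => MaximalSpectrum.ext (congrArg Subtype.val h))

variable {A : Type u} [CommRing A] [IsLocalRing A] {n : ℕ}

/-- **Finite syntomic over a local ring ⇒ square presentation** (presentation form): if `J ⊆ A[x_1..x_n]` is a
Koszul-regular ideal with `A[x]/J` finite and flat over the local ring `A`, then `A[x]/J` is presented by
`n + 1` equations in `n + 1` variables. -/
theorem exists_square_presentation (J : Ideal (MvPolynomial (Fin n) A))
    (hK : LCI.IsKoszulRegularIdeal J)
    [Module.Flat A (MvPolynomial (Fin n) A ⧸ J)] [Module.Finite A (MvPolynomial (Fin n) A ⧸ J)] :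
    ∃ F : Fin (n + 1) → MvPolynomial (Fin (n + 1)) A,
      Nonempty ((MvPolynomial (Fin n) A ⧸ J) ≃ₐ[A] Synt.RelGCIRing A (n + 1) (n + 1) F) := by
  classical
  have hJfg : J.FG := Groth.Agent.Lib.KRDescC.fg_of_isKoszulRegularIdeal hK
  have hsl : Finite (MaximalSpectrum (MvPolynomial (Fin n) A ⧸ J)) :=
    finite_maximalSpectrum_of_finite A _
  -- the conormal module is finite
  have hfinJ : Module.Finite (MvPolynomial (Fin n) A) J := Module.Finite.iff_fg.mpr hJfg
  have hfinC0 : Module.Finite (MvPolynomial (Fin n) A) J.Cotangent :=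
    Module.Finite.of_surjective J.toCotangent J.toCotangent_surjective
  have hfinC : Module.Finite (MvPolynomial (Fin n) A ⧸ J) J.Cotangent :=
    Module.Finite.of_restrictScalars_finite (MvPolynomial (Fin n) A) _ _
  -- local generation by `n` elements
  have hloc : ∀ 𝔫 : MaximalSpectrum (MvPolynomial (Fin n) A ⧸ J), ∃ b : Fin n → J.Cotangent,
      (⊤ : Submodule (MvPolynomial (Fin n) A ⧸ J) J.Cotangent) ≤
        Submodule.span (MvPolynomial (Fin n) A ⧸ J) (Set.range b) ⊔ 𝔫.asIdeal • ⊤ := by
    intro 𝔫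
    have := 𝔫.isMaximal
    let q' : PrimeSpectrum (MvPolynomial (Fin n) A) :=
      ⟨𝔫.asIdeal.comap (Ideal.Quotient.mk J), Ideal.IsPrime.comap _⟩
    have hJq : J ≤ q'.asIdeal := by
      intro x hx
      change Ideal.Quotient.mk J x ∈ 𝔫.asIdeal
      rw [Ideal.Quotient.eq_zero_iff_mem.mpr hx]
      exact Ideal.zero_mem _
    obtain ⟨g, hg, l, hl, hJl⟩ := hK q' hJq
    have hg' : Ideal.Quotient.mk J g ∉ 𝔫.asIdeal := hg
    have : Nontrivial (Localization.Away (Ideal.Quotient.mk J g)) :=
      Groth.Agent.Lib.SyntRegPres.nontrivial_away_of_notMem 𝔫.asIdeal hg'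
    have : Module.Flat A (Localization.Away (Ideal.Quotient.mk J g)) :=
      Module.Flat.trans A (MvPolynomial (Fin n) A ⧸ J) _
    have hn : l.length ≤ n := length_le_of_isKoszulRegularSeq_away J g l hl hJl
    exact exists_span_cotangent J g l hJl n hn 𝔫.asIdeal hg'
  obtain ⟨b, hb⟩ := exists_generators_of_semilocal n hloc
  -- lift the generators
  choose ft hft using fun i => J.toCotangent_surjective (b i)
  let f : Fin n → MvPolynomial (Fin n) A := fun i => (ft i : MvPolynomial (Fin n) A)
  have hfJ : ∀ i, f i ∈ J := fun i => (ft i).2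
  have hsup : (J : Submodule (MvPolynomial (Fin n) A) (MvPolynomial (Fin n) A)) ≤
      Ideal.span (Set.range f) ⊔ J • (J : Submodule (MvPolynomial (Fin n) A) (MvPolynomial (Fin n) A)) := by
    intro x₀ hx₀
    have h1 : J.toCotangent ⟨x₀, hx₀⟩ ∈ Submodule.span (MvPolynomial (Fin n) A ⧸ J) (Set.range b) := by
      rw [hb]
      exact Submodule.mem_top
    obtain ⟨cbar, hc⟩ := (Submodule.mem_span_range_iff_exists_fun _).mp h1
    choose c hcc using fun i => Ideal.Quotient.mk_surjective (cbar i)
    have h2 : J.toCotangent ⟨x₀, hx₀⟩ = J.toCotangent (∑ i, c i • ft i) := by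
      rw [map_sum, ← hc]
      refine Finset.sum_congr rfl fun i _ => ?_
      rw [map_smul, hft, ← hcc]
      rfl
    rw [Ideal.toCotangent_eq] at h2
    have h3 : x₀ = ∑ i, c i * f i + (x₀ - ∑ i, c i * f i) := by ring
    rw [h3]
    refine Submodule.add_mem _ (Submodule.mem_sup_left ?_) (Submodule.mem_sup_right ?_)
    · exact Submodule.sum_mem _ fun i _ => Ideal.mul_mem_left _ _ (Ideal.subset_span ⟨i, rfl⟩)
    · have h4 : (x₀ - ∑ i, c i * f i) ∈ J ^ 2 := by
        convert h2 using 1
        rw [Submodule.coe_sum]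
        rfl
      rw [pow_two] at h4
      exact h4
  obtain ⟨r, hr1, hrJ⟩ := Submodule.exists_sub_one_mem_and_smul_le_of_fg_of_le_sup
    (I := J) (N := Ideal.span (Set.range f)) (N' := J) (P := J) hJfg le_rfl hsup
  -- the equations
  let fl : List (Localization.Away r) :=
    List.ofFn fun i => algebraMap (MvPolynomial (Fin n) A) (Localization.Away r) (f i)
  have hID : J.map (algebraMap (MvPolynomial (Fin n) A) (Localization.Away r)) = Ideal.ofList fl := by
    have hfl : Ideal.ofList fl = (Ideal.span (Set.range f)).map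
        (algebraMap (MvPolynomial (Fin n) A) (Localization.Away r)) := by
      rw [Ideal.map_span, Ideal.ofList]
      congr 1
      ext x
      simp only [fl, List.mem_ofFn, Set.mem_ofPred_eq, Set.mem_image, Set.mem_range]
      constructor
      · rintro ⟨i, rfl⟩
        exact ⟨f i, ⟨i, rfl⟩, rfl⟩
      · rintro ⟨_, ⟨i, rfl⟩, rfl⟩
        exact ⟨i, rfl⟩
    rw [hfl]
    refine le_antisymm ?_ (Ideal.map_mono (Ideal.span_le.mpr ?_))
    · rw [Ideal.map_le_iff_le_comap]
      intro x hx
      rw [Ideal.mem_comap]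
      have h1 : r * x ∈ Ideal.span (Set.range f) :=
        hrJ (Submodule.smul_mem_pointwise_smul x r _ hx)
      have h2 := Ideal.mem_map_of_mem (algebraMap (MvPolynomial (Fin n) A) (Localization.Away r)) h1
      rw [map_mul] at h2
      have hu : IsUnit (algebraMap (MvPolynomial (Fin n) A) (Localization.Away r) r) :=
        IsLocalization.map_units (Localization.Away r) (⟨r, 1, pow_one r⟩ : Submonoid.powers r)
      exact (Ideal.unit_mul_mem_iff_mem _ hu).mp h2
    · rintro _ ⟨i, rfl⟩
      exact hfJ i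
  obtain ⟨l, hlen, -, ⟨e₁⟩⟩ := exists_away_presentation J r fl hID
  have hlen' : l.length = n + 1 := by
    rw [hlen]
    simp [fl]
  -- `r = 1` in the quotient
  have hr1' : Ideal.Quotient.mk J r = 1 := by
    rw [← sub_eq_zero, ← map_one (Ideal.Quotient.mk J), ← map_sub]
    exact Ideal.Quotient.eq_zero_iff_mem.mpr hr1
  have hunits : Submonoid.powers (Ideal.Quotient.mk J r) ≤
      IsUnit.submonoid (MvPolynomial (Fin n) A ⧸ J) := by
    rintro _ ⟨k, rfl⟩
    show IsUnit ((Ideal.Quotient.mk J r) ^ k)
    rw [hr1', one_pow]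
    exact isUnit_one
  let e₂ : (MvPolynomial (Fin n) A ⧸ J) ≃ₐ[A] Localization.Away (Ideal.Quotient.mk J r) :=
    (IsLocalization.atUnits (MvPolynomial (Fin n) A ⧸ J) (Submonoid.powers (Ideal.Quotient.mk J r))
      (S := Localization.Away (Ideal.Quotient.mk J r)) hunits).restrictScalars A
  let F : Fin (n + 1) → MvPolynomial (Fin (n + 1)) A := fun i => l.get (i.cast hlen'.symm)
  have hF : Ideal.span (Set.range F) = Ideal.ofList l := by
    have h0 : Set.range F = Set.range l.get := by
      ext x
      constructor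
      · rintro ⟨i, rfl⟩
        exact ⟨i.cast hlen'.symm, rfl⟩
      · rintro ⟨i, rfl⟩
        exact ⟨i.cast hlen', by simp [F]⟩
    rw [h0, Set.range_list_get]
  exact ⟨F, ⟨e₂.trans (e₁.trans (Ideal.quotientEquivAlgOfEq A hF.symm))⟩⟩

end Main

end Groth.Agent.Lib.FinSynt32
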