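/-
helper26: points of finite algebras over a field with values in an algebraically closed field.
* `fiberEquiv` : K-algebra maps `A → Ω` with kernel `p`  ≃  K-embeddings `κ(p) → Ω`.
* `card_algHom_eq_finsum` : for `A` finite over `K` and `Ω` algebraically closed,
  `#(A →ₐ[K] Ω) = ∑_p [κ(p) : K]_s`.
* `card_primeSpectrum_eq_card_algHom` : for `B` finite over an algebraically closed `Ω`,
  `#Spec B = #(B →ₐ[Ω] Ω)`.
* `card_primeSpectrum_tensor` : `#Spec (Ω ⊗[K] A) = #(A →ₐ[K] Ω)`.
-/
import Mathlib.FieldTheory.SeparableDegree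
import Mathlib.FieldTheory.IsAlgClosed.Basic
import Mathlib.RingTheory.LocalRing.ResidueField.Ideal
import Mathlib.RingTheory.Artinian.Ring
import Mathlib.RingTheory.TensorProduct.Basic
import Mathlib.RingTheory.TensorProduct.Finite
import Mathlib.RingTheory.Spectrum.Prime.Noetherian

set_option autoImplicit false

namespace Groth.Agent.Lib.FiniteAlgPoints

open TensorProduct

variable (K : Type*) [Field K] (A : Type*) [CommRing A] [Algebra K A]
  (Ω : Type*) [Field Ω] [Algebra K Ω]

/-- `K`-algebra maps `A → Ω` with kernel `p` correspond to `K`-embeddings `κ(p) → Ω`. -/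
noncomputable def fiberEquiv (p : Ideal A) [p.IsPrime] :
    {φ : A →ₐ[K] Ω // RingHom.ker φ = p} ≃ (p.ResidueField →ₐ[K] Ω) where
  toFun φ := Ideal.ResidueField.liftₐ p φ.1 φ.2.ge (by
      intro a ha
      simp only [Submonoid.mem_comap, IsUnit.mem_submonoid_iff]
      rw [isUnit_iff_ne_zero]
      intro h0
      exact ha (φ.2.le (RingHom.mem_ker.mpr h0)))
  invFun ψ := ⟨ψ.comp (IsScalarTower.toAlgHom K A p.ResidueField), by
      ext a
      rw [RingHom.mem_ker, AlgHom.comp_apply, map_eq_zero_iff ψ ψ.injective]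
      exact Ideal.algebraMap_residueField_eq_zero⟩
  left_inv φ := Subtype.ext (Ideal.ResidueField.liftₐ_comp_toAlgHom _ _ _ _)
  right_inv ψ := Ideal.ResidueField.algHom_ext (by
    rw [Ideal.ResidueField.liftₐ_comp_toAlgHom])

/-- The number of `K`-points of a finite `K`-algebra `A` in an algebraically closed extension `Ω`
is the sum of the separable degrees of the residue fields. -/
theorem card_algHom_eq_finsum [Module.Finite K A] [IsAlgClosed Ω] :
    Nat.card (A →ₐ[K] Ω) =
      ∑ᶠ p : PrimeSpectrum A, Field.finSepDegree K p.asIdeal.ResidueField := by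
  classical
  have hArt : IsArtinianRing A := IsArtinianRing.of_finite K A
  have hfinSpec : Finite (PrimeSpectrum A) := inferInstance
  have : Fintype (PrimeSpectrum A) := Fintype.ofFinite _
  have hfin : Finite (A →ₐ[K] Ω) := (minpoly.AlgHom.fintype K A Ω).finite
  rw [finsum_eq_sum_of_fintype]
  let f : (A →ₐ[K] Ω) → PrimeSpectrum A := fun φ => ⟨RingHom.ker φ, RingHom.ker_isPrime φ⟩
  rw [← Nat.card_congr (Equiv.sigmaFiberEquiv f), Nat.card_sigma]
  refine Finset.sum_congr rfl fun p _ => ?_
  have hmax : p.asIdeal.IsMaximal := IsArtinianRing.isMaximal_of_isPrime p.asIdeal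
  have hfinres : Module.Finite K p.asIdeal.ResidueField := Module.Finite.trans A _
  have e1 : {φ : A →ₐ[K] Ω // f φ = p} ≃ {φ : A →ₐ[K] Ω // RingHom.ker φ = p.asIdeal} :=
    Equiv.subtypeEquivRight (fun φ => PrimeSpectrum.ext_iff)
  rw [Nat.card_congr (e1.trans (fiberEquiv K A Ω p.asIdeal)),
    ← Field.finSepDegree_eq_of_isAlgClosed]

/-- For a finite algebra over an algebraically closed field, prime ideals correspond to
algebra maps to the field (counting version). -/
theorem card_primeSpectrum_eq_card_algHom [IsAlgClosed Ω] (B : Type*) [CommRing B] [Algebra Ω B]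
    [Module.Finite Ω B] :
    Nat.card (PrimeSpectrum B) = Nat.card (B →ₐ[Ω] Ω) := by
  classical
  have hArt : IsArtinianRing B := IsArtinianRing.of_finite Ω B
  have hfinSpec : Finite (PrimeSpectrum B) := inferInstance
  have : Fintype (PrimeSpectrum B) := Fintype.ofFinite _
  rw [card_algHom_eq_finsum Ω B Ω, finsum_eq_sum_of_fintype]
  have h1 : ∀ P : PrimeSpectrum B, Field.finSepDegree Ω P.asIdeal.ResidueField = 1 := by
    intro P
    have hmax : P.asIdeal.IsMaximal := IsArtinianRing.isMaximal_of_isPrime P.asIdeal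
    have hfinres : Module.Finite Ω P.asIdeal.ResidueField := Module.Finite.trans B _
    have bij := IsAlgClosed.algebraMap_bijective_of_isIntegral (k := Ω)
      (K := P.asIdeal.ResidueField)
    rw [← Field.finSepDegree_eq_of_equiv Ω _ _
      (AlgEquiv.ofBijective (Algebra.ofId Ω P.asIdeal.ResidueField) bij),
      Field.finSepDegree_self]
  simp [h1, Nat.card_eq_fintype_card]

/-- `#Spec (Ω ⊗[K] A) = #(A →ₐ[K] Ω)` for `A` finite over `K` and `Ω` algebraically closed. -/
theorem card_primeSpectrum_tensor [Module.Finite K A] [IsAlgClosed Ω] :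
    Nat.card (PrimeSpectrum (Ω ⊗[K] A)) = Nat.card (A →ₐ[K] Ω) := by
  rw [card_primeSpectrum_eq_card_algHom Ω (Ω ⊗[K] A)]
  exact Nat.card_congr (AlgHom.liftEquiv K Ω A Ω).symm

end Groth.Agent.Lib.FiniteAlgPoints
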