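import Mathlib.RingTheory.Finiteness.Descent
import Mathlib.RingTheory.TensorProduct.Quotient
import Mathlib.RingTheory.Flat.Basic
import Mathlib.RingTheory.Spectrum.Prime.Basic

/-!
# Descent of finiteness of modules along a finite jointly surjective family of flat algebras

(helper5; Mathlib only.)  If `B i` (`i` in a finite type) are flat `A`-algebras such that every
prime of `A` is the contraction of a prime of some `B i`, and `B i ⊗[A] M` is a finite
`B i`-module for every `i`, then `M` is a finite `A`-module.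
-/

set_option autoImplicit false
universe u v w

open TensorProduct

namespace Groth.Agent.Lib.FiniteDescentFamily

variable {A : Type u} [CommRing A] {M : Type v} [AddCommGroup M] [Module A M]

/-- a finite `B ⊗[A] M` is generated by the image of a finite free `A`-module mapping to `M` -/
theorem exists_lTensor_surjective (B : Type w) [CommRing B] [Algebra A B]
    [Module.Finite B (B ⊗[A] M)] :
    ∃ (n : ℕ) (f₀ : (Fin n → A) →ₗ[A] M),
      Function.Surjective (AlgebraTensorModule.lTensor B B f₀) := by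
  obtain ⟨n, s, hs⟩ := Module.Finite.exists_fin (R := B) (M := B ⊗[A] M)
  choose k t m h using fun i : Fin n ↦ TensorProduct.exists_sum_tmul_eq (s i)
  let e : (Σ i, Fin (k i)) ≃ Fin (Fintype.card (Σ i, Fin (k i))) := Fintype.equivFin _
  let f₁ : ((Σ i, Fin (k i)) → A) →ₗ[A] M := (Pi.basisFun A _).constr A fun ⟨i, j⟩ ↦ m i j
  let f₀ : (Fin (Fintype.card (Σ i, Fin (k i))) → A) →ₗ[A] M :=
    f₁.comp (LinearMap.funLeft A A e)
  refine ⟨_, f₀, ?_⟩
  rw [← LinearMap.range_eq_top, eq_top_iff, ← hs, Submodule.span_le, Set.range_subset_iff]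
  intro i
  refine ⟨∑ (j : Fin (k i)), t i j ⊗ₜ (LinearMap.funLeft A A e.symm (Pi.basisFun A _ ⟨i, j⟩)), ?_⟩
  have hf : ∀ z, f₀ (LinearMap.funLeft A A e.symm z) = f₁ z := by
    intro z
    show f₁ (LinearMap.funLeft A A e (LinearMap.funLeft A A e.symm z)) = f₁ z
    congr 1
    ext a
    simp [LinearMap.funLeft_apply]
  simp only [map_sum, AlgebraTensorModule.lTensor_tmul, hf]
  simp [f₁, -Pi.basisFun_equivFun, -Pi.basisFun_apply, h i]

/-- **Descent of finiteness along a finite jointly surjective flat family.** -/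
theorem finite_of_family {ι : Type*} [Finite ι] (B : ι → Type w) [∀ i, CommRing (B i)]
    [∀ i, Algebra A (B i)] [∀ i, Module.Flat A (B i)]
    (hsurj : ∀ p : PrimeSpectrum A, ∃ (i : ι) (q : PrimeSpectrum (B i)),
      q.asIdeal.comap (algebraMap A (B i)) = p.asIdeal)
    (hfin : ∀ i, Module.Finite (B i) (B i ⊗[A] M)) : Module.Finite A M := by
  classical
  cases nonempty_fintype ι
  choose n f₀ hf₀ using fun i => exists_lTensor_surjective (A := A) (M := M) (B i)
  let N : Submodule A M := ⨆ i, LinearMap.range (f₀ i)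
  have hNfg : N.FG := by
    apply Submodule.fg_iSup
    intro i
    rw [LinearMap.range_eq_map]
    exact (Module.Finite.fg_top).map (f₀ i)
  suffices hN : N = ⊤ by
    rw [Module.finite_def, ← hN]; exact hNfg
  by_contra hN
  obtain ⟨x, -, hx⟩ := SetLike.exists_of_lt (lt_top_iff_ne_top.mpr hN)
  let I : Ideal A := N.colon {x}
  have hI : I ≠ ⊤ := by
    intro h
    have h1 : (1 : A) ∈ I := by rw [h]; trivial
    rw [Submodule.mem_colon_singleton, one_smul] at h1
    exact hx h1
  obtain ⟨p, hpmax, hIp⟩ := Ideal.exists_le_maximal I hI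
  obtain ⟨i, q, hq⟩ := hsurj ⟨p, hpmax.isPrime⟩
  -- the injection `A ⧸ I → M ⧸ N`
  let g₀ : A →ₗ[A] M ⧸ N := N.mkQ.comp (LinearMap.toSpanSingleton A M x)
  have hker : I = LinearMap.ker g₀ := by
    ext a
    rw [Submodule.mem_colon_singleton, LinearMap.mem_ker]
    show a • x ∈ N ↔ N.mkQ (a • x) = 0
    rw [Submodule.mkQ_apply, Submodule.Quotient.mk_eq_zero]
  let g : (A ⧸ I) →ₗ[A] M ⧸ N := Submodule.liftQ I g₀ (le_of_eq hker)
  have hg : Function.Injective g := by
    rw [← LinearMap.ker_eq_bot]
    exact Submodule.ker_liftQ_eq_bot' I g₀ hker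
  have hflat : Function.Injective (g.lTensor (B i)) :=
    Module.Flat.lTensor_preserves_injective_linearMap g hg
  -- `B i ⊗ (M ⧸ N) = 0`
  have hzero : Subsingleton (B i ⊗[A] (M ⧸ N)) := by
    have hall : ∀ w : B i ⊗[A] (M ⧸ N), w = 0 := by
      intro w
      obtain ⟨y, rfl⟩ := LinearMap.lTensor_surjective (B i) (N.mkQ_surjective) w
      obtain ⟨z, rfl⟩ := hf₀ i y
      induction z using TensorProduct.induction_on with
      | zero => simp
      | tmul b v =>
        rw [AlgebraTensorModule.lTensor_tmul, LinearMap.lTensor_tmul]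
        have : N.mkQ (f₀ i v) = 0 := by
          rw [Submodule.mkQ_apply, Submodule.Quotient.mk_eq_zero]
          exact (le_iSup (fun i => LinearMap.range (f₀ i)) i) ⟨v, rfl⟩
        rw [this, tmul_zero]
      | add a b ha hb => rw [map_add, map_add, ha, hb, add_zero]
    exact ⟨fun a b => (hall a).trans (hall b).symm⟩
  have h1 : Subsingleton (B i ⊗[A] (A ⧸ I)) := hflat.subsingleton
  have h2 : Subsingleton (B i ⧸ I.map (algebraMap A (B i))) :=
    (Algebra.TensorProduct.quotIdealMapEquivTensorQuot (B i) I).toEquiv.subsingleton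
  have h3 : I.map (algebraMap A (B i)) = ⊤ := Ideal.Quotient.subsingleton_iff.mp h2
  have h4 : I.map (algebraMap A (B i)) ≤ q.asIdeal := by
    rw [Ideal.map_le_iff_le_comap, hq]
    exact hIp
  rw [h3, top_le_iff] at h4
  exact q.isPrime.ne_top h4

end Groth.Agent.Lib.FiniteDescentFamily
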