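import Groth.Agent.Lib.UnramEq
import Groth.Agent.Lib.EssEtaleLift
import Groth.Agent.S0499
import Groth.Agent.S0505
import Mathlib.RingTheory.Jacobson.Ideal
import Mathlib.RingTheory.Ideal.GoingUp
import Mathlib.Algebra.Group.Pi.Units

set_option autoImplicit false
universe u

namespace Groth.Agent.Lib.FiniteEtaleHom

open IsLocalRing

/-- Two algebra maps out of an unramified algebra which agree modulo an ideal contained in the
Jacobson radical are equal. -/
theorem algHom_ext_of_sub_mem_jacobson {A B C : Type*} [CommRing A] [CommRing B] [CommRing C]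
    [Algebra A B] [Algebra A C] [Algebra.FormallyUnramified A B] [Algebra.FiniteType A B]
    (u v : B →ₐ[A] C) (J : Ideal C) (hJ : J ≤ Ideal.jacobson ⊥) (h : ∀ b, u b - v b ∈ J) :
    u = v := by
  obtain ⟨e, he, hD⟩ := Groth.Agent.Lib.UnramEq.exists_idempotent u v
  have hle : Groth.Agent.Lib.UnramEq.diffIdeal u v ≤ J := by
    rw [Groth.Agent.Lib.UnramEq.diffIdeal, Ideal.span_le]
    rintro _ ⟨b, rfl⟩
    exact h b
  have heJ : e ∈ Ideal.jacobson (⊥ : Ideal C) :=
    hJ (hle (hD ▸ Ideal.mem_span_singleton_self e))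
  have hu : IsUnit (e * (-1) + 1) := Ideal.mem_jacobson_bot.mp heJ (-1)
  have h0 : e * (e * (-1) + 1) = 0 := by
    have := he.eq
    linear_combination -this
  have he0 : e = 0 := (hu.mul_left_eq_zero).mp h0
  ext b
  have hb := Groth.Agent.Lib.UnramEq.sub_mem_diffIdeal u v b
  rw [hD, he0, Ideal.span_singleton_zero, Ideal.mem_bot] at hb
  exact sub_eq_zero.mp hb

/-- If `C` is module-finite over a local ring `R`, then `m C` is in the Jacobson radical. -/
theorem map_maximalIdeal_le_jacobson (R C : Type*) [CommRing R] [IsLocalRing R] [CommRing C]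
    [Algebra R C] [Module.Finite R C] :
    Ideal.map (algebraMap R C) (maximalIdeal R) ≤ Ideal.jacobson ⊥ := by
  have hint : Algebra.IsIntegral R C := Algebra.IsIntegral.of_finite R C
  rw [Ideal.jacobson]
  apply le_sInf
  rintro n ⟨-, hn⟩
  rw [Ideal.map_le_iff_le_comap]
  have hmax : (Ideal.comap (algebraMap R C) n).IsMaximal :=
    Ideal.isMaximal_comap_of_isIntegral_of_isMaximal n
  exact (IsLocalRing.eq_maximalIdeal hmax).ge

/-- Over a henselian local ring `R`, algebra maps from an etale algebra `E` to `C ⧸ I`, with `C`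
module-finite and `I` inside the Jacobson radical, lift to `C`. -/
theorem exists_algHom_lift_finite {R : Type u} [CommRing R] [HenselianLocalRing R]
    (C : Type u) [CommRing C] [Algebra R C] [Module.Finite R C]
    (E : Type u) [CommRing E] [Algebra R E] [Algebra.Etale R E]
    (I : Ideal C) (hI : I ≤ Ideal.jacobson ⊥) (φbar : E →ₐ[R] C ⧸ I) :
    ∃ φ : E →ₐ[R] C, (Ideal.Quotient.mkₐ R I).comp φ = φbar := by
  classical
  obtain ⟨ι, hι, A, hA, hloc, ⟨ε⟩⟩ := Groth.Agent.S0499.main R C
  let algI : ∀ i, Algebra R (A i) := fun i =>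
    ((Pi.evalRingHom A i).comp ((ε : C →+* (∀ i, A i)).comp (algebraMap R C))).toAlgebra
  let εa : C ≃ₐ[R] (∀ i, A i) := { ε with commutes' := fun r => by funext i; rfl }
  let π : ∀ i, C →ₐ[R] A i := fun i => (Pi.evalAlgHom R A i).comp εa.toAlgHom
  have hπ : ∀ i c, π i c = εa c i := fun _ _ => rfl
  have hπsurj : ∀ i, Function.Surjective (π i) := by
    intro i z
    refine ⟨εa.symm (Pi.single i z), ?_⟩
    rw [hπ, AlgEquiv.apply_symm_apply, Pi.single_eq_same]
  have hfinA : ∀ i, Module.Finite R (A i) := fun i =>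
    Module.Finite.of_surjective (π i).toLinearMap (hπsurj i)
  have hlocA : ∀ i, IsLocalRing (A i) := hloc
  have hhens : ∀ i, HenselianLocalRing (A i) := fun i => Groth.Agent.S0505.result R (A i)
  let ρ : ∀ i, C →+* ResidueField (A i) := fun i => (residue (A i)).comp (π i).toRingHom
  have hρ : ∀ i c, ρ i c = residue (A i) (π i c) := fun _ _ => rfl
  -- F1
  have hF1 : ∀ x : C, (∀ i, ρ i x = 0) → x ∈ Ideal.jacobson (⊥ : Ideal C) := by
    intro x hx
    rw [Ideal.mem_jacobson_bot]
    intro y
    have h1 : IsUnit (εa (x * y + 1)) := by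
      rw [Pi.isUnit_iff]
      intro i
      rw [← hπ, map_add, map_mul, map_one]
      have h2 : π i x ∈ maximalIdeal (A i) := (residue_eq_zero_iff _).mp (hx i)
      have h3 : π i x * π i y ∈ maximalIdeal (A i) := Ideal.mul_mem_right _ _ h2
      by_contra hnu
      have h4 : π i x * π i y + 1 ∈ maximalIdeal (A i) := hnu
      have h5 : (1 : A i) ∈ maximalIdeal (A i) := by
        have := Ideal.sub_mem _ h4 h3
        rwa [add_sub_cancel_left] at this
      exact (Ideal.ne_top_iff_one _).mp (maximalIdeal.isMaximal (A i)).ne_top h5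
    have h6 := h1.map εa.symm
    rwa [AlgEquiv.symm_apply_apply] at h6
  -- F2
  have hF2 : ∀ i, ∀ x ∈ Ideal.jacobson (⊥ : Ideal C), ρ i x = 0 := by
    intro i x hx
    have hsurj : Function.Surjective (ρ i) := by
      intro z
      obtain ⟨a, rfl⟩ := residue_surjective z
      obtain ⟨c, rfl⟩ := hπsurj i a
      exact ⟨c, rfl⟩
    have hmax : (RingHom.ker (ρ i)).IsMaximal := RingHom.ker_isMaximal_of_surjective _ hsurj
    have : Ideal.jacobson (⊥ : Ideal C) ≤ RingHom.ker (ρ i) := sInf_le ⟨bot_le, hmax⟩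
    exact this hx
  -- residue points
  let χ₀ : ∀ i, C ⧸ I →+* ResidueField (A i) := fun i =>
    Ideal.Quotient.lift I (ρ i) (fun x hx => hF2 i x (hI hx))
  have hχ₀ : ∀ i c, χ₀ i (Ideal.Quotient.mk I c) = ρ i c := fun _ _ => rfl
  let χ : ∀ i, E →ₐ[R] ResidueField (A i) := fun i =>
    { (χ₀ i).comp φbar.toRingHom with
      commutes' := fun r => by
        change χ₀ i (φbar (algebraMap R E r)) = _
        rw [φbar.commutes]
        change χ₀ i (Ideal.Quotient.mk I (algebraMap R C r)) = _
        rw [hχ₀, hρ, (π i).commutes]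
        rfl }
  have hχ : ∀ i x, χ i x = χ₀ i (φbar x) := fun _ _ => rfl
  have hlift : ∀ i, ∃ σ : E →ₐ[R] A i, ∀ x, residue (A i) (σ x) = χ i x := by
    intro i
    have hq : (RingHom.ker (χ i : E →+* ResidueField (A i))).IsPrime := RingHom.ker_isPrime _
    exact Groth.Agent.Lib.EssEtaleLift.exists_algHom_lift (A := R) (C := E) (B := A i)
      (RingHom.ker (χ i : E →+* ResidueField (A i))) (χ i) (fun x hx => hx)
  choose σ hσ using hlift
  let φ : E →ₐ[R] C := εa.symm.toAlgHom.comp (AlgHom.pi σ)
  have hφ : ∀ i x, π i (φ x) = σ i x := by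
    intro i x
    rw [hπ]
    change εa (εa.symm (AlgHom.pi σ x)) i = _
    rw [AlgEquiv.apply_symm_apply]
    rfl
  refine ⟨φ, ?_⟩
  apply algHom_ext_of_sub_mem_jacobson _ _ (Ideal.jacobson ⊥) le_rfl
  intro b
  obtain ⟨c, hc⟩ := Ideal.Quotient.mk_surjective (φbar b)
  have h7 : φ b - c ∈ Ideal.jacobson (⊥ : Ideal C) := by
    apply hF1
    intro i
    rw [map_sub, sub_eq_zero, hρ, hφ, hσ, hχ, ← hc, hχ₀]
  have h8 : ((Ideal.Quotient.mkₐ R I).comp φ) b - φbar b = Ideal.Quotient.mk I (φ b - c) := by
    rw [map_sub, hc]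
    rfl
  rw [h8, Ideal.mem_jacobson_bot]
  intro y
  obtain ⟨y, rfl⟩ := Ideal.Quotient.mk_surjective y
  rw [← map_mul, ← map_one (Ideal.Quotient.mk I), ← map_add]
  exact (Ideal.mem_jacobson_bot.mp h7 y).map _

/-- Over a henselian local ring, maps from an etale algebra to a module-finite algebra correspond
bijectively to maps to its quotient by an ideal inside the Jacobson radical. -/
theorem bijective_comp_mk {R : Type u} [CommRing R] [HenselianLocalRing R]
    (C : Type u) [CommRing C] [Algebra R C] [Module.Finite R C]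
    (E : Type u) [CommRing E] [Algebra R E] [Algebra.Etale R E]
    (I : Ideal C) (hI : I ≤ Ideal.jacobson ⊥) :
    Function.Bijective (fun φ : E →ₐ[R] C => (Ideal.Quotient.mkₐ R I).comp φ) := by
  constructor
  · intro u v huv
    apply algHom_ext_of_sub_mem_jacobson u v I hI
    intro b
    have := congr($huv b)
    simp only [AlgHom.comp_apply, Ideal.Quotient.mkₐ_eq_mk] at this
    exact Ideal.Quotient.eq.mp this
  · intro φbar
    exact exists_algHom_lift_finite C E I hI φbar

open Polynomial in
/-- Converse: lifting of residue points of standard etale algebras implies henselian. -/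
theorem henselianLocalRing_of_lift (A : Type u) [CommRing A] [IsLocalRing A]
    (h : ∀ (E : Type u) [CommRing E] [Algebra A E] [Algebra.Etale A E],
      Function.Surjective (fun φ : E →ₐ[A] A =>
        (Ideal.Quotient.mkₐ A (Ideal.map (algebraMap A A) (maximalIdeal A))).comp φ)) :
    HenselianLocalRing A where
  is_henselian F hF a₀ h₀ h₁ := by
    let P : StandardEtalePair A := ⟨F, hF, derivative F, ⟨1, 0, 1, by simp⟩⟩
    let I : Ideal A := Ideal.map (algebraMap A A) (maximalIdeal A)
    have hIm : I = maximalIdeal A := Ideal.map_id _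
    have hmap : P.HasMap (Ideal.Quotient.mk I a₀) := by
      constructor
      · change aeval (Ideal.Quotient.mk I a₀) F = 0
        rw [← Ideal.Quotient.mkₐ_eq_mk A, Polynomial.aeval_algHom_apply, Ideal.Quotient.mkₐ_eq_mk,
          Ideal.Quotient.eq_zero_iff_mem, hIm]
        exact h₀
      · change IsUnit (aeval (Ideal.Quotient.mk I a₀) (derivative F))
        rw [← Ideal.Quotient.mkₐ_eq_mk A, Polynomial.aeval_algHom_apply, Ideal.Quotient.mkₐ_eq_mk]
        exact h₁.map _
    obtain ⟨φ, hφ⟩ := h P.Ring (P.lift _ hmap)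
    refine ⟨φ P.X, ?_, ?_⟩
    · have h1 : aeval (φ P.X) F = 0 := by
        rw [Polynomial.aeval_algHom_apply]
        have : aeval P.X F = 0 := P.hasMap_X.1
        rw [this, map_zero]
      exact h1
    · have h2 := congr($hφ P.X)
      simp only [AlgHom.comp_apply, Ideal.Quotient.mkₐ_eq_mk, StandardEtalePair.lift_X] at h2
      rw [← hIm]
      exact Ideal.Quotient.eq.mp h2

/-- Version of `bijective_comp_mk` for an arbitrary surjection with kernel in the radical. -/
theorem bijective_comp_of_surjective {R : Type u} [CommRing R] [HenselianLocalRing R]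
    (C : Type u) [CommRing C] [Algebra R C] [Module.Finite R C]
    (E : Type u) [CommRing E] [Algebra R E] [Algebra.Etale R E]
    {D : Type*} [CommRing D] [Algebra R D] (p : C →ₐ[R] D) (hp : Function.Surjective p)
    (hker : RingHom.ker (p : C →+* D) ≤ Ideal.jacobson ⊥) :
    Function.Bijective (fun φ : E →ₐ[R] C => p.comp φ) := by
  constructor
  · intro u v huv
    apply algHom_ext_of_sub_mem_jacobson u v _ hker
    intro b
    have := congr($huv b)
    simp only [AlgHom.comp_apply] at this
    rw [RingHom.mem_ker, map_sub, sub_eq_zero]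
    exact this
  · intro ψ
    let e := Ideal.quotientKerAlgEquivOfSurjective hp
    obtain ⟨φ, hφ⟩ := exists_algHom_lift_finite C E (RingHom.ker (p : C →+* D)) hker
      (e.symm.toAlgHom.comp ψ)
    refine ⟨φ, ?_⟩
    ext b
    have h1 := congr($hφ b)
    simp only [AlgHom.comp_apply, Ideal.Quotient.mkₐ_eq_mk] at h1
    have h2 := congr(e $h1)
    change e (Ideal.Quotient.mk _ (φ b)) = e (e.symm (ψ b)) at h2
    rw [AlgEquiv.apply_symm_apply] at h2
    rw [← h2]
    rfl

open TensorProduct in
/-- S0519: finite etale algebras over a henselian local ring and their closed fibres. -/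
theorem bijective_baseChange_residueField {R : Type u} [CommRing R] [HenselianLocalRing R]
    (S₁ S₂ : Type u) [CommRing S₁] [CommRing S₂] [Algebra R S₁] [Algebra R S₂]
    [Algebra.Etale R S₁] [Module.Finite R S₂] :
    Function.Bijective (fun φ : S₁ →ₐ[R] S₂ =>
      Algebra.TensorProduct.map (AlgHom.id (ResidueField R) (ResidueField R)) φ) := by
  let κ := ResidueField R
  let incl : S₂ →ₐ[R] κ ⊗[R] S₂ := Algebra.TensorProduct.includeRight
  have hincl : Function.Surjective incl := by
    intro z
    induction z using TensorProduct.induction_on with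
    | zero => exact ⟨0, map_zero _⟩
    | tmul x s =>
      obtain ⟨r, rfl⟩ := residue_surjective x
      refine ⟨r • s, ?_⟩
      change (1 : κ) ⊗ₜ[R] (r • s) = residue R r ⊗ₜ[R] s
      rw [TensorProduct.tmul_smul, TensorProduct.smul_tmul', Algebra.smul_def, mul_one]
      rfl
    | add x y hx hy =>
      obtain ⟨a, rfl⟩ := hx
      obtain ⟨b, rfl⟩ := hy
      exact ⟨a + b, map_add _ _ _⟩
  have hker : RingHom.ker (incl : S₂ →+* κ ⊗[R] S₂) ≤ Ideal.jacobson ⊥ := by
    refine le_trans ?_ (map_maximalIdeal_le_jacobson R S₂)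
    intro x hx
    rw [RingHom.mem_ker] at hx
    have h1 : (1 : R ⧸ maximalIdeal R) ⊗ₜ[R] x = 0 := hx
    have h2 := congr(TensorProduct.quotTensorEquivQuotSMul S₂ (maximalIdeal R) $h1)
    rw [TensorProduct.quotTensorEquivQuotSMul_mk_one_tmul, map_zero,
      Submodule.Quotient.mk_eq_zero, Ideal.smul_top_eq_map] at h2
    exact h2
  have hbij := bijective_comp_of_surjective S₂ S₁ incl hincl hker
  -- restriction map
  let Ψ : (κ ⊗[R] S₁ →ₐ[κ] κ ⊗[R] S₂) → (S₁ →ₐ[R] κ ⊗[R] S₂) := fun ψ =>
    (ψ.restrictScalars R).comp Algebra.TensorProduct.includeRight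
  have hΨinj : Function.Injective Ψ := by
    intro ψ ψ' h
    apply Algebra.TensorProduct.ext_ring
    exact h
  have hΨT : ∀ φ : S₁ →ₐ[R] S₂,
      Ψ (Algebra.TensorProduct.map (AlgHom.id κ κ) φ) = incl.comp φ := by
    intro φ
    ext s
    simp [Ψ, incl]
  constructor
  · intro φ φ' h
    apply hbij.1
    change incl.comp φ = incl.comp φ'
    rw [← hΨT, ← hΨT]
    exact congr(Ψ $h)
  · intro ψ
    obtain ⟨φ, hφ⟩ := hbij.2 (Ψ ψ)
    refine ⟨φ, ?_⟩
    apply hΨinj
    rw [hΨT]
    exact hφ

end Groth.Agent.Lib.FiniteEtaleHom
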