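import Groth.Agent.Lib.FiniteEtaleHom
import Groth.Agent.Lib.HenselQFLocalization61
import Groth.Prelude.Def_EssEt
import Mathlib

/-!
# Finite etale algebras over a henselian local ring are determined by a common residue quotient
(helper61)

* `henselianLocalRing_of_isAdicComplete`: a local ring complete for its maximal ideal is henselian.
* `nonempty_algEquiv_of_surjective`: over a henselian local ring `A`, two finite etale algebras
  `E₁`, `E₂` with surjections onto the same `A`-algebra `D` whose kernels lie in the Jacobson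
  radicals are isomorphic (compatibly with the surjections).
* `finite_etale_of_isEssentiallyEtale`: over a Noetherian henselian local ring, an essentially
  etale local algebra is finite and etale.
-/

set_option autoImplicit false
universe u

namespace Groth.Agent.Lib.FiniteEtaleLocalIso61

open IsLocalRing

/-- A local ring which is complete for its maximal ideal is henselian. -/
theorem henselianLocalRing_of_isAdicComplete (A : Type*) [CommRing A] [IsLocalRing A]
    [IsAdicComplete (maximalIdeal A) A] : HenselianLocalRing A where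
  is_henselian f hf a₀ h₁ h₂ :=
    (IsAdicComplete.henselianRing A (maximalIdeal A)).is_henselian f hf a₀ h₁ (h₂.map _)

open Groth.Agent.Lib.FiniteEtaleHom in
/-- Two finite etale algebras over a henselian local ring with surjections onto a common algebra
with kernels in the Jacobson radicals are isomorphic over the base, compatibly. -/
theorem exists_algEquiv_of_surjective {A : Type u} [CommRing A] [HenselianLocalRing A]
    (E₁ E₂ : Type u) [CommRing E₁] [CommRing E₂] [Algebra A E₁] [Algebra A E₂]
    [Module.Finite A E₁] [Module.Finite A E₂] [Algebra.Etale A E₁] [Algebra.Etale A E₂]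
    {D : Type*} [CommRing D] [Algebra A D] (p₁ : E₁ →ₐ[A] D) (p₂ : E₂ →ₐ[A] D)
    (h₁ : Function.Surjective p₁) (h₂ : Function.Surjective p₂)
    (k₁ : RingHom.ker (p₁ : E₁ →+* D) ≤ Ideal.jacobson ⊥)
    (k₂ : RingHom.ker (p₂ : E₂ →+* D) ≤ Ideal.jacobson ⊥) :
    ∃ e : E₁ ≃ₐ[A] E₂, p₂.comp e.toAlgHom = p₁ := by
  obtain ⟨φ, hφ⟩ := (bijective_comp_of_surjective E₂ E₁ p₂ h₂ k₂).2 p₁
  obtain ⟨ψ, hψ⟩ := (bijective_comp_of_surjective E₁ E₂ p₁ h₁ k₁).2 p₂
  have hφ' : p₂.comp φ = p₁ := hφ
  have hψ' : p₁.comp ψ = p₂ := hψ
  have h11 : ψ.comp φ = AlgHom.id A E₁ := by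
    apply (bijective_comp_of_surjective E₁ E₁ p₁ h₁ k₁).1
    change p₁.comp (ψ.comp φ) = p₁.comp (AlgHom.id A E₁)
    rw [← AlgHom.comp_assoc, hψ', hφ', AlgHom.comp_id]
  have h22 : φ.comp ψ = AlgHom.id A E₂ := by
    apply (bijective_comp_of_surjective E₂ E₂ p₂ h₂ k₂).1
    change p₂.comp (φ.comp ψ) = p₂.comp (AlgHom.id A E₂)
    rw [← AlgHom.comp_assoc, hφ', hψ', AlgHom.comp_id]
  refine ⟨AlgEquiv.ofAlgHom φ ψ h22 h11, ?_⟩
  ext x
  exact congr($hφ' x)

/-- Over a Noetherian henselian local ring, an essentially etale local algebra is module-finite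
and etale. -/
theorem finite_etale_of_isEssentiallyEtale (A E : Type u) [CommRing A] [HenselianLocalRing A]
    [IsNoetherianRing A] [CommRing E] [Algebra A E] (hE : EGA4loc.IsEssentiallyEtale A E) :
    Module.Finite A E ∧ Algebra.Etale A E := by
  obtain ⟨C, _, _, q, _, hC, hq, ⟨e⟩⟩ := hE
  have : q.LiesOver (maximalIdeal A) := ⟨hq.symm⟩
  have hqf : Algebra.QuasiFiniteAt A q := inferInstance
  have hfin : Module.Finite A (Localization.AtPrime q) :=
    Groth.Agent.Lib.HenselQFLocalization61.finite_localization_atPrime_of_quasiFiniteAt A C q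
  have hfe : Algebra.FormallyEtale A (Localization.AtPrime q) := inferInstance
  have hfp : Algebra.FinitePresentation A (Localization.AtPrime q) :=
    Algebra.FinitePresentation.of_finiteType.mp inferInstance
  have het : Algebra.Etale A (Localization.AtPrime q) := ⟨hfe, hfp⟩
  exact ⟨Module.Finite.equiv e.symm.toLinearEquiv, Algebra.Etale.of_equiv e.symm⟩

end Groth.Agent.Lib.FiniteEtaleLocalIso61
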