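import Mathlib.AlgebraicGeometry.Morphisms.Etale
import Mathlib.AlgebraicGeometry.Morphisms.FlatMono
import Mathlib.AlgebraicGeometry.Morphisms.Finite
import Mathlib.AlgebraicGeometry.Morphisms.ClosedImmersion
import Mathlib.AlgebraicGeometry.ResidueField
import Mathlib.RingTheory.Unramified.LocalRing
import Mathlib.Tactic.Algebraize

set_option autoImplicit false
open CategoryTheory AlgebraicGeometry
universe u

namespace Groth.Agent.Lib.FiniteOnePoint

open Localization

section Alg
variable {R S : Type*} [CommRing R] [CommRing S] [Algebra R S] {p : Ideal R} [p.IsPrime]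
  {q : Ideal S} [q.IsPrime]

/-- If `S` is a finite `R`-algebra, `q` is the only prime over `p` and `R_p → S_q` is surjective,
then `R → S` becomes surjective after inverting a single `r ∉ p`, in elementwise form. -/
theorem exists_notMem_forall_exists_eq_mul (hq : p.primesOver S = {q})
    [Module.Finite R S] [q.LiesOver p]
    (H : Function.Surjective (localRingHom p q (algebraMap R S) (q.over_def p))) :
    ∃ r ∉ p, ∀ x : S, ∃ a : R, algebraMap R S a = x * algebraMap R S r := by
  classical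
  have key (x : S) : ∃ a, ∃ b ∉ p, algebraMap R S a = x * algebraMap R S b := by
    have := (IsLocalization.mk'_surjective p.primeCompl).exists.mp (H (algebraMap _ _ x))
    simp only [localRingHom_mk', Prod.exists, Subtype.exists, Ideal.mem_primeCompl_iff,
      IsLocalization.mk'_eq_iff_eq_mul, exists_prop, ← map_mul,
      IsLocalization.eq_iff_exists q.primeCompl] at this
    obtain ⟨a, b, hbp, c, hcq, hc⟩ := this
    obtain ⟨d, hd, e, he⟩ := Ideal.exists_notMem_dvd_algebraMap_of_primesOver_eq_singleton hq _ hcq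
    exact ⟨d * a, d * b, ‹p.IsPrime›.mul_notMem hd hbp, by grind⟩
  choose a b hbp e using key
  obtain ⟨s, hs⟩ := Module.Finite.fg_top (R := R) (M := S)
  refine ⟨∏ i ∈ s, b i, prod_mem (S := p.primeCompl) fun _ _ ↦ hbp _, ?_⟩
  intro x
  have hx : x ∈ Submodule.span R (s : Set S) := hs ▸ Submodule.mem_top
  induction hx using Submodule.span_induction with
  | mem y hy =>
    refine ⟨(∏ i ∈ s.erase y, b i) * a y, ?_⟩
    rw [map_mul, e, ← Finset.prod_erase_mul s b hy, map_mul]
    ring
  | zero => exact ⟨0, by simp⟩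
  | add y z _ _ hy hz =>
    obtain ⟨ay, hay⟩ := hy
    obtain ⟨az, haz⟩ := hz
    exact ⟨ay + az, by rw [map_add, hay, haz, add_mul]⟩
  | smul c y _ hy =>
    obtain ⟨ay, hay⟩ := hy
    exact ⟨c * ay, by rw [map_mul, hay, Algebra.smul_def]; ring⟩

end Alg


section Res

open IsLocalRing

variable {A B : Type*} [CommRing A] [CommRing B] [IsLocalRing A] [IsLocalRing B]

/-- elementwise form of surjectivity on residue fields -/
def ResSurj (g : A →+* B) : Prop := ∀ b : B, ∃ a : A, g a - b ∈ maximalIdeal B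

theorem resSurj_of_surjective (g : A →+* B) [IsLocalHom g]
    (h : Function.Surjective (ResidueField.map g)) : ResSurj g := by
  intro b
  obtain ⟨a', ha'⟩ := h (residue B b)
  obtain ⟨a, rfl⟩ := residue_surjective a'
  refine ⟨a, ?_⟩
  rw [ResidueField.map_residue] at ha'
  rwa [← Ideal.Quotient.eq]

theorem surjective_of_resSurj (g : A →+* B) [IsLocalHom g] (h : ResSurj g) :
    Function.Surjective (ResidueField.map g) := by
  intro b'
  obtain ⟨b, rfl⟩ := residue_surjective b'
  obtain ⟨a, ha⟩ := h b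
  refine ⟨residue A a, ?_⟩
  rw [ResidueField.map_residue]
  exact Ideal.Quotient.eq.mpr ha

variable {A' B' : Type*} [CommRing A'] [CommRing B'] [IsLocalRing A'] [IsLocalRing B']

omit [IsLocalRing A] [IsLocalRing A'] in
theorem ResSurj.of_equiv {g : A →+* B} (h : ResSurj g) (g' : A' →+* B') (eA : A ≃+* A')
    (eB : B ≃+* B') (hc : ∀ a, g' (eA a) = eB (g a)) : ResSurj g' := by
  intro b'
  obtain ⟨a, ha⟩ := h (eB.symm b')
  refine ⟨eA a, ?_⟩
  rw [hc]
  have : eB (g a) - b' = eB (g a - eB.symm b') := by simp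
  rw [this]
  rw [mem_maximalIdeal, mem_nonunits_iff] at ha ⊢
  intro hu
  apply ha
  have := hu.map eB.symm
  simpa using this

end Res

section Scheme

open IsLocalRing

variable {X S : Scheme.{u}} (f : X ⟶ S)

/-- the point of the affine open `f⁻¹ V` attached to a prime of its ring of sections lying over
the prime of `f x` is `x`, if `x` is alone in its fibre -/
theorem primesOver_eq_singleton (x : X) (hx : f ⁻¹' {f x} = {x})
    {V : S.Opens} (hV : IsAffineOpen V) (hW : IsAffineOpen (f ⁻¹ᵁ V)) (hxV : f x ∈ V) :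
    letI := (f.appLE V (f ⁻¹ᵁ V) le_rfl).hom.toAlgebra
    (hV.primeIdealOf ⟨f x, hxV⟩).asIdeal.primesOver Γ(X, f ⁻¹ᵁ V) =
      {(hW.primeIdealOf ⟨x, hxV⟩).asIdeal} := by
  let := (f.appLE V (f ⁻¹ᵁ V) le_rfl).hom.toAlgebra
  have hqp : (hW.primeIdealOf ⟨x, hxV⟩).asIdeal.LiesOver (hV.primeIdealOf ⟨f x, hxV⟩).asIdeal :=
    ⟨congr($(IsAffineOpen.comap_primeIdealOf_appLE V hV _ hW le_rfl hxV).1).symm⟩
  ext Q
  simp only [Set.mem_singleton_iff]
  constructor
  · rintro ⟨hQ, hQp⟩
    let z : ↥(Spec Γ(X, f ⁻¹ᵁ V)) := (⟨Q, hQ⟩ : PrimeSpectrum Γ(X, f ⁻¹ᵁ V))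
    let y : X := hW.fromSpec z
    have h1 : f y = f x := by
      have h2 : hV.fromSpec (Spec.map (f.appLE V (f ⁻¹ᵁ V) le_rfl) z) = f (hW.fromSpec z) := by
        rw [← Scheme.Hom.comp_apply, ← Scheme.Hom.comp_apply,
          IsAffineOpen.SpecMap_appLE_fromSpec f hV hW le_rfl]
      rw [← h2]
      have h3 : Spec.map (f.appLE V (f ⁻¹ᵁ V) le_rfl) z = hV.primeIdealOf ⟨f x, hxV⟩ := by
        apply PrimeSpectrum.ext
        exact hQp.over.symm
      rw [h3, hV.fromSpec_primeIdealOf]
    have hy : y = x := by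
      have : y ∈ f ⁻¹' {f x} := h1
      rw [hx] at this
      exact this
    have h4 : z = hW.primeIdealOf ⟨x, hxV⟩ :=
      hW.fromSpec.isOpenEmbedding.injective (by rw [hW.fromSpec_primeIdealOf]; exact hy)
    exact congrArg PrimeSpectrum.asIdeal h4
  · rintro rfl
    exact ⟨inferInstance, hqp⟩

/-- the stalk map at `x` is surjective on residue fields in the elementwise form, transported to
the localizations of the rings of sections -/
theorem resSurj_localRingHom (x : X) (hκ : Function.Surjective (f.residueFieldMap x))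
    {V : S.Opens} (hV : IsAffineOpen V) (hW : IsAffineOpen (f ⁻¹ᵁ V)) (hxV : f x ∈ V) :
    ResSurj (Localization.localRingHom (hV.primeIdealOf ⟨f x, hxV⟩).asIdeal
      (hW.primeIdealOf ⟨x, hxV⟩).asIdeal (f.appLE V (f ⁻¹ᵁ V) le_rfl).hom
      congr($(IsAffineOpen.comap_primeIdealOf_appLE V hV _ hW le_rfl hxV).1).symm) := by
  have h1 : ResSurj (f.stalkMap x).hom := resSurj_of_surjective _ hκ
  let e := IsAffineOpen.arrowStalkMapIso f V hV _ hW le_rfl hxV
  refine h1.of_equiv _ (Arrow.leftFunc.mapIso e).commRingCatIsoToRingEquiv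
    (Arrow.rightFunc.mapIso e).commRingCatIsoToRingEquiv ?_
  intro a
  have := e.hom.w
  exact congr($this a)

/-- Key spreading-out statement: a finite unramified morphism with a single point `x` in the fibre
over `f x` and trivial residue field extension is surjective on sections over a basic open
neighbourhood of `f x` in any given affine open neighbourhood. -/
theorem exists_basicOpen_forall_exists_eq_mul [IsFinite f] [FormallyUnramified f] (x : X)
    (hx : f ⁻¹' {f x} = {x}) (hκ : Function.Surjective (f.residueFieldMap x))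
    {V : S.Opens} (hV : IsAffineOpen V) (hxV : f x ∈ V) :
    ∃ r : Γ(S, V), f x ∈ S.basicOpen r ∧
      ∀ b : Γ(X, f ⁻¹ᵁ V), ∃ a : Γ(S, V), (f.app V).hom a = b * (f.app V).hom r := by
  have hW : IsAffineOpen (f ⁻¹ᵁ V) := hV.preimage f
  have happ : f.app V = f.appLE V (f ⁻¹ᵁ V) le_rfl := f.app_eq_appLE
  have hfin : (f.appLE V (f ⁻¹ᵁ V) le_rfl).hom.Finite := happ ▸ f.finite_app V hV
  have hunr : (f.appLE V (f ⁻¹ᵁ V) le_rfl).hom.FormallyUnramified :=
    f.formallyUnramified_appLE hV hW le_rfl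
  algebraize [(f.appLE V (f ⁻¹ᵁ V) le_rfl).hom]
  let p := (hV.primeIdealOf ⟨f x, hxV⟩).asIdeal
  let q := (hW.primeIdealOf ⟨x, hxV⟩).asIdeal
  have hqp : q.LiesOver p :=
    ⟨congr($(IsAffineOpen.comap_primeIdealOf_appLE V hV _ hW le_rfl hxV).1).symm⟩
  have hq : p.primesOver Γ(X, f ⁻¹ᵁ V) = {q} := primesOver_eq_singleton f x hx hV hW hxV
  let := Localization.AtPrime.algebraOfLiesOver p q
  have H' : Function.Surjective (algebraMap p.ResidueField q.ResidueField) :=
    surjective_of_resSurj _ (resSurj_localRingHom f x hκ hV hW hxV)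
  have H := Localization.localRingHom_surjective_of_primesOver_eq_singleton hq H'
  obtain ⟨r, hr, h⟩ := exists_notMem_forall_exists_eq_mul hq H
  refine ⟨r, ?_, ?_⟩
  · have hr' : hV.primeIdealOf ⟨f x, hxV⟩ ∈ PrimeSpectrum.basicOpen r := hr
    rw [← hV.fromSpec_preimage_basicOpen] at hr'
    have hr'' : hV.fromSpec (hV.primeIdealOf ⟨f x, hxV⟩) ∈ S.basicOpen r := hr'
    rwa [hV.fromSpec_primeIdealOf] at hr''
  · intro b
    obtain ⟨a, ha⟩ := h b
    exact ⟨a, by rw [happ]; exact ha⟩

theorem app_basicOpen_surjective {V : S.Opens} (hV : IsAffineOpen V)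
    (hW : IsAffineOpen (f ⁻¹ᵁ V)) (r : Γ(S, V))
    (h : ∀ b : Γ(X, f ⁻¹ᵁ V), ∃ a : Γ(S, V), (f.app V).hom a = b * (f.app V).hom r) :
    Function.Surjective (f.app (S.basicOpen r)).hom := by
  rw [IsAffineOpen.app_basicOpen_eq_away_map f hV hW r]
  have i1 := hV.isLocalization_basicOpen r
  have i2 := hW.isLocalization_basicOpen (f.app V r)
  rw [CommRingCat.hom_comp, RingHom.coe_comp]
  refine Function.Surjective.comp (ConcreteCategory.bijective_of_isIso _).surjective ?_
  intro y
  obtain ⟨n, b, hb⟩ := IsLocalization.Away.surj (f.app V r) y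
  obtain ⟨a, ha⟩ := h b
  refine ⟨IsLocalization.mk' _ a (⟨r ^ (n + 1), n + 1, rfl⟩ : Submonoid.powers r), ?_⟩
  rw [CommRingCat.hom_ofHom, IsLocalization.Away.map, IsLocalization.map_mk',
    IsLocalization.mk'_eq_iff_eq_mul]
  change algebraMap _ _ ((f.app V).hom a) = y * algebraMap _ _ ((f.app V).hom (r ^ (n + 1)))
  rw [ha, map_pow, map_pow, pow_succ, ← mul_assoc, hb, map_mul]

theorem surjective_app_of_eq {U U' : S.Opens} (e : U' = U)
    (h : Function.Surjective (f.app U).hom) : Function.Surjective (f.app U').hom := by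
  subst e; exact h

/-- **Finite unramified with one-point fibre and trivial residue extension is a closed immersion
near the point.** -/
theorem exists_isClosedImmersion_morphismRestrict [IsFinite f] [FormallyUnramified f] (x : X)
    (hx : f ⁻¹' {f x} = {x}) (hκ : Function.Surjective (f.residueFieldMap x)) :
    ∃ U : S.Opens, IsAffineOpen U ∧ f x ∈ U ∧ IsClosedImmersion (f ∣_ U) := by
  obtain ⟨_, ⟨V, hV, rfl⟩, hxV, -⟩ :=
    S.isBasis_affineOpens.exists_subset_of_mem_open (Set.mem_univ (f x)) isOpen_univ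
  obtain ⟨r, hr, h⟩ := exists_basicOpen_forall_exists_eq_mul f x hx hκ hV hxV
  have hsurj := app_basicOpen_surjective f hV (hV.preimage f) r h
  have hU : IsAffineOpen (S.basicOpen r) := hV.basicOpen r
  refine ⟨S.basicOpen r, hU, hr, ?_⟩
  have : IsAffine (S.basicOpen r).toScheme := hU
  rw [HasAffineProperty.iff_of_isAffine (P := @IsClosedImmersion)]
  refine ⟨hU.preimage f, ?_⟩
  rw [morphismRestrict_appTop]
  refine fun y => ?_
  obtain ⟨y', hy'⟩ := (ConcreteCategory.bijective_of_isIso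
    (X.presheaf.map (eqToHom (image_morphismRestrict_preimage f (S.basicOpen r) ⊤)).op)).surjective y
  obtain ⟨z, hz⟩ := surjective_app_of_eq f (U' := (S.basicOpen r).ι ''ᵁ ⊤) (by simp) hsurj y'
  refine ⟨z, ?_⟩
  rw [← hy', ← hz]
  rfl

/-- **Finite étale with one-point fibre and trivial residue extension is an isomorphism near the
point.** -/
theorem exists_isIso_morphismRestrict [IsFinite f] [Etale f] (x : X)
    (hx : f ⁻¹' {f x} = {x}) (hκ : Function.Surjective (f.residueFieldMap x)) :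
    ∃ U : S.Opens, f x ∈ U ∧ IsIso (f ∣_ U) := by
  obtain ⟨U₀, -, hxU₀, hcl⟩ := exists_isClosedImmersion_morphismRestrict f x hx hκ
  have hop : IsOpenImmersion (f ∣_ U₀) := IsOpenImmersion.of_flat_of_mono (f ∣_ U₀)
  let U₁ : U₀.toScheme.Opens := (f ∣_ U₀).opensRange
  have hiso : IsIso (f ∣_ U₀ ∣_ U₁) := by
    apply isIso_of_isOpenImmersion_of_opensRange_eq_top
    rw [eq_top_iff]
    rintro ⟨y, ⟨z, hz⟩⟩ -
    refine ⟨⟨z, ⟨z, rfl⟩⟩, ?_⟩
    apply Subtype.ext
    rw [morphismRestrict_base_coe]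
    exact hz
  refine ⟨U₀.ι ''ᵁ U₁, ?_, ?_⟩
  · refine ⟨⟨f x, hxU₀⟩, ?_, rfl⟩
    exact ⟨⟨x, hxU₀⟩, Subtype.ext (morphismRestrict_base_coe f U₀ ⟨x, hxU₀⟩)⟩
  · exact ((MorphismProperty.isomorphisms Scheme).arrow_mk_iso_iff
      (morphismRestrictRestrict f U₀ U₁)).mp hiso

end Scheme

end Groth.Agent.Lib.FiniteOnePoint
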