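import Mathlib.LinearAlgebra.SymmetricAlgebra.Basic
import Mathlib.RingTheory.GradedAlgebra.Basic
import Groth.Agent.Lib.SymQCAlg
import Groth.Prelude.Def_RelProj2

/-!
# The graded symmetric algebra of a quasi-coherent module as a `RelProj.QCGrAlg` (helper60)

* `gradedAlgebra R M`: the grading of `SymmetricAlgebra R M` by the powers of `range ι` (Mathlib has none).
* `comapGr e ℬ`, `gradedRingComap`: transport of a `GradedRing` along a ring isomorphism (gradings by additive subgroups).
* `symMap_mem`: the map of symmetric algebras induced by a semilinear map preserves degrees.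
* `grSymAlg E : RelProj.QCGrAlg S` (underlying algebra helper28's `SymQCAlg.symAlg E`), `isGrSymAlg E`.
-/

set_option autoImplicit false
universe u
open CategoryTheory CategoryTheory.Limits AlgebraicGeometry TopologicalSpace Opposite
open scoped DirectSum

namespace Groth.Agent.Lib.H60GrSym

section Grading

variable (R M : Type*) [CommRing R] [AddCommGroup M] [Module R M]

/-- The degree-`d` part of the symmetric algebra: the `d`-th power of the range of `ι`. -/
noncomputable def gr (d : ℕ) : Submodule R (SymmetricAlgebra R M) :=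
  LinearMap.range (SymmetricAlgebra.ι R M) ^ d

/-- A version of `SymmetricAlgebra.ι` that maps directly into the graded structure. -/
noncomputable def grι : M →ₗ[R] ⨁ i : ℕ, ↥(LinearMap.range (SymmetricAlgebra.ι R M) ^ i) :=
  DirectSum.lof R ℕ (fun i => ↥(LinearMap.range (SymmetricAlgebra.ι R M) ^ i)) 1 ∘ₗ
    (SymmetricAlgebra.ι R M).codRestrict _ fun m => by
      simpa only [pow_one] using LinearMap.mem_range_self _ m

theorem grι_apply (m : M) :
    grι R M m =
      DirectSum.of (fun (i : ℕ) => ↥(LinearMap.range (SymmetricAlgebra.ι R M) ^ i)) 1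
        ⟨SymmetricAlgebra.ι R M m, by simpa only [pow_one] using LinearMap.mem_range_self _ m⟩ :=
  rfl

noncomputable instance gradedAlgebra :
    GradedAlgebra ((LinearMap.range (SymmetricAlgebra.ι R M) ^ ·) : ℕ → Submodule R _) :=
  GradedAlgebra.ofAlgHom _ (SymmetricAlgebra.lift <| grι R M)
    (by
      apply SymmetricAlgebra.algHom_ext
      ext m
      change (DirectSum.coeAlgHom fun x => LinearMap.range (SymmetricAlgebra.ι R M) ^ x)
        (SymmetricAlgebra.lift (grι R M) (SymmetricAlgebra.ι R M m)) = SymmetricAlgebra.ι R M m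
      rw [SymmetricAlgebra.lift_ι_apply, grι_apply R M, DirectSum.coeAlgHom_of, Subtype.coe_mk])
    fun i x => by
    obtain ⟨x, hx⟩ := x
    dsimp only [Subtype.coe_mk, DirectSum.lof_eq_of]
    induction hx using Submodule.pow_induction_on_left' with
    | algebraMap r =>
      rw [AlgHom.commutes, DirectSum.algebraMap_apply]; rfl
    | add x y i hx hy ihx ihy =>
      rw [map_add, ihx, ihy, ← map_add]
      rfl
    | mem_mul m hm i x hx ih =>
      obtain ⟨_, rfl⟩ := hm
      rw [map_mul, ih, SymmetricAlgebra.lift_ι_apply, grι_apply R M, DirectSum.of_mul_of]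
      exact DirectSum.of_eq_of_gradedMonoid_eq (Sigma.subtype_ext (add_comm _ _) rfl)

end Grading

section Transport

variable {A B σ : Type*} [CommRing A] [CommRing B] [SetLike σ B] [AddSubgroupClass σ B]
  (e : A ≃+* B) (ℬ : ℕ → σ) [GradedRing ℬ]

/-- the grading transported along a ring isomorphism -/
def comapGr (d : ℕ) : AddSubgroup A where
  carrier := {a | e a ∈ ℬ d}
  zero_mem' := by
    change e 0 ∈ ℬ d
    rw [map_zero]; exact zero_mem _
  add_mem' := fun {a b} ha hb => by
    change e (a + b) ∈ ℬ d
    rw [map_add]; exact add_mem ha hb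
  neg_mem' := fun {a} ha => by
    change e (-a) ∈ ℬ d
    rw [map_neg]; exact neg_mem ha

omit [GradedRing ℬ] in
theorem mem_comapGr {d : ℕ} {a : A} : a ∈ comapGr e ℬ d ↔ e a ∈ ℬ d := Iff.rfl

instance : SetLike.GradedMonoid (comapGr e ℬ) where
  one_mem := by
    rw [mem_comapGr, map_one]
    exact SetLike.GradedOne.one_mem
  mul_mem := fun i j a b ha hb => by
    rw [mem_comapGr, map_mul]
    exact SetLike.mul_mem_graded ha hb

/-- the piecewise additive maps -/
def pieceInv (i : ℕ) : ℬ i →+ comapGr e ℬ i where
  toFun b := ⟨e.symm (b : B), by rw [mem_comapGr, RingEquiv.apply_symm_apply]; exact b.2⟩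
  map_zero' := Subtype.ext (map_zero e.symm)
  map_add' x y := Subtype.ext (map_add e.symm (x : B) (y : B))

theorem coe_map_pieceInv (x : ⨁ i, ℬ i) :
    DirectSum.coeAddMonoidHom (comapGr e ℬ) (DirectSum.map (pieceInv e ℬ) x) =
      e.symm (DirectSum.coeAddMonoidHom ℬ x) := by
  induction x using DirectSum.induction_on with
  | zero => simp
  | of i b =>
    rw [DirectSum.map_of, DirectSum.coeAddMonoidHom_of, DirectSum.coeAddMonoidHom_of]
    rfl
  | add x y hx hy => rw [map_add, map_add, map_add, map_add, hx, hy]

noncomputable instance : DirectSum.Decomposition (comapGr e ℬ) where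
  decompose' a := DirectSum.map (pieceInv e ℬ) (DirectSum.decompose ℬ (e a))
  left_inv a := by
    change DirectSum.coeAddMonoidHom (comapGr e ℬ) _ = a
    rw [coe_map_pieceInv]
    have : DirectSum.coeAddMonoidHom ℬ (DirectSum.decompose ℬ (e a)) = e a :=
      (DirectSum.decompose ℬ).left_inv (e a)
    rw [this, RingEquiv.symm_apply_apply]
  right_inv x := by
    induction x using DirectSum.induction_on with
    | zero =>
      change DirectSum.map (pieceInv e ℬ) (DirectSum.decompose ℬ (e (DirectSum.coeAddMonoidHom _ 0))) = 0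
      simp
    | of i a =>
      change DirectSum.map (pieceInv e ℬ)
        (DirectSum.decompose ℬ (e (DirectSum.coeAddMonoidHom _ (DirectSum.of _ i a)))) = _
      rw [DirectSum.coeAddMonoidHom_of, DirectSum.decompose_of_mem ℬ (show e a.1 ∈ ℬ i from a.2),
        DirectSum.map_of]
      congr 1
      exact Subtype.ext (e.symm_apply_apply a.1)
    | add x y hx hy =>
      change DirectSum.map (pieceInv e ℬ)
        (DirectSum.decompose ℬ (e (DirectSum.coeAddMonoidHom _ (x + y)))) = _
      change DirectSum.map (pieceInv e ℬ)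
        (DirectSum.decompose ℬ (e (DirectSum.coeAddMonoidHom _ x))) = _ at hx
      change DirectSum.map (pieceInv e ℬ)
        (DirectSum.decompose ℬ (e (DirectSum.coeAddMonoidHom _ y))) = _ at hy
      rw [map_add, map_add, DirectSum.decompose_add, map_add, hx, hy]

noncomputable instance gradedRingComap : GradedRing (comapGr e ℬ) where

end Transport

section SymMap

open Groth.Agent.Lib.SymAlgLoc

variable {R R' M M' : Type*} [CommRing R] [CommRing R'] [AddCommGroup M] [AddCommGroup M'] [Module R M]
  [Module R' M'] {ρ : R →+* R'}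

theorem symMap_mem (g : M →ₛₗ[ρ] M') {d : ℕ} {x : SymmetricAlgebra R M}
    (hx : x ∈ LinearMap.range (SymmetricAlgebra.ι R M) ^ d) :
    symMap g x ∈ LinearMap.range (SymmetricAlgebra.ι R' M') ^ d := by
  induction hx using Submodule.pow_induction_on_left' with
  | algebraMap r =>
    rw [symMap_algebraMap, pow_zero]
    exact Submodule.algebraMap_mem _
  | add x y i hx hy ihx ihy =>
    rw [map_add]
    exact add_mem ihx ihy
  | mem_mul m hm i x hx ih =>
    obtain ⟨m₀, rfl⟩ := hm
    rw [map_mul, symMap_ι, pow_succ']
    exact Submodule.mul_mem_mul (LinearMap.mem_range_self _ _) ih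

end SymMap

noncomputable section QCGr

open Groth.Agent.Lib.SymAlgLoc Groth.Agent.Lib.SymQCAlg Groth.Agent.Lib.QCohStalk

variable {S : Scheme.{u}} (E : S.Modules) [E.IsQuasicoherent]

/-- the ring isomorphism `Sym(E)(U) ≃+* Sym_{O(U)} E(U)` over an affine open -/
def symEquiv (U : S.Opens) (hU : IsAffineOpen U) :
    (symAlg E).presheaf.obj (op U) ≃+* SymmetricAlgebra Γ(S, U) Γ(E, U) :=
  (symIso E U hU).commRingCatIsoToRingEquiv

theorem symEquiv_apply (U : S.Opens) (hU : IsAffineOpen U) (x : (symAlg E).presheaf.obj (op U)) :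
    symEquiv E U hU x = (symIso E U hU).hom x := rfl

/-- the degree-`d` part of `Sym(E)(U)` -/
def degSym (U : S.Opens) (hU : IsAffineOpen U) (d : ℕ) : AddSubgroup ((symAlg E).presheaf.obj (op U)) :=
  comapGr (symEquiv E U hU)
    (fun d => LinearMap.range (SymmetricAlgebra.ι Γ(S, U) Γ(E, U)) ^ d) d

theorem mem_degSym (U : S.Opens) (hU : IsAffineOpen U) (d : ℕ) (x : (symAlg E).presheaf.obj (op U)) :
    x ∈ degSym E U hU d ↔
      (symIso E U hU).hom x ∈ LinearMap.range (SymmetricAlgebra.ι Γ(S, U) Γ(E, U)) ^ d := Iff.rfl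

/-- compatibility of `symIso` with restriction between arbitrary affine opens -/
theorem symIso_hom_res {U V : S.Opens} (hU : IsAffineOpen U) (hV : IsAffineOpen V) (i : V ≤ U)
    (x : (symAlg E).presheaf.obj (op U)) :
    (symIso E V hV).hom (((symAlg E).presheaf.map (homOfLE i).op).hom x) =
      symMap (resSL E i) ((symIso E U hU).hom x) := by
  let φ : SymmetricAlgebra Γ(S, U) Γ(E, U) →+* SymmetricAlgebra Γ(S, V) Γ(E, V) :=
    ((symIso E V hV).hom.hom.comp ((symAlg E).presheaf.map (homOfLE i).op).hom).comp (symIso E U hU).inv.hom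
  have hφ : φ = symMap (resSL E i) := by
    refine ringHom_ext (fun a => ?_) (fun m => ?_)
    · change (symIso E V hV).hom (((symAlg E).presheaf.map (homOfLE i).op).hom
        ((symIso E U hU).inv (algebraMap _ _ a))) = _
      rw [symIso_inv_algebraMap, symMap_algebraMap]
      have hnat : ((symAlg E).presheaf.map (homOfLE i).op).hom ((symAlg E).str.app (op U) a) =
          (symAlg E).str.app (op V) (S.presheaf.map (homOfLE i).op a) :=
        (congr($((symAlg E).str.naturality (homOfLE i).op) a)).symm
      rw [hnat, symIso_hom_str]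
    · change (symIso E V hV).hom (((symAlg E).presheaf.map (homOfLE i).op).hom
        ((symIso E U hU).inv (SymmetricAlgebra.ι _ _ m))) = _
      rw [symMap_ι]
      have h1 : (symIso E U hU).inv (SymmetricAlgebra.ι Γ(S, U) Γ(E, U) m) =
          (show (symAlg E).presheaf.obj (op U) from (j E).app U m) := by
        rw [j_app E U hU, jAff_apply]
      have h2 : ((symAlg E).presheaf.map (homOfLE i).op).hom
          (show (symAlg E).presheaf.obj (op U) from (j E).app U m) =
          (show (symAlg E).presheaf.obj (op V) from (j E).app V (res E i m)) :=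
        Groth.Agent.Lib.SymQCAlg.app_res E (symAlg E) (j E) U V i m
      rw [h1, h2, j_app E V hV, jAff_apply]
      exact congr($((symIso E V hV).inv_hom_id) _)
  have := congrArg (fun f => f ((symIso E U hU).hom x)) hφ
  simp only at this
  rw [← this]
  change _ = (symIso E V hV).hom (((symAlg E).presheaf.map (homOfLE i).op).hom
    ((symIso E U hU).inv ((symIso E U hU).hom x)))
  have h3 : (symIso E U hU).inv ((symIso E U hU).hom x) = x := congr($((symIso E U hU).hom_inv_id) x)
  rw [h3]

/-- The graded symmetric algebra of a quasi-coherent module. -/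
def grSymAlg : RelProj.QCGrAlg S where
  toQCAlg := symAlg E
  deg := degSym E
  graded U hU := gradedRingComap (symEquiv E U hU)
    (fun d => LinearMap.range (SymmetricAlgebra.ι Γ(S, U) Γ(E, U)) ^ d)
  map_mem := by
    intro U V hU hV i d x hx
    rw [mem_degSym] at hx ⊢
    rw [symIso_hom_res E hU hV i]
    exact symMap_mem _ hx
  str_mem := by
    intro U hU r
    rw [mem_degSym, symIso_hom_str, pow_zero]
    exact Submodule.algebraMap_mem _

theorem isGrSymAlg : RelProj.IsGrSymAlg E (grSymAlg E) (j E) := by
  refine ⟨isSymAlg E, fun U hU x => ?_⟩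
  change (show (symAlg E).presheaf.obj (op U) from (j E).app U x) ∈ degSym E U hU 1
  rw [j_app E U hU, mem_degSym, jAff_apply]
  have : (symIso E U hU).hom ((symIso E U hU).inv (SymmetricAlgebra.ι Γ(S, U) Γ(E, U) x)) =
      SymmetricAlgebra.ι Γ(S, U) Γ(E, U) x := congr($((symIso E U hU).inv_hom_id) _)
  rw [this, pow_one]
  exact LinearMap.mem_range_self _ _

end QCGr

end Groth.Agent.Lib.H60GrSym
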