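import Mathlib.AlgebraicGeometry.ProjectiveSpectrum.Basic
import Mathlib.Algebra.Polynomial.Eval.Coeff
import Mathlib.Algebra.Polynomial.AlgebraMap

/-!
# `Proj R[t] = Spec R` (helper28)

For a graded ring `𝒜` on `A`, a ring map `f : R → A` landing in degree `0` and `t ∈ 𝒜 1` such that `R[X] → A`,
`X ↦ t` is bijective, the structure morphism `Proj 𝒜 → Spec 𝒜₀ → Spec R` is an isomorphism
(`isIso_toSpecZero_comp`).
-/

set_option autoImplicit false
universe u

open CategoryTheory AlgebraicGeometry HomogeneousLocalization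
open scoped HomogeneousIdeal

namespace Groth.Agent.Lib.ProjPolyOne

variable {A : Type u} [CommRing A] (𝒜 : ℕ → AddSubgroup A) [GradedRing 𝒜]
variable {R : Type u} [CommRing R] (f : R →+* A) (hf : ∀ r, f r ∈ 𝒜 0) (t : A) (ht : t ∈ 𝒜 1)
  (hbij : Function.Bijective (Polynomial.eval₂RingHom f t))

include hf ht in
lemma term_mem (r : R) (j : ℕ) : f r * t ^ j ∈ 𝒜 j := by
  have h2 : t ^ j ∈ 𝒜 (j • 1) := SetLike.pow_mem_graded j ht
  have h3 := SetLike.mul_mem_graded (hf r) h2
  simpa using h3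

include hf ht hbij in
/-- A homogeneous element of degree `i` is `f r * t ^ i`. -/
lemma exists_eq_of_mem {i : ℕ} (b : A) (hb : b ∈ 𝒜 i) : ∃ r : R, b = f r * t ^ i := by
  obtain ⟨p, rfl⟩ := hbij.2 b
  refine ⟨p.coeff i, ?_⟩
  have hb' : (DirectSum.decompose 𝒜 (Polynomial.eval₂RingHom f t p) i : A) =
      Polynomial.eval₂RingHom f t p := DirectSum.decompose_of_mem_same _ hb
  rw [← hb', ← GradedRing.proj_apply, Polynomial.coe_eval₂RingHom, Polynomial.eval₂_eq_sum_range, map_sum]
  rw [Finset.sum_eq_single i]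
  · rw [GradedRing.proj_apply, DirectSum.decompose_of_mem_same _ (term_mem 𝒜 f hf t ht _ _)]
  · intro j _ hj
    rw [GradedRing.proj_apply, DirectSum.decompose_of_mem_ne _ (term_mem 𝒜 f hf t ht _ _) hj]
  · intro hi
    have : p.coeff i = 0 := by
      apply Polynomial.coeff_eq_zero_of_natDegree_lt
      simpa using hi
    rw [this, map_zero, zero_mul, map_zero]

include hf ht hbij in
lemma t_notMem (x : Proj 𝒜) : t ∉ x.asHomogeneousIdeal := by
  intro hz
  apply x.not_irrelevant_le
  rw [HomogeneousIdeal.irrelevant_le]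
  intro i hi b hb
  obtain ⟨r, rfl⟩ := exists_eq_of_mem 𝒜 f hf t ht hbij b hb
  exact Ideal.mul_mem_left _ _ (Ideal.pow_mem_of_mem _ hz i hi)

include hf ht hbij in
lemma basicOpen_eq_top : Proj.basicOpen 𝒜 t = ⊤ := by
  ext x
  simp only [SetLike.mem_coe, Proj.mem_basicOpen, TopologicalSpace.Opens.coe_top, Set.mem_univ, iff_true]
  exact t_notMem 𝒜 f hf t ht hbij x

include hf ht hbij in
lemma isIso_awayι : IsIso (Proj.awayι 𝒜 t ht one_pos) := by
  apply isIso_of_isOpenImmersion_of_opensRange_eq_top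
  rw [Proj.opensRange_awayι]
  exact basicOpen_eq_top 𝒜 f hf t ht hbij

include hbij in
lemma t_pow_mul_eq_zero (k : ℕ) (r : R) (h : t ^ k * f r = 0) : r = 0 := by
  have h1 : Polynomial.eval₂RingHom f t (Polynomial.X ^ k * Polynomial.C r) = 0 := by
    rw [Polynomial.coe_eval₂RingHom, Polynomial.eval₂_mul, Polynomial.eval₂_pow, Polynomial.eval₂_X,
      Polynomial.eval₂_C]
    exact h
  have h2 : (Polynomial.X ^ k * Polynomial.C r : Polynomial R) = 0 := by
    apply hbij.1
    rw [h1, map_zero]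
  have h3 := congrArg (fun p => Polynomial.coeff p k) h2
  simpa using h3

variable (g : R →+* 𝒜 0) (hg : ∀ r, (g r : A) = f r)

include hf ht hbij hg in
lemma bijective_fromZero_comp :
    Function.Bijective ((fromZeroRingHom 𝒜 (Submonoid.powers t)).comp g) := by
  constructor
  · rw [injective_iff_map_eq_zero]
    intro r hr
    have h1 : (fromZeroRingHom 𝒜 (Submonoid.powers t) (g r)).val = 0 := by
      change ((fromZeroRingHom 𝒜 (Submonoid.powers t)).comp g r).val = 0
      rw [hr, val_zero]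
    have h2 : (fromZeroRingHom 𝒜 (Submonoid.powers t) (g r)).val =
        Localization.mk (g r : A) 1 := rfl
    rw [h2, hg, Localization.mk_eq_mk', IsLocalization.mk'_eq_zero_iff] at h1
    obtain ⟨⟨_, k, rfl⟩, hk⟩ := h1
    exact t_pow_mul_eq_zero f t hbij k r hk
  · intro q
    obtain ⟨n, a, ha, rfl⟩ := Away.mk_surjective 𝒜 ht q
    obtain ⟨r, rfl⟩ := exists_eq_of_mem 𝒜 f hf t ht hbij a ha
    refine ⟨r, ?_⟩
    apply val_injective
    rw [Away.val_mk]
    change Localization.mk (g r : A) 1 = _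
    rw [hg, Localization.mk_eq_mk_iff, Localization.r_iff_exists]
    refine ⟨1, ?_⟩
    simp only [OneMemClass.coe_one, one_mul, smul_eq_mul, mul_one]
    ring

include hf ht hbij hg in
/-- `Proj R[t] → Spec R` is an isomorphism. -/
theorem isIso_toSpecZero_comp :
    IsIso (Proj.toSpecZero 𝒜 ≫ Spec.map (CommRingCat.ofHom g)) := by
  haveI := isIso_awayι 𝒜 f hf t ht hbij
  have h1 : Proj.awayι 𝒜 t ht one_pos ≫ Proj.toSpecZero 𝒜 ≫ Spec.map (CommRingCat.ofHom g) =
      Spec.map (CommRingCat.ofHom ((fromZeroRingHom 𝒜 (Submonoid.powers t)).comp g)) := by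
    rw [Proj.awayι_toSpecZero_assoc, ← Spec.map_comp]
    rfl
  have h2 : IsIso (CommRingCat.ofHom ((fromZeroRingHom 𝒜 (Submonoid.powers t)).comp g)) := by
    rw [ConcreteCategory.isIso_iff_bijective]
    exact bijective_fromZero_comp 𝒜 f hf t ht hbij g hg
  have h3 : IsIso (Proj.awayι 𝒜 t ht one_pos ≫ Proj.toSpecZero 𝒜 ≫ Spec.map (CommRingCat.ofHom g)) := by
    rw [h1]; infer_instance
  exact IsIso.of_isIso_comp_left (Proj.awayι 𝒜 t ht one_pos) _

end Groth.Agent.Lib.ProjPolyOne
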