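import Mathlib.LinearAlgebra.SymmetricAlgebra.Basic
import Mathlib.Algebra.Polynomial.AlgebraMap
import Mathlib.Algebra.Polynomial.Eval.Coeff

/-!
# The symmetric algebra of a free module of rank one is a polynomial ring (helper28)

`bijective_eval₂_ι`: if `a ↦ a • s : R → M` is bijective, then `R[X] → Sym_R(M)`, `X ↦ ι s` is bijective.
`bijective_eval₂_of_ringEquiv`: transported along a ring isomorphism `A ≃+* Sym_R(M)`.
-/

set_option autoImplicit false

namespace Groth.Agent.Lib.SymFreeRankOne

open Polynomial

variable {R M : Type*} [CommRing R] [AddCommGroup M] [Module R M]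

/-- The linear map `M → R[X]`, `a • s ↦ a • X`, for a free generator `s`. -/
noncomputable def toPoly (s : M) (hs : Function.Bijective (fun a : R => a • s)) : M →ₗ[R] R[X] :=
  (LinearMap.toSpanSingleton R R[X] X).comp
    (LinearEquiv.ofBijective (LinearMap.toSpanSingleton R M s) hs).symm.toLinearMap

theorem toPoly_self (s : M) (hs : Function.Bijective (fun a : R => a • s)) : toPoly s hs s = X := by
  unfold toPoly
  have h : (LinearEquiv.ofBijective (LinearMap.toSpanSingleton R M s) hs).symm s = 1 := by
    rw [LinearEquiv.symm_apply_eq]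
    simp
  simp [h]

theorem bijective_eval₂_ι (s : M) (hs : Function.Bijective (fun a : R => a • s)) :
    Function.Bijective (Polynomial.eval₂RingHom (algebraMap R (SymmetricAlgebra R M))
      (SymmetricAlgebra.ι R M s)) := by
  let F : R[X] →ₐ[R] SymmetricAlgebra R M := Polynomial.aeval (SymmetricAlgebra.ι R M s)
  let G : SymmetricAlgebra R M →ₐ[R] R[X] := SymmetricAlgebra.lift (toPoly s hs)
  have hGF : G.comp F = AlgHom.id R R[X] := by
    apply Polynomial.algHom_ext
    simp [F, G, toPoly_self]
  have hFG : F.comp G = AlgHom.id R (SymmetricAlgebra R M) := by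
    apply SymmetricAlgebra.algHom_ext
    apply LinearMap.ext
    intro m
    obtain ⟨a, rfl⟩ := hs.2 m
    simp [F, G, toPoly_self]
  have hF : Function.Bijective F := by
    refine ⟨fun p q h => ?_, fun y => ⟨G y, congr($hFG y)⟩⟩
    have := congrArg G h
    rwa [← AlgHom.comp_apply, ← AlgHom.comp_apply, hGF] at this
  have hE : ⇑(Polynomial.eval₂RingHom (algebraMap R (SymmetricAlgebra R M)) (SymmetricAlgebra.ι R M s)) = ⇑F := by
    funext p
    rfl
  rw [hE]
  exact hF

/-- Transport along a ring isomorphism `e : A ≃+* Sym_R(M)` with `e ∘ f = algebraMap`, `e t = ι s`. -/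
theorem bijective_eval₂_of_ringEquiv {A : Type*} [CommRing A] (e : A ≃+* SymmetricAlgebra R M)
    (f : R →+* A) (hf : ∀ a, e (f a) = algebraMap R (SymmetricAlgebra R M) a) (t : A) (s : M)
    (ht : e t = SymmetricAlgebra.ι R M s) (hs : Function.Bijective (fun a : R => a • s)) :
    Function.Bijective (Polynomial.eval₂RingHom f t) := by
  have h := bijective_eval₂_ι s hs
  have hcomp : (e.symm.toRingHom.comp (Polynomial.eval₂RingHom (algebraMap R (SymmetricAlgebra R M))
      (SymmetricAlgebra.ι R M s))) = Polynomial.eval₂RingHom f t := by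
    apply Polynomial.ringHom_ext
    · intro a
      simp only [RingHom.coe_comp, Function.comp_apply, Polynomial.coe_eval₂RingHom, Polynomial.eval₂_C]
      change e.symm _ = _
      rw [← hf a, e.symm_apply_apply]
    · simp only [RingHom.coe_comp, Function.comp_apply, Polynomial.coe_eval₂RingHom, Polynomial.eval₂_X]
      change e.symm _ = _
      rw [← ht, e.symm_apply_apply]
  rw [← hcomp]
  exact e.symm.bijective.comp h

end Groth.Agent.Lib.SymFreeRankOne
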