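import Groth.Agent.Lib.QCGrAlgPush
import Groth.Agent.Lib.H60GrSym
import Groth.Agent.Lib.H60LineSym
import Groth.Agent.Lib.RelProjExists
import Groth.Agent.S12143

/-!
# Finite morphisms are projective (EGA II 6.1.11) (helper28)

`isProjective_of_isFinite`: for `f : X ⟶ Y` finite, `X = Proj_Y(f_*(O_X[T]))` where `O_X[T] = Sym(O_X)` is the graded
symmetric algebra of the structure module; `f_*(O_X[T])` is generated in degrees `0, 1` and its degree-one part
`f_*O_X · T` is of finite type over `O_Y`.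
-/

set_option autoImplicit false
universe u
open CategoryTheory CategoryTheory.Limits AlgebraicGeometry TopologicalSpace Opposite
open scoped HomogeneousIdeal

noncomputable section

namespace Groth.Agent.Lib.FiniteProjective

open Groth.Agent.Lib.H60LineBundle Groth.Agent.Lib.H90Invertible Groth.Agent.Lib.QCGrAlgPush

variable {X Y : Scheme.{u}} (f : X ⟶ Y) [IsAffineHom f]

omit [IsAffineHom f] in
/-- ring level: `A = R[T]` graded, `R` finite over `R₀` ⇒ `A_1` is spanned over `R₀` by finitely many elements. -/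
theorem exists_finset_deg_one {R₀ R A : Type u} [CommRing R₀] [CommRing R] [CommRing A]
    (𝒜 : ℕ → AddSubgroup A) [GradedRing 𝒜] (φ : R₀ →+* R) (hφ : φ.Finite)
    (σ : R →+* A) (hσ : ∀ r, σ r ∈ 𝒜 0) (T : A) (hT : T ∈ 𝒜 1)
    (hbij : Function.Bijective (Polynomial.eval₂RingHom σ T)) :
    ∃ F : Finset A, (↑F : Set A) ⊆ (𝒜 1 : Set A) ∧
      ∀ x ∈ 𝒜 1, ∃ c : A → R₀, x = ∑ t ∈ F, σ (φ (c t)) * t := by
  classical
  letI := φ.toAlgebra
  have hfin : Module.Finite R₀ R := hφ
  obtain ⟨G, hG⟩ := hfin.fg_top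
  refine ⟨G.image (fun b => σ b * T), ?_, ?_⟩
  · intro t ht
    rw [Finset.coe_image] at ht
    obtain ⟨b, -, rfl⟩ := ht
    have := Groth.Agent.Lib.H60LineAlg.mul_pow_mem 𝒜 σ hσ T hT b 1
    rwa [pow_one] at this
  · intro x hx
    obtain ⟨r, rfl⟩ := (Groth.Agent.Lib.H60LineAlg.mem_deg_iff 𝒜 σ hσ T hT hbij 1 x).mp hx
    rw [pow_one]
    have hr : r ∈ Submodule.span R₀ (↑G : Set R) := by rw [hG]; trivial
    obtain ⟨c, hc⟩ := Submodule.mem_span_finset'.mp hr
    -- choose for each t in the image a coefficient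
    have hσinj : Function.Injective (fun b : R => σ b * T) := by
      intro b b' hbb
      have h1 : Polynomial.eval₂RingHom σ T (Polynomial.C b * Polynomial.X) =
          Polynomial.eval₂RingHom σ T (Polynomial.C b' * Polynomial.X) := by
        simpa using hbb
      have h2 := hbij.injective h1
      have h3 := congrArg (fun P => Polynomial.coeff P 1) h2
      simpa using h3
    refine ⟨fun t => if h : ∃ b ∈ G, σ b * T = t then c ⟨h.choose, h.choose_spec.1⟩ else 0, ?_⟩
    rw [Finset.sum_image (fun b _ b' _ h => hσinj h)]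
    rw [← hc, map_sum, Finset.sum_mul]
    rw [← Finset.sum_attach G (fun b => _ * (σ b * T))]
    refine Finset.sum_congr rfl (fun b _ => ?_)
    have hex : ∃ b' ∈ G, σ b' * T = σ b.1 * T := ⟨b.1, b.2, rfl⟩
    beta_reduce
    rw [dif_pos hex]
    have hb' : hex.choose = b.1 := hσinj hex.choose_spec.2
    have : (⟨hex.choose, hex.choose_spec.1⟩ : {x // x ∈ G}) = b := Subtype.ext hb'
    rw [this, Algebra.smul_def, map_mul, mul_assoc]
    rfl

end Groth.Agent.Lib.FiniteProjective

namespace Groth.Agent.Lib.FiniteProjective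

open Groth.Agent.Lib.H60LineBundle Groth.Agent.Lib.H90Invertible Groth.Agent.Lib.QCGrAlgPush

theorem isProjective_aux {X Y : Scheme.{u}} (f : X ⟶ Y) [IsFinite f]
    (𝒮L : RelProj.QCGrAlg X) (j : Coh.structureModule X ⟶ 𝒮L.toModule)
    (hj : RelProj.IsGrSymAlg (Coh.structureModule X) 𝒮L j) {PL : Scheme.{u}} (pL : PL ⟶ X)
    (chartL : ∀ (V : X.Opens) (hV : IsAffineOpen V), (((pL ⁻¹ᵁ V : PL.Opens) : Scheme.{u}) ≅ Proj (𝒮L.deg V hV)))
    (hPL : RelProj.IsRelProj 𝒮L pL chartL) : RelProj.IsProjective f := by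
  have hL : PicF.IsInvertible (Coh.structureModule X) := isInvertible_structureModule X
  have hLq : Coh.IsQCoh (Coh.structureModule X) := isQCoh_of_isInvertible hL
  have hgen := Groth.Agent.Lib.H60LineSym.isGenDegOne (Coh.structureModule X) hLq _ _ hj
  haveI : IsIso pL := Groth.Agent.S12143.result (Coh.structureModule X) hL hLq _ _ hj _ _ hPL
  refine ⟨pushGr f 𝒮L, PL, pL ≫ f, pushChart f _ _ chartL, (asIso pL).symm, ?_, ?_,
    isRelProj_push f _ _ _ hPL, ?_⟩
  · intro U hU
    exact hgen (f ⁻¹ᵁ U) (hU.preimage f)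
  · intro U hU
    obtain ⟨F, hF1, hF2⟩ := exists_finset_deg_one
      (𝒮L.deg (f ⁻¹ᵁ U) (hU.preimage f))
      (f.app U).hom (IsFinite.finite_app f U hU)
      (𝒮L.str.app (op (f ⁻¹ᵁ U))).hom
      (𝒮L.str_mem _ (hU.preimage f))
      (jel (Coh.structureModule X) _ j (f ⁻¹ᵁ U)
        (Groth.Agent.Lib.StructureModule.toSec (f ⁻¹ᵁ U) 1))
      (Groth.Agent.Lib.H60LineSym.deg_one _ _ _ hj _ (hU.preimage f) _)
      (Groth.Agent.Lib.H60LineSym.bijective_eval₂ _ hLq _ _ hj _ (hU.preimage f) _ (isGen_one _))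
    exact ⟨F, hF1, hF2⟩
  · simp

theorem isProjective_of_isFinite {X Y : Scheme.{u}} (f : X ⟶ Y) [IsFinite f] : RelProj.IsProjective f := by
  have hL : PicF.IsInvertible (Coh.structureModule X) := isInvertible_structureModule X
  have hLq : Coh.IsQCoh (Coh.structureModule X) := isQCoh_of_isInvertible hL
  haveI : (Coh.structureModule X).IsQuasicoherent := hLq
  exact isProjective_aux f _ _ (Groth.Agent.Lib.H60GrSym.isGrSymAlg (Coh.structureModule X)) _ _
    (Groth.Agent.Lib.RelProjExists.isRelProj (Groth.Agent.Lib.H60GrSym.grSymAlg (Coh.structureModule X)))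

end Groth.Agent.Lib.FiniteProjective
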