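/-
helper81: a nilpotent thickening N of a section is finite over the base.
`finite_of_thickening`: g : X ⟶ Y locally of finite type, f : Y ⟶ X a closed-immersion section of g,
ι : N ⟶ X a closed immersion, t : Y ⟶ N surjective with t ≫ ι = f and f.ker^(n+1) ≤ ι.ker. Then ι ≫ g is finite
(affine via isAffineHom_of_isInducing, integral since b - g♯t♯b is nilpotent). Also `pow_eq_zero`:
sections of N vanishing on Y have (n+1)-st power zero.
-/
import Mathlib.AlgebraicGeometry.Morphisms.Finite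
import Mathlib.AlgebraicGeometry.Morphisms.Integral
import Mathlib.AlgebraicGeometry.IdealSheaf.Subscheme

set_option autoImplicit false
set_option linter.style.haveILetI false
universe u
open CategoryTheory CategoryTheory.Limits AlgebraicGeometry TopologicalSpace Opposite

namespace Groth.Agent.Lib.FiniteThickening81

section aux
variable {X Y N : Scheme.{u}} (f : Y ⟶ X) [IsClosedImmersion f] (ι : N ⟶ X) [IsClosedImmersion ι]
  (t : Y ⟶ N) (ht : t ≫ ι = f) (n : ℕ) (hker : f.ker ^ (n + 1) ≤ ι.ker)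

include ht hker in
/-- a section of the thickening over `ι⁻¹ U` (U affine) which vanishes on `Y` has (n+1)-st power zero -/
theorem pow_eq_zero_of_affine (U : X.Opens) (hU : IsAffineOpen U)
    (c : Γ(N, ι ⁻¹ᵁ U)) (hc : t.app (ι ⁻¹ᵁ U) c = 0) :
    c ^ (n + 1) = 0 := by
  obtain ⟨c', rfl⟩ := ι.app_surjective U hU c
  subst ht
  have h1 : c' ∈ (t ≫ ι).ker.ideal ⟨U, hU⟩ := by
    rw [Scheme.Hom.ker_apply, RingHom.mem_ker]
    exact hc
  have h2 : c' ^ (n + 1) ∈ ((t ≫ ι).ker ^ (n + 1)).ideal ⟨U, hU⟩ := by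
    rw [Scheme.IdealSheafData.ideal_pow]
    exact Ideal.pow_mem_pow h1 _
  have h3 := hker ⟨U, hU⟩ h2
  rw [Scheme.Hom.ker_apply, RingHom.mem_ker] at h3
  rw [← map_pow]
  exact h3

include ht hker in
theorem pow_eq_zero (U₀ : X.Opens) (c : Γ(N, ι ⁻¹ᵁ U₀)) (hc : t.app (ι ⁻¹ᵁ U₀) c = 0) :
    c ^ (n + 1) = 0 := by
  apply N.IsSheaf.section_ext
  intro x hx
  obtain ⟨_, ⟨U, hU : IsAffineOpen U, rfl⟩, hxU, hUU₀⟩ :=
    X.isBasis_affineOpens.exists_subset_of_mem_open (show ι x ∈ (U₀ : Set X) from hx) U₀.isOpen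
  have hle : ι ⁻¹ᵁ U ≤ ι ⁻¹ᵁ U₀ := ι.preimage_mono hUU₀
  refine ⟨ι ⁻¹ᵁ U, hle, hxU, ?_⟩
  rw [map_pow, map_zero]
  refine pow_eq_zero_of_affine f ι t ht n hker U hU _ ?_
  have := t.naturality (homOfLE hle).op
  have h2 := congr($this c)
  simp only [CommRingCat.comp_apply] at h2
  rw [h2]
  erw [hc]
  simp

end aux

set_option backward.isDefEq.respectTransparency false in
theorem finite_of_thickening {X Y N : Scheme.{u}} (g : X ⟶ Y) [LocallyOfFiniteType g] (f : Y ⟶ X)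
    [IsClosedImmersion f] (hf : f ≫ g = 𝟙 Y) (ι : N ⟶ X) [IsClosedImmersion ι]
    (t : Y ⟶ N) (ht : t ≫ ι = f) (hts : Function.Surjective t)
    (n : ℕ) (hker : f.ker ^ (n + 1) ≤ ι.ker) :
    IsFinite (ι ≫ g) := by
  have e : t ≫ (ι ≫ g) = 𝟙 Y := by rw [← Category.assoc, ht, hf]
  have e1 : ∀ y : Y, (ι ≫ g) (t y) = y := by
    intro y
    rw [← Scheme.Hom.comp_apply, e]
    rfl
  have e2 : Function.LeftInverse t (ι ≫ g) := by
    intro x
    obtain ⟨y, rfl⟩ := hts x
    rw [e1]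
  rw [IsFinite.iff_isIntegralHom_and_locallyOfFiniteType]
  refine ⟨?_, inferInstance⟩
  have haff : IsAffineHom (ι ≫ g) := by
    apply isAffineHom_of_isInducing
    · exact (Function.LeftInverse.isEmbedding e2 t.continuous (ι ≫ g).continuous).isInducing
    · have : Set.range (ι ≫ g) = Set.univ := Set.range_eq_univ.mpr (fun y => ⟨t y, e1 y⟩)
      rw [this]
      exact isClosed_univ
  refine { toIsAffineHom := haff, isIntegral_app := ?_ }
  intro V hV b
  haveI : IsIso (t ≫ (ι ≫ g)) := by rw [e]; infer_instance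
  obtain ⟨a', ha'⟩ := (ConcreteCategory.bijective_of_isIso ((t ≫ (ι ≫ g)).app V)).2
    (t.app ((ι ≫ g) ⁻¹ᵁ V) b)
  have hc : t.app ((ι ≫ g) ⁻¹ᵁ V) (b - (ι ≫ g).app V a') = 0 := by
    rw [map_sub, sub_eq_zero]
    exact ha'.symm
  have hc2 := pow_eq_zero f ι t ht n hker (g ⁻¹ᵁ V) _ hc
  have hb : b = (ι ≫ g).app V a' + (b - (ι ≫ g).app V a') := by ring
  rw [hb]
  refine RingHom.IsIntegralElem.add _ (RingHom.isIntegralElem_map _) ?_
  refine ⟨Polynomial.X ^ (n + 1), Polynomial.monic_X_pow _, ?_⟩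
  rw [Polynomial.eval₂_X_pow]
  exact hc2


end Groth.Agent.Lib.FiniteThickening81
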