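import Mathlib
import Groth.Agent.Lib.Fitting82G

/-!
# Fitting ideals of a direct sum (helper97; uses helper82's `Fitting82`)

* `det_mem_D_of_card_le`, `det_mem_ideal_of_card_le`: a square matrix all of whose rows outside a
  set of `≤ k` rows are relations among a generating tuple has determinant in `Fit_k`.
* `det_eq_zero_of_card_ne`: a matrix on `α ⊕ β` whose rows are left- or right-supported with the
  wrong number of left-supported rows has determinant `0`.
* `det_mem_sum`: the key inclusion, by multilinear row splitting.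
* `ideal_prod`: `Fit_l(M × M') = ∑_{k ≤ l} Fit_k(M) Fit_{l-k}(M')`.
-/

set_option autoImplicit false
universe u v

namespace Groth.Agent.Lib.FitSum97

open Groth.Agent.Lib.Fitting82 Matrix

variable {R : Type u} [CommRing R] {M : Type v} [AddCommGroup M] [Module R M]

theorem card_filter_not_lt_le (n k : ℕ) :
    (Finset.univ.filter (fun j : Fin n => ¬ (j : ℕ) < n - k)).card ≤ k := by
  have := Finset.card_le_card_of_injOn (s := Finset.univ.filter (fun j : Fin n => ¬ (j : ℕ) < n - k))
    (t := Finset.range k) (fun j => (j : ℕ) - (n - k)) ?_ ?_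
  · simpa using this
  · intro j hj
    have hj' : ¬ (j : ℕ) < n - k := by simpa using hj
    have := j.2
    simp only [Finset.coe_range, Set.mem_Iio]
    omega
  · intro j hj j' hj' h
    have h1 : ¬ (j : ℕ) < n - k := by simpa using hj
    have h2 : ¬ (j' : ℕ) < n - k := by simpa using hj'
    apply Fin.ext
    simp only at h
    omega

/-- flexible form of `det_mem_D`: the relation rows may sit anywhere. -/
theorem det_mem_D_of_card_le (k : ℕ) {n : ℕ} (x : Fin n → M) (A : Matrix (Fin n) (Fin n) R)
    (T : Finset (Fin n)) (hT : T.card ≤ k) (h : ∀ i, i ∉ T → ∑ j, A i j • x j = 0) :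
    A.det ∈ (D k x : Ideal R) := by
  classical
  -- choose `Q ⊆ Tᶜ` of cardinality `n - k`
  have hc : n - k ≤ (Tᶜ).card := by
    rw [Finset.card_compl, Fintype.card_fin]; omega
  obtain ⟨Q, hQT, hQc⟩ := Finset.exists_subset_card_eq hc
  have hcard : Fintype.card {i : Fin n // (i : ℕ) < n - k} = Fintype.card {i : Fin n // i ∈ Q} := by
    rw [Fintype.card_coe, hQc, Fintype.card_subtype]
    have : (Finset.univ.filter (fun i : Fin n => (i : ℕ) < n - k)).card = n - k := by
      have h1 := Finset.card_filter_add_card_filter_not (s := (Finset.univ : Finset (Fin n)))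
        (fun i : Fin n => (i : ℕ) < n - k)
      have h2 := card_filter_not_lt_le n k
      -- lower bound via injection of `Fin (n - k)`
      have h3 : n - k ≤ (Finset.univ.filter (fun i : Fin n => (i : ℕ) < n - k)).card := by
        have := Finset.card_le_card_of_injOn (s := (Finset.univ : Finset (Fin (n - k))))
          (t := Finset.univ.filter (fun i : Fin n => (i : ℕ) < n - k))
          (fun j => ⟨j, lt_of_lt_of_le j.2 (Nat.sub_le _ _)⟩) ?_ ?_
        · simpa using this
        · intro j _
          simp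
        · intro j _ j' _ hjj
          apply Fin.ext
          simpa using congrArg Fin.val hjj
      rw [Finset.card_univ, Fintype.card_fin] at h1
      have h4 : (Finset.univ.filter (fun i : Fin n => (i : ℕ) < n - k)).card ≤ n - k := by
        have := Finset.card_le_card_of_injOn
          (s := Finset.univ.filter (fun i : Fin n => (i : ℕ) < n - k))
          (t := Finset.range (n - k)) (fun j => (j : ℕ)) ?_ ?_
        · simpa using this
        · intro j hj
          simpa using hj
        · intro j _ j' _ hjj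
          exact Fin.ext hjj
      omega
    exact this
  let e : {i : Fin n // (i : ℕ) < n - k} ≃ {i : Fin n // i ∈ Q} := Fintype.equivOfCardEq hcard
  let σ : Equiv.Perm (Fin n) := e.extendSubtype
  have hσ : ∀ i : Fin n, (i : ℕ) < n - k → σ i ∉ T := by
    intro i hi
    have h1 : σ i = e ⟨i, hi⟩ := Equiv.extendSubtype_apply_of_mem e i hi
    have h2 : (e ⟨i, hi⟩ : Fin n) ∈ Q := (e ⟨i, hi⟩).2
    have h3 := hQT h2
    rw [Finset.mem_compl] at h3
    rw [h1]
    exact h3
  have hmem : (A.submatrix σ id).det ∈ (D k x : Ideal R) := by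
    apply det_mem_D
    intro i hi
    exact h (σ i) (hσ i hi)
  rw [det_permute] at hmem
  have hε : ((Equiv.Perm.sign σ : ℤˣ) : R) * ((Equiv.Perm.sign σ : ℤˣ) : R) = 1 := by
    rw [← Int.cast_mul, ← Units.val_mul, Int.units_mul_self, Units.val_one, Int.cast_one]
  have : A.det = ((Equiv.Perm.sign σ : ℤˣ) : R) * (((Equiv.Perm.sign σ : ℤˣ) : R) * A.det) := by
    rw [← mul_assoc, hε, one_mul]
  rw [this]
  exact Ideal.mul_mem_left _ _ hmem

/-- flexible form with an arbitrary finite index type and values in `Fitt.ideal`. -/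
theorem det_mem_ideal_of_card_le {P : Type*} [AddCommGroup P] [Module R P] (k : ℕ)
    {ι : Type*} [Fintype ι] [DecidableEq ι] {N : ℕ} (e : ι ≃ Fin N) (X : ι → P)
    (hX : Submodule.span R (Set.range X) = ⊤) (A : Matrix ι ι R) (T : Finset ι)
    (hT : T.card ≤ k) (h : ∀ r, r ∉ T → ∑ c, A r c • X c = 0) :
    A.det ∈ Fitt.ideal R P k := by
  have hX' : Submodule.span R (Set.range (X ∘ e.symm)) = ⊤ := by
    rw [Set.range_comp, Equiv.range_eq_univ, Set.image_univ, hX]
  apply D_le_ideal k (X ∘ e.symm) hX'
  rw [← Matrix.det_submatrix_equiv_self e.symm A]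
  apply det_mem_D_of_card_le k (X ∘ e.symm) _ (T.map e.toEmbedding)
  · rw [Finset.card_map]; exact hT
  · intro i hi
    have hi' : e.symm i ∉ T := by
      intro h'
      apply hi
      rw [Finset.mem_map_equiv]
      exact h'
    have := h (e.symm i) hi'
    rw [← Equiv.sum_comp e.symm] at this
    simpa using this

theorem det_eq_zero_of_card_ne {α β : Type*} [Fintype α] [Fintype β] [DecidableEq α]
    [DecidableEq β] (C : Matrix (α ⊕ β) (α ⊕ β) R) (S : Finset (α ⊕ β))
    (hS : S.card ≠ Fintype.card α)
    (hL : ∀ r, r ∈ S → ∀ b, C r (Sum.inr b) = 0)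
    (hR : ∀ r, r ∉ S → ∀ a, C r (Sum.inl a) = 0) : C.det = 0 := by
  rw [det_apply]
  apply Finset.sum_eq_zero
  intro σ _
  suffices h : ∏ i, C (σ i) i = 0 by rw [h, smul_zero]
  by_contra hprod
  have hne : ∀ i, C (σ i) i ≠ 0 := fun i hi =>
    hprod (Finset.prod_eq_zero (Finset.mem_univ i) hi)
  have h1 : ∀ a, σ (Sum.inl a) ∈ S := by
    intro a
    by_contra h
    exact hne (Sum.inl a) (hR _ h a)
  have h2 : ∀ b, σ (Sum.inr b) ∉ S := by
    intro b h
    exact hne (Sum.inr b) (hL _ h b)
  apply hS
  have h3 : S.map σ.symm.toEmbedding = Finset.univ.map ⟨Sum.inl, Sum.inl_injective⟩ := by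
    ext c
    rw [Finset.mem_map_equiv, Equiv.symm_symm]
    constructor
    · intro hc
      rcases c with a | b
      · simp
      · exact absurd hc (h2 b)
    · intro hc
      obtain ⟨a, -, rfl⟩ := Finset.mem_map.mp hc
      exact h1 a
  rw [← Finset.card_map σ.symm.toEmbedding, h3, Finset.card_map, Finset.card_univ]


theorem det_mem_sum {M' : Type*} [AddCommGroup M'] [Module R M'] (l : ℕ) {n n' : ℕ}
    (x : Fin n → M) (hx : Submodule.span R (Set.range x) = ⊤) (x' : Fin n' → M')
    (hx' : Submodule.span R (Set.range x') = ⊤)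
    (B : Matrix (Fin n ⊕ Fin n') (Fin n ⊕ Fin n') R) (T : Finset (Fin n ⊕ Fin n'))
    (hT : T.card ≤ l)
    (h : ∀ r, r ∉ T → ∑ j, B r (Sum.inl j) • x j = 0 ∧ ∑ j, B r (Sum.inr j) • x' j = 0) :
    B.det ∈ ∑ k ∈ Finset.range (l + 1), Fitt.ideal R M k * Fitt.ideal R M' (l - k) := by
  classical
  let BL : (Fin n ⊕ Fin n') → (Fin n ⊕ Fin n') → R :=
    fun r => Sum.elim (fun j => B r (Sum.inl j)) (fun _ => 0)
  let BR : (Fin n ⊕ Fin n') → (Fin n ⊕ Fin n') → R :=
    fun r => Sum.elim (fun _ => 0) (fun j => B r (Sum.inr j))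
  have hB : B = Matrix.of (BL + BR) := by
    ext r c
    rcases c with j | j <;> simp [BL, BR]
  have hdet : B.det = ∑ S : Finset (Fin n ⊕ Fin n'), (Matrix.of (S.piecewise BL BR)).det := by
    conv_lhs => rw [hB]
    exact (Matrix.detRowAlternating (R := R) (n := Fin n ⊕ Fin n')).toMultilinearMap.map_add_univ
      BL BR
  rw [hdet]
  apply Ideal.sum_mem
  intro S _
  set C : Matrix (Fin n ⊕ Fin n') (Fin n ⊕ Fin n') R := Matrix.of (S.piecewise BL BR) with hC
  have hCL : ∀ r, r ∈ S → ∀ b, C r (Sum.inr b) = 0 := by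
    intro r hr b
    simp [C, Finset.piecewise_eq_of_mem _ _ _ hr, BL]
  have hCR : ∀ r, r ∉ S → ∀ a, C r (Sum.inl a) = 0 := by
    intro r hr a
    simp [C, Finset.piecewise_eq_of_notMem _ _ _ hr, BR]
  have hCLv : ∀ r, r ∈ S → ∀ a, C r (Sum.inl a) = B r (Sum.inl a) := by
    intro r hr a
    simp [C, Finset.piecewise_eq_of_mem _ _ _ hr, BL]
  have hCRv : ∀ r, r ∉ S → ∀ b, C r (Sum.inr b) = B r (Sum.inr b) := by
    intro r hr b
    simp [C, Finset.piecewise_eq_of_notMem _ _ _ hr, BR]
  by_cases hcard : S.card = n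
  · have hc1 : Fintype.card (Fin n) = Fintype.card {r // r ∈ S} := by
      rw [Fintype.card_coe, hcard, Fintype.card_fin]
    have hc2 : Fintype.card (Fin n') = Fintype.card {r // r ∉ S} := by
      rw [Fintype.card_subtype_compl, Fintype.card_coe, hcard, Fintype.card_sum, Fintype.card_fin,
        Fintype.card_fin]
      omega
    let e₁ : Fin n ≃ {r // r ∈ S} := Fintype.equivOfCardEq hc1
    let e₂ : Fin n' ≃ {r // r ∉ S} := Fintype.equivOfCardEq hc2
    let σ : Equiv.Perm (Fin n ⊕ Fin n') :=
      (Equiv.sumCongr e₁ e₂).trans (Equiv.sumCompl (· ∈ S))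
    have hσl : ∀ j, σ (Sum.inl j) = (e₁ j).val := fun j => rfl
    have hσr : ∀ j, σ (Sum.inr j) = (e₂ j).val := fun j => rfl
    let A : Matrix (Fin n) (Fin n) R := Matrix.of fun j c => B (e₁ j).val (Sum.inl c)
    let A' : Matrix (Fin n') (Fin n') R := Matrix.of fun j c => B (e₂ j).val (Sum.inr c)
    have hC' : C.submatrix σ id = Matrix.fromBlocks A 0 0 A' := by
      ext r c
      rcases r with j | j <;> rcases c with c | c
      · simp only [submatrix_apply, id_eq, hσl, fromBlocks_apply₁₁]
        exact hCLv _ (e₁ j).2 c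
      · simp only [submatrix_apply, id_eq, hσl, fromBlocks_apply₁₂]
        exact hCL _ (e₁ j).2 c
      · simp only [submatrix_apply, id_eq, hσr, fromBlocks_apply₂₁]
        exact hCR _ (e₂ j).2 c
      · simp only [submatrix_apply, id_eq, hσr, fromBlocks_apply₂₂]
        exact hCRv _ (e₂ j).2 c
    let TA : Finset (Fin n) := Finset.univ.filter (fun j => (e₁ j).val ∈ T)
    let TA' : Finset (Fin n') := Finset.univ.filter (fun j => (e₂ j).val ∈ T)
    have hA : A.det ∈ Fitt.ideal R M TA.card := by
      apply det_mem_ideal_of_card_le TA.card (Equiv.refl (Fin n)) x hx A TA le_rfl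
      intro j hj
      have hj' : (e₁ j).val ∉ T := by simpa [TA] using hj
      exact (h _ hj').1
    have hA' : A'.det ∈ Fitt.ideal R M' TA'.card := by
      apply det_mem_ideal_of_card_le TA'.card (Equiv.refl (Fin n')) x' hx' A' TA' le_rfl
      intro j hj
      have hj' : (e₂ j).val ∉ T := by simpa [TA'] using hj
      exact (h _ hj').2
    have hk1 : TA.card ≤ (T.filter (· ∈ S)).card := by
      apply Finset.card_le_card_of_injOn (fun j => (e₁ j).val)
      · intro j hj
        have hj' : (e₁ j).val ∈ T := by simpa [TA] using hj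
        rw [Finset.mem_coe, Finset.mem_filter]
        exact ⟨hj', (e₁ j).2⟩
      · intro j _ j' _ hjj
        exact e₁.injective (Subtype.ext hjj)
    have hk2 : TA'.card ≤ (T.filter (fun r => ¬ r ∈ S)).card := by
      apply Finset.card_le_card_of_injOn (fun j => (e₂ j).val)
      · intro j hj
        have hj' : (e₂ j).val ∈ T := by simpa [TA'] using hj
        rw [Finset.mem_coe, Finset.mem_filter]
        exact ⟨hj', (e₂ j).2⟩
      · intro j _ j' _ hjj
        exact e₂.injective (Subtype.ext hjj)
    have hk3 := Finset.card_filter_add_card_filter_not (s := T) (fun r => r ∈ S)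
    have hkl : TA.card ≤ l := by omega
    have hkl' : TA'.card ≤ l - TA.card := by omega
    have hprod : A.det * A'.det ∈
        ∑ k ∈ Finset.range (l + 1), Fitt.ideal R M k * Fitt.ideal R M' (l - k) := by
      rw [Ideal.sum_eq_sup]
      apply Finset.le_sup (f := fun k => Fitt.ideal R M k * Fitt.ideal R M' (l - k))
        (Finset.mem_range.mpr (Nat.lt_succ_of_le hkl))
      exact Ideal.mul_mem_mul hA (Groth.Agent.Lib.Fitting82.ideal_mono_index hkl' hA')
    have hdetC' : (C.submatrix σ id).det = A.det * A'.det := by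
      rw [hC', Matrix.det_fromBlocks_zero₂₁]
    rw [det_permute] at hdetC'
    have hε : ((Equiv.Perm.sign σ : ℤˣ) : R) * ((Equiv.Perm.sign σ : ℤˣ) : R) = 1 := by
      rw [← Int.cast_mul, ← Units.val_mul, Int.units_mul_self, Units.val_one, Int.cast_one]
    have : C.det = ((Equiv.Perm.sign σ : ℤˣ) : R) * (A.det * A'.det) := by
      rw [← hdetC', ← mul_assoc, hε, one_mul]
    rw [this]
    exact Ideal.mul_mem_left _ _ hprod
  · rw [det_eq_zero_of_card_ne C S (by simpa using hcard) hCL hCR]
    exact Ideal.zero_mem _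

/-- the combined generating tuple of `M × M'`. -/
def prodGens {M₁ M₂ : Type*} [Zero M₁] [Zero M₂] {n n' : ℕ} (x : Fin n → M₁)
    (x' : Fin n' → M₂) : Fin n ⊕ Fin n' → M₁ × M₂ :=
  Sum.elim (fun j => (x j, 0)) (fun j => (0, x' j))

theorem span_prodGens {M' : Type*} [AddCommGroup M'] [Module R M'] {n n' : ℕ} (x : Fin n → M)
    (hx : Submodule.span R (Set.range x) = ⊤) (x' : Fin n' → M')
    (hx' : Submodule.span R (Set.range x') = ⊤) :
    Submodule.span R (Set.range (prodGens x x')) = ⊤ := by
  rw [eq_top_iff]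
  rintro ⟨m, m'⟩ -
  have h1 : (m, (0 : M')) ∈ Submodule.span R (Set.range (prodGens x x')) := by
    have hm : m ∈ Submodule.span R (Set.range x) := by rw [hx]; trivial
    have := Submodule.mem_map_of_mem (f := LinearMap.inl R M M') hm
    rw [Submodule.map_span] at this
    refine Submodule.span_mono ?_ this
    rintro _ ⟨_, ⟨j, rfl⟩, rfl⟩
    exact ⟨Sum.inl j, rfl⟩
  have h2 : ((0 : M), m') ∈ Submodule.span R (Set.range (prodGens x x')) := by
    have hm : m' ∈ Submodule.span R (Set.range x') := by rw [hx']; trivial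
    have := Submodule.mem_map_of_mem (f := LinearMap.inr R M M') hm
    rw [Submodule.map_span] at this
    refine Submodule.span_mono ?_ this
    rintro _ ⟨_, ⟨j, rfl⟩, rfl⟩
    exact ⟨Sum.inr j, rfl⟩
  have := Submodule.add_mem _ h1 h2
  simpa using this

theorem sum_prodGens {M' : Type*} [AddCommGroup M'] [Module R M'] {n n' : ℕ} (x : Fin n → M)
    (x' : Fin n' → M') (b : Fin n ⊕ Fin n' → R) :
    ∑ c, b c • prodGens x x' c =
      (∑ j, b (Sum.inl j) • x j, ∑ j, b (Sum.inr j) • x' j) := by
  rw [Fintype.sum_sum_type]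
  simp only [prodGens, Sum.elim_inl, Sum.elim_inr]
  ext
  · simp [Prod.fst_sum]
  · simp [Prod.snd_sum]

theorem ideal_prod {M' : Type*} [AddCommGroup M'] [Module R M'] [Module.Finite R M]
    [Module.Finite R M'] (l : ℕ) :
    Fitt.ideal R (M × M') l =
      ∑ k ∈ Finset.range (l + 1), Fitt.ideal R M k * Fitt.ideal R M' (l - k) := by
  classical
  obtain ⟨n, x, hx⟩ := Module.Finite.exists_fin (R := R) (M := M)
  obtain ⟨n', x', hx'⟩ := Module.Finite.exists_fin (R := R) (M := M')
  have hX := span_prodGens x hx x' hx'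
  let e : Fin n ⊕ Fin n' ≃ Fin (n + n') := finSumFinEquiv
  have hXN : Submodule.span R (Set.range (prodGens x x' ∘ e.symm)) = ⊤ := by
    rw [Set.range_comp, Equiv.range_eq_univ, Set.image_univ, hX]
  apply le_antisymm
  · rw [ideal_eq_D l (prodGens x x' ∘ e.symm) hXN, D_le_iff]
    intro a ha
    rw [← Matrix.det_submatrix_equiv_self e a]
    let T : Finset (Fin n ⊕ Fin n') :=
      Finset.univ.filter (fun r => ¬ ((e r : ℕ) < n + n' - l))
    have hT : T.card ≤ l := by
      refine le_trans ?_ (card_filter_not_lt_le (n + n') l)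
      apply Finset.card_le_card_of_injOn (fun r => e r)
      · intro r hr
        have hr' : ¬ ((e r : ℕ) < n + n' - l) := by simpa [T] using hr
        rw [Finset.mem_coe, Finset.mem_filter]
        exact ⟨Finset.mem_univ _, hr'⟩
      · intro r _ r' _ hrr
        exact e.injective hrr
    apply det_mem_sum l x hx x' hx' _ T hT
    intro r hr
    have hr' : (e r : ℕ) < n + n' - l := by
      by_contra hcon
      exact hr (by simpa [T] using hcon)
    have h0 := ha (e r) hr'
    have h1 : ∑ c, a (e r) (e c) • prodGens x x' c = 0 := by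
      rw [← h0, ← Equiv.sum_comp e]
      simp
    rw [sum_prodGens] at h1
    have h2 := Prod.ext_iff.mp h1
    exact ⟨h2.1, h2.2⟩
  · rw [Ideal.sum_eq_sup]
    apply Finset.sup_le
    intro k hk
    have hkl : k ≤ l := Nat.lt_succ_iff.mp (Finset.mem_range.mp hk)
    rw [ideal_eq_D k x hx, ideal_eq_D (l - k) x' hx', D, D, Ideal.span_mul_span', Ideal.span_le]
    rintro _ ⟨_, ⟨a, ha, rfl⟩, _, ⟨a', ha', rfl⟩, rfl⟩
    change a.det * a'.det ∈ Fitt.ideal R (M × M') l
    rw [← Matrix.det_fromBlocks_zero₂₁ a 0 a']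
    let T : Finset (Fin n ⊕ Fin n') :=
      (Finset.univ.filter (fun j : Fin n => ¬ (j : ℕ) < n - k)).map
          ⟨Sum.inl, Sum.inl_injective⟩ ∪
        (Finset.univ.filter (fun j : Fin n' => ¬ (j : ℕ) < n' - (l - k))).map
          ⟨Sum.inr, Sum.inr_injective⟩
    have hT : T.card ≤ l := by
      refine le_trans (Finset.card_union_le _ _) ?_
      rw [Finset.card_map, Finset.card_map]
      have h1 := card_filter_not_lt_le n k
      have h2 := card_filter_not_lt_le n' (l - k)
      omega
    apply det_mem_ideal_of_card_le l e (prodGens x x') hX _ T hT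
    intro r hr
    rw [sum_prodGens]
    rcases r with j | j
    · have hj : (j : ℕ) < n - k := by
        by_contra hcon
        apply hr
        apply Finset.mem_union_left
        exact Finset.mem_map.mpr ⟨j, by simpa using hcon, rfl⟩
      simp only [Matrix.fromBlocks_apply₁₁, Matrix.fromBlocks_apply₁₂, Matrix.zero_apply, zero_smul,
        Finset.sum_const_zero]
      rw [ha j hj]
      rfl
    · have hj : (j : ℕ) < n' - (l - k) := by
        by_contra hcon
        apply hr
        apply Finset.mem_union_right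
        exact Finset.mem_map.mpr ⟨j, by simpa using hcon, rfl⟩
      simp only [Matrix.fromBlocks_apply₂₁, Matrix.fromBlocks_apply₂₂, Matrix.zero_apply, zero_smul,
        Finset.sum_const_zero]
      rw [ha' j hj]
      rfl

end Groth.Agent.Lib.FitSum97
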