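import Groth.Agent.Lib.FibLocFree62b

/-!
# The flattening stratum of rank `r` of a finite type quasi-coherent module (helper62)

For a quasi-coherent `O_X`-module `F` of finite type and `r : ℕ`, the locally closed subscheme
`Z = V(Fit_{r-1} F) ∖ V(Fit_r F)` of `X` has the universal property: `f : T ⟶ X` factors through `Z`
iff `f^* F` is locally free of rank `r`.  If `F` is locally generated by `r` sections, `Z` is closed.
-/

set_option autoImplicit false
set_option linter.style.haveILetI false
universe u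

open CategoryTheory Limits AlgebraicGeometry Topology TopologicalSpace

namespace Groth.Agent.Lib.FittStratum62

open Groth.Agent.Lib.Fitting82 Groth.Agent.Lib.FibLocFree62

variable {X : Scheme.{u}}

/-- `f` factors through the closed subscheme `V(J)` iff `J` pulls back to zero along `f`. -/
theorem exists_fac_subschemeι_iff (J : X.IdealSheafData) {T : Scheme.{u}} (f : T ⟶ X) :
    (∃ g : T ⟶ J.subscheme, g ≫ J.subschemeι = f) ↔ J.comap f = ⊥ := by
  rw [eq_bot_iff, ← Scheme.IdealSheafData.le_map_iff_comap_le, Scheme.IdealSheafData.map_bot]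
  constructor
  · rintro ⟨g, rfl⟩
    conv_lhs => rw [← J.ker_subschemeι]
    exact Scheme.Hom.le_ker_comp _ _
  · intro h
    exact ⟨IsClosedImmersion.lift J.subschemeι f (by rwa [J.ker_subschemeι]),
      IsClosedImmersion.lift_fac _ _ _⟩

/-- `f` factors through the locally closed subscheme `V(I) ∩ U` iff `f` maps into `U` and `I`
pulls back to zero along `f`. -/
theorem exists_fac_iff (I : X.IdealSheafData) (U : X.Opens) {T : Scheme.{u}} (f : T ⟶ X) :
    (∃ g : T ⟶ (I.comap U.ι).subscheme, g ≫ (I.comap U.ι).subschemeι ≫ U.ι = f) ↔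
      Set.range f ⊆ (U : Set X) ∧ I.comap f = ⊥ := by
  constructor
  · rintro ⟨g, rfl⟩
    refine ⟨?_, ?_⟩
    · rintro _ ⟨t, rfl⟩
      have : (g ≫ (I.comap U.ι).subschemeι ≫ U.ι) t = U.ι ((g ≫ (I.comap U.ι).subschemeι) t) := by
        simp
      rw [this]
      exact ((g ≫ (I.comap U.ι).subschemeι) t).2
    · rw [← Category.assoc, Scheme.IdealSheafData.comap_comp]
      exact (exists_fac_subschemeι_iff _ _).mp ⟨g, rfl⟩
  · rintro ⟨hU, hI⟩
    let f' : T ⟶ U.toScheme := IsOpenImmersion.lift U.ι f (by rwa [Scheme.Opens.range_ι])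
    have hf' : f' ≫ U.ι = f := IsOpenImmersion.lift_fac _ _ _
    have h1 : (I.comap U.ι).comap f' = ⊥ := by
      rw [← Scheme.IdealSheafData.comap_comp, hf', hI]
    obtain ⟨g, hg⟩ := (exists_fac_subschemeι_iff _ _).mpr h1
    exact ⟨g, by rw [← Category.assoc, hg, hf']⟩

/-- The pullback of `F` along `f` is locally free of rank `r` iff `f` avoids `V(Fit_r F)` and all
`Fit_k F`, `k < r`, pull back to zero. -/
theorem isFinLocFreeOfRank_pullback_iff (F : X.Modules) [F.IsQuasicoherent] [F.IsFiniteType]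
    (r : ℕ) {T : Scheme.{u}} (f : T ⟶ X) :
    FlatMod.IsFinLocFreeOfRank r ((Scheme.Modules.pullback f).obj F) ↔
      Set.range f ⊆ ((Fitt.sheafIdeal F r).support : Set X)ᶜ ∧
        (⨆ k : Fin r, Fitt.sheafIdeal F k).comap f = ⊥ := by
  haveI : ((Scheme.Modules.pullback f).obj F).IsQuasicoherent :=
    Groth.Agent.Lib.H72PullbackQCoh.isQuasicoherent_pullback _ F
  haveI : ((Scheme.Modules.pullback f).obj F).IsFiniteType :=
    Groth.Agent.Lib.SupportTensor.isFiniteType_pullback _ F
  rw [isFinLocFreeOfRank_iff_sheafIdeal]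
  simp only [sheafIdeal_pullback]
  rw [and_comm]
  refine and_congr ?_ ?_
  · constructor
    · intro h
      have h1 := h r le_rfl
      rintro _ ⟨t, rfl⟩ ht
      have h2 : t ∈ ((Fitt.sheafIdeal F r).comap f).support := by
        rw [Scheme.IdealSheafData.support_comap]; exact ht
      rw [h1] at h2
      exact h2
    · intro h k hk
      apply comap_eq_top_of_forall_notMem
      intro t ht
      exact h ⟨t, rfl⟩ (Scheme.IdealSheafData.support_antitone (sheafIdeal_mono F hk) ht)
  · rw [(Scheme.IdealSheafData.map_gc f).l_iSup, iSup_eq_bot]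
    exact ⟨fun h k => h k k.2, fun h k hk => h ⟨k, hk⟩⟩

/-- **Flattening stratum of rank `r`** via Fitting ideals: the locally closed subscheme
`V(Fit_{r-1} F) ∖ V(Fit_r F)` represents "the pullback of `F` is locally free of rank `r`". -/
theorem exists_immersion_forall_fac_iff (F : X.Modules) [F.IsQuasicoherent] [F.IsFiniteType]
    (r : ℕ) :
    ∃ (Z : Scheme.{u}) (i : Z ⟶ X), IsImmersion i ∧
      (∀ (T : Scheme.{u}) (f : T ⟶ X),
        (∃ g : T ⟶ Z, g ≫ i = f) ↔
          FlatMod.IsFinLocFreeOfRank r ((Scheme.Modules.pullback f).obj F)) ∧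
      (Fitt.sheafIdeal F r = ⊤ → IsClosedImmersion i) := by
  let U : X.Opens := ⟨((Fitt.sheafIdeal F r).support : Set X)ᶜ,
    (Fitt.sheafIdeal F r).support.isClosed.isOpen_compl⟩
  let I : X.IdealSheafData := ⨆ k : Fin r, Fitt.sheafIdeal F k
  refine ⟨(I.comap U.ι).subscheme, (I.comap U.ι).subschemeι ≫ U.ι, inferInstance,
    fun T f => ?_, fun h => ?_⟩
  · rw [isFinLocFreeOfRank_pullback_iff]
    exact exists_fac_iff I U f
  · have hU : U = ⊤ := by
      ext x
      simp only [U, h, Opens.coe_mk, Opens.coe_top, Set.mem_univ, iff_true]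
      exact fun hx => hx
    haveI : IsIso U.ι := by
      rw [hU]
      exact (inferInstance : IsIso X.topIso.hom)
    infer_instance

open Groth.Agent.Lib.ModStalkLin Groth.Agent.Lib.FreeModStalk Groth.Agent.Lib.RestrictStalk in
/-- If `F` is locally generated by `r` sections then `Fit_r F = O_X`. -/
theorem sheafIdeal_eq_top_of_forall_exists_epi (F : X.Modules) [F.IsQuasicoherent]
    [F.IsFiniteType] (r : ℕ)
    (h : ∀ s : X, ∃ U : X.Opens, s ∈ U ∧
      ∃ p : FlatMod.freeMod (↑U) r ⟶ F.restrict U.ι, Epi p) :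
    Fitt.sheafIdeal F r = ⊤ := by
  rw [sheafIdeal_eq_top_iff]
  intro x
  obtain ⟨U, hxU, p, hp⟩ := h x
  rw [ideal_eq_top_iff_exists_span]
  let y : U.toScheme := ⟨x, hxU⟩
  let v : Fin r → (F.restrict U.ι).presheaf.stalk y := fun i => stalkLin p y (stalkBasis y i)
  have hv : Submodule.span (U.toScheme.presheaf.stalk y) (Set.range v) = ⊤ := by
    have h1 : Set.range v = (stalkLin p y) '' Set.range (stalkBasis (n := r) y) := by
      rw [← Set.range_comp]; rfl
    rw [h1, ← Submodule.map_span, (stalkBasis y).span_eq, Submodule.map_top,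
      LinearMap.range_eq_top]
    exact stalkLin_surjective_of_epi p y
  exact ⟨_, (span_restrict_eq_top_iff U.ι F y v).mp hv⟩

end Groth.Agent.Lib.FittStratum62
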