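import Groth.Prelude.Def_Fitting
import Mathlib.LinearAlgebra.Matrix.Adjugate
import Mathlib.LinearAlgebra.Matrix.Determinant.Basic
import Mathlib.RingTheory.Support
import Mathlib.RingTheory.Finiteness.Defs
import Mathlib.Tactic.Ring

/-!
# Fitting ideals (`Fitt.ideal`), part A (helper82)

Basic facts that follow directly from the definition (which quantifies over all generating tuples):

* `D k x`: the ideal of determinants of `n × n` matrices whose first `n - k` rows are relations
  among the tuple `x : Fin n → M`.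
* `D_le_ideal`, `ideal_le_iff`: `Fitt.ideal R M k` is the supremum of the `D k x` over generating
  tuples.
* `ideal_mono_of_surjective`: a surjection `M → M'` gives `Fit_k(M) ≤ Fit_k(M')`.
* `ideal_eq_top_of_span`: `n` generators give `Fit_n(M) = ⊤` (and `Fit_k = ⊤` for `k ≥ n`).
* `ideal_zero_le_annihilator`, `zeroLocus_ideal_zero`, `ideal_zero_quotient`.
-/

set_option autoImplicit false

universe u v w

namespace Groth.Agent.Lib.Fitting82

variable {R : Type u} [CommRing R] {M : Type v} [AddCommGroup M] [Module R M]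

/-- The ideal generated by the determinants of the `n × n` matrices whose first `n - k` rows are
relations among the `x i`. -/
def D (k : ℕ) {n : ℕ} (x : Fin n → M) : Ideal R :=
  Ideal.span {d | ∃ a : Matrix (Fin n) (Fin n) R,
    (∀ i : Fin n, (i : ℕ) < n - k → ∑ j, a i j • x j = 0) ∧ d = a.det}

theorem det_mem_D (k : ℕ) {n : ℕ} (x : Fin n → M) (a : Matrix (Fin n) (Fin n) R)
    (ha : ∀ i : Fin n, (i : ℕ) < n - k → ∑ j, a i j • x j = 0) : a.det ∈ D k x :=
  Ideal.subset_span ⟨a, ha, rfl⟩

theorem D_le_iff (k : ℕ) {n : ℕ} (x : Fin n → M) (J : Ideal R) :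
    D k x ≤ J ↔ ∀ a : Matrix (Fin n) (Fin n) R,
      (∀ i : Fin n, (i : ℕ) < n - k → ∑ j, a i j • x j = 0) → a.det ∈ J := by
  rw [D, Ideal.span_le]
  constructor
  · intro h a ha
    exact h ⟨a, ha, rfl⟩
  · rintro h _ ⟨a, ha, rfl⟩
    exact h a ha

theorem D_le_ideal (k : ℕ) {n : ℕ} (x : Fin n → M)
    (hx : Submodule.span R (Set.range x) = ⊤) : D k x ≤ Fitt.ideal R M k :=
  Ideal.span_mono fun _ ⟨a, ha, hd⟩ => ⟨n, x, a, hx, ha, hd⟩

theorem ideal_le_iff (k : ℕ) (J : Ideal R) :
    Fitt.ideal R M k ≤ J ↔ ∀ (n : ℕ) (x : Fin n → M),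
      Submodule.span R (Set.range x) = ⊤ → D k x ≤ J := by
  constructor
  · intro h n x hx
    exact (D_le_ideal k x hx).trans h
  · intro h
    rw [Fitt.ideal, Ideal.span_le]
    rintro _ ⟨n, x, a, hx, ha, rfl⟩
    exact h n x hx (det_mem_D k x a ha)

/-- A surjection `M → M'` gives `Fit_k(M) ≤ Fit_k(M')`. -/
theorem ideal_mono_of_surjective {M' : Type w} [AddCommGroup M'] [Module R M']
    (f : M →ₗ[R] M') (hf : Function.Surjective f) (k : ℕ) :
    Fitt.ideal R M k ≤ Fitt.ideal R M' k := by
  rw [Fitt.ideal, Ideal.span_le]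
  rintro _ ⟨n, x, a, hx, ha, rfl⟩
  refine Ideal.subset_span ⟨n, f ∘ x, a, ?_, ?_, rfl⟩
  · rw [Set.range_comp, ← Submodule.map_span, hx, Submodule.map_top, LinearMap.range_eq_top]
    exact hf
  · intro i hi
    have := congrArg f (ha i hi)
    simpa [map_sum] using this

/-- Linearly equivalent modules have the same Fitting ideals. -/
theorem ideal_congr {M' : Type w} [AddCommGroup M'] [Module R M'] (e : M ≃ₗ[R] M') (k : ℕ) :
    Fitt.ideal R M k = Fitt.ideal R M' k :=
  le_antisymm (ideal_mono_of_surjective e.toLinearMap e.surjective k)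
    (ideal_mono_of_surjective e.symm.toLinearMap e.symm.surjective k)

/-- If `n` elements generate `M` then `Fit_k(M) = ⊤` for all `k ≥ n`. -/
theorem ideal_eq_top_of_span {n : ℕ} (x : Fin n → M)
    (hx : Submodule.span R (Set.range x) = ⊤) (k : ℕ) (hk : n ≤ k) : Fitt.ideal R M k = ⊤ := by
  rw [Ideal.eq_top_iff_one]
  apply D_le_ideal k x hx
  have := det_mem_D k x (1 : Matrix (Fin n) (Fin n) R) (fun i hi => by omega)
  rwa [Matrix.det_one] at this

/-- `det a` kills every `x j` when all rows of `a` are relations among the `x j`. -/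
theorem det_smul_eq_zero {n : ℕ} (x : Fin n → M) (a : Matrix (Fin n) (Fin n) R)
    (ha : ∀ i : Fin n, ∑ j, a i j • x j = 0) (j : Fin n) : a.det • x j = 0 := by
  classical
  have h1 : ∑ l, (a.adjugate * a) j l • x l = 0 := by
    simp_rw [Matrix.mul_apply, Finset.sum_smul, mul_smul]
    rw [Finset.sum_comm]
    simp_rw [← Finset.smul_sum, ha, smul_zero, Finset.sum_const_zero]
  rw [Matrix.adjugate_mul] at h1
  simpa [Matrix.smul_apply, Matrix.one_apply, ite_smul] using h1

/-- `Fit_0(M) ≤ Ann(M)`. -/
theorem ideal_zero_le_annihilator : Fitt.ideal R M 0 ≤ Module.annihilator R M := by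
  rw [Fitt.ideal, Ideal.span_le]
  rintro _ ⟨n, x, a, hx, ha, rfl⟩
  rw [SetLike.mem_coe, Module.mem_annihilator]
  have hrel : ∀ i : Fin n, ∑ j, a i j • x j = 0 := fun i => ha i (by simp)
  intro m
  have hm : m ∈ Submodule.span R (Set.range x) := by rw [hx]; trivial
  induction hm using Submodule.span_induction with
  | mem y hy =>
    obtain ⟨j, rfl⟩ := hy
    exact det_smul_eq_zero x a hrel j
  | zero => exact smul_zero _
  | add y z _ _ hy hz => rw [smul_add, hy, hz, add_zero]
  | smul c y _ hy => rw [smul_comm, hy, smul_zero]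

/-- `V(Fit_0(M)) = Supp(M)` for a finite module. -/
theorem zeroLocus_ideal_zero [Module.Finite R M] :
    PrimeSpectrum.zeroLocus (Fitt.ideal R M 0 : Set R) = Module.support R M := by
  classical
  apply Set.Subset.antisymm
  · intro p hp
    by_contra hsupp
    rw [Module.notMem_support_iff'] at hsupp
    obtain ⟨n, x, hx⟩ := Module.Finite.exists_fin (R := R) (M := M)
    choose r hr hrx using fun j => hsupp (x j)
    set f : R := ∏ j, r j with hf
    have hfp : f ∉ p.asIdeal := by
      rw [hf]
      intro hmem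
      obtain ⟨j, -, hj⟩ := (Ideal.IsPrime.prod_mem_iff (hp := p.isPrime)).mp hmem
      exact hr j hj
    have hfx : ∀ j, f • x j = 0 := by
      intro j
      rw [hf, ← Finset.mul_prod_erase Finset.univ r (Finset.mem_univ j), mul_comm, mul_smul,
        hrx, smul_zero]
    have hdet : (f • (1 : Matrix (Fin n) (Fin n) R)).det ∈ Fitt.ideal R M 0 := by
      apply D_le_ideal 0 x hx
      apply det_mem_D
      intro i _
      simp [Matrix.smul_apply, Matrix.one_apply, ite_smul, hfx]
    rw [Matrix.det_smul, Matrix.det_one, mul_one] at hdet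
    have := hp hdet
    exact hfp (p.isPrime.mem_of_pow_mem _ this)
  · rw [Module.support_eq_zeroLocus]
    exact PrimeSpectrum.zeroLocus_anti_mono ideal_zero_le_annihilator

/-- `Fit_0(R/I) = I`. -/
theorem ideal_zero_quotient (I : Ideal R) : Fitt.ideal R (R ⧸ I) 0 = I := by
  apply le_antisymm
  · have := ideal_zero_le_annihilator (R := R) (M := R ⧸ I)
    rwa [Ideal.annihilator_quotient] at this
  · intro i hi
    have hx : Submodule.span R (Set.range (fun _ : Fin 1 => (1 : R ⧸ I))) = ⊤ := by
      rw [eq_top_iff]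
      rintro y -
      obtain ⟨r, rfl⟩ := Ideal.Quotient.mk_surjective y
      have : (Ideal.Quotient.mk I r) = r • (1 : R ⧸ I) := by
        rw [Algebra.smul_def, mul_one]; rfl
      rw [this]
      exact Submodule.smul_mem _ _ (Submodule.subset_span ⟨0, rfl⟩)
    apply D_le_ideal 0 _ hx
    have := det_mem_D 0 (fun _ : Fin 1 => (1 : R ⧸ I)) (Matrix.of fun _ _ => i) (by
      intro j _
      simp only [Finset.univ_unique, Matrix.of_apply, Finset.sum_singleton]
      rw [Algebra.smul_def, mul_one]
      exact Ideal.Quotient.eq_zero_iff_mem.mpr hi)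
    simpa [Matrix.det_unique] using this

end Groth.Agent.Lib.Fitting82
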