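import Groth.Agent.Lib.Fitting82
import Mathlib.LinearAlgebra.Matrix.Determinant.Basic
import Mathlib.Logic.Equiv.Fin.Basic
import Mathlib.Data.Fin.Tuple.Basic

/-!
# Fitting ideals, part B (helper82): independence of the generating tuple

* `D_cons`: adding a redundant generator does not change `D k`.
* `D_equiv`: reindexing the tuple along an equivalence does not change `D k`.
* `D_append`: `D k (Fin.append y x) = D k x` for `x` generating.
* `D_eq_D`: two generating tuples give the same `D k`.
* `ideal_eq_D`: `Fitt.ideal R M k = D k x` for any generating tuple `x`.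
-/

set_option autoImplicit false

universe u v w

namespace Groth.Agent.Lib.Fitting82

open Matrix

variable {R : Type u} [CommRing R] {M : Type v} [AddCommGroup M] [Module R M]

/-- column operation: adding multiples of column `k` to the other columns does not change `det`. -/
theorem det_eq_of_forall_col_eq_smul_add_const' {n : Type*} [DecidableEq n] [Fintype n]
    {A B : Matrix n n R} (c : n → R) (k : n)
    (hk : c k = 0) (A_eq : ∀ i j, A i j = B i j + c j * B i k) : det A = det B := by
  rw [← det_transpose A, ← det_transpose B]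
  exact det_eq_of_forall_row_eq_smul_add_const c k hk fun i j => A_eq j i

theorem D_le_D_cons (k : ℕ) {n : ℕ} (x : Fin n → M) (z : M) (c : Fin n → R)
    (hc : ∑ j, c j • x j = z) : (D k x : Ideal R) ≤ D k (Fin.cons z x : Fin (n + 1) → M) := by
  rw [D_le_iff]
  intro a ha
  -- the enlarged matrix
  let a' : Matrix (Fin (n + 1)) (Fin (n + 1)) R :=
    Matrix.of (Fin.cons (Fin.cons (-1) c) (fun i => Fin.cons 0 (a i)))
  have hdet : a'.det = - a.det := by
    rw [det_succ_column_zero, Fin.sum_univ_succ]
    have h0 : a'.submatrix (Fin.succAbove 0) Fin.succ = a := by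
      ext i j
      simp [a', Fin.succAbove_zero]
    have hrest : ∀ i : Fin n, a' i.succ 0 = 0 := by
      intro i
      simp [a']
    simp only [hrest, mul_zero, zero_mul, Finset.sum_const_zero, add_zero, Fin.val_zero, pow_zero,
      one_mul, h0]
    simp [a']
  have hmem : a'.det ∈ (D k (Fin.cons z x : Fin (n + 1) → M) : Ideal R) := by
    apply det_mem_D
    intro i
    refine Fin.cases ?_ (fun i => ?_) i
    · intro _
      rw [Fin.sum_univ_succ]
      simp only [a', Matrix.of_apply, Fin.cons_zero, Fin.cons_succ, neg_smul, one_smul]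
      rw [hc]
      exact neg_add_cancel z
    · intro hi
      rw [Fin.sum_univ_succ]
      simp only [a', Matrix.of_apply, Fin.cons_zero, Fin.cons_succ, zero_smul, zero_add]
      apply ha
      rw [Fin.val_succ] at hi
      omega
  have : a.det = - a'.det := by rw [hdet, neg_neg]
  rw [this]
  exact neg_mem hmem

theorem D_cons_le_D (k : ℕ) {n : ℕ} (x : Fin n → M) (z : M) (c : Fin n → R)
    (hc : ∑ j, c j • x j = z) : (D k (Fin.cons z x : Fin (n + 1) → M) : Ideal R) ≤ D k x := by
  rw [D_le_iff]
  intro a' ha'
  -- column operation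
  let b : Matrix (Fin (n + 1)) (Fin (n + 1)) R :=
    Matrix.of fun i j => a' i j + (Fin.cons 0 c : Fin (n + 1) → R) j * a' i 0
  have hb : b.det = a'.det :=
    det_eq_of_forall_col_eq_smul_add_const' (Fin.cons 0 c : Fin (n + 1) → R) 0 (by simp)
      (fun i j => rfl)
  rw [← hb, det_succ_column_zero]
  apply sum_mem
  intro i' _
  apply Ideal.mul_mem_left
  apply det_mem_D
  intro l hl
  -- the row `i'.succAbove l` of `a'` is a relation
  have hrow : ∑ j, a' (i'.succAbove l) j • (Fin.cons z x : Fin (n + 1) → M) j = 0 := by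
    apply ha'
    have : ((i'.succAbove l : Fin (n + 1)) : ℕ) ≤ (l : ℕ) + 1 := by
      by_cases h : l.castSucc < i'
      · rw [Fin.succAbove_of_castSucc_lt _ _ h]
        simp
      · rw [Fin.succAbove_of_le_castSucc _ _ (not_lt.mp h)]
        simp
    omega
  rw [Fin.sum_univ_succ] at hrow
  simp only [Fin.cons_zero, Fin.cons_succ] at hrow
  rw [← hrow]
  simp only [submatrix_apply, b, Matrix.of_apply, Fin.cons_succ, add_smul, Finset.sum_add_distrib]
  rw [add_comm]
  congr 1
  rw [← hc, Finset.smul_sum]
  apply Finset.sum_congr rfl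
  intro j _
  rw [mul_comm, mul_smul]

theorem D_cons (k : ℕ) {n : ℕ} (x : Fin n → M) (z : M)
    (hz : z ∈ Submodule.span R (Set.range x)) :
    (D k (Fin.cons z x : Fin (n + 1) → M) : Ideal R) = D k x := by
  obtain ⟨c, hc⟩ := (Submodule.mem_span_range_iff_exists_fun R).mp hz
  exact le_antisymm (D_cons_le_D k x z c hc) (D_le_D_cons k x z c hc)

theorem D_perm_le (k : ℕ) {n : ℕ} (x : Fin n → M) (σ : Equiv.Perm (Fin n)) :
    (D k (x ∘ σ) : Ideal R) ≤ D k x := by
  rw [D_le_iff]
  intro a ha
  have hmem : (a.submatrix id σ.symm).det ∈ (D k x : Ideal R) := by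
    apply det_mem_D
    intro i hi
    have := ha i hi
    have h2 : ∑ j, a i (σ.symm j) • x j = ∑ j, a i j • x (σ j) := by
      rw [← Equiv.sum_comp σ]
      simp
    simp only [submatrix_apply, id_eq]
    rw [h2]
    exact this
  rw [det_permute'] at hmem
  have hε : ((Equiv.Perm.sign σ.symm : ℤˣ) : R) * ((Equiv.Perm.sign σ.symm : ℤˣ) : R) = 1 := by
    rw [← Int.cast_mul, ← Units.val_mul, Int.units_mul_self, Units.val_one, Int.cast_one]
  have : a.det = ((Equiv.Perm.sign σ.symm : ℤˣ) : R) *
      (((Equiv.Perm.sign σ.symm : ℤˣ) : R) * a.det) := by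
    rw [← mul_assoc, hε, one_mul]
  rw [this]
  exact Ideal.mul_mem_left _ _ hmem

theorem D_perm (k : ℕ) {n : ℕ} (x : Fin n → M) (σ : Equiv.Perm (Fin n)) :
    (D k (x ∘ σ) : Ideal R) = D k x := by
  apply le_antisymm (D_perm_le k x σ)
  have := D_perm_le (R := R) k (x ∘ σ) σ.symm
  rwa [Function.comp_assoc, Equiv.self_comp_symm, Function.comp_id] at this

theorem D_equiv (k : ℕ) {m n : ℕ} (e : Fin m ≃ Fin n) (x : Fin n → M) :
    (D k (x ∘ e) : Ideal R) = D k x := by
  have h : m = n := by simpa using Fintype.card_congr e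
  subst h
  exact D_perm k x e

theorem D_append (k : ℕ) {n : ℕ} (x : Fin n → M)
    (hx : Submodule.span R (Set.range x) = ⊤) :
    ∀ {m : ℕ} (y : Fin m → M), (D k (Fin.append y x) : Ideal R) = D k x := by
  intro m
  induction m with
  | zero =>
    intro y
    rw [Fin.append_left_nil y x rfl]
    exact D_equiv k (finCongr (by rw [Nat.zero_add])) x
  | succ m ih =>
    intro y
    rw [← Fin.cons_self_tail y, Fin.append_cons]
    have h1 := D_equiv (R := R) k (finCongr (Nat.add_right_comm m 1 n))
      (Fin.cons (y 0) (Fin.append (Fin.tail y) x) : Fin (m + n + 1) → M)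
    have h2 : (Fin.cons (y 0) (Fin.append (Fin.tail y) x) : Fin (m + n + 1) → M) ∘
        (finCongr (Nat.add_right_comm m 1 n)) =
        (Fin.cons (y 0) (Fin.append (Fin.tail y) x) : Fin (m + n + 1) → M) ∘
        (Fin.cast (Nat.add_right_comm m 1 n)) := rfl
    rw [h2] at h1
    rw [h1, D_cons, ih]
    -- `y 0` lies in the span
    have hle : Submodule.span R (Set.range x) ≤
        Submodule.span R (Set.range (Fin.append (Fin.tail y) x)) := by
      apply Submodule.span_mono
      rintro _ ⟨j, rfl⟩
      exact ⟨Fin.natAdd m j, Fin.append_right _ _ j⟩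
    apply hle
    rw [hx]
    trivial

theorem D_eq_D (k : ℕ) {n m : ℕ} (x : Fin n → M) (hx : Submodule.span R (Set.range x) = ⊤)
    (y : Fin m → M) (hy : Submodule.span R (Set.range y) = ⊤) : (D k x : Ideal R) = D k y := by
  rw [← D_append k x hx y, ← D_append k y hy x]
  have : Fin.append y x = Fin.append x y ∘ finAddFlip := by
    funext i
    refine Fin.addCases (fun l => ?_) (fun r => ?_) i
    · simp
    · simp
  rw [this, D_equiv]

/-- `Fit_k(M) = D k x` for every generating tuple `x`. -/
theorem ideal_eq_D (k : ℕ) {n : ℕ} (x : Fin n → M) (hx : Submodule.span R (Set.range x) = ⊤) :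
    Fitt.ideal R M k = D k x := by
  apply le_antisymm
  · rw [ideal_le_iff]
    intro m y hy
    rw [D_eq_D k y hy x hx]
  · exact D_le_ideal k x hx

end Groth.Agent.Lib.Fitting82
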