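import Groth.Agent.Lib.Fitting82B
import Mathlib.Algebra.Module.FinitePresentation
import Mathlib.LinearAlgebra.TensorProduct.RightExactness
import Mathlib.LinearAlgebra.TensorProduct.Pi
import Mathlib.LinearAlgebra.Matrix.RowCol
import Mathlib.RingTheory.TensorProduct.Basic

/-!
# Fitting ideals, part C (helper82): multilinearity, finite generation, base change

* `det_mem_of_rows_mem_span`: if all determinants with rows in prescribed sets lie in an ideal,
  so do those with rows in the spans of these sets.
* `rel x`: the module of relations among a tuple.
* `D_le_of_rel_le_span`: `D k x` is generated by determinants with rows in a generating set of the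
  relations (first `n - k` rows) and standard basis vectors (other rows).
* `ideal_fg_of_finitePresentation`: Fitting ideals of a finitely presented module are f.g.
* `ideal_baseChange`: `Fit_k(R' ⊗ M) = Fit_k(M) R'` for a finite module `M`.
-/

set_option autoImplicit false

universe u v w

namespace Groth.Agent.Lib.Fitting82

open Matrix TensorProduct

variable {R : Type u} [CommRing R] {M : Type v} [AddCommGroup M] [Module R M]

/-- Multilinearity of the determinant in the rows, in the form needed for ideals of
determinants. -/
theorem det_mem_of_rows_mem_span {n : ℕ} (J : Ideal R) (S : Fin n → Set (Fin n → R))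
    (h : ∀ a : Matrix (Fin n) (Fin n) R, (∀ i, a i ∈ S i) → a.det ∈ J)
    (a : Matrix (Fin n) (Fin n) R) (ha : ∀ i, a i ∈ Submodule.span R (S i)) : a.det ∈ J := by
  classical
  have key : ∀ t : Finset (Fin n), ∀ a : Matrix (Fin n) (Fin n) R,
      (∀ i ∈ t, a i ∈ Submodule.span R (S i)) → (∀ i, i ∉ t → a i ∈ S i) → a.det ∈ J := by
    intro t
    induction t using Finset.induction_on with
    | empty =>
      intro a _ h2
      exact h a fun i => h2 i (Finset.notMem_empty i)
    | insert i t hit ih =>
      intro a h1 h2
      have hv : ∀ v ∈ Submodule.span R (S i), (a.updateRow i v).det ∈ J := by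
        intro v hv
        induction hv using Submodule.span_induction with
        | mem v hv =>
          apply ih
          · intro j hj
            have hji : j ≠ i := fun e => hit (e ▸ hj)
            rw [updateRow_ne hji]
            exact h1 j (Finset.mem_insert_of_mem hj)
          · intro j hj
            by_cases hji : j = i
            · subst hji
              rw [updateRow_self]
              exact hv
            · rw [updateRow_ne hji]
              apply h2
              rw [Finset.mem_insert, not_or]
              exact ⟨hji, hj⟩
        | zero =>
          rw [det_eq_zero_of_row_eq_zero i (fun j => by simp)]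
          exact J.zero_mem
        | add u v _ _ hu hv =>
          rw [det_updateRow_add]
          exact J.add_mem hu hv
        | smul c v _ hv =>
          rw [det_updateRow_smul]
          exact J.mul_mem_left _ hv
      have := hv (a i) (h1 i (Finset.mem_insert_self i t))
      rwa [updateRow_eq_self] at this
  exact key Finset.univ a (fun i _ => ha i) (fun i hi => absurd (Finset.mem_univ i) hi)

/-- The module of relations among a tuple. -/
def rel {n : ℕ} (x : Fin n → M) : Submodule R (Fin n → R) :=
  LinearMap.ker (Fintype.linearCombination R x)

theorem mem_rel {n : ℕ} (x : Fin n → M) (r : Fin n → R) :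
    r ∈ rel x ↔ ∑ j, r j • x j = 0 := by
  rw [rel, LinearMap.mem_ker, Fintype.linearCombination_apply]

/-- The set of rows allowed at position `i`. -/
def rowSet (k : ℕ) {n : ℕ} (G : Set (Fin n → R)) (i : Fin n) : Set (Fin n → R) :=
  if (i : ℕ) < n - k then G else Set.range fun j : Fin n => (Pi.single j 1 : Fin n → R)

theorem span_single_eq_top {n : ℕ} :
    Submodule.span R (Set.range fun j : Fin n => (Pi.single j 1 : Fin n → R)) = ⊤ := by
  rw [eq_top_iff]
  rintro v -
  rw [pi_eq_sum_univ' v]
  apply Submodule.sum_mem
  intro j _
  exact Submodule.smul_mem _ _ (Submodule.subset_span ⟨j, rfl⟩)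

/-- If the relations among `x` are contained in the span of `G`, then `D k x` is contained in any
ideal containing the determinants with first `n - k` rows in `G` and the other rows standard
basis vectors. -/
theorem D_le_of_rel_le_span (k : ℕ) {n : ℕ} (x : Fin n → M) (G : Set (Fin n → R))
    (hG : rel x ≤ Submodule.span R G) (J : Ideal R)
    (h : ∀ a : Matrix (Fin n) (Fin n) R, (∀ i, a i ∈ rowSet k G i) → a.det ∈ J) :
    (D k x : Ideal R) ≤ J := by
  rw [D_le_iff]
  intro a ha
  apply det_mem_of_rows_mem_span J (rowSet k G) h
  intro i
  unfold rowSet
  split_ifs with hi
  · apply hG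
    rw [mem_rel]
    exact ha i hi
  · rw [span_single_eq_top]
    trivial

/-- Fitting ideals of a finitely presented module are finitely generated. -/
theorem ideal_fg_of_finitePresentation [Module.FinitePresentation R M] (k : ℕ) :
    (Fitt.ideal R M k).FG := by
  classical
  obtain ⟨n, x, hx⟩ := Module.Finite.exists_fin (R := R) (M := M)
  have hsurj : Function.Surjective (Fintype.linearCombination R x) := by
    rw [← LinearMap.range_eq_top, Fintype.range_linearCombination, hx]
  obtain ⟨G, hG⟩ := Module.FinitePresentation.fg_ker (Fintype.linearCombination R x) hsurj
  rw [ideal_eq_D k x hx]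
  -- the finite set of matrices
  let T : Set (Matrix (Fin n) (Fin n) R) := {a | ∀ i, a i ∈ rowSet k (G : Set (Fin n → R)) i}
  have hTfin : T.Finite := by
    have : T = Set.pi Set.univ (rowSet k (G : Set (Fin n → R))) := by
      ext a
      constructor
      · intro h i _
        exact h i
      · intro h i
        exact h i (Set.mem_univ i)
    rw [this]
    apply Set.Finite.pi
    intro i
    unfold rowSet
    split_ifs
    · exact G.finite_toSet
    · exact Set.finite_range _
  have heq : (D k x : Ideal R) = Ideal.span (Matrix.det '' T) := by
    apply le_antisymm
    · apply D_le_of_rel_le_span k x (G : Set (Fin n → R))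
      · rw [hG]
        exact le_rfl
      · intro a ha
        exact Ideal.subset_span ⟨a, ha, rfl⟩
    · rw [Ideal.span_le]
      rintro _ ⟨a, ha, rfl⟩
      apply det_mem_D
      intro i hi
      have := ha i
      unfold rowSet at this
      rw [if_pos hi] at this
      have hmem : a i ∈ rel x := by
        have : a i ∈ Submodule.span R (G : Set (Fin n → R)) := Submodule.subset_span this
        rw [hG] at this
        exact this
      exact (mem_rel x (a i)).mp hmem
  rw [heq]
  exact ⟨(hTfin.image _).toFinset, by rw [Set.Finite.coe_toFinset]⟩

end Groth.Agent.Lib.Fitting82
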