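import Groth.Agent.Lib.Fitting82C
import Mathlib.LinearAlgebra.TensorProduct.Tower
import Mathlib.Algebra.Exact.Basic

/-!
# Fitting ideals, part D (helper82): base change

* `span_one_tmul_eq_top`: `1 ⊗ x i` generate `R' ⊗ M` over `R'`.
* `rel_one_tmul_le`: relations among the `1 ⊗ x i` are `R'`-combinations of relations among `x i`.
* `D_baseChange`, `ideal_baseChange`: `Fit_k(R' ⊗ M) = Fit_k(M) R'`.
-/

set_option autoImplicit false

universe u v w

namespace Groth.Agent.Lib.Fitting82

open Matrix TensorProduct

variable {R : Type u} [CommRing R] {M : Type v} [AddCommGroup M] [Module R M]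
variable (R' : Type w) [CommRing R'] [Algebra R R']

theorem span_one_tmul_eq_top {n : ℕ} (x : Fin n → M)
    (hx : Submodule.span R (Set.range x) = ⊤) :
    Submodule.span R' (Set.range fun i => (1 : R') ⊗ₜ[R] x i) = ⊤ := by
  have h1 := Submodule.baseChange_span (R := R) (A := R') (Set.range x)
  rw [hx, Submodule.baseChange_top] at h1
  rw [h1]
  congr 1
  ext t
  simp only [Set.mem_range, Set.mem_image]
  constructor
  · rintro ⟨i, rfl⟩
    exact ⟨x i, ⟨i, rfl⟩, rfl⟩
  · rintro ⟨_, ⟨i, rfl⟩, rfl⟩
    exact ⟨i, rfl⟩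

/-- extension of scalars on row vectors -/
def extRow {n : ℕ} (r : Fin n → R) : Fin n → R' := fun j => algebraMap R R' (r j)

theorem rel_one_tmul_le {n : ℕ} (x : Fin n → M) (hx : Submodule.span R (Set.range x) = ⊤) :
    rel (R := R') (fun i => (1 : R') ⊗ₜ[R] x i) ≤
      Submodule.span R' (extRow R' '' ((rel (R := R) x : Submodule R (Fin n → R)) : Set (Fin n → R))) := by
  classical
  intro v hv
  rw [mem_rel] at hv
  set φ := Fintype.linearCombination R x with hφ
  have hsurj : Function.Surjective φ := by
    rw [← LinearMap.range_eq_top, hφ, Fintype.range_linearCombination, hx]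
  -- the element of `R' ⊗ Rⁿ` corresponding to `v`
  set w : R' ⊗[R] (Fin n → R) := ∑ j, v j ⊗ₜ[R] (Pi.single j 1 : Fin n → R) with hw
  have hw0 : (LinearMap.lTensor R' φ) w = 0 := by
    rw [hw, map_sum, ← hv]
    apply Finset.sum_congr rfl
    intro j _
    rw [LinearMap.lTensor_tmul, hφ, Fintype.linearCombination_apply_single, one_smul,
      TensorProduct.smul_tmul', smul_eq_mul, mul_one]
  have hexact := lTensor_exact R' (LinearMap.exact_subtype_ker_map φ) hsurj
  obtain ⟨t, ht⟩ := (hexact w).mp hw0
  -- transport to row vectors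
  set Ψ := TensorProduct.piScalarRightHom R R' R' (Fin n) with hΨ
  have hΨw : Ψ w = v := by
    rw [hw, map_sum]
    funext l
    rw [Finset.sum_apply]
    simp only [hΨ, TensorProduct.piScalarRightHom_tmul, Pi.single_apply, ite_smul, one_smul,
      zero_smul]
    rw [Finset.sum_ite_eq]
    simp
  rw [← hΨw, ← ht]
  clear ht
  -- induction on `t`
  induction t using TensorProduct.induction_on with
  | zero =>
    rw [map_zero, map_zero]
    exact Submodule.zero_mem _
  | tmul r' k =>
    rw [LinearMap.lTensor_tmul, hΨ, TensorProduct.piScalarRightHom_tmul]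
    have : (fun j => (LinearMap.ker φ).subtype k j • r') = r' • extRow R' (k : Fin n → R) := by
      funext j
      simp only [Submodule.subtype_apply, Pi.smul_apply, extRow, smul_eq_mul]
      rw [Algebra.smul_def, mul_comm]
    rw [this]
    exact Submodule.smul_mem _ _ (Submodule.subset_span ⟨k.1, k.2, rfl⟩)
  | add t₁ t₂ h₁ h₂ =>
    rw [map_add, map_add]
    exact Submodule.add_mem _ h₁ h₂

theorem D_baseChange (k : ℕ) {n : ℕ} (x : Fin n → M)
    (hx : Submodule.span R (Set.range x) = ⊤) :
    (D k (fun i => (1 : R') ⊗ₜ[R] x i) : Ideal R') = (D k x : Ideal R).map (algebraMap R R') := by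
  classical
  apply le_antisymm
  · apply D_le_of_rel_le_span k _ (extRow R' '' ((rel (R := R) x : Submodule R (Fin n → R)) : Set (Fin n → R)))
      (rel_one_tmul_le R' x hx)
    intro a' ha'
    have hb : ∀ i, ∃ b : Fin n → R, a' i = extRow R' b ∧ ((i : ℕ) < n - k → b ∈ rel x) := by
      intro i
      have := ha' i
      unfold rowSet at this
      split_ifs at this with hi
      · obtain ⟨b, hb, hb'⟩ := this
        exact ⟨b, hb'.symm, fun _ => hb⟩
      · obtain ⟨j, hj⟩ := this
        refine ⟨Pi.single j 1, ?_, fun h => absurd h hi⟩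
        rw [← hj]
        funext l
        simp [extRow, Pi.single_apply, apply_ite (algebraMap R R')]
    choose b hb1 hb2 using hb
    have ha'b : a' = (algebraMap R R').mapMatrix (Matrix.of b) := by
      ext i j
      rw [hb1 i]
      rfl
    rw [ha'b, ← RingHom.map_det]
    apply Ideal.mem_map_of_mem
    apply det_mem_D
    intro i hi
    exact (mem_rel x (b i)).mp (hb2 i hi)
  · rw [Ideal.map_le_iff_le_comap, D_le_iff]
    intro a ha
    rw [Ideal.mem_comap, RingHom.map_det]
    apply det_mem_D
    intro i hi
    have h1 := ha i hi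
    have h2 : ∀ j, ((algebraMap R R').mapMatrix a) i j • ((1 : R') ⊗ₜ[R] x j) =
        (1 : R') ⊗ₜ[R] (a i j • x j) := by
      intro j
      rw [RingHom.mapMatrix_apply, Matrix.map_apply, algebraMap_smul, TensorProduct.tmul_smul]
    simp_rw [h2]
    rw [← TensorProduct.tmul_sum, h1, TensorProduct.tmul_zero]

/-- Base change for Fitting ideals of finite modules. -/
theorem ideal_baseChange [Module.Finite R M] (k : ℕ) :
    Fitt.ideal R' (R' ⊗[R] M) k = (Fitt.ideal R M k).map (algebraMap R R') := by
  obtain ⟨n, x, hx⟩ := Module.Finite.exists_fin (R := R) (M := M)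
  rw [ideal_eq_D k x hx, ← D_baseChange R' k x hx,
    ideal_eq_D k _ (span_one_tmul_eq_top R' x hx)]

end Groth.Agent.Lib.Fitting82
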