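import Groth.Agent.Lib.Fitting82B
import Mathlib.LinearAlgebra.Matrix.Determinant.Basic
import Mathlib.LinearAlgebra.Matrix.Block
import Mathlib.Data.Finset.Sort
import Mathlib.Data.Fin.SuccPred

/-!
# Fitting ideals, part I (helper82): description by minors

* `det_mem_span_minors`: generalized Laplace expansion in ideal form: the determinant of a square
  matrix lies in the ideal generated by the `p × p` minors of its first `p` rows.
* `minor_mem_D`: a `(n - k) × (n - k)` minor of relation rows lies in `D k x`.
* `ideal_eq_span_minors`: `Fit_k(M)` is generated by the `(n - k)`-minors of relation vectors among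
  any generating `n`-tuple.
-/

set_option autoImplicit false

universe u v

namespace Groth.Agent.Lib.Fitting82

open Matrix

variable {R : Type u} [CommRing R] {M : Type v} [AddCommGroup M] [Module R M]

/-- Generalized Laplace expansion along the last `q` rows, in ideal form. -/
theorem det_mem_span_minors (q : ℕ) : ∀ (p N : ℕ) (h : p ≤ N) (_ : N = p + q)
    (B : Matrix (Fin N) (Fin N) R),
    B.det ∈ Ideal.span {d | ∃ e : Fin p → Fin N,
      d = (Matrix.of fun a b : Fin p => B (Fin.castLE h b) (e a)).det} := by
  induction q with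
  | zero =>
    intro p N h hN B
    have hNp : N = p := by omega
    subst hNp
    apply Ideal.subset_span
    refine ⟨id, ?_⟩
    rw [← det_transpose]
    congr 1
  | succ q ih =>
    intro p N h hN B
    obtain ⟨N', rfl⟩ : ∃ N', N = N' + 1 := ⟨p + q, by omega⟩
    have h' : p ≤ N' := by omega
    rw [det_succ_row B (Fin.last N')]
    apply sum_mem
    intro j _
    apply Ideal.mul_mem_left
    have hB := ih p N' h' (by omega) (B.submatrix (Fin.last N').succAbove j.succAbove)
    refine Ideal.span_mono ?_ hB
    rintro _ ⟨e', rfl⟩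
    refine ⟨fun a => j.succAbove (e' a), ?_⟩
    congr 1
    ext a b
    simp only [Matrix.of_apply, submatrix_apply, Fin.succAbove_last]
    congr 1

theorem minor_mem_D_aux (k : ℕ) {n : ℕ} (x : Fin n → M) (hk : k ≤ n)
    (z : Fin (n - k) → (Fin n → R)) (e : Fin (n - k) → Fin n)
    (hz : ∀ j, ∑ i, z j i • x i = 0) (he : Function.Injective e) :
    (Matrix.of fun a b => z b (e a)).det ∈ (D k x : Ideal R) := by
  classical
  -- the complement of the range of `e`
  set s : Finset (Fin n) := (Finset.univ.image e)ᶜ with hs
  have hcard : s.card = k := by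
    rw [hs, Finset.card_compl, Finset.card_image_of_injective _ he]
    simp only [Fintype.card_fin, Finset.card_univ]
    omega
  set c := s.orderEmbOfFin hcard with hc
  have hcs : ∀ t, c t ∈ s := fun t => Finset.orderEmbOfFin_mem s hcard t
  have hdisj : ∀ a t, e a ≠ c t := by
    intro a t heq
    have := hcs t
    rw [← heq, hs, Finset.mem_compl] at this
    exact this (Finset.mem_image_of_mem e (Finset.mem_univ a))
  -- the column equivalence
  have hτbij : Function.Bijective (Sum.elim e c) := by
    constructor
    · exact Function.Injective.sumElim he c.injective hdisj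
    · intro j
      by_cases hj : j ∈ Finset.univ.image e
      · obtain ⟨a, -, rfl⟩ := Finset.mem_image.mp hj
        exact ⟨Sum.inl a, rfl⟩
      · have hjs : j ∈ s := by rw [hs, Finset.mem_compl]; exact hj
        have : j ∈ Set.range c := by
          rw [hc, Finset.range_orderEmbOfFin]
          exact hjs
        obtain ⟨t, rfl⟩ := this
        exact ⟨Sum.inr t, rfl⟩
  let τ : Fin (n - k) ⊕ Fin k ≃ Fin n := Equiv.ofBijective _ hτbij
  let ρ : Fin (n - k) ⊕ Fin k ≃ Fin n := finSumFinEquiv.trans (finCongr (by omega))
  -- the block matrix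
  let A' : Matrix (Fin (n - k) ⊕ Fin k) (Fin (n - k) ⊕ Fin k) R :=
    Matrix.fromBlocks (Matrix.of fun b a => z b (e a)) (Matrix.of fun b t => z b (c t)) 0 1
  have hA'det : A'.det = (Matrix.of fun a b => z b (e a)).det := by
    rw [det_fromBlocks_zero₂₁, det_one, mul_one, ← det_transpose]
    rfl
  let A : Matrix (Fin n) (Fin n) R := Matrix.reindex ρ τ A'
  have hArow : ∀ b : Fin (n - k), A (ρ (Sum.inl b)) = z b := by
    intro b
    funext j
    obtain ⟨w, rfl⟩ := τ.surjective j
    simp only [A, Matrix.reindex_apply, submatrix_apply, Equiv.symm_apply_apply]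
    cases w with
    | inl a => rfl
    | inr t => rfl
  have hAmem : A.det ∈ (D k x : Ideal R) := by
    apply det_mem_D
    intro i hi
    have : i = ρ (Sum.inl ⟨i, hi⟩) := by
      apply Fin.ext
      simp [ρ]
    rw [this, hArow]
    exact hz _
  rw [show A.det = _ from det_reindex ρ τ A', hA'det] at hAmem
  set ε : R := ((Equiv.Perm.sign (τ.trans ρ.symm) : ℤˣ) : R) with hε
  have hεε : ε * ε = 1 := by
    rw [hε, ← Int.cast_mul, ← Units.val_mul, Int.units_mul_self, Units.val_one, Int.cast_one]
  have : (Matrix.of fun a b => z b (e a)).det =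
      ε * (ε * (Matrix.of fun a b => z b (e a)).det) := by
    rw [← mul_assoc, hεε, one_mul]
  rw [this]
  exact Ideal.mul_mem_left _ _ hAmem

theorem minor_mem_D (k : ℕ) {n : ℕ} (x : Fin n → M)
    (z : Fin (n - k) → (Fin n → R)) (e : Fin (n - k) → Fin n)
    (hz : ∀ j, ∑ i, z j i • x i = 0) :
    (Matrix.of fun a b => z b (e a)).det ∈ (D k x : Ideal R) := by
  classical
  by_cases hk : k ≤ n
  · by_cases he : Function.Injective e
    · exact minor_mem_D_aux k x hk z e hz he
    · rw [Function.Injective] at he
      push Not at he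
      obtain ⟨a₁, a₂, heq, hne⟩ := he
      rw [det_zero_of_row_eq hne (by funext b; simp [Matrix.of_apply, heq])]
      exact Ideal.zero_mem _
  · -- `D k x = ⊤`
    have : (1 : R) ∈ (D k x : Ideal R) := by
      have := det_mem_D k x (1 : Matrix (Fin n) (Fin n) R) (fun i hi => by omega)
      rwa [det_one] at this
    rw [(Ideal.eq_top_iff_one _).mpr this]
    trivial

/-- `Fit_k(M)` is generated by the `(n - k)`-minors of relation vectors among a generating
`n`-tuple. -/
theorem ideal_eq_span_minors {n : ℕ} (x : Fin n → M)
    (hx : Submodule.span R (Set.range x) = ⊤) (k : ℕ) :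
    Fitt.ideal R M k = Ideal.span {d | ∃ (z : Fin (n - k) → (Fin n → R)) (e : Fin (n - k) → Fin n),
      (∀ j, ∑ i, z j i • x i = 0) ∧ d = (Matrix.of fun a b => z b (e a)).det} := by
  rw [ideal_eq_D k x hx]
  apply le_antisymm
  · rw [D_le_iff]
    intro a ha
    by_cases hk : k ≤ n
    · have h1 := det_mem_span_minors k (n - k) n (by omega) (by omega) a
      refine Ideal.span_mono ?_ h1
      rintro _ ⟨e, rfl⟩
      refine ⟨fun b => a (Fin.castLE (by omega) b), e, ?_, rfl⟩
      intro j
      apply ha
      simp
    · have h0 : n - k = 0 := by omega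
      haveI : IsEmpty (Fin (n - k)) := by rw [h0]; infer_instance
      have h1 : (1 : R) ∈ Ideal.span {d | ∃ (z : Fin (n - k) → (Fin n → R))
          (e : Fin (n - k) → Fin n),
          (∀ j, ∑ i, z j i • x i = 0) ∧ d = (Matrix.of fun a b => z b (e a)).det} := by
        apply Ideal.subset_span
        refine ⟨fun b => isEmptyElim b, fun b => isEmptyElim b, fun j => isEmptyElim j, ?_⟩
        rw [det_isEmpty]
      rw [(Ideal.eq_top_iff_one _).mpr h1]
      trivial
  · rw [Ideal.span_le]
    rintro _ ⟨z, e, hz, rfl⟩
    exact minor_mem_D k x z e hz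

end Groth.Agent.Lib.Fitting82
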