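import Groth.Agent.Lib.Fitting82I
import Groth.Agent.Lib.Fitting82C
import Mathlib.LinearAlgebra.Basis.Defs
import Mathlib.LinearAlgebra.Dual.Basis

/-!
# Fitting ideals, part J (helper82): Fitting ideals of a cokernel via minors of the matrix

* `ideal_quotient_span_eq`: for a free module `P` with basis `bP : Basis (Fin n) R P` and a family
  `g : ι → P`, `Fit_k(P ⧸ span (range g))` is generated by the `(n - k)`-minors of the coordinate
  matrix of `g`.
* `minors S q`: the set of `q × q` minors (with arbitrary, possibly repeated, row/column choices)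
  of a rectangular matrix, `minors_transpose`.
* `ideal_coker_eq_span_minors`: `Fit_k(coker σ) = I_{n-k}(matrix of σ)` for `σ : R^m → R^n`.
* `ideal_coker_dualMap_eq_span_minors`: `Fit_k(coker σᵛ) = I_{m-k}(matrix of σ)`.
-/

set_option autoImplicit false

universe u v w

namespace Groth.Agent.Lib.Fitting82

open Matrix

variable {R : Type u} [CommRing R]

/-- The set of `q × q` minors of a rectangular matrix (arbitrary index choices). -/
def minors {n m : Type*} (S : Matrix n m R) (q : ℕ) : Set R :=
  {d | ∃ (e : Fin q → n) (f : Fin q → m), d = (Matrix.of fun a b => S (e a) (f b)).det}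

theorem minors_transpose {n m : Type*} (S : Matrix n m R) (q : ℕ) :
    minors Sᵀ q = minors S q := by
  ext d
  constructor
  · rintro ⟨e, f, rfl⟩
    refine ⟨f, e, ?_⟩
    rw [← det_transpose]
    rfl
  · rintro ⟨e, f, rfl⟩
    refine ⟨f, e, ?_⟩
    rw [← det_transpose]
    rfl

/-- A minor of size exceeding the number of columns vanishes. -/
theorem minors_eq_zero_of_lt {n : Type*} {m : ℕ} (S : Matrix n (Fin m) R) (q : ℕ) (hq : m < q) :
    ∀ d ∈ minors S q, d = 0 := by
  rintro _ ⟨e, f, rfl⟩
  have hf : ¬ Function.Injective f := by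
    intro hf
    have := Fintype.card_le_of_injective f hf
    simp at this
    omega
  rw [Function.Injective] at hf
  push Not at hf
  obtain ⟨b₁, b₂, heq, hne⟩ := hf
  exact det_zero_of_column_eq hne (by intro a; simp [Matrix.of_apply, heq])

variable {P : Type v} [AddCommGroup P] [Module R P]

/-- Fitting ideals of a quotient of a free module by the span of a family, via minors of the
coordinate matrix of the family. -/
theorem ideal_quotient_span_eq {n : ℕ} (bP : Module.Basis (Fin n) R P) {ι : Type w} (g : ι → P)
    (k : ℕ) :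
    Fitt.ideal R (P ⧸ Submodule.span R (Set.range g)) k =
      Ideal.span {d | ∃ (e : Fin (n - k) → Fin n) (f : Fin (n - k) → ι),
        d = (Matrix.of fun a b => bP.repr (g (f b)) (e a)).det} := by
  classical
  set N := Submodule.span R (Set.range g) with hN
  set x : Fin n → P ⧸ N := fun i => N.mkQ (bP i) with hx
  have hxspan : Submodule.span R (Set.range x) = ⊤ := by
    have : Set.range x = N.mkQ '' Set.range bP := by
      rw [← Set.range_comp]; rfl
    rw [this, ← Submodule.map_span, bP.span_eq, Submodule.map_top, Submodule.range_mkQ]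
  have hrel : ∀ r : Fin n → R, (∑ i, r i • x i = 0) ↔ (∑ i, r i • bP i) ∈ N := by
    intro r
    rw [← Submodule.Quotient.mk_eq_zero N, ← Submodule.mkQ_apply, map_sum]
    simp only [map_smul, hx]
  rw [ideal_eq_span_minors x hxspan k]
  apply le_antisymm
  · rw [Ideal.span_le]
    rintro _ ⟨z, e, hz, rfl⟩
    set J := Ideal.span {d | ∃ (e : Fin (n - k) → Fin n) (f : Fin (n - k) → ι),
        d = (Matrix.of fun a b => bP.repr (g (f b)) (e a)).det} with hJ
    -- the linear map `L : P → (Fin (n-k) → R)`
    let L : P →ₗ[R] (Fin (n - k) → R) :=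
      { toFun := fun v a => bP.repr v (e a)
        map_add' := fun v w => by funext a; simp
        map_smul' := fun c v => by funext a; simp }
    have hv : ∀ j, z j = fun i => bP.repr (∑ i, z j i • bP i) i := by
      intro j
      funext i
      rw [bP.repr_sum_self]
    have hrow : ∀ b, (fun a => z b (e a)) = L (∑ i, z b i • bP i) := by
      intro b
      funext a
      change z b (e a) = bP.repr (∑ i, z b i • bP i) (e a)
      rw [bP.repr_sum_self]
    rw [SetLike.mem_coe, ← det_transpose]
    apply det_mem_of_rows_mem_span J (fun _ => L '' Set.range g)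
    · intro a ha
      have ha' : ∀ i, ∃ c : ι, L (g c) = a i := by
        intro i
        obtain ⟨_, ⟨c, rfl⟩, h⟩ := ha i
        exact ⟨c, h⟩
      choose f' hf' using ha'
      have : a = (Matrix.of fun a b => bP.repr (g (f' b)) (e a))ᵀ := by
        ext i c
        rw [transpose_apply, Matrix.of_apply, ← hf' i]
        rfl
      rw [this, det_transpose]
      exact Ideal.subset_span ⟨e, f', rfl⟩
    · intro b
      rw [← Submodule.map_span]
      refine ⟨∑ i, z b i • bP i, (hrel _).1 (hz b), ?_⟩
      rw [← hrow b]
      rfl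
  · rw [Ideal.span_le]
    rintro _ ⟨e, f, rfl⟩
    apply Ideal.subset_span
    refine ⟨fun b i => bP.repr (g (f b)) i, e, ?_, rfl⟩
    intro j
    rw [hrel]
    have : ∑ i, (bP.repr (g (f j))) i • bP i = g (f j) := bP.sum_repr _
    rw [this]
    exact Submodule.subset_span ⟨f j, rfl⟩

/-- `Fit_k(coker σ)` is generated by the `(n - k)`-minors of the matrix of `σ : R^m → R^n`. -/
theorem ideal_coker_eq_span_minors {m n : ℕ} (σ : (Fin m → R) →ₗ[R] (Fin n → R)) (k : ℕ) :
    Fitt.ideal R ((Fin n → R) ⧸ LinearMap.range σ) k =
      Ideal.span (minors (LinearMap.toMatrix' σ) (n - k)) := by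
  classical
  have hrange : LinearMap.range σ =
      Submodule.span R (Set.range fun b : Fin m => σ (Pi.single b 1)) := by
    have : (Set.range fun b : Fin m => σ (Pi.single b 1)) =
        σ '' Set.range (fun b : Fin m => (Pi.single b 1 : Fin m → R)) := by
      rw [← Set.range_comp]; rfl
    rw [this, ← Submodule.map_span, span_single_eq_top, Submodule.map_top]
  rw [hrange, ideal_quotient_span_eq (Pi.basisFun R (Fin n))]
  congr 1

/-- `Fit_k(coker σᵛ)` is generated by the `(m - k)`-minors of the matrix of `σ : R^m → R^n`. -/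
theorem ideal_coker_dualMap_eq_span_minors {m n : ℕ} (σ : (Fin m → R) →ₗ[R] (Fin n → R))
    (k : ℕ) :
    Fitt.ideal R (Module.Dual R (Fin m → R) ⧸ LinearMap.range σ.dualMap) k =
      Ideal.span (minors (LinearMap.toMatrix' σ) (m - k)) := by
  classical
  set bn := (Pi.basisFun R (Fin n)).dualBasis with hbn
  set bm := (Pi.basisFun R (Fin m)).dualBasis with hbm
  have hrange : LinearMap.range σ.dualMap =
      Submodule.span R (Set.range fun i : Fin n => σ.dualMap (bn i)) := by
    have : (Set.range fun i : Fin n => σ.dualMap (bn i)) = σ.dualMap '' Set.range bn := by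
      rw [← Set.range_comp]; rfl
    rw [this, ← Submodule.map_span, bn.span_eq, Submodule.map_top]
  rw [hrange, ideal_quotient_span_eq bm, ← minors_transpose]
  congr 1
  ext d
  constructor
  · rintro ⟨e, f, rfl⟩
    refine ⟨e, f, ?_⟩
    congr 1
    ext a b
    simp [hbm, hbn, Module.Basis.dualBasis_repr, LinearMap.toMatrix'_apply]
  · rintro ⟨e, f, rfl⟩
    refine ⟨e, f, ?_⟩
    congr 1
    ext a b
    simp [hbm, hbn, Module.Basis.dualBasis_repr, LinearMap.toMatrix'_apply]

end Groth.Agent.Lib.Fitting82
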