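import Groth.Agent.Lib.Fitting82J
import Mathlib.LinearAlgebra.Determinant

/-!
# Fitting ideals, part K (helper82): square presentations

* `span_minors_full`: the ideal generated by all `n × n` "minors" (arbitrary index choices) of a
  square `n × n` matrix is generated by its determinant.
* `ideal_zero_quotient_span_eq`: `Fit_0(P ⧸ span (range g)) = (det of the coordinate matrix)` for a
  free module `P` of rank `n` and an `n`-tuple `g`.
* `ideal_zero_coker_square`: `Fit_0(coker σ) = (det σ)` for `σ : R^n → R^n`.
-/

set_option autoImplicit false

universe u v w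

namespace Groth.Agent.Lib.Fitting82

open Matrix

variable {R : Type u} [CommRing R]

theorem submatrix_det_mem_span_det {n : ℕ} (S : Matrix (Fin n) (Fin n) R)
    (e f : Fin n → Fin n) :
    (Matrix.of fun a b => S (e a) (f b)).det ∈ Ideal.span {S.det} := by
  classical
  by_cases he : Function.Injective e
  · by_cases hf : Function.Injective f
    · let e' : Equiv.Perm (Fin n) := Equiv.ofBijective e (Finite.injective_iff_bijective.1 he)
      let f' : Equiv.Perm (Fin n) := Equiv.ofBijective f (Finite.injective_iff_bijective.1 hf)
      have : (Matrix.of fun a b => S (e a) (f b)) = (S.submatrix e' id).submatrix id f' := by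
        ext a b; rfl
      rw [this, det_permute', det_permute, ← mul_assoc]
      exact Ideal.mul_mem_left _ _ (Ideal.mem_span_singleton_self _)
    · rw [Function.Injective] at hf
      push Not at hf
      obtain ⟨b₁, b₂, heq, hne⟩ := hf
      have h0 : (Matrix.of fun a b => S (e a) (f b)).det = 0 :=
        det_zero_of_column_eq hne (by intro a; simp [Matrix.of_apply, heq])
      rw [h0]
      exact Ideal.zero_mem _
  · rw [Function.Injective] at he
    push Not at he
    obtain ⟨a₁, a₂, heq, hne⟩ := he
    have h0 : (Matrix.of fun a b => S (e a) (f b)).det = 0 :=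
      det_zero_of_row_eq hne (by funext b; simp [Matrix.of_apply, heq])
    rw [h0]
    exact Ideal.zero_mem _

theorem span_minors_full {n : ℕ} (S : Matrix (Fin n) (Fin n) R) :
    Ideal.span (minors S n) = Ideal.span {S.det} := by
  apply le_antisymm
  · rw [Ideal.span_le]
    rintro _ ⟨e, f, rfl⟩
    exact submatrix_det_mem_span_det S e f
  · rw [Ideal.span_le, Set.singleton_subset_iff]
    apply Ideal.subset_span
    exact ⟨id, id, rfl⟩

variable {P : Type v} [AddCommGroup P] [Module R P]

/-- `Fit_0` of the quotient of a free module of rank `n` by `n` elements is generated by the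
determinant of the coordinate matrix. -/
theorem ideal_zero_quotient_span_eq {n : ℕ} (bP : Module.Basis (Fin n) R P) (g : Fin n → P) :
    Fitt.ideal R (P ⧸ Submodule.span R (Set.range g)) 0 =
      Ideal.span {(Matrix.of fun a b => bP.repr (g b) a).det} := by
  rw [ideal_quotient_span_eq bP g 0, ← span_minors_full]
  rfl

/-- `Fit_0(coker σ) = (det σ)` for a square `σ`. -/
theorem ideal_zero_coker_square {n : ℕ} (σ : (Fin n → R) →ₗ[R] (Fin n → R)) :
    Fitt.ideal R ((Fin n → R) ⧸ LinearMap.range σ) 0 = Ideal.span {LinearMap.det σ} := by
  rw [ideal_coker_eq_span_minors, Nat.sub_zero, span_minors_full, LinearMap.det_toMatrix']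

end Groth.Agent.Lib.Fitting82
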