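import Groth.Agent.Lib.Fitting82G
import Groth.Agent.Lib.Fitting82L
import Mathlib.RingTheory.Ideal.Operations
import Mathlib.LinearAlgebra.Dimension.Free

/-!
# Fitting ideals, part M (helper82): quotients by power torsion; local freeness away from `V(a)`

* `ideal_quotient_eq_bot_of_torsion`: if `f` is a nonzerodivisor, `T ≤ M` consists of `f`-power
  torsion elements and `Fit_j(M) = ⊥`, then `Fit_j(M ⧸ T) = ⊥`.
* `exists_pow_mul_eq_zero_of_free_atPrime`: if `M_𝔭` is free of rank `k` for all primes `𝔭 ∌ a`
  and `j < k`, then every element of `Fit_j(M)` is killed by a power of `a`.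
-/

set_option autoImplicit false

universe u v

namespace Groth.Agent.Lib.Fitting82

open Matrix

variable {R : Type u} [CommRing R] {M : Type u} [AddCommGroup M] [Module R M]

theorem ideal_quotient_eq_bot_of_torsion [Module.Finite R M] (j : ℕ) (f : R)
    (hf : f ∈ nonZeroDivisors R) (T : Submodule R M)
    (hT : ∀ t ∈ T, ∃ n : ℕ, f ^ n • t = 0) (h : Fitt.ideal R M j = ⊥) :
    Fitt.ideal R (M ⧸ T) j = ⊥ := by
  classical
  obtain ⟨n, x, hx⟩ := Module.Finite.exists_fin (R := R) (M := M)
  have hxbar : Submodule.span R (Set.range (T.mkQ ∘ x)) = ⊤ := by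
    rw [Set.range_comp, ← Submodule.map_span, hx, Submodule.map_top, Submodule.range_mkQ]
  rw [ideal_eq_D j (T.mkQ ∘ x) hxbar, eq_bot_iff, D_le_iff]
  intro A hA
  have hrow : ∀ i : Fin n, (i : ℕ) < n - j → ∃ N : ℕ, f ^ N • ∑ l, A i l • x l = 0 := by
    intro i hi
    apply hT
    rw [← Submodule.Quotient.mk_eq_zero, ← Submodule.mkQ_apply, map_sum]
    simpa using hA i hi
  choose! Nf hNf using hrow
  set N := Finset.univ.sup Nf with hN
  have hrow' : ∀ i : Fin n, (i : ℕ) < n - j → f ^ N • ∑ l, A i l • x l = 0 := by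
    intro i hi
    have hle : Nf i ≤ N := Finset.le_sup (Finset.mem_univ i)
    rw [← Nat.sub_add_cancel hle, pow_add, mul_smul, hNf i hi, smul_zero]
  set d : Fin n → R := fun i => if (i : ℕ) < n - j then f ^ N else 1 with hd
  have hdet : (Matrix.diagonal d * A).det ∈ (D j x : Ideal R) := by
    apply det_mem_D
    intro i hi
    have : ∀ l, (Matrix.diagonal d * A) i l = f ^ N * A i l := by
      intro l
      rw [Matrix.diagonal_mul, hd]
      simp only [if_pos hi]
    simp only [this, mul_smul]
    rw [← Finset.smul_sum]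
    exact hrow' i hi
  rw [← ideal_eq_D j x hx, h, Ideal.mem_bot, Matrix.det_mul, Matrix.det_diagonal] at hdet
  have hprod : ∏ i, d i ∈ nonZeroDivisors R := by
    apply prod_mem
    intro i _
    rw [hd]
    dsimp only
    split_ifs
    · exact pow_mem hf N
    · exact one_mem _
  rw [Ideal.mem_bot]
  exact (mul_left_mem_nonZeroDivisors_eq_zero_iff hprod).1 hdet

theorem exists_pow_mul_eq_zero_of_free_atPrime [Module.Finite R M] (k j : ℕ) (hj : j < k) (a : R)
    (hfree : ∀ (p : Ideal R) [p.IsPrime], a ∉ p →
      Module.Free (Localization.AtPrime p) (LocalizedModule p.primeCompl M) ∧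
        Module.finrank (Localization.AtPrime p) (LocalizedModule p.primeCompl M) = k)
    (x : R) (hx : x ∈ Fitt.ideal R M j) : ∃ n : ℕ, a ^ n * x = 0 := by
  classical
  -- the annihilator of `x`
  set J : Ideal R := Ideal.span {x} with hJ
  have hrad : a ∈ (Submodule.annihilator J).radical := by
    rw [Ideal.radical_eq_sInf, Ideal.mem_sInf]
    intro p hpp
    obtain ⟨hp, hpprime⟩ := hpp
    by_contra hap
    obtain ⟨hfr, hrank⟩ := hfree p hap
    have b : Module.Basis (Fin k) (Localization.AtPrime p) (LocalizedModule p.primeCompl M) :=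
      Module.finBasisOfFinrankEq _ _ hrank
    have hbot := ideal_eq_bot_of_basis b j hj
    rw [ideal_localizedModule] at hbot
    have hx0 : algebraMap R (Localization.AtPrime p) x = 0 := by
      have : algebraMap R (Localization.AtPrime p) x ∈
          (Fitt.ideal R M j).map (algebraMap R (Localization.AtPrime p)) :=
        Ideal.mem_map_of_mem _ hx
      rw [hbot] at this
      exact this
    rw [IsLocalization.map_eq_zero_iff p.primeCompl] at hx0
    obtain ⟨s, hs⟩ := hx0
    apply s.2
    apply hp
    rw [Submodule.mem_annihilator]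
    intro y hy
    obtain ⟨c, rfl⟩ := Ideal.mem_span_singleton'.1 hy
    rw [smul_eq_mul, mul_comm c x, ← mul_assoc, hs, zero_mul]
  obtain ⟨n, hn⟩ := hrad
  refine ⟨n, ?_⟩
  rw [Submodule.mem_annihilator] at hn
  exact hn x (Ideal.mem_span_singleton_self x)

end Groth.Agent.Lib.Fitting82
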