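import Groth.Agent.Lib.Fitting82D
import Groth.Agent.Lib.Fitting82F
import Groth.Agent.Lib.Fitting82G
import Mathlib.Algebra.Category.ModuleCat.ChangeOfRings

/-!
# Fitting ideals, part N (helper82): extension of scalars in `ModuleCat`; freeness over local rings

* `ideal_extendScalars`: `Fit_k((ModuleCat.extendScalars f).obj M) = Fit_k(M) S`.
* `free_of_ideal_eq_bot_of_eq_top`: over a local ring, `Fit_{r-1}(M) = ⊥` (or `r = 0`) and
  `Fit_r(M) = ⊤` imply `M` free.
-/

set_option autoImplicit false

universe u

namespace Groth.Agent.Lib.Fitting82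

open TensorProduct

theorem ideal_extendScalars {R S : Type u} [CommRing R] [CommRing S] (f : R →+* S)
    (M : Type u) [AddCommGroup M] [Module R M] [Module.Finite R M] (k : ℕ) :
    Fitt.ideal S ((ModuleCat.extendScalars f).obj (ModuleCat.of R M)) k =
      (Fitt.ideal R M k).map f := by
  letI := f.toAlgebra
  exact ideal_baseChange (R := R) (M := M) S k

theorem free_of_ideal_eq_bot_of_eq_top {R : Type u} [CommRing R] [IsLocalRing R]
    (M : Type u) [AddCommGroup M] [Module R M] [Module.Finite R M] (r : ℕ)
    (hbot : r = 0 ∨ Fitt.ideal R M (r - 1) = ⊥) (htop : Fitt.ideal R M r = ⊤) :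
    Module.Free R M := by
  classical
  have hnle : ¬ Fitt.ideal R M r ≤ IsLocalRing.maximalIdeal R := by
    rw [htop]
    intro h
    exact (IsLocalRing.maximalIdeal.isMaximal R).ne_top (top_le_iff.mp h)
  obtain ⟨n, x, a, hx, ha, hdet⟩ := exists_det_notMem_of_not_le r _ hnle
  have hunit : IsUnit a.det := by
    by_contra h
    exact hdet ((IsLocalRing.mem_maximalIdeal _).2 h)
  obtain ⟨g, hg⟩ := exists_span_of_isUnit_det (R' := R) (LinearMap.id : M →ₗ[R] M) r x
    (by simpa using hx) a ha (by simpa using hunit)
  rcases hbot with rfl | hbot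
  · haveI : Subsingleton M := by
      have : (⊤ : Submodule R M) = ⊥ := by
        rw [← hg]
        simp
      exact (Submodule.subsingleton_iff R).mp (subsingleton_of_bot_eq_top this.symm)
    exact Module.Free.of_subsingleton R M
  · rcases Nat.eq_zero_or_pos r with rfl | hr
    · haveI : Subsingleton M := by
        have : (⊤ : Submodule R M) = ⊥ := by
          rw [← hg]
          simp
        exact (Submodule.subsingleton_iff R).mp (subsingleton_of_bot_eq_top this.symm)
      exact Module.Free.of_subsingleton R M
    · have hli := linearIndependent_of_ideal_eq_bot g hg hr hbot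
      exact Module.Free.of_basis (Module.Basis.mk hli hg.ge)

end Groth.Agent.Lib.Fitting82
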