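import Groth.Agent.Lib.Fitting82E
import Groth.Agent.Lib.Fitting82N
import Groth.Agent.Lib.LocFreeRank

set_option autoImplicit false

universe u

namespace Groth.Agent.Lib.Fitting82

open CategoryTheory AlgebraicGeometry TopologicalSpace Opposite
open Groth.Agent.Lib.QCohStalk

section LocalAlg

variable {R : Type u} [CommRing R] [IsLocalRing R]
variable (M : Type u) [AddCommGroup M] [Module R M]

/-- Over a local ring, `Fit_k(M) = ⊤` iff `M` is generated by `k` elements. -/
theorem ideal_eq_top_iff_exists_span (k : ℕ) :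
    Fitt.ideal R M k = ⊤ ↔ ∃ g : Fin k → M, Submodule.span R (Set.range g) = ⊤ := by
  constructor
  · intro htop
    have hnle : ¬ Fitt.ideal R M k ≤ IsLocalRing.maximalIdeal R := by
      rw [htop]
      intro h
      exact (IsLocalRing.maximalIdeal.isMaximal R).ne_top (top_le_iff.mp h)
    obtain ⟨n, x, a, hx, ha, hdet⟩ := exists_det_notMem_of_not_le k _ hnle
    have hunit : IsUnit a.det := by
      by_contra h
      exact hdet ((IsLocalRing.mem_maximalIdeal _).2 h)
    exact exists_span_of_isUnit_det (R' := R) (LinearMap.id : M →ₗ[R] M) k x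
      (by simpa using hx) a ha (by simpa using hunit)
  · rintro ⟨g, hg⟩
    exact ideal_eq_top_of_span g hg k le_rfl

/-- Over a local ring, the Fitting ideals detect free modules of rank `r`. -/
theorem basis_iff_ideal (r : ℕ) :
    Nonempty (Module.Basis (Fin r) R M) ↔
      ((∀ k, k < r → Fitt.ideal R M k = ⊥) ∧ (∀ k, r ≤ k → Fitt.ideal R M k = ⊤)) := by
  constructor
  · rintro ⟨b⟩
    exact ⟨fun k hk => ideal_eq_bot_of_basis b k hk,
      fun k hk => ideal_eq_top_of_span b b.span_eq k hk⟩
  · rintro ⟨hbot, htop⟩
    obtain ⟨g, hg⟩ := (ideal_eq_top_iff_exists_span M r).mp (htop r le_rfl)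
    rcases Nat.eq_zero_or_pos r with rfl | hr
    · haveI : Subsingleton M := by
        have : (⊤ : Submodule R M) = ⊥ := by
          rw [← hg]
          simp
        exact (Submodule.subsingleton_iff R).mp (subsingleton_of_bot_eq_top this.symm)
      exact ⟨Module.Basis.empty M⟩
    · have hli := linearIndependent_of_ideal_eq_bot g hg hr (hbot (r - 1) (by omega))
      exact ⟨Module.Basis.mk hli hg.ge⟩

end LocalAlg

section Stalk

variable {X : Scheme.{u}}

/-- The Fitting ideals of the stalk of a quasi-coherent module of finite type at a point of an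
affine open `U` are the extensions of the Fitting ideals of the module of sections over `U`. -/
theorem ideal_stalk (F : X.Modules) [F.IsQuasicoherent] [F.IsFiniteType] {U : X.Opens}
    (hU : IsAffineOpen U) (x : U) (k : ℕ) :
    Fitt.ideal (X.presheaf.stalk (x : X)) (F.presheaf.stalk (x : X)) k =
      (Fitt.ideal Γ(X, U) Γ(F, U) k).map (algebraMap Γ(X, U) (X.presheaf.stalk (x : X))) := by
  letI := moduleSectionStalk F x
  haveI := isScalarTower_sectionStalk F x
  haveI := hU.isLocalization_stalk x
  haveI := isLocalizedModule_germ F hU x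
  haveI : Module.Finite Γ(X, U) Γ(F, U) :=
    Groth.Agent.Lib.CohFinite.finite_sections_of_isAffineOpen F hU
  exact ideal_isLocalizedModule (X.presheaf.stalk (x : X))
    (hU.primeIdealOf x).asIdeal.primeCompl (germLinear F x) k

/-- A point lies outside the closed subset cut out by `Fit_k(F)` iff the `k`-th Fitting ideal of
the stalk is the unit ideal. -/
theorem notMem_support_sheafIdeal_iff (F : X.Modules) [F.IsQuasicoherent] [F.IsFiniteType]
    (x : X) (k : ℕ) :
    x ∉ (Fitt.sheafIdeal F k).support ↔
      Fitt.ideal (X.presheaf.stalk x) (F.presheaf.stalk x) k = ⊤ := by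
  obtain ⟨_, ⟨U, hU, rfl⟩, hxU, -⟩ :=
    X.isBasis_affineOpens.exists_subset_of_mem_open (Set.mem_univ x) isOpen_univ
  replace hU : IsAffineOpen U := hU
  rw [Groth.Agent.Lib.IdealSheafGeneric.mem_support_iff_le_primeIdealOf _ ⟨U, hU⟩ hU x hxU,
    sheafIdeal_ideal, ideal_stalk F hU ⟨x, hxU⟩ k]
  haveI := hU.isLocalization_stalk ⟨x, hxU⟩
  rw [← not_iff_not, not_not, ← ne_eq,
    IsLocalization.map_algebraMap_ne_top_iff_disjoint
      (hU.primeIdealOf ⟨x, hxU⟩).asIdeal.primeCompl]
  rw [Set.disjoint_left]
  constructor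
  · intro h a ha hI
    exact ha (h hI)
  · intro h a ha
    by_contra hp
    exact h hp ha

/-- A point lies outside the closed subset cut out by `Fit_k(F)` iff the stalk is generated by `k`
elements. -/
theorem notMem_support_sheafIdeal_iff_exists_span (F : X.Modules) [F.IsQuasicoherent]
    [F.IsFiniteType] (x : X) (k : ℕ) :
    x ∉ (Fitt.sheafIdeal F k).support ↔
      ∃ g : Fin k → F.presheaf.stalk x,
        Submodule.span (X.presheaf.stalk x) (Set.range g) = ⊤ := by
  rw [notMem_support_sheafIdeal_iff, ideal_eq_top_iff_exists_span]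

end Stalk

end Groth.Agent.Lib.Fitting82
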