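import Groth.Agent.Lib.Fitting82C
import Groth.Agent.Lib.Fitting82B
import Mathlib.LinearAlgebra.Matrix.Adjugate
import Mathlib.Algebra.Module.Projective

/-!
# Fitting ideals, part R (helper82): the relation module when `Fit_k = (f)`, `Fit_{k-1} = 0`

For generators `x : Fin n → M` with relation module `rel x ⊆ R^n`: if `D k x = (f)` with `f` a
nonzerodivisor and `D (k-1) x = 0` (or `k = 0`), then `rel x` is projective
(`rel_projective`).  The proof is global: each matrix `a` whose determinant is a generator
`d f` of `D k x` gives a factorisation of `d • id` on `rel x` through `R^n` (Cramer's rule), and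
the `d`'s generate the unit ideal.
-/

set_option autoImplicit false

universe u v

namespace Groth.Agent.Lib.Fitting82

open Matrix

variable {R : Type u} [CommRing R] {M : Type v} [AddCommGroup M] [Module R M]

/-- Cramer coefficients at a relation row position lie in `D k x`. -/
theorem cramer_apply_mem_D (k : ℕ) {n : ℕ} (x : Fin n → M) (a : Matrix (Fin n) (Fin n) R)
    (ha : ∀ i : Fin n, (i : ℕ) < n - k → ∑ j, a i j • x j = 0)
    (v : Fin n → R) (hv : ∑ j, v j • x j = 0) (j : Fin n) (hj : (j : ℕ) < n - k) :
    Matrix.cramer aᵀ v j ∈ (D k x : Ideal R) := by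
  rw [Matrix.cramer_transpose_apply]
  apply det_mem_D
  intro i hi
  by_cases hij : i = j
  · subst hij
    simpa [Matrix.updateRow_self] using hv
  · simpa [Matrix.updateRow_ne hij] using ha i hi

/-- Cramer coefficients at a non-relation row position vanish when `D (k-1) x = 0`. -/
theorem cramer_apply_eq_zero (k : ℕ) {n : ℕ} (x : Fin n → M)
    (hbot : k = 0 ∨ (D (k - 1) x : Ideal R) = ⊥) (a : Matrix (Fin n) (Fin n) R)
    (ha : ∀ i : Fin n, (i : ℕ) < n - k → ∑ j, a i j • x j = 0)
    (v : Fin n → R) (hv : ∑ j, v j • x j = 0) (j : Fin n) (hj : ¬ (j : ℕ) < n - k) :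
    Matrix.cramer aᵀ v j = 0 := by
  classical
  rcases Nat.eq_zero_or_pos k with rfl | hkpos
  · exact absurd (by have := j.2; omega) hj
  rcases hbot with rfl | hbot
  · omega
  rw [Matrix.cramer_transpose_apply]
  have hp : n - k < n := by have := j.2; omega
  let p' : Fin n := ⟨n - k, hp⟩
  let σ : Equiv.Perm (Fin n) := Equiv.swap j p'
  have hmem : ((a.updateRow j v).submatrix σ id).det ∈ (D (k - 1) x : Ideal R) := by
    apply det_mem_D
    intro i hi
    have hi' : (i : ℕ) ≤ n - k := by omega
    simp only [Matrix.submatrix_apply, id]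
    rcases Nat.lt_or_eq_of_le hi' with hlt | heq
    · have hij : i ≠ j := by
        intro h
        rw [h] at hlt
        exact hj hlt
      have hip : i ≠ p' := by
        intro h
        rw [h] at hlt
        simp [p'] at hlt
      have h1 : σ i = i := Equiv.swap_apply_of_ne_of_ne hij hip
      rw [h1]
      simpa [Matrix.updateRow_ne hij] using ha i hlt
    · have h1 : i = p' := Fin.ext heq
      rw [h1, Equiv.swap_apply_right]
      simpa [Matrix.updateRow_self] using hv
  rw [hbot, Ideal.mem_bot, Matrix.det_permute] at hmem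
  rcases Int.units_eq_one_or (Equiv.Perm.sign σ) with h | h
  · simpa [h] using hmem
  · simpa [h] using hmem

/-- Cramer's rule: `∑ j, cramer aᵀ v j • a j = det a • v`. -/
theorem sum_cramer_smul_row {n : ℕ} (a : Matrix (Fin n) (Fin n) R) (v : Fin n → R) :
    ∑ j, Matrix.cramer aᵀ v j • a j = a.det • v := by
  have h := Matrix.mulVec_cramer aᵀ v
  rw [Matrix.det_transpose] at h
  rw [← h]
  funext l
  simp only [Finset.sum_apply, Pi.smul_apply, smul_eq_mul, Matrix.mulVec, dotProduct,
    Matrix.transpose_apply]
  exact Finset.sum_congr rfl fun j _ => mul_comm _ _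

/-- A matrix whose determinant is `d f` gives a factorisation of `d • id` on the relation module
through a free module. -/
theorem exists_factor (k : ℕ) {n : ℕ} (x : Fin n → M) (f : R) (hf0 : f ∈ nonZeroDivisors R)
    (hfit : (D k x : Ideal R) = Ideal.span {f}) (hbot : k = 0 ∨ (D (k - 1) x : Ideal R) = ⊥)
    (a : Matrix (Fin n) (Fin n) R) (ha : ∀ i : Fin n, (i : ℕ) < n - k → ∑ j, a i j • x j = 0)
    (d : R) (hd : d * f = a.det) :
    ∃ (ρ : rel (R := R) x →ₗ[R] (Fin n → R)) (σ : (Fin n → R) →ₗ[R] rel (R := R) x),
      σ ∘ₗ ρ = d • LinearMap.id := by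
  classical
  have hw : ∀ (v : rel (R := R) x) (j : Fin n), ∃ c : R, c * f = Matrix.cramer aᵀ v.1 j := by
    intro v j
    have hv := (mem_rel (R := R) x v.1).mp v.2
    by_cases hj : (j : ℕ) < n - k
    · have := cramer_apply_mem_D k x a ha v.1 hv j hj
      rw [hfit] at this
      exact Ideal.mem_span_singleton'.mp this
    · exact ⟨0, by rw [zero_mul, cramer_apply_eq_zero k x hbot a ha v.1 hv j hj]⟩
  choose c hc using hw
  have hcancel : ∀ {y z : R}, y * f = z * f → y = z := fun h =>
    (mul_cancel_right_mem_nonZeroDivisors hf0).mp h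
  let ρ : rel (R := R) x →ₗ[R] (Fin n → R) :=
    { toFun := fun v j => c v j
      map_add' := by
        intro v v'
        funext j
        apply hcancel
        rw [Pi.add_apply, add_mul, hc, hc, hc, Submodule.coe_add, map_add, Pi.add_apply]
      map_smul' := by
        intro r v
        funext j
        apply hcancel
        rw [Pi.smul_apply, smul_eq_mul, mul_assoc, hc, hc, Submodule.coe_smul, map_smul,
          Pi.smul_apply, smul_eq_mul, RingHom.id_apply] }
  let rows : Fin n → rel (R := R) x := fun j =>
    if h : (j : ℕ) < n - k then ⟨a j, (mem_rel (R := R) x _).mpr (ha j h)⟩ else 0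
  let σ : (Fin n → R) →ₗ[R] rel (R := R) x := Fintype.linearCombination R rows
  refine ⟨ρ, σ, ?_⟩
  apply LinearMap.ext
  intro v
  apply Subtype.ext
  have hv := (mem_rel (R := R) x v.1).mp v.2
  -- multiply by `f`
  have key : f • ((σ (ρ v) : rel (R := R) x) : Fin n → R) = f • ((d • v : rel (R := R) x) : Fin n → R) := by
    have h1 : ((σ (ρ v) : rel (R := R) x) : Fin n → R) = ∑ j, c v j • ((rows j : rel (R := R) x) : Fin n → R) := by
      change ((Fintype.linearCombination R rows (ρ v) : rel (R := R) x) : Fin n → R) = _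
      rw [Fintype.linearCombination_apply, Submodule.coe_sum]
      rfl
    rw [h1, Finset.smul_sum]
    have h2 : ∀ j, f • c v j • ((rows j : rel (R := R) x) : Fin n → R) =
        Matrix.cramer aᵀ v.1 j • a j := by
      intro j
      rw [smul_smul, mul_comm, hc]
      by_cases hj : (j : ℕ) < n - k
      · simp only [rows, dif_pos hj]
      · rw [cramer_apply_eq_zero k x hbot a ha v.1 hv j hj, zero_smul, zero_smul]
    rw [Finset.sum_congr rfl fun j _ => h2 j, sum_cramer_smul_row, ← hd, Submodule.coe_smul,
      smul_smul, mul_comm]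
  funext l
  have := congrFun key l
  simp only [Pi.smul_apply, smul_eq_mul] at this
  exact (mul_cancel_left_mem_nonZeroDivisors hf0).mp this

/-- If `D k x = (f)` with `f` a nonzerodivisor and `D (k-1) x = 0` (or `k = 0`), the module of
relations among the generators `x` is projective. -/
theorem rel_projective (k : ℕ) {n : ℕ} (x : Fin n → M) (f : R) (hf0 : f ∈ nonZeroDivisors R)
    (hfit : (D k x : Ideal R) = Ideal.span {f}) (hbot : k = 0 ∨ (D (k - 1) x : Ideal R) = ⊥) :
    Module.Projective R (rel (R := R) x) := by
  classical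
  have hfmem : f ∈ (D k x : Ideal R) := by
    rw [hfit]
    exact Ideal.mem_span_singleton_self f
  rw [D, Ideal.span, Submodule.mem_span_set'] at hfmem
  obtain ⟨m, c, g, hsum⟩ := hfmem
  choose a ha hdet using fun i => (g i).2
  have hd : ∀ i, ∃ d, d * f = (a i).det := fun i =>
    Ideal.mem_span_singleton'.mp (hfit ▸ det_mem_D k x (a i) (ha i))
  choose d hd using hd
  have h1 : ∑ i, c i * d i = 1 := by
    have h2 : (∑ i, c i * d i) * f = 1 * f := by
      rw [Finset.sum_mul, one_mul]
      conv_rhs => rw [← hsum]
      apply Finset.sum_congr rfl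
      intro i _
      rw [mul_assoc, hd, hdet, smul_eq_mul]
    exact (mul_cancel_right_mem_nonZeroDivisors hf0).mp h2
  choose ρ σ hρσ using fun i => exists_factor k x f hf0 hfit hbot (a i) (ha i) (d i) (hd i)
  refine Module.Projective.of_split (LinearMap.pi ρ)
    (∑ i, c i • ((σ i).comp (LinearMap.proj i))) ?_
  apply LinearMap.ext
  intro v
  rw [LinearMap.comp_apply, LinearMap.sum_apply, LinearMap.id_apply]
  have h3 : ∀ i, (c i • ((σ i).comp (LinearMap.proj i))) (LinearMap.pi ρ v) = (c i * d i) • v := by
    intro i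
    rw [LinearMap.smul_apply, LinearMap.comp_apply, LinearMap.proj_apply, LinearMap.pi_apply]
    have := LinearMap.congr_fun (hρσ i) v
    rw [LinearMap.comp_apply] at this
    rw [this, LinearMap.smul_apply, LinearMap.id_apply, smul_smul]
  rw [Finset.sum_congr rfl fun i _ => h3 i, ← Finset.sum_smul, h1, one_smul]

end Groth.Agent.Lib.Fitting82
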