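import Groth.Agent.Lib.Fitting82Q
import Groth.Agent.Lib.H72PullbackStalk
import Mathlib.LinearAlgebra.TensorProduct.Basis

/-!
# Fitting ideals, part S (helper82): free stalks, pullbacks, vanishing of Fitting ideals

* `basis_of_isFinLocFreeOfRank`: stalks of a finite locally free module of rank `r` have a basis
  indexed by `Fin r` (no finite type hypothesis).
* `basis_of_basis_restrict`: transport a basis of a stalk of `F.restrict j` to the stalk of `F`.
* `basis_stalk_pullback`: a basis of `G_{h x}` gives a basis of `(h^*G)_x` (`G` quasi-coherent).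
* `ideal_sections_eq_bot_of_stalks`: for an affine open `U` and a nonzerodivisor `t ∈ Γ(X, U)`, if
  `Fit_j(F_y) = 0` for all `y ∈ D(t)` then `Fit_j(Γ(F, U)) = 0`.
-/

set_option autoImplicit false
set_option linter.style.haveILetI false

universe u

namespace Groth.Agent.Lib.Fitting82

open CategoryTheory AlgebraicGeometry TopologicalSpace Opposite
open Groth.Agent.Lib.QCohStalk
open Groth.Agent.Lib.ModStalk Groth.Agent.Lib.ModStalkLin Groth.Agent.Lib.FreeModSch
  Groth.Agent.Lib.FreeModStalk Groth.Agent.Lib.LocFreeRank Groth.Agent.Lib.RestrictStalk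
  Groth.Agent.Lib.ModStalkIso

variable {X Y : Scheme.{u}}

theorem basis_of_basis_restrict {U : Scheme.{u}} (j : U ⟶ X) [IsOpenImmersion j] (F : X.Modules)
    (y : U) {ι : Type*}
    (b : Module.Basis ι (U.presheaf.stalk y) ((F.restrict j).presheaf.stalk y)) :
    Nonempty (Module.Basis ι (X.presheaf.stalk (j y)) (F.presheaf.stalk (j y))) := by
  have hli := (linearIndependent_restrict_iff j F y b).mp b.linearIndependent
  have hsp := (span_restrict_eq_top_iff j F y b).mp b.span_eq
  exact ⟨Module.Basis.mk hli hsp.ge⟩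

theorem basis_of_isFinLocFreeOfRank (F : X.Modules) (r : ℕ)
    (h : FlatMod.IsFinLocFreeOfRank r F) (x : X) :
    Nonempty (Module.Basis (Fin r) (X.presheaf.stalk x) (F.presheaf.stalk x)) := by
  obtain ⟨U, hxU, ⟨e⟩⟩ := h x
  let y : U.toScheme := ⟨x, hxU⟩
  let b : Module.Basis (Fin r) (U.toScheme.presheaf.stalk y)
      ((F.restrict U.ι).presheaf.stalk y) :=
    (stalkBasis (n := r) y).map (stalkLinEquiv e y).symm
  exact basis_of_basis_restrict U.ι F y b

theorem basis_stalk_pullback (h : X ⟶ Y) (G : Y.Modules) [G.IsQuasicoherent] (x : X)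
    {ι : Type*} (b : Module.Basis ι (Y.presheaf.stalk (h x)) (G.presheaf.stalk (h x))) :
    Nonempty (Module.Basis ι (X.presheaf.stalk x)
      (((Scheme.Modules.pullback h).obj G).presheaf.stalk x)) := by
  letI : Algebra (Y.presheaf.stalk (h x)) (X.presheaf.stalk x) := (h.stalkMap x).hom.toAlgebra
  letI : Module (Y.presheaf.stalk (h x))
      (((Scheme.Modules.pullback h).obj G).presheaf.stalk x) :=
    Module.compHom _ (h.stalkMap x).hom
  haveI : IsScalarTower (Y.presheaf.stalk (h x)) (X.presheaf.stalk x)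
      (((Scheme.Modules.pullback h).obj G).presheaf.stalk x) :=
    .of_algebraMap_smul fun _ _ => rfl
  obtain ⟨τ, hτ⟩ := Groth.Agent.Lib.H72PullbackStalk.exists_isBaseChange_stalk_pullback h G x
  exact ⟨(b.baseChange (X.presheaf.stalk x)).map hτ.equiv⟩

/-- If the `j`-th Fitting ideals of all stalks over `D(t)` vanish and `t` is a nonzerodivisor, then
the `j`-th Fitting ideal of the module of sections vanishes. -/
theorem ideal_sections_eq_bot_of_stalks (F : X.Modules) [F.IsQuasicoherent] [F.IsFiniteType]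
    {U : X.Opens} (hU : IsAffineOpen U) (t : Γ(X, U)) (ht : t ∈ nonZeroDivisors Γ(X, U)) (j : ℕ)
    (h : ∀ y : X, y ∈ X.basicOpen t →
      Fitt.ideal (X.presheaf.stalk y) (F.presheaf.stalk y) j = ⊥) :
    Fitt.ideal Γ(X, U) Γ(F, U) j = ⊥ := by
  rw [eq_bot_iff]
  intro a ha
  rw [Ideal.mem_bot]
  -- the restriction of `a` to `D(t)` vanishes
  have hres : X.presheaf.map (homOfLE (X.basicOpen_le t)).op a = 0 := by
    apply TopCat.Presheaf.section_ext X.sheaf (X.basicOpen t)
    intro y hy
    have hyU : y ∈ U := X.basicOpen_le t hy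
    obtain ⟨y', rfl⟩ : ∃ y' : U, (y' : X) = y := ⟨⟨y, hyU⟩, rfl⟩
    have h2 := h (y' : X) hy
    rw [ideal_stalk F hU y' j] at h2
    have h3 : algebraMap Γ(X, U) (X.presheaf.stalk (y' : X)) a ∈
        (Fitt.ideal Γ(X, U) Γ(F, U) j).map (algebraMap Γ(X, U) (X.presheaf.stalk (y' : X))) :=
      Ideal.mem_map_of_mem _ ha
    rw [h2, Ideal.mem_bot] at h3
    have h4 := TopCat.Presheaf.germ_res_apply X.presheaf (homOfLE (X.basicOpen_le t)) (y' : X) hy a
    exact (h4.trans h3).trans (map_zero _).symm
  rw [← map_zero (X.presheaf.map (homOfLE (X.basicOpen_le t)).op).hom] at hres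
  obtain ⟨n, e⟩ := (hU.isLocalization_basicOpen t).exists_of_eq _ hres
  rw [mul_zero] at e
  exact (mul_left_mem_nonZeroDivisors_eq_zero_iff (pow_mem ht n)).mp e

end Groth.Agent.Lib.Fitting82
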