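import Groth.Agent.Lib.Fitting82I
import Groth.Agent.Lib.Fitting82C
import Mathlib.Algebra.Module.FinitePresentation
import Mathlib.LinearAlgebra.Multilinear.Basic

/-!
# Fitting ideals, part T (helper82): finite generation for finitely presented modules

* `det_cols_mem_span`: multilinear expansion of a determinant whose columns are linear
  combinations of given vectors.
(`ideal_fg_of_finitePresentation` lives in `Fitting82C`; the duplicate that used to be here was
removed.)
-/

set_option autoImplicit false

universe u v

namespace Groth.Agent.Lib.Fitting82

open Matrix

variable {R : Type u} [CommRing R] {M : Type v} [AddCommGroup M] [Module R M]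

/-- Multilinear expansion: a determinant whose columns are linear combinations of the vectors
`v l` lies in the ideal generated by the determinants with columns among the `v l`. -/
theorem det_cols_mem_span {q m : ℕ} (v : Fin m → (Fin q → R)) (c : Fin q → Fin m → R) :
    (Matrix.of fun a b : Fin q => ∑ l, c b l * v l a).det ∈
      Ideal.span (Set.range fun r : Fin q → Fin m => (Matrix.of fun a b : Fin q => v (r b) a).det) := by
  classical
  have h1 : (Matrix.of fun a b : Fin q => ∑ l, c b l * v l a).det =
      (Matrix.detRowAlternating (R := R) (n := Fin q)).toMultilinearMap
        (fun b => ∑ l, c b l • v l) := by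
    rw [← Matrix.det_transpose]
    change _ = Matrix.det (fun b => ∑ l, c b l • v l)
    congr 1
    ext b a
    simp [Matrix.transpose_apply, Finset.sum_apply]
  rw [h1, MultilinearMap.map_sum]
  apply Submodule.sum_mem
  intro r _
  rw [MultilinearMap.map_smul_univ]
  apply Ideal.mul_mem_left
  apply Ideal.subset_span
  refine ⟨r, ?_⟩
  change _ = Matrix.det (fun b => v (r b))
  rw [← Matrix.det_transpose]
  rfl

end Groth.Agent.Lib.Fitting82
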