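import Groth.Agent.Lib.H90OXModExact
import Groth.Agent.Lib.H90OXModExt

/-!
# The middle term of a five-term exact sequence

In an abelian category, for a property of objects closed under isomorphisms, kernels, cokernels
and extensions: the middle term of an exact sequence `A → B → E → C → D` with `A, B, C, D`
satisfying the property satisfies it.  Applied to quasi-coherent modules on a scheme.
-/

set_option autoImplicit false
universe u
open CategoryTheory CategoryTheory.Limits AlgebraicGeometry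

namespace Groth.Agent.Lib.FiveTermQCoh92

section Abstract

variable {𝒜 : Type*} [Category 𝒜] [Abelian 𝒜] (P : ObjectProperty 𝒜)
  [P.IsClosedUnderIsomorphisms]

theorem prop_of_fiveTerm
    (hker : ∀ {X Y : 𝒜} (f : X ⟶ Y), P X → P Y → P (kernel f))
    (hcoker : ∀ {X Y : 𝒜} (f : X ⟶ Y), P X → P Y → P (cokernel f))
    (hext : ∀ S : ShortComplex 𝒜, S.ShortExact → P S.X₁ → P S.X₃ → P S.X₂)
    {A B E C D : 𝒜} (f : A ⟶ B) (g : B ⟶ E) (h : E ⟶ C) (k : C ⟶ D)
    (w₁ : f ≫ g = 0) (w₂ : g ≫ h = 0) (w₃ : h ≫ k = 0)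
    (e₁ : (ShortComplex.mk f g w₁).Exact) (e₂ : (ShortComplex.mk g h w₂).Exact)
    (e₃ : (ShortComplex.mk h k w₃).Exact)
    (hA : P A) (hB : P B) (hC : P C) (hD : P D) : P E := by
  -- image factorisations
  let e' := Abelian.factorThruImage g
  let m' := Abelian.image.ι g
  have hg : e' ≫ m' = g := Abelian.image.fac g
  let e := Abelian.factorThruImage h
  let m := Abelian.image.ι h
  have hh : e ≫ m = h := Abelian.image.fac h
  -- `image g ≅ cokernel f`
  have wfe' : f ≫ e' = 0 := by
    apply (cancel_mono m').1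
    rw [Category.assoc, hg, w₁, zero_comp]
  have ex1 : (ShortComplex.mk f e' wfe').Exact := by
    let φ : ShortComplex.mk f e' wfe' ⟶ ShortComplex.mk f g w₁ :=
      { τ₁ := 𝟙 _
        τ₂ := 𝟙 _
        τ₃ := m'
        comm₁₂ := by simp
        comm₂₃ := by simp [hg] }
    have : Epi φ.τ₁ := inferInstanceAs (Epi (𝟙 A))
    have : IsIso φ.τ₂ := inferInstanceAs (IsIso (𝟙 B))
    have : Mono φ.τ₃ := inferInstanceAs (Mono m')
    exact (ShortComplex.exact_iff_of_epi_of_isIso_of_mono φ).2 e₁
  have hepi' : Epi (ShortComplex.mk f e' wfe').g := inferInstanceAs (Epi e')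
  have hI' : P (Abelian.image g) := by
    have hl : IsColimit (CokernelCofork.ofπ e' wfe') := ex1.gIsCokernel
    have i : cokernel f ≅ Abelian.image g :=
      IsColimit.coconePointUniqueUpToIso (cokernelIsCokernel f) hl
    exact P.prop_of_iso i (hcoker f hA hB)
  -- `image h ≅ kernel k`
  have wmk : m ≫ k = 0 := by
    apply (cancel_epi e).1
    rw [← Category.assoc, hh, w₃, comp_zero]
  have ex3 : (ShortComplex.mk m k wmk).Exact := by
    let φ : ShortComplex.mk h k w₃ ⟶ ShortComplex.mk m k wmk :=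
      { τ₁ := e
        τ₂ := 𝟙 _
        τ₃ := 𝟙 _
        comm₁₂ := by simp [hh]
        comm₂₃ := by simp }
    have : Epi φ.τ₁ := inferInstanceAs (Epi e)
    have : IsIso φ.τ₂ := inferInstanceAs (IsIso (𝟙 C))
    have : Mono φ.τ₃ := inferInstanceAs (Mono (𝟙 D))
    exact (ShortComplex.exact_iff_of_epi_of_isIso_of_mono φ).1 e₃
  have hmono : Mono (ShortComplex.mk m k wmk).f := inferInstanceAs (Mono m)
  have hI : P (Abelian.image h) := by
    have hl : IsLimit (KernelFork.ofι m wmk) := ex3.fIsKernel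
    have i : kernel k ≅ Abelian.image h :=
      IsLimit.conePointUniqueUpToIso (kernelIsKernel k) hl
    exact P.prop_of_iso i (hker k hC hD)
  -- the short exact sequence `0 → image g → E → image h → 0`
  have wm'h : m' ≫ h = 0 := by
    apply (cancel_epi e').1
    rw [← Category.assoc, hg, w₂, comp_zero]
  have ex2 : (ShortComplex.mk m' h wm'h).Exact := by
    let φ : ShortComplex.mk g h w₂ ⟶ ShortComplex.mk m' h wm'h :=
      { τ₁ := e'
        τ₂ := 𝟙 _
        τ₃ := 𝟙 _
        comm₁₂ := by simp [hg]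
        comm₂₃ := by simp }
    have : Epi φ.τ₁ := inferInstanceAs (Epi e')
    have : IsIso φ.τ₂ := inferInstanceAs (IsIso (𝟙 E))
    have : Mono φ.τ₃ := inferInstanceAs (Mono (𝟙 C))
    exact (ShortComplex.exact_iff_of_epi_of_isIso_of_mono φ).1 e₂
  have wm'e : m' ≫ e = 0 := by
    apply (cancel_mono m).1
    rw [Category.assoc, hh, wm'h, zero_comp]
  have ex2' : (ShortComplex.mk m' e wm'e).Exact := by
    let φ : ShortComplex.mk m' e wm'e ⟶ ShortComplex.mk m' h wm'h :=
      { τ₁ := 𝟙 _
        τ₂ := 𝟙 _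
        τ₃ := m
        comm₁₂ := by simp
        comm₂₃ := by simp [hh] }
    have : Epi φ.τ₁ := inferInstanceAs (Epi (𝟙 (Abelian.image g)))
    have : IsIso φ.τ₂ := inferInstanceAs (IsIso (𝟙 E))
    have : Mono φ.τ₃ := inferInstanceAs (Mono m)
    exact (ShortComplex.exact_iff_of_epi_of_isIso_of_mono φ).2 ex2
  have hse : (ShortComplex.mk m' e wm'e).ShortExact :=
    { exact := ex2'
      mono_f := inferInstanceAs (Mono m')
      epi_g := inferInstanceAs (Epi e) }
  exact hext _ hse hI' hI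

end Abstract

variable {X : Scheme.{u}}

/-- the middle term of an exact sequence `A → B → E → C → D` of `O_X`-modules with `A, B, C, D`
quasi-coherent is quasi-coherent -/
theorem isQuasicoherent_of_fiveTerm {A B E C D : X.Modules} (f : A ⟶ B) (g : B ⟶ E) (h : E ⟶ C)
    (k : C ⟶ D) (w₁ : f ≫ g = 0) (w₂ : g ≫ h = 0) (w₃ : h ≫ k = 0)
    (e₁ : (ShortComplex.mk f g w₁).Exact) (e₂ : (ShortComplex.mk g h w₂).Exact)
    (e₃ : (ShortComplex.mk h k w₃).Exact)
    (hA : A.IsQuasicoherent) (hB : B.IsQuasicoherent) (hC : C.IsQuasicoherent)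
    (hD : D.IsQuasicoherent) : E.IsQuasicoherent := by
  let P : ObjectProperty X.Modules := fun M => M.IsQuasicoherent
  have hP : P.IsClosedUnderIsomorphisms :=
    ⟨fun {M N} e (hM : M.IsQuasicoherent) =>
      (SheafOfModules.isQuasicoherent X.ringCatSheaf).prop_of_iso e hM⟩
  exact prop_of_fiveTerm P
    (fun {M N} φ (hM : M.IsQuasicoherent) (hN : N.IsQuasicoherent) =>
      Groth.Agent.Lib.H90OXModExact.isQuasicoherent_kernel φ)
    (fun {M N} φ (hM : M.IsQuasicoherent) (hN : N.IsQuasicoherent) =>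
      Groth.Agent.Lib.H90OXModExact.isQuasicoherent_cokernel φ)
    (fun S hS (h1 : S.X₁.IsQuasicoherent) (h3 : S.X₃.IsQuasicoherent) =>
      Groth.Agent.Lib.H90OXModExt.isQuasicoherent_of_shortExact hS)
    f g h k w₁ w₂ w₃ e₁ e₂ e₃ hA hB hC hD

end Groth.Agent.Lib.FiveTermQCoh92
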