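import Mathlib.RingTheory.IntegralClosure.IntegrallyClosed
import Mathlib.RingTheory.Localization.FractionRing
import Mathlib.Algebra.Algebra.Subalgebra.Basic
import Mathlib.RingTheory.Polynomial.Basic
import Mathlib.RingTheory.Polynomial.UniqueFactorization

/-!
# Subalgebras of fixed points of an integrally closed domain are integrally closed (helper38)
-/

set_option autoImplicit false
universe u v

namespace Groth.Agent.Lib.FixedIntClosed38

variable {k : Type u} [CommRing k] {R : Type v} [CommRing R] [IsDomain R] [Algebra k R]

/-- A subalgebra `S` of an integrally closed domain `R` such that `r b ∈ S`, `b ∈ S`, `b ≠ 0` imply `r ∈ S`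
(for instance the common fixed points of a family of endomorphisms) is integrally closed. -/
theorem isIntegrallyClosed_of_saturated [IsIntegrallyClosed R] (S : Subalgebra k R)
    (hS : ∀ r b : R, b ∈ S → b ≠ 0 → r * b ∈ S → r ∈ S) : IsIntegrallyClosed S := by
  rw [isIntegrallyClosed_iff (FractionRing S)]
  intro x hx
  obtain ⟨a, b, hb, rfl⟩ := IsFractionRing.div_surjective (A := S) x
  have hb0 : (b : R) ≠ 0 := by
    intro h
    exact (nonZeroDivisors.ne_zero hb) (Subtype.ext h)
  -- the map to the fraction field of `R`
  have hinj : Function.Injective (algebraMap S (FractionRing R)) := by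
    rw [IsScalarTower.algebraMap_eq S R (FractionRing R)]
    exact (IsFractionRing.injective R (FractionRing R)).comp Subtype.val_injective
  let g : S →ₐ[S] FractionRing R := Algebra.ofId S (FractionRing R)
  have hg : Function.Injective g := hinj
  let f : FractionRing S →ₐ[S] FractionRing R := IsFractionRing.liftAlgHom hg
  have h1 : IsIntegral S (f (algebraMap S (FractionRing S) a / algebraMap S (FractionRing S) b)) := hx.map f
  have h2 : IsIntegral R (f (algebraMap S (FractionRing S) a / algebraMap S (FractionRing S) b)) := h1.tower_top
  have h3 : f (algebraMap S (FractionRing S) a / algebraMap S (FractionRing S) b) =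
      algebraMap R (FractionRing R) (a : R) / algebraMap R (FractionRing R) (b : R) := by
    rw [map_div₀, AlgHom.commutes, AlgHom.commutes]
    rfl
  rw [h3] at h2
  obtain ⟨r, hr⟩ := IsIntegrallyClosed.isIntegral_iff.mp h2
  have hb' : algebraMap R (FractionRing R) (b : R) ≠ 0 := by
    intro h
    exact hb0 ((IsFractionRing.injective R (FractionRing R)) (by rw [h, map_zero]))
  have h4 : r * (b : R) = (a : R) := by
    apply IsFractionRing.injective R (FractionRing R)
    rw [map_mul, hr, div_mul_cancel₀ _ hb']
  have hrS : r ∈ S := hS r b b.2 hb0 (by rw [h4]; exact a.2)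
  refine ⟨⟨r, hrS⟩, ?_⟩
  have hbS : algebraMap S (FractionRing S) b ≠ 0 := by
    intro h
    exact (nonZeroDivisors.ne_zero hb) ((IsFractionRing.injective S (FractionRing S)) (by rw [h, map_zero]))
  rw [eq_div_iff hbS, ← map_mul]
  congr 1
  exact Subtype.ext h4

end Groth.Agent.Lib.FixedIntClosed38
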