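import Mathlib

/-!
# Injective abelian sheaves are flasque w.r.t. monomorphisms (helper34)

General site, arbitrary universes:
* `Zfree J : C ⥤ Sheaf J Ab` the free abelian sheaf on (ulifted) representables,
  `homEquiv : (ℤ[h_U] ⟶ F) ≃ F(U)`, `homEquiv_map` (naturality in `U`), `mono_Zfree_map`;
* `surjective_map_of_injective`: for an injective abelian sheaf `I` and a mono `g : V ⟶ U` of
  the site, `I(U) → I(V)` is surjective;
* `surjective_app_of_subsingleton_H_one`: on a site with terminal object `T`, a short exact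
  sequence of abelian sheaves with `H¹(S.X₁) = 0` is surjective on sections over `T`.
-/

open CategoryTheory Limits Opposite

universe w' w v u

namespace Groth.Agent.Lib.FlasqueInj34

variable {C : Type u} [Category.{v} C] (J : GrothendieckTopology C)
  [HasSheafify J AddCommGrpCat.{max w v}]

/-- the free abelian sheaf on a representable presheaf (universe lifted) -/
noncomputable abbrev Zfree : C ⥤ Sheaf J AddCommGrpCat.{max w v} :=
  uliftYoneda.{w} ⋙ (Functor.whiskeringRight Cᵒᵖ _ _).obj AddCommGrpCat.free.{max w v} ⋙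
    presheafToSheaf J AddCommGrpCat.{max w v}

/-- `Hom(ℤ[h_U], F) ≃ F(U)` -/
noncomputable def homEquiv (U : C) (F : Sheaf J AddCommGrpCat.{max w v}) :
    ((Zfree.{w} J).obj U ⟶ F) ≃ F.obj.obj (op U) :=
  ((sheafificationAdjunction J AddCommGrpCat.{max w v}).homEquiv _ _).trans
    (((Adjunction.whiskerRight Cᵒᵖ AddCommGrpCat.adj.{max w v}).homEquiv _ _).trans
      uliftYonedaEquiv.{w})

lemma homEquiv_map {U V : C} (g : V ⟶ U) (F : Sheaf J AddCommGrpCat.{max w v})
    (φ : (Zfree.{w} J).obj U ⟶ F) :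
    homEquiv.{w} J V F ((Zfree.{w} J).map g ≫ φ) = F.obj.map g.op (homEquiv.{w} J U F φ) := by
  unfold homEquiv
  rw [Equiv.trans_apply, Equiv.trans_apply, Equiv.trans_apply, Equiv.trans_apply]
  dsimp only [Functor.comp_map]
  rw [Adjunction.homEquiv_naturality_left, Adjunction.homEquiv_naturality_left]
  exact (uliftYonedaEquiv_naturality _ g.op).symm

instance mono_Zfree_map {U V : C} (g : V ⟶ U) [Mono g] : Mono ((Zfree.{w} J).map g) := by
  dsimp only [Zfree, Functor.comp_map]
  have h1 : Mono (uliftYoneda.{w}.map g) := by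
    rw [NatTrans.mono_iff_mono_app]
    intro W
    rw [mono_iff_injective]
    rintro ⟨a⟩ ⟨b⟩ h
    have : a ≫ g = b ≫ g := congrArg ULift.down h
    rw [cancel_mono] at this
    rw [this]
  have h2 : Mono (((Functor.whiskeringRight Cᵒᵖ _ _).obj AddCommGrpCat.free.{max w v}).map
      (uliftYoneda.{w}.map g)) := by
    rw [NatTrans.mono_iff_mono_app]
    intro W
    dsimp
    have := (NatTrans.mono_iff_mono_app (uliftYoneda.{w}.map g)).1 h1 W
    infer_instance
  infer_instance

/-- an injective abelian sheaf is flasque with respect to monomorphisms of the site -/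
theorem surjective_map_of_injective (I : Sheaf J AddCommGrpCat.{max w v}) [Injective I]
    {U V : C} (g : V ⟶ U) [Mono g] : Function.Surjective (I.obj.map g.op) := by
  intro y
  obtain ⟨φ, hφ⟩ : ∃ φ : (Zfree.{w} J).obj U ⟶ I,
      (Zfree.{w} J).map g ≫ φ = (homEquiv.{w} J V I).symm y :=
    ⟨Injective.factorThru _ _, Injective.comp_factorThru _ _⟩
  refine ⟨homEquiv.{w} J U I φ, ?_⟩
  rw [← homEquiv_map, hφ, Equiv.apply_symm_apply]

section
variable {C : Type u} [Category.{v} C] {J : GrothendieckTopology C}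
  [HasSheafify J AddCommGrpCat.{w}] [HasExt.{w'} (Sheaf J AddCommGrpCat.{w})]

open Abelian in
/-- on a site with a terminal object `T`: for a short exact sequence of abelian sheaves with
`H¹(S.X₁) = 0`, the map `S.X₂(T) → S.X₃(T)` is surjective -/
theorem surjective_app_of_subsingleton_H_one {S : ShortComplex (Sheaf J AddCommGrpCat.{w})}
    (hS : S.ShortExact) {T : C} (hT : IsTerminal T) [Subsingleton (Sheaf.H.{w'} S.X₁ 1)] :
    Function.Surjective (S.g.hom.app (op T)) := by
  intro y
  set x₃ : Sheaf.H.{w'} S.X₃ 0 := (Sheaf.H.equiv₀ S.X₃ hT).symm y with hx₃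
  obtain ⟨x₂, hx₂⟩ := Ext.covariant_sequence_exact₃ _ hS x₃ (zero_add 1) (Subsingleton.elim _ _)
  refine ⟨Sheaf.H.equiv₀ S.X₂ hT x₂, ?_⟩
  rw [Sheaf.H.equiv₀_naturality, Sheaf.H.map_apply, hx₂, hx₃, AddEquiv.apply_symm_apply]
end

end Groth.Agent.Lib.FlasqueInj34
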