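import Groth.Agent.Lib.FlatAtCrit22

/-!
# Flatness above the closed points: transfer along flat / finite local extensions
-/

set_option autoImplicit false
universe u

namespace Groth.Agent.Lib.FlatAbove22

open IsLocalRing TensorProduct

section Pushout

variable {A B A' B' : Type u} [CommRing A] [CommRing B] [CommRing A'] [CommRing B'] [Algebra A B]
  [Algebra A A'] [Algebra B B'] [Algebra A' B'] [Algebra A B'] [IsScalarTower A B B']
  [IsScalarTower A A' B']

/-- Ring homs out of a pushout agree if they agree on both factors. -/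
theorem ringHom_ext (hpo : Algebra.IsPushout A B A' B') {T : Type*} [Semiring T] (u v : B' →+* T)
    (h1 : ∀ b, u (algebraMap B B' b) = v (algebraMap B B' b))
    (h2 : ∀ a, u (algebraMap A' B' a) = v (algebraMap A' B' a)) : u = v := by
  ext x
  refine hpo.out.inductionOn x _ ?_ ?_ ?_ ?_
  · simp
  · intro a; exact h2 a
  · intro b y hy
    rw [Algebra.smul_def, map_mul, map_mul, hy, h1]
  · intro y z hy hz
    rw [map_add, map_add, hy, hz]

variable [Algebra.IsPushout A B A' B']

/-- Ring-level `desc` for an algebra pushout. -/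
noncomputable def desc {T : Type*} [CommRing T] (f : B →+* T) (g : A' →+* T)
    (h : ∀ a, f (algebraMap A B a) = g (algebraMap A A' a)) : B' →+* T :=
  letI := (f.comp (algebraMap A B)).toAlgebra
  (Algebra.pushoutDesc B' (⟨f, fun _ => rfl⟩ : B →ₐ[A] T)
    (⟨g, fun a => (h a).symm⟩ : A' →ₐ[A] T) (fun _ _ => mul_comm _ _)).toRingHom

theorem desc_left {T : Type*} [CommRing T] (f : B →+* T) (g : A' →+* T)
    (h : ∀ a, f (algebraMap A B a) = g (algebraMap A A' a)) (b : B) :
    desc (B' := B') f g h (algebraMap B B' b) = f b := by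
  let _ := (f.comp (algebraMap A B)).toAlgebra
  exact Algebra.pushoutDesc_left B' (⟨f, fun _ => rfl⟩ : B →ₐ[A] T)
    (⟨g, fun a => (h a).symm⟩ : A' →ₐ[A] T) (fun _ _ => mul_comm _ _) b

theorem desc_right {T : Type*} [CommRing T] (f : B →+* T) (g : A' →+* T)
    (h : ∀ a, f (algebraMap A B a) = g (algebraMap A A' a)) (a : A') :
    desc (B' := B') f g h (algebraMap A' B' a) = g a := by
  let _ := (f.comp (algebraMap A B)).toAlgebra
  exact Algebra.pushoutDesc_right B' (⟨f, fun _ => rfl⟩ : B →ₐ[A] T)
    (⟨g, fun a => (h a).symm⟩ : A' →ₐ[A] T) (fun _ _ => mul_comm _ _) a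

end Pushout

section PrimeOver

/-- Auxiliary: the tensor product of the residue field extension with a field over `k_B`. -/
theorem exists_field_pushout {B C B' : Type u} [CommRing B] [IsLocalRing B] [CommRing C]
    [IsLocalRing C] [Algebra B C] [IsLocalHom (algebraMap B C)] [CommRing B'] [Algebra B B']
    (q : Ideal B') [q.IsPrime] (hq : (maximalIdeal B).map (algebraMap B B') ≤ q) :
    ∃ (T : Type u) (_ : CommRing T) (_ : Nontrivial T) (f₀ : C →+* T) (ρ : B' →+* T),
      (∀ b : B, f₀ (algebraMap B C b) = ρ (algebraMap B B' b)) ∧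
      (∀ c ∈ maximalIdeal C, f₀ c = 0) ∧
      (∀ P : Ideal T, P.IsPrime → P.comap ρ = q) := by
  classical
  let f₁ : B →+* q.ResidueField := (algebraMap B' q.ResidueField).comp (algebraMap B B')
  have hf₁ : ∀ b ∈ maximalIdeal B, f₁ b = 0 := by
    intro b hb
    simp only [f₁, RingHom.comp_apply]
    rw [Ideal.algebraMap_residueField_eq_zero]
    exact hq (Ideal.mem_map_of_mem _ hb)
  let ι : ResidueField B →+* q.ResidueField := Ideal.Quotient.lift (maximalIdeal B) f₁ hf₁
  let _ : Algebra (ResidueField B) q.ResidueField := ι.toAlgebra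
  have hnt : Nontrivial (ResidueField C ⊗[ResidueField B] q.ResidueField) :=
    Algebra.TensorProduct.nontrivial_of_algebraMap_injective_of_flat_left _ _ _
      (RingHom.injective _)
  refine ⟨ResidueField C ⊗[ResidueField B] q.ResidueField, inferInstance, hnt,
    (Algebra.TensorProduct.includeLeftRingHom).comp (residue C),
    (Algebra.TensorProduct.includeRight.toRingHom).comp (algebraMap B' q.ResidueField),
    ?_, ?_, ?_⟩
  · intro b
    have h1 : residue C (algebraMap B C b) =
        algebraMap (ResidueField B) (ResidueField C) (residue B b) := rfl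
    have h2 : algebraMap B' q.ResidueField (algebraMap B B' b) =
        algebraMap (ResidueField B) q.ResidueField (residue B b) := rfl
    change (residue C (algebraMap B C b)) ⊗ₜ[ResidueField B] (1 : q.ResidueField) =
      (1 : ResidueField C) ⊗ₜ[ResidueField B]
        (algebraMap B' q.ResidueField (algebraMap B B' b))
    rw [h1, h2, Algebra.algebraMap_eq_smul_one, Algebra.algebraMap_eq_smul_one,
      TensorProduct.smul_tmul]
  · intro c hc
    change (residue C c) ⊗ₜ[ResidueField B] (1 : q.ResidueField) = 0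
    rw [(residue_eq_zero_iff c).mpr hc, TensorProduct.zero_tmul]
  · intro P hP
    rw [← Ideal.comap_comap]
    have h4 : P.comap (Algebra.TensorProduct.includeRight (R := ResidueField B)
        (A := ResidueField C) (B := q.ResidueField)).toRingHom = ⊥ :=
      Ideal.eq_bot_of_prime _
    rw [h4, ← RingHom.ker_eq_comap_bot, Ideal.ker_algebraMap_residueField]

variable {B C B' C' : Type u} [CommRing B] [IsLocalRing B] [CommRing C] [IsLocalRing C]
  [Algebra B C] [IsLocalHom (algebraMap B C)]
  [CommRing B'] [CommRing C'] [Algebra B B'] [Algebra C C'] [Algebra B' C'] [Algebra B C']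
  [IsScalarTower B C C'] [IsScalarTower B B' C']

/-- For `C' = C ⊗_B B'` with `B → C` a local homomorphism, every prime of `B'` containing
`𝔪_B B'` is the contraction of a prime of `C'` containing `𝔪_C C'`. -/
theorem exists_prime_over [Algebra.IsPushout B C B' C'] (q : Ideal B') [q.IsPrime]
    (hq : (maximalIdeal B).map (algebraMap B B') ≤ q) :
    ∃ r : Ideal C', r.IsPrime ∧ r.comap (algebraMap B' C') = q ∧
      (maximalIdeal C).map (algebraMap C C') ≤ r := by
  classical
  obtain ⟨T, _, _, f₀, ρ, hcompat, hf₀, hρ⟩ := exists_field_pushout (C := C) q hq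
  obtain ⟨θ, hθl, hθr⟩ : ∃ θ : C' →+* T, (∀ c, θ (algebraMap C C' c) = f₀ c) ∧
      (∀ b, θ (algebraMap B' C' b) = ρ b) :=
    ⟨desc (A := B) (B := C) (A' := B') (B' := C') f₀ ρ hcompat, desc_left f₀ ρ hcompat,
      desc_right f₀ ρ hcompat⟩
  obtain ⟨P, hP⟩ := Ideal.exists_maximal T
  have hPp := hP.isPrime
  refine ⟨P.comap θ, Ideal.comap_isPrime _ _, ?_, ?_⟩
  · rw [Ideal.comap_comap]
    have h3 : θ.comp (algebraMap B' C') = ρ := RingHom.ext hθr
    rw [h3]
    exact hρ P hPp
  · rw [Ideal.map_le_iff_le_comap]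
    intro c hc
    rw [Ideal.mem_comap, Ideal.mem_comap, hθl, hf₀ c hc]
    exact zero_mem _

omit [IsLocalHom (algebraMap B C)] in
/-- For a finite local homomorphism `B → C`, a prime of `C'` whose contraction to `B'` contains
`𝔪_B B'` contains `𝔪_C C'`. -/
theorem map_maximalIdeal_le_of_finite [Module.Finite B C] (r : Ideal C') [r.IsPrime]
    (hq : (maximalIdeal B).map (algebraMap B B') ≤ r.comap (algebraMap B' C')) :
    (maximalIdeal C).map (algebraMap C C') ≤ r := by
  have hrad : maximalIdeal C ≤ ((maximalIdeal B).map (algebraMap B C)).radical := by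
    rw [Ideal.radical_eq_sInf]
    apply le_sInf
    rintro J ⟨hJ, hJp⟩
    have hcm : (maximalIdeal B) ≤ J.comap (algebraMap B C) := Ideal.map_le_iff_le_comap.mp hJ
    have hmax : (J.comap (algebraMap B C)).IsMaximal := by
      have hne : J.comap (algebraMap B C) ≠ ⊤ := (Ideal.comap_isPrime _ J).ne_top
      rw [← (IsLocalRing.maximalIdeal.isMaximal B).eq_of_le hne hcm]
      exact IsLocalRing.maximalIdeal.isMaximal B
    have : J.IsMaximal := Ideal.isMaximal_of_isIntegral_of_isMaximal_comap J hmax
    rw [IsLocalRing.eq_maximalIdeal this]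
  rw [Ideal.map_le_iff_le_comap]
  intro c hc
  obtain ⟨n, hn⟩ := hrad hc
  rw [Ideal.mem_comap]
  apply Ideal.IsPrime.mem_of_pow_mem inferInstance n
  rw [← map_pow]
  have h1 : algebraMap C C' (c ^ n) ∈ ((maximalIdeal B).map (algebraMap B C)).map
      (algebraMap C C') := Ideal.mem_map_of_mem _ hn
  rw [Ideal.map_map, ← IsScalarTower.algebraMap_eq, IsScalarTower.algebraMap_eq B B' C',
    ← Ideal.map_map] at h1
  exact (Ideal.map_le_iff_le_comap.mpr hq) h1

end PrimeOver

section Aux

variable {A B C : Type u} [CommRing A] [IsLocalRing A] [CommRing B] [IsLocalRing B] [CommRing C]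
  [IsLocalRing C] [Algebra A B] [Algebra B C] [IsLocalHom (algebraMap B C)] [Algebra A C]
  [IsScalarTower A B C]
  (A' : Type u) [CommRing A'] [IsLocalRing A'] [Algebra A A']
  (B' M' : Type u) [CommRing B'] [Algebra B B'] [Algebra A' B'] [Algebra A B']
  [IsScalarTower A B B'] [IsScalarTower A A' B']
  [AddCommGroup M'] [Module B' M'] [Module B M'] [IsScalarTower B B' M'] [Module A' M']
  [IsScalarTower A' B' M']
  (C' N' : Type u) [CommRing C'] [Algebra C C'] [Algebra A' C'] [Algebra A C']
  [IsScalarTower A C C'] [IsScalarTower A A' C']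
  [AddCommGroup N'] [Module C' N'] [Module C N'] [IsScalarTower C C' N'] [Module A' N']
  [IsScalarTower A' C' N']
  -- the extra structure
  [Algebra B' C'] [Algebra B C'] [IsScalarTower B C C'] [IsScalarTower B B' C']
  [IsScalarTower A' B' C'] [IsScalarTower A B' C']
  [Module B N'] [Module B' N'] [IsScalarTower B C N'] [IsScalarTower B C' N']
  [IsScalarTower B' C' N'] [IsScalarTower B B' N'] [IsScalarTower A' B' N']

theorem good_comap (r : Ideal C')
    (hr : (maximalIdeal A').map (algebraMap A' C') ⊔ (maximalIdeal C).map (algebraMap C C') ≤ r) :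
    (maximalIdeal A').map (algebraMap A' B') ⊔ (maximalIdeal B).map (algebraMap B B') ≤
      r.comap (algebraMap B' C') := by
  apply sup_le
  · rw [Ideal.map_le_iff_le_comap, Ideal.comap_comap, ← IsScalarTower.algebraMap_eq,
      ← Ideal.map_le_iff_le_comap]
    exact le_sup_left.trans hr
  · rw [Ideal.map_le_iff_le_comap, Ideal.comap_comap, ← IsScalarTower.algebraMap_eq,
      IsScalarTower.algebraMap_eq B C C', ← Ideal.comap_comap]
    intro b hb
    rw [Ideal.mem_comap]
    have : algebraMap B C b ∈ maximalIdeal C := by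
      rw [IsLocalRing.mem_maximalIdeal, mem_nonunits_iff] at hb ⊢
      exact fun h => hb (isUnit_of_map_unit (algebraMap B C) b h)
    exact Ideal.map_le_iff_le_comap.mp (le_sup_right.trans hr) this

omit [IsLocalRing A] [IsLocalRing B] [IsLocalRing C] [IsLocalHom (algebraMap B C)]
  [IsLocalRing A'] in
theorem isPushout_right (h1 : Algebra.IsPushout A B A' B') (h2 : Algebra.IsPushout A C A' C') :
    Algebra.IsPushout B C B' C' :=
  haveI := h1
  (Algebra.IsPushout.comp_iff A B A' B').mp h2

omit [IsLocalRing A] in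
/-- Flat case, with all auxiliary structure given as instances. -/
theorem flat_case_aux (h1 : Algebra.IsPushout A B A' B') (h2 : Algebra.IsPushout A C A' C')
    [Module.Flat B C] (M : Type u) [AddCommGroup M] [Module B M] (N : Type u) [AddCommGroup N] [Module C N]
    [Module B N] [IsScalarTower B C N]
    (g : M →ₗ[B] N) (hg : IsBaseChange C g)
    (fB : M →ₗ[B] M') (hfB : IsBaseChange B' fB)
    (fC : N →ₗ[C] N') (hfC : IsBaseChange C' fC) :
    FlatCA.FlatAboveClosedPoints B A' B' M' ↔ FlatCA.FlatAboveClosedPoints C A' C' N' := by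
  have hpo : Algebra.IsPushout B C B' C' :=
    isPushout_right A' B' C' h1 h2
  have hpo' : Algebra.IsPushout B B' C C' := hpo.symm
  haveI : Module.Flat B' C' := Module.Flat.isBaseChange B B' C C' hpo'.out
  let ψ : M' →ₗ[B'] N' := hfB.lift ((fC.restrictScalars B) ∘ₗ g)
  have hψ : IsBaseChange C' ψ := by
    apply IsBaseChange.of_comp hfB
    have : (ψ.restrictScalars B) ∘ₗ fB = (fC.restrictScalars B) ∘ₗ g := hfB.lift_comp _
    rw [this]
    exact hg.comp hfC
  constructor
  · intro h r _ hr
    exact (Groth.Agent.Lib.FlatAtCrit22.flatAt_iff_of_isBaseChange M' N' ψ hψ r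
      (r.comap (algebraMap B' C')) rfl).mp (h _ (good_comap A' B' C' r hr))
  · intro h q _ hq
    obtain ⟨r, hrp, hrq, hr⟩ := exists_prime_over (C := C) (C' := C') q (le_sup_right.trans hq)
    have hgood : (maximalIdeal A').map (algebraMap A' C') ⊔
        (maximalIdeal C).map (algebraMap C C') ≤ r := by
      apply sup_le _ hr
      rw [IsScalarTower.algebraMap_eq A' B' C', ← Ideal.map_map, Ideal.map_le_iff_le_comap, hrq]
      exact le_sup_left.trans hq
    exact (Groth.Agent.Lib.FlatAtCrit22.flatAt_iff_of_isBaseChange M' N' ψ hψ r q hrq).mpr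
      (h r hgood)

omit [IsLocalRing A] [Module B N'] [IsScalarTower B C N'] [IsScalarTower B C' N']
  [IsScalarTower B B' N'] in
/-- Finite case, with all auxiliary structure given as instances. -/
theorem finite_case_aux (h1 : Algebra.IsPushout A B A' B') (h2 : Algebra.IsPushout A C A' C')
    [Module.Finite B C] (N : Type u) [AddCommGroup N] [Module C N] [Module B N] [IsScalarTower B C N]
    (fB : N →ₗ[B] M') (hfB : IsBaseChange B' fB)
    (fC : N →ₗ[C] N') (hfC : IsBaseChange C' fC) :
    FlatCA.FlatAboveClosedPoints B A' B' M' ↔ FlatCA.FlatAboveClosedPoints C A' C' N' := by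
  have hpo : Algebra.IsPushout B C B' C' :=
    isPushout_right A' B' C' h1 h2
  haveI hpo' : Algebra.IsPushout B B' C C' := hpo.symm
  haveI := hpo
  haveI : Algebra.IsIntegral B' C' := Algebra.IsPushout.isIntegral (R := B) (S := C) (A := B') (SA := C')
  let e1 : M' ≃ₗ[B'] B' ⊗[B] N := hfB.equiv.symm
  let e2 : C' ⊗[C] N ≃ₗ[B'] B' ⊗[B] N := Algebra.IsPushout.cancelBaseChange B B' C C' N
  let e3 : C' ⊗[C] N ≃ₗ[B'] N' := hfC.equiv.restrictScalars B'
  let ψ : M' ≃ₗ[B'] N' := e1 ≪≫ₗ e2.symm ≪≫ₗ e3
  constructor
  · intro h r _ hr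
    exact Groth.Agent.Lib.FlatAtCrit22.flatAt_of_equiv M' N' ψ r
      (r.comap (algebraMap B' C')) rfl (h _ (good_comap A' B' C' r hr))
  · intro h q _ hq
    apply Groth.Agent.Lib.FlatAtCrit22.flatAt_of_forall_equiv (T := C') M' N' ψ q
    intro r _ hrq
    apply h r
    apply sup_le
    · rw [IsScalarTower.algebraMap_eq A' B' C', ← Ideal.map_map, Ideal.map_le_iff_le_comap, hrq]
      exact le_sup_left.trans hq
    · apply map_maximalIdeal_le_of_finite (B := B) (B' := B') r
      rw [hrq]
      exact le_sup_right.trans hq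

end Aux

section Final

variable {A B C : Type u} [CommRing A] [IsLocalRing A] [CommRing B] [IsLocalRing B] [CommRing C]
  [IsLocalRing C] [Algebra A B] [Algebra B C] [IsLocalHom (algebraMap B C)] [Algebra A C]
  [IsScalarTower A B C]
  (A' : Type u) [CommRing A'] [IsLocalRing A'] [Algebra A A']
  (B' M' : Type u) [CommRing B'] [Algebra B B'] [Algebra A' B'] [Algebra A B']
  [IsScalarTower A B B'] [IsScalarTower A A' B'] [Algebra.IsPushout A B A' B']
  [AddCommGroup M'] [Module B' M'] [Module B M'] [IsScalarTower B B' M'] [Module A' M']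
  [IsScalarTower A' B' M']
  (C' N' : Type u) [CommRing C'] [Algebra C C'] [Algebra A' C'] [Algebra A C']
  [IsScalarTower A C C'] [IsScalarTower A A' C'] [Algebra.IsPushout A C A' C']
  [AddCommGroup N'] [Module C' N'] [Module C N'] [IsScalarTower C C' N'] [Module A' N']
  [IsScalarTower A' C' N']

/-- The induced map `B' → C'`. -/
noncomputable def phi : B' →+* C' :=
  desc (A := A) (B := B) (A' := A') (B' := B')
    ((algebraMap C C').comp (algebraMap B C)) (algebraMap A' C') (fun a => by
      rw [RingHom.comp_apply, ← IsScalarTower.algebraMap_apply A B C,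
        ← IsScalarTower.algebraMap_apply A C C', ← IsScalarTower.algebraMap_apply A A' C'])

omit [IsLocalRing A] [IsLocalRing B] [IsLocalRing C] [IsLocalHom (algebraMap B C)]
  [IsLocalRing A'] [Algebra.IsPushout A C A' C'] in
theorem phi_left (b : B) :
    phi (A := A) (B := B) (C := C) A' B' C' (algebraMap B B' b) =
      algebraMap C C' (algebraMap B C b) :=
  desc_left _ _ _ b

omit [IsLocalRing A] [IsLocalRing B] [IsLocalRing C] [IsLocalHom (algebraMap B C)]
  [IsLocalRing A'] [Algebra.IsPushout A C A' C'] in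
theorem phi_right (a : A') :
    phi (A := A) (B := B) (C := C) A' B' C' (algebraMap A' B' a) = algebraMap A' C' a :=
  desc_right _ _ _ a

omit [IsLocalRing A] [Algebra.IsPushout A B A' B'] [Algebra.IsPushout A C A' C'] in
/-- **Flat case.** -/
theorem flat_case (h1 : Algebra.IsPushout A B A' B') (h2 : Algebra.IsPushout A C A' C')
    [Module.Flat B C] (M : Type u) [AddCommGroup M] [Module B M] (N : Type u) [AddCommGroup N] [Module C N]
    [Module B N] [IsScalarTower B C N]
    (g : M →ₗ[B] N) (hg : IsBaseChange C g)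
    (fB : M →ₗ[B] M') (hfB : IsBaseChange B' fB)
    (fC : N →ₗ[C] N') (hfC : IsBaseChange C' fC) :
    FlatCA.FlatAboveClosedPoints B A' B' M' ↔ FlatCA.FlatAboveClosedPoints C A' C' N' := by
  letI algBC' : Algebra B C' := ((algebraMap C C').comp (algebraMap B C)).toAlgebra
  haveI : IsScalarTower B C C' := IsScalarTower.of_algebraMap_eq (fun _ => rfl)
  letI algB'C' : Algebra B' C' := (phi (A := A) (B := B) (C := C) A' B' C').toAlgebra
  haveI : IsScalarTower B B' C' :=
    IsScalarTower.of_algebraMap_eq (fun b => (phi_left (A := A) (C := C) A' B' C' b).symm)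
  haveI : IsScalarTower A' B' C' :=
    IsScalarTower.of_algebraMap_eq (fun a => (phi_right (A := A) (B := B) (C := C) A' B' C' a).symm)
  haveI : IsScalarTower A B' C' := IsScalarTower.of_algebraMap_eq (fun a => by
    rw [IsScalarTower.algebraMap_apply A A' C', IsScalarTower.algebraMap_apply A A' B',
      IsScalarTower.algebraMap_apply A' B' C'])
  letI modB'N' : Module B' N' := Module.compHom N' (algebraMap B' C')
  haveI : IsScalarTower B' C' N' := ⟨fun b c n => by
    change (b • c) • n = algebraMap B' C' b • c • n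
    rw [Algebra.smul_def, mul_smul]⟩
  letI modBN' : Module B N' := Module.compHom N' (algebraMap B C')
  haveI : IsScalarTower B C' N' := ⟨fun b c n => by
    change (b • c) • n = algebraMap B C' b • c • n
    rw [Algebra.smul_def, mul_smul]⟩
  haveI : IsScalarTower B C N' := ⟨fun b c n => by
    change (b • c) • n = algebraMap B C' b • c • n
    rw [IsScalarTower.algebraMap_apply B C C', algebraMap_smul, Algebra.smul_def, mul_smul]⟩
  haveI : IsScalarTower B B' N' := ⟨fun b b' n => by
    change algebraMap B' C' (b • b') • n = algebraMap B C' b • algebraMap B' C' b' • n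
    rw [Algebra.smul_def, map_mul, mul_smul, ← IsScalarTower.algebraMap_apply B B' C']⟩
  haveI : IsScalarTower A' B' N' := ⟨fun a b' n => by
    change algebraMap B' C' (a • b') • n = a • algebraMap B' C' b' • n
    rw [Algebra.smul_def, map_mul, mul_smul, ← IsScalarTower.algebraMap_apply A' B' C',
      algebraMap_smul]⟩
  exact flat_case_aux A' B' M' C' N' h1 h2 M N g hg fB hfB fC hfC

omit [IsLocalRing A] [Algebra.IsPushout A B A' B'] [Algebra.IsPushout A C A' C'] in
/-- **Finite case.** -/
theorem finite_case (h1 : Algebra.IsPushout A B A' B') (h2 : Algebra.IsPushout A C A' C')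
    [Module.Finite B C] (N : Type u) [AddCommGroup N] [Module C N] [Module B N] [IsScalarTower B C N]
    (fB : N →ₗ[B] M') (hfB : IsBaseChange B' fB)
    (fC : N →ₗ[C] N') (hfC : IsBaseChange C' fC) :
    FlatCA.FlatAboveClosedPoints B A' B' M' ↔ FlatCA.FlatAboveClosedPoints C A' C' N' := by
  letI algBC' : Algebra B C' := ((algebraMap C C').comp (algebraMap B C)).toAlgebra
  haveI : IsScalarTower B C C' := IsScalarTower.of_algebraMap_eq (fun _ => rfl)
  letI algB'C' : Algebra B' C' := (phi (A := A) (B := B) (C := C) A' B' C').toAlgebra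
  haveI : IsScalarTower B B' C' :=
    IsScalarTower.of_algebraMap_eq (fun b => (phi_left (A := A) (C := C) A' B' C' b).symm)
  haveI : IsScalarTower A' B' C' :=
    IsScalarTower.of_algebraMap_eq (fun a => (phi_right (A := A) (B := B) (C := C) A' B' C' a).symm)
  haveI : IsScalarTower A B' C' := IsScalarTower.of_algebraMap_eq (fun a => by
    rw [IsScalarTower.algebraMap_apply A A' C', IsScalarTower.algebraMap_apply A A' B',
      IsScalarTower.algebraMap_apply A' B' C'])
  letI modB'N' : Module B' N' := Module.compHom N' (algebraMap B' C')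
  haveI : IsScalarTower B' C' N' := ⟨fun b c n => by
    change (b • c) • n = algebraMap B' C' b • c • n
    rw [Algebra.smul_def, mul_smul]⟩
  letI modBN' : Module B N' := Module.compHom N' (algebraMap B C')
  haveI : IsScalarTower B C' N' := ⟨fun b c n => by
    change (b • c) • n = algebraMap B C' b • c • n
    rw [Algebra.smul_def, mul_smul]⟩
  haveI : IsScalarTower B C N' := ⟨fun b c n => by
    change (b • c) • n = algebraMap B C' b • c • n
    rw [IsScalarTower.algebraMap_apply B C C', algebraMap_smul, Algebra.smul_def, mul_smul]⟩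
  haveI : IsScalarTower B B' N' := ⟨fun b b' n => by
    change algebraMap B' C' (b • b') • n = algebraMap B C' b • algebraMap B' C' b' • n
    rw [Algebra.smul_def, map_mul, mul_smul, ← IsScalarTower.algebraMap_apply B B' C']⟩
  haveI : IsScalarTower A' B' N' := ⟨fun a b' n => by
    change algebraMap B' C' (a • b') • n = a • algebraMap B' C' b' • n
    rw [Algebra.smul_def, map_mul, mul_smul, ← IsScalarTower.algebraMap_apply A' B' C',
      algebraMap_smul]⟩
  exact finite_case_aux A' B' M' C' N' h1 h2 N fB hfB fC hfC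

end Final

end Groth.Agent.Lib.FlatAbove22
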