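import Groth.Agent.Lib.DRingPerfAmp
import Groth.Agent.S5608

/-!
# Resolutions by projective modules in `D(A)` (toward a calculus of flat amplitude)

Namespace `Groth.Agent.Lib.FlatAmp`.

* `PR A`: projective modules as a class of objects of `ModuleCat A`; it satisfies all hypotheses
  of the `PCoh` theory (`pr_prod`, `pr_quasiStable`, `pr_quasiLiftable`), and every module is of
  `PR A`-finite type.
* `exists_lift`: (any `P`) a morphism `Q E₁ ⟶ Q F` in the derived category with `E₁` strictly
  `n`-pseudo-coherent is a right fraction `(Q s)⁻¹ ≫ Q g` with `s : E₂ ⟶ E₁` a quasi-isomorphism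
  from a strictly `n`-pseudo-coherent complex.
* `exists_pr_rep`, `exists_resolution`: objects of `D(A)` / complexes with bounded above cohomology
  admit, for every `n`, a quasi-isomorphism from a bounded above complex with projective terms in
  degrees `≥ n`.
-/

set_option autoImplicit false
universe u

open CategoryTheory CategoryTheory.Limits Category

namespace Groth.Agent.Lib.FlatAmp

open Groth.Agent.Lib.DRingPCoh21 Groth.Agent.Lib.DRingPerfAmp

section Lift

variable {C : Type*} [Category C] [Abelian C] [HasDerivedCategory C] (P : ObjectProperty C)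
  [P.IsClosedUnderIsomorphisms] [P.ContainsZero]

open DerivedCategory

theorem exists_lift (hsum : ∀ X Y : C, P X → P Y → P (X ⨯ Y))
    (hqs : PCoh.IsQuasiStableUnderKernels P) (hql : PCoh.IsQuasiLiftable P) (n : ℤ)
    (E₁ : CochainComplex C ℤ) (hE₁ : PCoh.IsStrictPC P n E₁) (F : CochainComplex C ℤ)
    (f : Q.obj E₁ ⟶ Q.obj F) :
    ∃ (E₂ : CochainComplex C ℤ) (s : E₂ ⟶ E₁) (g : E₂ ⟶ F), PCoh.IsStrictPC P n E₂ ∧
      QuasiIso s ∧ Q.map g = Q.map s ≫ f := by
  obtain ⟨X', s₀, hs₀, g₀, hg₀⟩ := DerivedCategory.right_fac f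
  have hs₀' : QuasiIso s₀ := (DerivedCategory.isIso_Q_map_iff_quasiIso _ s₀).1 hs₀
  obtain ⟨E₂, v, hE₂, hv⟩ := Groth.Agent.S5597.result P hsum hqs hql n X' E₁ hE₁ s₀ hs₀'
  refine ⟨E₂, v ≫ s₀, v ≫ g₀, hE₂, inferInstance, ?_⟩
  rw [Functor.map_comp, Functor.map_comp, hg₀, assoc, IsIso.hom_inv_id_assoc]

end Lift

variable (A : Type u) [CommRing A]

/-- projective modules -/
def PR : ObjectProperty (ModuleCat.{u} A) := fun M => Module.Projective A M

instance : (PR A).IsClosedUnderIsomorphisms where
  of_iso {X Y} e h := by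
    have : Module.Projective A X := h
    exact Module.Projective.of_equiv e.toLinearEquiv

instance : (PR A).ContainsZero where
  exists_zero := ⟨ModuleCat.of A PUnit, ModuleCat.isZero_of_subsingleton _, by
    change Module.Projective A PUnit.{u + 1}
    infer_instance⟩

lemma pr_prod (X Y : ModuleCat.{u} A) (hX : PR A X) (hY : PR A Y) : PR A (X ⨯ Y) := by
  have : Module.Projective A X := hX
  have : Module.Projective A Y := hY
  have h : PR A (ModuleCat.of A (X × Y)) := (inferInstance : Module.Projective A (X × Y))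
  exact (PR A).prop_of_iso ((ModuleCat.biprodIsoProd X Y).symm ≪≫ biprod.isoProd X Y) h

lemma pr_le_fl (M : ModuleCat.{u} A) (h : PR A M) : FL A M := by
  have : Module.Projective A M := h
  exact (inferInstance : Module.Flat A M)

lemma isOfFiniteType_pr (M : ModuleCat.{u} A) : PCoh.IsOfFiniteType (PR A) M := by
  refine ⟨ModuleCat.of A (M →₀ A), ModuleCat.ofHom (Finsupp.linearCombination A (id : M → M)),
    (inferInstance : Module.Projective A (M →₀ A)), ?_⟩
  rw [ModuleCat.epi_iff_surjective]
  exact Finsupp.linearCombination_surjective _ Function.surjective_id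

lemma pr_quasiStable : PCoh.IsQuasiStableUnderKernels (PR A) :=
  fun _ _ _ _ => isOfFiniteType_pr A _

lemma pr_quasiLiftable : PCoh.IsQuasiLiftable (PR A) := by
  intro E F u hu hF
  have hp : Module.Projective A F := hF
  have : Projective F := ModuleCat.projective_of_categoryTheory_projective F
  refine ⟨F, Projective.factorThru (𝟙 F) u, hF, ?_⟩
  rw [Projective.factorThru_comp]
  infer_instance

section D

attribute [local instance] HasDerivedCategory.standard

open DerivedCategory

theorem exists_pr_rep (K : DerivedCategory (ModuleCat.{u} A)) (b : ℤ)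
    (hb : ∀ i : ℤ, b < i → IsZero ((DerivedCategory.homologyFunctor (ModuleCat.{u} A) i).obj K))
    (n : ℤ) : ∃ E : CochainComplex (ModuleCat.{u} A) ℤ, PCoh.IsStrictPC (PR A) n E ∧
      Nonempty (DerivedCategory.Q.obj E ≅ K) :=
  (Groth.Agent.S5608.result (PR A) (pr_prod A) (pr_quasiLiftable A)
    (fun _ _ _ _ _ => isOfFiniteType_pr A _) n K b hb).2
    ⟨isOfFiniteType_pr A _, fun _ _ => ⟨isOfFiniteType_pr A _, fun _ _ _ => isOfFiniteType_pr A _⟩⟩

theorem exists_resolution (n : ℤ) (K : CochainComplex (ModuleCat.{u} A) ℤ) (b : ℤ)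
    (hb : ∀ i : ℤ, b < i → K.ExactAt i) :
    ∃ (E : CochainComplex (ModuleCat.{u} A) ℤ) (g : E ⟶ K), PCoh.IsStrictPC (PR A) n E ∧
      QuasiIso g := by
  obtain ⟨E₀, hE₀, ⟨e⟩⟩ := exists_pr_rep A (DerivedCategory.Q.obj K) b (fun i hi =>
    ((HomologicalComplex.exactAt_iff_isZero_homology _ _).mp (hb i hi)).of_iso
      ((DerivedCategory.homologyFunctorFactors (ModuleCat.{u} A) i).app K)) n
  obtain ⟨E, s, g, hE, hs, hg⟩ := exists_lift (PR A) (pr_prod A) (pr_quasiStable A)
    (pr_quasiLiftable A) n E₀ hE₀ K e.hom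
  refine ⟨E, g, hE, ?_⟩
  rw [← DerivedCategory.isIso_Q_map_iff_quasiIso, hg]
  have : IsIso (DerivedCategory.Q.map s) := by
    rw [DerivedCategory.isIso_Q_map_iff_quasiIso]
    exact hs
  infer_instance

end D

end Groth.Agent.Lib.FlatAmp
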