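import Mathlib.Algebra.Homology.HomologySequence
import Mathlib.Algebra.Homology.HomologicalComplexAbelian
import Mathlib.Algebra.Homology.HomotopyCategory.DegreewiseSplit
import Mathlib.Algebra.Homology.HomotopyCategory.ShiftSequence

/-!
# Short exact sequences of `opcycles` (cokernels of differentials)

Namespace `Groth.Agent.Lib.OpcyclesSES`.

* `mono_L₁_f`: in a snake diagram, if the map of kernels `L₀.f` is a monomorphism then so is
  `L₁.f` (recall `L₂.f` is a monomorphism).
* `shortExact_opcycles`: for a short exact sequence `0 → X₁ → X₂ → X₃ → 0` of cochain complexes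
  with `X₃` exact in degree `j - 1`, the sequence `0 → X₁.opcycles j → X₂.opcycles j →
  X₃.opcycles j → 0` is short exact.
* `prop_opcycles_cone`: for `t : E ⟶ G` with `E` exact in degree `a`, `(cone t).opcycles a` is an
  extension of `E.opcycles (a + 1)` by `G.opcycles a`.
-/

set_option autoImplicit false

open CategoryTheory CategoryTheory.Limits Category HomologicalComplex

namespace Groth.Agent.Lib.OpcyclesSES

variable {C : Type*} [Category C] [Abelian C]

lemma mono_L₁_f (S : ShortComplex.SnakeInput C) [Mono S.L₀.f] : Mono S.L₁.f := by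
  rw [Preadditive.mono_iff_cancel_zero]
  intro W k hk
  have h1 : k ≫ S.v₁₂.τ₁ = 0 := by
    rw [← cancel_mono S.L₂.f, assoc, zero_comp, S.v₁₂.comm₁₂, reassoc_of% hk, zero_comp]
  let k' := S.h₀τ₁.lift (KernelFork.ofι k h1)
  have hk' : k' ≫ S.v₀₁.τ₁ = k := S.h₀τ₁.fac _ WalkingParallelPair.zero
  have h2 : k' ≫ S.L₀.f = 0 := by
    rw [← cancel_mono S.v₀₁.τ₂, assoc, zero_comp, ← S.v₀₁.comm₁₂, reassoc_of% hk', hk]
  have h3 : k' = 0 := by rw [← cancel_mono S.L₀.f, h2, zero_comp]
  rw [← hk', h3, zero_comp]

lemma mono_opcyclesMap {S : ShortComplex (CochainComplex C ℤ)} (hS : S.ShortExact) (j : ℤ)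
    (h : S.X₃.ExactAt (j - 1)) : Mono (opcyclesMap S.f j) := by
  have h0 : IsZero (S.X₃.homology (j - 1)) := (exactAt_iff_isZero_homology _ _).mp h
  have h1 : Mono (homologyMap S.f j) :=
    (hS.homology_exact₁ (j - 1) j (by simp)).mono_g (h0.eq_of_src _ _)
  let SI := HomologySequence.snakeInput hS j (j + 1) (by simp)
  have : Mono SI.L₀.f := h1
  exact mono_L₁_f SI

lemma shortExact_opcycles {S : ShortComplex (CochainComplex C ℤ)} (hS : S.ShortExact) (j : ℤ)
    (h : S.X₃.ExactAt (j - 1)) :
    ((opcyclesFunctor C (ComplexShape.up ℤ) j).mapShortComplex.obj S).ShortExact := by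
  have := hS.epi_g
  have := mono_opcyclesMap hS j h
  exact
    { exact := opcycles_right_exact S hS.exact j
      mono_f := (inferInstance : Mono (opcyclesMap S.f j))
      epi_g := (inferInstance : Epi (opcyclesMap S.g j)) }

open CochainComplex in
theorem prop_opcycles_cone (P : ObjectProperty C) [P.IsClosedUnderIsomorphisms]
    (hext : ∀ S : ShortComplex C, S.ShortExact → P S.X₁ → P S.X₃ → P S.X₂)
    {E G : CochainComplex C ℤ} (t : E ⟶ G) (a : ℤ) (hE : E.ExactAt a)
    (h1 : P (G.opcycles a)) (h2 : P (E.opcycles (a + 1))) :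
    P ((mappingCone t).opcycles a) := by
  let S := mappingCone.triangleRotateShortComplex t
  have hS : S.ShortExact := shortExact_of_degreewise_shortExact S
    (fun n => (mappingCone.triangleRotateShortComplexSplitting t n).shortExact)
  have h3 : S.X₃.ExactAt (a - 1) := by
    change ((E⟦(1 : ℤ)⟧).sc (a - 1)).Exact
    exact (ShortComplex.exact_iff_of_iso
      ((shiftShortComplexFunctorIso C 1 (a - 1) a (by lia)).app E)).2 hE
  have h4 : P (S.X₃.opcycles a) := by
    change P (((E⟦(1 : ℤ)⟧).sc a).opcycles)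
    exact P.prop_of_iso (ShortComplex.opcyclesMapIso
      ((shiftShortComplexFunctorIso C 1 a (a + 1) (by lia)).app E)).symm h2
  exact hext _ (shortExact_opcycles hS a h3) h1 h4

end Groth.Agent.Lib.OpcyclesSES
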