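import Groth.Agent.Lib.FlatAmp
import Groth.Agent.Lib.OpcyclesSES
import Mathlib.Algebra.Homology.DerivedCategory.HomologySequence

/-!
# Calculus of flat amplitude in `D(A)`, part 2: cones

Namespace `Groth.Agent.Lib.FlatAmp`.

* `flat_of_flat_ext`, `fl_ext`: an extension of flat modules is flat.
* `pa_fl_of_opcycles`: (criterion, `⇐`) if `E` is bounded above with flat terms in degrees `> a`,
  flat `coker (E^{a-1} ⟶ E^a)` and cohomology vanishing outside `[a, b]`, then `Q E` has flat
  amplitude in `[a, b]`.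
* `pa_fl_cone`: if `X ⟶ Y ⟶ Z ⟶ X⟦1⟧` is distinguished, `X` has flat amplitude in `[a+1, b+1]`
  and `Y` in `[a, b]`, then `Z` has flat amplitude in `[a, b]`.
* `pa_fl_ext`, `pa_fl_fiber`: the two other forms.
-/

set_option autoImplicit false
universe u

open CategoryTheory CategoryTheory.Limits Category

namespace Groth.Agent.Lib.FlatAmp

open Groth.Agent.Lib.DRingPCoh21 Groth.Agent.Lib.DRingPerfAmp Groth.Agent.Lib.PCohAmp

section Modules

variable {A : Type u} [CommRing A]

open TensorProduct in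
/-- an extension of flat modules is flat -/
theorem flat_of_flat_ext {M N Q : Type*} [AddCommGroup M] [Module A M] [AddCommGroup N]
    [Module A N] [AddCommGroup Q] [Module A Q] [Module.Flat A M] [Module.Flat A Q]
    {f : M →ₗ[A] N} {g : N →ₗ[A] Q} (hf : Function.Injective f) (hfg : Function.Exact f g)
    (hg : Function.Surjective g) : Module.Flat A N := by
  rw [Module.Flat.iff_rTensor_injective']
  intro I
  have hα : Function.Injective (I.subtype.rTensor M) :=
    Module.Flat.rTensor_preserves_injective_linearMap _ (Submodule.subtype_injective _)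
  have hγ : Function.Injective (I.subtype.rTensor Q) :=
    Module.Flat.rTensor_preserves_injective_linearMap _ (Submodule.subtype_injective _)
  have hfA : Function.Injective (f.lTensor A) :=
    Groth.Agent.Lib.ArtinianFlat.lTensor_injective_of_flat_quotient hf hfg hg A
  have hex : Function.Exact (f.lTensor I) (g.lTensor I) := lTensor_exact I hfg hg
  have c1 : ∀ y, (f.lTensor A) ((I.subtype.rTensor M) y) = (I.subtype.rTensor N) ((f.lTensor I) y) :=
    fun y => by
      rw [← LinearMap.comp_apply, ← LinearMap.comp_apply, LinearMap.lTensor_comp_rTensor,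
        LinearMap.rTensor_comp_lTensor]
  have c2 : ∀ x, (g.lTensor A) ((I.subtype.rTensor N) x) = (I.subtype.rTensor Q) ((g.lTensor I) x) :=
    fun y => by
      rw [← LinearMap.comp_apply, ← LinearMap.comp_apply, LinearMap.lTensor_comp_rTensor,
        LinearMap.rTensor_comp_lTensor]
  rw [injective_iff_map_eq_zero]
  intro x hx
  have h1 : (g.lTensor I) x = 0 := by
    apply hγ
    rw [← c2, hx, map_zero, map_zero]
  obtain ⟨y, rfl⟩ := (hex x).1 h1
  have h2 : (I.subtype.rTensor M) y = 0 := by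
    apply hfA
    rw [c1, hx, map_zero]
  have h3 : y = 0 := hα (by rw [h2, map_zero])
  rw [h3, map_zero]

variable (A)

lemma fl_ext (S : ShortComplex (ModuleCat.{u} A)) (hS : S.ShortExact) (h1 : FL A S.X₁)
    (h3 : FL A S.X₃) : FL A S.X₂ := by
  have : Module.Flat A S.X₁ := h1
  have : Module.Flat A S.X₃ := h3
  have := hS.mono_f
  have := hS.epi_g
  exact flat_of_flat_ext (f := S.f.hom) (g := S.g.hom) ((ModuleCat.mono_iff_injective _).1 inferInstance)
    ((ShortComplex.ShortExact.moduleCat_exact_iff_function_exact S).1 hS.exact)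
    ((ModuleCat.epi_iff_surjective _).1 inferInstance)

end Modules

variable (A : Type u) [CommRing A]

attribute [local instance] HasDerivedCategory.standard

open DerivedCategory ZeroObject

/-- Criterion for flat amplitude (`⇐`). -/
theorem pa_fl_of_opcycles (E : CochainComplex (ModuleCat.{u} A) ℤ) (a b c : ℤ) (hab : a ≤ b)
    (hE : ∀ i : ℤ, a < i → FL A (E.X i)) (hc : ∀ i : ℤ, c < i → IsZero (E.X i))
    (hop : FL A (E.opcycles a)) (hlow : ∀ i : ℤ, i < a → E.ExactAt i)
    (hhigh : ∀ i : ℤ, b < i → E.ExactAt i) : PA (FL A) a b (DerivedCategory.Q.obj E) := by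
  have hGE : E.IsGE a := by
    rw [CochainComplex.isGE_iff]
    exact fun i hi => hlow i hi
  have hiso : IsIso (DerivedCategory.Q.map (E.πTruncGE a)) := by
    rw [DerivedCategory.isIso_Q_map_iff_quasiIso]
    infer_instance
  have h1 : PA (FL A) a (max c a) (DerivedCategory.Q.obj E) := by
    refine ⟨E.truncGE a, fun i => ?_, fun i hi => ?_,
      ⟨(asIso (DerivedCategory.Q.map (E.πTruncGE a))).symm⟩⟩
    · rcases lt_trichotomy i a with hi | rfl | hi
      · exact (FL A).prop_of_isZero ((E.truncGE a).isZero_of_isStrictlyGE a i hi)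
      · exact (FL A).prop_of_iso (E.truncGEXIsoOpcycles i).symm hop
      · exact (FL A).prop_of_iso (E.truncGEXIso a i hi).symm (hE i hi)
    · rcases hi with hi | hi
      · exact (E.truncGE a).isZero_of_isStrictlyGE a i hi
      · exact (hc i (lt_of_le_of_lt (le_max_left c a) hi)).of_iso
          (E.truncGEXIso a i (lt_of_le_of_lt (le_max_right c a) hi))
  have hK : ∀ i : ℤ, b < i →
      IsZero ((DerivedCategory.homologyFunctor (ModuleCat.{u} A) i).obj (DerivedCategory.Q.obj E)) :=
    fun i hi => ((HomologicalComplex.exactAt_iff_isZero_homology _ _).mp (hhigh i hi)).of_iso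
      ((DerivedCategory.homologyFunctorFactors (ModuleCat.{u} A) i).app E)
  exact pa_mono (le_refl a) (min_le_left b _) (pa_trunc (fl_kernel A) hab h1 hK)

lemma isZero_of_pa_of_lt {P : ObjectProperty (ModuleCat.{u} A)} {a b : ℤ} (hab : b < a)
    {K : DerivedCategory (ModuleCat.{u} A)} (h : PA P a b K) : IsZero K := by
  obtain ⟨E, -, h2, ⟨e⟩⟩ := h
  have hE : IsZero E := by
    rw [IsZero.iff_id_eq_zero]
    ext i : 1
    exact (h2 i (by lia)).eq_of_src _ _
  exact (DerivedCategory.Q.map_isZero hE).of_iso e.symm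

lemma pa_of_isZero {P : ObjectProperty (ModuleCat.{u} A)} [P.IsClosedUnderIsomorphisms]
    [P.ContainsZero] (a b : ℤ) {K : DerivedCategory (ModuleCat.{u} A)} (h : IsZero K) :
    PA P a b K := by
  have h0 : IsZero (0 : CochainComplex (ModuleCat.{u} A) ℤ) := isZero_zero _
  refine ⟨0, fun i => P.prop_of_isZero ?_, fun i _ => ?_,
    ⟨(DerivedCategory.Q.map_isZero h0).iso h⟩⟩
  · exact (HomologicalComplex.eval _ _ i).map_isZero h0
  · exact (HomologicalComplex.eval _ _ i).map_isZero h0

/-- If `X ⟶ Y ⟶ Z ⟶ X⟦1⟧` is distinguished, `X` has flat amplitude in `[a+1, b+1]` and `Y` in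
`[a, b]`, then `Z` has flat amplitude in `[a, b]`. -/
theorem pa_fl_cone (a b : ℤ) (T : Pretriangulated.Triangle (DerivedCategory (ModuleCat.{u} A)))
    (hT : T ∈ distTriang (DerivedCategory (ModuleCat.{u} A)))
    (h₁ : PA (FL A) (a + 1) (b + 1) T.obj₁) (h₂ : PA (FL A) a b T.obj₂) :
    PA (FL A) a b T.obj₃ := by
  by_cases hab : a ≤ b
  swap
  · exact pa_of_isZero A a b (Pretriangulated.Triangle.isZero₃_of_isZero₁₂ T hT
      (isZero_of_pa_of_lt A (by lia) h₁) (isZero_of_pa_of_lt A (by lia) h₂))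
  -- cohomology of `Z`
  have hZ : ∀ i : ℤ, i < a ∨ b < i →
      IsZero ((DerivedCategory.homologyFunctor (ModuleCat.{u} A) i).obj T.obj₃) := by
    intro i hi
    refine (DerivedCategory.HomologySequence.exact₃ T hT i (i + 1) rfl).isZero_X₂
      (IsZero.eq_of_src ?_ _ _) (IsZero.eq_of_tgt ?_ _ _)
    · exact isZero_homology_of_pa h₂ i hi
    · exact isZero_homology_of_pa h₁ (i + 1) (by lia)
  obtain ⟨GX, hGX1, hGX2, ⟨eX⟩⟩ := h₁
  obtain ⟨GY, hGY1, hGY2, ⟨eY⟩⟩ := h₂
  -- resolution of `GX`
  obtain ⟨E₁, s₁, hE₁, hs₁⟩ := exists_resolution A (a - 1) GX (b + 1)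
    (fun i hi => HomologicalComplex.ExactAt.of_isZero (hGX2 i (Or.inr hi)))
  have hs₁' : IsIso (DerivedCategory.Q.map s₁) := by
    rw [DerivedCategory.isIso_Q_map_iff_quasiIso]
    exact hs₁
  obtain ⟨E, s, t, hE, hs, ht⟩ := exists_lift (PR A) (pr_prod A) (pr_quasiStable A)
    (pr_quasiLiftable A) (a - 1) E₁ hE₁ GY (DerivedCategory.Q.map s₁ ≫ eX.hom ≫ T.mor₁ ≫ eY.inv)
  have hs' : IsIso (DerivedCategory.Q.map s) := by
    rw [DerivedCategory.isIso_Q_map_iff_quasiIso]
    exact hs
  have hσ : QuasiIso (s ≫ s₁) := inferInstance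
  obtain ⟨⟨c, hc⟩, hE2⟩ := hE
  -- flatness of `coker (E^a ⟶ E^{a+1})`
  have hop1 : FL A (E.opcycles (a + 1)) := by
    have := prop_truncGE_bottom (FL A) (fl_prod A) (fl_kernel A) (a + 1) (max (max c (b + 1)) (a + 1))
      (le_max_right _ _) (s ≫ s₁) (fun i hi => pr_le_fl A _ (hE2 i (by lia)))
      (fun i hi => hc i (lt_of_le_of_lt ((le_max_left c _).trans (le_max_left _ _)) hi)) hGX1
      (fun i hi => hGX2 i (hi.imp id
        (fun h => lt_of_le_of_lt ((le_max_right c _).trans (le_max_left _ _)) h)))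
    exact (FL A).prop_of_iso (E.truncGEXIsoOpcycles (a + 1)) this
  have hop2 : FL A (GY.opcycles a) := by
    have : IsIso (GY.pOpcycles a) := GY.isIso_pOpcycles (a - 1) a (by simp)
      ((hGY2 (a - 1) (Or.inl (by lia))).eq_of_src _ _)
    exact (FL A).prop_of_iso (asIso (GY.pOpcycles a)) (hGY1 a)
  have hEa : E.ExactAt a := by
    rw [HomologicalComplex.exactAt_iff_isZero_homology]
    have h0 : IsZero (GX.homology a) :=
      (HomologicalComplex.exactAt_iff_isZero_homology _ _).mp
        (HomologicalComplex.ExactAt.of_isZero (hGX2 a (Or.inl (by lia))))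
    exact h0.of_iso (asIso (HomologicalComplex.homologyMap (s ≫ s₁) a))
  have hop : FL A ((CochainComplex.mappingCone t).opcycles a) :=
    Groth.Agent.Lib.OpcyclesSES.prop_opcycles_cone (FL A) (fl_ext A) t a hEa hop2 hop1
  -- `Z ≅ Q (cone t)`
  have hdist := DerivedCategory.mappingCone_triangle_distinguished t
  let e₁ : DerivedCategory.Q.obj E ≅ T.obj₁ :=
    asIso (DerivedCategory.Q.map s) ≪≫ asIso (DerivedCategory.Q.map s₁) ≪≫ eX
  have comm : DerivedCategory.Q.map t ≫ eY.hom = e₁.hom ≫ T.mor₁ := by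
    rw [ht]
    simp [e₁]
  have eZ : DerivedCategory.Q.obj (CochainComplex.mappingCone t) ≅ T.obj₃ :=
    Pretriangulated.Triangle.π₃.mapIso (Pretriangulated.isoTriangleOfIso₁₂ _ _ hdist hT
      e₁ eY comm)
  have hexact : ∀ i : ℤ, i < a ∨ b < i → (CochainComplex.mappingCone t).ExactAt i := by
    intro i hi
    rw [HomologicalComplex.exactAt_iff_isZero_homology]
    exact (hZ i hi).of_iso (((DerivedCategory.homologyFunctorFactors (ModuleCat.{u} A) i).app
      (CochainComplex.mappingCone t)).symm ≪≫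
        (DerivedCategory.homologyFunctor (ModuleCat.{u} A) i).mapIso eZ)
  refine pa_of_iso eZ (pa_fl_of_opcycles A _ a b (max c b) hab (fun i hi => ?_) (fun i hi => ?_)
    hop (fun i hi => hexact i (Or.inl hi)) (fun i hi => hexact i (Or.inr hi)))
  · exact (FL A).prop_of_iso ((HomologicalComplex.homotopyCofiber.XIsoBiprod t i (i + 1) rfl) ≪≫
      biprod.isoProd _ _).symm (fl_prod A _ _ (pr_le_fl A _ (hE2 _ (by lia))) (hGY1 i))
  · refine IsZero.of_iso ?_ (HomologicalComplex.homotopyCofiber.XIsoBiprod t i (i + 1) rfl)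
    rw [biprod_isZero_iff]
    exact ⟨hc _ (by have := le_max_left c b; lia), hGY2 _ (Or.inr (by have := le_max_right c b; lia))⟩

open Pretriangulated in
/-- flat amplitude is stable under extensions -/
theorem pa_fl_ext (a b : ℤ) (T : Pretriangulated.Triangle (DerivedCategory (ModuleCat.{u} A)))
    (hT : T ∈ distTriang (DerivedCategory (ModuleCat.{u} A)))
    (h₁ : PA (FL A) a b T.obj₁) (h₃ : PA (FL A) a b T.obj₃) : PA (FL A) a b T.obj₂ := by
  have h := pa_fl_cone A a b T.invRotate (inv_rot_of_distTriang _ hT)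
    (pa_mono (by lia) (by lia) (pa_shift h₃ (-1))) h₁
  exact h

open Pretriangulated in
theorem pa_fl_fiber (a b : ℤ) (T : Pretriangulated.Triangle (DerivedCategory (ModuleCat.{u} A)))
    (hT : T ∈ distTriang (DerivedCategory (ModuleCat.{u} A)))
    (h₂ : PA (FL A) (a + 1) (b + 1) T.obj₂) (h₃ : PA (FL A) a b T.obj₃) :
    PA (FL A) (a + 1) (b + 1) T.obj₁ := by
  have h := pa_fl_cone A (a + 1) (b + 1) T.invRotate.invRotate
    (inv_rot_of_distTriang _ (inv_rot_of_distTriang _ hT))
    (pa_mono (by lia) (by lia) (pa_shift h₂ (-1))) (pa_mono (by lia) (by lia) (pa_shift h₃ (-1)))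
  exact h

end Groth.Agent.Lib.FlatAmp
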