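import Groth.Agent.Lib.FlatAmp4
import Groth.Agent.Lib.FlatBaseChangeD

/-!
# Calculus of flat amplitude in `D(A)`, part 5: descent along families of flat ring maps

Namespace `Groth.Agent.Lib.FlatAmp`.

* `pa_fl_descent`: let `(B j)` be a family of flat `A`-algebras such that a module `M` is zero as
  soon as all `B j ⊗ M` are zero, and flat as soon as all `B j ⊗ M` are flat over `B j`.  If all
  termwise base changes of a complex `K` have flat amplitude in `[a, b]`, so has `K`.
-/

set_option autoImplicit false
universe u

open CategoryTheory CategoryTheory.Limits Category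

namespace Groth.Agent.Lib.FlatAmp

open Groth.Agent.Lib.DRingPCoh21 Groth.Agent.Lib.DRingPerfAmp Groth.Agent.Lib.PCohAmp
  Groth.Agent.Lib.FlatBaseChangeD

attribute [local instance] HasDerivedCategory.standard

variable (A : Type u) [CommRing A]

open DerivedCategory.TStructure in
theorem pa_fl_descent {J : Type*} (B : J → Type u) [∀ j, CommRing (B j)] [∀ j, Algebra A (B j)]
    [∀ j, Module.Flat A (B j)]
    (hzero : ∀ M : ModuleCat.{u} A, (∀ j, IsZero ((F A (B j)).obj M)) → IsZero M)
    (hflat : ∀ M : ModuleCat.{u} A, (∀ j, FL (B j) ((F A (B j)).obj M)) → FL A M)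
    (K : CochainComplex (ModuleCat.{u} A) ℤ) (a b : ℤ)
    (hK : ∀ j, PA (FL (B j)) a b (DerivedCategory.Q.obj (bcCx (B j) K))) :
    PA (FL A) a b (DerivedCategory.Q.obj K) := by
  -- (1) cohomology of `K`
  have hex : ∀ i : ℤ, i < a ∨ b < i → K.ExactAt i := by
    intro i hi
    rw [HomologicalComplex.exactAt_iff_isZero_homology]
    refine hzero _ (fun j => ?_)
    have h1 : IsZero ((bcCx (B j) K).homology i) :=
      (isZero_homology_of_pa (hK j) i hi).of_iso
        ((DerivedCategory.homologyFunctorFactors (ModuleCat.{u} (B j)) i).app _).symm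
    exact h1.of_iso ((mapHCHomologyIso (F A (B j)) i).app K).symm
  have hexD : ∀ i : ℤ, i < a ∨ b < i →
      IsZero ((DerivedCategory.homologyFunctor (ModuleCat.{u} A) i).obj
        (DerivedCategory.Q.obj K)) := fun i hi =>
    ((HomologicalComplex.exactAt_iff_isZero_homology _ _).mp (hex i hi)).of_iso
      ((DerivedCategory.homologyFunctorFactors (ModuleCat.{u} A) i).app K)
  by_cases hab : a ≤ b
  swap
  · refine pa_of_isZero A a b ?_
    have h1 : (DerivedCategory.Q.obj K).IsGE 1 := by
      rw [DerivedCategory.isGE_iff]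
      exact fun i _ => hexD i (by lia)
    have h2 : (DerivedCategory.Q.obj K).IsLE 0 := by
      rw [DerivedCategory.isLE_iff]
      exact fun i _ => hexD i (by lia)
    exact t.isZero (DerivedCategory.Q.obj K) 0 1 (by lia)
  -- (3) resolution
  obtain ⟨E, g, ⟨⟨c, hc⟩, hE⟩, hg⟩ := exists_resolution A (a - 1) K b
    (fun i hi => hex i (Or.inr hi))
  have hg' : IsIso (DerivedCategory.Q.map g) := by
    rw [DerivedCategory.isIso_Q_map_iff_quasiIso]
    exact hg
  -- (4)-(6)
  have hop : FL A (E.opcycles a) := by
    refine hflat _ (fun j => ?_)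
    have hq : QuasiIso (((F A (B j)).mapHomologicalComplex (ComplexShape.up ℤ)).map g) :=
      inferInstance
    have hq' : IsIso (DerivedCategory.Q.map
        (((F A (B j)).mapHomologicalComplex (ComplexShape.up ℤ)).map g)) := by
      rw [DerivedCategory.isIso_Q_map_iff_quasiIso]
      exact hq
    have h1 : FL (B j) ((bcCx (B j) E).opcycles a) := by
      refine fl_opcycles_of_pa (B j) (bcCx (B j) E) a b c (fun i hi => ?_)
        (fun i hi => (F A (B j)).map_isZero (hc i hi))
        (pa_of_iso (asIso (DerivedCategory.Q.map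
          (((F A (B j)).mapHomologicalComplex (ComplexShape.up ℤ)).map g))).symm (hK j))
      have : Module.Projective A (E.X i) := hE i (by lia)
      exact flat_obj (E.X i)
    exact (FL (B j)).prop_of_iso ((E.sc a).mapOpcyclesIso (F A (B j))) h1
  -- (7)
  exact pa_of_iso (asIso (DerivedCategory.Q.map g)) (pa_fl_of_opcycles A E a b c hab
    (fun i hi => pr_le_fl A _ (hE i (by lia))) hc hop
    (fun i hi => (HomologicalComplex.exactAt_iff_isZero_homology _ _).mpr
      (((HomologicalComplex.exactAt_iff_isZero_homology _ _).mp (hex i (Or.inl hi))).of_iso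
        (asIso (HomologicalComplex.homologyMap g i))))
    (fun i hi => (HomologicalComplex.exactAt_iff_isZero_homology _ _).mpr
      (((HomologicalComplex.exactAt_iff_isZero_homology _ _).mp (hex i (Or.inr hi))).of_iso
        (asIso (HomologicalComplex.homologyMap g i)))))

end Groth.Agent.Lib.FlatAmp
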