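import Mathlib

/-! # Flat algebras over Artinian local rings: colon ideals and the lifting step (helper1)

Algebra used for S11468 (`H⁰(X) = C` from `H⁰(X₀) = k`). -/

namespace Groth.Agent.Lib.FlatArtinH0a

open TensorProduct

variable {C A : Type*} [CommRing C] [CommRing A] [Algebra C A]

/-- Flatness commutes with colon by an element: if `t • a ∈ I A` then `a ∈ (I : t) A`. -/
theorem mem_map_colon_of_flat [Module.Flat C A] (I : Ideal C) (t : C) (a : A)
    (h : algebraMap C A t * a ∈ Ideal.map (algebraMap C A) I) :
    a ∈ Ideal.map (algebraMap C A) (Submodule.colon I ({t} : Set C)) := by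
  set J : Ideal C := Submodule.colon I ({t} : Set C) with hJ
  have hJI : J ≤ Submodule.comap (LinearMap.lsmul C C t) I := by
    intro c hc
    have : c • t ∈ I := Submodule.mem_colon_singleton.1 hc
    simpa [mul_comm] using this
  let μ : (C ⧸ J) →ₗ[C] (C ⧸ I) := Submodule.mapQ J I (LinearMap.lsmul C C t) hJI
  have hμ : Function.Injective μ := by
    rw [injective_iff_map_eq_zero]
    intro x hx
    obtain ⟨c, rfl⟩ := Submodule.Quotient.mk_surjective J x
    have h1 : t * c ∈ I := by
      have := (Submodule.Quotient.mk_eq_zero I).1 hx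
      simpa using this
    refine (Submodule.Quotient.mk_eq_zero J).2 ?_
    refine Submodule.mem_colon_singleton.2 ?_
    simpa [mul_comm] using h1
  have hμA := Module.Flat.lTensor_preserves_injective_linearMap (M := A) μ hμ
  have hz : (LinearMap.lTensor A μ) (a ⊗ₜ[C] (Ideal.Quotient.mk J 1)) = 0 := by
    have h2 : (LinearMap.lTensor A μ) (a ⊗ₜ[C] (Ideal.Quotient.mk J 1))
        = a ⊗ₜ[C] (Ideal.Quotient.mk I t) := by
      rw [LinearMap.lTensor_tmul]
      congr 1
      show Submodule.Quotient.mk (t • (1 : C)) = _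
      simp
    rw [h2]
    apply (TensorProduct.tensorQuotEquivQuotSMul A I).injective
    rw [map_zero, TensorProduct.tensorQuotEquivQuotSMul_tmul_mk, Submodule.Quotient.mk_eq_zero,
      Ideal.smul_top_eq_map]
    simpa [Algebra.smul_def] using h
  have h3 : a ⊗ₜ[C] (Ideal.Quotient.mk J 1) = 0 := hμA (by rw [hz, map_zero])
  have h4 := congrArg (TensorProduct.tensorQuotEquivQuotSMul A J) h3
  rw [map_zero, TensorProduct.tensorQuotEquivQuotSMul_tmul_mk, Submodule.Quotient.mk_eq_zero,
      Ideal.smul_top_eq_map] at h4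
  simpa using h4

end Groth.Agent.Lib.FlatArtinH0a
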