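import Mathlib
import Groth.Agent.Lib.FlatArtinH0a

/-! # Flat schemes over Artinian local rings: the minimal-ideal argument (helper1)

`surjective_of_glue`: for a scheme `X` with a ring map `φ : C → Γ(X, ⊤)` from an Artinian local
ring, flat on all affine opens, if every family `a_U ∈ Γ(X, U)` (over affine opens) that is
compatible modulo `𝔪` is constant modulo `𝔪` (this encodes `H⁰(X₀) = k`), then `φ` is surjective. -/

universe u

open AlgebraicGeometry CategoryTheory TopologicalSpace Opposite

namespace Groth.Agent.Lib.FlatArtinH0b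

variable {X : Scheme.{u}} {C : Type u} [CommRing C]

/-- The ring map `C → Γ(X, U)` induced by `φ : C → Γ(X, ⊤)`. -/
noncomputable def toSec (φ : C →+* Γ(X, ⊤)) (U : X.Opens) : C →+* Γ(X, U) :=
  (X.presheaf.map (homOfLE le_top).op).hom.comp φ

lemma toSec_apply (φ : C →+* Γ(X, ⊤)) (U : X.Opens) (c : C) :
    toSec φ U c = (X.presheaf.map (homOfLE le_top).op).hom (φ c) := rfl

lemma res_toSec (φ : C →+* Γ(X, ⊤)) {U W : X.Opens} (h : W ≤ U) (c : C) :
    (X.presheaf.map (homOfLE h).op).hom (toSec φ U c) = toSec φ W c := by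
  simp only [toSec_apply]
  rw [← CommRingCat.comp_apply, ← Functor.map_comp]
  rfl

lemma res_mem_map (φ : C →+* Γ(X, ⊤)) {U W : X.Opens} (h : W ≤ U) (I : Ideal C)
    {x : Γ(X, U)} (hx : x ∈ Ideal.map (toSec φ U) I) :
    (X.presheaf.map (homOfLE h).op).hom x ∈ Ideal.map (toSec φ W) I := by
  have h1 : Ideal.map (toSec φ U) I ≤
      Ideal.comap (X.presheaf.map (homOfLE h).op).hom (Ideal.map (toSec φ W) I) := by
    rw [Ideal.map_le_iff_le_comap]
    intro c hc
    rw [Ideal.mem_comap, Ideal.mem_comap, res_toSec]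
    exact Ideal.mem_map_of_mem _ hc
  exact h1 hx

/-- A global section vanishing on all affine opens is zero. -/
lemma eq_zero_of_affine (s : Γ(X, ⊤))
    (h : ∀ U : X.affineOpens, (X.presheaf.map (homOfLE (le_top : U.1 ≤ ⊤)).op).hom s = 0) :
    s = 0 := by
  refine TopCat.Sheaf.eq_of_locally_eq' X.sheaf (fun U : X.affineOpens => U.1) ⊤
    (fun U => homOfLE le_top) (by rw [iSup_affineOpens_eq_top]) s 0 ?_
  intro U
  rw [map_zero]
  exact h U

set_option maxHeartbeats 800000 in
theorem surjective_of_glue [IsLocalRing C] [IsArtinianRing C] (φ : C →+* Γ(X, ⊤))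
    (hflat : ∀ U : X.affineOpens, (toSec φ U.1).Flat)
    (hG : ∀ a : (∀ U : X.affineOpens, Γ(X, U.1)),
      (∀ (U W : X.affineOpens) (h : W.1 ≤ U.1),
        (X.presheaf.map (homOfLE h).op).hom (a U) - a W ∈
          Ideal.map (toSec φ W.1) (IsLocalRing.maximalIdeal C)) →
      ∃ c : C, ∀ U : X.affineOpens,
        a U - toSec φ U.1 c ∈ Ideal.map (toSec φ U.1) (IsLocalRing.maximalIdeal C)) :
    Function.Surjective φ := by
  classical
  let S : Set (Ideal C) := {I | ∀ s : Γ(X, ⊤), ∃ c : C, ∀ U : X.affineOpens,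
    (X.presheaf.map (homOfLE (le_top : U.1 ≤ ⊤)).op).hom (s - φ c) ∈ Ideal.map (toSec φ U.1) I}
  have hS : S.Nonempty := ⟨⊤, fun s => ⟨0, fun U => by rw [Ideal.map_top]; trivial⟩⟩
  obtain ⟨I₀, hI₀, hmin⟩ := (wellFounded_lt (α := Ideal C)).has_min S hS
  have hbot : I₀ = ⊥ := by
    by_contra hne
    have : IsNoetherianRing C := inferInstance
    let T : Set (Ideal C) := {J | J < I₀}
    have hT : T.Nonempty := ⟨⊥, bot_lt_iff_ne_bot.2 hne⟩
    obtain ⟨I', hI', hmax⟩ := (wellFounded_gt (α := Ideal C)).has_min T hT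
    have hI'lt : I' < I₀ := hI'
    obtain ⟨t, htI₀, htI'⟩ := SetLike.exists_of_lt hI'lt
    -- any ideal strictly between is impossible
    have hbetween : ∀ J : Ideal C, I' < J → J ≤ I₀ → J = I₀ := by
      intro J h1 h2
      by_contra hJ
      exact hmax J (lt_of_le_of_ne h2 hJ) h1
    have hsup : I' ⊔ Ideal.span {t} = I₀ := by
      refine hbetween _ ?_ (sup_le hI'lt.le ((Ideal.span_singleton_le_iff_mem _).2 htI₀))
      refine lt_of_le_of_ne le_sup_left ?_
      intro h
      apply htI'
      rw [h]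
      exact Ideal.mem_sup_right (Ideal.mem_span_singleton_self t)
    have hmt : ∀ μ ∈ IsLocalRing.maximalIdeal C, t * μ ∈ I' := by
      intro μ hμ
      by_contra hn
      have hsup2 : I' ⊔ Ideal.span {t * μ} = I₀ := by
        refine hbetween _ ?_ (sup_le hI'lt.le
          ((Ideal.span_singleton_le_iff_mem _).2 (I₀.mul_mem_right _ htI₀)))
        refine lt_of_le_of_ne le_sup_left ?_
        intro h
        apply hn
        rw [h]
        exact Ideal.mem_sup_right (Ideal.mem_span_singleton_self _)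
      have ht2 : t ∈ I' ⊔ Ideal.span {t * μ} := hsup2 ▸ htI₀
      obtain ⟨x, hx, y, hy, hxy⟩ := Submodule.mem_sup.1 ht2
      obtain ⟨r, rfl⟩ := Ideal.mem_span_singleton'.1 hy
      have hu : IsUnit (1 - r * μ) := by
        have hrμ : r * μ ∈ IsLocalRing.maximalIdeal C := Ideal.mul_mem_left _ _ hμ
        by_contra hnu
        have h1 : (1 - r * μ) ∈ IsLocalRing.maximalIdeal C := (IsLocalRing.mem_maximalIdeal _).2 hnu
        have h2 : (1 : C) ∈ IsLocalRing.maximalIdeal C := by
          have := Ideal.add_mem _ h1 hrμ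
          rwa [sub_add_cancel] at this
        exact (IsLocalRing.maximalIdeal.isMaximal C).ne_top ((Ideal.eq_top_iff_one _).2 h2)
      have h3 : (1 - r * μ) * t = x := by linear_combination -hxy
      apply htI'
      have h4 : t = hu.unit⁻¹ * x := by
        rw [← h3, ← mul_assoc, IsUnit.val_inv_mul, one_mul]
      rw [h4]
      exact Ideal.mul_mem_left _ _ hx
    have hcolon : Submodule.colon I' ({t} : Set C) ≤ IsLocalRing.maximalIdeal C := by
      apply IsLocalRing.le_maximalIdeal
      intro h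
      apply htI'
      have : (1 : C) ∈ Submodule.colon I' ({t} : Set C) := by rw [h]; trivial
      simpa using Submodule.mem_colon_singleton.1 this
    apply hmin I' ?_ hI'lt
    -- I' ∈ S
    intro s
    obtain ⟨c, hc⟩ := hI₀ s
    have hdec : ∀ U : X.affineOpens, ∃ x ∈ Ideal.map (toSec φ U.1) I', ∃ a : Γ(X, U.1),
        (X.presheaf.map (homOfLE (le_top : U.1 ≤ ⊤)).op).hom (s - φ c) = x + toSec φ U.1 t * a := by
      intro U
      have h1 := hc U
      rw [← hsup, Ideal.map_sup, Ideal.map_span, Set.image_singleton] at h1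
      obtain ⟨x, hx, y, hy, hxy⟩ := Submodule.mem_sup.1 h1
      obtain ⟨a, rfl⟩ := Ideal.mem_span_singleton'.1 hy
      exact ⟨x, hx, a, by rw [← hxy, mul_comm]⟩
    choose x hx a ha using hdec
    have hcompat : ∀ (U W : X.affineOpens) (h : W.1 ≤ U.1),
        (X.presheaf.map (homOfLE h).op).hom (a U) - a W ∈
          Ideal.map (toSec φ W.1) (IsLocalRing.maximalIdeal C) := by
      intro U W h
      let _ : Algebra C Γ(X, W.1) := (toSec φ W.1).toAlgebra
      have : Module.Flat C Γ(X, W.1) := hflat W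
      have hkey : algebraMap C Γ(X, W.1) t * ((X.presheaf.map (homOfLE h).op).hom (a U) - a W) ∈
          Ideal.map (algebraMap C Γ(X, W.1)) I' := by
        show toSec φ W.1 t * _ ∈ Ideal.map (toSec φ W.1) I'
        have e1 : (X.presheaf.map (homOfLE h).op).hom
            ((X.presheaf.map (homOfLE (le_top : U.1 ≤ ⊤)).op).hom (s - φ c)) =
            (X.presheaf.map (homOfLE (le_top : W.1 ≤ ⊤)).op).hom (s - φ c) := by
          rw [← CommRingCat.comp_apply, ← Functor.map_comp]
          rfl
        have e2 := congrArg (X.presheaf.map (homOfLE h).op).hom (ha U)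
        rw [e1, ha W, map_add, map_mul, res_toSec] at e2
        have e3 : toSec φ W.1 t * ((X.presheaf.map (homOfLE h).op).hom (a U) - a W) =
            x W - (X.presheaf.map (homOfLE h).op).hom (x U) := by
          rw [mul_sub]
          linear_combination -e2
        rw [e3]
        exact Ideal.sub_mem _ (hx W) (res_mem_map φ h I' (hx U))
      have := Groth.Agent.Lib.FlatArtinH0a.mem_map_colon_of_flat I' t _ hkey
      exact Ideal.map_mono hcolon this
    obtain ⟨c₀, hc₀⟩ := hG a hcompat
    refine ⟨c + t * c₀, fun U => ?_⟩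
    have e1 : (X.presheaf.map (homOfLE (le_top : U.1 ≤ ⊤)).op).hom (s - φ (c + t * c₀)) =
        x U + toSec φ U.1 t * (a U - toSec φ U.1 c₀) := by
      have : s - φ (c + t * c₀) = (s - φ c) - φ t * φ c₀ := by
        rw [map_add, map_mul]; ring
      rw [this, map_sub, ha U, map_mul]
      simp only [toSec_apply]
      ring
    rw [e1]
    refine Ideal.add_mem _ (hx U) ?_
    have h5 : toSec φ U.1 t * (a U - toSec φ U.1 c₀) ∈
        Ideal.map (toSec φ U.1) (Ideal.span {t}) * Ideal.map (toSec φ U.1)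
          (IsLocalRing.maximalIdeal C) :=
      Ideal.mul_mem_mul (Ideal.mem_map_of_mem _ (Ideal.mem_span_singleton_self t)) (hc₀ U)
    rw [← Ideal.map_mul] at h5
    refine Ideal.map_mono ?_ h5
    rw [Ideal.span_singleton_mul_le_iff]
    intro μ hμ
    exact hmt μ hμ
  -- conclude
  intro s
  subst hbot
  obtain ⟨c, hc⟩ := hI₀ s
  refine ⟨c, ?_⟩
  have : s - φ c = 0 := by
    apply eq_zero_of_affine
    intro U
    have := hc U
    rwa [Ideal.map_bot, Ideal.mem_bot] at this
  exact (sub_eq_zero.1 this).symm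

end Groth.Agent.Lib.FlatArtinH0b
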