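import Mathlib
import Groth.Agent.Lib.FlatArtinH0b

/-! # Flat schemes over Artinian local rings: `H⁰(X₀) = k ⇒ H⁰(X) = C` (helper1)

Geometric part for S11468. -/

universe u

open AlgebraicGeometry CategoryTheory TopologicalSpace Opposite

namespace Groth.Agent.Lib.FlatArtinH0c

open Groth.Agent.Lib.FlatArtinH0b

variable {C : Type u} [CommRing C]

/-- The structure map `C → Γ(X, ⊤)` of `g : X ⟶ Spec C`. -/
noncomputable def strMap {X : Scheme.{u}} (g : X ⟶ Spec (CommRingCat.of C)) : C →+* Γ(X, ⊤) :=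
  ((Scheme.ΓSpecIso (CommRingCat.of C)).inv ≫ g.appTop).hom

lemma res_res {X : Scheme.{u}} {U V W : X.Opens} (h₁ : V ≤ U) (h₂ : W ≤ V) (s : Γ(X, U)) :
    (X.presheaf.map (homOfLE h₂).op).hom ((X.presheaf.map (homOfLE h₁).op).hom s) =
      (X.presheaf.map (homOfLE (h₂.trans h₁)).op).hom s := by
  rw [← CommRingCat.comp_apply, ← Functor.map_comp]
  rfl

lemma app_res {X₀ X : Scheme.{u}} (i : X₀ ⟶ X) {U W : X.Opens} (h : W ≤ U) (a : Γ(X, U)) :
    (i.app W).hom ((X.presheaf.map (homOfLE h).op).hom a) =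
      (X₀.presheaf.map (homOfLE ((Opens.map i.base).map (homOfLE h)).le).op).hom
        ((i.app U).hom a) := by
  rw [← CommRingCat.comp_apply, ← CommRingCat.comp_apply, i.naturality]
  rfl

lemma fromSpec_comp_appLE {X : Scheme.{u}} {U : X.Opens} (hU : IsAffineOpen U)
    {B : CommRingCat.{u}} (q : Γ(X, U) ⟶ B)
    (e : (⊤ : (Spec B).Opens) ≤ (Spec.map q ≫ hU.fromSpec) ⁻¹ᵁ U) :
    (Spec.map q ≫ hU.fromSpec).appLE U ⊤ e = q ≫ (Scheme.ΓSpecIso B).inv := by
  rw [Scheme.Hom.comp_appLE, hU.fromSpec_app_self, Category.assoc]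
  rw [Scheme.ΓSpecIso_inv_naturality]
  congr 1

section

variable [IsLocalRing C] {X X₀ : Scheme.{u}} (g : X ⟶ Spec (CommRingCat.of C))
  (i : X₀ ⟶ X) (f₀ : X₀ ⟶ Spec (CommRingCat.of (C ⧸ IsLocalRing.maximalIdeal C)))

lemma sq_appTop
    (hw : i ≫ g = f₀ ≫ Spec.map (CommRingCat.ofHom (Ideal.Quotient.mk (IsLocalRing.maximalIdeal C))))
    (c : C) :
    i.appTop.hom (strMap g c) = strMap f₀ (Ideal.Quotient.mk (IsLocalRing.maximalIdeal C) c) := by
  have h1 : (Scheme.ΓSpecIso (CommRingCat.of C)).inv ≫ g.appTop ≫ i.appTop =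
      CommRingCat.ofHom (Ideal.Quotient.mk (IsLocalRing.maximalIdeal C)) ≫
        (Scheme.ΓSpecIso (CommRingCat.of (C ⧸ IsLocalRing.maximalIdeal C))).inv ≫ f₀.appTop := by
    rw [← Scheme.Hom.comp_appTop, hw, Scheme.Hom.comp_appTop, ← Category.assoc, ← Category.assoc,
      Scheme.ΓSpecIso_inv_naturality]
  exact congrArg (fun θ => θ.hom c) h1

lemma flat_toSec [Flat g] (U : X.affineOpens) : (toSec (strMap g) U.1).Flat := by
  have h1 : (g.appLE ⊤ U.1 le_top).hom.Flat := Flat.flat_appLE g (isAffineOpen_top _) U.2 _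
  have h2 : ((Scheme.ΓSpecIso (CommRingCat.of C)).inv).hom.Flat :=
    RingHom.Flat.of_bijective (ConcreteCategory.bijective_of_isIso _)
  show ((g.appLE ⊤ U.1 le_top).hom.comp (Scheme.ΓSpecIso (CommRingCat.of C)).inv.hom).Flat
  exact RingHom.Flat.comp h2 h1

lemma app_toSec
    (hw : i ≫ g = f₀ ≫ Spec.map (CommRingCat.ofHom (Ideal.Quotient.mk (IsLocalRing.maximalIdeal C))))
    (U : X.Opens) (c : C) :
    (i.app U).hom (toSec (strMap g) U c) =
      toSec (strMap f₀) (i ⁻¹ᵁ U) (Ideal.Quotient.mk (IsLocalRing.maximalIdeal C) c) := by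
  have h2 : X.presheaf.map (homOfLE (le_top : U ≤ ⊤)).op ≫ i.app U =
      i.appTop ≫ X₀.presheaf.map (homOfLE (le_top : i ⁻¹ᵁ U ≤ ⊤)).op := i.naturality _
  have h3 := congrArg (fun θ => θ.hom (strMap g c)) h2
  refine h3.trans ?_
  show (X₀.presheaf.map _).hom (i.appTop.hom (strMap g c)) = _
  rw [sq_appTop g i f₀ hw]
  rfl

lemma app_eq_zero_of_mem
    (hw : i ≫ g = f₀ ≫ Spec.map (CommRingCat.ofHom (Ideal.Quotient.mk (IsLocalRing.maximalIdeal C))))
    (U : X.Opens) {y : Γ(X, U)}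
    (hy : y ∈ Ideal.map (toSec (strMap g) U) (IsLocalRing.maximalIdeal C)) :
    (i.app U).hom y = 0 := by
  have h1 : Ideal.map (toSec (strMap g) U) (IsLocalRing.maximalIdeal C) ≤
      RingHom.ker (i.app U).hom := by
    rw [Ideal.map_le_iff_le_comap]
    intro c hc
    rw [Ideal.mem_comap, RingHom.mem_ker, app_toSec g i f₀ hw,
      Ideal.Quotient.eq_zero_iff_mem.2 hc, map_zero]
  exact h1 hy

set_option maxHeartbeats 800000 in
/-- Key kernel computation: on an affine open `U ⊆ X`, a section killed by `i.app U`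
(`i : X₀ ⟶ X` the closed fibre) lies in `𝔪 Γ(X, U)`. -/
lemma mem_of_app_eq_zero
    (hsq : IsPullback i f₀ g
      (Spec.map (CommRingCat.ofHom (Ideal.Quotient.mk (IsLocalRing.maximalIdeal C)))))
    (U : X.Opens) (hU : IsAffineOpen U) (a : Γ(X, U)) (ha : (i.app U).hom a = 0) :
    a ∈ Ideal.map (toSec (strMap g) U) (IsLocalRing.maximalIdeal C) := by
  set 𝔞 : Ideal Γ(X, U) := Ideal.map (toSec (strMap g) U) (IsLocalRing.maximalIdeal C) with h𝔞
  let q : Γ(X, U) →+* Γ(X, U) ⧸ 𝔞 := Ideal.Quotient.mk 𝔞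
  let ψ : C ⧸ IsLocalRing.maximalIdeal C →+* Γ(X, U) ⧸ 𝔞 :=
    Ideal.Quotient.lift (IsLocalRing.maximalIdeal C) (q.comp (toSec (strMap g) U)) (by
      intro c hc
      rw [RingHom.comp_apply]
      exact Ideal.Quotient.eq_zero_iff_mem.2 (Ideal.mem_map_of_mem _ hc))
  have hg : g = X.toSpecΓ ≫ Spec.map ((Scheme.ΓSpecIso (CommRingCat.of C)).inv ≫ g.appTop) := by
    rw [Spec.map_comp, ← Scheme.toSpecΓ_naturality_assoc, toSpecΓ_SpecMap_ΓSpecIso_inv,
      Category.comp_id]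
  have hcomp : (Spec.map (CommRingCat.ofHom q) ≫ hU.fromSpec) ≫ g =
      Spec.map (CommRingCat.ofHom ψ) ≫
        Spec.map (CommRingCat.ofHom (Ideal.Quotient.mk (IsLocalRing.maximalIdeal C))) := by
    calc (Spec.map (CommRingCat.ofHom q) ≫ hU.fromSpec) ≫ g
        = (Spec.map (CommRingCat.ofHom q) ≫ hU.fromSpec) ≫ (X.toSpecΓ ≫
            Spec.map ((Scheme.ΓSpecIso (CommRingCat.of C)).inv ≫ g.appTop)) := by rw [← hg]
      _ = Spec.map (((Scheme.ΓSpecIso (CommRingCat.of C)).inv ≫ g.appTop) ≫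
            X.presheaf.map (homOfLE (le_top : U ≤ ⊤)).op ≫ CommRingCat.ofHom q) := by
          rw [Category.assoc, hU.fromSpec_toSpecΓ_assoc, ← Spec.map_comp, ← Spec.map_comp,
            Category.assoc]
      _ = _ := by
          rw [← Spec.map_comp]
          congr 1
  obtain ⟨h, hh1, -⟩ := hsq.exists_lift _ _ hcomp
  have key : ∀ (F' : Spec (CommRingCat.of (Γ(X, U) ⧸ 𝔞)) ⟶ X) (_ : F' = h ≫ i)
      (e : (⊤ : (Spec (CommRingCat.of (Γ(X, U) ⧸ 𝔞))).Opens) ≤ F' ⁻¹ᵁ U),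
      (F'.appLE U ⊤ e).hom a = 0 := by
    intro F' hF e
    subst hF
    rw [Scheme.Hom.comp_appLE, CommRingCat.comp_apply, ha, map_zero]
  have e : (⊤ : (Spec (CommRingCat.of (Γ(X, U) ⧸ 𝔞))).Opens) ≤
      (Spec.map (CommRingCat.ofHom q) ≫ hU.fromSpec) ⁻¹ᵁ U := by
    rw [Scheme.Hom.comp_preimage, hU.fromSpec_preimage_self]
    exact le_rfl
  have h1 := key _ hh1.symm e
  have h2 : (Spec.map (CommRingCat.ofHom q) ≫ hU.fromSpec).appLE U ⊤ e =
      CommRingCat.ofHom q ≫ (Scheme.ΓSpecIso (CommRingCat.of (Γ(X, U) ⧸ 𝔞))).inv :=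
    fromSpec_comp_appLE hU _ e
  rw [h2, CommRingCat.comp_apply] at h1
  have h3 : q a = 0 := by
    have hinj : Function.Injective
        (Scheme.ΓSpecIso (CommRingCat.of (Γ(X, U) ⧸ 𝔞))).inv.hom :=
      (ConcreteCategory.bijective_of_isIso _).1
    apply hinj
    rw [map_zero]
    exact h1
  exact Ideal.Quotient.eq_zero_iff_mem.1 h3

set_option maxHeartbeats 800000 in
/-- Gluing on the closed fibre: a family of sections on the affine opens of `X` which is
compatible modulo `𝔪` defines a global section of `X₀`. -/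
lemma exists_glue
    (hw : i ≫ g = f₀ ≫ Spec.map (CommRingCat.ofHom (Ideal.Quotient.mk (IsLocalRing.maximalIdeal C))))
    (a : ∀ U : X.affineOpens, Γ(X, U.1))
    (hcompat : ∀ (U W : X.affineOpens) (h : W.1 ≤ U.1),
      (X.presheaf.map (homOfLE h).op).hom (a U) - a W ∈
        Ideal.map (toSec (strMap g) W.1) (IsLocalRing.maximalIdeal C)) :
    ∃ s : Γ(X₀, ⊤), ∀ U : X.affineOpens,
      (X₀.presheaf.map (homOfLE (le_top : i ⁻¹ᵁ U.1 ≤ ⊤)).op).hom s = (i.app U.1).hom (a U) := by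
  have hcov : (⊤ : X₀.Opens) ≤ ⨆ U : X.affineOpens, i ⁻¹ᵁ U.1 := by
    rw [← Scheme.Hom.preimage_iSup, iSup_affineOpens_eq_top]
    exact le_rfl
  -- restriction to a smaller affine
  have hres : ∀ (U W : X.affineOpens) (h : W.1 ≤ U.1),
      (X₀.presheaf.map (homOfLE ((Opens.map i.base).map (homOfLE h)).le).op).hom
        ((i.app U.1).hom (a U)) = (i.app W.1).hom (a W) := by
    intro U W h
    rw [← app_res i h]
    have := app_eq_zero_of_mem g i f₀ hw W.1 (hcompat U W h)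
    rw [map_sub, sub_eq_zero] at this
    exact this
  have hcomp : TopCat.Presheaf.IsCompatible X₀.sheaf.1 (fun U : X.affineOpens => i ⁻¹ᵁ U.1)
      (fun U => (i.app U.1).hom (a U)) := by
    intro U V
    refine TopCat.Sheaf.eq_of_locally_eq' X₀.sheaf
      (fun W : {W : X.affineOpens // W.1 ≤ U.1 ⊓ V.1} => i ⁻¹ᵁ W.1.1) (i ⁻¹ᵁ U.1 ⊓ i ⁻¹ᵁ V.1)
      (fun W => homOfLE (le_inf ((Opens.map i.base).map (homOfLE (W.2.trans inf_le_left))).le
        ((Opens.map i.base).map (homOfLE (W.2.trans inf_le_right))).le)) ?_ _ _ ?_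
    · intro x hx
      have hx' : i.base x ∈ U.1 ⊓ V.1 := hx
      obtain ⟨W, hW, hxW, hWUV⟩ := (Opens.isBasis_iff_nbhd.1 X.isBasis_affineOpens) hx'
      exact Opens.mem_iSup.2 ⟨⟨⟨W, hW⟩, hWUV⟩, hxW⟩
    · intro W
      have e1 := hres U W.1 (W.2.trans inf_le_left)
      have e2 := hres V W.1 (W.2.trans inf_le_right)
      have l1 : ∀ (s : Γ(X₀, i ⁻¹ᵁ U.1)),
          (X₀.presheaf.map (homOfLE (le_inf
            ((Opens.map i.base).map (homOfLE (W.2.trans inf_le_left))).le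
            ((Opens.map i.base).map (homOfLE (W.2.trans inf_le_right))).le :
              i ⁻¹ᵁ W.1.1 ≤ i ⁻¹ᵁ U.1 ⊓ i ⁻¹ᵁ V.1)).op).hom
            ((X₀.presheaf.map (Opens.infLELeft (i ⁻¹ᵁ U.1) (i ⁻¹ᵁ V.1)).op).hom s) =
          (X₀.presheaf.map (homOfLE
            ((Opens.map i.base).map (homOfLE (W.2.trans inf_le_left))).le).op).hom s := by
        intro s
        rw [← CommRingCat.comp_apply, ← Functor.map_comp]
        rfl
      have l2 : ∀ (s : Γ(X₀, i ⁻¹ᵁ V.1)),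
          (X₀.presheaf.map (homOfLE (le_inf
            ((Opens.map i.base).map (homOfLE (W.2.trans inf_le_left))).le
            ((Opens.map i.base).map (homOfLE (W.2.trans inf_le_right))).le :
              i ⁻¹ᵁ W.1.1 ≤ i ⁻¹ᵁ U.1 ⊓ i ⁻¹ᵁ V.1)).op).hom
            ((X₀.presheaf.map (Opens.infLERight (i ⁻¹ᵁ U.1) (i ⁻¹ᵁ V.1)).op).hom s) =
          (X₀.presheaf.map (homOfLE
            ((Opens.map i.base).map (homOfLE (W.2.trans inf_le_right))).le).op).hom s := by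
        intro s
        rw [← CommRingCat.comp_apply, ← Functor.map_comp]
        rfl
      exact (l1 _).trans (e1.trans (e2.symm.trans (l2 _).symm))
  obtain ⟨s, hs, -⟩ := TopCat.Sheaf.existsUnique_gluing' X₀.sheaf
    (fun U : X.affineOpens => i ⁻¹ᵁ U.1) ⊤ (fun U => homOfLE le_top) hcov
    (fun U => (i.app U.1).hom (a U)) hcomp
  exact ⟨s, fun U => hs U⟩

set_option maxHeartbeats 800000 in
theorem strMap_surjective [IsArtinianRing C] [Flat g]
    (hsq : IsPullback i f₀ g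
      (Spec.map (CommRingCat.ofHom (Ideal.Quotient.mk (IsLocalRing.maximalIdeal C)))))
    (h0 : Function.Surjective (strMap f₀)) :
    Function.Surjective (strMap g) := by
  refine surjective_of_glue (strMap g) (flat_toSec g) ?_
  intro a hcompat
  obtain ⟨s, hs⟩ := exists_glue g i f₀ hsq.w a hcompat
  obtain ⟨cbar, rfl⟩ := h0 s
  obtain ⟨c, rfl⟩ := Ideal.Quotient.mk_surjective cbar
  refine ⟨c, fun U => ?_⟩
  apply mem_of_app_eq_zero g i f₀ hsq U.1 U.2
  rw [map_sub, app_toSec g i f₀ hsq.w, ← hs U, sub_eq_zero]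
  rfl

set_option maxHeartbeats 800000 in
theorem strMap_injective [Flat g]
    (hsq : IsPullback i f₀ g
      (Spec.map (CommRingCat.ofHom (Ideal.Quotient.mk (IsLocalRing.maximalIdeal C)))))
    (h0 : Function.Injective (strMap f₀)) :
    Function.Injective (strMap g) := by
  rw [injective_iff_map_eq_zero]
  intro c hc
  by_contra hne
  -- X₀ is nonempty
  have hnt : Nontrivial Γ(X₀, ⊤) := h0.nontrivial
  have hX₀ : Nonempty X₀ := by
    by_contra hemp
    rw [not_nonempty_iff] at hemp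
    have : IsAffine X₀ := isAffine_of_isEmpty
    obtain ⟨p⟩ : Nonempty (Spec Γ(X₀, ⊤)) := inferInstanceAs (Nonempty (PrimeSpectrum Γ(X₀, ⊤)))
    exact hemp.false (X₀.isoSpec.inv.base p)
  obtain ⟨x₀⟩ := hX₀
  obtain ⟨U, hU, hxU, -⟩ := (Opens.isBasis_iff_nbhd.1 X.isBasis_affineOpens)
    (show i.base x₀ ∈ (⊤ : X.Opens) from trivial)
  have hne' : Nonempty (i ⁻¹ᵁ U) := ⟨⟨x₀, hxU⟩⟩
  have hnt' : Nontrivial Γ(X₀, i ⁻¹ᵁ U) := inferInstance
  let _ : Algebra C Γ(X, U) := (toSec (strMap g) U).toAlgebra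
  have hfl : Module.Flat C Γ(X, U) := flat_toSec g ⟨U, hU⟩
  have hkey : algebraMap C Γ(X, U) c * 1 ∈ Ideal.map (algebraMap C Γ(X, U)) (⊥ : Ideal C) := by
    rw [mul_one, Ideal.map_bot, Ideal.mem_bot]
    show toSec (strMap g) U c = 0
    rw [toSec_apply, hc, map_zero]
  have h1 := Groth.Agent.Lib.FlatArtinH0a.mem_map_colon_of_flat (⊥ : Ideal C) c (1 : Γ(X, U)) hkey
  have hcolon : Submodule.colon (⊥ : Ideal C) ({c} : Set C) ≤ IsLocalRing.maximalIdeal C := by
    apply IsLocalRing.le_maximalIdeal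
    intro h
    apply hne
    have : (1 : C) ∈ Submodule.colon (⊥ : Ideal C) ({c} : Set C) := by rw [h]; trivial
    simpa using Submodule.mem_colon_singleton.1 this
  have h2 : (1 : Γ(X, U)) ∈ Ideal.map (toSec (strMap g) U) (IsLocalRing.maximalIdeal C) :=
    Ideal.map_mono hcolon h1
  have h3 := app_eq_zero_of_mem g i f₀ hsq.w U h2
  rw [map_one] at h3
  exact one_ne_zero h3

end

section

variable [IsLocalRing C] [IsArtinianRing C] {X X₀ : Scheme.{u}}

/-- `H⁰(X₀) = k ⇒ H⁰(X) = C` for `X` flat over an Artinian local ring `C` with closed fibre `X₀`. -/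
theorem bijective_of_closedFibre (g : X ⟶ Spec (CommRingCat.of C)) [Flat g]
    (i : X₀ ⟶ X) (f₀ : X₀ ⟶ Spec (CommRingCat.of (C ⧸ IsLocalRing.maximalIdeal C)))
    (hsq : IsPullback i f₀ g
      (Spec.map (CommRingCat.ofHom (Ideal.Quotient.mk (IsLocalRing.maximalIdeal C)))))
    (h0 : Function.Bijective ((Scheme.ΓSpecIso (CommRingCat.of (C ⧸ IsLocalRing.maximalIdeal C))).inv ≫
      f₀.appTop)) :
    Function.Bijective ((Scheme.ΓSpecIso (CommRingCat.of C)).inv ≫ g.appTop) :=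
  ⟨strMap_injective g i f₀ hsq h0.1, strMap_surjective g i f₀ hsq h0.2⟩

end

end Groth.Agent.Lib.FlatArtinH0c
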