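import Mathlib
import Groth.Prelude.Def_FlatCA
import Groth.Agent.Lib.FlatAtBC
import Groth.Agent.Lib.SrcLocalRing

/-!
# Descent of flatness at a prime along a base change flat at a prime (helper84)

* `exists_prime_pushout`: primes of a pushout `S'` of `S` and `R'` over `R` over a compatible pair
  (from helper46's `exists_prime_tensorProduct`).
* `flatAt_descent`: if `R'_{p'}` is `R`-flat, `q ∩ R = p' ∩ R`, and `M' = S' ⊗_S M` is `R'`-flat at
  all primes of `S'` over `(q, p')`, then `M` is `R`-flat at `q`.
-/

set_option autoImplicit false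
set_option linter.style.haveILetI false
universe u

namespace Groth.Agent.Lib.FlatAtDescent

open TensorProduct

section Prime

variable {R S R' S' : Type u} [CommRing R] [CommRing S] [CommRing R'] [CommRing S']
    [Algebra R S] [Algebra R R'] [Algebra S S'] [Algebra R' S'] [Algebra R S'] [IsScalarTower R S S']
    [IsScalarTower R R' S'] [Algebra.IsPushout R S R' S']

/-- In a pushout square of rings, a pair of primes of `S` and `R'` with the same contraction to
`R` comes from a prime of `S'`. -/
theorem exists_prime_pushout (q : Ideal S) [q.IsPrime] (p' : Ideal R') [p'.IsPrime]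
    (hpq : q.comap (algebraMap R S) = p'.comap (algebraMap R R')) :
    ∃ q' : Ideal S', q'.IsPrime ∧ q'.comap (algebraMap S S') = q ∧
      q'.comap (algebraMap R' S') = p' := by
  obtain ⟨z, hz1, hz2⟩ := Groth.Agent.Lib.SrcLocalRing.exists_prime_tensorProduct (R := R)
    (⟨q, inferInstance⟩ : PrimeSpectrum S) (⟨p', inferInstance⟩ : PrimeSpectrum R')
    (PrimeSpectrum.ext hpq)
  let e : S ⊗[R] R' ≃ₐ[S] S' := Algebra.IsPushout.equiv R S R' S'
  refine ⟨z.asIdeal.comap (e.symm : S' →+* S ⊗[R] R'), Ideal.comap_isPrime _ _, ?_, ?_⟩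
  · have h1 := congrArg PrimeSpectrum.asIdeal hz1
    simp only [PrimeSpectrum.comap_asIdeal] at h1
    rw [← h1, Ideal.comap_comap]
    congr 1
    ext s
    simp [e]
  · have h1 := congrArg PrimeSpectrum.asIdeal hz2
    simp only [PrimeSpectrum.comap_asIdeal] at h1
    rw [← h1, Ideal.comap_comap]
    congr 1
    ext s
    simp [e, Algebra.IsPushout.equiv_symm_algebraMap_right]

end Prime

section Main

variable {R S R' S' : Type u} [CommRing R] [CommRing S] [CommRing R'] [CommRing S']
    [Algebra R S] [Algebra R R'] [Algebra S S'] [Algebra R' S'] [Algebra R S'] [IsScalarTower R S S']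
    [IsScalarTower R R' S'] [Algebra.IsPushout R S R' S']
    {M M' : Type u} [AddCommGroup M] [Module S M] [Module R M] [IsScalarTower R S M]
    [AddCommGroup M'] [Module S' M'] [Module R' M'] [IsScalarTower R' S' M'] [Module S M']
    [IsScalarTower S S' M']

attribute [local instance] Algebra.TensorProduct.rightAlgebra

/-- Auxiliary form of `flatAt_descent` with an abstract flat `R`-algebra `R''` over `R'` and a prime
`m''` of `R''` lying over `p'`. -/
theorem flatAt_descent_aux (R'' : Type u) [CommRing R''] [Algebra R' R''] [Algebra R R'']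
    [IsScalarTower R R' R''] [Module.Flat R R'']
    (f : M →ₗ[S] M') (hf : IsBaseChange S' f)
    (q : Ideal S) [q.IsPrime] (p' : Ideal R') [p'.IsPrime]
    (hpq : q.comap (algebraMap R S) = p'.comap (algebraMap R R'))
    (m'' : Ideal R'') [m''.IsPrime] (hm : m''.comap (algebraMap R' R'') = p')
    (h : ∀ (q' : Ideal S') [q'.IsPrime], q'.comap (algebraMap S S') = q →
      q'.comap (algebraMap R' S') = p' → FlatCA.FlatAt R' q' M') :
    FlatCA.FlatAt R q M := by
  classical
  have hRR'' : IsScalarTower R R'' (S' ⊗[R'] R'') :=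
    IsScalarTower.of_algebraMap_eq (fun r => by
      rw [Algebra.TensorProduct.algebraMap_apply]
      change (algebraMap R S' r) ⊗ₜ[R'] (1 : R'') = (1 : S') ⊗ₜ[R'] (algebraMap R R'' r)
      rw [IsScalarTower.algebraMap_apply R R' S', IsScalarTower.algebraMap_apply R R' R'',
        Algebra.algebraMap_eq_smul_one, TensorProduct.smul_tmul, ← Algebra.algebraMap_eq_smul_one])
  haveI : Algebra.IsPushout R R' S S' := Algebra.IsPushout.symm inferInstance
  have hpo : Algebra.IsPushout R R'' S (S' ⊗[R'] R'') :=
    (Algebra.IsPushout.comp_iff R R' S (S' := S') (T := R'') (T' := S' ⊗[R'] R'')).mpr inferInstance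
  haveI hpo' : Algebra.IsPushout R S R'' (S' ⊗[R'] R'') := hpo.symm
  haveI : Module.Flat S (S' ⊗[R'] R'') :=
    Module.Flat.isBaseChange (R := R) (S := S) (M := R'') (S' ⊗[R'] R'') hpo'.out
  obtain ⟨q'', hq''prime, hq''S, hq''R⟩ := exists_prime_pushout (R := R) (S := S)
    (R' := R'') (S' := S' ⊗[R'] R'') q m'' (by
      have h0 : Ideal.comap (algebraMap R R'') m'' =
          Ideal.comap (algebraMap R R') (Ideal.comap (algebraMap R' R'') m'') := by
        rw [Ideal.comap_comap, ← IsScalarTower.algebraMap_eq]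
      rw [h0, hm, hpq])
  haveI := hq''prime
  have hq'S : (q''.comap (algebraMap S' (S' ⊗[R'] R''))).comap (algebraMap S S') = q := by
    rw [Ideal.comap_comap, ← IsScalarTower.algebraMap_eq, hq''S]
  have hq'R : (q''.comap (algebraMap S' (S' ⊗[R'] R''))).comap (algebraMap R' S') = p' := by
    rw [Ideal.comap_comap, ← IsScalarTower.algebraMap_eq,
      IsScalarTower.algebraMap_eq R' R'' (S' ⊗[R'] R''), ← Ideal.comap_comap, hq''R, hm]
  have hM' : FlatCA.FlatAt R' (q''.comap (algebraMap S' (S' ⊗[R'] R''))) M' := h _ hq'S hq'R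
  have hg : IsBaseChange (S' ⊗[R'] R'') (TensorProduct.mk S' (S' ⊗[R'] R'') M' 1) :=
    TensorProduct.isBaseChange S' M' _
  have h1 : FlatCA.FlatAt R'' q'' ((S' ⊗[R'] R'') ⊗[S'] M') :=
    Groth.Agent.Lib.FlatAtBC.flatAt_baseChange (R := R') _ hg q'' hM'
  have h2 : FlatCA.FlatAt R q'' ((S' ⊗[R'] R'') ⊗[S'] M') := by
    unfold FlatCA.FlatAt at h1 ⊢
    haveI : IsScalarTower R R'' (LocalizedModule q''.primeCompl
        ((S' ⊗[R'] R'') ⊗[S'] M')) := ⟨fun r a x => by
      induction x using LocalizedModule.induction_on with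
      | h m s =>
        rw [LocalizedModule.smul'_mk, LocalizedModule.smul'_mk, LocalizedModule.smul'_mk,
          smul_assoc]⟩
    exact Module.Flat.trans R R'' _
  have hψ := IsBaseChange.comp hf hg
  exact (Groth.Agent.Lib.FlatAtCrit22.flatAt_iff_of_isBaseChange M _ _ hψ q'' q hq''S).mpr h2

/-- Descent of flatness at a prime: if `R'_{p'}` is flat over `R`, `p'` and `q` contract to the same
prime of `R`, and `M' = S' ⊗ M` is `R'`-flat at every prime of `S'` over `q` and `p'`, then `M` is
`R`-flat at `q`. -/
theorem flatAt_descent (f : M →ₗ[S] M') (hf : IsBaseChange S' f)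
    (q : Ideal S) [q.IsPrime] (p' : Ideal R') [p'.IsPrime]
    (hpq : q.comap (algebraMap R S) = p'.comap (algebraMap R R'))
    (hflat : Module.Flat R (Localization.AtPrime p'))
    (h : ∀ (q' : Ideal S') [q'.IsPrime], q'.comap (algebraMap S S') = q →
      q'.comap (algebraMap R' S') = p' → FlatCA.FlatAt R' q' M') :
    FlatCA.FlatAt R q M :=
  flatAt_descent_aux (Localization.AtPrime p') f hf q p' hpq
    (IsLocalRing.maximalIdeal (Localization.AtPrime p'))
    (IsLocalization.AtPrime.under_maximalIdeal (Localization.AtPrime p') p') h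

end Main

end Groth.Agent.Lib.FlatAtDescent
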