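import Groth.Agent.Lib.DeltaCenter
import Groth.Agent.Lib.DerivedLES
import Groth.Agent.Lib.DeltaUniv
import Groth.Agent.Lib.CohLES
import Groth.Agent.S16465

/-!
# Higher direct images are linear over global functions of the base (helper10)

`mulHom M r : M ⟶ M` is multiplication by the global function `r` as an endomorphism in `X.Modules`
(`toAb_map_mulHom : toAb.map (mulHom M r) = Coh.smulAb M r`), `mulNat r : 𝟭 ⟶ 𝟭`.
`Rpush_map_mulHom`: `R^n f_* (mulHom M (f^♯ g)) = mulHom (R^n f_* M) g`.
-/

set_option autoImplicit false
universe u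

open CategoryTheory CategoryTheory.Limits AlgebraicGeometry TopologicalSpace Opposite

namespace Groth.Agent.Lib.RpushLinear

open Groth.Agent.Lib.CohLES

variable {X : Scheme.{u}}

/-- multiplication by a global function, as an endomorphism of an `O_X`-module -/
noncomputable def mulHom (M : X.Modules) (r : Coh.Γtop X) : M ⟶ M :=
  ⟨PresheafOfModules.homMk (Coh.smulAb M r).hom (by
    intro U a m
    change (Coh.resTop X U r) • (a • m) = a • ((Coh.resTop X U r) • m)
    rw [smul_smul, smul_smul]
    congr 1
    exact mul_comm (show X.presheaf.obj U from Coh.resTop X U r) (show X.presheaf.obj U from a))⟩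

theorem toAb_map_mulHom (M : X.Modules) (r : Coh.Γtop X) :
    (toAbF X).map (mulHom M r) = Coh.smulAb M r := rfl

instance : (toAbF X).Faithful :=
  inferInstanceAs (SheafOfModules.toSheaf.{u} X.ringCatSheaf).Faithful

theorem mulHom_naturality {M N : X.Modules} (φ : M ⟶ N) (r : Coh.Γtop X) :
    mulHom M r ≫ φ = φ ≫ mulHom N r := by
  apply (toAbF X).map_injective
  rw [Functor.map_comp, Functor.map_comp, toAb_map_mulHom, toAb_map_mulHom]
  ext U m
  change ((toAbF X).map φ).hom.app U ((Coh.smulAb M r).hom.app U m) =
    (Coh.smulAb N r).hom.app U (((toAbF X).map φ).hom.app U m)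
  rw [Coh.smulAb_app, Coh.smulAb_app]
  exact (φ.val.app U).hom.map_smul _ m

/-- multiplication by a global function as an endomorphism of the identity functor -/
noncomputable def mulNat (r : Coh.Γtop X) : 𝟭 X.Modules ⟶ 𝟭 X.Modules where
  app M := mulHom M r
  naturality _ _ φ := (mulHom_naturality φ r).symm

theorem mulNat_app (r : Coh.Γtop X) (M : X.Modules) : (mulNat r).app M = mulHom M r := rfl

variable {S : Scheme.{u}} (f : X ⟶ S)

/-- the pullback of a global function -/
noncomputable def pullFn (g : Coh.Γtop S) : Coh.Γtop X := f.appTop.hom g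

theorem push_map_mulHom (M : X.Modules) (g : Coh.Γtop S) :
    (Coh.push f).map (mulHom M (pullFn f g)) = mulHom ((Coh.push f).obj M) g := by
  apply (toAbF S).map_injective
  rw [toAb_map_mulHom]
  ext V t
  change (Coh.smulAb M (pullFn f g)).hom.app (op ((Opens.map f.base).obj V.unop)) t =
    (Coh.smulAb ((Coh.push f).obj M) g).hom.app V t
  rw [Coh.smulAb_app, Coh.smulAb_app]
  have key : Coh.resTop X (op ((Opens.map f.base).obj V.unop)) (pullFn f g) =
      (f.toRingCatSheafHom.hom.app V).hom (Coh.resTop S V g) := by
    have h := f.naturality (homOfLE (le_top (a := V.unop))).op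
    exact (congr($h g)).symm
  rw [key]
  rfl

instance : PreservesFiniteLimits (Coh.push f) := by
  have : (Coh.push f).IsRightAdjoint :=
    (Scheme.Modules.pullbackPushforwardAdjunction f).isRightAdjoint
  infer_instance

/-- **`R^n f_*` is linear over global functions of the base.** -/
theorem Rpush_map_mulHom [HasInjectiveResolutions X.Modules] (M : X.Modules) (g : Coh.Γtop S)
    (n : ℕ) :
    (Coh.Rpush f n).map (mulHom M (pullFn f g)) = mulHom ((Coh.Rpush f n).obj M) g := by
  let T := (Groth.Agent.Lib.DerivedLES.derivedLES (Coh.push f)).toCohDeltaFunctor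
  have hT : T.IsUniversal := Groth.Agent.S16465.result _ _
  refine Groth.Agent.Lib.DeltaCenter.map_eq_of_isUniversal T (mulNat (pullFn f g)) (mulNat g) hT
    (fun N => ?_) n M
  change ((Coh.push f).rightDerived 0).map (mulHom N (pullFn f g)) =
    mulHom (((Coh.push f).rightDerived 0).obj N) g
  let ι := (Coh.push f).rightDerivedZeroIsoSelf
  have h1 : ((Coh.push f).rightDerived 0).map (mulHom N (pullFn f g)) =
      ι.hom.app N ≫ (Coh.push f).map (mulHom N (pullFn f g)) ≫ ι.inv.app N := by
    rw [← Category.assoc, ← ι.hom.naturality, Category.assoc, Iso.hom_inv_id_app, Category.comp_id]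
  have h2 : mulHom (((Coh.push f).rightDerived 0).obj N) g =
      ι.hom.app N ≫ mulHom ((Coh.push f).obj N) g ≫ ι.inv.app N := by
    rw [← Category.assoc, ← mulHom_naturality, Category.assoc, Iso.hom_inv_id_app,
      Category.comp_id]
  rw [h1, h2, push_map_mulHom]

/-- the same on underlying abelian sheaves -/
theorem toAb_Rpush_map_mulHom [HasInjectiveResolutions X.Modules] (M : X.Modules)
    (g : Coh.Γtop S) (n : ℕ) :
    (toAbF S).map ((Coh.Rpush f n).map (mulHom M (pullFn f g))) =
      Coh.smulAb ((Coh.Rpush f n).obj M) g := by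
  rw [Rpush_map_mulHom, toAb_map_mulHom]

end Groth.Agent.Lib.RpushLinear
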