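import Groth.Agent.Lib.CohBC
import Groth.Agent.Lib.FlatBaseChangeQcqs
import Groth.Agent.Lib.RpushLinear
import Groth.Agent.Lib.ActPresheaf
import Groth.Agent.Lib.H72PullbackQCoh
import Groth.Agent.Lib.H90OXModPush
import Groth.Agent.Lib.AffMorAcyclic

/-!
# Flat base change for cohomology: the base change datum (helper49)

For `g' : X' ⟶ X` lying over `Spec B ⟶ Spec A` and an `O_X`-module `M`:
`bcData A B g' hw M : CohBC.Data A B X` with source `toAb M` (`A` acting through `Coh.smulAb`), target
`g'_* (toAb (g'^* M))` (`B` acting through `g'_*` of `Coh.smulAb`), and map the unit of the adjunction.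
Also: `secAdd` (additive version of `HUSec.sec`), `smulAbHom`, `actOver`, `actPush`, `pullFn_toGlobal`,
`sec_smul_actOver`.
-/

set_option autoImplicit false
universe u
open CategoryTheory CategoryTheory.Limits AlgebraicGeometry TopologicalSpace Opposite Abelian

namespace Groth.Agent.Lib.FlatBCCohData

open Groth.Agent.Lib.CohBC Groth.Agent.Lib.HUInst Groth.Agent.Lib.HUSec Groth.Agent.Lib.RpushLinear
open Groth.Agent.Lib.CohLES Groth.Agent.Lib.FlasqueAcyclic Groth.Agent.Lib.AffVanTop

section Sec

variable {X : TopCat.{u}}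

lemma sec_add (A : CohTop.Ab X) (U : Opens X) (x y : CohTop.HU A 0 U) :
    sec A U (x + y) = sec A U x + sec A U y := by
  obtain ⟨φ, rfl⟩ := (Ext.mk₀_bijective (freeSh U) A).2 x
  obtain ⟨ψ, rfl⟩ := (Ext.mk₀_bijective (freeSh U) A).2 y
  have h : (Ext.mk₀ φ + Ext.mk₀ ψ : CohTop.HU A 0 U) = Ext.mk₀ (φ + ψ) := (Ext.mk₀_add φ ψ).symm
  refine (congrArg (sec A U) h).trans ?_
  rw [sec_mk₀, sec_mk₀, sec_mk₀]
  have h2 : φ + ψ = φ - (0 - ψ) := by abel
  rw [h2, homEquiv_sub, homEquiv_sub, homEquiv_zero]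
  abel

/-- degree zero classes are sections, additively -/
noncomputable def secAdd (A : CohTop.Ab X) (U : Opens X) : CohTop.HU A 0 U ≃+ A.obj.obj (op U) :=
  { sec A U with map_add' := sec_add A U }

lemma secAdd_apply (A : CohTop.Ab X) (U : Opens X) (x : CohTop.HU A 0 U) :
    secAdd A U x = sec A U x := rfl

end Sec

section Data

variable {X : Scheme.{u}}

/-- multiplication by global functions, as a ring morphism -/
noncomputable def smulAbHom (M : X.Modules) : Coh.Γtop X →+* End (Coh.toAb M) where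
  toFun r := Coh.smulAb M r
  map_one' := Coh.smulAb_one M
  map_mul' r s := Coh.smulAb_mul M r s
  map_zero' := Coh.smulAb_zero M
  map_add' r s := Coh.smulAb_add M r s

/-- an `O_X`-module on a scheme over `Spec A`, as an abelian sheaf with `A`-action -/
noncomputable def actOver (A : Type u) [CommRing A] (X : Scheme.{u}) [X.Over (Spec (CommRingCat.of A))]
    (M : X.Modules) : Act A X where
  F := Coh.toAb M
  act := (smulAbHom M).comp (Coh.toGlobal (X ↘ Spec (CommRingCat.of A)))

variable {X' : Scheme.{u}} (g' : X' ⟶ X)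

/-- the direct image of an `O_{X'}`-module on a scheme over `Spec B`, as an abelian sheaf with `B`-action -/
noncomputable def actPush (B : Type u) [CommRing B] [X'.Over (Spec (CommRingCat.of B))]
    (N : X'.Modules) : Act B X where
  F := (Coh.pushAb g').obj (Coh.toAb N)
  act := ((Groth.Agent.Lib.ActPresheaf.mapEndRingHom (Coh.pushAb g') (Coh.toAb N)).comp
    (smulAbHom N)).comp (Coh.toGlobal (X' ↘ Spec (CommRingCat.of B)))

end Data

section BC

open Scheme.Modules

variable (A B : Type u) [CommRing A] [CommRing B] [Algebra A B] {X X' : Scheme.{u}}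
  [X.Over (Spec (CommRingCat.of A))] [X'.Over (Spec (CommRingCat.of B))] (g' : X' ⟶ X)
  (hw : g' ≫ (X ↘ Spec (CommRingCat.of A)) =
    (X' ↘ Spec (CommRingCat.of B)) ≫ Spec.map (CommRingCat.ofHom (algebraMap A B)))
  (M : X.Modules)

/-- the unit `M ⟶ g'_* g'^* M` on underlying abelian sheaves -/
noncomputable def unitAb :
    Coh.toAb M ⟶ (Coh.pushAb g').obj (Coh.toAb ((Scheme.Modules.pullback g').obj M)) :=
  (toAbF X).map ((pullbackPushforwardAdjunction g').unit.app M)

include hw in
lemma pullFn_toGlobal (a : A) :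
    pullFn g' (Coh.toGlobal (X ↘ Spec (CommRingCat.of A)) a) =
      Coh.toGlobal (X' ↘ Spec (CommRingCat.of B)) (algebraMap A B a) := by
  have h1 : (X ↘ Spec (CommRingCat.of A)).appTop ≫ g'.appTop =
      (Spec.map (CommRingCat.ofHom (algebraMap A B))).appTop ≫
        (X' ↘ Spec (CommRingCat.of B)).appTop := by
    rw [← Scheme.Hom.comp_appTop, ← Scheme.Hom.comp_appTop, hw]
  have h2 := Scheme.ΓSpecIso_inv_naturality (CommRingCat.ofHom (algebraMap A B))
  have h3 : (Scheme.ΓSpecIso (CommRingCat.of A)).inv ≫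
      (X ↘ Spec (CommRingCat.of A)).appTop ≫ g'.appTop =
      CommRingCat.ofHom (algebraMap A B) ≫ (Scheme.ΓSpecIso (CommRingCat.of B)).inv ≫
        (X' ↘ Spec (CommRingCat.of B)).appTop := by
    rw [h1, ← Category.assoc, ← h2, Category.assoc]
  exact congr($h3 a)

/-- the base change datum attached to `g' : X' ⟶ X` over `Spec B ⟶ Spec A` and an `O_X`-module `M` -/
noncomputable def bcData : Data A B X where
  P := actOver A X M
  Q := actPush g' B ((Scheme.Modules.pullback g').obj M)
  u := unitAb g' M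
  comm a := by
    change Coh.smulAb M (Coh.toGlobal (X ↘ Spec (CommRingCat.of A)) a) ≫ unitAb g' M =
      unitAb g' M ≫ (Coh.pushAb g').map (Coh.smulAb ((Scheme.Modules.pullback g').obj M)
        (Coh.toGlobal (X' ↘ Spec (CommRingCat.of B)) (algebraMap A B a)))
    rw [← pullFn_toGlobal A B g' hw a, ← toAb_map_mulHom, ← toAb_map_mulHom]
    have h1 := push_map_mulHom g' ((Scheme.Modules.pullback g').obj M)
      (Coh.toGlobal (X ↘ Spec (CommRingCat.of A)) a)
    have h2 : (Coh.pushAb g').map ((toAbF X').map (mulHom ((Scheme.Modules.pullback g').obj M)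
        (pullFn g' (Coh.toGlobal (X ↘ Spec (CommRingCat.of A)) a)))) =
        (toAbF X).map ((Coh.push g').map (mulHom ((Scheme.Modules.pullback g').obj M)
          (pullFn g' (Coh.toGlobal (X ↘ Spec (CommRingCat.of A)) a)))) := rfl
    rw [h2, h1, unitAb]
    exact ((toAbF X).map_comp _ _).symm.trans
      ((congrArg (toAbF X).map (mulHom_naturality _ _)).trans ((toAbF X).map_comp _ _))

end BC

section Affine

open Scheme.Modules Groth.Agent.Lib.FlatBaseChangeQcqs Groth.Agent.Lib.UnitBaseChange
open Groth.Agent.Lib.BaseChangeFive Groth.Agent.Lib.QCohStalk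

variable {X : Scheme.{u}}

lemma resTop_toGlobal {A : Type u} [CommRing A] (f : X ⟶ Spec (CommRingCat.of A)) (U : X.Opens)
    (hUV : U ≤ f ⁻¹ᵁ ⊤) (a : A) :
    Coh.resTop X (op U) (Coh.toGlobal f a) =
      (f.appLE ⊤ U hUV).hom ((Scheme.ΓSpecIso (CommRingCat.of A)).inv.hom a) := rfl

lemma sec_smul_actOver (A : Type u) [CommRing A] [X.Over (Spec (CommRingCat.of A))] (M : X.Modules)
    (U : X.Opens) (a : A) (x : (actOver A X M).H 0 U) :
    sec (Coh.toAb M) U (a • x) =
      @HSMul.hSMul (X.ringCatSheaf.obj.obj (op U)) (M.val.obj (op U)) (M.val.obj (op U)) _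
        (Coh.resTop X (op U) (Coh.toGlobal (X ↘ Spec (CommRingCat.of A)) a))
        (sec (Coh.toAb M) U x) := by
  refine (sec_HUmap _ U x).trans ?_
  exact Coh.smulAb_app M _ (op U) _

end Affine

end Groth.Agent.Lib.FlatBCCohData
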