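import Mathlib.RingTheory.Flat.Basic
import Mathlib.RingTheory.IsTensorProduct
import Mathlib.RingTheory.TensorProduct.IsBaseChangePi
import Mathlib.Algebra.Exact.Basic

set_option autoImplicit false
set_option linter.style.haveILetI false
universe u
open TensorProduct

namespace Groth.Agent.Lib.FlatBaseChangeAlg

/-- two base changes of the same module are canonically isomorphic -/
theorem bijective_of_isBaseChange_of_isBaseChange
    {A A' M N₁ N₂ : Type*} [CommRing A] [CommRing A'] [Algebra A A']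
    [AddCommGroup M] [Module A M]
    [AddCommGroup N₁] [Module A N₁] [Module A' N₁] [IsScalarTower A A' N₁]
    [AddCommGroup N₂] [Module A N₂] [Module A' N₂] [IsScalarTower A A' N₂]
    (θ₁ : M →ₗ[A] N₁) (h₁ : IsBaseChange A' θ₁) (θ₂ : M →ₗ[A] N₂) (h₂ : IsBaseChange A' θ₂)
    (υ : N₁ →ₗ[A'] N₂) (hυ : ∀ m, υ (θ₁ m) = θ₂ m) : Function.Bijective υ := by
  have key : ∀ n, υ n = h₂.equiv (h₁.equiv.symm n) := by
    intro n
    induction n using h₁.inductionOn with
    | zero => simp
    | tmul m =>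
      rw [hυ, IsBaseChange.equiv_symm_apply, IsBaseChange.equiv_tmul, one_smul]
    | smul s n hn => rw [map_smul, hn, map_smul, map_smul]
    | add n₁ n₂ h1 h2 => rw [map_add, h1, h2, map_add, map_add]
  have : (υ : N₁ → N₂) = h₂.equiv ∘ h₁.equiv.symm := funext key
  rw [this]
  exact h₂.equiv.bijective.comp h₁.equiv.symm.bijective

/-- two base changes of (linearly equivalent) modules are canonically isomorphic; version for a plain
function `υ` which is additive and semilinear -/
theorem bijective_of_isBaseChange_of_isBaseChange'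
    {A A' M₁ M₂ N₁ N₂ : Type*} [CommRing A] [CommRing A'] [Algebra A A']
    [AddCommGroup M₁] [Module A M₁] [AddCommGroup M₂] [Module A M₂]
    [AddCommGroup N₁] [Module A N₁] [Module A' N₁] [IsScalarTower A A' N₁]
    [AddCommGroup N₂] [Module A N₂] [Module A' N₂] [IsScalarTower A A' N₂]
    (θ₁ : M₁ →ₗ[A] N₁) (h₁ : IsBaseChange A' θ₁) (θ₂ : M₂ →ₗ[A] N₂) (h₂ : IsBaseChange A' θ₂)
    (ε : M₁ ≃ₗ[A] M₂) (υ : N₁ → N₂) (hadd : ∀ x y, υ (x + y) = υ x + υ y)
    (hsmul : ∀ (r : A') x, υ (r • x) = r • υ x) (hυ : ∀ m, υ (θ₁ m) = θ₂ (ε m)) :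
    Function.Bijective υ := by
  let υL : N₁ →ₗ[A'] N₂ := { toFun := υ, map_add' := hadd, map_smul' := hsmul }
  have h₂' : IsBaseChange A' (θ₂ ∘ₗ ε.toLinearMap) := by
    refine IsBaseChange.of_equiv
      ((TensorProduct.AlgebraTensorModule.congr (LinearEquiv.refl A' A') ε) ≪≫ₗ h₂.equiv) ?_
    intro m
    simp [IsBaseChange.equiv_tmul]
  exact bijective_of_isBaseChange_of_isBaseChange θ₁ h₁ (θ₂ ∘ₗ ε.toLinearMap) h₂' υL
    (fun m => hυ m)

/-- transitivity of base change along a pushout square of rings -/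
theorem isBaseChange_of_isPushout
    {A A' B B' M N : Type*} [CommRing A] [CommRing A'] [CommRing B] [CommRing B']
    [Algebra A A'] [Algebra A B] [Algebra A' B'] [Algebra B B'] [Algebra A B']
    [IsScalarTower A A' B'] [IsScalarTower A B B'] [Algebra.IsPushout A A' B B']
    [AddCommGroup M] [Module A M] [Module B M] [IsScalarTower A B M]
    [AddCommGroup N] [Module A N] [Module B N] [Module B' N] [IsScalarTower B B' N] [Module A' N]
    [IsScalarTower A' B' N] [IsScalarTower A A' N]
    (θ : M →ₗ[B] N) (h : IsBaseChange B' θ) (θA : M →ₗ[A] N) (hθ : ∀ m, θA m = θ m) :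
    IsBaseChange A' θA := by
  let E : A' ⊗[A] M ≃ₗ[A'] N :=
    (Algebra.IsPushout.cancelBaseChange A A' B B' M).symm ≪≫ₗ (h.equiv.restrictScalars A')
  apply IsBaseChange.of_equiv E
  intro m
  rw [hθ]
  simp [E, IsBaseChange.equiv_tmul]

/-- **Kernel base change.** Flat base change commutes with kernels. -/
theorem isBaseChange_of_exact
    {A A' M P Q N P' Q' : Type*} [CommRing A] [CommRing A'] [Algebra A A'] [Module.Flat A A']
    [AddCommGroup M] [Module A M] [AddCommGroup P] [Module A P] [AddCommGroup Q] [Module A Q]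
    [AddCommGroup N] [Module A N] [Module A' N] [IsScalarTower A A' N]
    [AddCommGroup P'] [Module A P'] [Module A' P'] [IsScalarTower A A' P']
    [AddCommGroup Q'] [Module A Q'] [Module A' Q'] [IsScalarTower A A' Q']
    (ι : M →ₗ[A] P) (d : P →ₗ[A] Q) (hι : Function.Injective ι) (hex : Function.Exact ι d)
    (ι' : N →ₗ[A'] P') (d' : P' →ₗ[A'] Q') (hι' : Function.Injective ι')
    (hex' : Function.Exact ι' d')
    (θ : M →ₗ[A] N) (θP : P →ₗ[A] P') (θQ : Q →ₗ[A] Q')
    (c₁ : ∀ m, ι' (θ m) = θP (ι m)) (c₂ : ∀ p, d' (θP p) = θQ (d p))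
    (hP : IsBaseChange A' θP) (hQ : IsBaseChange A' θQ) : IsBaseChange A' θ := by
  let θ' : A' ⊗[A] M →ₗ[A'] N := θ.liftBaseChange A'
  have hθ' : ∀ (s : A') (m : M), θ' (s ⊗ₜ m) = s • θ m := fun s m =>
    LinearMap.liftBaseChange_tmul A' θ s m
  have k₁ : ∀ x, ι' (θ' x) = hP.equiv (ι.lTensor A' x) := by
    intro x
    induction x using TensorProduct.induction_on with
    | zero => simp
    | tmul s m => rw [hθ', map_smul, c₁, LinearMap.lTensor_tmul, hP.equiv_tmul]
    | add x y hx hy => simp only [map_add, hx, hy]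
  have k₂ : ∀ y, d' (hP.equiv y) = hQ.equiv (d.lTensor A' y) := by
    intro y
    induction y using TensorProduct.induction_on with
    | zero => simp
    | tmul s p => rw [hP.equiv_tmul, map_smul, c₂, LinearMap.lTensor_tmul, hQ.equiv_tmul]
    | add x y hx hy => simp only [map_add, hx, hy]
  have inj : Function.Injective θ' := by
    intro x y hxy
    have : hP.equiv (ι.lTensor A' x) = hP.equiv (ι.lTensor A' y) := by rw [← k₁, ← k₁, hxy]
    exact Module.Flat.lTensor_preserves_injective_linearMap ι hι (hP.equiv.injective this)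
  have surj : Function.Surjective θ' := by
    intro n
    obtain ⟨y, hy⟩ := hP.equiv.surjective (ι' n)
    have h0 : d.lTensor A' y = 0 := by
      apply hQ.equiv.injective
      rw [← k₂, hy, map_zero]
      exact (hex' (ι' n)).mpr ⟨n, rfl⟩
    obtain ⟨x, hx⟩ := (Module.Flat.lTensor_exact A' hex y).mp h0
    refine ⟨x, hι' ?_⟩
    rw [k₁, hx, hy]
  have hbij : Function.Bijective θ' := ⟨inj, surj⟩
  refine IsBaseChange.of_equiv (LinearEquiv.ofBijective θ' hbij) (fun m => ?_)
  rw [LinearEquiv.ofBijective_apply, hθ', one_smul]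

end Groth.Agent.Lib.FlatBaseChangeAlg
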