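import Groth.Agent.Lib.TorBaseChange22

/-!
# Flatness of a localized base change via the local criterion (Stacks 10.99.8)
-/

set_option autoImplicit false
set_option linter.style.haveILetI false
universe u

namespace Groth.Agent.Lib.FlatBaseChangeLoc22

open TensorProduct Function

section LocInj

variable {R' T : Type u} [CommRing R'] [CommRing T] [Algebra R' T] (W : Submonoid T)
  {Y M' : Type u} [AddCommGroup Y] [Module T Y] [Module R' Y] [IsScalarTower R' T Y]
  [AddCommGroup M'] [Module T M'] [Module R' M'] [IsScalarTower R' T M']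
  (g : Y →ₗ[T] M')
  {P₁ P₂ : Type u} [AddCommGroup P₁] [Module R' P₁] [AddCommGroup P₂] [Module R' P₂]
  (ι : P₁ →ₗ[R'] P₂)

theorem lTensor_rTensor_comm (y : Y ⊗[R'] P₁) :
    (ι.lTensor M') (AlgebraTensorModule.rTensor R' P₁ g y) =
      AlgebraTensorModule.rTensor R' P₂ g ((ι.lTensor Y) y) := by
  induction y with
  | zero => simp
  | tmul n i => simp
  | add a b ha hb => simp only [map_add, ha, hb]

/-- If `M'` is a localization of `Y` (over a ring `T` commuting with `R'`), injectivity of
`M' ⊗ P₁ → M' ⊗ P₂` follows from the vanishing in `M' ⊗ P₁` of the kernel of `Y ⊗ P₁ → Y ⊗ P₂`. -/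
theorem injective_lTensor_of_isLocalizedModule [IsLocalizedModule W g]
    (h : ∀ y : Y ⊗[R'] P₁, (ι.lTensor Y) y = 0 → AlgebraTensorModule.rTensor R' P₁ g y = 0) :
    Injective (ι.lTensor M') := by
  rw [injective_iff_map_eq_zero]
  intro y hy
  obtain ⟨⟨x, s⟩, hxs⟩ := IsLocalizedModule.surj W (AlgebraTensorModule.rTensor R' P₁ g) y
  have h1 : AlgebraTensorModule.rTensor R' P₂ g ((ι.lTensor Y) x) = 0 := by
    rw [← lTensor_rTensor_comm, ← hxs]
    have : (ι.lTensor M') (s • y) = s • (ι.lTensor M') y :=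
      (AlgebraTensorModule.lTensor T M' ι).map_smul (s : T) y
    rw [this, hy, smul_zero]
  obtain ⟨s', hs'⟩ := (IsLocalizedModule.eq_zero_iff W
    (AlgebraTensorModule.rTensor R' P₂ g)).mp h1
  have h2 : (ι.lTensor Y) ((s' : T) • x) = 0 := by
    have h3 : (ι.lTensor Y) ((s' : T) • x) = (s' : T) • (ι.lTensor Y) x :=
      (AlgebraTensorModule.lTensor T Y ι).map_smul (s' : T) x
    rw [h3]; exact hs'
  have h4 := h _ h2
  rw [map_smul] at h4
  have h5 : AlgebraTensorModule.rTensor R' P₁ g x = 0 :=
    IsLocalizedModule.smul_injective (AlgebraTensorModule.rTensor R' P₁ g) s'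
      (by
        change s' • _ = s' • (0 : M' ⊗[R'] P₁)
        rw [smul_zero]; exact h4)
  rw [h5] at hxs
  exact IsLocalizedModule.smul_injective (AlgebraTensorModule.rTensor R' P₁ g) s
    (by simpa using hxs)

end LocInj

section E

variable {R R' : Type u} [CommRing R] [CommRing R'] [Algebra R R']
  {M Y : Type u} [AddCommGroup M] [Module R M] [AddCommGroup Y] [Module R' Y] [Module R Y]
  [IsScalarTower R R' Y] {j : M →ₗ[R] Y} (hj : IsBaseChange R' j)
  (P : Type u) [AddCommGroup P] [Module R P] [Module R' P] [IsScalarTower R R' P]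

/-- `P ⊗[R] M ≃ P ⊗[R'] Y` for a base change `Y` of `M`. -/
noncomputable def E : P ⊗[R] M ≃ₗ[R'] P ⊗[R'] Y := (hj.tensorEquiv P).symm

@[simp]
theorem E_tmul (p : P) (m : M) : E hj P (p ⊗ₜ[R] m) = p ⊗ₜ[R'] j m := by
  unfold E
  rw [LinearEquiv.symm_apply_eq]
  simp [IsBaseChange.tensorEquiv, IsBaseChange.equiv_symm_apply]

variable {P} in
theorem E_natural {P₂ : Type u} [AddCommGroup P₂] [Module R P₂] [Module R' P₂]
    [IsScalarTower R R' P₂] (ι : P →ₗ[R'] P₂) (x : P ⊗[R] M) :
    (ι.rTensor Y) (E hj P x) = E hj P₂ (((ι.restrictScalars R).rTensor M) x) := by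
  induction x with
  | zero => simp
  | tmul p m => simp
  | add a b ha hb => simp only [map_add, ha, hb]

end E

section MAT

variable {R R' T : Type u} [CommRing R] [CommRing R'] [CommRing T] [Algebra R R'] [Algebra R' T]
  (I : Ideal R) {M : Type u} [AddCommGroup M] [Module R M]
  [Module.Flat (R ⧸ I) ((R ⧸ I) ⊗[R] M)]
  (W : Submonoid T)
  {Y M' : Type u} [AddCommGroup Y] [Module T Y] [Module R' Y] [IsScalarTower R' T Y] [Module R Y]
  [IsScalarTower R R' Y]
  [AddCommGroup M'] [Module T M'] [Module R' M'] [IsScalarTower R' T M'] [Module R M']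
  [IsScalarTower R R' M']
  {j : M →ₗ[R] Y} (hj : IsBaseChange R' j) (g : Y →ₗ[T] M')
  (φ : M →ₗ[R] M') (hφ : ∀ m, φ m = g (j m))

include hj hφ in
/-- Part (c): vanishing of `Tor₁^{R'}(R'/I', M')`. -/
theorem tor_injective [IsLocalizedModule W g]
    (H3 : ∀ k : I ⊗[R] M, I.subtype.rTensor M k = 0 →
      (TensorProduct.mapOfCompatibleSMul R' R R ↥(I.map (algebraMap R R')) M')
        ((TensorProduct.map (Algebra.idealMap R' I) φ) k) = 0) :
    Injective ((I.map (algebraMap R R')).subtype.rTensor M') := by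
  classical
  rw [← LinearMap.lTensor_inj_iff_rTensor_inj]
  apply injective_lTensor_of_isLocalizedModule W g (I.map (algebraMap R R')).subtype
  intro y hy
  -- transport y
  obtain ⟨x, hx⟩ : ∃ x : ↥(I.map (algebraMap R R')) ⊗[R] M,
      E hj ↥(I.map (algebraMap R R')) x = TensorProduct.comm R' Y _ y :=
    (E hj ↥(I.map (algebraMap R R'))).surjective _
  have hx0 : ((((I.map (algebraMap R R')).subtype).restrictScalars R).rTensor M) x = 0 := by
    apply (E hj R').injective
    rw [← E_natural, hx, map_zero]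
    have : ∀ y : Y ⊗[R'] ↥(I.map (algebraMap R R')),
        ((I.map (algebraMap R R')).subtype.rTensor Y) (TensorProduct.comm R' Y _ y) =
        TensorProduct.comm R' Y R' (((I.map (algebraMap R R')).subtype.lTensor Y) y) := by
      intro y
      induction y with
      | zero => simp
      | tmul a b => simp
      | add a b ha hb => simp only [map_add, ha, hb]
    rw [this, hy, map_zero]
  -- the maps `toN p`
  let toN : R' → I →ₗ[R] ↥(I.map (algebraMap R R')) := fun p =>
    ((LinearMap.lsmul R' ↥(I.map (algebraMap R R')) p).restrictScalars R) ∘ₗ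
      Algebra.idealMap R' I
  have hto : ∀ (p : R') (a : I),
      (((I.map (algebraMap R R')).subtype).restrictScalars R) (toN p a) = (a : R) • p := by
    intro p a
    simp [toN, Algebra.smul_def, mul_comm]
  have hmem := Groth.Agent.Lib.TorBaseChange22.mem_span_gens' I M
    (((I.map (algebraMap R R')).subtype).restrictScalars R)
    (I.map (algebraMap R R')).subtype_injective toN hto x hx0
  -- the R-linear map Θ
  let Θ : ↥(I.map (algebraMap R R')) ⊗[R] M →ₗ[R] M' ⊗[R'] ↥(I.map (algebraMap R R')) :=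
    ((AlgebraTensorModule.rTensor R' ↥(I.map (algebraMap R R')) g).restrictScalars R').restrictScalars R ∘ₗ
      ((TensorProduct.comm R' Y ↥(I.map (algebraMap R R'))).symm.toLinearMap.restrictScalars R) ∘ₗ
        ((E hj ↥(I.map (algebraMap R R'))).toLinearMap.restrictScalars R)
  have hΘx : Θ x = AlgebraTensorModule.rTensor R' ↥(I.map (algebraMap R R')) g y := by
    simp only [Θ, LinearMap.coe_comp, LinearMap.coe_restrictScalars, LinearEquiv.coe_coe,
      comp_apply, hx, LinearEquiv.symm_apply_apply]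
  rw [← hΘx]
  have hker : Submodule.span R {y | ∃ (p : R') (k : I ⊗[R] M), I.subtype.rTensor M k = 0 ∧
      y = (toN p).rTensor M k} ≤ LinearMap.ker Θ := by
    rw [Submodule.span_le]
    rintro _ ⟨p, k, hk, rfl⟩
    have key : ∀ k : I ⊗[R] M, Θ ((toN p).rTensor M k) =
        p • TensorProduct.comm R' ↥(I.map (algebraMap R R')) M'
          ((TensorProduct.mapOfCompatibleSMul R' R R ↥(I.map (algebraMap R R')) M')
            ((TensorProduct.map (Algebra.idealMap R' I) φ) k)) := by
      intro k
      induction k with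
      | zero => simp only [map_zero, smul_zero]
      | add a b ha hb => simp only [map_add, smul_add, ha, hb]
      | tmul a m =>
        simp only [Θ, toN, LinearMap.coe_comp, LinearMap.coe_restrictScalars, LinearEquiv.coe_coe,
          comp_apply, LinearMap.rTensor_tmul, TensorProduct.map_tmul, E_tmul,
          TensorProduct.mapOfCompatibleSMul_tmul, TensorProduct.comm_tmul,
          TensorProduct.comm_symm_tmul, AlgebraTensorModule.rTensor_tmul, LinearMap.lsmul_apply,
          hφ]
        rw [TensorProduct.smul_tmul', TensorProduct.smul_tmul]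
    change Θ _ = 0
    rw [key, H3 k hk, map_zero, smul_zero]
  exact hker hmem

omit [Module.Flat (R ⧸ I) ((R ⧸ I) ⊗[R] M)] in
theorem isTorsionBySet_quotient_map :
    Module.IsTorsionBySet R (R' ⧸ I.map (algebraMap R R')) I := by
  intro x a
  obtain ⟨r', rfl⟩ := Ideal.Quotient.mk_surjective x
  rw [Algebra.smul_def]
  change Ideal.Quotient.mk _ (algebraMap R R' a) * Ideal.Quotient.mk _ r' = 0
  rw [← map_mul, Ideal.Quotient.eq_zero_iff_mem]
  exact Ideal.mul_mem_right _ _ (Ideal.mem_map_of_mem _ a.2)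

omit [Module R M'] [IsScalarTower R R' M'] in
include hj in
/-- Part (b): `M'/I'M'` is flat over `R'/I'`. -/
theorem flat_quotient [IsLocalizedModule W g] :
    Module.Flat (R' ⧸ I.map (algebraMap R R')) ((R' ⧸ I.map (algebraMap R R')) ⊗[R'] M') := by
  classical
  rw [Module.Flat.iff_rTensor_injective']
  intro 𝔟
  apply Groth.Agent.Lib.FlatCrit.rTensor_injective_of_restrictScalars
    (R' ⧸ I.map (algebraMap R R')) (f := 𝔟.subtype)
  rw [← LinearMap.lTensor_inj_iff_rTensor_inj]
  apply injective_lTensor_of_isLocalizedModule W g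
  intro y hy
  suffices hinjY : Injective ((𝔟.subtype.restrictScalars R').lTensor Y) by
    rw [hinjY (hy.trans (map_zero _).symm), map_zero]
  rw [LinearMap.lTensor_inj_iff_rTensor_inj]
  -- reduce to M
  suffices hM : Injective (((𝔟.subtype.restrictScalars R').restrictScalars R).rTensor M) by
    rw [injective_iff_map_eq_zero]
    intro u hu
    obtain ⟨x, rfl⟩ := (E hj ↥𝔟).surjective u
    rw [E_natural] at hu
    have := (E hj (R' ⧸ I.map (algebraMap R R'))).injective (hu.trans (map_zero _).symm)
    rw [hM (this.trans (map_zero _).symm), map_zero]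
  -- (R/I)-module structures
  have ht2 : Module.IsTorsionBySet R (R' ⧸ I.map (algebraMap R R')) I :=
    isTorsionBySet_quotient_map I
  have ht1 : Module.IsTorsionBySet R ↥𝔟 I := by
    intro x a
    apply Subtype.ext
    exact ht2 (x := (x : R' ⧸ I.map (algebraMap R R'))) (a := a)
  let _ := ht2.module
  let _ := ht1.module
  let f : ↥𝔟 →ₗ[R ⧸ I] (R' ⧸ I.map (algebraMap R R')) :=
    ((𝔟.subtype.restrictScalars R').restrictScalars R).extendScalarsOfSurjective
      Ideal.Quotient.mk_surjective
  have hf : Injective f := 𝔟.subtype_injective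
  have h1 : Injective (f.rTensor ((R ⧸ I) ⊗[R] M)) :=
    Module.Flat.rTensor_preserves_injective_linearMap f hf
  exact Groth.Agent.Lib.FlatCrit.rTensor_injective_restrictScalars_of (R ⧸ I) f h1

end MAT

section Final

attribute [local instance] Algebra.TensorProduct.rightAlgebra

open IsLocalRing in
/-- Stacks 10.99.8 (statement S12233). -/
theorem main
    (R S R' S' : Type u) [CommRing R] [CommRing S] [CommRing R'] [CommRing S']
    [IsLocalRing R] [IsLocalRing S] [IsLocalRing R'] [IsLocalRing S']
    [IsNoetherianRing R] [IsNoetherianRing S] [IsNoetherianRing R'] [IsNoetherianRing S']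
    [Algebra R S] [Algebra R R'] [Algebra S S'] [Algebra R' S'] [Algebra R S']
    [IsScalarTower R S S'] [IsScalarTower R R' S']
    [IsLocalHom (algebraMap R S)] [IsLocalHom (algebraMap R R')] [IsLocalHom (algebraMap S S')]
    [IsLocalHom (algebraMap R' S')]
    (I : Ideal R) (hI : I ≠ ⊤) (M : Type u) [AddCommGroup M] [Module S M] [Module R M]
    [IsScalarTower R S M] [Module.Finite S M]
    (M' : Type u) [AddCommGroup M'] [Module S' M'] [Module R' M'] [IsScalarTower R' S' M']
    [Module S M'] [IsScalarTower S S' M'] [Module R M'] [IsScalarTower R R' M']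
    [IsScalarTower R S M']
    (f : M →ₗ[S] M') (hf : IsBaseChange S' f)
    (h1 : ∃ W : Submonoid (S ⊗[R] R'),
      letI : Algebra (S ⊗[R] R') S' :=
        (Algebra.TensorProduct.lift (IsScalarTower.toAlgHom R S S') (IsScalarTower.toAlgHom R R' S')
          (fun s r => Commute.all _ _)).toRingHom.toAlgebra;
      IsLocalization W S')
    (h2 : Module.Flat (R ⧸ I) ((R ⧸ I) ⊗[R] M))
    (h3 : ∀ x : ↥I ⊗[R] M, (Submodule.subtype I).rTensor M x = 0 →
      (TensorProduct.mapOfCompatibleSMul R' R R ↥(I.map (algebraMap R R')) M')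
        ((TensorProduct.map (Algebra.idealMap R' I) (f.restrictScalars R)) x) = 0) :
    Module.Flat R' M' := by
  classical
  obtain ⟨W, hW⟩ := h1
  letI algTS' : Algebra (S ⊗[R] R') S' :=
    (Algebra.TensorProduct.lift (IsScalarTower.toAlgHom R S S') (IsScalarTower.toAlgHom R R' S')
      (fun s r => Commute.all _ _)).toRingHom.toAlgebra
  haveI : IsLocalization W S' := hW
  have halg : ∀ t : S ⊗[R] R', algebraMap (S ⊗[R] R') S' t =
      Algebra.TensorProduct.lift (IsScalarTower.toAlgHom R S S') (IsScalarTower.toAlgHom R R' S')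
        (fun s r => Commute.all _ _) t := fun _ => rfl
  haveI : IsScalarTower S (S ⊗[R] R') S' := IsScalarTower.of_algebraMap_eq (fun s => by
    rw [halg, Algebra.TensorProduct.algebraMap_apply, Algebra.TensorProduct.lift_tmul]
    simp)
  haveI : IsScalarTower R' (S ⊗[R] R') S' := IsScalarTower.of_algebraMap_eq (fun r => by
    rw [halg]
    change _ = Algebra.TensorProduct.lift _ _ _ ((1 : S) ⊗ₜ[R] r)
    rw [Algebra.TensorProduct.lift_tmul]
    simp)
  -- M' as a T-module
  letI modTM' : Module (S ⊗[R] R') M' := Module.compHom M' (algebraMap (S ⊗[R] R') S')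
  haveI : IsScalarTower (S ⊗[R] R') S' M' := ⟨fun t s m => by
    change (t • s) • m = algebraMap (S ⊗[R] R') S' t • s • m
    rw [Algebra.smul_def, mul_smul]⟩
  haveI : IsScalarTower S (S ⊗[R] R') M' := ⟨fun s t m => by
    change algebraMap (S ⊗[R] R') S' (s • t) • m = s • algebraMap (S ⊗[R] R') S' t • m
    rw [Algebra.smul_def, map_mul, mul_smul, ← IsScalarTower.algebraMap_apply S (S ⊗[R] R') S',
      algebraMap_smul]⟩
  haveI : IsScalarTower R' (S ⊗[R] R') M' := ⟨fun r t m => by
    change algebraMap (S ⊗[R] R') S' (r • t) • m = r • algebraMap (S ⊗[R] R') S' t • m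
    rw [Algebra.smul_def, map_mul, mul_smul, ← IsScalarTower.algebraMap_apply R' (S ⊗[R] R') S',
      algebraMap_smul]⟩
  -- Y = T ⊗[S] M
  let j : M →ₗ[R] (S ⊗[R] R') ⊗[S] M :=
    (TensorProduct.mk S (S ⊗[R] R') M 1).restrictScalars R
  have hj : IsBaseChange R' j := by
    refine IsBaseChange.of_equiv (Algebra.IsPushout.cancelBaseChange R R' S (S ⊗[R] R') M).symm ?_
    intro m
    rw [Algebra.IsPushout.cancelBaseChange_symm_tmul, map_one]
    rfl
  let g : (S ⊗[R] R') ⊗[S] M →ₗ[S ⊗[R] R'] M' :=
    (TensorProduct.isBaseChange S M (S ⊗[R] R')).lift f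
  have hgj : ∀ m, g ((1 : S ⊗[R] R') ⊗ₜ[S] m) = f m := fun m =>
    (TensorProduct.isBaseChange S M (S ⊗[R] R')).lift_eq f m
  haveI : IsLocalizedModule W g := by
    rw [isLocalizedModule_iff_isBaseChange W S' g]
    apply IsBaseChange.of_comp (TensorProduct.isBaseChange S M (S ⊗[R] R'))
    have : (g.restrictScalars S) ∘ₗ (TensorProduct.mk S (S ⊗[R] R') M 1) = f :=
      (TensorProduct.isBaseChange S M (S ⊗[R] R')).lift_comp f
    rw [this]
    exact hf
  have hφ : ∀ m, (f.restrictScalars R) m = g (j m) := fun m => (hgj m).symm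
  -- the three ingredients
  have hIle : I ≤ maximalIdeal R := IsLocalRing.le_maximalIdeal hI
  have hIS' : (I.map (algebraMap R R')).map (algebraMap R' S') ≤ Ideal.jacobson ⊥ := by
    rw [IsLocalRing.jacobson_eq_maximalIdeal ⊥ bot_ne_top, Ideal.map_map,
      ← IsScalarTower.algebraMap_eq]
    refine (Ideal.map_mono hIle).trans ?_
    haveI : IsLocalHom (algebraMap R S') := by
      rw [IsScalarTower.algebraMap_eq R R' S']
      exact RingHom.isLocalHom_comp _ _
    exact ((IsLocalRing.local_hom_TFAE (algebraMap R S')).out 0 2 rfl rfl).mp this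
  haveI : Module.Finite S' M' := Module.Finite.equiv hf.equiv
  have hsep : ∀ (𝔞 : Ideal R') (x : 𝔞 ⊗[R'] M'),
      (∀ n : ℕ, x ∈ (I.map (algebraMap R R')) ^ n • (⊤ : Submodule R' (𝔞 ⊗[R'] M'))) → x = 0 :=
    fun 𝔞 x hx => Groth.Agent.Lib.FlatCrit.eq_zero_of_forall_mem_pow_smul_top (S := S')
      (I.map (algebraMap R R')) hIS' x hx
  have hc : Injective ((I.map (algebraMap R R')).subtype.rTensor M') :=
    tor_injective I W hj g (f.restrictScalars R) hφ h3
  haveI hb : Module.Flat (R' ⧸ I.map (algebraMap R R'))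
      ((R' ⧸ I.map (algebraMap R R')) ⊗[R'] M') := flat_quotient I W hj g
  exact Groth.Agent.Lib.FlatCrit.flat_of_idealSeparated (I.map (algebraMap R R')) hsep hc

end Final

end Groth.Agent.Lib.FlatBaseChangeLoc22
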