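import Groth.Agent.Lib.FlatUnramDense68
import Mathlib.Algebra.Category.Ring.Epi
import Mathlib.Algebra.Category.Ring.Instances
import Mathlib.RingTheory.Flat.FaithfullyFlat.Algebra
import Mathlib.RingTheory.Localization.BaseChange
import Mathlib.Algebra.Module.LocalizedModule.IsLocalization

/-!
# Flat + "birational" ⇒ isomorphism on local rings (helper68)

* `isEpi_of_isLocalization`, `isEpi_trans`, `isEpi_of_comp`: basic calculus of `Algebra.IsEpi`.
* `bijective_of_faithfullyFlat_of_isEpi`: a faithfully flat ring epimorphism is bijective.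
* `isEpi_of_flat_of_dense`: `A → B → C` with `C` a localization of `B`, flat over `A`; `s ⊆ A` finite
  with `⋃ D(u)` schematically dense in `Spec B` and `A → B[1/u]` an epimorphism for `u ∈ s`.
  Then `A → C` is an epimorphism.
-/

set_option autoImplicit false
universe u

namespace Groth.Agent.Lib.FlatBirIso68

open TensorProduct CategoryTheory

theorem isEpi_of_isLocalization {R : Type u} [CommRing R] (M : Submonoid R) (S : Type u)
    [CommRing S] [Algebra R S] [IsLocalization M S] : Algebra.IsEpi R S :=
  CommRingCat.epi_iff_epi.mp (IsLocalization.epi M S)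

theorem isEpi_trans (R S T : Type u) [CommRing R] [CommRing S] [CommRing T] [Algebra R S]
    [Algebra S T] [Algebra R T] [IsScalarTower R S T] [h1 : Algebra.IsEpi R S]
    [h2 : Algebra.IsEpi S T] : Algebra.IsEpi R T := by
  have e1 : Epi (CommRingCat.ofHom (algebraMap R S)) := CommRingCat.epi_iff_epi.mpr h1
  have e2 : Epi (CommRingCat.ofHom (algebraMap S T)) := CommRingCat.epi_iff_epi.mpr h2
  have : CommRingCat.ofHom (algebraMap R T) =
      CommRingCat.ofHom (algebraMap R S) ≫ CommRingCat.ofHom (algebraMap S T) := by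
    rw [← CommRingCat.ofHom_comp, ← IsScalarTower.algebraMap_eq]
  refine CommRingCat.epi_iff_epi.mp ?_
  rw [this]
  exact epi_comp _ _

theorem isEpi_of_comp (R S T : Type u) [CommRing R] [CommRing S] [CommRing T] [Algebra R S]
    [Algebra S T] [Algebra R T] [IsScalarTower R S T] [h1 : Algebra.IsEpi R T] :
    Algebra.IsEpi S T := by
  have e1 : Epi (CommRingCat.ofHom (algebraMap R S) ≫ CommRingCat.ofHom (algebraMap S T)) := by
    rw [← CommRingCat.ofHom_comp, ← IsScalarTower.algebraMap_eq]
    exact CommRingCat.epi_iff_epi.mpr h1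
  exact CommRingCat.epi_iff_epi.mp (epi_of_epi (CommRingCat.ofHom (algebraMap R S)) _)

/-- A faithfully flat ring epimorphism is bijective. -/
theorem bijective_of_faithfullyFlat_of_isEpi (R C : Type u) [CommRing R] [CommRing C]
    [Algebra R C] [Module.FaithfullyFlat R C] [Algebra.IsEpi R C] :
    Function.Bijective (algebraMap R C) := by
  have h1 : Function.Bijective ((Algebra.linearMap R C).lTensor C) := by
    constructor
    · -- injective: composing with multiplication gives the identity up to `rid`
      intro x y hxy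
      have hμ : ∀ z : C ⊗[R] R, (TensorProduct.lift (LinearMap.mul R C))
          (((Algebra.linearMap R C).lTensor C) z) = TensorProduct.rid R C z := by
        intro z
        induction z using TensorProduct.induction_on with
        | zero => simp
        | tmul c r => simp [Algebra.smul_def, mul_comm]
        | add a b ha hb => simp only [map_add, ha, hb]
      apply (TensorProduct.rid R C).injective
      rw [← hμ, ← hμ, hxy]
    · intro z
      induction z using TensorProduct.induction_on with
      | zero => exact ⟨0, by simp⟩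
      | tmul a b =>
        refine ⟨(a * b) ⊗ₜ 1, ?_⟩
        rw [LinearMap.lTensor_tmul, Algebra.linearMap_apply, map_one]
        calc (a * b) ⊗ₜ[R] (1 : C) = a ⊗ₜ[R] (1 : C) * b ⊗ₜ[R] (1 : C) := by simp
          _ = a ⊗ₜ[R] (1 : C) * (1 : C) ⊗ₜ[R] b := by
              rw [(Algebra.isEpi_iff_forall_one_tmul_eq R C).mp inferInstance b]
          _ = a ⊗ₜ[R] b := by simp
      | add a b ha hb =>
        obtain ⟨x, hx⟩ := ha
        obtain ⟨y, hy⟩ := hb
        exact ⟨x + y, by rw [map_add, hx, hy]⟩
  exact (Module.FaithfullyFlat.lTensor_bijective_iff_bijective R C (Algebra.linearMap R C)).mp h1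

/-- Key lemma: `A → B → C`, `C` a localization of `B` which is flat over `A`; `s ⊆ A` a finite set
such that `⋃ D(u)` (`u ∈ s`) is schematically dense in `Spec B` and `A → B[1/u]` is an epimorphism
for all `u ∈ s`. Then `A → C` is an epimorphism. -/
theorem isEpi_of_flat_of_dense {A B : Type u} [CommRing A] [CommRing B] [Algebra A B]
    (C : Type u) [CommRing C] [Algebra B C] [Algebra A C] [IsScalarTower A B C]
    (M : Submonoid B) [IsLocalization M C] [Module.Flat A C] (s : Finset A)
    (hD : ∀ b : B, (∀ u ∈ s, ∃ n : ℕ, algebraMap A B u ^ n * b = 0) → b = 0)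
    (hepi : ∀ u ∈ s, Algebra.IsEpi A (Localization.Away (algebraMap A B u))) :
    Algebra.IsEpi A C := by
  classical
  rw [Algebra.isEpi_iff_forall_one_tmul_eq]
  intro c
  rw [← sub_eq_zero]
  set z : C ⊗[A] C := (1 : C) ⊗ₜ[A] c - c ⊗ₜ[A] (1 : C) with hz
  -- `C ⊗[A] C` is flat over `B`
  have hflatBC : Module.Flat B C := IsLocalization.flat C M
  have hflatC : Module.Flat C (C ⊗[A] C) := inferInstance
  have hflatB : Module.Flat B (C ⊗[A] C) := Module.Flat.trans B C (C ⊗[A] C)
  -- density in `B`, for the finite set `s.image (algebraMap A B)`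
  have hD' : ∀ b : B, (∀ v ∈ s.image (algebraMap A B), ∃ n : ℕ, v ^ n * b = 0) → b = 0 := by
    intro b hb
    apply hD
    intro u hu
    exact hb _ (Finset.mem_image_of_mem _ hu)
  refine Groth.Agent.Lib.FlatUnramDense68.eq_zero_of_flat_of_forall_pow_smul
    (s.image (algebraMap A B)) hD' z ?_
  intro v hv
  obtain ⟨u, hu, rfl⟩ := Finset.mem_image.mp hv
  -- localize at `u`
  let Cu := Localization.Away (algebraMap A C u)
  let Bu := Localization.Away (algebraMap A B u)
  have hunit : IsUnit (algebraMap B Cu (algebraMap A B u)) := by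
    rw [IsScalarTower.algebraMap_apply B C Cu, ← IsScalarTower.algebraMap_apply A B C]
    exact IsLocalization.Away.algebraMap_isUnit _
  let ψ : Bu →+* Cu := IsLocalization.Away.lift (algebraMap A B u) hunit
  let _ : Algebra Bu Cu := ψ.toAlgebra
  have hψ : ∀ b : B, algebraMap Bu Cu (algebraMap B Bu b) = algebraMap B Cu b := fun b =>
    IsLocalization.Away.lift_eq (algebraMap A B u) hunit b
  have t1 : IsScalarTower B Bu Cu := IsScalarTower.of_algebraMap_eq fun b => (hψ b).symm
  have t2 : IsScalarTower A Bu Cu := IsScalarTower.of_algebraMap_eq fun a => by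
    rw [IsScalarTower.algebraMap_apply A B Bu, hψ, ← IsScalarTower.algebraMap_apply]
  have e1 : Algebra.IsEpi B C := isEpi_of_isLocalization M C
  have e2 : Algebra.IsEpi C Cu := isEpi_of_isLocalization (Submonoid.powers (algebraMap A C u)) Cu
  have e3 : Algebra.IsEpi B Cu := isEpi_trans B C Cu
  have e4 : Algebra.IsEpi Bu Cu := isEpi_of_comp B Bu Cu
  have e5 : Algebra.IsEpi A Bu := hepi u hu
  have e6 : Algebra.IsEpi A Cu := isEpi_trans A Bu Cu
  -- the localization map on tensor products
  let ℓ : C →ₗ[A] Cu := (IsScalarTower.toAlgHom A C Cu).toLinearMap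
  have hloc : IsLocalization (Algebra.algebraMapSubmonoid C (Submonoid.powers u)) Cu := by
    have : Algebra.algebraMapSubmonoid C (Submonoid.powers u) =
        Submonoid.powers (algebraMap A C u) := by
      simp [Algebra.algebraMapSubmonoid, Submonoid.map_powers]
    rw [this]
    infer_instance
  have hℓ : IsLocalizedModule (Submonoid.powers u) ℓ :=
    isLocalizedModule_iff_isLocalization.mpr hloc
  have hℓℓ : IsLocalizedModule (Submonoid.powers u) (TensorProduct.map ℓ ℓ) := inferInstance
  have hz0 : TensorProduct.map ℓ ℓ z = 0 := by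
    rw [hz, map_sub, TensorProduct.map_tmul, TensorProduct.map_tmul, sub_eq_zero]
    have h1 : ℓ 1 = 1 := map_one (IsScalarTower.toAlgHom A C Cu)
    rw [h1]
    exact (Algebra.isEpi_iff_forall_one_tmul_eq A Cu).mp e6 (ℓ c)
  obtain ⟨⟨_, n, rfl⟩, hn⟩ :=
    (IsLocalizedModule.eq_zero_iff (Submonoid.powers u) (TensorProduct.map ℓ ℓ)).mp hz0
  refine ⟨n, ?_⟩
  rw [← map_pow, algebraMap_smul]
  exact hn

end Groth.Agent.Lib.FlatBirIso68
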