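import Groth.Agent.Lib.FlatCrit
import Mathlib.RingTheory.Localization.BaseChange
import Mathlib.RingTheory.Flat.Localization

/-!
# Flatness from flatness of a Cartier divisor and of its complement (helper24)

`flat_of_flat_quot_of_flat_away`: `A` an `R`-algebra, `t ∈ A` a nonzerodivisor, `A/(t)` flat over
`R` and `A_t` flat over `R`; then `A` is flat over `R`.
-/

set_option autoImplicit false

namespace Groth.Agent.Lib.FlatCartier

open TensorProduct Function

variable {R A B : Type*} [CommRing R] [CommRing A] [CommRing B] [Algebra R A] [Algebra A B]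
  [Algebra R B] [IsScalarTower R A B]

/-- multiplication by `t` on `A ⊗[R] N` is injective when `t` is a nonzerodivisor with `A/(t)` flat. -/
theorem smul_injective_tensor (t : A) (ht : t ∈ nonZeroDivisors A)
    [Module.Flat R (A ⧸ Ideal.span {t})] (N : Type*) [AddCommGroup N] [Module R N] :
    Injective (fun y : A ⊗[R] N => t • y) := by
  let mulT : A →ₗ[R] A := LinearMap.mulLeft R t
  have hinj : Injective mulT := by
    intro a b hab
    have : t * (a - b) = 0 := by
      rw [mul_sub]; exact sub_eq_zero.mpr hab
    exact sub_eq_zero.mp ((mem_nonZeroDivisors_iff.mp ht).1 _ this)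
  let q : A →ₗ[R] (A ⧸ Ideal.span {t}) := (Submodule.mkQ (Ideal.span {t})).restrictScalars R
  have hq : Surjective q := by
    intro y
    obtain ⟨a, rfl⟩ := Submodule.mkQ_surjective (Ideal.span {t}) y
    exact ⟨a, rfl⟩
  have hex : Exact mulT q := by
    intro a
    constructor
    · intro ha
      have : a ∈ Ideal.span {t} := (Submodule.Quotient.mk_eq_zero _).mp ha
      obtain ⟨c, rfl⟩ := Ideal.mem_span_singleton'.mp this
      exact ⟨c, mul_comm t c⟩
    · rintro ⟨c, rfl⟩
      exact (Submodule.Quotient.mk_eq_zero _).mpr
        (Ideal.mem_span_singleton'.mpr ⟨c, mul_comm c t⟩)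
  have h1 : Injective (mulT.rTensor N) :=
    Groth.Agent.Lib.FlatCrit.rTensor_injective_of_tor1Zero hinj hex hq
      Groth.Agent.Lib.FlatCrit.tor1Zero_of_flat_left
  have h2 : ∀ y : A ⊗[R] N, mulT.rTensor N y = t • y := by
    intro y
    induction y using TensorProduct.induction_on with
    | zero => simp
    | tmul a n =>
      rw [LinearMap.rTensor_tmul, TensorProduct.smul_tmul']
      rfl
    | add x y hx hy => rw [map_add, hx, hy, smul_add]
  intro y₁ y₂ h
  apply h1
  rw [h2, h2]
  exact h

theorem flat_of_flat_quot_of_flat_away (t : A) [IsLocalization.Away t B]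
    (ht : t ∈ nonZeroDivisors A) [Module.Flat R (A ⧸ Ideal.span {t})] [Module.Flat R B] :
    Module.Flat R A := by
  rw [Module.Flat.iff_lTensor_injective]
  intro I _
  rw [injective_iff_map_eq_zero]
  intro x hx
  let ℓ : A →ₗ[A] B := Algebra.linearMap A B
  have hloc : IsLocalizedModule (Submonoid.powers t) ℓ := inferInstance
  let L : ∀ (N : Type _) [AddCommGroup N] [Module R N], A ⊗[R] N →ₗ[A] B ⊗[R] N :=
    fun N _ _ => AlgebraTensorModule.rTensor R N ℓ
  have hL : IsLocalizedModule (Submonoid.powers t) (L I) := inferInstance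
  -- image of x in B ⊗ I vanishes
  have h1 : L I x = 0 := by
    apply Module.Flat.lTensor_preserves_injective_linearMap (M := B) I.subtype
      (Submodule.subtype_injective _)
    rw [map_zero]
    have : (I.subtype.lTensor B) (L I x) = L R ((I.subtype.lTensor A) x) := by
      change ((I.subtype.lTensor B).comp ((ℓ.restrictScalars R).rTensor I)) x =
        (((ℓ.restrictScalars R).rTensor R).comp (I.subtype.lTensor A)) x
      rw [LinearMap.lTensor_comp_rTensor, LinearMap.rTensor_comp_lTensor]
    rw [this, hx, map_zero]
  obtain ⟨c, hc⟩ := (IsLocalizedModule.eq_zero_iff (Submonoid.powers t) (L I)).mp h1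
  obtain ⟨c, ⟨n, rfl⟩⟩ := c
  change t ^ n • x = 0 at hc
  have hinj := smul_injective_tensor (R := R) t ht I
  induction n with
  | zero => simpa using hc
  | succ n ih =>
    apply ih
    apply hinj
    change t • (t ^ n • x) = t • 0
    rw [smul_zero, smul_smul, ← pow_succ']
    exact hc

end Groth.Agent.Lib.FlatCartier
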