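import Groth.Agent.Lib.PureIdeal45
import Mathlib.AlgebraicGeometry.IdealSheaf.Subscheme
import Mathlib.AlgebraicGeometry.Morphisms.ClosedImmersion
import Mathlib.AlgebraicGeometry.Morphisms.Flat
import Mathlib.AlgebraicGeometry.Morphisms.FlatMono

/-!
# Flat closed subschemes on closed generalization-stable subsets (helper45)

* `idealSheaf C` : for a closed subset `C` of a scheme stable under generalization, the ideal
  sheaf of sections with vanishing germs along `C` (quasi-coherent, locally pure).
* `exists_flat_closedImmersion` : there is a flat closed immersion with range `C`.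
* `exists_lift_of_range_subset` : every morphism with range in the range of a flat closed
  immersion factors through it.
-/

set_option autoImplicit false
universe u
open CategoryTheory CategoryTheory.Limits AlgebraicGeometry
open Groth.Agent.Lib.PureIdeal45

namespace Groth.Agent.Lib.FlatClosedSub45

variable {X : Scheme.{u}} (C : Set X)

/-- The preimage of `C` in `Spec Γ(X, U)`. -/
def locus (U : X.affineOpens) : Set (PrimeSpectrum Γ(X, U)) := U.2.fromSpec ⁻¹' C

variable {C}

lemma isClosed_locus (hC : IsClosed C) (U : X.affineOpens) : IsClosed (locus C U) :=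
  hC.preimage U.2.fromSpec.continuous

lemma stable_locus (hg : StableUnderGeneralization C) (U : X.affineOpens) :
    StableUnderGeneralization (locus C U) :=
  fun _ _ h hx => hg (h.map U.2.fromSpec.continuous) hx

lemma comap_preimage_locus (U : X.affineOpens) (f : Γ(X, U)) :
    PrimeSpectrum.comap (X.presheaf.map (homOfLE <| X.basicOpen_le f).op).hom ⁻¹' locus C U =
      locus C (X.affineBasicOpen f) := by
  ext p
  have h := U.2.map_fromSpec (X.affineBasicOpen f).2 (homOfLE <| X.basicOpen_le f).op
  have h2 : (X.affineBasicOpen f).2.fromSpec p =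
      U.2.fromSpec (Spec.map (X.presheaf.map (homOfLE <| X.basicOpen_le f).op) p) := by
    have := congrArg (fun g : Spec Γ(X, X.basicOpen f) ⟶ X => g p) h
    exact this.symm
  change U.2.fromSpec _ ∈ C ↔ (X.affineBasicOpen f).2.fromSpec p ∈ C
  rw [h2]
  rfl

variable (C) in
/-- The ideal sheaf of sections whose germs vanish along `C`. -/
noncomputable def idealSheaf (hC : IsClosed C) (hg : StableUnderGeneralization C) :
    X.IdealSheafData :=
  Scheme.IdealSheafData.mkOfMemSupportIff
    (fun U => pureIdeal (locus C U))
    (fun U f => by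
      rw [map_pureIdeal _ (isClosed_locus hC U) (stable_locus hg U), comap_preimage_locus]
      rfl)
    C
    (fun U x hxU => by
      obtain ⟨p, rfl⟩ : x ∈ Set.range U.2.fromSpec := by rw [U.2.range_fromSpec]; exact hxU
      have h1 := U.2.fromSpec_preimage_zeroLocus (pureIdeal (locus C U) : Set Γ(X, U))
      have h2 := zeroLocus_pureIdeal (isClosed_locus hC U) (stable_locus hg U)
      have h3 : U.2.fromSpec p ∈ X.zeroLocus (U := U.1) (pureIdeal (locus C U) : Set Γ(X, U)) ↔
          p ∈ PrimeSpectrum.zeroLocus (pureIdeal (locus C U) : Set Γ(X, U)) := by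
        rw [← h1]; rfl
      rw [h3, h2]
      rfl)

lemma idealSheaf_ideal (hC : IsClosed C) (hg : StableUnderGeneralization C) (U : X.affineOpens) :
    (idealSheaf C hC hg).ideal U = pureIdeal (locus C U) := rfl

lemma coe_support_idealSheaf (hC : IsClosed C) (hg : StableUnderGeneralization C) :
    ((idealSheaf C hC hg).support : Set X) = C := rfl

lemma flat_subschemeι (hC : IsClosed C) (hg : StableUnderGeneralization C) :
    Flat (idealSheaf C hC hg).subschemeι := by
  set I := idealSheaf C hC hg with hI
  rw [HasRingHomProperty.iff_exists_appLE (P := @Flat)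
    (RingHom.Flat.stableUnderComposition.stableUnderCompositionWithLocalizationAway
      RingHom.Flat.holdsForLocalizationAway).1]
  intro z
  obtain ⟨_, ⟨U, hU, rfl⟩, hxU, -⟩ := X.isBasis_affineOpens.exists_subset_of_mem_open
    (Set.mem_univ (I.subschemeι z)) isOpen_univ
  have hV : IsAffineOpen (I.subschemeι ⁻¹ᵁ U) := hU.preimage I.subschemeι
  refine ⟨⟨U, hU⟩, ⟨I.subschemeι ⁻¹ᵁ U, hV⟩, hxU, le_rfl, ?_⟩
  rw [← Scheme.Hom.app_eq_appLE, I.subschemeι_app ⟨U, hU⟩]
  have hpure : (I.ideal ⟨U, hU⟩).Pure := pure_pureIdeal (isClosed_locus hC _) (stable_locus hg _)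
  have h1 : (Ideal.Quotient.mk (I.ideal ⟨U, hU⟩)).Flat := by
    rw [RingHom.Flat]
    exact hpure
  have h2 : ((I.subschemeObjIso ⟨U, hU⟩).inv).hom.Flat :=
    RingHom.Flat.of_bijective (ConcreteCategory.bijective_of_isIso _)
  exact h1.comp h2

/-- **Flat closed subscheme structure** on a closed subset stable under generalization. -/
theorem exists_flat_closedImmersion (hC : IsClosed C) (hg : StableUnderGeneralization C) :
    ∃ (Z : Scheme.{u}) (i : Z ⟶ X), IsClosedImmersion i ∧ Flat i ∧ Set.range i = C :=
  ⟨_, (idealSheaf C hC hg).subschemeι, inferInstance, flat_subschemeι hC hg, by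
    rw [Scheme.IdealSheafData.range_subschemeι, coe_support_idealSheaf]⟩

/-- Any morphism whose range lies in the range of a flat closed immersion factors through it. -/
theorem exists_lift_of_range_subset {Z T : Scheme.{u}} (i : Z ⟶ X) [IsClosedImmersion i] [Flat i]
    (h : T ⟶ X) (hr : Set.range h ⊆ Set.range i) : ∃ l : T ⟶ Z, l ≫ i = h := by
  have hs : Surjective (pullback.snd i h) := by
    refine ⟨fun t => ?_⟩
    obtain ⟨z, hz⟩ := hr ⟨t, rfl⟩
    obtain ⟨w, -, hw⟩ := Scheme.Pullback.exists_preimage_pullback (f := i) (g := h) z t hz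
    exact ⟨w, hw⟩
  have hiso : IsIso (pullback.snd i h) := Flat.isIso_of_surjective_of_mono _
  exact ⟨inv (pullback.snd i h) ≫ pullback.fst i h, by
    rw [Category.assoc, pullback.condition, IsIso.inv_hom_id_assoc]⟩

end Groth.Agent.Lib.FlatClosedSub45
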