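import Mathlib

/-!
# Differentials of flat deformations over `k[τ]/(τ^(n+1))` (helper1)

`D ≃ k[X]/(X^(n+1))` (with `τ` the class of `X`), `B` a flat `D`-algebra of finite type over `k` whose
special fibre `B/tB` is smooth over `k` (`t` the image of `τ`).

* `smooth_of_flat` : `B` is smooth over `D` (via Mathlib's fibrewise criterion).
* `ddτ` : the derivation `d/dτ : D → D/(τ^n)`.
* `structure_thm` : a section `j` of `Ω[B/k] → Ω[B/D]` and a "coefficient of `dt`" map
  `c : Ω[B/k] → B/(t^n)` with `m = b • dt + j (π m)`, `c m = [b]`.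
* `pow_smul_D_t` : `t^n • dt = 0` when `n + 1` is invertible in `k`.
* `mem_span_sq_of_pow_mul_eq_zero` : flatness gives `Ann(t^(n-1)) = t²B`.
-/

set_option autoImplicit false
set_option linter.unusedSectionVars false
set_option linter.style.haveILetI false
universe u
open Polynomial TensorProduct

namespace Groth.Agent.Lib.FlatDefOmega

section DFacts

variable {k : Type u} [Field k] {n : ℕ} {D : Type u} [CommRing D] [Algebra k D] {τ : D}
  (e : (k[X] ⧸ Ideal.span {(X : k[X]) ^ (n + 1)}) ≃ₐ[k] D)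
  (he : e (Ideal.Quotient.mk (Ideal.span {(X : k[X]) ^ (n + 1)}) X) = τ)

include he in
theorem aeval_eq : (aeval τ : k[X] →ₐ[k] D) =
    (e : _ →ₐ[k] D).comp (Ideal.Quotient.mkₐ k (Ideal.span {(X : k[X]) ^ (n + 1)})) := by
  apply Polynomial.algHom_ext
  rw [aeval_X]
  exact he.symm

include he in
theorem aeval_surjective : Function.Surjective (aeval τ : k[X] →ₐ[k] D) := by
  rw [aeval_eq e he]
  exact e.surjective.comp Ideal.Quotient.mk_surjective

include he in
theorem aeval_eq_zero_iff (p : k[X]) : aeval τ p = 0 ↔ (X : k[X]) ^ (n + 1) ∣ p := by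
  rw [aeval_eq e he]
  change e (Ideal.Quotient.mk _ p) = 0 ↔ _
  rw [map_eq_zero_iff e e.injective, Ideal.Quotient.eq_zero_iff_mem, Ideal.mem_span_singleton]

include he in
theorem tau_pow : τ ^ (n + 1) = 0 := by
  have := (aeval_eq_zero_iff e he (X ^ (n + 1))).2 dvd_rfl
  rwa [map_pow, aeval_X] at this

include he in
/-- two `k`-algebra maps out of `D` agreeing at `τ` are equal. -/
theorem algHom_ext_tau {C : Type*} [CommRing C] [Algebra k C] (φ ψ : D →ₐ[k] C) (h : φ τ = ψ τ) :
    φ = ψ := by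
  have h1 : φ.comp (aeval τ) = ψ.comp (aeval τ) := by
    apply Polynomial.algHom_ext
    simp [h]
  ext x
  obtain ⟨p, rfl⟩ := aeval_surjective e he x
  exact AlgHom.congr_fun h1 p

include he in
theorem tau_mem_of_isPrime (I : Ideal D) [I.IsPrime] : τ ∈ I :=
  Ideal.IsPrime.mem_of_pow_mem ‹_› (n + 1) (by rw [tau_pow e he]; exact I.zero_mem)


section Der

include he in
theorem mk_aeval_derivative_eq_zero (p : k[X]) (hp : aeval τ p = 0) :
    Ideal.Quotient.mk (Ideal.span {τ ^ n}) (aeval τ (derivative p)) = 0 := by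
  obtain ⟨q, rfl⟩ := (aeval_eq_zero_iff e he p).1 hp
  rw [Ideal.Quotient.eq_zero_iff_mem, Ideal.mem_span_singleton]
  rw [derivative_mul, derivative_X_pow, map_add, map_mul, map_mul, map_mul, map_pow, map_pow,
    aeval_X, Nat.add_sub_cancel]
  refine dvd_add (Dvd.dvd.mul_right (Dvd.dvd.mul_left dvd_rfl _) _) (Dvd.dvd.mul_right ?_ _)
  exact pow_dvd_pow τ (Nat.le_succ n)

/-- the linear map `p ↦ [p'(τ)]`. -/
noncomputable def φlin (τ : D) (n : ℕ) : k[X] →ₗ[k] D ⧸ Ideal.span {τ ^ n} :=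
  ((Ideal.Quotient.mkₐ k (Ideal.span {τ ^ n})).toLinearMap ∘ₗ (aeval τ : k[X] →ₐ[k] D).toLinearMap) ∘ₗ
    (derivative : k[X] →ₗ[k] k[X])

theorem φlin_apply (p : k[X]) :
    φlin τ n p = Ideal.Quotient.mk (Ideal.span {τ ^ n}) (aeval τ (derivative p)) := rfl

include he in
theorem ker_le_ker_φlin : LinearMap.ker (aeval τ : k[X] →ₐ[k] D).toLinearMap ≤
    LinearMap.ker (φlin τ n) := by
  intro p hp
  rw [LinearMap.mem_ker] at hp ⊢
  exact mk_aeval_derivative_eq_zero e he p hp

/-- `d/dτ : D → D/(τ^n)` as a linear map. -/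
noncomputable def ddτlin : D →ₗ[k] D ⧸ Ideal.span {τ ^ n} :=
  (LinearMap.ker (aeval τ : k[X] →ₐ[k] D).toLinearMap).liftQ (φlin τ n) (ker_le_ker_φlin e he) ∘ₗ
    (LinearMap.quotKerEquivOfSurjective (aeval τ : k[X] →ₐ[k] D).toLinearMap
      (aeval_surjective e he)).symm.toLinearMap

theorem ddτlin_aeval (p : k[X]) : ddτlin e he (aeval τ p) =
    Ideal.Quotient.mk (Ideal.span {τ ^ n}) (aeval τ (derivative p)) := by
  have : (LinearMap.quotKerEquivOfSurjective (aeval τ : k[X] →ₐ[k] D).toLinearMap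
      (aeval_surjective e he)).symm (aeval τ p) = Submodule.Quotient.mk p := by
    rw [LinearEquiv.symm_apply_eq]; rfl
  have h2 : ddτlin e he (aeval τ p) = (LinearMap.ker (aeval τ : k[X] →ₐ[k] D).toLinearMap).liftQ
      (φlin τ n) (ker_le_ker_φlin e he)
    ((LinearMap.quotKerEquivOfSurjective (aeval τ : k[X] →ₐ[k] D).toLinearMap
      (aeval_surjective e he)).symm (aeval τ p)) := rfl
  rw [h2, this, Submodule.liftQ_apply, φlin_apply]

/-- `d/dτ : D → D/(τ^n)` as a derivation. -/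
noncomputable def ddτ : Derivation k D (D ⧸ Ideal.span {τ ^ n}) :=
  Derivation.mk' (ddτlin e he) (fun x y => by
    obtain ⟨p, rfl⟩ := aeval_surjective e he x
    obtain ⟨q, rfl⟩ := aeval_surjective e he y
    rw [← map_mul, ddτlin_aeval, ddτlin_aeval, ddτlin_aeval, derivative_mul, map_add, map_mul,
      map_mul, map_add, map_mul, map_mul, Algebra.smul_def, Algebra.smul_def]
    change _ = Ideal.Quotient.mk _ ((aeval τ) p) * _ + Ideal.Quotient.mk _ ((aeval τ) q) * _
    ring)

theorem ddτ_tau : ddτ e he τ = 1 := by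
  have := ddτlin_aeval e he X
  rw [aeval_X, derivative_X, map_one, map_one] at this
  exact this

end Der

variable {B : Type u} [CommRing B] [Algebra k B] [Algebra D B] [IsScalarTower k D B]
  (K : Type u) [CommRing K] [Algebra D K] [Algebra k K] [IsScalarTower k D K] {t : B}

include he in
theorem formallySmooth_tensor (hK : algebraMap D K τ = 0) (ht : t = algebraMap D B τ)
    [Algebra.FormallySmooth k (B ⧸ Ideal.span {t})] : Algebra.FormallySmooth K (K ⊗[D] B) := by
  let C := K ⊗[k] (B ⧸ Ideal.span {t})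
  let g₀ : B →ₐ[k] C := (Algebra.TensorProduct.includeRight : (B ⧸ Ideal.span {t}) →ₐ[k] C).comp
    (Ideal.Quotient.mkₐ k (Ideal.span {t}))
  have hmk : Ideal.Quotient.mk (Ideal.span {t}) t = 0 :=
    Ideal.Quotient.eq_zero_iff_mem.mpr (Ideal.mem_span_singleton_self t)
  have hg : g₀.comp (IsScalarTower.toAlgHom k D B) = IsScalarTower.toAlgHom k D C := by
    apply algHom_ext_tau e he
    change (1 : K) ⊗ₜ[k] (Ideal.Quotient.mk (Ideal.span {t}) (algebraMap D B τ)) = algebraMap D C τ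
    rw [← ht, hmk, TensorProduct.tmul_zero, Algebra.TensorProduct.algebraMap_apply, hK,
      TensorProduct.zero_tmul]
  let g : B →ₐ[D] C := { g₀.toRingHom with commutes' := fun x => AlgHom.congr_fun hg x }
  let f : K ⊗[D] B →ₐ[K] C :=
    Algebra.TensorProduct.lift (Algebra.ofId K C) g (fun _ _ => Commute.all _ _)
  let h₀ : (B ⧸ Ideal.span {t}) →ₐ[k] K ⊗[D] B :=
    Ideal.Quotient.liftₐ (Ideal.span {t})
      ((Algebra.TensorProduct.includeRight : B →ₐ[D] K ⊗[D] B).restrictScalars k) (by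
        intro a ha
        obtain ⟨c, rfl⟩ := Ideal.mem_span_singleton.mp ha
        change (1 : K) ⊗ₜ[D] (t * c) = 0
        rw [ht, ← Algebra.smul_def, ← TensorProduct.smul_tmul, Algebra.smul_def, hK, zero_mul,
          TensorProduct.zero_tmul])
  let h : C →ₐ[K] K ⊗[D] B :=
    Algebra.TensorProduct.lift (Algebra.ofId K (K ⊗[D] B)) h₀ (fun _ _ => Commute.all _ _)
  have hf : ∀ (a : K) (b : B), f (a ⊗ₜ b) = a ⊗ₜ Ideal.Quotient.mk (Ideal.span {t}) b := by
    intro a b
    change Algebra.TensorProduct.lift (Algebra.ofId K C) g _ (a ⊗ₜ b) = _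
    rw [Algebra.TensorProduct.lift_tmul]
    change (algebraMap K C a) * ((1 : K) ⊗ₜ[k] Ideal.Quotient.mk (Ideal.span {t}) b) = _
    rw [Algebra.TensorProduct.algebraMap_apply, Algebra.TensorProduct.tmul_mul_tmul, mul_one, one_mul]
    rfl
  have hh : ∀ (a : K) (b : B), h (a ⊗ₜ Ideal.Quotient.mk (Ideal.span {t}) b) = a ⊗ₜ b := by
    intro a b
    change Algebra.TensorProduct.lift (Algebra.ofId K (K ⊗[D] B)) h₀ _ (a ⊗ₜ _) = _
    rw [Algebra.TensorProduct.lift_tmul]
    change (algebraMap K (K ⊗[D] B) a) * ((1 : K) ⊗ₜ[D] b) = _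
    rw [Algebra.TensorProduct.algebraMap_apply, Algebra.TensorProduct.tmul_mul_tmul, mul_one, one_mul]
    rfl
  have h1 : f.comp h = AlgHom.id K C := by
    ext x
    obtain ⟨b, rfl⟩ := Ideal.Quotient.mk_surjective x
    change f (h ((1 : K) ⊗ₜ Ideal.Quotient.mk (Ideal.span {t}) b)) = (1 : K) ⊗ₜ Ideal.Quotient.mk (Ideal.span {t}) b
    rw [hh, hf]
  have h2 : h.comp f = AlgHom.id K (K ⊗[D] B) := by
    ext x
    change h (f ((1 : K) ⊗ₜ x)) = (1 : K) ⊗ₜ x
    rw [hf, hh]
  exact Algebra.FormallySmooth.of_equiv (AlgEquiv.ofAlgHom f h h1 h2).symm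


include he in
theorem isNoetherianRing_D : IsNoetherianRing D :=
  isNoetherianRing_of_surjective k[X] D (aeval τ : k[X] →ₐ[k] D).toRingHom (aeval_surjective e he)

include he in
/-- `B` flat over `D = k[τ]/(τ^(n+1))` with smooth special fibre is smooth over `D`. -/
theorem smooth_of_flat [Module.Flat D B] [Algebra.FiniteType k B] (ht : t = algebraMap D B τ)
    (hsm : Algebra.Smooth k (B ⧸ Ideal.span {t})) : Algebra.Smooth D B := by
  haveI := isNoetherianRing_D e he
  haveI : Algebra.FiniteType D B := Algebra.FiniteType.of_restrictScalars_finiteType k D B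
  haveI : Algebra.FinitePresentation D B := Algebra.FinitePresentation.of_finiteType.mp inferInstance
  haveI : Algebra.FormallySmooth k (B ⧸ Ideal.span {t}) := hsm.1
  apply Algebra.Smooth.of_formallySmooth_fiber
  intro I hI
  exact formallySmooth_tensor e he I.ResidueField
    ((Ideal.algebraMap_residueField_eq_zero).mpr (tau_mem_of_isPrime e he I)) ht


section Structure

open KaehlerDifferential

include he in
/-- every differential of `D` over `k` is a multiple of `dτ`. -/
theorem exists_eq_smul_dτ (ω : Ω[D⁄k]) : ∃ x : D, ω = x • KaehlerDifferential.D k D τ := by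
  have hω : ω ∈ Submodule.span D (Set.range (KaehlerDifferential.D k D)) := by
    rw [KaehlerDifferential.span_range_derivation]; trivial
  induction hω using Submodule.span_induction with
  | mem y hy =>
    obtain ⟨z, rfl⟩ := hy
    obtain ⟨p, rfl⟩ := aeval_surjective e he z
    exact ⟨_, Derivation.comp_aeval_eq τ (KaehlerDifferential.D k D) p⟩
  | zero => exact ⟨0, (zero_smul _ _).symm⟩
  | add a b _ _ ha hb =>
    obtain ⟨x, rfl⟩ := ha
    obtain ⟨y, rfl⟩ := hb
    exact ⟨x + y, (add_smul _ _ _).symm⟩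
  | smul a b _ hb =>
    obtain ⟨y, rfl⟩ := hb
    exact ⟨a * y, (mul_smul _ _ _).symm⟩

include he in
theorem exists_eq_tmul_dτ (x : B ⊗[D] Ω[D⁄k]) : ∃ b : B, x = b ⊗ₜ KaehlerDifferential.D k D τ := by
  induction x using TensorProduct.induction_on with
  | zero => exact ⟨0, (TensorProduct.zero_tmul _ _).symm⟩
  | tmul b ω =>
    obtain ⟨y, rfl⟩ := exists_eq_smul_dτ e he ω
    exact ⟨y • b, by rw [TensorProduct.smul_tmul]⟩
  | add a b ha hb =>
    obtain ⟨x, rfl⟩ := ha
    obtain ⟨y, rfl⟩ := hb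
    exact ⟨x + y, (TensorProduct.add_tmul _ _ _).symm⟩

theorem mapBaseChange_injective [Algebra.FormallySmooth D B] :
    Function.Injective (KaehlerDifferential.mapBaseChange k D B) := by
  haveI : Subsingleton (Algebra.H1Cotangent D B) := Algebra.FormallySmooth.subsingleton_h1Cotangent
  rw [injective_iff_map_eq_zero]
  intro x hx
  obtain ⟨y, rfl⟩ := (Algebra.H1Cotangent.exact_δ_mapBaseChange k D B x).1 hx
  rw [Subsingleton.elim y 0, map_zero]

theorem mapBaseChange_tmul_dτ (ht : t = algebraMap D B τ) (b : B) :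
    KaehlerDifferential.mapBaseChange k D B (b ⊗ₜ KaehlerDifferential.D k D τ) =
      b • KaehlerDifferential.D k B t := by
  rw [KaehlerDifferential.mapBaseChange_tmul, KaehlerDifferential.map_D, ← ht]

theorem map_D_t (ht : t = algebraMap D B τ) :
    KaehlerDifferential.map k D B B (KaehlerDifferential.D k B t) = 0 := by
  rw [KaehlerDifferential.map_D, Algebra.algebraMap_self_apply, ht, Derivation.map_algebraMap]

include he in
theorem pow_smul_D_t (ht : t = algebraMap D B τ) (hn1 : ((n + 1 : ℕ) : k) ≠ 0) :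
    t ^ n • KaehlerDifferential.D k B t = 0 := by
  have h0 : t ^ (n + 1) = 0 := by rw [ht, ← map_pow, tau_pow e he, map_zero]
  have h1 := Derivation.leibniz_pow (KaehlerDifferential.D k B) t (n + 1)
  rw [h0, map_zero, Nat.add_sub_cancel, ← Nat.cast_smul_eq_nsmul k] at h1
  have := congrArg (fun x => (((n + 1 : ℕ) : k))⁻¹ • x) h1
  simp only [smul_zero] at this
  rw [smul_smul, inv_mul_cancel₀ hn1, one_smul] at this
  exact this.symm

/-- the `D`-linear map `D/(τ^n) → B/(t^n)`. -/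
noncomputable def ψ (ht : t = algebraMap D B τ) : (D ⧸ Ideal.span {τ ^ n}) →ₗ[D] (B ⧸ Ideal.span {t ^ n}) :=
  Submodule.liftQ (Ideal.span {τ ^ n}) (Algebra.linearMap D (B ⧸ Ideal.span {t ^ n})) (by
    intro x hx
    obtain ⟨y, rfl⟩ := Ideal.mem_span_singleton.mp hx
    rw [LinearMap.mem_ker, Algebra.linearMap_apply, IsScalarTower.algebraMap_apply D B, map_mul,
      map_pow, ← ht]
    exact Ideal.Quotient.eq_zero_iff_mem.mpr (Ideal.mul_mem_right _ _ (Ideal.mem_span_singleton_self _)))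

theorem ψ_one (ht : t = algebraMap D B τ) : ψ (n := n) ht 1 = 1 := by
  change ψ (n := n) ht (Submodule.Quotient.mk 1) = 1
  rw [ψ, Submodule.liftQ_apply, Algebra.linearMap_apply, map_one]

/-- `B ⊗ Ω[D/k] → B/(t^n)`, `b ⊗ dτ ↦ b`. -/
noncomputable def Λ (ht : t = algebraMap D B τ) : B ⊗[D] Ω[D⁄k] →ₗ[B] B ⧸ Ideal.span {t ^ n} :=
  LinearMap.liftBaseChange B ((ψ ht) ∘ₗ (ddτ e he).liftKaehlerDifferential)

theorem Λ_tmul_dτ (ht : t = algebraMap D B τ) (b : B) :
    Λ e he ht (b ⊗ₜ KaehlerDifferential.D k D τ) = Ideal.Quotient.mk _ b := by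
  rw [Λ, LinearMap.liftBaseChange_tmul, LinearMap.comp_apply, Derivation.liftKaehlerDifferential_comp_D,
    ddτ_tau, ψ_one, Algebra.smul_def, mul_one]
  rfl

include he in
/-- **Structure theorem** for differentials of a flat deformation over `k[τ]/(τ^(n+1))`. -/
theorem structure_thm [Algebra.FormallySmooth D B] (ht : t = algebraMap D B τ) :
    ∃ (j : Ω[B⁄D] →ₗ[B] Ω[B⁄k]) (c : Ω[B⁄k] →ₗ[B] B ⧸ Ideal.span {t ^ n}),
      (∀ y, KaehlerDifferential.map k D B B (j y) = y) ∧
      c (KaehlerDifferential.D k B t) = 1 ∧ (∀ y, c (j y) = 0) ∧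
      ∀ m, ∃ b : B, Ideal.Quotient.mk _ b = c m ∧
        m = b • KaehlerDifferential.D k B t + j (KaehlerDifferential.map k D B B m) := by
  set π := KaehlerDifferential.map k D B B with hπdef
  set ι := KaehlerDifferential.mapBaseChange k D B with hιdef
  have hπ : Function.Surjective π := KaehlerDifferential.map_surjective k D B
  obtain ⟨j, hj⟩ := Module.projective_lifting_property π LinearMap.id hπ
  have hj' : ∀ y, π (j y) = y := fun y => LinearMap.congr_fun hj y
  have hι : Function.Injective ι := mapBaseChange_injective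
  have hex : Function.Exact ι π := KaehlerDifferential.exact_mapBaseChange_map k D B
  let q₀ : Ω[B⁄k] →ₗ[B] Ω[B⁄k] := LinearMap.id - j ∘ₗ π
  have hmem : ∀ m, q₀ m ∈ LinearMap.range ι := by
    intro m
    rw [← hex.linearMap_ker_eq, LinearMap.mem_ker]
    change π (m - j (π m)) = 0
    rw [map_sub, hj', sub_self]
  let ρ : Ω[B⁄k] →ₗ[B] B ⊗[D] Ω[D⁄k] :=
    (LinearEquiv.ofInjective ι hι).symm.toLinearMap ∘ₗ
      LinearMap.codRestrict (LinearMap.range ι) q₀ hmem
  have hρ : ∀ m, ι (ρ m) = m - j (π m) := fun m => by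
    change ι ((LinearEquiv.ofInjective ι hι).symm _) = _
    rw [LinearEquiv.ofInjective_symm_apply]
    rfl
  refine ⟨j, (Λ e he ht) ∘ₗ ρ, hj', ?_, ?_, ?_⟩
  · have h1 : ρ (KaehlerDifferential.D k B t) = (1 : B) ⊗ₜ KaehlerDifferential.D k D τ := by
      apply hι
      rw [hρ, map_D_t ht, map_zero, sub_zero, mapBaseChange_tmul_dτ ht, one_smul]
    rw [LinearMap.comp_apply, h1, Λ_tmul_dτ, map_one]
  · intro y
    have h1 : ρ (j y) = 0 := by
      apply hι
      rw [hρ, hj', sub_self, map_zero]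
    rw [LinearMap.comp_apply, h1, map_zero]
  · intro m
    obtain ⟨b, hb⟩ := exists_eq_tmul_dτ e he (ρ m)
    refine ⟨b, ?_, ?_⟩
    · rw [LinearMap.comp_apply, hb, Λ_tmul_dτ]
    · have := hρ m
      rw [hb, mapBaseChange_tmul_dτ ht] at this
      rw [this]; abel

end Structure


section FlatAnn

include he in
theorem exists_eq_sq_mul_of_pow_mul_eq_zero (hn : 1 ≤ n) (y : D) (hy : τ ^ (n - 1) * y = 0) :
    ∃ z, y = τ ^ 2 * z := by
  obtain ⟨p, rfl⟩ := aeval_surjective e he y
  have h1 : aeval τ ((X : k[X]) ^ (n - 1) * p) = 0 := by rw [map_mul, map_pow, aeval_X, hy]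
  rw [aeval_eq_zero_iff e he] at h1
  have h2 : (X : k[X]) ^ (n + 1) = X ^ (n - 1) * X ^ 2 := by rw [← pow_add]; congr 1; omega
  rw [h2] at h1
  obtain ⟨q, hq⟩ := (mul_dvd_mul_iff_left (pow_ne_zero _ X_ne_zero)).mp h1
  exact ⟨aeval τ q, by rw [hq, map_mul, map_pow, aeval_X]⟩

include he in
/-- flatness: the annihilator of `t^(n-1)` in `B` is `t²B`. -/
theorem mem_span_sq_of_pow_mul_eq_zero [Module.Flat D B] (ht : t = algebraMap D B τ) (hn : 1 ≤ n)
    (x : B) (hx : t ^ (n - 1) * x = 0) : x ∈ Ideal.span {t ^ 2} := by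
  obtain ⟨κ, a, y, h1, h2⟩ := Module.Flat.isTrivialRelation_of_sum_smul_eq_zero (R := D) (M := B)
    (f := fun _ : Fin 1 => τ ^ (n - 1)) (x := fun _ => x) (by
      rw [Fin.sum_univ_one, Algebra.smul_def, map_pow, ← ht, hx])
  have h1' := h1 0
  simp only at h1'
  rw [h1']
  refine Ideal.sum_mem _ fun j _ => ?_
  have h2' := h2 j
  rw [Fin.sum_univ_one] at h2'
  obtain ⟨z, hz⟩ := exists_eq_sq_mul_of_pow_mul_eq_zero e he hn (a 0 j) h2'
  rw [hz, Algebra.smul_def, map_mul, map_pow, ← ht, mul_assoc]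
  exact Ideal.mul_mem_right _ _ (Ideal.mem_span_singleton_self _)

end FlatAnn

end DFacts


section Base

variable {k : Type u} [Field k] {n : ℕ} {D : Type u} [CommRing D] [Algebra k D] {τ : D}
  (e : (k[X] ⧸ Ideal.span {(X : k[X]) ^ (n + 1)}) ≃ₐ[k] D)
  (he : e (Ideal.Quotient.mk (Ideal.span {(X : k[X]) ^ (n + 1)}) X) = τ)
  {B : Type u} [CommRing B] [Algebra k B] [Algebra D B] [IsScalarTower k D B] {t : B}

theorem mk_smul_one_tmul {M : Type*} [AddCommGroup M] [Module B M] (I : Ideal B) (b : B) (x : M) :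
    (Ideal.Quotient.mk I b) • ((1 : B ⧸ I) ⊗ₜ[B] x) = (1 : B ⧸ I) ⊗ₜ[B] (b • x) := by
  rw [TensorProduct.smul_tmul', smul_eq_mul, mul_one, ← TensorProduct.smul_tmul]
  congr 1
  rw [Algebra.smul_def, mul_one]
  rfl

include he in
/-- the structure theorem after base change to `B' = B/(t^n)`. -/
theorem structure_thm_base [Algebra.FormallySmooth D B] (ht : t = algebraMap D B τ) :
    ∃ (j' : (B ⧸ Ideal.span {t ^ n}) ⊗[B] Ω[B⁄D] →ₗ[B ⧸ Ideal.span {t ^ n}]
          (B ⧸ Ideal.span {t ^ n}) ⊗[B] Ω[B⁄k])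
      (c' : (B ⧸ Ideal.span {t ^ n}) ⊗[B] Ω[B⁄k] →ₗ[B ⧸ Ideal.span {t ^ n}] (B ⧸ Ideal.span {t ^ n})),
      (∀ y, LinearMap.baseChange (B ⧸ Ideal.span {t ^ n}) (KaehlerDifferential.map k D B B) (j' y) = y) ∧
      c' ((1 : B ⧸ Ideal.span {t ^ n}) ⊗ₜ[B] KaehlerDifferential.D k B t) = 1 ∧
      (∀ y, c' (j' y) = 0) ∧
      ∀ x, x = c' x • ((1 : B ⧸ Ideal.span {t ^ n}) ⊗ₜ[B] KaehlerDifferential.D k B t) +
        j' (LinearMap.baseChange (B ⧸ Ideal.span {t ^ n}) (KaehlerDifferential.map k D B B) x) := by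
  obtain ⟨j, c, hj, hc1, hcj, hdec⟩ := structure_thm e he ht
  refine ⟨LinearMap.baseChange _ j, LinearMap.liftBaseChange _ c, ?_, ?_, ?_, ?_⟩
  · intro y
    rw [← LinearMap.comp_apply, ← LinearMap.baseChange_comp]
    have : (KaehlerDifferential.map k D B B) ∘ₗ j = LinearMap.id := LinearMap.ext hj
    rw [this, LinearMap.baseChange_id, LinearMap.id_apply]
  · rw [LinearMap.liftBaseChange_tmul, hc1, one_smul]
  · intro y
    induction y using TensorProduct.induction_on with
    | zero => rw [map_zero, map_zero]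
    | tmul b y => rw [LinearMap.baseChange_tmul, LinearMap.liftBaseChange_tmul, hcj, smul_zero]
    | add a b ha hb => rw [map_add, map_add, ha, hb, add_zero]
  · intro x
    induction x using TensorProduct.induction_on with
    | zero => rw [map_zero, map_zero, map_zero, zero_smul, add_zero]
    | tmul b' m =>
      obtain ⟨b, hb, hm⟩ := hdec m
      rw [LinearMap.liftBaseChange_tmul, LinearMap.baseChange_tmul, LinearMap.baseChange_tmul, ← hb,
        smul_assoc, mk_smul_one_tmul]
      conv_lhs => rw [hm, TensorProduct.tmul_add]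
      congr 1
      rw [TensorProduct.smul_tmul', smul_eq_mul, mul_one]
    | add a b ha hb =>
      conv_lhs => rw [ha, hb]
      rw [map_add, map_add, map_add, add_smul]
      abel

end Base


end Groth.Agent.Lib.FlatDefOmega
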