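import Mathlib.AlgebraicGeometry.Morphisms.FlatDescent
import Mathlib.AlgebraicGeometry.Morphisms.LocalFlatDescent
import Mathlib.RingTheory.Flat.FaithfullyFlat.Basic

/-!
# Flatness descends along fpqc / fppf morphisms (helper45)
-/

set_option autoImplicit false
universe u
open CategoryTheory CategoryTheory.Limits AlgebraicGeometry MorphismProperty

namespace Groth.Agent.Lib.FlatDescend45

lemma _root_.RingHom.Flat.codescendsAlong_faithfullyFlat :
    RingHom.CodescendsAlong RingHom.Flat RingHom.FaithfullyFlat := by
  refine .mk _ RingHom.Flat.respectsIso fun R S T _ _ _ _ _ h h' ↦ ?_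
  rw [RingHom.flat_algebraMap_iff] at h' ⊢
  rw [RingHom.faithfullyFlat_algebraMap_iff] at h
  exact Module.Flat.of_flat_tensorProduct R T S

instance : DescendsAlong @Flat (@Surjective ⊓ @Flat ⊓ @QuasiCompact) :=
  HasRingHomProperty.descendsAlong_flat RingHom.Flat.codescendsAlong_faithfullyFlat

set_option backward.isDefEq.respectTransparency false in
/-- fpqc descent implies descent along flat surjective universally open morphisms. -/
theorem descendsAlong_flat_surjective_universallyOpen (P : MorphismProperty Scheme.{u})
    [P.DescendsAlong (@Surjective ⊓ @Flat ⊓ @QuasiCompact)] [IsZariskiLocalAtTarget P] :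
    P.DescendsAlong (@Flat ⊓ @Surjective ⊓ @UniversallyOpen) := by
  apply IsZariskiLocalAtTarget.descendsAlong
  rintro R X Y f g ⟨⟨h₁, h₂⟩, h₃⟩ H
  obtain ⟨V : X.Opens, hV, e⟩ := f.isOpenMap.exists_opens_image_eq_of_prespectralSpace
    f.continuous (by simp) isOpen_univ isCompact_univ
  refine MorphismProperty.of_isPullback_of_descendsAlong (Q := @Surjective ⊓ @Flat ⊓ @QuasiCompact)
    (.paste_vert (.of_hasPullback V.ι _) (.of_hasPullback f g)) ⟨⟨?_, inferInstance⟩,
      (quasiCompact_iff_compactSpace _).mpr (isCompact_iff_compactSpace.mp hV)⟩ ?_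
  · exact ⟨fun x ↦ have ⟨y, hyV, e⟩ := e.ge (Set.mem_univ x); ⟨⟨y, hyV⟩, e⟩⟩
  · exact IsZariskiLocalAtTarget.of_isPullback (.flip <| .of_hasPullback _ _) H

set_option backward.isDefEq.respectTransparency false in
/-- Flatness descends along flat surjective universally open morphisms. -/
instance flat_descendsAlong_flat_surjective_universallyOpen :
    DescendsAlong @Flat (@Flat ⊓ @Surjective ⊓ @UniversallyOpen) :=
  descendsAlong_flat_surjective_universallyOpen _

set_option backward.isDefEq.respectTransparency false in
/-- Flatness descends along fppf morphisms. -/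
instance flat_descendsAlong_fppf :
    DescendsAlong @Flat (@Surjective ⊓ @Flat ⊓ @LocallyOfFinitePresentation) :=
  inferInstance

end Groth.Agent.Lib.FlatDescend45
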