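import Mathlib

set_option autoImplicit false

/-! helper84: going-down for `A → B` from a finite `B`-module flat over `A` with full support
(used for S4693). -/

namespace Groth.Agent.Lib.FlatGoingDown

open TensorProduct

/-- flat over `A`, `p` prime, `a ∉ p`, `a • n ∈ pN` ⇒ `n ∈ pN`. -/
theorem mem_smul_top_of_smul_mem {A N : Type*} [CommRing A] [AddCommGroup N] [Module A N]
    [Module.Flat A N] (p : Ideal A) [p.IsPrime] {a : A} (ha : a ∉ p) {n : N}
    (h : a • n ∈ (p • ⊤ : Submodule A N)) : n ∈ (p • ⊤ : Submodule A N) := by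
  have hreg : IsRegular (Ideal.Quotient.mk p a) := by
    apply IsRegular.of_ne_zero
    rwa [Ne, Ideal.Quotient.eq_zero_iff_mem]
  have hsr : IsSMulRegular ((A ⧸ p) ⊗[A] N) (Ideal.Quotient.mk p a) :=
    Module.Flat.isSMulRegular_of_isRegular hreg
  have h1 : (1 : A ⧸ p) ⊗ₜ[A] n = 0 := by
    apply hsr
    simp only [smul_zero]
    rw [TensorProduct.smul_tmul', smul_eq_mul, mul_one]
    have : (Ideal.Quotient.mk p a) ⊗ₜ[A] n = (1 : A ⧸ p) ⊗ₜ[A] (a • n) := by
      rw [← TensorProduct.smul_tmul]
      congr 1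
      rw [← Ideal.Quotient.algebraMap_eq, Algebra.algebraMap_eq_smul_one]
    rw [this]
    have h2 := (Submodule.Quotient.mk_eq_zero _).mpr h
    have := congrArg (quotTensorEquivQuotSMul N p).symm h2
    simpa using this
  have := congrArg (quotTensorEquivQuotSMul N p) h1
  rw [quotTensorEquivQuotSMul_mk_one_tmul, map_zero] at this
  exact (Submodule.Quotient.mk_eq_zero _).mp this

/-- Going-down for an `A`-algebra `B` carrying a finite module `N`, flat over `A`, with full
support. -/
theorem hasGoingDown_of_flat_module {A B : Type*} [CommRing A] [CommRing B] [Algebra A B]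
    [IsNoetherianRing B] (N : Type*) [AddCommGroup N] [Module B N] [Module A N]
    [IsScalarTower A B N] [Module.Finite B N] [Module.Flat A N]
    (hN : Module.support B N = Set.univ) : Algebra.HasGoingDown A B := by
  constructor
  intro p _ Q _ hlt
  set J : Ideal B := p.map (algebraMap A B) with hJ
  have hJQ : J ≤ Q := by
    rw [hJ, Ideal.map_le_iff_le_comap]
    exact hlt.le
  -- Q in support of N / J N
  have hQ : (⟨Q, inferInstance⟩ : PrimeSpectrum B) ∈
      Module.support B (N ⧸ (J • ⊤ : Submodule B N)) := by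
    rw [Module.support_quotient, hN]
    exact ⟨Set.mem_univ _, hJQ⟩
  rw [Module.support_eq_zeroLocus, PrimeSpectrum.mem_zeroLocus] at hQ
  obtain ⟨P, hP, hPQ⟩ := Ideal.exists_minimalPrimes_le (show Module.annihilator B (N ⧸ (J • ⊤ : Submodule B N)) ≤ Q from hQ)
  have hass := Module.associatedPrimes.minimalPrimes_annihilator_subset_associatedPrimes B (N ⧸ (J • ⊤ : Submodule B N)) hP
  rw [AssociatedPrimes.mem_iff, isAssociatedPrime_iff] at hass
  obtain ⟨hPprime, x, hx⟩ := hass
  obtain ⟨n, rfl⟩ := Submodule.Quotient.mk_surjective _ x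
  refine ⟨P, hPQ, hPprime, ⟨?_⟩⟩
  have hmem : ∀ b : B, b ∈ P ↔ b • n ∈ (J • ⊤ : Submodule B N) := by
    intro b
    rw [hx, Submodule.mem_colon_singleton, Submodule.mem_bot, ← Submodule.Quotient.mk_smul,
      Submodule.Quotient.mk_eq_zero]
  have hset : ∀ m : N, m ∈ (J • ⊤ : Submodule B N) ↔ m ∈ (p • ⊤ : Submodule A N) := by
    intro m
    have := Ideal.smul_restrictScalars p (⊤ : Submodule B N)
    rw [Submodule.restrictScalars_top] at this
    rw [← this, Submodule.restrictScalars_mem]
  have hn : n ∉ (J • ⊤ : Submodule B N) := by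
    intro hn
    apply hPprime.ne_top
    rw [Ideal.eq_top_iff_one, hmem, one_smul]
    exact hn
  ext a
  rw [Ideal.under_def, Ideal.mem_comap, hmem, algebraMap_smul, hset]
  constructor
  · intro ha
    exact Submodule.smul_mem_smul ha Submodule.mem_top
  · intro ha
    by_contra hap
    exact hn ((hset n).mpr (mem_smul_top_of_smul_mem p hap ha))

end Groth.Agent.Lib.FlatGoingDown
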