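import Mathlib
import Groth.Agent.Lib.FlatGoingDown
import Groth.Agent.Lib.SupportBaseChange
import Groth.Agent.Lib.SupportTensorAlg

set_option autoImplicit false
set_option linter.style.haveILetI false
set_option maxHeartbeats 400000

/-! helper84: dimension formula `dim_B (N ⊗_A M) = dim_A M + dim_B (N / m_A N)` for a local
homomorphism of Noetherian local rings and a finite `B`-module `N` flat over `A` (EGA IV 6.1.2). -/

universe u
open Groth.Agent.Lib.FlatGoingDown

namespace Groth.Agent.Lib.FlatDimFormula
open TensorProduct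

/-- dimension formula for a local hom with going-down. -/
theorem ringKrullDim_eq_add_of_hasGoingDown (A B : Type*) [CommRing A] [CommRing B]
    [IsNoetherianRing A] [IsNoetherianRing B] [IsLocalRing A] [IsLocalRing B] [Algebra A B]
    [IsLocalHom (algebraMap A B)] [Algebra.HasGoingDown A B] :
    ringKrullDim B = ringKrullDim A +
      ringKrullDim (B ⧸ (IsLocalRing.maximalIdeal A).map (algebraMap A B)) := by
  have : (IsLocalRing.maximalIdeal B).LiesOver (IsLocalRing.maximalIdeal A) :=
    ⟨(IsLocalRing.maximalIdeal_comap (algebraMap A B)).symm⟩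
  have hne : (IsLocalRing.maximalIdeal A).map (algebraMap A B) ≠ ⊤ :=
    (IsLocalRing.map_maximalIdeal_lt_top (algebraMap A B)).ne
  have : Nontrivial (B ⧸ (IsLocalRing.maximalIdeal A).map (algebraMap A B)) :=
    Ideal.Quotient.nontrivial_iff.mpr hne
  have : IsLocalRing (B ⧸ (IsLocalRing.maximalIdeal A).map (algebraMap A B)) :=
    IsLocalRing.of_surjective' (Ideal.Quotient.mk _) Ideal.Quotient.mk_surjective
  have hmax : (IsLocalRing.maximalIdeal B).map
      (Ideal.Quotient.mk ((IsLocalRing.maximalIdeal A).map (algebraMap A B))) =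
      IsLocalRing.maximalIdeal (B ⧸ (IsLocalRing.maximalIdeal A).map (algebraMap A B)) := by
    apply IsLocalRing.eq_maximalIdeal
    apply Ideal.IsMaximal.map_of_surjective_of_ker_le Ideal.Quotient.mk_surjective
    rw [Ideal.mk_ker]
    exact IsLocalRing.map_maximalIdeal_le (algebraMap A B)
  have h1 := Ideal.height_eq_height_add_of_liesOver_of_hasGoingDown (IsLocalRing.maximalIdeal A)
    (IsLocalRing.maximalIdeal B)
  rw [hmax] at h1
  rw [← IsLocalRing.maximalIdeal_height_eq_ringKrullDim,
    ← IsLocalRing.maximalIdeal_height_eq_ringKrullDim,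
    ← IsLocalRing.maximalIdeal_height_eq_ringKrullDim, h1]
  push_cast
  rfl


/-- `Supp_B (N ⊗_A M) = Supp_B (N / Ann(M) N)` for finite modules. -/
theorem support_tensor_eq (A B : Type*) [CommRing A] [CommRing B] [Algebra A B]
    (M : Type*) [AddCommGroup M] [Module A M] [Module.Finite A M]
    (N : Type*) [AddCommGroup N] [Module B N] [Module A N] [IsScalarTower A B N]
    [Module.Finite B N] :
    Module.support B (N ⊗[A] M) =
      Module.support B (N ⧸ ((Module.annihilator A M).map (algebraMap A B) • ⊤ : Submodule B N)) := by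
  have e : N ⊗[B] (B ⊗[A] M) ≃ₗ[B] N ⊗[A] M :=
    TensorProduct.AlgebraTensorModule.cancelBaseChange A B B N M
  rw [← e.support_eq, SupportTensor.support_tensorProduct,
    SupportBaseChange.support_baseChange, Module.support_quotient,
    Module.support_eq_zeroLocus (M := M), PrimeSpectrum.preimage_comap_zeroLocus]
  congr 1
  rw [Ideal.map, PrimeSpectrum.zeroLocus_span]


/-- abstract form: `X` finite over `B`, killed by `I`, flat over `A ⧸ I`. -/
theorem supportDim_eq_add_of_flat_quotient (A B : Type u) [CommRing A] [CommRing B]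
    [IsNoetherianRing A] [IsNoetherianRing B]
    [IsLocalRing A] [IsLocalRing B] [Algebra A B] [IsLocalHom (algebraMap A B)]
    (I : Ideal A) (hI : I ≠ ⊤)
    (X : Type u) [AddCommGroup X] [Module B X] [Module A X] [IsScalarTower A B X]
    [Module.Finite B X] [Nontrivial X]
    (hT : Module.IsTorsionBySet A X I)
    (hflat : letI := hT.module; Module.Flat (A ⧸ I) X) :
    Module.supportDim B X = ringKrullDim (A ⧸ I) +
      Order.krullDim ↥(Module.support B X ∩
        PrimeSpectrum.zeroLocus ((IsLocalRing.maximalIdeal A).map (algebraMap A B) : Set B)) := by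
  classical
  set K := Module.annihilator B X with hK
  have hKne : K ≠ ⊤ := by
    intro h
    rw [hK, Module.annihilator_eq_top_iff] at h
    exact not_subsingleton X h
  have hIK : I ≤ K.comap (algebraMap A B) := by
    intro a ha
    rw [Ideal.mem_comap, hK, Module.mem_annihilator]
    intro x
    rw [algebraMap_smul]
    exact @hT x ⟨a, ha⟩
  letI algA'B' : Algebra (A ⧸ I) (B ⧸ K) := (Ideal.quotientMap K (algebraMap A B) hIK).toAlgebra
  letI modA' : Module (A ⧸ I) X := hT.module
  letI modB' : Module (B ⧸ K) X := Module.quotientAnnihilator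
  have hmkA : ∀ (a : A) (x : X), (Ideal.Quotient.mk I a) • x = a • x := fun a x => rfl
  have hmkB : ∀ (b : B) (x : X), (Ideal.Quotient.mk K b) • x = b • x := fun b x => rfl
  have halg : ∀ a : A, algebraMap (A ⧸ I) (B ⧸ K) (Ideal.Quotient.mk I a) =
      Ideal.Quotient.mk K (algebraMap A B a) := fun a => rfl
  haveI : IsScalarTower (A ⧸ I) (B ⧸ K) X := by
    refine IsScalarTower.of_algebraMap_smul ?_
    intro a x
    obtain ⟨a, rfl⟩ := Ideal.Quotient.mk_surjective a
    rw [halg, hmkA, hmkB, algebraMap_smul]
  haveI : IsScalarTower B (B ⧸ K) X := by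
    refine IsScalarTower.of_algebraMap_smul ?_
    intro b x
    rfl
  haveI : Module.Finite (B ⧸ K) X := Module.Finite.of_restrictScalars_finite B (B ⧸ K) X
  haveI : Nontrivial (A ⧸ I) := Ideal.Quotient.nontrivial_iff.mpr hI
  haveI : Nontrivial (B ⧸ K) := Ideal.Quotient.nontrivial_iff.mpr hKne
  haveI : IsLocalRing (A ⧸ I) :=
    IsLocalRing.of_surjective' (Ideal.Quotient.mk I) Ideal.Quotient.mk_surjective
  haveI : IsLocalRing (B ⧸ K) :=
    IsLocalRing.of_surjective' (Ideal.Quotient.mk K) Ideal.Quotient.mk_surjective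
  haveI : IsLocalHom (algebraMap (A ⧸ I) (B ⧸ K)) := by
    constructor
    intro a ha
    obtain ⟨a, rfl⟩ := Ideal.Quotient.mk_surjective a
    rw [halg] at ha
    haveI : IsLocalHom (Ideal.Quotient.mk K) :=
      IsLocalHom.of_surjective _ Ideal.Quotient.mk_surjective
    have h1 : IsUnit (algebraMap A B a) := isUnit_of_map_unit (Ideal.Quotient.mk K) _ ha
    have h2 : IsUnit a := isUnit_of_map_unit (algebraMap A B) a h1
    exact h2.map (Ideal.Quotient.mk I)
  haveI : Module.Flat (A ⧸ I) X := hflat
  have hsupp : Module.support (B ⧸ K) X = Set.univ := by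
    rw [Module.support_eq_zeroLocus]
    have : Module.annihilator (B ⧸ K) X = ⊥ := by
      rw [eq_bot_iff]
      intro b hb
      obtain ⟨b, rfl⟩ := Ideal.Quotient.mk_surjective b
      rw [Module.mem_annihilator] at hb
      rw [Ideal.mem_bot, Ideal.Quotient.eq_zero_iff_mem, hK, Module.mem_annihilator]
      intro x
      rw [← hmkB]
      exact hb x
    rw [this]
    simp
  haveI := hasGoingDown_of_flat_module (A := A ⧸ I) (B := B ⧸ K) X hsupp
  have key := ringKrullDim_eq_add_of_hasGoingDown (A ⧸ I) (B ⧸ K)
  rw [Module.supportDim_eq_ringKrullDim_quotient_annihilator, ← hK, key]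
  congr 1
  have hm : (IsLocalRing.maximalIdeal (A ⧸ I)).map (algebraMap (A ⧸ I) (B ⧸ K)) =
      ((IsLocalRing.maximalIdeal A).map (algebraMap A B)).map (Ideal.Quotient.mk K) := by
    have h1 : IsLocalRing.maximalIdeal (A ⧸ I) =
        (IsLocalRing.maximalIdeal A).map (Ideal.Quotient.mk I) := by
      symm
      apply IsLocalRing.eq_maximalIdeal
      apply Ideal.IsMaximal.map_of_surjective_of_ker_le Ideal.Quotient.mk_surjective
      rw [Ideal.mk_ker]
      exact IsLocalRing.le_maximalIdeal hI
    rw [h1, Ideal.map_map, Ideal.map_map]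
    congr 1
  rw [hm, ringKrullDim_eq_of_ringEquiv (DoubleQuot.quotQuotEquivQuotSup K _),
    ringKrullDim_quotient, PrimeSpectrum.zeroLocus_sup, Module.support_eq_zeroLocus, ← hK]


/-- **Dimension formula** (EGA IV 6.1.2). -/
theorem supportDim_tensor_eq_add (A B : Type u) [CommRing A] [CommRing B] [IsNoetherianRing A]
    [IsNoetherianRing B]
    [IsLocalRing A] [IsLocalRing B] [Algebra A B] [IsLocalHom (algebraMap A B)]
    (M : Type u) [AddCommGroup M] [Module A M] [Module.Finite A M] [Nontrivial M]
    (N : Type u) [AddCommGroup N] [Module B N] [Module A N] [IsScalarTower A B N]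
    [Module.Finite B N] [Nontrivial N] [Module.Flat A N] :
    Module.supportDim B (N ⊗[A] M) =
      Module.supportDim A M + Module.supportDim B
        (N ⧸ ((IsLocalRing.maximalIdeal A).map (algebraMap A B) • ⊤ : Submodule B N)) := by
  set I := Module.annihilator A M with hI
  set J := I.map (algebraMap A B) with hJ
  have hIne : I ≠ ⊤ := by
    intro h
    rw [hI, Module.annihilator_eq_top_iff] at h
    exact not_subsingleton M h
  have hIm : I ≤ IsLocalRing.maximalIdeal A := IsLocalRing.le_maximalIdeal hIne
  have hJm' : J ≤ (IsLocalRing.maximalIdeal A).map (algebraMap A B) := Ideal.map_mono hIm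
  have hJm : J ≤ IsLocalRing.maximalIdeal B :=
    hJm'.trans (IsLocalRing.map_maximalIdeal_le (algebraMap A B))
  haveI hX : Nontrivial (N ⧸ (J • ⊤ : Submodule B N)) := by
    rw [Submodule.Quotient.nontrivial_iff]
    intro h
    have h2 : (⊤ : Submodule B N) ≤ IsLocalRing.maximalIdeal B • (⊤ : Submodule B N) :=
      h.symm.le.trans (Submodule.smul_mono_left hJm)
    have h3 := Submodule.eq_bot_of_le_smul_of_le_jacobson_bot (IsLocalRing.maximalIdeal B)
      (⊤ : Submodule B N) Module.Finite.fg_top h2
      (IsLocalRing.jacobson_eq_maximalIdeal _ bot_ne_top).ge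
    exact not_subsingleton N ((Submodule.subsingleton_iff B).mp (subsingleton_of_bot_eq_top h3.symm))
  have hT : Module.IsTorsionBySet A (N ⧸ (J • ⊤ : Submodule B N)) I := by
    intro x a
    obtain ⟨n, rfl⟩ := Submodule.Quotient.mk_surjective _ x
    rw [← Submodule.Quotient.mk_smul, Submodule.Quotient.mk_eq_zero, ← algebraMap_smul B (a : A) n]
    exact Submodule.smul_mem_smul (Ideal.mem_map_of_mem _ a.2) Submodule.mem_top
  have hflat : letI := hT.module; Module.Flat (A ⧸ I) (N ⧸ (J • ⊤ : Submodule B N)) := by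
    letI := hT.module
    have hP : (J • ⊤ : Submodule B N).restrictScalars A = I • (⊤ : Submodule A N) := by
      rw [hJ, Ideal.smul_restrictScalars, Submodule.restrictScalars_top]
    let e₀ : (A ⧸ I) ⊗[A] N ≃ₗ[A] (N ⧸ (J • ⊤ : Submodule B N)) :=
      (quotTensorEquivQuotSMul N I) ≪≫ₗ (Submodule.quotEquivOfEq _ _ hP.symm) ≪≫ₗ
        (Submodule.Quotient.restrictScalarsEquiv A (J • ⊤ : Submodule B N))
    exact Module.Flat.of_linearEquiv
      (e₀.extendScalarsOfSurjective (Ideal.Quotient.mk_surjective (I := I))).symm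
  have key := supportDim_eq_add_of_flat_quotient A B I hIne (N ⧸ (J • ⊤ : Submodule B N)) hT hflat
  have h1 : Module.supportDim B (N ⊗[A] M) = Module.supportDim B (N ⧸ (J • ⊤ : Submodule B N)) := by
    simp only [Module.supportDim]
    rw [support_tensor_eq A B M N]
  rw [h1, key, Module.supportDim_eq_ringKrullDim_quotient_annihilator (R := A) (M := M)]
  congr 1
  simp only [Module.supportDim]
  rw [Module.support_quotient, Module.support_quotient, Set.inter_assoc]
  rw [Set.inter_eq_right.mpr (PrimeSpectrum.zeroLocus_anti_mono hJm')]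


end Groth.Agent.Lib.FlatDimFormula
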