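import Groth.Agent.Lib.TorIndepBC
import Groth.Agent.Lib.PerfHomLocal
import Groth.Agent.S7067
import Mathlib.RingTheory.Smooth.NoetherianDescent
import Mathlib.RingTheory.Smooth.Flat
import Mathlib.AlgebraicGeometry.Morphisms.Smooth

/-!
# Smooth ring maps and smooth morphisms are perfect

Namespace `Groth.Agent.Lib.SmoothPerfect`.

* `isPseudoCoherentHom_of_smooth`, `isPerfectHom_of_smooth` : a smooth ring map is pseudo-coherent and
  perfect (Noetherian descent `Algebra.Smooth.exists_finiteType` + Tor-independent base change).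
* `isPerfectMor_of_smooth` : a smooth morphism of schemes is perfect.
-/

set_option autoImplicit false
universe u
open CategoryTheory CategoryTheory.Limits TensorProduct
attribute [local instance] HasDerivedCategory.standard

namespace Groth.Agent.Lib.SmoothPerfect

open Groth.Agent.Lib.PCohHomLocal Groth.Agent.Lib.TorIndepBC Groth.Agent.Lib.TorDimHom
  Groth.Agent.Lib.TorDimHomLocal Groth.Agent.Lib.PerfHomLocal

section Ring

variable (A B : Type u) [CommRing A] [CommRing B] [Algebra A B]

attribute [local instance] Algebra.TensorProduct.rightAlgebra in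
/-- a smooth ring map is pseudo-coherent -/
theorem isPseudoCoherentHom_of_smooth [Algebra.Smooth A B] : MoreMor.IsPseudoCoherentHom A B := by
  obtain ⟨A₀, B₀, _, _, _, _, _, -, hft, hsm, ⟨e⟩⟩ := Algebra.Smooth.exists_finiteType ℤ A B
  have hN : IsNoetherianRing A₀ := Algebra.FiniteType.isNoetherianRing ℤ A₀
  have hft' : Algebra.FiniteType A₀ B₀ := inferInstance
  have hpc₀ := Groth.Agent.S7067.result A₀ B₀
  have hfl : Module.Flat A₀ B₀ := Algebra.Smooth.flat A₀ B₀
  have hpo : Algebra.IsPushout A₀ B₀ A (A ⊗[A₀] B₀) := TensorProduct.isPushout'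
  have hpc₁ : MoreMor.IsPseudoCoherentHom A (A ⊗[A₀] B₀) :=
    pcHom_baseChange_of_flat (A := A₀) (B := B₀) (A' := A) (B' := A ⊗[A₀] B₀) hpc₀
  exact pcHom_of_algEquiv e.symm hpc₁

/-- a smooth ring map is perfect -/
theorem isPerfectHom_of_smooth [Algebra.Smooth A B] : MoreMor.IsPerfectHom A B := by
  have : Module.Flat A B := Algebra.Smooth.flat A B
  exact ⟨isPseudoCoherentHom_of_smooth A B, 0, hasTorDimLE_of_flat B 0⟩

end Ring

section Scheme

open AlgebraicGeometry

/-- a smooth morphism of schemes is perfect -/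
theorem isPerfectMor_of_smooth {X S : Scheme.{u}} (f : X ⟶ S) [Smooth f] :
    MoreMor.IsPerfectMor f := by
  intro U V hU hV hUV
  have h : (f.appLE V U hUV).hom.Smooth :=
    HasRingHomProperty.appLE (P := @Smooth) f inferInstance ⟨V, hV⟩ ⟨U, hU⟩ hUV
  let _ := (f.appLE V U hUV).hom.toAlgebra
  have : Algebra.Smooth Γ(S, V) Γ(X, U) := h
  exact isPerfectHom_of_smooth Γ(S, V) Γ(X, U)

/-- a smooth morphism of schemes is pseudo-coherent -/
theorem isPseudoCoherentMor_of_smooth {X S : Scheme.{u}} (f : X ⟶ S) [Smooth f] :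
    MoreMor.IsPseudoCoherentMor f :=
  fun U V hU hV hUV => (isPerfectMor_of_smooth f U V hU hV hUV).1

end Scheme

end Groth.Agent.Lib.SmoothPerfect
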