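import Groth.Agent.Lib.FlatLocalModel
import Groth.Agent.Lib.SmoothPerfect
import Mathlib.AlgebraicGeometry.Morphisms.Flat
import Mathlib.AlgebraicGeometry.Morphisms.FinitePresentation

/-!
# Flat finitely presented ring maps / morphisms are perfect

Namespace `Groth.Agent.Lib.FlatFPPerfect`.

* `isPseudoCoherentHom_of_flat_of_finitePresentation`, `isPerfectHom_of_flat_of_finitePresentation`
* `isPerfectMor_of_flat_of_locallyOfFinitePresentation`
-/

set_option autoImplicit false
universe u
open CategoryTheory CategoryTheory.Limits TensorProduct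
attribute [local instance] HasDerivedCategory.standard

namespace Groth.Agent.Lib.FlatFPPerfect

open Groth.Agent.Lib.PCohHomLocal Groth.Agent.Lib.TorIndepBC Groth.Agent.Lib.TorDimHom
  Groth.Agent.Lib.TorDimHomLocal Groth.Agent.Lib.PerfHomLocal Groth.Agent.Lib.FlatLocalModel

section Ring

variable (A B : Type u) [CommRing A] [CommRing B] [Algebra A B]

attribute [local instance] Algebra.TensorProduct.rightAlgebra in
/-- a flat finitely presented ring map is pseudo-coherent -/
theorem isPseudoCoherentHom_of_flat_of_finitePresentation [Module.Flat A B]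
    [Algebra.FinitePresentation A B] : MoreMor.IsPseudoCoherentHom A B := by
  classical
  -- local statement
  have key : ∀ (q : Ideal B) [q.IsPrime], ∃ g, g ∉ q ∧
      MoreMor.IsPseudoCoherentHom A (Localization.Away g) := by
    intro q _
    obtain ⟨g, hg, A₁, D₁, _, _, _, _, hA₁, hD₁, hfl, ⟨e⟩⟩ := exists_local_flat_model A B q
    refine ⟨g, hg, ?_⟩
    have hN : IsNoetherianRing A₁ := Algebra.FiniteType.isNoetherianRing ℤ A₁
    have hpc₀ := Groth.Agent.S7067.result A₁ D₁
    have hpo : Algebra.IsPushout A₁ D₁ A (A ⊗[A₁] D₁) := TensorProduct.isPushout'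
    have hpc₁ : MoreMor.IsPseudoCoherentHom A (A ⊗[A₁] D₁) :=
      pcHom_baseChange_of_flat (A := A₁) (B := D₁) (A' := A) (B' := A ⊗[A₁] D₁) hpc₀
    exact pcHom_of_algEquiv e hpc₁
  -- the chosen elements generate the unit ideal
  let G : Set B := {g | MoreMor.IsPseudoCoherentHom A (Localization.Away g)}
  have hG : Ideal.span G = ⊤ := by
    by_contra hne
    obtain ⟨m, hm, hle⟩ := Ideal.exists_le_maximal _ hne
    obtain ⟨g, hg, hpc⟩ := key m
    exact hg (hle (Ideal.subset_span hpc))
  obtain ⟨s, hsG, hs⟩ := (Ideal.span_eq_top_iff_finite G).mp hG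
  exact pcHom_of_span_target s hs (fun r => hsG r.2)

/-- a flat finitely presented ring map is perfect -/
theorem isPerfectHom_of_flat_of_finitePresentation [Module.Flat A B]
    [Algebra.FinitePresentation A B] : MoreMor.IsPerfectHom A B :=
  ⟨isPseudoCoherentHom_of_flat_of_finitePresentation A B, 0, hasTorDimLE_of_flat B 0⟩

end Ring

section Scheme

open AlgebraicGeometry

/-- a flat morphism locally of finite presentation is perfect -/
theorem isPerfectMor_of_flat_of_locallyOfFinitePresentation {X S : Scheme.{u}} (f : X ⟶ S)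
    [Flat f] [LocallyOfFinitePresentation f] : MoreMor.IsPerfectMor f := by
  intro U V hU hV hUV
  have h1 : (f.appLE V U hUV).hom.Flat :=
    HasRingHomProperty.appLE (P := @Flat) f inferInstance ⟨V, hV⟩ ⟨U, hU⟩ hUV
  have h2 : (f.appLE V U hUV).hom.FinitePresentation :=
    HasRingHomProperty.appLE (P := @LocallyOfFinitePresentation) f inferInstance ⟨V, hV⟩ ⟨U, hU⟩
      hUV
  let _ := (f.appLE V U hUV).hom.toAlgebra
  have : Module.Flat Γ(S, V) Γ(X, U) := h1
  have : Algebra.FinitePresentation Γ(S, V) Γ(X, U) := h2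
  exact isPerfectHom_of_flat_of_finitePresentation Γ(S, V) Γ(X, U)

/-- a flat morphism locally of finite presentation is pseudo-coherent -/
theorem isPseudoCoherentMor_of_flat_of_locallyOfFinitePresentation {X S : Scheme.{u}} (f : X ⟶ S)
    [Flat f] [LocallyOfFinitePresentation f] : MoreMor.IsPseudoCoherentMor f :=
  fun U V hU hV hUV => (isPerfectMor_of_flat_of_locallyOfFinitePresentation f U V hU hV hUV).1

end Scheme

end Groth.Agent.Lib.FlatFPPerfect
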