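import Groth.Agent.Lib.FlatDimFormula
import Groth.Agent.Lib.FibreStalkChart
import Groth.Prelude.Def_EGA4b
import Groth.Agent.Lib.H56FormalCat4

/-!
# Dimension of the fibre local ring of a flat algebra (helper63)

`ringKrullDim_fibLocRing_add`: for `S → T` flat, both Noetherian, and a prime `Q` of `T`:
`dim (T_Q / p T_Q) + dim S_p = dim T_Q`, `p = Q ∩ S` (`EGA4.FibLocRing S T Q = T_Q / p T_Q`).
`exists_prime_fibLocRing_dim_zero`: for `T` flat over `S` with `q T ≠ T` there is a prime of `T` over
`q` whose fibre local ring has dimension zero.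
-/

set_option autoImplicit false
universe u

namespace Groth.Agent.Lib.FlatFibLocDim

open IsLocalRing

variable {S T : Type u} [CommRing S] [CommRing T] [Algebra S T]

theorem ringKrullDim_fibLocRing_add [IsNoetherianRing S] [IsNoetherianRing T] [Module.Flat S T]
    (Q : Ideal T) [Q.IsPrime] :
    ringKrullDim (EGA4.FibLocRing S T Q) + ringKrullDim (Localization.AtPrime (Q.under S)) =
      ringKrullDim (Localization.AtPrime Q) := by
  letI : Algebra (Localization.AtPrime (Q.under S)) (Localization.AtPrime Q) :=
    (Localization.localRingHom (Q.under S) Q (algebraMap S T) rfl).toAlgebra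
  haveI : IsScalarTower S (Localization.AtPrime (Q.under S)) (Localization.AtPrime Q) :=
    IsScalarTower.of_algebraMap_eq (fun s => by
      change _ = Localization.localRingHom (Q.under S) Q (algebraMap S T) rfl (algebraMap S _ s)
      rw [Localization.localRingHom_to_map]
      rfl)
  haveI : IsLocalHom (algebraMap (Localization.AtPrime (Q.under S)) (Localization.AtPrime Q)) :=
    Localization.isLocalHom_localRingHom (Q.under S) Q (algebraMap S T) rfl
  haveI : Module.Flat T (Localization.AtPrime Q) := IsLocalization.flat _ Q.primeCompl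
  haveI : Module.Flat S (Localization.AtPrime Q) := Module.Flat.trans S T _
  haveI : Module.Flat (Localization.AtPrime (Q.under S)) (Localization.AtPrime Q) :=
    (Module.flat_iff_of_isLocalization (Localization.AtPrime (Q.under S)) (Q.under S).primeCompl
      (Localization.AtPrime Q)).mpr inferInstance
  have h1 := Groth.Agent.Lib.FlatDimFormula.ringKrullDim_eq_add_of_hasGoingDown
    (Localization.AtPrime (Q.under S)) (Localization.AtPrime Q)
  have h2 : (maximalIdeal (Localization.AtPrime (Q.under S))).map
      (algebraMap (Localization.AtPrime (Q.under S)) (Localization.AtPrime Q)) =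
      (Q.comap (algebraMap S T)).map (algebraMap S (Localization.AtPrime Q)) := by
    rw [← IsLocalization.AtPrime.map_eq_maximalIdeal (Q.under S)
      (Localization.AtPrime (Q.under S)), Ideal.map_map,
      ← IsScalarTower.algebraMap_eq S (Localization.AtPrime (Q.under S)) (Localization.AtPrime Q)]
  rw [ringKrullDim_eq_of_ringEquiv (Ideal.quotEquivOfEq h2)] at h1
  rw [h1, add_comm]

theorem exists_prime_fibLocRing_dim_zero [IsNoetherianRing T] [Module.Flat S T] (q : Ideal S)
    [q.IsPrime] (hne : q.map (algebraMap S T) ≠ ⊤) :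
    ∃ (q' : Ideal T) (_ : q'.IsPrime), q'.LiesOver q ∧
      ringKrullDim (EGA4.FibLocRing S T q') = 0 := by
  obtain ⟨m, hm, hle⟩ := Ideal.exists_le_maximal _ hne
  haveI := hm.isPrime
  obtain ⟨Q, hQmin, -, hQ0, -⟩ :=
    Groth.Agent.Lib.FibreStalkChart.exists_minimalPrimes_height_add_le
      (q.map (algebraMap S T)) m hle
  haveI hQprime : Q.IsPrime := hQmin.1.1
  have hIQ : q.map (algebraMap S T) ≤ Q := hQmin.1.2
  have hund : Q.under S = q :=
    Groth.Agent.Lib.H56FormalCat.under_eq_of_mem_minimalPrimes_map q Q hQmin
  refine ⟨Q, hQprime, ⟨hund.symm⟩, ?_⟩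
  have h2 : (Q.comap (algebraMap S T)).map (algebraMap S (Localization.AtPrime Q)) =
      (q.map (algebraMap S T)).map (algebraMap T (Localization.AtPrime Q)) := by
    have : Q.comap (algebraMap S T) = q := hund
    rw [this, Ideal.map_map, ← IsScalarTower.algebraMap_eq S T (Localization.AtPrime Q)]
  rw [ringKrullDim_eq_of_ringEquiv (Ideal.quotEquivOfEq h2),
    Groth.Agent.Lib.FibreStalkChart.ringKrullDim_quotient_map_eq_height _ Q hIQ
      (Localization.AtPrime Q), hQ0]
  rfl

end Groth.Agent.Lib.FlatFibLocDim
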