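import Mathlib

namespace Groth.Agent.Lib.FlatFibre97
open TensorProduct

universe u
variable {R : Type u} [CommRing R] {M P : Type u} [AddCommGroup M] [Module R M]
  [AddCommGroup P] [Module R P]

/-- naturality of `cancelBaseChange`. -/
lemma cancel_nat (m : Ideal R) [m.IsPrime] (g : M →ₗ[R] P)
    (z : m.ResidueField ⊗[Localization.AtPrime m] (Localization.AtPrime m ⊗[R] M)) :
    AlgebraTensorModule.cancelBaseChange R (Localization.AtPrime m) m.ResidueField m.ResidueField P
      ((LinearMap.baseChange (Localization.AtPrime m) g).lTensor m.ResidueField z) =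
    g.lTensor m.ResidueField (AlgebraTensorModule.cancelBaseChange R (Localization.AtPrime m)
      m.ResidueField m.ResidueField M z) := by
  induction z using TensorProduct.induction_on with
  | zero => simp
  | add x y hx hy => simp only [map_add, hx, hy]
  | tmul c w =>
    induction w using TensorProduct.induction_on with
    | zero => simp
    | add x y hx hy => simp only [tmul_add, map_add, hx, hy]
    | tmul a x => simp

theorem injective_of_residue_injective [Module.Finite R M] [Module.Finite R P] [Module.Flat R P]
    (g : M →ₗ[R] P)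
    (h : ∀ (m : Ideal R) [m.IsMaximal], Function.Injective (g.lTensor m.ResidueField)) :
    Function.Injective g := by
  rw [injective_iff_map_eq_zero]
  intro x hx
  refine Module.eq_zero_of_localization_maximal
    (fun (m : Ideal R) [m.IsMaximal] => Localization.AtPrime m ⊗[R] M)
    (fun (m : Ideal R) [m.IsMaximal] => TensorProduct.mk R (Localization.AtPrime m) M 1) x ?_
  intro m _
  have hfree : Module.Free (Localization.AtPrime m) (Localization.AtPrime m ⊗[R] P) :=
    Module.free_of_flat_of_isLocalRing
  have hinj : Function.Injective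
      ((LinearMap.baseChange (Localization.AtPrime m) g).lTensor
        (IsLocalRing.ResidueField (Localization.AtPrime m))) := by
    intro z₁ z₂ hz
    have h1 := congrArg (AlgebraTensorModule.cancelBaseChange R (Localization.AtPrime m)
      m.ResidueField m.ResidueField P) hz
    rw [cancel_nat, cancel_nat] at h1
    exact (AlgebraTensorModule.cancelBaseChange R (Localization.AtPrime m)
      m.ResidueField m.ResidueField M).injective (h m h1)
  obtain ⟨l', hl'⟩ := (IsLocalRing.split_injective_iff_lTensor_residueField_injective
    (LinearMap.baseChange (Localization.AtPrime m) g)).mpr hinj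
  have h2 : LinearMap.baseChange (Localization.AtPrime m) g ((1 : Localization.AtPrime m) ⊗ₜ[R] x) = 0 := by
    rw [LinearMap.baseChange_tmul, hx, tmul_zero]
  have h3 := congrArg l' h2
  rw [← LinearMap.comp_apply, hl', map_zero] at h3
  exact h3


theorem surjective_of_residue_surjective [Module.Finite R P] (g : M →ₗ[R] P)
    (h : ∀ (m : Ideal R) [m.IsMaximal], Function.Surjective (g.lTensor m.ResidueField)) :
    Function.Surjective g := by
  rw [← LinearMap.range_eq_top]
  by_contra hne
  have hnt : Nontrivial (P ⧸ LinearMap.range g) :=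
    Submodule.Quotient.nontrivial_iff.mpr hne
  obtain ⟨p, hp⟩ := Module.nonempty_support_of_nontrivial (R := R) (M := P ⧸ LinearMap.range g)
  obtain ⟨m, hm, hpm⟩ := Ideal.exists_le_maximal p.asIdeal p.2.ne_top
  have hm' : (⟨m, hm.isPrime⟩ : PrimeSpectrum R) ∈ Module.support R (P ⧸ LinearMap.range g) :=
    Module.mem_support_mono (p := p) (q := ⟨m, hm.isPrime⟩) hpm hp
  rw [Module.mem_support_iff_nontrivial_residueField_tensorProduct] at hm'
  have hsub : Subsingleton (m.ResidueField ⊗[R] (P ⧸ LinearMap.range g)) := by
    refine subsingleton_of_forall_eq 0 fun z => ?_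
    obtain ⟨y, rfl⟩ := LinearMap.lTensor_surjective m.ResidueField
      (Submodule.mkQ_surjective (LinearMap.range g)) z
    obtain ⟨w, rfl⟩ := h m y
    rw [← LinearMap.comp_apply, ← LinearMap.lTensor_comp, LinearMap.range_mkQ_comp,
      LinearMap.lTensor_zero, LinearMap.zero_apply]
  exact not_subsingleton _ hsub

section Z

variable {B : Type u} [CommRing B] [Algebra R B] {N : Type u} [AddCommGroup N] [Module R N]
  [Module B N] [IsScalarTower R B N]

theorem subsingleton_of_fibres [Module.Finite B N]
    (h : ∀ (p : Ideal R) [p.IsPrime], Subsingleton (p.ResidueField ⊗[R] N)) : Subsingleton N := by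
  rw [← Module.support_eq_empty_iff (R := B), Set.eq_empty_iff_forall_notMem]
  intro q hq
  rw [Module.mem_support_iff_nontrivial_residueField_tensorProduct] at hq
  let p : Ideal R := q.asIdeal.comap (Algebra.ofId R B).toRingHom
  let ι : p.ResidueField →ₐ[R] q.asIdeal.ResidueField :=
    Ideal.ResidueField.mapₐ p q.asIdeal (Algebra.ofId R B) rfl
  let Φ : p.ResidueField ⊗[R] N →ₗ[R] q.asIdeal.ResidueField ⊗[B] N :=
    (TensorProduct.mapOfCompatibleSMul B R R q.asIdeal.ResidueField N) ∘ₗ
      (ι.toLinearMap.rTensor N)
  have h1 : ∀ n : N, (1 : q.asIdeal.ResidueField) ⊗ₜ[B] n = 0 := by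
    intro n
    have : Φ ((1 : p.ResidueField) ⊗ₜ[R] n) = (1 : q.asIdeal.ResidueField) ⊗ₜ[B] n := by
      simp [Φ]
    rw [← this, (h p).elim ((1 : p.ResidueField) ⊗ₜ[R] n) 0, map_zero]
  have hsub : Subsingleton (q.asIdeal.ResidueField ⊗[B] N) := by
    refine subsingleton_of_forall_eq 0 fun z => ?_
    induction z using TensorProduct.induction_on with
    | zero => rfl
    | add x y hx hy => rw [hx, hy, add_zero]
    | tmul c n =>
      have : c ⊗ₜ[B] n = c • ((1 : q.asIdeal.ResidueField) ⊗ₜ[B] n) := by
        rw [TensorProduct.smul_tmul', smul_eq_mul, mul_one]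
      rw [this, h1, smul_zero]
  exact not_subsingleton _ hsub

end Z

end Groth.Agent.Lib.FlatFibre97
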