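import Groth.Agent.Lib.FlatTopInduced88

/-!
# Descent of flatness along finite injective ring maps (helper88)

For `A` Noetherian and `A → A'` finite injective, the `I`-adic topology of `A` is induced by the
`IA'`-adic topology of `A'` (Artin–Rees).  Together with `FlatTopInduced88` this gives descent of
flatness of an ideally separated module along `A → A'`.
-/

set_option autoImplicit false
set_option linter.unusedSectionVars false
universe u

namespace Groth.Agent.Lib.FlatFiniteInj88

open TensorProduct Function Groth.Agent.Lib.FlatCrit Groth.Agent.Lib.FlatTopInduced88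

section ArtinRees

variable {A : Type*} [CommRing A] {A' : Type*} [CommRing A'] [Algebra A A']

/-- Artin–Rees: for a finite injective `A → A'` with `A` Noetherian, every power `I ^ n` contains
the contraction of some power of `I A'`. -/
theorem exists_comap_map_pow_le [IsNoetherianRing A] [Module.Finite A A']
    (hinj : Injective (algebraMap A A')) (I : Ideal A) (n : ℕ) :
    ∃ m : ℕ, ((I.map (algebraMap A A')) ^ m).comap (algebraMap A A') ≤ I ^ n := by
  set N : Submodule A A' := LinearMap.range (Algebra.linearMap A A') with hN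
  obtain ⟨k, hk⟩ := Ideal.exists_pow_inf_eq_pow_smul I N
  refine ⟨n + k, fun a ha => ?_⟩
  rw [Ideal.mem_comap, ← Ideal.map_pow] at ha
  have h1 : algebraMap A A' a ∈ (I ^ (n + k) • ⊤ : Submodule A A') := by
    rw [Ideal.smul_top_eq_map]
    exact ha
  have h2 : algebraMap A A' a ∈ I ^ (n + k) • ⊤ ⊓ N := ⟨h1, ⟨a, rfl⟩⟩
  rw [hk (n + k) (Nat.le_add_left k n), Nat.add_sub_cancel] at h2
  have h3 : I ^ n • (I ^ k • ⊤ ⊓ N) ≤ I ^ n • N := Submodule.smul_mono le_rfl inf_le_right
  have h4 : I ^ n • N = Submodule.map (Algebra.linearMap A A') (I ^ n) := by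
    rw [hN, LinearMap.range_eq_map, ← Submodule.map_smul'']
    congr 1
    rw [smul_eq_mul, Ideal.mul_top]
  have h5 := h3 h2
  rw [h4] at h5
  obtain ⟨b, hb, hab⟩ := h5
  have : b = a := hinj hab
  rw [← this]
  exact hb

end ArtinRees

section Main

variable {A : Type u} [CommRing A] (M : Type*) [AddCommGroup M] [Module A M]

/-- Descent of flatness along a finite injective ring map `A → A'`, `A` Noetherian, for a module
`M` ideally separated for the `J`-adic topology with `M/JM` flat over `A/J`. -/
theorem flat_of_finite_injective_of_idealSeparated [IsNoetherianRing A] (A' : Type*) [CommRing A']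
    [Algebra A A'] [Module.Finite A A'] (hinj : Injective (algebraMap A A'))
    [Module.Flat A' (A' ⊗[A] M)]
    (J : Ideal A) [Module.Flat (A ⧸ J) ((A ⧸ J) ⊗[A] M)]
    (hsep : ∀ (𝔞 : Ideal A) (x : 𝔞 ⊗[A] M),
      (∀ n : ℕ, x ∈ J ^ n • (⊤ : Submodule A (𝔞 ⊗[A] M))) → x = 0) :
    Module.Flat A M := by
  have hfam : ∀ _ : Unit, Module.Flat A' (A' ⊗[A] M) := fun _ => inferInstance
  refine flat_of_family_topology_induced M (fun _ : Unit => A') J hsep
    (fun _ => J.map (algebraMap A A')) (fun _ => Ideal.le_comap_map) ?_
  intro n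
  obtain ⟨m, hm⟩ := exists_comap_map_pow_le hinj J n
  exact ⟨m, (iInf_le _ ()).trans hm⟩

/-- Descent of flatness along a finite injective ring map `A → A'` for a local homomorphism of
Noetherian local rings `A → B`. -/
theorem flat_of_finite_injective_local (B : Type*) [CommRing B] [IsNoetherianRing A]
    [IsLocalRing A] [IsNoetherianRing B] [IsLocalRing B] [Algebra A B]
    [IsLocalHom (algebraMap A B)] (A' : Type*) [CommRing A'] [Algebra A A'] [Module.Finite A A']
    (hinj : Injective (algebraMap A A')) [Module.Flat A' (A' ⊗[A] B)] : Module.Flat A B := by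
  have hfield : Module.Flat (A ⧸ IsLocalRing.maximalIdeal A)
      ((A ⧸ IsLocalRing.maximalIdeal A) ⊗[A] B) := by
    let _ : Field (A ⧸ IsLocalRing.maximalIdeal A) := Ideal.Quotient.field _
    infer_instance
  refine flat_of_finite_injective_of_idealSeparated B A' hinj (IsLocalRing.maximalIdeal A) ?_
  intro 𝔞 x hx
  refine eq_zero_of_forall_mem_pow_smul_top (S := B) (M := B) (IsLocalRing.maximalIdeal A) ?_ x hx
  rw [IsLocalRing.jacobson_eq_maximalIdeal ⊥ bot_ne_top]
  exact IsLocalRing.map_maximalIdeal_le (algebraMap A B)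

end Main

end Groth.Agent.Lib.FlatFiniteInj88
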