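import Mathlib
import Groth.Agent.Lib.FlatBaseChangeD

/-!
# Complexes of finite free modules given by matrices, and descent along filtered colimits of rings
(helper47; used for S7009)

* `exists_obj_forall`, `exists_hom_forall`, `exists_hom_and` : finitely many eventually true monotone
  properties in a filtered category hold simultaneously.
* `exists_matrix_lift`, `exists_matrix_map_eq` : matrices over a filtered colimit of commutative
  rings come from a stage; equal matrices become equal at a later stage.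
* `fr`, `mm`, `cx r D hD`, `homOf` : the complex of free modules `S^(r n)` with differentials the
  matrices `D n`; chain endomorphisms from matrices.
* `βn`, `β`, `β_nat` : base change of such complexes is given by mapping the matrices.
* `key` / `key'` : if `E` is the image of an idempotent matrix endomorphism of `cx r (D.map φ)`
  coming from an idempotent matrix endomorphism of `cx r D`, then `E ≅ B ⊗ Ej` for a complex `Ej`
  of finite projective modules.
* `exists_matrix_presentation` : a bounded complex of finite projective modules is the image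
  of an idempotent matrix endomorphism of a matrix complex.
-/

set_option autoImplicit false
set_option linter.unusedSectionVars false
set_option linter.style.haveILetI false
set_option backward.isDefEq.respectTransparency.types false
universe u
open CategoryTheory CategoryTheory.Limits

namespace Groth.Agent.Lib.H47MatCx


section filt

variable {J : Type u} [SmallCategory J] [IsFiltered J]

/-- finitely many eventually-true monotone properties of objects hold simultaneously. -/
lemma exists_obj_forall {ι : Type*} [Finite ι] (Q : ι → J → Prop)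
    (mono : ∀ i (j j' : J) (_ : j ⟶ j'), Q i j → Q i j') (h : ∀ i, ∃ j, Q i j) :
    ∃ j, ∀ i, Q i j := by
  classical
  cases nonempty_fintype ι
  suffices H : ∀ s : Finset ι, ∃ j, ∀ i ∈ s, Q i j by
    obtain ⟨j, hj⟩ := H Finset.univ
    exact ⟨j, fun i => hj i (Finset.mem_univ i)⟩
  intro s
  induction s using Finset.induction_on with
  | empty => exact ⟨IsFiltered.nonempty.some, by simp⟩
  | insert a s _ ih =>
    obtain ⟨j, hj⟩ := ih
    obtain ⟨ja, hja⟩ := h a
    refine ⟨IsFiltered.max j ja, fun i hi => ?_⟩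
    rcases Finset.mem_insert.mp hi with rfl | hi
    · exact mono _ _ _ (IsFiltered.rightToMax j ja) hja
    · exact mono _ _ _ (IsFiltered.leftToMax j ja) (hj i hi)

/-- finitely many eventually-true monotone properties of morphisms out of `j` hold simultaneously. -/
lemma exists_hom_forall {ι : Type*} [Finite ι] (j : J) (P : ι → ∀ k : J, (j ⟶ k) → Prop)
    (mono : ∀ i (k k' : J) (f : j ⟶ k) (g : k ⟶ k'), P i k f → P i k' (f ≫ g))
    (h : ∀ i, ∃ (k : J) (f : j ⟶ k), P i k f) :
    ∃ (k : J) (f : j ⟶ k), ∀ i, P i k f := by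
  classical
  cases nonempty_fintype ι
  suffices H : ∀ s : Finset ι, ∃ (k : J) (f : j ⟶ k), ∀ i ∈ s, P i k f by
    obtain ⟨k, f, hj⟩ := H Finset.univ
    exact ⟨k, f, fun i => hj i (Finset.mem_univ i)⟩
  intro s
  induction s using Finset.induction_on with
  | empty => exact ⟨j, 𝟙 j, by simp⟩
  | insert a s _ ih =>
    obtain ⟨k, f, hk⟩ := ih
    obtain ⟨ka, fa, hka⟩ := h a
    obtain ⟨l, g, ga, hl⟩ := IsFiltered.span f fa
    refine ⟨l, f ≫ g, fun i hi => ?_⟩
    rcases Finset.mem_insert.mp hi with rfl | hi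
    · rw [hl]
      exact mono _ _ _ _ _ hka
    · exact mono _ _ _ _ _ (hk i hi)

lemma exists_hom_and (j : J) (P P' : ∀ k : J, (j ⟶ k) → Prop)
    (mono : ∀ (k k' : J) (f : j ⟶ k) (g : k ⟶ k'), P k f → P k' (f ≫ g))
    (mono' : ∀ (k k' : J) (f : j ⟶ k) (g : k ⟶ k'), P' k f → P' k' (f ≫ g))
    (h : ∃ (k : J) (f : j ⟶ k), P k f) (h' : ∃ (k : J) (f : j ⟶ k), P' k f) :
    ∃ (k : J) (f : j ⟶ k), P k f ∧ P' k f := by
  obtain ⟨k, f, hk⟩ := h
  obtain ⟨k', f', hk'⟩ := h'
  obtain ⟨l, g, g', hl⟩ := IsFiltered.span f f'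
  refine ⟨l, f ≫ g, mono _ _ _ _ hk, ?_⟩
  rw [hl]
  exact mono' _ _ _ _ hk'

variable (F : J ⥤ CommRingCat.{u}) (c : Cocone F) (hc : IsColimit c)

lemma map_map_ι {m n : Type*} {j j' : J} (f : j ⟶ j') (A : Matrix m n (F.obj j)) :
    (A.map (F.map f).hom).map (c.ι.app j').hom = A.map (c.ι.app j).hom := by
  ext p q
  simp only [Matrix.map_apply]
  rw [← c.w f]
  rfl

lemma map_map_comp {m n : Type*} {j k k' : J} (f : j ⟶ k) (g : k ⟶ k') (A : Matrix m n (F.obj j)) :
    (A.map (F.map f).hom).map (F.map g).hom = A.map (F.map (f ≫ g)).hom := by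
  ext p q
  simp only [Matrix.map_apply]
  rw [F.map_comp]
  rfl

lemma matrix_eq_of_eq_zero {X : Type*} {m : Type*} {t : ℕ} (ht : t = 0) (A B : Matrix m (Fin t) X) :
    A = B := by
  subst ht
  ext p q
  exact q.elim0

include hc in
lemma exists_matrix_lift {m n : Type*} [Finite m] [Finite n] (A : Matrix m n c.pt) :
    ∃ (j : J) (Aj : Matrix m n (F.obj j)), Aj.map (c.ι.app j).hom = A := by
  have h1 : ∀ pq : m × n, ∃ j : J, ∃ y : F.obj j, (c.ι.app j).hom y = A pq.1 pq.2 := by
    intro pq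
    obtain ⟨j, y, hy⟩ := Concrete.isColimit_exists_rep F hc (A pq.1 pq.2)
    exact ⟨j, y, hy⟩
  obtain ⟨j, hj⟩ := exists_obj_forall (fun (pq : m × n) (j : J) =>
      ∃ y : F.obj j, (c.ι.app j).hom y = A pq.1 pq.2) (by
    rintro pq j j' f ⟨y, hy⟩
    refine ⟨(F.map f).hom y, ?_⟩
    rw [← hy, ← c.w f]
    rfl) h1
  choose y hy using hj
  exact ⟨j, Matrix.of fun p q => y (p, q), by ext p q; exact hy (p, q)⟩

include hc in
lemma exists_matrix_map_eq {m n : Type*} [Finite m] [Finite n] (j : J) (A B : Matrix m n (F.obj j))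
    (h : A.map (c.ι.app j).hom = B.map (c.ι.app j).hom) :
    ∃ (k : J) (f : j ⟶ k), A.map (F.map f).hom = B.map (F.map f).hom := by
  have h1 : ∀ pq : m × n, ∃ (k : J) (f : j ⟶ k),
      (F.map f).hom (A pq.1 pq.2) = (F.map f).hom (B pq.1 pq.2) := by
    intro pq
    have h2 : (c.ι.app j) (A pq.1 pq.2) = (c.ι.app j) (B pq.1 pq.2) :=
      congrFun (congrFun h pq.1) pq.2
    obtain ⟨k, f, g, hfg⟩ := Concrete.isColimit_exists_of_rep_eq F hc _ _ h2
    refine ⟨IsFiltered.coeq f g, f ≫ IsFiltered.coeqHom f g, ?_⟩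
    have h3 : (F.map (f ≫ IsFiltered.coeqHom f g)).hom (B pq.1 pq.2) =
        (F.map (g ≫ IsFiltered.coeqHom f g)).hom (B pq.1 pq.2) := by
      rw [IsFiltered.coeq_condition]
    rw [h3, F.map_comp, F.map_comp]
    exact congrArg (F.map (IsFiltered.coeqHom f g)).hom hfg
  obtain ⟨k, f, hk⟩ := exists_hom_forall j (fun (pq : m × n) (k : J) (f : j ⟶ k) =>
      (F.map f).hom (A pq.1 pq.2) = (F.map f).hom (B pq.1 pq.2)) (by
    intro pq k k' f g hf
    rw [F.map_comp]
    exact congrArg (F.map g).hom hf) h1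
  exact ⟨k, f, by ext p q; exact hk (p, q)⟩


/-- a finite family of (dependently sized) matrix equalities after mapping along `f : j0 ⟶ k`. -/
def EqAt (j0 : J) (s : Finset ℤ) {m n : ℤ → ℕ}
    (A B : ∀ t : ℤ, Matrix (Fin (m t)) (Fin (n t)) (F.obj j0)) (k : J) (f : j0 ⟶ k) : Prop :=
  ∀ t ∈ s, (A t).map (F.map f).hom = (B t).map (F.map f).hom

lemma EqAt.mono {j0 : J} {s : Finset ℤ} {m n : ℤ → ℕ}
    {A B : ∀ t : ℤ, Matrix (Fin (m t)) (Fin (n t)) (F.obj j0)} (k k' : J) (f : j0 ⟶ k)
    (g : k ⟶ k') (h : EqAt F j0 s A B k f) : EqAt F j0 s A B k' (f ≫ g) := by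
  intro t ht
  rw [← map_map_comp, ← map_map_comp, h t ht]

include hc in
lemma exists_eqAt (j0 : J) (s : Finset ℤ) {m n : ℤ → ℕ}
    (A B : ∀ t : ℤ, Matrix (Fin (m t)) (Fin (n t)) (F.obj j0))
    (h : ∀ t, (A t).map (c.ι.app j0).hom = (B t).map (c.ι.app j0).hom) :
    ∃ (k : J) (f : j0 ⟶ k), EqAt F j0 s A B k f := by
  obtain ⟨k, f, hk⟩ := exists_hom_forall j0 (fun (t : ↥s) k f =>
      (A t).map (F.map f).hom = (B t).map (F.map f).hom)
      (fun t k k' f g h => by rw [← map_map_comp, ← map_map_comp, h])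
      (fun t => exists_matrix_map_eq F c hc j0 _ _ (h t))
  exact ⟨k, f, fun t ht => hk ⟨t, ht⟩⟩

end filt



section mat

variable (S : Type u) [CommRing S]

/-- the free module `S^r`. -/
abbrev fr (r : ℕ) : ModuleCat.{u} S := ModuleCat.of S (Fin r → S)

variable {S}

/-- the map of free modules given by a matrix. -/
noncomputable def mm {r r' : ℕ} (M : Matrix (Fin r') (Fin r) S) : fr S r ⟶ fr S r' :=
  ModuleCat.ofHom (Matrix.toLin' M)

lemma mm_mul {r r' r'' : ℕ} (M' : Matrix (Fin r'') (Fin r') S) (M : Matrix (Fin r') (Fin r) S) :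
    mm (M' * M) = mm M ≫ mm M' := by
  ext : 1
  exact Matrix.toLin'_mul M' M

lemma mm_one {r : ℕ} : mm (1 : Matrix (Fin r) (Fin r) S) = 𝟙 _ := by
  ext : 1
  exact Matrix.toLin'_one

lemma mm_zero {r r' : ℕ} : mm (0 : Matrix (Fin r') (Fin r) S) = 0 := by
  ext : 1
  exact map_zero (Matrix.toLin' (R := S) (m := Fin r') (n := Fin r))

lemma mm_toMatrix' {r r' : ℕ} (f : fr S r ⟶ fr S r') : mm (LinearMap.toMatrix' f.hom) = f := by
  ext : 1
  exact Matrix.toLin'_toMatrix' f.hom

lemma mm_injective {r r' : ℕ} {M M' : Matrix (Fin r') (Fin r) S} (h : mm M = mm M') : M = M' :=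
  Matrix.toLin'.injective (congrArg ModuleCat.Hom.hom h)

variable (r : ℤ → ℕ) (D : ∀ n, Matrix (Fin (r (n + 1))) (Fin (r n)) S)
  (hD : ∀ n, D (n + 1) * D n = 0)

/-- the complex of finite free modules given by matrices. -/
noncomputable abbrev cx : CochainComplex (ModuleCat.{u} S) ℤ :=
  CochainComplex.of (fun n => fr S (r n)) (fun n => mm (D n))
    (fun n => by rw [← mm_mul, hD, mm_zero])

lemma cx_d (n : ℤ) : (cx r D hD).d n (n + 1) = mm (D n) := by
  exact CochainComplex.of_d (fun n => fr S (r n)) (fun n => mm (D n)) n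

/-- the chain map given by matrices. -/
noncomputable def homOf (M : ∀ n, Matrix (Fin (r n)) (Fin (r n)) S)
    (hM : ∀ n, D n * M n = M (n + 1) * D n) : cx r D hD ⟶ cx r D hD :=
  CochainComplex.ofHom (fun n => mm (M n))
    (fun n => by rw [cx_d, ← mm_mul, ← mm_mul, hM])

lemma homOf_f (M : ∀ n, Matrix (Fin (r n)) (Fin (r n)) S)
    (hM : ∀ n, D n * M n = M (n + 1) * D n) (n : ℤ) : (homOf r D hD M hM).f n = mm (M n) := rfl

end mat

section bc

variable {S R : Type u} [CommRing S] [CommRing R] [Algebra S R]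

open Groth.Agent.Lib.FlatBaseChangeD

/-- `objEquiv` is natural. -/
lemma objEquiv_map {M N : ModuleCat.{u} S} (g : M ⟶ N) (x : (F S R).obj M) :
    objEquiv (A := S) (B := R) N (((F S R).map g).hom x) =
      (g.hom.baseChange R) (objEquiv (A := S) (B := R) M x) := by
  refine TensorProduct.induction_on (motive := fun x : (F S R).obj M =>
    objEquiv (A := S) (B := R) N (((F S R).map g).hom x) =
      (g.hom.baseChange R) (objEquiv (A := S) (B := R) M x)) x ?_ ?_ ?_
  · change objEquiv (A := S) (B := R) N (((F S R).map g).hom (0 : (F S R).obj M)) =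
      (g.hom.baseChange R) (objEquiv (A := S) (B := R) M (0 : (F S R).obj M))
    rw [map_zero, map_zero, map_zero, map_zero]
  · intro s m
    rfl
  · intro x y hx hy
    let x' : (F S R).obj M := x
    let y' : (F S R).obj M := y
    change objEquiv (A := S) (B := R) N (((F S R).map g).hom (x' + y')) =
      (g.hom.baseChange R) (objEquiv (A := S) (B := R) M (x' + y'))
    rw [map_add, map_add, map_add, map_add]
    exact congrArg₂ (· + ·) hx hy

/-- `R ⊗ S^r ≅ R^r`. -/
noncomputable def βn (r : ℕ) : (F S R).obj (fr S r) ≅ fr R r :=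
  ((objEquiv (A := S) (B := R) (fr S r)).trans
    (Algebra.TensorProduct.basis R (Pi.basisFun S (Fin r))).equivFun).toModuleIso

lemma baseChange_toLin' {r r' : ℕ} (M : Matrix (Fin r') (Fin r) S) :
    (Algebra.TensorProduct.basis R (Pi.basisFun S (Fin r'))).equivFun.toLinearMap ∘ₗ
      (Matrix.toLin' M).baseChange R ∘ₗ
      (Algebra.TensorProduct.basis R (Pi.basisFun S (Fin r))).equivFun.symm.toLinearMap =
      Matrix.toLin' (M.map (algebraMap S R)) := by
  apply LinearMap.toMatrix'.injective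
  have h2 : LinearMap.toMatrix'
      ((Algebra.TensorProduct.basis R (Pi.basisFun S (Fin r'))).equivFun.toLinearMap ∘ₗ
      (Matrix.toLin' M).baseChange R ∘ₗ
      (Algebra.TensorProduct.basis R (Pi.basisFun S (Fin r))).equivFun.symm.toLinearMap) =
      LinearMap.toMatrix (Algebra.TensorProduct.basis R (Pi.basisFun S (Fin r)))
        (Algebra.TensorProduct.basis R (Pi.basisFun S (Fin r'))) ((Matrix.toLin' M).baseChange R) :=
    rfl
  rw [h2, LinearMap.toMatrix_baseChange, ← Matrix.toLin_eq_toLin', LinearMap.toMatrix_toLin,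
    LinearMap.toMatrix'_toLin']

lemma βn_nat {r r' : ℕ} (M : Matrix (Fin r') (Fin r) S) :
    (F S R).map (mm M) ≫ (βn (S := S) (R := R) r').hom =
      (βn (S := S) (R := R) r).hom ≫ mm (M.map (algebraMap S R)) := by
  refine ModuleCat.hom_ext (LinearMap.ext fun x => ?_)
  have h1 := LinearMap.congr_fun (baseChange_toLin' (R := R) M)
    ((Algebra.TensorProduct.basis R (Pi.basisFun S (Fin r))).equivFun
      (objEquiv (A := S) (B := R) (fr S r) x))
  simp only [LinearMap.comp_apply, LinearEquiv.coe_coe, LinearEquiv.symm_apply_apply] at h1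
  change (Algebra.TensorProduct.basis R (Pi.basisFun S (Fin r'))).equivFun
    (objEquiv (A := S) (B := R) (fr S r') (((F S R).map (mm M)).hom x)) = _
  rw [objEquiv_map]
  exact h1

variable (r : ℤ → ℕ) (D : ∀ n, Matrix (Fin (r (n + 1))) (Fin (r n)) S)
  (hD : ∀ n, D (n + 1) * D n = 0)

variable (R) in
include hD in
lemma hD_map (n : ℤ) : (D (n + 1)).map (algebraMap S R) * (D n).map (algebraMap S R) = 0 := by
  rw [← Matrix.map_mul, hD, Matrix.map_zero _ (map_zero _)]

variable (R) in
lemma hM_map (M : ∀ n, Matrix (Fin (r n)) (Fin (r n)) S)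
    (hM : ∀ n, D n * M n = M (n + 1) * D n) (n : ℤ) :
    (D n).map (algebraMap S R) * (M n).map (algebraMap S R) =
      (M (n + 1)).map (algebraMap S R) * (D n).map (algebraMap S R) := by
  rw [← Matrix.map_mul, hM, Matrix.map_mul]

variable (R) in
/-- base change of a matrix complex. -/
noncomputable def β : ((F S R).mapHomologicalComplex (ComplexShape.up ℤ)).obj (cx r D hD) ≅
    cx r (fun n => (D n).map (algebraMap S R)) (hD_map R r D hD) :=
  HomologicalComplex.Hom.isoOfComponents (fun n => βn (S := S) (R := R) (r n)) (by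
    rintro n _ rfl
    rw [cx_d]
    change _ = (F S R).map ((cx r D hD).d n (n + 1)) ≫ _
    rw [cx_d, βn_nat]
    rfl)

lemma β_hom_f (n : ℤ) : (β R r D hD).hom.f n = (βn (S := S) (R := R) (r n)).hom := rfl

lemma β_nat (M : ∀ n, Matrix (Fin (r n)) (Fin (r n)) S)
    (hM : ∀ n, D n * M n = M (n + 1) * D n) :
    ((F S R).mapHomologicalComplex (ComplexShape.up ℤ)).map (homOf r D hD M hM) ≫
      (β R r D hD).hom = (β R r D hD).hom ≫
      homOf r (fun n => (D n).map (algebraMap S R)) (hD_map R r D hD)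
        (fun n => (M n).map (algebraMap S R)) (hM_map R r D M hM) := by
  ext n : 1
  rw [HomologicalComplex.comp_f, HomologicalComplex.comp_f, β_hom_f, homOf_f]
  change (F S R).map ((homOf r D hD M hM).f n) ≫ _ = _
  rw [homOf_f, βn_nat]
  rfl

lemma key (Mj : ∀ n, Matrix (Fin (r n)) (Fin (r n)) S)
    (hMj : ∀ n, D n * Mj n = Mj (n + 1) * D n) (hidem : ∀ n, Mj n * Mj n = Mj n)
    (E : CochainComplex (ModuleCat.{u} R) ℤ)
    (i : E ⟶ cx r (fun n => (D n).map (algebraMap S R)) (hD_map R r D hD))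
    (p : cx r (fun n => (D n).map (algebraMap S R)) (hD_map R r D hD) ⟶ E)
    (hip : i ≫ p = 𝟙 E)
    (hpi : p ≫ i = homOf r _ (hD_map R r D hD) (fun n => (Mj n).map (algebraMap S R))
      (hM_map R r D Mj hMj)) :
    ∃ Ej : CochainComplex (ModuleCat.{u} S) ℤ,
      (∀ n, Module.Finite S (Ej.X n) ∧ Module.Projective S (Ej.X n)) ∧
      (∀ n, r n = 0 → IsZero (Ej.X n)) ∧
      Nonempty (((F S R).mapHomologicalComplex (ComplexShape.up ℤ)).obj Ej ≅ E) := by
  let eS := homOf r D hD Mj hMj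
  have heS : eS ≫ eS = eS := by
    ext n : 1
    rw [HomologicalComplex.comp_f, homOf_f, ← mm_mul, hidem]
  obtain ⟨Ej, ij, pj, h1, h2⟩ := IsIdempotentComplete.idempotents_split _ eS heS
  have hsplit : ∀ n, ij.f n ≫ pj.f n = 𝟙 _ := fun n => by
    rw [← HomologicalComplex.comp_f, h1, HomologicalComplex.id_f]
  refine ⟨Ej, fun n => ⟨?_, ?_⟩, fun n hn => ?_, ⟨?_⟩⟩
  · refine Module.Finite.of_surjective (M := Fin (r n) → S) (pj.f n).hom (fun x => ⟨(ij.f n).hom x, ?_⟩)
    exact congrArg (fun f => f.hom x) (hsplit n)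
  · refine Module.Projective.of_split (M := Fin (r n) → S) (ij.f n).hom (pj.f n).hom ?_
    ext x
    exact congrArg (fun f => f.hom x) (hsplit n)
  · have : Mono (ij.f n) := mono_of_mono_fac (hsplit n)
    refine IsZero.of_mono (ij.f n) ?_
    have : Subsingleton (Fin (r n) → S) := by
      rw [hn]
      infer_instance
    exact ModuleCat.isZero_of_subsingleton (fr S (r n))
  · let Gc := (F S R).mapHomologicalComplex (ComplexShape.up ℤ)
    have hG1 : Gc.map ij ≫ Gc.map pj = 𝟙 _ := by
      rw [← Functor.map_comp, h1, CategoryTheory.Functor.map_id]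
    have hG2 : Gc.map pj ≫ Gc.map ij = Gc.map eS := by
      rw [← Functor.map_comp, h2]
    have hβ := β_nat (R := R) r D hD Mj hMj
    rw [← hpi] at hβ
    refine ⟨Gc.map ij ≫ (β R r D hD).hom ≫ p, i ≫ (β R r D hD).inv ≫ Gc.map pj, ?_, ?_⟩
    · calc (Gc.map ij ≫ (β R r D hD).hom ≫ p) ≫ i ≫ (β R r D hD).inv ≫ Gc.map pj
          = Gc.map ij ≫ ((β R r D hD).hom ≫ p ≫ i) ≫ (β R r D hD).inv ≫ Gc.map pj := by
            simp only [Category.assoc]
        _ = Gc.map ij ≫ (Gc.map eS ≫ (β R r D hD).hom) ≫ (β R r D hD).inv ≫ Gc.map pj := by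
            rw [hβ]
        _ = (Gc.map ij ≫ Gc.map pj) ≫ (Gc.map ij ≫ Gc.map pj) := by
            rw [← hG2]
            simp only [Category.assoc, Iso.hom_inv_id_assoc]
        _ = 𝟙 _ := by rw [hG1, Category.comp_id]
    · calc (i ≫ (β R r D hD).inv ≫ Gc.map pj) ≫ Gc.map ij ≫ (β R r D hD).hom ≫ p
          = i ≫ (β R r D hD).inv ≫ ((Gc.map pj ≫ Gc.map ij) ≫ (β R r D hD).hom) ≫ p := by
            simp only [Category.assoc]
        _ = i ≫ (β R r D hD).inv ≫ ((β R r D hD).hom ≫ p ≫ i) ≫ p := by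
            rw [hG2, hβ]
        _ = (i ≫ p) ≫ (i ≫ p) := by
            simp only [Category.assoc, Iso.inv_hom_id_assoc]
        _ = 𝟙 _ := by rw [hip, Category.comp_id]

end bc

section bc'

variable {S R : Type u} [CommRing S] [CommRing R] (φ : S →+* R)

/-- version of `key` for a bare ring homomorphism. -/
lemma key' (r : ℤ → ℕ) (D : ∀ n, Matrix (Fin (r (n + 1))) (Fin (r n)) S)
    (hD : ∀ n, D (n + 1) * D n = 0) (Mj : ∀ n, Matrix (Fin (r n)) (Fin (r n)) S)
    (hMj : ∀ n, D n * Mj n = Mj (n + 1) * D n) (hidem : ∀ n, Mj n * Mj n = Mj n)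
    (hD' : ∀ n, (D (n + 1)).map φ * (D n).map φ = 0)
    (hM' : ∀ n, (D n).map φ * (Mj n).map φ = (Mj (n + 1)).map φ * (D n).map φ)
    (E : CochainComplex (ModuleCat.{u} R) ℤ)
    (i : E ⟶ cx r (fun n => (D n).map φ) hD')
    (p : cx r (fun n => (D n).map φ) hD' ⟶ E)
    (hip : i ≫ p = 𝟙 E)
    (hpi : p ≫ i = homOf r _ hD' (fun n => (Mj n).map φ) hM') :
    ∃ Ej : CochainComplex (ModuleCat.{u} S) ℤ,
      (∀ n, Module.Finite S (Ej.X n) ∧ Module.Projective S (Ej.X n)) ∧
      (∀ n, r n = 0 → IsZero (Ej.X n)) ∧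
      Nonempty (((ModuleCat.extendScalars φ).mapHomologicalComplex (ComplexShape.up ℤ)).obj Ej ≅
        E) := by
  letI := φ.toAlgebra
  exact key r D hD Mj hMj hidem E i p hip hpi

end bc'

section stepA

variable {R : Type u} [CommRing R]

lemma exists_matrix_presentation (E : CochainComplex (ModuleCat.{u} R) ℤ) (a b : ℤ)
    (hv : DRing.VanishesOutside E a b) (hf : DRing.TermwiseFiniteProjective E) :
    ∃ (r : ℤ → ℕ) (D : ∀ n, Matrix (Fin (r (n + 1))) (Fin (r n)) R)
      (hD : ∀ n, D (n + 1) * D n = 0)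
      (M : ∀ n, Matrix (Fin (r n)) (Fin (r n)) R) (hM : ∀ n, D n * M n = M (n + 1) * D n)
      (i : E ⟶ cx r D hD) (p : cx r D hD ⟶ E),
      (∀ n, n < a ∨ b < n → r n = 0) ∧ (∀ n, M n * M n = M n) ∧ i ≫ p = 𝟙 E ∧
        p ≫ i = homOf r D hD M hM := by
  have h0 : ∀ n, ∃ (rn : ℕ) (i0 : E.X n ⟶ fr R rn) (p0 : fr R rn ⟶ E.X n),
      i0 ≫ p0 = 𝟙 _ ∧ ((n < a ∨ b < n) → rn = 0) := by
    intro n
    by_cases hn : n < a ∨ b < n
    · exact ⟨0, 0, 0, (hv n hn).eq_of_src _ _, fun _ => rfl⟩
    · have := (hf n).1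
      have := (hf n).2
      obtain ⟨rn, s, hs⟩ := Module.Finite.exists_fin' R (E.X n)
      obtain ⟨i, hi⟩ := Module.projective_lifting_property s LinearMap.id hs
      exact ⟨rn, ModuleCat.ofHom i, ModuleCat.ofHom s, by
        ext x
        exact LinearMap.congr_fun hi x, fun h => absurd h hn⟩
  choose r i0 p0 hip0 hr using h0
  let D : ∀ n, Matrix (Fin (r (n + 1))) (Fin (r n)) R := fun n =>
    LinearMap.toMatrix' (p0 n ≫ E.d n (n + 1) ≫ i0 (n + 1)).hom
  let M : ∀ n, Matrix (Fin (r n)) (Fin (r n)) R := fun n =>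
    LinearMap.toMatrix' (p0 n ≫ i0 n).hom
  have hmD : ∀ n, mm (D n) = p0 n ≫ E.d n (n + 1) ≫ i0 (n + 1) := fun n => mm_toMatrix' _
  have hmM : ∀ n, mm (M n) = p0 n ≫ i0 n := fun n => mm_toMatrix' _
  have hD : ∀ n, D (n + 1) * D n = 0 := by
    intro n
    apply mm_injective
    rw [mm_mul, hmD, hmD, mm_zero]
    simp only [Category.assoc, reassoc_of% (hip0 (n + 1)), HomologicalComplex.d_comp_d_assoc,
      zero_comp, comp_zero]
  have hM : ∀ n, D n * M n = M (n + 1) * D n := by
    intro n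
    apply mm_injective
    rw [mm_mul, mm_mul, hmD, hmM, hmM]
    simp only [Category.assoc, reassoc_of% (hip0 n), reassoc_of% (hip0 (n + 1))]
  have hidem : ∀ n, M n * M n = M n := by
    intro n
    apply mm_injective
    rw [mm_mul, hmM]
    simp only [Category.assoc, reassoc_of% (hip0 n)]
  let i : E ⟶ cx r D hD :=
    { f := i0
      comm' := by
        rintro n _ rfl
        rw [cx_d, hmD, reassoc_of% (hip0 n)] }
  let p : cx r D hD ⟶ E :=
    { f := p0
      comm' := by
        rintro n _ rfl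
        rw [cx_d, hmD]
        simp only [Category.assoc, hip0 (n + 1), Category.comp_id] }
  refine ⟨r, D, hD, M, hM, i, p, hr, hidem, ?_, ?_⟩
  · ext n : 1
    exact hip0 n
  · ext n : 1
    rw [homOf_f, hmM]
    rfl

end stepA

end Groth.Agent.Lib.H47MatCx
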