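import Groth.Agent.Lib.H29LocD
import Groth.Agent.Lib.FlatBaseChangeD
import Groth.Agent.Lib.ProjCorep11
import Groth.Agent.Lib.DThick
import Groth.Agent.Lib.DerivedHomologyLinear
import Groth.Agent.Lib.H47MatCx
import Mathlib.Algebra.FiveLemma
import Mathlib.RingTheory.Flat.Basic

/-!
# Flat base change for `Hom` in the derived category (helper25)

`A → B` flat, `GD : D(A) ⥤ D(B)` the induced functor.  The natural `B`-linear map
`β K T : B ⊗_A Hom_{D(A)}(K, T) → Hom_{D(B)}(GD K, GD T)`, `b ⊗ f ↦ b • GD f`,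
is bijective for `K` perfect (any `T`), and for `K` pseudo-coherent and `T` bounded below.
-/

set_option autoImplicit false
set_option linter.unusedSectionVars false
set_option linter.style.haveILetI false
universe u

open CategoryTheory Category Limits Pretriangulated DerivedCategory TensorProduct ChangeOfRings

attribute [local instance] HasDerivedCategory.standard

namespace Groth.Agent.Lib.FlatHomBC25

open Groth.Agent.Lib.FlatBaseChangeD (F FD)
open Groth.Agent.Lib.H29LocD (SemiLin GD_map_smul)

variable {A B : Type u} [CommRing A] [CommRing B] [Algebra A B]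

lemma semiLin_F : SemiLin (F A B) := by
  intro a M N f
  apply ModuleCat.ExtendScalars.hom_ext
  intro m
  let x : (F A B).obj N := (1 : B) ⊗ₜ[A, algebraMap A B] f.hom m
  let y : (F A B).obj N := (1 : B) ⊗ₜ[A, algebraMap A B] (a • f.hom m)
  change y = algebraMap A B a • x
  have h1 : algebraMap A B a • x = (algebraMap A B a * 1) ⊗ₜ[A, algebraMap A B] f.hom m :=
    ModuleCat.ExtendScalars.smul_tmul _ _ _ _
  rw [h1, mul_one]
  letI : Module A B := Module.compHom B (algebraMap A B)
  have := TensorProduct.smul_tmul (R := A) (R' := A) (M := B) (N := N) a (1 : B) (f.hom m)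
  refine Eq.trans this.symm ?_
  congr 1
  change algebraMap A B a * 1 = algebraMap A B a
  rw [mul_one]

variable [Module.Flat A B]

section Beta

variable (K T : Dual.D A)

/-- the comparison map `B ⊗ Hom(K, T) → Hom(GD K, GD T)` -/
noncomputable def β : B ⊗[A] (K ⟶ T) →ₗ[B] ((FD A B).obj K ⟶ (FD A B).obj T) :=
  letI : Module A ((FD A B).obj K ⟶ (FD A B).obj T) := Module.compHom _ (algebraMap A B)
  haveI : IsScalarTower A B ((FD A B).obj K ⟶ (FD A B).obj T) :=
    IsScalarTower.of_algebraMap_smul (fun _ _ => rfl)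
  LinearMap.liftBaseChange B
    { toFun := fun f => (FD A B).map f
      map_add' := fun _ _ => (FD A B).map_add
      map_smul' := fun a f => GD_map_smul semiLin_F a f }

lemma β_tmul (b : B) (f : K ⟶ T) : β (B := B) K T (b ⊗ₜ[A] f) = b • (FD A B).map f := by
  unfold β
  letI : Module A ((FD A B).obj K ⟶ (FD A B).obj T) := Module.compHom _ (algebraMap A B)
  haveI : IsScalarTower A B ((FD A B).obj K ⟶ (FD A B).obj T) :=
    IsScalarTower.of_algebraMap_smul (fun _ _ => rfl)
  exact LinearMap.liftBaseChange_tmul _ _ _ _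

end Beta

section Nat

lemma bijective_baseChange_of_inverse {M N : Type*} [AddCommGroup M] [Module A M] [AddCommGroup N]
    [Module A N] (f : M →ₗ[A] N) (g : N →ₗ[A] M) (h1 : g ∘ₗ f = LinearMap.id)
    (h2 : f ∘ₗ g = LinearMap.id) : Function.Bijective (f.baseChange B) := by
  rw [Function.bijective_iff_has_inverse]
  refine ⟨g.baseChange B, fun x => ?_, fun y => ?_⟩
  · rw [← LinearMap.comp_apply, ← LinearMap.baseChange_comp, h1, LinearMap.baseChange_id,
      LinearMap.id_apply]
  · rw [← LinearMap.comp_apply, ← LinearMap.baseChange_comp, h2, LinearMap.baseChange_id,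
      LinearMap.id_apply]

lemma bijective_baseChange_of_bijective {M N : Type*} [AddCommGroup M] [Module A M]
    [AddCommGroup N] [Module A N] (f : M →ₗ[A] N) (hf : Function.Bijective f) :
    Function.Bijective (f.baseChange B) := by
  let e := LinearEquiv.ofBijective f hf
  refine bijective_baseChange_of_inverse (B := B) f e.symm.toLinearMap ?_ ?_
  · ext x
    exact e.symm_apply_apply x
  · ext y
    exact e.apply_symm_apply y

lemma bijective_iff_of_square {X Y X' Y' : Type*} (f : X → Y) (f' : X' → Y') (p : X → X')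
    (q : Y → Y') (hp : Function.Bijective p) (hq : Function.Bijective q)
    (h : ∀ x, q (f x) = f' (p x)) : Function.Bijective f ↔ Function.Bijective f' := by
  have h' : q ∘ f = f' ∘ p := funext h
  constructor
  · intro hf
    have h1 : Function.Bijective (f' ∘ p) := h' ▸ hq.comp hf
    exact (Function.Bijective.of_comp_iff f' hp).1 h1
  · intro hf'
    have h1 : Function.Bijective (q ∘ f) := h'.symm ▸ hf'.comp hp
    exact (Function.Bijective.of_comp_iff' hq f).1 h1

lemma β_comp_left {K K' : Dual.D A} (u : K' ⟶ K) (T : Dual.D A) (t : B ⊗[A] (K ⟶ T)) :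
    β K' T ((Linear.leftComp A T u).baseChange B t) = (FD A B).map u ≫ β K T t := by
  induction t using TensorProduct.induction_on with
  | zero => simp
  | tmul b f =>
    rw [LinearMap.baseChange_tmul, β_tmul, β_tmul, Linear.leftComp_apply,
      CategoryTheory.Functor.map_comp, Linear.comp_smul]
  | add x y hx hy => rw [map_add, map_add, map_add, hx, hy, Preadditive.comp_add]

lemma β_comp_right {T T' : Dual.D A} (v : T ⟶ T') (K : Dual.D A) (t : B ⊗[A] (K ⟶ T)) :
    β K T' ((Linear.rightComp A K v).baseChange B t) = β K T t ≫ (FD A B).map v := by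
  induction t using TensorProduct.induction_on with
  | zero => simp
  | tmul b f =>
    rw [LinearMap.baseChange_tmul, β_tmul, β_tmul, Linear.rightComp_apply,
      CategoryTheory.Functor.map_comp, Linear.smul_comp]
  | add x y hx hy => rw [map_add, map_add, map_add, hx, hy, Preadditive.add_comp]

lemma bijective_β_iff_of_iso_left {K K' : Dual.D A} (e : K' ≅ K) (T : Dual.D A) :
    Function.Bijective (β (B := B) K T) ↔ Function.Bijective (β (B := B) K' T) := by
  refine bijective_iff_of_square _ _ ((Linear.leftComp A T e.hom).baseChange B)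
    (fun g => (FD A B).map e.hom ≫ g) ?_ ?_ (fun t => (β_comp_left e.hom T t).symm)
  · refine bijective_baseChange_of_inverse _ (Linear.leftComp A T e.inv) ?_ ?_
    · ext f
      simp
    · ext f
      simp
  · rw [Function.bijective_iff_has_inverse]
    refine ⟨fun g => (FD A B).map e.inv ≫ g, fun g => ?_, fun g => ?_⟩
    · change (FD A B).map e.inv ≫ (FD A B).map e.hom ≫ g = g
      rw [← assoc, ← CategoryTheory.Functor.map_comp, e.inv_hom_id, CategoryTheory.Functor.map_id,
        id_comp]
    · change (FD A B).map e.hom ≫ (FD A B).map e.inv ≫ g = g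
      rw [← assoc, ← CategoryTheory.Functor.map_comp, e.hom_inv_id, CategoryTheory.Functor.map_id,
        id_comp]

lemma bijective_β_iff_of_iso_right {T T' : Dual.D A} (e : T ≅ T') (K : Dual.D A) :
    Function.Bijective (β (B := B) K T) ↔ Function.Bijective (β (B := B) K T') := by
  refine bijective_iff_of_square _ _ ((Linear.rightComp A K e.hom).baseChange B)
    (fun g => g ≫ (FD A B).map e.hom) ?_ ?_ (fun t => (β_comp_right e.hom K t).symm)
  · refine bijective_baseChange_of_inverse _ (Linear.rightComp A K e.inv) ?_ ?_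
    · ext f
      simp
    · ext f
      simp
  · rw [Function.bijective_iff_has_inverse]
    refine ⟨fun g => g ≫ (FD A B).map e.inv, fun g => ?_, fun g => ?_⟩
    · change (g ≫ (FD A B).map e.hom) ≫ (FD A B).map e.inv = g
      rw [assoc, ← CategoryTheory.Functor.map_comp, e.hom_inv_id, CategoryTheory.Functor.map_id,
        comp_id]
    · change (g ≫ (FD A B).map e.inv) ≫ (FD A B).map e.hom = g
      rw [assoc, ← CategoryTheory.Functor.map_comp, e.inv_hom_id, CategoryTheory.Functor.map_id,
        comp_id]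

/-- compatibility with shifts -/
lemma bijective_β_shift_iff (K T : Dual.D A) (n : ℤ) :
    Function.Bijective (β (B := B) K T) ↔ Function.Bijective (β (B := B) (K⟦n⟧) (T⟦n⟧)) := by
  let cK := ((FD A B).commShiftIso n).app K
  let cT := ((FD A B).commShiftIso n).app T
  refine bijective_iff_of_square _ _
    (((shiftFunctor (Dual.D A) n).mapLinearMap A (X := K) (Y := T)).baseChange B)
    (fun g => cK.hom ≫ g⟦n⟧' ≫ cT.inv) ?_ ?_ ?_
  · apply bijective_baseChange_of_bijective
    exact ⟨(shiftFunctor (Dual.D A) n).map_injective, (shiftFunctor (Dual.D A) n).map_surjective⟩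
  · rw [Function.bijective_iff_has_inverse]
    refine ⟨fun g => (shiftFunctor (Dual.D B) n).preimage (cK.inv ≫ g ≫ cT.hom), fun g => ?_,
      fun g => ?_⟩
    · apply (shiftFunctor (Dual.D B) n).map_injective
      rw [Functor.map_preimage]
      simp
    · change cK.hom ≫ (shiftFunctor (Dual.D B) n).map
        ((shiftFunctor (Dual.D B) n).preimage (cK.inv ≫ g ≫ cT.hom)) ≫ cT.inv = g
      rw [Functor.map_preimage]
      simp
  · intro t
    induction t using TensorProduct.induction_on with
    | zero => simp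
    | tmul b f =>
      rw [LinearMap.baseChange_tmul, β_tmul, β_tmul]
      change cK.hom ≫ (shiftFunctor (Dual.D B) n).map (b • (FD A B).map f) ≫ cT.inv = _
      rw [Functor.map_smul, Linear.smul_comp, Linear.comp_smul]
      congr 1
      have := ((FD A B).commShiftIso n).hom.naturality f
      change (FD A B).map (f⟦n⟧') ≫ cT.hom = cK.hom ≫ ((FD A B).map f)⟦n⟧' at this
      rw [← assoc, ← this, assoc, Iso.hom_inv_id, comp_id]
      rfl
    | add x y hx hy =>
      rw [map_add, map_add, map_add, ← hx, ← hy]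
      simp

end Nat

section Five

variable (T : Dual.D A)

lemma exact_leftComp (Tr : Triangle (Dual.D A)) (hTr : Tr ∈ distTriang (Dual.D A)) :
    Function.Exact (Linear.leftComp A T Tr.mor₂) (Linear.leftComp A T Tr.mor₁) := by
  intro f
  constructor
  · intro hf
    obtain ⟨g, hg⟩ := Triangle.yoneda_exact₂ Tr hTr f hf
    exact ⟨g, hg.symm⟩
  · rintro ⟨g, rfl⟩
    change Tr.mor₁ ≫ Tr.mor₂ ≫ g = 0
    rw [← assoc, comp_distTriang_mor_zero₁₂ _ hTr, zero_comp]

lemma exact_M (Tr : Triangle (Dual.D A)) (hTr : Tr ∈ distTriang (Dual.D A)) :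
    Function.Exact ((Linear.leftComp A T Tr.mor₂).baseChange B)
      ((Linear.leftComp A T Tr.mor₁).baseChange B) := by
  have := Module.Flat.lTensor_exact B (exact_leftComp T Tr hTr)
  rw [LinearMap.baseChange_eq_ltensor, LinearMap.baseChange_eq_ltensor]
  exact this

lemma exact_N (Tr : Triangle (Dual.D A)) (hTr : Tr ∈ distTriang (Dual.D A)) :
    Function.Exact (Linear.leftComp B ((FD A B).obj T) ((FD A B).map Tr.mor₂))
      (Linear.leftComp B ((FD A B).obj T) ((FD A B).map Tr.mor₁)) := by
  have hd := (FD A B).map_distinguished Tr hTr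
  intro f
  constructor
  · intro hf
    obtain ⟨g, hg⟩ := Triangle.yoneda_exact₂ _ hd f hf
    exact ⟨g, hg.symm⟩
  · rintro ⟨g, rfl⟩
    change (FD A B).map Tr.mor₁ ≫ (FD A B).map Tr.mor₂ ≫ g = 0
    rw [← assoc, ← CategoryTheory.Functor.map_comp, comp_distTriang_mor_zero₁₂ _ hTr,
      CategoryTheory.Functor.map_zero, zero_comp]

/-- the five lemma -/
theorem bijective_mid (Tr : Triangle (Dual.D A)) (hTr : Tr ∈ distTriang (Dual.D A))
    (h0 : Function.Surjective (β (B := B) Tr.rotate.obj₃ T))
    (h3 : Function.Bijective (β (B := B) Tr.obj₃ T))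
    (h1 : Function.Bijective (β (B := B) Tr.obj₁ T))
    (h4 : Function.Injective (β (B := B) Tr.invRotate.obj₁ T)) :
    Function.Bijective (β (B := B) Tr.obj₂ T) := by
  have hr := rot_of_distTriang _ hTr
  have hi := inv_rot_of_distTriang _ hTr
  refine LinearMap.bijective_of_surjective_of_bijective_of_bijective_of_injective
    ((Linear.leftComp A T Tr.rotate.mor₂).baseChange B)
    ((Linear.leftComp A T Tr.mor₂).baseChange B)
    ((Linear.leftComp A T Tr.mor₁).baseChange B)
    ((Linear.leftComp A T Tr.invRotate.mor₁).baseChange B)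
    (Linear.leftComp B ((FD A B).obj T) ((FD A B).map Tr.rotate.mor₂))
    (Linear.leftComp B ((FD A B).obj T) ((FD A B).map Tr.mor₂))
    (Linear.leftComp B ((FD A B).obj T) ((FD A B).map Tr.mor₁))
    (Linear.leftComp B ((FD A B).obj T) ((FD A B).map Tr.invRotate.mor₁))
    (β (B := B) Tr.rotate.obj₃ T) (β (B := B) Tr.obj₃ T) (β (B := B) Tr.obj₂ T)
    (β (B := B) Tr.obj₁ T) (β (B := B) Tr.invRotate.obj₁ T)
    ?_ ?_ ?_ ?_ ?_ ?_ ?_ ?_ ?_ ?_ h0 h3 h1 h4
  · ext t : 1
    exact (β_comp_left Tr.rotate.mor₂ T t).symm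
  · ext t : 1
    exact (β_comp_left Tr.mor₂ T t).symm
  · ext t : 1
    exact (β_comp_left Tr.mor₁ T t).symm
  · ext t : 1
    exact (β_comp_left Tr.invRotate.mor₁ T t).symm
  · exact exact_M T Tr.rotate hr
  · exact exact_M T Tr hTr
  · exact exact_M T Tr.invRotate hi
  · exact exact_N T Tr.rotate hr
  · exact exact_N T Tr hTr
  · exact exact_N T Tr.invRotate hi

variable (B) in
/-- all shifts of `K` have `β` bijective -/
def Good (K : Dual.D A) : Prop :=
  ∀ (n : ℤ) (K' : Dual.D A), Nonempty (K' ≅ K⟦n⟧) → Function.Bijective (β (B := B) K' T)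

variable {T}

lemma Good.bijective {K : Dual.D A} (h : Good B T K) : Function.Bijective (β (B := B) K T) :=
  h 0 K ⟨(shiftFunctorZero (Dual.D A) ℤ).symm.app K⟩

lemma good_of_forall_shift {K : Dual.D A}
    (h : ∀ n : ℤ, Function.Bijective (β (B := B) (K⟦n⟧) T)) : Good B T K := by
  rintro n K' ⟨e⟩
  exact (bijective_β_iff_of_iso_left e T).1 (h n)

lemma Good.of_iso_shift {K K₀ : Dual.D A} (m : ℤ) (e : K ≅ K₀⟦m⟧) (h : Good B T K₀) :
    Good B T K := by
  rintro n K' ⟨e'⟩
  exact h (m + n) K' ⟨e' ≪≫ (shiftFunctor (Dual.D A) n).mapIso e ≪≫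
    (shiftFunctorAdd (Dual.D A) m n).symm.app K₀⟩

lemma Good.of_iso {K K₀ : Dual.D A} (e : K ≅ K₀) (h : Good B T K₀) : Good B T K :=
  h.of_iso_shift 0 (e ≪≫ (shiftFunctorZero (Dual.D A) ℤ).symm.app K₀)

lemma Good.shift {K : Dual.D A} (h : Good B T K) (m : ℤ) : Good B T (K⟦m⟧) :=
  h.of_iso_shift m (Iso.refl _)

lemma bijective_β_of_retract {K K₀ : Dual.D A} (i : K ⟶ K₀) (r : K₀ ⟶ K) (hir : i ≫ r = 𝟙 K)
    (h : Function.Bijective (β (B := B) K₀ T)) : Function.Bijective (β (B := B) K T) := by
  have hM : ∀ t : B ⊗[A] (K ⟶ T), (Linear.leftComp A T i).baseChange B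
      ((Linear.leftComp A T r).baseChange B t) = t := by
    intro t
    rw [← LinearMap.comp_apply, ← LinearMap.baseChange_comp]
    have : Linear.leftComp A T i ∘ₗ Linear.leftComp A T r = LinearMap.id := by
      ext f
      change i ≫ r ≫ f = f
      rw [← assoc, hir, id_comp]
    rw [this, LinearMap.baseChange_id, LinearMap.id_apply]
  constructor
  · rw [injective_iff_map_eq_zero]
    intro t ht
    have h1 : β (B := B) K₀ T ((Linear.leftComp A T r).baseChange B t) = 0 := by
      rw [β_comp_left, ht, comp_zero]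
    have h2 := (injective_iff_map_eq_zero _).1 h.1 _ h1
    rw [← hM t, h2, map_zero]
  · intro g
    obtain ⟨t₀, ht₀⟩ := h.2 ((FD A B).map r ≫ g)
    refine ⟨(Linear.leftComp A T i).baseChange B t₀, ?_⟩
    rw [β_comp_left, ht₀, ← assoc, ← CategoryTheory.Functor.map_comp, hir,
      CategoryTheory.Functor.map_id, id_comp]

lemma Good.of_retract {K K₀ : Dual.D A} (i : K ⟶ K₀) (r : K₀ ⟶ K) (hir : i ≫ r = 𝟙 K)
    (h : Good B T K₀) : Good B T K := by
  rintro n K' ⟨e⟩
  refine bijective_β_of_retract (e.hom ≫ i⟦n⟧') (r⟦n⟧' ≫ e.inv) ?_ (h n _ ⟨Iso.refl _⟩)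
  rw [assoc, ← assoc (i⟦n⟧'), ← CategoryTheory.Functor.map_comp, hir,
    CategoryTheory.Functor.map_id, id_comp, e.hom_inv_id]

lemma Good.of_biprod {X Y : Dual.D A} [HasBinaryBiproduct X Y] (h : Good B T (X ⊞ Y)) :
    Good B T X :=
  h.of_retract biprod.inl biprod.fst biprod.inl_fst

theorem Good.mid (Tr : Triangle (Dual.D A)) (hTr : Tr ∈ distTriang (Dual.D A))
    (h1 : Good B T Tr.obj₁) (h3 : Good B T Tr.obj₃) : Good B T Tr.obj₂ := by
  apply good_of_forall_shift
  intro n
  have hTn := Triangle.shift_distinguished Tr hTr n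
  have a0 : Function.Surjective (β (B := B)
      ((Triangle.shiftFunctor (Dual.D A) n).obj Tr).rotate.obj₃ T) :=
    (h1 (n + 1) _ ⟨(shiftFunctorAdd (Dual.D A) n 1).symm.app Tr.obj₁⟩).2
  have a3 : Function.Bijective (β (B := B) ((Triangle.shiftFunctor (Dual.D A) n).obj Tr).obj₃ T) :=
    h3 n _ ⟨Iso.refl _⟩
  have a1 : Function.Bijective (β (B := B) ((Triangle.shiftFunctor (Dual.D A) n).obj Tr).obj₁ T) :=
    h1 n _ ⟨Iso.refl _⟩
  have a4 : Function.Injective (β (B := B)
      ((Triangle.shiftFunctor (Dual.D A) n).obj Tr).invRotate.obj₁ T) :=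
    (h3 (n + (-1)) _ ⟨(shiftFunctorAdd (Dual.D A) n (-1)).symm.app Tr.obj₃⟩).1
  exact bijective_mid T ((Triangle.shiftFunctor (Dual.D A) n).obj Tr) hTn a0 a3 a1 a4

end Five

section Base

open Groth.Agent.Lib.ProjCorep11 Groth.Agent.SingleMaps31
open Groth.Agent.Lib.FlatBaseChangeD (objEquiv mapDerivedCategoryHomologyIso)

variable (A) in
/-- the free module of rank one -/
abbrev U : ModuleCat.{u} A := ModuleCat.of A A

variable (B) in
/-- `B ⊗ Hom(A, H) → Hom_B(B ⊗ A, B ⊗ H)` -/
noncomputable def γ (H : ModuleCat.{u} A) :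
    B ⊗[A] (U A ⟶ H) →ₗ[B] ((F A B).obj (U A) ⟶ (F A B).obj H) :=
  letI : Module A ((F A B).obj (U A) ⟶ (F A B).obj H) := Module.compHom _ (algebraMap A B)
  haveI : IsScalarTower A B ((F A B).obj (U A) ⟶ (F A B).obj H) :=
    IsScalarTower.of_algebraMap_smul (fun _ _ => rfl)
  LinearMap.liftBaseChange B
    { toFun := fun f => (F A B).map f
      map_add' := fun _ _ => (F A B).map_add
      map_smul' := fun a f => semiLin_F a f }

lemma γ_tmul (H : ModuleCat.{u} A) (b : B) (f : U A ⟶ H) :
    γ B H (b ⊗ₜ[A] f) = b • (F A B).map f := by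
  unfold γ
  letI : Module A ((F A B).obj (U A) ⟶ (F A B).obj H) := Module.compHom _ (algebraMap A B)
  haveI : IsScalarTower A B ((F A B).obj (U A) ⟶ (F A B).obj H) :=
    IsScalarTower.of_algebraMap_smul (fun _ _ => rfl)
  exact LinearMap.liftBaseChange_tmul _ _ _ _

/-- evaluation at `1 ⊗ 1` -/
noncomputable def ev (Y : ModuleCat.{u} B) (v : (F A B).obj (U A) ⟶ Y) : Y :=
  v.hom ((1 : B) ⊗ₜ[A, algebraMap A B] (1 : A))

lemma ev_add (Y : ModuleCat.{u} B) (v v' : (F A B).obj (U A) ⟶ Y) :
    ev (A := A) Y (v + v') = ev Y v + ev Y v' := by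
  unfold ev
  rw [ModuleCat.hom_add, LinearMap.add_apply]

lemma eval_one_bijective (Z : ModuleCat.{u} A) :
    Function.Bijective (fun w : U A ⟶ Z => w.hom (1 : A)) := by
  constructor
  · intro w w' h
    ext
    exact h
  · intro z
    exact ⟨ModuleCat.ofHom (LinearMap.toSpanSingleton A Z z), by simp⟩

lemma ev_bijective (Y : ModuleCat.{u} B) : Function.Bijective (ev (A := A) Y) := by
  have h1 := ((ModuleCat.extendRestrictScalarsAdj (algebraMap A B)).homEquiv (U A) Y).bijective
  have h2 := eval_one_bijective ((ModuleCat.restrictScalars (algebraMap A B)).obj Y)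
  exact h2.comp h1

/-- `Hom(A, H) ≃ H` -/
noncomputable def e₁ (H : ModuleCat.{u} A) : (U A ⟶ H) ≃ₗ[A] H :=
  ModuleCat.homLinearEquiv (S := A) ≪≫ₗ LinearMap.ringLmapEquivSelf A A H

lemma γ_bijective (H : ModuleCat.{u} A) : Function.Bijective (γ B H) := by
  have key : ∀ t : B ⊗[A] (U A ⟶ H),
      objEquiv (A := A) (B := B) H (ev ((F A B).obj H) (γ B H t)) =
        (e₁ H).toLinearMap.baseChange B t := by
    intro t
    induction t using TensorProduct.induction_on with
    | zero =>
      rw [map_zero, map_zero]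
      change objEquiv (A := A) (B := B) H ((0 : (F A B).obj (U A) ⟶ (F A B).obj H).hom _) = 0
      rw [ModuleCat.hom_zero, LinearMap.zero_apply, map_zero]
    | tmul b f =>
      rw [γ_tmul, LinearMap.baseChange_tmul]
      change objEquiv (A := A) (B := B) H (b • ((F A B).map f).hom
        ((1 : B) ⊗ₜ[A, algebraMap A B] (1 : A))) = _
      rw [map_smul, Groth.Agent.Lib.H47MatCx.objEquiv_map]
      change b • (f.hom.baseChange B) ((1 : B) ⊗ₜ[A] (1 : A)) = _
      rw [LinearMap.baseChange_tmul, TensorProduct.smul_tmul', smul_eq_mul, mul_one]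
      rfl
    | add x y hx hy =>
      rw [map_add (γ B H), map_add ((e₁ H).toLinearMap.baseChange B), ← hx, ← hy, ev_add, map_add]
  have h1 : Function.Bijective (fun t : B ⊗[A] (U A ⟶ H) =>
      objEquiv (A := A) (B := B) H (ev ((F A B).obj H) (γ B H t))) := by
    have : (fun t : B ⊗[A] (U A ⟶ H) =>
        objEquiv (A := A) (B := B) H (ev ((F A B).obj H) (γ B H t))) =
        (e₁ H).toLinearMap.baseChange B := funext key
    rw [this]
    exact bijective_baseChange_of_bijective _ (e₁ H).bijective
  have h2 : Function.Bijective (fun v : (F A B).obj (U A) ⟶ (F A B).obj H =>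
      objEquiv (A := A) (B := B) H (ev ((F A B).obj H) v)) :=
    (objEquiv (A := A) (B := B) H).bijective.comp (ev_bijective _)
  exact (Function.Bijective.of_comp_iff' h2 (γ B H)).1 h1

variable (A) in
/-- `A[0]` in `D(A)` -/
noncomputable abbrev WA : Dual.D A := W (U A)

instance : Projective (U A) :=
  (IsProjective.iff_projective (R := A) (P := U A)).mp inferInstance

instance : Projective ((F A B).obj (U A)) := by
  haveI := Groth.Agent.Lib.FlatBaseChangeD.projective_obj (A := A) (B := B) (U A)
  exact (IsProjective.iff_projective (R := B) (P := (F A B).obj (U A))).mp inferInstance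

instance (G : ModuleCat.{u} A) : IsIso (σ G) :=
  (inferInstance : IsIso ((HomologicalComplex.singleObjHomologySelfIso (ComplexShape.up ℤ) 0 G).symm ≪≫
    ((homologyFunctorFactors (ModuleCat.{u} A) 0).app ((s0 (𝒜 := ModuleCat.{u} A)).obj G)).symm).hom)

variable (T : Dual.D A)

/-- `θ` as a linear map -/
noncomputable def θA : (WA A ⟶ T) →ₗ[A] (U A ⟶ (homologyFunctor (ModuleCat.{u} A) 0).obj T) where
  toFun f := θ (U A) T f
  map_add' f g := by
    unfold θ
    rw [Functor.map_add, Preadditive.comp_add]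
  map_smul' a f := by
    unfold θ
    rw [Functor.map_smul, Linear.comp_smul]
    rfl

lemma θA_bijective : Function.Bijective (θA T) := θ_bijective (U A) T

variable (B) in
/-- the iso `G(A) ≅ H⁰(GD(A[0]))` -/
noncomputable def aIso : (F A B).obj (U A) ⟶
    (homologyFunctor (ModuleCat.{u} B) 0).obj ((FD A B).obj (WA A)) :=
  (F A B).map (σ (U A)) ≫ (mapDerivedCategoryHomologyIso (F A B) 0).inv.app (WA A)

instance : IsIso (aIso (A := A) B) := by
  unfold aIso
  infer_instance

variable (B) in
/-- the analogue of `θ` over `B`, through `GD` -/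
noncomputable def θB : ((FD A B).obj (WA A) ⟶ (FD A B).obj T) →ₗ[B]
    ((F A B).obj (U A) ⟶ (F A B).obj ((homologyFunctor (ModuleCat.{u} A) 0).obj T)) :=
  Linear.rightComp B _ ((mapDerivedCategoryHomologyIso (F A B) 0).hom.app T) ∘ₗ
    Linear.leftComp B _ (aIso B) ∘ₗ (homologyFunctor (ModuleCat.{u} B) 0).mapLinearMap B

lemma θB_apply (g : (FD A B).obj (WA A) ⟶ (FD A B).obj T) :
    θB B T g = (aIso B ≫ (homologyFunctor (ModuleCat.{u} B) 0).map g) ≫
      (mapDerivedCategoryHomologyIso (F A B) 0).hom.app T := rfl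

lemma θB_map (f : WA A ⟶ T) : θB B T ((FD A B).map f) = (F A B).map (θA T f) := by
  rw [θB_apply]
  unfold aIso
  have h := (mapDerivedCategoryHomologyIso (F A B) 0).inv.naturality f
  change (F A B).map ((homologyFunctor (ModuleCat.{u} A) 0).map f) ≫
      (mapDerivedCategoryHomologyIso (F A B) 0).inv.app T =
    (mapDerivedCategoryHomologyIso (F A B) 0).inv.app (WA A) ≫
      (homologyFunctor (ModuleCat.{u} B) 0).map ((FD A B).map f) at h
  calc (((F A B).map (σ (U A)) ≫ (mapDerivedCategoryHomologyIso (F A B) 0).inv.app (WA A)) ≫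
        (homologyFunctor (ModuleCat.{u} B) 0).map ((FD A B).map f)) ≫
        (mapDerivedCategoryHomologyIso (F A B) 0).hom.app T
      = (F A B).map (σ (U A)) ≫ ((mapDerivedCategoryHomologyIso (F A B) 0).inv.app (WA A) ≫
        (homologyFunctor (ModuleCat.{u} B) 0).map ((FD A B).map f)) ≫
        (mapDerivedCategoryHomologyIso (F A B) 0).hom.app T := by simp only [assoc]
    _ = (F A B).map (σ (U A)) ≫ (F A B).map ((homologyFunctor (ModuleCat.{u} A) 0).map f) := by
        rw [← h, assoc, Iso.inv_hom_id_app]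
        erw [comp_id]
    _ = (F A B).map (θA T f) := ((F A B).map_comp _ _).symm

lemma bijective_comp_isos {C : Type*} [Category C] {X X' Y Y' : C} (a : X' ⟶ X) (b : Y ⟶ Y')
    [IsIso a] [IsIso b] : Function.Bijective (fun φ : X ⟶ Y => (a ≫ φ) ≫ b) := by
  rw [Function.bijective_iff_has_inverse]
  refine ⟨fun ψ => inv a ≫ ψ ≫ inv b, fun φ => ?_, fun ψ => ?_⟩
  · simp
  · simp

/-- the iso `(G A)[0] ≅ GD(A[0])` -/
noncomputable def jIso : W ((F A B).obj (U A)) ≅ (FD A B).obj (WA A) :=
  (((F A B).mapDerivedCategorySingleFunctor 0).app (U A)).symm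

lemma θB_bijective : Function.Bijective (θB B T) := by
  let P' := (F A B).obj (U A)
  let c : P' ⟶ (homologyFunctor (ModuleCat.{u} B) 0).obj ((FD A B).obj (WA A)) :=
    σ P' ≫ (homologyFunctor (ModuleCat.{u} B) 0).map (jIso (A := A) (B := B)).hom
  haveI : IsIso c := by
    dsimp only [c]
    infer_instance
  have h1 : Function.Bijective (fun g : (FD A B).obj (WA A) ⟶ (FD A B).obj T =>
      (jIso (A := A) (B := B)).hom ≫ g) := by
    rw [Function.bijective_iff_has_inverse]
    exact ⟨fun g => (jIso (A := A) (B := B)).inv ≫ g, fun g => by simp, fun g => by simp⟩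
  have h2 := θ_bijective P' ((FD A B).obj T)
  have h3 := bijective_comp_isos (X := P') (Y := (homologyFunctor (ModuleCat.{u} B) 0).obj
    ((FD A B).obj T)) (aIso B ≫ inv c) ((mapDerivedCategoryHomologyIso (F A B) 0).hom.app T)
  have h4 := h3.comp (h2.comp h1)
  have : (θB B T : ((FD A B).obj (WA A) ⟶ (FD A B).obj T) → _) =
      (fun φ => ((aIso B ≫ inv c) ≫ φ) ≫ (mapDerivedCategoryHomologyIso (F A B) 0).hom.app T) ∘
        θ P' ((FD A B).obj T) ∘ fun g => (jIso (A := A) (B := B)).hom ≫ g := by
    funext g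
    rw [θB_apply]
    dsimp only [Function.comp]
    unfold θ
    rw [CategoryTheory.Functor.map_comp]
    simp only [assoc]
    congr 1
    rw [← assoc (σ P'), ← assoc (inv c)]
    have hc : inv c ≫ σ P' ≫ (homologyFunctor (ModuleCat.{u} B) 0).map
        (jIso (A := A) (B := B)).hom = 𝟙 _ := IsIso.inv_hom_id c
    rw [hc, id_comp]
  rw [this]
  exact h4

/-- **base case**: `β` is bijective for `K = A[0]`. -/
theorem bijective_β_unit : Function.Bijective (β (B := B) (WA A) T) := by
  have sq : ∀ t : B ⊗[A] (WA A ⟶ T), θB B T (β (WA A) T t) =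
      γ B ((homologyFunctor (ModuleCat.{u} A) 0).obj T) ((θA T).baseChange B t) := by
    intro t
    induction t using TensorProduct.induction_on with
    | zero => rw [map_zero, map_zero, map_zero, map_zero]
    | tmul b f =>
      rw [β_tmul, map_smul, θB_map, LinearMap.baseChange_tmul, γ_tmul]
    | add x y hx hy => rw [map_add, map_add, map_add, map_add, hx, hy]
  have h1 : Function.Bijective (fun t : B ⊗[A] (WA A ⟶ T) => θB B T (β (WA A) T t)) := by
    have : (fun t : B ⊗[A] (WA A ⟶ T) => θB B T (β (WA A) T t)) =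
        (γ B ((homologyFunctor (ModuleCat.{u} A) 0).obj T)) ∘ ((θA T).baseChange B) := funext sq
    rw [this]
    exact (γ_bijective _).comp (bijective_baseChange_of_bijective _ (θA_bijective T))
  exact (Function.Bijective.of_comp_iff' (θB_bijective T) _).1 h1

end Base

section Main

open Groth.Agent.Lib.ProjCorep11 Groth.Agent.Lib.DStupid
open Groth.Agent.Lib.FlatBaseChangeD (mapDerivedCategoryHomologyIso)

variable (T : Dual.D A)

instance : ObjectProperty.IsClosedUnderIsomorphisms (Good B T) where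
  of_iso e h := Good.of_iso e.symm h

/-- the unit is good -/
lemma good_unit : Good B T ((DerivedCategory.singleFunctor (ModuleCat.{u} A) 0).obj
    (ModuleCat.of A A)) := by
  apply good_of_forall_shift
  intro n
  rw [bijective_β_shift_iff _ _ (-n)]
  have e : ((DerivedCategory.singleFunctor (ModuleCat.{u} A) 0).obj (ModuleCat.of A A))⟦n⟧⟦-n⟧ ≅
      WA A := (shiftFunctorCompIsoId (Dual.D A) n (-n) (by omega)).app (WA A)
  exact (bijective_β_iff_of_iso_left e (T⟦-n⟧)).1 (bijective_β_unit (T⟦-n⟧))

/-- **perfect complexes are good** -/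
theorem good_of_bounded_finite_projective (E : DRing.Cx A) (a b : ℤ)
    (hE : ∀ i : ℤ, i < a ∨ b < i → IsZero (E.X i))
    (hfp : ∀ i : ℤ, Module.Finite A (E.X i) ∧ Module.Projective A (E.X i)) :
    Good B T (Q.obj E) :=
  Groth.Agent.Lib.DThick.prop_of_bounded_finite_projective (Good B T) (good_unit T)
    (fun _ n h => h.shift n) (fun Tr hTr h1 h3 => Good.mid Tr hTr h1 h3)
    (fun _ _ _ h => h.of_biprod) E a b hE hfp

theorem bijective_β_of_isPerfect (K : Dual.D A) (hK : DRing.IsPerfect A K) :
    Function.Bijective (β (B := B) K T) := by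
  obtain ⟨E, a, b, hE, hfp, ⟨e⟩⟩ := hK
  rw [bijective_β_iff_of_iso_left e T]
  exact (good_of_bounded_finite_projective T E a b hE hfp).bijective

lemma isLE_FD (X : Dual.D A) (n : ℤ) [X.IsLE n] : ((FD A B).obj X).IsLE n := by
  rw [DerivedCategory.isLE_iff]
  intro i hi
  exact ((F A B).map_isZero (DerivedCategory.isZero_of_isLE X n i hi)).of_iso
    ((mapDerivedCategoryHomologyIso (F A B) i).app X)

lemma isGE_FD (X : Dual.D A) (n : ℤ) [X.IsGE n] : ((FD A B).obj X).IsGE n := by
  rw [DerivedCategory.isGE_iff]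
  intro i hi
  exact ((F A B).map_isZero (DerivedCategory.isZero_of_isGE X n i hi)).of_iso
    ((mapDerivedCategoryHomologyIso (F A B) i).app X)

lemma subsingleton_tensor {M : Type*} [AddCommGroup M] [Module A M] [Subsingleton M] :
    Subsingleton (B ⊗[A] M) := by
  have h : ∀ z : B ⊗[A] M, z = 0 := fun z => by
    induction z using TensorProduct.induction_on with
    | zero => rfl
    | tmul b m => rw [Subsingleton.elim m 0, TensorProduct.tmul_zero]
    | add x y hx hy => rw [hx, hy, add_zero]
  exact ⟨fun x y => by rw [h x, h y]⟩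

lemma subsingleton_hom_of_isLE_isGE {C : Type*} [Category C] [Abelian C]
    [HasDerivedCategory.{u} C] (X Y : DerivedCategory C) (n₀ n₁ : ℤ) (h : n₀ < n₁)
    [X.IsLE n₀] [Y.IsGE n₁] : Subsingleton (X ⟶ Y) :=
  ⟨fun f g => by
    rw [DerivedCategory.TStructure.t.zero f n₀ n₁ h, DerivedCategory.TStructure.t.zero g n₀ n₁ h]⟩

/-- **Flat base change for `Hom`**: `K` pseudo-coherent, `T` bounded below. -/
theorem bijective_β_of_isPseudoCoherent (K : Dual.D A) (hK : DRing.IsPseudoCoherent' A K)
    (a : ℤ) [T.IsGE a] : Function.Bijective (β (B := B) K T) := by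
  obtain ⟨E, b, hEb, hEf, ⟨e⟩⟩ := hK
  rw [bijective_β_iff_of_iso_left e T]
  let m : ℤ := a - 1
  have hTr := tri_distinguished E (topFamily E m) (topFamily_le E m)
  have hperf : Good B T (Q.obj (stupidGE E m)) := by
    refine good_of_bounded_finite_projective T (stupidGE E m) m b ?_ ?_
    · rintro i (hi | hi)
      · exact isZero_stupidGE_X_of_lt E m i hi
      · exact isZero_stupidGE_X_of_isZero E m i (hEb i hi)
    · intro i
      by_cases hi : m ≤ i
      · obtain ⟨h1, h2⟩ := hEf i
        exact ⟨Module.Finite.equiv (stupidGEXIso E m i hi).toLinearEquiv.symm,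
          Module.Projective.of_equiv (stupidGEXIso E m i hi).toLinearEquiv.symm⟩
      · have hz := isZero_stupidGE_X_of_lt E m i (by omega)
        haveI : Subsingleton ((stupidGE E m).X i) := ModuleCat.subsingleton_of_isZero hz
        exact ⟨inferInstance, inferInstance⟩
  haveI hle : (Q.obj (stupidLT E m)).IsLE (m - 1) := by
    haveI : (stupidLT E m).IsStrictlyLE (m - 1) := by
      rw [CochainComplex.isStrictlyLE_iff]
      intro i hi
      exact isZero_stupidLT_X_of_le E m i (by omega)
    infer_instance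
  haveI hle' : ((Q.obj (stupidLT E m))⟦(-1 : ℤ)⟧).IsLE m :=
    DerivedCategory.TStructure.t.isLE_shift _ (m - 1) (-1) m (by omega)
  have s3 : Subsingleton ((tri E (topFamily E m) (topFamily_le E m)).obj₃ ⟶ T) :=
    subsingleton_hom_of_isLE_isGE (Q.obj (stupidLT E m)) T (m - 1) a (by omega)
  have s3' : Subsingleton ((FD A B).obj (tri E (topFamily E m) (topFamily_le E m)).obj₃ ⟶
      (FD A B).obj T) := by
    haveI := isLE_FD (B := B) (Q.obj (stupidLT E m)) (m - 1)
    haveI := isGE_FD (B := B) T a
    exact subsingleton_hom_of_isLE_isGE ((FD A B).obj (Q.obj (stupidLT E m))) _ (m - 1) a (by omega)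
  have s4 : Subsingleton ((tri E (topFamily E m) (topFamily_le E m)).invRotate.obj₁ ⟶ T) :=
    subsingleton_hom_of_isLE_isGE ((Q.obj (stupidLT E m))⟦(-1 : ℤ)⟧) T m a (by omega)
  refine bijective_mid T (tri E (topFamily E m) (topFamily_le E m)) hTr ?_ ?_ ?_ ?_
  · exact (hperf 1 _ ⟨Iso.refl _⟩).2
  · -- both sides vanish
    haveI := subsingleton_tensor (A := A) (B := B)
      (M := ((tri E (topFamily E m) (topFamily_le E m)).obj₃ ⟶ T))
    exact ⟨fun x y _ => Subsingleton.elim x y, fun y => ⟨0, Subsingleton.elim _ _⟩⟩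
  · exact hperf.bijective
  · haveI := subsingleton_tensor (A := A) (B := B)
      (M := ((tri E (topFamily E m) (topFamily_le E m)).invRotate.obj₁ ⟶ T))
    exact fun x y _ => Subsingleton.elim x y

end Main

end Groth.Agent.Lib.FlatHomBC25
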