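import Mathlib

/-!
# Extension of ideals along flat algebras commutes with finite intersections (helper61)

* `map_inf_of_flat`: `(I ⊓ J) S = I S ⊓ J S` for a flat `B`-algebra `S` (equational criterion).
* `exists_sub_mem_map_inf`: faithfully flat gluing: if `d ∈ S` is congruent to an element of `B`
  modulo `𝔭 S` for every `𝔭` in a finite set `s` of ideals of `B`, then `d` is congruent to an
  element of `B` modulo `(⨅ 𝔭 ∈ s) S`.
-/

set_option autoImplicit false

namespace Groth.Agent.Lib.FlatIdealInf61

variable (B S : Type*) [CommRing B] [CommRing S] [Algebra B S]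

theorem map_inf_of_flat [Module.Flat B S] (I J : Ideal B) :
    (I ⊓ J).map (algebraMap B S) = I.map (algebraMap B S) ⊓ J.map (algebraMap B S) := by
  classical
  apply le_antisymm (Ideal.map_inf_le _)
  rintro x ⟨hxI, hxJ⟩
  obtain ⟨n, c, g, hx1⟩ := Submodule.mem_span_set'.mp hxI
  obtain ⟨m, c', g', hx2⟩ := Submodule.mem_span_set'.mp hxJ
  have hg : ∀ i, ∃ a ∈ I, algebraMap B S a = (g i : S) := fun i => (g i).2
  have hg' : ∀ j, ∃ b ∈ J, algebraMap B S b = (g' j : S) := fun j => (g' j).2
  choose a haI ha using hg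
  choose b hbJ hb using hg'
  let f : Fin n ⊕ Fin m → B := Sum.elim a (fun j => - b j)
  let xx : Fin n ⊕ Fin m → S := Sum.elim c c'
  have hrel0 : ∑ i, f i • xx i = 0 := by
    rw [Fintype.sum_sum_type]
    simp only [f, xx, Sum.elim_inl, Sum.elim_inr, neg_smul, Finset.sum_neg_distrib]
    have h1 : ∑ i, a i • c i = x := by
      rw [← hx1]
      refine Finset.sum_congr rfl fun i _ => ?_
      rw [Algebra.smul_def, ha, smul_eq_mul, mul_comm]
    have h2 : ∑ j, b j • c' j = x := by
      rw [← hx2]
      refine Finset.sum_congr rfl fun j _ => ?_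
      rw [Algebra.smul_def, hb, smul_eq_mul, mul_comm]
    rw [h1, h2, add_neg_cancel]
  obtain ⟨k, α, y, hxy, hrel⟩ :=
    Module.Flat.isTrivialRelation_of_sum_smul_eq_zero (R := B) (M := S) (f := f) (x := xx) hrel0
  let e : Fin k → B := fun l => ∑ i, a i * α (Sum.inl i) l
  have heI : ∀ l, e l ∈ I := fun l => I.sum_mem fun i _ => I.mul_mem_right _ (haI i)
  have heJ : ∀ l, e l ∈ J := by
    intro l
    have h1 := hrel l
    rw [Fintype.sum_sum_type] at h1
    simp only [f, Sum.elim_inl, Sum.elim_inr, neg_mul, Finset.sum_neg_distrib] at h1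
    have h2 : e l = ∑ j, b j * α (Sum.inr j) l := by
      have := add_neg_eq_zero.mp h1
      exact this
    rw [h2]
    exact J.sum_mem fun j _ => J.mul_mem_right _ (hbJ j)
  have hx : x = ∑ l, algebraMap B S (e l) * y l := by
    rw [← hx1]
    have h3 : ∀ i, c i • (g i : S) = ∑ l, algebraMap B S (a i * α (Sum.inl i) l) * y l := by
      intro i
      have := hxy (Sum.inl i)
      simp only [xx, Sum.elim_inl] at this
      rw [this, ← ha, smul_eq_mul, Finset.sum_mul]
      refine Finset.sum_congr rfl fun l _ => ?_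
      rw [Algebra.smul_def, map_mul]
      ring
    simp only [h3]
    rw [Finset.sum_comm]
    refine Finset.sum_congr rfl fun l _ => ?_
    rw [map_sum, Finset.sum_mul]
  rw [hx]
  exact Ideal.sum_mem _ fun l _ =>
    Ideal.mul_mem_right _ _ (Ideal.mem_map_of_mem _ ⟨heI l, heJ l⟩)

theorem exists_sub_mem_map_inf [Module.FaithfullyFlat B S] (s : Finset (Ideal B)) (d : S)
    (h : ∀ 𝔭 ∈ s, ∃ b : B, d - algebraMap B S b ∈ 𝔭.map (algebraMap B S)) :
    ∃ b : B, d - algebraMap B S b ∈ (s.inf id).map (algebraMap B S) := by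
  classical
  induction s using Finset.induction_on with
  | empty => exact ⟨0, by simp [Ideal.map_top]⟩
  | insert 𝔭 s hps ih =>
    obtain ⟨b, hb⟩ := ih fun 𝔮 h𝔮 => h 𝔮 (Finset.mem_insert_of_mem h𝔮)
    obtain ⟨b', hb'⟩ := h 𝔭 (Finset.mem_insert_self _ _)
    set I := s.inf id with hI
    have h1 : algebraMap B S (b - b') ∈ (𝔭 ⊔ I).map (algebraMap B S) := by
      rw [Ideal.map_sup, map_sub]
      have : algebraMap B S b - algebraMap B S b' =
          (d - algebraMap B S b') + (-(d - algebraMap B S b)) := by ring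
      rw [this]
      exact Submodule.add_mem_sup hb' (Ideal.neg_mem_iff _ |>.mpr hb)
    have h2 : b - b' ∈ 𝔭 ⊔ I := by
      have := Ideal.mem_comap.mpr h1
      rwa [Ideal.comap_map_eq_self_of_faithfullyFlat] at this
    obtain ⟨u, hu, v, hv, huv⟩ := Submodule.mem_sup.mp h2
    refine ⟨b - v, ?_⟩
    rw [Finset.inf_insert, id, map_inf_of_flat]
    constructor
    · have : d - algebraMap B S (b - v) = (d - algebraMap B S b') - algebraMap B S u := by
        have hbv : b - v = b' + u := by linear_combination huv.symm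
        rw [hbv, map_add]; ring
      rw [this]
      exact Ideal.sub_mem _ hb' (Ideal.mem_map_of_mem _ hu)
    · have : d - algebraMap B S (b - v) = (d - algebraMap B S b) + algebraMap B S v := by
        rw [map_sub]; ring
      rw [this]
      exact Ideal.add_mem _ hb (Ideal.mem_map_of_mem _ hv)

end Groth.Agent.Lib.FlatIdealInf61
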