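import Mathlib.RingTheory.Flat.Tensor
import Mathlib.RingTheory.Flat.Basic

/-!
If all finitely generated ideals of a commutative ring are flat, then every submodule of a
flat module is flat (weak dimension at most one).
-/

set_option autoImplicit false
universe u v

namespace Groth.Agent.Lib.FlatIdeals

open TensorProduct

theorem flat_submodule_of_flat_fg_ideals {R : Type u} [CommRing R]
    (h : ∀ J : Ideal R, J.FG → Module.Flat R J)
    {M : Type v} [AddCommGroup M] [Module R M] [Module.Flat R M] (N : Submodule R M) :
    Module.Flat R N := by
  rw [Module.Flat.iff_rTensor_injective]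
  intro J hJ
  have := h J hJ
  have h1 : Function.Injective (N.subtype.lTensor J) :=
    Module.Flat.lTensor_preserves_injective_linearMap _ N.injective_subtype
  have h2 : Function.Injective (J.subtype.rTensor M) :=
    Module.Flat.rTensor_preserves_injective_linearMap _ J.injective_subtype
  have hcomm : (N.subtype.lTensor R) ∘ₗ (J.subtype.rTensor N) =
      (J.subtype.rTensor M) ∘ₗ (N.subtype.lTensor J) := by
    ext x y
    simp
  have h3 : Function.Injective ((N.subtype.lTensor R) ∘ₗ (J.subtype.rTensor N)) := by
    rw [hcomm]
    exact h2.comp h1
  exact Function.Injective.of_comp h3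

theorem flat_ideal_of_flat_fg_ideals {R : Type u} [CommRing R]
    (h : ∀ J : Ideal R, J.FG → Module.Flat R J) (I : Ideal R) : Module.Flat R I :=
  flat_submodule_of_flat_fg_ideals h I

end Groth.Agent.Lib.FlatIdeals
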