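import Groth.Agent.Lib.FlatTopInduced88

/-!
# Flatness modulo an intersection of ideals (helper88)

Stacks 051C: if `M/I₁M` is flat over `R/I₁` and `M/I₂M` is flat over `R/I₂` then `M/(I₁ ∩ I₂)M` is
flat over `R/(I₁ ∩ I₂)`; finite families.
-/

set_option autoImplicit false
set_option linter.unusedSectionVars false
universe u

namespace Groth.Agent.Lib.FlatInf88

open TensorProduct Function Groth.Agent.Lib.FlatCrit Groth.Agent.Lib.FlatNilAss88
  Groth.Agent.Lib.FlatTopInduced88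

section Core

variable {R : Type u} [CommRing R] {M : Type*} [AddCommGroup M] [Module R M]

/-- Change of rings for `Tor₁` vanishing, for modules killed by `I`. -/
theorem tor1Zero_of_torsion (I : Ideal R) [Module.Flat (R ⧸ I) ((R ⧸ I) ⊗[R] M)]
    (h1 : Tor1Zero R (R ⧸ I) M) {N : Type*} [AddCommGroup N] [Module R N]
    (hN : ∀ i ∈ I, ∀ n : N, i • n = 0) : Tor1Zero R N M := by
  have t : Module.IsTorsionBySet R N I := fun x a => hN a.1 a.2 x
  let _ := t.module
  exact tor1Zero_of_baseChange_flat (R ⧸ I) h1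

/-- `Tor₁(R/I₁, M) = 0` when `I₁ ∩ I₂ = 0` and `M/I₂M` is flat over `R/I₂`. -/
theorem tor1Zero_quotient_of_inf_eq_bot (I₁ I₂ : Ideal R) (h : I₁ ⊓ I₂ = ⊥)
    [Module.Flat (R ⧸ I₂) ((R ⧸ I₂) ⊗[R] M)] : Tor1Zero R (R ⧸ I₁) M := by
  rw [tor1Zero_quotient_iff]
  let g : I₁ →ₗ[R] R ⧸ I₂ := I₂.mkQ ∘ₗ I₁.subtype
  have hg : Injective g := by
    rw [← LinearMap.ker_eq_bot, eq_bot_iff]
    intro a ha
    rw [LinearMap.mem_ker] at ha
    have h1 : (a : R) ∈ I₂ := by
      have : I₂.mkQ (a : R) = 0 := ha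
      rwa [Submodule.mkQ_apply, Submodule.Quotient.mk_eq_zero] at this
    have h2 : (a : R) ∈ I₁ ⊓ I₂ := ⟨a.2, h1⟩
    rw [h, Ideal.mem_bot] at h2
    rw [Submodule.mem_bot]
    exact Subtype.ext h2
  have hT := rTensor_injective_of_torsion (M := M) I₂ (P₁ := I₁) (P₂ := R ⧸ I₂)
    (by
      intro j hj p
      apply Subtype.ext
      have h2 : j * (p : R) ∈ I₁ ⊓ I₂ := ⟨I₁.mul_mem_left j p.2, I₂.mul_mem_right _ hj⟩
      rw [h, Ideal.mem_bot] at h2
      simpa using h2)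
    (by
      intro j hj t
      obtain ⟨r, rfl⟩ := Ideal.Quotient.mk_surjective t
      have : j • Ideal.Quotient.mk I₂ r = Ideal.Quotient.mk I₂ (j * r) := rfl
      rw [this, Ideal.Quotient.eq_zero_iff_mem]
      exact I₂.mul_mem_right _ hj)
    g hg
  have hcomp : g.rTensor M = I₂.mkQ.rTensor M ∘ₗ I₁.subtype.rTensor M :=
    LinearMap.rTensor_comp M _ _
  rw [hcomp] at hT
  exact Function.Injective.of_comp hT

/-- Core of Stacks 051C: if `I₁ ∩ I₂ = 0` and `M/I_jM` is flat over `R/I_j` for `j = 1, 2` then `M`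
is flat. -/
theorem flat_of_inf_eq_bot (I₁ I₂ : Ideal R) (h : I₁ ⊓ I₂ = ⊥)
    [Module.Flat (R ⧸ I₁) ((R ⧸ I₁) ⊗[R] M)] [Module.Flat (R ⧸ I₂) ((R ⧸ I₂) ⊗[R] M)] :
    Module.Flat R M := by
  have t1 : Tor1Zero R (R ⧸ I₁) M := tor1Zero_quotient_of_inf_eq_bot I₁ I₂ h
  have t2 : Tor1Zero R (R ⧸ I₂) M := tor1Zero_quotient_of_inf_eq_bot I₂ I₁ (inf_comm I₁ I₂ ▸ h)
  have key : ∀ (N : Type u) [AddCommGroup N] [Module R N], Tor1Zero R N M := by
    intro N _ _
    let N' : Submodule R N := I₁ • ⊤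
    have h' : Tor1Zero R N' M := by
      refine tor1Zero_of_torsion I₂ t2 ?_
      intro j hj n
      apply Subtype.ext
      have hn : (n : N) ∈ I₁ • (⊤ : Submodule R N) := n.2
      show j • (n : N) = 0
      refine Submodule.smul_induction_on hn ?_ ?_
      · intro i hi m _
        have h2 : j * i ∈ I₁ ⊓ I₂ := ⟨I₁.mul_mem_left j hi, I₂.mul_mem_right _ hj⟩
        rw [h, Ideal.mem_bot] at h2
        rw [smul_smul, h2, zero_smul]
      · intro x y hx hy
        rw [smul_add, hx, hy, add_zero]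
    have h'' : Tor1Zero R (N ⧸ N') M := by
      refine tor1Zero_of_torsion I₁ t1 ?_
      intro i hi n
      obtain ⟨n, rfl⟩ := Submodule.mkQ_surjective _ n
      rw [← map_smul, Submodule.mkQ_apply, Submodule.Quotient.mk_eq_zero]
      exact Submodule.smul_mem_smul hi Submodule.mem_top
    exact tor1Zero_of_exact (Submodule.subtype_injective N') (LinearMap.exact_subtype_mkQ N')
      (Submodule.mkQ_surjective N') h' h''
  exact flat_of_forall_tor1Zero fun I _ => key (R ⧸ I)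

end Core

section General

variable {R : Type u} [CommRing R] (M : Type*) [AddCommGroup M] [Module R M]

/-- Stacks 051C. -/
theorem flat_quotient_inf (I₁ I₂ : Ideal R)
    [Module.Flat (R ⧸ I₁) ((R ⧸ I₁) ⊗[R] M)] [Module.Flat (R ⧸ I₂) ((R ⧸ I₂) ⊗[R] M)] :
    Module.Flat (R ⧸ (I₁ ⊓ I₂)) ((R ⧸ (I₁ ⊓ I₂)) ⊗[R] M) := by
  set K : Ideal R := I₁ ⊓ I₂ with hK
  have f1 := flat_quotient_map' M I₁ K
  have f2 := flat_quotient_map' M I₂ K
  refine flat_of_inf_eq_bot (I₁.map (Ideal.Quotient.mk K)) (I₂.map (Ideal.Quotient.mk K)) ?_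
  rw [eq_bot_iff]
  intro x hx
  obtain ⟨a, rfl⟩ := Ideal.Quotient.mk_surjective x
  have h1 : a ∈ I₁ := by
    have h0 : Ideal.Quotient.mk K a ∈ I₁.map (Ideal.Quotient.mk K) := hx.1
    rw [Ideal.mem_map_iff_of_surjective _ Ideal.Quotient.mk_surjective] at h0
    obtain ⟨b, hb, hab⟩ := h0
    have h3 : b - a ∈ K := Ideal.Quotient.eq.mp hab
    have : a = b - (b - a) := by ring
    rw [this]
    exact I₁.sub_mem hb h3.1
  have h2 : a ∈ I₂ := by
    have h0 : Ideal.Quotient.mk K a ∈ I₂.map (Ideal.Quotient.mk K) := hx.2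
    rw [Ideal.mem_map_iff_of_surjective _ Ideal.Quotient.mk_surjective] at h0
    obtain ⟨b, hb, hab⟩ := h0
    have h3 : b - a ∈ K := Ideal.Quotient.eq.mp hab
    have : a = b - (b - a) := by ring
    rw [this]
    exact I₂.sub_mem hb h3.2
  rw [Ideal.mem_bot, Ideal.Quotient.eq_zero_iff_mem]
  exact ⟨h1, h2⟩

/-- Stacks 051C for finite families. -/
theorem flat_quotient_finset_inf {ι : Type*} (I : ι → Ideal R)
    [∀ i, Module.Flat (R ⧸ I i) ((R ⧸ I i) ⊗[R] M)] (s : Finset ι) :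
    Module.Flat (R ⧸ (⨅ i ∈ s, I i)) ((R ⧸ (⨅ i ∈ s, I i)) ⊗[R] M) := by
  classical
  induction s using Finset.induction_on with
  | empty =>
    have : Subsingleton (R ⧸ (⨅ i ∈ (∅ : Finset ι), I i)) := by
      rw [Ideal.Quotient.subsingleton_iff]
      exact iInf_eq_top.mpr fun i => iInf_eq_top.mpr fun hi => absurd hi (Finset.notMem_empty i)
    have : Subsingleton ((R ⧸ (⨅ i ∈ (∅ : Finset ι), I i)) ⊗[R] M) :=
      Module.subsingleton (R ⧸ (⨅ i ∈ (∅ : Finset ι), I i)) _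
    infer_instance
  | insert a s _ ih =>
    have := flat_quotient_inf M (I a) (⨅ i ∈ s, I i)
    exact flat_quotient_of_le M (le_of_eq (Finset.iInf_insert a s I).symm)

/-- Stacks 051C for finite families, `Finite` index type. -/
theorem flat_quotient_iInf {ι : Type*} [Finite ι] (I : ι → Ideal R)
    [∀ i, Module.Flat (R ⧸ I i) ((R ⧸ I i) ⊗[R] M)] :
    Module.Flat (R ⧸ (⨅ i, I i)) ((R ⧸ (⨅ i, I i)) ⊗[R] M) := by
  have := Fintype.ofFinite ι
  have := flat_quotient_finset_inf M I Finset.univ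
  refine flat_quotient_of_le M (K := ⨅ i ∈ Finset.univ, I i) (le_iInf fun i => ?_)
  exact (iInf_le _ i).trans (iInf_le _ (Finset.mem_univ i))

end General

end Groth.Agent.Lib.FlatInf88
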