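import Groth.Agent.Lib.FlatNilAss88

/-!
# Descent of flatness along jointly injective ring maps, modulo a nilpotent ideal (helper88)

`R` a ring, `I` a nilpotent ideal, `M` an `R`-module with `M/IM` flat over `R/I`.  If
`(R → R'_i)` is a finite jointly injective family of ring maps with `R'_i ⊗ M` flat over `R'_i`,
then `M` is flat over `R`.
-/

set_option autoImplicit false
set_option linter.unusedSectionVars false
universe u

namespace Groth.Agent.Lib.FlatInjNil88

open TensorProduct Function Groth.Agent.Lib.FlatCrit Groth.Agent.Lib.FlatNilAss88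

section Shrink

variable {R : Type u} [CommRing R] {M : Type*} [AddCommGroup M] [Module R M]

/-- The shrinking step. -/
theorem mem_range_inclusion_rTensor (I : Ideal R) [Module.Flat (R ⧸ I) ((R ⧸ I) ⊗[R] M)]
    (R' : Type*) [CommRing R'] [Algebra R R'] [Module.Flat R' (R' ⊗[R] M)]
    (𝔞 : Ideal R) (𝔟' 𝔠' : Ideal R') (h𝔞 : 𝔞 ≤ 𝔟'.comap (algebraMap R R'))
    (hI𝔞 : ∀ i ∈ I, ∀ a ∈ 𝔞, i * a ∈ 𝔠'.comap (algebraMap R R'))
    (hI𝔟 : ∀ i ∈ I, ∀ b ∈ 𝔟', algebraMap R R' i * b ∈ 𝔠')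
    (x : 𝔞 ⊗[R] M) (hx : 𝔞.subtype.rTensor M x = 0) :
    x ∈ LinearMap.range ((Submodule.inclusion
      (inf_le_left : 𝔞 ⊓ 𝔠'.comap (algebraMap R R') ≤ 𝔞)).rTensor M) := by
  set 𝔞₂ : Ideal R := 𝔞 ⊓ 𝔠'.comap (algebraMap R R') with h𝔞₂
  let N₂ : Submodule R ↥𝔞 := Submodule.comap 𝔞.subtype 𝔞₂
  let T₂ : Submodule R' ↥𝔟' := Submodule.comap 𝔟'.subtype 𝔠'
  let β : ↥𝔞 →ₗ[R] ↥𝔟' :=
    { toFun := fun a => ⟨algebraMap R R' a.1, h𝔞 a.2⟩
      map_add' := fun a b => Subtype.ext (by simp)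
      map_smul' := fun r a => Subtype.ext (by simp [Algebra.smul_def]) }
  let f : ↥𝔞 →ₗ[R] (↥𝔟' ⧸ T₂) := (T₂.mkQ.restrictScalars R) ∘ₗ β
  have hfker : N₂ ≤ LinearMap.ker f := by
    intro a ha
    rw [LinearMap.mem_ker]
    show T₂.mkQ (β a) = 0
    rw [Submodule.mkQ_apply, Submodule.Quotient.mk_eq_zero]
    exact ha.2
  have hfker' : LinearMap.ker f ≤ N₂ := by
    intro a ha
    rw [LinearMap.mem_ker] at ha
    have h1 : T₂.mkQ (β a) = 0 := ha
    rw [Submodule.mkQ_apply, Submodule.Quotient.mk_eq_zero] at h1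
    exact ⟨a.2, h1⟩
  let ι' : (↥𝔞 ⧸ N₂) →ₗ[R] (↥𝔟' ⧸ T₂) := N₂.liftQ f hfker
  have hι' : Injective ι' := by
    rw [← LinearMap.ker_eq_bot]
    exact Submodule.ker_liftQ_eq_bot _ _ _ hfker'
  have htP : ∀ i ∈ I, ∀ p : (↥𝔞 ⧸ N₂), i • p = 0 := by
    intro i hi p
    obtain ⟨a, rfl⟩ := Submodule.mkQ_surjective _ p
    rw [← map_smul, Submodule.mkQ_apply, Submodule.Quotient.mk_eq_zero]
    exact ⟨𝔞.mul_mem_left i a.2, hI𝔞 i hi a.1 a.2⟩
  have htT : ∀ i ∈ I, ∀ t : (↥𝔟' ⧸ T₂), i • t = 0 := by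
    intro i hi t
    obtain ⟨b, rfl⟩ := Submodule.mkQ_surjective _ t
    rw [← algebraMap_smul R' i (T₂.mkQ b), ← map_smul, Submodule.mkQ_apply,
      Submodule.Quotient.mk_eq_zero]
    exact hI𝔟 i hi b.1 b.2
  have hιM : Injective (ι'.rTensor M) := rTensor_injective_of_torsion I htP htT ι' hι'
  have hinj' : Injective ((𝔟'.subtype.restrictScalars R).rTensor M) :=
    rTensor_injective_restrictScalars_of R' 𝔟'.subtype
      (Module.Flat.rTensor_preserves_injective_linearMap _ 𝔟'.subtype_injective)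
  have hcomp : (𝔟'.subtype.restrictScalars R) ∘ₗ β = (Algebra.linearMap R R') ∘ₗ 𝔞.subtype := by
    ext a; rfl
  have hz : β.rTensor M x = 0 := by
    apply hinj'
    rw [map_zero, ← LinearMap.comp_apply, ← LinearMap.rTensor_comp, hcomp,
      LinearMap.rTensor_comp, LinearMap.comp_apply, hx, map_zero]
  have hcomp2 : ι' ∘ₗ N₂.mkQ = f := Submodule.liftQ_mkQ _ _ _
  have h1 : N₂.mkQ.rTensor M x = 0 := by
    apply hιM
    rw [map_zero, ← LinearMap.comp_apply, ← LinearMap.rTensor_comp, hcomp2]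
    show ((T₂.mkQ.restrictScalars R) ∘ₗ β).rTensor M x = 0
    rw [LinearMap.rTensor_comp, LinearMap.comp_apply, hz, map_zero]
  have hex := rTensor_exact M (LinearMap.exact_subtype_mkQ N₂) (Submodule.mkQ_surjective N₂)
  obtain ⟨y, rfl⟩ := (hex x).mp h1
  have hcomp3 : N₂.subtype = (Submodule.inclusion (inf_le_left : 𝔞₂ ≤ 𝔞)) ∘ₗ
      (Submodule.comapSubtypeEquivOfLe (inf_le_left : 𝔞₂ ≤ 𝔞)).toLinearMap := by
    ext a; rfl
  rw [hcomp3, LinearMap.rTensor_comp, LinearMap.comp_apply]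
  exact ⟨_, rfl⟩

end Shrink

section Family

variable {R : Type u} [CommRing R] {M : Type*} [AddCommGroup M] [Module R M]

/-- `x` comes from `𝔡 ⊗ M`. -/
def ComesFrom (I : Ideal R) (x : I ⊗[R] M) (𝔡 : Ideal R) : Prop :=
  ∃ h : 𝔡 ≤ I, x ∈ LinearMap.range ((Submodule.inclusion h).rTensor M)

theorem ComesFrom.mono {I : Ideal R} {x : I ⊗[R] M} {𝔡₁ 𝔡₂ : Ideal R} (h : ComesFrom I x 𝔡₁)
    (h12 : 𝔡₁ ≤ 𝔡₂) (h2 : 𝔡₂ ≤ I) : ComesFrom I x 𝔡₂ := by
  obtain ⟨h1, y, rfl⟩ := h
  refine ⟨h2, (Submodule.inclusion h12).rTensor M y, ?_⟩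
  rw [← LinearMap.comp_apply, ← LinearMap.rTensor_comp]
  rfl

theorem comesFrom_self (I : Ideal R) (x : I ⊗[R] M) : ComesFrom I x I := by
  refine ⟨le_rfl, x, ?_⟩
  have : Submodule.inclusion (le_refl I) = LinearMap.id := by ext; rfl
  rw [this, LinearMap.rTensor_id, LinearMap.id_apply]

theorem eq_zero_of_comesFrom_bot {I : Ideal R} {x : I ⊗[R] M} (h : ComesFrom I x ⊥) : x = 0 := by
  obtain ⟨h1, y, rfl⟩ := h
  have : Subsingleton ((⊥ : Ideal R) ⊗[R] M) := by
    have : Subsingleton (⊥ : Ideal R) := ⟨fun a b => Subtype.ext (by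
      rw [(Submodule.mem_bot R).mp a.2, (Submodule.mem_bot R).mp b.2])⟩
    infer_instance
  rw [Subsingleton.elim y 0, map_zero]

variable {ι : Type*} (R' : ι → Type*) [∀ i, CommRing (R' i)] [∀ i, Algebra R (R' i)]

/-- the auxiliary ideals -/
noncomputable def aux (I : Ideal R) (j : ℕ) (s : Finset ι) : Ideal R :=
  I ⊓ (⨅ i, ((I ^ (j + 1)).map (algebraMap R (R' i))).comap (algebraMap R (R' i))) ⊓
    (⨅ i ∈ s, ((I ^ (j + 2)).map (algebraMap R (R' i))).comap (algebraMap R (R' i)))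

theorem aux_le (I : Ideal R) (j : ℕ) (s : Finset ι) : aux R' I j s ≤ I :=
  inf_le_left.trans inf_le_left

theorem shrink_step (I : Ideal R) [Module.Flat (R ⧸ I) ((R ⧸ I) ⊗[R] M)]
    [∀ i, Module.Flat (R' i) (R' i ⊗[R] M)] (x : I ⊗[R] M) (hx : I.subtype.rTensor M x = 0)
    (j : ℕ) (s : Finset ι) (i₀ : ι) [DecidableEq ι] (h : ComesFrom I x (aux R' I j s)) :
    ComesFrom I x (aux R' I j (insert i₀ s)) := by
  obtain ⟨h1, y, rfl⟩ := h
  have hy : (aux R' I j s).subtype.rTensor M y = 0 := by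
    have : (aux R' I j s).subtype = I.subtype ∘ₗ Submodule.inclusion h1 := by ext; rfl
    rw [this, LinearMap.rTensor_comp, LinearMap.comp_apply, hx]
  have key := mem_range_inclusion_rTensor (M := M) I (R' i₀) (aux R' I j s)
    ((I ^ (j + 1)).map (algebraMap R (R' i₀))) ((I ^ (j + 2)).map (algebraMap R (R' i₀)))
    ?_ ?_ ?_ y hy
  · obtain ⟨w, rfl⟩ := key
    have hle : aux R' I j s ⊓
        ((I ^ (j + 2)).map (algebraMap R (R' i₀))).comap (algebraMap R (R' i₀)) ≤
        aux R' I j (insert i₀ s) := by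
      unfold aux
      refine le_inf (inf_le_left.trans inf_le_left) ?_
      rw [Finset.iInf_insert]
      exact le_inf inf_le_right (inf_le_left.trans inf_le_right)
    refine ComesFrom.mono ⟨inf_le_left.trans h1, w, ?_⟩ hle (aux_le R' I j _)
    rw [← LinearMap.comp_apply, ← LinearMap.rTensor_comp]
    rfl
  · intro a ha
    exact (Ideal.mem_iInf.mp ha.1.2) i₀
  · intro i hi a ha
    have h2 : algebraMap R (R' i₀) a ∈ (I ^ (j + 1)).map (algebraMap R (R' i₀)) :=
      (Ideal.mem_iInf.mp ha.1.2) i₀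
    rw [Ideal.mem_comap, map_mul, pow_succ' I (j + 1), Ideal.map_mul]
    exact Ideal.mul_mem_mul (Ideal.mem_map_of_mem _ hi) h2
  · intro i hi b hb
    rw [pow_succ' I (j + 1), Ideal.map_mul]
    exact Ideal.mul_mem_mul (Ideal.mem_map_of_mem _ hi) hb

/-- Lemma G. -/
theorem flat_of_jointly_injective [Finite ι] (I : Ideal R) (hI : IsNilpotent I)
    [Module.Flat (R ⧸ I) ((R ⧸ I) ⊗[R] M)] [∀ i, Module.Flat (R' i) (R' i ⊗[R] M)]
    (hinj : ∀ x : R, (∀ i, algebraMap R (R' i) x = 0) → x = 0) : Module.Flat R M := by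
  classical
  have := Fintype.ofFinite ι
  refine flat_of_isNilpotent I hI ?_
  rw [injective_iff_map_eq_zero]
  intro x hx
  have hall : ∀ j : ℕ, ∀ s : Finset ι, ComesFrom I x (aux R' I j s) := by
    intro j
    induction j with
    | zero =>
      intro s
      induction s using Finset.induction_on with
      | empty =>
        refine (comesFrom_self I x).mono ?_ (aux_le R' I 0 _)
        unfold aux
        refine le_inf (le_inf le_rfl ?_) ?_
        · refine le_iInf fun i => ?_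
          rw [zero_add, pow_one]
          exact Ideal.le_comap_map
        · simp
      | insert i₀ s _ ih => exact shrink_step R' I x hx 0 s i₀ ih
    | succ j ihj =>
      intro s
      induction s using Finset.induction_on with
      | empty =>
        refine (ihj Finset.univ).mono ?_ (aux_le R' I (j + 1) _)
        unfold aux
        refine le_inf (le_inf (inf_le_left.trans inf_le_left) ?_) ?_
        · refine le_iInf fun i => ?_
          refine inf_le_right.trans ?_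
          exact (iInf_le _ i).trans (iInf_le _ (Finset.mem_univ i))
        · simp
      | insert i₀ s _ ih => exact shrink_step R' I x hx (j + 1) s i₀ ih
  obtain ⟨n, hn⟩ := hI
  have hbot : aux R' I n ∅ ≤ ⊥ := by
    intro a ha
    rw [Ideal.mem_bot]
    apply hinj
    intro i
    have h1 := (Ideal.mem_iInf.mp ha.1.2) i
    rw [Ideal.mem_comap, pow_succ, hn, Ideal.zero_eq_bot, Ideal.bot_mul, Ideal.map_bot,
      Ideal.mem_bot] at h1
    exact h1
  exact eq_zero_of_comesFrom_bot ((hall n ∅).mono hbot bot_le)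

end Family

end Groth.Agent.Lib.FlatInjNil88
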