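import Groth.Agent.Lib.FlatLimDirected88

/-!
# EGA IV 11.2.6.1-type statement: flatness over a directed colimit, finitely presented data
(helper88)
-/

set_option autoImplicit false
set_option maxHeartbeats 400000
set_option linter.style.haveILetI false

namespace Groth.Agent.Lib.FlatLimDirectedFP88

open TensorProduct Function Groth.Agent.Lib.FlatLimStage88 Groth.Agent.Lib.FlatLimGlobal88
  Groth.Agent.Lib.FlatLimModel88 Groth.Agent.Lib.FlatLimDirected88
open scoped Groth.Agent.Lib.FlatLimStage88

universe u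

set_option synthInstance.maxHeartbeats 400000 in
theorem flat_directed_iff {A₀ : Type u} [CommRing A₀]
    {ι : Type u} [Preorder ι] (G : ι → Type u) [∀ i, CommRing (G i)] [∀ i, Algebra A₀ (G i)]
    (g : ∀ i j, i ≤ j → G i →ₐ[A₀] G j)
    (A : Type u) [CommRing A] [Algebra A₀ A] [∀ i, Algebra (G i) A] [∀ i, IsScalarTower A₀ (G i) A]
    (hcolim : FlatCA.IsDirectedColimitRing G (fun i j h => (g i j h).toRingHom) A)
    {B₀ : Type u} [CommRing B₀] [Algebra A₀ B₀] [Algebra.FinitePresentation A₀ B₀]
    (M₀ : Type u) [AddCommGroup M₀] [Module B₀ M₀] [Module A₀ M₀] [IsScalarTower A₀ B₀ M₀]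
    [Module.FinitePresentation B₀ M₀] :
    Module.Flat A (A ⊗[A₀] M₀) ↔ ∃ i : ι, Module.Flat (G i) (G i ⊗[A₀] M₀) := by
  classical
  constructor
  · intro hflat
    -- presentation of the module
    obtain ⟨n, m, f, gg, hf, hex⟩ := Module.FinitePresentation.exists_fin' B₀ M₀
    let u : Fin m → Fin n → B₀ := fun j => gg (Pi.single j 1)
    have hu : LinearMap.ker f = Submodule.span B₀ (Set.range u) := by
      rw [(LinearMap.exact_iff).mp hex, LinearMap.range_eq_map, ← (Pi.basisFun B₀ (Fin m)).span_eq,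
        Submodule.map_span, ← Set.range_comp]
      congr 2
      funext j
      simp [u, Pi.basisFun_apply]
    obtain ⟨k, _, _, S₀, _, _, e, ub, hk, hS₀, hub⟩ := exists_model_data (R := A₀) (S := B₀) u
    haveI : IsNoetherianRing k := Algebra.FiniteType.isNoetherianRing ℤ k
    letI : Module k M₀ := Module.compHom M₀ (algebraMap k A₀)
    haveI : IsScalarTower k A₀ M₀ := IsScalarTower.of_algebraMap_smul fun _ _ => rfl
    let ε : A₀ ⊗[k] Model0 ub ≃ₗ[A₀] M₀ := modelEquiv e f u hub hu hf
    -- `k`-algebra structures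
    letI algA : Algebra k A := ((algebraMap A₀ A).comp (algebraMap k A₀)).toAlgebra
    haveI : IsScalarTower k A₀ A := IsScalarTower.of_algebraMap_eq fun _ => rfl
    letI algG : ∀ i, Algebra k (G i) := fun i =>
      ((algebraMap A₀ (G i)).comp (algebraMap k A₀)).toAlgebra
    haveI : ∀ i, IsScalarTower k A₀ (G i) := fun i => IsScalarTower.of_algebraMap_eq fun _ => rfl
    haveI : ∀ i, IsScalarTower k (G i) A := fun i => IsScalarTower.of_algebraMap_eq fun c => by
      change algebraMap A₀ A (algebraMap k A₀ c) = algebraMap (G i) A (algebraMap A₀ (G i) (algebraMap k A₀ c))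
      rw [← IsScalarTower.algebraMap_apply A₀ (G i) A]
    -- transfer of flatness
    have key : ∀ (T : Type u) [CommRing T] [Algebra A₀ T] [Algebra k T] [IsScalarTower k A₀ T],
        Nonempty ((T ⊗[A₀] M₀) ≃ₗ[T] (T ⊗[k] Model0 ub)) := fun T _ _ _ _ =>
      ⟨(AlgebraTensorModule.congr (LinearEquiv.refl T T) ε.symm) ≪≫ₗ
        (AlgebraTensorModule.cancelBaseChange k A₀ T T (Model0 ub))⟩
    obtain ⟨eA⟩ := key A
    haveI : Module.Flat A (A ⊗[k] Model0 ub) := Module.Flat.of_linearEquiv eA.symm
    obtain ⟨i, hi⟩ := exists_flat_stage_of_directed (k := k) S₀ (M₀ := Model0 ub) G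
      (fun i j h => (g i j h).toRingHom)
      (fun i j h c => by
        change g i j h (algebraMap A₀ (G i) (algebraMap k A₀ c)) =
          algebraMap A₀ (G j) (algebraMap k A₀ c)
        rw [AlgHom.commutes]) A hcolim
    obtain ⟨eG⟩ := key (G i)
    exact ⟨i, Module.Flat.of_linearEquiv eG⟩
  · rintro ⟨i, hi⟩
    haveI : Module.Flat A (A ⊗[G i] (G i ⊗[A₀] M₀)) := inferInstance
    exact Module.Flat.of_linearEquiv
      (AlgebraTensorModule.cancelBaseChange A₀ (G i) A A M₀).symm

end Groth.Agent.Lib.FlatLimDirectedFP88
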