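import Groth.Agent.Lib.Ferrand88
import Groth.Agent.Lib.FlatLimDirectedFP88

/-!
# Descent of flatness along injective integral ring maps (Stacks 0533) (helper88)

* `isDirectedColimitRing_fg_subalgebras`: an algebra is the directed colimit of its finitely
  generated subalgebras.
* `flat_of_integral_injective`: `R → S` injective integral, `M` finitely presented over a finitely
  presented `R`-algebra, `S ⊗[R] M` flat over `S` ⇒ `M` flat over `R`.
-/

set_option autoImplicit false
set_option maxHeartbeats 400000
set_option linter.style.haveILetI false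

namespace Groth.Agent.Lib.FlatIntegralInj88

open TensorProduct Function

universe u

section Colim

variable (R S : Type u) [CommRing R] [CommRing S] [Algebra R S]

/-- The index type of finitely generated subalgebras. -/
abbrev FGSub : Type u := {A : Subalgebra R S // A.FG}

theorem isDirectedColimitRing_fg_subalgebras :
    FlatCA.IsDirectedColimitRing (ι := FGSub R S) (fun i => ↥i.1)
      (fun i j h => (Subalgebra.inclusion (S := i.1) (T := j.1) h).toRingHom) S := by
  refine ⟨⟨fun i j => ⟨⟨i.1 ⊔ j.1, i.2.sup j.2⟩, ?_, ?_⟩⟩, ⟨⟨⊥, Subalgebra.fg_bot⟩⟩, ?_, ?_, ?_, ?_,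
    ?_⟩
  · exact (le_sup_left : i.1 ≤ i.1 ⊔ j.1)
  · exact (le_sup_right : j.1 ≤ i.1 ⊔ j.1)
  · intro i
    ext x
    rfl
  · intro i j k hij hjk
    ext x
    rfl
  · intro i j h
    ext x
    rfl
  · intro a
    refine ⟨⟨Algebra.adjoin R {a}, ?_⟩, ⟨a, Algebra.subset_adjoin (Set.mem_singleton a)⟩, rfl⟩
    exact Subalgebra.fg_def.mpr ⟨{a}, Set.finite_singleton a, rfl⟩
  · intro i x hx
    refine ⟨i, le_rfl, ?_⟩
    have : x = 0 := Subtype.ext hx
    rw [this, map_zero]

end Colim

/-- **Stacks 0533**: descent of flatness along an injective integral ring map, for modules finitely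
presented over a finitely presented algebra. -/
theorem flat_of_integral_injective {R S : Type u} [CommRing R] [CommRing S] [Algebra R S]
    [Algebra.IsIntegral R S] (hinj : Injective (algebraMap R S))
    (B₀ : Type u) [CommRing B₀] [Algebra R B₀] [Algebra.FinitePresentation R B₀]
    (M : Type u) [AddCommGroup M] [Module B₀ M] [Module R M] [IsScalarTower R B₀ M]
    [Module.FinitePresentation B₀ M] [Module.Flat S (S ⊗[R] M)] : Module.Flat R M := by
  classical
  obtain ⟨i, hi⟩ := (Groth.Agent.Lib.FlatLimDirectedFP88.flat_directed_iff (A₀ := R)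
    (ι := FGSub R S) (fun i => ↥i.1)
    (fun i j h => Subalgebra.inclusion (S := i.1) (T := j.1) h) S
    (isDirectedColimitRing_fg_subalgebras R S) (B₀ := B₀) M).mp inferInstance
  haveI : Algebra.IsIntegral R ↥i.1 := Algebra.IsIntegral.of_injective i.1.val Subtype.val_injective
  haveI : Algebra.FiniteType R ↥i.1 := (Subalgebra.fg_iff_finiteType i.1).mp i.2
  haveI : Module.Finite R ↥i.1 := Algebra.IsIntegral.finite
  have hinj' : Injective (algebraMap R ↥i.1) := by
    have h : (algebraMap R S : R → S) = (Subtype.val : ↥i.1 → S) ∘ algebraMap R ↥i.1 := rfl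
    rw [h] at hinj
    exact Injective.of_comp hinj
  exact Groth.Agent.Lib.Ferrand88.flat_of_finite_injective hinj' M

end Groth.Agent.Lib.FlatIntegralInj88
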