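import Groth.Agent.Lib.FlatIntegralInj88
import Groth.Agent.Lib.CritFibFib88

/-!
# Descent of flatness at a point along an injective integral base change (EGA IV 11.5.?)
(helper88)

* `flat_of_isPushout`: pushout form of Stacks 0533 in `CommRingCat`.
* `flat_stalkMap_of_integral_injective`: `A → A'` injective integral, `f : X ⟶ Spec A` locally of
  finite presentation, `X' = X ×_A A'` flat over `A'` at all points over `x` ⇒ `f` flat at `x`.
-/

set_option autoImplicit false
set_option maxHeartbeats 400000
set_option linter.style.haveILetI false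

namespace Groth.Agent.Lib.FlatIntegralInjSch88

open AlgebraicGeometry CategoryTheory Limits TensorProduct

universe u

/-- Pushout form of Stacks 0533. -/
theorem flat_of_isPushout {R S B P : CommRingCat.{u}} (φ : R ⟶ S) (ψ : R ⟶ B) (inl : S ⟶ P)
    (inr : B ⟶ P) (h : IsPushout φ ψ inl inr) (hinj : Function.Injective φ.hom)
    (hint : φ.hom.IsIntegral) (hfp : ψ.hom.FinitePresentation) (hflat : inl.hom.Flat) :
    ψ.hom.Flat := by
  algebraize [φ.hom, ψ.hom]
  let e := (CommRingCat.isPushout_tensorProduct R S B).isoIsPushout S B h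
  have he : CommRingCat.ofHom (Algebra.TensorProduct.includeLeftRingHom (R := R) (A := S) (B := B))
      ≫ e.hom = inl := (CommRingCat.isPushout_tensorProduct R S B).inl_isoIsPushout_hom S B h
  have h1 : (Algebra.TensorProduct.includeLeftRingHom (R := R) (A := S) (B := B)).Flat := by
    have h2 : (Algebra.TensorProduct.includeLeftRingHom (R := R) (A := S) (B := B)) =
        e.inv.hom.comp inl.hom := by
      rw [← he]
      ext s
      simp
    rw [h2]
    exact RingHom.Flat.comp hflat (RingHom.Flat.of_bijective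
      (ConcreteCategory.bijective_of_isIso e.inv))
  haveI : Module.Flat S (S ⊗[R] B) := (RingHom.flat_algebraMap_iff (R := S) (S := S ⊗[R] B)).mp h1
  haveI : Module.Flat R B :=
    Groth.Agent.Lib.FlatIntegralInj88.flat_of_integral_injective (R := R) (S := S) hinj B B
  exact (RingHom.flat_algebraMap_iff (R := R) (S := B)).mpr inferInstance

theorem flat_stalkMap_of_integral_injective {A A' : Type u} [CommRing A] [CommRing A']
    [Algebra A A'] [Algebra.IsIntegral A A'] (hinj : Function.Injective (algebraMap A A'))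
    {X : Scheme.{u}} (f : X ⟶ Spec (CommRingCat.of A)) [LocallyOfFinitePresentation f] (x : X)
    (h : ∀ x' : ↥(pullback f (Spec.map (CommRingCat.ofHom (algebraMap A A')))),
      (pullback.fst f _).base x' = x →
      ((pullback.snd f (Spec.map (CommRingCat.ofHom (algebraMap A A')))).stalkMap x').hom.Flat) :
    (f.stalkMap x).hom.Flat := by
  classical
  set g := Spec.map (CommRingCat.ofHom (algebraMap A A')) with hg
  haveI : IsIntegralHom g :=
    IsIntegralHom.SpecMap_iff.mpr (algebraMap_isIntegral_iff.mpr inferInstance)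
  let p := pullback.fst f g
  let p' := pullback.snd f g
  have hopen : IsOpen {x' : ↥(pullback f g) | (p'.stalkMap x').hom.Flat} :=
    Groth.Agent.Lib.CritFibFib88.isOpen_flat_locus p'
  let Z : Set X := p.base '' {x' | (p'.stalkMap x').hom.Flat}ᶜ
  have hZ : IsClosed Z := p.isClosedMap _ hopen.isClosed_compl
  have hxZ : x ∈ Zᶜ := by
    rintro ⟨x', hx', hxx'⟩
    exact hx' (h x' hxx')
  obtain ⟨_, ⟨V₀, hV₀, rfl⟩, hxV, hVZ⟩ :=
    X.isBasis_affineOpens.exists_subset_of_mem_open hxZ hZ.isOpen_compl
  obtain ⟨V, hVV⟩ : ∃ V : X.Opens, V = V₀ := ⟨V₀, rfl⟩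
  subst hVV
  have hV : IsAffineOpen V := hV₀
  haveI : IsAffine V.toScheme := hV
  let V' : (pullback f g).Opens := p ⁻¹ᵁ V
  have hpb : IsPullback (p ∣_ V) (V'.ι ≫ p') (V.ι ≫ f) g :=
    (isPullback_morphismRestrict p V).paste_vert (IsPullback.of_hasPullback f g)
  haveI : IsAffine V'.toScheme := IsAffine.of_isPullback hpb
  have hpo := (isPushout_appTop_of_isPullback hpb).flip
  -- flatness of the restricted projection
  haveI : Flat (V'.ι ≫ p') := by
    refine Flat.of_stalkMap _ fun v' => ?_
    rw [Scheme.Hom.stalkMap_comp]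
    refine RingHom.Flat.comp ?_ (Flat.stalkMap V'.ι v')
    by_contra hnf
    have hmem : p.base (V'.ι.base v') ∈ Z := ⟨V'.ι.base v', hnf, rfl⟩
    exact hVZ v'.2 hmem
  have hflat : (V'.ι ≫ p').appTop.hom.Flat := Scheme.Hom.flat_appTop _
  have hfp : (V.ι ≫ f).appTop.hom.FinitePresentation :=
    HasRingHomProperty.appTop (P := @LocallyOfFinitePresentation) _ inferInstance
  -- the base map
  have hgtop : g.appTop = (Scheme.ΓSpecIso (CommRingCat.of A)).hom ≫
      CommRingCat.ofHom (algebraMap A A') ≫ (Scheme.ΓSpecIso (CommRingCat.of A')).inv := by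
    rw [← Scheme.ΓSpecIso_naturality_assoc, Iso.hom_inv_id, Category.comp_id]
  have hginj : Function.Injective g.appTop.hom := by
    rw [hgtop]
    simp only [CommRingCat.hom_comp, RingHom.coe_comp]
    exact ((ConcreteCategory.bijective_of_isIso
      (Scheme.ΓSpecIso (CommRingCat.of A')).inv).injective.comp hinj).comp
        (ConcreteCategory.bijective_of_isIso (Scheme.ΓSpecIso (CommRingCat.of A)).hom).injective
  have hgint : g.appTop.hom.IsIntegral := by
    rw [hgtop]
    simp only [CommRingCat.hom_comp]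
    refine RingHom.IsIntegral.trans _ _ ?_ (RingHom.IsIntegral.trans _ _ ?_ ?_)
    · exact RingHom.IsIntegral.of_finite (RingHom.Finite.of_surjective _
        (ConcreteCategory.bijective_of_isIso (Scheme.ΓSpecIso (CommRingCat.of A)).hom).surjective)
    · exact algebraMap_isIntegral_iff.mpr inferInstance
    · exact RingHom.IsIntegral.of_finite (RingHom.Finite.of_surjective _
        (ConcreteCategory.bijective_of_isIso (Scheme.ΓSpecIso (CommRingCat.of A')).inv).surjective)
  have hVflat : (V.ι ≫ f).appTop.hom.Flat :=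
    flat_of_isPushout _ _ _ _ hpo hginj hgint hfp hflat
  haveI : Flat (V.ι ≫ f) := (HasRingHomProperty.iff_of_isAffine (P := @Flat)).mpr hVflat
  have h3 := Flat.stalkMap (V.ι ≫ f) ⟨x, hxV⟩
  exact Groth.Agent.Lib.CritFibFib88.flat_stalkMap_of_comp V.ι f ⟨x, hxV⟩ h3
    (Flat.stalkMap V.ι ⟨x, hxV⟩)

end Groth.Agent.Lib.FlatIntegralInjSch88
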