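import Groth.Agent.Lib.FlatLimTower88

/-!
# Flatness near a closed subset: an `Away` localization flat over the base (helper88)

If `A → R` is of finite presentation and flat at every prime containing `I R`, there is
`j ≡ 1 mod I R` with `R_j` flat over `A` (openness of the flat locus).
-/

open TensorProduct Function
set_option autoImplicit false
set_option maxHeartbeats 400000
universe u

namespace Groth.Agent.Lib.FlatLimAway88

open Groth.Agent.Lib.FlatLimTower88

variable {A R : Type u} [CommRing A] [CommRing R] [Algebra A R]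

/-- `Localization.AtPrime p` versus `LocalizedModule p.primeCompl R`, flatness over the base. -/
theorem flat_localizedModule_self_iff (p : Ideal R) [p.IsPrime] :
    Module.Flat A (LocalizedModule p.primeCompl R) ↔ Module.Flat A (Localization.AtPrime p) := by
  let e : LocalizedModule p.primeCompl R ≃ₗ[R] Localization.AtPrime p :=
    IsLocalizedModule.iso p.primeCompl (Algebra.linearMap R (Localization.AtPrime p))
  exact Module.Flat.equiv_iff (e.restrictScalars A)

/-- Flatness of `R_j` over `A` from flatness at all primes of `D(j)`. -/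
theorem flat_away_of_forall_prime (j : R)
    (H : ∀ (Q : Ideal R) [Q.IsPrime], j ∉ Q → Module.Flat A (LocalizedModule Q.primeCompl R)) :
    Module.Flat A (Localization.Away j) := by
  have h1 : Module.Flat A (LocalizedModule (Submonoid.powers j) R) := by
    apply flat_localizedModule_of_forall_prime
    intro Q hQ hdis
    apply H Q
    intro hj
    exact (Set.disjoint_left.mp hdis) (Submonoid.mem_powers j) hj
  let e : LocalizedModule (Submonoid.powers j) R ≃ₗ[R] Localization.Away j :=
    IsLocalizedModule.iso (Submonoid.powers j) (Algebra.linearMap R (Localization.Away j))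
  exact (Module.Flat.equiv_iff (e.restrictScalars A)).mp h1

/-- If `A → R` is of finite presentation and flat at all primes containing the ideal `J`, there is
`j` with `j - 1 ∈ J` and `R_j` flat over `A`. -/
theorem exists_away_flat [Algebra.FinitePresentation A R] (J : Ideal R)
    (h : ∀ (p : Ideal R) [p.IsPrime], J ≤ p → Module.Flat A (Localization.AtPrime p)) :
    ∃ j : R, j - 1 ∈ J ∧ Module.Flat A (Localization.Away j) := by
  classical
  have hopen := Groth.Agent.Lib.FlatLimFP88.isOpen_module_flat_locus (R := A) (S := R) (M := R)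
  set U : Set (PrimeSpectrum R) :=
    {q | Module.Flat A (LocalizedModule q.asIdeal.primeCompl R)} with hU
  have hZc : IsClosed Uᶜ := hopen.isClosed_compl
  let K : Ideal R := PrimeSpectrum.vanishingIdeal Uᶜ
  have hKZ : PrimeSpectrum.zeroLocus (K : Set R) = Uᶜ := by
    rw [PrimeSpectrum.zeroLocus_vanishingIdeal_eq_closure, hZc.closure_eq]
  -- K + J = ⊤
  have htop : K ⊔ J = ⊤ := by
    by_contra hne
    obtain ⟨m, hm, hle⟩ := Ideal.exists_le_maximal _ hne
    have hmp : m.IsPrime := hm.isPrime
    have hKm : K ≤ m := le_sup_left.trans hle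
    have hJm : J ≤ m := le_sup_right.trans hle
    have hmem : (⟨m, hmp⟩ : PrimeSpectrum R) ∈ Uᶜ := by
      rw [← hKZ]
      exact hKm
    apply hmem
    exact (flat_localizedModule_self_iff (A := A) m).mpr (h m hJm)
  obtain ⟨j, hj, i, hi, hji⟩ := Submodule.mem_sup.mp (htop ▸ (Submodule.mem_top : (1 : R) ∈ ⊤))
  refine ⟨j, ?_, ?_⟩
  · have : j - 1 = -i := by rw [← hji]; ring
    rw [this]
    exact J.neg_mem hi
  · apply flat_away_of_forall_prime
    intro Q hQ hjQ
    by_contra hnf
    have hmem : (⟨Q, hQ⟩ : PrimeSpectrum R) ∈ Uᶜ := hnf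
    rw [← hKZ] at hmem
    exact hjQ (hmem hj)

/-- For `j ≡ 1 mod J`, the map `R/J → R_j / J R_j` is bijective. -/
theorem bijective_quotientMap_away (J : Ideal R) (j : R) (hj : j - 1 ∈ J) :
    Function.Bijective (Ideal.quotientMap (J.map (algebraMap R (Localization.Away j)))
      (algebraMap R (Localization.Away j)) Ideal.le_comap_map) := by
  have hpow : ∀ n : ℕ, j ^ n - 1 ∈ J := by
    intro n
    induction n with
    | zero => simp
    | succ n ih =>
      have : j ^ (n + 1) - 1 = j ^ n * (j - 1) + (j ^ n - 1) := by ring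
      rw [this]
      exact J.add_mem (J.mul_mem_left _ hj) ih
  constructor
  · rw [injective_iff_map_eq_zero]
    intro x hx
    obtain ⟨r, rfl⟩ := Ideal.Quotient.mk_surjective x
    rw [Ideal.quotientMap_mk, Ideal.Quotient.eq_zero_iff_mem] at hx
    rw [Ideal.Quotient.eq_zero_iff_mem]
    rw [IsLocalization.mem_map_algebraMap_iff (Submonoid.powers j)] at hx
    obtain ⟨⟨⟨a, ha⟩, ⟨s, n, rfl⟩⟩, hx⟩ := hx
    simp only at hx
    rw [← map_mul] at hx
    obtain ⟨⟨c, m, rfl⟩, hc⟩ := (IsLocalization.eq_iff_exists (Submonoid.powers j) _).mp hx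
    simp only at hc
    -- j^m * (r * j^n) = j^m * a ∈ J
    have h1 : j ^ m * (r * j ^ n) ∈ J := by rw [hc]; exact J.mul_mem_left _ ha
    have h2 : r = j ^ m * (r * j ^ n) - r * (j ^ (m + n) - 1) := by ring
    rw [h2]
    exact J.sub_mem h1 (J.mul_mem_left _ (hpow _))
  · intro y
    obtain ⟨y, rfl⟩ := Ideal.Quotient.mk_surjective y
    obtain ⟨⟨r, ⟨s, n, rfl⟩⟩, hy⟩ := IsLocalization.surj (Submonoid.powers j) y
    simp only at hy
    refine ⟨Ideal.Quotient.mk _ r, ?_⟩
    rw [Ideal.quotientMap_mk, Ideal.Quotient.eq, ← hy]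
    have : y * algebraMap R (Localization.Away j) (j ^ n) - y =
        y * algebraMap R (Localization.Away j) (j ^ n - 1) := by
      rw [map_sub, map_one]; ring
    rw [this]
    exact Ideal.mul_mem_left _ _ (Ideal.mem_map_of_mem _ (hpow n))

end Groth.Agent.Lib.FlatLimAway88
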