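import Mathlib.RingTheory.Flat.Stability
import Mathlib.RingTheory.Flat.Localization
import Mathlib.RingTheory.Ideal.Over
import Mathlib.RingTheory.Localization.BaseChange
import Mathlib.RingTheory.Localization.FractionRing
import Mathlib.LinearAlgebra.Basis.VectorSpace
import Mathlib.Algebra.Module.LocalizedModule.IsLocalization

/-!
# Flatness modulo a prime for modules on which the complement acts invertibly (helper88)

* `flat_of_bijective_smul`: a module over a domain on which every nonzero element acts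
  bijectively is flat.
* `flat_quotient_of_units`: `I` prime in `k`, every `d ∉ I` acts bijectively on `Y`
  ⟹ `(k/I) ⊗ Y` is flat over `k/I`.
* `flat_quotient_baseChange`: `(k/I) ⊗ Y` flat over `k/I` ⟹ `(A/IA) ⊗_A (A ⊗_k Y)` flat over
  `A/IA`.
-/

set_option autoImplicit false
set_option maxHeartbeats 400000

namespace Groth.Agent.Lib.FlatLimBC88

open TensorProduct Function

/-- A module over a domain on which every nonzero element acts bijectively is flat. -/
theorem flat_of_bijective_smul {D : Type*} [CommRing D] [IsDomain D] {Z : Type*} [AddCommGroup Z]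
    [Module D Z] (h : ∀ d : D, d ≠ 0 → Bijective (fun z : Z => d • z)) : Module.Flat D Z := by
  have hloc : IsLocalizedModule (nonZeroDivisors D) (LinearMap.id : Z →ₗ[D] Z) :=
    { map_units := fun s => by
        rw [Module.End.isUnit_iff]
        exact h s (nonZeroDivisors.ne_zero s.2)
      surj := fun y => ⟨⟨y, 1⟩, by simp⟩
      exists_of_eq := fun {x₁ x₂} e => ⟨1, by simpa using e⟩ }
  have e : LocalizedModule (nonZeroDivisors D) Z ≃ₗ[D] Z :=
    IsLocalizedModule.iso (nonZeroDivisors D) (LinearMap.id : Z →ₗ[D] Z)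
  have : Module.Flat (FractionRing D) (LocalizedModule (nonZeroDivisors D) Z) := by
    have : Module.Free (FractionRing D) (LocalizedModule (nonZeroDivisors D) Z) :=
      Module.Free.of_divisionRing _ _
    infer_instance
  have : Module.Flat D (LocalizedModule (nonZeroDivisors D) Z) :=
    Module.Flat.trans D (FractionRing D) _
  exact Module.Flat.of_linearEquiv e.symm

section

variable {k : Type*} [CommRing k] (I : Ideal k) {Y : Type*} [AddCommGroup Y] [Module k Y]

/-- `I` prime and every `d ∉ I` acts bijectively on `Y` ⟹ `(k/I) ⊗ Y` is flat over `k/I`. -/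
theorem flat_quotient_of_units [I.IsPrime]
    (h : ∀ d : k, d ∉ I → Bijective (fun y : Y => d • y)) :
    Module.Flat (k ⧸ I) ((k ⧸ I) ⊗[k] Y) := by
  apply flat_of_bijective_smul
  intro d hd
  obtain ⟨d, rfl⟩ := Ideal.Quotient.mk_surjective d
  have hd' : d ∉ I := fun hh => hd (Ideal.Quotient.eq_zero_iff_mem.mpr hh)
  obtain ⟨g, hg1, hg2⟩ := Function.bijective_iff_has_inverse.mp (h d hd')
  have hg2' : ∀ x, d • g x = x := hg2
  have hgadd : ∀ x y, g (x + y) = g x + g y := by
    intro x y
    apply (h d hd').1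
    simp only [smul_add]
    rw [hg2' (x + y), hg2' x, hg2' y]
  have hgsmul : ∀ (c : k) x, g (c • x) = c • g x := by
    intro c x
    apply (h d hd').1
    simp only
    rw [hg2' (c • x), smul_comm, hg2' x]
  let G : Y →ₗ[k] Y := { toFun := g, map_add' := hgadd, map_smul' := hgsmul }
  have key : ∀ z : (k ⧸ I) ⊗[k] Y, (Ideal.Quotient.mk I d) • z =
      (Algebra.lsmul k k Y d).lTensor (k ⧸ I) z := by
    intro z
    induction z with
    | zero => simp
    | add x y hx hy => simp only [smul_add, map_add, hx, hy]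
    | tmul r y =>
      have : (Ideal.Quotient.mk I d) • r = d • r := by
        rw [Algebra.smul_def d r, Ideal.Quotient.algebraMap_eq, smul_eq_mul]
      rw [TensorProduct.smul_tmul', this, TensorProduct.smul_tmul]
      rfl
  rw [Function.bijective_iff_has_inverse]
  refine ⟨G.lTensor (k ⧸ I), ?_, ?_⟩
  · intro z
    simp only
    rw [key, ← LinearMap.comp_apply, ← LinearMap.lTensor_comp]
    have : G ∘ₗ (Algebra.lsmul k k Y d) = LinearMap.id := by
      ext y; exact hg1 y
    rw [this, LinearMap.lTensor_id, LinearMap.id_apply]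
  · intro z
    simp only
    rw [key, ← LinearMap.comp_apply, ← LinearMap.lTensor_comp]
    have : (Algebra.lsmul k k Y d : Y →ₗ[k] Y) ∘ₗ G = LinearMap.id := by
      ext y; exact hg2' y
    rw [this, LinearMap.lTensor_id, LinearMap.id_apply]

variable (A : Type*) [CommRing A] [Algebra k A]

/-- Flatness of `Y/IY` over `k/I` passes to `A ⊗ Y` modulo `IA`. -/
theorem flat_quotient_baseChange [Module.Flat (k ⧸ I) ((k ⧸ I) ⊗[k] Y)] :
    Module.Flat (A ⧸ I.map (algebraMap k A))
      ((A ⧸ I.map (algebraMap k A)) ⊗[A] (A ⊗[k] Y)) := by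
  have e1 : (A ⧸ I.map (algebraMap k A)) ⊗[A] (A ⊗[k] Y) ≃ₗ[A ⧸ I.map (algebraMap k A)]
      (A ⧸ I.map (algebraMap k A)) ⊗[k] Y :=
    AlgebraTensorModule.cancelBaseChange k A (A ⧸ I.map (algebraMap k A))
      (A ⧸ I.map (algebraMap k A)) Y
  have e2 : (A ⧸ I.map (algebraMap k A)) ⊗[k ⧸ I] ((k ⧸ I) ⊗[k] Y)
      ≃ₗ[A ⧸ I.map (algebraMap k A)] (A ⧸ I.map (algebraMap k A)) ⊗[k] Y :=
    AlgebraTensorModule.cancelBaseChange k (k ⧸ I) (A ⧸ I.map (algebraMap k A))
      (A ⧸ I.map (algebraMap k A)) Y
  have : Module.Flat (A ⧸ I.map (algebraMap k A))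
      ((A ⧸ I.map (algebraMap k A)) ⊗[k ⧸ I] ((k ⧸ I) ⊗[k] Y)) := inferInstance
  exact Module.Flat.of_linearEquiv (e1.trans e2.symm)

end

end Groth.Agent.Lib.FlatLimBC88
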