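import Groth.Agent.Lib.FlatLimLoc88
import Groth.Agent.Lib.FlatLimStage88
import Groth.Agent.Lib.FlatLimBC88
import Mathlib.RingTheory.Localization.Finiteness
import Mathlib.RingTheory.Localization.AtPrime.Basic
import Mathlib.LinearAlgebra.TensorProduct.Vanishing
import Mathlib.RingTheory.FiniteStability

/-!
# Flatness at a prime descends to a finitely generated stage (helper88)
-/

set_option autoImplicit false
set_option maxHeartbeats 400000

namespace Groth.Agent.Lib.FlatLimCore88

open TensorProduct Function Groth.Agent.Lib.FlatLimT88 Groth.Agent.Lib.FlatLimLoc88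
  Groth.Agent.Lib.FlatLimStage88 Groth.Agent.Lib.FlatLimBC88
open scoped Groth.Agent.Lib.FlatLimStage88

section PhiSmul

variable {k : Type*} [CommRing k] (I : Ideal k) (A : Type*) [CommRing A] [Algebra k A]
  {S : Type*} [CommRing S] [Algebra k S]
  {M : Type*} [AddCommGroup M] [Module k M] [Module S M] [IsScalarTower k S M]

theorem Phi_smul (s : S) (t : M ⊗[k] I) :
    Phi I A M (s • t) = ((1 : A) ⊗ₜ[k] s) • Phi I A M t := by
  induction t with
  | zero => simp
  | add x y hx hy => simp only [smul_add, map_add, hx, hy]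
  | tmul m i =>
    rw [TensorProduct.smul_tmul', Phi_tmul, Phi_tmul, TensorProduct.smul_tmul', tmul_smul_tmul,
      one_mul]

end PhiSmul

section StageFlat

variable {k : Type*} [CommRing k] (I : Ideal k) (A : Type*) [CommRing A] [Algebra k A]
  {S : Type*} [CommRing S] [Algebra k S]
  {M : Type*} [AddCommGroup M] [Module k M] [Module S M] [IsScalarTower k S M]
  (qA : Ideal (A ⊗[k] S))

omit I in
theorem one_tmul_algebraMap (d : k) :
    (1 : A) ⊗ₜ[k] (algebraMap k S d) = algebraMap k (A ⊗[k] S) d := by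
  rw [Algebra.TensorProduct.algebraMap_apply, Algebra.algebraMap_eq_smul_one,
    Algebra.algebraMap_eq_smul_one, TensorProduct.tmul_smul, TensorProduct.smul_tmul']


variable [I.IsPrime] [IsNoetherianRing A] [IsNoetherianRing (A ⊗[k] S)] [Module.Finite S M]
  [qA.IsPrime]

/-- **Stage criterion.** `A` Noetherian `k`-algebra with `A ⊗ S` Noetherian, `M` finite over `S`,
`qA` a prime of `A ⊗ S` lying over the prime `I` of `k`. If every element of
`ker (M ⊗ I → M)` has its image in `(A ⊗ M) ⊗_A IA` killed by an element outside `qA`, then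
`(A ⊗ M)_{qA}` is flat over `A`. -/
theorem flat_stage_of_V
    (hqI : qA.comap (algebraMap k (A ⊗[k] S)) = I)
    (hV : ∀ t : M ⊗[k] I, mu I M t = 0 → ∃ v, v ∉ qA ∧ v • Phi I A M t = 0) :
    Module.Flat A (LocalizedModule qA.primeCompl (A ⊗[k] M)) := by
  classical
  set W : Submonoid S := Algebra.algebraMapSubmonoid S I.primeCompl with hW
  let Y := LocalizedModule W M
  let ι : M →ₗ[S] Y := LocalizedModule.mkLinearMap W M
  have hunits : ∀ d : k, d ∉ I → Bijective (fun y : Y => d • y) := by
    intro d hd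
    have hdW : algebraMap k S d ∈ W := ⟨d, hd, rfl⟩
    have := IsLocalizedModule.map_units ι ⟨_, hdW⟩
    rw [Module.End.isUnit_iff] at this
    have e : (fun y : Y => d • y) = fun y => (algebraMap S (Module.End S Y) (algebraMap k S d)) y := by
      funext y
      simp
    rw [e]
    exact this
  have : Module.Flat (k ⧸ I) ((k ⧸ I) ⊗[k] Y) := flat_quotient_of_units I hunits
  have := flat_quotient_baseChange I A (Y := Y)
  have hWV : stageSubmonoid k A W ≤ qA.primeCompl := by
    intro x hx
    obtain ⟨w, ⟨d, hd, rfl⟩, rfl⟩ := (mem_stageSubmonoid k A W).mp hx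
    rw [one_tmul_algebraMap]
    intro h
    apply hd
    rw [← hqI]
    exact h
  let lam := lamOf k A W ι qA.primeCompl hWV
  refine flat_of_localized (I.map (algebraMap k A)) (C := A ⊗[k] S) (X := A ⊗[k] Y)
    (X' := LocalizedModule qA.primeCompl (A ⊗[k] M)) qA.primeCompl
    lam (Localization qA.primeCompl) ?hJ ?h2
  case hJ =>
    rw [IsLocalRing.jacobson_eq_maximalIdeal ⊥ bot_ne_top, Ideal.map_map,
      Ideal.map_le_iff_le_comap]
    intro d hd
    rw [Ideal.mem_comap, RingHom.comp_apply, ← IsScalarTower.algebraMap_apply k A,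
      IsScalarTower.algebraMap_apply k (A ⊗[k] S) (Localization qA.primeCompl),
      ← Localization.AtPrime.map_eq_maximalIdeal]
    apply Ideal.mem_map_of_mem
    rw [← hqI] at hd
    exact hd
  case h2 =>
    intro z hz
    have hz' : z ∈ LinearMap.ker (mu (I.map (algebraMap k A)) (A ⊗[k] Y)) := hz
    have hspan := ker_mu_le_span I A (N := Y) hz'
    refine Submodule.span_induction
      (p := fun z _ => (AlgebraTensorModule.rTensor A (I.map (algebraMap k A)) lam) z = 0)
      ?_ ?_ ?_ ?_ hspan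
    · rintro _ ⟨t, ht, rfl⟩
      obtain ⟨w, t₀, ht₀, e⟩ := exists_smul_eq_rTensor I W ι (z' := t) ht
      obtain ⟨v, hv, hv0⟩ := hV t₀ ht₀
      have c1 : ∀ x, (AlgebraTensorModule.rTensor A (I.map (algebraMap k A)) (stageMap k A ι)) x =
          (((ι.restrictScalars k).baseChange A).rTensor (I.map (algebraMap k A))) x := by
        intro x
        induction x with
        | zero => simp
        | add x y hx hy => simp only [map_add, hx, hy]
        | tmul x j => 
          simp only [AlgebraTensorModule.rTensor_tmul, LinearMap.rTensor_tmul]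
          congr 1
      have c2 : ∀ x, (AlgebraTensorModule.rTensor A (I.map (algebraMap k A)) lam)
          ((AlgebraTensorModule.rTensor A (I.map (algebraMap k A)) (stageMap k A ι)) x) =
          (AlgebraTensorModule.rTensor A (I.map (algebraMap k A))
            (LocalizedModule.mkLinearMap qA.primeCompl (A ⊗[k] M))) x := by
        intro x
        induction x with
        | zero => simp
        | add x y hx hy => simp only [map_add, hx, hy]
        | tmul x j =>
          simp only [AlgebraTensorModule.rTensor_tmul]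
          rw [lamOf_stageMap]
      have e1 : ((1 : A) ⊗ₜ[k] (w : S)) • Phi I A Y t =
          (AlgebraTensorModule.rTensor A (I.map (algebraMap k A)) (stageMap k A ι))
            (Phi I A M t₀) := by
        rw [← Phi_smul, ← Submonoid.smul_def, e, c1, rTensor_Phi]
        rfl
      have hmem : v * ((1 : A) ⊗ₜ[k] (w : S)) ∈ qA.primeCompl := by
        apply Submonoid.mul_mem _ hv
        exact hWV ((mem_stageSubmonoid k A W).mpr ⟨w, w.2, rfl⟩)
      apply IsLocalizedModule.smul_injective
        (AlgebraTensorModule.rTensor A (I.map (algebraMap k A)) lam) ⟨_, hmem⟩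
      simp only
      rw [smul_zero, Submonoid.smul_def]
      rw [← map_smul, mul_smul, e1,
        ← map_smul (AlgebraTensorModule.rTensor A (I.map (algebraMap k A)) (stageMap k A ι)),
        c2, hv0, map_zero]
    · simp
    · intro x y _ _ hx hy
      rw [map_add, hx, hy, add_zero]
    · intro a x _ hx
      rw [LinearMap.map_smul_of_tower, hx, smul_zero]

end StageFlat

section Lift

variable {k : Type*} [CommRing k] {R : Type*} [CommRing R] [Algebra k R]
  (N : Type*) [AddCommGroup N] [Module k N]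

theorem mMap_mMap {A B C : Type*} [CommRing A] [Algebra k A] [CommRing B] [Algebra k B]
    [CommRing C] [Algebra k C] (φ : A →ₐ[k] B) (ψ : B →ₐ[k] C) (x : A ⊗[k] N) :
    mMap ψ N (mMap φ N x) = mMap (ψ.comp φ) N x := by
  induction x with
  | zero => simp
  | add x y hx hy => simp only [map_add, hx, hy]
  | tmul a n => simp

theorem sMap_eq_mMap {A B : Type*} [CommRing A] [Algebra k A] [CommRing B] [Algebra k B]
    (φ : A →ₐ[k] B) (S : Type*) [CommRing S] [Algebra k S] (x : A ⊗[k] S) :
    sMap φ S x = mMap φ S x := by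
  induction x with
  | zero => simp
  | add x y hx hy => simp only [map_add, hx, hy]
  | tmul a n => simp

theorem mMap_val_inclusion {A B : Subalgebra k R} (h : A ≤ B) (x : A ⊗[k] N) :
    mMap B.val N (mMap (Subalgebra.inclusion h) N x) = mMap A.val N x := by
  rw [mMap_mMap, Subalgebra.val_comp_inclusion]

theorem fg_finset_sup {ι : Type*} (s : Finset ι) (A : ι → Subalgebra k R) (hA : ∀ i, (A i).FG) :
    (s.sup A).FG :=
  Finset.sup_induction Subalgebra.fg_bot (fun _ h₁ _ h₂ => h₁.sup h₂) (fun i _ => hA i)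

/-- Finitely many elements of `R ⊗ N` come from a finitely generated subalgebra. -/
theorem exists_fg_lift {ι : Type*} [Fintype ι] (u : ι → R ⊗[k] N) :
    ∃ A : Subalgebra k R, A.FG ∧ ∀ l, ∃ x : A ⊗[k] N, mMap A.val N x = u l := by
  classical
  choose A hA hu using fun l => TensorProduct.Algebra.exists_of_fg (u l)
  refine ⟨Finset.univ.sup A, fg_finset_sup _ A hA, fun l => ?_⟩
  obtain ⟨x, hx⟩ := hu l
  have hle : A l ≤ Finset.univ.sup A := Finset.le_sup (Finset.mem_univ l)
  refine ⟨mMap (Subalgebra.inclusion hle) N x, ?_⟩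
  rw [mMap_val_inclusion]
  exact hx

/-- Finitely many elements of `A₀ ⊗ N` dying in `R ⊗ N` die at a finitely generated stage. -/
theorem exists_fg_eq_zero {ι : Type*} [Fintype ι] {A₀ : Subalgebra k R} (hA₀ : A₀.FG)
    (E : ι → A₀ ⊗[k] N) (hE : ∀ i, mMap A₀.val N (E i) = 0) :
    ∃ (B : Subalgebra k R) (hAB : A₀ ≤ B), B.FG ∧
      ∀ i, mMap (Subalgebra.inclusion hAB) N (E i) = 0 := by
  classical
  have key : ∀ i, ∃ (B : Subalgebra k R) (hAB : A₀ ≤ B), B.FG ∧
      mMap (Subalgebra.inclusion hAB) N (E i) = 0 := by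
    intro i
    obtain ⟨B, hAB, hB, h⟩ := TensorProduct.Algebra.eq_of_fg_of_subtype_eq hA₀ (t := E i)
      (t' := 0) (by rw [map_zero]; exact hE i)
    exact ⟨B, hAB, hB, by rw [map_zero] at h; exact h⟩
  choose B hAB hB h using key
  have hle : ∀ i, B i ≤ A₀ ⊔ Finset.univ.sup B := fun i =>
    le_trans (Finset.le_sup (Finset.mem_univ i)) le_sup_right
  refine ⟨A₀ ⊔ Finset.univ.sup B, le_sup_left, hA₀.sup (fg_finset_sup _ B hB), fun i => ?_⟩
  have : mMap (Subalgebra.inclusion (le_sup_left : A₀ ≤ A₀ ⊔ Finset.univ.sup B)) N (E i) =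
      mMap (Subalgebra.inclusion (hle i)) N (mMap (Subalgebra.inclusion (hAB i)) N (E i)) := by
    rw [mMap_mMap]
    rfl
  rw [this, h, map_zero]

end Lift

section Repr

variable {k : Type*} [CommRing k] {I : Ideal k} {r : ℕ} (a : Fin r → I)
  {M : Type*} [AddCommGroup M] [Module k M]

theorem exists_repr (ha : Submodule.span k (Set.range a) = ⊤) (t : M ⊗[k] I) :
    ∃ m : Fin r → M, t = ∑ i, m i ⊗ₜ[k] a i := by
  induction t with
  | zero => exact ⟨0, by simp⟩
  | add x y hx hy =>
    obtain ⟨m, rfl⟩ := hx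
    obtain ⟨m', rfl⟩ := hy
    exact ⟨m + m', by simp [TensorProduct.add_tmul, Finset.sum_add_distrib]⟩
  | tmul x j =>
    have hj : j ∈ Submodule.span k (Set.range a) := by rw [ha]; trivial
    obtain ⟨c, rfl⟩ := (Submodule.mem_span_range_iff_exists_fun k).mp hj
    refine ⟨fun i => c i • x, ?_⟩
    rw [TensorProduct.tmul_sum]
    simp only [TensorProduct.tmul_smul, TensorProduct.smul_tmul']

variable (B : Type*) [CommRing B] [Algebra k B]

theorem span_idealMap_eq_top (ha : Submodule.span k (Set.range a) = ⊤) :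
    Submodule.span B (Set.range (fun i => Algebra.idealMap B I (a i))) = ⊤ := by
  have hI : I = Ideal.span (Set.range (fun i => (a i : k))) := by
    have := congrArg (Submodule.map I.subtype) ha
    rw [Submodule.map_span, Submodule.map_top, Submodule.range_subtype, ← Set.range_comp] at this
    exact this.symm
  apply Submodule.map_injective_of_injective (I.map (algebraMap k B)).injective_subtype
  rw [Submodule.map_span, Submodule.map_top, Submodule.range_subtype, ← Set.range_comp]
  conv_rhs => rw [hI, Ideal.map_span, ← Set.range_comp]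
  rfl

end Repr

section TVsec

variable {k : Type*} [CommRing k] {I : Ideal k} {r : ℕ} (a : Fin r → I)
  {S : Type*} [CommRing S] [Algebra k S]
  {M : Type*} [AddCommGroup M] [Module k M] [Module S M] [IsScalarTower k S M]

/-- Trivial-vanishing data for `v • Phi t` over a `k`-algebra `B`. -/
def TV (B : Type*) [CommRing B] [Algebra k B] (v : B ⊗[k] S) (t : M ⊗[k] I) : Prop :=
  ∃ m : Fin r → M, t = ∑ i, m i ⊗ₜ[k] a i ∧
    ∃ (n : ℕ) (c : Fin r → Fin n → B) (y : Fin n → B ⊗[k] M),
      (∀ i, v • ((1 : B) ⊗ₜ[k] m i) = ∑ l, c i l • y l) ∧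
      ∀ l, ∑ i, c i l * algebraMap k B (a i : k) = 0

variable {a}

theorem TV.map {B B' : Type*} [CommRing B] [Algebra k B] [CommRing B'] [Algebra k B']
    (φ : B →ₐ[k] B') {v : B ⊗[k] S} {t : M ⊗[k] I} (h : TV a B v t) :
    TV a B' (sMap φ S v) t := by
  obtain ⟨m, ht, n, c, y, h1, h2⟩ := h
  refine ⟨m, ht, n, fun i l => φ (c i l), fun l => mMap φ M (y l), fun i => ?_, fun l => ?_⟩
  · have := congrArg (mMap φ M) (h1 i)
    rw [mMap_smul, map_sum] at this
    simp only [mMap_smul', mMap_tmul, map_one] at this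
    exact this
  · have := congrArg φ (h2 l)
    rw [map_sum, map_zero] at this
    simpa only [map_mul, AlgHom.commutes] using this

theorem TV.smul_Phi {B : Type*} [CommRing B] [Algebra k B] {v : B ⊗[k] S} {t : M ⊗[k] I}
    (h : TV a B v t) : v • Phi I B M t = 0 := by
  obtain ⟨m, ht, n, c, y, h1, h2⟩ := h
  have h2' : ∀ l, ∑ i, c i l • (Algebra.idealMap B I (a i)) = 0 := by
    intro l
    apply Subtype.ext
    rw [Submodule.coe_sum]
    simpa using h2 l
  rw [ht, map_sum, Finset.smul_sum]
  simp only [Phi_tmul, TensorProduct.smul_tmul', h1, TensorProduct.sum_tmul]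
  rw [Finset.sum_comm]
  apply Finset.sum_eq_zero
  intro l _
  simp only [TensorProduct.smul_tmul]
  rw [← TensorProduct.tmul_sum, h2', tmul_zero]


theorem TV.of_smul_Phi (ha : Submodule.span k (Set.range a) = ⊤)
    {B : Type*} [CommRing B] [Algebra k B] {v : B ⊗[k] S} {t : M ⊗[k] I}
    (h : v • Phi I B M t = 0) : TV a B v t := by
  obtain ⟨m, ht⟩ := exists_repr a ha t
  refine ⟨m, ht, ?_⟩
  have h0 : ∑ i, (Algebra.idealMap B I (a i)) ⊗ₜ[B] (v • ((1 : B) ⊗ₜ[k] m i)) = 0 := by
    have := congrArg (TensorProduct.comm B (B ⊗[k] M) (I.map (algebraMap k B))) h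
    rw [ht, map_sum, Finset.smul_sum, map_sum, map_zero] at this
    simpa only [Phi_tmul, TensorProduct.smul_tmul', TensorProduct.comm_tmul] using this
  obtain ⟨n, c, y, h1, h2⟩ := TensorProduct.vanishesTrivially_of_sum_tmul_eq_zero B
    (span_idealMap_eq_top a B ha) h0
  refine ⟨n, c, y, h1, fun l => ?_⟩
  have := congrArg Subtype.val (h2 l)
  rw [Submodule.coe_sum] at this
  simpa using this

theorem TV.descend {R : Type*} [CommRing R] [Algebra k R] {v : R ⊗[k] S} {t : M ⊗[k] I}
    (h : TV a R v t) :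
    ∃ A : Subalgebra k R, A.FG ∧ ∃ v' : A ⊗[k] S, sMap A.val S v' = v ∧ TV a A v' t := by
  classical
  obtain ⟨m, ht, n, c, y, h1, h2⟩ := h
  -- lifts
  obtain ⟨A₁, hA₁, hy⟩ := exists_fg_lift M y
  obtain ⟨A₂, hA₂, hv⟩ := exists_fg_lift S (fun _ : Unit => v)
  let A₃ : Subalgebra k R := Algebra.adjoin k (Set.range (fun p : Fin r × Fin n => c p.1 p.2))
  have hA₃ : A₃.FG := Subalgebra.fg_def.mpr ⟨_, Set.finite_range _, rfl⟩
  have hc : ∀ i l, c i l ∈ A₃ := fun i l => Algebra.subset_adjoin ⟨(i, l), rfl⟩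
  let A₀ := A₁ ⊔ A₂ ⊔ A₃
  have hA₀ : A₀.FG := (hA₁.sup hA₂).sup hA₃
  have le₁ : A₁ ≤ A₀ := le_trans le_sup_left le_sup_left
  have le₂ : A₂ ≤ A₀ := le_trans le_sup_right le_sup_left
  have le₃ : A₃ ≤ A₀ := le_sup_right
  choose y₁ hy₁ using hy
  obtain ⟨v₂, hv₂⟩ := hv ()
  let y₀ : Fin n → A₀ ⊗[k] M := fun l => mMap (Subalgebra.inclusion le₁) M (y₁ l)
  have hy₀ : ∀ l, mMap A₀.val M (y₀ l) = y l := fun l => by
    rw [mMap_val_inclusion]; exact hy₁ l
  let v₀ : A₀ ⊗[k] S := sMap (Subalgebra.inclusion le₂) S v₂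
  have hv₀ : sMap A₀.val S v₀ = v := by
    rw [sMap_eq_mMap]
    simp only [v₀]
    rw [sMap_eq_mMap, mMap_val_inclusion]; exact hv₂
  let c₀ : Fin r → Fin n → A₀ := fun i l => ⟨c i l, le₃ (hc i l)⟩
  -- the equations
  let E : Fin r → A₀ ⊗[k] M := fun i => v₀ • ((1 : A₀) ⊗ₜ[k] m i) - ∑ l, c₀ i l • y₀ l
  have hE : ∀ i, mMap A₀.val M (E i) = 0 := by
    intro i
    simp only [E, map_sub, map_sum, mMap_smul, mMap_smul', hy₀, hv₀, mMap_tmul, map_one]
    rw [h1 i, sub_eq_zero]
    rfl
  obtain ⟨B, hAB, hB, hEB⟩ := exists_fg_eq_zero M hA₀ E hE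
  refine ⟨B, hB, sMap (Subalgebra.inclusion hAB) S v₀, ?_, m, ht, n,
    fun i l => Subalgebra.inclusion hAB (c₀ i l),
    fun l => mMap (Subalgebra.inclusion hAB) M (y₀ l), fun i => ?_, fun l => ?_⟩
  · rw [sMap_eq_mMap, sMap_eq_mMap, mMap_val_inclusion, ← sMap_eq_mMap]; exact hv₀
  · have := hEB i
    simp only [E, map_sub, map_sum, mMap_smul, mMap_smul', mMap_tmul, map_one] at this
    exact sub_eq_zero.mp this
  · apply Subtype.ext
    have := h2 l
    simpa using this

end TVsec

section Top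

variable {k : Type*} [CommRing k] (I : Ideal k)
  {S : Type*} [CommRing S] [Algebra k S]
  {M : Type*} [AddCommGroup M] [Module k M] [Module S M] [IsScalarTower k S M]

/-- At a stage where the localized module is flat, condition (V) holds. -/
theorem exists_smul_Phi_eq_zero_of_flat (R : Type*) [CommRing R] [Algebra k R]
    (q : Ideal (R ⊗[k] S)) [q.IsPrime]
    [Module.Flat R (LocalizedModule q.primeCompl (R ⊗[k] M))] (t : M ⊗[k] I)
    (ht : mu I M t = 0) : ∃ v, v ∉ q ∧ v • Phi I R M t = 0 := by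
  set g := LocalizedModule.mkLinearMap q.primeCompl (R ⊗[k] M) with hg
  have h1 : mu (I.map (algebraMap k R)) (LocalizedModule q.primeCompl (R ⊗[k] M))
      ((AlgebraTensorModule.rTensor R (I.map (algebraMap k R)) g) (Phi I R M t)) = 0 := by
    have h := mu_rTensor (Y' := LocalizedModule q.primeCompl (R ⊗[k] M))
      (I.map (algebraMap k R)) (g.restrictScalars R) (Phi I R M t)
    have e : (LinearMap.rTensor (I.map (algebraMap k R)) (g.restrictScalars R)) (Phi I R M t) =
        (AlgebraTensorModule.rTensor R (I.map (algebraMap k R)) g) (Phi I R M t) := rfl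
    rw [e, mu_Phi, ht, tmul_zero, map_zero] at h
    exact h
  have h2 : (AlgebraTensorModule.rTensor R (I.map (algebraMap k R)) g) (Phi I R M t) =
      (AlgebraTensorModule.rTensor R (I.map (algebraMap k R)) g) 0 := by
    rw [map_zero]
    apply mu_injective_of_flat (I.map (algebraMap k R))
      (Y := LocalizedModule q.primeCompl (R ⊗[k] M))
    rw [h1, map_zero]
  obtain ⟨c, hc⟩ := IsLocalizedModule.exists_of_eq (S := q.primeCompl) h2
  exact ⟨c.1, c.2, by rw [smul_zero] at hc; exact hc⟩

variable {I}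

/-- Condition (V) propagates from a generating set of `ker (M ⊗ I → M)` over `S`. -/
theorem V_of_gens (A : Type*) [CommRing A] [Algebra k A] (qA : Ideal (A ⊗[k] S)) [qA.IsPrime]
    (T : Set (M ⊗[k] I)) (hT : ∀ t ∈ T, ∃ v, v ∉ qA ∧ v • Phi I A M t = 0)
    (t : M ⊗[k] I) (ht : t ∈ Submodule.span S T) : ∃ v, v ∉ qA ∧ v • Phi I A M t = 0 := by
  refine Submodule.span_induction (p := fun t _ => ∃ v, v ∉ qA ∧ v • Phi I A M t = 0)
    hT ?_ ?_ ?_ ht
  · exact ⟨1, fun h => (Ideal.IsPrime.ne_top ‹_›) ((Ideal.eq_top_iff_one _).mpr h), by simp⟩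
  · rintro x y _ _ ⟨v, hv, hv0⟩ ⟨v', hv', hv0'⟩
    refine ⟨v * v', fun h => ?_, ?_⟩
    · rcases Ideal.IsPrime.mem_or_mem ‹_› h with h | h
      · exact hv h
      · exact hv' h
    · have e1 : (v * v') • Phi I A M x = 0 := by rw [mul_comm, mul_smul, hv0, smul_zero]
      have e2 : (v * v') • Phi I A M y = 0 := by rw [mul_smul, hv0', smul_zero]
      rw [map_add, smul_add, e1, e2, add_zero]
  · rintro s x _ ⟨v, hv, hv0⟩
    refine ⟨v, hv, ?_⟩
    rw [Phi_smul, smul_comm, hv0, smul_zero]

variable (I)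

theorem exists_finset_ker_mu [IsNoetherianRing S] [Module.Finite S M] (hI : I.FG) :
    ∃ T : Finset (M ⊗[k] I), (∀ t ∈ T, mu I M t = 0) ∧
      ∀ t, mu I M t = 0 → t ∈ Submodule.span S (T : Set (M ⊗[k] I)) := by
  let muS : M ⊗[k] I →ₗ[S] M :=
    { toFun := mu I M
      map_add' := map_add _
      map_smul' := fun s z => mu_smul I s z }
  have : Module.Finite k I := Module.Finite.iff_fg.mpr hI
  have : Module.Finite S (M ⊗[k] I) := Groth.Agent.Lib.FlatCrit.finite_tensorProduct_left
  have : IsNoetherian S (M ⊗[k] I) := isNoetherian_of_isNoetherianRing_of_finite S _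
  obtain ⟨T, hT⟩ := IsNoetherian.noetherian (LinearMap.ker muS)
  refine ⟨T, fun t ht => ?_, fun t ht => ?_⟩
  · have : t ∈ LinearMap.ker muS := by rw [← hT]; exact Submodule.subset_span ht
    exact this
  · rw [hT]
    exact ht

end Top

section MainF

variable {k : Type*} [CommRing k] [IsNoetherianRing k]
  {S : Type*} [CommRing S] [Algebra k S] [Algebra.FiniteType k S]
  {M : Type*} [AddCommGroup M] [Module k M] [Module S M] [IsScalarTower k S M] [Module.Finite S M]
  {R : Type*} [CommRing R] [Algebra k R] (q : Ideal (R ⊗[k] S)) [q.IsPrime]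

/-- **Descent of flatness at a prime to a finitely generated stage** (Stacks 00R6-type).
`k` Noetherian, `S` of finite type over `k`, `M` finite over `S`, `R` any `k`-algebra, `q` a prime
of `R ⊗ S` such that `(R ⊗ M)_q` is flat over `R`. Then for all sufficiently large finitely
generated `k`-subalgebras `B ⊆ R`, `(B ⊗ M)_{q_B}` is flat over `B`. -/
theorem exists_fg_flat_stage [Module.Flat R (LocalizedModule q.primeCompl (R ⊗[k] M))] :
    ∃ A : Subalgebra k R, A.FG ∧ ∀ B : Subalgebra k R, A ≤ B → B.FG →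
      Module.Flat B (LocalizedModule (q.comap (sMap B.val S)).primeCompl (B ⊗[k] M)) := by
  classical
  set I : Ideal k := q.comap (algebraMap k (R ⊗[k] S)) with hI
  have hIfg : I.FG := IsNoetherian.noetherian I
  have : Module.Finite k I := Module.Finite.iff_fg.mpr hIfg
  obtain ⟨r, a, ha⟩ := Module.Finite.exists_fin (R := k) (M := I)
  have : IsNoetherianRing S := Algebra.FiniteType.isNoetherianRing k S
  obtain ⟨T, hT0, hTspan⟩ := exists_finset_ker_mu (S := S) (M := M) I hIfg
  -- descend the vanishing data for each generator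
  have key : ∀ t : T, ∃ A : Subalgebra k R, A.FG ∧ ∃ v' : A ⊗[k] S,
      sMap A.val S v' ∉ q ∧ TV a A v' (t : M ⊗[k] I) := by
    intro t
    obtain ⟨v, hv, hv0⟩ := exists_smul_Phi_eq_zero_of_flat I R q (t : M ⊗[k] I) (hT0 t t.2)
    obtain ⟨A, hA, v', hv', htv⟩ := (TV.of_smul_Phi (a := a) ha hv0).descend
    exact ⟨A, hA, v', by rw [hv']; exact hv, htv⟩
  choose At hAt v' hv' htv using key
  refine ⟨Finset.univ.sup At, fg_finset_sup _ At hAt, fun B hAB hB => ?_⟩
  have hle : ∀ t : T, At t ≤ B := fun t => le_trans (Finset.le_sup (Finset.mem_univ t)) hAB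
  have : Algebra.FiniteType k B := (Subalgebra.fg_iff_finiteType B).mp hB
  have : IsNoetherianRing B := Algebra.FiniteType.isNoetherianRing k B
  have : IsNoetherianRing (B ⊗[k] S) := Algebra.FiniteType.isNoetherianRing B (B ⊗[k] S)
  have hqI : (q.comap (sMap B.val S)).comap (algebraMap k (B ⊗[k] S)) = I := by
    rw [hI]
    ext d
    simp only [Ideal.mem_comap, AlgHom.commutes]
  refine flat_stage_of_V I B (q.comap (sMap B.val S)) hqI ?_
  intro t ht
  refine V_of_gens B (q.comap (sMap B.val S)) (T : Set (M ⊗[k] I)) ?_ t (hTspan t ht)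
  intro t₁ ht₁
  refine ⟨sMap (Subalgebra.inclusion (hle ⟨t₁, ht₁⟩)) S (v' ⟨t₁, ht₁⟩), ?_, ?_⟩
  · rw [Ideal.mem_comap, sMap_eq_mMap, sMap_eq_mMap, mMap_val_inclusion, ← sMap_eq_mMap]
    exact hv' ⟨t₁, ht₁⟩
  · exact ((htv ⟨t₁, ht₁⟩).map (Subalgebra.inclusion (hle ⟨t₁, ht₁⟩))).smul_Phi

end MainF




end Groth.Agent.Lib.FlatLimCore88
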