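import Groth.Agent.Lib.FlatLimGlobal88

/-!
# Descent of a flat finitely presented module to a finite type `ℤ`-model (helper88)

`exists_finiteType_int_model`: `R → S` of finite presentation, `M` a finitely presented `S`-module
flat over `R`. Then `(R, S, M)` is the base change of `(R₀, S₀, M₀)` with `R₀` of finite type over
`ℤ`, `S₀` of finite type over `R₀`, `M₀` finite over `S₀` and flat over `R₀`.
-/

set_option autoImplicit false
set_option maxHeartbeats 400000
set_option linter.style.haveILetI false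

namespace Groth.Agent.Lib.FlatLimIntModel88

open TensorProduct Function Groth.Agent.Lib.FlatLimStage88 Groth.Agent.Lib.FlatLimOpen88
  Groth.Agent.Lib.FlatLimOpenBC88 Groth.Agent.Lib.FlatLimCore88 Groth.Agent.Lib.FlatLimGlobal88
  Groth.Agent.Lib.FlatLimModel88
open scoped Groth.Agent.Lib.FlatLimStage88

universe u

set_option synthInstance.maxHeartbeats 400000 in
theorem exists_model_of_modelEquiv {k R S₀ S M₀ M : Type u} [CommRing k] [IsNoetherianRing k]
    [Algebra.FiniteType ℤ k] [CommRing R] [Algebra k R] [CommRing S₀] [Algebra k S₀]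
    [Algebra.FiniteType k S₀] [CommRing S] [Algebra R S] [AddCommGroup M₀] [Module k M₀]
    [Module S₀ M₀] [IsScalarTower k S₀ M₀] [Module.Finite S₀ M₀] [AddCommGroup M] [Module S M]
    [Module R M] [IsScalarTower R S M] [Module.Flat R M]
    (e : R ⊗[k] S₀ ≃ₐ[R] S) (ε : R ⊗[k] M₀ ≃ₗ[R] M)
    (hε : ∀ (c : R ⊗[k] S₀) (y : R ⊗[k] M₀), ε (c • y) = e c • ε y) :
    ∃ (R₀ : Type u) (_ : CommRing R₀) (_ : Algebra R₀ R) (S₀ : Type u) (_ : CommRing S₀)
      (_ : Algebra R₀ S₀) (_ : Algebra S₀ S) (_ : Algebra R₀ S) (_ : IsScalarTower R₀ R S)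
      (_ : IsScalarTower R₀ S₀ S) (M₀ : Type u) (_ : AddCommGroup M₀) (_ : Module S₀ M₀)
      (_ : Module R₀ M₀) (_ : IsScalarTower R₀ S₀ M₀) (_ : Module S₀ M) (_ : IsScalarTower S₀ S M)
      (f : M₀ →ₗ[S₀] M),
      Algebra.FiniteType ℤ R₀ ∧ Algebra.FiniteType R₀ S₀ ∧ Module.Finite S₀ M₀ ∧ Module.Flat R₀ M₀ ∧
        Algebra.IsPushout R₀ R S₀ S ∧ IsBaseChange S f := by
  classical
  have : Module.Flat R (R ⊗[k] M₀) := Module.Flat.of_linearEquiv ε
  obtain ⟨A, -, hA, hflat⟩ := exists_fg_flat_global (k := k) S₀ (M₀ := M₀) (R := R) ⊥ Subalgebra.fg_bot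
  letI algS₀S : Algebra (A ⊗[k] S₀) S :=
    ((e : R ⊗[k] S₀ →+* S).comp (sMap A.val S₀ : A ⊗[k] S₀ →+* R ⊗[k] S₀)).toAlgebra
  haveI t1 : IsScalarTower A R S := inferInstance
  have halg : ∀ x : A ⊗[k] S₀, algebraMap (A ⊗[k] S₀) S x = e (sMap A.val S₀ x) := fun x => rfl
  have hsmulS : ∀ (x : A ⊗[k] S₀) (s : S), x • s = e (sMap A.val S₀ x) * s := fun x s => rfl
  have hAsmul : ∀ (a : A) (s : S), a • s = (a : R) • s := fun a s => rfl
  have hsMap_smul : ∀ (a : A) (x : A ⊗[k] S₀), sMap A.val S₀ (a • x) = (a : R) • sMap A.val S₀ x := by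
    intro a x
    induction x with
    | zero => simp
    | add x y hx hy => simp only [smul_add, map_add, hx, hy]
    | tmul b s => simp [TensorProduct.smul_tmul', sMap_tmul]
  haveI t2 : IsScalarTower A (A ⊗[k] S₀) S := ⟨fun a x s => by
    rw [hsmulS, hsmulS, hAsmul, hsMap_smul, map_smul, smul_mul_assoc]⟩
  letI modS₀M : Module (A ⊗[k] S₀) M := Module.compHom M (algebraMap (A ⊗[k] S₀) S)
  have hsmulM : ∀ (x : A ⊗[k] S₀) (z : M), x • z = e (sMap A.val S₀ x) • z := fun x z => rfl
  haveI t4 : IsScalarTower (A ⊗[k] S₀) S M := ⟨fun x y z => by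
    rw [hsmulS, hsmulM, mul_smul]⟩
  let f : A ⊗[k] M₀ →ₗ[A ⊗[k] S₀] M :=
    { toFun := fun y => ε (mMap A.val M₀ y)
      map_add' := fun y y' => by rw [map_add, map_add]
      map_smul' := fun c y => by
        rw [RingHom.id_apply, mMap_smul, hε, hsmulM] }
  have hfapp : ∀ y, f y = ε (mMap A.val M₀ y) := fun y => rfl
  have hAft : Algebra.FiniteType k A := (Subalgebra.fg_iff_finiteType A).mp hA
  -- pushout
  have hpush : Algebra.IsPushout A R (A ⊗[k] S₀) S := by
    constructor
    refine IsBaseChange.of_equiv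
      ((Algebra.TensorProduct.cancelBaseChange k A R R S₀).toLinearEquiv ≪≫ₗ e.toLinearEquiv) ?_
    intro x
    simp only [LinearEquiv.trans_apply, AlgEquiv.toLinearEquiv_apply]
    rw [cancelBaseChange_one_tmul]
    rfl
  refine ⟨A, inferInstance, inferInstance, A ⊗[k] S₀, inferInstance, inferInstance, algS₀S,
    inferInstance, t1, t2, A ⊗[k] M₀, inferInstance, inferInstance, inferInstance, inferInstance,
    modS₀M, t4, f, ?_, ?_, ?_, hflat, hpush, ?_⟩
  · exact Algebra.FiniteType.trans (S := k) inferInstance inferInstance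
  · infer_instance
  · exact finite_stage
  · -- base change of the module
    let Λ : S ⊗[A ⊗[k] S₀] (A ⊗[k] M₀) →ₗ[S] M :=
      (TensorProduct.isBaseChange (A ⊗[k] S₀) (A ⊗[k] M₀) S).lift f
    have hΛ : ∀ (s : S) (y : A ⊗[k] M₀), Λ (s ⊗ₜ y) = s • f y := by
      intro s y
      have h0 : s ⊗ₜ[A ⊗[k] S₀] y = s • ((1 : S) ⊗ₜ[A ⊗[k] S₀] y) := by
        rw [TensorProduct.smul_tmul', smul_eq_mul, mul_one]
      rw [h0, map_smul]
      congr 1
      exact (TensorProduct.isBaseChange (A ⊗[k] S₀) (A ⊗[k] M₀) S).lift_eq f y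
    haveI := hpush
    let Λ'' : S ⊗[A ⊗[k] S₀] (A ⊗[k] M₀) ≃ₗ[R] M :=
      (Algebra.IsPushout.cancelBaseChange A R (A ⊗[k] S₀) S (A ⊗[k] M₀)) ≪≫ₗ
        (AlgebraTensorModule.cancelBaseChange k A R R M₀) ≪≫ₗ ε
    have hcomp : ∀ m : M, Λ (Λ''.symm m) = m := by
      intro m
      obtain ⟨t, rfl⟩ := ε.surjective m
      induction t with
      | zero => simp
      | add a b ha hb => simp only [map_add, ha, hb]
      | tmul r x =>
        have h1 : Λ''.symm (ε (r ⊗ₜ x)) = (algebraMap R S r) ⊗ₜ ((1 : A) ⊗ₜ[k] x) := by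
          simp only [Λ'', LinearEquiv.trans_symm, LinearEquiv.trans_apply,
            LinearEquiv.symm_apply_apply]
          rw [AlgebraTensorModule.cancelBaseChange_symm_tmul,
            Algebra.IsPushout.cancelBaseChange_symm_tmul]
        rw [h1, hΛ, hfapp, mMap_tmul, algebraMap_smul, ← map_smul, TensorProduct.smul_tmul',
          map_one, smul_eq_mul, mul_one]
    have hbij : Function.Bijective Λ := by
      have h2 : (Λ : _ → M) = Λ'' := by
        funext z
        obtain ⟨m, rfl⟩ := Λ''.symm.surjective z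
        rw [hcomp, LinearEquiv.apply_symm_apply]
      rw [h2]
      exact Λ''.bijective
    exact IsBaseChange.of_equiv (LinearEquiv.ofBijective Λ hbij) (fun y => by
      rw [LinearEquiv.ofBijective_apply, hΛ, one_smul])

/-- **Descent of flat finitely presented data to a finite type `ℤ`-algebra.** -/
theorem exists_finiteType_int_model (R : Type u) [CommRing R]
    (S : Type u) [CommRing S] [Algebra R S] [Algebra.FinitePresentation R S] (M : Type u)
    [AddCommGroup M] [Module S M] [Module R M] [IsScalarTower R S M]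
    [Module.FinitePresentation S M] [Module.Flat R M] :
    ∃ (R₀ : Type u) (_ : CommRing R₀) (_ : Algebra R₀ R) (S₀ : Type u) (_ : CommRing S₀)
      (_ : Algebra R₀ S₀) (_ : Algebra S₀ S) (_ : Algebra R₀ S) (_ : IsScalarTower R₀ R S)
      (_ : IsScalarTower R₀ S₀ S) (M₀ : Type u) (_ : AddCommGroup M₀) (_ : Module S₀ M₀)
      (_ : Module R₀ M₀) (_ : IsScalarTower R₀ S₀ M₀) (_ : Module S₀ M) (_ : IsScalarTower S₀ S M)
      (f : M₀ →ₗ[S₀] M),
      Algebra.FiniteType ℤ R₀ ∧ Algebra.FiniteType R₀ S₀ ∧ Module.Finite S₀ M₀ ∧ Module.Flat R₀ M₀ ∧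
        Algebra.IsPushout R₀ R S₀ S ∧ IsBaseChange S f := by
  classical
  -- presentations
  let P := Algebra.Presentation.ofFinitePresentation R S
  obtain ⟨n, m, f, g, hf, hex⟩ := Module.FinitePresentation.exists_fin' S M
  let u : Fin m → Fin n → S := fun j => g (Pi.single j 1)
  have hu : LinearMap.ker f = Submodule.span S (Set.range u) := by
    rw [(LinearMap.exact_iff).mp hex, LinearMap.range_eq_map, ← (Pi.basisFun S (Fin m)).span_eq,
      Submodule.map_span, ← Set.range_comp]
    congr 2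
    funext j
    simp [u, Pi.basisFun_apply]
  -- lifts of the entries of the relations to polynomials
  choose ut hut using fun (j : Fin m) (i : Fin n) => P.algebraMap_surjective (u j i)
  let s : Set R := ⋃ j, ⋃ i, ((ut j i).coeffs : Set R)
  have hs : s.Finite :=
    Set.finite_iUnion fun j => Set.finite_iUnion fun i => Finset.finite_toSet _
  -- the Noetherian base ring
  let k := Algebra.adjoin P.Core s
  have : Algebra.FiniteType P.Core k := (Subalgebra.fg_iff_finiteType _).mp
    (Subalgebra.fg_def.mpr ⟨s, hs, rfl⟩)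
  have : Algebra.FiniteType ℤ k := Algebra.FiniteType.trans (S := P.Core) inferInstance inferInstance
  have : IsNoetherianRing k := Algebra.FiniteType.isNoetherianRing ℤ k
  -- lifts to the base ring
  have hv : ∀ j i, ∃ v : MvPolynomial _ k, MvPolynomial.map (algebraMap k R) v = ut j i := by
    intro j i
    have : ut j i ∈ Set.range (MvPolynomial.map (algebraMap k R)) := by
      rw [MvPolynomial.mem_range_map_iff_coeffs_subset]
      intro c hc
      have hcs : c ∈ s := Set.mem_iUnion.mpr ⟨j, Set.mem_iUnion.mpr ⟨i, hc⟩⟩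
      exact ⟨⟨c, Algebra.subset_adjoin hcs⟩, rfl⟩
    exact this
  choose v hv using hv
  let S₀ := P.ModelOfHasCoeffs k
  let e : R ⊗[k] S₀ ≃ₐ[R] S := P.tensorModelOfHasCoeffsEquiv k
  let ub : Fin m → Fin n → S₀ := fun j i => Ideal.Quotient.mk _ (v j i)
  have hub : ∀ j i, Groth.Agent.Lib.FlatLimModel88.iota0 e (ub j i) = u j i := by
    intro j i
    rw [Groth.Agent.Lib.FlatLimModel88.iota0_apply]
    change P.tensorModelOfHasCoeffsEquiv k ((1 : R) ⊗ₜ[k] Ideal.Quotient.mk _ (v j i)) = _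
    rw [Algebra.Presentation.tensorModelOfHasCoeffsEquiv_tmul, map_one, one_mul,
      ← MvPolynomial.aeval_map_algebraMap R, hv, ← hut j i, Algebra.Generators.algebraMap_apply]
  exact exists_model_of_modelEquiv (k := k) (S₀ := S₀) (M₀ := Model0 ub) e
    (modelEquiv e f u hub hu hf) (modelEquiv_smul e f u hub hu hf)

end Groth.Agent.Lib.FlatLimIntModel88
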