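import Groth.Agent.Lib.FlatLimT88
import Mathlib.RingTheory.Flat.Localization
import Mathlib.RingTheory.Localization.BaseChange

/-!
# Local criterion for a localized module (helper88)

`A` Noetherian, `J` an ideal, `C` an `A`-algebra, `X` a `C`-module, `X'` a localization of `X`
at a submonoid of `C`:
* `mu_injective_of_localized`: if every element of `ker (X ⊗ J → X)` dies in `X' ⊗ J`
  then `X' ⊗ J → X'` is injective.
* `flat_quotient_of_localized`: `X/JX` flat over `A/J` ⟹ `X'/JX'` flat over `A/J`.
* `flat_of_localized`: local criterion of flatness for `X'`.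
-/

set_option autoImplicit false
set_option maxHeartbeats 400000

namespace Groth.Agent.Lib.FlatLimLoc88

open TensorProduct Function Groth.Agent.Lib.FlatCrit Groth.Agent.Lib.FlatLimT88

variable {A : Type*} [CommRing A] (J : Ideal A) {C : Type*} [CommRing C] [Algebra A C]
variable {X X' : Type*} [AddCommGroup X] [Module C X] [Module A X] [IsScalarTower A C X]
  [AddCommGroup X'] [Module C X'] [Module A X'] [IsScalarTower A C X']
variable (W : Submonoid C) (lam : X →ₗ[C] X') [IsLocalizedModule W lam]

/-- `mu` is `C`-linear. -/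
theorem mu_smul (c : C) (z : X ⊗[A] J) : mu J X (c • z) = c • mu J X z := by
  induction z with
  | zero => simp
  | add x y hx hy => simp only [smul_add, map_add, hx, hy]
  | tmul x j =>
    rw [TensorProduct.smul_tmul', mu_tmul, mu_tmul, smul_comm]

include W in
/-- Localization of `ker (X ⊗ J → X)`. -/
theorem exists_smul_eq_rTensor {z' : X' ⊗[A] J} (hz' : mu J X' z' = 0) :
    ∃ (w : W) (z : X ⊗[A] J), mu J X z = 0 ∧
      w • z' = (AlgebraTensorModule.rTensor A J lam) z := by
  obtain ⟨⟨z, w⟩, hzw⟩ := IsLocalizedModule.surj W (AlgebraTensorModule.rTensor A J lam) z'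
  have h1 : lam (mu J X z) = 0 := by
    have h := mu_rTensor J (lam.restrictScalars A) z
    have e : (LinearMap.rTensor J (lam.restrictScalars A)) z =
        (AlgebraTensorModule.rTensor A J lam) z := rfl
    rw [e, ← hzw, Submonoid.smul_def, mu_smul, hz', smul_zero] at h
    exact h.symm
  rw [← map_zero lam] at h1
  obtain ⟨c, hc⟩ := IsLocalizedModule.exists_of_eq (S := W) h1
  rw [smul_zero, Submonoid.smul_def, ← mu_smul] at hc
  refine ⟨c * w, (c : C) • z, hc, ?_⟩
  rw [map_smul, ← hzw, Submonoid.smul_def, Submonoid.smul_def, Submonoid.coe_mul, mul_smul]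

include W in
theorem mu_injective_of_localized
    (h2 : ∀ z : X ⊗[A] J, mu J X z = 0 → (AlgebraTensorModule.rTensor A J lam) z = 0) :
    Injective (mu J X') := by
  rw [injective_iff_map_eq_zero]
  intro z' hz'
  obtain ⟨w, z, hz, e⟩ := exists_smul_eq_rTensor J W lam hz'
  rw [h2 z hz] at e
  have := IsLocalizedModule.smul_injective (AlgebraTensorModule.rTensor A J lam) w
  apply this
  simpa using e

include W lam in
/-- Flatness modulo `J` passes to localizations. -/
theorem flat_quotient_of_localized [Module.Flat (A ⧸ J) ((A ⧸ J) ⊗[A] X)] :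
    Module.Flat (A ⧸ J) ((A ⧸ J) ⊗[A] X') := by
  rw [Module.Flat.iff_rTensor_injective']
  intro 𝔟
  apply rTensor_injective_of_restrictScalars (A ⧸ J)
  have h0 : Injective (𝔟.subtype.rTensor ((A ⧸ J) ⊗[A] X)) :=
    Module.Flat.rTensor_preserves_injective_linearMap _ 𝔟.injective_subtype
  have h1 : Injective ((𝔟.subtype.restrictScalars A).rTensor X) :=
    rTensor_injective_restrictScalars_of (A ⧸ J) 𝔟.subtype h0
  rw [← LinearMap.lTensor_inj_iff_rTensor_inj] at h1 ⊢
  have hM : Injective (AlgebraTensorModule.lTensor C X (𝔟.subtype.restrictScalars A)) := h1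
  have h2 := IsLocalizedModule.map_injective W (AlgebraTensorModule.rTensor A 𝔟 lam)
    (AlgebraTensorModule.rTensor A (A ⧸ J) lam)
    (AlgebraTensorModule.lTensor C X (𝔟.subtype.restrictScalars A)) hM
  rw [IsLocalizedModule.map_lTensor] at h2
  exact h2

include W lam in
/-- **Local criterion for a localized module.** `A` Noetherian, `X'` a localization of the
`C`-module `X`, finite over a Noetherian `A`-algebra `C'` with `JC'` in the Jacobson radical.
If `X/JX` is flat over `A/J` and every element of `ker (X ⊗ J → X)` dies in `X' ⊗ J`, then `X'`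
is flat over `A`. -/
theorem flat_of_localized [IsNoetherianRing A]
    (C' : Type*) [CommRing C'] [Algebra A C'] [IsNoetherianRing C'] [Module C' X']
    [IsScalarTower A C' X'] [Module.Finite C' X']
    (hJ : J.map (algebraMap A C') ≤ Ideal.jacobson ⊥)
    [Module.Flat (A ⧸ J) ((A ⧸ J) ⊗[A] X)]
    (h2 : ∀ z : X ⊗[A] J, mu J X z = 0 → (AlgebraTensorModule.rTensor A J lam) z = 0) :
    Module.Flat A X' := by
  have hq : Module.Flat (A ⧸ J) ((A ⧸ J) ⊗[A] X') := flat_quotient_of_localized J W lam
  have hinj : Injective (J.subtype.rTensor X') := by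
    rw [← LinearMap.lTensor_inj_iff_rTensor_inj]
    have := mu_injective_of_localized J W lam h2
    intro x y hxy
    apply this
    simp only [mu, LinearMap.coe_comp, LinearEquiv.coe_coe, Function.comp_apply, hxy]
  refine flat_of_idealSeparated J ?_ hinj
  intro 𝔞 x hx
  exact eq_zero_of_forall_mem_pow_smul_top (S := C') J hJ x hx

end Groth.Agent.Lib.FlatLimLoc88
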