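import Groth.Agent.Lib.FlatLimOpenBC88

/-!
# A module model over a model of the base algebra (helper88)

Given `e : R ⊗[k] S₀ ≃ₐ[R] S`, a presentation `f : S^n → M` of an `S`-module with
`ker f = span (range u)` and lifts `ub j i : S₀` of the entries of the relations
(`iota0 e (ub j i) = u j i`), the module `Model0 ub = S₀^n / span (range ub)` satisfies
`R ⊗[k] Model0 ub ≃ₗ[R] M` (`modelEquiv`), semilinearly over `e` (`modelEquiv_smul`).
-/

set_option autoImplicit false
set_option maxHeartbeats 400000
set_option linter.unusedSectionVars false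

namespace Groth.Agent.Lib.FlatLimModel88

open TensorProduct Function Groth.Agent.Lib.FlatLimStage88
open scoped Groth.Agent.Lib.FlatLimStage88

universe u

section ModM

variable {k R S₀ S M : Type u} [CommRing k] [CommRing R] [Algebra k R] [CommRing S₀] [Algebra k S₀]
  [CommRing S] [Algebra R S] [AddCommGroup M] [Module S M] [Module R M] [IsScalarTower R S M]
  [Module k M] [IsScalarTower k R M]
  (e : R ⊗[k] S₀ ≃ₐ[R] S) {n m : ℕ} (f : (Fin n → S) →ₗ[S] M)
  (ub : Fin m → Fin n → S₀)

/-- The ring map `S₀ → S`. -/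
noncomputable def iota0 : S₀ →+* S :=
  (e : R ⊗[k] S₀ →+* S).comp
    (Algebra.TensorProduct.includeRight : S₀ →ₐ[k] R ⊗[k] S₀).toRingHom

omit [AddCommGroup M] [Module S M] [Module R M] [IsScalarTower R S M] [Module k M]
  [IsScalarTower k R M] in
theorem iota0_apply (s : S₀) : iota0 e s = e ((1 : R) ⊗ₜ[k] s) := rfl

omit [AddCommGroup M] [Module S M] [Module R M] [IsScalarTower R S M] [Module k M]
  [IsScalarTower k R M] in
theorem iota0_algebraMap (c : k) :
    iota0 e (algebraMap k S₀ c) = algebraMap R S (algebraMap k R c) := by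
  rw [iota0_apply, Groth.Agent.Lib.FlatLimCore88.one_tmul_algebraMap,
    IsScalarTower.algebraMap_apply k R (R ⊗[k] S₀), AlgEquiv.commutes]

/-- The model module. -/
abbrev Model0 : Type u := (Fin n → S₀) ⧸ Submodule.span S₀ (Set.range ub)

/-- `S₀^n → M`. -/
noncomputable def psiF : (Fin n → S₀) →ₗ[k] M where
  toFun w := f (fun i => iota0 e (w i))
  map_add' w w' := by
    rw [← map_add]
    congr 1
    funext i
    simp
  map_smul' c w := by
    simp only [RingHom.id_apply]
    rw [← algebraMap_smul R c (f _), ← algebraMap_smul S (algebraMap k R c) (f _), ← map_smul]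
    congr 1
    funext i
    rw [Pi.smul_apply, Pi.smul_apply, Algebra.smul_def, map_mul, iota0_algebraMap, smul_eq_mul]

theorem psiF_smul (s : S₀) (w : Fin n → S₀) :
    psiF e f (s • w) = iota0 e s • psiF e f w := by
  change f _ = iota0 e s • f _
  rw [← map_smul]
  congr 1
  funext i
  simp



variable {ub} (u : Fin m → Fin n → S) (hub : ∀ j i, iota0 e (ub j i) = u j i)
  (hu : LinearMap.ker f = Submodule.span S (Set.range u)) (hf : Surjective f)

include hub hu in
theorem span_le_ker_psiF :
    (Submodule.span S₀ (Set.range ub)).restrictScalars k ≤ LinearMap.ker (psiF e f) := by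
  intro w hw
  rw [Submodule.restrictScalars_mem] at hw
  rw [LinearMap.mem_ker]
  refine Submodule.span_induction (p := fun w _ => psiF e f w = 0) ?_ ?_ ?_ ?_ hw
  · rintro _ ⟨j, rfl⟩
    change f _ = 0
    have : (fun i => iota0 e (ub j i)) = u j := funext (hub j)
    rw [this, ← LinearMap.mem_ker, hu]
    exact Submodule.subset_span ⟨j, rfl⟩
  · exact map_zero _
  · intro x y _ _ hx hy
    rw [map_add, hx, hy, add_zero]
  · intro s x _ hx
    rw [psiF_smul, hx, smul_zero]

/-- `M₀ → M`. -/
noncomputable def psi : Model0 ub →ₗ[k] M :=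
  ((Submodule.span S₀ (Set.range ub)).restrictScalars k).liftQ (psiF e f)
      (span_le_ker_psiF e f u hub hu) ∘ₗ
    (Submodule.Quotient.restrictScalarsEquiv k (Submodule.span S₀ (Set.range ub))).symm.toLinearMap

theorem psi_mk (w : Fin n → S₀) :
    psi e f u hub hu (Submodule.Quotient.mk w) = f (fun i => iota0 e (w i)) := rfl

/-- `R ⊗ M₀ → M`. -/
noncomputable def Psi : R ⊗[k] Model0 ub →ₗ[R] M :=
  (psi e f u hub hu).liftBaseChange R

theorem Psi_tmul (r : R) (w : Fin n → S₀) :
    Psi e f u hub hu (r ⊗ₜ[k] Submodule.Quotient.mk w) = r • f (fun i => iota0 e (w i)) := by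
  rw [Psi, LinearMap.liftBaseChange_tmul, psi_mk]

theorem Psi_smul (c : R ⊗[k] S₀) (y : R ⊗[k] Model0 ub) :
    Psi e f u hub hu (c • y) = e c • Psi e f u hub hu y := by
  induction c with
  | zero => simp
  | add c₁ c₂ h₁ h₂ => simp only [add_smul, map_add, h₁, h₂]
  | tmul r s =>
    induction y with
    | zero => simp
    | add y₁ y₂ h₁ h₂ => simp only [smul_add, map_add, h₁, h₂]
    | tmul r' x =>
      obtain ⟨w, rfl⟩ := Submodule.Quotient.mk_surjective _ x
      rw [tmul_smul_tmul, ← Submodule.Quotient.mk_smul, Psi_tmul, Psi_tmul]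
      have h1 : e (r ⊗ₜ[k] s) = r • iota0 e s := by
        rw [iota0_apply, ← map_smul, TensorProduct.smul_tmul', smul_eq_mul, mul_one]
      have h2 : (fun i => iota0 e ((s • w) i)) = iota0 e s • fun i => iota0 e (w i) := by
        funext i
        simp
      rw [h1, h2, map_smul, smul_assoc, mul_smul, smul_comm r' (iota0 e s)]



omit [Algebra k R] [Algebra k S₀] in
theorem sum_smul_single {T : Type*} [CommRing T] (w : Fin n → T) :
    ∑ i, w i • (Pi.single i (1 : T) : Fin n → T) = w := by
  funext i'
  simp [Finset.sum_apply, Pi.single_apply]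

/-- The generators of `R ⊗ M₀`. -/
noncomputable def gen (i : Fin n) : R ⊗[k] Model0 ub :=
  (1 : R) ⊗ₜ[k] (Submodule.Quotient.mk (Pi.single i (1 : S₀)) : Model0 ub)

variable (ub) in
/-- `S^n → R ⊗ M₀`. -/
noncomputable def theta : (Fin n → S) →ₗ[R] R ⊗[k] Model0 ub where
  toFun w := ∑ i, e.symm (w i) • gen (R := R) (ub := ub) i
  map_add' w w' := by
    simp only [Pi.add_apply, map_add, add_smul, Finset.sum_add_distrib]
  map_smul' r w := by
    simp only [Pi.smul_apply, map_smul, RingHom.id_apply, smul_assoc, Finset.smul_sum]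

theorem theta_smul (s : S) (w : Fin n → S) :
    theta e ub (s • w) = e.symm s • theta e ub w := by
  change ∑ i : Fin n, _ = e.symm s • ∑ i : Fin n, _
  simp only [Pi.smul_apply, smul_eq_mul, map_mul, mul_smul, Finset.smul_sum]

theorem one_tmul_smul_gen (w : Fin n → S₀) :
    ∑ i, ((1 : R) ⊗ₜ[k] w i) • gen (R := R) (ub := ub) i =
      (1 : R) ⊗ₜ[k] (Submodule.Quotient.mk w : Model0 ub) := by
  have h : ∀ i, ((1 : R) ⊗ₜ[k] w i) • gen (R := R) (ub := ub) i =
      (1 : R) ⊗ₜ[k] ((Submodule.span S₀ (Set.range ub)).mkQ (w i • Pi.single i 1)) := by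
    intro i
    simp only [gen, tmul_smul_tmul, one_mul]
    rfl
  simp only [h]
  rw [← TensorProduct.tmul_sum, ← map_sum, sum_smul_single]
  rfl

theorem theta_iota0 (w : Fin n → S₀) :
    theta e ub (fun i => iota0 e (w i)) =
      (1 : R) ⊗ₜ[k] (Submodule.Quotient.mk w : Model0 ub) := by
  change ∑ i : Fin n, _ = _
  simp only [iota0_apply, AlgEquiv.symm_apply_apply]
  exact one_tmul_smul_gen w

include hub hu in
theorem ker_le_ker_theta :
    LinearMap.ker (f.restrictScalars R) ≤ LinearMap.ker (theta e ub) := by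
  intro w hw
  have hw' : w ∈ LinearMap.ker f := hw
  rw [hu] at hw'
  rw [LinearMap.mem_ker]
  refine Submodule.span_induction (p := fun w _ => theta e ub w = 0) ?_ ?_ ?_ ?_ hw'
  · rintro _ ⟨j, rfl⟩
    have : u j = fun i => iota0 e (ub j i) := (funext (hub j)).symm
    rw [this, theta_iota0]
    have : (Submodule.Quotient.mk (ub j) : Model0 ub) = 0 := by
      rw [Submodule.Quotient.mk_eq_zero]
      exact Submodule.subset_span ⟨j, rfl⟩
    rw [this, tmul_zero]
  · exact map_zero _
  · intro x y _ _ hx hy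
    rw [map_add, hx, hy, add_zero]
  · intro s x _ hx
    rw [theta_smul, hx, smul_zero]

/-- `M → R ⊗ M₀`. -/
noncomputable def Theta : M →ₗ[R] R ⊗[k] Model0 ub :=
  (LinearMap.ker (f.restrictScalars R)).liftQ (theta e ub) (ker_le_ker_theta e f u hub hu) ∘ₗ
    ((f.restrictScalars R).quotKerEquivOfSurjective hf).symm.toLinearMap

theorem Theta_apply (w : Fin n → S) : Theta e f u hub hu hf (f w) = theta e ub w := by
  have := LinearMap.quotKerEquivOfSurjective_symm_apply (f := f.restrictScalars R) hf w
  simp only [Theta, LinearMap.coe_comp, LinearEquiv.coe_coe, Function.comp_apply]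
  rw [LinearMap.coe_restrictScalars] at this
  rw [this, Submodule.liftQ_apply]

theorem Psi_theta (w : Fin n → S) : Psi e f u hub hu (theta e ub w) = f w := by
  change Psi e f u hub hu (∑ i : Fin n, _) = _
  rw [map_sum]
  simp only [Psi_smul, AlgEquiv.apply_symm_apply, gen, Psi_tmul, one_smul]
  have : ∀ i : Fin n, (fun i' => iota0 e ((Pi.single i (1 : S₀) : Fin n → S₀) i')) =
      (Pi.single i (1 : S) : Fin n → S) := by
    intro i
    funext i'
    simp only [Pi.single_apply]
    split_ifs <;> simp
  simp only [this, ← map_smul, ← map_sum, sum_smul_single]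

/-- **Module model**: `R ⊗[k] M₀ ≃ M`. -/
noncomputable def modelEquiv : R ⊗[k] Model0 ub ≃ₗ[R] M :=
  LinearEquiv.ofLinear (Psi e f u hub hu) (Theta e f u hub hu hf)
    (by
      ext x
      obtain ⟨w, rfl⟩ := hf x
      simp only [LinearMap.coe_comp, Function.comp_apply, LinearMap.id_coe, id_eq]
      rw [Theta_apply, Psi_theta])
    (by
      apply TensorProduct.AlgebraTensorModule.ext
      intro r x
      obtain ⟨w, rfl⟩ := Submodule.Quotient.mk_surjective _ x
      simp only [LinearMap.coe_comp, Function.comp_apply, LinearMap.id_coe, id_eq]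
      rw [Psi_tmul, map_smul, Theta_apply, theta_iota0, TensorProduct.smul_tmul', smul_eq_mul,
        mul_one])

theorem modelEquiv_smul (c : R ⊗[k] S₀) (y : R ⊗[k] Model0 ub) :
    modelEquiv e f u hub hu hf (c • y) = e c • modelEquiv e f u hub hu hf y :=
  Psi_smul e f u hub hu c y

end ModM

end Groth.Agent.Lib.FlatLimModel88
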