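import Groth.Agent.Lib.FlatLimOpen88
import Groth.Agent.Lib.FlatAtCrit22

/-!
# Openness of the flat locus after arbitrary base change from a Noetherian model (helper88)

`k` Noetherian, `S₀` of finite type over `k`, `M₀` finite over `S₀`, `R` an arbitrary `k`-algebra.
* `exists_notMem_forall_flat_baseChange`: if the model is flat at the contraction of `q`, flatness
  holds on a basic open neighbourhood of `q` in `Spec (R ⊗ S₀)`.
* `flat_localizedModule_of_semilinearEquiv`: transport of flatness at a prime along a semilinear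
  isomorphism.
* `exists_notMem_forall_flat_tensor`, `isOpen_flatLocus_tensor`: the flat locus
  `{q | (R ⊗ M₀)_q flat over R}` is open in `Spec (R ⊗[k] S₀)` (Stacks 00RC for base changes of
  Noetherian models).
-/

set_option autoImplicit false
set_option maxHeartbeats 400000

namespace Groth.Agent.Lib.FlatLimOpenBC88

open TensorProduct Function Groth.Agent.Lib.FlatLimT88 Groth.Agent.Lib.FlatLimLoc88
  Groth.Agent.Lib.FlatLimStage88 Groth.Agent.Lib.FlatLimBC88 Groth.Agent.Lib.FlatLimCore88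
  Groth.Agent.Lib.FlatCrit Groth.Agent.Lib.FlatLimOpen88
open scoped Groth.Agent.Lib.FlatLimStage88

universe u

section O1

variable {k : Type*} [CommRing k] [IsNoetherianRing k]
  {S₀ : Type u} [CommRing S₀] [Algebra k S₀] [Algebra.FiniteType k S₀]
  {M₀ : Type*} [AddCommGroup M₀] [Module k M₀] [Module S₀ M₀] [IsScalarTower k S₀ M₀]
  [Module.Finite S₀ M₀]
  (R : Type*) [CommRing R] [Algebra k R]

/-- If the model is flat at the contraction of `q`, flatness holds on a neighbourhood of `q` in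
`Spec (R ⊗ S₀)`. -/
theorem exists_notMem_forall_flat_baseChange (q : Ideal (R ⊗[k] S₀)) [q.IsPrime]
    (q₁ : Ideal S₀) [q₁.IsPrime]
    (hq₁ : q.comap (Algebra.TensorProduct.includeRight : S₀ →ₐ[k] R ⊗[k] S₀) = q₁)
    (h : Module.Flat k (LocalizedModule q₁.primeCompl M₀)) :
    ∃ g, g ∉ q ∧ ∀ (q' : Ideal (R ⊗[k] S₀)) [q'.IsPrime], g ∉ q' →
      Module.Flat R (LocalizedModule q'.primeCompl (R ⊗[k] M₀)) := by
  subst hq₁
  have hopen := isOpen_flatLocus_of_noetherian (A := k) (C := S₀) (X := M₀)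
  let q₀ : PrimeSpectrum S₀ :=
    ⟨q.comap (Algebra.TensorProduct.includeRight : S₀ →ₐ[k] R ⊗[k] S₀), inferInstance⟩
  have hq₀ : q₀ ∈ {Q : PrimeSpectrum S₀ |
      Module.Flat k (LocalizedModule Q.asIdeal.primeCompl M₀)} := h
  obtain ⟨_, ⟨g₀, rfl⟩, hg₀, hsub⟩ :=
    PrimeSpectrum.isTopologicalBasis_basic_opens.exists_subset_of_mem_open hq₀ hopen
  refine ⟨(1 : R) ⊗ₜ[k] g₀, hg₀, ?_⟩
  intro q' _ hq'
  let Q : PrimeSpectrum S₀ :=
    ⟨q'.comap (Algebra.TensorProduct.includeRight : S₀ →ₐ[k] R ⊗[k] S₀), inferInstance⟩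
  have hQ : Module.Flat k (LocalizedModule Q.asIdeal.primeCompl M₀) := hsub hq'
  have hWV : stageSubmonoid k R Q.asIdeal.primeCompl ≤ q'.primeCompl := by
    intro x hx
    obtain ⟨w, hw, rfl⟩ := (mem_stageSubmonoid k R _).mp hx
    exact hw
  have hfl : Module.Flat R (R ⊗[k] LocalizedModule Q.asIdeal.primeCompl M₀) := inferInstance
  exact Groth.Agent.Lib.H77GenFlatAlg.flat_of_isLocalizedModule R
    (M := R ⊗[k] LocalizedModule Q.asIdeal.primeCompl M₀)
    (N := LocalizedModule q'.primeCompl (R ⊗[k] M₀)) q'.primeCompl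
    (lamOf k R Q.asIdeal.primeCompl (LocalizedModule.mkLinearMap Q.asIdeal.primeCompl M₀)
      q'.primeCompl hWV)

end O1

section Transport

variable {R C₁ C₂ X₁ X₂ : Type u} [CommRing R] [CommRing C₁] [CommRing C₂] [Algebra R C₁]
  [Algebra R C₂]
  [AddCommGroup X₁] [Module C₁ X₁] [Module R X₁] [IsScalarTower R C₁ X₁]
  [AddCommGroup X₂] [Module C₂ X₂] [Module R X₂] [IsScalarTower R C₂ X₂]

open Groth.Agent.Lib.FlatAtCrit22 in
/-- Transport of flatness at a prime along a semilinear isomorphism. -/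
theorem flat_localizedModule_of_semilinearEquiv (e : C₁ ≃+* C₂) (ε : X₁ ≃ₗ[R] X₂)
    (hε : ∀ (c : C₁) (x : X₁), ε (c • x) = e c • ε x) (P₂ : Ideal C₂) [P₂.IsPrime]
    (h : Module.Flat R (LocalizedModule (P₂.comap e).primeCompl X₁)) :
    Module.Flat R (LocalizedModule P₂.primeCompl X₂) := by
  have h1 : FlatCA.FlatAt R (P₂.comap e) X₁ := h
  rw [flatAt_iff] at h1
  change FlatCA.FlatAt R P₂ X₂
  rw [flatAt_iff]
  intro I x₂ hx₂
  set x₁ := (ε.symm.toLinearMap.rTensor I) x₂ with hx₁def
  have hx₁ : (I.subtype.lTensor X₁) x₁ = 0 := by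
    rw [hx₁def, ← LinearMap.comp_apply, LinearMap.lTensor_comp_rTensor,
      ← LinearMap.rTensor_comp_lTensor, LinearMap.comp_apply, hx₂, map_zero]
  obtain ⟨s, hs, hsx⟩ := h1 I x₁ hx₁
  have key : ∀ (c : C₁) (z : X₁ ⊗[R] I),
      (ε.toLinearMap.rTensor I) (c • z) = e c • (ε.toLinearMap.rTensor I) z := by
    intro c z
    induction z with
    | zero => simp
    | add x y hx hy => simp only [smul_add, map_add, hx, hy]
    | tmul x i =>
      rw [TensorProduct.smul_tmul', LinearMap.rTensor_tmul, LinearMap.rTensor_tmul,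
        TensorProduct.smul_tmul']
      congr 1
      exact hε c x
  have hx₂' : x₂ = (ε.toLinearMap.rTensor I) x₁ := by
    rw [hx₁def, ← LinearMap.comp_apply, ← LinearMap.rTensor_comp]
    simp
  refine ⟨e s, fun hmem => hs hmem, ?_⟩
  rw [hx₂', ← key, hsx, map_zero]

end Transport

section OConcrete

variable {k R S₀ M₀ : Type u} [CommRing k] [IsNoetherianRing k] [CommRing R] [Algebra k R]
  [CommRing S₀] [Algebra k S₀] [Algebra.FiniteType k S₀]
  [AddCommGroup M₀] [Module k M₀] [Module S₀ M₀] [IsScalarTower k S₀ M₀] [Module.Finite S₀ M₀]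

set_option synthInstance.maxHeartbeats 400000 in
omit [IsNoetherianRing k] [Algebra.FiniteType k S₀] [Module.Finite S₀ M₀] in
theorem cancelBaseChange_smul (B : Subalgebra k R) (c : R ⊗[B] (B ⊗[k] S₀))
    (x : R ⊗[B] (B ⊗[k] M₀)) :
    AlgebraTensorModule.cancelBaseChange k B R R M₀ (c • x) =
      Algebra.TensorProduct.cancelBaseChange k B R R S₀ c •
        AlgebraTensorModule.cancelBaseChange k B R R M₀ x := by
  have hL : ∀ (c : R ⊗[B] (B ⊗[k] S₀)) (x : R ⊗[B] (B ⊗[k] M₀)),
      c • x = actHom B R (B ⊗[k] S₀) (B ⊗[k] M₀) c x := fun _ _ => rfl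
  rw [hL]
  induction c with
  | zero => rw [map_zero, LinearMap.zero_apply, map_zero, map_zero, zero_smul]
  | add c₁ c₂ h₁ h₂ => rw [map_add, LinearMap.add_apply, map_add, h₁, h₂, map_add, add_smul]
  | tmul r c =>
    induction x with
    | zero => rw [map_zero, map_zero, smul_zero]
    | add x₁ x₂ h₁ h₂ => rw [map_add, map_add, h₁, h₂, map_add, smul_add]
    | tmul r' x =>
      rw [← hL, tmul_smul_tmul]
      induction c with
      | zero =>
        have hL' : ∀ (c : B ⊗[k] S₀) (x : B ⊗[k] M₀), c • x = actHom k B S₀ M₀ c x :=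
          fun _ _ => rfl
        rw [hL', map_zero, LinearMap.zero_apply, tmul_zero, tmul_zero, map_zero, map_zero,
          zero_smul]
      | add c₁ c₂ h₁ h₂ =>
        rw [add_smul, tmul_add, tmul_add, map_add, map_add, add_smul, h₁, h₂]
      | tmul b s =>
        induction x with
        | zero => rw [smul_zero, tmul_zero, tmul_zero, map_zero, smul_zero]
        | add x₁ x₂ h₁ h₂ =>
          rw [smul_add, tmul_add, tmul_add, map_add, map_add, smul_add, h₁, h₂]
        | tmul b' m =>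
          rw [tmul_smul_tmul, AlgebraTensorModule.cancelBaseChange_tmul,
            AlgebraTensorModule.cancelBaseChange_tmul,
            Algebra.TensorProduct.cancelBaseChange_tmul, tmul_smul_tmul, smul_mul_smul_comm]

omit [IsNoetherianRing k] [Algebra.FiniteType k S₀] in
theorem cancelBaseChange_one_tmul (B : Subalgebra k R) (x : B ⊗[k] S₀) :
    Algebra.TensorProduct.cancelBaseChange k B R R S₀ ((1 : R) ⊗ₜ[B] x) = sMap B.val S₀ x := by
  induction x with
  | zero => simp
  | add x₁ x₂ h₁ h₂ => simp only [tmul_add, map_add, h₁, h₂]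
  | tmul b s =>
    simp only [Algebra.TensorProduct.cancelBaseChange_tmul, sMap_tmul, Subalgebra.coe_val]
    rw [Algebra.smul_def, mul_one]
    rfl

/-- **Neighbourhood form of openness of the flat locus** for `R ⊗[k] S₀`, `R ⊗[k] M₀` with `k`
Noetherian, `S₀` of finite type, `M₀` finite, `R` an arbitrary `k`-algebra. -/
theorem exists_notMem_forall_flat_tensor (q : Ideal (R ⊗[k] S₀)) [q.IsPrime]
    [Module.Flat R (LocalizedModule q.primeCompl (R ⊗[k] M₀))] :
    ∃ g, g ∉ q ∧ ∀ (q' : Ideal (R ⊗[k] S₀)) [q'.IsPrime], g ∉ q' →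
      Module.Flat R (LocalizedModule q'.primeCompl (R ⊗[k] M₀)) := by
  obtain ⟨B, hB, hflat⟩ := exists_fg_flat_stage (S := S₀) (M := M₀) q
  have hB' := hflat B le_rfl hB
  have : Algebra.FiniteType k B := (Subalgebra.fg_iff_finiteType B).mp hB
  have : IsNoetherianRing B := Algebra.FiniteType.isNoetherianRing k B
  let eS := Algebra.TensorProduct.cancelBaseChange k B R R S₀
  let eM := AlgebraTensorModule.cancelBaseChange k B R R M₀
  have hcontr : (q.comap eS).comap
      (Algebra.TensorProduct.includeRight : B ⊗[k] S₀ →ₐ[B] R ⊗[B] (B ⊗[k] S₀)) =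
      q.comap (sMap B.val S₀) := by
    ext x
    simp only [Ideal.mem_comap, Algebra.TensorProduct.includeRight_apply]
    rw [cancelBaseChange_one_tmul]
  obtain ⟨gt, hgt, hall⟩ := exists_notMem_forall_flat_baseChange (k := B) (S₀ := B ⊗[k] S₀)
    (M₀ := B ⊗[k] M₀) R (q.comap eS) (q.comap (sMap B.val S₀)) hcontr hB'
  refine ⟨eS gt, hgt, ?_⟩
  intro q' _ hq'
  have h1 := hall (q'.comap eS) hq'
  exact flat_localizedModule_of_semilinearEquiv eS.toRingEquiv eM
    (fun c x => cancelBaseChange_smul B c x) q' h1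

/-- **Openness of the flat locus** for `R ⊗[k] S₀`, `R ⊗[k] M₀`. -/
theorem isOpen_flatLocus_tensor :
    IsOpen {q : PrimeSpectrum (R ⊗[k] S₀) |
      Module.Flat R (LocalizedModule q.asIdeal.primeCompl (R ⊗[k] M₀))} := by
  rw [isOpen_iff_forall_mem_open]
  intro q hq
  have : Module.Flat R (LocalizedModule q.asIdeal.primeCompl (R ⊗[k] M₀)) := hq
  obtain ⟨g, hg, hall⟩ := exists_notMem_forall_flat_tensor (M₀ := M₀) q.asIdeal
  exact ⟨PrimeSpectrum.basicOpen g, fun q' hq' => hall q'.asIdeal hq',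
    (PrimeSpectrum.basicOpen g).isOpen, hg⟩

end OConcrete

end Groth.Agent.Lib.FlatLimOpenBC88
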