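import Groth.Agent.Lib.FlatCrit
import Mathlib.LinearAlgebra.TensorProduct.Quotient
import Mathlib.LinearAlgebra.TensorProduct.RightExactness
import Mathlib.RingTheory.Flat.Stability

/-!
# Base change of `Tor₁(-, R/I)`: generation lemma (helper88)

Content of Stacks 10.99.13/10.99.14 (Tag 00ML/00MM) in elementary form.

* `inter_range_le`: for submodules `K`, `I • ⊤` of a module `F`, with `F/K` flat modulo `I`:
  `range (P ⊗ K) ∩ I • (P ⊗ F) ⊆ range (P ⊗ (K ∩ IF))`.
-/

set_option autoImplicit false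
set_option maxHeartbeats 400000

namespace Groth.Agent.Lib.FlatLimT88

open TensorProduct Function Groth.Agent.Lib.FlatCrit

section Claim

variable {R : Type*} [CommRing R] (I : Ideal R)
variable {F N : Type*} [AddCommGroup F] [Module R F] [AddCommGroup N] [Module R N]
variable (P : Type*) [AddCommGroup P] [Module R P]

/-- Flat quotient, change of rings: for an exact sequence `0 → L → G → Q → 0` of `R̄`-modules with
`Q` flat over `R̄`, the map `P ⊗[R] L → P ⊗[R] G` is injective for any `R`-module `P`. -/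
theorem lTensor_injective_of_flat_quotient (Rb : Type*) [CommRing Rb] [Algebra R Rb]
    {L G Q : Type*} [AddCommGroup L] [Module R L] [Module Rb L] [IsScalarTower R Rb L]
    [AddCommGroup G] [Module R G] [Module Rb G] [IsScalarTower R Rb G]
    [AddCommGroup Q] [Module Rb Q] [Module.Flat Rb Q]
    (f : L →ₗ[Rb] G) (g : G →ₗ[Rb] Q) (hf : Injective f) (hfg : Exact f g) (hg : Surjective g) :
    Injective ((f.restrictScalars R).lTensor P) := by
  rw [LinearMap.lTensor_inj_iff_rTensor_inj]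
  apply rTensor_injective_restrictScalars_of Rb f
  exact rTensor_injective_of_tor1Zero hf hfg hg tor1Zero_of_flat_left

/-- Abstract chase: `κ : K → Kb` surjective, `ι : Kb → G` with `P ⊗ ι` injective; an element of
`P ⊗ K` killed by `P ⊗ (ι ∘ κ)` comes from `P ⊗ K₀` for any `K₀ → K` exact with `κ`. -/
theorem mem_range_lTensor_of_comp_eq_zero {K K₀ Kb G : Type*} [AddCommGroup K] [Module R K]
    [AddCommGroup K₀] [Module R K₀]
    [AddCommGroup Kb] [Module R Kb] [AddCommGroup G] [Module R G]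
    (i₀ : K₀ →ₗ[R] K) (κ : K →ₗ[R] Kb) (hex : Exact i₀ κ) (hκ : Surjective κ) (ι : Kb →ₗ[R] G)
    (hι : Injective (ι.lTensor P)) (ζ : P ⊗[R] K) (h : ((ι ∘ₗ κ).lTensor P) ζ = 0) :
    ζ ∈ LinearMap.range (i₀.lTensor P) := by
  have h2 : (κ.lTensor P) ζ = 0 := by
    apply hι
    rw [map_zero, ← LinearMap.comp_apply, ← LinearMap.lTensor_comp]
    exact h
  exact (lTensor_exact P hex hκ ζ).mp h2

/-- `1 ⊗ x = 0` in `(R ⧸ I) ⊗ F` iff `x ∈ I • ⊤`. -/
theorem one_tmul_eq_zero_iff (x : F) :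
    (1 : R ⧸ I) ⊗ₜ[R] x = 0 ↔ x ∈ I • (⊤ : Submodule R F) := by
  rw [← (TensorProduct.quotTensorEquivQuotSMul F I).map_eq_zero_iff,
    TensorProduct.quotTensorEquivQuotSMul_mk_one_tmul, Submodule.Quotient.mk_eq_zero]

/-- Key claim: if `N = F / ker π` has `N/IN` flat over `R/I`, then for every `R`-module `P`,
an element of `P ⊗ F` killed by `P ⊗ π` and by `P ⊗ (F → F/IF)` comes from `P ⊗ (ker π ∩ IF)`. -/
theorem mem_range_lTensor_inter (π : F →ₗ[R] N) (hπ : Surjective π)
    [Module.Flat (R ⧸ I) ((R ⧸ I) ⊗[R] N)]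
    (w : P ⊗[R] F) (hw1 : (π.lTensor P) w = 0)
    (hw2 : ((TensorProduct.mk R (R ⧸ I) F 1).lTensor P) w = 0) :
    w ∈ LinearMap.range (((LinearMap.ker π).subtype ∘ₗ
      ((I • (⊤ : Submodule R F)).comap (LinearMap.ker π).subtype).subtype).lTensor P) := by
  -- base change to `R ⧸ I`
  let jb : (R ⧸ I) ⊗[R] (LinearMap.ker π) →ₗ[R ⧸ I] (R ⧸ I) ⊗[R] F :=
    (LinearMap.ker π).subtype.baseChange (R ⧸ I)
  let πb : (R ⧸ I) ⊗[R] F →ₗ[R ⧸ I] (R ⧸ I) ⊗[R] N := π.baseChange (R ⧸ I)
  have hex : Exact jb πb := by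
    have := lTensor_exact (R ⧸ I) (LinearMap.exact_subtype_ker_map π) hπ
    rwa [← LinearMap.baseChange_eq_ltensor, ← LinearMap.baseChange_eq_ltensor] at this
  have hπb : Surjective πb := by
    have := LinearMap.lTensor_surjective (R ⧸ I) hπ
    rwa [← LinearMap.baseChange_eq_ltensor] at this
  have hex2 : Exact (LinearMap.range jb).subtype πb := by
    intro y
    rw [hex y]
    simp
  have hinj := lTensor_injective_of_flat_quotient (R := R) P (R ⧸ I) (L := LinearMap.range jb)
    (G := (R ⧸ I) ⊗[R] F) (Q := (R ⧸ I) ⊗[R] N) (LinearMap.range jb).subtype πb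
    (LinearMap.range jb).injective_subtype hex2 hπb
  -- the map `K → Kb`
  let κ : LinearMap.ker π →ₗ[R] LinearMap.range jb :=
    (jb.rangeRestrict.restrictScalars R) ∘ₗ (TensorProduct.mk R (R ⧸ I) (LinearMap.ker π) 1)
  have hκ : ((LinearMap.range jb).subtype.restrictScalars R) ∘ₗ κ =
      (TensorProduct.mk R (R ⧸ I) F 1) ∘ₗ (LinearMap.ker π).subtype := by
    ext k
    simp [κ, jb]
  have hκsurj : Surjective κ :=
    (LinearMap.surjective_rangeRestrict jb).comp
      (TensorProduct.mk_surjective R (LinearMap.ker π) (R ⧸ I) Ideal.Quotient.mk_surjective)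
  have hκ0 : ∀ k : LinearMap.ker π, κ k = 0 ↔ (k : F) ∈ I • (⊤ : Submodule R F) := by
    intro k
    rw [← one_tmul_eq_zero_iff I (k : F)]
    constructor
    · intro h
      have := congrArg Subtype.val h
      simpa [κ, jb] using this
    · intro h
      apply Subtype.ext
      simpa [κ, jb] using h
  have hexκ : Exact ((I • (⊤ : Submodule R F)).comap (LinearMap.ker π).subtype).subtype κ := by
    intro k
    rw [hκ0]
    constructor
    · intro hk
      exact ⟨⟨k, hk⟩, rfl⟩
    · rintro ⟨⟨k', hk'⟩, rfl⟩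
      exact hk'
  -- the chase
  obtain ⟨ζ, rfl⟩ := (lTensor_exact P (LinearMap.exact_subtype_ker_map π) hπ w).mp hw1
  have h2 : ((((LinearMap.range jb).subtype.restrictScalars R) ∘ₗ κ).lTensor P) ζ = 0 := by
    rw [hκ, LinearMap.lTensor_comp, LinearMap.comp_apply]
    exact hw2
  have a1 := mem_range_lTensor_of_comp_eq_zero (R := R) P (K := LinearMap.ker π)
    (Kb := LinearMap.range jb) (G := (R ⧸ I) ⊗[R] F)
    ((I • (⊤ : Submodule R F)).comap (LinearMap.ker π).subtype).subtype κ hexκ hκsurj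
  have a2 := a1 ((LinearMap.range jb).subtype.restrictScalars R)
  have a3 := a2 hinj ζ h2
  obtain ⟨ξ, hξ⟩ := a3
  refine ⟨ξ, ?_⟩
  rw [LinearMap.lTensor_comp, LinearMap.comp_apply, hξ]

end Claim


section Mu

variable {R : Type*} [CommRing R] (I : Ideal R) (Y : Type*) [AddCommGroup Y] [Module R Y]

/-- The multiplication map `Y ⊗ I → Y`. -/
noncomputable def mu : Y ⊗[R] I →ₗ[R] Y :=
  (TensorProduct.rid R Y).toLinearMap ∘ₗ (I.subtype.lTensor Y)

@[simp]
theorem mu_tmul (y : Y) (i : I) : mu I Y (y ⊗ₜ i) = (i : R) • y := by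
  simp [mu]

variable {Y}

theorem mu_eq_zero_iff (z : Y ⊗[R] I) : mu I Y z = 0 ↔ (I.subtype.lTensor Y) z = 0 := by
  simp [mu]

theorem ker_mu : LinearMap.ker (mu I Y) = LinearMap.ker (I.subtype.lTensor Y) := by
  ext z
  simp [mu]

theorem mu_injective_of_flat [Module.Flat R Y] : Injective (mu I Y) :=
  (TensorProduct.rid R Y).injective.comp
    (Module.Flat.lTensor_preserves_injective_linearMap _ I.injective_subtype)

theorem mu_rTensor {Y' : Type*} [AddCommGroup Y'] [Module R Y'] (f : Y →ₗ[R] Y')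
    (z : Y ⊗[R] I) : mu I Y' (f.rTensor I z) = f (mu I Y z) := by
  induction z with
  | zero => simp
  | add x y hx hy => simp only [map_add, hx, hy]
  | tmul y i => simp

theorem exists_mu_eq {x : Y} (hx : x ∈ I • (⊤ : Submodule R Y)) : ∃ u, mu I Y u = x := by
  refine Submodule.smul_induction_on hx ?_ ?_
  · intro r hr y _
    exact ⟨y ⊗ₜ ⟨r, hr⟩, by simp⟩
  · rintro _ _ ⟨u, rfl⟩ ⟨v, rfl⟩
    exact ⟨u + v, map_add _ _ _⟩

end Mu

section Phi

variable {R : Type*} [CommRing R] (I : Ideal R) (A : Type*) [CommRing A] [Algebra R A]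
variable (Y : Type*) [AddCommGroup Y] [Module R Y]

/-- The comparison map `Y ⊗[R] I → (A ⊗[R] Y) ⊗[A] IA`. -/
noncomputable def Phi : Y ⊗[R] I →ₗ[R] (A ⊗[R] Y) ⊗[A] (I.map (algebraMap R A)) :=
  (TensorProduct.mapOfCompatibleSMul A R R (A ⊗[R] Y) (I.map (algebraMap R A))) ∘ₗ
    (TensorProduct.map (TensorProduct.mk R A Y 1) (Algebra.idealMap A I))

@[simp]
theorem Phi_tmul (y : Y) (i : I) :
    Phi I A Y (y ⊗ₜ i) = ((1 : A) ⊗ₜ[R] y) ⊗ₜ[A] (Algebra.idealMap A I i) := rfl

variable {Y}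

theorem mu_Phi (u : Y ⊗[R] I) :
    mu (I.map (algebraMap R A)) (A ⊗[R] Y) (Phi I A Y u) = (1 : A) ⊗ₜ[R] (mu I Y u) := by
  induction u with
  | zero => simp
  | add x y hx hy => simp only [map_add, hx, hy, tmul_add]
  | tmul y i =>
    simp only [Phi_tmul, mu_tmul, Algebra.idealMap_apply_coe, TensorProduct.smul_tmul', smul_eq_mul,
      mul_one]
    rw [Algebra.algebraMap_eq_smul_one, TensorProduct.smul_tmul]

theorem rTensor_Phi {Y' : Type*} [AddCommGroup Y'] [Module R Y'] (f : Y →ₗ[R] Y')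
    (u : Y ⊗[R] I) :
    ((f.baseChange A).rTensor (I.map (algebraMap R A))) (Phi I A Y u) =
      Phi I A Y' (f.rTensor I u) := by
  induction u with
  | zero => simp
  | add x y hx hy => simp only [map_add, hx, hy]
  | tmul y i => simp

/-- `A ⊗ ((R ⧸ I) ⊗ Y)` is killed by `IA`. -/
theorem smul_eq_zero_of_mem_map {j : A} (hj : j ∈ I.map (algebraMap R A))
    (t : A ⊗[R] ((R ⧸ I) ⊗[R] Y)) : j • t = 0 := by
  have h0 : ∀ i ∈ I, ∀ s : (R ⧸ I) ⊗[R] Y, i • s = 0 := by
    intro i hi s
    induction s with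
    | zero => simp
    | add x y hx hy => rw [smul_add, hx, hy, add_zero]
    | tmul r y =>
      rw [TensorProduct.smul_tmul', Algebra.smul_def, Ideal.Quotient.algebraMap_eq,
        Ideal.Quotient.eq_zero_iff_mem.mpr hi, zero_mul, zero_tmul]
  rw [Ideal.map] at hj
  refine Submodule.span_induction ?_ ?_ ?_ ?_ hj
  · rintro _ ⟨i, hi, rfl⟩
    induction t with
    | zero => simp
    | add x y hx hy => rw [smul_add, hx, hy, add_zero]
    | tmul a s =>
      rw [TensorProduct.smul_tmul', smul_eq_mul, ← Algebra.smul_def, TensorProduct.smul_tmul,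
        h0 i hi, tmul_zero]
  · simp
  · intro x y _ _ hx hy
    rw [add_smul, hx, hy, add_zero]
  · intro a x _ hx
    rw [smul_eq_mul, mul_smul, hx, smul_zero]

end Phi


section Main

variable {R : Type*} [CommRing R] (I : Ideal R) (A : Type*) [CommRing A] [Algebra R A]
variable {N : Type*} [AddCommGroup N] [Module R N]

/-- **Base change of `Tor₁(R/I, -)`, generation form** (Stacks 10.99.13): if `N/IN` is flat over
`R/I`, then `ker (IA ⊗_A (A ⊗ N) → A ⊗ N)` is generated over `A` by the image of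
`ker (I ⊗ N → N)`. -/
theorem ker_mu_le_span [Module.Flat (R ⧸ I) ((R ⧸ I) ⊗[R] N)] :
    LinearMap.ker (mu (I.map (algebraMap R A)) (A ⊗[R] N)) ≤
      Submodule.span A (Phi I A N '' (LinearMap.ker (mu I N) : Set (N ⊗[R] I))) := by
  intro z hz
  rw [LinearMap.mem_ker] at hz
  -- free presentation
  let F := N →₀ R
  let π : F →ₗ[R] N := Finsupp.linearCombination R id
  have hπ : Surjective π := Finsupp.linearCombination_id_surjective R N
  let J := I.map (algebraMap R A)
  let πA : A ⊗[R] F →ₗ[A] A ⊗[R] N := π.baseChange A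
  have hπA : Surjective πA := by
    have := LinearMap.lTensor_surjective A hπ
    rwa [← LinearMap.baseChange_eq_ltensor] at this
  obtain ⟨zt, rfl⟩ := LinearMap.rTensor_surjective J hπA z
  set w := mu J (A ⊗[R] F) zt with hw
  have hw1 : (π.lTensor A) w = 0 := by
    have : πA w = 0 := by rw [hw, ← mu_rTensor, hz]
    rwa [← LinearMap.baseChange_eq_ltensor]
  have hw2 : ((TensorProduct.mk R (R ⧸ I) F 1).lTensor A) w = 0 := by
    have key : ∀ x : (A ⊗[R] F) ⊗[A] J,
        ((TensorProduct.mk R (R ⧸ I) F 1).baseChange A) (mu J (A ⊗[R] F) x) = 0 := by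
      intro x
      induction x with
      | zero => simp
      | add x y hx hy => rw [map_add, map_add, hx, hy, add_zero]
      | tmul x j =>
        rw [mu_tmul, map_smul]
        exact smul_eq_zero_of_mem_map I A j.2 _
    have := key zt
    rwa [LinearMap.baseChange_eq_ltensor] at this
  obtain ⟨ξ, hξ⟩ := mem_range_lTensor_inter I A π hπ w hw1 hw2
  -- build the preimage
  have hbuild : ∀ ξ : A ⊗[R] ((I • (⊤ : Submodule R F)).comap (LinearMap.ker π).subtype),
      ∃ y ∈ Submodule.span A (Phi I A F '' {u | π (mu I F u) = 0}),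
        mu J (A ⊗[R] F) y = (((LinearMap.ker π).subtype ∘ₗ
          ((I • (⊤ : Submodule R F)).comap (LinearMap.ker π).subtype).subtype).lTensor A) ξ := by
    intro ξ
    induction ξ with
    | zero => exact ⟨0, Submodule.zero_mem _, by simp⟩
    | add x y hx hy =>
      obtain ⟨y₁, h₁, e₁⟩ := hx
      obtain ⟨y₂, h₂, e₂⟩ := hy
      exact ⟨y₁ + y₂, Submodule.add_mem _ h₁ h₂, by rw [map_add, map_add, e₁, e₂]⟩
    | tmul a k =>
      obtain ⟨u, hu⟩ := exists_mu_eq I (x := ((k : LinearMap.ker π) : F)) k.2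
      refine ⟨a • Phi I A F u, Submodule.smul_mem _ _ (Submodule.subset_span ⟨u, ?_, rfl⟩), ?_⟩
      · show π (mu I F u) = 0
        rw [hu]
        exact (k : LinearMap.ker π).2
      · rw [map_smul, mu_Phi, hu]
        simp [TensorProduct.smul_tmul']
  obtain ⟨y, hy, hye⟩ := hbuild ξ
  have hFflat : Module.Flat A (A ⊗[R] F) := inferInstance
  have hzt : zt = y := by
    apply mu_injective_of_flat J
    rw [hye, hξ]
  rw [hzt]
  have hmap : Submodule.map (πA.rTensor J) (Submodule.span A (Phi I A F '' {u | π (mu I F u) = 0})) ≤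
      Submodule.span A (Phi I A N '' (LinearMap.ker (mu I N) : Set (N ⊗[R] I))) := by
    rw [Submodule.map_span]
    apply Submodule.span_mono
    rintro _ ⟨_, ⟨u, hu, rfl⟩, rfl⟩
    refine ⟨π.rTensor I u, ?_, (rTensor_Phi I A π u).symm⟩
    rw [SetLike.mem_coe, LinearMap.mem_ker, mu_rTensor]
    exact hu
  exact hmap ⟨y, hy, rfl⟩

end Main

end Groth.Agent.Lib.FlatLimT88
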