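import Groth.Agent.Lib.FlatLimFP88

/-!
# Openness of the flat locus on an intermediate spectrum (EGA IV 11.3.1 variant)

`A → B → C` of finite presentation, `M` a finitely presented `C`-module: the set of primes `q` of
`B` such that `M_q` (localization of `M` as a `B`-module) is flat over `A` is open in `Spec B`.
-/

open TensorProduct Function
set_option autoImplicit false
set_option maxHeartbeats 400000
universe u

namespace Groth.Agent.Lib.FlatLimTower88

open Groth.Agent.Lib.FlatLimT88 Groth.Agent.Lib.FlatLimStage88 Groth.Agent.Lib.FlatLimOpen88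

section L1

variable {A C : Type u} [CommRing A] [CommRing C] [Algebra A C]
  (M : Type u) [AddCommGroup M] [Module C M] [Module A M] [IsScalarTower A C M]

/-- Kernel criterion for flatness of a localization at a submonoid of `C` (generalizing helper22's
`FlatAtCrit22.flatAt_iff`). -/
theorem flat_localizedModule_of_forall_exists (W : Submonoid C)
    (H : ∀ (I : Ideal A) (x : M ⊗[A] I), (I.subtype.lTensor M) x = 0 → ∃ s ∈ W, s • x = 0) :
    Module.Flat A (LocalizedModule W M) := by
  classical
  let g : M →ₗ[C] LocalizedModule W M := LocalizedModule.mkLinearMap W M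
  have hcomm : ∀ (I : Ideal A) (x : M ⊗[A] I),
      (I.subtype.lTensor (LocalizedModule W M)) (AlgebraTensorModule.rTensor A I g x) =
        AlgebraTensorModule.rTensor A A g ((I.subtype.lTensor M) x) := by
    intro I x
    induction x with
    | zero => simp
    | tmul n i => simp
    | add a b ha hb => simp only [map_add, ha, hb]
  rw [Module.Flat.iff_lTensor_injective']
  intro I
  rw [injective_iff_map_eq_zero]
  intro y hy
  obtain ⟨⟨x, s⟩, hxs⟩ := IsLocalizedModule.surj W (AlgebraTensorModule.rTensor A I g) y
  have h1 : AlgebraTensorModule.rTensor A A g ((I.subtype.lTensor M) x) = 0 := by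
    rw [← hcomm, ← hxs]
    have : (I.subtype.lTensor (LocalizedModule W M)) (s • y) =
        s • (I.subtype.lTensor (LocalizedModule W M)) y := by
      exact (AlgebraTensorModule.lTensor C (LocalizedModule W M) (I.subtype)).map_smul (s : C) y
    rw [this, hy, smul_zero]
  obtain ⟨s', hs'⟩ := (IsLocalizedModule.eq_zero_iff W (AlgebraTensorModule.rTensor A A g)).mp h1
  have h2 : (I.subtype.lTensor M) ((s' : C) • x) = 0 := by
    have h3 : (I.subtype.lTensor M) ((s' : C) • x) = (s' : C) • (I.subtype.lTensor M) x :=
      (AlgebraTensorModule.lTensor C M (I.subtype)).map_smul (s' : C) x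
    rw [h3]; exact hs'
  obtain ⟨s'', hs''mem, hs''⟩ := H I _ h2
  have h4 : AlgebraTensorModule.rTensor A I g x = 0 := by
    rw [IsLocalizedModule.eq_zero_iff W]
    refine ⟨⟨s'', hs''mem⟩ * s', ?_⟩
    rw [Submonoid.smul_def, Submonoid.coe_mul, mul_smul]
    exact hs''
  rw [h4] at hxs
  exact IsLocalizedModule.smul_injective (AlgebraTensorModule.rTensor A I g) s
    (by simpa using hxs)

/-- Flatness of a localization at a submonoid follows from flatness at all primes disjoint from
the submonoid. -/
theorem flat_localizedModule_of_forall_prime (W : Submonoid C)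
    (H : ∀ (Q : Ideal C) [Q.IsPrime], Disjoint (W : Set C) (Q : Set C) →
      Module.Flat A (LocalizedModule Q.primeCompl M)) :
    Module.Flat A (LocalizedModule W M) := by
  classical
  apply flat_localizedModule_of_forall_exists
  intro I x hx
  by_contra hcon
  push Not at hcon
  -- annihilator ideal of x in C
  let Ann : Ideal C :=
    { carrier := {c | c • x = 0}
      add_mem' := by
        intro a b ha hb
        simp only [Set.mem_ofPred_eq] at ha hb ⊢
        rw [add_smul, ha, hb, add_zero]
      zero_mem' := by simp
      smul_mem' := by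
        intro c a ha
        simp only [Set.mem_ofPred_eq] at ha ⊢
        rw [smul_eq_mul, mul_smul, ha, smul_zero] }
  have hdis : Disjoint (W : Set C) (Ann : Set C) := by
    rw [Set.disjoint_left]
    intro s hs hsA
    exact hcon s hs hsA
  obtain ⟨Q, hQ, hAQ, hWQ⟩ := Ideal.exists_le_prime_disjoint Ann W hdis.symm
  haveI := hQ
  haveI := H Q hWQ.symm
  obtain ⟨v, hvQ, hv⟩ := exists_smul_eq_zero_of_flat (A := A) (X := M) I Q x
    ((mu_eq_zero_iff I x).mpr hx)
  exact hvQ (hAQ hv)

variable {M}

/-- Flatness of `W⁻¹M` passes to `M_Q` for primes `Q` disjoint from `W`. -/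
theorem flat_localizedModule_prime_of_submonoid (W : Submonoid C) (Q : Ideal C) [Q.IsPrime]
    (hWQ : W ≤ Q.primeCompl) [Module.Flat A (LocalizedModule W M)] :
    Module.Flat A (LocalizedModule Q.primeCompl M) := by
  let g' : LocalizedModule W M →ₗ[C] LocalizedModule Q.primeCompl M :=
    IsLocalizedModule.lift W (LocalizedModule.mkLinearMap W M)
      (LocalizedModule.mkLinearMap Q.primeCompl M)
      (fun x => IsLocalizedModule.map_units (LocalizedModule.mkLinearMap Q.primeCompl M)
        ⟨x, hWQ x.2⟩)
  have hg' : g' ∘ₗ LocalizedModule.mkLinearMap W M =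
      LocalizedModule.mkLinearMap Q.primeCompl M := IsLocalizedModule.lift_comp _ _ _ _
  have : IsLocalizedModule Q.primeCompl g' :=
    isLocalizedModule_of_comp W Q.primeCompl hWQ
      (LocalizedModule.mkLinearMap W M) (LocalizedModule.mkLinearMap Q.primeCompl M)
      g' hg'
  exact Groth.Agent.Lib.H77GenFlatAlg.flat_of_isLocalizedModule A Q.primeCompl g'

end L1

section Tower

variable {A B C : Type u} [CommRing A] [CommRing B] [CommRing C]
  [Algebra A B] [Algebra B C] [Algebra A C] [IsScalarTower A B C]
  (M : Type u) [AddCommGroup M] [Module C M] [Module B M] [Module A M]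
  [IsScalarTower B C M] [IsScalarTower A C M] [IsScalarTower A B M]

/-- Localizing `M` as a `B`-module at `q` is the same (as an `A`-module) as localizing `M` as a
`C`-module at the image of `B ∖ q`. -/
theorem flat_localizedModule_algebraMapSubmonoid_iff (q : Ideal B) [q.IsPrime] :
    Module.Flat A (LocalizedModule (Algebra.algebraMapSubmonoid C q.primeCompl) M) ↔
      Module.Flat A (LocalizedModule q.primeCompl M) := by
  let W := Algebra.algebraMapSubmonoid C q.primeCompl
  haveI : IsLocalizedModule q.primeCompl
      ((LocalizedModule.mkLinearMap W M).restrictScalars B) :=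
    IsLocalizedModule.restrictScalars q.primeCompl (LocalizedModule.mkLinearMap W M)
  let e : LocalizedModule q.primeCompl M ≃ₗ[B] LocalizedModule W M :=
    IsLocalizedModule.iso q.primeCompl ((LocalizedModule.mkLinearMap W M).restrictScalars B)
  exact (Module.Flat.equiv_iff (e.restrictScalars A)).symm

/-- **EGA IV 11.3.1 variant**: for `A → B → C` of finite presentation and `M` a finitely presented
`C`-module, the set of primes `q` of `B` with `M_q` flat over `A` is open in `Spec B`. -/
theorem isOpen_flat_locus_tower [Algebra.FinitePresentation A B] [Algebra.FinitePresentation B C]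
    [Module.FinitePresentation C M] :
    IsOpen {q : PrimeSpectrum B | Module.Flat A (LocalizedModule q.asIdeal.primeCompl M)} := by
  classical
  haveI : Algebra.FinitePresentation A C := Algebra.FinitePresentation.trans A B C
  have hUC : IsOpen {Q : PrimeSpectrum C |
      Module.Flat A (LocalizedModule Q.asIdeal.primeCompl M)} :=
    Groth.Agent.Lib.FlatLimFP88.isOpen_module_flat_locus (R := A) (S := C) (M := M)
  set Z : Set (PrimeSpectrum C) := {Q : PrimeSpectrum C |
      Module.Flat A (LocalizedModule Q.asIdeal.primeCompl M)}ᶜ with hZ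
  have hZc : IsClosed Z := hUC.isClosed_compl
  let I : Ideal C := PrimeSpectrum.vanishingIdeal Z
  have hIZ : PrimeSpectrum.zeroLocus (I : Set C) = Z := by
    rw [PrimeSpectrum.zeroLocus_vanishingIdeal_eq_closure, hZc.closure_eq]
  have key : {q : PrimeSpectrum B | Module.Flat A (LocalizedModule q.asIdeal.primeCompl M)} =
      (PrimeSpectrum.zeroLocus ((I.comap (algebraMap B C) : Ideal B) : Set B))ᶜ := by
    ext q
    simp only [Set.mem_ofPred_eq, Set.mem_compl_iff, PrimeSpectrum.mem_zeroLocus,
      SetLike.coe_subset_coe]
    constructor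
    · -- flat at q ⇒ I.comap ⊄ q
      intro hflat hle
      obtain ⟨Q, hIQ, hQ, hQq⟩ := Ideal.exists_ideal_comap_le_prime q.asIdeal I hle
      haveI := hQ
      have hflatW := (flat_localizedModule_algebraMapSubmonoid_iff (A := A) (C := C) M
        q.asIdeal).mpr hflat
      have hWQ : Algebra.algebraMapSubmonoid C q.asIdeal.primeCompl ≤ Q.primeCompl := by
        rintro _ ⟨b, hb, rfl⟩ hbQ
        exact hb (hQq hbQ)
      have hflatQ : Module.Flat A (LocalizedModule Q.primeCompl M) :=
        flat_localizedModule_prime_of_submonoid (A := A) (M := M) _ Q hWQ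
      have hQZ : (⟨Q, hQ⟩ : PrimeSpectrum C) ∈ Z := by
        rw [← hIZ]
        exact hIQ
      exact hQZ hflatQ
    · -- I.comap ⊄ q ⇒ flat at q
      intro hnle
      rw [← flat_localizedModule_algebraMapSubmonoid_iff (A := A) (C := C) M q.asIdeal]
      apply flat_localizedModule_of_forall_prime
      intro Q hQ hdis
      by_contra hnf
      have hQZ : (⟨Q, hQ⟩ : PrimeSpectrum C) ∈ Z := hnf
      rw [← hIZ] at hQZ
      apply hnle
      intro b hb
      by_contra hbq
      have h1 : algebraMap B C b ∈ Q := hQZ hb
      exact (Set.disjoint_left.mp hdis) ⟨b, hbq, rfl⟩ h1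
  rw [key]
  exact (PrimeSpectrum.isClosed_zeroLocus _).isOpen_compl

end Tower

end Groth.Agent.Lib.FlatLimTower88
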