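import Groth.Agent.Lib.GrpMaxPts45

/-!
# Every point of a group scheme over a field is a product of two maximal points (helper45)
-/

set_option autoImplicit false
set_option linter.unusedSectionVars false
universe u
open CategoryTheory CategoryTheory.Limits MonoidalCategory CartesianMonoidalCategory MonObj GrpObj
  AlgebraicGeometry
open Groth.Agent.Lib.GrpTopPts45

namespace Groth.Agent.Lib.GrpMaxPts45

section top

variable {X : Type*} [TopologicalSpace X]

lemma IsMaxPt.closure_mem_irreducibleComponents [QuasiSober X] {ξ : X} (hξ : IsMaxPt ξ) :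
    closure {ξ} ∈ irreducibleComponents X := by
  refine ⟨isIrreducible_singleton.closure, ?_⟩
  intro T hT hle
  obtain ⟨e, he⟩ := QuasiSober.sober hT.closure isClosed_closure
  have hec : closure {e} = closure T := he
  have h1 : ξ ∈ closure {e} := by
    rw [hec]
    exact subset_closure (hle (subset_closure rfl))
  have h2 : e ⤳ ξ := specializes_iff_mem_closure.mpr h1
  have h3 := hξ e h2
  rw [← h3, hec]
  exact subset_closure

lemma isMaxPt_of_closure_mem_irreducibleComponents [T0Space X] {ξ : X}
    (hξ : closure {ξ} ∈ irreducibleComponents X) : IsMaxPt ξ := by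
  intro ξ' h
  have h3 : closure {ξ} ⊆ closure {ξ'} := specializes_iff_closure_subset.1 h
  have h4 : closure {ξ'} ⊆ closure {ξ} := hξ.2 isIrreducible_singleton.closure h3
  exact (h.antisymm (specializes_iff_closure_subset.2 h4)).eq

end top

variable {k : Type u} [Field k] {G : Over (Spec (CommRingCat.of k))} [GrpObj G]

lemma IsMaxPt.inv {x : G.left} (hx : IsMaxPt x) : IsMaxPt (ι[G].left x) := by
  intro z hz
  have h1 : ι[G].left z ⤳ x := by
    have := hz.map ι[G].left.continuous
    rwa [inv_inv_apply] at this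
  have h2 := hx _ h1
  rw [← h2, inv_inv_apply]

/-- Every point of a group scheme over a field is the product of two maximal points. -/
theorem exists_mul_eq_of_isMaxPt (x : G.left) :
    ∃ z : (G ⊗ G).left, μ[G].left z = x ∧ IsMaxPt ((fst G G).left z) ∧
      IsMaxPt ((snd G G).left z) := by
  obtain ⟨ξ, hξ, -⟩ := exists_isMaxPt_specializes x
  have hmem := isMaxPt_mem_mulSet x (W := {w | IsMaxPt w}) (fun w hw => hw) ξ hξ
  obtain ⟨Q, z, a, b, ha, hb, hab⟩ := mem_mulSet_iff.mp hmem
  have h1 : a.left z = ((a * b) * b⁻¹).left z := by rw [mul_inv_cancel_right]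
  have ha' : a.left z = x := ha
  have hmem2 : x ∈ mulSet G {w | IsMaxPt w} {w | IsMaxPt w} := by
    rw [← ha', h1]
    refine mul_mem_mulSet _ _ _ ?_ ?_
    · rw [hab]; exact hξ
    · rw [inv_left_apply]
      exact IsMaxPt.inv hb
  obtain ⟨w, ⟨hw1, hw2⟩, hw3⟩ := hmem2
  exact ⟨w, hw3, hw1, hw2⟩

end Groth.Agent.Lib.GrpMaxPts45
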