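import Groth.Agent.Lib.KerSq18
import Groth.Agent.Lib.ActOpen18
import Groth.Agent.Lib.FpqcDescent
import Groth.Prelude.Def_AlgGrp

set_option autoImplicit false
universe v u
open CategoryTheory CategoryTheory.Limits MonoidalCategory CartesianMonoidalCategory MonObj GrpObj
  AlgebraicGeometry

namespace Groth.Agent.Lib.KerTorsor45

section cat
variable {C : Type u} [Category.{v} C] [CartesianMonoidalCategory C]

lemma isPullback_whiskerRight_fst {A B : C} (p : A ⟶ B) (H : C) :
    IsPullback (p ▷ H) (fst A H) (fst B H) p := by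
  refine ⟨⟨by simp⟩, ⟨PullbackCone.IsLimit.mk _ (fun s => lift s.snd (s.fst ≫ snd B H)) ?_ ?_ ?_⟩⟩
  · intro s
    apply CartesianMonoidalCategory.hom_ext
    · simp [s.condition]
    · simp
  · intro s
    simp
  · intro s m h1 h2
    apply CartesianMonoidalCategory.hom_ext
    · simp [← h2]
    · simp [← h1]

set_option linter.unusedSectionVars false
variable {G Q N H : C} [GrpObj G] [GrpObj Q] [GrpObj H] (p : G ⟶ Q) [IsMonHom p] (i : N ⟶ G)
  (u : G ⟶ H)

/-- `(g, n) ↦ (g, u (g · i n))`. -/
noncomputable def shearTo : G ⊗ N ⟶ G ⊗ H := lift (fst G N) (((G ◁ i) ≫ μ[G]) ≫ u)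

/-- The map `(p, u) : G ⟶ Q ⊗ H` becomes `shearTo` after base change along `p ▷ H`. -/
lemma isPullback_shearTo (hK : IsPullback i (toUnit N) p η[Q]) :
    IsPullback (shearTo i u) ((G ◁ i) ≫ μ[G]) (p ▷ H) (lift p u) := by
  refine IsPullback.of_right (h₁₂ := fst G H) (h₂₂ := fst Q H) (v₁₃ := p) ?_ ?_
    (isPullback_whiskerRight_fst p H).flip
  · have h1 : shearTo i u ≫ fst G H = fst G N := lift_fst _ _
    have h2 : lift p u ≫ fst Q H = p := lift_fst _ _
    rw [h1, h2]
    exact (Groth.Agent.Lib.KerSq18.isPullback_mul_fst_of_isKernel p i hK).flip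
  · apply CartesianMonoidalCategory.hom_ext
    · have := (Groth.Agent.Lib.KerSq18.isPullback_mul_fst_of_isKernel p i hK).w
      simp [shearTo, this]
    · simp [shearTo]

/-- `(g, h) ↦ (g, u g · h)`. -/
noncomputable def shear : G ⊗ H ⟶ G ⊗ H := lift (fst G H) ((fst G H ≫ u) * snd G H)

noncomputable def shearInv : G ⊗ H ⟶ G ⊗ H := lift (fst G H) ((fst G H ≫ u)⁻¹ * snd G H)

lemma shear_shearInv : shear u ≫ shearInv u = 𝟙 _ := by
  apply CartesianMonoidalCategory.hom_ext
  · simp [shear, shearInv]
  · simp only [shear, shearInv, Category.id_comp]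
    rw [Category.assoc, lift_snd, MonObj.comp_mul, GrpObj.comp_inv, ← Category.assoc, lift_fst,
      lift_snd, inv_mul_cancel_left]

lemma shearInv_shear : shearInv u ≫ shear u = 𝟙 _ := by
  apply CartesianMonoidalCategory.hom_ext
  · simp [shear, shearInv]
  · simp only [shear, shearInv, Category.id_comp]
    rw [Category.assoc, lift_snd, MonObj.comp_mul, ← Category.assoc, lift_fst, lift_snd,
      mul_inv_cancel_left]

instance : IsIso (shear u) := ⟨shearInv u, shear_shearInv u, shearInv_shear u⟩

lemma shearTo_eq [IsMonHom u] : shearTo i u = (G ◁ (i ≫ u)) ≫ shear u := by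
  apply CartesianMonoidalCategory.hom_ext
  · simp [shear, shearTo]
  · simp only [shear, shearTo, lift_snd, Category.assoc]
    have h := Groth.Agent.Lib.KerSq18.whiskerLeft_mul i (𝟙 (G ⊗ N))
    rw [Category.id_comp, Category.id_comp, Category.id_comp] at h
    rw [← Category.assoc, h, MonObj.mul_comp, MonObj.comp_mul, whiskerLeft_fst_assoc,
      whiskerLeft_snd, Category.assoc]

end cat

section sch
variable {S : Scheme.{u}} {G Q N H : Over S} [GrpObj G] [GrpObj Q] [GrpObj H]
  (p : G ⟶ Q) [IsMonHom p] (i : N ⟶ G) (u : G ⟶ H) [IsMonHom u]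

/-- If the restriction of `u` to the kernel of an fpqc homomorphism `p` is proper, then
`(p, u) : G ⟶ Q × H` is proper. -/
theorem isProper_lift (hK : AlgGrp.IsKernel i p) [Surjective p.left] [Flat p.left]
    [QuasiCompact p.left] (hu : IsProper (i ≫ u).left) : IsProper (lift p u).left := by
  have hpb := (isPullback_shearTo p i u hK).map (Over.forget S)
  have hA := ((isPullback_whiskerRight_fst p H).map (Over.forget S)).flip
  have hs : Surjective ((Over.forget S).map (p ▷ H)) :=
    MorphismProperty.of_isPullback (P := @Surjective) hA (inferInstanceAs (Surjective p.left))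
  have hf : Flat ((Over.forget S).map (p ▷ H)) :=
    MorphismProperty.of_isPullback (P := @Flat) hA (inferInstanceAs (Flat p.left))
  have hq : QuasiCompact ((Over.forget S).map (p ▷ H)) :=
    MorphismProperty.of_isPullback (P := @QuasiCompact) hA (inferInstanceAs (QuasiCompact p.left))
  have hw : IsProper ((Over.forget S).map (shearTo i u)) := by
    rw [shearTo_eq, Functor.map_comp]
    have h1 : IsProper ((Over.forget S).map (G ◁ (i ≫ u))) :=
      MorphismProperty.of_isPullback (P := @IsProper)
        (Groth.Agent.Lib.ActOpen18.isPullback_whiskerLeft_snd G (i ≫ u)).flip hu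
    infer_instance
  exact MorphismProperty.of_isPullback_of_descendsAlong (P := @IsProper)
    (Q := @Surjective ⊓ @Flat ⊓ @QuasiCompact) hpb ⟨⟨hs, hf⟩, hq⟩ hw

/-- If `Q` is proper over `S` and the restriction of `u` to the kernel of the fpqc homomorphism
`p : G ⟶ Q` is proper, then `u` is proper. -/
theorem isProper_of_isProper_comp_kernel (hK : AlgGrp.IsKernel i p) [Surjective p.left]
    [Flat p.left] [QuasiCompact p.left] [IsProper Q.hom] (hu : IsProper (i ≫ u).left) :
    IsProper u.left := by
  have h1 : u = lift p u ≫ snd Q H := (lift_snd _ _).symm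
  have h2 : IsProper (lift p u).left := isProper_lift p i u hK hu
  have h3 : IsProper (snd Q H).left := inferInstanceAs (IsProper (pullback.snd Q.hom H.hom))
  rw [h1, Over.comp_left]
  infer_instance

end sch

end Groth.Agent.Lib.KerTorsor45
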