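import Groth.Agent.Lib.DenseOpenMul45
import Groth.Agent.Lib.GrpMaxPts45b
import Groth.Agent.Lib.KerTorsor45
import Groth.Agent.Lib.AlgSpBasic
import Groth.Agent.Lib.ActOpen18

set_option autoImplicit false
universe u
open CategoryTheory CategoryTheory.Limits MonoidalCategory CartesianMonoidalCategory MonObj GrpObj
  AlgebraicGeometry
open Groth.Agent.Lib.GrpMaxPts45

namespace Groth.Agent.Lib.FlatLocusCover45

/-- If an open `U` of `X` contains the maximal points of the fibre of `p : X ⟶ S` through `x`,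
then its preimage is dense in `X ×_S Spec κ(x)`. -/
theorem dense_preimage_of_maxPts {X S : Scheme.{u}} (p : X ⟶ S) (x : X) (U : X.Opens)
    (hU : ∀ g : ↥(p ⁻¹' {p x}), closure {g} ∈ irreducibleComponents ↥(p ⁻¹' {p x}) → g.1 ∈ U) :
    Dense ((pullback.fst p (X.fromSpecResidueField x ≫ p) ⁻¹ᵁ U :
      (pullback p (X.fromSpecResidueField x ≫ p)).Opens) :
        Set ↥(pullback p (X.fromSpecResidueField x ≫ p))) := by
  set t := X.fromSpecResidueField x ≫ p with ht
  have htf : t = Spec.map (p.residueFieldMap x) ≫ S.fromSpecResidueField (p x) :=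
    (Scheme.Hom.SpecMap_residueFieldMap_fromSpecResidueField p x).symm
  let ρ : pullback p t ⟶ p.fiber (p x) :=
    pullback.lift (pullback.fst p t) (pullback.snd p t ≫ Spec.map (p.residueFieldMap x))
      (by rw [Category.assoc, ← htf, pullback.condition])
  have hρ1 : ρ ≫ p.fiberι (p x) = pullback.fst p t := pullback.lift_fst _ _ _
  have hρ2 : ρ ≫ p.fiberToSpecResidueField (p x) =
      pullback.snd p t ≫ Spec.map (p.residueFieldMap x) := pullback.lift_snd _ _ _
  have hpb : IsPullback ρ (pullback.snd p t) (p.fiberToSpecResidueField (p x))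
      (Spec.map (p.residueFieldMap x)) := by
    refine IsPullback.of_right (h₁₂ := p.fiberι (p x)) (h₂₂ := S.fromSpecResidueField (p x))
      (v₁₃ := p) ?_ hρ2 (IsPullback.of_hasPullback p (S.fromSpecResidueField (p x)))
    rw [hρ1, ← htf]
    exact IsPullback.of_hasPullback p t
  have hfl0 : Flat (Spec.map (p.residueFieldMap x)) := by
    rw [Flat.SpecMap_iff]
    exact RingHom.Flat.of_isField (Field.toIsField _) _
  have hfl : Flat ρ := MorphismProperty.of_isPullback (P := @Flat) hpb.flip hfl0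
  have hgen : GeneralizingMap ρ := Flat.generalizingMap ρ
  rw [dense_iff_inter_open]
  rintro O hO ⟨p₀, hp₀⟩
  obtain ⟨ξ, hξ, hξp⟩ := exists_isMaxPt_specializes p₀
  have hξO : ξ ∈ O := hξp.mem_open hO hp₀
  refine ⟨ξ, hξO, ?_⟩
  have hq : IsMaxPt (ρ ξ) := hξ.map_of_generalizingMap hgen
  let e := p.fiberHomeo (p x)
  have hg : IsMaxPt (e (ρ ξ)) := hq.homeomorph e
  have hqs : QuasiSober ↥(p ⁻¹' {p x}) := e.symm.isClosedEmbedding.quasiSober
  have hmem := hU (e (ρ ξ)) hg.closure_mem_irreducibleComponents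
  have h1 : (e (ρ ξ)).1 = pullback.fst p t ξ := by
    rw [Scheme.Hom.fiberHomeo_apply, ← Scheme.Hom.comp_apply, hρ1]
  rw [h1] at hmem
  exact hmem

variable {S : Scheme.{u}} {G X : Over S} [GrpObj G]

set_option maxHeartbeats 400000 in
theorem flat_lfp_surjective [LocallyOfFinitePresentation G.hom] [Flat G.hom]
    [LocallyOfFinitePresentation X.hom] (f : X ⟶ G)
    (hf : ∀ (s : S) (g : ↥(G.hom.base ⁻¹' {s})),
      closure {g} ∈ irreducibleComponents ↥(G.hom.base ⁻¹' {s}) →
      ∃ x : X.left, f.left.base x = g.1 ∧ (f.left.stalkMap x).hom.Flat)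
    (V : X.left.Opens) (hV : (V : Set X.left) = {x : X.left | (f.left.stalkMap x).hom.Flat})
    (fV : Over.mk (V.ι ≫ X.hom) ⟶ G) (hfV : fV.left = V.ι ≫ f.left) :
    Flat ((fV ⊗ₘ fV) ≫ μ[G]).left ∧ LocallyOfFinitePresentation ((fV ⊗ₘ fV) ≫ μ[G]).left ∧
      Surjective ((fV ⊗ₘ fV) ≫ μ[G]).left := by
  let V' : Over S := Over.mk (V.ι ≫ X.hom)
  have hflat : Flat fV.left := by
    rw [hfV, Flat.iff_flat_stalkMap]
    intro v
    rw [Scheme.Hom.stalkMap_comp]
    change (((V.ι.stalkMap v).hom).comp ((f.left.stalkMap (V.ι v)).hom)).Flat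
    refine RingHom.Flat.comp ?_ (RingHom.Flat.of_bijective
      (ConcreteCategory.bijective_of_isIso (V.ι.stalkMap v)))
    have hv : (V.ι v : X.left) ∈ (V : Set X.left) := by
      have hv' : V.ι (show ↥V from v) ∈ (V : Set X.left) := (show ↥V from v).2
      exact hv'
    rw [hV] at hv
    exact hv
  have hlfpV : LocallyOfFinitePresentation V'.hom :=
    inferInstanceAs (LocallyOfFinitePresentation (V.ι ≫ X.hom))
  have hlfp : LocallyOfFinitePresentation fV.left :=
    Groth.Agent.Lib.AlgSpBasic.locallyOfFinitePresentation_of_comp fV.left G.hom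
      (by rw [Over.w]; exact hlfpV) inferInstance
  have hfl1 : Flat (fV ▷ V').left :=
    MorphismProperty.of_isPullback (P := @Flat)
      ((Groth.Agent.Lib.KerTorsor45.isPullback_whiskerRight_fst fV V').map (Over.forget S)).flip
      hflat
  have hfl2 : Flat (G ◁ fV).left :=
    MorphismProperty.of_isPullback (P := @Flat)
      (Groth.Agent.Lib.ActOpen18.isPullback_whiskerLeft_snd G fV).flip hflat
  have hflμ : Flat μ[G].left := Groth.Agent.Lib.DenseOpenMul45.flat_mul
  have hm : ((fV ⊗ₘ fV) ≫ μ[G]).left = (fV ▷ V').left ≫ (G ◁ fV).left ≫ μ[G].left := by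
    rw [MonoidalCategory.tensorHom_def, Over.comp_left, Over.comp_left, Category.assoc]
  refine ⟨?_, ?_, ?_⟩
  · rw [hm]; infer_instance
  · have h1 : LocallyOfFinitePresentation (V' ⊗ V').hom :=
      inferInstanceAs (LocallyOfFinitePresentation (pullback.fst V'.hom V'.hom ≫ V'.hom))
    exact Groth.Agent.Lib.AlgSpBasic.locallyOfFinitePresentation_of_comp _ G.hom
      (by rw [Over.w]; exact h1) inferInstance
  · let U : G.left.Opens := ⟨Set.range fV.left, fV.left.isOpenMap.isOpen_range⟩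
    refine ⟨fun x => ?_⟩
    have hUmax : ∀ g : ↥(G.hom ⁻¹' {G.hom x}),
        closure {g} ∈ irreducibleComponents ↥(G.hom ⁻¹' {G.hom x}) → g.1 ∈ U := by
      intro g hg
      obtain ⟨x', hx', hfx'⟩ := hf (G.hom x) g hg
      have hx'V : x' ∈ (V : Set X.left) := by rw [hV]; exact hfx'
      refine ⟨(⟨x', hx'V⟩ : ↥V), ?_⟩
      rw [hfV]
      exact hx'
    obtain ⟨w, ⟨v₁, hv₁⟩, ⟨v₂, hv₂⟩, hw3⟩ := Groth.Agent.Lib.DenseOpenMul45.exists_mul_eq U x
      (dense_preimage_of_maxPts G.hom x U hUmax)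
    obtain ⟨w', hw'1, hw'2⟩ := Groth.Agent.Lib.ActOpen18.exists_preimage_of_isPullback
      (Groth.Agent.Lib.ActOpen18.isPullback_whiskerLeft_snd G fV) w v₂ hv₂.symm
    have hfst' : (fst G V').left w' = fV.left v₁ := by
      have h2 : (G ◁ fV) ≫ fst G G = fst G V' := whiskerLeft_fst _ _
      rw [← h2, Over.comp_left, Scheme.Hom.comp_apply]
      rw [hv₁]
      exact congrArg _ hw'1
    have hpb2 : IsPullback (fV ▷ V').left (fst V' V').left (fst G V').left fV.left :=
      (Groth.Agent.Lib.KerTorsor45.isPullback_whiskerRight_fst fV V').map (Over.forget S)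
    obtain ⟨w'', hw''1, hw''2⟩ := Groth.Agent.Lib.ActOpen18.exists_preimage_of_isPullback
      hpb2 w' v₁ hfst'
    refine ⟨w'', ?_⟩
    have e1 : (fV ▷ V').left w'' = w' := hw''1
    have e2 : (G ◁ fV).left w' = w := hw'1
    rw [hm]
    change μ[G].left ((G ◁ fV).left ((fV ▷ V').left w'')) = x
    rw [e1, e2, hw3]

end Groth.Agent.Lib.FlatLocusCover45
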