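import Groth.Agent.Lib.CritFibE88
import Groth.Prelude.Def_CAlgX

set_option autoImplicit false
set_option maxHeartbeats 400000
set_option linter.style.haveILetI false
universe u

open Polynomial TensorProduct
open scoped Pointwise

/-!
# Regular elements on the closed fibre of a flat module (helper64)

EGA IV 11.3.8 / 0_III 10.2.4 for a single element, essentially finitely presented (non-Noetherian)
case, deduced from helper88's critère de platitude par fibres (`CritFibE88.flat_of_fibre_ft`)
applied to `R → R[X] → S₀`, `X ↦ c`: the fibre ring `k[X]` is a Bezout domain, so flatness of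
`N/𝔪N` over it is torsion-freeness, which follows from `c` being a regular element in the maximal
ideal of the local ring `S/𝔪S`.

* `isSMulRegular_eval₂`: nonzero polynomials in a regular element of the maximal ideal are regular.
* `flat_polynomial`: `N` is flat over `R[X]`.
* `core`, `isSMulRegular_and_flat`: `x` regular on `N/𝔪_R N` ⇒ `x` regular on `N` and `N/xN` flat
  over `R` (`R → S` local, `S` essentially of finite presentation, `N` f.p. over `S`, flat over `R`).
-/

namespace Groth.Agent.Lib.RegElemFlat64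

section LemmaT

variable {k Sb Nb : Type*} [Field k] [CommRing Sb] [IsLocalRing Sb] [AddCommGroup Nb] [Module Sb Nb]

/-- Over a local ring `Sb` receiving a field `k`, if `xb` lies in the maximal ideal and is
`Nb`-regular then every nonzero polynomial in `xb` with coefficients in `k` is `Nb`-regular. -/
theorem isSMulRegular_eval₂ (ι : k →+* Sb) (xb : Sb) (hx : xb ∈ IsLocalRing.maximalIdeal Sb)
    (hreg : IsSMulRegular Nb xb) (f : k[X]) (hf : f ≠ 0) :
    IsSMulRegular Nb (Polynomial.eval₂ ι xb f) := by
  obtain ⟨g, hfg, hg⟩ := Polynomial.exists_eq_pow_rootMultiplicity_mul_and_not_dvd f hf 0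
  rw [C_0, sub_zero] at hfg hg
  rw [Polynomial.X_dvd_iff] at hg
  have hgu : IsUnit (Polynomial.eval₂ ι xb g) := by
    by_contra hnu
    have h1 : Polynomial.eval₂ ι xb g ∈ IsLocalRing.maximalIdeal Sb := hnu
    have h2 : Polynomial.eval₂ ι xb g = Polynomial.eval₂ ι xb g.divX * xb + ι (g.coeff 0) := by
      conv_lhs => rw [← Polynomial.divX_mul_X_add g]
      rw [Polynomial.eval₂_add, Polynomial.eval₂_mul, Polynomial.eval₂_X, Polynomial.eval₂_C]
    have h3 : ι (g.coeff 0) ∈ IsLocalRing.maximalIdeal Sb := by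
      have : ι (g.coeff 0) = Polynomial.eval₂ ι xb g - Polynomial.eval₂ ι xb g.divX * xb := by
        rw [h2]; ring
      rw [this]
      exact Ideal.sub_mem _ h1 (Ideal.mul_mem_left _ _ hx)
    exact h3 ((IsUnit.mk0 _ hg).map ι)
  rw [hfg, Polynomial.eval₂_mul, Polynomial.eval₂_pow, Polynomial.eval₂_X]
  exact (hreg.pow _).mul (hgu.isSMulRegular Nb)

end LemmaT


/-- The ideal of `S` generated by the maximal ideal of `R`. -/
abbrev mS (R S : Type u) [CommRing R] [CommRing S] [IsLocalRing R] [Algebra R S] : Ideal S :=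
  (IsLocalRing.maximalIdeal R).map (algebraMap R S)

section Main

variable {R S : Type u} [CommRing R] [CommRing S] [IsLocalRing R] [IsLocalRing S] [Algebra R S]
  [IsLocalHom (algebraMap R S)]
  (N : Type u) [AddCommGroup N] [Module S N] [Module R N] [IsScalarTower R S N]
  [Module.FinitePresentation S N] [Module.Flat R N]

/-- Step 1: `N` is flat over `R[X]` acting through `X ↦ c`. -/
theorem flat_polynomial {S₀ : Type u} [CommRing S₀] [Algebra R S₀] [Algebra S₀ S]
    [IsScalarTower R S₀ S] [Algebra.FinitePresentation R S₀] (M₀ : Submonoid S₀)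
    [IsLocalization M₀ S] (c : S₀)
    (hc : algebraMap S₀ S c ∈ IsLocalRing.maximalIdeal S)
    (hreg : IsSMulRegular (N ⧸ (mS R S • ⊤ : Submodule S N)) (algebraMap S₀ S c)) :
    letI : Module R[X] N :=
      Module.compHom N ((algebraMap S₀ S).comp (Polynomial.aeval (R := R) c).toRingHom)
    Module.Flat R[X] N := by
  classical
  letI algBS₀ : Algebra R[X] S₀ := (Polynomial.aeval (R := R) c).toRingHom.toAlgebra
  haveI tRBS₀ : IsScalarTower R R[X] S₀ :=
    IsScalarTower.of_algebraMap_eq (fun r => ((Polynomial.aeval (R := R) c).commutes r).symm)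
  letI modS₀ : Module S₀ N := Module.compHom N (algebraMap S₀ S)
  have hsmS₀ : ∀ (a : S₀) (n : N), a • n = algebraMap S₀ S a • n := fun _ _ => rfl
  haveI tS₀SN : IsScalarTower S₀ S N := ⟨fun a s n => by
    rw [hsmS₀ a (s • n), Algebra.smul_def, mul_smul]⟩
  letI modB : Module R[X] N :=
    Module.compHom N ((algebraMap S₀ S).comp (Polynomial.aeval (R := R) c).toRingHom)
  have hsmB : ∀ (f : R[X]) (n : N), f • n = algebraMap S₀ S (algebraMap R[X] S₀ f) • n :=
    fun _ _ => rfl
  haveI tBS₀N : IsScalarTower R[X] S₀ N := ⟨fun f a n => by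
    rw [hsmB f (a • n), hsmS₀ (f • a) n, hsmS₀ a n, Algebra.smul_def, map_mul, mul_smul]⟩
  haveI tRBN : IsScalarTower R R[X] N := ⟨fun r f n => by
    rw [hsmB (r • f) n, hsmB f n, Algebra.smul_def, map_mul, map_mul, mul_smul,
      ← IsScalarTower.algebraMap_apply R R[X] S₀, ← IsScalarTower.algebraMap_apply R S₀ S,
      algebraMap_smul]⟩
  -- `S` is the localization of `S₀` at the contraction of its maximal ideal
  haveI locSS : IsLocalization.AtPrime S (IsLocalRing.maximalIdeal S) :=
    IsLocalization.self (fun y hy => by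
      change y ∉ IsLocalRing.maximalIdeal S at hy
      rw [IsLocalRing.mem_maximalIdeal, mem_nonunits_iff, not_not] at hy
      exact hy)
  set Q : Ideal S₀ := (IsLocalRing.maximalIdeal S).comap (algebraMap S₀ S) with hQdef
  haveI : Q.IsPrime := Ideal.comap_isPrime _ _
  haveI locS : IsLocalization.AtPrime S Q :=
    IsLocalization.isLocalization_isLocalization_atPrime_isLocalization M₀ S
      (IsLocalRing.maximalIdeal S)
  have hQ : (IsLocalRing.maximalIdeal R).map (algebraMap R S₀) ≤ Q := by
    rw [Ideal.map_le_iff_le_comap]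
    intro r hr
    rw [Ideal.mem_comap, hQdef, Ideal.mem_comap, ← IsScalarTower.algebraMap_apply R S₀ S]
    rw [IsLocalRing.mem_maximalIdeal, mem_nonunits_iff] at hr ⊢
    exact fun hu => hr (isUnit_of_map_unit (algebraMap R S) r hu)
  have h2 : Module.Flat (R[X] ⧸ (IsLocalRing.maximalIdeal R).map (algebraMap R R[X]))
      ((R[X] ⧸ (IsLocalRing.maximalIdeal R).map (algebraMap R R[X])) ⊗[R[X]] N) := by
    have hle : mS R S ≤ IsLocalRing.maximalIdeal S := by
      rw [Ideal.map_le_iff_le_comap]
      intro r hr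
      rw [Ideal.mem_comap]
      rw [IsLocalRing.mem_maximalIdeal, mem_nonunits_iff] at hr ⊢
      exact fun hu => hr (isUnit_of_map_unit (algebraMap R S) r hu)
    have hne : mS R S ≠ ⊤ := fun h => (IsLocalRing.maximalIdeal.isMaximal S).ne_top
      (top_le_iff.mp (h ▸ hle))
    haveI : Nontrivial (S ⧸ mS R S) := Ideal.Quotient.nontrivial_iff.mpr hne
    haveI : IsLocalRing (S ⧸ mS R S) :=
      IsLocalRing.of_surjective' (Ideal.Quotient.mk _) Ideal.Quotient.mk_surjective
    let ι : IsLocalRing.ResidueField R →+* S ⧸ mS R S :=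
      Ideal.Quotient.lift (IsLocalRing.maximalIdeal R)
        ((Ideal.Quotient.mk (mS R S)).comp (algebraMap R S))
        (fun r hr => Ideal.Quotient.eq_zero_iff_mem.mpr (Ideal.mem_map_of_mem _ hr))
    let xb : S ⧸ mS R S := Ideal.Quotient.mk _ (algebraMap S₀ S c)
    let φ : (IsLocalRing.ResidueField R)[X] →+* S ⧸ mS R S := Polynomial.eval₂RingHom ι xb
    letI modkX : Module (IsLocalRing.ResidueField R)[X] (N ⧸ (mS R S • ⊤ : Submodule S N)) :=
      Module.compHom _ φ
    letI algBk : Algebra R[X] (IsLocalRing.ResidueField R)[X] :=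
      (Polynomial.mapRingHom (IsLocalRing.residue R)).toAlgebra
    letI modBNb : Module R[X] (N ⧸ (mS R S • ⊤ : Submodule S N)) :=
      Module.compHom _ ((algebraMap S₀ S).comp (Polynomial.aeval (R := R) c).toRingHom)
    have hcompat : ∀ f : R[X], φ (algebraMap R[X] (IsLocalRing.ResidueField R)[X] f) =
        Ideal.Quotient.mk (mS R S) (algebraMap S₀ S (algebraMap R[X] S₀ f)) := by
      intro f
      have : φ.comp (Polynomial.mapRingHom (IsLocalRing.residue R)) =
          (Ideal.Quotient.mk (mS R S)).comp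
            ((algebraMap S₀ S).comp (Polynomial.aeval (R := R) c).toRingHom) := by
        apply Polynomial.ringHom_ext
        · intro r
          simp [φ, ι, IsLocalRing.residue, ← IsScalarTower.algebraMap_apply R S₀ S]
          exact Ideal.Quotient.lift_mk _ _ _
        · simp [φ, xb]
      exact congrArg (fun g => g f) this
    have hsmk : ∀ (g : (IsLocalRing.ResidueField R)[X]) (z : N ⧸ (mS R S • ⊤ : Submodule S N)),
        g • z = φ g • z := fun _ _ => rfl
    have hsmBb : ∀ (f : R[X]) (z : N ⧸ (mS R S • ⊤ : Submodule S N)),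
        f • z = algebraMap S₀ S (algebraMap R[X] S₀ f) • z := fun _ _ => rfl
    have hmk : ∀ (s : S) (z : N ⧸ (mS R S • ⊤ : Submodule S N)),
        Ideal.Quotient.mk (mS R S) s • z = s • z := by
      intro s z
      obtain ⟨n, rfl⟩ := Submodule.Quotient.mk_surjective _ z
      rfl
    haveI tBkNb : IsScalarTower R[X] (IsLocalRing.ResidueField R)[X]
        (N ⧸ (mS R S • ⊤ : Submodule S N)) := ⟨fun f g z => by
      rw [hsmk, Algebra.smul_def, map_mul, mul_smul, hcompat, hmk, hsmBb, hsmk]⟩
    have hs : Function.Surjective (algebraMap R[X] (IsLocalRing.ResidueField R)[X]) :=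
      Polynomial.map_surjective _ IsLocalRing.residue_surjective
    have hI : RingHom.ker (algebraMap R[X] (IsLocalRing.ResidueField R)[X]) =
        (IsLocalRing.maximalIdeal R).map (algebraMap R R[X]) := by
      change RingHom.ker (Polynomial.mapRingHom (IsLocalRing.residue R)) = _
      rw [Polynomial.ker_mapRingHom, IsLocalRing.ker_residue, Polynomial.algebraMap_eq]
    let l : N →ₗ[R[X]] (N ⧸ (mS R S • ⊤ : Submodule S N)) :=
      { toFun := Submodule.Quotient.mk
        map_add' := fun _ _ => rfl
        map_smul' := fun _ _ => rfl }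
    have hl : Function.Surjective l := Submodule.Quotient.mk_surjective _
    have hker : ∀ n, l n = 0 ↔
        n ∈ ((IsLocalRing.maximalIdeal R).map (algebraMap R R[X])) • (⊤ : Submodule R[X] N) := by
      intro n
      rw [Groth.Agent.Lib.CritFibE88.smul_top_map_iff (B := R) (S := R[X]),
        ← Groth.Agent.Lib.CritFibE88.smul_top_map_iff (B := R) (S := S)]
      exact Submodule.Quotient.mk_eq_zero _
    refine (Groth.Agent.Lib.CritFibA88.flat_iff_of_surjective_ker hs _ hI l hl hker).mp ?_
    rw [Module.Flat.flat_iff_torsion_eq_bot_of_isBezout, Submodule.eq_bot_iff]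
    intro z hz
    rw [Submodule.mem_torsion_iff] at hz
    obtain ⟨a, ha⟩ := hz
    have hxb : xb ∈ IsLocalRing.maximalIdeal (S ⧸ mS R S) := by
      rw [IsLocalRing.mem_maximalIdeal, mem_nonunits_iff]
      intro hu
      haveI := IsLocalHom.of_surjective (Ideal.Quotient.mk (mS R S)) Ideal.Quotient.mk_surjective
      exact hc (isUnit_of_map_unit (Ideal.Quotient.mk (mS R S)) _ hu)
    have hregb : IsSMulRegular (N ⧸ (mS R S • ⊤ : Submodule S N)) xb := by
      intro z₁ z₂ h
      apply hreg
      change xb • z₁ = xb • z₂ at h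
      rw [hmk, hmk] at h
      exact h
    have := isSMulRegular_eval₂ (Nb := N ⧸ (mS R S • ⊤ : Submodule S N)) ι xb hxb hregb
      (a : (IsLocalRing.ResidueField R)[X]) (nonZeroDivisors.ne_zero a.2)
    apply this
    change φ a • z = φ a • 0
    rw [smul_zero, ← hsmk]
    exact ha
  exact Groth.Agent.Lib.CritFibE88.flat_of_fibre_ft (R := R) (B := R[X]) (C := S₀) (T := S)
    (N := N) Q hQ inferInstance h2


/-- Step 2: the element case for an element in the image of the f.p. model. -/
theorem core {S₀ : Type u} [CommRing S₀] [Algebra R S₀] [Algebra S₀ S]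
    [IsScalarTower R S₀ S] [Algebra.FinitePresentation R S₀] (M₀ : Submonoid S₀)
    [IsLocalization M₀ S] (c : S₀)
    (hc : algebraMap S₀ S c ∈ IsLocalRing.maximalIdeal S)
    (hreg : IsSMulRegular (N ⧸ (mS R S • ⊤ : Submodule S N)) (algebraMap S₀ S c)) :
    IsSMulRegular N (algebraMap S₀ S c) ∧
      Module.Flat R (QuotSMulTop (algebraMap S₀ S c) N) := by
  classical
  letI modB : Module R[X] N :=
    Module.compHom N ((algebraMap S₀ S).comp (Polynomial.aeval (R := R) c).toRingHom)
  have hflat : Module.Flat R[X] N := flat_polynomial N M₀ c hc hreg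
  have hsmB : ∀ (f : R[X]) (n : N), f • n = algebraMap S₀ S (Polynomial.aeval c f) • n :=
    fun _ _ => rfl
  have hX : ∀ n : N, (X : R[X]) • n = algebraMap S₀ S c • n := by
    intro n
    rw [hsmB, Polynomial.aeval_X]
  have h1 : IsSMulRegular N (X : R[X]) :=
    Module.Flat.isSMulRegular_of_nonZeroDivisors Polynomial.X_mem_nonzeroDivisors
  refine ⟨fun n₁ n₂ h => h1 (by
    change (X : R[X]) • n₁ = (X : R[X]) • n₂
    rw [hX, hX]
    exact h), ?_⟩
  set x := algebraMap S₀ S c with hxdef
  letI algBR : Algebra R[X] R := (Polynomial.evalRingHom (0 : R)).toAlgebra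
  letI modBNb : Module R[X] (QuotSMulTop x N) :=
    Module.compHom _ ((algebraMap S₀ S).comp (Polynomial.aeval (R := R) c).toRingHom)
  have hsmBb : ∀ (f : R[X]) (z : QuotSMulTop x N),
      f • z = algebraMap S₀ S (Polynomial.aeval c f) • z := fun _ _ => rfl
  have hcoeff : ∀ (f : R[X]) (z : QuotSMulTop x N), f • z = f.coeff 0 • z := by
    intro f z
    obtain ⟨n, rfl⟩ := Submodule.Quotient.mk_surjective _ z
    rw [hsmBb, ← Submodule.Quotient.mk_smul, ← Submodule.Quotient.mk_smul]
    refine (Submodule.Quotient.eq _).mpr ?_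
    have h2 : algebraMap S₀ S (Polynomial.aeval c f) • n - f.coeff 0 • n =
        x • (algebraMap S₀ S (Polynomial.aeval c f.divX) • n) := by
      conv_lhs => rw [← Polynomial.divX_mul_X_add f]
      rw [map_add, map_mul, Polynomial.aeval_X, Polynomial.aeval_C, map_add, map_mul, add_smul,
        ← IsScalarTower.algebraMap_apply R S₀ S, algebraMap_smul, Polynomial.coeff_add,
        Polynomial.coeff_C_zero, Polynomial.mul_coeff_zero, Polynomial.coeff_X_zero, mul_zero,
        zero_add, add_sub_cancel_right, mul_comm, mul_smul]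
    rw [h2]
    exact Submodule.smul_mem_pointwise_smul _ _ _ Submodule.mem_top
  haveI tBRNb : IsScalarTower R[X] R (QuotSMulTop x N) := ⟨fun f r z => by
    rw [hcoeff, Algebra.smul_def, mul_smul]
    congr 1
    change Polynomial.eval 0 f = _
    rw [Polynomial.coeff_zero_eq_eval_zero]⟩
  have hs : Function.Surjective (algebraMap R[X] R) := fun r => ⟨Polynomial.C r, by
    change Polynomial.eval 0 (Polynomial.C r) = r
    rw [Polynomial.eval_C]⟩
  have hI : RingHom.ker (algebraMap R[X] R) = Ideal.span {(X : R[X])} := by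
    change RingHom.ker (Polynomial.evalRingHom (0 : R)) = _
    rw [Polynomial.ker_evalRingHom, Polynomial.C_0, sub_zero]
  let l : N →ₗ[R[X]] QuotSMulTop x N :=
    { toFun := Submodule.Quotient.mk
      map_add' := fun _ _ => rfl
      map_smul' := fun _ _ => rfl }
  have hl : Function.Surjective l := Submodule.Quotient.mk_surjective _
  have hker : ∀ n, l n = 0 ↔ n ∈ (Ideal.span {(X : R[X])}) • (⊤ : Submodule R[X] N) := by
    intro n
    rw [Submodule.ideal_span_singleton_smul, Submodule.mem_smul_pointwise_iff_exists]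
    change Submodule.Quotient.mk n = 0 ↔ _
    rw [Submodule.Quotient.mk_eq_zero, Submodule.mem_smul_pointwise_iff_exists]
    constructor
    · rintro ⟨m, hm, rfl⟩
      exact ⟨m, Submodule.mem_top, hX m⟩
    · rintro ⟨m, hm, rfl⟩
      exact ⟨m, Submodule.mem_top, (hX m).symm⟩
  exact (Groth.Agent.Lib.CritFibA88.flat_iff_of_surjective_ker hs _ hI l hl hker).mpr
    inferInstance


/-- EGA 0_III 10.2.4 / IV 11.3.8 for an element, essentially finitely presented case: if `x` is
regular on `N/𝔪_R N` then `x` is regular on `N` and `N/xN` is flat over `R`. -/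
theorem isSMulRegular_and_flat (hS : CAlgX.IsEssFinitePresentation R S) (x : S)
    (hreg : IsSMulRegular (N ⧸ (mS R S • ⊤ : Submodule S N)) x) :
    IsSMulRegular N x ∧ Module.Flat R (QuotSMulTop x N) := by
  by_cases hx : IsUnit x
  · refine ⟨hx.isSMulRegular N, ?_⟩
    have hsub : Subsingleton (QuotSMulTop x N) := by
      apply Submodule.Quotient.subsingleton_iff.mpr
      rw [eq_top_iff]
      intro n _
      rw [Submodule.mem_smul_pointwise_iff_exists]
      obtain ⟨u, rfl⟩ := hx
      exact ⟨(↑u⁻¹ : S) • n, Submodule.mem_top, by rw [smul_smul, Units.mul_inv, one_smul]⟩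
    infer_instance
  · obtain ⟨S₀, _, _, _, _, M₀, hfp, hloc⟩ := hS
    obtain ⟨⟨c, s⟩, hcs⟩ := IsLocalization.surj M₀ x
    have hsu : IsUnit (algebraMap S₀ S s) := IsLocalization.map_units S s
    have hc : algebraMap S₀ S c ∈ IsLocalRing.maximalIdeal S := by
      rw [← hcs]
      exact Ideal.mul_mem_right _ _ hx
    have hreg' : IsSMulRegular (N ⧸ (mS R S • ⊤ : Submodule S N)) (algebraMap S₀ S c) := by
      rw [← hcs]
      exact hreg.mul (hsu.isSMulRegular _)
    obtain ⟨h1, h2⟩ := core N M₀ c hc hreg'
    have h1' : IsSMulRegular N x := by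
      rw [← hcs, mul_comm] at h1
      exact h1.of_mul
    refine ⟨h1', ?_⟩
    have heq : (algebraMap S₀ S c • ⊤ : Submodule S N) = x • ⊤ := by
      ext n
      rw [Submodule.mem_smul_pointwise_iff_exists, Submodule.mem_smul_pointwise_iff_exists]
      obtain ⟨u, hu⟩ := hsu
      constructor
      · rintro ⟨m, _, rfl⟩
        exact ⟨algebraMap S₀ S s • m, Submodule.mem_top, by rw [smul_smul, hcs]⟩
      · rintro ⟨m, _, rfl⟩
        refine ⟨(↑u⁻¹ : S) • m, Submodule.mem_top, ?_⟩
        rw [← hcs, ← hu, smul_smul, mul_assoc, Units.mul_inv, mul_one]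
    exact Module.Flat.of_linearEquiv
      ((Submodule.quotEquivOfEq _ _ heq).restrictScalars R).symm

end Main

end Groth.Agent.Lib.RegElemFlat64
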