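import Mathlib
import Groth.Agent.Lib.FlatLimDirected88
import Groth.Agent.Lib.FlatLimTower88
import Groth.Agent.Lib.RegElemFlat64
import Groth.Prelude.Def_CAlgX

/-!
# Slicing a flat finitely presented algebra by a fibrewise regular element (helper50)

* `ker_lTensor_mulLeft`, `ker_mulLeft_tmul`: if `B₁ ⧸ (h₁)` is flat over `A₁` then the annihilator of
  `1 ⊗ h₁` in `A ⊗[A₁] B₁` is generated by the annihilator of `h₁`.
* `ker_mulLeft_fg`: for `B` finitely presented over `A` with `B ⧸ (h)` flat over `A`, the annihilator of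
  `h` is finitely generated (Noetherian descent via helper88's `exists_fg_flat_global`).
-/

set_option autoImplicit false
set_option maxHeartbeats 400000
set_option linter.style.haveILetI false
universe u
open TensorProduct

namespace Groth.Agent.Lib.SliceFlat50

/-- If `B₁ ⧸ (h₁)` is flat over `A₁`, then the kernel of `1 ⊗ h₁` on `A ⊗ B₁` is the image of
`A ⊗ ker(h₁)`. -/
theorem ker_lTensor_mulLeft {A₁ B₁ : Type*} [CommRing A₁] [CommRing B₁] [Algebra A₁ B₁] (h₁ : B₁)
    [Module.Flat A₁ (B₁ ⧸ Ideal.span {h₁})] (A : Type*) [AddCommGroup A] [Module A₁ A] :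
    LinearMap.ker ((LinearMap.mulLeft A₁ h₁).lTensor A) =
      LinearMap.range ((LinearMap.ker (LinearMap.mulLeft A₁ h₁)).subtype.lTensor A) := by
  set μ : B₁ →ₗ[A₁] B₁ := LinearMap.mulLeft A₁ h₁ with hμ
  let f : B₁ →ₗ[A₁] B₁ ⧸ Ideal.span {h₁} := (Ideal.Quotient.mkₐ A₁ (Ideal.span {h₁})).toLinearMap
  have hf : Function.Surjective f := Ideal.Quotient.mk_surjective
  let ι : LinearMap.range μ →ₗ[A₁] B₁ := (LinearMap.range μ).subtype
  have hι : Function.Injective ι := Submodule.injective_subtype _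
  have H : Function.Exact ι f := by
    intro x
    change Ideal.Quotient.mk _ x = 0 ↔ _
    rw [Ideal.Quotient.eq_zero_iff_mem, Ideal.mem_span_singleton']
    constructor
    · rintro ⟨a, rfl⟩
      exact ⟨⟨_, ⟨a, rfl⟩⟩, by simp [ι, μ, mul_comm]⟩
    · rintro ⟨⟨_, ⟨a, rfl⟩⟩, rfl⟩
      exact ⟨a, by simp [ι, μ, mul_comm]⟩
  have hinj := LinearMap.lTensor_injective_of_exact_of_flat f hf ι hι H A
  have hcomp : μ = ι ∘ₗ μ.rangeRestrict := rfl
  have h1 : μ.lTensor A = (ι.lTensor A) ∘ₗ (μ.rangeRestrict.lTensor A) := by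
    conv_lhs => rw [hcomp, LinearMap.lTensor_comp]
  rw [h1, LinearMap.ker_comp_of_ker_eq_bot _ (LinearMap.ker_eq_bot.mpr hinj)]
  have hex : Function.Exact (LinearMap.ker μ).subtype μ.rangeRestrict := by
    have := LinearMap.exact_subtype_ker_map μ.rangeRestrict
    rwa [LinearMap.ker_rangeRestrict] at this
  exact (LinearMap.exact_iff.mp (lTensor_exact A hex μ.surjective_rangeRestrict))

/-- Annihilator of `1 ⊗ h₁` in `A ⊗ B₁` when `B₁ ⧸ (h₁)` is flat. -/
theorem ker_mulLeft_tmul {A₁ B₁ : Type*} [CommRing A₁] [CommRing B₁] [Algebra A₁ B₁] (h₁ : B₁)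
    [Module.Flat A₁ (B₁ ⧸ Ideal.span {h₁})] (A : Type*) [CommRing A] [Algebra A₁ A] :
    (LinearMap.ker (LinearMap.mulLeft (A ⊗[A₁] B₁) ((1 : A) ⊗ₜ[A₁] h₁)) : Ideal (A ⊗[A₁] B₁)) =
      Ideal.map (Algebra.TensorProduct.includeRight : B₁ →ₐ[A₁] A ⊗[A₁] B₁)
        (LinearMap.ker (LinearMap.mulLeft B₁ h₁)) := by
  have hmul : ∀ x : A ⊗[A₁] B₁, (LinearMap.mulLeft A₁ h₁).lTensor A x = ((1 : A) ⊗ₜ[A₁] h₁) * x := by
    intro x
    induction x with
    | zero => simp
    | tmul a b => simp [Algebra.TensorProduct.tmul_mul_tmul]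
    | add x y hx hy => rw [map_add, hx, hy, mul_add]
  apply le_antisymm
  · intro x hx
    have hx' : x ∈ LinearMap.ker ((LinearMap.mulLeft A₁ h₁).lTensor A) := by
      rw [LinearMap.mem_ker, hmul]
      exact hx
    rw [ker_lTensor_mulLeft] at hx'
    obtain ⟨y, rfl⟩ := hx'
    clear hx
    induction y with
    | zero => simp
    | tmul a k =>
      have : (LinearMap.lTensor A (LinearMap.ker (LinearMap.mulLeft A₁ h₁)).subtype) (a ⊗ₜ[A₁] k) =
          (a ⊗ₜ[A₁] (1 : B₁)) * (Algebra.TensorProduct.includeRight : B₁ →ₐ[A₁] A ⊗[A₁] B₁) k.1 := by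
        simp [Algebra.TensorProduct.tmul_mul_tmul]
      rw [this]
      refine Ideal.mul_mem_left _ _ (Ideal.mem_map_of_mem _ ?_)
      have := k.2
      rw [LinearMap.mem_ker] at this ⊢
      exact this
    | add x y hx hy =>
      rw [map_add]
      exact Ideal.add_mem _ hx hy
  · rw [Ideal.map_le_iff_le_comap]
    intro k hk
    rw [LinearMap.mem_ker] at hk
    rw [Ideal.mem_comap, LinearMap.mem_ker]
    change ((1 : A) ⊗ₜ[A₁] h₁) * ((1 : A) ⊗ₜ[A₁] k) = 0
    rw [Algebra.TensorProduct.tmul_mul_tmul]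
    change _ ⊗ₜ[A₁] (h₁ * k) = 0 at *
    rw [show h₁ * k = 0 from hk, TensorProduct.tmul_zero]

/-- transport of finite generation of annihilators along a ring isomorphism -/
theorem ker_mulLeft_fg_of_equiv {B' B : Type*} [CommRing B'] [CommRing B] (E : B' ≃+* B) (x' : B')
    (hfg : (LinearMap.ker (LinearMap.mulLeft B' x') : Ideal B').FG) :
    (LinearMap.ker (LinearMap.mulLeft B (E x')) : Ideal B).FG := by
  have : (LinearMap.ker (LinearMap.mulLeft B (E x')) : Ideal B) =
      Ideal.map E.toRingHom (LinearMap.ker (LinearMap.mulLeft B' x')) := by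
    apply le_antisymm
    · intro y hy
      rw [LinearMap.mem_ker, LinearMap.mulLeft_apply] at hy
      have h1 : y = E.toRingHom (E.symm y) := by simp
      rw [h1]
      refine Ideal.mem_map_of_mem _ ?_
      rw [LinearMap.mem_ker, LinearMap.mulLeft_apply]
      apply E.injective
      rw [map_mul, RingEquiv.apply_symm_apply, hy, map_zero]
    · rw [Ideal.map_le_iff_le_comap]
      intro z hz
      rw [LinearMap.mem_ker, LinearMap.mulLeft_apply] at hz
      rw [Ideal.mem_comap, LinearMap.mem_ker, LinearMap.mulLeft_apply]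
      change E x' * E z = 0
      rw [← map_mul, hz, map_zero]
  rw [this]
  exact Ideal.FG.map hfg _

/-- tensor of a cyclic quotient: flatness transfers -/
theorem flat_quot_tmul {k A S₀ : Type u} [CommRing k] [CommRing A] [CommRing S₀] [Algebra k A]
    [Algebra k S₀] (h₀ : S₀) :
    Module.Flat A (A ⊗[k] (S₀ ⧸ Ideal.span {h₀})) ↔
      Module.Flat A ((A ⊗[k] S₀) ⧸ Ideal.span {(1 : A) ⊗ₜ[k] h₀}) := by
  have hI : (Ideal.span {h₀}).map (Algebra.TensorProduct.includeRight : S₀ →ₐ[k] A ⊗[k] S₀) =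
      Ideal.span {(1 : A) ⊗ₜ[k] h₀} := by
    rw [Ideal.map_span, Set.image_singleton]
    rfl
  let e1 := (Algebra.TensorProduct.tensorQuotientEquiv (R := k) A S₀ A (Ideal.span {h₀}))
  let e2 := Ideal.quotientEquivAlgOfEq A hI
  exact Module.Flat.equiv_iff (e1.trans e2).toLinearEquiv

theorem ker_mulLeft_fg_aux {k A₁ A S₀ : Type u} [CommRing k] [CommRing A₁] [CommRing A]
    [CommRing S₀] [Algebra k A₁] [Algebra k A] [Algebra A₁ A] [IsScalarTower k A₁ A] [Algebra k S₀]
    [IsNoetherianRing (A₁ ⊗[k] S₀)] (h₀ : S₀)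
    [Module.Flat A₁ (A₁ ⊗[k] (S₀ ⧸ Ideal.span {h₀}))] :
    (LinearMap.ker (LinearMap.mulLeft (A ⊗[k] S₀) ((1 : A) ⊗ₜ[k] h₀)) : Ideal (A ⊗[k] S₀)).FG := by
  haveI : Module.Flat A₁ ((A₁ ⊗[k] S₀) ⧸ Ideal.span {(1 : A₁) ⊗ₜ[k] h₀}) :=
    (flat_quot_tmul h₀).mp inferInstance
  have key := ker_mulLeft_tmul (A₁ := A₁) (B₁ := A₁ ⊗[k] S₀) ((1 : A₁) ⊗ₜ[k] h₀) A
  let E : A ⊗[A₁] (A₁ ⊗[k] S₀) ≃ₐ[A] A ⊗[k] S₀ :=
    Algebra.TensorProduct.cancelBaseChange k A₁ A A S₀
  have hE : E.toRingEquiv ((1 : A) ⊗ₜ[A₁] ((1 : A₁) ⊗ₜ[k] h₀)) = (1 : A) ⊗ₜ[k] h₀ := by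
    change Algebra.TensorProduct.cancelBaseChange k A₁ A A S₀ _ = _
    rw [Algebra.TensorProduct.cancelBaseChange_tmul, one_smul]
  have hK : (LinearMap.ker (LinearMap.mulLeft (A₁ ⊗[k] S₀) ((1 : A₁) ⊗ₜ[k] h₀)) :
      Ideal (A₁ ⊗[k] S₀)).FG := IsNoetherian.noetherian _
  have h2 := ker_mulLeft_fg_of_equiv E.toRingEquiv ((1 : A) ⊗ₜ[A₁] ((1 : A₁) ⊗ₜ[k] h₀))
    (by rw [key]; exact Ideal.FG.map hK _)
  rwa [hE] at h2

open Groth.Agent.Lib.FlatLimModel88 in
/-- For `B` finitely presented over `A` and `B ⧸ (h)` flat over `A`, the annihilator of `h` is a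
finitely generated ideal. -/
theorem ker_mulLeft_fg {A B : Type u} [CommRing A] [CommRing B] [Algebra A B]
    [Algebra.FinitePresentation A B] (h : B) [Module.Flat A (B ⧸ Ideal.span {h})] :
    (LinearMap.ker (LinearMap.mulLeft B h) : Ideal B).FG := by
  classical
  obtain ⟨k, _, _, S₀, _, _, e, ub, hk, hS₀, hub⟩ :=
    Groth.Agent.Lib.FlatLimDirected88.exists_model_data (R := A) (S := B)
      (fun (_ : Fin 1) (_ : Fin 1) => h)
  set h₀ : S₀ := ub 0 0 with hh₀
  have hh : e.toRingEquiv ((1 : A) ⊗ₜ[k] h₀) = h := hub 0 0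
  haveI : IsNoetherianRing k := Algebra.FiniteType.isNoetherianRing ℤ k
  -- flatness of the model quotient over A
  have hI : Ideal.map (e : A ⊗[k] S₀ →+* B) (Ideal.span {(1 : A) ⊗ₜ[k] h₀}) = Ideal.span {h} := by
    rw [Ideal.map_span, Set.image_singleton]
    congr 2
  haveI hflatA : Module.Flat A (A ⊗[k] (S₀ ⧸ Ideal.span {h₀})) := by
    rw [flat_quot_tmul]
    exact (Module.Flat.equiv_iff
      (Ideal.quotientEquivAlg _ _ e hI.symm).toLinearEquiv).mpr inferInstance
  obtain ⟨A₁, -, hA₁, hflat₁⟩ :=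
    Groth.Agent.Lib.FlatLimGlobal88.exists_fg_flat_global (k := k) S₀
      (M₀ := S₀ ⧸ Ideal.span {h₀}) (R := A) ⊥ Subalgebra.fg_bot
  have hft : Algebra.FiniteType k A₁ := (Subalgebra.fg_iff_finiteType A₁).mp hA₁
  haveI : Algebra.FiniteType k (A₁ ⊗[k] S₀) :=
    Algebra.FiniteType.trans (S := A₁) inferInstance inferInstance
  haveI : IsNoetherianRing (A₁ ⊗[k] S₀) := Algebra.FiniteType.isNoetherianRing k _
  have h1 := ker_mulLeft_fg_aux (k := k) (A₁ := A₁) (A := A) (S₀ := S₀) h₀
  have h2 := ker_mulLeft_fg_of_equiv e.toRingEquiv ((1 : A) ⊗ₜ[k] h₀) h1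
  rwa [hh] at h2

/-- The localization of a cyclic quotient is the cyclic quotient of the localization. -/
theorem nonempty_localizedModule_quot_equiv {A B B' : Type u} [CommRing A] [CommRing B]
    [CommRing B'] [Algebra A B] [Algebra B B'] [Algebra A B'] [IsScalarTower A B B']
    (W : Submonoid B) [IsLocalization W B'] (b : B) :
    Nonempty (LocalizedModule W (B ⧸ Ideal.span {b}) ≃ₗ[A]
      (B' ⧸ Ideal.span {algebraMap B B' b})) := by
  let f : B →ₗ[B] B' := Algebra.linearMap B B'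
  haveI : IsLocalizedModule W f := (isLocalizedModule_iff_isLocalization).mpr inferInstance
  let g := Submodule.toLocalizedQuotient' B' W f (Ideal.span {b})
  have heq : (Ideal.span {b} : Submodule B B).localized' B' W f =
      (Ideal.span {algebraMap B B' b} : Ideal B') := by
    rw [Ideal.span, Submodule.localized'_span, Set.image_singleton]
    rfl
  let e1 : LocalizedModule W (B ⧸ Ideal.span {b}) ≃ₗ[B] _ := IsLocalizedModule.iso W g
  let e2 := Submodule.quotEquivOfEq _ _ heq
  exact ⟨(e1.restrictScalars A).trans (e2.restrictScalars A)⟩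

/-- flatness of the cyclic quotient of a localization away from `g` from pointwise flatness. -/
theorem flat_away_quot_of_forall_prime {A B : Type u} [CommRing A] [CommRing B] [Algebra A B]
    (h₀ g : B)
    (H : ∀ (Q : Ideal B) [Q.IsPrime], g ∉ Q →
      Module.Flat A (LocalizedModule Q.primeCompl (B ⧸ Ideal.span {h₀})))
    (B' : Type u) [CommRing B'] [Algebra B B'] [Algebra A B'] [IsScalarTower A B B']
    [IsLocalization.Away g B'] :
    Module.Flat A (B' ⧸ Ideal.span {algebraMap B B' h₀}) := by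
  have h1 : Module.Flat A (LocalizedModule (Submonoid.powers g) (B ⧸ Ideal.span {h₀})) := by
    apply Groth.Agent.Lib.FlatLimTower88.flat_localizedModule_of_forall_prime
    intro Q _ hdisj
    apply H Q
    intro hg
    exact (Set.disjoint_left.mp hdisj) (Submonoid.mem_powers g) hg
  obtain ⟨e⟩ := nonempty_localizedModule_quot_equiv (A := A) (B' := B') (Submonoid.powers g) h₀
  exact Module.Flat.of_linearEquiv e.symm

/-- openness of the flat locus of a cyclic quotient, basic open form -/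
theorem exists_basicOpen_flat {A B : Type u} [CommRing A] [CommRing B] [Algebra A B]
    [Algebra.FinitePresentation A B] (q : Ideal B) [q.IsPrime] (h₀ : B)
    (hflat : Module.Flat A (LocalizedModule q.primeCompl (B ⧸ Ideal.span {h₀}))) :
    ∃ g ∉ q, ∀ (Q : Ideal B) [Q.IsPrime], g ∉ Q →
      Module.Flat A (LocalizedModule Q.primeCompl (B ⧸ Ideal.span {h₀})) := by
  haveI : Module.FinitePresentation B (B ⧸ Ideal.span {h₀}) :=
    Module.finitePresentation_of_surjective (Submodule.mkQ (Ideal.span {h₀}))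
      (Submodule.mkQ_surjective _) (by
        rw [Submodule.ker_mkQ]
        exact ⟨{h₀}, by simp [Ideal.span]⟩)
  have hopen := Groth.Agent.Lib.FlatLimFP88.isOpen_module_flat_locus (R := A) (S := B)
    (M := B ⧸ Ideal.span {h₀})
  have hq : (⟨q, inferInstance⟩ : PrimeSpectrum B) ∈ {Q : PrimeSpectrum B |
      Module.Flat A (LocalizedModule Q.asIdeal.primeCompl (B ⧸ Ideal.span {h₀}))} := hflat
  obtain ⟨_, ⟨_, ⟨g, rfl⟩, rfl⟩, hgq, hsub⟩ :=
    PrimeSpectrum.isBasis_basic_opens.exists_subset_of_mem_open hq hopen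
  refine ⟨g, hgq, fun Q _ hQ => ?_⟩
  exact hsub (show (⟨Q, inferInstance⟩ : PrimeSpectrum B) ∈ _ from hQ)

/-- elements of the annihilator of `h₀` in `B_{g₁}` are killed by elements outside `q`. -/
theorem exists_kill_of_away {B B₁ : Type u} [CommRing B] [CommRing B₁] [Algebra B B₁]
    (q : Ideal B) (h₀ g₁ : B) [IsLocalization.Away g₁ B₁]
    (hnzd : ∀ b : B, h₀ * b = 0 → ∃ t ∉ q, t * b = 0) (k : B₁)
    (hk : algebraMap B B₁ h₀ * k = 0) : ∃ t ∉ q, algebraMap B B₁ t * k = 0 := by
  obtain ⟨n, a, ha⟩ := IsLocalization.Away.surj g₁ k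
  have hu : IsUnit (algebraMap B B₁ g₁) := IsLocalization.Away.algebraMap_isUnit g₁
  have h1 : algebraMap B B₁ (h₀ * a) = 0 := by
    rw [map_mul, ← ha, ← mul_assoc, hk, zero_mul]
  rw [IsLocalization.map_eq_zero_iff (Submonoid.powers g₁)] at h1
  obtain ⟨⟨_, j, rfl⟩, hj⟩ := h1
  obtain ⟨t, htq, ht⟩ := hnzd (g₁ ^ j * a) (by
    rw [← hj]; ring)
  refine ⟨t, htq, ?_⟩
  have h2 : algebraMap B B₁ g₁ ^ j * (algebraMap B B₁ t * k * algebraMap B B₁ g₁ ^ n) = 0 := by
    rw [mul_assoc (algebraMap B B₁ t), ha, ← map_pow, ← map_mul, ← map_mul, ← map_zero (algebraMap B B₁)]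
    congr 1
    rw [← ht]; ring
  have h3 := (hu.pow j).mul_right_eq_zero.mp h2
  exact (hu.pow n).mul_left_eq_zero.mp h3

/-- **Spreading out**: `A → B` finitely presented, `q` a prime of `B`, `h₀ ∈ B` a nonzerodivisor in
`B_q` with `(B/h₀)_q` flat over `A`. Then for some `g ∉ q`, `h₀` is a nonzerodivisor of `B_g` and
`B_g/(h₀)` is flat over `A`. -/
theorem exists_away_nzd_flat {A B : Type u} [CommRing A] [CommRing B] [Algebra A B]
    [Algebra.FinitePresentation A B] (q : Ideal B) [q.IsPrime] (h₀ : B)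
    (hnzd : ∀ b : B, h₀ * b = 0 → ∃ t ∉ q, t * b = 0)
    (hflat : Module.Flat A (LocalizedModule q.primeCompl (B ⧸ Ideal.span {h₀}))) :
    ∃ g ∉ q, ∀ (B' : Type u) [CommRing B'] [Algebra B B'] [Algebra A B'] [IsScalarTower A B B']
      [IsLocalization.Away g B'],
      algebraMap B B' h₀ ∈ nonZeroDivisors B' ∧
        Module.Flat A (B' ⧸ Ideal.span {algebraMap B B' h₀}) := by
  classical
  obtain ⟨g₁, hg₁, Hfl⟩ := exists_basicOpen_flat q h₀ hflat
  let B₁ := Localization.Away g₁
  haveI : Algebra.FinitePresentation B B₁ := IsLocalization.Away.finitePresentation g₁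
  haveI : Algebra.FinitePresentation A B₁ := Algebra.FinitePresentation.trans A B B₁
  haveI : Module.Flat A (B₁ ⧸ Ideal.span {algebraMap B B₁ h₀}) :=
    flat_away_quot_of_forall_prime h₀ g₁ Hfl B₁
  have hfg := ker_mulLeft_fg (A := A) (B := B₁) (algebraMap B B₁ h₀)
  obtain ⟨s, hs⟩ := hfg
  have hkill : ∀ k : B₁, ∃ t : B, k ∈ s → (t ∉ q ∧ algebraMap B B₁ t * k = 0) := by
    intro k
    by_cases hk : k ∈ s
    · have hk' : k ∈ (LinearMap.ker (LinearMap.mulLeft B₁ (algebraMap B B₁ h₀)) : Ideal B₁) := by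
        rw [← hs]; exact Submodule.subset_span hk
      rw [LinearMap.mem_ker, LinearMap.mulLeft_apply] at hk'
      obtain ⟨t, htq, ht⟩ := exists_kill_of_away q h₀ g₁ hnzd k hk'
      exact ⟨t, fun _ => ⟨htq, ht⟩⟩
    · exact ⟨0, fun h => (hk h).elim⟩
  choose t ht using hkill
  let T : B := ∏ k ∈ s, t k
  have hTq : T ∉ q := by
    have : T ∈ q.primeCompl := Submonoid.prod_mem _ fun k hk => (ht k hk).1
    exact this
  have hTspan : ∀ k ∈ Submodule.span B₁ (s : Set B₁), algebraMap B B₁ T * k = 0 := by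
    intro k hk'
    induction hk' using Submodule.span_induction with
    | mem x hx =>
      obtain ⟨c, hc⟩ := Finset.dvd_prod_of_mem t hx
      change algebraMap B B₁ (∏ k ∈ s, t k) * x = 0
      rw [hc, map_mul, mul_comm (algebraMap B B₁ (t x)), mul_assoc, (ht x hx).2, mul_zero]
    | zero => simp
    | add x y _ _ hx hy => rw [mul_add, hx, hy, add_zero]
    | smul a x _ hx => rw [smul_eq_mul, mul_left_comm, hx, mul_zero]
  have hTkill : ∀ k : B₁, algebraMap B B₁ h₀ * k = 0 → algebraMap B B₁ T * k = 0 := by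
    intro k hk
    apply hTspan
    rw [hs, LinearMap.mem_ker, LinearMap.mulLeft_apply]; exact hk
  refine ⟨g₁ * T, fun hmem => (Ideal.IsPrime.mem_or_mem inferInstance hmem).elim hg₁ hTq, ?_⟩
  intro B' _ _ _ _ _
  refine ⟨?_, flat_away_quot_of_forall_prime h₀ (g₁ * T) (fun Q _ hQ => Hfl Q fun hg =>
    hQ (Ideal.mul_mem_right _ _ hg)) B'⟩
  have hug : IsUnit (algebraMap B B' (g₁ * T)) := IsLocalization.Away.algebraMap_isUnit _
  have hu1 : IsUnit (algebraMap B B' g₁) := by
    rw [map_mul] at hug; exact isUnit_of_mul_isUnit_left hug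
  have huT : IsUnit (algebraMap B B' T) := by
    rw [map_mul] at hug; exact isUnit_of_mul_isUnit_right hug
  rw [mem_nonZeroDivisors_iff_right]
  intro y hy
  obtain ⟨n, b, hb⟩ := IsLocalization.Away.surj (g₁ * T) y
  have h1 : algebraMap B B' (b * h₀) = 0 := by
    rw [map_mul, ← hb, mul_right_comm, hy, zero_mul]
  rw [IsLocalization.map_eq_zero_iff (Submonoid.powers (g₁ * T))] at h1
  obtain ⟨⟨_, m, rfl⟩, hm⟩ := h1
  have h2 : algebraMap B B₁ h₀ * algebraMap B B₁ ((g₁ * T) ^ m * b) = 0 := by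
    rw [← map_mul, ← map_zero (algebraMap B B₁)]
    congr 1
    rw [← hm]; ring
  have h3 := hTkill _ h2
  rw [← map_mul, IsLocalization.map_eq_zero_iff (Submonoid.powers g₁)] at h3
  obtain ⟨⟨_, l, rfl⟩, hl⟩ := h3
  have h4 : algebraMap B B' (g₁ ^ l * T * (g₁ * T) ^ m) * algebraMap B B' b = 0 := by
    rw [← map_mul, ← map_zero (algebraMap B B')]
    congr 1
    rw [← hl]; ring
  have hu : IsUnit (algebraMap B B' (g₁ ^ l * T * (g₁ * T) ^ m)) := by
    rw [map_mul, map_mul, map_pow, map_pow]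
    exact ((hu1.pow l).mul huT).mul (hug.pow m)
  have h5 := hu.mul_right_eq_zero.mp h4
  rw [h5] at hb
  exact (hug.pow n).mul_left_eq_zero.mp hb

attribute [local instance] Algebra.TensorProduct.rightAlgebra in
/-- A localization `S = B_q` of a finitely presented `A`-algebra `B` is essentially of finite
presentation over a localization `R = A_p` through which `A → S` factors. -/
theorem isEssFinitePresentation_of_atPrime {A B R S : Type u} [CommRing A] [CommRing B]
    [CommRing R] [CommRing S] [Algebra A B] [Algebra.FinitePresentation A B] [Algebra A R]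
    [Algebra R S] [Algebra B S] [Algebra A S] [IsScalarTower A R S] [IsScalarTower A B S]
    (p : Ideal A) [p.IsPrime] [IsLocalization.AtPrime R p] (q : Ideal B) [q.IsPrime]
    [IsLocalization.AtPrime S q] : CAlgX.IsEssFinitePresentation R S := by
  let φ : R ⊗[A] B →ₐ[R] S :=
    Algebra.TensorProduct.lift (Algebra.ofId R S) (IsScalarTower.toAlgHom A B S)
      (fun _ _ => Commute.all _ _)
  letI algS₀S : Algebra (R ⊗[A] B) S := φ.toRingHom.toAlgebra
  haveI t1 : IsScalarTower R (R ⊗[A] B) S := IsScalarTower.of_algebraMap_eq' φ.comp_algebraMap.symm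
  haveI t2 : IsScalarTower B (R ⊗[A] B) S := IsScalarTower.of_algebraMap_eq fun b => by
    change algebraMap B S b = φ ((1 : R) ⊗ₜ[A] b)
    simp [φ]
  have hle : Algebra.algebraMapSubmonoid B p.primeCompl ≤ q.primeCompl := by
    rintro _ ⟨a, ha, rfl⟩
    have hu : IsUnit (algebraMap B S (algebraMap A B a)) := by
      rw [← IsScalarTower.algebraMap_apply A B S, IsScalarTower.algebraMap_apply A R S]
      exact (IsLocalization.map_units R (⟨a, ha⟩ : p.primeCompl)).map _
    exact (IsLocalization.AtPrime.isUnit_to_map_iff S q _).mp hu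
  haveI : IsLocalization (Algebra.algebraMapSubmonoid B p.primeCompl) (R ⊗[A] B) :=
    IsLocalization.tensorRight R p.primeCompl
  haveI : IsLocalization (Algebra.algebraMapSubmonoid (R ⊗[A] B) q.primeCompl) S :=
    IsLocalization.isLocalization_of_submonoid_le (R ⊗[A] B) S
      (Algebra.algebraMapSubmonoid B p.primeCompl) q.primeCompl hle
  exact ⟨R ⊗[A] B, inferInstance, inferInstance, algS₀S, t1,
    Algebra.algebraMapSubmonoid (R ⊗[A] B) q.primeCompl, inferInstance, inferInstance⟩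

open scoped Pointwise in
/-- **Local step** (EGA IV 11.3.8 for one element, on local rings `R = A_p → S = B_q`): a fibrewise
nonzerodivisor is a nonzerodivisor of `B_q` and the quotient is `A`-flat at `q`. -/
theorem local_step {A B R S : Type u} [CommRing A] [CommRing B] [CommRing R] [CommRing S]
    [Algebra A B] [Algebra.FinitePresentation A B] [Algebra A R] [Algebra R S] [Algebra B S]
    [Algebra A S] [IsScalarTower A R S] [IsScalarTower A B S] [IsLocalRing R] [IsLocalRing S]
    [IsLocalHom (algebraMap R S)]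
    (p : Ideal A) [p.IsPrime] [IsLocalization.AtPrime R p] (q : Ideal B) [q.IsPrime]
    [IsLocalization.AtPrime S q] [Module.Flat R S] (h₀ : B)
    (hreg : Ideal.Quotient.mk ((IsLocalRing.maximalIdeal R).map (algebraMap R S))
        (algebraMap B S h₀) ∈
      nonZeroDivisors (S ⧸ (IsLocalRing.maximalIdeal R).map (algebraMap R S))) :
    (∀ b : B, h₀ * b = 0 → ∃ t ∉ q, t * b = 0) ∧
      Module.Flat A (LocalizedModule q.primeCompl (B ⧸ Ideal.span {h₀})) := by
  have hS : CAlgX.IsEssFinitePresentation R S := isEssFinitePresentation_of_atPrime p q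
  set h : S := algebraMap B S h₀ with hh
  set I : Ideal S := (IsLocalRing.maximalIdeal R).map (algebraMap R S) with hI
  have hItop : (Groth.Agent.Lib.RegElemFlat64.mS R S • ⊤ : Submodule S S) = I := by
    rw [hI]
    exact Ideal.mul_top _
  have hreg0 : IsSMulRegular (S ⧸ I) h := by
    intro x y hxy
    have hxy' : Ideal.Quotient.mk I h * x = Ideal.Quotient.mk I h * y := by
      obtain ⟨x, rfl⟩ := Ideal.Quotient.mk_surjective x
      obtain ⟨y, rfl⟩ := Ideal.Quotient.mk_surjective y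
      exact hxy
    exact mul_cancel_left_mem_nonZeroDivisors hreg |>.mp hxy'
  have hreg' : IsSMulRegular (S ⧸ (Groth.Agent.Lib.RegElemFlat64.mS R S • ⊤ : Submodule S S)) h :=
    ((Submodule.quotEquivOfEq _ _ hItop).isSMulRegular_congr h).mpr hreg0
  obtain ⟨h1, h2⟩ := Groth.Agent.Lib.RegElemFlat64.isSMulRegular_and_flat (R := R) (S := S) S hS h hreg'
  refine ⟨?_, ?_⟩
  · intro b hb
    have : h • algebraMap B S b = h • (0 : S) := by
      rw [smul_zero, smul_eq_mul, hh, ← map_mul, hb, map_zero]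
    have hb0 := h1 this
    rw [IsLocalization.map_eq_zero_iff q.primeCompl] at hb0
    obtain ⟨⟨t, ht⟩, htb⟩ := hb0
    exact ⟨t, ht, htb⟩
  · haveI : Module.Flat A R := IsLocalization.flat R p.primeCompl
    haveI : Module.Flat A (QuotSMulTop h S) := Module.Flat.trans A R _
    obtain ⟨e⟩ := nonempty_localizedModule_quot_equiv (A := A) (B' := S) q.primeCompl h₀
    have heq : (Ideal.span {algebraMap B S h₀} : Submodule S S) = (h • ⊤ : Submodule S S) := by
      rw [← Submodule.ideal_span_singleton_smul]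
      exact (Ideal.mul_top _).symm
    exact Module.Flat.of_linearEquiv
      (e.trans ((Submodule.quotEquivOfEq _ _ heq).restrictScalars A))

/-- **EGA IV 11.3.8 (one element), ring form with spreading out**: `A → B` finitely presented,
`R = A_p → S = B_q` local and flat, `h₀ ∈ B` whose image is a nonzerodivisor of `S/𝔪_R S`. Then for
some `g ∉ q`, `h₀` is a nonzerodivisor in `B_g` and `B_g/(h₀)` is flat over `A`. -/
theorem exists_away_of_fibre_nzd {A B R S : Type u} [CommRing A] [CommRing B] [CommRing R]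
    [CommRing S] [Algebra A B] [Algebra.FinitePresentation A B] [Algebra A R] [Algebra R S]
    [Algebra B S] [Algebra A S] [IsScalarTower A R S] [IsScalarTower A B S] [IsLocalRing R]
    [IsLocalRing S] [IsLocalHom (algebraMap R S)]
    (p : Ideal A) [p.IsPrime] [IsLocalization.AtPrime R p] (q : Ideal B) [q.IsPrime]
    [IsLocalization.AtPrime S q] [Module.Flat R S] (h₀ : B)
    (hreg : Ideal.Quotient.mk ((IsLocalRing.maximalIdeal R).map (algebraMap R S))
        (algebraMap B S h₀) ∈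
      nonZeroDivisors (S ⧸ (IsLocalRing.maximalIdeal R).map (algebraMap R S))) :
    ∃ g ∉ q, ∀ (B' : Type u) [CommRing B'] [Algebra B B'] [Algebra A B'] [IsScalarTower A B B']
      [IsLocalization.Away g B'],
      algebraMap B B' h₀ ∈ nonZeroDivisors B' ∧
        Module.Flat A (B' ⧸ Ideal.span {algebraMap B B' h₀}) := by
  obtain ⟨h1, h2⟩ := local_step (R := R) (S := S) p q h₀ hreg
  exact exists_away_nzd_flat q h₀ h1 h2

end Groth.Agent.Lib.SliceFlat50
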