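import Groth.Agent.Lib.FlatCrit
import Groth.Agent.Lib.ArtinianFlatten88
import Groth.Agent.Lib.FiberAssAvoid88
import Mathlib.RingTheory.Flat.Localization
import Mathlib.RingTheory.Flat.Stability
import Mathlib.RingTheory.Flat.TorsionFree
import Mathlib.RingTheory.Localization.BaseChange

/-!
# Flatness over a ring with a nilpotent ideal, tested at the associated primes (helper88)

`A` a ring, `J` a nilpotent ideal, `M` an `A`-module with `M/JM` flat over `A/J` and
`Q(A) ⊗ M` flat (total ring of fractions).  Then `M` is flat.  For Noetherian `A` the second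
hypothesis follows from flatness of `M_p` for the associated primes `p` of `A`.
-/

set_option autoImplicit false
set_option linter.unusedSectionVars false
universe u

namespace Groth.Agent.Lib.FlatNilAss88

open TensorProduct Function Groth.Agent.Lib.FlatCrit

section Helpers

variable {A : Type u} [CommRing A] {M : Type*} [AddCommGroup M] [Module A M]

/-- Lemma T: tensoring an injective map between `J`-torsion modules with a module whose reduction
mod `J` is flat stays injective. -/
theorem rTensor_injective_of_torsion (J : Ideal A) [Module.Flat (A ⧸ J) ((A ⧸ J) ⊗[A] M)]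
    {P₁ P₂ : Type*} [AddCommGroup P₁] [Module A P₁] [AddCommGroup P₂] [Module A P₂]
    (h₁ : ∀ j ∈ J, ∀ p : P₁, j • p = 0) (h₂ : ∀ j ∈ J, ∀ p : P₂, j • p = 0)
    (f : P₁ →ₗ[A] P₂) (hf : Injective f) : Injective (f.rTensor M) := by
  have t₁ : Module.IsTorsionBySet A P₁ J := fun x a => h₁ a.1 a.2 x
  have t₂ : Module.IsTorsionBySet A P₂ J := fun x a => h₂ a.1 a.2 x
  let _ := t₁.module
  let _ := t₂.module
  let f' : P₁ →ₗ[A ⧸ J] P₂ :=
    { toFun := f
      map_add' := f.map_add
      map_smul' := by
        intro c x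
        obtain ⟨a, rfl⟩ := Ideal.Quotient.mk_surjective c
        exact f.map_smul a x }
  have hf' : Injective (f'.rTensor ((A ⧸ J) ⊗[A] M)) :=
    Module.Flat.rTensor_preserves_injective_linearMap f' hf
  have := rTensor_injective_restrictScalars_of (R := A) (M := M) (A ⧸ J) f' hf'
  exact this

/-- Lemma U: if `Q ⊗ M` is flat over `A` for a localization `Q = S⁻¹A`, an element of `𝔞 ⊗ M`
mapping to zero in `M` is killed by an element of `S`. -/
theorem exists_smul_eq_zero_of_rTensor_eq_zero (S : Submonoid A)
    [Module.Flat A (Localization S ⊗[A] M)] (𝔞 : Ideal A) (x : 𝔞 ⊗[A] M)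
    (hx : 𝔞.subtype.rTensor M x = 0) : ∃ s : S, s • x = 0 := by
  let φ : M →ₗ[A] Localization S ⊗[A] M := TensorProduct.mk A (Localization S) M 1
  have h0 : (φ.lTensor 𝔞) x = 0 := by
    apply Module.Flat.rTensor_preserves_injective_linearMap
      (M := Localization S ⊗[A] M) 𝔞.subtype 𝔞.subtype_injective
    rw [map_zero, ← LinearMap.comp_apply, LinearMap.rTensor_comp_lTensor,
      ← LinearMap.lTensor_comp_rTensor, LinearMap.comp_apply, hx, map_zero]
  have h1' : (TensorProduct.mk A (Localization S) (𝔞 ⊗[A] M) 1) x = 0 := by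
    have hcomp : (TensorProduct.mk A (Localization S) (𝔞 ⊗[A] M) 1) =
        (TensorProduct.leftComm A 𝔞 (Localization S) M).toLinearMap ∘ₗ (φ.lTensor 𝔞) := by
      ext a m
      simp [φ]
    rw [hcomp, LinearMap.comp_apply, h0, map_zero]
  exact (IsLocalizedModule.eq_zero_iff S
    (TensorProduct.mk A (Localization S) (𝔞 ⊗[A] M) 1)).mp h1'

end Helpers

section Steps

variable {A : Type u} [CommRing A] {M : Type u} [AddCommGroup M] [Module A M]

/-- (c): `Ann(J) ⊗ M → M` is injective. -/
theorem rTensor_annihilator_injective (J : Ideal A) [Module.Flat (A ⧸ J) ((A ⧸ J) ⊗[A] M)]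
    [Module.Flat A (Localization (nonZeroDivisors A) ⊗[A] M)] :
    Injective (((J : Submodule A A).annihilator).subtype.rTensor M) := by
  rw [injective_iff_map_eq_zero]
  intro x hx
  obtain ⟨⟨s, hs⟩, hsx⟩ := exists_smul_eq_zero_of_rTensor_eq_zero (nonZeroDivisors A) _ x hx
  have htors : ∀ j ∈ J, ∀ p : ((J : Submodule A A).annihilator), j • p = 0 := by
    intro j hj p
    apply Subtype.ext
    have := (Submodule.mem_annihilator.mp p.2) j hj
    simpa [mul_comm] using this
  let f : ((J : Submodule A A).annihilator) →ₗ[A] ((J : Submodule A A).annihilator) :=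
    s • LinearMap.id
  have hf : Injective f := by
    intro a b hab
    have h2 : s * (a : A) = s * (b : A) := by
      have := congrArg Subtype.val hab
      simpa [f] using this
    exact Subtype.ext ((mul_cancel_left_mem_nonZeroDivisors hs).mp h2)
  have hinj := rTensor_injective_of_torsion (M := M) J htors htors f hf
  apply hinj
  rw [map_zero]
  have : f.rTensor M = s • LinearMap.id := by
    simp only [f, LinearMap.rTensor_smul, LinearMap.rTensor_id]
  rw [this, LinearMap.smul_apply, LinearMap.id_apply]
  exact hsx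

/-- (a): the hypothesis on `M/JM` passes to a quotient ring. -/
theorem flat_quotient_map (J I : Ideal A) [Module.Flat (A ⧸ J) ((A ⧸ J) ⊗[A] M)] :
    Module.Flat ((A ⧸ I) ⧸ J.map (Ideal.Quotient.mk I))
      (((A ⧸ I) ⧸ J.map (Ideal.Quotient.mk I)) ⊗[A ⧸ I] ((A ⧸ I) ⊗[A] M)) := by
  have h : ∀ a ∈ J, algebraMap A ((A ⧸ I) ⧸ J.map (Ideal.Quotient.mk I)) a = 0 := by
    intro a ha
    rw [IsScalarTower.algebraMap_apply A (A ⧸ I) ((A ⧸ I) ⧸ J.map (Ideal.Quotient.mk I))]
    exact Ideal.Quotient.eq_zero_iff_mem.mpr (Ideal.mem_map_of_mem _ ha)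
  let g : A ⧸ J →+* (A ⧸ I) ⧸ J.map (Ideal.Quotient.mk I) :=
    Ideal.Quotient.lift J (algebraMap A ((A ⧸ I) ⧸ J.map (Ideal.Quotient.mk I))) h
  let _ : Algebra (A ⧸ J) ((A ⧸ I) ⧸ J.map (Ideal.Quotient.mk I)) := g.toAlgebra
  have : IsScalarTower A (A ⧸ J) ((A ⧸ I) ⧸ J.map (Ideal.Quotient.mk I)) :=
    IsScalarTower.of_algebraMap_eq (fun x => rfl)
  exact Module.Flat.of_linearEquiv
    ((TensorProduct.AlgebraTensorModule.cancelBaseChange A (A ⧸ I)
        ((A ⧸ I) ⧸ J.map (Ideal.Quotient.mk I)) ((A ⧸ I) ⧸ J.map (Ideal.Quotient.mk I)) M) ≪≫ₗ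
      (TensorProduct.AlgebraTensorModule.cancelBaseChange A (A ⧸ J)
        ((A ⧸ I) ⧸ J.map (Ideal.Quotient.mk I)) ((A ⧸ I) ⧸ J.map (Ideal.Quotient.mk I)) M).symm)

/-- (b): the hypothesis on the total ring of fractions passes to a quotient ring in which
nonzerodivisors stay nonzerodivisors. -/
theorem flat_frac_quotient (I : Ideal A)
    (hI : ∀ s ∈ nonZeroDivisors A, Ideal.Quotient.mk I s ∈ nonZeroDivisors (A ⧸ I))
    [Module.Flat A (Localization (nonZeroDivisors A) ⊗[A] M)] :
    Module.Flat (A ⧸ I) (Localization (nonZeroDivisors (A ⧸ I)) ⊗[A ⧸ I] ((A ⧸ I) ⊗[A] M)) := by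
  let g : Localization (nonZeroDivisors A) →+* Localization (nonZeroDivisors (A ⧸ I)) :=
    IsLocalization.map (M := nonZeroDivisors A) (T := nonZeroDivisors (A ⧸ I))
      (Localization (nonZeroDivisors (A ⧸ I))) (algebraMap A (A ⧸ I))
      (show nonZeroDivisors A ≤ (nonZeroDivisors (A ⧸ I)).comap (algebraMap A (A ⧸ I)) from
        fun s hs => hI s hs)
  let _ : Algebra (Localization (nonZeroDivisors A)) (Localization (nonZeroDivisors (A ⧸ I))) :=
    g.toAlgebra
  have : IsScalarTower A (Localization (nonZeroDivisors A))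
      (Localization (nonZeroDivisors (A ⧸ I))) := by
    refine IsScalarTower.of_algebraMap_eq (fun x => ?_)
    have : algebraMap (Localization (nonZeroDivisors A)) (Localization (nonZeroDivisors (A ⧸ I)))
        (algebraMap A (Localization (nonZeroDivisors A)) x) =
        algebraMap (A ⧸ I) (Localization (nonZeroDivisors (A ⧸ I))) (algebraMap A (A ⧸ I) x) :=
      IsLocalization.map_eq _ x
    rw [this]
    exact IsScalarTower.algebraMap_apply A (A ⧸ I) (Localization (nonZeroDivisors (A ⧸ I))) x
  have h0 : Module.Flat (Localization (nonZeroDivisors A))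
      (Localization (nonZeroDivisors A) ⊗[A] M) :=
    (Module.flat_iff_of_isLocalization (Localization (nonZeroDivisors A))
      (nonZeroDivisors A) _).mpr inferInstance
  have h2 : Module.Flat (Localization (nonZeroDivisors (A ⧸ I)))
      (Localization (nonZeroDivisors (A ⧸ I)) ⊗[A ⧸ I] ((A ⧸ I) ⊗[A] M)) :=
    Module.Flat.of_linearEquiv
      ((TensorProduct.AlgebraTensorModule.cancelBaseChange A (A ⧸ I)
          (Localization (nonZeroDivisors (A ⧸ I))) (Localization (nonZeroDivisors (A ⧸ I))) M) ≪≫ₗ
        (TensorProduct.AlgebraTensorModule.cancelBaseChange A (Localization (nonZeroDivisors A))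
          (Localization (nonZeroDivisors (A ⧸ I)))
          (Localization (nonZeroDivisors (A ⧸ I))) M).symm)
  exact (Module.flat_iff_of_isLocalization (Localization (nonZeroDivisors (A ⧸ I)))
    (nonZeroDivisors (A ⧸ I)) _).mp h2

end Steps

section Main

/-- Flatness from flatness mod a nilpotent ideal and flatness over the total ring of fractions. -/
theorem flat_of_pow_eq_bot (n : ℕ) : ∀ (A : Type u) [CommRing A] (J : Ideal A) (_ : J ^ n = ⊥)
    (M : Type u) [AddCommGroup M] [Module A M],
    Module.Flat (A ⧸ J) ((A ⧸ J) ⊗[A] M) →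
    Module.Flat A (Localization (nonZeroDivisors A) ⊗[A] M) → Module.Flat A M := by
  induction n with
  | zero =>
    intro A _ J hJ M _ _ _ _
    have : Subsingleton A := by
      rw [pow_zero, Ideal.one_eq_top] at hJ
      have h1 : (1 : A) ∈ (⊥ : Ideal A) := hJ ▸ Submodule.mem_top
      exact subsingleton_of_zero_eq_one ((Ideal.mem_bot.mp h1).symm)
    have : Subsingleton M := Module.subsingleton A M
    infer_instance
  | succ n ih =>
    intro A _ J hJ M _ _ hq hfrac
    set I : Ideal A := (J : Submodule A A).annihilator with hIdef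
    have hJI : J ^ n ≤ I := by
      intro x hx
      rw [hIdef, Submodule.mem_annihilator]
      intro j hj
      have : x * j ∈ J ^ (n + 1) := by
        rw [pow_succ]
        exact Ideal.mul_mem_mul hx hj
      rw [hJ] at this
      exact this
    have hJ' : (J.map (Ideal.Quotient.mk I)) ^ n = ⊥ := by
      rw [← Ideal.map_pow, Ideal.map_eq_bot_iff_le_ker, Ideal.mk_ker]
      exact hJI
    have hreg : ∀ s ∈ nonZeroDivisors A, Ideal.Quotient.mk I s ∈ nonZeroDivisors (A ⧸ I) := by
      intro s hs
      rw [mem_nonZeroDivisors_iff_right]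
      intro x hx
      obtain ⟨x, rfl⟩ := Ideal.Quotient.mk_surjective x
      rw [← map_mul, Ideal.Quotient.eq_zero_iff_mem, hIdef, Submodule.mem_annihilator] at hx
      rw [Ideal.Quotient.eq_zero_iff_mem, hIdef, Submodule.mem_annihilator]
      intro j hj
      have h1 := hx j hj
      rw [smul_eq_mul] at h1 ⊢
      have h2 : (x * j) * s = 0 := by rw [← h1]; ring
      exact (mem_nonZeroDivisors_iff_right.mp hs) _ h2
    have hM' : Module.Flat (A ⧸ I) ((A ⧸ I) ⊗[A] M) :=
      ih (A ⧸ I) (J.map (Ideal.Quotient.mk I)) hJ' ((A ⧸ I) ⊗[A] M) (flat_quotient_map J I)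
        (flat_frac_quotient I hreg)
    have hc : Injective (I.subtype.rTensor M) := rTensor_annihilator_injective J
    have hK : Injective (J.subtype.rTensor M) := by
      rw [injective_iff_map_eq_zero]
      intro x hx
      let J' : Ideal (A ⧸ I) := J.map (Ideal.Quotient.mk I)
      let ρ : J →ₗ[A] J' :=
        { toFun := fun a => ⟨Ideal.Quotient.mk I a.1, Ideal.mem_map_of_mem _ a.2⟩
          map_add' := fun a b => Subtype.ext (by simp)
          map_smul' := fun r a => Subtype.ext (by simp [Algebra.smul_def]) }
      have hρsurj : Surjective ρ := by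
        rintro ⟨y, hy⟩
        obtain ⟨a, ha, rfl⟩ :=
          (Ideal.mem_map_iff_of_surjective _ Ideal.Quotient.mk_surjective).mp hy
        exact ⟨⟨a, ha⟩, rfl⟩
      have hinj' : Injective ((J'.subtype.restrictScalars A).rTensor M) :=
        rTensor_injective_restrictScalars_of (A ⧸ I) J'.subtype
          (Module.Flat.rTensor_preserves_injective_linearMap _ J'.subtype_injective)
      have hcomp : (J'.subtype.restrictScalars A) ∘ₗ ρ = I.mkQ ∘ₗ J.subtype := by
        ext a; rfl
      have h0 : ρ.rTensor M x = 0 := by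
        apply hinj'
        rw [map_zero, ← LinearMap.comp_apply, ← LinearMap.rTensor_comp, hcomp,
          LinearMap.rTensor_comp, LinearMap.comp_apply, hx, map_zero]
      have hex := rTensor_exact M (LinearMap.exact_subtype_ker_map ρ) hρsurj
      obtain ⟨y, rfl⟩ := (hex x).mp h0
      have hmemI : ∀ a : LinearMap.ker ρ, (a.1 : A) ∈ I := by
        intro a
        have := congrArg Subtype.val (LinearMap.mem_ker.mp a.2)
        exact Ideal.Quotient.eq_zero_iff_mem.mp this
      let κ : LinearMap.ker ρ →ₗ[A] I :=
        { toFun := fun a => ⟨a.1.1, hmemI a⟩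
          map_add' := fun a b => rfl
          map_smul' := fun r a => rfl }
      have hκ : Injective κ := by
        intro a b hab
        have := congrArg Subtype.val hab
        exact Subtype.ext (Subtype.ext this)
      have hannih : ∀ j ∈ J, ∀ a ∈ I, j * a = 0 := by
        intro j hj a ha
        have := (Submodule.mem_annihilator.mp ha) j hj
        rw [smul_eq_mul] at this
        rw [mul_comm]; exact this
      have ht₁ : ∀ j ∈ J, ∀ p : LinearMap.ker ρ, j • p = 0 := by
        intro j hj p
        apply Subtype.ext; apply Subtype.ext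
        exact hannih j hj _ (hmemI p)
      have ht₂ : ∀ j ∈ J, ∀ p : I, j • p = 0 := by
        intro j hj p
        apply Subtype.ext
        exact hannih j hj _ p.2
      have hκM : Injective (κ.rTensor M) := rTensor_injective_of_torsion J ht₁ ht₂ κ hκ
      have hcomp2 : I.subtype ∘ₗ κ = J.subtype ∘ₗ (LinearMap.ker ρ).subtype := by
        ext a; rfl
      have h1 : κ.rTensor M y = 0 := by
        apply hc
        rw [map_zero, ← LinearMap.comp_apply, ← LinearMap.rTensor_comp, hcomp2,
          LinearMap.rTensor_comp, LinearMap.comp_apply]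
        exact hx
      rw [hκM (h1.trans (map_zero _).symm), map_zero]
    exact flat_of_isNilpotent J ⟨n + 1, hJ⟩ hK

end Main

section Noetherian

variable {A : Type u} [CommRing A] [IsNoetherianRing A] (M : Type u) [AddCommGroup M] [Module A M]

open Groth.Agent.Lib.ArtinianFlatten88 in
/-- Over a Noetherian ring, flatness at the associated primes gives flatness of `Q(A) ⊗ M`. -/
theorem flat_frac_of_flat_at_ass
    (h : ∀ (p : Ideal A) [p.IsPrime], p ∈ associatedPrimes A A →
        Module.Flat (Localization.AtPrime p) (Localization.AtPrime p ⊗[A] M)) :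
    Module.Flat A (Localization (nonZeroDivisors A) ⊗[A] M) := by
  rw [← Module.flat_iff_of_isLocalization (Localization (nonZeroDivisors A)) (nonZeroDivisors A)]
  refine Module.flat_of_isLocalized_maximal (Localization (nonZeroDivisors A))
    (Localization (nonZeroDivisors A) ⊗[A] M)
    (fun P _ => Localization.AtPrime P ⊗[Localization (nonZeroDivisors A)]
      (Localization (nonZeroDivisors A) ⊗[A] M))
    (fun P _ => TensorProduct.mk (Localization (nonZeroDivisors A)) (Localization.AtPrime P)
      (Localization (nonZeroDivisors A) ⊗[A] M) 1) ?_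
  intro P hP
  rw [← Module.flat_iff_of_isLocalization (Localization.AtPrime P) P.primeCompl]
  have hsurj : Function.Surjective (algebraMap A A) := fun x => ⟨x, rfl⟩
  have hloc : IsLocalization (nonZeroSMulDivisors A A) (Localization (nonZeroDivisors A)) := by
    have : nonZeroSMulDivisors A A = nonZeroDivisors A :=
      nonZeroDivisorsLeft_eq_nonZeroDivisors
    rw [this]
    infer_instance
  have hmax := Groth.Agent.Lib.FiberAssAvoid88.comap_maximal_of_isMaximal (F := A) (T := A)
    (Localization (nonZeroDivisors A)) hsurj P hP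
  have hass : P.under A ∈ associatedPrimes A A := hmax.1
  let _ := Localization.AtPrime.algebraOfLiesOver (P.under A) P
  rw [flat_localization_iff M (Localization (nonZeroDivisors A)) (P.under A) P]
  have := h (P.under A) hass
  infer_instance

end Noetherian

end Groth.Agent.Lib.FlatNilAss88
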