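import Mathlib.RingTheory.Flat.Localization
import Mathlib.RingTheory.Flat.Stability
import Mathlib.RingTheory.Localization.BaseChange

set_option autoImplicit false
set_option linter.style.haveILetI false
universe u v w
open TensorProduct

namespace Groth.Agent.Lib.FlatOverAlg

/-- A localization (at a submonoid of a bigger ring `S`) of an `R`-flat module is `R`-flat. -/
theorem flat_of_isLocalizedModule_of_flat {R S M Mp : Type*} [CommRing R] [CommRing S] [Algebra R S]
    [AddCommGroup M] [Module R M] [Module S M] [IsScalarTower R S M]
    [AddCommGroup Mp] [Module R Mp] [Module S Mp] [IsScalarTower R S Mp]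
    (p : Submonoid S) (f : M →ₗ[S] Mp) [IsLocalizedModule p f] [hM : Module.Flat R M] :
    Module.Flat R Mp := by
  rw [Module.Flat.iff_lTensor_injectiveₛ] at hM ⊢
  intro P _ _ N
  have h := hM N
  rw [← AlgebraTensorModule.coe_lTensor (A := S)] at h ⊢
  have := IsLocalizedModule.map_injective p (AlgebraTensorModule.rTensor R N f)
    (AlgebraTensorModule.rTensor R P f) _ h
  rwa [IsLocalizedModule.map_lTensor] at this

/-- Relative local criterion of flatness, existential packaging. -/
theorem flat_of_forall_maximal_exists {R : Type u} {S : Type v} {M : Type w} [CommRing R] [CommRing S]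
    [Algebra R S] [AddCommGroup M] [Module R M] [Module S M] [IsScalarTower R S M]
    (H : ∀ (P : Ideal S) [P.IsMaximal], ∃ (Mp : Type w) (_ : AddCommGroup Mp) (_ : Module R Mp)
      (_ : Module S Mp) (_ : IsScalarTower R S Mp) (g : M →ₗ[S] Mp),
      IsLocalizedModule P.primeCompl g ∧ Module.Flat R Mp) : Module.Flat R M := by
  choose Mp i1 i2 i3 i4 g hg hflat using H
  letI : ∀ (P : Ideal S) [P.IsMaximal], AddCommMonoid (Mp P) := fun P _ => (i1 P).toAddCommMonoid
  exact Module.flat_of_isLocalized_maximal S M (fun P _ => Mp P) (fun P _ => g P) (fun P _ => hflat P)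

end Groth.Agent.Lib.FlatOverAlg
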