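import Mathlib.RingTheory.Flat.EquationalCriterion
import Mathlib.RingTheory.Flat.Basic
import Mathlib.LinearAlgebra.TensorProduct.Prod
import Mathlib.Algebra.Module.FinitePresentation
import Mathlib.Algebra.Module.Projective
import Mathlib.LinearAlgebra.Finsupp.Supported

/-!
# Flat modules with a "finitely related" projective presentation are projective (helper18)

`π : P → Q` surjective, `P` projective, `ker π` finitely generated, `Q` flat  ⟹  `Q` projective.
(For `P` finite free this is "finitely presented flat ⟹ projective".)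
-/

set_option autoImplicit false
set_option maxHeartbeats 400000
universe u v w
open TensorProduct

namespace Groth.Agent.Lib.FlatPresProj18

/-- a product of two flat modules is flat -/
theorem flat_prod {R : Type u} [CommRing R] {M : Type v} {N : Type w} [AddCommGroup M]
    [Module R M] [AddCommGroup N] [Module R N] [Module.Flat R M] [Module.Flat R N] :
    Module.Flat R (M × N) := by
  rw [Module.Flat.iff_rTensor_injectiveₛ]
  intro P _ _ Q
  have h1 : Function.Injective (Q.subtype.rTensor M) :=
    Module.Flat.rTensor_preserves_injective_linearMap _ Subtype.val_injective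
  have h2 : Function.Injective (Q.subtype.rTensor N) :=
    Module.Flat.rTensor_preserves_injective_linearMap _ Subtype.val_injective
  have key : (TensorProduct.prodRight R R P M N).toLinearMap ∘ₗ Q.subtype.rTensor (M × N) =
      ((Q.subtype.rTensor M).prodMap (Q.subtype.rTensor N)) ∘ₗ
        (TensorProduct.prodRight R R Q M N).toLinearMap := by
    ext q m <;> simp
  have h3 : Function.Injective
      ((TensorProduct.prodRight R R P M N).toLinearMap ∘ₗ Q.subtype.rTensor (M × N)) := by
    rw [key]
    exact (Function.Injective.prodMap h1 h2).comp (TensorProduct.prodRight R R Q M N).injective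
  exact Function.Injective.of_comp h3

section retract

variable {C : Type u} [CommRing C] {F : Type v} [AddCommGroup F] [Module C F]
  (U : Submodule C F) {Y : Type w} [AddCommGroup Y] [Module C Y]

/-- `F ⧸ U` is a retract of `Y × F` given `g : F → Y` killing `U`, `h : Y → F ⧸ U` and an
endomorphism `ε` of `F` fixing `U` with `h ∘ g = mkQ ∘ ε`. -/
lemma exists_retract (g : F →ₗ[C] Y) (h : Y →ₗ[C] F ⧸ U) (ε : F →ₗ[C] F)
    (h1 : h ∘ₗ g = U.mkQ ∘ₗ ε) (h2 : ∀ f ∈ U, g f = 0) (h3 : ∀ f ∈ U, ε f = f) :
    ∃ (a : F ⧸ U →ₗ[C] Y × F) (b : Y × F →ₗ[C] F ⧸ U), b ∘ₗ a = LinearMap.id := by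
  refine ⟨U.liftQ (LinearMap.prod g (LinearMap.id - ε)) ?_, LinearMap.coprod h U.mkQ, ?_⟩
  · intro f hf
    rw [LinearMap.mem_ker]
    change (g f, f - ε f) = 0
    rw [h2 f hf, h3 f hf, sub_self]
    rfl
  · apply Submodule.linearMap_qext
    ext f
    change h (g f) + Submodule.Quotient.mk (f - ε f) = Submodule.Quotient.mk f
    have := LinearMap.congr_fun h1 f
    simp only [LinearMap.comp_apply, Submodule.mkQ_apply] at this
    rw [this, Submodule.Quotient.mk_sub]
    abel

end retract

section main

variable {C : Type u} [CommRing C]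

/-- Core case, abstract form: `U ≤ F₀ ≤ F`, `F₀` finite free and a retract of the projective module
`F`, `U` finitely generated, `F ⧸ U` flat ⟹ `F ⧸ U` projective. -/
theorem projective_quotient_of_retraction {F : Type v} [AddCommGroup F] [Module C F]
    [Module.Projective C F] (U F₀ : Submodule C F) (hUF₀ : U ≤ F₀) (hU : U.FG)
    (ρ : F →ₗ[C] F₀) (hρ : ∀ f : F₀, ρ (f : F) = f) [Module.Finite C F₀] [Module.Free C F₀]
    [Module.Flat C (F ⧸ U)] : Module.Projective C (F ⧸ U) := by
  let U₀ : Submodule C F₀ := U.comap F₀.subtype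
  have hU₀map : U₀.map F₀.subtype = U := by
    rw [Submodule.map_comap_eq, Submodule.range_subtype, inf_eq_right]
    exact hUF₀
  have hU₀fg : U₀.FG := by
    apply Submodule.fg_of_fg_map_injective F₀.subtype (Submodule.injective_subtype _)
    rw [hU₀map]
    exact hU
  -- `F₀ ⧸ U₀` is a retract of `F ⧸ U`
  let c : F₀ ⧸ U₀ →ₗ[C] F ⧸ U := U₀.mapQ U F₀.subtype (le_refl _)
  have hρ' : ∀ f (hf : f ∈ F₀), ρ f = ⟨f, hf⟩ := fun f hf => hρ ⟨f, hf⟩
  have hd : U ≤ U₀.comap ρ := by
    intro f hf
    rw [Submodule.mem_comap]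
    change (ρ f : F) ∈ U
    rw [hρ' f (hUF₀ hf)]
    exact hf
  let d : F ⧸ U →ₗ[C] F₀ ⧸ U₀ := U.mapQ U₀ ρ hd
  have hdc : d ∘ₗ c = LinearMap.id := by
    apply Submodule.linearMap_qext
    ext f
    change Submodule.Quotient.mk (ρ (f : F)) = Submodule.Quotient.mk f
    rw [hρ]
  have hflat₀ : Module.Flat C (F₀ ⧸ U₀) := Module.Flat.of_retract c d hdc
  have hfp : Module.FinitePresentation C (F₀ ⧸ U₀) :=
    Module.finitePresentation_of_free_of_surjective U₀.mkQ (Submodule.mkQ_surjective _)
      (by rw [Submodule.ker_mkQ]; exact hU₀fg)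
  have hproj₀ : Module.Projective C (F₀ ⧸ U₀) := Module.Flat.projective_of_finitePresentation
  -- `F ⧸ U` is a retract of `(F₀ ⧸ U₀) × F`
  obtain ⟨a, b, hab⟩ := exists_retract U (U₀.mkQ ∘ₗ ρ) c (F₀.subtype ∘ₗ ρ)
    (by
      ext f
      rfl)
    (by
      intro f hf
      rw [LinearMap.comp_apply, Submodule.mkQ_apply, Submodule.Quotient.mk_eq_zero]
      exact hd hf)
    (by
      intro f hf
      rw [LinearMap.comp_apply, hρ' f (hUF₀ hf)]
      rfl)
  exact Module.Projective.of_split a b hab

end main

section finsupp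

variable {C : Type u} [CommRing C] {P : Type v}

/-- a flat quotient of a free module `P →₀ C` by a finitely generated submodule is projective -/
theorem projective_quotient_finsupp (U : Submodule C (P →₀ C)) (hU : U.FG)
    [Module.Flat C ((P →₀ C) ⧸ U)] : Module.Projective C ((P →₀ C) ⧸ U) := by
  classical
  obtain ⟨G, hG⟩ := hU
  let T : Finset P := G.biUnion (fun g => g.support)
  have hUF₀ : U ≤ Finsupp.supported C C (T : Set P) := by
    rw [← hG, Submodule.span_le]
    intro g hg
    rw [SetLike.mem_coe, Finsupp.mem_supported]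
    intro x hx
    exact Finset.mem_coe.mpr (Finset.mem_biUnion.mpr ⟨g, hg, hx⟩)
  have hρ : ∀ f : Finsupp.supported C C (T : Set P),
      Finsupp.restrictDom C C (T : Set P) (f : P →₀ C) = f := fun f =>
    LinearMap.congr_fun (Finsupp.restrictDom_comp_subtype (T : Set P)) f
  have hfin : Module.Finite C (Finsupp.supported C C (T : Set P)) :=
    Module.Finite.equiv (Finsupp.supportedEquivFinsupp (M := C) (R := C) (T : Set P)).symm
  have hfree : Module.Free C (Finsupp.supported C C (T : Set P)) :=
    Module.Free.of_equiv (Finsupp.supportedEquivFinsupp (M := C) (R := C) (T : Set P)).symm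
  exact projective_quotient_of_retraction U (Finsupp.supported C C (T : Set P)) hUF₀ ⟨G, hG⟩
    (Finsupp.restrictDom C C (T : Set P)) hρ

end finsupp

section general

variable {C : Type u} [CommRing C] {P : Type v} [AddCommGroup P] [Module C P]
  [Module.Projective C P] {Q : Type w} [AddCommGroup Q] [Module C Q] [Module.Flat C Q]

/-- A flat module which is the quotient of a projective module by a finitely generated submodule is
projective. -/
theorem projective_of_flat_of_fg_ker (π : P →ₗ[C] Q) (hπ : Function.Surjective π)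
    (hK : (LinearMap.ker π).FG) : Module.Projective C Q := by
  obtain ⟨s, hs⟩ := Module.projective_def'.mp (inferInstance : Module.Projective C P)
  have hps : ∀ x : P, Finsupp.linearCombination C (id : P → P) (s x) = x :=
    fun x => LinearMap.congr_fun hs x
  let p : (P →₀ C) →ₗ[C] P := Finsupp.linearCombination C (id : P → P)
  let U : Submodule C (P →₀ C) := (LinearMap.ker π).map s
  have hU : U.FG := hK.map s
  let e : (P ⧸ LinearMap.ker π) ≃ₗ[C] Q := π.quotKerEquivOfSurjective hπ
  have he : ∀ x : P, e.symm (π x) = Submodule.Quotient.mk x := by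
    intro x
    rw [LinearEquiv.symm_apply_eq]
    rfl
  let β' : Q →ₗ[C] (P →₀ C) ⧸ U :=
    ((LinearMap.ker π).mapQ U s (Submodule.le_comap_map _ _)) ∘ₗ e.symm.toLinearMap
  have hβ' : ∀ x : P, β' (π x) = Submodule.Quotient.mk (s x) := by
    intro x
    change ((LinearMap.ker π).mapQ U s (Submodule.le_comap_map _ _)) (e.symm (π x)) = _
    rw [he]
    rfl
  have hUker : U ≤ LinearMap.ker (π ∘ₗ p) := by
    rintro _ ⟨x, hx, rfl⟩
    rw [LinearMap.mem_ker, LinearMap.comp_apply]
    change π (Finsupp.linearCombination C (id : P → P) (s x)) = 0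
    rw [hps]
    exact hx
  let α' : (P →₀ C) ⧸ U →ₗ[C] Q := U.liftQ (π ∘ₗ p) hUker
  have hαβ : α' ∘ₗ β' = LinearMap.id := by
    ext q
    obtain ⟨x, rfl⟩ := hπ q
    rw [LinearMap.comp_apply, hβ']
    change π (Finsupp.linearCombination C (id : P → P) (s x)) = _
    rw [hps]
    rfl
  -- `F ⧸ U` is flat, as a retract of `Q × F`
  obtain ⟨a, b, hab⟩ := exists_retract U (π ∘ₗ p) β' (s ∘ₗ p)
    (by
      ext f
      simp only [LinearMap.comp_apply]
      rw [hβ']
      rfl)
    (fun f hf => hUker hf)
    (by
      rintro _ ⟨x, _, rfl⟩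
      rw [LinearMap.comp_apply]
      change s (Finsupp.linearCombination C (id : P → P) (s x)) = s x
      rw [hps])
  have hflatQ : Module.Flat C Q := inferInstance
  have hflatQF : Module.Flat C (Q × (P →₀ C)) := flat_prod
  have hflat : Module.Flat C ((P →₀ C) ⧸ U) := Module.Flat.of_retract a b hab
  have hproj : Module.Projective C ((P →₀ C) ⧸ U) := projective_quotient_finsupp U hU
  exact Module.Projective.of_split β' α' hαβ

end general

end Groth.Agent.Lib.FlatPresProj18
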