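import Groth.Agent.Lib.FlatInf88
import Mathlib.RingTheory.Localization.Away.Basic
import Mathlib.RingTheory.Localization.Ideal

/-!
# Flatness modulo the kernel of `I → Γ(U, I/I²)` (helper88)

`M/IM` flat over `A/I`, `M_p` flat for `p` in a quasi-compact open `U = D(g₁) ∪ … ∪ D(gₙ)`.
Then `M/I₂M` is flat over `A/I₂` where `I₂ = {x ∈ I | ∀ j, ∃ k, g_j^k x ∈ I²}`.
-/

set_option autoImplicit false
set_option linter.unusedSectionVars false
universe u

namespace Groth.Agent.Lib.FlatQcOpen88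

open TensorProduct Function Groth.Agent.Lib.FlatCrit Groth.Agent.Lib.FlatNilAss88
  Groth.Agent.Lib.FlatTopInduced88 Groth.Agent.Lib.FlatInf88

section Away

variable {A : Type u} [CommRing A] (M : Type*) [AddCommGroup M] [Module A M]

/-- An element of `ker (𝔞 ⊗ M → M)` is killed by a power of `g` if `M` is flat at all primes of
`D(g)`. -/
theorem exists_pow_smul_eq_zero (g : A)
    (hflat : ∀ p : Ideal A, ∀ _ : p.IsPrime, g ∉ p →
      Module.Flat A (Localization p.primeCompl ⊗[A] M))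
    (𝔞 : Ideal A) (y : 𝔞 ⊗[A] M) (hy : 𝔞.subtype.rTensor M y = 0) : ∃ k : ℕ, g ^ k • y = 0 := by
  let J : Ideal A := LinearMap.ker (LinearMap.toSpanSingleton A (𝔞 ⊗[A] M) y)
  have hJ : ∀ s : A, s ∈ J ↔ s • y = 0 := fun s => by
    rw [LinearMap.mem_ker, LinearMap.toSpanSingleton_apply]
  have hg : g ∈ J.radical := by
    rw [Ideal.radical_eq_sInf, Ideal.mem_sInf]
    rintro p ⟨hJp, hp⟩
    by_contra hgp
    have := hflat p hp hgp
    obtain ⟨s, hs⟩ := exists_smul_eq_zero_of_rTensor_eq_zero p.primeCompl 𝔞 y hy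
    exact s.2 (hJp ((hJ s.1).mpr hs))
  obtain ⟨k, hk⟩ := hg
  exact ⟨k, (hJ _).mp hk⟩

/-- `M_g` is flat over `A_g` if `M` is flat at all primes of `D(g)`. -/
theorem flat_away (g : A)
    (hflat : ∀ p : Ideal A, ∀ _ : p.IsPrime, g ∉ p →
      Module.Flat A (Localization p.primeCompl ⊗[A] M)) :
    Module.Flat (Localization.Away g) (Localization.Away g ⊗[A] M) := by
  rw [Module.flat_iff_of_isLocalization (Localization.Away g) (Submonoid.powers g),
    Module.Flat.iff_rTensor_injective']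
  intro 𝔞
  set φ : 𝔞 ⊗[A] M →ₗ[A] A ⊗[A] M := 𝔞.subtype.rTensor M with hφ
  have hzero : ∀ w : Localization.Away g ⊗[A] (LinearMap.ker φ),
      (LinearMap.ker φ).subtype.lTensor (Localization.Away g) w = 0 := by
    intro w
    induction w with
    | zero => rw [map_zero]
    | add x y hx hy => rw [map_add, hx, hy, add_zero]
    | tmul a y =>
      obtain ⟨k, hk⟩ := exists_pow_smul_eq_zero M g hflat 𝔞 y.1 y.2
      rw [LinearMap.lTensor_tmul, Submodule.subtype_apply]
      have h1 : a = (g ^ k) • (a * IsLocalization.Away.invSelf g ^ k) := by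
        rw [Algebra.smul_def, map_pow, mul_comm a, ← mul_assoc, ← mul_pow,
          IsLocalization.Away.mul_invSelf, one_pow, one_mul]
      rw [h1, TensorProduct.smul_tmul, hk, tmul_zero]
  have key : Injective (φ.lTensor (Localization.Away g)) := by
    rw [injective_iff_map_eq_zero]
    intro z hz
    have hex := @Module.Flat.lTensor_exact A (Localization.Away g) _ _ _ _ (LinearMap.ker φ)
      (𝔞 ⊗[A] M) (A ⊗[A] M) _ _ _ _ _ _ (LinearMap.ker φ).subtype φ
      (LinearMap.exact_subtype_ker_map φ)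
    obtain ⟨w, rfl⟩ := (hex z).mp hz
    exact hzero w
  have hcomp : (TensorProduct.leftComm A A (Localization.Away g) M).toLinearMap ∘ₗ
      (𝔞.subtype.rTensor (Localization.Away g ⊗[A] M)) =
      (φ.lTensor (Localization.Away g)) ∘ₗ
        (TensorProduct.leftComm A 𝔞 (Localization.Away g) M).toLinearMap := by
    ext a l m
    rfl
  have h2 : Injective ((TensorProduct.leftComm A A (Localization.Away g) M).toLinearMap ∘ₗ
      (𝔞.subtype.rTensor (Localization.Away g ⊗[A] M))) := by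
    rw [hcomp]
    exact key.comp (TensorProduct.leftComm A 𝔞 (Localization.Away g) M).injective
  rw [LinearMap.coe_comp] at h2
  exact Function.Injective.of_comp h2

end Away

section Main

variable {A : Type u} [CommRing A] (M : Type*) [AddCommGroup M] [Module A M]

theorem mem_comap_map_away_iff (I : Ideal A) (g x : A) :
    x ∈ (I.map (algebraMap A (Localization.Away g))).comap (algebraMap A (Localization.Away g)) ↔
      ∃ k : ℕ, g ^ k * x ∈ I := by
  rw [Ideal.mem_comap,
    IsLocalization.algebraMap_mem_map_algebraMap_iff (Submonoid.powers g) (Localization.Away g)]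
  constructor
  · rintro ⟨m, ⟨k, rfl⟩, h⟩
    exact ⟨k, h⟩
  · rintro ⟨k, h⟩
    exact ⟨g ^ k, ⟨k, rfl⟩, h⟩

/-- `M/IM` flat over `A/I` and `M` flat at the primes of `D(g)`, `g ∈ t`: then `M/I₂M` is flat
over `A/I₂` for `I₂ = {x ∈ I | ∀ g ∈ t, ∃ k, g^k x ∈ I²}`. -/
theorem flat_quotient_of_flat_on_basicOpens (I : Ideal A) (t : Finset A)
    [Module.Flat (A ⧸ I) ((A ⧸ I) ⊗[A] M)]
    (hflat : ∀ p : Ideal A, ∀ _ : p.IsPrime, (∃ g ∈ t, g ∉ p) →
      Module.Flat A (Localization p.primeCompl ⊗[A] M))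
    (I₂ : Ideal A) (hI₂ : ∀ x, x ∈ I₂ ↔ x ∈ I ∧ ∀ g ∈ t, ∃ k : ℕ, g ^ k * x ∈ I ^ 2) :
    Module.Flat (A ⧸ I₂) ((A ⧸ I₂) ⊗[A] M) := by
  have hfam : ∀ g : t, Module.Flat (Localization.Away g.1) (Localization.Away g.1 ⊗[A] M) :=
    fun g => flat_away M g.1 (fun p hp hgp => hflat p hp ⟨g.1, g.2, hgp⟩)
  set K : Ideal A := ⨅ g : t, ((I ^ 2).map (algebraMap A (Localization.Away g.1))).comap
    (algebraMap A (Localization.Away g.1)) with hKdef
  have hK : Module.Flat (A ⧸ K) ((A ⧸ K) ⊗[A] M) :=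
    flat_quotient_iInf_comap M (fun g : t => Localization.Away g.1) I
      (fun g => (I ^ 2).map (algebraMap A (Localization.Away g.1))) 2
      (fun g => Ideal.le_comap_map)
  have h3 := flat_quotient_inf M I K
  refine flat_quotient_of_le M (K := I ⊓ K) (le_of_eq ?_)
  ext x
  rw [hI₂, Ideal.mem_inf, hKdef, Ideal.mem_iInf]
  refine and_congr Iff.rfl ⟨fun h g hg => ?_, fun h g => ?_⟩
  · exact (mem_comap_map_away_iff (I ^ 2) g x).mp (h ⟨g, hg⟩)
  · exact (mem_comap_map_away_iff (I ^ 2) g.1 x).mpr (h g.1 g.2)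

end Main

end Groth.Agent.Lib.FlatQcOpen88
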