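import Groth.Agent.Lib.FlatStep
import Mathlib.Algebra.Homology.ShortComplex.ModuleCat
import Mathlib.Algebra.Homology.ShortComplex.HomologicalComplex
import Mathlib.Algebra.Category.ModuleCat.Monoidal.Basic
import Mathlib.Algebra.Category.ModuleCat.ChangeOfRings
import Mathlib.Algebra.Category.ModuleCat.Kernels

/-!
# Stacks 00MI, one step: exactness modulo `m_R S` lifts, with flat cokernel

`concrete_step`, `elementwise_of_exact`, `step_cat`, `homologyZeroIso`.
-/

set_option autoImplicit false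
universe u

namespace Groth.Agent.Lib.FlatStepCx

open CategoryTheory CategoryTheory.Limits TensorProduct Groth.Agent.Lib.FlatStep

section helpers

variable {R S : Type u} [CommRing R] [CommRing S] [IsLocalRing R] [IsLocalRing S]
  [IsNoetherianRing S] [Algebra R S] [IsLocalHom (algebraMap R S)]

/-- Concrete step: from "exact modulo `I`" at the middle of `X₁ → X₂ → X₃` to injectivity of
`X₂/im → X₃` and flatness of `X₃/im`. -/
theorem concrete_step {X₁ X₂ X₃ : Type u} [AddCommGroup X₁] [Module S X₁]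
    [AddCommGroup X₂] [Module S X₂] [Module.Finite S X₂]
    [AddCommGroup X₃] [Module S X₃] [Module R X₃] [IsScalarTower R S X₃] [Module.Flat R X₃]
    (f : X₁ →ₗ[S] X₂) (g : X₂ →ₗ[S] X₃) (hfg : ∀ x, g (f x) = 0)
    (hex : ∀ x : X₂, g x ∈ ((IsLocalRing.maximalIdeal R).map (algebraMap R S)) •
        (⊤ : Submodule S X₃) →
      ∃ y : X₁, x - f y ∈ ((IsLocalRing.maximalIdeal R).map (algebraMap R S)) •
        (⊤ : Submodule S X₂)) :
    (∀ x : X₂, g x = 0 → ∃ y, f y = x) ∧ Module.Flat R (X₃ ⧸ LinearMap.range g) := by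
  let _ : Module R X₂ := Module.compHom X₂ (algebraMap R S)
  have _ : IsScalarTower R S X₂ := IsScalarTower.of_algebraMap_smul fun r x => rfl
  let I := (IsLocalRing.maximalIdeal R).map (algebraMap R S)
  have hle : LinearMap.range f ≤ LinearMap.ker g := by
    rintro _ ⟨x, rfl⟩
    exact hfg x
  let u : (X₂ ⧸ LinearMap.range f) →ₗ[S] X₃ := (LinearMap.range f).liftQ g hle
  have hu : ∀ q : X₂ ⧸ LinearMap.range f, u q ∈ I • (⊤ : Submodule S X₃) →
      q ∈ I • (⊤ : Submodule S (X₂ ⧸ LinearMap.range f)) := by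
    intro q hq
    obtain ⟨x, rfl⟩ := Submodule.mkQ_surjective _ q
    obtain ⟨y, hy⟩ := hex x hq
    have h1 : (LinearMap.range f).mkQ x = (LinearMap.range f).mkQ (x - f y) := by
      rw [Submodule.mkQ_apply, Submodule.mkQ_apply, Submodule.Quotient.eq, sub_sub_cancel]
      exact ⟨y, rfl⟩
    rw [h1]
    have h2 : (I • (⊤ : Submodule S X₂)).map (LinearMap.range f).mkQ ≤
        I • (⊤ : Submodule S (X₂ ⧸ LinearMap.range f)) := by
      rw [Submodule.map_smul'']
      exact Submodule.smul_mono le_rfl le_top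
    exact h2 ⟨_, hy, rfl⟩
  obtain ⟨hinj, hflat⟩ := step (R := R) u hu
  constructor
  · intro x hx
    have h0 : u ((LinearMap.range f).mkQ x) = 0 := hx
    have h1 := hinj (h0.trans (map_zero u).symm)
    obtain ⟨y, hy⟩ := (Submodule.Quotient.mk_eq_zero _).mp h1
    exact ⟨y, hy⟩
  · have hr : LinearMap.range u = LinearMap.range g := Submodule.range_liftQ _ _ _
    rw [hr] at hflat
    exact hflat


omit [IsLocalRing S] [IsNoetherianRing S] in
/-- Elementwise form of exactness of the sequence tensored with `S ⧸ I`. -/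
theorem elementwise_of_exact (I : Ideal S) {X₁ X₂ X₃ : Type u} [AddCommGroup X₁] [Module S X₁]
    [AddCommGroup X₂] [Module S X₂] [AddCommGroup X₃] [Module S X₃]
    (f : X₁ →ₗ[S] X₂) (g : X₂ →ₗ[S] X₃)
    (h : ∀ z : (S ⧸ I) ⊗[S] X₂, g.lTensor (S ⧸ I) z = 0 → ∃ w, f.lTensor (S ⧸ I) w = z) :
    ∀ x : X₂, g x ∈ I • (⊤ : Submodule S X₃) →
      ∃ y : X₁, x - f y ∈ I • (⊤ : Submodule S X₂) := by
  intro x hx
  have h1 : g.lTensor (S ⧸ I) ((Ideal.Quotient.mk I 1) ⊗ₜ x) = 0 := by
    rw [LinearMap.lTensor_tmul]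
    apply (quotTensorEquivQuotSMul X₃ I).injective
    rw [quotTensorEquivQuotSMul_mk_tmul, map_zero, one_smul, Submodule.Quotient.mk_eq_zero]
    exact hx
  obtain ⟨w, hw⟩ := h _ h1
  obtain ⟨y, rfl⟩ := TensorProduct.mk_surjective S X₁ (S ⧸ I) Ideal.Quotient.mk_surjective w
  refine ⟨y, ?_⟩
  have hw' : (Ideal.Quotient.mk I 1) ⊗ₜ[S] f y = (Ideal.Quotient.mk I 1) ⊗ₜ[S] x := hw
  have h2 : (Ideal.Quotient.mk I 1) ⊗ₜ[S] (x - f y) = (0 : (S ⧸ I) ⊗[S] X₂) := by
    rw [TensorProduct.tmul_sub, hw', sub_self]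
  have h3 := congrArg (quotTensorEquivQuotSMul X₂ I) h2
  rw [quotTensorEquivQuotSMul_mk_tmul, map_zero, one_smul, Submodule.Quotient.mk_eq_zero] at h3
  exact h3


/-- One step at the level of complexes. -/
theorem step_cat (C : ChainComplex (ModuleCat.{u} S) ℕ) (i : ℕ)
    (hfin : Module.Finite S (C.X (i + 1)))
    (hflat : Module.Flat R ((ModuleCat.restrictScalars (algebraMap R S)).obj (C.X i)))
    (hex : (((MonoidalCategory.tensorLeft
          (ModuleCat.of S (S ⧸ (IsLocalRing.maximalIdeal R).map (algebraMap R S)))).mapHomologicalComplex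
          (ComplexShape.down ℕ)).obj C).ExactAt (i + 1)) :
    C.ExactAt (i + 1) ∧
      Module.Flat R ((ModuleCat.restrictScalars (algebraMap R S)).obj
        (ModuleCat.of S (C.X i ⧸ LinearMap.range (C.d (i + 1) i).hom))) := by
  let _ : Module R (C.X i) := Module.compHom (C.X i) (algebraMap R S)
  have _ : IsScalarTower R S (C.X i) := IsScalarTower.of_algebraMap_smul fun r x => rfl
  have _ : Module.Flat R (C.X i) := hflat
  rw [HomologicalComplex.exactAt_iff' _ (i + 2) (i + 1) i (by simp) (by simp),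
    ShortComplex.moduleCat_exact_iff] at hex
  have h := concrete_step (R := R) (C.d (i + 2) (i + 1)).hom (C.d (i + 1) i).hom
    (fun x => by
      have := C.d_comp_d (i + 2) (i + 1) i
      exact congrArg (fun φ => φ.hom x) this)
    (elementwise_of_exact _ _ _ hex)
  refine ⟨?_, ?_⟩
  · rw [HomologicalComplex.exactAt_iff' _ (i + 2) (i + 1) i (by simp) (by simp),
      ShortComplex.moduleCat_exact_iff]
    exact h.1
  · have e : ((ModuleCat.restrictScalars (algebraMap R S)).obj
        (ModuleCat.of S (C.X i ⧸ LinearMap.range (C.d (i + 1) i).hom))) ≃ₗ[R]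
        (C.X i ⧸ LinearMap.range (C.d (i + 1) i).hom) :=
      { toFun := fun x => x
        invFun := fun x => x
        map_add' := fun _ _ => rfl
        map_smul' := fun r x => by
          obtain ⟨x, rfl⟩ := Submodule.mkQ_surjective _ x
          rfl
        left_inv := fun _ => rfl
        right_inv := fun _ => rfl }
    have := h.2
    exact Module.Flat.of_linearEquiv e


omit [IsLocalRing S] [IsNoetherianRing S] in
/-- `H_0` of a chain complex of modules is the cokernel of `d_1`. -/
noncomputable def homologyZeroIso (C : ChainComplex (ModuleCat.{u} S) ℕ) :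
    C.homology 0 ≅ ModuleCat.of S (C.X 0 ⧸ LinearMap.range (C.d 1 0).hom) :=
  C.isoHomologyι₀ ≪≫ IsColimit.coconePointUniqueUpToIso (C.opcyclesIsCokernel 1 0 (by simp))
    (ModuleCat.cokernelIsColimit (C.d 1 0))

end helpers

end Groth.Agent.Lib.FlatStepCx
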