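import Groth.Agent.Lib.ReesCohE
import Groth.Agent.Lib.CohSigmaFin
import Groth.Agent.Lib.H90OXModExact
import Groth.Agent.Lib.QCohBiprod
import Groth.Agent.Lib.PullbackAffine

/-!
# K2b (S2435), part F: quasi-coherence and sections over affine opens (lead)
-/

set_option autoImplicit false
set_option linter.style.haveILetI false
set_option linter.unusedSectionVars false
universe u
open CategoryTheory CategoryTheory.Limits AlgebraicGeometry Opposite TopologicalSpace

namespace Groth.Agent.Lib.ReesCoh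

open Scheme.Modules Formal CohIII Groth.Agent.Lib.ReesGen Groth.Agent.Lib.UnitBaseChange
  Groth.Agent.Lib.H90OXModExact

section QC

variable {X : Scheme.{u}}

/-- the image of a morphism of quasi-coherent modules is quasi-coherent -/
theorem isQuasicoherent_image {M N : X.Modules} [M.IsQuasicoherent] [N.IsQuasicoherent]
    (φ : M ⟶ N) : (Limits.image φ).IsQuasicoherent := by
  haveI := isQuasicoherent_cokernel φ
  haveI : (kernel (cokernel.π φ)).IsQuasicoherent := isQuasicoherent_kernel (cokernel.π φ)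
  exact (SheafOfModules.isQuasicoherent X.ringCatSheaf).prop_of_iso (Abelian.imageIsoImage φ)
    (inferInstanceAs (kernel (cokernel.π φ)).IsQuasicoherent)

end QC

variable (A : Type u) [CommRing A] (m : Ideal A) (X : Scheme.{u}) [X.Over (Spec (CommRingCat.of A))]
  (F : X.Modules) [F.IsQuasicoherent]

instance isQuasicoherent_PB : (PB A m X F).IsQuasicoherent :=
  Groth.Agent.Lib.PullbackAffine.isQuasicoherent_pullback _ _

instance isQuasicoherent_PT : (PT A X F).IsQuasicoherent :=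
  Groth.Agent.Lib.PullbackAffine.isQuasicoherent_pullback _ _

instance isQuasicoherent_EE : (EE A m X F).IsQuasicoherent :=
  Groth.Agent.Lib.H90OXModPush.isQuasicoherent_pushforward _ _

instance isQuasicoherent_GG : (GG A m X F).IsQuasicoherent :=
  isQuasicoherent_image _

instance isQuasicoherent_sigmaF (J : Ideal A) : (∐ fun _ : J => F).IsQuasicoherent :=
  Groth.Agent.Lib.QCohBiprod.isQuasicoherent_sigmaObj _ fun _ => inferInstance

instance isQuasicoherent_idealMul (J : Ideal A) : (idealMul J F).IsQuasicoherent :=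
  (isQuasicoherent_image (smulFamily J F) : (Limits.image (smulFamily J F)).IsQuasicoherent)


section Sections

variable (U : X.Opens)

/-- `π_B⁻¹ U` -/
noncomputable abbrev UB : (XB A m X).Opens := πB A m X ⁻¹ᵁ U
/-- `ψ⁻¹ π_B⁻¹ U = π_T⁻¹ U` -/
noncomputable abbrev UT : (XT A X).Opens := ψ A m X ⁻¹ᵁ (πB A m X ⁻¹ᵁ U)

theorem UT_eq : UT A m X U = πT A X ⁻¹ᵁ U := by
  change (ψ A m X ≫ πB A m X) ⁻¹ᵁ U = _
  rw [ψ_πB]

theorem UT_le : UT A m X U ≤ πT A X ⁻¹ᵁ U := (UT_eq A m X U).le

theorem UT_eq' : UT A m X U =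
    πT A X ⁻¹ᵁ U ⊓ (XT A X ↘ Spec (CommRingCat.of (RT A))) ⁻¹ᵁ ⊤ :=
  (UT_eq A m X U).trans (bc_preimage_eq A (RT A) X U)

theorem UB_eq' : UB A m X U =
    πB A m X ⁻¹ᵁ U ⊓ (XB A m X ↘ Spec (CommRingCat.of (RB A m))) ⁻¹ᵁ ⊤ :=
  bc_preimage_eq A (RB A m) X U

/-- `j_T : Γ(F, U) → Γ(π_T^* F, π_T⁻¹ U)` -/
noncomputable def jT : Γ(F, U) → Γ(PT A X F, UT A m X U) :=
  unitSecFun (πT A X) F (UT_le A m X U)

/-- `j_B : Γ(F, U) → Γ(π_B^* F, π_B⁻¹ U)` -/
noncomputable def jB : Γ(F, U) → Γ(PB A m X F, UB A m X U) :=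
  unitSecFun (πB A m X) F le_rfl

theorem jT_add (x y : Γ(F, U)) : jT A m X F U (x + y) = jT A m X F U x + jT A m X F U y :=
  map_add (unitSec (πT A X) F (UT_le A m X U)) x y

theorem jT_zero : jT A m X F U 0 = 0 :=
  map_zero (unitSec (πT A X) F (UT_le A m X U))

theorem vF_app (x : Γ(F, U)) : (vF A m X F).app U x = jT A m X F U x := by
  rfl

theorem σ_app (t : RT A) (w : Γ(PT A X F, UT A m X U)) :
    (σ A m X F t).app U w = scal (RT A) (XT A X) (UT A m X U) t • w := rfl

theorem Θ_app (k : ℕ) (x : Γ(F, U)) :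
    (Θ A m X F k).app U x =
      scal (RT A) (XT A X) (UT A m X U) (Polynomial.X ^ k) • jT A m X F U x := rfl

end Sections

end Groth.Agent.Lib.ReesCoh
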