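import Groth.Agent.Lib.Refl53c
import Groth.Agent.Lib.PseudoCohNoeth
import Groth.Agent.Lib.CohLocal
import Groth.Agent.Lib.ReesCohF
import Groth.Agent.Lib.RestrictExact
import Groth.Agent.Lib.H90InvertiblePullback

/-!
# helper53: the bidual of a finite type submodule of a flat module on a normal scheme
(namespace `Groth.Agent.Lib.FlatSub53`)

* `isQuasicoherent_of_mono_of_isFT`: a finite type submodule of a quasi-coherent module is quasi-coherent.
* `isReflexiveAt_ddual_of_isDomain`: stalks of `F^**` are reflexive at points with a domain as local ring.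
* `ddual_iso_pushforward_restrict`: `F^** ≅ j_* j^* F` for `F ⊆ A` flat, `U` the flat locus (S16486).
-/

set_option autoImplicit false
set_option maxHeartbeats 400000
set_option linter.unusedSectionVars false
set_option linter.style.haveILetI false
universe u

open CategoryTheory CategoryTheory.Limits AlgebraicGeometry Opposite TopologicalSpace
open Groth.Agent.Lib.ModStalkLin Groth.Agent.Lib.RestrictStalk Groth.Agent.Lib.RestrictExact

namespace Groth.Agent.Lib.FlatSub53

variable {X : Scheme.{u}}

theorem isQuasicoherent_of_mono_of_isFT {F A : X.Modules} (ι : F ⟶ A) [Mono ι]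
    [A.IsQuasicoherent] (hF : CohB1.IsFT F) : F.IsQuasicoherent := by
  apply Groth.Agent.Lib.CohLocal.isQuasicoherent_of_forall_restrict_opens
  intro x
  obtain ⟨V, n, p, hxV, hp⟩ := Groth.Agent.Lib.PseudoCohNoeth.exists_epi_freeMod_of_isFT F hF x
  refine ⟨V, hxV, ?_⟩
  haveI : (A.restrict V.ι).IsQuasicoherent := Scheme.Modules.isQuasicoherent_restrictFunctor _ _
  haveI : (FlatMod.freeMod (V : Scheme.{u}) n).IsQuasicoherent :=
    Groth.Agent.Lib.H90Invertible.isQuasicoherent_of_isFinLocFree
      (Groth.Agent.Lib.H90Invertible.isFinLocFree_freeMod _ n)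
  haveI : Mono ((Scheme.Modules.restrictFunctor V.ι).map ι) := inferInstance
  haveI := hp
  haveI : StrongEpi p := strongEpi_of_epi p
  let e : F.restrict V.ι ≅ Limits.image (p ≫ (Scheme.Modules.restrictFunctor V.ι).map ι) :=
    image.isoStrongEpiMono p ((Scheme.Modules.restrictFunctor V.ι).map ι) rfl
  haveI := Groth.Agent.Lib.ReesCoh.isQuasicoherent_image
    (p ≫ (Scheme.Modules.restrictFunctor V.ι).map ι)
  exact (SheafOfModules.isQuasicoherent (V : Scheme.{u}).ringCatSheaf).prop_of_iso e.symm
    inferInstance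

/-- all stalks of the reflexive hull at points whose local ring is a domain are reflexive -/
theorem isReflexiveAt_ddual_of_isDomain [IsLocallyNoetherian X] {F : X.Modules}
    (hF : Coh.IsCoh F) (x : X) [IsDomain (X.presheaf.stalk x)] :
    RefHull.IsReflexiveAt (RefHull.ddual F) x := by
  have hD := Groth.Agent.Lib.HomSh53.isCoh_dual hF
  let ε := LinearEquiv.ofBijective
    (RefHull.evalStalk (RefHull.dual F) (Coh.structureModule X) x)
    (Groth.Agent.Lib.HomSh53.evalStalk_bijective (Groth.Agent.Lib.HomSh53.isFP_of_isCoh hD) x)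
  haveI : Module.Finite (X.presheaf.stalk x) ((RefHull.dual F).presheaf.stalk x) :=
    Groth.Agent.Lib.CohFinite.finite_stalk_of_isCoh _ hD x
  haveI : Module.IsReflexive (X.presheaf.stalk x) ((Coh.structureModule X).presheaf.stalk x) :=
    Module.equiv (Groth.Agent.Lib.StructureModuleStalk.stalkEquiv x)
  haveI : Module.Finite (X.presheaf.stalk x) ((Coh.structureModule X).presheaf.stalk x) :=
    Module.Finite.equiv (Groth.Agent.Lib.StructureModuleStalk.stalkEquiv x)
  haveI := Groth.Agent.S6875.result (X.presheaf.stalk x) ((RefHull.dual F).presheaf.stalk x)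
    ((Coh.structureModule X).presheaf.stalk x)
  exact Module.equiv ε.symm

theorem ddual_iso_pushforward_restrict (S : Scheme.{u}) [IsNoetherian S]
    (hS : Pi1.IsNormalScheme S) (A F : S.Modules) (hA : Coh.IsQCoh A) (hAfl : FlatMod.IsFlat A)
    (ι : F ⟶ A) [Mono ι] (hF : CohB1.IsFT F) (U : S.Opens)
    (hU : (U : Set S) = {s : S | FlatMod.IsFlatAt F s}) :
    ∃ e : RefHull.ddual F ≅ (Scheme.Modules.pushforward U.ι).obj (F.restrict U.ι),
      RefHull.bidualMap F ≫ e.hom = (Scheme.Modules.restrictAdjunction U.ι).unit.app F := by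
  haveI : A.IsQuasicoherent := hA
  haveI hFq : F.IsQuasicoherent := isQuasicoherent_of_mono_of_isFT ι hF
  have hFc : Coh.IsCoh F := ⟨hFq, hF⟩
  have hH : Coh.IsCoh (RefHull.ddual F) := Groth.Agent.Lib.HomSh53.isCoh_ddual hFc
  have hHr : ∀ s : S, Module.IsReflexive (S.presheaf.stalk s)
      ((RefHull.ddual F).presheaf.stalk s) := fun s => by
    haveI := (hS s).1
    exact isReflexiveAt_ddual_of_isDomain hFc s
  -- torsion-free stalks
  have htf : ∀ s : S, Module.IsTorsionFree (S.presheaf.stalk s) (F.presheaf.stalk s) := fun s => by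
    haveI := (hS s).1
    haveI : Module.Flat (S.presheaf.stalk s) (A.presheaf.stalk s) := hAfl s
    haveI : Module.IsTorsionFree (S.presheaf.stalk s) (A.presheaf.stalk s) := inferInstance
    exact Function.Injective.moduleIsTorsionFree (stalkLin ι s) (stalkLin_injective_of_mono ι s)
      (fun r m => map_smul _ r m)
  have hmemU : ∀ s : S, s ∈ U ↔ Module.Flat (S.presheaf.stalk s) (F.presheaf.stalk s) := by
    intro s
    change s ∈ (U : Set S) ↔ _
    rw [hU]
    rfl
  have hdim : ∀ s : S, s ∉ U → (2 : WithBot ℕ∞) ≤ ringKrullDim (S.presheaf.stalk s) := by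
    intro s hs
    by_contra hd
    apply hs
    rw [hmemU]
    haveI := (hS s).1
    haveI := (hS s).2
    haveI := Groth.Agent.Lib.Refl53.isPrincipalIdealRing_of_normal (S.presheaf.stalk s) hd
    haveI := htf s
    haveI := Groth.Agent.Lib.CohFinite.finite_stalk_of_isCoh F hFc s
    have hfree : Module.Free (S.presheaf.stalk s) (F.presheaf.stalk s) := inferInstance
    infer_instance
  have hdepth : ∀ s : S, s ∉ U →
      (2 : ℕ∞) ≤ LocCoh.depth (S.presheaf.stalk s) (S.presheaf.stalk s) := by
    intro s hs
    haveI := (hS s).1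
    haveI := (hS s).2
    exact Groth.Agent.Lib.Refl53.two_le_depth_of_normal (S.presheaf.stalk s) (hdim s hs)
  haveI hunit := Groth.Agent.Lib.Refl53.isIso_unit_of_reflexive S U hdepth (RefHull.ddual F) hH hHr
  haveI hβ : IsIso ((Scheme.Modules.restrictFunctor U.ι).map (RefHull.bidualMap F)) := by
    rw [Groth.Agent.Lib.ModStalkIso.isIso_iff_stalk_bijective]
    intro x
    refine (stalkLin_restrict_bijective_iff U.ι x (RefHull.bidualMap F)).mpr ?_
    rw [Groth.Agent.Lib.HomSh53.bijective_stalkLin_bidualMap_iff hFc]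
    have hfl : Module.Flat (S.presheaf.stalk (U.ι x)) (F.presheaf.stalk (U.ι x)) :=
      (hmemU (U.ι x)).mp x.2
    haveI := Groth.Agent.Lib.CohFinite.finite_stalk_of_isCoh F hFc (U.ι x)
    have hfree : Module.Free (S.presheaf.stalk (U.ι x)) (F.presheaf.stalk (U.ι x)) :=
      Module.free_of_flat_of_isLocalRing
    change Module.IsReflexive (S.presheaf.stalk (U.ι x)) (F.presheaf.stalk (U.ι x))
    infer_instance
  let e : RefHull.ddual F ≅ (Scheme.Modules.pushforward U.ι).obj (F.restrict U.ι) :=
    asIso ((Scheme.Modules.restrictAdjunction U.ι).unit.app (RefHull.ddual F)) ≪≫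
      (Scheme.Modules.pushforward U.ι).mapIso
        (asIso ((Scheme.Modules.restrictFunctor U.ι).map (RefHull.bidualMap F))).symm
  refine ⟨e, ?_⟩
  have hnat := (Scheme.Modules.restrictAdjunction U.ι).unit.naturality (RefHull.bidualMap F)
  simp only [Functor.id_map, Functor.comp_map] at hnat
  change RefHull.bidualMap F ≫
    ((Scheme.Modules.restrictAdjunction U.ι).unit.app (RefHull.ddual F) ≫
      (Scheme.Modules.pushforward U.ι).map
        (inv ((Scheme.Modules.restrictFunctor U.ι).map (RefHull.bidualMap F)))) = _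
  rw [← Category.assoc, hnat, Category.assoc, ← Functor.map_comp, IsIso.hom_inv_id]
  erw [CategoryTheory.Functor.map_id, Category.comp_id]

end Groth.Agent.Lib.FlatSub53
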