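import Mathlib.AlgebraicGeometry.Morphisms.UniversallyOpen
import Mathlib.AlgebraicGeometry.Morphisms.QuasiCompact
import Mathlib.AlgebraicGeometry.PullbackCarrier

/-!
# Descent along flat surjective (not necessarily quasi-compact) morphisms (helper45)
-/

set_option autoImplicit false
universe u
open CategoryTheory CategoryTheory.Limits AlgebraicGeometry

namespace Groth.Agent.Lib.FlatSurjDescent45

variable {X Y Y' : Scheme.{u}} (f : X ⟶ Y) (g : Y' ⟶ Y)

theorem exists_point (x : X) (y' : Y') (e : f x = g y') :
    ∃ z : ↑(pullback f g), pullback.fst f g z = x ∧ pullback.snd f g z = y' :=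
  Scheme.Pullback.exists_preimage_pullback x y' e

theorem fst_snd (z : ↑(pullback f g)) : f (pullback.fst f g z) = g (pullback.snd f g z) := by
  rw [← Scheme.Hom.comp_apply, pullback.condition, Scheme.Hom.comp_apply]

theorem surjective_of_baseChange [Surjective g] (h : Function.Surjective (pullback.snd f g)) :
    Function.Surjective f := by
  intro y
  obtain ⟨y', rfl⟩ := g.surjective y
  obtain ⟨z, hz⟩ := h y'
  exact ⟨pullback.fst f g z, by rw [fst_snd, hz]⟩

theorem injective_of_baseChange [Surjective g] (h : Function.Injective (pullback.snd f g)) :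
    Function.Injective f := by
  intro x1 x2 e
  obtain ⟨y', hy'⟩ := g.surjective (f x1)
  obtain ⟨z1, hz1, hz1'⟩ := exists_point f g x1 y' hy'.symm
  obtain ⟨z2, hz2, hz2'⟩ := exists_point f g x2 y' (e ▸ hy'.symm)
  have : z1 = z2 := h (hz1'.trans hz2'.symm)
  rw [← hz1, ← hz2, this]

theorem specializingMap_of_baseChange [Flat g] [Surjective g]
    (h : SpecializingMap (pullback.snd f g)) : SpecializingMap f := by
  intro x y hxy
  obtain ⟨y0', rfl⟩ := g.surjective y
  obtain ⟨y', hy'spec, hy'⟩ := (Flat.generalizingMap g) hxy
  obtain ⟨z, hz1, hz2⟩ := exists_point f g x y' hy'.symm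
  obtain ⟨z0, hz0, hz0'⟩ := h (a := z) (b := y0') (by rw [hz2]; exact hy'spec)
  refine ⟨pullback.fst f g z0, ?_, ?_⟩
  · rw [← hz1]
    exact Specializes.map hz0 (pullback.fst f g).continuous
  · rw [fst_snd, hz0']

theorem isClosedMap_of_baseChange [Flat g] [Surjective g] [QuasiCompact f]
    (h : IsClosedMap (pullback.snd f g)) : IsClosedMap f := by
  rw [isClosedMap_iff_specializingMap]
  exact specializingMap_of_baseChange f g h.specializingMap

theorem isHomeomorph_of_baseChange [Flat g] [Surjective g] [QuasiCompact f]
    (h : IsHomeomorph (pullback.snd f g)) : IsHomeomorph f := by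
  rw [isHomeomorph_iff_continuous_isClosedMap_bijective]
  exact ⟨f.continuous, isClosedMap_of_baseChange f g h.isClosedMap,
    injective_of_baseChange f g h.injective, surjective_of_baseChange f g h.surjective⟩

end Groth.Agent.Lib.FlatSurjDescent45
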