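import Groth.Agent.Lib.FlatSurjDescentIso45
import Mathlib.AlgebraicGeometry.Limits
import Mathlib.AlgebraicGeometry.Morphisms.Flat
import Mathlib.AlgebraicGeometry.Morphisms.Affine
import Groth.Agent.Lib.FpqcDescent

/-!
# Affine morphisms descend along flat surjective (not nec. quasi-compact) morphisms (helper45)
-/

set_option autoImplicit false
universe u
open CategoryTheory CategoryTheory.Limits AlgebraicGeometry MorphismProperty

namespace Groth.Agent.Lib.FlatSurjDescent45

open Groth.Agent.Lib.FpqcDescent (appLE_top_top)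

variable {X Y : Scheme.{u}} (f : X ⟶ Y)

/-- Family version: isomorphisms descend along jointly surjective families of flat morphisms,
for quasi-compact `f`. -/
theorem isIso_of_baseChange_family {ι : Type u} {Y' : ι → Scheme.{u}} (g : ∀ i, Y' i ⟶ Y)
    [∀ i, Flat (g i)] (hsurj : ∀ y : Y, ∃ (i : ι) (y' : Y' i), g i y' = y) [QuasiCompact f]
    (h : ∀ i, IsIso (pullback.snd f (g i))) : IsIso f := by
  have hfl : Flat (Sigma.desc g) := inferInstance
  have hs : Surjective (Sigma.desc g) := by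
    apply Surjective.sigmaDesc_of_union_range_eq_univ
    rw [Set.eq_univ_iff_forall]
    intro y
    obtain ⟨i, y', hy'⟩ := hsurj y
    exact Set.mem_iUnion.mpr ⟨i, y', hy'⟩
  apply isIso_of_baseChange f (Sigma.desc g)
  change isomorphisms Scheme.{u} (pullback.snd f (Sigma.desc g))
  rw [IsZariskiLocalAtTarget.iff_of_openCover (P := isomorphisms Scheme.{u})
    (sigmaOpenCover Y')]
  intro i
  change IsIso (pullback.snd (pullback.snd f (Sigma.desc g)) (Sigma.ι Y' i))
  have e1 : (pullbackLeftPullbackSndIso f (Sigma.desc g) (Sigma.ι Y' i)).hom ≫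
      pullback.snd f (Sigma.ι Y' i ≫ Sigma.desc g) =
      pullback.snd (pullback.snd f (Sigma.desc g)) (Sigma.ι Y' i) :=
    pullbackLeftPullbackSndIso_hom_snd _ _ _
  rw [← e1]
  have e2 : Sigma.ι Y' i ≫ Sigma.desc g = g i := Sigma.ι_desc _ _
  have : IsIso (pullback.snd f (Sigma.ι Y' i ≫ Sigma.desc g)) := by
    rw [e2]; exact h i
  infer_instance

/-- Flat base change for global sections, in terms of pullback squares of spectra. -/
theorem isPullback_toSpecΓ {A Y S T : Scheme.{u}} {fst : A ⟶ T} {snd : A ⟶ Y} {f : T ⟶ S}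
    {g : Y ⟶ S} (h : IsPullback fst snd f g) [IsAffine S] [IsAffine T] [Flat f]
    [CompactSpace Y] [QuasiSeparatedSpace Y] :
    IsPullback snd A.toSpecΓ Y.toSpecΓ (Spec.map snd.appTop) ∧
    IsPullback (Spec.map snd.appTop) (Spec.map fst.appTop) (Spec.map g.appTop)
      (Spec.map f.appTop) := by
  have hiso := isIso_pushoutSection_of_isQuasiSeparated_of_flat_right (f := f) (g := snd)
    (iX := g) (iY := fst)
    h.flip (US := ⊤) (UT := ⊤) (UX := ⊤) (UY := ⊤) (by simp) (by simp) (by simp)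
    (isAffineOpen_top _) (isAffineOpen_top _) (CompactSpace.isCompact_univ) (isQuasiSeparated_univ)
  replace hiso := (isIso_pushoutSection_iff _ _ _ _).mp hiso
  have hiso' : IsPushout g.appTop f.appTop snd.appTop fst.appTop := by
    convert hiso using 1 <;> exact (appLE_top_top _ _).symm
  clear hiso
  have hR : IsPullback (Spec.map snd.appTop) (Spec.map fst.appTop) (Spec.map g.appTop)
      (Spec.map f.appTop) := by
    have := (hiso'.op.map Scheme.Spec).flip
    simpa using this
  have hO : IsPullback snd (fst ≫ T.toSpecΓ) (g ≫ S.toSpecΓ) (Spec.map f.appTop) := by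
    refine IsPullback.of_iso h.flip (Iso.refl _) (Iso.refl _) (asIso T.toSpecΓ)
      (asIso S.toSpecΓ) (by simp) (by simp) (by simp) ?_
    simpa using (Scheme.toSpecΓ_naturality f)
  have hL : IsPullback snd A.toSpecΓ Y.toSpecΓ (Spec.map snd.appTop) := by
    refine IsPullback.of_bot ?_ (Scheme.toSpecΓ_naturality snd) hR
    rw [← Scheme.toSpecΓ_naturality, ← Scheme.toSpecΓ_naturality]
    exact hO
  exact ⟨hL, hR⟩

set_option backward.isDefEq.respectTransparency false in
theorem flat_SpecMap_appTop {T S : Scheme.{u}} (f : T ⟶ S) [IsAffine S] [IsAffine T] [Flat f] :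
    Flat (Spec.map f.appTop) := by
  have h1 : Flat (f ≫ S.toSpecΓ) := inferInstance
  rw [Scheme.toSpecΓ_naturality f] at h1
  exact (MorphismProperty.cancel_left_of_respectsIso @Flat.{u} T.toSpecΓ _).mp h1

theorem exists_of_isPullback {P A B C : Scheme.{u}} {fst : P ⟶ A} {snd : P ⟶ B} {f : A ⟶ C}
    {g : B ⟶ C} (h : IsPullback fst snd f g) (a : A) (b : B) (e : f a = g b) :
    ∃ p : P, fst p = a ∧ snd p = b := by
  obtain ⟨z, hz1, hz2⟩ := Scheme.Pullback.exists_preimage_pullback a b e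
  refine ⟨h.isoPullback.inv z, ?_, ?_⟩
  · rw [← Scheme.Hom.comp_apply, h.isoPullback_inv_fst, hz1]
  · rw [← Scheme.Hom.comp_apply, h.isoPullback_inv_snd, hz2]

variable {Y' : Scheme.{u}} (g : Y' ⟶ Y)

set_option backward.isDefEq.respectTransparency false in
theorem isAffineHom_of_baseChange [Flat g] [Surjective g] [QuasiCompact f] [QuasiSeparated f]
    (h : IsAffineHom (pullback.snd f g)) : IsAffineHom f := by
  refine ⟨fun U hU => ?_⟩
  have hc : IsCompact (f ⁻¹ᵁ U : Set X) := f.isCompact_preimage hU.isCompact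
  have hqs : IsQuasiSeparated (f ⁻¹ᵁ U : Set X) := f.isQuasiSeparated_preimage hU.isQuasiSeparated
  have iC : CompactSpace (f ⁻¹ᵁ U).toScheme := isCompact_iff_compactSpace.mp hc
  have iQ : QuasiSeparatedSpace (f ⁻¹ᵁ U).toScheme :=
    (isQuasiSeparated_iff_quasiSeparatedSpace _ (f ⁻¹ᵁ U).isOpen).mp hqs
  have iU : IsAffine U.toScheme := hU
  suffices IsIso (f ⁻¹ᵁ U).toScheme.toSpecΓ from ⟨this⟩
  -- the index family
  let ι : Type u := {V : Y'.affineOpens // V.1 ≤ g ⁻¹ᵁ U}
  let H := IsPullback.of_hasPullback f g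
  let UY : ι → (pullback f g).Opens := fun V => pullback.snd f g ⁻¹ᵁ V.1.1
  have hUY : ∀ V : ι, UY V = pullback.fst f g ⁻¹ᵁ (f ⁻¹ᵁ U) ⊓ pullback.snd f g ⁻¹ᵁ V.1.1 := by
    intro V
    refine (inf_eq_right.mpr ?_).symm
    intro z hz
    have hz' : g (pullback.snd f g z) ∈ U := V.2 hz
    change f (pullback.fst f g z) ∈ U
    rwa [fst_snd]
  have sq : ∀ V : ι, IsPullback ((pullback.snd f g).resLE V.1.1 (UY V) (by rw [hUY V]; exact inf_le_right))
      ((pullback.fst f g).resLE (f ⁻¹ᵁ U) (UY V) (by rw [hUY V]; exact inf_le_left))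
      (g.resLE U V.1.1 V.2) (f.resLE U (f ⁻¹ᵁ U) le_rfl) := fun V =>
    (Scheme.Hom.isPullback_resLE H V.2 le_rfl (hUY V)).flip
  have iV : ∀ V : ι, IsAffine V.1.1.toScheme := fun V => V.1.2
  have iUY : ∀ V : ι, IsAffine (UY V).toScheme := fun V => h.isAffine_preimage _ V.1.2
  have iFl : ∀ V : ι, Flat (g.resLE U V.1.1 V.2) := fun V =>
    IsZariskiLocalAtSource.resLE (P := @Flat.{u}) _ inferInstance
  have key := fun V : ι => isPullback_toSpecΓ (sq V)
  have iFl2 : ∀ V : ι, Flat (Spec.map ((pullback.fst f g).resLE (f ⁻¹ᵁ U) (UY V)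
      (by rw [hUY V]; exact inf_le_left)).appTop) := fun V =>
    have := flat_SpecMap_appTop (g.resLE U V.1.1 V.2)
    MorphismProperty.of_isPullback (P := @Flat.{u}) (key V).2.flip this
  refine isIso_of_baseChange_family _ (ι := ι) (Y' := fun V => Spec Γ((UY V).toScheme, ⊤))
    (fun V => Spec.map ((pullback.fst f g).resLE (f ⁻¹ᵁ U) (UY V)
      (by rw [hUY V]; exact inf_le_left)).appTop) ?_ ?_
  · -- joint surjectivity
    intro z
    let s := (Spec.map (f.resLE U (f ⁻¹ᵁ U) le_rfl).appTop) z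
    have iI : IsIso U.toScheme.toSpecΓ := IsAffine.affine
    let u : U.toScheme := (inv U.toScheme.toSpecΓ) s
    have hu : U.toScheme.toSpecΓ u = s := by
      change U.toScheme.toSpecΓ ((inv U.toScheme.toSpecΓ) s) = s
      rw [← Scheme.Hom.comp_apply, IsIso.inv_hom_id]
      rfl
    obtain ⟨y', hy'⟩ := g.surjective (U.ι u)
    have hy'U : y' ∈ g ⁻¹ᵁ U := by
      change g y' ∈ U
      rw [hy']
      exact u.2
    obtain ⟨V, hV, hy'V, hVU⟩ := TopologicalSpace.Opens.isBasis_iff_nbhd.mp Y'.isBasis_affineOpens hy'U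
    replace hV : IsAffineOpen V := hV
    obtain ⟨V, rfl⟩ : ∃ V' : Y'.Opens, V' = V := ⟨V, rfl⟩
    let Vi : ι := ⟨⟨V, hV⟩, hVU⟩
    let y'' : V.toScheme := ⟨y', hy'V⟩
    have h1 : (g.resLE U V hVU) y'' = u := by
      apply U.ι.isOpenEmbedding.injective
      rw [← Scheme.Hom.comp_apply, Scheme.Hom.resLE_comp_ι, Scheme.Hom.comp_apply]
      exact hy'
    have h2 : (Spec.map (g.resLE U V hVU).appTop) (V.toScheme.toSpecΓ y'') = s := by
      rw [← Scheme.Hom.comp_apply, ← Scheme.toSpecΓ_naturality, Scheme.Hom.comp_apply, h1, hu]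
    obtain ⟨w, hw1, hw2⟩ := exists_of_isPullback (key Vi).2 z (V.toScheme.toSpecΓ y'') h2.symm
    exact ⟨Vi, w, hw1⟩
  · intro V
    have e := (key V).1.isoPullback_hom_snd
    have : IsIso ((key V).1.isoPullback.hom ≫ pullback.snd _ _) := by rw [e]; infer_instance
    exact IsIso.of_isIso_comp_left (key V).1.isoPullback.hom _

theorem isAffineHom_iff_baseChange [Flat g] [Surjective g] :
    IsAffineHom f ↔ QuasiCompact f ∧ QuasiSeparated f ∧ IsAffineHom (pullback.snd f g) :=
  ⟨fun hf => ⟨inferInstance, inferInstance,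
      MorphismProperty.pullback_snd (P := @IsAffineHom) f g hf⟩,
    fun ⟨_, _, h⟩ => isAffineHom_of_baseChange f g h⟩

end Groth.Agent.Lib.FlatSurjDescent45
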