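import Groth.Agent.Lib.FlatSurjDescent45
import Groth.Agent.Lib.H71GeomRedAt
import Mathlib.AlgebraicGeometry.Morphisms.FlatDescent
import Mathlib.AlgebraicGeometry.Morphisms.IsIso

/-!
# Isomorphisms descend along flat surjective morphisms, for quasi-compact `f` (helper45)
-/

set_option autoImplicit false
universe u
open CategoryTheory CategoryTheory.Limits AlgebraicGeometry MorphismProperty

namespace Groth.Agent.Lib.FlatSurjDescent45

variable {X Y Y' : Scheme.{u}} (f : X ⟶ Y) (g : Y' ⟶ Y)

/-- The stalk maps of `Spec 𝒪_{Y,y} ⟶ Y` are bijective. -/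
theorem bijective_stalkMap_fromSpecStalk (y : Y) (p : Spec (Y.presheaf.stalk y)) :
    Function.Bijective ((Y.fromSpecStalk y).stalkMap p).hom :=
  ⟨Groth.Agent.Lib.GeomFieldExt.stalkMap_injective_of_flat _ p,
    (Y.fromSpecStalk y).stalkMap_surjective p⟩

/-- `Spec 𝒪_{Y',y'} ⟶ Spec 𝒪_{Y,g y'}` is an fpqc covering when `g` is flat. -/
theorem fpqc_SpecMap_stalkMap [Flat g] (y' : Y') :
    (@Surjective ⊓ @Flat ⊓ @QuasiCompact : MorphismProperty Scheme.{u})
      (Spec.map (g.stalkMap y')) := by
  have hfl : (g.stalkMap y').hom.Flat := Flat.stalkMap g y'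
  have hff : (g.stalkMap y').hom.FaithfullyFlat := by
    algebraize [(g.stalkMap y').hom]
    have : Module.FaithfullyFlat (Y.presheaf.stalk (g y')) (Y'.presheaf.stalk y') :=
      @Module.FaithfullyFlat.of_flat_of_isLocalHom _ _ _ _ _ _ _ hfl (g.toLRSHom.prop y')
    exact ‹RingHom.FaithfullyFlat _›
  have h2 := (flat_and_surjective_SpecMap_iff (g.stalkMap y')).mpr hff
  exact ⟨⟨h2.2, h2.1⟩, inferInstance⟩

/-- If the base change of `f` along the flat `g` is an isomorphism, then `f` is an isomorphism
over `Spec 𝒪_{Y, g y'}`. -/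
theorem isIso_fst_fromSpecStalk [Flat g] (h : IsIso (pullback.snd f g)) (y' : Y') :
    IsIso (pullback.fst (Y.fromSpecStalk (g y')) f) := by
  have h1 : IsIso (pullback.fst g f) := by
    rw [← pullbackSymmetry_hom_comp_snd]
    infer_instance
  have h2 : IsIso (pullback.fst (Y'.fromSpecStalk y') (pullback.fst g f)) := inferInstance
  have h3 : IsIso (pullback.fst (Y'.fromSpecStalk y' ≫ g) f) := by
    rw [← pullbackRightPullbackFstIso_inv_fst]
    infer_instance
  have e : Y'.fromSpecStalk y' ≫ g = Spec.map (g.stalkMap y') ≫ Y.fromSpecStalk (g y') :=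
    (Scheme.SpecMap_stalkMap_fromSpecStalk g).symm
  rw [e] at h3
  have h4 : IsIso (pullback.fst (Spec.map (g.stalkMap y'))
      (pullback.fst (Y.fromSpecStalk (g y')) f)) := by
    rw [← pullbackRightPullbackFstIso_hom_fst]
    infer_instance
  exact of_isPullback_of_descendsAlong (P := isomorphisms Scheme.{u})
    (Q := @Surjective ⊓ @Flat ⊓ @QuasiCompact)
    (IsPullback.of_hasPullback (Spec.map (g.stalkMap y'))
      (pullback.fst (Y.fromSpecStalk (g y')) f)) (fpqc_SpecMap_stalkMap g y') h4

/-- Stalk maps of `f` at points over `g y'` are bijective. -/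
theorem bijective_stalkMap_of_baseChange [Flat g] (h : IsIso (pullback.snd f g)) (y' : Y')
    (w : ↑(pullback (Y.fromSpecStalk (g y')) f)) :
    Function.Bijective (f.stalkMap (pullback.snd (Y.fromSpecStalk (g y')) f w)).hom := by
  have hiso := isIso_fst_fromSpecStalk f g h y'
  have b1 : Function.Bijective ((pullback.fst (Y.fromSpecStalk (g y')) f).stalkMap w).hom :=
    (ConcreteCategory.isIso_iff_bijective _).mp inferInstance
  have b2 : Function.Bijective ((pullback.snd (Y.fromSpecStalk (g y')) f).stalkMap w).hom :=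
    Groth.Agent.Lib.H71GeomRedAt.bijective_stalkMap_snd _ _ w
  have b3 := bijective_stalkMap_fromSpecStalk (g y') (pullback.fst (Y.fromSpecStalk (g y')) f w)
  have key := Scheme.Hom.stalkMap_congr_hom _ _
    (pullback.condition (f := Y.fromSpecStalk (g y')) (g := f)) w
  rw [Scheme.Hom.stalkMap_comp, Scheme.Hom.stalkMap_comp] at key
  -- key : j_(fst w) ≫ fst_w = stalkCongr ≫ f_(snd w) ≫ snd_w
  have i2 : IsIso ((pullback.snd (Y.fromSpecStalk (g y')) f).stalkMap w) :=
    (ConcreteCategory.isIso_iff_bijective _).mpr b2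
  have i3 : IsIso ((Y.fromSpecStalk (g y')).stalkMap
      (pullback.fst (Y.fromSpecStalk (g y')) f w)) :=
    (ConcreteCategory.isIso_iff_bijective _).mpr b3
  have i4 : IsIso ((Y.fromSpecStalk (g y')).stalkMap (pullback.fst (Y.fromSpecStalk (g y')) f w) ≫
      (pullback.fst (Y.fromSpecStalk (g y')) f).stalkMap w) := inferInstance
  rw [key] at i4
  have i5 : IsIso (f.stalkMap (pullback.snd (Y.fromSpecStalk (g y')) f w) ≫
      (pullback.snd (Y.fromSpecStalk (g y')) f).stalkMap w) :=
    @IsIso.of_isIso_comp_left _ _ _ _ _ _ _ (Iso.isIso_hom _) i4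
  have i6 : IsIso (f.stalkMap (pullback.snd (Y.fromSpecStalk (g y')) f w)) :=
    IsIso.of_isIso_comp_right _ ((pullback.snd (Y.fromSpecStalk (g y')) f).stalkMap w)
  exact (ConcreteCategory.isIso_iff_bijective _).mp i6

/-- Isomorphisms descend along flat surjective morphisms (not necessarily quasi-compact), provided
`f` itself is quasi-compact. -/
theorem isIso_of_baseChange [Flat g] [Surjective g] [QuasiCompact f]
    (h : IsIso (pullback.snd f g)) : IsIso f := by
  have hhom : IsHomeomorph f :=
    isHomeomorph_of_baseChange f g (pullback.snd f g).homeomorph.isHomeomorph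
  have hst : ∀ x, IsIso (f.stalkMap x) := by
    intro x
    obtain ⟨y', hy'⟩ := g.surjective (f x)
    obtain ⟨w, hw1, hw2⟩ := exists_point (Y.fromSpecStalk (g y')) f
      (IsLocalRing.closedPoint _) x (by rw [Scheme.fromSpecStalk_closedPoint, hy'])
    subst hw2
    exact (ConcreteCategory.isIso_iff_bijective _).mpr
      (bijective_stalkMap_of_baseChange f g h y' w)
  have hop : IsOpenImmersion f := IsOpenImmersion.of_isIso_stalkMap f hhom.isOpenEmbedding
  have hs : Surjective f := ⟨hhom.surjective⟩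
  exact (isIso_iff_isOpenImmersion_and_surjective f).mpr ⟨hop, hs⟩

theorem isIso_iff_baseChange [Flat g] [Surjective g] :
    IsIso f ↔ QuasiCompact f ∧ IsIso (pullback.snd f g) :=
  ⟨fun _ => ⟨inferInstance, inferInstance⟩, fun ⟨_, h⟩ => isIso_of_baseChange f g h⟩

end Groth.Agent.Lib.FlatSurjDescent45
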