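import Groth.Agent.Lib.FlatInjNil88

/-!
# Flatness via base change to a family of rings inducing the adic topology (helper88)

Consequences of `FlatInjNil88.flat_of_jointly_injective` (Lemma G) used for EGA 0_III 10.2.x type
statements: flatness over `A` from flatness after base change along `A → A'_i`, when the
`J`-adic topology of `A` is induced by adic topologies on the `A'_i`.
-/

set_option autoImplicit false
set_option linter.unusedSectionVars false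
universe u

namespace Groth.Agent.Lib.FlatTopInduced88

open TensorProduct Function Groth.Agent.Lib.FlatCrit Groth.Agent.Lib.FlatNilAss88
  Groth.Agent.Lib.FlatInjNil88

section Transfer

variable {A : Type u} [CommRing A] (M : Type*) [AddCommGroup M] [Module A M]

/-- Flatness of `A' ⊗ M` over `A'` gives flatness of `R' ⊗_R (R ⊗_A M)` over `R'` for a commutative
square `A → R → R'`, `A → A' → R'`. -/
theorem flat_baseChange_square (R R' A' : Type*) [CommRing R] [CommRing R'] [CommRing A']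
    [Algebra A R] [Algebra A R'] [Algebra A A'] [Algebra R R'] [Algebra A' R']
    [IsScalarTower A R R'] [IsScalarTower A A' R'] [Module.Flat A' (A' ⊗[A] M)] :
    Module.Flat R' (R' ⊗[R] (R ⊗[A] M)) :=
  Module.Flat.of_linearEquiv
    ((TensorProduct.AlgebraTensorModule.cancelBaseChange A R R' R' M) ≪≫ₗ
      (TensorProduct.AlgebraTensorModule.cancelBaseChange A A' R' R' M).symm)

/-- Flatness of `M/KM` over `A/K` gives flatness of `M/LM` over `A/L` for `K ≤ L`. -/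
theorem flat_quotient_of_le {K L : Ideal A} (h : K ≤ L)
    [Module.Flat (A ⧸ K) ((A ⧸ K) ⊗[A] M)] : Module.Flat (A ⧸ L) ((A ⧸ L) ⊗[A] M) := by
  let _ : Algebra (A ⧸ K) (A ⧸ L) := (Ideal.Quotient.factor h).toAlgebra
  have : IsScalarTower A (A ⧸ K) (A ⧸ L) := IsScalarTower.of_algebraMap_eq (fun x => rfl)
  exact Module.Flat.of_linearEquiv
    (TensorProduct.AlgebraTensorModule.cancelBaseChange A (A ⧸ K) (A ⧸ L) (A ⧸ L) M).symm

/-- universe-polymorphic version of `FlatNilAss88.flat_quotient_map`. -/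
theorem flat_quotient_map' (J I : Ideal A) [Module.Flat (A ⧸ J) ((A ⧸ J) ⊗[A] M)] :
    Module.Flat ((A ⧸ I) ⧸ J.map (Ideal.Quotient.mk I))
      (((A ⧸ I) ⧸ J.map (Ideal.Quotient.mk I)) ⊗[A ⧸ I] ((A ⧸ I) ⊗[A] M)) := by
  have h : ∀ a ∈ J, algebraMap A ((A ⧸ I) ⧸ J.map (Ideal.Quotient.mk I)) a = 0 := by
    intro a ha
    rw [IsScalarTower.algebraMap_apply A (A ⧸ I) ((A ⧸ I) ⧸ J.map (Ideal.Quotient.mk I))]
    exact Ideal.Quotient.eq_zero_iff_mem.mpr (Ideal.mem_map_of_mem _ ha)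
  let g : A ⧸ J →+* (A ⧸ I) ⧸ J.map (Ideal.Quotient.mk I) :=
    Ideal.Quotient.lift J (algebraMap A ((A ⧸ I) ⧸ J.map (Ideal.Quotient.mk I))) h
  let _ : Algebra (A ⧸ J) ((A ⧸ I) ⧸ J.map (Ideal.Quotient.mk I)) := g.toAlgebra
  have : IsScalarTower A (A ⧸ J) ((A ⧸ I) ⧸ J.map (Ideal.Quotient.mk I)) :=
    IsScalarTower.of_algebraMap_eq (fun x => rfl)
  exact flat_baseChange_square M (A ⧸ I) ((A ⧸ I) ⧸ J.map (Ideal.Quotient.mk I)) (A ⧸ J)

end Transfer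

section Family

variable {A : Type u} [CommRing A] (M : Type*) [AddCommGroup M] [Module A M]

/-- Lemma G applied to `A/K → ∏ A'_i/𝔠_i` where `K = ⋂ φ_i⁻¹(𝔠_i)` contains a power of `J`. -/
theorem flat_quotient_iInf_comap {ι : Type*} [Finite ι] (A' : ι → Type*) [∀ i, CommRing (A' i)]
    [∀ i, Algebra A (A' i)] [∀ i, Module.Flat (A' i) (A' i ⊗[A] M)]
    (J : Ideal A) [Module.Flat (A ⧸ J) ((A ⧸ J) ⊗[A] M)]
    (𝔠 : ∀ i, Ideal (A' i)) (N : ℕ) (hJ : ∀ i, J ^ N ≤ (𝔠 i).comap (algebraMap A (A' i))) :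
    Module.Flat (A ⧸ ⨅ i, (𝔠 i).comap (algebraMap A (A' i)))
      ((A ⧸ ⨅ i, (𝔠 i).comap (algebraMap A (A' i))) ⊗[A] M) := by
  set K : Ideal A := ⨅ i, (𝔠 i).comap (algebraMap A (A' i)) with hK
  have hKle : ∀ i, ∀ a ∈ K, algebraMap A (A' i ⧸ 𝔠 i) a = 0 := by
    intro i a ha
    rw [IsScalarTower.algebraMap_apply A (A' i) (A' i ⧸ 𝔠 i)]
    exact Ideal.Quotient.eq_zero_iff_mem.mpr (Ideal.mem_comap.mp ((Ideal.mem_iInf.mp ha) i))
  let _ : ∀ i, Algebra (A ⧸ K) (A' i ⧸ 𝔠 i) := fun i =>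
    (Ideal.Quotient.lift K (algebraMap A (A' i ⧸ 𝔠 i)) (hKle i)).toAlgebra
  have : ∀ i, IsScalarTower A (A ⧸ K) (A' i ⧸ 𝔠 i) := fun i =>
    IsScalarTower.of_algebraMap_eq (fun x => rfl)
  have : ∀ i, Module.Flat (A' i ⧸ 𝔠 i) ((A' i ⧸ 𝔠 i) ⊗[A ⧸ K] ((A ⧸ K) ⊗[A] M)) := fun i =>
    flat_baseChange_square M (A ⧸ K) (A' i ⧸ 𝔠 i) (A' i)
  have : Module.Flat ((A ⧸ K) ⧸ J.map (Ideal.Quotient.mk K))
      (((A ⧸ K) ⧸ J.map (Ideal.Quotient.mk K)) ⊗[A ⧸ K] ((A ⧸ K) ⊗[A] M)) :=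
    flat_quotient_map' M J K
  refine flat_of_jointly_injective (fun i => A' i ⧸ 𝔠 i) (J.map (Ideal.Quotient.mk K)) ⟨N, ?_⟩ ?_
  · rw [← Ideal.map_pow, Ideal.zero_eq_bot, Ideal.map_eq_bot_iff_le_ker, Ideal.mk_ker]
    exact le_iInf hJ
  · intro x hx
    obtain ⟨a, rfl⟩ := Ideal.Quotient.mk_surjective x
    rw [Ideal.Quotient.eq_zero_iff_mem, hK, Ideal.mem_iInf]
    intro i
    have h1 : algebraMap (A ⧸ K) (A' i ⧸ 𝔠 i) (Ideal.Quotient.mk K a) = 0 := hx i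
    have h2 : algebraMap (A ⧸ K) (A' i ⧸ 𝔠 i) (Ideal.Quotient.mk K a) =
        Ideal.Quotient.mk (𝔠 i) (algebraMap A (A' i) a) := rfl
    rw [h2, Ideal.Quotient.eq_zero_iff_mem] at h1
    exact h1

/-- Flatness from base change to a finite family of `A`-algebras `A'_i` with ideals `𝔯_i` whose
adic topologies jointly induce the `J`-adic topology on `A`, for ideally separated `M`. -/
theorem flat_of_family_topology_induced [IsNoetherianRing A] {ι : Type*} [Finite ι]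
    (A' : ι → Type*) [∀ i, CommRing (A' i)]
    [∀ i, Algebra A (A' i)] [∀ i, Module.Flat (A' i) (A' i ⊗[A] M)]
    (J : Ideal A) [Module.Flat (A ⧸ J) ((A ⧸ J) ⊗[A] M)]
    (hsep : ∀ (𝔞 : Ideal A) (x : 𝔞 ⊗[A] M),
      (∀ n : ℕ, x ∈ J ^ n • (⊤ : Submodule A (𝔞 ⊗[A] M))) → x = 0)
    (𝔯 : ∀ i, Ideal (A' i)) (h𝔯 : ∀ i, J ≤ (𝔯 i).comap (algebraMap A (A' i)))
    (htop : ∀ n : ℕ, ∃ m : ℕ, ⨅ i, ((𝔯 i) ^ m).comap (algebraMap A (A' i)) ≤ J ^ n) :
    Module.Flat A M := by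
  refine flat_of_flat_quotient_pow J hsep fun n _ => ?_
  obtain ⟨m, hm⟩ := htop n
  have := flat_quotient_iInf_comap M A' J (fun i => (𝔯 i) ^ m) m (fun i => by
    rw [← Ideal.map_le_iff_le_comap, Ideal.map_pow]
    exact Ideal.pow_right_mono (Ideal.map_le_iff_le_comap.mpr (h𝔯 i)) m)
  exact flat_quotient_of_le M hm

end Family

end Groth.Agent.Lib.FlatTopInduced88
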