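import Groth.Agent.Lib.FlatUnramFP68
import Mathlib.RingTheory.Localization.Algebra
import Mathlib.RingTheory.Localization.Away.AdjoinRoot

/-!
# Flat + unramified + finite type, finitely presented over a "schematically dense" open
⇒ finitely presented (helper68)

The unramified case of Raynaud–Gruson's theorem (Stacks 081L): `R → B` flat, of finite type and
formally unramified; `s ⊆ R` a finite set such that `⋃ D(u)`, `u ∈ s`, is schematically dense in
`Spec R`; if `B[1/(g u)]` is finitely presented over `R` for all `u ∈ s`, `g ∈ B`, then `B` is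
finitely presented over `R`.
-/

set_option autoImplicit false
universe u

namespace Groth.Agent.Lib.FlatUnramDense68

open TensorProduct

/-- Schematic density passes to flat modules. -/
theorem eq_zero_of_flat_of_forall_pow_smul {R : Type*} [CommRing R] (s : Finset R)
    (hinj : ∀ r : R, (∀ u ∈ s, ∃ n : ℕ, u ^ n * r = 0) → r = 0)
    {A : Type*} [AddCommGroup A] [Module R A] [Module.Flat R A] (a : A)
    (ha : ∀ u ∈ s, ∃ n : ℕ, u ^ n • a = 0) : a = 0 := by
  classical
  choose! n hn using ha
  let N : ℕ := s.sup n
  have hN : ∀ u ∈ s, u ^ N • a = 0 := by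
    intro u hu
    have hle : n u ≤ N := Finset.le_sup hu
    obtain ⟨k, hk⟩ := Nat.exists_eq_add_of_le hle
    rw [hk, pow_add, mul_comm, mul_smul, hn u hu, smul_zero]
  let m : R →ₗ[R] (s → R) :=
    { toFun := fun r u => u.1 ^ N * r
      map_add' := fun r r' => by ext u; simp [mul_add]
      map_smul' := fun c r => by ext u; simp [mul_left_comm] }
  have hm : Function.Injective m := by
    rw [← LinearMap.ker_eq_bot, LinearMap.ker_eq_bot']
    intro r hr
    apply hinj
    intro u hu
    exact ⟨N, congrFun hr ⟨u, hu⟩⟩
  have hmA : Function.Injective (m.lTensor A) :=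
    Module.Flat.lTensor_preserves_injective_linearMap m hm
  have h1 : (m.lTensor A) (a ⊗ₜ[R] (1 : R)) = 0 := by
    rw [LinearMap.lTensor_tmul]
    have hm1 : m 1 = ∑ u : s, (u.1 ^ N) • (Pi.single u (1 : R) : s → R) := by
      ext v
      simp [m, Finset.sum_apply, Pi.single_apply]
    rw [hm1, TensorProduct.tmul_sum]
    apply Finset.sum_eq_zero
    intro u _
    first
      | rw [TensorProduct.smul_tmul', hN u.1 u.2, TensorProduct.zero_tmul]
      | rw [← TensorProduct.smul_tmul, hN u.1 u.2, TensorProduct.zero_tmul]
  have h2 : a ⊗ₜ[R] (1 : R) = 0 := hmA (h1.trans (map_zero _).symm)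
  have h3 := congrArg (TensorProduct.rid R A) h2
  simpa using h3

/-- If `φ : A → B` is a surjection of `R`-algebras with `A` and `B[1/φ a]` finitely presented,
then `ker φ` is finitely generated up to `a`-power torsion. -/
theorem exists_fg_le_ker_forall_pow_mul_mem {R A B : Type u} [CommRing R] [CommRing A] [CommRing B]
    [Algebra R A] [Algebra R B] [Algebra.FinitePresentation R A] (φ : A →ₐ[R] B)
    (hφ : Function.Surjective φ) (a : A)
    (hfp : Algebra.FinitePresentation R (Localization.Away (φ a))) :
    ∃ J : Ideal A, J.FG ∧ J ≤ RingHom.ker φ.toRingHom ∧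
      ∀ x ∈ RingHom.ker φ.toRingHom, ∃ n : ℕ, a ^ n * x ∈ J := by
  classical
  have hAa : Algebra.FinitePresentation A (Localization.Away a) :=
    IsLocalization.Away.finitePresentation a
  have hfpA : Algebra.FinitePresentation R (Localization.Away a) :=
    Algebra.FinitePresentation.trans R A (Localization.Away a)
  let ψ : Localization.Away a →ₐ[R] Localization.Away (φ a) := Localization.awayMapₐ φ a
  have hψ : Function.Surjective ψ := IsLocalization.Away.mapₐ_surjective_of_surjective a hφ
  have hker : (RingHom.ker ψ.toRingHom).FG := Algebra.FinitePresentation.ker_fG_of_surjective ψ hψ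
  have hkermap : RingHom.ker ψ.toRingHom =
      (RingHom.ker φ.toRingHom).map (algebraMap A (Localization.Away a)) :=
    IsLocalization.ker_map (M := Submonoid.powers a) (S := Localization.Away a)
      (Localization.Away (φ a)) φ.toRingHom (Submonoid.map_powers φ.toRingHom a)
  rw [hkermap] at hker
  have hspan : (RingHom.ker φ.toRingHom).map (algebraMap A (Localization.Away a)) =
      Submodule.span (Localization.Away a)
        ((algebraMap A (Localization.Away a)) '' (RingHom.ker φ.toRingHom : Set A)) := rfl
  rw [hspan] at hker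
  have hker' : Submodule.FG (Submodule.span (Localization.Away a)
      ((algebraMap A (Localization.Away a)) '' (RingHom.ker φ.toRingHom : Set A))) := hker
  rw [Submodule.fg_span_iff_fg_span_finset_subset] at hker'
  obtain ⟨s', hs', hss'⟩ := hker'
  have hs'' : ∀ z ∈ s', ∃ x, x ∈ RingHom.ker φ.toRingHom ∧
      algebraMap A (Localization.Away a) x = z := fun z hz => hs' hz
  choose! pre hpre using hs''
  let J : Ideal A := Ideal.span ((s'.image pre : Finset A) : Set A)
  have hJI : J ≤ RingHom.ker φ.toRingHom := by
    rw [Ideal.span_le]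
    intro y hy
    rw [Finset.coe_image] at hy
    obtain ⟨z, hz, rfl⟩ := hy
    exact (hpre z (Finset.mem_coe.mp hz)).1
  have hJmap : (RingHom.ker φ.toRingHom).map (algebraMap A (Localization.Away a)) ≤
      J.map (algebraMap A (Localization.Away a)) := by
    rw [hspan, hss', Submodule.span_le]
    intro z hz
    have : z = algebraMap A (Localization.Away a) (pre z) := (hpre z (Finset.mem_coe.mp hz)).2.symm
    rw [this]
    apply Ideal.mem_map_of_mem
    apply Ideal.subset_span
    rw [Finset.coe_image]
    exact ⟨z, hz, rfl⟩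
  refine ⟨J, ⟨s'.image pre, rfl⟩, hJI, fun x hx => ?_⟩
  have h1 : algebraMap A (Localization.Away a) x ∈ J.map (algebraMap A (Localization.Away a)) :=
    hJmap (Ideal.mem_map_of_mem _ hx)
  rw [IsLocalization.algebraMap_mem_map_algebraMap_iff (Submonoid.powers a)] at h1
  obtain ⟨m, ⟨n, rfl⟩, hm⟩ := h1
  exact ⟨n, hm⟩

/-- The kernel of a standard étale surjection onto `S[1/f]`, `S` flat over `R`, is pure. -/
theorem exists_eq_mul_of_mem_ker {R S : Type u} [CommRing R] [CommRing S] [Algebra R S]
    [Module.Flat R S] (f : S) (P : StandardEtalePair R) (φ : P.Ring →ₐ[R] Localization.Away f)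
    (hφ : Function.Surjective φ) :
    ∀ x ∈ RingHom.ker φ.toRingHom, ∃ y ∈ RingHom.ker φ.toRingHom, x = x * y := by
  have hflat' : Module.Flat S (Localization.Away f) := IsLocalization.flat _ (Submonoid.powers f)
  have hflat : Module.Flat R (Localization.Away f) := Module.Flat.trans R S (Localization.Away f)
  let _ : Algebra P.Ring (Localization.Away f) := φ.toRingHom.toAlgebra
  have hst : IsScalarTower R P.Ring (Localization.Away f) :=
    IsScalarTower.of_algebraMap_eq' φ.comp_algebraMap.symm
  have hflatA : Module.Flat P.Ring (Localization.Away f) :=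
    Groth.Agent.Lib.DiagFlat.flat_of_flat_lmul' (Algebra.WeaklyEtale.flat_lmul' R P.Ring)
      (Localization.Away f)
  have hsurj : Function.Surjective (Algebra.ofId P.Ring (Localization.Away f)) := hφ
  let e : (P.Ring ⧸ RingHom.ker (Algebra.ofId P.Ring (Localization.Away f))) ≃ₐ[P.Ring]
      Localization.Away f := Ideal.quotientKerAlgEquivOfSurjective hsurj
  have hpure : (RingHom.ker (Algebra.ofId P.Ring (Localization.Away f))).Pure :=
    Module.Flat.of_linearEquiv e.toLinearEquiv
  have hker : RingHom.ker (Algebra.ofId P.Ring (Localization.Away f)) =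
      RingHom.ker φ.toRingHom := rfl
  intro x hx
  rw [← hker] at hx ⊢
  exact Ideal.exists_eq_mul_of_pure hx

/-- Key local step: around a prime `Q` of `B` the algebra `B` is finitely presented. -/
theorem exists_notMem_finitePresentation_away {R B : Type u} [CommRing R] [CommRing B]
    [Algebra R B] [Module.Flat R B] (s : Finset R)
    (hinj : ∀ r : R, (∀ u ∈ s, ∃ n : ℕ, u ^ n * r = 0) → r = 0)
    (hfp : ∀ u ∈ s, ∀ g : B,
      Algebra.FinitePresentation R (Localization.Away (g * algebraMap R B u)))
    (Q : Ideal B) [Q.IsPrime] (g : B) (hgQ : g ∉ Q) (h : HasStandardEtaleSurjectionOn R g) :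
    ∃ h ∉ Q, Algebra.FinitePresentation R (Localization.Away h) := by
  classical
  obtain ⟨P, φ, hφ⟩ := h
  have hpure := exists_eq_mul_of_mem_ker g P φ hφ
  -- the prime `Q'` of `B[1/g]` and its preimage `q` in `P.Ring`
  have hdisj : Disjoint (Submonoid.powers g : Set B) (Q : Set B) := by
    rw [Ideal.disjoint_powers_iff_notMem_of_isPrime]
    exact hgQ
  let Q' : Ideal (Localization.Away g) := Q.map (algebraMap B (Localization.Away g))
  have hQ'prime : Q'.IsPrime :=
    IsLocalization.isPrime_of_isPrime_disjoint (Submonoid.powers g) _ Q inferInstance hdisj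
  let q : Ideal P.Ring := Q'.comap φ.toRingHom
  have hqprime : q.IsPrime := Ideal.comap_isPrime φ.toRingHom Q'
  have hIq : RingHom.ker φ.toRingHom ≤ q := by
    intro x hx
    show φ.toRingHom x ∈ Q'
    rw [(RingHom.mem_ker).mp hx]
    exact Q'.zero_mem
  -- finitely generated `J ≤ ker φ` generating the kernel up to `u`-power torsion, `u ∈ s`
  have hJu : ∀ u ∈ s, ∃ J : Ideal P.Ring, J.FG ∧ J ≤ RingHom.ker φ.toRingHom ∧
      ∀ x ∈ RingHom.ker φ.toRingHom, ∃ n : ℕ, (algebraMap R P.Ring u) ^ n * x ∈ J := by
    intro u hu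
    apply exists_fg_le_ker_forall_pow_mul_mem φ hφ (algebraMap R P.Ring u)
    have he : φ (algebraMap R P.Ring u) =
        algebraMap B (Localization.Away g) (algebraMap R B u) := by
      rw [φ.commutes, IsScalarTower.algebraMap_apply R B (Localization.Away g)]
    rw [he]
    have hfp' := hfp u hu g
    let ε : Localization.Away (g * algebraMap R B u) ≃ₐ[B]
        Localization.Away (algebraMap B (Localization.Away g) (algebraMap R B u)) :=
      IsLocalization.algEquiv (Submonoid.powers (g * algebraMap R B u)) _ _
    exact Algebra.FinitePresentation.equiv (ε.restrictScalars R)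
  choose! Ju hJu1 hJu2 hJu3 using hJu
  let J : Ideal P.Ring := s.sup Ju
  have hJfg : J.FG := Submodule.fg_finset_sup s Ju hJu1
  have hJI : J ≤ RingHom.ker φ.toRingHom := Finset.sup_le hJu2
  have hJs : ∀ u ∈ s, ∀ x ∈ RingHom.ker φ.toRingHom,
      ∃ n : ℕ, (algebraMap R P.Ring u) ^ n * x ∈ J := by
    intro u hu x hx
    obtain ⟨n, hn⟩ := hJu3 u hu x hx
    exact ⟨n, (Finset.le_sup (f := Ju) hu) hn⟩
  -- an element `t ∉ q` killing `J`
  obtain ⟨T, hT⟩ := hJfg
  have hTI : ∀ j ∈ T, j ∈ RingHom.ker φ.toRingHom := fun j hj =>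
    hJI (hT ▸ Ideal.subset_span (Finset.mem_coe.mpr hj))
  have hy : ∀ j ∈ T, ∃ y ∈ RingHom.ker φ.toRingHom, j = j * y := fun j hj => hpure j (hTI j hj)
  choose! y hyI hyj using hy
  let t : P.Ring := ∏ j ∈ T, (1 - y j)
  have htq : t ∉ q := by
    intro ht
    obtain ⟨j, hjT, hj⟩ := (Ideal.IsPrime.prod_mem_iff).mp ht
    have h1 : y j ∈ q := hIq (hyI j hjT)
    have : (1 : P.Ring) ∈ q := by
      have := q.add_mem hj h1
      rwa [sub_add_cancel] at this
    exact hqprime.ne_top ((Ideal.eq_top_iff_one q).mpr this)
  have htT : ∀ j ∈ T, t * j = 0 := by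
    intro j hjT
    obtain ⟨c, hc⟩ := Finset.dvd_prod_of_mem (fun j => 1 - y j) hjT
    have h0 : (1 - y j) * j = 0 := by
      rw [sub_mul, one_mul, mul_comm (y j) j, ← hyj j hjT, sub_self]
    show (∏ j ∈ T, (1 - y j)) * j = 0
    rw [hc, mul_comm (1 - y j) c, mul_assoc, h0, mul_zero]
  have htJ : ∀ x ∈ J, t * x = 0 := by
    intro x hx
    rw [← hT] at hx
    refine Submodule.span_induction ?_ ?_ ?_ ?_ hx
    · intro j hj
      exact htT j (Finset.mem_coe.mp hj)
    · exact mul_zero t
    · intro a b _ _ ha hb
      rw [mul_add, ha, hb, add_zero]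
    · intro c a _ ha
      rw [smul_eq_mul, mul_left_comm, ha, mul_zero]
  have hflatA : Module.Flat R P.Ring := inferInstance
  have htI : ∀ x ∈ RingHom.ker φ.toRingHom, t * x = 0 := by
    intro x hx
    apply eq_zero_of_flat_of_forall_pow_smul s hinj (t * x)
    intro u hu
    obtain ⟨n, hn⟩ := hJs u hu x hx
    refine ⟨n, ?_⟩
    rw [Algebra.smul_def, map_pow, mul_left_comm]
    exact htJ _ hn
  -- `P.Ring[1/t] ≃ B[1/g][1/φ t]`
  let ψ : Localization.Away t →ₐ[R] Localization.Away (φ t) := Localization.awayMapₐ φ t
  have hψsurj : Function.Surjective ψ := IsLocalization.Away.mapₐ_surjective_of_surjective t hφ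
  have hψinj : Function.Injective ψ := by
    have : Function.Injective (Localization.awayMap φ.toRingHom t) := by
      rw [Localization.awayMap_injective_iff]
      intro a ha
      exact ⟨1, by rw [pow_one]; exact htI a ha⟩
    exact this
  have hAt : Algebra.FinitePresentation P.Ring (Localization.Away t) :=
    IsLocalization.Away.finitePresentation t
  have hfpAt : Algebra.FinitePresentation R (Localization.Away t) :=
    Algebra.FinitePresentation.trans R P.Ring (Localization.Away t)
  have hfpT : Algebra.FinitePresentation R (Localization.Away (φ t)) :=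
    Algebra.FinitePresentation.equiv (AlgEquiv.ofBijective ψ ⟨hψinj, hψsurj⟩)
  -- write `φ t = b / g ^ n`
  obtain ⟨n, b, hb⟩ := IsLocalization.Away.surj g (φ t)
  have hunit : IsUnit (algebraMap B (Localization.Away g) g ^ n) :=
    (IsLocalization.Away.algebraMap_isUnit g).pow n
  have hassoc : Associated (φ t) (algebraMap B (Localization.Away g) b) :=
    ⟨hunit.unit, by rw [IsUnit.unit_spec]; exact hb⟩
  have hloc1 : IsLocalization.Away (algebraMap B (Localization.Away g) b)
      (Localization.Away (φ t)) := IsLocalization.Away.of_associated hassoc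
  have hloc2 : IsLocalization.Away (g * b) (Localization.Away (φ t)) :=
    IsLocalization.Away.mul' (Localization.Away g) (Localization.Away (φ t)) g b
  let ε : Localization.Away (φ t) ≃ₐ[B] Localization.Away (g * b) :=
    IsLocalization.algEquiv (Submonoid.powers (g * b)) _ _
  have hbQ : b ∉ Q := by
    intro hbQ
    have h1 : algebraMap B (Localization.Away g) b ∈ Q' := Ideal.mem_map_of_mem _ hbQ
    rw [← hb] at h1
    have h2 : φ t ∈ Q' := (hQ'prime.mem_or_mem h1).resolve_right (fun h =>
      hQ'prime.ne_top (Ideal.eq_top_of_isUnit_mem _ h hunit))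
    exact htq h2
  refine ⟨g * b, fun h => (‹Q.IsPrime›.mem_or_mem h).elim hgQ hbQ, ?_⟩
  exact Algebra.FinitePresentation.equiv (ε.restrictScalars R)

/-- The unramified case of Raynaud–Gruson (Stacks 081L): a flat, formally unramified algebra of
finite type which is finitely presented over a schematically dense quasi-compact open of the base
is finitely presented. -/
theorem finitePresentation_of_flat_of_formallyUnramified_of_dense {R B : Type u} [CommRing R]
    [CommRing B] [Algebra R B] [Algebra.FiniteType R B] [Module.Flat R B]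
    [Algebra.FormallyUnramified R B] (s : Finset R)
    (hinj : ∀ r : R, (∀ u ∈ s, ∃ n : ℕ, u ^ n * r = 0) → r = 0)
    (hfp : ∀ u ∈ s, ∀ g : B,
      Algebra.FinitePresentation R (Localization.Away (g * algebraMap R B u))) :
    Algebra.FinitePresentation R B := by
  rw [← RingHom.finitePresentation_algebraMap]
  let S : Set B := {h : B | Algebra.FinitePresentation R (Localization.Away h)}
  refine RingHom.finitePresentation_ofLocalizationSpanTarget (algebraMap R B) S ?_ ?_
  · by_contra hs
    obtain ⟨Q, hQ, hsQ⟩ := Ideal.exists_le_maximal _ hs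
    have hQprime : Q.IsPrime := hQ.isPrime
    obtain ⟨g, hgQ, hg⟩ := Algebra.IsUnramifiedAt.exists_hasStandardEtaleSurjectionOn (R := R) Q
    obtain ⟨h, hhQ, hh⟩ := exists_notMem_finitePresentation_away s hinj hfp Q g hgQ hg
    exact hhQ (hsQ (Ideal.subset_span hh))
  · rintro ⟨h, hh⟩
    have : (algebraMap B (Localization.Away h)).comp (algebraMap R B) =
        algebraMap R (Localization.Away h) := (IsScalarTower.algebraMap_eq R B _).symm
    rw [this, RingHom.finitePresentation_algebraMap]
    exact hh

end Groth.Agent.Lib.FlatUnramDense68
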