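import Groth.Agent.Lib.FlatUnramFP68
import Mathlib.RingTheory.Etale.Kaehler
import Mathlib.RingTheory.Etale.Basic

/-!
# Flat + unramified ⇒ formally étale, without finite presentation (helper68)

* `formallyEtale_of_surjective_of_isIdempotentElem_ker`: a surjection with idempotent kernel is
  formally étale.
* `subsingleton_h1Cotangent_of_forall_exists_away`: vanishing of `H¹(L_{S/R})` is local on `Spec S`.
* `formallyEtale_of_flat_of_formallyUnramified`: a flat, formally unramified algebra of finite type
  is formally étale (Stacks 04FF without finite presentation).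
-/

set_option autoImplicit false
universe u

namespace Groth.Agent.Lib.FlatUnramEtale68

open TensorProduct

/-- A surjective algebra map with idempotent kernel is formally étale. -/
theorem formallyEtale_of_surjective_of_isIdempotentElem_ker {R A : Type u} [CommRing R]
    [CommRing A] [Algebra R A] (hsurj : Function.Surjective (algebraMap R A))
    (hker : IsIdempotentElem (RingHom.ker (algebraMap R A))) : Algebra.FormallyEtale R A := by
  rw [Algebra.FormallyEtale.iff_comp_bijective]
  intro B _ _ I hI
  have hsub : ∀ f g : A →ₐ[R] B, f = g := by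
    intro f g
    ext a
    obtain ⟨r, rfl⟩ := hsurj a
    rw [f.commutes, g.commutes]
  have hsub' : ∀ f g : A →ₐ[R] B ⧸ I, f = g := by
    intro f g
    ext a
    obtain ⟨r, rfl⟩ := hsurj a
    rw [f.commutes, g.commutes]
  refine ⟨fun f g _ => hsub f g, fun ψ => ?_⟩
  -- the kernel maps into `I`
  have h1 : ∀ x ∈ RingHom.ker (algebraMap R A), algebraMap R B x ∈ I := by
    intro x hx
    rw [← Ideal.Quotient.eq_zero_iff_mem]
    have : Ideal.Quotient.mk I (algebraMap R B x) = ψ (algebraMap R A x) := by
      rw [ψ.commutes]
      rfl
    rw [this, (RingHom.mem_ker).mp hx, map_zero]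
  have h2 : ∀ x ∈ RingHom.ker (algebraMap R A), algebraMap R B x = 0 := by
    intro x hx
    have hx' : x ∈ RingHom.ker (algebraMap R A) * RingHom.ker (algebraMap R A) := by
      rw [hker.eq]
      exact hx
    refine Submodule.mul_induction_on hx' ?_ ?_
    · intro a ha b hb
      have : algebraMap R B (a * b) ∈ I ^ 2 := by
        rw [map_mul, pow_two]
        exact Ideal.mul_mem_mul (h1 a ha) (h1 b hb)
      rw [hI] at this
      exact this
    · intro a b ha hb
      rw [map_add, ha, hb, add_zero]
  let e : (R ⧸ RingHom.ker (Algebra.ofId R A)) ≃ₐ[R] A :=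
    Ideal.quotientKerAlgEquivOfSurjective (f := Algebra.ofId R A) hsurj
  let l : (R ⧸ RingHom.ker (Algebra.ofId R A)) →ₐ[R] B :=
    Ideal.Quotient.liftₐ _ (Algebra.ofId R B) (fun a ha => h2 a ha)
  exact ⟨l.comp e.symm.toAlgHom, hsub' _ _⟩

/-- Vanishing of `H¹(L_{S/R})` can be checked on a cover of `Spec S` by basic opens. -/
theorem subsingleton_h1Cotangent_of_forall_exists_away {R S : Type u} [CommRing R] [CommRing S]
    [Algebra R S]
    (H : ∀ Q : Ideal S, Q.IsPrime →
      ∃ g ∉ Q, Subsingleton (Algebra.H1Cotangent R (Localization.Away g))) :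
    Subsingleton (Algebra.H1Cotangent R S) := by
  refine ⟨fun x y => ?_⟩
  rw [← sub_eq_zero]
  set z := x - y with hz
  by_contra hne
  have hann : (Submodule.span S {z}).annihilator ≠ ⊤ := by
    intro h
    have h1 : (1 : S) ∈ (Submodule.span S {z}).annihilator := h ▸ Submodule.mem_top
    rw [Submodule.mem_annihilator_span_singleton, one_smul] at h1
    exact hne h1
  obtain ⟨m, hm, hle⟩ := Ideal.exists_le_maximal _ hann
  obtain ⟨g, hgm, hg⟩ := H m hm.isPrime
  have hloc := Algebra.H1Cotangent.isLocalizedModule (R := R) (T := Localization.Away g)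
    (Submonoid.powers g)
  have h0 : Algebra.H1Cotangent.map R R S (Localization.Away g) z = 0 := Subsingleton.elim _ _
  obtain ⟨c, hc⟩ := (IsLocalizedModule.eq_zero_iff (Submonoid.powers g)
    (Algebra.H1Cotangent.map R R S (Localization.Away g))).mp h0
  obtain ⟨n, hn⟩ := c.2
  have hmem : g ^ n ∈ (Submodule.span S {z}).annihilator := by
    rw [Submodule.mem_annihilator_span_singleton]
    have hn' : g ^ n = (c : S) := hn
    rw [hn']
    exact hc
  exact hgm (hm.isPrime.mem_of_pow_mem n (hle hmem))

/-- If a standard étale `R`-algebra surjects onto `S[1/f]` and `S` is `R`-flat, then `S[1/f]` is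
formally étale over `R`. -/
theorem formallyEtale_away_of_hasStandardEtaleSurjectionOn {R S : Type u} [CommRing R]
    [CommRing S] [Algebra R S] [Module.Flat R S] (f : S)
    (h : HasStandardEtaleSurjectionOn R f) :
    Algebra.FormallyEtale R (Localization.Away f) := by
  obtain ⟨P, φ, hφ⟩ := h
  have hflat' : Module.Flat S (Localization.Away f) := IsLocalization.flat _ (Submonoid.powers f)
  have hflat : Module.Flat R (Localization.Away f) := Module.Flat.trans R S (Localization.Away f)
  let _ : Algebra P.Ring (Localization.Away f) := φ.toRingHom.toAlgebra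
  have hst : IsScalarTower R P.Ring (Localization.Away f) :=
    IsScalarTower.of_algebraMap_eq' φ.comp_algebraMap.symm
  have hflatA : Module.Flat P.Ring (Localization.Away f) :=
    Groth.Agent.Lib.DiagFlat.flat_of_flat_lmul' (Algebra.WeaklyEtale.flat_lmul' R P.Ring)
      (Localization.Away f)
  have hsurj : Function.Surjective (Algebra.ofId P.Ring (Localization.Away f)) := hφ
  let e : (P.Ring ⧸ RingHom.ker (Algebra.ofId P.Ring (Localization.Away f))) ≃ₐ[P.Ring]
      Localization.Away f := Ideal.quotientKerAlgEquivOfSurjective hsurj
  have hpure : (RingHom.ker (Algebra.ofId P.Ring (Localization.Away f))).Pure :=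
    Module.Flat.of_linearEquiv e.toLinearEquiv
  have hidem : IsIdempotentElem (RingHom.ker (algebraMap P.Ring (Localization.Away f))) :=
    Ideal.isIdempotentElem_of_pure (RingHom.ker (Algebra.ofId P.Ring (Localization.Away f)))
  have h1 : Algebra.FormallyEtale P.Ring (Localization.Away f) :=
    formallyEtale_of_surjective_of_isIdempotentElem_ker hφ hidem
  exact Algebra.FormallyEtale.comp R P.Ring (Localization.Away f)

/-- A flat, formally unramified algebra of finite type is formally étale (no finite presentation
hypothesis). -/
theorem formallyEtale_of_flat_of_formallyUnramified {R S : Type u} [CommRing R] [CommRing S]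
    [Algebra R S] [Algebra.FiniteType R S] [Module.Flat R S] [Algebra.FormallyUnramified R S] :
    Algebra.FormallyEtale R S := by
  have h1 : Subsingleton (Algebra.H1Cotangent R S) := by
    apply subsingleton_h1Cotangent_of_forall_exists_away
    intro Q hQ
    obtain ⟨f, hfQ, hf⟩ := Algebra.IsUnramifiedAt.exists_hasStandardEtaleSurjectionOn (R := R) Q
    have := formallyEtale_away_of_hasStandardEtaleSurjectionOn f hf
    exact ⟨f, hfQ, inferInstance⟩
  exact ⟨inferInstance, h1⟩

end Groth.Agent.Lib.FlatUnramEtale68
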