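import Mathlib.RingTheory.Unramified.LocalStructure
import Mathlib.RingTheory.Etale.Weakly
import Mathlib.RingTheory.Etale.QuasiFinite
import Mathlib.RingTheory.Ideal.Pure
import Mathlib.RingTheory.Ideal.GoingDown
import Mathlib.RingTheory.QuasiFinite.Basic
import Mathlib.RingTheory.RingHom.FinitePresentation
import Mathlib.RingTheory.Flat.Localization
import Mathlib.RingTheory.Ideal.Colon
import Groth.Agent.Lib.DiagFlat

/-!
# Flat + unramified + finite type ⇒ finitely presented, over a ring with finitely many minimal primes
(helper68)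

* `fg_of_pure_of_finite_minimalPrimes`: a pure ideal of a ring with finitely many minimal primes is
  finitely generated.
* `finite_minimalPrimes_of_flat_of_quasiFinite`: a flat quasi-finite algebra over a ring with
  finitely many minimal primes has finitely many minimal primes.
* `finitePresentation_of_flat_of_formallyUnramified`: a flat, formally unramified algebra of finite
  type over a ring with finitely many minimal primes is of finite presentation (hence étale).
-/

set_option autoImplicit false
universe u

namespace Groth.Agent.Lib.FlatUnramFP68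

open TensorProduct

/-- A pure ideal of a ring with finitely many minimal primes is finitely generated. -/
theorem fg_of_pure_of_finite_minimalPrimes {A : Type*} [CommRing A]
    (hA : (minimalPrimes A).Finite) (I : Ideal A)
    (hI : ∀ x ∈ I, ∃ y ∈ I, x = x * y) : I.FG := by
  classical
  -- for each minimal prime `p` not containing `I` choose `y ∈ I` with `1 - y ∈ p`
  have key : ∀ p ∈ minimalPrimes A, ¬ I ≤ p → ∃ y ∈ I, 1 - y ∈ p := by
    intro p hp hIp
    obtain ⟨x, hxI, hxp⟩ := Set.not_subset.mp hIp
    obtain ⟨y, hyI, hxy⟩ := hI x hxI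
    refine ⟨y, hyI, ?_⟩
    have hprime : p.IsPrime := hp.1.1
    have h0 : x * (1 - y) ∈ p := by
      have : x * (1 - y) = 0 := by rw [mul_sub, mul_one, ← hxy, sub_self]
      rw [this]
      exact p.zero_mem
    exact (hprime.mem_or_mem h0).resolve_left hxp
  let yf : Ideal A → A := fun p =>
    if h : p ∈ minimalPrimes A ∧ ¬ I ≤ p then (key p h.1 h.2).choose else 0
  have hyfI : ∀ p, yf p ∈ I := by
    intro p
    by_cases h : p ∈ minimalPrimes A ∧ ¬ I ≤ p
    · simp only [yf, dif_pos h]
      exact (key p h.1 h.2).choose_spec.1
    · simp only [yf, dif_neg h]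
      exact I.zero_mem
  have hyfp : ∀ p, p ∈ minimalPrimes A → ¬ I ≤ p → 1 - yf p ∈ p := by
    intro p hp hIp
    have h : p ∈ minimalPrimes A ∧ ¬ I ≤ p := ⟨hp, hIp⟩
    simp only [yf, dif_pos h]
    exact (key p h.1 h.2).choose_spec.2
  let J : Ideal A := Ideal.span (yf '' minimalPrimes A)
  have hJfg : J.FG := ⟨(hA.image yf).toFinset, by simp [J]⟩
  have hJI : J ≤ I := by
    rw [Ideal.span_le]
    rintro _ ⟨p, _, rfl⟩
    exact hyfI p
  have hIJ : I ≤ J := by
    intro x hxI
    by_contra hxJ
    let K : Ideal A := J.colon (Ideal.span {x})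
    have hK : K ≠ ⊤ := by
      intro h
      have h1 : (1 : A) ∈ K := h ▸ Submodule.mem_top
      rw [Ideal.mem_colon_span_singleton] at h1
      rw [one_mul] at h1
      exact hxJ h1
    obtain ⟨m, hm, hKm⟩ := Ideal.exists_le_maximal K hK
    have hmprime : m.IsPrime := hm.isPrime
    by_cases hIm : I ≤ m
    · obtain ⟨y, hyI, hxy⟩ := hI x hxI
      have h1 : (1 - y) ∈ K := by
        rw [Ideal.mem_colon_span_singleton]
        have : (1 - y) * x = 0 := by rw [sub_mul, one_mul, mul_comm y x, ← hxy, sub_self]
        rw [this]
        exact J.zero_mem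
      have h2 : (1 - y) ∈ m := hKm h1
      have h3 : y ∈ m := hIm hyI
      have : (1 : A) ∈ m := by
        have := m.add_mem h2 h3
        rwa [sub_add_cancel] at this
      exact hmprime.ne_top ((Ideal.eq_top_iff_one m).mpr this)
    · obtain ⟨p, hp, hpm⟩ := Ideal.exists_minimalPrimes_le (bot_le : (⊥ : Ideal A) ≤ m)
      have hp' : p ∈ minimalPrimes A := hp
      have hIp : ¬ I ≤ p := fun h => hIm (h.trans hpm)
      have h1 : yf p ∈ K := by
        rw [Ideal.mem_colon_span_singleton]
        exact J.mul_mem_right _ (Ideal.subset_span ⟨p, hp', rfl⟩)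
      have h2 : yf p ∈ m := hKm h1
      have h3 : 1 - yf p ∈ m := hpm (hyfp p hp' hIp)
      have : (1 : A) ∈ m := by
        have := m.add_mem h3 h2
        rwa [sub_add_cancel] at this
      exact hmprime.ne_top ((Ideal.eq_top_iff_one m).mpr this)
  rw [le_antisymm hIJ hJI]
  exact hJfg

/-- A flat quasi-finite algebra over a ring with finitely many minimal primes has finitely many
minimal primes. -/
theorem finite_minimalPrimes_of_flat_of_quasiFinite {R A : Type*} [CommRing R] [CommRing A]
    [Algebra R A] [Module.Flat R A] [Algebra.QuasiFinite R A] (hR : (minimalPrimes R).Finite) :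
    (minimalPrimes A).Finite := by
  have hfin : (⋃ p ∈ minimalPrimes R, p.primesOver A).Finite :=
    hR.biUnion fun p _ => Algebra.QuasiFinite.finite_primesOver p
  refine hfin.subset ?_
  intro q hq
  have hqprime : q.IsPrime := hq.1.1
  obtain ⟨p, hp, hpq⟩ := Ideal.exists_minimalPrimes_le (bot_le : (⊥ : Ideal R) ≤ q.under R)
  have hpprime : p.IsPrime := hp.1.1
  obtain ⟨P, hPq, hPprime, hPp⟩ := Ideal.exists_ideal_le_liesOver_of_le (p := p) q hpq
  have hqP : q ≤ P := hq.2 ⟨hPprime, bot_le⟩ hPq
  have hPq' : P = q := le_antisymm hPq hqP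
  simp only [Set.mem_iUnion]
  exact ⟨p, hp, hPq' ▸ ⟨hPprime, hPp⟩⟩

/-- If a standard étale `R`-algebra surjects onto `S[1/f]`, `S` is `R`-flat and `R` has finitely
many minimal primes, then `S[1/f]` is of finite presentation over `R`. -/
theorem finitePresentation_away_of_hasStandardEtaleSurjectionOn {R S : Type u} [CommRing R]
    [CommRing S] [Algebra R S] [Module.Flat R S] (hR : (minimalPrimes R).Finite) (f : S)
    (h : HasStandardEtaleSurjectionOn R f) :
    Algebra.FinitePresentation R (Localization.Away f) := by
  obtain ⟨P, φ, hφ⟩ := h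
  have hflat' : Module.Flat S (Localization.Away f) := IsLocalization.flat _ (Submonoid.powers f)
  have hflat : Module.Flat R (Localization.Away f) := Module.Flat.trans R S (Localization.Away f)
  let _ : Algebra P.Ring (Localization.Away f) := φ.toRingHom.toAlgebra
  have hst : IsScalarTower R P.Ring (Localization.Away f) :=
    IsScalarTower.of_algebraMap_eq' φ.comp_algebraMap.symm
  have hflatA : Module.Flat P.Ring (Localization.Away f) :=
    Groth.Agent.Lib.DiagFlat.flat_of_flat_lmul' (Algebra.WeaklyEtale.flat_lmul' R P.Ring)
      (Localization.Away f)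
  have hsurj : Function.Surjective (Algebra.ofId P.Ring (Localization.Away f)) := hφ
  let e : (P.Ring ⧸ RingHom.ker (Algebra.ofId P.Ring (Localization.Away f))) ≃ₐ[P.Ring]
      Localization.Away f := Ideal.quotientKerAlgEquivOfSurjective hsurj
  have hpure : (RingHom.ker (Algebra.ofId P.Ring (Localization.Away f))).Pure :=
    Module.Flat.of_linearEquiv e.toLinearEquiv
  have hker : RingHom.ker (Algebra.ofId P.Ring (Localization.Away f)) =
      RingHom.ker φ.toRingHom := rfl
  have hA : (minimalPrimes P.Ring).Finite := finite_minimalPrimes_of_flat_of_quasiFinite hR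
  have hfg : (RingHom.ker φ.toRingHom).FG := by
    rw [← hker]
    exact fg_of_pure_of_finite_minimalPrimes hA _ (fun x hx => Ideal.exists_eq_mul_of_pure hx)
  exact Algebra.FinitePresentation.of_surjective hφ hfg

/-- A flat, formally unramified algebra of finite type over a ring with finitely many minimal
primes is of finite presentation. -/
theorem finitePresentation_of_flat_of_formallyUnramified {R S : Type u} [CommRing R] [CommRing S]
    [Algebra R S] [Algebra.FiniteType R S] [Module.Flat R S] [Algebra.FormallyUnramified R S]
    (hR : (minimalPrimes R).Finite) : Algebra.FinitePresentation R S := by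
  rw [← RingHom.finitePresentation_algebraMap]
  let s : Set S := {f : S | Algebra.FinitePresentation R (Localization.Away f)}
  refine RingHom.finitePresentation_ofLocalizationSpanTarget (algebraMap R S) s ?_ ?_
  · by_contra hs
    obtain ⟨Q, hQ, hsQ⟩ := Ideal.exists_le_maximal _ hs
    have hQprime : Q.IsPrime := hQ.isPrime
    obtain ⟨f, hfQ, hf⟩ := Algebra.IsUnramifiedAt.exists_hasStandardEtaleSurjectionOn (R := R) Q
    have hfs : f ∈ s := finitePresentation_away_of_hasStandardEtaleSurjectionOn hR f hf
    exact hfQ (hsQ (Ideal.subset_span hfs))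
  · rintro ⟨f, hf⟩
    have : (algebraMap S (Localization.Away f)).comp (algebraMap R S) =
        algebraMap R (Localization.Away f) := (IsScalarTower.algebraMap_eq R S _).symm
    rw [this, RingHom.finitePresentation_algebraMap]
    exact hf

end Groth.Agent.Lib.FlatUnramFP68
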