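import Mathlib
import Groth.Agent.Lib.FlatCrit
import Groth.Agent.Lib.FlatInf88
import Groth.Agent.Lib.H59SchlessChevalley

/-!
# The flattening ideal over a complete Noetherian local ring, existence (helper88)

Stacks 0526-type statement: `(R, 𝔪)` complete Noetherian local, `S` a Noetherian `R`-algebra, `M` a
finite `S`-module.  Among the ideals `J` such that `(M/JM)_𝔮` is `R/J`-flat for every prime `𝔮` of
`S` over `𝔪` there is a smallest one.

* `flat_quotient_of_forall_sup_pow`: local criterion relative to an ideal `K`: if `X/(K + 𝔪ᵗ)X` is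
  flat over `R/(K + 𝔪ᵗ)` for all `t ≥ 1` then `X/KX` is flat over `R/K` (`X` finite over a
  Noetherian `R`-algebra with `𝔪` in its Jacobson radical).
* `exists_smallest_flattening_ideal`: the existence theorem, for an abstract property
  of ideals which is stable under finite intersections and enlargement and satisfies the
  local-criterion closure; and its concrete instance `exists_smallest_ideal_flat_localizations`.
-/

set_option autoImplicit false
set_option maxHeartbeats 400000
set_option linter.unusedSectionVars false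
set_option linter.style.haveILetI false
universe u

namespace Groth.Agent.Lib.FlattenIdealA88

open TensorProduct Function IsLocalRing Groth.Agent.Lib.FlatCrit Groth.Agent.Lib.FlatInf88
  Groth.Agent.Lib.FlatTopInduced88

section LocalCrit

variable {R : Type u} [CommRing R] [IsNoetherianRing R]
  {S : Type*} [CommRing S] [Algebra R S] [IsNoetherianRing S]
  {X : Type*} [AddCommGroup X] [Module R X] [Module S X] [IsScalarTower R S X] [Module.Finite S X]

/-- Local criterion of flatness relative to an ideal `K`. -/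
theorem flat_quotient_of_forall_sup_pow (𝔪 : Ideal R)
    (h𝔪 : 𝔪.map (algebraMap R S) ≤ Ideal.jacobson ⊥) (K : Ideal R)
    (h : ∀ t : ℕ, Module.Flat (R ⧸ (K ⊔ 𝔪 ^ (t + 1))) ((R ⧸ (K ⊔ 𝔪 ^ (t + 1))) ⊗[R] X)) :
    Module.Flat (R ⧸ K) ((R ⧸ K) ⊗[R] X) := by
  set A := R ⧸ K with hA
  set 𝔪b : Ideal A := 𝔪.map (Ideal.Quotient.mk K) with h𝔪b
  refine flat_of_flat_quotient_pow (R := A) (M := A ⊗[R] X) 𝔪b ?_ ?_
  · -- ideal separatedness
    intro 𝔞 x hx
    let e := AlgebraTensorModule.cancelBaseChange R A A 𝔞 X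
    have hfin : Module.Finite R 𝔞 :=
      Module.Finite.of_injective (𝔞.subtype.restrictScalars R) 𝔞.subtype_injective
    suffices h0 : e x = 0 by
      exact e.map_eq_zero_iff.mp h0
    refine eq_zero_of_forall_mem_pow_smul_top (R := R) (S := S) (M := X) 𝔪 h𝔪 (P := 𝔞) (e x) ?_
    intro n
    have hxn := hx n
    have key : ∀ y : 𝔞 ⊗[A] (A ⊗[R] X), y ∈ 𝔪b ^ n • (⊤ : Submodule A (𝔞 ⊗[A] (A ⊗[R] X))) →
        e y ∈ 𝔪 ^ n • (⊤ : Submodule R (𝔞 ⊗[R] X)) := by
      intro y hy
      refine Submodule.smul_induction_on hy ?_ ?_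
      · intro a ha z _
        rw [h𝔪b, ← Ideal.map_pow, Ideal.mem_map_iff_of_surjective _ Ideal.Quotient.mk_surjective]
          at ha
        obtain ⟨a', ha', rfl⟩ := ha
        rw [map_smul]
        have : (Ideal.Quotient.mk K a') • e z = a' • e z := rfl
        rw [this]
        exact Submodule.smul_mem_smul ha' Submodule.mem_top
      · intro y z hy hz
        rw [map_add]
        exact Submodule.add_mem _ hy hz
    exact key x hxn
  · intro n hn
    obtain ⟨t, rfl⟩ : ∃ t, n = t + 1 := ⟨n - 1, by omega⟩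
    have := h t
    have h1 := flat_quotient_map' X (K ⊔ 𝔪 ^ (t + 1)) K
    have h2 : (K ⊔ 𝔪 ^ (t + 1)).map (Ideal.Quotient.mk K) = 𝔪b ^ (t + 1) := by
      rw [Ideal.map_sup, Ideal.map_quotient_self, bot_sup_eq, Ideal.map_pow]
    exact flat_quotient_of_le (A ⊗[R] X) (le_of_eq h2)

end LocalCrit

section Abstract

variable {R : Type u} [CommRing R] [IsLocalRing R] [IsNoetherianRing R]

theorem isArtinianRing_quotient_pow (k : ℕ) : IsArtinianRing (R ⧸ maximalIdeal R ^ (k + 1)) := by
  apply IsLocalRing.quotient_artinian_of_mem_minimalPrimes_of_isLocalRing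
  refine ⟨⟨inferInstance, Ideal.pow_le_self (Nat.succ_ne_zero k)⟩, ?_⟩
  rintro P ⟨hP, hle⟩ -
  exact hP.le_of_pow_le hle

/-- Abstract existence of a smallest ideal with a property `P` which is stable under enlargement
and finite intersections and is closed for the `𝔪`-adic topology in the sense of the local
criterion. -/
theorem exists_smallest_of_closed [IsAdicComplete (maximalIdeal R) R] (P : Ideal R → Prop)
    (hmono : ∀ K L : Ideal R, P K → K ≤ L → P L)
    (hinf : ∀ J₁ J₂ : Ideal R, P J₁ → P J₂ → P (J₁ ⊓ J₂))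
    (hcl : ∀ K : Ideal R, (∀ t : ℕ, P (K ⊔ maximalIdeal R ^ (t + 1))) → P K)
    (htop : P ⊤) :
    ∃ I : Ideal R, P I ∧ ∀ J : Ideal R, P J → I ≤ J := by
  classical
  have hart := fun k : ℕ => isArtinianRing_quotient_pow (R := R) k
  -- Step 1: minimal modulo each power
  have step1 : ∀ k : ℕ, ∃ J : Ideal R, P J ∧
      ∀ J' : Ideal R, P J' → J ≤ J' ⊔ maximalIdeal R ^ (k + 1) := by
    intro k
    let mk := Ideal.Quotient.mk (maximalIdeal R ^ (k + 1))
    let 𝒮 : Set (Ideal (R ⧸ maximalIdeal R ^ (k + 1))) := {I | ∃ J : Ideal R, P J ∧ I = J.map mk}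
    have hne : 𝒮.Nonempty := ⟨_, ⊤, htop, rfl⟩
    obtain ⟨I, ⟨J, hPJ, rfl⟩, hmin⟩ :=
      (set_has_minimal_iff_artinian (R := R ⧸ maximalIdeal R ^ (k + 1))
        (M := R ⧸ maximalIdeal R ^ (k + 1))).mpr (hart k) 𝒮 hne
    refine ⟨J, hPJ, fun J' hPJ' => ?_⟩
    have hle : (J ⊓ J').map mk ≤ J.map mk := Ideal.map_mono inf_le_left
    have heq : (J ⊓ J').map mk = J.map mk := by
      refine le_antisymm hle ?_
      by_contra hcon
      exact hmin _ ⟨J ⊓ J', hinf J J' hPJ hPJ', rfl⟩ (lt_of_le_not_ge hle hcon)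
    have h2 : J.map mk ≤ J'.map mk := heq ▸ Ideal.map_mono inf_le_right
    have h3 : J ≤ (J'.map mk).comap mk := Ideal.map_le_iff_le_comap.mp h2
    rw [Ideal.comap_map_of_surjective mk Ideal.Quotient.mk_surjective, ← RingHom.ker_eq_comap_bot,
      Ideal.mk_ker] at h3
    exact h3
  choose Jk hPk hmink using step1
  -- Step 2: a decreasing sequence
  let L : ℕ → Ideal R := fun n => Nat.rec (Jk 0) (fun n Ln => Ln ⊓ Jk (n + 1)) n
  have hL0 : L 0 = Jk 0 := rfl
  have hLs : ∀ n, L (n + 1) = L n ⊓ Jk (n + 1) := fun n => rfl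
  have hPL : ∀ n, P (L n) := by
    intro n
    induction n with
    | zero => exact hPk 0
    | succ n ih => rw [hLs]; exact hinf _ _ ih (hPk (n + 1))
  have hLanti : Antitone L := antitone_nat_of_succ_le fun n => by rw [hLs]; exact inf_le_left
  have hLJ : ∀ n, L n ≤ Jk n := by
    intro n
    cases n with
    | zero => exact le_of_eq hL0
    | succ n => rw [hLs]; exact inf_le_right
  -- Step 3
  refine ⟨⨅ i, L i, ?_, ?_⟩
  · apply hcl
    intro t
    obtain ⟨n, hn⟩ := Groth.Agent.Lib.H59SchlessChevalley.chevalley hart L hLanti t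
    exact hmono _ _ (hPL n) hn
  · intro J hPJ x hx
    apply Groth.Agent.Lib.H59SchlessChevalley.mem_of_forall_mem_sup_pow J x
    intro s
    cases s with
    | zero =>
      rw [pow_zero, Ideal.one_eq_top, sup_top_eq]
      exact Submodule.mem_top
    | succ k =>
      have h1 : x ∈ L k := (Ideal.mem_iInf.mp hx) k
      exact hmink k J hPJ (hLJ k h1)

end Abstract

section Concrete

variable (R S : Type u) [CommRing R] [IsLocalRing R] [IsNoetherianRing R] [CommRing S] [Algebra R S]
  [IsNoetherianRing S] (M : Type u) [AddCommGroup M] [Module S M] [Module R M]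
  [IsScalarTower R S M] [Module.Finite S M]

/-- The property: `(M/JM)_𝔮` is flat over `R/J` for all primes `𝔮` of `S` over `𝔪`. -/
def FlatModAt (J : Ideal R) : Prop :=
  ∀ (q : Ideal S) [q.IsPrime], q.comap (algebraMap R S) = maximalIdeal R →
    Module.Flat (R ⧸ J) ((R ⧸ J) ⊗[R] LocalizedModule q.primeCompl M)

variable {R S M}

theorem FlatModAt.mono {K L : Ideal R} (h : FlatModAt R S M K) (hKL : K ≤ L) :
    FlatModAt R S M L := by
  intro q _ hq
  haveI := h q hq
  exact flat_quotient_of_le (LocalizedModule q.primeCompl M) hKL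

theorem FlatModAt.inf {J₁ J₂ : Ideal R} (h₁ : FlatModAt R S M J₁) (h₂ : FlatModAt R S M J₂) :
    FlatModAt R S M (J₁ ⊓ J₂) := by
  intro q _ hq
  haveI := h₁ q hq
  haveI := h₂ q hq
  exact flat_quotient_inf (LocalizedModule q.primeCompl M) J₁ J₂

theorem FlatModAt.top : FlatModAt R S M ⊤ := by
  intro q _ _
  have : Subsingleton (R ⧸ (⊤ : Ideal R)) := Ideal.Quotient.subsingleton_iff.mpr rfl
  have : Subsingleton ((R ⧸ (⊤ : Ideal R)) ⊗[R] LocalizedModule q.primeCompl M) :=
    Module.subsingleton (R ⧸ (⊤ : Ideal R)) _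
  infer_instance

theorem FlatModAt.of_maximalIdeal : FlatModAt R S M (IsLocalRing.maximalIdeal R) := by
  intro q _ _
  letI : Field (R ⧸ IsLocalRing.maximalIdeal R) := Ideal.Quotient.field _
  infer_instance

theorem map_maximalIdeal_le_jacobson (q : Ideal S) [q.IsPrime]
    (hq : q.comap (algebraMap R S) = maximalIdeal R) :
    (maximalIdeal R).map (algebraMap R (Localization.AtPrime q)) ≤ Ideal.jacobson ⊥ := by
  rw [IsLocalRing.jacobson_eq_maximalIdeal ⊥ bot_ne_top,
    IsScalarTower.algebraMap_eq R S (Localization.AtPrime q), ← Ideal.map_map,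
    ← Localization.AtPrime.map_eq_maximalIdeal]
  apply Ideal.map_mono
  rw [Ideal.map_le_iff_le_comap, hq]

theorem FlatModAt.closed (K : Ideal R)
    (h : ∀ t : ℕ, FlatModAt R S M (K ⊔ maximalIdeal R ^ (t + 1))) : FlatModAt R S M K := by
  intro q _ hq
  haveI : IsNoetherianRing (Localization.AtPrime q) :=
    IsLocalization.isNoetherianRing q.primeCompl _ inferInstance
  exact flat_quotient_of_forall_sup_pow (S := Localization.AtPrime q)
    (X := LocalizedModule q.primeCompl M) (maximalIdeal R) (map_maximalIdeal_le_jacobson q hq) K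
    (fun t => h t q hq)

/-- **Existence of the flattening ideal** over a complete Noetherian local ring. -/
theorem exists_smallest_ideal_flat_localizations [IsAdicComplete (maximalIdeal R) R] :
    ∃ I : Ideal R, I ≤ maximalIdeal R ∧ FlatModAt R S M I ∧
      ∀ J : Ideal R, FlatModAt R S M J → I ≤ J := by
  obtain ⟨I, hI, hmin⟩ := exists_smallest_of_closed (R := R) (FlatModAt R S M)
    (fun K L h hKL => h.mono hKL) (fun J₁ J₂ h₁ h₂ => h₁.inf h₂) FlatModAt.closed FlatModAt.top
  exact ⟨I, hmin _ FlatModAt.of_maximalIdeal, hI, hmin⟩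

end Concrete

end Groth.Agent.Lib.FlattenIdealA88
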