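import Mathlib
import Groth.Agent.Lib.FlattenIdealA88
import Groth.Agent.Lib.ArtinianFlatten88
import Groth.Agent.Lib.CritFibA88

/-!
# The flattening ideal over a complete Noetherian local ring: universal property (helper88)

* `flat_quotient_of_ker_of_flat`: (Artinian descent) `R` local, `K = ker (R → R₂)` containing a
  power of the maximal ideal; if `R₂ ⊗ X` is flat over `R₂` then `X/KX` is flat over `R/K`.
* `lTensor_injective_of_flatAt`, `flat_quotient_of_flatAt`: if an `S'`-module `M'` is flat over the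
  local ring `R'` at all primes of `S'` above the maximal ideal, then `M'/J'M'` is flat over `R'/J'`
  for every ideal `J'` containing a power of the maximal ideal.
-/

set_option autoImplicit false
set_option maxHeartbeats 400000
set_option linter.unusedSectionVars false
set_option linter.style.haveILetI false
universe u

namespace Groth.Agent.Lib.FlattenIdealB88

open TensorProduct Function IsLocalRing Groth.Agent.Lib.FlatCrit Groth.Agent.Lib.FlattenIdealA88

section ArtinDescent

variable {R : Type u} [CommRing R] [IsLocalRing R] {R₂ : Type u} [CommRing R₂] [Algebra R R₂]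
  (X : Type u) [AddCommGroup X] [Module R X]

/-- **Artinian descent**: if `K = ker (R → R₂)` contains a power of the maximal ideal of the local
ring `R` and `R₂ ⊗ X` is `R₂`-flat, then `X/KX` is flat over `R/K`. -/
theorem flat_quotient_of_ker_of_flat (K : Ideal R) (hK : RingHom.ker (algebraMap R R₂) = K)
    (hKtop : K ≠ ⊤) (n : ℕ) (hn : maximalIdeal R ^ n ≤ K) [Module.Flat R₂ (R₂ ⊗[R] X)] :
    Module.Flat (R ⧸ K) ((R ⧸ K) ⊗[R] X) := by
  haveI : Nontrivial (R ⧸ K) := Ideal.Quotient.nontrivial_iff.mpr hKtop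
  haveI : IsLocalRing (R ⧸ K) :=
    IsLocalRing.of_surjective' (Ideal.Quotient.mk K) Ideal.Quotient.mk_surjective
  -- the maximal ideal of `R/K` is nilpotent
  have hmax : maximalIdeal (R ⧸ K) ≤ (maximalIdeal R).map (Ideal.Quotient.mk K) := by
    intro x hx
    obtain ⟨a, rfl⟩ := Ideal.Quotient.mk_surjective x
    refine Ideal.mem_map_of_mem _ ?_
    rw [mem_maximalIdeal, mem_nonunits_iff] at hx ⊢
    intro ha
    exact hx (ha.map _)
  have hnil : IsNilpotent (maximalIdeal (R ⧸ K)) := by
    refine ⟨n, ?_⟩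
    rw [Ideal.zero_eq_bot, eq_bot_iff]
    calc maximalIdeal (R ⧸ K) ^ n ≤ ((maximalIdeal R).map (Ideal.Quotient.mk K)) ^ n :=
          Ideal.pow_right_mono hmax n
      _ = (maximalIdeal R ^ n).map (Ideal.Quotient.mk K) := (Ideal.map_pow _ _ _).symm
      _ ≤ K.map (Ideal.Quotient.mk K) := Ideal.map_mono hn
      _ = ⊥ := Ideal.map_quotient_self K
  -- `R₂` as an `R/K`-algebra
  let g : R ⧸ K →+* R₂ := Ideal.Quotient.lift K (algebraMap R R₂) (fun a ha => by
    rw [← RingHom.mem_ker, hK]; exact ha)
  letI : Algebra (R ⧸ K) R₂ := g.toAlgebra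
  haveI : IsScalarTower R (R ⧸ K) R₂ := IsScalarTower.of_algebraMap_eq (fun x => rfl)
  have hginj : Injective (algebraMap (R ⧸ K) R₂) := by
    change Injective g
    exact RingHom.lift_injective_of_ker_le_ideal K _ (le_of_eq hK)
  obtain ⟨I, hI⟩ := Groth.Agent.Lib.ArtinianFlatten88.exists_flattening_ideal_local
    (A := R ⧸ K) ((R ⧸ K) ⊗[R] X) hnil
  have h2 : Module.Flat R₂ (R₂ ⊗[R ⧸ K] ((R ⧸ K) ⊗[R] X)) :=
    Module.Flat.of_linearEquiv
      (TensorProduct.AlgebraTensorModule.cancelBaseChange R (R ⧸ K) R₂ R₂ X)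
  have h3 := (hI R₂).mp h2
  have h4 : I = ⊥ := by
    rw [eq_bot_iff]
    intro x hx
    have : algebraMap (R ⧸ K) R₂ x ∈ I.map (algebraMap (R ⧸ K) R₂) := Ideal.mem_map_of_mem _ hx
    rw [h3, Ideal.mem_bot] at this
    rw [Ideal.mem_bot]
    exact hginj (by rw [this, map_zero])
  have h5 : Module.Flat (R ⧸ K) ((R ⧸ K) ⊗[R ⧸ K] ((R ⧸ K) ⊗[R] X)) := by
    rw [hI (R ⧸ K), h4, Ideal.map_bot]
  exact Module.Flat.of_linearEquiv (TensorProduct.lid (R ⧸ K) ((R ⧸ K) ⊗[R] X)).symm

end ArtinDescent

section FlatAtPrimes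

variable {R' : Type*} [CommRing R'] [IsLocalRing R'] {S' : Type*} [CommRing S'] [Algebra R' S']
  {M' : Type*} [AddCommGroup M'] [Module S' M'] [Module R' M'] [IsScalarTower R' S' M']

/-- If `M'` is `R'`-flat at all primes of `S'` above the maximal ideal of the local ring `R'`, then
`M' ⊗ -` preserves injections whose source is killed by a power of the maximal ideal. -/
theorem lTensor_injective_of_flatAt
    (H : ∀ (q' : Ideal S') [q'.IsPrime], q'.comap (algebraMap R' S') = maximalIdeal R' →
      Module.Flat R' (LocalizedModule q'.primeCompl M'))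
    {N P : Type*} [AddCommGroup N] [Module R' N] [AddCommGroup P] [Module R' P]
    (n : ℕ) (hN : ∀ a ∈ maximalIdeal R' ^ n, ∀ x : N, a • x = 0)
    (g : N →ₗ[R'] P) (hg : Injective g) : Injective (g.lTensor M') := by
  rw [← AlgebraTensorModule.coe_lTensor (A := S')]
  refine injective_of_isLocalized_maximal _
    (fun Q _ => AlgebraTensorModule.rTensor R' N (LocalizedModule.mkLinearMap Q.primeCompl M')) _
    (fun Q _ => AlgebraTensorModule.rTensor R' P (LocalizedModule.mkLinearMap Q.primeCompl M')) _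
    fun Q hQ => ?_
  rw [IsLocalizedModule.map_lTensor]
  by_cases hQ' : Q.comap (algebraMap R' S') = maximalIdeal R'
  · have := H Q hQ'
    rw [AlgebraTensorModule.coe_lTensor]
    exact Module.Flat.lTensor_preserves_injective_linearMap g hg
  · -- the source vanishes
    have hle : Q.comap (algebraMap R' S') ≤ maximalIdeal R' :=
      le_maximalIdeal (Ideal.IsPrime.ne_top (Ideal.comap_isPrime _ _))
    obtain ⟨a, ha, haQ⟩ : ∃ a ∈ maximalIdeal R', a ∉ Q.comap (algebraMap R' S') := by
      by_contra hcon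
      push_neg at hcon
      exact hQ' (le_antisymm hle hcon)
    have hsub : Subsingleton (LocalizedModule Q.primeCompl M' ⊗[R'] N) := by
      refine ⟨fun x y => ?_⟩
      have hz : ∀ z : LocalizedModule Q.primeCompl M' ⊗[R'] N, z = 0 := by
        intro z
        induction z with
        | zero => rfl
        | add x y hx hy => rw [hx, hy, add_zero]
        | tmul x y =>
          have hmem : algebraMap R' S' (a ^ n) ∈ Q.primeCompl := by
            rw [map_pow]
            exact Q.primeCompl.pow_mem haQ n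
          have hbij := (Module.End.isUnit_iff _).mp
            (IsLocalizedModule.map_units (LocalizedModule.mkLinearMap Q.primeCompl M')
              ⟨algebraMap R' S' (a ^ n), hmem⟩)
          obtain ⟨x', hx'⟩ := hbij.2 x
          have hx'' : x = (a ^ n) • x' := by
            rw [← hx']
            change algebraMap R' S' (a ^ n) • x' = (a ^ n) • x'
            rw [algebraMap_smul]
          rw [hx'', TensorProduct.smul_tmul, hN (a ^ n) (Ideal.pow_mem_pow ha n) y, tmul_zero]
      rw [hz x, hz y]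
    exact Function.injective_of_subsingleton _

/-- If `M'` is `R'`-flat at all primes of `S'` above the maximal ideal of the local ring `R'`, then
`M'/J'M'` is flat over `R'/J'` for every ideal `J'` containing a power of the maximal ideal. -/
theorem flat_quotient_of_flatAt
    (H : ∀ (q' : Ideal S') [q'.IsPrime], q'.comap (algebraMap R' S') = maximalIdeal R' →
      Module.Flat R' (LocalizedModule q'.primeCompl M'))
    (J' : Ideal R') (n : ℕ) (hn : maximalIdeal R' ^ n ≤ J') :
    Module.Flat (R' ⧸ J') ((R' ⧸ J') ⊗[R'] M') := by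
  rw [Module.Flat.iff_rTensor_injective']
  intro 𝔞
  apply rTensor_injective_of_restrictScalars (R' ⧸ J')
  rw [← LinearMap.lTensor_inj_iff_rTensor_inj]
  refine lTensor_injective_of_flatAt H n ?_ _ 𝔞.subtype_injective
  intro a ha x
  have : a • x = (Ideal.Quotient.mk J' a) • x := rfl
  rw [this, Ideal.Quotient.eq_zero_iff_mem.mpr (hn ha), zero_smul]

end FlatAtPrimes

section Localize

open Groth.Agent.Lib.FlatLimStage88
open scoped Groth.Agent.Lib.FlatLimStage88

variable {R : Type*} [CommRing R] {S : Type*} [CommRing S] [Algebra R S]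
  {M : Type*} [AddCommGroup M] [Module S M] [Module R M] [IsScalarTower R S M]

/-- `X/KX` flat over `R/K` passes to localizations of `X` as an `S`-module. -/
theorem flat_quotient_localizedModule (K : Ideal R) [Module.Flat (R ⧸ K) ((R ⧸ K) ⊗[R] M)]
    (W : Submonoid S) : Module.Flat (R ⧸ K) ((R ⧸ K) ⊗[R] LocalizedModule W M) := by
  have := isLocalizedModule_stageMap R (R ⧸ K) W (LocalizedModule.mkLinearMap W M)
  exact Groth.Agent.Lib.H77GenFlatAlg.flat_of_isLocalizedModule (R ⧸ K)
    (A := (R ⧸ K) ⊗[R] S) (M := (R ⧸ K) ⊗[R] M) (N := (R ⧸ K) ⊗[R] LocalizedModule W M)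
    (stageSubmonoid R (R ⧸ K) W) (stageMap R (R ⧸ K) (LocalizedModule.mkLinearMap W M))

/-- Tensor form of base change of flatness at a prime, starting from flatness of the base change
of the localized module. -/
theorem flat_baseChange_at' (A : Type*) [CommRing A] [Algebra R A]
    (q' : Ideal (A ⊗[R] S)) [q'.IsPrime] (Q : Ideal S) [Q.IsPrime]
    (hQ : q'.comap (Algebra.TensorProduct.includeRight : S →ₐ[R] A ⊗[R] S) = Q)
    (h : Module.Flat A (A ⊗[R] LocalizedModule Q.primeCompl M)) :
    Module.Flat A (LocalizedModule q'.primeCompl (A ⊗[R] M)) := by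
  subst hQ
  have hWV : stageSubmonoid R A
      (q'.comap (Algebra.TensorProduct.includeRight : S →ₐ[R] A ⊗[R] S)).primeCompl ≤
      q'.primeCompl := by
    intro x hx
    obtain ⟨w, hw, rfl⟩ := (mem_stageSubmonoid R A _).mp hx
    exact hw
  exact Groth.Agent.Lib.H77GenFlatAlg.flat_of_isLocalizedModule A
    (M := A ⊗[R] LocalizedModule
      (q'.comap (Algebra.TensorProduct.includeRight : S →ₐ[R] A ⊗[R] S)).primeCompl M)
    (N := LocalizedModule q'.primeCompl (A ⊗[R] M)) q'.primeCompl
    (lamOf R A (q'.comap (Algebra.TensorProduct.includeRight : S →ₐ[R] A ⊗[R] S)).primeCompl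
      (LocalizedModule.mkLinearMap
        (q'.comap (Algebra.TensorProduct.includeRight : S →ₐ[R] A ⊗[R] S)).primeCompl M)
      q'.primeCompl hWV)

end Localize

section Pushout

open Groth.Agent.Lib.CritFibA88 Groth.Agent.Lib.FlatLimOpenBC88
open scoped Groth.Agent.Lib.FlatLimStage88

variable {R S R' S' : Type u} [CommRing R] [IsLocalRing R] [CommRing S]
  [CommRing R'] [IsLocalRing R'] [CommRing S']
  [Algebra R S] [Algebra R R'] [IsLocalHom (algebraMap R R')] [Algebra S S'] [Algebra R' S']
  [Algebra R S'] [IsScalarTower R S S'] [IsScalarTower R R' S'] [Algebra.IsPushout R S R' S']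
  {M M' : Type u} [AddCommGroup M] [Module S M] [Module R M] [IsScalarTower R S M]
  [AddCommGroup M'] [Module S' M'] [Module R' M'] [IsScalarTower R' S' M'] [Module S M']
  [IsScalarTower S S' M']

omit [IsLocalRing R] [IsLocalRing R'] [IsLocalHom (algebraMap R R')] in
/-- Abstract pushout form of `flat_baseChange_at'`. -/
theorem flatAt_baseChange' (f : M →ₗ[S] M') (hf : IsBaseChange S' f)
    (q' : Ideal S') [q'.IsPrime] (q : Ideal S) [q.IsPrime] (hq : q'.comap (algebraMap S S') = q)
    (h : Module.Flat R' (R' ⊗[R] LocalizedModule q.primeCompl M)) :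
    Module.Flat R' (LocalizedModule q'.primeCompl M') := by
  haveI : Algebra.IsPushout R R' S S' := Algebra.IsPushout.symm inferInstance
  let e := Algebra.IsPushout.equiv R R' S S'
  have hcontr : (q'.comap e.toRingEquiv).comap
      (Algebra.TensorProduct.includeRight : S →ₐ[R] R' ⊗[R] S) = q := by
    rw [← hq]
    ext x
    simp only [Ideal.mem_comap, Algebra.TensorProduct.includeRight_apply]
    change e ((1 : R') ⊗ₜ[R] x) ∈ q' ↔ _
    rw [Algebra.IsPushout.equiv_tmul, map_one, one_mul]
  have h1 := flat_baseChange_at' (R := R) (S := S) (M := M) R' (q'.comap e.toRingEquiv) q hcontr h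
  exact flat_localizedModule_of_semilinearEquiv e.toRingEquiv (bcEquiv f hf)
    (fun c x => bcEquiv_smul f hf c x) q' h1

omit [IsLocalRing R] [IsLocalRing R'] [IsLocalHom (algebraMap R R')] in
/-- `R₂ ⊗[R] M ≃ R₂ ⊗[R'] M'` for an `R'`-algebra `R₂`. -/
noncomputable def tensorEquivOfIsPushout (f : M →ₗ[S] M') (hf : IsBaseChange S' f)
    (R₂ : Type u) [CommRing R₂] [Algebra R' R₂] [Algebra R R₂] [IsScalarTower R R' R₂] :
    R₂ ⊗[R] M ≃ₗ[R₂] R₂ ⊗[R'] M' :=
  haveI : Algebra.IsPushout R R' S S' := Algebra.IsPushout.symm inferInstance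
  (TensorProduct.AlgebraTensorModule.cancelBaseChange R R' R₂ R₂ M).symm ≪≫ₗ
    TensorProduct.AlgebraTensorModule.congr (LinearEquiv.refl R₂ R₂) (bcEquiv f hf)

theorem map_maximalIdeal_le : (maximalIdeal R).map (algebraMap R R') ≤ maximalIdeal R' := by
  rw [Ideal.map_le_iff_le_comap]
  intro x hx
  rw [Ideal.mem_comap, mem_maximalIdeal, mem_nonunits_iff]
  rw [mem_maximalIdeal, mem_nonunits_iff] at hx
  intro h
  exact hx (isUnit_of_map_unit (algebraMap R R') x h)

/-- (⇒), Artinian level: flatness of `M'` at the primes above `𝔪'` forces `M/K M` to be flat over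
`R/K` at the primes above `𝔪`, for `K = ker (R → R'/𝔪'ⁿ⁺¹)`. -/
theorem flatModAt_ker_of_flatAt (f : M →ₗ[S] M') (hf : IsBaseChange S' f)
    (H : ∀ (q' : Ideal S') [q'.IsPrime], q'.comap (algebraMap R' S') = maximalIdeal R' →
      Module.Flat R' (LocalizedModule q'.primeCompl M')) (n : ℕ) :
    FlatModAt R S M (RingHom.ker (algebraMap R (R' ⧸ maximalIdeal R' ^ (n + 1)))) := by
  set J' := maximalIdeal R' ^ (n + 1) with hJ'
  have E : Module.Flat (R' ⧸ J') ((R' ⧸ J') ⊗[R'] M') :=
    flat_quotient_of_flatAt H J' (n + 1) le_rfl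
  have F2 : Module.Flat (R' ⧸ J') ((R' ⧸ J') ⊗[R] M) :=
    Module.Flat.of_linearEquiv (tensorEquivOfIsPushout (R := R) (R' := R') (S := S) (S' := S') f hf (R' ⧸ J'))
  have hJ'top : J' ≠ ⊤ := by
    intro h
    have h1 : J' ≤ maximalIdeal R' := Ideal.pow_le_self (Nat.succ_ne_zero n)
    rw [h] at h1
    exact (Ideal.IsPrime.ne_top inferInstance) (top_le_iff.mp h1)
  haveI : Nontrivial (R' ⧸ J') := Ideal.Quotient.nontrivial_iff.mpr hJ'top
  have hKtop : RingHom.ker (algebraMap R (R' ⧸ J')) ≠ ⊤ := by
    intro h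
    have : (1 : R) ∈ RingHom.ker (algebraMap R (R' ⧸ J')) := h ▸ Submodule.mem_top
    rw [RingHom.mem_ker, map_one] at this
    exact one_ne_zero this
  have hn : maximalIdeal R ^ (n + 1) ≤ RingHom.ker (algebraMap R (R' ⧸ J')) := by
    intro a ha
    rw [RingHom.mem_ker, IsScalarTower.algebraMap_apply R R' (R' ⧸ J'),
      Ideal.Quotient.algebraMap_eq, Ideal.Quotient.eq_zero_iff_mem]
    have h1 : algebraMap R R' a ∈ (maximalIdeal R ^ (n + 1)).map (algebraMap R R') :=
      Ideal.mem_map_of_mem _ ha
    rw [Ideal.map_pow] at h1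
    exact Ideal.pow_right_mono map_maximalIdeal_le (n + 1) h1
  have G := flat_quotient_of_ker_of_flat (R := R) (R₂ := R' ⧸ J') M
    (RingHom.ker (algebraMap R (R' ⧸ J'))) rfl hKtop (n + 1) hn
  intro q _ _
  exact flat_quotient_localizedModule _ q.primeCompl

/-- (⇒): if `M'` is flat over the Noetherian local ring `R'` at all primes above `𝔪'` then any
ideal `I` which is smallest for `FlatModAt` dies in `R'`. -/
theorem le_ker_of_flatAt [IsNoetherianRing R'] (f : M →ₗ[S] M') (hf : IsBaseChange S' f)
    (H : ∀ (q' : Ideal S') [q'.IsPrime], q'.comap (algebraMap R' S') = maximalIdeal R' →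
      Module.Flat R' (LocalizedModule q'.primeCompl M'))
    (I : Ideal R) (hmin : ∀ J : Ideal R, FlatModAt R S M J → I ≤ J) :
    I ≤ RingHom.ker (algebraMap R R') := by
  intro x hx
  rw [RingHom.mem_ker]
  have h1 : ∀ n : ℕ, algebraMap R R' x ∈ maximalIdeal R' ^ n := by
    intro n
    have h2 := hmin _ (flatModAt_ker_of_flatAt f hf H n) hx
    rw [RingHom.mem_ker, IsScalarTower.algebraMap_apply R R' (R' ⧸ maximalIdeal R' ^ (n + 1)),
      Ideal.Quotient.algebraMap_eq, Ideal.Quotient.eq_zero_iff_mem] at h2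
    exact Ideal.pow_le_pow_right (Nat.le_succ n) h2
  have h3 : algebraMap R R' x ∈ ⨅ i, maximalIdeal R' ^ i := Ideal.mem_iInf.mpr h1
  rw [Ideal.iInf_pow_eq_bot_of_isLocalRing _ (Ideal.IsPrime.ne_top inferInstance)] at h3
  exact h3

/-- (⇐): if `I` dies in `R'` and `(M/IM)_𝔮` is flat over `R/I` at all primes above `𝔪`, then `M'`
is flat over `R'` at all primes above `𝔪'`. -/
theorem flatAt_of_le_ker (f : M →ₗ[S] M') (hf : IsBaseChange S' f) (I : Ideal R)
    (hI : FlatModAt R S M I) (hle : I ≤ RingHom.ker (algebraMap R R'))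
    (q' : Ideal S') [q'.IsPrime] (hq' : q'.comap (algebraMap R' S') = maximalIdeal R') :
    Module.Flat R' (LocalizedModule q'.primeCompl M') := by
  set q := q'.comap (algebraMap S S') with hqdef
  have hq : q.comap (algebraMap R S) = maximalIdeal R := by
    ext x
    rw [hqdef, Ideal.mem_comap, Ideal.mem_comap, ← IsScalarTower.algebraMap_apply R S S',
      IsScalarTower.algebraMap_apply R R' S', ← Ideal.mem_comap, hq', mem_maximalIdeal,
      mem_maximalIdeal, map_mem_nonunits_iff]
  have h1 := hI q hq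
  let g : R ⧸ I →+* R' := Ideal.Quotient.lift I (algebraMap R R') (fun a ha => hle ha)
  letI : Algebra (R ⧸ I) R' := g.toAlgebra
  haveI : IsScalarTower R (R ⧸ I) R' := IsScalarTower.of_algebraMap_eq (fun x => rfl)
  have h2 : Module.Flat R' (R' ⊗[R] LocalizedModule q.primeCompl M) :=
    Module.Flat.of_linearEquiv
      (TensorProduct.AlgebraTensorModule.cancelBaseChange R (R ⧸ I) R' R'
        (LocalizedModule q.primeCompl M)).symm
  exact flatAt_baseChange' f hf q' q rfl h2

end Pushout

end Groth.Agent.Lib.FlattenIdealB88
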