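import Mathlib
import Groth.Agent.Lib.FlattenIdealB88

/-!
# The flattening ideal: universal property for arbitrary local targets (helper88)

Generalisations of `FlattenIdealB88` to a (not necessarily local) base `B` with an ideal `𝔭`, a
limit argument descending flatness along `V(𝔭)` to a finitely generated stage, and the universal
property of the flattening ideal for local homomorphisms to arbitrary local rings.
-/

set_option autoImplicit false
set_option maxHeartbeats 400000
set_option linter.unusedSectionVars false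
set_option linter.style.haveILetI false
universe u

namespace Groth.Agent.Lib.FlattenIdealC88

open TensorProduct Function IsLocalRing Groth.Agent.Lib.FlatCrit Groth.Agent.Lib.FlattenIdealA88
  Groth.Agent.Lib.FlattenIdealB88

section FlatAlong

variable {R' : Type*} [CommRing R'] {S' : Type*} [CommRing S'] [Algebra R' S']
  {M' : Type*} [AddCommGroup M'] [Module S' M'] [Module R' M'] [IsScalarTower R' S' M']

/-- If `M'` is `R'`-flat at all primes of `S'` above `V(𝔭)`, then `M' ⊗ -` preserves injections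
whose source is killed by a power of `𝔭`. -/
theorem lTensor_injective_of_flatAlong (𝔭 : Ideal R')
    (H : ∀ (q' : Ideal S') [q'.IsPrime], 𝔭 ≤ q'.comap (algebraMap R' S') →
      Module.Flat R' (LocalizedModule q'.primeCompl M'))
    {N P : Type*} [AddCommGroup N] [Module R' N] [AddCommGroup P] [Module R' P]
    (n : ℕ) (hN : ∀ a ∈ 𝔭 ^ n, ∀ x : N, a • x = 0)
    (g : N →ₗ[R'] P) (hg : Injective g) : Injective (g.lTensor M') := by
  rw [← AlgebraTensorModule.coe_lTensor (A := S')]
  refine injective_of_isLocalized_maximal _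
    (fun Q _ => AlgebraTensorModule.rTensor R' N (LocalizedModule.mkLinearMap Q.primeCompl M')) _
    (fun Q _ => AlgebraTensorModule.rTensor R' P (LocalizedModule.mkLinearMap Q.primeCompl M')) _
    fun Q hQ => ?_
  rw [IsLocalizedModule.map_lTensor]
  by_cases hQ' : 𝔭 ≤ Q.comap (algebraMap R' S')
  · have := H Q hQ'
    rw [AlgebraTensorModule.coe_lTensor]
    exact Module.Flat.lTensor_preserves_injective_linearMap g hg
  · obtain ⟨a, ha, haQ⟩ : ∃ a ∈ 𝔭, a ∉ Q.comap (algebraMap R' S') := by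
      by_contra hcon
      push_neg at hcon
      exact hQ' hcon
    have hsub : Subsingleton (LocalizedModule Q.primeCompl M' ⊗[R'] N) := by
      refine ⟨fun x y => ?_⟩
      have hz : ∀ z : LocalizedModule Q.primeCompl M' ⊗[R'] N, z = 0 := by
        intro z
        induction z with
        | zero => rfl
        | add x y hx hy => rw [hx, hy, add_zero]
        | tmul x y =>
          have hmem : algebraMap R' S' (a ^ n) ∈ Q.primeCompl := by
            rw [map_pow]
            exact Q.primeCompl.pow_mem haQ n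
          have hbij := (Module.End.isUnit_iff _).mp
            (IsLocalizedModule.map_units (LocalizedModule.mkLinearMap Q.primeCompl M')
              ⟨algebraMap R' S' (a ^ n), hmem⟩)
          obtain ⟨x', hx'⟩ := hbij.2 x
          have hx'' : x = (a ^ n) • x' := by
            rw [← hx']
            change algebraMap R' S' (a ^ n) • x' = (a ^ n) • x'
            rw [algebraMap_smul]
          rw [hx'', TensorProduct.smul_tmul, hN (a ^ n) (Ideal.pow_mem_pow ha n) y, tmul_zero]
      rw [hz x, hz y]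
    exact Function.injective_of_subsingleton _

/-- If `M'` is `R'`-flat at all primes of `S'` above `V(𝔭)`, then `M'/J'M'` is flat over `R'/J'` for
every ideal `J'` containing a power of `𝔭`. -/
theorem flat_quotient_of_flatAlong (𝔭 : Ideal R')
    (H : ∀ (q' : Ideal S') [q'.IsPrime], 𝔭 ≤ q'.comap (algebraMap R' S') →
      Module.Flat R' (LocalizedModule q'.primeCompl M'))
    (J' : Ideal R') (n : ℕ) (hn : 𝔭 ^ n ≤ J') :
    Module.Flat (R' ⧸ J') ((R' ⧸ J') ⊗[R'] M') := by
  rw [Module.Flat.iff_rTensor_injective']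
  intro 𝔞
  apply rTensor_injective_of_restrictScalars (R' ⧸ J')
  rw [← LinearMap.lTensor_inj_iff_rTensor_inj]
  refine lTensor_injective_of_flatAlong 𝔭 H n ?_ _ 𝔞.subtype_injective
  intro a ha x
  have : a • x = (Ideal.Quotient.mk J' a) • x := rfl
  rw [this, Ideal.Quotient.eq_zero_iff_mem.mpr (hn ha), zero_smul]

end FlatAlong

section TensorForm

open Groth.Agent.Lib.FlatLimStage88
open scoped Groth.Agent.Lib.FlatLimStage88

variable {R S : Type u} [CommRing R] [IsLocalRing R] [CommRing S] [Algebra R S]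
  {M : Type u} [AddCommGroup M] [Module S M] [Module R M] [IsScalarTower R S M]
  (B : Type u) [CommRing B] [Algebra R B]

/-- Tensor form of `flatModAt_ker_of_flatAt` over a base `B` with an ideal `𝔭` containing the
image of the maximal ideal. -/
theorem flatModAt_ker_of_flatAlong (𝔭 : Ideal B) (h𝔭top : 𝔭 ≠ ⊤)
    (h𝔭 : (maximalIdeal R).map (algebraMap R B) ≤ 𝔭)
    (H : ∀ (Q : Ideal (B ⊗[R] S)) [Q.IsPrime], 𝔭 ≤ Q.comap (algebraMap B (B ⊗[R] S)) →
      Module.Flat B (LocalizedModule Q.primeCompl (B ⊗[R] M))) (n : ℕ) :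
    FlatModAt R S M (RingHom.ker (algebraMap R (B ⧸ 𝔭 ^ (n + 1)))) := by
  set J' := 𝔭 ^ (n + 1) with hJ'
  have E : Module.Flat (B ⧸ J') ((B ⧸ J') ⊗[B] (B ⊗[R] M)) :=
    flat_quotient_of_flatAlong (S' := B ⊗[R] S) 𝔭 H J' (n + 1) le_rfl
  have F2 : Module.Flat (B ⧸ J') ((B ⧸ J') ⊗[R] M) :=
    Module.Flat.of_linearEquiv
      (TensorProduct.AlgebraTensorModule.cancelBaseChange R B (B ⧸ J') (B ⧸ J') M).symm
  have hJ'top : J' ≠ ⊤ := by
    intro h
    have h1 : J' ≤ 𝔭 := Ideal.pow_le_self (Nat.succ_ne_zero n)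
    rw [h] at h1
    exact h𝔭top (top_le_iff.mp h1)
  haveI : Nontrivial (B ⧸ J') := Ideal.Quotient.nontrivial_iff.mpr hJ'top
  have hKtop : RingHom.ker (algebraMap R (B ⧸ J')) ≠ ⊤ := by
    intro h
    have : (1 : R) ∈ RingHom.ker (algebraMap R (B ⧸ J')) := h ▸ Submodule.mem_top
    rw [RingHom.mem_ker, map_one] at this
    exact one_ne_zero this
  have hn : maximalIdeal R ^ (n + 1) ≤ RingHom.ker (algebraMap R (B ⧸ J')) := by
    intro a ha
    rw [RingHom.mem_ker, IsScalarTower.algebraMap_apply R B (B ⧸ J'),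
      Ideal.Quotient.algebraMap_eq, Ideal.Quotient.eq_zero_iff_mem]
    have h1 : algebraMap R B a ∈ (maximalIdeal R ^ (n + 1)).map (algebraMap R B) :=
      Ideal.mem_map_of_mem _ ha
    rw [Ideal.map_pow] at h1
    exact Ideal.pow_right_mono h𝔭 (n + 1) h1
  have G := flat_quotient_of_ker_of_flat (R := R) (R₂ := B ⧸ J') M
    (RingHom.ker (algebraMap R (B ⧸ J'))) rfl hKtop (n + 1) hn
  intro q _ _
  exact flat_quotient_localizedModule _ q.primeCompl

end TensorForm

section Limit

open Groth.Agent.Lib.FlatLimStage88 Groth.Agent.Lib.FlatLimCore88 Groth.Agent.Lib.FlatLimGlobal88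
open scoped Groth.Agent.Lib.FlatLimStage88

/-- **Descent of flatness along `V(𝔫)`** to a finitely generated stage: if `R ⊗[k] M₀` is flat over
`R` at all primes of `R ⊗[k] S₀` above `V(𝔫)`, then for some finitely generated `k`-subalgebra
`A ⊆ R`, `A ⊗[k] M₀` is flat over `A` at all primes of `A ⊗[k] S₀` above `V(𝔫 ∩ A)`. -/
theorem exists_fg_flat_along {k R : Type u} (S₀ : Type u) {M₀ : Type u} [CommRing k]
    [IsNoetherianRing k] [CommRing R] [Algebra k R]
    [CommRing S₀] [Algebra k S₀] [Algebra.FiniteType k S₀]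
    [AddCommGroup M₀] [Module k M₀] [Module S₀ M₀] [IsScalarTower k S₀ M₀] [Module.Finite S₀ M₀]
    (𝔫 : Ideal R)
    (H : ∀ (q : Ideal (R ⊗[k] S₀)) [q.IsPrime], 𝔫 ≤ q.comap (algebraMap R (R ⊗[k] S₀)) →
      Module.Flat R (LocalizedModule q.primeCompl (R ⊗[k] M₀))) :
    ∃ A : Subalgebra k R, A.FG ∧ ∀ (Q : Ideal (A ⊗[k] S₀)) [Q.IsPrime],
      𝔫.comap (algebraMap A R) ≤ Q.comap (algebraMap A (A ⊗[k] S₀)) →
        Module.Flat A (LocalizedModule Q.primeCompl (A ⊗[k] M₀)) := by
  classical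
  let V := {q : PrimeSpectrum (R ⊗[k] S₀) // 𝔫 ≤ q.asIdeal.comap (algebraMap R (R ⊗[k] S₀))}
  have key : ∀ q : V, ∃ (A : Subalgebra k R) (g : A ⊗[k] S₀), A.FG ∧
      sMap A.val S₀ g ∉ q.1.asIdeal ∧ ∀ (Q : Ideal (A ⊗[k] S₀)) [Q.IsPrime], g ∉ Q →
        Module.Flat A (LocalizedModule Q.primeCompl (A ⊗[k] M₀)) := fun q => by
    haveI := H q.1.asIdeal q.2
    exact exists_stage_nhd (M₀ := M₀) q.1.asIdeal
  choose Aq gq hAq hgq hflatq using key
  have htop : Ideal.span (Set.range fun q : V => sMap (Aq q).val S₀ (gq q)) ⊔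
      𝔫.map (algebraMap R (R ⊗[k] S₀)) = ⊤ := by
    by_contra hne
    obtain ⟨m, hm, hle⟩ := Ideal.exists_le_maximal _ hne
    have hmV : 𝔫 ≤ m.comap (algebraMap R (R ⊗[k] S₀)) :=
      Ideal.map_le_iff_le_comap.mp (le_sup_right.trans hle)
    exact hgq ⟨⟨m, hm.isPrime⟩, hmV⟩ (hle (Ideal.mem_sup_left (Ideal.subset_span ⟨_, rfl⟩)))
  have h1 : (1 : R ⊗[k] S₀) ∈ Ideal.span (Set.range fun q : V => sMap (Aq q).val S₀ (gq q)) ⊔
      𝔫.map (algebraMap R (R ⊗[k] S₀)) := by rw [htop]; trivial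
  obtain ⟨y, hy, z, hz, hyz⟩ := Submodule.mem_sup.mp h1
  obtain ⟨c, hc⟩ := Finsupp.mem_ideal_span_range_iff_exists_finsupp.mp hy
  have hz' : z ∈ Submodule.span (R ⊗[k] S₀) ((algebraMap R (R ⊗[k] S₀)) '' (𝔫 : Set R)) := hz
  rw [Submodule.mem_span_image_iff_exists_fun] at hz'
  obtain ⟨t, ht, d, hd⟩ := hz'
  -- lift the coefficients
  obtain ⟨A₁, hA₁, hx⟩ := exists_fg_lift (R := R) S₀ (fun l : c.support => c l)
  choose x hx using hx
  obtain ⟨A₁', hA₁', hx'⟩ := exists_fg_lift (R := R) S₀ (fun i : t => d i)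
  choose x' hx' using hx'
  let A₃ : Subalgebra k R := Algebra.adjoin k (t : Set R)
  have hA₃ : A₃.FG := Subalgebra.fg_adjoin_finset t
  let A₂ : Subalgebra k R := (A₁ ⊔ A₁') ⊔ (A₃ ⊔ c.support.sup Aq)
  have hA₂ : A₂.FG := (hA₁.sup hA₁').sup (hA₃.sup (fg_finset_sup _ Aq (fun q => hAq q)))
  have h₁ : A₁ ≤ A₂ := le_sup_left.trans le_sup_left
  have h₁' : A₁' ≤ A₂ := le_sup_right.trans le_sup_left
  have h₃ : A₃ ≤ A₂ := le_sup_left.trans le_sup_right
  have hq : ∀ l : c.support, Aq l ≤ A₂ := fun l =>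
    (Finset.le_sup (f := Aq) l.2).trans (le_sup_right.trans le_sup_right)
  let nn : t → A₂ := fun i => ⟨i.1, h₃ (Algebra.subset_adjoin i.2)⟩
  let E : A₂ ⊗[k] S₀ := ∑ l : c.support, sMap (Subalgebra.inclusion h₁) S₀ (x l) *
      sMap (Subalgebra.inclusion (hq l)) S₀ (gq l) +
    ∑ i : t, sMap (Subalgebra.inclusion h₁') S₀ (x' i) * (nn i ⊗ₜ[k] (1 : S₀)) - 1
  have hE : mMap A₂.val S₀ E = 0 := by
    rw [← sMap_eq_mMap]
    simp only [E, map_sub, map_add, map_sum, map_mul, map_one, sMap_val_inclusion, sMap_tmul]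
    rw [sub_eq_zero, ← hyz, ← hc, ← hd, Finsupp.sum, ← Finset.sum_coe_sort c.support]
    congr 1
    · refine Finset.sum_congr rfl fun l _ => ?_
      rw [sMap_eq_mMap A₁.val, hx]
    · refine Finset.sum_congr rfl fun i _ => ?_
      rw [sMap_eq_mMap A₁'.val, hx', smul_eq_mul, Algebra.TensorProduct.algebraMap_apply]
      rfl
  obtain ⟨B, hAB, hB, hBE⟩ := exists_fg_eq_zero (R := R) S₀ hA₂ (fun _ : Unit => E)
    (fun _ => hE)
  have hBE' : sMap (Subalgebra.inclusion hAB) S₀ E = 0 := by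
    rw [sMap_eq_mMap]; exact hBE ()
  have hsum : ∑ l : c.support, sMap (Subalgebra.inclusion (h₁.trans hAB)) S₀ (x l) *
      sMap (Subalgebra.inclusion ((hq l).trans hAB)) S₀ (gq l) +
      ∑ i : t, sMap (Subalgebra.inclusion (h₁'.trans hAB)) S₀ (x' i) *
        ((Subalgebra.inclusion hAB (nn i)) ⊗ₜ[k] (1 : S₀)) = 1 := by
    simp only [E, map_sub, map_add, map_sum, map_mul, map_one, sMap_inclusion_inclusion,
      sMap_tmul] at hBE'
    exact sub_eq_zero.mp hBE'
  refine ⟨B, hB, ?_⟩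
  intro Q hQ hQ𝔫
  -- some generator avoids `Q`
  have hex : ∃ l : c.support, sMap (Subalgebra.inclusion ((hq l).trans hAB)) S₀ (gq l) ∉ Q := by
    by_contra hall
    push_neg at hall
    have : (1 : B ⊗[k] S₀) ∈ Q := by
      rw [← hsum]
      refine Q.add_mem (Q.sum_mem fun l _ => Q.mul_mem_left _ (hall l))
        (Q.sum_mem fun i _ => Q.mul_mem_left _ ?_)
      have hmem : Subalgebra.inclusion hAB (nn i) ∈ 𝔫.comap (algebraMap B R) := by
        rw [Ideal.mem_comap]
        exact ht i.2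
      have := hQ𝔫 hmem
      rw [Ideal.mem_comap, Algebra.TensorProduct.algebraMap_apply] at this
      exact this
    exact hQ.ne_top ((Ideal.eq_top_iff_one Q).mpr this)
  obtain ⟨l, hl⟩ := hex
  apply flat_stage_mono_subalgebra ((hq l).trans hAB) Q
  exact hflatq l _ hl

end Limit

section Universal

open Groth.Agent.Lib.CritFibA88 Groth.Agent.Lib.FlatLimOpenBC88
open scoped Groth.Agent.Lib.FlatLimStage88

variable {R S R' S' : Type u} [CommRing R] [IsLocalRing R] [IsNoetherianRing R] [CommRing S]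
  [CommRing R'] [IsLocalRing R'] [CommRing S']
  [Algebra R S] [Algebra.FiniteType R S] [Algebra R R'] [IsLocalHom (algebraMap R R')]
  [Algebra S S'] [Algebra R' S']
  [Algebra R S'] [IsScalarTower R S S'] [IsScalarTower R R' S'] [Algebra.IsPushout R S R' S']
  {M M' : Type u} [AddCommGroup M] [Module S M] [Module R M] [IsScalarTower R S M]
  [Module.Finite S M]
  [AddCommGroup M'] [Module S' M'] [Module R' M'] [IsScalarTower R' S' M'] [Module S M']
  [IsScalarTower S S' M']

/-- Translation of the flatness hypothesis to the tensor form. -/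
theorem flatAlong_tensor_of_flatAt (f : M →ₗ[S] M') (hf : IsBaseChange S' f)
    (H : ∀ (q' : Ideal S') [q'.IsPrime], q'.comap (algebraMap R' S') = maximalIdeal R' →
      Module.Flat R' (LocalizedModule q'.primeCompl M'))
    (q : Ideal (R' ⊗[R] S)) [q.IsPrime]
    (hq : maximalIdeal R' ≤ q.comap (algebraMap R' (R' ⊗[R] S))) :
    Module.Flat R' (LocalizedModule q.primeCompl (R' ⊗[R] M)) := by
  haveI : Algebra.IsPushout R R' S S' := Algebra.IsPushout.symm inferInstance
  let e := Algebra.IsPushout.equiv R R' S S'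
  let ε : R' ⊗[R] M ≃ₗ[R'] M' := bcEquiv f hf
  have hε : ∀ (c : S') (x : M'), ε.symm (c • x) = e.symm c • ε.symm x := by
    intro c x
    apply ε.injective
    rw [LinearEquiv.apply_symm_apply, bcEquiv_smul, AlgEquiv.apply_symm_apply,
      LinearEquiv.apply_symm_apply]
  set q' : Ideal S' := q.comap e.symm.toRingEquiv with hq'def
  have hq' : q'.comap (algebraMap R' S') = maximalIdeal R' := by
    refine le_antisymm (le_maximalIdeal (Ideal.IsPrime.ne_top (Ideal.comap_isPrime _ _))) ?_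
    intro a ha
    have h1 := hq ha
    rw [Ideal.mem_comap] at h1 ⊢
    rw [hq'def, Ideal.mem_comap]
    change e.symm (algebraMap R' S' a) ∈ q
    rw [AlgEquiv.commutes]
    exact h1
  have h2 := H q' hq'
  exact flat_localizedModule_of_semilinearEquiv e.symm.toRingEquiv ε.symm hε q h2

/-- (⇒) for arbitrary local `R'`: if `M'` is flat over `R'` at all primes above `𝔪'` then any
ideal `I` which is smallest for `FlatModAt` dies in `R'`. -/
theorem le_ker_of_flatAt_of_finiteType (f : M →ₗ[S] M') (hf : IsBaseChange S' f)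
    (H : ∀ (q' : Ideal S') [q'.IsPrime], q'.comap (algebraMap R' S') = maximalIdeal R' →
      Module.Flat R' (LocalizedModule q'.primeCompl M'))
    (I : Ideal R) (hmin : ∀ J : Ideal R, FlatModAt R S M J → I ≤ J) :
    I ≤ RingHom.ker (algebraMap R R') := by
  obtain ⟨A, hA, HA⟩ := exists_fg_flat_along (k := R) (R := R') S (M₀ := M) (maximalIdeal R')
    (fun q _ hq => flatAlong_tensor_of_flatAt f hf H q hq)
  have : Algebra.FiniteType R A := (Subalgebra.fg_iff_finiteType A).mp hA
  have : IsNoetherianRing A := Algebra.FiniteType.isNoetherianRing R A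
  set 𝔭 : Ideal A := (maximalIdeal R').comap (algebraMap A R') with h𝔭def
  have h𝔭top : 𝔭 ≠ ⊤ := by
    intro h
    have h1 : (1 : A) ∈ 𝔭 := h ▸ Submodule.mem_top
    rw [h𝔭def, Ideal.mem_comap, map_one] at h1
    exact (Ideal.IsPrime.ne_top inferInstance) ((Ideal.eq_top_iff_one _).mpr h1)
  have h𝔭 : (maximalIdeal R).map (algebraMap R A) ≤ 𝔭 := by
    rw [Ideal.map_le_iff_le_comap]
    intro r hr
    rw [Ideal.mem_comap, h𝔭def, Ideal.mem_comap, ← IsScalarTower.algebraMap_apply R A R']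
    exact map_maximalIdeal_le (Ideal.mem_map_of_mem _ hr)
  intro x hx
  rw [RingHom.mem_ker]
  have h1 : ∀ n : ℕ, algebraMap R A x ∈ 𝔭 ^ n := by
    intro n
    have h2 := hmin _ (flatModAt_ker_of_flatAlong (M := M) A 𝔭 h𝔭top h𝔭 HA n) hx
    rw [RingHom.mem_ker, IsScalarTower.algebraMap_apply R A (A ⧸ 𝔭 ^ (n + 1)),
      Ideal.Quotient.algebraMap_eq, Ideal.Quotient.eq_zero_iff_mem] at h2
    exact Ideal.pow_le_pow_right (Nat.le_succ n) h2
  have h3 : algebraMap R A x ∈ (⨅ i : ℕ, 𝔭 ^ i • ⊤ : Submodule A A) := by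
    rw [Submodule.mem_iInf]
    intro i
    rw [smul_eq_mul, Ideal.mul_top]
    exact h1 i
  obtain ⟨r, hr⟩ := (Ideal.mem_iInf_smul_pow_eq_bot_iff 𝔭 (algebraMap R A x)).mp h3
  -- pass to `R'`
  have h4 : algebraMap A R' (r : A) * algebraMap R R' x = algebraMap R R' x := by
    rw [IsScalarTower.algebraMap_apply R A R', ← map_mul, ← smul_eq_mul, hr]
  have h5 : algebraMap A R' (r : A) ∈ maximalIdeal R' := r.2
  have h6 : IsUnit (1 - algebraMap A R' (r : A)) := by
    by_contra hnu
    have h7 : 1 - algebraMap A R' (r : A) ∈ maximalIdeal R' := (mem_maximalIdeal _).mpr hnu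
    have h8 : (1 : R') ∈ maximalIdeal R' := by
      have := (maximalIdeal R').add_mem h7 h5
      rwa [sub_add_cancel] at this
    exact (Ideal.IsPrime.ne_top inferInstance) ((Ideal.eq_top_iff_one _).mpr h8)
  have h9 : (1 - algebraMap A R' (r : A)) * algebraMap R R' x = 0 := by
    rw [sub_mul, one_mul, h4, sub_self]
  exact (h6.mul_right_eq_zero).mp h9

end Universal

end Groth.Agent.Lib.FlattenIdealC88
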