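import Groth.Prelude.Def_ega3
import Groth.Prelude.Def_Formal2
import Groth.Agent.Lib.CohLESLinear
import Groth.Agent.Lib.CohFormal

/-!
# The submodules `I^n F`: Rees multiplication maps and the bridge to `CohIII.idealMul` (helper48)

Setting: `A` a commutative ring, `X` over `Spec A`, `I : Ideal A`, `F : X.Modules`.
`P I F n := Formal2.idealPowMod I n F` (kernel of `F ⟶ F/I^nF`), `ι I F n : P I F n ⟶ F`.

* `mulTo I F a ha h : P I F k ⟶ P I F n` for `a ∈ I^r`, `n ≤ k + r`: multiplication by `a`, with flexible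
  indices (so that no casts are ever needed); characterised by `mulTo_ι`.
  Identities `mulTo_comp_incl`, `incl_comp_mulTo`, `mulTo_comp_mulTo`, `incl_comp_smulMod`, `smulMod_comp_mulTo`,
  `mulTo_add`, `mulTo_one`.
* `bridge I F J n hJ : CohIII.idealMul J F ≅ P I F n` for `J = I^n`, over `F` (`bridge_hom_ι`);
  `mulMap_bridge` : `CohIII.mulMap` corresponds to `mulTo`.
* cohomology: `Hmap_smulMod` (`H^p` of multiplication by `a` is the `A`-scalar multiplication),
  `gen_of_rees` : the conclusion of the frozen S2435 in `mulTo` form (as a supremum of ranges of `A`-linear maps).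
* `image_bound` : the conclusion of S0853 from the conclusion of the frozen S2435.
-/

set_option autoImplicit false
universe u
open CategoryTheory CategoryTheory.Limits AlgebraicGeometry Opposite

namespace Groth.Agent.Lib.FormalFn48

open Groth.Agent.Lib

variable {A : Type u} [CommRing A] {X : Scheme.{u}} [X.Over (Spec (CommRingCat.of A))]

section Sheaf

variable (I : Ideal A) (F : X.Modules)

/-- `I^n F`. -/
noncomputable abbrev P (n : ℕ) : X.Modules := Formal2.idealPowMod I n F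

/-- `I^n F ⟶ F`. -/
noncomputable abbrev ι (n : ℕ) : P I F n ⟶ F := Formal2.idealPowModι I n F

theorem incl_ι {m n : ℕ} (h : m ≤ n) : Formal2.idealPowIncl I h F ≫ ι I F m = ι I F n :=
  kernel.lift_ι _ _ _

/-- The epimorphism `∐_{b ∈ I^n} F ⟶ I^n F`. -/
noncomputable def cover (n : ℕ) : (∐ fun _ : ↥(I ^ n) => F) ⟶ P I F n :=
  Abelian.factorThruImage (Formal.smulFamily (I ^ n) F)

instance (n : ℕ) : Epi (cover I F n) :=
  inferInstanceAs (Epi (Abelian.factorThruImage (Formal.smulFamily (I ^ n) F)))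

theorem cover_ι (n : ℕ) : cover I F n ≫ ι I F n = Formal.smulFamily (I ^ n) F :=
  Abelian.image.fac _

theorem smulMod_modPowπ_eq_zero {n : ℕ} {a : A} (ha : a ∈ I ^ n) :
    Formal.smulMod A F a ≫ Formal.modPowπ I n F = 0 := by
  have e : Formal.smulMod A F a =
      Sigma.ι (fun _ : ↥(I ^ n) => F) ⟨a, ha⟩ ≫ Formal.smulFamily (I ^ n) F := by
    simp [Formal.smulFamily]
  have hc : Formal.smulFamily (I ^ n) F ≫ Formal.modPowπ I n F = 0 := cokernel.condition _
  rw [e, Category.assoc, hc, comp_zero]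

theorem mulTo_aux {r k n : ℕ} {a : A} (ha : a ∈ I ^ r) (h : n ≤ k + r) :
    (ι I F k ≫ Formal.smulMod A F a) ≫ Formal.modPowπ I n F = 0 := by
  rw [← cancel_epi (cover I F k), comp_zero, ← Category.assoc, ← Category.assoc, cover_ι]
  apply Sigma.hom_ext
  intro b
  have hab : a * (b : A) ∈ I ^ n :=
    Ideal.pow_le_pow_right h (by rw [pow_add, mul_comm]; exact Ideal.mul_mem_mul ha b.2)
  have e : Sigma.ι (fun _ : ↥(I ^ k) => F) b ≫ Formal.smulFamily (I ^ k) F =
      Formal.smulMod A F (b : A) := by simp [Formal.smulFamily]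
  rw [comp_zero, ← Category.assoc, ← Category.assoc, e, ← CohIII.smulMod_mul]
  exact smulMod_modPowπ_eq_zero I F hab

/-- Multiplication by `a ∈ I^r` as a morphism `I^k F ⟶ I^n F` for `n ≤ k + r`. -/
noncomputable def mulTo {r k n : ℕ} (a : A) (ha : a ∈ I ^ r) (h : n ≤ k + r) : P I F k ⟶ P I F n :=
  kernel.lift _ (ι I F k ≫ Formal.smulMod A F a) (mulTo_aux I F ha h)

@[reassoc]
theorem mulTo_ι {r k n : ℕ} (a : A) (ha : a ∈ I ^ r) (h : n ≤ k + r) :
    mulTo I F a ha h ≫ ι I F n = ι I F k ≫ Formal.smulMod A F a :=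
  kernel.lift_ι _ _ _

theorem mulTo_comp_incl {r k n n' : ℕ} (a : A) (ha : a ∈ I ^ r) (h : n ≤ k + r) (h' : n' ≤ n) :
    mulTo I F a ha h ≫ Formal2.idealPowIncl I h' F = mulTo I F a ha (h'.trans h) := by
  rw [← cancel_mono (ι I F n'), Category.assoc, incl_ι, mulTo_ι, mulTo_ι]

theorem incl_comp_mulTo {r k k' n : ℕ} (a : A) (ha : a ∈ I ^ r) (h : n ≤ k + r) (h' : k ≤ k') :
    Formal2.idealPowIncl I h' F ≫ mulTo I F a ha h = mulTo I F a ha (h.trans (by omega)) := by
  rw [← cancel_mono (ι I F n), Category.assoc, mulTo_ι, mulTo_ι, ← Category.assoc, incl_ι]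

theorem mulTo_comp_mulTo {r s k n l : ℕ} (a b : A) (ha : a ∈ I ^ r) (hb : b ∈ I ^ s)
    (h : n ≤ k + r) (h' : l ≤ n + s) :
    mulTo I F a ha h ≫ mulTo I F b hb h' =
      mulTo I F (b * a) (by rw [pow_add]; exact Ideal.mul_mem_mul hb ha : b * a ∈ I ^ (s + r))
        (by omega) := by
  rw [← cancel_mono (ι I F l), Category.assoc, mulTo_ι, mulTo_ι, mulTo_ι_assoc, CohIII.smulMod_mul]

/-- `I^k F ⟶ I^n F` (inclusion) followed by multiplication by `a` on `I^n F`. -/
theorem incl_comp_smulMod {r k n : ℕ} (a : A) (ha : a ∈ I ^ r) (h : n ≤ k) :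
    Formal2.idealPowIncl I h F ≫ Formal.smulMod A (P I F n) a =
      mulTo I F a ha (h.trans (Nat.le_add_right k r)) := by
  rw [← cancel_mono (ι I F n), Category.assoc, mulTo_ι, Formal.smulMod_naturality (ι I F n) a,
    ← Category.assoc, incl_ι]

/-- Multiplication by `a'` on `I^k F` followed by `mulTo a`. -/
theorem smulMod_comp_mulTo {r k n : ℕ} (a' a : A) (ha : a ∈ I ^ r) (h : n ≤ k + r) :
    Formal.smulMod A (P I F k) a' ≫ mulTo I F a ha h =
      mulTo I F (a * a') (Ideal.mul_mem_right _ _ ha) h := by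
  rw [← cancel_mono (ι I F n), Category.assoc, mulTo_ι, mulTo_ι, CohIII.smulMod_mul,
    ← Category.assoc, Formal.smulMod_naturality, Category.assoc]

theorem smulMod_add (M : X.Modules) (a b : A) :
    Formal.smulMod A M (a + b) = Formal.smulMod A M a + Formal.smulMod A M b := by
  ext U x
  change (Coh.smulAb M (Coh.toGlobal (X ↘ Spec (CommRingCat.of A)) (a + b))).hom.app (op U) x =
    (Coh.smulAb M (Coh.toGlobal (X ↘ Spec (CommRingCat.of A)) a)).hom.app (op U) x +
      (Coh.smulAb M (Coh.toGlobal (X ↘ Spec (CommRingCat.of A)) b)).hom.app (op U) x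
  rw [map_add, Coh.smulAb_add]
  rfl

theorem smulMod_one (M : X.Modules) : Formal.smulMod A M 1 = 𝟙 M := by
  ext U x
  change (Coh.smulAb M (Coh.toGlobal (X ↘ Spec (CommRingCat.of A)) 1)).hom.app (op U) x = x
  rw [map_one, Coh.smulAb_one]
  rfl

theorem mulTo_add {r k n : ℕ} (a b : A) (ha : a ∈ I ^ r) (hb : b ∈ I ^ r) (h : n ≤ k + r) :
    mulTo I F (a + b) (Ideal.add_mem _ ha hb) h = mulTo I F a ha h + mulTo I F b hb h := by
  rw [← cancel_mono (ι I F n), Preadditive.add_comp, mulTo_ι, mulTo_ι, mulTo_ι, smulMod_add,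
    Preadditive.comp_add]

theorem mulTo_one {k n : ℕ} (h : n ≤ k + 0) :
    mulTo I F (1 : A) (by rw [pow_zero, Ideal.one_eq_top]; trivial) h =
      Formal2.idealPowIncl I (by omega : n ≤ k) F := by
  rw [← cancel_mono (ι I F n), mulTo_ι, incl_ι, smulMod_one, Category.comp_id]

/-- A map out of `F` into `I^n F`: multiplication by `a ∈ I^n`. -/
noncomputable def mulInto {n : ℕ} (a : A) (ha : a ∈ I ^ n) : F ⟶ P I F n :=
  kernel.lift _ (Formal.smulMod A F a) (smulMod_modPowπ_eq_zero I F ha)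

@[reassoc]
theorem mulInto_ι {n : ℕ} (a : A) (ha : a ∈ I ^ n) :
    mulInto I F a ha ≫ ι I F n = Formal.smulMod A F a := kernel.lift_ι _ _ _

theorem ι_comp_mulInto {n : ℕ} (a : A) (ha : a ∈ I ^ n) :
    ι I F n ≫ mulInto I F a ha = Formal.smulMod A (P I F n) a := by
  rw [← cancel_mono (ι I F n), Category.assoc, mulInto_ι, Formal.smulMod_naturality]

/-- The bridge `J · F ≅ I^n F` for `J = I^n` (`Limits.image` versus `Abelian.image`). -/
noncomputable def bridge (J : Ideal A) (n : ℕ) (hJ : J = I ^ n) : CohIII.idealMul J F ≅ P I F n := by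
  subst hJ
  exact (Abelian.imageIsoImage (Formal.smulFamily (I ^ n) F)).symm

theorem bridge_hom_ι (J : Ideal A) (n : ℕ) (hJ : J = I ^ n) :
    (bridge I F J n hJ).hom ≫ ι I F n = CohIII.idealMulι J F := by
  subst hJ
  change (Abelian.imageIsoImage (Formal.smulFamily (I ^ n) F)).inv ≫
    kernel.ι (cokernel.π (Formal.smulFamily (I ^ n) F)) = Limits.image.ι _
  rw [Iso.inv_comp_eq]
  exact (Abelian.imageIsoImage_hom_comp_image_ι _).symm

theorem mulMap_ι (J J' : Ideal A) (a : J) :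
    CohIII.mulMap J J' F a ≫ CohIII.idealMulι (J * J') F =
      CohIII.idealMulι J' F ≫ Formal.smulMod A F a := by
  unfold CohIII.mulMap CohIII.idealMulι
  exact image.map_ι (CohIII.mulSq J J' F a)

theorem mulMap_bridge (r k n : ℕ) (hn : n = k + r) (a : ↥(I ^ r)) :
    CohIII.mulMap (I ^ r) (I ^ k) F a ≫
        (bridge I F (I ^ r * I ^ k) n (by rw [hn, pow_add, mul_comm])).hom =
      (bridge I F (I ^ k) k rfl).hom ≫ mulTo I F a a.2 hn.le := by
  rw [← cancel_mono (ι I F n), Category.assoc, Category.assoc, bridge_hom_ι, mulTo_ι,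
    ← Category.assoc, bridge_hom_ι, mulMap_ι]

end Sheaf

section Cohomology

variable (I : Ideal A) (F : X.Modules) (p : ℕ)

/-- `H^p` of multiplication by `a : A` is the `A`-scalar multiplication on `H^p`. -/
theorem Hmap_smulMod (M : X.Modules) (a : A) (x : Coh.HH X M p) :
    CohLES.map (Formal.smulMod A M a) p x = a • x := rfl

/-- The conclusion of the frozen S2435 (at one pair `(k, r)`) in `mulTo` form: `H^p(I^{k+r}F)` is
the sum of the images of the `A`-linear maps `H^p(mulTo a) : H^p(I^kF) → H^p(I^{k+r}F)`, `a ∈ I^r`. -/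
theorem gen_of_rees {k r n : ℕ} (hn : n = k + r)
    (hS : (⨆ a : ↥(I ^ r), (CohIII.HmulMap (I ^ r) (I ^ k) F a p).range) = ⊤) :
    (⨆ a : ↥(I ^ r), LinearMap.range (CohLES.mapₗ A (mulTo I F a.1 a.2 hn.le) p)) = ⊤ := by
  rw [eq_top_iff]
  intro y _
  let β := bridge I F (I ^ r * I ^ k) n (by rw [hn, pow_add, mul_comm])
  have hy : y = CohLES.map β.hom p (CohLES.map β.inv p y) := by
    rw [← CohLES.map_comp, Iso.inv_hom_id, CohLES.map_id]
  rw [hy]
  have hmem : CohLES.map β.inv p y ∈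
      ⨆ a : ↥(I ^ r), (CohIII.HmulMap (I ^ r) (I ^ k) F a p).range := by
    rw [hS]; trivial
  refine AddSubgroup.iSup_induction
    (C := fun z => CohLES.map β.hom p z ∈
      ⨆ a : ↥(I ^ r), LinearMap.range (CohLES.mapₗ A (mulTo I F a.1 a.2 hn.le) p)) _ hmem ?_ ?_ ?_
  · rintro a _ ⟨x, rfl⟩
    refine Submodule.mem_iSup_of_mem a ⟨CohLES.map (bridge I F (I ^ k) k rfl).hom p x, ?_⟩
    change CohLES.map _ p (CohLES.map _ p x) = CohLES.map _ p (CohLES.map _ p x)
    rw [← CohLES.map_comp, ← CohLES.map_comp, mulMap_bridge I F r k n hn a]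
  · rw [map_zero]; exact Submodule.zero_mem _
  · intro z w hz hw
    rw [map_add]; exact Submodule.add_mem _ hz hw

/-- The conclusion of S0853 (EGA III 3.3.2 image bound) from the conclusion of the frozen S2435. -/
theorem image_bound
    (hS : ∃ k₀ : ℕ, ∀ k : ℕ, k₀ ≤ k → ∀ r : ℕ,
      (⨆ a : ↥(I ^ r), (CohIII.HmulMap (I ^ r) (I ^ k) F a p).range) = ⊤) :
    ∃ c : ℕ, ∀ (n m : ℕ), c ≤ n + m →
      Set.range (Sheaf.H.map ((SheafOfModules.toSheaf _).map
        (Formal2.idealPowIncl I (Nat.le_add_right n m) F)) p) ⊆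
        SetLike.coe (I ^ (m - (c - n)) •
          (⊤ : Submodule A (Coh.HH X (Formal2.idealPowMod I n F) p))) := by
  obtain ⟨c, hc⟩ := hS
  refine ⟨c, fun n m hnm => ?_⟩
  rintro _ ⟨y, rfl⟩
  obtain ⟨k, hk, hnk, hkn⟩ : ∃ k, c ≤ k ∧ n ≤ k ∧ (k = n ∨ k = c) :=
    ⟨max n c, le_max_right _ _, le_max_left _ _, max_choice n c⟩
  obtain ⟨r, hkr⟩ : ∃ r, n + m = k + r := ⟨n + m - k, by omega⟩
  have hr : m - (c - n) = r := by omega
  have hgen := gen_of_rees I F p hkr (hc k hk r)
  have hy : y ∈ ⨆ a : ↥(I ^ r), LinearMap.range (CohLES.mapₗ A (mulTo I F a.1 a.2 hkr.le) p) := by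
    rw [hgen]; trivial
  rw [hr]
  change CohLES.map (Formal2.idealPowIncl I (Nat.le_add_right n m) F) p y ∈
    I ^ r • (⊤ : Submodule A (Coh.HH X (Formal2.idealPowMod I n F) p))
  refine Submodule.iSup_induction
    (motive := fun z => CohLES.map (Formal2.idealPowIncl I (Nat.le_add_right n m) F) p z ∈
      I ^ r • (⊤ : Submodule A (Coh.HH X (Formal2.idealPowMod I n F) p))) _ hy ?_ ?_ ?_
  · rintro a _ ⟨x, rfl⟩
    have e : CohLES.map (Formal2.idealPowIncl I (Nat.le_add_right n m) F) p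
        (CohLES.map (mulTo I F a.1 a.2 hkr.le) p x) =
        (a : A) • CohLES.map (Formal2.idealPowIncl I hnk F) p x := by
      rw [← CohLES.map_comp, mulTo_comp_incl, ← Hmap_smulMod, ← CohLES.map_comp,
        incl_comp_smulMod I F a.1 a.2 hnk]
    change CohLES.map _ p (CohLES.map _ p x) ∈ _
    rw [e]
    exact Submodule.smul_mem_smul a.2 Submodule.mem_top
  · rw [map_zero]; exact Submodule.zero_mem _
  · intro z w hz hw
    rw [map_add]; exact Submodule.add_mem _ hz hw

end Cohomology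

end Groth.Agent.Lib.FormalFn48
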