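/-
helper20: **sub-systems of finitely generated graded systems of coherent sheaves are finitely generated**
(graded Hilbert basis theorem, sheaf form; generalizes `UnifVanCoh20.isFG_ker`).
-/
import Groth.Agent.Lib.UnifVanCoh20

set_option autoImplicit false
set_option linter.style.haveILetI false
universe u

open CategoryTheory CategoryTheory.Limits AlgebraicGeometry TopologicalSpace Opposite
open AlgebraicGeometry.Scheme AlgebraicGeometry.Scheme.Modules
open Groth.Agent.Lib.UnifVanSys20 Groth.Agent.Lib.H90OXModSections Groth.Agent.Lib.UnifVanCoh20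

namespace Groth.Agent.Lib.UnifVanSub20

attribute [local instance] CategoryTheory.Abelian.hasFiniteBiproducts

variable {X : Scheme.{u}} {r : ℕ}

/-- Affine-local form. -/
theorem exists_bound_affine_of_mono [IsLocallyNoetherian X] (S S' : Sys X.Modules r)
    (hS : ∀ n, Coh.IsCoh (S.G n)) (j : ∀ n, S'.G n ⟶ S.G n) [∀ n, Mono (j n)]
    (hj : ∀ i n, j n ≫ S.t i n = S'.t i n ≫ j (n + 1))
    {n₁ : ℕ} (hfg : S.IsFGFrom n₁) {U : X.Opens} (hU : IsAffineOpen U) :
    ∃ n₂, ∀ n, n₂ ≤ n → ∀ s : Γ(S'.G (n + 1), U),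
      ∃ k : Fin r → Γ(S'.G n, U), s = ∑ i, (S'.t i n).app U (k i) := by
  classical
  haveI : IsNoetherianRing Γ(X, U) := IsLocallyNoetherian.component_noetherian ⟨U, hU⟩
  haveI : ∀ n, Module.Finite Γ(X, U) Γ(S.G n, U) := fun n =>
    Groth.Agent.Lib.CohFinite.finite_sections_of_isCoh _ (hS n) hU
  haveI hq : ∀ n, (S.G n).IsQuasicoherent := fun n => (hS n).1
  have hcomm : ∀ (i i' : Fin r) (n : ℕ) (x : Γ(S.G n, U)),
      appLin (S.t i (n + 1)) U (appLin (S.t i' n) U x) =
        appLin (S.t i' (n + 1)) U (appLin (S.t i n) U x) := by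
    intro i i' n x
    have h := congrArg (fun χ => (Scheme.Modules.Hom.app χ U) x) (S.comm i' i n)
    simp only [Scheme.Modules.Hom.comp_app] at h
    exact h
  have hgen : ∀ n, n₁ ≤ n → ⨆ i, LinearMap.range (appLin (S.t i n) U) = ⊤ := by
    intro n hn
    haveI := epi_desc_of_jointly_epi (fun i => S.t i n) (hfg n hn)
    exact iSup_range_appLin_eq_top (fun i => S.t i n) (fun _ => hq n) hU
  let N : ∀ n, Submodule Γ(X, U) Γ(S.G n, U) := fun n => LinearMap.range (appLin (j n) U)
  have hjapp : ∀ (i : Fin r) (n : ℕ) (y : Γ(S'.G n, U)),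
      (S.t i n).app U ((j n).app U y) = (j (n + 1)).app U ((S'.t i n).app U y) := by
    intro i n y
    have h := congrArg (fun χ => (Scheme.Modules.Hom.app χ U) y) (hj i n)
    simp only [Scheme.Modules.Hom.comp_app] at h
    exact h
  have hN : ∀ (i : Fin r) (n : ℕ), ∀ x ∈ N n, appLin (S.t i n) U x ∈ N (n + 1) := by
    rintro i n x ⟨y, rfl⟩
    refine ⟨(S'.t i n).app U y, ?_⟩
    rw [appLin_apply, appLin_apply, appLin_apply]
    exact (hjapp i n y).symm
  obtain ⟨n₂, h2⟩ := Groth.Agent.Lib.UnifVanAlg20.exists_bound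
    (M := fun n => Γ(S.G n, U)) (t := fun i n => appLin (S.t i n) U) hcomm n₁ hgen N hN
  refine ⟨n₂, fun n hn s => ?_⟩
  have hι : ∀ m, Function.Injective ((j m).app U) := fun m => injective_app_of_mono _ U
  have hxN : appLin (j (n + 1)) U s ∈ N (n + 1) := ⟨s, rfl⟩
  obtain ⟨y, hy, hxy⟩ := Groth.Agent.Lib.UnifVanAlg20.exists_of_mem_iSup_map
    (fun i => appLin (S.t i n) U) (N n) (h2 n hn hxN)
  choose k hk using hy
  refine ⟨k, ?_⟩
  apply hι (n + 1)
  rw [← appLin_apply, hxy, Groth.Agent.Lib.QCohBiproduct.app_sum']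
  refine Finset.sum_congr rfl fun i _ => ?_
  rw [← hk i, appLin_apply, appLin_apply]
  exact hjapp i n (k i)

/-- **Sub-systems of finitely generated systems of coherent modules on a Noetherian scheme are finitely
generated.** -/
theorem isFG_of_mono [IsLocallyNoetherian X] [CompactSpace X] (S S' : Sys X.Modules r)
    (hS : ∀ n, Coh.IsCoh (S.G n)) (hS' : ∀ n, (S'.G n).IsQuasicoherent)
    (j : ∀ n, S'.G n ⟶ S.G n) [∀ n, Mono (j n)]
    (hj : ∀ i n, j n ≫ S.t i n = S'.t i n ≫ j (n + 1)) (hfg : S.IsFG) : S'.IsFG := by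
  obtain ⟨n₁, hfg⟩ := hfg
  obtain ⟨t, Ω, hΩ, hcov⟩ := exists_fin_affine_cover X
  choose b hb using fun a => exists_bound_affine_of_mono S S' hS j hj hfg (hΩ a)
  refine ⟨Finset.univ.sup b, fun n hn => ?_⟩
  haveI : Epi (biproduct.desc (fun i => S'.t i n)) := by
    apply Groth.Agent.Lib.H72LimMod.epi_of_cover _ Ω hΩ hcov
    intro a s
    obtain ⟨k, hk⟩ := hb a n (le_trans (Finset.le_sup (Finset.mem_univ a)) hn) s
    refine ⟨∑ i, (biproduct.ι (fun _ : Fin r => S'.G n) i).app (Ω a) (k i), ?_⟩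
    rw [Groth.Agent.Lib.H72PullbackNat.secModMap_apply, Groth.Agent.Lib.QCohBiproduct.app_sum', hk]
    refine Finset.sum_congr rfl fun i _ => ?_
    have h := congrArg (fun χ => (Scheme.Modules.Hom.app χ (Ω a)) (k i))
      (biproduct.ι_desc (fun i => S'.t i n) i)
    simp only [Scheme.Modules.Hom.comp_app] at h
    exact h
  exact fun Z g hg => jointly_epi_of_epi_desc (fun i => S'.t i n) g hg

end Groth.Agent.Lib.UnifVanSub20
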