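/-
helper20: **Artin–Rees for the levelwise kernel of a levelwise epimorphism of coherent formal modules**.

Setting: `X` a scheme over `Spec A`, `I` an ideal of `A`, `F G : ℕᵒᵖ ⥤ X.Modules` coherent formal modules for `I`
(`Formal.IsCohFormal`), `ρ : F ⟶ G` a morphism of systems with all components epimorphisms.

* `kerF ρ` : the levelwise kernel system `K'_n = Ker(ρ_n)`, `kerι ρ : kerF ρ ⟶ F`;
* `epi_tr_kerF` : the transition maps of `kerF ρ` are epimorphisms (right exactness of `- ⊗ A/I^{n+1}`);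
* `SurjSys` : the hypotheses "transition maps epi, their kernels killed by `I`" on a system, under which the graded system
  of the kernels of the transition maps (`kSys`) is defined as in `FormalKerSys20.kerSys`.
-/
import Groth.Agent.Lib.FormalKerSys20
import Groth.Agent.Lib.FormalCoker13
import Groth.Agent.Lib.UnifVanSub20
import Groth.Agent.Lib.FormalFn48

set_option autoImplicit false
set_option linter.style.haveILetI false
universe u

open CategoryTheory CategoryTheory.Limits AlgebraicGeometry Opposite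

namespace Groth.Agent.Lib.FormalARKer20

open Formal Groth.Agent.Lib.UnifVanSys20 Groth.Agent.Lib.FormalKerSys20 Groth.Agent.Lib.FormalCoker13

section Abelian

variable {C : Type*} [Category C] [Abelian C]

/-- A morphism killing the kernel of an epimorphism factors through it. -/
theorem exists_fac_of_epi {P Q Z : C} (f : P ⟶ Q) [Epi f] (g : P ⟶ Z) (h : kernel.ι f ≫ g = 0) :
    ∃ g' : Q ⟶ Z, f ≫ g' = g :=
  ⟨(Abelian.epiIsCokernelOfKernel (KernelFork.ofι _ (kernel.condition f))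
      (kernelIsKernel f)).desc (CokernelCofork.ofπ g h),
    (Abelian.epiIsCokernelOfKernel (KernelFork.ofι _ (kernel.condition f))
      (kernelIsKernel f)).fac (CokernelCofork.ofπ g h) WalkingParallelPair.one⟩

/-- Levelwise kernel of a natural transformation. -/
@[reducible]
noncomputable def kerF {J : Type*} [Category J] {F G : J ⥤ C} (ρ : F ⟶ G) : J ⥤ C where
  obj n := kernel (ρ.app n)
  map {m n} f := kernel.map (ρ.app m) (ρ.app n) (F.map f) (G.map f) (ρ.naturality f).symm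
  map_id n := by
    ext
    simp
  map_comp f g := by
    ext
    simp

/-- The inclusion of the levelwise kernel. -/
@[reducible]
noncomputable def kerι {J : Type*} [Category J] {F G : J ⥤ C} (ρ : F ⟶ G) : kerF ρ ⟶ F where
  app n := kernel.ι (ρ.app n)
  naturality m n f := kernel.lift_ι _ _ _

/-- If `ι ≫ cokernel.π (t ≫ ι) = 0` with `ι` mono, then `t` is an epimorphism. -/
theorem epi_of_comp_cokernel_eq_zero {P Q R : C} (t : P ⟶ Q) (ι : Q ⟶ R) [Mono ι]
    (h : ι ≫ cokernel.π (t ≫ ι) = 0) : Epi t := by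
  obtain ⟨W, p, hp, l, hl⟩ := (ShortComplex.exact_cokernel (t ≫ ι)).exact_up_to_refinements ι h
  dsimp at l hl
  have h2 : p = l ≫ t := by
    rw [← cancel_mono ι, Category.assoc, hl]
  rw [h2] at hp
  exact epi_of_epi l t

/-- Abstract right exactness: the induced map on kernels of two epimorphisms is an epimorphism, if every
morphism out of `G₁` compatible with a morphism out of `F₀` factors through `g`. -/
theorem epi_kernel_map {F₁ F₀ G₁ G₀ : C} (ρ₁ : F₁ ⟶ G₁) (ρ₀ : F₀ ⟶ G₀) (f : F₁ ⟶ F₀) (g : G₁ ⟶ G₀)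
    (comm : ρ₁ ≫ g = f ≫ ρ₀) [Epi ρ₁] [Epi f]
    (H : ∀ ⦃E : C⦄ (u : F₀ ⟶ E) (v : G₁ ⟶ E), ρ₁ ≫ v = f ≫ u → ∃ w : G₀ ⟶ E, g ≫ w = v) :
    Epi (kernel.map ρ₁ ρ₀ f g comm) := by
  apply epi_of_comp_cokernel_eq_zero (kernel.map ρ₁ ρ₀ f g comm) (kernel.ι ρ₀)
  have e1 : kernel.map ρ₁ ρ₀ f g comm ≫ kernel.ι ρ₀ = kernel.ι ρ₁ ≫ f := kernel.lift_ι _ _ _
  set π := cokernel.π (kernel.map ρ₁ ρ₀ f g comm ≫ kernel.ι ρ₀) with hπ
  have hu : kernel.ι ρ₁ ≫ (f ≫ π) = 0 := by
    rw [← Category.assoc, ← e1, hπ, cokernel.condition]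
  obtain ⟨v, hv⟩ := exists_fac_of_epi ρ₁ (f ≫ π) hu
  obtain ⟨w, hw⟩ := H π v hv
  have hπw : π = ρ₀ ≫ w := by
    rw [← cancel_epi f, ← hv, ← hw, ← Category.assoc, ← Category.assoc, comm]
  rw [hπw, ← Category.assoc, kernel.condition, zero_comp]

end Abelian

variable {A : Type u} [CommRing A] {X : Scheme.{u}} [X.Over (Spec (CommRingCat.of A))]
variable {I : Ideal A} {F G : ℕᵒᵖ ⥤ X.Modules}

/-- transition maps of the levelwise kernel -/
theorem tr_kerF_ι (ρ : F ⟶ G) (n : ℕ) :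
    tr (kerF ρ) n ≫ kernel.ι (ρ.app (op n)) = kernel.ι (ρ.app (op (n + 1))) ≫ tr F n :=
  (kerι ρ).naturality (homOfLE (Nat.le_succ n)).op

/-- The transition maps of the levelwise kernel of a levelwise epimorphism of coherent formal modules are
epimorphisms. -/
theorem epi_tr_kerF (hF : IsCohFormal I F) (hG : IsCohFormal I G) (ρ : F ⟶ G)
    (hρ : ∀ n, Epi (ρ.app (op n))) (n : ℕ) : Epi (tr (kerF ρ) n) := by
  haveI := hρ (n + 1)
  haveI := FormalKerSys20.epi_tr hF n
  refine epi_kernel_map (ρ.app (op (n + 1))) (ρ.app (op n)) (tr F n) (tr G n)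
    (ρ.naturality (homOfLE (Nat.le_succ n)).op).symm ?_
  intro E u v hv
  have hvk : ∀ a ∈ I ^ (n + 1), smulMod A _ a ≫ v = 0 := by
    intro a ha
    rw [← cancel_epi (ρ.app (op (n + 1))), comp_zero, ← Category.assoc, ← smulMod_naturality,
      Category.assoc, hv, ← Category.assoc, smulMod_naturality, Category.assoc,
      hF.killedBy n a ha, zero_comp, comp_zero]
  exact (hG.isCokerSmul_succ n).2.2 v hvk

/-- A system with epimorphic transition maps whose kernels are killed by `I`. -/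
structure SurjSys (I : Ideal A) (K : ℕᵒᵖ ⥤ X.Modules) : Prop where
  epi : ∀ n, Epi (tr K n)
  kill : ∀ n, ∀ a ∈ I, kernel.ι (tr K n) ≫ smulMod A (K.obj (op (n + 1))) a = 0

theorem surjSys_of_isCohFormal (hF : IsCohFormal I F) : SurjSys I F :=
  ⟨fun n => FormalKerSys20.epi_tr hF n, fun n a ha => ι_smulMod hF n a ha⟩

/-- the kernel of the transition map of `kerF ρ` maps to the kernel of the transition map of `F` -/
noncomputable def kerTrMap (ρ : F ⟶ G) (n : ℕ) : kernel (tr (kerF ρ) n) ⟶ kernel (tr F n) :=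
  kernel.map (tr (kerF ρ) n) (tr F n) (kernel.ι (ρ.app (op (n + 1)))) (kernel.ι (ρ.app (op n)))
    (tr_kerF_ι ρ n)

@[reassoc]
theorem kerTrMap_ι (ρ : F ⟶ G) (n : ℕ) :
    kerTrMap ρ n ≫ kernel.ι (tr F n) = kernel.ι (tr (kerF ρ) n) ≫ kernel.ι (ρ.app (op (n + 1))) :=
  kernel.lift_ι _ _ _

instance (ρ : F ⟶ G) (n : ℕ) : Mono (kerTrMap ρ n) := by
  apply mono_of_mono_fac (kerTrMap_ι ρ n)

theorem surjSys_kerF (hF : IsCohFormal I F) (hG : IsCohFormal I G) (ρ : F ⟶ G)
    (hρ : ∀ n, Epi (ρ.app (op n))) : SurjSys I (kerF ρ) := by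
  refine ⟨fun n => epi_tr_kerF hF hG ρ hρ n, fun n a ha => ?_⟩
  rw [← cancel_mono (kernel.ι (ρ.app (op (n + 1)))), zero_comp, Category.assoc]
  have h1 : smulMod A ((kerF ρ).obj (op (n + 1))) a ≫ kernel.ι (ρ.app (op (n + 1))) =
      kernel.ι (ρ.app (op (n + 1))) ≫ smulMod A _ a := smulMod_naturality _ a
  rw [h1, ← Category.assoc, ← kerTrMap_ι, Category.assoc, ι_smulMod hF n a ha, comp_zero]

section Sec

variable {K : ℕᵒᵖ ⥤ X.Modules} (hK : SurjSys I K)

include hK in
theorem SurjSys.exists_sec (a : A) (ha : a ∈ I) (n : ℕ) :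
    ∃ s : K.obj (op n) ⟶ K.obj (op (n + 1)), tr K n ≫ s = smulMod A (K.obj (op (n + 1))) a := by
  haveI := hK.epi n
  exact exists_fac_of_epi (tr K n) _ (hK.kill n a ha)

include hK in
theorem SurjSys.sec_tr (a : A) (n : ℕ) (s : K.obj (op n) ⟶ K.obj (op (n + 1)))
    (hs : tr K n ≫ s = smulMod A (K.obj (op (n + 1))) a) :
    s ≫ tr K n = smulMod A (K.obj (op n)) a := by
  haveI := hK.epi n
  rw [← cancel_epi (tr K n), ← Category.assoc, hs, smulMod_naturality]

include hK in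
theorem SurjSys.sec_comm (a a' : A) (n : ℕ)
    (s s' : K.obj (op n) ⟶ K.obj (op (n + 1))) (t t' : K.obj (op (n + 1)) ⟶ K.obj (op (n + 1 + 1)))
    (hs : tr K n ≫ s = smulMod A _ a) (hs' : tr K n ≫ s' = smulMod A _ a')
    (ht : tr K (n + 1) ≫ t = smulMod A _ a) (ht' : tr K (n + 1) ≫ t' = smulMod A _ a') :
    s ≫ t' = s' ≫ t := by
  haveI := hK.epi n
  haveI := hK.epi (n + 1)
  rw [← cancel_epi (tr K n), ← Category.assoc, ← Category.assoc, hs, hs', smulMod_naturality,
    smulMod_naturality, ← cancel_epi (tr K (n + 1)), ← Category.assoc, ← Category.assoc, ht, ht',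
    ← CohIII.smulMod_mul, ← CohIII.smulMod_mul, mul_comm]

variable {r : ℕ} (a : Fin r → A) (ha : ∀ i, a i ∈ I)
  (s : Fin r → ∀ n, K.obj (op n) ⟶ K.obj (op (n + 1)))
  (hs : ∀ i n, tr K n ≫ s i n = smulMod A (K.obj (op (n + 1))) (a i))

/-- The operator "multiplication by `a i`" `Ker(K_{n+1} → K_n) ⟶ Ker(K_{n+2} → K_{n+1})`. -/
noncomputable def kOp (i : Fin r) (n : ℕ) : kernel (tr K n) ⟶ kernel (tr K (n + 1)) :=
  kernel.lift (tr K (n + 1)) (kernel.ι (tr K n) ≫ s i (n + 1)) (by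
    rw [Category.assoc, hK.sec_tr (a i) (n + 1) (s i (n + 1)) (hs i (n + 1)),
      hK.kill n (a i) (ha i)])

@[reassoc]
theorem kOp_ι (i : Fin r) (n : ℕ) :
    kOp hK a ha s hs i n ≫ kernel.ι (tr K (n + 1)) = kernel.ι (tr K n) ≫ s i (n + 1) :=
  kernel.lift_ι _ _ _

/-- The graded system of the kernels of the transition maps. -/
@[reducible] noncomputable def kSys : Sys X.Modules r where
  G n := kernel (tr K n)
  t i n := kOp hK a ha s hs i n
  comm i j n := by
    rw [← cancel_mono (kernel.ι (tr K (n + 1 + 1))), Category.assoc, Category.assoc, kOp_ι,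
      kOp_ι, kOp_ι_assoc, kOp_ι_assoc,
      hK.sec_comm (a i) (a j) (n + 1) (s i (n + 1)) (s j (n + 1)) (s i (n + 1 + 1)) (s j (n + 1 + 1))
        (hs i _) (hs j _) (hs i _) (hs j _)]

end Sec

section AR

variable (hF : IsCohFormal I F) (hG : IsCohFormal I G) (ρ : F ⟶ G) (hρ : ∀ n, Epi (ρ.app (op n)))
  {r : ℕ} (a : Fin r → A) (ha : ∀ i, a i ∈ I)
  (s : Fin r → ∀ n, F.obj (op n) ⟶ F.obj (op (n + 1)))
  (hs : ∀ i n, tr F n ≫ s i n = smulMod A (F.obj (op (n + 1))) (a i))
  (s' : Fin r → ∀ n, (kerF ρ).obj (op n) ⟶ (kerF ρ).obj (op (n + 1)))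
  (hs' : ∀ i n, tr (kerF ρ) n ≫ s' i n = smulMod A ((kerF ρ).obj (op (n + 1))) (a i))

include hF hG hρ hs hs' in
/-- the sections of `kerF ρ` and of `F` are compatible -/
theorem sec_ι (i : Fin r) (n : ℕ) :
    s' i n ≫ kernel.ι (ρ.app (op (n + 1))) = kernel.ι (ρ.app (op n)) ≫ s i n := by
  haveI := epi_tr_kerF hF hG ρ hρ n
  rw [← cancel_epi (tr (kerF ρ) n), ← Category.assoc, hs' i n, ← Category.assoc, tr_kerF_ι,
    Category.assoc, hs i n]
  exact smulMod_naturality _ _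

/-- the inclusion of the kernel system of `kerF ρ` into that of `F` commutes with the operators -/
theorem kerTrMap_comm (i : Fin r) (n : ℕ) :
    kerTrMap ρ n ≫ kerOp hF a ha s hs i n =
      kOp (surjSys_kerF hF hG ρ hρ) a ha s' hs' i n ≫ kerTrMap ρ (n + 1) := by
  rw [← cancel_mono (kernel.ι (tr F (n + 1))), Category.assoc, Category.assoc, kerOp_ι,
    kerTrMap_ι_assoc, kerTrMap_ι, kOp_ι_assoc, sec_ι hF hG ρ hρ a s hs s' hs' i (n + 1)]

include hs in
/-- **Hilbert basis**: the kernel system of the levelwise kernel is finitely generated. -/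
theorem isFG_kSys_kerF [IsLocallyNoetherian X] [CompactSpace X]
    (hspan : Ideal.span (Set.range a) = I) :
    (kSys (surjSys_kerF hF hG ρ hρ) a ha s' hs').IsFG := by
  haveI : ∀ n, (F.obj (op n)).IsQuasicoherent := fun n => (hF.1 n).1
  haveI : ∀ n, (G.obj (op n)).IsQuasicoherent := fun n => (hG.1 n).1
  haveI hq : ∀ n, ((kerF ρ).obj (op n)).IsQuasicoherent := fun n =>
    Groth.Agent.Lib.H90OXModExact.isQuasicoherent_kernel _
  refine UnifVanSub20.isFG_of_mono (kerSys hF a ha s hs) (kSys (surjSys_kerF hF hG ρ hρ) a ha s' hs')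
    (fun n => Groth.Agent.Lib.H90OXModExact.isCoh_kernel (tr F n) (hF.1 (n + 1)))
    (fun n => Groth.Agent.Lib.H90OXModExact.isQuasicoherent_kernel _)
    (fun n => kerTrMap ρ n) (fun i n => kerTrMap_comm hF hG ρ hρ a ha s hs s' hs' i n)
    ⟨0, isFGFrom_kerSys hF a ha s hs hspan⟩

include hs' in
/-- **Artin–Rees** from finite generation: `Ker(K'_{m+1} → K'_m) ⊆ I^{m-c} K'_{m+1}` for `m ≥ c`. -/
theorem ar_of_isFGFrom {c : ℕ} (hT : (kSys (surjSys_kerF hF hG ρ hρ) a ha s' hs').IsFGFrom c) (m : ℕ)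
    (hm : c ≤ m) ⦃Z : X.Modules⦄ (g : (kerF ρ).obj (op (m + 1)) ⟶ Z)
    (hg : ∀ b ∈ I ^ (m - c), smulMod A _ b ≫ g = 0) : kernel.ι (tr (kerF ρ) m) ≫ g = 0 := by
  induction m, hm using Nat.le_induction generalizing Z with
  | base =>
    have h1 := hg 1 (by rw [Nat.sub_self, pow_zero, Ideal.one_eq_top]; exact Submodule.mem_top)
    rw [Groth.Agent.Lib.FormalFn48.smulMod_one, Category.id_comp] at h1
    rw [h1, comp_zero]
  | succ m hm ih =>
    apply hT m hm
    intro i
    change kOp (surjSys_kerF hF hG ρ hρ) a ha s' hs' i m ≫ _ = 0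
    rw [kOp_ι_assoc]
    apply ih
    intro b hb
    haveI := epi_tr_kerF hF hG ρ hρ (m + 1)
    rw [← cancel_epi (tr (kerF ρ) (m + 1)), comp_zero, ← Category.assoc, ← smulMod_naturality,
      Category.assoc, ← Category.assoc (tr (kerF ρ) (m + 1)), hs' i (m + 1), ← Category.assoc,
      ← CohIII.smulMod_mul]
    apply hg
    have : m + 1 - c = (m - c) + 1 := by omega
    rw [this, pow_succ']
    exact Ideal.mul_mem_mul (ha i) hb

end AR

end Groth.Agent.Lib.FormalARKer20
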