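/-
helper20: **Artin–Rees for a coherent submodule** `j : N ↪ G` on a Noetherian scheme `X` over `Spec A`, `I` a finitely generated ideal:
there is `c` with `N ∩ I^{c+n} G ⊆ I^n N` for all `n`, in the form

  `ar_sub` : every `g : N ⟶ Z` killing `I^n N` kills `Ker(N ⟶ G ⟶ G/I^{c+n}G)`.

Proof: the graded system `(N ∩ I^n G)_n` is a sub-system of `(I^n G)_n`, which is generated in degree `0`; graded Hilbert basis
theorem `UnifVanSub20.isFG_of_mono`.
-/
import Groth.Agent.Lib.FormalFn48
import Groth.Agent.Lib.FormalFn48Fin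
import Groth.Agent.Lib.UnifVanSub20
import Groth.Agent.Lib.FormalKerSys20
import Groth.Agent.Lib.FormalGr20

set_option autoImplicit false
set_option linter.style.haveILetI false
universe u

open CategoryTheory CategoryTheory.Limits AlgebraicGeometry Opposite

namespace Groth.Agent.Lib.FormalARSub20

open Formal Groth.Agent.Lib.UnifVanSys20 Groth.Agent.Lib.FormalFn48

variable {A : Type u} [CommRing A] {X : Scheme.{u}} [X.Over (Spec (CommRingCat.of A))]
variable (I : Ideal A) {r : ℕ} (a : Fin r → A) (ha : ∀ i, a i ∈ I)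

include ha in
theorem ha1 (i : Fin r) : a i ∈ I ^ 1 := by rw [pow_one]; exact ha i

section Pow

variable (G : X.Modules)

/-- the graded system `(I^n G)_n` -/
@[reducible] noncomputable def powSys : Sys X.Modules r where
  G n := P I G n
  t i n := mulTo I G (a i) (ha1 I a ha i) (le_refl (n + 1))
  comm i j n := by
    rw [mulTo_comp_mulTo, mulTo_comp_mulTo]
    congr 1
    exact mul_comm _ _

include ha in
/-- `(I^n G)_n` is generated in degree `0` -/
theorem isFGFrom_powSys (hspan : Ideal.span (Set.range a) = I) : (powSys I a ha G).IsFGFrom 0 := by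
  intro n _ Z g hg
  change P I G (n + 1) ⟶ Z at g
  have hg' : ∀ i, mulTo I G (a i) (ha1 I a ha i) (le_refl (n + 1)) ≫ g = 0 := hg
  let Q : A → Prop := fun b => ∃ m : G ⟶ P I G (n + 1), m ≫ ι I G (n + 1) = smulMod A G b ∧ m ≫ g = 0
  have Q0 : Q 0 := ⟨0, by rw [zero_comp, FormalKerSys20.smulMod_zero], zero_comp⟩
  have Qadd : ∀ x y, Q x → Q y → Q (x + y) := by
    rintro x y ⟨m, hm, hmg⟩ ⟨m', hm', hmg'⟩
    exact ⟨m + m', by rw [Preadditive.add_comp, hm, hm', FormalKerSys20.smulMod_add],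
      by rw [Preadditive.add_comp, hmg, hmg', add_zero]⟩
  have Qsmul : ∀ (x : A) y, Q y → Q (x * y) := by
    rintro x y ⟨m, hm, hmg⟩
    refine ⟨smulMod A _ x ≫ m, ?_, ?_⟩
    · rw [Category.assoc, hm, ← CohIII.smulMod_mul, mul_comm]
    · rw [Category.assoc, hmg, comp_zero]
  have Qbase : ∀ i, ∀ c ∈ I ^ n, Q (a i * c) := by
    intro i c hc
    refine ⟨mulInto I G c hc ≫ mulTo I G (a i) (ha1 I a ha i) (le_refl (n + 1)), ?_, ?_⟩
    · rw [Category.assoc, mulTo_ι, mulInto_ι_assoc, ← CohIII.smulMod_mul]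
    · rw [Category.assoc, hg' i, comp_zero]
  have QI : ∀ x ∈ I, ∀ c ∈ I ^ n, Q (x * c) := by
    intro x hx
    rw [← hspan] at hx
    induction hx using Submodule.span_induction with
    | mem x hx =>
      obtain ⟨i, rfl⟩ := hx
      exact Qbase i
    | zero => intro c _; rw [zero_mul]; exact Q0
    | add x y _ _ hx hy => intro c hc; rw [add_mul]; exact Qadd _ _ (hx c hc) (hy c hc)
    | smul k x _ hx => intro c hc; rw [smul_eq_mul, mul_assoc]; exact Qsmul k _ (hx c hc)
  have Qall : ∀ b ∈ I ^ (n + 1), Q b := by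
    intro b hb
    rw [pow_succ' I n] at hb
    exact Submodule.mul_induction_on hb QI Qadd
  rw [← cancel_epi (cover I G (n + 1)), comp_zero]
  apply Sigma.hom_ext
  intro b
  obtain ⟨m, hm, hmg⟩ := Qall b.1 b.2
  have : Sigma.ι (fun _ : ↥(I ^ (n + 1)) => G) b ≫ cover I G (n + 1) = m := by
    rw [← cancel_mono (ι I G (n + 1)), Category.assoc, cover_ι, hm]
    simp [Formal.smulFamily]
  rw [comp_zero, ← Category.assoc, this, hmg]

end Pow

section Sub

variable {N G : X.Modules} (j : N ⟶ G)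

/-- `N ∩ I^n G` -/
noncomputable abbrev subObj (n : ℕ) : X.Modules := kernel (j ≫ modPowπ I n G)

/-- `N ∩ I^n G ⟶ I^n G` -/
noncomputable def subIncl (n : ℕ) : subObj I j n ⟶ P I G n :=
  kernel.lift _ (kernel.ι (j ≫ modPowπ I n G) ≫ j) (by rw [Category.assoc, kernel.condition])

@[reassoc]
theorem subIncl_ι (n : ℕ) : subIncl I j n ≫ ι I G n = kernel.ι (j ≫ modPowπ I n G) ≫ j :=
  kernel.lift_ι _ _ _

instance [Mono j] (n : ℕ) : Mono (subIncl I j n) := by
  apply mono_of_mono_fac (subIncl_ι I j n)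

include ha in
theorem subOp_aux (i : Fin r) (n : ℕ) :
    (kernel.ι (j ≫ modPowπ I n G) ≫ smulMod A N (a i)) ≫ j ≫ modPowπ I (n + 1) G = 0 := by
  rw [Category.assoc, ← Category.assoc (smulMod A N (a i)), smulMod_naturality, Category.assoc,
    ← Category.assoc, ← subIncl_ι, Category.assoc,
    ← mulTo_ι_assoc I G (a i) (ha1 I a ha i) (le_refl (n + 1)), kernel.condition, comp_zero, comp_zero]

/-- multiplication by `a i` : `N ∩ I^n G ⟶ N ∩ I^{n+1} G` -/
noncomputable def subOp (i : Fin r) (n : ℕ) : subObj I j n ⟶ subObj I j (n + 1) :=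
  kernel.lift _ (kernel.ι (j ≫ modPowπ I n G) ≫ smulMod A N (a i)) (subOp_aux I a ha j i n)

@[reassoc]
theorem subOp_ι (i : Fin r) (n : ℕ) :
    subOp I a ha j i n ≫ kernel.ι (j ≫ modPowπ I (n + 1) G) =
      kernel.ι (j ≫ modPowπ I n G) ≫ smulMod A N (a i) :=
  kernel.lift_ι _ _ _

/-- the graded system `(N ∩ I^n G)_n` -/
@[reducible] noncomputable def subSys : Sys X.Modules r where
  G n := subObj I j n
  t i n := subOp I a ha j i n
  comm i i' n := by
    rw [← cancel_mono (kernel.ι (j ≫ modPowπ I (n + 1 + 1) G)), Category.assoc, Category.assoc,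
      subOp_ι, subOp_ι, subOp_ι_assoc, subOp_ι_assoc, ← CohIII.smulMod_mul, ← CohIII.smulMod_mul,
      mul_comm]

theorem subIncl_comm (i : Fin r) (n : ℕ) :
    subIncl I j n ≫ mulTo I G (a i) (ha1 I a ha i) (le_refl (n + 1)) =
      subOp I a ha j i n ≫ subIncl I j (n + 1) := by
  rw [← cancel_mono (ι I G (n + 1)), Category.assoc, Category.assoc, mulTo_ι, subIncl_ι_assoc,
    subIncl_ι, subOp_ι_assoc, smulMod_naturality]

include ha in
/-- **Artin–Rees for a coherent submodule.** -/
theorem ar_sub [IsLocallyNoetherian X] [CompactSpace X] (hspan : Ideal.span (Set.range a) = I)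
    (hN : N.IsQuasicoherent) (hG : Coh.IsCoh G) [Mono j] :
    ∃ c : ℕ, ∀ (n : ℕ) ⦃Z : X.Modules⦄ (g : N ⟶ Z), (∀ b ∈ I ^ n, smulMod A N b ≫ g = 0) →
      kernel.ι (j ≫ modPowπ I (c + n) G) ≫ g = 0 := by
  haveI : G.IsQuasicoherent := hG.1
  have hq : ∀ n, (modPow I n G).IsQuasicoherent := fun n =>
    (Groth.Agent.Lib.FormalGr20.isCoh_modPow I n hG).1
  have hfg : (subSys I a ha j).IsFG := by
    refine UnifVanSub20.isFG_of_mono (powSys I a ha G) (subSys I a ha j)
      (fun n => isCoh_idealPowMod I G hG n) (fun n => ?_) (fun n => subIncl I j n)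
      (fun i n => subIncl_comm I a ha j i n) ⟨0, isFGFrom_powSys I a ha G hspan⟩
    haveI := hq n
    exact Groth.Agent.Lib.H90OXModExact.isQuasicoherent_kernel _
  obtain ⟨c, hc⟩ := hfg
  refine ⟨c, fun n => ?_⟩
  induction n with
  | zero =>
    intro Z g hg
    have h1 := hg 1 (by rw [pow_zero, Ideal.one_eq_top]; exact Submodule.mem_top)
    rw [smulMod_one, Category.id_comp] at h1
    rw [h1, comp_zero]
  | succ n ih =>
    intro Z g hg
    apply hc (c + n) (Nat.le_add_right c n)
    intro i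
    change subOp I a ha j i (c + n) ≫ kernel.ι (j ≫ modPowπ I (c + n + 1) G) ≫ g = 0
    rw [subOp_ι_assoc]
    apply ih
    intro b hb
    rw [← Category.assoc, ← CohIII.smulMod_mul]
    apply hg
    rw [pow_succ']
    exact Ideal.mul_mem_mul (ha i) hb

end Sub

end Groth.Agent.Lib.FormalARSub20
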