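/-
helper20: **adic-ification of a surjective system satisfying Artin–Rees**.

For a system `K : ℕᵒᵖ ⥤ X.Modules` with epimorphic transition maps such that `Ker(K_{n+1} → K_n) ⊆ I^{n+1} K_{n+1}`
(`ARSys`), the system `adicF I K = (K_n / I^{n+1} K_n)_n` is a coherent formal module if all `K_n` are coherent, it
receives the levelwise epimorphism `adicπ : K ⟶ adicF I K`, and every morphism from `K` to a system `F'` with `F'_n`
killed by `I^{n+1}` factors through it (`adicDesc`).
-/
import Groth.Agent.Lib.FormalARKer20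
import Groth.Agent.Lib.FormalGr20

set_option autoImplicit false
set_option linter.style.haveILetI false
universe u

open CategoryTheory CategoryTheory.Limits AlgebraicGeometry Opposite

namespace Groth.Agent.Lib.FormalAdic20

open Formal Groth.Agent.Lib.FormalKerSys20 Groth.Agent.Lib.FormalCoker13 Groth.Agent.Lib.FormalARKer20

variable {A : Type u} [CommRing A] {X : Scheme.{u}} [X.Over (Spec (CommRingCat.of A))]

/-- A surjective system with `Ker(K_{n+1} → K_n) ⊆ I^{n+1} K_{n+1}`. -/
structure ARSys (I : Ideal A) (K : ℕᵒᵖ ⥤ X.Modules) : Prop where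
  epi : ∀ n, Epi (tr K n)
  ar : ∀ n ⦃Z : X.Modules⦄ (g : K.obj (op (n + 1)) ⟶ Z),
    (∀ b ∈ I ^ (n + 1), smulMod A _ b ≫ g = 0) → kernel.ι (tr K n) ≫ g = 0

variable (I : Ideal A) (K : ℕᵒᵖ ⥤ X.Modules)

/-- `K_n / I^{n+1} K_n` -/
noncomputable abbrev adicObj (n : ℕ) : X.Modules := modPow I (n + 1) (K.obj (op n))

/-- the projection `K_n ⟶ K_n / I^{n+1} K_n` -/
noncomputable abbrev adicq (n : ℕ) : K.obj (op n) ⟶ adicObj I K n := modPowπ I (n + 1) (K.obj (op n))

theorem isCokerSmul_adicq (n : ℕ) : IsCokerSmul (I ^ (n + 1)) (adicq I K n) :=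
  isCokerSmul_modPowπ I (n + 1) _

theorem killedBy_adicObj (n : ℕ) : KilledBy (I ^ (n + 1)) (adicObj I K n) :=
  Groth.Agent.Lib.FormalFn20.killedBy_modPow I (n + 1) _

instance (n : ℕ) : Epi (adicq I K n) := (isCokerSmul_adicq I K n).epi

theorem exists_adicTr (n : ℕ) :
    ∃ τ : adicObj I K (n + 1) ⟶ adicObj I K n, adicq I K (n + 1) ≫ τ = tr K n ≫ adicq I K n := by
  refine (isCokerSmul_adicq I K (n + 1)).2.2 (tr K n ≫ adicq I K n) (fun a ha => ?_)
  rw [← Category.assoc, smulMod_naturality, Category.assoc, smulMod_naturality,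
    killedBy_adicObj I K n a (Ideal.pow_le_pow_right (Nat.le_succ (n + 1)) ha), comp_zero, comp_zero]

/-- the transition map of the adic-ification -/
noncomputable def adicTr (n : ℕ) : adicObj I K (n + 1) ⟶ adicObj I K n := (exists_adicTr I K n).choose

@[reassoc]
theorem adicq_adicTr (n : ℕ) : adicq I K (n + 1) ≫ adicTr I K n = tr K n ≫ adicq I K n :=
  (exists_adicTr I K n).choose_spec

/-- the adic-ification `(K_n / I^{n+1} K_n)_n` -/
noncomputable def adicF : ℕᵒᵖ ⥤ X.Modules := Functor.ofOpSequence (adicTr I K)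

theorem tr_adicF (n : ℕ) : tr (adicF I K) n = adicTr I K n :=
  Functor.ofOpSequence_map_homOfLE_succ _ n

/-- the projection onto the adic-ification -/
noncomputable def adicπ : K ⟶ adicF I K :=
  NatTrans.ofOpSequence (F := K) (G := adicF I K) (fun n => adicq I K n) (fun n => by
    have h := tr_adicF I K n
    have h2 := adicq_adicTr I K n
    rw [← h] at h2
    exact h2.symm)

theorem adicπ_app (n : ℕ) : (adicπ I K).app (op n) = adicq I K n := rfl

variable {I K}

/-- the transition maps of the adic-ification are cokernels of multiplication by `I^{n+1}` -/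
theorem isCokerSmul_adicTr (hK : ARSys I K) (n : ℕ) : IsCokerSmul (I ^ (n + 1)) (adicTr I K n) := by
  haveI := hK.epi n
  have hepi : Epi (adicTr I K n) := by
    have : Epi (adicq I K (n + 1) ≫ adicTr I K n) := by
      rw [adicq_adicTr]
      exact epi_comp _ _
    exact epi_of_epi (adicq I K (n + 1)) _
  refine ⟨fun a ha => ?_, hepi, fun {T} g hg => ?_⟩
  · rw [smulMod_naturality, killedBy_adicObj I K n a ha, comp_zero]
  · have h1 : ∀ b ∈ I ^ (n + 1), smulMod A _ b ≫ (adicq I K (n + 1) ≫ g) = 0 := by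
      intro b hb
      rw [← Category.assoc, smulMod_naturality, Category.assoc, hg b hb, comp_zero]
    obtain ⟨g₂, hg₂⟩ := exists_fac_of_epi (tr K n) (adicq I K (n + 1) ≫ g) (hK.ar n _ h1)
    have h2 : ∀ b ∈ I ^ (n + 1), smulMod A _ b ≫ g₂ = 0 := by
      intro b hb
      rw [← cancel_epi (tr K n), comp_zero, ← Category.assoc, ← smulMod_naturality, Category.assoc,
        hg₂]
      exact h1 b hb
    obtain ⟨g₃, hg₃⟩ := (isCokerSmul_adicq I K n).2.2 g₂ h2
    refine ⟨g₃, ?_⟩
    rw [← cancel_epi (adicq I K (n + 1)), adicq_adicTr_assoc, hg₃, hg₂]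

/-- **The adic-ification of an Artin–Rees system of coherent modules is a coherent formal module.** -/
theorem isCohFormal_adicF (hK : ARSys I K) (hcoh : ∀ n, Coh.IsCoh (K.obj (op n))) :
    IsCohFormal I (adicF I K) := by
  refine ⟨fun n => Groth.Agent.Lib.FormalGr20.isCoh_modPow I (n + 1) (hcoh n),
    fun n => killedBy_adicObj I K n, fun n => ?_⟩
  have h := (isCokerSmul_iff _ _).1 (isCokerSmul_adicTr hK n)
  rw [← tr_adicF] at h
  exact h

/-- morphisms from `K` to a system with `n`-th term killed by `I^{n+1}` factor through the adic-ification -/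
theorem exists_adicDesc {F' : ℕᵒᵖ ⥤ X.Modules} (hF' : ∀ n, KilledBy (I ^ (n + 1)) (F'.obj (op n)))
    (θ : K ⟶ F') : ∃ σ : adicF I K ⟶ F', adicπ I K ≫ σ = θ := by
  have h1 : ∀ n, ∃ σ : adicObj I K n ⟶ F'.obj (op n), adicq I K n ≫ σ = θ.app (op n) := by
    intro n
    refine (isCokerSmul_adicq I K n).2.2 (θ.app (op n)) (fun a ha => ?_)
    rw [smulMod_naturality, hF' n a ha, comp_zero]
  choose σ hσ using h1
  refine ⟨NatTrans.ofOpSequence (F := adicF I K) (G := F') σ (fun n => ?_), ?_⟩
  · have key : adicTr I K n ≫ σ n = σ (n + 1) ≫ tr F' n := by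
      rw [← cancel_epi (adicq I K (n + 1)), adicq_adicTr_assoc, hσ, ← Category.assoc, hσ]
      exact θ.naturality (homOfLE (Nat.le_succ n)).op
    have h := tr_adicF I K n
    exact (congrArg (fun φ => φ ≫ σ n) h).trans key
  · apply NatTrans.ext
    funext n
    obtain ⟨n⟩ := n
    exact hσ n

end Groth.Agent.Lib.FormalAdic20
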