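import Groth.Agent.Lib.FormalFn48Ker
import Groth.Agent.Lib.ProperFinHyp
import Groth.Agent.Lib.H90OXModExact
import Groth.Agent.Lib.QCohBiprod
import Mathlib.AlgebraicGeometry.Noetherian
import Mathlib.AlgebraicGeometry.Morphisms.FiniteType

/-!
# S0853 / S0837 in hypothesis form (helper48)

* `isCoh_idealPowMod` : on a locally Noetherian scheme, `I^n F` is coherent for `F` coherent.
* `finite_HH_idealPowMod` : from `ProperFinHyp.Hyp` (statement of S0002), `H^p(X, I^kF)` is a finite `A`-module.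
* `s0853_of`, `s0837_of` : the conclusions of S0853 and S0837 from the conclusion of the frozen S2435
  (and `ProperFinHyp.Hyp` for S0837).
-/

set_option autoImplicit false
universe u
open CategoryTheory CategoryTheory.Limits AlgebraicGeometry Opposite

namespace Groth.Agent.Lib.FormalFn48

open Groth.Agent.Lib

variable {A : Type u} [CommRing A] {X : Scheme.{u}} [X.Over (Spec (CommRingCat.of A))]
variable (I : Ideal A) (F : X.Modules)

theorem isCoh_idealPowMod [IsLocallyNoetherian X] (hF : Coh.IsCoh F) (n : ℕ) :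
    Coh.IsCoh (Formal2.idealPowMod I n F) := by
  haveI : F.IsQuasicoherent := hF.1
  haveI : (∐ fun _ : ↥(I ^ n) => F).IsQuasicoherent :=
    QCohBiprod.isQuasicoherent_sigmaObj _ (fun _ => hF.1)
  haveI : (Formal.modPow I n F).IsQuasicoherent :=
    H90OXModExact.isQuasicoherent_cokernel (Formal.smulFamily (I ^ n) F)
  exact H90OXModExact.isCoh_kernel (Formal.modPowπ I n F) hF

theorem isLocallyNoetherian_of_proper [IsNoetherianRing A]
    [IsProper (X ↘ Spec (CommRingCat.of A))] : IsLocallyNoetherian X :=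
  LocallyOfFiniteType.isLocallyNoetherian (X ↘ Spec (CommRingCat.of A))

theorem finite_HH_idealPowMod (H : ProperFinHyp.Hyp.{u}) [IsNoetherianRing A]
    [IsProper (X ↘ Spec (CommRingCat.of A))] (hF : Coh.IsCoh F) (k p : ℕ) :
    Module.Finite A (Coh.HH X (Formal2.idealPowMod I k F) p) := by
  haveI : IsLocallyNoetherian X := isLocallyNoetherian_of_proper (A := A)
  exact H A X _ (isCoh_idealPowMod I F hF k) p

/-- S0853 from the conclusion of the frozen S2435. -/
theorem s0853_of (p : ℕ)
    (hS : ∃ k₀ : ℕ, ∀ k : ℕ, k₀ ≤ k → ∀ r : ℕ,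
      (⨆ a : ↥(I ^ r), (CohIII.HmulMap (I ^ r) (I ^ k) F a p).range) = ⊤) :
    ∃ c : ℕ, ∀ (n m : ℕ), c ≤ n + m →
      Set.range (Sheaf.H.map ((SheafOfModules.toSheaf _).map
        (Formal2.idealPowIncl I (Nat.le_add_right n m) F)) p) ⊆
        SetLike.coe (I ^ (m - (c - n)) •
          (⊤ : Submodule A (Coh.HH X (Formal2.idealPowMod I n F) p))) :=
  image_bound I F p hS

/-- S0837 from the statement of S0002 and the conclusion of the frozen S2435. -/
theorem s0837_of (H : ProperFinHyp.Hyp.{u}) [IsNoetherianRing A]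
    [IsProper (X ↘ Spec (CommRingCat.of A))] (hF : Coh.IsCoh F) (p : ℕ)
    (hS : ∃ k₀ : ℕ, ∀ k : ℕ, k₀ ≤ k → ∀ r : ℕ,
      (⨆ a : ↥(I ^ r), (CohIII.HmulMap (I ^ r) (I ^ k) F a p).range) = ⊤) :
    ∃ c : ℕ, ∀ (n : ℕ) (_ : c ≤ n),
      (Sheaf.H.map ((SheafOfModules.toSheaf _).map (Formal2.idealPowModι I n F)) p).ker =
        (Sheaf.H.map ((SheafOfModules.toSheaf _).map
          (Formal2.idealPowIncl I (Nat.sub_le n c) F)) p).ker :=
  kernel_stabilizes I F p hS (fun k => finite_HH_idealPowMod I F H hF k p)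

end Groth.Agent.Lib.FormalFn48
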