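/-
helper20: **algebraization of morphisms out of twisted free modules** (formal functions in degree `0`).

`X` proper over a Noetherian `I`-adically complete ring `A`.
* `exists_section_of_compatible`: a compatible family of sections `O_X ⟶ N/I^{n+1}N` (`N` coherent) comes from a section
  `O_X ⟶ N`  (theorem on formal functions `S0003`, degree `0`, surjectivity).
* `exists_hom_of_compatible`: for `P` with `T P ≅ free K` (`T` an autoequivalence commuting with the `A`-action and
  preserving coherence of `N`), a compatible family `P ⟶ N/I^{n+1}N` comes from a morphism `P ⟶ N`.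
-/
import Groth.Agent.S0003
import Groth.Agent.Lib.H4H0Nat
import Groth.Agent.Lib.H78GlobGen2
import Groth.Agent.Lib.GlobGenDescent
import Groth.Agent.Lib.FormalGr20

set_option autoImplicit false
set_option linter.style.haveILetI false
universe u

open CategoryTheory CategoryTheory.Limits AlgebraicGeometry Opposite

namespace Groth.Agent.Lib.FormalAlgMap20

open Formal Groth.Agent.Lib.FormalCoker13 Groth.Agent.Lib.H78GlobGen2 Groth.Agent.Lib.H78SecCoord
  Groth.Agent.Lib.H4Twist Groth.Agent.Lib.StructureModule Groth.Agent.Lib.H90Invertible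

section H0

variable {X : Scheme.{u}}

/-- morphisms `O_X ⟶ M` as classes in `H^0` -/
noncomputable def toH0 {M : X.Modules} (s : Coh.structureModule X ⟶ M) : Coh.HH X M 0 :=
  (h0Equiv M).symm (sec s)

theorem toH0_injective {M : X.Modules} : Function.Injective (toH0 (M := M)) := by
  intro s t h
  have h1 : sec s = sec t := (h0Equiv M).symm.injective h
  rw [← ofSection_sec s, ← ofSection_sec t, h1]

theorem toH0_comp {M N : X.Modules} (s : Coh.structureModule X ⟶ M) (φ : M ⟶ N) :
    toH0 (s ≫ φ) = Groth.Agent.Lib.CohLES.map φ 0 (toH0 s) := by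
  apply (h0Equiv N).injective
  rw [h0Equiv_map]
  unfold toH0
  rw [AddEquiv.apply_symm_apply, AddEquiv.apply_symm_apply]
  rfl

theorem toH0_ofSection {M : X.Modules} (x : Coh.HH X M 0) : toH0 (ofSection (h0Equiv M x)) = x := by
  unfold toH0
  rw [sec_ofSection, AddEquiv.symm_apply_apply]

end H0

variable {A : Type u} [CommRing A] [IsNoetherianRing A] {I : Ideal A} [IsAdicComplete I A]
  {X : Scheme.{u}} [X.Over (Spec (CommRingCat.of A))] [IsProper (X ↘ Spec (CommRingCat.of A))]

/-- **Formal functions in degree `0`**: compatible sections of the `N/I^{n+1}N` come from a section of `N`. -/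
theorem exists_section_of_compatible {N : X.Modules} (hN : Coh.IsCoh N)
    (y : ∀ n, Coh.structureModule X ⟶ modPow I (n + 1) N)
    (hy : ∀ n, y (n + 1) ≫ modPowTrans I (n + 1) N = y n) :
    ∃ x : Coh.structureModule X ⟶ N, ∀ n, x ≫ modPowπ I (n + 1) N = y n := by
  have hz : (fun n => toH0 (y n)) ∈ HHlim I N 0 := by
    intro n
    change Groth.Agent.Lib.CohLES.map (modPowTrans I (n + 1) N) 0 (toH0 (y (n + 1))) = toH0 (y n)
    rw [← toH0_comp, hy]
  obtain ⟨x₀, hx₀⟩ := (Groth.Agent.S0003.result A I X N hN 0).2 ⟨_, hz⟩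
  refine ⟨ofSection (h0Equiv N x₀), fun n => ?_⟩
  apply toH0_injective
  rw [toH0_comp, toH0_ofSection]
  exact congrFun (congrArg Subtype.val hx₀) n

/-- **Algebraization of morphisms out of a twisted free module.** -/
theorem exists_hom_of_compatible (T : X.Modules ⥤ X.Modules) [T.IsEquivalence]
    (hT : ∀ (M : X.Modules) (a : A), T.map (smulMod A M a) = smulMod A (T.obj M) a)
    {K : Type u} {P : X.Modules} (ε : T.obj P ≅ freeM X K) {N : X.Modules} (hTN : Coh.IsCoh (T.obj N))
    (ψ : ∀ n, P ⟶ modPow I (n + 1) N) (hψ : ∀ n, ψ (n + 1) ≫ modPowTrans I (n + 1) N = ψ n) :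
    ∃ α : P ⟶ N, ∀ n, α ≫ modPowπ I (n + 1) N = ψ n := by
  haveI : T.PreservesZeroMorphisms := inferInstance
  -- `T (N/I^{n+1}N) ≅ (T N)/I^{n+1}(T N)`
  have h1 : ∀ n, ∃ e : T.obj (modPow I (n + 1) N) ≅ modPow I (n + 1) (T.obj N),
      T.map (modPowπ I (n + 1) N) ≫ e.hom = modPowπ I (n + 1) (T.obj N) := fun n =>
    Groth.Agent.Lib.FormalGr20.exists_map_modPow_iso T.asEquivalence.toAdjunction hT I (n + 1) N
  choose e he using h1
  have hetr : ∀ n, T.map (modPowTrans I (n + 1) N) ≫ (e n).hom =
      (e (n + 1)).hom ≫ modPowTrans I (n + 1) (T.obj N) := by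
    intro n
    haveI : Epi (modPowπ I (n + 1 + 1) N) := (isCokerSmul_modPowπ I (n + 1 + 1) N).epi
    haveI : Epi (T.map (modPowπ I (n + 1 + 1) N)) := inferInstance
    rw [← cancel_epi (T.map (modPowπ I (n + 1 + 1) N)), ← Category.assoc, ← T.map_comp, modPowπ_trans,
      he n, ← Category.assoc, he (n + 1), modPowπ_trans]
  -- compatible sections
  have h2 : ∀ k : K, ∃ x : Coh.structureModule X ⟶ T.obj N,
      ∀ n, x ≫ modPowπ I (n + 1) (T.obj N) = ιF k ≫ ε.inv ≫ T.map (ψ n) ≫ (e n).hom := by
    intro k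
    refine exists_section_of_compatible hTN (fun n => ιF k ≫ ε.inv ≫ T.map (ψ n) ≫ (e n).hom)
      (fun n => ?_)
    rw [Category.assoc, Category.assoc, Category.assoc, ← hetr n, ← T.map_comp_assoc, hψ n]
  choose x hx using h2
  let α' : freeM X K ⟶ T.obj N := ofSections (T.obj N) (fun k => sec (x k))
  have hα' : ∀ n, α' ≫ modPowπ I (n + 1) (T.obj N) = ε.inv ≫ T.map (ψ n) ≫ (e n).hom := by
    intro n
    apply Groth.Agent.Lib.GlobGenDescent.free_hom_ext
    intro k
    rw [← Category.assoc, ιF_ofSections, ofSection_sec, hx k n]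
  refine ⟨T.preimage (ε.hom ≫ α'), fun n => ?_⟩
  apply T.map_injective
  rw [T.map_comp, T.map_preimage, ← cancel_mono (e n).hom, Category.assoc, Category.assoc, he n, hα' n,
    Iso.hom_inv_id_assoc]

end Groth.Agent.Lib.FormalAlgMap20
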