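import Groth.Agent.Lib.H4SerreVanClosed
import Groth.Agent.Lib.CechPushAffine
import Groth.Agent.Lib.CohLESLinear
import Groth.Agent.Lib.H90OXModExact
import Groth.Agent.Lib.H90OXModPush
import Groth.Prelude.Def_Pic13

/-!
# Transfer of twisted cohomology from a closed subscheme of `P^n_k` to `P^n_k` (helper4)

* `epi_pushforward_map`, `shortExact_pushforward`: `i_*` is exact on quasi-coherent short exact sequences, `i` affine.
* `nonempty_linearEquiv_twistOn`: `H^q(X, F ⊗ i^*O(d)) ≃ₗ[k] H^q(P^n_k, i_*F ⊗ O(d))` for a closed `k`-immersion `i`.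
* `exists_mono_twist`: a short exact sequence `0 → F(-1) → F → G → 0` on `X` gives a monomorphism
  `ι : (i_*F)(-1) → i_*F` with cokernel `i_*G`.
-/

set_option autoImplicit false
universe u
open CategoryTheory CategoryTheory.Limits AlgebraicGeometry TopologicalSpace Opposite

namespace Groth.Agent.Lib.H4ClosedReg

section Affine

variable {X Y : Scheme.{u}} (i : X ⟶ Y) [IsAffineHom i]

/-- pushforward along an affine morphism preserves epimorphisms of quasi-coherent modules -/
theorem epi_pushforward_map {F G : X.Modules} [F.IsQuasicoherent] [G.IsQuasicoherent] (g : F ⟶ G)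
    [Epi g] : Epi ((Scheme.Modules.pushforward i).map g) := by
  have := Groth.Agent.Lib.H90OXModPush.isQuasicoherent_pushforward i F
  have := Groth.Agent.Lib.H90OXModPush.isQuasicoherent_pushforward i G
  rw [Groth.Agent.Lib.H90OXModExact.epi_iff_forall_affine]
  intro U
  exact Groth.Agent.Lib.H90OXModExact.surjective_app_of_epi g (U.2.preimage i)

/-- pushforward along an affine morphism preserves short exact sequences of quasi-coherent modules -/
theorem shortExact_pushforward {S : ShortComplex X.Modules} (hS : S.ShortExact)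
    [S.X₂.IsQuasicoherent] [S.X₃.IsQuasicoherent] :
    (S.map (Scheme.Modules.pushforward i)).ShortExact := by
  have hmono := hS.mono_f
  have hepi := hS.epi_g
  have hex : (S.map (Scheme.Modules.pushforward i)).Exact :=
    hS.exact.map_of_mono_of_preservesKernel (Scheme.Modules.pushforward i) hS.mono_f inferInstance
  have : Mono (S.map (Scheme.Modules.pushforward i)).f :=
    inferInstanceAs (Mono ((Scheme.Modules.pushforward i).map S.f))
  have : Epi (S.map (Scheme.Modules.pushforward i)).g := epi_pushforward_map i S.g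
  exact ShortComplex.ShortExact.mk hex

end Affine

section Proj

variable (k : Type u) [Field k] (n : ℕ) {X : Scheme.{u}} [X.Over (Spec (CommRingCat.of k))]
  (i : X ⟶ CohB1.ProjSpace n k) [IsClosedImmersion i]

instance isAffineHom_diagonal_projSpace :
    IsAffineHom (pullback.diagonal (terminal.from (CohB1.ProjSpace n k))) := by
  have : Scheme.IsSeparated (CohB1.ProjSpace n k) :=
    inferInstanceAs (Scheme.IsSeparated (AlgebraicGeometry.Proj (CohB1.polyGrading n k)))
  infer_instance

theorem isQuasicoherent_twistOn (F : X.Modules) (hF : Coh.IsCoh F) (d : ℤ) :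
    Coh.IsCoh (Pic13.twistOn k i F d) := by
  have hL' : Coh.IsCoh ((Scheme.Modules.pullback i).obj (Twist.twistProjSpace n k d)) :=
    Groth.Agent.Lib.H90Invertible.isCoh_of_isInvertible
      (Groth.Agent.Lib.H90Invertible.isInvertible_pullback i
        (Groth.Agent.Lib.H4Twist.isInvertible_twistProjSpace n k d))
  exact Groth.Agent.Lib.CohFinAmple.isCoh_tensorMod hF hL'

/-- `H^q(X, F(d)) ≃ₗ[k] H^q(P^n_k, (i_*F)(d))` for a closed `k`-immersion `i : X ⟶ P^n_k` and `F` coherent. -/
theorem nonempty_linearEquiv_twistOn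
    (hi : i ≫ CohB1.ProjSpace.toSpec n k = X ↘ Spec (CommRingCat.of k))
    (F : X.Modules) (hF : Coh.IsCoh F) (d : ℤ) (q : ℕ) :
    Nonempty (Coh.HH X (Pic13.twistOn k i F d) q ≃ₗ[k]
      Coh.HH (CohB1.ProjSpace n k)
        (CohB1.tensorMod ((Scheme.Modules.pushforward i).obj F) (Twist.twistProjSpace n k d)) q) := by
  have : i.IsOver (Spec (CommRingCat.of k)) := ⟨hi⟩
  have : (Pic13.twistOn k i F d).IsQuasicoherent := (isQuasicoherent_twistOn k n i F hF d).1
  obtain ⟨e1⟩ := Groth.Agent.Lib.CechPushAffine.nonempty_linearEquiv_push_of_isAffineHom k i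
    (Pic13.twistOn k i F d) q
  exact ⟨e1.trans (Groth.Agent.Lib.CohLES.mapEquivₗ k
    (Groth.Agent.Lib.H4ProjFormula.projFormulaIso i F
      (Groth.Agent.Lib.H4Twist.isInvertible_twistProjSpace n k d)).symm q)⟩

omit [X.Over (Spec (CommRingCat.of k))] in
/-- A short exact sequence `0 → F(-1) → F → G → 0` on `X` gives a monomorphism `ι : (i_*F)(-1) → i_*F` on `P^n_k`
with cokernel `i_*G`. -/
theorem exists_mono_twist (F G : X.Modules) (hF : Coh.IsCoh F) (hG : Coh.IsCoh G)
    (f : Pic13.twistOn k i F (-1) ⟶ F) (g : F ⟶ G) (hfg : f ≫ g = 0)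
    (hS : (ShortComplex.mk f g hfg).ShortExact) :
    ∃ ι : CohB1.tensorMod ((Scheme.Modules.pushforward i).obj F) (Twist.twistProjSpace n k (-1)) ⟶
        (Scheme.Modules.pushforward i).obj F,
      Mono ι ∧ Nonempty (cokernel ι ≅ (Scheme.Modules.pushforward i).obj G) := by
  have : (ShortComplex.mk f g hfg).X₂.IsQuasicoherent := hF.1
  have : (ShortComplex.mk f g hfg).X₃.IsQuasicoherent := hG.1
  have hS' := shortExact_pushforward i hS
  have hm : Mono ((Scheme.Modules.pushforward i).map f) := hS'.mono_f
  let e : CohB1.tensorMod ((Scheme.Modules.pushforward i).obj F) (Twist.twistProjSpace n k (-1)) ≅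
      (Scheme.Modules.pushforward i).obj (Pic13.twistOn k i F (-1)) :=
    Groth.Agent.Lib.H4ProjFormula.projFormulaIso i F
      (Groth.Agent.Lib.H4Twist.isInvertible_twistProjSpace n k (-1))
  refine ⟨e.hom ≫ (Scheme.Modules.pushforward i).map f, mono_comp _ _, ⟨?_⟩⟩
  exact (cokernelEpiComp e.hom ((Scheme.Modules.pushforward i).map f)) ≪≫
    IsColimit.coconePointUniqueUpToIso (cokernelIsCokernel _) hS'.gIsCokernel

end Proj

end Groth.Agent.Lib.H4ClosedReg
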