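/-
helper90: the unit `G ⟶ i_* i^* G` of a closed immersion on sections over affine opens: surjective with kernel
`I(U)·Γ(G,U)`; consequences: it is an epimorphism, and (Nakayama) for coherent `G` the support of `i_* i^* G` contains
`Supp G ∩ Z`.
-/
import Mathlib
import Groth.Agent.Lib.H90ClosedUnit
import Groth.Agent.Lib.H90DevHub2
import Groth.Agent.Lib.CohFinite

set_option autoImplicit false
universe u

open CategoryTheory CategoryTheory.Limits AlgebraicGeometry TopologicalSpace Opposite TensorProduct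

namespace Groth.Agent.Lib.H90UnitKer

section Alg

variable {R S M N : Type*} [CommRing R] [CommRing S] [Algebra R S]
  [AddCommGroup M] [Module R M] [AddCommGroup N] [Module R N] [Module S N] [IsScalarTower R S N]

/-- The kernel of a base change along a surjective ring map `R → S` is `ker(R → S)·M`. -/
theorem mem_smul_top_of_isBaseChange_of_surjective (f : M →ₗ[R] N) (hf : IsBaseChange S f)
    (hS : Function.Surjective (algebraMap R S)) (m : M) (hm : f m = 0) :
    m ∈ (RingHom.ker (algebraMap R S)) • (⊤ : Submodule R M) := by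
  set KM : Submodule R M := (RingHom.ker (algebraMap R S)) • (⊤ : Submodule R M) with hKM
  let K := LinearMap.ker (Algebra.linearMap R S)
  let q : (R ⧸ K) ≃ₗ[R] S := LinearMap.quotKerEquivOfSurjective (Algebra.linearMap R S) hS
  let B0 : (R ⧸ K) →ₗ[R] (M →ₗ[R] M ⧸ KM) :=
    K.liftQ (LinearMap.toSpanSingleton R (M →ₗ[R] M ⧸ KM) KM.mkQ) (fun a ha => by
      rw [LinearMap.mem_ker, LinearMap.toSpanSingleton_apply]
      ext m
      rw [LinearMap.smul_apply, LinearMap.zero_apply, ← map_smul, Submodule.mkQ_apply,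
        Submodule.Quotient.mk_eq_zero]
      exact Submodule.smul_mem_smul ((RingHom.mem_ker).mpr ha) Submodule.mem_top)
  let B : S →ₗ[R] M →ₗ[R] M ⧸ KM := B0 ∘ₗ q.symm.toLinearMap
  have hq : q.symm 1 = Submodule.Quotient.mk 1 := by
    rw [LinearEquiv.symm_apply_eq]
    change (1 : S) = (Algebra.linearMap R S) 1
    simp
  have hB : ∀ m, B 1 m = KM.mkQ m := by
    intro m
    change B0 (q.symm 1) m = _
    rw [hq]
    change (LinearMap.toSpanSingleton R (M →ₗ[R] M ⧸ KM) KM.mkQ) 1 m = _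
    rw [LinearMap.toSpanSingleton_apply, one_smul]
  let ψ : S ⊗[R] M →ₗ[R] M ⧸ KM := TensorProduct.lift B
  have h1 : hf.equiv ((1 : S) ⊗ₜ[R] m) = 0 := by
    rw [IsBaseChange.equiv_tmul, one_smul, hm]
  have h2 : (1 : S) ⊗ₜ[R] m = 0 := by
    rwa [LinearEquiv.map_eq_zero_iff] at h1
  have h3 := congrArg ψ h2
  rw [map_zero] at h3
  have h4 : KM.mkQ m = 0 := by
    rw [← hB m]
    exact h3
  rwa [Submodule.mkQ_apply, Submodule.Quotient.mk_eq_zero] at h4

end Alg

section Sch

open AlgebraicGeometry.Scheme.Modules Groth.Agent.Lib.UnitBaseChange Groth.Agent.Lib.H90ClosedUnit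
  Groth.Agent.Lib.QCohStalk Groth.Agent.Lib.H90DevHub2 Groth.Agent.Lib.H90DevCanon

variable {Z X : Scheme.{u}} (i : Z ⟶ X) [IsClosedImmersion i]

set_option backward.isDefEq.respectTransparency false in
/-- the unit `G ⟶ i_* i^* G` on sections over an affine open: surjective, and its kernel is `I(U)·Γ(G,U)` -/
theorem unit_app_affine (G : X.Modules) [G.IsQuasicoherent] (U : X.affineOpens) :
    Function.Surjective (((pullbackPushforwardAdjunction i).unit.app G).app U.1) ∧
      ∀ m : Γ(G, U.1), ((pullbackPushforwardAdjunction i).unit.app G).app U.1 m = 0 →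
        m ∈ (i.ker.ideal U) • (⊤ : Submodule Γ(X, U.1) Γ(G, U.1)) := by
  have hU' : IsAffineOpen (i ⁻¹ᵁ U.1) := U.2.preimage i
  have hbc := isBaseChange_unitSec i G hU' U.2 le_rfl
  letI : Algebra Γ(X, U.1) Γ(Z, i ⁻¹ᵁ U.1) := (i.appLE U.1 (i ⁻¹ᵁ U.1) le_rfl).hom.toAlgebra
  letI : Module Γ(X, U.1) Γ((Scheme.Modules.pullback i).obj G, i ⁻¹ᵁ U.1) :=
    Module.compHom _ (i.appLE U.1 (i ⁻¹ᵁ U.1) le_rfl).hom
  haveI : IsScalarTower Γ(X, U.1) Γ(Z, i ⁻¹ᵁ U.1) Γ((Scheme.Modules.pullback i).obj G, i ⁻¹ᵁ U.1) :=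
    .of_algebraMap_smul fun _ _ => rfl
  have hS : Function.Surjective (algebraMap Γ(X, U.1) Γ(Z, i ⁻¹ᵁ U.1)) := by
    intro b
    obtain ⟨a, ha⟩ := i.app_surjective U.1 U.2 b
    exact ⟨a, (appLE_self_eq i U.1 a).trans ha⟩
  have hfun : ∀ m, unitSec i G (le_refl (i ⁻¹ᵁ U.1)) m =
      ((pullbackPushforwardAdjunction i).unit.app G).app U.1 m := by
    intro m
    rw [unitSec_apply]
    have : (homOfLE (le_refl (i ⁻¹ᵁ U.1))).op = 𝟙 _ := rfl
    rw [this, CategoryTheory.Functor.map_id]
    rfl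
  constructor
  · intro n
    obtain ⟨m, hm⟩ := surjective_of_isBaseChange_of_surjective (unitSec i G le_rfl) hbc hS n
    exact ⟨m, (hfun m).symm.trans hm⟩
  · intro m hm
    have h1 := mem_smul_top_of_isBaseChange_of_surjective (unitSec i G le_rfl) hbc hS m
      ((hfun m).trans hm)
    have hker : RingHom.ker (algebraMap Γ(X, U.1) Γ(Z, i ⁻¹ᵁ U.1)) = i.ker.ideal U := by
      ext a
      rw [Scheme.Hom.ker_apply, RingHom.mem_ker, RingHom.mem_ker]
      constructor
      · intro ha
        exact (appLE_self_eq i U.1 a).symm.trans ha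
      · intro ha
        exact (appLE_self_eq i U.1 a).trans ha
    rwa [hker] at h1

/-- the unit `G ⟶ i_* i^* G` of a closed immersion is an epimorphism for quasi-coherent `G` -/
theorem epi_unit (G : X.Modules) [G.IsQuasicoherent] :
    Epi ((pullbackPushforwardAdjunction i).unit.app G) := by
  haveI : ((𝟭 X.Modules).obj G).IsQuasicoherent := ‹G.IsQuasicoherent›
  haveI : ((Scheme.Modules.pullback i ⋙ pushforward i).obj G).IsQuasicoherent := isQuasicoherent_pushPull i G
  rw [Groth.Agent.Lib.H90OXModExact.epi_iff_forall_affine]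
  intro U
  exact (unit_app_affine i G U).1

end Sch

section Nak

open AlgebraicGeometry.Scheme.Modules Groth.Agent.Lib.UnitBaseChange Groth.Agent.Lib.H90ClosedUnit
  Groth.Agent.Lib.QCohStalk Groth.Agent.Lib.H90DevHub2 Groth.Agent.Lib.H90DevCanon

variable {X : Scheme.{u}}

set_option backward.isDefEq.respectTransparency false in
/-- **Nakayama**: for a coherent module `F` and a closed subset `Zc`, the restriction `i_* i^* F` of `F` to the reduced
closed subscheme on `Zc` has nonzero stalk at every point of `Supp F ∩ Zc`. -/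
theorem mem_support_pushPull {F : X.Modules} (hF : Coh.IsCoh F) (Zc : Closeds X) {ξ : X}
    (hξZ : ξ ∈ (Zc : Set X)) (hξF : ξ ∈ CohB1.support F) :
    ξ ∈ CohB1.support ((pushforward (iZ Zc)).obj ((Scheme.Modules.pullback (iZ Zc)).obj F)) := by
  haveI : F.IsQuasicoherent := hF.1
  haveI := isQuasicoherent_pushPull (iZ Zc) F
  by_contra hnot
  rw [notMem_support_iff] at hnot
  rw [mem_support_iff] at hξF
  haveI := Groth.Agent.Lib.CohFinite.finite_stalk_of_isCoh F hF ξ
  have hle : (⊤ : Submodule (X.presheaf.stalk ξ) ↑(F.presheaf.stalk ξ)) ≤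
      IsLocalRing.maximalIdeal (X.presheaf.stalk ξ) • ⊤ := by
    intro w _
    obtain ⟨V, hV, m₀, rfl⟩ := TopCat.Presheaf.exists_germ_eq F.presheaf w
    obtain ⟨D, hD, hξD, hDV⟩ :=
      Opens.isBasis_iff_nbhd.mp X.isBasis_affineOpens (U := V) (x := ξ) hV
    rw [← germ_res F hDV ξ hξD m₀]
    set m := res F hDV m₀ with hm
    have h0 : ((pushforward (iZ Zc)).obj ((Scheme.Modules.pullback (iZ Zc)).obj F)).presheaf.germ D ξ hξD
        (((pullbackPushforwardAdjunction (iZ Zc)).unit.app F).app D m) = 0 :=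
      Subsingleton.elim _ _
    obtain ⟨s, hs, hsm⟩ := exists_smul_eq_zero_of_germ_eq_zero
      ((pushforward (iZ Zc)).obj ((Scheme.Modules.pullback (iZ Zc)).obj F)) hD ξ hξD _ h0
    have h1 : ((pullbackPushforwardAdjunction (iZ Zc)).unit.app F).app D (s • m) = 0 := by
      rw [Scheme.Modules.Hom.app_smul]
      exact hsm
    have h2 := (unit_app_affine (iZ Zc) F ⟨D, hD⟩).2 (s • m) h1
    have h3 : F.presheaf.germ D ξ hξD (s • m) ∈
        IsLocalRing.maximalIdeal (X.presheaf.stalk ξ) •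
          (⊤ : Submodule (X.presheaf.stalk ξ) ↑(F.presheaf.stalk ξ)) := by
      refine Submodule.smul_induction_on h2 (fun a ha n _ => ?_) (fun x y hx hy => ?_)
      · rw [germ_smul]
        refine Submodule.smul_mem_smul ?_ Submodule.mem_top
        rw [IsLocalRing.mem_maximalIdeal, mem_nonunits_iff]
        intro hu
        have hmem : ξ ∈ X.basicOpen a := (X.mem_basicOpen _ _ hξD).mpr hu
        have ha' : a ∈ (Scheme.IdealSheafData.vanishingIdeal Zc).ideal ⟨D, hD⟩ := by
          rwa [Scheme.IdealSheafData.ker_subschemeι] at ha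
        exact Groth.Agent.Lib.H90DevTors.basicOpen_le_compl Zc ⟨D, hD⟩ ha' hmem hξZ
      · rw [map_add]
        exact add_mem hx hy
    rw [germ_smul] at h3
    have h4 : F.presheaf.germ D ξ hξD m = (↑hs.unit⁻¹ : X.presheaf.stalk ξ) •
        (X.presheaf.germ D ξ hξD s • F.presheaf.germ D ξ hξD m) := by
      rw [smul_smul]
      have : (↑hs.unit⁻¹ : X.presheaf.stalk ξ) * X.presheaf.germ D ξ hξD s = 1 :=
        hs.val_inv_mul
      rw [this, one_smul]
    rw [h4]
    exact Submodule.smul_mem _ _ h3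
  have hbot := Submodule.eq_bot_of_le_smul_of_le_jacobson_bot
    (IsLocalRing.maximalIdeal (X.presheaf.stalk ξ))
    (⊤ : Submodule (X.presheaf.stalk ξ) ↑(F.presheaf.stalk ξ))
    (Module.finite_def.mp inferInstance) hle (IsLocalRing.maximalIdeal_le_jacobson _)
  obtain ⟨a, b, hab⟩ := hξF
  apply hab
  have ha : a ∈ (⊤ : Submodule (X.presheaf.stalk ξ) ↑(F.presheaf.stalk ξ)) := Submodule.mem_top
  have hb : b ∈ (⊤ : Submodule (X.presheaf.stalk ξ) ↑(F.presheaf.stalk ξ)) := Submodule.mem_top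
  rw [hbot, Submodule.mem_bot] at ha hb
  rw [ha, hb]

end Nak

end Groth.Agent.Lib.H90UnitKer
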