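/-
helper20: **uniform vanishing on all levels of a tower of thickenings** (EGA III 5.2.3-type; S5741).

`T : Tower A J` with `T.Xs 0` proper over `A/J`, invertible `L k` with `(T.i k)^* L (k+1) ≅ L k` and `L 0` ample, coherent `F k`
with `(T.i k)^* F (k+1) ≅ F k`: there is ONE `n₀` with `H^q(Xs k, F k ⊗ (L k)^n) = 0` for all `k`, `n ≥ n₀`, `q > 0`
(`uniform_vanishing_tower`).  Also the vanishing for the kernels `J^{m+1}F_k/J^{m+2}F_k` (`uniform_vanishing_tower_kernels`).
-/
import Groth.Agent.Lib.TowerSys20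
import Groth.Agent.Lib.H78AtlasIso

set_option autoImplicit false
set_option linter.style.haveILetI false
set_option linter.unusedSectionVars false
universe u

open CategoryTheory CategoryTheory.Limits AlgebraicGeometry Opposite

namespace Groth.Agent.Lib.TowerVan20

open Formal CohB1 Groth.Agent.Lib.UnifVanSys20 Groth.Agent.Lib.FormalKerSys20
  Groth.Agent.Lib.KerSysFunct20 Groth.Agent.Lib.FormalCoker13 Groth.Agent.Lib.ThickTower20
  Groth.Agent.Lib.TowerSys20 Groth.Agent.Lib.UnifVan20 Groth.Agent.Lib.CohLES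

variable {A : Type u} [CommRing A] {J : Ideal A} (T : Tower A J)

/-- Everything on level `k` is killed by `J^{k+1}`. -/
theorem killedBy_level (k : ℕ) (M : (T.Xs k).Modules) : KilledBy (J ^ (k + 1)) M := by
  intro b hb
  have h0 : Coh.toGlobal (T.Xs k ↘ Spec (CommRingCat.of A)) b = 0 := by
    change ((T.p k ≫ CohB1.specQuot J k).appTop).hom
      ((Scheme.ΓSpecIso (CommRingCat.of A)).inv.hom b) = 0
    rw [Scheme.Hom.comp_appTop]
    have h1 := Scheme.ΓSpecIso_inv_naturality
      (CommRingCat.ofHom (Ideal.Quotient.mk (J ^ (k + 1))))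
    have h2 := congr($(h1).hom b)
    change ((Scheme.ΓSpecIso _).inv.hom (Ideal.Quotient.mk (J ^ (k + 1)) b)) =
      (CohB1.specQuot J k).appTop.hom ((Scheme.ΓSpecIso _).inv.hom b) at h2
    change (T.p k).appTop.hom ((CohB1.specQuot J k).appTop.hom
      ((Scheme.ΓSpecIso (CommRingCat.of A)).inv.hom b)) = 0
    rw [← h2, Ideal.Quotient.eq_zero_iff_mem.mpr hb, map_zero, map_zero]
  unfold smulMod
  rw [h0, smulModΓ_zero]

/-- Compatible families pull back to the bottom level. -/
theorem nonempty_pull_j_iso (G : ∀ k, (T.Xs k).Modules)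
    (φ : ∀ k, Nonempty ((Scheme.Modules.pullback (T.i k)).obj (G (k + 1)) ≅ G k)) (k : ℕ) :
    Nonempty ((Scheme.Modules.pullback (T.j k)).obj (G k) ≅ G 0) := by
  induction k with
  | zero => exact ⟨(Scheme.Modules.pullbackId (T.Xs 0)).app (G 0)⟩
  | succ k ih =>
    obtain ⟨e⟩ := ih
    obtain ⟨e'⟩ := φ k
    exact ⟨(Scheme.Modules.pullbackComp (T.j k) (T.i k)).symm.app (G (k + 1)) ≪≫
      (Scheme.Modules.pullback (T.j k)).mapIso e' ≪≫ e⟩

/-- All levels are locally Noetherian if the bottom level is. -/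
theorem isLocallyNoetherian_level [IsNoetherianRing A] [IsLocallyNoetherian (T.Xs 0)] (k : ℕ) :
    IsLocallyNoetherian (T.Xs k) := by
  induction k with
  | zero => infer_instance
  | succ k ih =>
    exact NilThickBC.isLocallyNoetherian_of_isPullback (T.hcart k) (m := 2)
      (Tower.ker_specQuotTrans_sq k)

section Transfer

variable [IsNoetherianRing A] [hN : ∀ k, IsLocallyNoetherian (T.Xs k)]

/-- Vanishing on level `k` for a coherent module killed by `J`, from vanishing of its restriction to the bottom level. -/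
theorem van_of_van_pull (k : ℕ) {L : (T.Xs k).Modules} (hL : PicF.IsInvertible L)
    {L₀ : (T.Xs 0).Modules} (φ : (Scheme.Modules.pullback (T.j k)).obj L ≅ L₀)
    (M : (T.Xs k).Modules) (hM : Coh.IsCoh M) (hk : KilledBy (J ^ (0 + 1)) M) (d : ℕ)
    (h : Van L₀ d ((Scheme.Modules.pullback (T.j k)).obj M)) : Van L d M := by
  intro p hp
  haveI := isIso_unit_of_killedBy (J ^ (0 + 1)) (T.j k) (T.p 0) (T.isPullback_j k) M hM hk
  haveI : ((Scheme.Modules.pullback (T.j k)).obj M).IsQuasicoherent :=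
    (ZClos5.isCoh_pullback (T.j k) M hM).1
  obtain ⟨e1⟩ := H78AtlasIso.nonempty_pullback_tensorPow_iso (T.j k) hL d
  haveI := h p hp
  haveI : Subsingleton (Coh.HH (T.Xs 0) (tensorMod ((Scheme.Modules.pullback (T.j k)).obj M)
      ((Scheme.Modules.pullback (T.j k)).obj (tensorPow L d))) p) :=
    subsingleton_of_iso (OXModTensor.tensorModIso (Iso.refl _)
      (e1 ≪≫ OXModTensor.tensorPowIso φ d)) p
  have h5 := H78IdealDev.subsingleton_HH_push_twist (T.j k)
    ((Scheme.Modules.pullback (T.j k)).obj M) (tensorPow L d)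
    (H78TensorGen.isInvertible_tensorPow hL d) p
  haveI : Subsingleton (Coh.HH (T.Xs k) (tensorMod
      ((Scheme.Modules.pullback (T.j k) ⋙ Scheme.Modules.pushforward (T.j k)).obj M)
      (tensorPow L d)) p) := h5
  exact subsingleton_of_iso (OXModTensor.tensorModIso
    (asIso ((Scheme.Modules.pullbackPushforwardAdjunction (T.j k)).unit.app M))
    (Iso.refl (tensorPow L d))) p

end Transfer

section Main

variable [IsNoetherianRing A] [hN : ∀ k, IsLocallyNoetherian (T.Xs k)] [IsProper (T.p 0)]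
  (L : ∀ k, (T.Xs k).Modules) (hL : ∀ k, PicF.IsInvertible (L k))
  (φ : ∀ k, Nonempty ((Scheme.Modules.pullback (T.i k)).obj (L (k + 1)) ≅ L k))
  (hamp : CohB1.IsAmple (L 0))
  (F : ∀ k, (T.Xs k).Modules) (hF : ∀ k, Coh.IsCoh (F k))
  (ψ : ∀ k, Nonempty ((Scheme.Modules.pullback (T.i k)).obj (F (k + 1)) ≅ F k))

include hL φ hamp hF ψ in
/-- **Uniform vanishing for the graded pieces `J^{m+1}F_k/J^{m+2}F_k` on all levels.** -/
theorem uniform_vanishing_tower_kernels :
    ∃ d₀, ∀ d, d₀ ≤ d → ∀ k m, m < k → Van (L k) d (kernel (tr (C T F k) m)) := by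
  obtain ⟨r, a, hspan⟩ := Submodule.fg_iff_exists_fin_generating_family.mp
    (IsNoetherian.noetherian J)
  have ha : ∀ i, a i ∈ J := fun i => by
    rw [← hspan]
    exact Submodule.subset_span ⟨i, rfl⟩
  let ψ' := fun k => (ψ k).some
  let E := TowerSys20.E T F hF ψ' a ha
  have hfg : E.glue.IsFGFrom 0 := E.isFGFrom_glue (fun k =>
    SysGlue20.isFGFrom_map (Scheme.Modules.pullbackPushforwardAdjunction (T.j k))
      (isFGFrom_kerSys (hC T F hF k) a ha _ _ hspan))
  have hcoh : ∀ m, Coh.IsCoh (E.glue.G m) := fun m =>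
    ZClos5.isCoh_pullback (T.j (m + 1)) _ (isCoh_ker T F hF (m + 1) m)
  obtain ⟨d₀, h⟩ := uniform_serre_vanishing (T.p 0) hamp E.glue hcoh ⟨0, hfg⟩
  refine ⟨d₀, fun d hd k m hm => ?_⟩
  obtain ⟨e⟩ := E.nonempty_glueIso k m hm
  obtain ⟨φk⟩ := nonempty_pull_j_iso T L φ k
  refine van_of_van_pull T k (hL k) φk _ (isCoh_ker T F hF k m) ?_ d
    (van_of_iso e.symm (h d hd m))
  have := FormalGr20.killedBy_kernel_tr (hC T F hF k) m
  rwa [zero_add, pow_one]

include hL φ hamp hF ψ in
/-- **Uniform vanishing on all levels of a tower of thickenings.** -/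
theorem uniform_vanishing_tower :
    ∃ d₀, ∀ d, d₀ ≤ d → ∀ k, Van (L k) d (F k) := by
  obtain ⟨d₁, h₁⟩ := uniform_vanishing_tower_kernels T L hL φ hamp F hF ψ
  have hM0 : Coh.IsCoh (modPow J (0 + 1) (F 0)) := FormalGr20.isCoh_modPow J (0 + 1) (hF 0)
  obtain ⟨d₂, h₂⟩ := H78SerreVan.serre_vanishing_of_isAmple (T.p 0) hamp _ hM0
  refine ⟨max d₁ d₂, fun d hd k => ?_⟩
  obtain ⟨L', -, ⟨e'⟩⟩ := H78Dual.exists_tensor_inverse (hL k)
  have e : tensorMod (L k) L' ≅ Coh.structureModule (T.Xs k) := OXModTensor.braiding (L k) L' ≪≫ e'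
  obtain ⟨φk⟩ := nonempty_pull_j_iso T L φ k
  have hbase : Van (L k) d ((C T F k).obj (op 0)) := by
    refine van_of_van_pull T k (hL k) φk _ ((hC T F hF k).1 0) ((hC T F hF k).2.1 0) d ?_
    obtain ⟨ψk⟩ := nonempty_pull_j_iso T F ψ k
    obtain ⟨e1, -⟩ := FormalGr20.exists_map_modPow_iso
      (Scheme.Modules.pullbackPushforwardAdjunction (T.j k))
      (fun N b => FormalPull13.pull_smulMod_over (T.j k) (T.j_q k) N b) J (0 + 1) (F k)
    obtain ⟨e2⟩ := FormalGr20.nonempty_modPow_iso ψk J (0 + 1)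
    exact van_of_iso (e1 ≪≫ e2).symm (fun p hp => h₂ d (le_trans (le_max_right _ _) hd) p hp)
  have hall : ∀ n, n ≤ k → Van (L k) d ((C T F k).obj (op n)) := by
    intro n
    induction n with
    | zero => intro _; exact hbase
    | succ n ih =>
      intro hn
      haveI := epi_tr (hC T F hF k) n
      let S : ShortComplex (T.Xs k).Modules :=
        ShortComplex.mk (kernel.ι (tr (C T F k) n)) (tr (C T F k) n) (kernel.condition _)
      have hS : S.ShortExact :=
        { exact := ShortComplex.exact_of_f_is_kernel _ (kernelIsKernel (tr (C T F k) n))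
          mono_f := inferInstanceAs (Mono (kernel.ι (tr (C T F k) n)))
          epi_g := inferInstanceAs (Epi (tr (C T F k) n)) }
      have h1 : Van (L k) d S.X₁ := h₁ d (le_trans (le_max_left _ _) hd) k n hn
      have h3 : Van (L k) d S.X₃ := ih (Nat.le_of_succ_le hn)
      exact van_X₂ e d S hS h1 h3
  haveI hiso : IsIso (modPowπ J (k + 1) (F k)) :=
    (isCokerSmul_modPowπ J (k + 1) (F k)).isIso_of_killedBy (killedBy_level T k (F k))
  exact van_of_iso (asIso (modPowπ J (k + 1) (F k))).symm (hall k le_rfl)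

end Main

end Groth.Agent.Lib.TowerVan20
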