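/-
helper20: **uniform global generation on all levels of a tower of thickenings** (EGA III 5.2.4-type; S5743).

* `exists_lift_free`: morphisms from a free module lift along an epimorphism whose kernel has vanishing `H^1`;
* `epi_of_epi_comp_cokerSmul` (nilpotent Nakayama): if `π : P' ⟶ P` is a cokernel of multiplication by `I`, `P'` is killed by
  a power of `I` and `σ ≫ π` is an epimorphism, then `σ` is an epimorphism;
* `isGloballyGenerated_of_pull`: a coherent module killed by `I` is globally generated if its restriction to the closed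
  fibre is;
* `uniform_globalGeneration_tower`: one `N` with `F k ⊗ (L k)^d` globally generated for all `k`, `d ≥ N`.
-/
import Groth.Agent.Lib.TowerVan20
import Groth.Agent.Lib.H78GlobGen2
import Groth.Agent.Lib.H4H0Nat
import Groth.Agent.Lib.H4ClosedReg
import Groth.Agent.Lib.H90UnitKer
import Groth.Agent.Lib.GlobGenDescent
import Groth.Agent.Lib.FormalFn48
import Groth.Agent.Lib.PullTensor20

set_option autoImplicit false
set_option linter.style.haveILetI false
set_option linter.unusedSectionVars false
universe u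

open CategoryTheory CategoryTheory.Limits AlgebraicGeometry Opposite

namespace Groth.Agent.Lib.TowerGG20

open Formal CohB1 Groth.Agent.Lib.UnifVanSys20 Groth.Agent.Lib.FormalKerSys20
  Groth.Agent.Lib.FormalCoker13 Groth.Agent.Lib.ThickTower20
  Groth.Agent.Lib.TowerSys20 Groth.Agent.Lib.UnifVan20 Groth.Agent.Lib.CohLES
  Groth.Agent.Lib.H78GlobGen2 Groth.Agent.Lib.H90Invertible Groth.Agent.Lib.H78SecCoord
  Groth.Agent.Lib.TowerVan20 Groth.Agent.Lib.TwistEquiv

section Lift

variable {X : Scheme.{u}}

/-- Morphisms from a free module lift along an epimorphism whose kernel has vanishing `H^1`. -/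
theorem exists_lift_free {S : ShortComplex X.Modules} (hS : S.ShortExact)
    [Subsingleton (Coh.HH X S.X₁ 1)] {K : Type u} (σ : freeM X K ⟶ S.X₃) :
    ∃ σ' : freeM X K ⟶ S.X₂, σ' ≫ S.g = σ := by
  choose s hs using fun k : K => H4Twist.exists_section_lift hS (sec (ιF k ≫ σ))
  refine ⟨ofSections S.X₂ s, GlobGenDescent.free_hom_ext _ _ (fun k => ?_)⟩
  rw [← Category.assoc, ιF_ofSections, GlobGenDescent.ofSection_comp, hs k, ofSection_sec]

end Lift

section Nakayama

variable {A : Type u} [CommRing A] {X : Scheme.{u}} [X.Over (Spec (CommRingCat.of A))]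

/-- **Nilpotent Nakayama**: `σ` is an epimorphism if it is so modulo `I` and the target is killed by a power of `I`. -/
theorem epi_of_epi_comp_cokerSmul {I : Ideal A} {N : ℕ} {P' P Q : X.Modules} (π : P' ⟶ P)
    (hπ : IsCokerSmul I π) (hk : KilledBy (I ^ N) P') (σ : Q ⟶ P') (h : Epi (σ ≫ π)) : Epi σ := by
  apply Preadditive.epi_of_cancel_zero
  intro Z g hg
  -- descending induction: `b g = 0` for `b ∈ I^m`
  have key : ∀ m, m ≤ N → ∀ b ∈ I ^ (N - m), smulMod A P' b ≫ g = 0 := by
    intro m
    induction m with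
    | zero =>
      intro _ b hb
      rw [hk b hb, zero_comp]
    | succ m ih =>
      intro hm b hb
      have hgb : ∀ a ∈ I, smulMod A P' a ≫ (smulMod A P' b ≫ g) = 0 := by
        intro a ha
        rw [← Category.assoc, ← CohIII.smulMod_mul]
        apply ih (Nat.le_of_succ_le hm)
        have : N - m = (N - (m + 1)) + 1 := by omega
        rw [this, pow_succ]
        exact Ideal.mul_mem_mul hb ha
      obtain ⟨g', hg'⟩ := hπ.2.2 _ hgb
      have h0 : (σ ≫ π) ≫ g' = 0 := by
        rw [Category.assoc, hg', ← Category.assoc, ← smulMod_naturality, Category.assoc, hg, comp_zero]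
      have : g' = 0 := by
        rw [← cancel_epi (σ ≫ π), h0, comp_zero]
      rw [← hg', this, comp_zero]
  have h1 := key N le_rfl 1 (by rw [Nat.sub_self, pow_zero, Ideal.one_eq_top]; exact Submodule.mem_top)
  rwa [FormalFn48.smulMod_one, Category.id_comp] at h1

end Nakayama

section Pull

variable {A : Type u} [CommRing A] {X : Scheme.{u}} [X.Over (Spec (CommRingCat.of A))]

set_option backward.isDefEq.respectTransparency false in
/-- A coherent module killed by `I` is globally generated if its restriction to the closed fibre is. -/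
theorem isGloballyGenerated_of_pull [IsLocallyNoetherian X] (I : Ideal A)
    {Z : Scheme.{u}} (j : Z ⟶ X) (q : Z ⟶ Spec (CommRingCat.of (A ⧸ I)))
    (hsq : IsPullback j q (X ↘ Spec (CommRingCat.of A))
      (Spec.map (CommRingCat.ofHom (Ideal.Quotient.mk I))))
    (M : X.Modules) (hM : Coh.IsCoh M) (hk : KilledBy I M)
    (h : Curv2.IsGloballyGenerated ((Scheme.Modules.pullback j).obj M)) :
    Curv2.IsGloballyGenerated M := by
  obtain ⟨K, p, hp⟩ := h
  haveI : IsClosedImmersion (Spec.map (CommRingCat.ofHom (Ideal.Quotient.mk I))) :=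
    IsClosedImmersion.spec_of_surjective _ Ideal.Quotient.mk_surjective
  haveI : IsClosedImmersion j := MorphismProperty.of_isPullback hsq.flip inferInstance
  haveI := isIso_unit_of_killedBy I j q hsq M hM hk
  haveI : M.IsQuasicoherent := hM.1
  haveI : ((Scheme.Modules.pullback j).obj M).IsQuasicoherent :=
    (ZClos5.isCoh_pullback j M hM).1
  haveI := hp
  let p' : (Scheme.Modules.pullback j).obj (freeM X K) ⟶ (Scheme.Modules.pullback j).obj M :=
    (SheafOfModules.pullbackObjFreeIso j.toRingCatSheafHom K).hom ≫ p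
  haveI : Epi p' := epi_comp _ _
  haveI : ((Scheme.Modules.pullback j).obj (freeM X K)).IsQuasicoherent := by
    have : (SheafOfModules.free K : Z.Modules).IsQuasicoherent := inferInstance
    exact Groth.Agent.Lib.H90CohRestrict.isQuasicoherent_of_iso
      (SheafOfModules.pullbackObjFreeIso j.toRingCatSheafHom K).symm
  haveI : Epi ((Scheme.Modules.pushforward j).map p') := H4ClosedReg.epi_pushforward_map j p'
  haveI : Epi ((Scheme.Modules.pullbackPushforwardAdjunction j).unit.app (freeM X K)) :=
    H90UnitKer.epi_unit j (freeM X K)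
  refine ⟨K, (Scheme.Modules.pullbackPushforwardAdjunction j).unit.app (freeM X K) ≫
    (Scheme.Modules.pushforward j).map p' ≫
    inv ((Scheme.Modules.pullbackPushforwardAdjunction j).unit.app M), ?_⟩
  exact epi_comp _ _

end Pull

theorem isGloballyGenerated_of_iso {X : Scheme.{u}} {M N : X.Modules} (e : M ≅ N)
    (h : Curv2.IsGloballyGenerated M) : Curv2.IsGloballyGenerated N := by
  obtain ⟨K, p, hp⟩ := h
  haveI := hp
  exact ⟨K, p ≫ e.hom, epi_comp _ _⟩

section Main

variable {A : Type u} [CommRing A] {J : Ideal A} (T : Tower A J)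
  [IsNoetherianRing A] [hN : ∀ k, IsLocallyNoetherian (T.Xs k)] [IsProper (T.p 0)]
  (L : ∀ k, (T.Xs k).Modules) (hL : ∀ k, PicF.IsInvertible (L k))
  (φ : ∀ k, Nonempty ((Scheme.Modules.pullback (T.i k)).obj (L (k + 1)) ≅ L k))
  (hamp : CohB1.IsAmple (L 0))
  (F : ∀ k, (T.Xs k).Modules) (hF : ∀ k, Coh.IsCoh (F k))
  (ψ : ∀ k, Nonempty ((Scheme.Modules.pullback (T.i k)).obj (F (k + 1)) ≅ F k))

set_option backward.isDefEq.respectTransparency false in
include hL φ hamp hF ψ in
/-- **Uniform global generation on all levels of a tower of thickenings.** -/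
theorem uniform_globalGeneration_tower :
    ∃ N, ∀ d, N ≤ d → ∀ k,
      Curv2.IsGloballyGenerated (tensorMod (F k) (tensorPow (L k) d)) := by
  obtain ⟨d₁, h₁⟩ := uniform_vanishing_tower_kernels T L hL φ hamp F hF ψ
  haveI : CompactSpace (T.Xs 0) := QuasiCompact.compactSpace_of_compactSpace (T.p 0)
  obtain ⟨N₀, h₀⟩ := isGloballyGenerated_twist hamp (modPow J (0 + 1) (F 0))
    (FormalGr20.isCoh_modPow J (0 + 1) (hF 0))
  refine ⟨max d₁ N₀, fun d hd k => ?_⟩
  have hd₁ : d₁ ≤ d := le_trans (le_max_left _ _) hd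
  have hN₀ : N₀ ≤ d := le_trans (le_max_right _ _) hd
  obtain ⟨L', -, ⟨e'⟩⟩ := H78Dual.exists_tensor_inverse (hL k)
  have e : tensorMod (L k) L' ≅ Coh.structureModule (T.Xs k) := OXModTensor.braiding (L k) L' ≪≫ e'
  have ed := CohFinAmple.powInvIso e d
  haveI := isEquivalence_tensorRightFunctor ed
  have hLd : PicF.IsInvertible (tensorPow (L k) d) := H78TensorGen.isInvertible_tensorPow (hL k) d
  have hCk := hC T F hF k
  -- Step A: the bottom term of the twisted system is globally generated
  have hA : Curv2.IsGloballyGenerated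
      ((tensorRightFunctor (tensorPow (L k) d)).obj ((C T F k).obj (op 0))) := by
    refine isGloballyGenerated_of_pull (J ^ (0 + 1)) (T.j k) (T.p 0) (T.isPullback_j k) _
      (CohFinAmple.isCoh_tensorMod (hCk.1 0) (isCoh_of_isInvertible hLd)) ?_ ?_
    · intro b hb
      rw [← FormalGr20.tensorRightFunctor_map_smulMod, hCk.2.1 0 b hb, Functor.map_zero]
    · obtain ⟨φk⟩ := nonempty_pull_j_iso T L φ k
      obtain ⟨ψk⟩ := nonempty_pull_j_iso T F ψ k
      obtain ⟨e0⟩ := PullTensor20.nonempty_pullback_tensor_iso (T.j k) ((C T F k).obj (op 0)) hLd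
      obtain ⟨e1, -⟩ := FormalGr20.exists_map_modPow_iso
        (Scheme.Modules.pullbackPushforwardAdjunction (T.j k))
        (fun N b => FormalPull13.pull_smulMod_over (T.j k) (T.j_q k) N b) J (0 + 1) (F k)
      obtain ⟨e2⟩ := FormalGr20.nonempty_modPow_iso ψk J (0 + 1)
      obtain ⟨e3⟩ := H78AtlasIso.nonempty_pullback_tensorPow_iso (T.j k) (hL k) d
      exact isGloballyGenerated_of_iso (e0 ≪≫ OXModTensor.tensorModIso (e1 ≪≫ e2)
        (e3 ≪≫ OXModTensor.tensorPowIso φk d)).symm (h₀ d hN₀)
  obtain ⟨K, σ₀, hσ₀⟩ := hA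
  -- Step B: lift `σ₀` through the twisted system
  have hB : ∀ n, n ≤ k → ∃ σ : freeM (T.Xs k) K ⟶
      (tensorRightFunctor (tensorPow (L k) d)).obj ((C T F k).obj (op n)),
      σ ≫ (tensorRightFunctor (tensorPow (L k) d)).map
        ((C T F k).map (homOfLE (Nat.zero_le n)).op) = σ₀ := by
    intro n
    induction n with
    | zero =>
      intro _
      refine ⟨σ₀, ?_⟩
      have : (homOfLE (Nat.zero_le 0)).op = 𝟙 (op 0) := rfl
      rw [this, CategoryTheory.Functor.map_id, CategoryTheory.Functor.map_id]
      exact Category.comp_id _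
    | succ n ih =>
      intro hn
      obtain ⟨σ, hσ⟩ := ih (Nat.le_of_succ_le hn)
      haveI := epi_tr hCk n
      let S : ShortComplex (T.Xs k).Modules :=
        ShortComplex.mk (kernel.ι (tr (C T F k) n)) (tr (C T F k) n) (kernel.condition _)
      have hS : S.ShortExact :=
        { exact := ShortComplex.exact_of_f_is_kernel _ (kernelIsKernel (tr (C T F k) n))
          mono_f := inferInstanceAs (Mono (kernel.ι (tr (C T F k) n)))
          epi_g := inferInstanceAs (Epi (tr (C T F k) n)) }
      have hS' := shortExact_map_tensorRight ed hS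
      haveI : Subsingleton (Coh.HH (T.Xs k)
          (S.map (tensorRightFunctor (tensorPow (L k) d))).X₁ 1) :=
        h₁ d hd₁ k n hn 1 Nat.one_pos
      obtain ⟨σ', hσ'⟩ := exists_lift_free hS' σ
      refine ⟨σ', ?_⟩
      have hτ : (C T F k).map (homOfLE (Nat.zero_le (n + 1))).op =
          tr (C T F k) n ≫ (C T F k).map (homOfLE (Nat.zero_le n)).op := by
        rw [← Functor.map_comp]
        rfl
      rw [hτ, Functor.map_comp, ← Category.assoc]
      have hσ'' : σ' ≫ (tensorRightFunctor (tensorPow (L k) d)).map (tr (C T F k) n) = σ := hσ'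
      rw [hσ'', hσ]
  obtain ⟨σ, hσ⟩ := hB k le_rfl
  -- Step C: Nakayama
  have hcok : IsCokerSmul (J ^ (0 + 1)) ((tensorRightFunctor (tensorPow (L k) d)).map
      ((C T F k).map (homOfLE (Nat.zero_le k)).op)) :=
    FormalGr20.isCokerSmul_map (tensorRightFunctor (tensorPow (L k) d)).asEquivalence.toAdjunction
      (fun M a => FormalGr20.tensorRightFunctor_map_smulMod (tensorPow (L k) d) M a)
      (hCk.isCokerSmul_tr (Nat.zero_le k))
  have hkill : KilledBy ((J ^ (0 + 1)) ^ (k + 1))
      ((tensorRightFunctor (tensorPow (L k) d)).obj ((C T F k).obj (op k))) := by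
    have := killedBy_level T k
      ((tensorRightFunctor (tensorPow (L k) d)).obj ((C T F k).obj (op k)))
    rwa [zero_add, pow_one]
  haveI hepi : Epi σ := epi_of_epi_comp_cokerSmul _ hcok hkill σ (by rw [hσ]; exact hσ₀)
  -- Step D
  haveI hiso : IsIso (modPowπ J (k + 1) (F k)) :=
    (isCokerSmul_modPowπ J (k + 1) (F k)).isIso_of_killedBy (killedBy_level T k (F k))
  exact ⟨K, σ ≫ (tensorRightFunctor (tensorPow (L k) d)).map (inv (modPowπ J (k + 1) (F k))),
    epi_comp _ _⟩

end Main

end Groth.Agent.Lib.TowerGG20
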