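/-
helper20: **coherent formal modules on a projective scheme are generated by compatible sections of a uniform twist**
(EGA III 5.2.4-type, single scheme).

`X` proper over a Noetherian ring `A`, `L` ample with tensor inverse `L'`, `G` a coherent formal module for `I`.
* `exists_compatible_generators`: for all large `d` there are a finite `K` and morphisms
  `σ n : free K ⟶ G_n ⊗ L^d`, compatible with the transition maps, all epimorphisms;
* `exists_completion_desc`: a compatible family `M ⟶ G_n` induces `completion I M ⟶ G`;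
* `exists_levelwise_epi`: for all large `d` there are a finite `K`, a coherent `P` with `P ⊗ L^d ≅ free K` and a levelwise
  epimorphism `completion I P ⟶ G`.
-/
import Groth.Agent.Lib.TowerGG20
import Groth.Agent.Lib.FinGlobGen

set_option autoImplicit false
set_option linter.style.haveILetI false
universe u

open CategoryTheory CategoryTheory.Limits AlgebraicGeometry Opposite

namespace Groth.Agent.Lib.FormalGen20

open Formal CohB1 Groth.Agent.Lib.FormalKerSys20 Groth.Agent.Lib.FormalCoker13
  Groth.Agent.Lib.UnifVan20 Groth.Agent.Lib.H78GlobGen2 Groth.Agent.Lib.TwistEquiv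
  Groth.Agent.Lib.TowerGG20

variable {A : Type u} [CommRing A] {X : Scheme.{u}} [X.Over (Spec (CommRingCat.of A))]
variable {I : Ideal A} {G : ℕᵒᵖ ⥤ X.Modules}

/-- **Compatible generating sections of a uniform twist.** -/
theorem exists_compatible_generators [IsNoetherianRing A] [IsProper (X ↘ Spec (CommRingCat.of A))]
    {L L' : X.Modules} (hL : CohB1.IsAmple L) (e : tensorMod L L' ≅ Coh.structureModule X)
    (hG : IsCohFormal I G) :
    ∃ d₀, ∀ d, d₀ ≤ d → ∃ (K : Type u) (_ : Finite K)
      (σ : ∀ n, freeM X K ⟶ (tensorRightFunctor (tensorPow L d)).obj (G.obj (op n))),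
      (∀ n, σ (n + 1) ≫ (tensorRightFunctor (tensorPow L d)).map (tr G n) = σ n) ∧ ∀ n, Epi (σ n) := by
  haveI : CompactSpace X := hL.2.1
  obtain ⟨d₁, h₁⟩ := FormalKerSys20.uniform_vanishing_kernels L hL hG
  obtain ⟨N₀, h₀⟩ := Groth.Agent.Lib.FinGlobGen.exists_finite_epi_twist hL (G.obj (op 0)) (hG.1 0)
  refine ⟨max d₁ N₀, fun d hd => ?_⟩
  have hd₁ : d₁ ≤ d := le_trans (le_max_left _ _) hd
  have hN₀ : N₀ ≤ d := le_trans (le_max_right _ _) hd
  obtain ⟨K, hK, σ₀, hσ₀⟩ := h₀ d hN₀
  have ed := CohFinAmple.powInvIso e d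
  haveI := isEquivalence_tensorRightFunctor ed
  -- lifting step
  have step : ∀ n (σn : freeM X K ⟶ (tensorRightFunctor (tensorPow L d)).obj (G.obj (op n))),
      ∃ σ' : freeM X K ⟶ (tensorRightFunctor (tensorPow L d)).obj (G.obj (op (n + 1))),
        σ' ≫ (tensorRightFunctor (tensorPow L d)).map (tr G n) = σn := by
    intro n σn
    haveI := FormalKerSys20.epi_tr hG n
    let S : ShortComplex X.Modules :=
      ShortComplex.mk (kernel.ι (tr G n)) (tr G n) (kernel.condition _)
    have hS : S.ShortExact :=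
      { exact := ShortComplex.exact_of_f_is_kernel _ (kernelIsKernel (tr G n))
        mono_f := inferInstanceAs (Mono (kernel.ι (tr G n)))
        epi_g := inferInstanceAs (Epi (tr G n)) }
    have hS' := shortExact_map_tensorRight ed hS
    haveI : Subsingleton (Coh.HH X (S.map (tensorRightFunctor (tensorPow L d))).X₁ 1) :=
      h₁ d hd₁ n 1 Nat.one_pos
    obtain ⟨σ', hσ'⟩ := exists_lift_free hS' σn
    exact ⟨σ', hσ'⟩
  let σ : ∀ n, freeM X K ⟶ (tensorRightFunctor (tensorPow L d)).obj (G.obj (op n)) := fun n =>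
    Nat.rec (motive := fun n => freeM X K ⟶ (tensorRightFunctor (tensorPow L d)).obj (G.obj (op n)))
      σ₀ (fun n σn => (step n σn).choose) n
  have hσ : ∀ n, σ (n + 1) ≫ (tensorRightFunctor (tensorPow L d)).map (tr G n) = σ n := fun n =>
    (step n (σ n)).choose_spec
  have hσ0 : ∀ n, σ n ≫ (tensorRightFunctor (tensorPow L d)).map
      (G.map (homOfLE (Nat.zero_le n)).op) = σ₀ := by
    intro n
    induction n with
    | zero =>
      have : (homOfLE (Nat.zero_le 0)).op = 𝟙 (op 0) := rfl
      rw [this, CategoryTheory.Functor.map_id, CategoryTheory.Functor.map_id]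
      exact Category.comp_id _
    | succ n ih =>
      have hτ : G.map (homOfLE (Nat.zero_le (n + 1))).op =
          tr G n ≫ G.map (homOfLE (Nat.zero_le n)).op := by
        rw [← Functor.map_comp]
        rfl
      rw [hτ, Functor.map_comp, ← Category.assoc, hσ n, ih]
  refine ⟨K, hK, σ, hσ, fun n => ?_⟩
  have hcok : IsCokerSmul (I ^ (0 + 1)) ((tensorRightFunctor (tensorPow L d)).map
      (G.map (homOfLE (Nat.zero_le n)).op)) :=
    FormalGr20.isCokerSmul_map (tensorRightFunctor (tensorPow L d)).asEquivalence.toAdjunction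
      (fun M a => FormalGr20.tensorRightFunctor_map_smulMod (tensorPow L d) M a)
      (hG.isCokerSmul_tr (Nat.zero_le n))
  have hkill : KilledBy ((I ^ (0 + 1)) ^ (n + 1))
      ((tensorRightFunctor (tensorPow L d)).obj (G.obj (op n))) := by
    rw [zero_add, pow_one]
    intro b hb
    rw [← FormalGr20.tensorRightFunctor_map_smulMod, hG.2.1 n b hb, Functor.map_zero]
  exact epi_of_epi_comp_cokerSmul _ hcok hkill (σ n) (by rw [hσ0 n]; exact hσ₀)

/-- A compatible family of morphisms `M ⟶ G_n` (with `G_n` killed by `I^{n+1}`) induces a morphism of systems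
`completion I M ⟶ G`. -/
theorem exists_completion_desc {M : X.Modules} (hG : ∀ n, KilledBy (I ^ (n + 1)) (G.obj (op n)))
    (ρ' : ∀ n, M ⟶ G.obj (op n)) (hρ' : ∀ n, ρ' (n + 1) ≫ tr G n = ρ' n) :
    ∃ ρ : completion I M ⟶ G, ∀ n, modPowπ I (n + 1) M ≫ ρ.app (op n) = ρ' n := by
  have h1 : ∀ n, ∃ ρn : modPow I (n + 1) M ⟶ G.obj (op n), modPowπ I (n + 1) M ≫ ρn = ρ' n := by
    intro n
    refine (isCokerSmul_modPowπ I (n + 1) M).2.2 (ρ' n) (fun a ha => ?_)
    rw [smulMod_naturality, hG n a ha, comp_zero]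
  choose ρ hρ using h1
  refine ⟨NatTrans.ofOpSequence (F := completion I M) (G := G) ρ (fun n => ?_), fun n => hρ n⟩
  have key : modPowTrans I (n + 1) M ≫ ρ n = ρ (n + 1) ≫ tr G n := by
    haveI : Epi (modPowπ I (n + 1 + 1) M) := (isCokerSmul_modPowπ I (n + 1 + 1) M).epi
    rw [← cancel_epi (modPowπ I (n + 1 + 1) M), ← Category.assoc, modPowπ_trans, hρ,
      ← Category.assoc, hρ, hρ']
  have h := FormalGr20.completion_map_succ I M n
  exact (congrArg (fun φ => φ ≫ ρ n) h).trans key

/-- **Coherent formal modules are levelwise quotients of completions of twisted free modules.** -/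
theorem exists_levelwise_epi [IsNoetherianRing A] [IsProper (X ↘ Spec (CommRingCat.of A))]
    {L : X.Modules} (hL : CohB1.IsAmple L) (hG : IsCohFormal I G) :
    ∃ d₀, ∀ d, d₀ ≤ d → ∃ (K : Type u) (_ : Finite K) (P : X.Modules) (_ : Coh.IsCoh P)
      (_ : (tensorRightFunctor (tensorPow L d)).obj P ≅ freeM X K) (ρ : completion I P ⟶ G),
      ∀ n, Epi (ρ.app (op n)) := by
  obtain ⟨L', hL', ⟨e'⟩⟩ := H78Dual.exists_tensor_inverse hL.1
  have e : tensorMod L L' ≅ Coh.structureModule X := OXModTensor.braiding L L' ≪≫ e'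
  obtain ⟨d₀, h⟩ := exists_compatible_generators hL e hG
  refine ⟨d₀, fun d hd => ?_⟩
  obtain ⟨K, hK, σ, hσ, hepi⟩ := h d hd
  have ed := CohFinAmple.powInvIso e d
  haveI := isEquivalence_tensorRightFunctor ed
  have hcohL' : Coh.IsCoh (tensorPow L' d) :=
    CohFinAmple.isCoh_tensorPow (Groth.Agent.Lib.H90Invertible.isCoh_of_isInvertible hL') d
  let P : X.Modules := tensorMod (freeM X K) (tensorPow L' d)
  have hP : Coh.IsCoh P := CohFinAmple.isCoh_tensorMod (CohFinAmple.isCoh_free X K) hcohL'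
  let ε : (tensorRightFunctor (tensorPow L d)).obj P ≅ freeM X K :=
    OXModTensor.associator (freeM X K) (tensorPow L' d) (tensorPow L d) ≪≫
      OXModTensor.tensorModIso (Iso.refl _) (OXModTensor.braiding _ _ ≪≫ ed) ≪≫
      OXModTensor.rightUnitor _
  let T := tensorRightFunctor (tensorPow L d)
  let ρ' : ∀ n, P ⟶ G.obj (op n) := fun n => T.preimage (ε.hom ≫ σ n)
  have hTρ' : ∀ n, T.map (ρ' n) = ε.hom ≫ σ n := fun n => T.map_preimage _
  have hρ' : ∀ n, ρ' (n + 1) ≫ tr G n = ρ' n := by
    intro n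
    apply T.map_injective
    rw [Functor.map_comp, hTρ', hTρ', Category.assoc, hσ n]
  have hρ'epi : ∀ n, Epi (ρ' n) := by
    intro n
    haveI := hepi n
    haveI : Epi (T.map (ρ' n)) := by rw [hTρ']; infer_instance
    exact T.epi_of_epi_map inferInstance
  obtain ⟨ρ, hρ⟩ := exists_completion_desc (I := I) (fun n => hG.killedBy n) ρ' hρ'
  refine ⟨K, hK, P, hP, ε, ρ, fun n => ?_⟩
  haveI : Epi (modPowπ I (n + 1) P ≫ ρ.app (op n)) := by rw [hρ n]; exact hρ'epi n
  exact epi_of_epi (modPowπ I (n + 1) P) _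

end Groth.Agent.Lib.FormalGen20
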