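/-
helper20: **kernels of levelwise epimorphisms of coherent formal modules** (Artin–Rees; Stacks 087X in the epi case).

`exists_formal_kernel`: `X` Noetherian over `Spec A`, `I` a finitely generated ideal, `ρ : F ⟶ G` a levelwise epimorphism of
coherent formal modules for `I`.  Then there are a coherent formal module `K` and `σ : K ⟶ F` with `σ ≫ ρ = 0` such that
`σ_n` maps ONTO `Ker(ρ_n)` for every `n` (so `G_n = Coker(σ_n)`).
-/
import Groth.Agent.Lib.FormalAdic20

set_option autoImplicit false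
set_option linter.style.haveILetI false
universe u

open CategoryTheory CategoryTheory.Limits AlgebraicGeometry Opposite

namespace Groth.Agent.Lib.FormalKerAdic20

open Formal Groth.Agent.Lib.FormalKerSys20 Groth.Agent.Lib.FormalCoker13 Groth.Agent.Lib.FormalARKer20
  Groth.Agent.Lib.FormalAdic20 Groth.Agent.Lib.UnifVanSys20

section Shift

variable {C : Type*} [Category C]

/-- the shift `n ↦ k + n` on `ℕ` -/
def shiftN (k : ℕ) : ℕ ⥤ ℕ :=
  Monotone.functor (f := fun n : ℕ => k + n) (fun _ _ h => Nat.add_le_add_left h k)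

/-- shift a system by `k`: `(shiftSys k K)_n = K_{k+n}` -/
def shiftSys (k : ℕ) (K : ℕᵒᵖ ⥤ C) : ℕᵒᵖ ⥤ C := (shiftN k).op ⋙ K

/-- the transition from the shifted system -/
def shiftTo (k : ℕ) (K : ℕᵒᵖ ⥤ C) : shiftSys k K ⟶ K where
  app n := K.map (homOfLE (Nat.le_add_left n.unop k)).op
  naturality m n f := by
    change K.map _ ≫ K.map _ = K.map _ ≫ K.map _
    rw [← K.map_comp, ← K.map_comp]
    rfl

end Shift

variable {A : Type u} [CommRing A] {X : Scheme.{u}} [X.Over (Spec (CommRingCat.of A))]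
variable {I : Ideal A} {F G : ℕᵒᵖ ⥤ X.Modules}

theorem tr_shiftSys (k : ℕ) (K : ℕᵒᵖ ⥤ X.Modules) (n : ℕ) : tr (shiftSys k K) n = tr K (k + n) := rfl

/-- all transition maps of a surjective system are epimorphisms -/
theorem epi_map_of_epi_tr {K : ℕᵒᵖ ⥤ X.Modules} (hK : ∀ n, Epi (tr K n)) {n m : ℕ} (h : n ≤ m) :
    Epi (K.map (homOfLE h).op) := by
  induction m, h using Nat.le_induction with
  | base =>
    have : (homOfLE (le_refl n)).op = 𝟙 (op n) := rfl
    rw [this, K.map_id]; infer_instance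
  | succ m hnm ih =>
    have : (homOfLE (hnm.trans (Nat.le_succ m))).op = (homOfLE (Nat.le_succ m)).op ≫ (homOfLE hnm).op := rfl
    rw [this, K.map_comp]
    have := hK m
    exact epi_comp _ _

/-- **Kernels of levelwise epimorphisms of coherent formal modules.** -/
theorem exists_formal_kernel [IsLocallyNoetherian X] [CompactSpace X] (hI : I.FG)
    (hF : IsCohFormal I F) (hG : IsCohFormal I G) (ρ : F ⟶ G) (hρ : ∀ n, Epi (ρ.app (op n))) :
    ∃ (K : ℕᵒᵖ ⥤ X.Modules) (σ : K ⟶ F) (h : ∀ n, σ.app (op n) ≫ ρ.app (op n) = 0),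
      IsCohFormal I K ∧ ∀ n, Epi (kernel.lift (ρ.app (op n)) (σ.app (op n)) (h n)) := by
  obtain ⟨r, a, hspan⟩ := Submodule.fg_iff_exists_fin_generating_family.mp hI
  have ha : ∀ i, a i ∈ I := fun i => by
    rw [← hspan]
    exact Submodule.subset_span ⟨i, rfl⟩
  choose s hs using fun (i : Fin r) n => exists_sec hF (a i) (ha i) n
  have hK' := surjSys_kerF hF hG ρ hρ
  choose s' hs' using fun (i : Fin r) n => hK'.exists_sec (a i) (ha i) n
  obtain ⟨c, hc⟩ := isFG_kSys_kerF hF hG ρ hρ a ha s hs s' hs' hspan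
  -- the shifted kernel system satisfies Artin–Rees
  have hAR : ARSys I (shiftSys (c + 1) (kerF ρ)) := by
    refine ⟨fun n => hK'.epi (c + 1 + n), fun n Z g hg => ?_⟩
    refine ar_of_isFGFrom hF hG ρ hρ a ha s' hs' hc (c + 1 + n) (by omega) g (fun b hb => hg b ?_)
    have : c + 1 + n - c = n + 1 := by omega
    rwa [this] at hb
  haveI : ∀ n, (F.obj (op n)).IsQuasicoherent := fun n => (hF.1 n).1
  haveI : ∀ n, (G.obj (op n)).IsQuasicoherent := fun n => (hG.1 n).1
  have hcoh : ∀ n, Coh.IsCoh ((shiftSys (c + 1) (kerF ρ)).obj (op n)) := fun n =>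
    Groth.Agent.Lib.H90OXModExact.isCoh_kernel (ρ.app (op (c + 1 + n))) (hF.1 (c + 1 + n))
  obtain ⟨σ, hσ⟩ := exists_adicDesc (I := I) (fun n => hF.killedBy n)
    (shiftTo (c + 1) (kerF ρ) ≫ kerι ρ)
  obtain ⟨σ', hσ'⟩ : ∃ σ' : ∀ n, adicObj I (shiftSys (c + 1) (kerF ρ)) n ⟶ F.obj (op n),
      ∀ n, σ' n = σ.app (op n) := ⟨fun n => σ.app (op n), fun n => rfl⟩
  have hσn : ∀ n, adicq I (shiftSys (c + 1) (kerF ρ)) n ≫ σ' n =
      (shiftTo (c + 1) (kerF ρ)).app (op n) ≫ kernel.ι (ρ.app (op n)) := fun n =>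
    (congrArg (fun φ => adicq I (shiftSys (c + 1) (kerF ρ)) n ≫ φ) (hσ' n)).trans
      (congrArg (fun φ => φ.app (op n)) hσ)
  have h0' : ∀ n, σ' n ≫ ρ.app (op n) = 0 := by
    intro n
    rw [← cancel_epi (adicq I (shiftSys (c + 1) (kerF ρ)) n), ← Category.assoc, hσn, Category.assoc,
      kernel.condition, comp_zero, comp_zero]
  have h0 : ∀ n, σ.app (op n) ≫ ρ.app (op n) = 0 := fun n =>
    (congrArg (fun φ => φ ≫ ρ.app (op n)) (hσ' n)).symm.trans (h0' n)
  refine ⟨adicF I (shiftSys (c + 1) (kerF ρ)), σ, h0, isCohFormal_adicF hAR hcoh, fun n => ?_⟩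
  have h1 : adicq I (shiftSys (c + 1) (kerF ρ)) n ≫ kernel.lift (ρ.app (op n)) (σ' n) (h0' n) =
      (shiftTo (c + 1) (kerF ρ)).app (op n) := by
    rw [← cancel_mono (kernel.ι (ρ.app (op n))), Category.assoc, kernel.lift_ι, hσn]
  haveI : Epi ((shiftTo (c + 1) (kerF ρ)).app (op n)) :=
    epi_map_of_epi_tr hK'.epi (Nat.le_add_left n (c + 1))
  have h2 : Epi (adicq I (shiftSys (c + 1) (kerF ρ)) n ≫
      kernel.lift (ρ.app (op n)) (σ' n) (h0' n)) := by
    rw [h1]; infer_instance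
  have h3 : Epi (kernel.lift (ρ.app (op n)) (σ' n) (h0' n)) :=
    epi_of_epi (adicq I (shiftSys (c + 1) (kerF ρ)) n) _
  have h4 : ∀ (τ : adicObj I (shiftSys (c + 1) (kerF ρ)) n ⟶ F.obj (op n)) (hτ : τ = σ.app (op n))
      (h : τ ≫ ρ.app (op n) = 0), Epi (kernel.lift (ρ.app (op n)) τ h) →
      Epi (kernel.lift (ρ.app (op n)) (σ.app (op n)) (h0 n)) := by
    rintro τ rfl h he
    exact he
  exact h4 (σ' n) (hσ' n) (h0' n) h3

end Groth.Agent.Lib.FormalKerAdic20
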