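/-
helper20: **Grothendieck's existence theorem, projective case** (EGA III 5.1.4 for schemes with an ample invertible module).

`exists_algebraization`: `A` Noetherian and `I`-adically complete, `X` proper over `Spec A` with an ample invertible
module, `G` a coherent formal module for `I`.  Then `G ≅ completion I M` for a coherent `M`.
-/
import Groth.Agent.Lib.FormalKerAdic20
import Groth.Agent.Lib.FormalGen20
import Groth.Agent.Lib.FormalAlgMap20

set_option autoImplicit false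
set_option linter.style.haveILetI false
universe u

open CategoryTheory CategoryTheory.Limits AlgebraicGeometry Opposite

namespace Groth.Agent.Lib.FormalAlgebraize20

open Formal CohB1 Groth.Agent.Lib.FormalKerSys20 Groth.Agent.Lib.FormalCoker13
  Groth.Agent.Lib.H78GlobGen2 Groth.Agent.Lib.TwistEquiv Groth.Agent.Lib.FormalARKer20

variable {A : Type u} [CommRing A] {X : Scheme.{u}} [X.Over (Spec (CommRingCat.of A))]
variable {I : Ideal A} {G : ℕᵒᵖ ⥤ X.Modules}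

/-- **Recognition of the completion of a cokernel**: if `u n : P₀ ⟶ G_n` is a compatible family each of which is a
cokernel of `(α, I^{n+1})`, then `G` is the completion of `Coker α`. -/
theorem nonempty_completion_cokernel_iso {P₁ P₀ : X.Modules} (α : P₁ ⟶ P₀)
    (hG : ∀ n, KilledBy (I ^ (n + 1)) (G.obj (op n)))
    (u : ∀ n, P₀ ⟶ G.obj (op n)) (hu : ∀ n, u (n + 1) ≫ tr G n = u n)
    (hα : ∀ n, α ≫ u n = 0) (hepi : ∀ n, Epi (u n))
    (huniv : ∀ n ⦃Z : X.Modules⦄ (g : P₀ ⟶ Z), α ≫ g = 0 → (∀ a ∈ I ^ (n + 1), smulMod A P₀ a ≫ g = 0) →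
      ∃ g' : G.obj (op n) ⟶ Z, u n ≫ g' = g) :
    Nonempty (completion I (cokernel α) ≅ G) := by
  set M := cokernel α with hM
  let q : P₀ ⟶ M := cokernel.π α
  let v : ∀ n, P₀ ⟶ modPow I (n + 1) M := fun n => q ≫ modPowπ I (n + 1) M
  haveI : ∀ n, Epi (modPowπ I (n + 1) M) := fun n => (isCokerSmul_modPowπ I (n + 1) M).epi
  haveI hvepi : ∀ n, Epi (v n) := fun n => epi_comp _ _
  haveI := hepi
  have hαv : ∀ n, α ≫ v n = 0 := fun n => by
    change α ≫ cokernel.π α ≫ _ = 0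
    rw [← Category.assoc, cokernel.condition, zero_comp]
  have hvkill : ∀ n, ∀ a ∈ I ^ (n + 1), smulMod A P₀ a ≫ v n = 0 := by
    intro n a ha
    rw [smulMod_naturality, Groth.Agent.Lib.FormalFn20.killedBy_modPow I (n + 1) M a ha, comp_zero]
  have hukill : ∀ n, ∀ a ∈ I ^ (n + 1), smulMod A P₀ a ≫ u n = 0 := by
    intro n a ha
    rw [smulMod_naturality, hG n a ha, comp_zero]
  -- the two comparison maps
  have h1 : ∀ n, ∃ f : modPow I (n + 1) M ⟶ G.obj (op n), v n ≫ f = u n := by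
    intro n
    have h0 : α ≫ u n = 0 := hα n
    obtain ⟨g₁, hg₁⟩ : ∃ g₁ : M ⟶ G.obj (op n), q ≫ g₁ = u n :=
      ⟨cokernel.desc α (u n) h0, cokernel.π_desc _ _ _⟩
    obtain ⟨f, hf⟩ := (isCokerSmul_modPowπ I (n + 1) M).2.2 g₁ (fun a ha => by
      rw [smulMod_naturality, hG n a ha, comp_zero])
    exact ⟨f, by rw [Category.assoc, hf, hg₁]⟩
  choose f hf using h1
  have h2 : ∀ n, ∃ f' : G.obj (op n) ⟶ modPow I (n + 1) M, u n ≫ f' = v n := fun n =>
    huniv n (v n) (hαv n) (hvkill n)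
  choose f' hf' using h2
  have hff' : ∀ n, f n ≫ f' n = 𝟙 _ := fun n => by
    rw [← cancel_epi (v n), ← Category.assoc, hf, hf', Category.comp_id]
  have hf'f : ∀ n, f' n ≫ f n = 𝟙 _ := fun n => by
    rw [← cancel_epi (u n), ← Category.assoc, hf', hf, Category.comp_id]
  have hnat : ∀ n, modPowTrans I (n + 1) M ≫ f n = f (n + 1) ≫ tr G n := by
    intro n
    have e1 : v (n + 1) ≫ modPowTrans I (n + 1) M = v n := by
      show (q ≫ modPowπ I (n + 1 + 1) M) ≫ modPowTrans I (n + 1) M = q ≫ modPowπ I (n + 1) M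
      rw [Category.assoc, modPowπ_trans]
    rw [← cancel_epi (v (n + 1)), ← Category.assoc, e1, hf, ← Category.assoc, hf, hu]
  let φ : completion I M ⟶ G := NatTrans.ofOpSequence (F := completion I M) (G := G) f (fun n =>
    (congrArg (fun χ => χ ≫ f n) (Groth.Agent.Lib.FormalGr20.completion_map_succ I M n)).trans (hnat n))
  haveI : ∀ n : ℕᵒᵖ, IsIso (φ.app n) := by
    intro n
    obtain ⟨n⟩ := n
    exact ⟨f' n, hff' n, hf'f n⟩
  haveI : IsIso φ := NatIso.isIso_of_isIso_app φ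
  exact ⟨asIso φ⟩

section Abelian

variable {C : Type*} [Category C] [Abelian C]

/-- if `σ` maps onto the kernel of the epimorphism `ρ`, then `ρ` is a cokernel of `σ` -/
theorem exists_fac_of_epi_kernel_lift {F' G' K' Z : C} (ρ : F' ⟶ G') (σ : K' ⟶ F') (h0 : σ ≫ ρ = 0)
    (h1 : Epi (kernel.lift ρ σ h0)) (h2 : Epi ρ) (g : F' ⟶ Z) (h : σ ≫ g = 0) :
    ∃ g' : G' ⟶ Z, ρ ≫ g' = g := by
  apply exists_fac_of_epi ρ g
  rw [← cancel_epi (kernel.lift ρ σ h0), comp_zero, ← Category.assoc, kernel.lift_ι, h]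

end Abelian

/-- **Grothendieck's existence theorem for schemes with an ample invertible module** (proper over a complete
Noetherian ring). -/
theorem exists_algebraization [IsNoetherianRing A] [IsAdicComplete I A]
    [IsProper (X ↘ Spec (CommRingCat.of A))] {L : X.Modules} (hL : CohB1.IsAmple L)
    (hG : IsCohFormal I G) : ∃ M : X.Modules, Coh.IsCoh M ∧ Nonempty (completion I M ≅ G) := by
  haveI : IsLocallyNoetherian X :=
    LocallyOfFiniteType.isLocallyNoetherian (X ↘ Spec (CommRingCat.of A))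
  haveI : CompactSpace X := hL.2.1
  obtain ⟨d₀, h₀⟩ := FormalGen20.exists_levelwise_epi hL hG
  obtain ⟨K₀, hK₀, P₀, hP₀, ε₀, ρ, hρ⟩ := h₀ d₀ le_rfl
  have hF := Groth.Agent.Lib.FormalGr20.isCohFormal_completion I hP₀
  obtain ⟨Kf, σ, h0, hKf, hσepi⟩ :=
    FormalKerAdic20.exists_formal_kernel (IsNoetherian.noetherian I) hF hG ρ hρ
  obtain ⟨d₁, h₁⟩ := FormalGen20.exists_levelwise_epi hL hKf
  obtain ⟨K₁, hK₁, P₁, hP₁, ε₁, ρ₁, hρ₁⟩ := h₁ d₁ le_rfl
  -- components with syntactically good types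
  obtain ⟨ρc, hρc⟩ : ∃ ρc : ∀ n, modPow I (n + 1) P₀ ⟶ G.obj (op n), ∀ n, ρc n = ρ.app (op n) :=
    ⟨fun n => ρ.app (op n), fun _ => rfl⟩
  obtain ⟨σc, hσc⟩ : ∃ σc : ∀ n, Kf.obj (op n) ⟶ modPow I (n + 1) P₀, ∀ n, σc n = σ.app (op n) :=
    ⟨fun n => σ.app (op n), fun _ => rfl⟩
  obtain ⟨ρ₁c, hρ₁c⟩ : ∃ ρ₁c : ∀ n, modPow I (n + 1) P₁ ⟶ Kf.obj (op n),
      ∀ n, ρ₁c n = ρ₁.app (op n) := ⟨fun n => ρ₁.app (op n), fun _ => rfl⟩
  have hρnat : ∀ n, modPowTrans I (n + 1) P₀ ≫ ρc n = ρc (n + 1) ≫ tr G n := by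
    intro n
    rw [hρc n, hρc (n + 1)]
    exact (congrArg (fun χ => χ ≫ ρ.app (op n))
      (Groth.Agent.Lib.FormalGr20.completion_map_succ I P₀ n)).symm.trans
      (ρ.naturality (homOfLE (Nat.le_succ n)).op)
  have hσnat : ∀ n, tr Kf n ≫ σc n = σc (n + 1) ≫ modPowTrans I (n + 1) P₀ := by
    intro n
    rw [hσc n, hσc (n + 1)]
    exact (σ.naturality (homOfLE (Nat.le_succ n)).op).trans
      (congrArg (fun χ => σ.app (op (n + 1)) ≫ χ)
        (Groth.Agent.Lib.FormalGr20.completion_map_succ I P₀ n))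
  have hρ₁nat : ∀ n, modPowTrans I (n + 1) P₁ ≫ ρ₁c n = ρ₁c (n + 1) ≫ tr Kf n := by
    intro n
    rw [hρ₁c n, hρ₁c (n + 1)]
    exact (congrArg (fun χ => χ ≫ ρ₁.app (op n))
      (Groth.Agent.Lib.FormalGr20.completion_map_succ I P₁ n)).symm.trans
      (ρ₁.naturality (homOfLE (Nat.le_succ n)).op)
  have hσρ : ∀ n, σc n ≫ ρc n = 0 := fun n => by rw [hσc n, hρc n]; exact h0 n
  haveI hρcepi : ∀ n, Epi (ρc n) := fun n => by rw [hρc n]; exact hρ n
  haveI hρ₁cepi : ∀ n, Epi (ρ₁c n) := fun n => by rw [hρ₁c n]; exact hρ₁ n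
  haveI : ∀ (n : ℕ) (P : X.Modules), Epi (modPowπ I n P) := fun n P => (isCokerSmul_modPowπ I n P).epi
  -- the compatible family of maps `P₁ ⟶ P₀ / I^{n+1} P₀`
  let ψ' : ∀ n, P₁ ⟶ modPow I (n + 1) P₀ := fun n => modPowπ I (n + 1) P₁ ≫ ρ₁c n ≫ σc n
  have hψ' : ∀ n, ψ' (n + 1) ≫ modPowTrans I (n + 1) P₀ = ψ' n := by
    intro n
    change (modPowπ I (n + 1 + 1) P₁ ≫ ρ₁c (n + 1) ≫ σc (n + 1)) ≫ modPowTrans I (n + 1) P₀ =
      modPowπ I (n + 1) P₁ ≫ ρ₁c n ≫ σc n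
    rw [Category.assoc, Category.assoc, ← hσnat n, ← Category.assoc (ρ₁c (n + 1)), ← hρ₁nat n,
      Category.assoc, ← Category.assoc, modPowπ_trans]
  -- algebraize
  obtain ⟨L', hL', ⟨e'⟩⟩ := H78Dual.exists_tensor_inverse hL.1
  have e : tensorMod L L' ≅ Coh.structureModule X := OXModTensor.braiding L L' ≪≫ e'
  have ed := CohFinAmple.powInvIso e d₁
  haveI := isEquivalence_tensorRightFunctor ed
  have hTN : Coh.IsCoh ((tensorRightFunctor (tensorPow L d₁)).obj P₀) :=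
    CohFinAmple.isCoh_tensorMod hP₀
      (CohFinAmple.isCoh_tensorPow (Groth.Agent.Lib.H90Invertible.isCoh_of_isInvertible hL.1) d₁)
  obtain ⟨α, hα⟩ := FormalAlgMap20.exists_hom_of_compatible (tensorRightFunctor (tensorPow L d₁))
    (fun M a => Groth.Agent.Lib.FormalGr20.tensorRightFunctor_map_smulMod (tensorPow L d₁) M a)
    ε₁ hTN ψ' hψ'
  refine ⟨cokernel α, ?_, ?_⟩
  · haveI := hP₁.1
    exact Groth.Agent.Lib.H90OXModExact.isCoh_cokernel α hP₀
  · let u : ∀ n, P₀ ⟶ G.obj (op n) := fun n => modPowπ I (n + 1) P₀ ≫ ρc n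
    have hαψ : ∀ n, α ≫ modPowπ I (n + 1) P₀ = modPowπ I (n + 1) P₁ ≫ ρ₁c n ≫ σc n := hα
    refine nonempty_completion_cokernel_iso α (fun n => hG.killedBy n) u (fun n => ?_) (fun n => ?_)
      (fun n => epi_comp _ _) (fun n Z g hαg hgk => ?_)
    · change (modPowπ I (n + 1 + 1) P₀ ≫ ρc (n + 1)) ≫ tr G n = modPowπ I (n + 1) P₀ ≫ ρc n
      rw [Category.assoc, ← hρnat n, ← Category.assoc, modPowπ_trans]
    · change α ≫ modPowπ I (n + 1) P₀ ≫ ρc n = 0
      rw [← Category.assoc, hαψ n, Category.assoc, Category.assoc, hσρ n, comp_zero, comp_zero]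
    · obtain ⟨g₁, hg₁⟩ := (isCokerSmul_modPowπ I (n + 1) P₀).2.2 g hgk
      have hσg : σc n ≫ g₁ = 0 := by
        rw [← cancel_epi (ρ₁c n), ← cancel_epi (modPowπ I (n + 1) P₁), comp_zero, comp_zero,
          ← Category.assoc, ← Category.assoc, Category.assoc (modPowπ I (n + 1) P₁), ← hαψ n,
          Category.assoc, hg₁, hαg]
      have hepi' : Epi (kernel.lift (ρc n) (σc n) (hσρ n)) := by
        have := hσepi n
        have h4 : ∀ (τ : Kf.obj (op n) ⟶ modPow I (n + 1) P₀) (υ : modPow I (n + 1) P₀ ⟶ G.obj (op n))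
            (hτ : τ = σ.app (op n)) (hυ : υ = ρ.app (op n)) (h : τ ≫ υ = 0),
            Epi (kernel.lift υ τ h) := by
          rintro τ υ rfl rfl h
          exact this
        exact h4 (σc n) (ρc n) (hσc n) (hρc n) (hσρ n)
      obtain ⟨g', hg'⟩ := exists_fac_of_epi_kernel_lift (ρc n) (σc n) (hσρ n) hepi' (hρcepi n) g₁ hσg
      exact ⟨g', by change (modPowπ I (n + 1) P₀ ≫ ρc n) ≫ g' = g; rw [Category.assoc, hg', hg₁]⟩

end Groth.Agent.Lib.FormalAlgebraize20
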