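import Mathlib

set_option autoImplicit false

/-!
# Formal characters of the additive group

For a power series `χ` over a commutative ring `A`, the identity `χ(X+Y) = χ(X) χ(Y)` in
`A⟦X, Y⟧` is equivalent to the coefficient relation `C(n+m,n) c_{n+m} = c_n c_m`.
-/

namespace Groth.Agent.Lib.FormalChar

open Finset

universe u

section Coeff

variable {A : Type u} [CommRing A]

/-- the coefficient relation -/
def Rel (c : ℕ → A) : Prop :=
  ∀ n m : ℕ, ((n + m).choose n : A) * c (n + m) = c n * c m

theorem finsupp_fin2_eq (e : Fin 2 →₀ ℕ) (a b : ℕ) :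
    e = Finsupp.single 0 a + Finsupp.single 1 b ↔ e 0 = a ∧ e 1 = b := by
  constructor
  · rintro rfl
    simp
  · rintro ⟨rfl, rfl⟩
    ext i
    fin_cases i <;> simp

theorem coeff_X0_add_X1_pow (e : Fin 2 →₀ ℕ) (d : ℕ) :
    MvPowerSeries.coeff e ((MvPowerSeries.X 0 + MvPowerSeries.X 1 : MvPowerSeries (Fin 2) A) ^ d) =
      if e 0 + e 1 = d then (d.choose (e 0) : A) else 0 := by
  classical
  rw [add_pow, map_sum]
  have hterm : ∀ m ∈ range (d + 1),
      MvPowerSeries.coeff e ((MvPowerSeries.X 0 : MvPowerSeries (Fin 2) A) ^ m *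
        MvPowerSeries.X 1 ^ (d - m) * (d.choose m : MvPowerSeries (Fin 2) A)) =
      if e 0 = m ∧ e 1 = d - m then (d.choose m : A) else 0 := by
    intro m _
    rw [MvPowerSeries.X_pow_eq, MvPowerSeries.X_pow_eq, MvPowerSeries.monomial_mul_monomial,
      mul_comm, ← nsmul_eq_mul, map_nsmul, MvPowerSeries.coeff_monomial, one_mul]
    by_cases h : e 0 = m ∧ e 1 = d - m
    · rw [if_pos ((finsupp_fin2_eq e m (d - m)).mpr h), if_pos h]
      simp
    · rw [if_neg (fun h' => h ((finsupp_fin2_eq e m (d - m)).mp h')), if_neg h]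
      simp
  rw [Finset.sum_congr rfl hterm]
  by_cases hd : e 0 + e 1 = d
  · rw [if_pos hd, Finset.sum_eq_single (e 0)]
    · rw [if_pos ⟨rfl, by omega⟩]
    · intro m _ hm
      rw [if_neg (fun h => hm h.1.symm)]
    · intro h
      exact absurd (Finset.mem_range.mpr (by omega)) h
  · rw [if_neg hd]
    apply Finset.sum_eq_zero
    intro m hm
    rw [Finset.mem_range] at hm
    rw [if_neg (fun h => hd (by omega))]

theorem hasSubst_X0_add_X1 :
    PowerSeries.HasSubst (MvPowerSeries.X 0 + MvPowerSeries.X 1 : MvPowerSeries (Fin 2) A) :=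
  PowerSeries.HasSubst.add (PowerSeries.HasSubst.X 0) (PowerSeries.HasSubst.X 1)

theorem coeff_subst_add (χ : PowerSeries A) (e : Fin 2 →₀ ℕ) :
    MvPowerSeries.coeff e
        (PowerSeries.subst (MvPowerSeries.X 0 + MvPowerSeries.X 1 : MvPowerSeries (Fin 2) A) χ) =
      ((e 0 + e 1).choose (e 0) : A) * PowerSeries.coeff (e 0 + e 1) χ := by
  rw [PowerSeries.coeff_subst hasSubst_X0_add_X1, finsum_eq_single _ (e 0 + e 1)]
  · rw [coeff_X0_add_X1_pow, if_pos rfl, smul_eq_mul, mul_comm]
  · intro d hd
    rw [coeff_X0_add_X1_pow, if_neg (fun h => hd h.symm), smul_zero]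

theorem coeff_subst_mul (χ : PowerSeries A) (e : Fin 2 →₀ ℕ) :
    MvPowerSeries.coeff e
        (PowerSeries.subst (MvPowerSeries.X 0 : MvPowerSeries (Fin 2) A) χ *
          PowerSeries.subst (MvPowerSeries.X 1 : MvPowerSeries (Fin 2) A) χ) =
      PowerSeries.coeff (e 0) χ * PowerSeries.coeff (e 1) χ := by
  classical
  rw [MvPowerSeries.coeff_mul]
  rw [Finset.sum_eq_single (Finsupp.single 0 (e 0), Finsupp.single 1 (e 1))]
  · rw [PowerSeries.coeff_subst_single, PowerSeries.coeff_subst_single]
    simp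
  · rintro ⟨s, t⟩ hst hne
    rw [Finset.HasAntidiagonal.mem_antidiagonal] at hst
    simp only at hst
    rw [PowerSeries.coeff_subst_single, PowerSeries.coeff_subst_single]
    by_cases hs : s = Finsupp.single 0 (s 0)
    · by_cases ht : t = Finsupp.single 1 (t 1)
      · exfalso
        apply hne
        have h0 : e 0 = s 0 := by
          rw [← hst, ht]; simp
        have h1 : e 1 = t 1 := by
          rw [← hst, hs]; simp
        rw [h0, h1, ← hs, ← ht]
      · rw [if_neg ht, mul_zero]
    · rw [if_neg hs, zero_mul]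
  · intro h
    exfalso
    apply h
    rw [Finset.HasAntidiagonal.mem_antidiagonal]
    exact ((finsupp_fin2_eq e _ _).mpr ⟨rfl, rfl⟩).symm

/-- the functional equation of a formal character is the coefficient relation. -/
theorem subst_iff_rel (χ : PowerSeries A) :
    PowerSeries.subst (MvPowerSeries.X 0 + MvPowerSeries.X 1 : MvPowerSeries (Fin 2) A) χ =
        PowerSeries.subst (MvPowerSeries.X 0 : MvPowerSeries (Fin 2) A) χ *
          PowerSeries.subst (MvPowerSeries.X 1 : MvPowerSeries (Fin 2) A) χ ↔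
      Rel (fun n => PowerSeries.coeff n χ) := by
  constructor
  · intro h n m
    have := congrArg (MvPowerSeries.coeff (Finsupp.single 0 n + Finsupp.single 1 m)) h
    rw [coeff_subst_add, coeff_subst_mul] at this
    simpa using this
  · intro h
    ext e
    rw [coeff_subst_add, coeff_subst_mul]
    exact h (e 0) (e 1)


theorem coe_aeval (f : Polynomial A) (a : MvPolynomial (Fin 2) A)
    (ha : PowerSeries.HasSubst (a : MvPowerSeries (Fin 2) A)) :
    ((Polynomial.aeval a f : MvPolynomial (Fin 2) A) : MvPowerSeries (Fin 2) A) =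
      PowerSeries.subst (a : MvPowerSeries (Fin 2) A) (f : PowerSeries A) := by
  rw [PowerSeries.subst_coe ha]
  have h := Polynomial.aeval_algHom_apply (MvPolynomial.coeToMvPowerSeries.algHom (σ := Fin 2) A) a f
  simp only [MvPolynomial.coeToMvPowerSeries.algHom_apply, Algebra.algebraMap_self,
    MvPowerSeries.map_id, RingHom.id_apply] at h
  exact h.symm

theorem coeff_aeval_add (f : Polynomial A) (e : Fin 2 →₀ ℕ) :
    MvPolynomial.coeff e
        (Polynomial.aeval (MvPolynomial.X 0 + MvPolynomial.X 1 : MvPolynomial (Fin 2) A) f) =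
      ((e 0 + e 1).choose (e 0) : A) * f.coeff (e 0 + e 1) := by
  rw [← MvPolynomial.coeff_coe, coe_aeval]
  · rw [MvPolynomial.coe_add, MvPolynomial.coe_X, MvPolynomial.coe_X, coeff_subst_add,
      Polynomial.coeff_coe]
  · rw [MvPolynomial.coe_add, MvPolynomial.coe_X, MvPolynomial.coe_X]
    exact hasSubst_X0_add_X1

theorem coeff_aeval_mul (f : Polynomial A) (e : Fin 2 →₀ ℕ) :
    MvPolynomial.coeff e
        (Polynomial.aeval (MvPolynomial.X 0 : MvPolynomial (Fin 2) A) f *
          Polynomial.aeval (MvPolynomial.X 1 : MvPolynomial (Fin 2) A) f) =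
      f.coeff (e 0) * f.coeff (e 1) := by
  rw [← MvPolynomial.coeff_coe, MvPolynomial.coe_mul, coe_aeval, coe_aeval]
  · rw [MvPolynomial.coe_X, MvPolynomial.coe_X, coeff_subst_mul,
      Polynomial.coeff_coe, Polynomial.coeff_coe]
  · rw [MvPolynomial.coe_X]; exact PowerSeries.HasSubst.X 1
  · rw [MvPolynomial.coe_X]; exact PowerSeries.HasSubst.X 0

theorem aeval_iff_rel (f : Polynomial A) :
    Polynomial.aeval (MvPolynomial.X 0 + MvPolynomial.X 1 : MvPolynomial (Fin 2) A) f =
        Polynomial.aeval (MvPolynomial.X 0 : MvPolynomial (Fin 2) A) f *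
          Polynomial.aeval (MvPolynomial.X 1 : MvPolynomial (Fin 2) A) f ↔
      Rel (fun n => f.coeff n) := by
  constructor
  · intro h n m
    have := congrArg (MvPolynomial.coeff (Finsupp.single 0 n + Finsupp.single 1 m)) h
    rw [coeff_aeval_add, coeff_aeval_mul] at this
    simpa using this
  · intro h
    ext e
    rw [coeff_aeval_add, coeff_aeval_mul]
    exact h (e 0) (e 1)

/-- general evaluation -/
theorem aeval_add_of_rel {B : Type*} [CommRing B] [Algebra A B] (f : Polynomial A)
    (h : Rel (fun n => f.coeff n)) (U V : B) :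
    Polynomial.aeval (U + V) f = Polynomial.aeval U f * Polynomial.aeval V f := by
  have h1 := (aeval_iff_rel f).mpr h
  have h2 := congrArg (MvPolynomial.aeval ![U, V]) h1
  rw [map_mul, ← Polynomial.aeval_algHom_apply, ← Polynomial.aeval_algHom_apply,
    ← Polynomial.aeval_algHom_apply] at h2
  simpa using h2

/-- truncated version -/
theorem rel_of_quotient (f : Polynomial A) (N : ℕ)
    (hmul : Ideal.Quotient.mk
        (Ideal.span {(MvPolynomial.X 0 ^ N : MvPolynomial (Fin 2) A), MvPolynomial.X 1 ^ N})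
        (Polynomial.aeval (MvPolynomial.X 0 + MvPolynomial.X 1 : MvPolynomial (Fin 2) A) f) =
      Ideal.Quotient.mk
        (Ideal.span {(MvPolynomial.X 0 ^ N : MvPolynomial (Fin 2) A), MvPolynomial.X 1 ^ N})
        (Polynomial.aeval (MvPolynomial.X 0 : MvPolynomial (Fin 2) A) f *
          Polynomial.aeval (MvPolynomial.X 1 : MvPolynomial (Fin 2) A) f))
    (n m : ℕ) (hn : n < N) (hm : m < N) :
    ((n + m).choose n : A) * f.coeff (n + m) = f.coeff n * f.coeff m := by
  classical
  rw [Ideal.Quotient.eq, Ideal.mem_span_pair] at hmul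
  obtain ⟨u, v, huv⟩ := hmul
  have := congrArg (MvPolynomial.coeff (Finsupp.single 0 n + Finsupp.single 1 m)) huv
  rw [MvPolynomial.coeff_sub, coeff_aeval_add, coeff_aeval_mul, MvPolynomial.coeff_add,
    MvPolynomial.X_pow_eq_monomial, MvPolynomial.X_pow_eq_monomial,
    MvPolynomial.coeff_mul_monomial', MvPolynomial.coeff_mul_monomial', if_neg, if_neg] at this
  · simp only [Finsupp.coe_add, Pi.add_apply, Finsupp.single_eq_same, ne_eq, one_ne_zero,
      not_false_eq_true, Finsupp.single_eq_of_ne, add_zero, zero_ne_one, zero_add] at this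
    exact (sub_eq_zero.mp this.symm)
  · intro hle
    have := hle 1
    simp at this
    omega
  · intro hle
    have := hle 0
    simp at this
    omega

end Coeff


section CharZero

variable {A : Type u} [CommRing A] [Algebra ℚ A]

theorem algebraMap_inv_factorial_mul (n : ℕ) :
    algebraMap ℚ A (1 / (n.factorial : ℚ)) * (n.factorial : A) = 1 := by
  rw [← map_natCast (algebraMap ℚ A), ← map_mul, one_div,
    inv_mul_cancel₀ (Nat.cast_ne_zero.mpr n.factorial_ne_zero), map_one]

theorem rel_exp (a : A) :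
    Rel (fun n => PowerSeries.coeff n (PowerSeries.rescale a (PowerSeries.exp A))) := by
  intro n m
  simp only [PowerSeries.coeff_rescale, PowerSeries.coeff_exp]
  have h1 : ((n + m).choose n : ℚ) * (1 / ((n + m).factorial : ℚ)) =
      (1 / (n.factorial : ℚ)) * (1 / (m.factorial : ℚ)) := by
    rw [← Nat.add_choose_mul_factorial_mul_factorial n m, ← Nat.choose_symm_add]
    have hn : (n.factorial : ℚ) ≠ 0 := Nat.cast_ne_zero.mpr n.factorial_ne_zero
    have hm : (m.factorial : ℚ) ≠ 0 := Nat.cast_ne_zero.mpr m.factorial_ne_zero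
    have hc : ((n + m).choose n : ℚ) ≠ 0 :=
      Nat.cast_ne_zero.mpr (Nat.choose_pos (Nat.le_add_right n m)).ne'
    push_cast
    field_simp
  have h2 := congrArg (algebraMap ℚ A) h1
  rw [map_mul, map_mul, map_natCast] at h2
  rw [pow_add]
  linear_combination (a ^ n * a ^ m) * h2

omit [Algebra ℚ A] in
theorem factorial_mul_of_rel (c : ℕ → A) (h0 : c 0 = 1) (h : Rel c) (n : ℕ) :
    (n.factorial : A) * c n = c 1 ^ n := by
  induction n with
  | zero => simp [h0]
  | succ n ih =>
    have h1 := h n 1
    rw [Nat.choose_succ_self_right] at h1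
    rw [Nat.factorial_succ, pow_succ, ← ih]
    push_cast at h1 ⊢
    linear_combination (n.factorial : A) * h1

theorem coeff_of_rel (c : ℕ → A) (h0 : c 0 = 1) (h : Rel c) (n : ℕ) :
    c n = c 1 ^ n * algebraMap ℚ A (1 / (n.factorial : ℚ)) := by
  rw [← factorial_mul_of_rel c h0 h n]
  linear_combination (- c n) * algebraMap_inv_factorial_mul (A := A) n

end CharZero

end Groth.Agent.Lib.FormalChar
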