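import Mathlib
import Groth.Agent.Lib.FormalChar

set_option autoImplicit false

/-!
# Formal characters of the additive group in characteristic `p`

Sequences with `c 0 = 1` and `C(n+m,n) c_{n+m} = c_n c_m` in characteristic `p` are products of
truncated exponentials.
-/

namespace Groth.Agent.Lib.FormalCharP

open Finset Groth.Agent.Lib.FormalChar

universe u

theorem sum_range_mul_blocks {M : Type*} [AddCommMonoid M] (q J : ℕ) (g : ℕ → M) :
    ∑ k ∈ range (J * q), g k = ∑ j ∈ range J, ∑ r ∈ range q, g (j * q + r) := by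
  induction J with
  | zero => simp
  | succ J ih => rw [Nat.succ_mul, Finset.sum_range_add, ih, Finset.sum_range_succ]

section CharP

variable {p : ℕ} [hp : Fact p.Prime] {A : Type u} [CommRing A] [CharP A p]

theorem isUnit_natCast_of_not_dvd (k : ℕ) (hk : ¬ p ∣ k) : IsUnit (k : A) := by
  have h1 : IsUnit (k : ZMod p) := by
    rw [isUnit_iff_ne_zero, Ne, ZMod.natCast_eq_zero_iff]
    exact hk
  have h2 := h1.map (ZMod.castHom (dvd_refl p) A)
  simpa using h2

theorem isUnit_factorial (j : ℕ) (hj : j < p) : IsUnit (j.factorial : A) :=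
  isUnit_natCast_of_not_dvd _ (by rw [hp.out.dvd_factorial]; omega)

theorem choose_add_mul_pow_modEq (m : ℕ) : ∀ r j : ℕ, r < p ^ m →
    (r + j * p ^ m).choose r ≡ 1 [MOD p] := by
  induction m with
  | zero =>
    intro r j hr
    have : r = 0 := by simpa using hr
    subst this
    simp [Nat.ModEq]
  | succ m ih =>
    intro r j hr
    have hp0 : 0 < p := hp.out.pos
    have h1 := Choose.choose_modEq_choose_mod_mul_choose_div_nat (p := p)
      (n := r + j * p ^ (m + 1)) (k := r)
    have e1 : (r + j * p ^ (m + 1)) % p = r % p := by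
      rw [pow_succ, ← mul_assoc, Nat.add_mul_mod_self_right]
    have e2 : (r + j * p ^ (m + 1)) / p = r / p + j * p ^ m := by
      rw [pow_succ, ← mul_assoc, Nat.add_mul_div_right _ _ hp0]
    rw [e1, e2, Nat.choose_self, one_mul] at h1
    refine h1.trans (ih (r / p) j ?_)
    rw [Nat.div_lt_iff_lt_mul hp0, ← pow_succ]
    exact hr

theorem cast_choose_add (m r j : ℕ) (hr : r < p ^ m) :
    (((r + j * p ^ m).choose r : ℕ) : A) = 1 := by
  have := (CharP.natCast_eq_natCast A p).mpr (choose_add_mul_pow_modEq (p := p) m r j hr)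
  simpa using this

theorem cast_choose_pow_mul (m j : ℕ) :
    (((p ^ m + j * p ^ m).choose (p ^ m) : ℕ) : A) = ((j + 1 : ℕ) : A) := by
  have h := Choose.choose_pow_mul_pow_mul_modEq_choose_nat (p := p) (k := m) (a := j + 1) (b := 1)
  have e : p ^ m * (j + 1) = p ^ m + j * p ^ m := by ring
  rw [e, mul_one, Nat.choose_one_right] at h
  exact (CharP.natCast_eq_natCast A p).mpr h

/-- the truncated exponential `exp_p(a X^q)`. -/
noncomputable def E (p : ℕ) (a : A) (q : ℕ) : Polynomial A :=
  ∑ j ∈ Finset.range p,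
    Polynomial.C (Ring.inverse (j.factorial : A) * a ^ j) * Polynomial.X ^ (j * q)

section Main

variable (c : ℕ → A) (n : ℕ) (h0 : c 0 = 1)
  (H : ∀ a b, a < p ^ n → b < p ^ n → ((a + b).choose a : A) * c (a + b) = c a * c b)

include h0 H

theorem factorial_mul_coeff (m : ℕ) (hm : m < n) : ∀ j, j < p →
    (j.factorial : A) * c (j * p ^ m) = c (p ^ m) ^ j := by
  have hp1 : 1 < p := hp.out.one_lt
  have hpm : p ^ m < p ^ n := Nat.pow_lt_pow_right hp1 hm
  intro j
  induction j with
  | zero => intro _; simp [h0]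
  | succ j ih =>
    intro hj
    have ih' := ih (by omega)
    have hjm : j * p ^ m < p ^ n := by
      calc j * p ^ m < p * p ^ m := Nat.mul_lt_mul_of_pos_right (by omega) (pow_pos hp.out.pos m)
        _ = p ^ (m + 1) := (pow_succ' p m).symm
        _ ≤ p ^ n := Nat.pow_le_pow_right hp.out.pos hm
    have h1 := H (p ^ m) (j * p ^ m) hpm hjm
    rw [cast_choose_pow_mul] at h1
    have e : (j + 1) * p ^ m = p ^ m + j * p ^ m := by ring
    rw [e, Nat.factorial_succ, pow_succ, ← ih']
    push_cast at h1 ⊢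
    linear_combination (j.factorial : A) * h1

theorem pow_p_eq_zero (m : ℕ) (hm : m < n) : c (p ^ m) ^ p = 0 := by
  have hp1 : 1 < p := hp.out.one_lt
  have hpm : p ^ m < p ^ n := Nat.pow_lt_pow_right hp1 hm
  have h1 := factorial_mul_coeff c n h0 H m hm (p - 1) (by omega)
  have hjm : (p - 1) * p ^ m < p ^ n := by
    calc (p - 1) * p ^ m < p * p ^ m :=
          Nat.mul_lt_mul_of_pos_right (by omega) (pow_pos hp.out.pos m)
      _ = p ^ (m + 1) := (pow_succ' p m).symm
      _ ≤ p ^ n := Nat.pow_le_pow_right hp.out.pos hm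
  have h2 := H (p ^ m) ((p - 1) * p ^ m) hpm hjm
  rw [cast_choose_pow_mul, Nat.sub_add_cancel hp.out.pos, CharP.cast_eq_zero, zero_mul] at h2
  have e : p = (p - 1) + 1 := by omega
  calc c (p ^ m) ^ p = c (p ^ m) ^ ((p - 1) + 1) := by rw [← e]
    _ = c (p ^ m) ^ (p - 1) * c (p ^ m) := pow_succ _ _
    _ = ((p - 1).factorial : A) * (c (p ^ m) * c ((p - 1) * p ^ m)) := by rw [← h1]; ring
    _ = 0 := by rw [← h2, mul_zero]

theorem coeff_digit (m : ℕ) (hm : m < n) (j : ℕ) (hj : j < p) :
    c (j * p ^ m) = Ring.inverse (j.factorial : A) * c (p ^ m) ^ j := by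
  rw [← factorial_mul_coeff c n h0 H m hm j hj, Ring.inverse_mul_cancel_left _ _
    (isUnit_factorial j hj)]

omit h0 in
theorem coeff_split (m : ℕ) (hm : m < n) (j : ℕ) (hj : j < p) (r : ℕ) (hr : r < p ^ m) :
    c (j * p ^ m + r) = c r * c (j * p ^ m) := by
  have hp1 : 1 < p := hp.out.one_lt
  have hpm : p ^ m < p ^ n := Nat.pow_lt_pow_right hp1 hm
  have hjm : j * p ^ m < p ^ n := by
    calc j * p ^ m < p * p ^ m := Nat.mul_lt_mul_of_pos_right hj (pow_pos hp.out.pos m)
      _ = p ^ (m + 1) := (pow_succ' p m).symm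
      _ ≤ p ^ n := Nat.pow_le_pow_right hp.out.pos hm
  have h1 := H r (j * p ^ m) (hr.trans hpm) hjm
  rw [cast_choose_add m r j hr, one_mul] at h1
  rw [add_comm, h1]

theorem trunc_succ (m : ℕ) (hm : m < n) :
    ∑ k ∈ range (p ^ (m + 1)), Polynomial.monomial k (c k) =
      (∑ k ∈ range (p ^ m), Polynomial.monomial k (c k)) * E p (c (p ^ m)) (p ^ m) := by
  rw [pow_succ', sum_range_mul_blocks, E, Finset.sum_mul_sum, Finset.sum_comm]
  apply Finset.sum_congr rfl
  intro r hr
  apply Finset.sum_congr rfl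
  intro j hj
  rw [Finset.mem_range] at hj hr
  rw [coeff_split c n H m hm j hj r hr, coeff_digit c n h0 H m hm j hj,
    Polynomial.C_mul_X_pow_eq_monomial, Polynomial.monomial_mul_monomial, add_comm]

theorem trunc_eq_prod : ∀ m, m ≤ n →
    ∑ k ∈ range (p ^ m), Polynomial.monomial k (c k) =
      ∏ i ∈ range m, E p (c (p ^ i)) (p ^ i) := by
  intro m
  induction m with
  | zero => intro _; simp [h0]
  | succ m ih =>
    intro hm
    rw [trunc_succ c n h0 H m (by omega), ih (by omega), Finset.prod_range_succ]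

end Main


section Converse

omit hp [CharP A p] in
theorem coeff_E_one (a : A) (k : ℕ) :
    (E p a 1).coeff k = if k < p then Ring.inverse (k.factorial : A) * a ^ k else 0 := by
  rw [E, Polynomial.finsetSum_coeff]
  simp only [mul_one, Polynomial.C_mul_X_pow_eq_monomial, Polynomial.coeff_monomial]
  rw [Finset.sum_ite_eq' (range p) k]
  simp only [Finset.mem_range]

theorem rel_E_one (a : A) (ha : a ^ p = 0) : Rel (fun k => (E p a 1).coeff k) := by
  intro n m
  simp only [coeff_E_one]
  by_cases hnm : n + m < p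
  · have hn : n < p := by omega
    have hm : m < p := by omega
    rw [if_pos hnm, if_pos hn, if_pos hm]
    have hU := Ring.inverse_mul_cancel _ (isUnit_factorial (A := A) (p := p) (n + m) hnm)
    have hVn := Ring.inverse_mul_cancel _ (isUnit_factorial (A := A) (p := p) n hn)
    have hVm := Ring.inverse_mul_cancel _ (isUnit_factorial (A := A) (p := p) m hm)
    have hF : (((n + m).factorial : ℕ) : A) =
        ((n + m).choose n : A) * (n.factorial : A) * (m.factorial : A) := by
      rw [← Nat.add_choose_mul_factorial_mul_factorial n m, ← Nat.choose_symm_add]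
      push_cast
      ring
    generalize Ring.inverse (((n + m).factorial : ℕ) : A) = U at hU
    generalize Ring.inverse ((n.factorial : ℕ) : A) = Vn at hVn
    generalize Ring.inverse ((m.factorial : ℕ) : A) = Vm at hVm
    generalize (((n + m).factorial : ℕ) : A) = F at hU hF
    generalize ((n.factorial : ℕ) : A) = Fn at hVn hF
    generalize ((m.factorial : ℕ) : A) = Fm at hVm hF
    generalize (((n + m).choose n : ℕ) : A) = Cc at hF
    linear_combination (a ^ (n + m)) * (-(Cc * U) * hVn - Cc * U * Vn * Fn * hVm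
      - U * Vn * Vm * hF + Vn * Vm * hU)
  · rw [if_neg hnm, mul_zero]
    by_cases hn : n < p
    · by_cases hm : m < p
      · rw [if_pos hn, if_pos hm]
        have e : a ^ n * a ^ m = 0 := by
          rw [← pow_add, show n + m = p + (n + m - p) by omega, pow_add, ha, zero_mul]
        linear_combination (-(Ring.inverse ((n.factorial : ℕ) : A)) *
          Ring.inverse ((m.factorial : ℕ) : A)) * e
      · rw [if_neg hm, mul_zero]
    · rw [if_neg hn, zero_mul]

omit hp [CharP A p] in
theorem aeval_E {B : Type*} [CommRing B] [Algebra A B] (a : A) (q : ℕ) (W : B) :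
    Polynomial.aeval W (E p a q) = Polynomial.aeval (W ^ q) (E p a 1) := by
  simp only [E, map_sum, map_mul, Polynomial.aeval_C, map_pow, Polynomial.aeval_X]
  apply Finset.sum_congr rfl
  intro j _
  rw [mul_one, ← pow_mul, mul_comm j q]

theorem aeval_E_add (a : A) (ha : a ^ p = 0) (i : ℕ) :
    Polynomial.aeval (MvPolynomial.X 0 + MvPolynomial.X 1 : MvPolynomial (Fin 2) A)
        (E p a (p ^ i)) =
      Polynomial.aeval (MvPolynomial.X 0 : MvPolynomial (Fin 2) A) (E p a (p ^ i)) *
        Polynomial.aeval (MvPolynomial.X 1 : MvPolynomial (Fin 2) A) (E p a (p ^ i)) := by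
  rw [aeval_E, aeval_E (W := MvPolynomial.X 0), aeval_E (W := MvPolynomial.X 1),
    add_pow_char_pow, aeval_add_of_rel _ (rel_E_one a ha)]

theorem aeval_prod_add (a : ℕ → A) (ha : ∀ n, a n ^ p = 0) (N : ℕ) :
    Polynomial.aeval (MvPolynomial.X 0 + MvPolynomial.X 1 : MvPolynomial (Fin 2) A)
        (∏ i ∈ range N, E p (a i) (p ^ i)) =
      Polynomial.aeval (MvPolynomial.X 0 : MvPolynomial (Fin 2) A)
          (∏ i ∈ range N, E p (a i) (p ^ i)) *
        Polynomial.aeval (MvPolynomial.X 1 : MvPolynomial (Fin 2) A)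
          (∏ i ∈ range N, E p (a i) (p ^ i)) := by
  rw [map_prod, map_prod, map_prod, ← Finset.prod_mul_distrib]
  apply Finset.prod_congr rfl
  intro i _
  exact aeval_E_add (a i) (ha i) i

theorem rel_prod (a : ℕ → A) (ha : ∀ n, a n ^ p = 0) (N : ℕ) :
    Rel (fun k => (∏ i ∈ range N, E p (a i) (p ^ i)).coeff k) :=
  (aeval_iff_rel _).mp (aeval_prod_add a ha N)

omit [CharP A p] in
theorem eval_zero_E (a : A) (q : ℕ) (hq : 0 < q) : (E p a q).eval 0 = 1 := by
  rw [E, Polynomial.eval_finsetSum, Finset.sum_eq_single 0]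
  · simp
  · intro j _ hj
    have : j * q ≠ 0 := Nat.mul_ne_zero hj hq.ne'
    simp [this]
  · intro h
    exact absurd (Finset.mem_range.mpr hp.out.pos) h

omit [CharP A p] in
theorem eval_zero_prod (a : ℕ → A) (N : ℕ) :
    (∏ i ∈ range N, E p (a i) (p ^ i)).eval 0 = 1 := by
  rw [Polynomial.eval_prod]
  apply Finset.prod_eq_one
  intro i _
  exact eval_zero_E (a i) (p ^ i) (pow_pos hp.out.pos i)

end Converse

end CharP

end Groth.Agent.Lib.FormalCharP
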