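/-
helper20: **reduction to finitely generated ideals** for the `Formal` formalism.

`X` a scheme over `Spec A`, `I` an ideal of `A`.  If, on a cover of `X` by opens `U`, the ideals `I·Γ(X,U)` and `J·Γ(X,U)` satisfy
`I·Γ(X,U) ≤ J·Γ(X,U)`, then every morphism `q : M ⟶ Z` of `O_X`-modules killing `J M` kills `I M` (`kills_of_local`).
For `X` quasi-compact and locally Noetherian there is a finitely generated `I' ≤ I` with `I'^n M = I^n M` for all `n`, `M`
(`exists_fg_le`), so that `IsCohFormal I = IsCohFormal I'`, `KilledBy (I^n) = KilledBy (I'^n)`, ….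
-/
import Groth.Agent.Lib.FormalCoker13
import Groth.Agent.Lib.QCohStalk
import Groth.Agent.Lib.H90ProperFin
import Groth.Agent.Lib.FormalGr20

set_option autoImplicit false
set_option linter.style.haveILetI false
universe u

open CategoryTheory CategoryTheory.Limits AlgebraicGeometry Opposite TopologicalSpace

namespace Groth.Agent.Lib.FormalFGRed20

open Formal Groth.Agent.Lib.FormalCoker13 Groth.Agent.Lib.QCohStalk

variable {A : Type u} [CommRing A] {X : Scheme.{u}} [X.Over (Spec (CommRingCat.of A))]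

variable (A) in
/-- the structure map `A → Γ(X, U)` -/
noncomputable def toSec (U : X.Opens) : A →+* Γ(X, U) :=
  (X.presheaf.map (homOfLE (le_top (a := U))).op).hom.comp (Coh.toGlobal (X ↘ Spec (CommRingCat.of A)))

theorem smulMod_app (M : X.Modules) (a : A) (U : X.Opens) (m : Γ(M, U)) :
    (smulMod A M a).app U m = toSec A U a • m := rfl

theorem resO_toSec {V U : X.Opens} (h : V ≤ U) (a : A) : resO X h (toSec A U a) = toSec A V a :=
  resO_resO X h le_top _

theorem map_toSec_le {V U : X.Opens} (h : V ≤ U) (J : Ideal A) (r : Γ(X, U)) (hr : r ∈ Ideal.map (toSec A U) J) :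
    resO X h r ∈ Ideal.map (toSec A V) J := by
  have h1 : toSec A V = (X.presheaf.map (homOfLE h).op).hom.comp (toSec A U) := by
    ext a
    exact (resO_toSec h a).symm
  rw [h1, ← Ideal.map_map]
  exact Ideal.mem_map_of_mem _ hr

theorem app_res {M Z : X.Modules} (q : M ⟶ Z) {V U : X.Opens} (h : V ≤ U) (m : Γ(M, U)) :
    q.app V (res M h m) = res Z h (q.app U m) := by
  have h1 := q.mapPresheaf.naturality (homOfLE h).op
  exact congr($h1 m)

/-- a morphism killing `J M` kills `(J·Γ(X,V)) M(V)` on sections -/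
theorem smul_app_eq_zero (J : Ideal A) {M Z : X.Modules} (q : M ⟶ Z)
    (hq : ∀ b ∈ J, smulMod A M b ≫ q = 0) (V : X.Opens) (r : Γ(X, V)) (hr : r ∈ Ideal.map (toSec A V) J)
    (m : Γ(M, V)) : r • q.app V m = 0 := by
  induction hr using Submodule.span_induction generalizing m with
  | mem r hr =>
    obtain ⟨b, hb, rfl⟩ := hr
    have h1 := congrArg (fun φ => φ.app V m) (hq b hb)
    change q.app V ((smulMod A M b).app V m) = 0 at h1
    rw [smulMod_app, Scheme.Modules.Hom.app_smul] at h1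
    exact h1
  | zero => rw [zero_smul]
  | add r s _ _ hr hs => rw [add_smul, hr, hs, add_zero]
  | smul s r _ hr =>
    rw [smul_eq_mul, mul_comm, mul_smul, ← Scheme.Modules.Hom.app_smul, hr]

/-- **local containment of ideals gives containment of submodules** -/
theorem kills_of_local (I J : Ideal A) {ι : Type*} (𝒰 : ι → X.Opens) (hcov : ⨆ i, 𝒰 i = ⊤)
    (hloc : ∀ i, Ideal.map (toSec A (𝒰 i)) I ≤ Ideal.map (toSec A (𝒰 i)) J)
    {M Z : X.Modules} (q : M ⟶ Z) (hq : ∀ b ∈ J, smulMod A M b ≫ q = 0) (a : A) (ha : a ∈ I) :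
    smulMod A M a ≫ q = 0 := by
  ext W m
  change q.app W ((smulMod A M a).app W m) = 0
  rw [smulMod_app, Scheme.Modules.Hom.app_smul]
  refine TopCat.Presheaf.section_ext ⟨Z.presheaf, Z.isSheaf⟩ W _ 0 fun z hz => ?_
  have hz' : z ∈ (⨆ i, 𝒰 i : X.Opens) := by rw [hcov]; trivial
  obtain ⟨i, hi⟩ := Opens.mem_iSup.mp hz'
  have hzV : z ∈ W ⊓ 𝒰 i := ⟨hz, hi⟩
  have h1 : res Z (inf_le_left : W ⊓ 𝒰 i ≤ W) (toSec A W a • q.app W m) = 0 := by
    rw [res_smul, resO_toSec]
    rw [← app_res]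
    refine smul_app_eq_zero J q hq _ _ ?_ _
    have h3 : toSec A (W ⊓ 𝒰 i) a = resO X (inf_le_right : W ⊓ 𝒰 i ≤ 𝒰 i) (toSec A (𝒰 i) a) :=
      (resO_toSec _ a).symm
    rw [h3]
    exact map_toSec_le _ J _ (hloc i (Ideal.mem_map_of_mem _ ha))
  have e1 := germ_res Z (inf_le_left : W ⊓ 𝒰 i ≤ W) z hzV (toSec A W a • q.app W m)
  rw [h1] at e1
  rw [← e1, map_zero, map_zero]

/-- **reduction to a finitely generated ideal** -/
theorem exists_fg_le [IsLocallyNoetherian X] [CompactSpace X] (I : Ideal A) :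
    ∃ I' : Ideal A, I' ≤ I ∧ I'.FG ∧ ∀ (n : ℕ) {M Z : X.Modules} (q : M ⟶ Z),
      (∀ b ∈ I' ^ n, smulMod A M b ≫ q = 0) → ∀ a ∈ I ^ n, smulMod A M a ≫ q = 0 := by
  classical
  obtain ⟨ι, _, V, hcov, haff⟩ := Groth.Agent.Lib.H90ProperFin.exists_finite_affine_cover X
  have h1 : ∀ i, ∃ S : Finset A, (↑S : Set A) ⊆ (I : Set A) ∧
      Ideal.map (toSec A (V i)) I ≤ Ideal.span ((toSec A (V i)) '' (↑S : Set A)) := by
    intro i
    haveI : IsNoetherianRing Γ(X, V i) := IsLocallyNoetherian.component_noetherian ⟨V i, haff i⟩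
    have hfg : (Ideal.span ((toSec A (V i)) '' (I : Set A))).FG := IsNoetherian.noetherian _
    obtain ⟨T, hT, hspan⟩ := (Submodule.fg_span_iff_fg_span_finset_subset _).mp hfg
    obtain ⟨S, hS, rfl⟩ := Finset.subset_set_image_iff.mp hT
    refine ⟨S, hS, ?_⟩
    change Ideal.span _ ≤ _
    rw [Ideal.span, hspan, Finset.coe_image]
  choose S hS hspan using h1
  refine ⟨⨆ i, Ideal.span (↑(S i) : Set A), iSup_le fun i => Ideal.span_le.mpr (hS i),
    Submodule.fg_iSup _ fun i => ⟨S i, rfl⟩, ?_⟩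
  intro n M Z q hq a ha
  refine kills_of_local (I ^ n) ((⨆ i, Ideal.span (↑(S i) : Set A)) ^ n) V hcov (fun i => ?_) q hq a ha
  rw [Ideal.map_pow, Ideal.map_pow]
  refine Ideal.pow_right_mono ((hspan i).trans ?_) n
  rw [← Ideal.map_span]
  exact Ideal.map_mono (le_iSup (fun i => Ideal.span (↑(S i) : Set A)) i)

section Completion

open Groth.Agent.Lib.FormalKerSys20

/-- a compatible family of cokernels `M ⟶ F_n` of multiplication by `I^{n+1}` identifies `F` with the completion of `M` -/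
theorem exists_completion_iso_of_isCokerSmul (I : Ideal A) (M : X.Modules) (F : ℕᵒᵖ ⥤ X.Modules)
    (p : ∀ n, M ⟶ F.obj (op n)) (hp : ∀ n, IsCokerSmul (I ^ (n + 1)) (p n))
    (hc : ∀ n, p (n + 1) ≫ tr F n = p n) :
    ∃ e : completion I M ≅ F, ∀ n, modPowπ I (n + 1) M ≫ e.hom.app (op n) = p n := by
  choose e he using fun n => IsCokerSmul.uniqueIso (isCokerSmul_modPowπ I (n + 1) M) (hp n)
  have key : ∀ n, tr (completion I M) n ≫ (e n).hom = (e (n + 1)).hom ≫ tr F n := by
    intro n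
    have h4 : tr (completion I M) n = modPowTrans I (n + 1) M :=
      Groth.Agent.Lib.FormalGr20.completion_map_succ I M n
    have key' : modPowTrans I (n + 1) M ≫ (e n).hom = (e (n + 1)).hom ≫ tr F n := by
      haveI : Epi (modPowπ I (n + 1 + 1) M) := (isCokerSmul_modPowπ I (n + 1 + 1) M).epi
      rw [← cancel_epi (modPowπ I (n + 1 + 1) M), ← Category.assoc, modPowπ_trans, he n,
        ← Category.assoc, he (n + 1), hc n]
    exact (congrArg (fun f => f ≫ (e n).hom) h4).trans key'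
  let φ : completion I M ⟶ F :=
    NatTrans.ofOpSequence (F := completion I M) (G := F) (fun n => (e n).hom) key
  haveI : ∀ n : ℕᵒᵖ, IsIso (φ.app n) := by
    intro n
    obtain ⟨n⟩ := n
    exact inferInstanceAs (IsIso (e n).hom)
  haveI : IsIso φ := NatIso.isIso_of_isIso_app φ
  exact ⟨asIso φ, fun n => he n⟩

end Completion

section Reduction

open Groth.Agent.Lib.FormalKerSys20

variable {I I' : Ideal A} (hle : I' ≤ I)
  (hred : ∀ (n : ℕ) {M Z : X.Modules} (q : M ⟶ Z),
      (∀ b ∈ I' ^ n, smulMod A M b ≫ q = 0) → ∀ a ∈ I ^ n, smulMod A M a ≫ q = 0)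

include hle hred

theorem kills_iff (n : ℕ) {M Z : X.Modules} (q : M ⟶ Z) :
    (∀ a ∈ I ^ n, smulMod A M a ≫ q = 0) ↔ (∀ b ∈ I' ^ n, smulMod A M b ≫ q = 0) :=
  ⟨fun h b hb => h b (Ideal.pow_right_mono hle n hb), hred n q⟩

theorem killedBy_iff (n : ℕ) (M : X.Modules) : KilledBy (I ^ n) M ↔ KilledBy (I' ^ n) M := by
  have h := kills_iff hle hred n (𝟙 M)
  simp only [Category.comp_id] at h
  exact h

theorem isCokerSmul_iff_of_red (n : ℕ) {N N' : X.Modules} (q : N ⟶ N') :
    IsCokerSmul (I ^ n) q ↔ IsCokerSmul (I' ^ n) q := by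
  constructor
  · rintro ⟨h1, h2, h3⟩
    exact ⟨(kills_iff hle hred n q).1 h1, h2, fun g hg => h3 g ((kills_iff hle hred n g).2 hg)⟩
  · rintro ⟨h1, h2, h3⟩
    exact ⟨(kills_iff hle hred n q).2 h1, h2, fun g hg => h3 g ((kills_iff hle hred n g).1 hg)⟩

theorem isCohFormal_iff (F : ℕᵒᵖ ⥤ X.Modules) : IsCohFormal I F ↔ IsCohFormal I' F := by
  constructor
  · rintro ⟨h1, h2, h3⟩
    refine ⟨h1, fun n => (killedBy_iff hle hred (n + 1) _).1 (h2 n), fun n => ?_⟩
    exact (isCokerSmul_iff _ _).1 ((isCokerSmul_iff_of_red hle hred (n + 1) _).1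
      ((isCokerSmul_iff _ _).2 (h3 n)))
  · rintro ⟨h1, h2, h3⟩
    refine ⟨h1, fun n => (killedBy_iff hle hred (n + 1) _).2 (h2 n), fun n => ?_⟩
    exact (isCokerSmul_iff _ _).1 ((isCokerSmul_iff_of_red hle hred (n + 1) _).2
      ((isCokerSmul_iff _ _).2 (h3 n)))

/-- the completions for `I` and `I'` agree -/
theorem exists_completion_iso_of_red (M : X.Modules) :
    ∃ e : completion I M ≅ completion I' M,
      ∀ n, modPowπ I (n + 1) M ≫ e.hom.app (op n) = modPowπ I' (n + 1) M := by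
  refine exists_completion_iso_of_isCokerSmul I M (completion I' M) (fun n => modPowπ I' (n + 1) M)
    (fun n => (isCokerSmul_iff_of_red hle hred (n + 1) _).2 (isCokerSmul_modPowπ I' (n + 1) M))
    (fun n => ?_)
  have h4 : tr (completion I' M) n = modPowTrans I' (n + 1) M :=
    Groth.Agent.Lib.FormalGr20.completion_map_succ I' M n
  exact (congrArg (fun f => modPowπ I' (n + 1 + 1) M ≫ f) h4).trans (modPowπ_trans I' (n + 1) M)

end Reduction

end Groth.Agent.Lib.FormalFGRed20
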