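/-
helper20: **functoriality of the completion** `Formal.completion I` : `complMap I φ : completion I M ⟶ completion I N` for `φ : M ⟶ N`.
-/
import Groth.Agent.Lib.FormalFGRed20

set_option autoImplicit false
set_option linter.style.haveILetI false
universe u

open CategoryTheory CategoryTheory.Limits AlgebraicGeometry Opposite

namespace Groth.Agent.Lib.FormalComplMap20

open Formal Groth.Agent.Lib.FormalKerSys20 Groth.Agent.Lib.FormalCoker13

variable {A : Type u} [CommRing A] {X : Scheme.{u}} [X.Over (Spec (CommRingCat.of A))]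
variable (I : Ideal A)

theorem exists_modPowMap (n : ℕ) {M N : X.Modules} (φ : M ⟶ N) :
    ∃ f : modPow I n M ⟶ modPow I n N, modPowπ I n M ≫ f = φ ≫ modPowπ I n N := by
  refine (isCokerSmul_modPowπ I n M).2.2 (φ ≫ modPowπ I n N) (fun a ha => ?_)
  rw [← Category.assoc, smulMod_naturality, Category.assoc, (isCokerSmul_modPowπ I n N).1 a ha, comp_zero]

/-- `M/I^nM ⟶ N/I^nN` -/
noncomputable def modPowMap (n : ℕ) {M N : X.Modules} (φ : M ⟶ N) : modPow I n M ⟶ modPow I n N :=
  (exists_modPowMap I n φ).choose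

@[reassoc]
theorem π_modPowMap (n : ℕ) {M N : X.Modules} (φ : M ⟶ N) :
    modPowπ I n M ≫ modPowMap I n φ = φ ≫ modPowπ I n N :=
  (exists_modPowMap I n φ).choose_spec

instance (n : ℕ) (M : X.Modules) : Epi (modPowπ I n M) := (isCokerSmul_modPowπ I n M).epi

theorem modPowMap_trans (n : ℕ) {M N : X.Modules} (φ : M ⟶ N) :
    modPowTrans I n M ≫ modPowMap I n φ = modPowMap I (n + 1) φ ≫ modPowTrans I n N := by
  rw [← cancel_epi (modPowπ I (n + 1) M), ← Category.assoc, modPowπ_trans, π_modPowMap,
    π_modPowMap_assoc, modPowπ_trans]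

theorem tr_completion (M : X.Modules) (n : ℕ) : tr (completion I M) n = modPowTrans I (n + 1) M :=
  Groth.Agent.Lib.FormalGr20.completion_map_succ I M n

/-- the completion of a morphism -/
noncomputable def complMap {M N : X.Modules} (φ : M ⟶ N) : completion I M ⟶ completion I N :=
  NatTrans.ofOpSequence (F := completion I M) (G := completion I N)
    (fun n => modPowMap I (n + 1) φ) (fun n => by
      have h := modPowMap_trans I (n + 1) φ
      have h1 := tr_completion I M n
      have h2 := tr_completion I N n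
      exact (congrArg (fun f => f ≫ modPowMap I (n + 1) φ) h1).trans
        (h.trans (congrArg (fun f => modPowMap I (n + 1 + 1) φ ≫ f) h2.symm)))

theorem complMap_app {M N : X.Modules} (φ : M ⟶ N) (n : ℕ) :
    (complMap I φ).app (op n) = modPowMap I (n + 1) φ := rfl

@[reassoc]
theorem π_complMap {M N : X.Modules} (φ : M ⟶ N) (n : ℕ) :
    modPowπ I (n + 1) M ≫ (complMap I φ).app (op n) = φ ≫ modPowπ I (n + 1) N :=
  π_modPowMap I (n + 1) φ

/-- morphisms out of a completion are determined after composing with the projections -/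
theorem compl_hom_ext {M : X.Modules} {F : ℕᵒᵖ ⥤ X.Modules} (f g : completion I M ⟶ F)
    (h : ∀ n, modPowπ I (n + 1) M ≫ f.app (op n) = modPowπ I (n + 1) M ≫ g.app (op n)) : f = g := by
  apply NatTrans.ext
  funext n
  obtain ⟨n⟩ := n
  exact (cancel_epi (modPowπ I (n + 1) M)).mp (h n)

theorem modPowMap_comp (n : ℕ) {M N P : X.Modules} (φ : M ⟶ N) (ψ : N ⟶ P) :
    modPowMap I n (φ ≫ ψ) = modPowMap I n φ ≫ modPowMap I n ψ := by
  rw [← cancel_epi (modPowπ I n M), π_modPowMap, π_modPowMap_assoc, π_modPowMap, Category.assoc]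

theorem modPowMap_zero (n : ℕ) {M N : X.Modules} : modPowMap I n (0 : M ⟶ N) = 0 := by
  rw [← cancel_epi (modPowπ I n M), π_modPowMap, zero_comp, comp_zero]

theorem modPowMap_smulMod (n : ℕ) (M : X.Modules) (b : A) :
    modPowMap I n (smulMod A M b) = smulMod A (modPow I n M) b := by
  rw [← cancel_epi (modPowπ I n M), π_modPowMap, smulMod_naturality]

theorem complMap_comp {M N P : X.Modules} (φ : M ⟶ N) (ψ : N ⟶ P) :
    complMap I (φ ≫ ψ) = complMap I φ ≫ complMap I ψ := by
  apply NatTrans.ext
  funext n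
  obtain ⟨n⟩ := n
  exact modPowMap_comp I (n + 1) φ ψ

theorem complMap_zero {M N : X.Modules} : complMap I (0 : M ⟶ N) = 0 := by
  apply NatTrans.ext
  funext n
  obtain ⟨n⟩ := n
  exact modPowMap_zero I (n + 1)

theorem complMap_eq_zero {M N : X.Modules} (φ : M ⟶ N) (h : φ = 0) : complMap I φ = 0 := by
  rw [h, complMap_zero]

theorem complMap_smulMod (M : X.Modules) (b : A) (n : ℕ) :
    (complMap I (smulMod A M b)).app (op n) = smulMod A ((completion I M).obj (op n)) b :=
  modPowMap_smulMod I (n + 1) M b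

end Groth.Agent.Lib.FormalComplMap20
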