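import Groth.Agent.Lib.FormalCoker13

/-!
# Coherent formal modules killed by a fixed power algebraize (helper13)

`nonempty_completion_iso_of_killedBy`: if `(F_n)` is a coherent formal module for `I` and `I^c` kills
every `F_n`, then `(F_n) ≅ (M / I^(n+1) M)` for `M = F_c` (S0832).
-/

set_option autoImplicit false
universe u
open CategoryTheory CategoryTheory.Limits AlgebraicGeometry Opposite

namespace Groth.Agent.Lib.FormalConst13

open Formal Groth.Agent.Lib.FormalCoker13

variable {A : Type u} [CommRing A] {X : Scheme.{u}} [X.Over (Spec (CommRingCat.of A))]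

theorem nonempty_completion_iso_of_killedBy {I : Ideal A} {F : ℕᵒᵖ ⥤ X.Modules}
    (hF : IsCohFormal I F) (c : ℕ) (hc : ∀ n : ℕ, KilledBy (I ^ c) (F.obj (op n))) :
    Nonempty (completion I (F.obj (op c)) ≅ F) := by
  -- transition maps
  let tr : ∀ {n m : ℕ} (_ : n ≤ m), F.obj (op m) ⟶ F.obj (op n) := fun h => F.map (homOfLE h).op
  have tr_comp : ∀ {i j k : ℕ} (h₁ : i ≤ j) (h₂ : j ≤ k), tr h₂ ≫ tr h₁ = tr (h₁.trans h₂) := by
    intro i j k h₁ h₂
    change F.map _ ≫ F.map _ = F.map _
    rw [← F.map_comp]; rfl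
  have hiso : ∀ {m : ℕ} (h : c ≤ m), IsIso (tr h) := fun {m} h =>
    (hF.isCokerSmul_tr h).isIso_of_killedBy
      ((hc m).mono (Ideal.pow_le_pow_right (Nat.le_succ c)))
  let γ : ∀ n : ℕ, F.obj (op c) ⟶ F.obj (op n) := fun n =>
    have := hiso (le_max_left c n)
    inv (tr (le_max_left c n)) ≫ tr (le_max_right c n)
  have hγ : ∀ (n m : ℕ) (h1 : c ≤ m) (h2 : n ≤ m), tr h1 ≫ γ n = tr h2 := by
    intro n m h1 h2
    have := hiso (le_max_left c n)
    have hN : max c n ≤ m := max_le h1 h2
    change tr h1 ≫ inv (tr (le_max_left c n)) ≫ tr (le_max_right c n) = tr h2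
    rw [← tr_comp (le_max_left c n) hN, Category.assoc, IsIso.hom_inv_id_assoc, tr_comp]
  have hγcoker : ∀ n, IsCokerSmul (I ^ (n + 1)) (γ n) := by
    intro n
    have := hiso (le_max_left c n)
    exact (hF.isCokerSmul_tr (le_max_right c n)).of_iso_left (inv (tr (le_max_left c n)))
  have hγcompat : ∀ n, γ (n + 1) ≫ tr (Nat.le_succ n) = γ n := by
    intro n
    have := hiso (le_max_left c (n + 1))
    rw [← cancel_epi (tr (le_max_left c (n + 1))), ← Category.assoc,
      hγ (n + 1) _ (le_max_left c (n + 1)) (le_max_right c (n + 1)), tr_comp,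
      hγ n _ (le_max_left c (n + 1)) ((Nat.le_succ n).trans (le_max_right c (n + 1)))]
  choose β hβ using fun n =>
    (isCokerSmul_modPowπ I (n + 1) (F.obj (op c))).uniqueIso (hγcoker n)
  let τ : completion I (F.obj (op c)) ⟶ F := NatTrans.ofOpSequence (fun n => (β n).hom) (by
    intro n
    have e1 : (completion I (F.obj (op c))).map (homOfLE (n.le_add_right 1)).op =
        modPowTrans I (n + 1) (F.obj (op c)) := Functor.ofOpSequence_map_homOfLE_succ _ n
    rw [e1]
    have hepi : Epi (modPowπ I (n + 1 + 1) (F.obj (op c))) :=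
      (isCokerSmul_modPowπ I (n + 1 + 1) (F.obj (op c))).epi
    have goal : modPowTrans I (n + 1) (F.obj (op c)) ≫ (β n).hom =
        (β (n + 1)).hom ≫ tr (Nat.le_succ n) := by
      rw [← cancel_epi (modPowπ I (n + 1 + 1) (F.obj (op c))), ← Category.assoc, modPowπ_trans,
        hβ n, ← Category.assoc, hβ (n + 1)]
      exact (hγcompat n).symm
    exact goal)
  have hτ : ∀ n : ℕᵒᵖ, IsIso (τ.app n) := by
    intro n
    change IsIso ((β n.unop).hom)
    infer_instance
  have : IsIso τ := NatIso.isIso_of_isIso_app τ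
  exact ⟨asIso τ⟩

end Groth.Agent.Lib.FormalConst13
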