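/-
helper20: **uniform pro-isomorphisms of inverse systems and the induced bijection on morphisms from coherent formal modules**.

`IsUProIso θ` for `θ : K ⟶ S` (systems indexed by `ℕᵒᵖ`): there are `c` and maps `ψ_n : S_{c+n} ⟶ K_n`, compatible with the
transition maps, with `ψ_n ≫ θ_n` and `θ_{c+n} ≫ ψ_n` the transition maps.

* `IsUProIso.existsUnique_lift` : if `T` is a coherent formal module, `K_n` is killed by `I^{n+1}` and `θ : K ⟶ S` is a uniform
  pro-isomorphism, then every `τ : T ⟶ S` factors uniquely through `θ`.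
* `isUProIso_of_mono` : a levelwise monomorphism `j : S' ⟶ S` such that the transition maps `S_{c+n} ⟶ S_n` factor through `j_n`.
* `isUProIso_adic` : the canonical map from the adic-ification of a shifted system.
* `kerLift`, `kerLift_ι`, `kerF_hom_ext`: the universal property of the levelwise kernel.
-/
import Groth.Agent.Lib.FormalKerAdic20

set_option autoImplicit false
set_option linter.style.haveILetI false
universe u

open CategoryTheory CategoryTheory.Limits AlgebraicGeometry Opposite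

namespace Groth.Agent.Lib.FormalProIso20

open Formal Groth.Agent.Lib.FormalKerSys20 Groth.Agent.Lib.FormalCoker13 Groth.Agent.Lib.FormalARKer20
  Groth.Agent.Lib.FormalAdic20 Groth.Agent.Lib.FormalKerAdic20

section General

variable {C : Type*} [Category C]

/-- uniform pro-isomorphism of inverse systems -/
def IsUProIso {K S : ℕᵒᵖ ⥤ C} (θ : K ⟶ S) : Prop :=
  ∃ (c : ℕ) (ψ : ∀ n, S.obj (op (c + n)) ⟶ K.obj (op n)),
    (∀ n, S.map (homOfLE (Nat.add_le_add_left (Nat.le_succ n) c)).op ≫ ψ n =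
      ψ (n + 1) ≫ K.map (homOfLE (Nat.le_succ n)).op) ∧
    (∀ n, ψ n ≫ θ.app (op n) = S.map (homOfLE (Nat.le_add_left n c)).op) ∧
    (∀ n, θ.app (op (c + n)) ≫ ψ n = K.map (homOfLE (Nat.le_add_left n c)).op)

theorem map_comp_map (K : ℕᵒᵖ ⥤ C) {i j k : ℕ} (h₁ : i ≤ j) (h₂ : j ≤ k) :
    K.map (homOfLE h₂).op ≫ K.map (homOfLE h₁).op = K.map (homOfLE (h₁.trans h₂)).op := by
  rw [← K.map_comp]
  rfl

theorem map_comp_map_assoc (K : ℕᵒᵖ ⥤ C) {i j k : ℕ} (h₁ : i ≤ j) (h₂ : j ≤ k) {Z : C}
    (g : K.obj (op i) ⟶ Z) :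
    K.map (homOfLE h₂).op ≫ K.map (homOfLE h₁).op ≫ g = K.map (homOfLE (h₁.trans h₂)).op ≫ g := by
  rw [← Category.assoc, map_comp_map]

/-- a levelwise monomorphism through which the `c`-step transition maps factor is a uniform pro-isomorphism -/
theorem isUProIso_of_mono {S' S : ℕᵒᵖ ⥤ C} (j : S' ⟶ S) (hj : ∀ n, Mono (j.app (op n))) (c : ℕ)
    (h : ∀ n, ∃ ψ : S.obj (op (c + n)) ⟶ S'.obj (op n),
      ψ ≫ j.app (op n) = S.map (homOfLE (Nat.le_add_left n c)).op) : IsUProIso j := by
  choose ψ hψ using h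
  refine ⟨c, ψ, fun n => ?_, hψ, fun n => ?_⟩
  · haveI := hj n
    rw [← cancel_mono (j.app (op n)), Category.assoc, hψ, Category.assoc,
      j.naturality (homOfLE (Nat.le_succ n)).op, ← Category.assoc, hψ, map_comp_map, map_comp_map]
  · haveI := hj n
    rw [← cancel_mono (j.app (op n)), Category.assoc, hψ, j.naturality]

end General

section Ker

variable {C : Type*} [Category C] [Abelian C] {J : Type*} [Category J] {T F G : J ⥤ C}

/-- the universal property of the levelwise kernel -/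
noncomputable def kerLift (ρ : F ⟶ G) (τ : T ⟶ F) (h : τ ≫ ρ = 0) : T ⟶ kerF ρ where
  app j := kernel.lift (ρ.app j) (τ.app j) (by rw [← NatTrans.comp_app, h]; rfl)
  naturality i j f := by
    rw [← cancel_mono (kernel.ι (ρ.app j)), Category.assoc, Category.assoc, kernel.lift_ι]
    have h1 : (kerF ρ).map f ≫ kernel.ι (ρ.app j) = kernel.ι (ρ.app i) ≫ F.map f := kernel.lift_ι _ _ _
    rw [h1, kernel.lift_ι_assoc, τ.naturality]

@[reassoc]
theorem kerLift_ι (ρ : F ⟶ G) (τ : T ⟶ F) (h : τ ≫ ρ = 0) : kerLift ρ τ h ≫ kerι ρ = τ := by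
  apply NatTrans.ext
  funext j
  exact kernel.lift_ι _ _ _

theorem kerι_comp (ρ : F ⟶ G) : kerι ρ ≫ ρ = 0 := by
  apply NatTrans.ext
  funext j
  exact kernel.condition _

theorem kerF_hom_ext (ρ : F ⟶ G) (l l' : T ⟶ kerF ρ) (h : l ≫ kerι ρ = l' ≫ kerι ρ) : l = l' := by
  apply NatTrans.ext
  funext j
  rw [← cancel_mono (kernel.ι (ρ.app j))]
  exact congrArg (fun φ => φ.app j) h

end Ker

variable {A : Type u} [CommRing A] {X : Scheme.{u}} [X.Over (Spec (CommRingCat.of A))]
variable {I : Ideal A}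

/-- **morphisms from a coherent formal module factor uniquely through a uniform pro-isomorphism** -/
theorem IsUProIso.existsUnique_lift {T K S : ℕᵒᵖ ⥤ X.Modules} (hT : IsCohFormal I T)
    (hK : ∀ n, KilledBy (I ^ (n + 1)) (K.obj (op n))) {θ : K ⟶ S} (hθ : IsUProIso θ) (τ : T ⟶ S) :
    ∃! l : T ⟶ K, l ≫ θ = τ := by
  obtain ⟨c, ψ, hnat, h1, h2⟩ := hθ
  have hdesc : ∀ n, ∃ l : T.obj (op n) ⟶ K.obj (op n),
      T.map (homOfLE (Nat.le_add_left n c)).op ≫ l = τ.app (op (c + n)) ≫ ψ n := by
    intro n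
    refine (hT.isCokerSmul_tr (Nat.le_add_left n c)).2.2 _ (fun a ha => ?_)
    rw [smulMod_naturality, hK n a ha, comp_zero]
  choose l hl using hdesc
  have hepi : ∀ n, Epi (T.map (homOfLE (Nat.le_add_left n c)).op) := fun n =>
    (hT.isCokerSmul_tr (Nat.le_add_left n c)).epi
  have hlnat : ∀ n, tr T n ≫ l n = l (n + 1) ≫ tr K n := by
    intro n
    haveI := hepi (n + 1)
    rw [← cancel_epi (T.map (homOfLE (Nat.le_add_left (n + 1) c)).op), ← Category.assoc (_) (l (n + 1)),
      hl (n + 1), Category.assoc, ← hnat n, map_comp_map_assoc,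
      ← map_comp_map_assoc T (Nat.le_add_left n c) (Nat.add_le_add_left (Nat.le_succ n) c), hl n,
      ← Category.assoc, ← Category.assoc]
    congr 1
    exact τ.naturality (homOfLE (Nat.add_le_add_left (Nat.le_succ n) c)).op
  refine ⟨NatTrans.ofOpSequence (F := T) (G := K) l hlnat, ?_, ?_⟩
  · apply NatTrans.ext
    funext n
    obtain ⟨n⟩ := n
    haveI := hepi n
    change l n ≫ θ.app (op n) = τ.app (op n)
    rw [← cancel_epi (T.map (homOfLE (Nat.le_add_left n c)).op), ← Category.assoc, hl n,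
      Category.assoc, h1 n]
    exact (τ.naturality (homOfLE (Nat.le_add_left n c)).op).symm
  · intro l' hl'
    apply NatTrans.ext
    funext n
    obtain ⟨n⟩ := n
    haveI := hepi n
    change l'.app (op n) = l n
    rw [← cancel_epi (T.map (homOfLE (Nat.le_add_left n c)).op), hl n,
      l'.naturality (homOfLE (Nat.le_add_left n c)).op, ← h2 n, ← Category.assoc]
    congr 1
    exact congrArg (fun φ => φ.app (op (c + n))) hl'

/-- the canonical map from the adic-ification of a shifted system is a uniform pro-isomorphism -/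
theorem isUProIso_adic (S : ℕᵒᵖ ⥤ X.Modules) (c : ℕ) (θ : adicF I (shiftSys c S) ⟶ S)
    (hθ : adicπ I (shiftSys c S) ≫ θ = shiftTo c S) : IsUProIso θ := by
  have hπ : ∀ {m n : ℕ} (h : n ≤ m), (shiftSys c S).map (homOfLE h).op ≫ adicq I (shiftSys c S) n =
      adicq I (shiftSys c S) m ≫ (adicF I (shiftSys c S)).map (homOfLE h).op := fun h =>
    (adicπ I (shiftSys c S)).naturality (homOfLE h).op
  have hθn : ∀ n, adicq I (shiftSys c S) n ≫ θ.app (op n) = S.map (homOfLE (Nat.le_add_left n c)).op :=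
    fun n => congrArg (fun φ => φ.app (op n)) hθ
  refine ⟨c, fun n => adicq I (shiftSys c S) n, fun n => ?_, hθn, fun n => ?_⟩
  · exact hπ (Nat.le_succ n)
  · have key : ∀ (θc : adicObj I (shiftSys c S) (c + n) ⟶ S.obj (op (c + n)))
        (Km : adicObj I (shiftSys c S) (c + n) ⟶ adicObj I (shiftSys c S) n),
        adicq I (shiftSys c S) (c + n) ≫ θc = S.map (homOfLE (Nat.le_add_left (c + n) c)).op →
        (shiftSys c S).map (homOfLE (Nat.le_add_left n c)).op ≫ adicq I (shiftSys c S) n =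
          adicq I (shiftSys c S) (c + n) ≫ Km → θc ≫ adicq I (shiftSys c S) n = Km := by
      intro θc Km e1 e2
      rw [← cancel_epi (adicq I (shiftSys c S) (c + n)), ← Category.assoc, e1, ← e2]
      rfl
    exact key (θ.app (op (c + n))) ((adicF I (shiftSys c S)).map (homOfLE (Nat.le_add_left n c)).op)
      (hθn (c + n)) (hπ _)

end Groth.Agent.Lib.FormalProIso20
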