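/-
helper20: **kernels in the category of coherent formal modules** (Stacks 087X, general case).

`X` Noetherian over `Spec A`, `I` a finitely generated ideal, `ρ : F ⟶ G` any morphism of coherent formal modules.
* `cokF ρ`, `cokπ ρ`, `isCohFormal_cokF` : the levelwise cokernel is a coherent formal module.
* `exists_formal_kernel_proIso` : for `ρ` levelwise epi, a coherent formal `K` with `σ : K ⟶ F`, `σ ≫ ρ = 0`, such that `K ⟶ kerF ρ` is a
  uniform pro-isomorphism.
* `exists_formal_kernel_general` : a kernel of `ρ` in the category of coherent formal modules (universal property for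
  morphisms from coherent formal modules).
-/
import Groth.Agent.Lib.FormalProIso20

set_option autoImplicit false
set_option linter.style.haveILetI false
universe u

open CategoryTheory CategoryTheory.Limits AlgebraicGeometry Opposite

namespace Groth.Agent.Lib.FormalKernel20

open Formal Groth.Agent.Lib.FormalKerSys20 Groth.Agent.Lib.FormalCoker13 Groth.Agent.Lib.FormalARKer20
  Groth.Agent.Lib.FormalAdic20 Groth.Agent.Lib.FormalKerAdic20 Groth.Agent.Lib.FormalProIso20

section Abelian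

variable {C : Type*} [Category C] [Abelian C] {J : Type*} [Category J] {F G : J ⥤ C}

/-- levelwise cokernel -/
@[reducible]
noncomputable def cokF (ρ : F ⟶ G) : J ⥤ C where
  obj n := cokernel (ρ.app n)
  map {m n} f := cokernel.map (ρ.app m) (ρ.app n) (F.map f) (G.map f) (ρ.naturality f).symm
  map_id n := by
    ext
    simp
  map_comp f g := by
    ext
    simp

set_option linter.unusedVariables false in
/-- the projection onto the levelwise cokernel -/
@[reducible]
noncomputable def cokπ (ρ : F ⟶ G) : G ⟶ cokF ρ where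
  app n := cokernel.π (ρ.app n)
  naturality m n f := (cokernel.π_desc _ _ _).symm

theorem comp_cokπ (ρ : F ⟶ G) : ρ ≫ cokπ ρ = 0 := by
  apply NatTrans.ext
  funext j
  exact cokernel.condition _

instance (ρ : F ⟶ G) (j : J) : Epi ((kerLift (cokπ ρ) ρ (comp_cokπ ρ)).app j) :=
  inferInstanceAs (Epi (Abelian.factorThruImage (ρ.app j)))

end Abelian

variable {A : Type u} [CommRing A] {X : Scheme.{u}} [X.Over (Spec (CommRingCat.of A))]
variable {I : Ideal A} {F G : ℕᵒᵖ ⥤ X.Modules}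

theorem π_tr_cokF (ρ : F ⟶ G) (n : ℕ) :
    cokernel.π (ρ.app (op (n + 1))) ≫ tr (cokF ρ) n = tr G n ≫ cokernel.π (ρ.app (op n)) :=
  ((cokπ ρ).naturality (homOfLE (Nat.le_succ n)).op).symm

/-- the levelwise cokernel of a morphism of coherent formal modules is a coherent formal module -/
theorem isCohFormal_cokF (hF : IsCohFormal I F) (hG : IsCohFormal I G) (ρ : F ⟶ G) :
    IsCohFormal I (cokF ρ) := by
  haveI : ∀ n, (F.obj (op n)).IsQuasicoherent := fun n => (hF.1 n).1
  haveI : ∀ n, (G.obj (op n)).IsQuasicoherent := fun n => (hG.1 n).1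
  have hk : ∀ n, KilledBy (I ^ (n + 1)) ((cokF ρ).obj (op n)) := fun n =>
    Groth.Agent.Lib.FormalGr20.killedBy_cokernel _ (hG.killedBy n)
  refine ⟨fun n => Groth.Agent.Lib.H90OXModExact.isCoh_cokernel _ (hG.1 n), hk, fun n => ?_⟩
  refine (isCokerSmul_iff _ _).1 ⟨fun a ha => ?_, ?_, fun {Z} g hg => ?_⟩
  · change smulMod A _ a ≫ tr (cokF ρ) n = 0
    rw [smulMod_naturality, hk n a ha, comp_zero]
  · change Epi (tr (cokF ρ) n)
    haveI := FormalKerSys20.epi_tr hG n
    have : Epi (cokernel.π (ρ.app (op (n + 1))) ≫ tr (cokF ρ) n) := by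
      rw [π_tr_cokF]
      exact epi_comp _ _
    exact epi_of_epi (cokernel.π (ρ.app (op (n + 1)))) _
  · change ∃ g' : (cokF ρ).obj (op n) ⟶ Z, tr (cokF ρ) n ≫ g' = g
    have h1 : ∀ a ∈ I ^ (n + 1), smulMod A _ a ≫ (cokernel.π (ρ.app (op (n + 1))) ≫ g) = 0 := by
      intro a ha
      rw [← Category.assoc, smulMod_naturality, Category.assoc, hg a ha, comp_zero]
    obtain ⟨g₁, hg₁⟩ := (hG.isCokerSmul_succ n).2.2 _ h1
    change tr G n ≫ g₁ = _ at hg₁
    have h2 : ρ.app (op n) ≫ g₁ = 0 := by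
      haveI := FormalKerSys20.epi_tr hF n
      rw [← cancel_epi (tr F n), comp_zero, ← Category.assoc]
      have := ρ.naturality (homOfLE (Nat.le_succ n)).op
      change tr F n ≫ ρ.app (op n) = ρ.app (op (n + 1)) ≫ tr G n at this
      rw [this, Category.assoc, hg₁, ← Category.assoc, cokernel.condition, zero_comp]
    refine ⟨cokernel.desc _ g₁ h2, ?_⟩
    rw [← cancel_epi (cokernel.π (ρ.app (op (n + 1)))), ← Category.assoc, π_tr_cokF, Category.assoc,
      cokernel.π_desc, hg₁]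

/-- **Kernels of levelwise epimorphisms of coherent formal modules**, with the uniform pro-isomorphism. -/
theorem exists_formal_kernel_proIso [IsLocallyNoetherian X] [CompactSpace X] (hI : I.FG)
    (hF : IsCohFormal I F) (hG : IsCohFormal I G) (ρ : F ⟶ G) (hρ : ∀ n, Epi (ρ.app (op n))) :
    ∃ (K : ℕᵒᵖ ⥤ X.Modules) (σ : K ⟶ F) (h : σ ≫ ρ = 0),
      IsCohFormal I K ∧ IsUProIso (kerLift ρ σ h) := by
  obtain ⟨r, a, hspan⟩ := Submodule.fg_iff_exists_fin_generating_family.mp hI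
  have ha : ∀ i, a i ∈ I := fun i => by
    rw [← hspan]
    exact Submodule.subset_span ⟨i, rfl⟩
  choose s hs using fun (i : Fin r) n => exists_sec hF (a i) (ha i) n
  have hK' := surjSys_kerF hF hG ρ hρ
  choose s' hs' using fun (i : Fin r) n => hK'.exists_sec (a i) (ha i) n
  obtain ⟨c, hc⟩ := isFG_kSys_kerF hF hG ρ hρ a ha s hs s' hs' hspan
  have hAR : ARSys I (shiftSys (c + 1) (kerF ρ)) := by
    refine ⟨fun n => hK'.epi (c + 1 + n), fun n Z g hg => ?_⟩
    refine ar_of_isFGFrom hF hG ρ hρ a ha s' hs' hc (c + 1 + n) (by omega) g (fun b hb => hg b ?_)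
    have : c + 1 + n - c = n + 1 := by omega
    rwa [this] at hb
  haveI : ∀ n, (F.obj (op n)).IsQuasicoherent := fun n => (hF.1 n).1
  haveI : ∀ n, (G.obj (op n)).IsQuasicoherent := fun n => (hG.1 n).1
  have hcoh : ∀ n, Coh.IsCoh ((shiftSys (c + 1) (kerF ρ)).obj (op n)) := fun n =>
    Groth.Agent.Lib.H90OXModExact.isCoh_kernel (ρ.app (op (c + 1 + n))) (hF.1 (c + 1 + n))
  have hkk : ∀ n, KilledBy (I ^ (n + 1)) ((kerF ρ).obj (op n)) := fun n =>
    Groth.Agent.Lib.FormalGr20.killedBy_kernel _ (hF.killedBy n)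
  obtain ⟨θ, hθ⟩ := exists_adicDesc (I := I) hkk (shiftTo (c + 1) (kerF ρ))
  have h0 : (θ ≫ kerι ρ) ≫ ρ = 0 := by rw [Category.assoc, kerι_comp, comp_zero]
  refine ⟨adicF I (shiftSys (c + 1) (kerF ρ)), θ ≫ kerι ρ, h0, isCohFormal_adicF hAR hcoh, ?_⟩
  have e : kerLift ρ (θ ≫ kerι ρ) h0 = θ := kerF_hom_ext ρ _ _ (kerLift_ι ρ _ h0)
  rw [e]
  exact isUProIso_adic (kerF ρ) (c + 1) θ hθ

/-- a lift of a levelwise epimorphism through a uniform pro-isomorphism from a surjective system is a levelwise epimorphism -/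
theorem IsUProIso.epi_lift {T K S : ℕᵒᵖ ⥤ X.Modules}
    (hK : ∀ {n m : ℕ} (h : n ≤ m), Epi (K.map (homOfLE h).op)) {θ : K ⟶ S} (hθ : IsUProIso θ)
    (l : T ⟶ K) (hl : ∀ n, Epi ((l ≫ θ).app (op n))) (n : ℕ) : Epi (l.app (op n)) := by
  obtain ⟨c, ψ, -, -, h2⟩ := hθ
  haveI hψ : Epi (ψ n) := by
    haveI : Epi (θ.app (op (c + n)) ≫ ψ n) := by
      rw [h2 n]
      exact hK _
    exact epi_of_epi (θ.app (op (c + n))) _
  haveI := hl (c + n)
  have h3 : T.map (homOfLE (Nat.le_add_left n c)).op ≫ l.app (op n) = (l ≫ θ).app (op (c + n)) ≫ ψ n := by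
    rw [l.naturality, ← h2 n, NatTrans.comp_app, Category.assoc]
  haveI : Epi (T.map (homOfLE (Nat.le_add_left n c)).op ≫ l.app (op n)) := by
    rw [h3]
    exact epi_comp _ _
  exact epi_of_epi (T.map (homOfLE (Nat.le_add_left n c)).op) _

/-- **Kernels in the category of coherent formal modules** (`X` Noetherian, `I` finitely generated). -/
theorem exists_formal_kernel_general [IsLocallyNoetherian X] [CompactSpace X] (hI : I.FG)
    (hF : IsCohFormal I F) (hG : IsCohFormal I G) (ρ : F ⟶ G) :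
    ∃ (K : ℕᵒᵖ ⥤ X.Modules) (κ : K ⟶ F), IsCohFormal I K ∧ κ ≫ ρ = 0 ∧
      ∀ (T : ℕᵒᵖ ⥤ X.Modules), IsCohFormal I T → ∀ τ : T ⟶ F, τ ≫ ρ = 0 → ∃! l : T ⟶ K, l ≫ κ = τ := by
  have hC := isCohFormal_cokF hF hG ρ
  -- the formal image
  obtain ⟨P, σ, hσ0, hP, hσ⟩ := exists_formal_kernel_proIso hI hG hC (cokπ ρ)
    (fun n => inferInstanceAs (Epi (cokernel.π (ρ.app (op n)))))
  have hPk : ∀ n, KilledBy (I ^ (n + 1)) (P.obj (op n)) := fun n => hP.killedBy n
  obtain ⟨ρ', hρ', -⟩ := hσ.existsUnique_lift hF hPk (kerLift (cokπ ρ) ρ (comp_cokπ ρ))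
  have hρσ : ρ' ≫ σ = ρ := by
    have := congrArg (fun φ => φ ≫ kerι (cokπ ρ)) hρ'
    simp only [Category.assoc, kerLift_ι] at this
    exact this
  have hρ'epi : ∀ n, Epi (ρ'.app (op n)) := by
    refine IsUProIso.epi_lift (fun h => hP.epi_tr h) hσ ρ' (fun n => ?_)
    rw [hρ']
    infer_instance
  -- the kernel of `ρ'`
  obtain ⟨K, κ, hκ0, hK, hκ⟩ := exists_formal_kernel_proIso hI hF hP ρ' hρ'epi
  have hKk : ∀ n, KilledBy (I ^ (n + 1)) (K.obj (op n)) := fun n => hK.killedBy n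
  have hκρ : κ ≫ ρ = 0 := by rw [← hρσ, ← Category.assoc, hκ0, zero_comp]
  -- the inclusion `kerF ρ' ⟶ kerF ρ` is a uniform pro-isomorphism
  have hj0 : kerι ρ' ≫ ρ = 0 := by rw [← hρσ, ← Category.assoc, kerι_comp, zero_comp]
  have hjι : kerLift ρ (kerι ρ') hj0 ≫ kerι ρ = kerι ρ' := kerLift_ι ρ _ hj0
  have hkk : ∀ n, KilledBy (I ^ (n + 1)) ((kerF ρ').obj (op n)) := fun n =>
    Groth.Agent.Lib.FormalGr20.killedBy_kernel _ (hF.killedBy n)
  have hj : IsUProIso (kerLift ρ (kerι ρ') hj0) := by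
    obtain ⟨c, ψ, -, -, h2⟩ := hσ
    refine isUProIso_of_mono _ (fun n => ?_) c (fun n => ?_)
    · have h1 : (kerLift ρ (kerι ρ') hj0).app (op n) ≫ kernel.ι (ρ.app (op n)) =
          kernel.ι (ρ'.app (op n)) := congrArg (fun φ => φ.app (op n)) hjι
      exact mono_of_mono_fac h1
    · have hz : (kernel.ι (ρ.app (op (c + n))) ≫ F.map (homOfLE (Nat.le_add_left n c)).op) ≫
          ρ'.app (op n) = 0 := by
        rw [Category.assoc, ρ'.naturality, ← h2 n]
        have h3 : ρ'.app (op (c + n)) ≫ (kerLift (cokπ ρ) σ hσ0).app (op (c + n)) =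
            (kerLift (cokπ ρ) ρ (comp_cokπ ρ)).app (op (c + n)) :=
          congrArg (fun φ => φ.app (op (c + n))) hρ'
        have h4 : kernel.ι (ρ.app (op (c + n))) ≫
            (kerLift (cokπ ρ) ρ (comp_cokπ ρ)).app (op (c + n)) = 0 := by
          rw [← cancel_mono (kernel.ι ((cokπ ρ).app (op (c + n)))), Category.assoc, zero_comp]
          have h5 : (kerLift (cokπ ρ) ρ (comp_cokπ ρ)).app (op (c + n)) ≫
              kernel.ι ((cokπ ρ).app (op (c + n))) = ρ.app (op (c + n)) := kernel.lift_ι _ _ _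
          rw [h5, kernel.condition]
        rw [← Category.assoc (ρ'.app (op (c + n))), h3, ← Category.assoc, h4, zero_comp]
      refine ⟨kernel.lift _ _ hz, ?_⟩
      rw [← cancel_mono (kernel.ι (ρ.app (op n))), Category.assoc]
      have h1 : (kerLift ρ (kerι ρ') hj0).app (op n) ≫ kernel.ι (ρ.app (op n)) =
          kernel.ι (ρ'.app (op n)) := congrArg (fun φ => φ.app (op n)) hjι
      rw [h1, kernel.lift_ι]
      exact ((kerι ρ).naturality (homOfLE (Nat.le_add_left n c)).op).symm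
  refine ⟨K, κ, hK, hκρ, fun T hT τ hτ => ?_⟩
  obtain ⟨l₁, hl₁, hl₁u⟩ := hj.existsUnique_lift hT hkk (kerLift ρ τ hτ)
  obtain ⟨l, hl, hlu⟩ := hκ.existsUnique_lift hT hKk l₁
  have hκι : kerLift ρ' κ hκ0 ≫ kerι ρ' = κ := kerLift_ι ρ' κ hκ0
  refine ⟨l, ?_, fun l' hl' => ?_⟩
  · change l ≫ κ = τ
    rw [← hκι, ← Category.assoc, hl, ← hjι, ← Category.assoc, hl₁, kerLift_ι]
  · change l' ≫ κ = τ at hl'
    apply hlu
    change l' ≫ kerLift ρ' κ hκ0 = l₁
    apply hl₁u
    change (l' ≫ kerLift ρ' κ hκ0) ≫ kerLift ρ (kerι ρ') hj0 = kerLift ρ τ hτ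
    apply kerF_hom_ext ρ
    rw [Category.assoc, Category.assoc, hjι, hκι, hl', kerLift_ι]

end Groth.Agent.Lib.FormalKernel20
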