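/-
helper20: **exactness of the completion functor** on coherent modules (Artin–Rees), in the form of a universal property.

`X` Noetherian over `Spec A`, `I` finitely generated.
* `isUProIso_of_epi_family` (abstract): a criterion for `θ : K ⟶ S` to be a uniform pro-isomorphism when `K`, `S` are compatibly
  covered by a single object.
* `isUProIso_completion_sub` : for a coherent submodule `ι : P ↪ G` and a subsystem `S ⊆ completion I G` which from some level on is
  the levelwise image of `P`, the induced map `completion I P ⟶ S` is a uniform pro-isomorphism.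
* `kernel_complMap_mono_shift` : for a monomorphism `m : B ↪ H` of coherent modules, the transition maps
  `Ker(m̂_{c+n}) ⟶ B/I^{n+1}B` vanish.
* `existsUnique_lift_kernel` : for `β : G ⟶ H` coherent, morphisms `τ : T ⟶ completion I G` from a coherent formal module with
  `τ ≫ β̂ = 0` factor uniquely through `completion I (kernel β)`.
-/
import Groth.Agent.Lib.FormalARSub20
import Groth.Agent.Lib.FormalComplMap20
import Groth.Agent.Lib.FormalKernel20

set_option autoImplicit false
set_option linter.style.haveILetI false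
universe u

open CategoryTheory CategoryTheory.Limits AlgebraicGeometry Opposite

namespace Groth.Agent.Lib.FormalExact20

open Formal Groth.Agent.Lib.FormalKerSys20 Groth.Agent.Lib.FormalCoker13 Groth.Agent.Lib.FormalARKer20
  Groth.Agent.Lib.FormalProIso20 Groth.Agent.Lib.FormalComplMap20 Groth.Agent.Lib.FormalARSub20

section Abstract

variable {C : Type*} [Category C] [Abelian C]

omit [Abelian C] in
theorem comp_map_of_succ {K : ℕᵒᵖ ⥤ C} {M : C} (p : ∀ n, M ⟶ K.obj (op n))
    (hpc : ∀ n, p (n + 1) ≫ K.map (homOfLE (Nat.le_succ n)).op = p n) {n m : ℕ} (h : n ≤ m) :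
    p m ≫ K.map (homOfLE h).op = p n := by
  induction m, h using Nat.le_induction with
  | base =>
    have : (homOfLE (le_refl n)).op = 𝟙 (op n) := rfl
    rw [this, K.map_id, Category.comp_id]
  | succ m hnm ih =>
    rw [← map_comp_map K hnm (Nat.le_succ m), ← Category.assoc, hpc m, ih]

/-- a criterion for uniform pro-isomorphisms -/
theorem isUProIso_of_epi_family {K S : ℕᵒᵖ ⥤ C} (θ : K ⟶ S) {M : C}
    (p : ∀ n, M ⟶ K.obj (op n)) (hp : ∀ n, Epi (p n))
    (hpc : ∀ n, p (n + 1) ≫ K.map (homOfLE (Nat.le_succ n)).op = p n)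
    (c : ℕ) (hq : ∀ n, c ≤ n → Epi (p n ≫ θ.app (op n)))
    (hker : ∀ n, kernel.ι (p (c + n) ≫ θ.app (op (c + n))) ≫ p n = 0) : IsUProIso θ := by
  have hpm : ∀ {n m : ℕ} (h : n ≤ m), p m ≫ K.map (homOfLE h).op = p n := fun h =>
    comp_map_of_succ p hpc h
  have hqm : ∀ {n m : ℕ} (h : n ≤ m),
      (p m ≫ θ.app (op m)) ≫ S.map (homOfLE h).op = p n ≫ θ.app (op n) := by
    intro n m h
    rw [Category.assoc, ← θ.naturality, ← Category.assoc, hpm h]
  have hqe : ∀ n, Epi (p (c + n) ≫ θ.app (op (c + n))) := fun n => hq _ (Nat.le_add_right c n)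
  have hex : ∀ n, ∃ ψ : S.obj (op (c + n)) ⟶ K.obj (op n),
      (p (c + n) ≫ θ.app (op (c + n))) ≫ ψ = p n := fun n => by
    haveI := hqe n
    exact exists_fac_of_epi _ _ (hker n)
  choose ψ hψ using hex
  refine ⟨c, ψ, fun n => ?_, fun n => ?_, fun n => ?_⟩
  · haveI := hqe (n + 1)
    rw [← cancel_epi (p (c + (n + 1)) ≫ θ.app (op (c + (n + 1)))), ← Category.assoc,
      hqm (Nat.add_le_add_left (Nat.le_succ n) c), hψ n, ← Category.assoc, hψ (n + 1), hpc n]
  · haveI := hqe n
    rw [← cancel_epi (p (c + n) ≫ θ.app (op (c + n))), ← Category.assoc, hψ n, hqm]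
  · haveI := hp (c + n)
    rw [← cancel_epi (p (c + n)), ← Category.assoc, hψ n, hpm]

end Abstract

variable {A : Type u} [CommRing A] {X : Scheme.{u}} [X.Over (Spec (CommRingCat.of A))]
variable {I : Ideal A}

theorem π_completion_tr (M : X.Modules) (n : ℕ) :
    modPowπ I (n + 1 + 1) M ≫ (completion I M).map (homOfLE (Nat.le_succ n)).op = modPowπ I (n + 1) M :=
  (congrArg (fun f => modPowπ I (n + 1 + 1) M ≫ f) (tr_completion I M n)).trans
    (modPowπ_trans I (n + 1) M)

theorem π_completion_map (M : X.Modules) {n m : ℕ} (h : n ≤ m) :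
    modPowπ I (m + 1) M ≫ (completion I M).map (homOfLE h).op = modPowπ I (n + 1) M :=
  comp_map_of_succ (K := completion I M) (fun n => modPowπ I (n + 1) M)
    (fun n => π_completion_tr M n) h

theorem killedBy_completion (M : X.Modules) (n : ℕ) :
    KilledBy (I ^ (n + 1)) ((completion I M).obj (op n)) :=
  Groth.Agent.Lib.FormalFn20.killedBy_modPow I (n + 1) M

section Sub

variable [IsLocallyNoetherian X] [CompactSpace X]

/-- Artin–Rees, existential form for a finitely generated ideal -/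
theorem exists_ar_sub (hI : I.FG) {N G : X.Modules} (j : N ⟶ G) [Mono j] (hN : N.IsQuasicoherent)
    (hG : Coh.IsCoh G) :
    ∃ c : ℕ, ∀ (n : ℕ) ⦃Z : X.Modules⦄ (g : N ⟶ Z), (∀ b ∈ I ^ n, smulMod A N b ≫ g = 0) →
      kernel.ι (j ≫ modPowπ I (c + n) G) ≫ g = 0 := by
  obtain ⟨r, a, hspan⟩ := Submodule.fg_iff_exists_fin_generating_family.mp hI
  have ha : ∀ i, a i ∈ I := fun i => by
    rw [← hspan]
    exact Submodule.subset_span ⟨i, rfl⟩
  exact ar_sub I a ha j hspan hN hG

/-- the completion of a coherent submodule is uniformly pro-isomorphic to the system of its levelwise images -/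
theorem isUProIso_completion_sub (hI : I.FG) {P G : X.Modules} (ι : P ⟶ G) [Mono ι]
    (hP : P.IsQuasicoherent) (hG : Coh.IsCoh G) {S : ℕᵒᵖ ⥤ X.Modules} (j : S ⟶ completion I G)
    (θ : completion I P ⟶ S) (hθ : θ ≫ j = complMap I ι) (t : ℕ)
    (hepi : ∀ n, t ≤ n → Epi (modPowπ I (n + 1) P ≫ θ.app (op n))) : IsUProIso θ := by
  obtain ⟨c, hc⟩ := exists_ar_sub hI ι hP hG
  obtain ⟨θc, hθc⟩ : ∃ θc : ∀ n, modPow I (n + 1) P ⟶ S.obj (op n), ∀ n, θc n = θ.app (op n) :=
    ⟨fun n => θ.app (op n), fun _ => rfl⟩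
  obtain ⟨jc, hjc⟩ : ∃ jc : ∀ n, S.obj (op n) ⟶ modPow I (n + 1) G, ∀ n, jc n = j.app (op n) :=
    ⟨fun n => j.app (op n), fun _ => rfl⟩
  have hθj : ∀ n, θc n ≫ jc n = modPowMap I (n + 1) ι := by
    intro n
    have h2 : θ.app (op n) ≫ j.app (op n) = (complMap I ι).app (op n) :=
      congrArg (fun φ => φ.app (op n)) hθ
    have h3 : θc n ≫ jc n = θ.app (op n) ≫ j.app (op n) := by
      rw [hθc n, hjc n]
      rfl
    exact h3.trans h2
  have key : ∀ n, kernel.ι (modPowπ I (c + t + n + 1) P ≫ θc (c + t + n)) ≫ modPowπ I (n + 1) P = 0 := by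
    intro n
    have h1 : (modPowπ I (c + t + n + 1) P ≫ θc (c + t + n)) ≫ jc (c + t + n) =
        ι ≫ modPowπ I (c + t + n + 1) G := by
      rw [Category.assoc, hθj, π_modPowMap]
    have h3 : kernel.ι (modPowπ I (c + t + n + 1) P ≫ θc (c + t + n)) ≫
        (ι ≫ modPowπ I (c + t + n + 1) G) = 0 := by
      rw [← h1, ← Category.assoc, kernel.condition, zero_comp]
    have h4 : ∀ m : ℕ, m = c + (t + n + 1) →
        kernel.ι (ι ≫ modPowπ I m G) ≫ modPowπ I (n + 1) P = 0 := by
      rintro m rfl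
      refine hc (t + n + 1) _ (fun b hb => ?_)
      exact (isCokerSmul_modPowπ I (n + 1) P).1 b (Ideal.pow_le_pow_right (by omega) hb)
    have h5 := h4 (c + t + n + 1) (by omega)
    rw [← kernel.lift_ι (ι ≫ modPowπ I (c + t + n + 1) G) _ h3, Category.assoc, h5, comp_zero]
  refine isUProIso_of_epi_family θ (fun n => modPowπ I (n + 1) P)
    (fun n => inferInstanceAs (Epi (modPowπ I (n + 1) P)))
    (fun n => π_completion_tr P n) (c + t) (fun n hn => hepi n (le_trans (Nat.le_add_left t c) hn))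
    (fun n => ?_)
  have conv : ∀ (θ' : modPow I (c + t + n + 1) P ⟶ S.obj (op (c + t + n))),
      θ' = θ.app (op (c + t + n)) →
      kernel.ι (modPowπ I (c + t + n + 1) P ≫ θ') ≫ modPowπ I (n + 1) P = 0 →
      kernel.ι (modPowπ I (c + t + n + 1) P ≫ θ.app (op (c + t + n))) ≫ modPowπ I (n + 1) P = 0 := by
    rintro θ' rfl h
    exact h
  exact conv _ (hθc _) (key n)

/-- for a monomorphism of coherent modules the kernels of the completed maps are pro-zero -/
theorem kernel_complMap_mono_shift (hI : I.FG) {B H : X.Modules} (m : B ⟶ H) [Mono m]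
    (hB : B.IsQuasicoherent) (hH : Coh.IsCoh H) :
    ∃ c : ℕ, ∀ n, kernel.ι ((complMap I m).app (op (c + n))) ≫
      (completion I B).map (homOfLE (Nat.le_add_left n c)).op = 0 := by
  obtain ⟨c, hc⟩ := exists_ar_sub hI m hB hH
  refine ⟨c, fun n => ?_⟩
  obtain ⟨trB, htrB⟩ : ∃ trB : modPow I (c + n + 1) B ⟶ modPow I (n + 1) B,
      trB = (completion I B).map (homOfLE (Nat.le_add_left n c)).op := ⟨_, rfl⟩
  have hπtr : modPowπ I (c + n + 1) B ≫ trB = modPowπ I (n + 1) B := by
    have := π_completion_map (I := I) B (Nat.le_add_left n c)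
    exact (congrArg (fun f => modPowπ I (c + n + 1) B ≫ f) htrB).trans this
  have key : kernel.ι (modPowMap I (c + n + 1) m) ≫ trB = 0 := by
    -- pull back along the projection
    haveI : Epi (pullback.snd (modPowπ I (c + n + 1) B) (kernel.ι (modPowMap I (c + n + 1) m))) :=
      Abelian.epi_pullback_of_epi_f _ _
    rw [← cancel_epi (pullback.snd (modPowπ I (c + n + 1) B) (kernel.ι (modPowMap I (c + n + 1) m))),
      comp_zero, ← Category.assoc, ← pullback.condition, Category.assoc, hπtr]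
    have h1 : pullback.fst (modPowπ I (c + n + 1) B) (kernel.ι (modPowMap I (c + n + 1) m)) ≫
        (m ≫ modPowπ I (c + n + 1) H) = 0 := by
      rw [← π_modPowMap I (c + n + 1) m, ← Category.assoc, pullback.condition, Category.assoc,
        kernel.condition, comp_zero]
    have h4 : ∀ m' : ℕ, m' = c + (n + 1) →
        kernel.ι (m ≫ modPowπ I m' H) ≫ modPowπ I (n + 1) B = 0 := by
      rintro m' rfl
      exact hc (n + 1) _ (fun b hb => (isCokerSmul_modPowπ I (n + 1) B).1 b hb)
    rw [← kernel.lift_ι (m ≫ modPowπ I (c + n + 1) H) _ h1, Category.assoc, h4 _ (by omega),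
      comp_zero]
  have conv : ∀ (t' : modPow I (c + n + 1) B ⟶ modPow I (n + 1) B),
      t' = (completion I B).map (homOfLE (Nat.le_add_left n c)).op →
      kernel.ι (modPowMap I (c + n + 1) m) ≫ t' = 0 →
      kernel.ι ((complMap I m).app (op (c + n))) ≫
        (completion I B).map (homOfLE (Nat.le_add_left n c)).op = 0 := by
    rintro t' rfl h
    exact h
  exact conv _ htrB key

end Sub

section RightExact

/-- right exactness of `M ↦ M/I^nM`: if `e` is a cokernel of `ι`, then `P ⟶ Ker(G/I^nG ⟶ B/I^nB)` is an epimorphism -/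
theorem epi_kernel_lift_modPow {P G B : X.Modules} (ι : P ⟶ G) (e : G ⟶ B) [Epi e]
    (hex : ∀ ⦃Z : X.Modules⦄ (g : G ⟶ Z), ι ≫ g = 0 → ∃ g' : B ⟶ Z, e ≫ g' = g) (n : ℕ)
    (t : P ⟶ kernel (modPowMap I n e))
    (ht : t ≫ kernel.ι (modPowMap I n e) = ι ≫ modPowπ I n G) : Epi t := by
  apply epi_of_comp_cokernel_eq_zero t (kernel.ι (modPowMap I n e))
  set z := cokernel.π (t ≫ kernel.ι (modPowMap I n e)) with hz
  have h1 : ι ≫ (modPowπ I n G ≫ z) = 0 := by
    rw [← Category.assoc, ← ht, hz, cokernel.condition]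
  obtain ⟨z₁, hz₁⟩ := hex _ h1
  have h2 : ∀ b ∈ I ^ n, smulMod A B b ≫ z₁ = 0 := by
    intro b hb
    rw [← cancel_epi e, comp_zero, ← Category.assoc, ← smulMod_naturality, Category.assoc, hz₁,
      ← Category.assoc, (isCokerSmul_modPowπ I n G).1 b hb, zero_comp]
  obtain ⟨z₂, hz₂⟩ := (isCokerSmul_modPowπ I n B).2.2 z₁ h2
  have h3 : z = modPowMap I n e ≫ z₂ := by
    rw [← cancel_epi (modPowπ I n G), π_modPowMap_assoc, hz₂, hz₁]
  rw [h3, ← Category.assoc, kernel.condition, zero_comp]

end RightExact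

section Exact

variable [IsLocallyNoetherian X] [CompactSpace X]

/-- **Exactness of the completion**: morphisms from a coherent formal module to `Ĝ` killed by `β̂` factor uniquely through
the completion of `Ker β`. -/
theorem existsUnique_lift_kernel (hI : I.FG) {G H : X.Modules} (hG : Coh.IsCoh G) (hH : Coh.IsCoh H)
    (β : G ⟶ H) {T : ℕᵒᵖ ⥤ X.Modules} (hT : IsCohFormal I T) (τ : T ⟶ completion I G)
    (hτ : τ ≫ complMap I β = 0) :
    ∃! l : T ⟶ completion I (kernel β), l ≫ complMap I (kernel.ι β) = τ := by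
  haveI : G.IsQuasicoherent := hG.1
  haveI : H.IsQuasicoherent := hH.1
  haveI : (cokernel β).IsQuasicoherent := Groth.Agent.Lib.H90OXModExact.isQuasicoherent_cokernel β
  have hBq : (Abelian.image β).IsQuasicoherent :=
    Groth.Agent.Lib.H90OXModExact.isQuasicoherent_kernel (cokernel.π β)
  have hPq : (kernel β).IsQuasicoherent := Groth.Agent.Lib.H90OXModExact.isQuasicoherent_kernel β
  obtain ⟨B, e, m, he, hm, hem, hBq⟩ : ∃ (B : X.Modules) (e : G ⟶ B) (m : B ⟶ H), Epi e ∧ Mono m ∧
      e ≫ m = β ∧ B.IsQuasicoherent :=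
    ⟨Abelian.image β, Abelian.factorThruImage β, Abelian.image.ι β, inferInstance, inferInstance,
      Abelian.image.fac β, hBq⟩
  haveI := he
  haveI := hm
  have hιe : kernel.ι β ≫ e = 0 := by
    rw [← cancel_mono m, Category.assoc, hem, kernel.condition, zero_comp]
  have hex : ∀ ⦃Z : X.Modules⦄ (g : G ⟶ Z), kernel.ι β ≫ g = 0 → ∃ g' : B ⟶ Z, e ≫ g' = g := by
    intro Z g hg
    refine exists_fac_of_epi e g ?_
    have h1 : kernel.ι e ≫ β = 0 := by rw [← hem, ← Category.assoc, kernel.condition, zero_comp]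
    rw [← kernel.lift_ι β (kernel.ι e) h1, Category.assoc, hg, comp_zero]
  -- step A
  have h0 : complMap I (kernel.ι β) ≫ complMap I e = 0 := by
    rw [← complMap_comp, hιe, complMap_zero]
  obtain ⟨θ, hθdef⟩ : ∃ θ, θ = kerLift (complMap I e) (complMap I (kernel.ι β)) h0 := ⟨_, rfl⟩
  have hθι : θ ≫ kerι (complMap I e) = complMap I (kernel.ι β) := by
    rw [hθdef]; exact kerLift_ι _ _ _
  have hθ : IsUProIso θ := by
    refine isUProIso_completion_sub hI (kernel.ι β) hPq hG (kerι (complMap I e)) θ hθι 0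
      (fun n _ => ?_)
    have conv : ∀ (θ' : modPow I (n + 1) (kernel β) ⟶ kernel (modPowMap I (n + 1) e)),
        θ' ≫ kernel.ι (modPowMap I (n + 1) e) = modPowMap I (n + 1) (kernel.ι β) →
        Epi (modPowπ I (n + 1) (kernel β) ≫ θ') := by
      intro θ' h
      refine epi_kernel_lift_modPow (kernel.ι β) e hex (n + 1) _ ?_
      rw [Category.assoc, h, π_modPowMap]
    exact conv (θ.app (op n)) (congrArg (fun φ => φ.app (op n)) hθι)
  -- step B
  obtain ⟨c, hc⟩ := kernel_complMap_mono_shift hI m hBq hH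
  have hβ' : complMap I β = complMap I e ≫ complMap I m := by rw [← complMap_comp, hem]
  have hj0 : kerι (complMap I e) ≫ complMap I β = 0 := by
    rw [hβ', ← Category.assoc, kerι_comp, zero_comp]
  obtain ⟨j₂, hj₂def⟩ : ∃ j₂, j₂ = kerLift (complMap I β) (kerι (complMap I e)) hj0 := ⟨_, rfl⟩
  have hj₂ι : j₂ ≫ kerι (complMap I β) = kerι (complMap I e) := by
    rw [hj₂def]; exact kerLift_ι _ _ _
  have hj₂n : ∀ n, j₂.app (op n) ≫ kernel.ι ((complMap I β).app (op n)) =
      kernel.ι ((complMap I e).app (op n)) := fun n => congrArg (fun φ => φ.app (op n)) hj₂ι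
  have hj₂ : IsUProIso j₂ := by
    refine isUProIso_of_mono j₂ (fun n => mono_of_mono_fac (hj₂n n)) c (fun n => ?_)
    have hz : (kernel.ι ((complMap I β).app (op (c + n))) ≫
        (completion I G).map (homOfLE (Nat.le_add_left n c)).op) ≫ (complMap I e).app (op n) = 0 := by
      rw [Category.assoc, (complMap I e).naturality, ← Category.assoc]
      have h1 : (kernel.ι ((complMap I β).app (op (c + n))) ≫ (complMap I e).app (op (c + n))) ≫
          (complMap I m).app (op (c + n)) = 0 := by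
        rw [Category.assoc, ← NatTrans.comp_app, ← hβ', kernel.condition]
      rw [← kernel.lift_ι ((complMap I m).app (op (c + n))) _ h1, Category.assoc, hc n, comp_zero]
    refine ⟨kernel.lift _ _ hz, ?_⟩
    rw [← cancel_mono (kernel.ι ((complMap I β).app (op n))), Category.assoc, hj₂n n, kernel.lift_ι]
    exact ((kerι (complMap I β)).naturality (homOfLE (Nat.le_add_left n c)).op).symm
  -- the two-step bijection
  have hτ₁ := hτ
  have hkk : ∀ n, KilledBy (I ^ (n + 1)) ((kerF (complMap I e)).obj (op n)) := fun n =>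
    Groth.Agent.Lib.FormalGr20.killedBy_kernel _ (killedBy_completion G n)
  obtain ⟨l₁, hl₁, hl₁u⟩ := hj₂.existsUnique_lift hT hkk (kerLift (complMap I β) τ hτ)
  obtain ⟨l, hl, hlu⟩ := hθ.existsUnique_lift hT (fun n => killedBy_completion (kernel β) n) l₁
  refine ⟨l, ?_, fun l' hl' => ?_⟩
  · change l ≫ complMap I (kernel.ι β) = τ
    rw [← hθι, ← Category.assoc, hl, ← hj₂ι, ← Category.assoc, hl₁, kerLift_ι]
  · change l' ≫ complMap I (kernel.ι β) = τ at hl'
    apply hlu
    change l' ≫ θ = l₁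
    apply hl₁u
    change (l' ≫ θ) ≫ j₂ = kerLift (complMap I β) τ hτ
    apply kerF_hom_ext (complMap I β)
    rw [Category.assoc, Category.assoc, hj₂ι, hθι, hl', kerLift_ι]

end Exact

end Groth.Agent.Lib.FormalExact20
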