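/-
helper20: "existence easy, left" (Stacks 0889-type statement S0829), **stage A**: the algebraic image.

`X` Noetherian over `Spec A`, `I` finitely generated, `G` coherent, `F` coherent formal, `α : F ⟶ Ĝ` with cokernels killed by `I^{t+1}`.
`exists_image_sub`: there are a coherent submodule `ι : P ↪ G` with `G/P` killed by `I^{t+1}` and a levelwise epimorphism
`ρ : F ⟶ P̂` with `ρ ≫ ι̂ = α`.
-/
import Groth.Agent.Lib.FormalExact20

set_option autoImplicit false
set_option linter.style.haveILetI false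
universe u

open CategoryTheory CategoryTheory.Limits AlgebraicGeometry Opposite

namespace Groth.Agent.Lib.FormalEasyLeftA20

open Formal Groth.Agent.Lib.FormalKerSys20 Groth.Agent.Lib.FormalCoker13 Groth.Agent.Lib.FormalARKer20
  Groth.Agent.Lib.FormalProIso20 Groth.Agent.Lib.FormalComplMap20 Groth.Agent.Lib.FormalExact20
  Groth.Agent.Lib.FormalKernel20

variable {A : Type u} [CommRing A] {X : Scheme.{u}} [X.Over (Spec (CommRingCat.of A))]
variable {I : Ideal A}

variable [IsLocallyNoetherian X] [CompactSpace X]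

theorem exists_image_sub (hI : I.FG) {G : X.Modules} (hG : Coh.IsCoh G) {F : ℕᵒᵖ ⥤ X.Modules}
    (hF : IsCohFormal I F) (α : F ⟶ completion I G) (t : ℕ)
    (hcok : ∀ n, KilledBy (I ^ (t + 1)) (cokernel (α.app (op n)))) :
    ∃ (P : X.Modules) (ι : P ⟶ G) (ρ : F ⟶ completion I P), Mono ι ∧ Coh.IsCoh P ∧
      KilledBy (I ^ (t + 1)) (cokernel ι) ∧ (∀ n, Epi (ρ.app (op n))) ∧ ρ ≫ complMap I ι = α := by
  haveI : G.IsQuasicoherent := hG.1
  have hcG := Groth.Agent.Lib.FormalGr20.isCohFormal_completion I hG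
  have hC := isCohFormal_cokF hF hcG α
  -- the maps `G ⟶ C_n`
  obtain ⟨cπ, hcπ⟩ : ∃ cπ : ∀ n, modPow I (n + 1) G ⟶ (cokF α).obj (op n),
      ∀ n, cπ n = (cokπ α).app (op n) := ⟨fun n => (cokπ α).app (op n), fun _ => rfl⟩
  obtain ⟨tG, htG⟩ : ∃ tG : ∀ {n m : ℕ} (_ : n ≤ m), modPow I (m + 1) G ⟶ modPow I (n + 1) G,
      ∀ {n m : ℕ} (h : n ≤ m), tG h = (completion I G).map (homOfLE h).op := ⟨fun h => _, fun _ => rfl⟩
  have hπt : ∀ {n m : ℕ} (h : n ≤ m), modPowπ I (m + 1) G ≫ tG h = modPowπ I (n + 1) G := fun h =>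
    (congrArg (fun f => modPowπ I _ G ≫ f) (htG h)).trans (π_completion_map G h)
  have hcnat : ∀ {n m : ℕ} (h : n ≤ m), cπ m ≫ (cokF α).map (homOfLE h).op = tG h ≫ cπ n := by
    intro n m h
    have h0 := ((cokπ α).naturality (homOfLE h).op).symm
    have conv : ∀ (a : modPow I (m + 1) G ⟶ (cokF α).obj (op m))
        (b : modPow I (m + 1) G ⟶ modPow I (n + 1) G) (c : modPow I (n + 1) G ⟶ (cokF α).obj (op n)),
        a = (cokπ α).app (op m) → b = (completion I G).map (homOfLE h).op → c = (cokπ α).app (op n) →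
        a ≫ (cokF α).map (homOfLE h).op = b ≫ c := by
      rintro a b c rfl rfl rfl
      exact h0
    exact conv _ _ _ (hcπ m) (htG h) (hcπ n)
  have hcepi : ∀ n, Epi (cπ n) := by
    intro n
    have conv : ∀ (a : modPow I (n + 1) G ⟶ (cokF α).obj (op n)), a = (cokπ α).app (op n) → Epi a := by
      rintro a rfl
      exact inferInstanceAs (Epi (cokernel.π (α.app (op n))))
    exact conv _ (hcπ n)
  obtain ⟨qn, hqn⟩ : ∃ qn : ∀ n, G ⟶ (cokF α).obj (op n),
      ∀ n, qn n = modPowπ I (n + 1) G ≫ cπ n := ⟨fun n => _, fun _ => rfl⟩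
  have hqnm : ∀ {n m : ℕ} (h : n ≤ m), qn m ≫ (cokF α).map (homOfLE h).op = qn n := by
    intro n m h
    rw [hqn m, hqn n, Category.assoc, hcnat h, ← Category.assoc, hπt h]
  have hCiso : ∀ n (hn : t ≤ n), IsIso ((cokF α).map (homOfLE hn).op) := by
    intro n hn
    exact (hC.isCokerSmul_tr hn).isIso_of_killedBy (hcok n)
  haveI hqe : ∀ n, Epi (qn n) := fun n => by
    rw [hqn n]
    haveI := hcepi n
    exact epi_comp _ _
  -- `P`
  have hιq : ∀ n, kernel.ι (qn t) ≫ qn n = 0 := by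
    intro n
    rcases le_total n t with h | h
    · rw [← hqnm h, ← Category.assoc, kernel.condition, zero_comp]
    · haveI := hCiso n h
      rw [← cancel_mono ((cokF α).map (homOfLE h).op), Category.assoc, hqnm h, kernel.condition,
        zero_comp]
  haveI : ((cokF α).obj (op t)).IsQuasicoherent := (hC.1 t).1
  have hP : Coh.IsCoh (kernel (qn t)) := Groth.Agent.Lib.H90OXModExact.isCoh_kernel (qn t) hG
  haveI hPq : (kernel (qn t)).IsQuasicoherent := hP.1
  -- the cokernel of `ι` is `C_t`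
  have hcokι : KilledBy (I ^ (t + 1)) (cokernel (kernel.ι (qn t))) := by
    intro b hb
    obtain ⟨w, hw⟩ := exists_fac_of_epi (qn t) (cokernel.π (kernel.ι (qn t))) (cokernel.condition _)
    rw [← cancel_epi (cokernel.π (kernel.ι (qn t))), comp_zero, ← smulMod_naturality, ← hw,
      ← Category.assoc, smulMod_naturality, Category.assoc, hcok t b hb, zero_comp, comp_zero]
  -- `θ`
  have h0 : complMap I (kernel.ι (qn t)) ≫ cokπ α = 0 := by
    apply NatTrans.ext
    funext n
    obtain ⟨n⟩ := n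
    have h1 : modPowMap I (n + 1) (kernel.ι (qn t)) ≫ cπ n = 0 := by
      rw [← cancel_epi (modPowπ I (n + 1) (kernel (qn t))), π_modPowMap_assoc, ← hqn n, hιq n, comp_zero]
    have conv : ∀ (c : modPow I (n + 1) G ⟶ (cokF α).obj (op n)), c = (cokπ α).app (op n) →
        modPowMap I (n + 1) (kernel.ι (qn t)) ≫ c = 0 →
        (complMap I (kernel.ι (qn t)) ≫ cokπ α).app (op n) = 0 := by
      rintro c rfl h
      exact h
    exact conv _ (hcπ n) h1
  obtain ⟨θ, hθdef⟩ : ∃ θ, θ = kerLift (cokπ α) (complMap I (kernel.ι (qn t))) h0 := ⟨_, rfl⟩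
  have hθι : θ ≫ kerι (cokπ α) = complMap I (kernel.ι (qn t)) := by
    rw [hθdef]; exact kerLift_ι _ _ _
  have hθ : IsUProIso θ := by
    refine isUProIso_completion_sub hI (kernel.ι (qn t)) hPq hG (kerι (cokπ α)) θ hθι t
      (fun n hn => ?_)
    -- `P ⟶ Ker(G/I^{n+1}G ⟶ C_n)` is an epimorphism for `n ≥ t`
    haveI := hCiso n hn
    have hθn : θ.app (op n) ≫ kernel.ι ((cokπ α).app (op n)) =
        (complMap I (kernel.ι (qn t))).app (op n) := congrArg (fun φ => φ.app (op n)) hθι
    have conv : ∀ (θ' : modPow I (n + 1) (kernel (qn t)) ⟶ kernel ((cokπ α).app (op n)))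
        (k : kernel ((cokπ α).app (op n)) ⟶ modPow I (n + 1) G) (_ : Mono k),
        k ≫ cπ n = 0 → θ' ≫ k = modPowMap I (n + 1) (kernel.ι (qn t)) →
        Epi (modPowπ I (n + 1) (kernel (qn t)) ≫ θ') := by
      intro θ' k _ hkq hθ'
      rw [epi_iff_surjective_up_to_refinements]
      intro T x
      obtain ⟨T₁, e₁, he₁, w, hw⟩ := surjective_up_to_refinements_of_epi (modPowπ I (n + 1) G) (x ≫ k)
      have hwq : w ≫ qn t = 0 := by
        have h5 : w ≫ qn n = 0 := by
          rw [hqn n, ← Category.assoc, ← hw, Category.assoc, Category.assoc, hkq, comp_zero, comp_zero]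
        rw [← hqnm hn, ← Category.assoc, h5, zero_comp]
      refine ⟨T₁, e₁, he₁, kernel.lift (qn t) w hwq, ?_⟩
      rw [← cancel_mono k, Category.assoc, Category.assoc, Category.assoc, hθ', π_modPowMap,
        kernel.lift_ι_assoc, hw]
    have hkq : ∀ (c : modPow I (n + 1) G ⟶ (cokF α).obj (op n)), c = (cokπ α).app (op n) →
        kernel.ι ((cokπ α).app (op n)) ≫ c = 0 := by
      rintro c rfl
      exact kernel.condition _
    have hmono : Mono (kernel.ι ((cokπ α).app (op n))) := inferInstance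
    exact conv (θ.app (op n)) (kernel.ι ((cokπ α).app (op n))) hmono (hkq _ (hcπ n)) hθn
  -- the lift of `α`
  obtain ⟨ρ, hρ, -⟩ := hθ.existsUnique_lift hF (fun n => killedBy_completion (kernel (qn t)) n)
    (kerLift (cokπ α) α (comp_cokπ α))
  have hρepi : ∀ n, Epi (ρ.app (op n)) := by
    have hcP := Groth.Agent.Lib.FormalGr20.isCohFormal_completion I hP
    refine IsUProIso.epi_lift (fun h => hcP.epi_tr h) hθ ρ (fun n => ?_)
    rw [hρ]
    infer_instance
  refine ⟨kernel (qn t), kernel.ι (qn t), ρ, inferInstance, hP, hcokι, hρepi, ?_⟩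
  rw [← hθι, ← Category.assoc, hρ, kerLift_ι]

end Groth.Agent.Lib.FormalEasyLeftA20
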