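/-
helper20: abstract diagram lemmas for the "existence easy" statements.

* `existsUnique_lift_of_isIso_kernel_map` (abelian categories): a commutative square whose horizontal maps `f' : A' ⟶ B'`, `f : A ⟶ B`
  have `f'` epi and isomorphic kernels (`kernel.map` iso) has the universal property of a pullback square.
* `isCokerSmul_of_pullback` : if `(M; p : M ⟶ F', s : M ⟶ P)` is jointly monic over `ρ' : F' ⟶ P'`, `π : P ⟶ P'` with `π` a cokernel of
  multiplication by `J`, `F'` killed by `J`, `p`, `s` epi, then `p` is a cokernel of multiplication by `J` on `M`.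
-/
import Groth.Agent.Lib.FormalCoker13
import Groth.Agent.Lib.FormalARKer20

set_option autoImplicit false
set_option linter.style.haveILetI false
universe u

open CategoryTheory CategoryTheory.Limits AlgebraicGeometry Opposite

namespace Groth.Agent.Lib.FormalPB20

open Formal Groth.Agent.Lib.FormalCoker13 Groth.Agent.Lib.FormalARKer20

section Abelian

variable {C : Type*} [Category C] [Abelian C]

/-- a square with epi top map and isomorphic horizontal kernels is a pullback square -/
theorem existsUnique_lift_of_isIso_kernel_map {A' B' A B : C} (f' : A' ⟶ B') (f : A ⟶ B) (a : A' ⟶ A)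
    (b : B' ⟶ B) (comm : f' ≫ b = a ≫ f) [Epi f'] [IsIso (kernel.map f' f a b comm)]
    {T : C} (x₁ : T ⟶ A) (x₂ : T ⟶ B') (hx : x₁ ≫ f = x₂ ≫ b) :
    ∃! x : T ⟶ A', x ≫ a = x₁ ∧ x ≫ f' = x₂ := by
  have hk : kernel.map f' f a b comm ≫ kernel.ι f = kernel.ι f' ≫ a := kernel.lift_ι _ _ _
  -- joint monicity
  have hmono : ∀ {T' : C} (z : T' ⟶ A'), z ≫ a = 0 → z ≫ f' = 0 → z = 0 := by
    intro T' z h1 h2
    have h3 : kernel.lift f' z h2 ≫ kernel.map f' f a b comm = 0 := by
      rw [← cancel_mono (kernel.ι f), Category.assoc, hk, kernel.lift_ι_assoc, h1, zero_comp]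
    have h4 : kernel.lift f' z h2 = 0 := by
      rw [← cancel_mono (kernel.map f' f a b comm), h3, zero_comp]
    rw [← kernel.lift_ι f' z h2, h4, zero_comp]
  -- existence up to refinements
  let u : A' ⟶ pullback f b := pullback.lift a f' comm.symm
  have hu1 : u ≫ pullback.fst f b = a := pullback.lift_fst _ _ _
  have hu2 : u ≫ pullback.snd f b = f' := pullback.lift_snd _ _ _
  haveI : Mono u := by
    rw [Preadditive.mono_iff_cancel_zero]
    intro T' z hz
    apply hmono z
    · rw [← hu1, ← Category.assoc, hz, zero_comp]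
    · rw [← hu2, ← Category.assoc, hz, zero_comp]
  haveI : Epi u := by
    rw [epi_iff_surjective_up_to_refinements]
    intro T' x
    obtain ⟨T₁, e₁, he₁, y, hy⟩ := surjective_up_to_refinements_of_epi f' (x ≫ pullback.snd f b)
    let d : T₁ ⟶ pullback f b := e₁ ≫ x - y ≫ u
    have hd2 : d ≫ pullback.snd f b = 0 := by
      rw [Preadditive.sub_comp, Category.assoc, Category.assoc, hu2, hy, sub_self]
    have hd1 : (d ≫ pullback.fst f b) ≫ f = 0 := by
      rw [Category.assoc, pullback.condition, ← Category.assoc, hd2, zero_comp]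
    let d'' : T₁ ⟶ kernel f' := kernel.lift f _ hd1 ≫ inv (kernel.map f' f a b comm)
    refine ⟨T₁, e₁, he₁, y + d'' ≫ kernel.ι f', ?_⟩
    have h5 : (d'' ≫ kernel.ι f') ≫ u = d := by
      apply pullback.hom_ext
      · rw [Category.assoc, hu1, Category.assoc, ← hk, Category.assoc, IsIso.inv_hom_id_assoc,
          kernel.lift_ι]
      · rw [Category.assoc, hu2, Category.assoc, kernel.condition, comp_zero, hd2]
    rw [Preadditive.add_comp, h5]
    simp only [d]
    abel
  haveI : IsIso u := isIso_of_mono_of_epi u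
  refine ⟨pullback.lift x₁ x₂ hx ≫ inv u, ⟨?_, ?_⟩, fun x' hx' => ?_⟩
  · rw [Category.assoc, ← hu1, IsIso.inv_hom_id_assoc, pullback.lift_fst]
  · rw [Category.assoc, ← hu2, IsIso.inv_hom_id_assoc, pullback.lift_snd]
  · rw [← sub_eq_zero]
    apply hmono
    · rw [Preadditive.sub_comp, hx'.1, Category.assoc, ← hu1, IsIso.inv_hom_id_assoc, pullback.lift_fst,
        sub_self]
    · rw [Preadditive.sub_comp, hx'.2, Category.assoc, ← hu2, IsIso.inv_hom_id_assoc, pullback.lift_snd,
        sub_self]

end Abelian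

variable {A : Type u} [CommRing A] {X : Scheme.{u}} [X.Over (Spec (CommRingCat.of A))]

theorem sigmaMap_smulFamily (J : Ideal A) {M N : X.Modules} (s : M ⟶ N) :
    Limits.Sigma.map (fun _ : J => s) ≫ smulFamily J N = smulFamily J M ≫ s := by
  apply Sigma.hom_ext
  intro b
  rw [← Category.assoc, Limits.Sigma.ι_map, Category.assoc, ι_smulFamily, ← Category.assoc, ι_smulFamily,
    smulMod_naturality]

/-- cokernels of multiplication by `J` pull back along maps from modules killed by `J` -/
theorem isCokerSmul_of_pullback (J : Ideal A) {M F' P P' : X.Modules} (p : M ⟶ F') (s : M ⟶ P)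
    (ρ' : F' ⟶ P') (π : P ⟶ P') (hπ : IsCokerSmul J π) (hF' : KilledBy J F') (comm : p ≫ ρ' = s ≫ π)
    [Epi p] [Epi s] (hmono : ∀ ⦃W : X.Modules⦄ (z : W ⟶ M), z ≫ p = 0 → z ≫ s = 0 → z = 0) :
    IsCokerSmul J p := by
  refine ⟨fun b hb => by rw [smulMod_naturality, hF' b hb, comp_zero], inferInstance, fun {Z} g hg => ?_⟩
  refine exists_fac_of_epi p g ?_
  -- `kernel.ι p ≫ s` lands in `J P`
  have h1 : (kernel.ι p ≫ s) ≫ π = 0 := by
    rw [Category.assoc, ← comm, ← Category.assoc, kernel.condition, zero_comp]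
  -- exactness of `∐ P ⟶ P ⟶ P'`
  have hex : (ShortComplex.mk (smulFamily J P) π ((smulFamily_comp_eq_zero_iff J π).2 hπ.1)).Exact := by
    obtain ⟨h0, hiso⟩ := (isCokerSmul_iff J π).1 hπ
    rw [ShortComplex.exact_iff_mono_cokernel_desc]
    dsimp
    infer_instance
  obtain ⟨W, e', he', y, hy⟩ := hex.exact_up_to_refinements (kernel.ι p ≫ s) h1
  dsimp at y hy
  obtain ⟨W', e'', he'', y', hy'⟩ :=
    surjective_up_to_refinements_of_epi (Limits.Sigma.map (fun _ : J => s)) y
  have hz : e'' ≫ e' ≫ kernel.ι p - y' ≫ smulFamily J M = 0 := by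
    apply hmono
    · rw [Preadditive.sub_comp, Category.assoc, Category.assoc, kernel.condition, comp_zero, comp_zero,
        Category.assoc, hF'.comp_eq_zero p, comp_zero, sub_self]
    · rw [Preadditive.sub_comp, Category.assoc, Category.assoc, Category.assoc, ← sigmaMap_smulFamily,
        ← Category.assoc y', ← hy', Category.assoc, ← hy, sub_self]
  rw [sub_eq_zero] at hz
  rw [← cancel_epi e', ← cancel_epi e'', comp_zero, comp_zero, ← Category.assoc, ← Category.assoc,
    Category.assoc e'', hz, Category.assoc, (smulFamily_comp_eq_zero_iff J g).2 hg, comp_zero]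

end Groth.Agent.Lib.FormalPB20
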