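/-
helper20: "existence easy, left" (statement S0829), **stage B**: algebraization of an extension of `P̂` by a torsion kernel.

`X` Noetherian over `Spec A`, `I` finitely generated, `P` coherent, `F` coherent formal, `ρ : F ⟶ P̂` levelwise epi with kernels killed by
`I^{t+1}`.  Then (`exists_of_levelwise_epi`) there are a coherent `M`, an epimorphism `s : M ⟶ P` with kernel killed by `I^{t+1}` and an
isomorphism `β : F ≅ M̂` under which `ρ` becomes `ŝ`.
-/
import Groth.Agent.Lib.FormalExact20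
import Groth.Agent.Lib.FormalPB20
import Groth.Agent.Lib.H90CohCenter
import Groth.Agent.Lib.H90QCohLimits

set_option autoImplicit false
set_option linter.style.haveILetI false
universe u

open CategoryTheory CategoryTheory.Limits AlgebraicGeometry Opposite

namespace Groth.Agent.Lib.FormalEasyLeftB20

open Formal Groth.Agent.Lib.FormalKerSys20 Groth.Agent.Lib.FormalCoker13 Groth.Agent.Lib.FormalARKer20
  Groth.Agent.Lib.FormalProIso20 Groth.Agent.Lib.FormalComplMap20 Groth.Agent.Lib.FormalExact20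
  Groth.Agent.Lib.FormalKernel20 Groth.Agent.Lib.FormalPB20 Groth.Agent.Lib.FormalAdic20
  Groth.Agent.Lib.FormalKerAdic20

variable {A : Type u} [CommRing A] {X : Scheme.{u}} [X.Over (Spec (CommRingCat.of A))]
variable {I : Ideal A} {F G : ℕᵒᵖ ⥤ X.Modules}

variable [IsLocallyNoetherian X] [CompactSpace X]

/-- Artin–Rees for the levelwise kernel of a levelwise epimorphism (existential form) -/
theorem exists_ar_kerF (hI : I.FG) (hF : IsCohFormal I F) (hG : IsCohFormal I G) (ρ : F ⟶ G)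
    (hρ : ∀ n, Epi (ρ.app (op n))) :
    ∃ c : ℕ, ∀ m, c ≤ m → ∀ ⦃Z : X.Modules⦄ (g : (kerF ρ).obj (op (m + 1)) ⟶ Z),
      (∀ b ∈ I ^ (m - c), smulMod A _ b ≫ g = 0) → kernel.ι (tr (kerF ρ) m) ≫ g = 0 := by
  obtain ⟨r, a, hspan⟩ := Submodule.fg_iff_exists_fin_generating_family.mp hI
  have ha : ∀ i, a i ∈ I := fun i => by
    rw [← hspan]
    exact Submodule.subset_span ⟨i, rfl⟩
  choose s hs using fun (i : Fin r) n => exists_sec hF (a i) (ha i) n
  have hK' := surjSys_kerF hF hG ρ hρ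
  choose s' hs' using fun (i : Fin r) n => hK'.exists_sec (a i) (ha i) n
  obtain ⟨c, hc⟩ := isFG_kSys_kerF hF hG ρ hρ a ha s hs s' hs' hspan
  exact ⟨c, fun m hm Z g hg => ar_of_isFGFrom hF hG ρ hρ a ha s' hs' hc m hm g hg⟩

/-- if the levelwise kernels are killed by a fixed power of `I`, their transition maps are eventually isomorphisms -/
theorem exists_isIso_tr_kerF (hI : I.FG) (hF : IsCohFormal I F) (hG : IsCohFormal I G) (ρ : F ⟶ G)
    (hρ : ∀ n, Epi (ρ.app (op n))) (t : ℕ)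
    (hk : ∀ n, KilledBy (I ^ (t + 1)) (kernel (ρ.app (op n)))) :
    ∃ n₀ : ℕ, ∀ m, n₀ ≤ m → IsIso (tr (kerF ρ) m) := by
  obtain ⟨c, hc⟩ := exists_ar_kerF hI hF hG ρ hρ
  refine ⟨c + (t + 1), fun m hm => ?_⟩
  haveI := epi_tr_kerF hF hG ρ hρ m
  haveI : Mono (tr (kerF ρ) m) := by
    apply Preadditive.mono_of_kernel_zero
    have := hc m (le_trans (Nat.le_add_right c (t + 1)) hm) (𝟙 _) (fun b hb => ?_)
    · rw [Category.comp_id] at this
      exact this
    · rw [Category.comp_id]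
      exact hk (m + 1) b (Ideal.pow_le_pow_right (by omega) hb)
  exact isIso_of_mono_of_epi _

/-- **algebraization of an extension of `P̂` by a torsion kernel** -/
theorem exists_of_levelwise_epi (hI : I.FG) {P : X.Modules} (hP : Coh.IsCoh P) (hF : IsCohFormal I F)
    (ρ : F ⟶ completion I P) (hρ : ∀ n, Epi (ρ.app (op n))) (t : ℕ)
    (hk : ∀ n, KilledBy (I ^ (t + 1)) (kernel (ρ.app (op n)))) :
    ∃ (M : X.Modules) (s : M ⟶ P) (β : F ≅ completion I M), Coh.IsCoh M ∧ Epi s ∧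
      KilledBy (I ^ (t + 1)) (kernel s) ∧
      ∀ n, modPowπ I (n + 1) M ≫ β.inv.app (op n) ≫ ρ.app (op n) = s ≫ modPowπ I (n + 1) P := by
  have hcP := Groth.Agent.Lib.FormalGr20.isCohFormal_completion I hP
  obtain ⟨n₀, hn₀⟩ := exists_isIso_tr_kerF hI hF hcP ρ hρ t hk
  haveI : P.IsQuasicoherent := hP.1
  -- opaque components
  obtain ⟨ρc, hρc⟩ : ∃ ρc : ∀ n, F.obj (op n) ⟶ modPow I (n + 1) P, ∀ n, ρc n = ρ.app (op n) :=
    ⟨fun n => ρ.app (op n), fun _ => rfl⟩
  obtain ⟨tP, htP⟩ : ∃ tP : ∀ {n m : ℕ} (_ : n ≤ m), modPow I (m + 1) P ⟶ modPow I (n + 1) P,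
      ∀ {n m : ℕ} (h : n ≤ m), tP h = (completion I P).map (homOfLE h).op := ⟨fun h => _, fun _ => rfl⟩
  have hπtP : ∀ {n m : ℕ} (h : n ≤ m), modPowπ I (m + 1) P ≫ tP h = modPowπ I (n + 1) P := fun h =>
    (congrArg (fun f => modPowπ I _ P ≫ f) (htP h)).trans (π_completion_map P h)
  have hρnat : ∀ {n m : ℕ} (h : n ≤ m), ρc m ≫ tP h = F.map (homOfLE h).op ≫ ρc n := by
    intro n m h
    have h0 := (ρ.naturality (homOfLE h).op).symm
    have conv : ∀ (a : F.obj (op m) ⟶ modPow I (m + 1) P) (b : modPow I (m + 1) P ⟶ modPow I (n + 1) P)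
        (c : F.obj (op n) ⟶ modPow I (n + 1) P), a = ρ.app (op m) →
        b = (completion I P).map (homOfLE h).op → c = ρ.app (op n) →
        a ≫ b = F.map (homOfLE h).op ≫ c := by
      rintro a b c rfl rfl rfl
      exact h0
    exact conv _ _ _ (hρc m) (htP h) (hρc n)
  have hρepi : ∀ n, Epi (ρc n) := fun n => by rw [hρc n]; exact hρ n
  have hkc : ∀ n, KilledBy (I ^ (t + 1)) (kernel (ρc n)) := fun n => by rw [hρc n]; exact hk n
  have hiso : ∀ m (hm : n₀ ≤ m), IsIso (kernel.map (ρc (m + 1)) (ρc m) (tr F m) (tP (Nat.le_succ m))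
      (hρnat (Nat.le_succ m))) := by
    intro m hm
    have conv : ∀ (a : F.obj (op (m + 1)) ⟶ modPow I (m + 1 + 1) P)
        (b : F.obj (op m) ⟶ modPow I (m + 1) P) (c : modPow I (m + 1 + 1) P ⟶ modPow I (m + 1) P)
        (comm : a ≫ c = tr F m ≫ b), a = ρ.app (op (m + 1)) → b = ρ.app (op m) →
        c = (completion I P).map (homOfLE (Nat.le_succ m)).op →
        IsIso (kernel.map a b (tr F m) c comm) := by
      rintro a b c comm rfl rfl rfl
      exact hn₀ m hm
    exact conv _ _ _ _ (hρc (m + 1)) (hρc m) (htP _)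
  -- the module `M`
  haveI : (F.obj (op n₀)).IsQuasicoherent := (hF.1 n₀).1
  haveI : (modPow I (n₀ + 1) P).IsQuasicoherent := (Groth.Agent.Lib.FormalGr20.isCoh_modPow I (n₀ + 1) hP).1
  haveI := hρepi n₀
  obtain ⟨M, fst, snd, cond, hMq, hext, hlift⟩ : ∃ (M : X.Modules) (fst : M ⟶ F.obj (op n₀))
      (snd : M ⟶ P), fst ≫ ρc n₀ = snd ≫ modPowπ I (n₀ + 1) P ∧ M.IsQuasicoherent ∧
      (∀ ⦃W : X.Modules⦄ (z : W ⟶ M), z ≫ fst = 0 → z ≫ snd = 0 → z = 0) ∧
      ∀ ⦃W : X.Modules⦄ (x₁ : W ⟶ F.obj (op n₀)) (x₂ : W ⟶ P),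
        x₁ ≫ ρc n₀ = x₂ ≫ modPowπ I (n₀ + 1) P → ∃ x : W ⟶ M, x ≫ fst = x₁ ∧ x ≫ snd = x₂ := by
    refine ⟨pullback (ρc n₀) (modPowπ I (n₀ + 1) P), pullback.fst _ _, pullback.snd _ _,
      pullback.condition, Groth.Agent.Lib.H90QCohLimits.isQuasicoherent_pullback _ _, ?_, ?_⟩
    · intro W z h1 h2
      apply pullback.hom_ext
      · rw [h1, zero_comp]
      · rw [h2, zero_comp]
    · intro W x₁ x₂ h
      exact ⟨pullback.lift x₁ x₂ h, pullback.lift_fst _ _ _, pullback.lift_snd _ _ _⟩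
  haveI hsnd : Epi snd := by
    rw [epi_iff_surjective_up_to_refinements]
    intro T x
    obtain ⟨T₁, e₁, he₁, w, hw⟩ := surjective_up_to_refinements_of_epi (ρc n₀) (x ≫ modPowπ I (n₀ + 1) P)
    obtain ⟨y, -, hy⟩ := hlift w (e₁ ≫ x) (by rw [← hw, Category.assoc])
    exact ⟨T₁, e₁, he₁, y, hy.symm⟩
  -- coherence
  have hMcoh : Coh.IsCoh M := by
    haveI : Mono (biprod.lift fst snd) := by
      rw [Preadditive.mono_iff_cancel_zero]
      intro W z hz
      apply hext
      · have := congrArg (fun f => f ≫ biprod.fst) hz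
        simpa using this
      · have := congrArg (fun f => f ≫ biprod.snd) hz
        simpa using this
    exact Groth.Agent.Lib.H90DevFilt.isCoh_of_mono (biprod.lift fst snd)
      (Groth.Agent.Lib.H90CohCenter.isCoh_biprod (hF.1 n₀) hP)
  -- joint monicity at the level `n₀ + k`
  have hmonok : ∀ k ⦃W : X.Modules⦄ (z : W ⟶ F.obj (op (n₀ + k))),
      z ≫ F.map (homOfLE (Nat.le_add_right n₀ k)).op = 0 → z ≫ ρc (n₀ + k) = 0 → z = 0 := by
    intro k
    induction k with
    | zero =>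
      intro W z h1 _
      exact (Category.comp_id z).symm.trans ((congrArg (fun f => z ≫ f) (F.map_id (op n₀)).symm).trans h1)
    | succ k ih =>
      intro W z h1 h2
      haveI := hρepi (n₀ + k + 1)
      haveI := hiso (n₀ + k) (Nat.le_add_right n₀ k)
      have h3 : z ≫ tr F (n₀ + k) = 0 := by
        apply ih
        · rw [Category.assoc, map_comp_map]
          exact h1
        · have h2' : z ≫ ρc (n₀ + k + 1) = 0 := h2
          rw [Category.assoc, ← hρnat (Nat.le_succ (n₀ + k)), ← Category.assoc]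
          exact (congrArg (fun f => f ≫ tP (Nat.le_succ (n₀ + k))) h2').trans zero_comp
      obtain ⟨x, -, hxu⟩ := existsUnique_lift_of_isIso_kernel_map (ρc (n₀ + k + 1)) (ρc (n₀ + k))
        (tr F (n₀ + k)) (tP (Nat.le_succ (n₀ + k))) (hρnat (Nat.le_succ (n₀ + k)))
        (0 : W ⟶ F.obj (op (n₀ + k))) (0 : W ⟶ modPow I (n₀ + k + 1 + 1) P) (by rw [zero_comp, zero_comp])
      rw [hxu z ⟨h3, h2⟩, hxu 0 ⟨zero_comp, zero_comp⟩]
  -- the maps `M ⟶ F_{n₀+k}`
  have hex : ∀ k, ∃ p : M ⟶ F.obj (op (n₀ + k)),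
      p ≫ F.map (homOfLE (Nat.le_add_right n₀ k)).op = fst ∧
        p ≫ ρc (n₀ + k) = snd ≫ modPowπ I (n₀ + k + 1) P := by
    intro k
    induction k with
    | zero =>
      refine ⟨fst, ?_, cond⟩
      exact (congrArg (fun f => fst ≫ f) (F.map_id (op n₀))).trans (Category.comp_id fst)
    | succ k ih =>
      obtain ⟨p, hp1, hp2⟩ := ih
      haveI := hρepi (n₀ + k + 1)
      haveI := hiso (n₀ + k) (Nat.le_add_right n₀ k)
      obtain ⟨x, ⟨hx1, hx2⟩, -⟩ := existsUnique_lift_of_isIso_kernel_map (ρc (n₀ + k + 1)) (ρc (n₀ + k))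
        (tr F (n₀ + k)) (tP (Nat.le_succ (n₀ + k))) (hρnat (Nat.le_succ (n₀ + k)))
        p (snd ≫ modPowπ I (n₀ + k + 1 + 1) P) (by rw [hp2, Category.assoc, hπtP])
      refine ⟨x, ?_, hx2⟩
      rw [← map_comp_map F (Nat.le_add_right n₀ k) (Nat.le_succ (n₀ + k)), ← Category.assoc]
      exact (congrArg (fun f => f ≫ F.map (homOfLE (Nat.le_add_right n₀ k)).op) hx1).trans hp1
  choose p hp1 hp2 using hex
  have hpc : ∀ k, p (k + 1) ≫ tr F (n₀ + k) = p k := by
    intro k
    rw [← sub_eq_zero]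
    apply hmonok k
    · rw [Preadditive.sub_comp, Category.assoc, map_comp_map, hp1 k]
      exact sub_eq_zero.mpr (hp1 (k + 1))
    · rw [Preadditive.sub_comp, Category.assoc, ← hρnat (Nat.le_succ (n₀ + k)), ← Category.assoc]
      have h5 : p (k + 1) ≫ ρc (n₀ + k + 1) = snd ≫ modPowπ I (n₀ + k + 1 + 1) P := hp2 (k + 1)
      rw [h5, Category.assoc, hπtP, hp2 k, sub_self]
  have hpepi : ∀ k, Epi (p k) := by
    intro k
    rw [epi_iff_surjective_up_to_refinements]
    intro T x₁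
    obtain ⟨T₁, e₁, he₁, x₂, hx₂⟩ :=
      surjective_up_to_refinements_of_epi (modPowπ I (n₀ + k + 1) P) (x₁ ≫ ρc (n₀ + k))
    obtain ⟨x, hx1, hx2⟩ := hlift (e₁ ≫ x₁ ≫ F.map (homOfLE (Nat.le_add_right n₀ k)).op) x₂ (by
      rw [Category.assoc, Category.assoc, ← hρnat (Nat.le_add_right n₀ k), ← Category.assoc x₁,
        ← Category.assoc e₁, hx₂, Category.assoc, hπtP])
    refine ⟨T₁, e₁, he₁, x, ?_⟩
    rw [← sub_eq_zero]
    apply hmonok k
    · rw [Preadditive.sub_comp, Category.assoc, Category.assoc, hp1 k, hx1, sub_self]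
    · rw [Preadditive.sub_comp, Category.assoc, Category.assoc, hp2 k, ← Category.assoc x, hx2, hx₂,
        sub_self]
  have hcs : ∀ k, IsCokerSmul (I ^ (n₀ + k + 1)) (p k) := by
    intro k
    haveI := hpepi k
    refine isCokerSmul_of_pullback (I ^ (n₀ + k + 1)) (p k) snd (ρc (n₀ + k))
      (modPowπ I (n₀ + k + 1) P) (isCokerSmul_modPowπ I (n₀ + k + 1) P) (hF.killedBy (n₀ + k)) (hp2 k)
      (fun W z h1 h2 => hext z ?_ h2)
    rw [← hp1 k, ← Category.assoc, h1, zero_comp]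
  -- the maps `M ⟶ F_n`
  have hq : ∀ n, IsCokerSmul (I ^ (n + 1)) (p n ≫ F.map (homOfLE (Nat.le_add_left n n₀)).op) := fun n =>
    IsCokerSmul.comp (Ideal.pow_le_pow_right (by omega)) (hcs n) (hF.isCokerSmul_tr (Nat.le_add_left n n₀))
  have hqc : ∀ n, (p (n + 1) ≫ F.map (homOfLE (Nat.le_add_left (n + 1) n₀)).op) ≫ tr F n =
      p n ≫ F.map (homOfLE (Nat.le_add_left n n₀)).op := by
    intro n
    rw [Category.assoc, map_comp_map, ← map_comp_map F (Nat.le_add_left n n₀) (Nat.le_succ (n₀ + n)),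
      ← Category.assoc]
    exact congrArg (fun f => f ≫ F.map (homOfLE (Nat.le_add_left n n₀)).op) (hpc n)
  obtain ⟨e, he⟩ := Groth.Agent.Lib.FormalFGRed20.exists_completion_iso_of_isCokerSmul I M F
    (fun n => p n ≫ F.map (homOfLE (Nat.le_add_left n n₀)).op) hq hqc
  refine ⟨M, snd, e.symm, hMcoh, hsnd, ?_, fun n => ?_⟩
  · -- the kernel of `snd`
    intro b hb
    rw [← cancel_mono (kernel.ι snd), zero_comp, smulMod_naturality]
    apply hext
    · rw [Category.assoc, smulMod_naturality]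
      have h1 : (kernel.ι snd ≫ fst) ≫ ρc n₀ = 0 := by
        rw [Category.assoc, cond, ← Category.assoc, kernel.condition, zero_comp]
      rw [← Category.assoc, ← kernel.lift_ι (ρc n₀) _ h1, Category.assoc, ← smulMod_naturality,
        hkc n₀ b hb, zero_comp, comp_zero]
    · rw [Category.assoc, smulMod_naturality, ← Category.assoc, kernel.condition, zero_comp]
  · -- compatibility
    have h1 : (p n ≫ F.map (homOfLE (Nat.le_add_left n n₀)).op) ≫ ρc n = snd ≫ modPowπ I (n + 1) P := by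
      rw [Category.assoc, ← hρnat (Nat.le_add_left n n₀), ← Category.assoc]
      have h5 : p n ≫ ρc (n₀ + n) = snd ≫ modPowπ I (n₀ + n + 1) P := hp2 n
      rw [h5, Category.assoc, hπtP]
    have conv : ∀ (a : modPow I (n + 1) M ⟶ F.obj (op n)) (b : F.obj (op n) ⟶ modPow I (n + 1) P),
        a = e.hom.app (op n) → b = ρ.app (op n) →
        modPowπ I (n + 1) M ≫ a = p n ≫ F.map (homOfLE (Nat.le_add_left n n₀)).op →
        modPowπ I (n + 1) M ≫ a ≫ b = snd ≫ modPowπ I (n + 1) P := by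
      rintro a b rfl hb h
      rw [← Category.assoc, h, hb, ← hρc n]
      exact h1
    exact conv (e.hom.app (op n)) (ρ.app (op n)) rfl rfl (he n)

end Groth.Agent.Lib.FormalEasyLeftB20
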