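/-
helper20: "existence easy, left" (statement S0829), **assembly** for finitely generated `I`.

`X` Noetherian over `Spec A`, `I` finitely generated, `G` coherent, `F` coherent formal, `α : F ⟶ Ĝ` with all kernels and cokernels
killed by `I^{t+1}`.  `exists_of_fg`: there are a coherent `M`, `a : M ⟶ G` with kernel and cokernel killed by `I^{t+1}` and an isomorphism
`β : F ≅ M̂` under which `α` becomes `â`.
-/
import Groth.Agent.Lib.FormalEasyLeftA20
import Groth.Agent.Lib.FormalEasyLeftB20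

set_option autoImplicit false
set_option linter.style.haveILetI false
universe u

open CategoryTheory CategoryTheory.Limits AlgebraicGeometry Opposite

namespace Groth.Agent.Lib.FormalEasyLeftC20

open Formal Groth.Agent.Lib.FormalComplMap20

variable {A : Type u} [CommRing A] {X : Scheme.{u}} [X.Over (Spec (CommRingCat.of A))]

theorem killedBy_of_mono (J : Ideal A) {K M : X.Modules} (k : K ⟶ M) [Mono k] (h : KilledBy J M) :
    KilledBy J K := by
  intro b hb
  rw [← cancel_mono k, zero_comp, smulMod_naturality, h b hb, comp_zero]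

theorem killedBy_of_epi (J : Ideal A) {M Q : X.Modules} (q : M ⟶ Q) [Epi q] (h : KilledBy J M) :
    KilledBy J Q := by
  intro b hb
  rw [← cancel_epi q, comp_zero, ← smulMod_naturality, h b hb, zero_comp]

/-- the kernel of `f ≫ g` with `g` mono is killed as soon as the kernel of `f` is -/
theorem killedBy_kernel_of_comp_eq (J : Ideal A) {M N N' : X.Modules} (f : M ⟶ N) (f' : M ⟶ N') (g : N' ⟶ N)
    (hfg : f' ≫ g = f) (h : KilledBy J (kernel f)) : KilledBy J (kernel f') := by
  have h0 : kernel.ι f' ≫ f = 0 := by rw [← hfg, ← Category.assoc, kernel.condition, zero_comp]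
  haveI : Mono (kernel.lift f (kernel.ι f') h0) := mono_of_mono_fac (kernel.lift_ι f _ h0)
  exact killedBy_of_mono J (kernel.lift f (kernel.ι f') h0) h

/-- the cokernel of `s ≫ ι` with `s` epi is killed as soon as the cokernel of `ι` is -/
theorem killedBy_cokernel_epi_comp (J : Ideal A) {M P G : X.Modules} (s : M ⟶ P) [Epi s] (ι : P ⟶ G)
    (h : KilledBy J (cokernel ι)) : KilledBy J (cokernel (s ≫ ι)) := by
  have h0 : ι ≫ cokernel.π (s ≫ ι) = 0 := by
    rw [← cancel_epi s, comp_zero, ← Category.assoc, cokernel.condition]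
  haveI : Epi (cokernel.desc ι (cokernel.π (s ≫ ι)) h0) := epi_of_epi_fac (cokernel.π_desc ι _ h0)
  exact killedBy_of_epi J (cokernel.desc ι (cokernel.π (s ≫ ι)) h0) h

/-- the kernel of `s ≫ ι` with `ι` mono is killed as soon as the kernel of `s` is -/
theorem killedBy_kernel_comp_mono (J : Ideal A) {M P G : X.Modules} (s : M ⟶ P) (ι : P ⟶ G) [Mono ι]
    (h : KilledBy J (kernel s)) : KilledBy J (kernel (s ≫ ι)) := by
  have h0 : kernel.ι (s ≫ ι) ≫ s = 0 := by
    rw [← cancel_mono ι, zero_comp, Category.assoc, kernel.condition]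
  haveI : Mono (kernel.lift s (kernel.ι (s ≫ ι)) h0) := mono_of_mono_fac (kernel.lift_ι s _ h0)
  exact killedBy_of_mono J (kernel.lift s (kernel.ι (s ≫ ι)) h0) h

/-- the cokernel of `f ≫ e` with `e` an isomorphism is killed as soon as the cokernel of `f` is -/
theorem killedBy_cokernel_comp_iso (J : Ideal A) {M N N' : X.Modules} (f : M ⟶ N) (e : N ⟶ N') [IsIso e]
    (h : KilledBy J (cokernel f)) : KilledBy J (cokernel (f ≫ e)) := by
  have h0 : f ≫ e ≫ cokernel.π (f ≫ e) = 0 := by
    rw [← Category.assoc, cokernel.condition]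
  haveI : Epi (cokernel.desc f (e ≫ cokernel.π (f ≫ e)) h0) := epi_of_epi_fac (cokernel.π_desc f _ h0)
  exact killedBy_of_epi J (cokernel.desc f (e ≫ cokernel.π (f ≫ e)) h0) h

variable {I : Ideal A} [IsLocallyNoetherian X] [CompactSpace X]

theorem exists_of_fg (hI : I.FG) {G : X.Modules} (hG : Coh.IsCoh G) {F : ℕᵒᵖ ⥤ X.Modules}
    (hF : IsCohFormal I F) (α : F ⟶ completion I G) (t : ℕ)
    (hα : ∀ n, KilledBy (I ^ (t + 1)) (kernel (α.app (op n))) ∧
      KilledBy (I ^ (t + 1)) (cokernel (α.app (op n)))) :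
    ∃ (M : X.Modules) (a : M ⟶ G) (β : F ≅ completion I M), Coh.IsCoh M ∧
      KilledBy (I ^ (t + 1)) (kernel a) ∧ KilledBy (I ^ (t + 1)) (cokernel a) ∧
      ∀ n, modPowπ I (n + 1) M ≫ β.inv.app (op n) ≫ α.app (op n) = a ≫ modPowπ I (n + 1) G := by
  obtain ⟨P, ι, ρ, hι, hP, hcokι, hρepi, hρα⟩ :=
    Groth.Agent.Lib.FormalEasyLeftA20.exists_image_sub hI hG hF α t (fun n => (hα n).2)
  have hαn : ∀ n, ρ.app (op n) ≫ (complMap I ι).app (op n) = α.app (op n) := fun n => by
    rw [← NatTrans.comp_app, hρα]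
  have hkρ : ∀ n, KilledBy (I ^ (t + 1)) (kernel (ρ.app (op n))) := fun n =>
    killedBy_kernel_of_comp_eq _ (α.app (op n)) (ρ.app (op n)) ((complMap I ι).app (op n)) (hαn n) (hα n).1
  obtain ⟨M, s, β, hM, hs, hks, hcompat⟩ :=
    Groth.Agent.Lib.FormalEasyLeftB20.exists_of_levelwise_epi hI hP hF ρ hρepi t hkρ
  refine ⟨M, s ≫ ι, β, hM, killedBy_kernel_comp_mono _ s ι hks, killedBy_cokernel_epi_comp _ s ι hcokι,
    fun n => ?_⟩
  have conv : ∀ (b : modPow I (n + 1) M ⟶ F.obj (op n)) (r : F.obj (op n) ⟶ modPow I (n + 1) P)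
      (c : modPow I (n + 1) P ⟶ modPow I (n + 1) G) (a : F.obj (op n) ⟶ modPow I (n + 1) G),
      r ≫ c = a → modPowπ I (n + 1) M ≫ b ≫ r = s ≫ modPowπ I (n + 1) P →
      modPowπ I (n + 1) P ≫ c = ι ≫ modPowπ I (n + 1) G →
      modPowπ I (n + 1) M ≫ b ≫ a = (s ≫ ι) ≫ modPowπ I (n + 1) G := by
    intro b r c a h1 h2 h3
    rw [← h1, ← Category.assoc b, ← Category.assoc, h2, Category.assoc, h3, Category.assoc]
  exact conv _ _ _ _ (hαn n) (hcompat n) (π_complMap I ι n)

end Groth.Agent.Lib.FormalEasyLeftC20
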