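import Mathlib

/-!
# Extensionality lemmas for morphisms of schemes (helper27)

* `hom_ext_of_forall_openImm`: morphisms agreeing on a covering family of open immersions are equal.
* `formal_ext`: morphisms `Spec Q ⟶ Z` landing in a common affine open and agreeing mod `v^(n+1)` for
  all `n` are equal when `Q` is `v`-adically separated.
* `epi_SpecMap_of_flat_of_surjective`: fpqc covers of affine schemes are epimorphisms.
-/

set_option autoImplicit false
universe u

open CategoryTheory CategoryTheory.Limits AlgebraicGeometry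

namespace Groth.Agent.Lib.FormalExt27

/-- Two morphisms agreeing on a family of open immersions covering the source are equal. -/
theorem hom_ext_of_forall_openImm {X Y : Scheme.{u}} (f g : X ⟶ Y)
    (H : ∀ x : X, ∃ (U : Scheme.{u}) (j : U ⟶ X), IsOpenImmersion j ∧ x ∈ Set.range j ∧
      j ≫ f = j ≫ g) : f = g := by
  apply Scheme.hom_ext_of_forall
  intro x
  obtain ⟨U, j, hj, hx, h⟩ := H x
  refine ⟨j.opensRange, hx, ?_⟩
  rw [← cancel_epi j.isoOpensRange.hom, Scheme.Hom.isoOpensRange_hom_ι_assoc,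
    Scheme.Hom.isoOpensRange_hom_ι_assoc, h]

/-- Two morphisms `Spec Q ⟶ Z` landing in a common affine open and agreeing modulo `v^(n+1)` for all
`n` are equal, if `Q` is `v`-adically separated. -/
theorem formal_ext {Q : Type u} [CommRing Q] (v : Q)
    (hsep : ∀ z : Q, (∀ n : ℕ, z ∈ Ideal.span {v ^ (n + 1)}) → z = 0)
    {Z : Scheme.{u}} (ℓ₁ ℓ₂ : Spec (CommRingCat.of Q) ⟶ Z) (Z₀ : Z.Opens) (hZ₀ : IsAffineOpen Z₀)
    (h₁ : Set.range ℓ₁ ⊆ Z₀) (h₂ : Set.range ℓ₂ ⊆ Z₀)
    (h : ∀ n : ℕ, Spec.map (CommRingCat.ofHom (Ideal.Quotient.mk (Ideal.span {v ^ (n + 1)}))) ≫ ℓ₁ =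
      Spec.map (CommRingCat.ofHom (Ideal.Quotient.mk (Ideal.span {v ^ (n + 1)}))) ≫ ℓ₂) :
    ℓ₁ = ℓ₂ := by
  have hr : Set.range Z₀.ι = (Z₀ : Set Z) := by simp
  let ℓ₁' : Spec (CommRingCat.of Q) ⟶ Z₀.toScheme := IsOpenImmersion.lift Z₀.ι ℓ₁ (by rw [hr]; exact h₁)
  let ℓ₂' : Spec (CommRingCat.of Q) ⟶ Z₀.toScheme := IsOpenImmersion.lift Z₀.ι ℓ₂ (by rw [hr]; exact h₂)
  have e₁ : ℓ₁' ≫ Z₀.ι = ℓ₁ := IsOpenImmersion.lift_fac _ _ _
  have e₂ : ℓ₂' ≫ Z₀.ι = ℓ₂ := IsOpenImmersion.lift_fac _ _ _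
  have h' : ∀ n : ℕ, Spec.map (CommRingCat.ofHom (Ideal.Quotient.mk (Ideal.span {v ^ (n + 1)}))) ≫ ℓ₁' =
      Spec.map (CommRingCat.ofHom (Ideal.Quotient.mk (Ideal.span {v ^ (n + 1)}))) ≫ ℓ₂' := by
    intro n
    rw [← cancel_mono Z₀.ι, Category.assoc, Category.assoc, e₁, e₂, h n]
  have : IsAffine Z₀.toScheme := hZ₀
  suffices hs : ℓ₁' = ℓ₂' by rw [← e₁, ← e₂, hs]
  apply ext_of_isAffine
  apply CommRingCat.hom_ext
  ext c
  have hinj : Function.Injective (Scheme.ΓSpecIso (CommRingCat.of Q)).hom :=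
    (ConcreteCategory.bijective_of_isIso (Scheme.ΓSpecIso (CommRingCat.of Q)).hom).1
  apply hinj
  rw [← sub_eq_zero]
  apply hsep
  intro n
  rw [← Ideal.Quotient.eq_zero_iff_mem, map_sub, sub_eq_zero]
  have hn := Scheme.ΓSpecIso_naturality (CommRingCat.ofHom (Ideal.Quotient.mk (Ideal.span {v ^ (n + 1)})))
  have k₁ := congrArg (fun k => k.hom (ℓ₁'.appTop c)) hn
  have k₂ := congrArg (fun k => k.hom (ℓ₂'.appTop c)) hn
  simp only [CommRingCat.hom_comp, RingHom.comp_apply, CommRingCat.hom_ofHom] at k₁ k₂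
  refine k₁.symm.trans (Eq.trans ?_ k₂)
  congr 1
  have := congrArg (fun k => k.appTop c) (h' n)
  simpa only [Scheme.Hom.comp_appTop, CommRingCat.comp_apply] using this

/-- `Spec` of a flat ring map that is surjective on spectra is an epimorphism of schemes. -/
theorem epi_SpecMap_of_flat_of_surjective {A A' : Type u} [CommRing A] [CommRing A'] (κ : A →+* A')
    (hf : κ.Flat) (hs : Function.Surjective (PrimeSpectrum.comap κ)) :
    Epi (Spec.map (CommRingCat.ofHom κ)) := by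
  have h1 : Flat (Spec.map (CommRingCat.ofHom κ)) := by
    rw [HasRingHomProperty.Spec_iff (P := @Flat)]
    exact hf
  have h2 : Surjective (Spec.map (CommRingCat.ofHom κ)) := by
    rw [surjective_iff]
    exact hs
  infer_instance

end Groth.Agent.Lib.FormalExt27
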