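/-
helper20: **full faithfulness of the completion functor when source or target is `I`-power torsion** (Stacks 0EHN-type; statement S0833).
-/
import Groth.Agent.Lib.FormalExact20

set_option autoImplicit false
set_option linter.style.haveILetI false
universe u

open CategoryTheory CategoryTheory.Limits AlgebraicGeometry Opposite

namespace Groth.Agent.Lib.FormalFFTors20

open Formal Groth.Agent.Lib.FormalKerSys20 Groth.Agent.Lib.FormalCoker13 Groth.Agent.Lib.FormalARKer20
  Groth.Agent.Lib.FormalProIso20 Groth.Agent.Lib.FormalComplMap20 Groth.Agent.Lib.FormalExact20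

variable {A : Type u} [CommRing A] {X : Scheme.{u}} [X.Over (Spec (CommRingCat.of A))]
variable {I : Ideal A}

/-- **target killed by a power of `I`** -/
theorem existsUnique_of_killedBy_target {F G : X.Modules} {c : ℕ} (hG : KilledBy (I ^ c) G)
    (ψ : completion I F ⟶ completion I G) :
    ∃! φ : F ⟶ G, ∀ n : ℕ, modPowπ I (n + 1) F ≫ ψ.app (op n) = φ ≫ modPowπ I (n + 1) G := by
  have hiso : ∀ n, c ≤ n → IsIso (modPowπ I (n + 1) G) := fun n hn =>
    (isCokerSmul_modPowπ I (n + 1) G).isIso_of_killedBy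
      (hG.mono (Ideal.pow_le_pow_right (le_trans hn (Nat.le_succ n))))
  obtain ⟨ψc, hψc⟩ : ∃ ψc : ∀ n, modPow I (n + 1) F ⟶ modPow I (n + 1) G, ∀ n, ψc n = ψ.app (op n) :=
    ⟨fun n => ψ.app (op n), fun _ => rfl⟩
  obtain ⟨tG, htG⟩ : ∃ tG : ∀ {n m : ℕ} (_ : n ≤ m), modPow I (m + 1) G ⟶ modPow I (n + 1) G,
      ∀ {n m : ℕ} (h : n ≤ m), tG h = (completion I G).map (homOfLE h).op := ⟨fun h => _, fun _ => rfl⟩
  obtain ⟨tF, htF⟩ : ∃ tF : ∀ {n m : ℕ} (_ : n ≤ m), modPow I (m + 1) F ⟶ modPow I (n + 1) F,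
      ∀ {n m : ℕ} (h : n ≤ m), tF h = (completion I F).map (homOfLE h).op := ⟨fun h => _, fun _ => rfl⟩
  have hπt : ∀ {n m : ℕ} (h : n ≤ m), modPowπ I (m + 1) G ≫ tG h = modPowπ I (n + 1) G := fun h =>
    (congrArg (fun f => modPowπ I _ G ≫ f) (htG h)).trans (π_completion_map G h)
  have hπtF : ∀ {n m : ℕ} (h : n ≤ m), modPowπ I (m + 1) F ≫ tF h = modPowπ I (n + 1) F := fun h =>
    (congrArg (fun f => modPowπ I _ F ≫ f) (htF h)).trans (π_completion_map F h)
  have hnat : ∀ {n m : ℕ} (h : n ≤ m), ψc m ≫ tG h = tF h ≫ ψc n := by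
    intro n m h
    have h0 := (ψ.naturality (homOfLE h).op).symm
    have conv : ∀ (a : modPow I (m + 1) F ⟶ modPow I (m + 1) G)
        (b : modPow I (m + 1) G ⟶ modPow I (n + 1) G) (a' : modPow I (m + 1) F ⟶ modPow I (n + 1) F)
        (b' : modPow I (n + 1) F ⟶ modPow I (n + 1) G), a = ψ.app (op m) →
        b = (completion I G).map (homOfLE h).op → a' = (completion I F).map (homOfLE h).op →
        b' = ψ.app (op n) → a ≫ b = a' ≫ b' := by
      rintro a b a' b' rfl rfl rfl rfl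
      exact h0
    exact conv _ _ _ _ (hψc m) (htG h) (htF h) (hψc n)
  have hx : ∀ {n m : ℕ} (h : n ≤ m),
      (modPowπ I (m + 1) F ≫ ψc m) ≫ tG h = modPowπ I (n + 1) F ≫ ψc n := by
    intro n m h
    rw [Category.assoc, hnat h, ← Category.assoc, hπtF h]
  haveI := hiso c (le_refl c)
  have key : ∀ φ : F ⟶ G, modPowπ I (c + 1) F ≫ ψc c = φ ≫ modPowπ I (c + 1) G →
      ∀ n, modPowπ I (n + 1) F ≫ ψc n = φ ≫ modPowπ I (n + 1) G := by
    intro φ hφ n
    -- first the case `m ≥ c`
    have h1 : ∀ m, c ≤ m → modPowπ I (m + 1) F ≫ ψc m = φ ≫ modPowπ I (m + 1) G := by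
      intro m hm
      haveI := hiso m hm
      haveI : IsIso (tG hm) := by
        have : tG hm = inv (modPowπ I (m + 1) G) ≫ modPowπ I (c + 1) G := by
          rw [← hπt hm, IsIso.inv_hom_id_assoc]
        rw [this]
        infer_instance
      rw [← cancel_mono (tG hm), hx hm, hφ, Category.assoc, hπt hm]
    rw [← hx (le_max_left n c), h1 _ (le_max_right n c), Category.assoc, hπt]
  have hconv : ∀ n, modPowπ I (n + 1) F ≫ ψc n = modPowπ I (n + 1) F ≫ ψ.app (op n) := fun n =>
    congrArg (fun f => modPowπ I (n + 1) F ≫ f) (hψc n)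
  refine ⟨(modPowπ I (c + 1) F ≫ ψc c) ≫ inv (modPowπ I (c + 1) G), fun n => ?_, fun φ' hφ' => ?_⟩
  · exact (hconv n).symm.trans (key ((modPowπ I (c + 1) F ≫ ψc c) ≫ inv (modPowπ I (c + 1) G))
      (by rw [Category.assoc, IsIso.inv_hom_id, Category.comp_id]) n)
  · have h1 : modPowπ I (c + 1) F ≫ ψc c = φ' ≫ modPowπ I (c + 1) G := (hconv c).trans (hφ' c)
    rw [h1, Category.assoc, IsIso.hom_inv_id, Category.comp_id]

theorem modPowMap_id (n : ℕ) (M : X.Modules) : modPowMap I n (𝟙 M) = 𝟙 _ := by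
  rw [← cancel_epi (modPowπ I n M), π_modPowMap, Category.id_comp, Category.comp_id]

theorem complMap_id (M : X.Modules) : complMap I (𝟙 M) = 𝟙 _ := by
  apply NatTrans.ext
  funext n
  obtain ⟨n⟩ := n
  exact modPowMap_id (n + 1) M

/-- the levels of the completion of a module killed by `b` are killed by `b` -/
theorem smulMod_completion_eq_zero {M : X.Modules} {b : A} (h : smulMod A M b = 0) (n : ℕ) :
    smulMod A ((completion I M).obj (op n)) b = 0 := by
  have h1 : modPowπ I (n + 1) M ≫ smulMod A (modPow I (n + 1) M) b = 0 := by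
    rw [← smulMod_naturality, h, zero_comp]
  have h2 : smulMod A (modPow I (n + 1) M) b = 0 := by
    rw [← cancel_epi (modPowπ I (n + 1) M), h1, comp_zero]
  exact h2

section Tors

variable [IsLocallyNoetherian X] [CompactSpace X]

/-- the iterated torsion submodule `G[b₁, …, b_s]` and the universal properties of it and of its completion -/
theorem exists_torsion_sub (hI : I.FG) {G : X.Modules} (hG : Coh.IsCoh G) (bs : List A) :
    ∃ (P : X.Modules) (ι : P ⟶ G), Coh.IsCoh P ∧ (∀ b ∈ bs, smulMod A P b = 0) ∧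
      (∀ ⦃M : X.Modules⦄ (f : M ⟶ G), (∀ b ∈ bs, smulMod A M b = 0) → ∃ f₀ : M ⟶ P, f₀ ≫ ι = f) ∧
      ∀ ⦃T : ℕᵒᵖ ⥤ X.Modules⦄, IsCohFormal I T → (∀ b ∈ bs, ∀ n, smulMod A (T.obj (op n)) b = 0) →
        ∀ τ : T ⟶ completion I G, ∃! l : T ⟶ completion I P, l ≫ complMap I ι = τ := by
  induction bs with
  | nil =>
    refine ⟨G, 𝟙 G, hG, fun b hb => absurd hb (List.not_mem_nil), fun M f _ => ⟨f, Category.comp_id f⟩,
      fun T _ _ τ => ⟨τ, ?_, fun l hl => ?_⟩⟩
    · change τ ≫ complMap I (𝟙 G) = τ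
      rw [complMap_id, Category.comp_id]
    · change l ≫ complMap I (𝟙 G) = τ at hl
      rw [complMap_id, Category.comp_id] at hl
      exact hl
  | cons b bs ih =>
    obtain ⟨P, ι, hP, hkill, hlift, huniv⟩ := ih
    haveI : P.IsQuasicoherent := hP.1
    have hP' : Coh.IsCoh (kernel (smulMod A P b)) :=
      Groth.Agent.Lib.H90OXModExact.isCoh_kernel (smulMod A P b) hP
    have hkill' : ∀ b' ∈ b :: bs, smulMod A (kernel (smulMod A P b)) b' = 0 := by
      intro b' hb'
      rw [← cancel_mono (kernel.ι (smulMod A P b)), zero_comp, smulMod_naturality]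
      rcases List.mem_cons.mp hb' with rfl | hb'
      · exact kernel.condition _
      · rw [hkill b' hb', comp_zero]
    refine ⟨kernel (smulMod A P b), kernel.ι (smulMod A P b) ≫ ι, hP', hkill', fun M f hM => ?_,
      fun T hT hTk τ => ?_⟩
    · obtain ⟨f₀, hf₀⟩ := hlift f (fun b' hb' => hM b' (List.mem_cons_of_mem b hb'))
      have hz : f₀ ≫ smulMod A P b = 0 := by
        rw [← smulMod_naturality, hM b List.mem_cons_self, zero_comp]
      exact ⟨kernel.lift _ f₀ hz, by rw [← Category.assoc, kernel.lift_ι, hf₀]⟩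
    · obtain ⟨l₀, hl₀, hl₀u⟩ := huniv hT (fun b' hb' => hTk b' (List.mem_cons_of_mem b hb')) τ
      change l₀ ≫ complMap I ι = τ at hl₀
      have hz : l₀ ≫ complMap I (smulMod A P b) = 0 := by
        apply NatTrans.ext
        funext n
        obtain ⟨n⟩ := n
        change l₀.app (op n) ≫ (complMap I (smulMod A P b)).app (op n) = 0
        rw [complMap_smulMod, ← smulMod_naturality, hTk b List.mem_cons_self n, zero_comp]
      obtain ⟨l, hl, hlu⟩ := existsUnique_lift_kernel hI hP hP (smulMod A P b) hT l₀ hz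
      change l ≫ complMap I (kernel.ι (smulMod A P b)) = l₀ at hl
      refine ⟨l, ?_, fun l' hl' => ?_⟩
      · change l ≫ complMap I (kernel.ι (smulMod A P b) ≫ ι) = τ
        rw [complMap_comp, ← Category.assoc, hl, hl₀]
      · change l' ≫ complMap I (kernel.ι (smulMod A P b) ≫ ι) = τ at hl'
        rw [complMap_comp, ← Category.assoc] at hl'
        exact hlu l' (hl₀u _ hl')

omit [IsLocallyNoetherian X] [CompactSpace X] in
/-- a module killed by generators of an ideal is killed by the ideal -/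
theorem killedBy_of_span {M : X.Modules} {S : Set A} (h : ∀ b ∈ S, smulMod A M b = 0) :
    KilledBy (Ideal.span S) M := by
  intro x hx
  induction hx using Submodule.span_induction with
  | mem x hx => exact h x hx
  | zero => exact FormalKerSys20.smulMod_zero M
  | add x y _ _ hx hy => rw [FormalKerSys20.smulMod_add, hx, hy, add_zero]
  | smul k x _ hx => rw [smul_eq_mul, CohIII.smulMod_mul, hx, zero_comp]

/-- **source killed by a power of `I`** -/
theorem existsUnique_of_killedBy_source (hI : I.FG) {F G : X.Modules} (hF : Coh.IsCoh F)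
    (hG : Coh.IsCoh G) {c : ℕ} (hFk : KilledBy (I ^ c) F) (ψ : completion I F ⟶ completion I G) :
    ∃! φ : F ⟶ G, ∀ n : ℕ, modPowπ I (n + 1) F ≫ ψ.app (op n) = φ ≫ modPowπ I (n + 1) G := by
  classical
  obtain ⟨S, hS⟩ := Ideal.FG.pow (n := c) hI
  obtain ⟨P, ι, hP, hkill, hlift, huniv⟩ := exists_torsion_sub hI hG S.toList
  have hSmem : ∀ b ∈ S.toList, b ∈ I ^ c := fun b hb => by
    rw [← hS]
    exact Ideal.subset_span (Finset.mem_toList.mp hb)
  have hPk : KilledBy (I ^ c) P := by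
    rw [← hS]
    exact killedBy_of_span (fun b hb => hkill b (Finset.mem_toList.mpr hb))
  have hTk : ∀ b ∈ S.toList, ∀ n, smulMod A ((completion I F).obj (op n)) b = 0 := fun b hb n =>
    smulMod_completion_eq_zero (hFk b (hSmem b hb)) n
  have hcF := Groth.Agent.Lib.FormalGr20.isCohFormal_completion I hF
  obtain ⟨l, hl, hlu⟩ := huniv hcF hTk ψ
  change l ≫ complMap I ι = ψ at hl
  obtain ⟨φ₀, hφ₀, hφ₀u⟩ := existsUnique_of_killedBy_target hPk l
  have hφ₀' : ∀ n : ℕ, modPowπ I (n + 1) F ≫ l.app (op n) = φ₀ ≫ modPowπ I (n + 1) P := hφ₀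
  have hιn : ∀ n, l.app (op n) ≫ (complMap I ι).app (op n) = ψ.app (op n) := fun n =>
    congrArg (fun f => f.app (op n)) hl
  refine ⟨φ₀ ≫ ι, fun n => ?_, fun φ' hφ' => ?_⟩
  · obtain ⟨lc, hlc⟩ : ∃ lc : modPow I (n + 1) F ⟶ modPow I (n + 1) P, lc = l.app (op n) := ⟨_, rfl⟩
    obtain ⟨ψc, hψc⟩ : ∃ ψc : modPow I (n + 1) F ⟶ modPow I (n + 1) G, ψc = ψ.app (op n) := ⟨_, rfl⟩
    have h1 : lc ≫ modPowMap I (n + 1) ι = ψc := by
      have conv : ∀ (a : modPow I (n + 1) F ⟶ modPow I (n + 1) P)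
          (b : modPow I (n + 1) F ⟶ modPow I (n + 1) G), a = l.app (op n) → b = ψ.app (op n) →
          a ≫ modPowMap I (n + 1) ι = b := by
        rintro a b rfl rfl
        exact hιn n
      exact conv _ _ hlc hψc
    have h2 : modPowπ I (n + 1) F ≫ lc = φ₀ ≫ modPowπ I (n + 1) P :=
      (congrArg (fun f => modPowπ I (n + 1) F ≫ f) hlc).trans (hφ₀' n)
    have h3 : modPowπ I (n + 1) F ≫ ψc = (φ₀ ≫ ι) ≫ modPowπ I (n + 1) G := by
      rw [← h1, ← Category.assoc, h2, Category.assoc, π_modPowMap, Category.assoc]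
    exact (congrArg (fun f => modPowπ I (n + 1) F ≫ f) hψc).symm.trans h3
  · have hφ'n : ∀ n : ℕ, modPowπ I (n + 1) F ≫ ψ.app (op n) = φ' ≫ modPowπ I (n + 1) G := hφ'
    obtain ⟨f₀, hf₀⟩ := hlift φ' (fun b hb => hFk b (hSmem b hb))
    have h1 : complMap I f₀ ≫ complMap I ι = ψ := by
      rw [← complMap_comp, hf₀]
      apply compl_hom_ext
      intro n
      rw [π_complMap, hφ'n n]
    have h2 : complMap I f₀ = l := hlu _ h1
    have h3 : f₀ = φ₀ := by
      apply hφ₀u
      intro n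
      rw [← h2, π_complMap]
    rw [← hf₀, h3]

end Tors

end Groth.Agent.Lib.FormalFFTors20
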