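import Mathlib.RingTheory.Filtration
import Mathlib.RingTheory.Finiteness.Basic
import Mathlib.RingTheory.Noetherian.Basic
import Mathlib.LinearAlgebra.Span.Basic
import Mathlib.LinearAlgebra.Finsupp.LinearCombination

/-!
# A graded Artin–Rees lemma, in "flexible index" form (helper48; pure algebra, Mathlib only)

`Data I H`: a family of `A`-modules `H n` (think `H n = H^p(X, I^n F)`) with multiplication maps
`m k n a : H k →ₗ[A] H n` which are meaningful for `a ∈ I^r`, `n ≤ k + r` (think: multiplication by `a` followed by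
the map induced by the inclusion `I^{k+r}F ⊆ I^nF`; `m k n 1` is the transition map for `n ≤ k`), and a family of
submodules `Q n ⊆ H n` stable under these maps, with `I^k · Q k = 0` (think: `Q n = ker (H^p(I^nF) → H^p(F))`).

`Data.exists_stable`: if `A` is Noetherian, `H K` is a finite `A`-module and `H (K+r) = Σ_{a ∈ I^r} m_a (H K)` for
all `r` (the conclusion of EGA III 3.3.2), then there is `c` such that for all `n ≥ c` the transition map
`H n → H (n - c)` kills `Q n` (EGA III 4.1.5-type "essentially zero" statement).  Proof: the preimages of the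
`Q (K+r)` in `(I^r)^t ⊆ A^t` form an `I`-filtration of `A^t` below the `I`-adic one, hence stable (Mathlib's
Artin–Rees, `Ideal.Filtration.Stable.of_le`).
-/

set_option autoImplicit false
universe u v

namespace Groth.Agent.Lib.GradedAR48

variable {A : Type u} [CommRing A] (I : Ideal A)
  (H : ℕ → Type v) [∀ n, AddCommGroup (H n)] [∀ n, Module A (H n)]

/-- A "graded module over the Rees algebra of `I`" with a compatible family of submodules killed by the
powers of `I`, in flexible-index form. -/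
structure Data where
  m : ∀ (k n : ℕ) (_ : A), H k →ₗ[A] H n
  m_add : ∀ {r k n : ℕ} {a b : A}, a ∈ I ^ r → b ∈ I ^ r → n ≤ k + r →
    m k n (a + b) = m k n a + m k n b
  m_smul : ∀ {r k n : ℕ} (c : A) {a : A}, a ∈ I ^ r → n ≤ k + r → m k n (c * a) = c • m k n a
  m_comp : ∀ {r s k n l : ℕ} {a b : A}, a ∈ I ^ r → b ∈ I ^ s → n ≤ k + r → l ≤ n + s →
    ∀ x, m n l b (m k n a x) = m k l (b * a) x
  m_self : ∀ {r k : ℕ} {a : A}, a ∈ I ^ r → ∀ x, m k k a x = a • x
  Q : ∀ n, Submodule A (H n)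
  Q_m : ∀ {r k n : ℕ} {a : A}, a ∈ I ^ r → n ≤ k + r → ∀ x ∈ Q k, m k n a x ∈ Q n
  Q_kill : ∀ {k : ℕ} {a : A}, a ∈ I ^ k → ∀ x ∈ Q k, a • x = 0

variable {I H}

theorem Data.m_zero (D : Data I H) (k n : ℕ) : D.m k n 0 = 0 := by
  have h := D.m_smul (r := n) (k := k) (n := n) (0 : A) (a := 0) (Ideal.zero_mem _) (by omega)
  rwa [zero_mul, zero_smul] at h

theorem one_mem_pow_zero : (1 : A) ∈ I ^ 0 := by
  rw [pow_zero, Ideal.one_eq_top]; trivial

set_option maxHeartbeats 800000 in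
theorem Data.exists_stable [IsNoetherianRing A] (D : Data I H) (K : ℕ) [Module.Finite A (H K)]
    (gen : ∀ r, (⨆ a : ↥(I ^ r), LinearMap.range (D.m K (K + r) a)) = ⊤) :
    ∃ c, ∀ n, c ≤ n → ∀ y ∈ D.Q n, D.m n (n - c) 1 y = 0 := by
  classical
  obtain ⟨t, x, hx⟩ := Module.Finite.exists_fin (R := A) (M := H K)
  let Ψ : ∀ r, (Fin t → A) → H (K + r) := fun r v => ∑ l, D.m K (K + r) (v l) (x l)
  have Ψ_def : ∀ r v, Ψ r v = ∑ l, D.m K (K + r) (v l) (x l) := fun _ _ => rfl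
  have Ψ_add : ∀ r v w, (∀ l, v l ∈ I ^ r) → (∀ l, w l ∈ I ^ r) →
      Ψ r (v + w) = Ψ r v + Ψ r w := by
    intro r v w hv hw
    rw [Ψ_def, Ψ_def, Ψ_def, ← Finset.sum_add_distrib]
    refine Finset.sum_congr rfl fun l _ => ?_
    rw [Pi.add_apply, D.m_add (hv l) (hw l) le_rfl, LinearMap.add_apply]
  have Ψ_smul : ∀ r (c : A) v, (∀ l, v l ∈ I ^ r) → Ψ r (c • v) = c • Ψ r v := by
    intro r c v hv
    rw [Ψ_def, Ψ_def, Finset.smul_sum]
    refine Finset.sum_congr rfl fun l _ => ?_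
    rw [Pi.smul_apply, smul_eq_mul, D.m_smul c (hv l) le_rfl, LinearMap.smul_apply]
  have Ψ_zero : ∀ r, Ψ r 0 = 0 := by
    intro r
    rw [Ψ_def]
    refine Finset.sum_eq_zero fun l _ => ?_
    rw [Pi.zero_apply, D.m_zero, LinearMap.zero_apply]
  let N : ℕ → Submodule A (Fin t → A) := fun r =>
    { carrier := {v | (∀ l, v l ∈ I ^ r) ∧ Ψ r v ∈ D.Q (K + r)}
      add_mem' := by
        rintro v w ⟨hv, hv'⟩ ⟨hw, hw'⟩
        exact ⟨fun l => Ideal.add_mem _ (hv l) (hw l), by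
          rw [Ψ_add r _ _ hv hw]; exact add_mem hv' hw'⟩
      zero_mem' := ⟨fun l => Ideal.zero_mem _, by rw [Ψ_zero]; exact zero_mem _⟩
      smul_mem' := by
        rintro c v ⟨hv, hv'⟩
        exact ⟨fun l => Ideal.mul_mem_left _ c (hv l), by
          rw [Ψ_smul r c v hv]; exact Submodule.smul_mem _ c hv'⟩ }
  have N_mem : ∀ r v, v ∈ N r ↔ (∀ l, v l ∈ I ^ r) ∧ Ψ r v ∈ D.Q (K + r) := fun _ _ => Iff.rfl
  let F' : I.Filtration (Fin t → A) :=
    { N := N
      mono := by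
        intro r v hv
        rw [N_mem] at hv ⊢
        obtain ⟨hv, hv'⟩ := hv
        have hv1 : ∀ l, v l ∈ I ^ r := fun l => Ideal.pow_le_pow_right (Nat.le_succ r) (hv l)
        refine ⟨hv1, ?_⟩
        have e : Ψ r v = D.m (K + (r + 1)) (K + r) 1 (Ψ (r + 1) v) := by
          rw [Ψ_def, Ψ_def, map_sum]
          refine Finset.sum_congr rfl fun l _ => ?_
          rw [D.m_comp (hv l) one_mem_pow_zero le_rfl (by omega), one_mul]
        rw [e]
        exact D.Q_m one_mem_pow_zero (by omega) _ hv'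
      smul_le := by
        intro r
        rw [Submodule.smul_le]
        intro a ha v hv
        rw [N_mem] at hv ⊢
        obtain ⟨hv, hv'⟩ := hv
        have ha1 : a ∈ I ^ 1 := by rwa [pow_one]
        have hav : ∀ l, (a • v) l ∈ I ^ (r + 1) := fun l => by
          have h1 : v l * a ∈ I ^ r * I := Ideal.mul_mem_mul (hv l) ha
          rw [Pi.smul_apply, smul_eq_mul, pow_succ, mul_comm a]
          exact h1
        refine ⟨hav, ?_⟩
        have e : Ψ (r + 1) (a • v) = D.m (K + r) (K + (r + 1)) a (Ψ r v) := by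
          rw [Ψ_def, Ψ_def, map_sum]
          refine Finset.sum_congr rfl fun l _ => ?_
          rw [D.m_comp (hv l) ha1 le_rfl (by omega), Pi.smul_apply, smul_eq_mul]
        rw [e]
        exact D.Q_m ha1 (by omega) _ hv' }
  have hle : F' ≤ I.stableFiltration (⊤ : Submodule A (Fin t → A)) := by
    intro r v hv
    change v ∈ I ^ r • (⊤ : Submodule A (Fin t → A))
    have hv1 : ∀ l, v l ∈ I ^ r := ((N_mem r v).mp hv).1
    have e : v = ∑ l, v l • (Pi.single l (1 : A) : Fin t → A) := by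
      funext j
      rw [Finset.sum_apply]
      simp [Pi.single_apply]
    rw [e]
    exact Submodule.sum_mem _ fun l _ => Submodule.smul_mem_smul (hv1 l) Submodule.mem_top
  have hst : F'.Stable := (I.stableFiltration_stable ⊤).of_le hle
  obtain ⟨n₀, hn₀⟩ := hst.exists_pow_smul_eq_of_ge
  -- step 8
  have claim8 : ∀ r, n₀ ≤ r → ∀ y ∈ D.Q (K + r),
      y ∈ ⨆ b : ↥(I ^ (r - n₀)), (D.Q (K + n₀)).map (D.m (K + n₀) (K + r) b) := by
    intro r hr y hy
    have hyv : ∃ v, (∀ l, v l ∈ I ^ r) ∧ Ψ r v = y := by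
      have hyt : y ∈ ⨆ a : ↥(I ^ r), LinearMap.range (D.m K (K + r) a) := by
        rw [gen r]; trivial
      refine Submodule.iSup_induction _
        (motive := fun y => ∃ v, (∀ l, v l ∈ I ^ r) ∧ Ψ r v = y) hyt ?_ ?_ ?_
      · rintro a _ ⟨z, rfl⟩
        obtain ⟨c, rfl⟩ : ∃ c : Fin t → A, ∑ l, c l • x l = z := by
          have hz : z ∈ Submodule.span A (Set.range x) := by rw [hx]; trivial
          exact (Submodule.mem_span_range_iff_exists_fun A).mp hz
        refine ⟨fun l => c l * a, fun l => Ideal.mul_mem_left _ _ a.2, ?_⟩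
        rw [Ψ_def, map_sum]
        refine Finset.sum_congr rfl fun l _ => ?_
        rw [D.m_smul (c l) a.2 le_rfl, LinearMap.smul_apply, map_smul]
      · exact ⟨0, fun l => Ideal.zero_mem _, Ψ_zero r⟩
      · rintro _ _ ⟨v, hv, rfl⟩ ⟨w, hw, rfl⟩
        exact ⟨v + w, fun l => Ideal.add_mem _ (hv l) (hw l), Ψ_add r v w hv hw⟩
    obtain ⟨v, hv, rfl⟩ := hyv
    have hvN : v ∈ F'.N r := (N_mem r v).mpr ⟨hv, hy⟩
    rw [hn₀ r hr] at hvN
    refine (Submodule.smul_induction_on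
      (p := fun v => (∀ l, v l ∈ I ^ r) ∧
        Ψ r v ∈ ⨆ b : ↥(I ^ (r - n₀)), (D.Q (K + n₀)).map (D.m (K + n₀) (K + r) b)) hvN ?_ ?_).2
    · intro b hb w hw
      have hw' := (N_mem n₀ w).mp hw
      have hw1 : ∀ l, w l ∈ I ^ n₀ := hw'.1
      have hbw : ∀ l, (b • w) l ∈ I ^ r := fun l => by
        have h1 : b * w l ∈ I ^ (r - n₀) * I ^ n₀ := Ideal.mul_mem_mul hb (hw1 l)
        rwa [← pow_add, Nat.sub_add_cancel hr] at h1
      refine ⟨hbw, ?_⟩
      have e : Ψ r (b • w) = D.m (K + n₀) (K + r) b (Ψ n₀ w) := by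
        rw [Ψ_def, Ψ_def, map_sum]
        refine Finset.sum_congr rfl fun l _ => ?_
        rw [D.m_comp (hw1 l) hb le_rfl (by omega), Pi.smul_apply, smul_eq_mul]
      rw [e]
      exact Submodule.mem_iSup_of_mem (⟨b, hb⟩ : ↥(I ^ (r - n₀))) ⟨Ψ n₀ w, hw'.2, rfl⟩
    · rintro v w ⟨hv, hv'⟩ ⟨hw, hw'⟩
      exact ⟨fun l => Ideal.add_mem _ (hv l) (hw l), by
        rw [Ψ_add r v w hv hw]; exact add_mem hv' hw'⟩
  -- step 9
  refine ⟨2 * (K + n₀), fun n hn y hy => ?_⟩
  obtain ⟨r, rfl⟩ : ∃ r, n = K + r := ⟨n - K, by omega⟩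
  have hr : n₀ ≤ r := by omega
  have hy' := claim8 r hr y hy
  have hs : K + n₀ ≤ r - n₀ := by omega
  refine Submodule.iSup_induction _
    (motive := fun y => D.m (K + r) (K + r - 2 * (K + n₀)) 1 y = 0) hy' ?_ (map_zero _)
    (fun y z hy hz => by rw [map_add, hy, hz, add_zero])
  rintro ⟨b, hb⟩ _ ⟨z, hz, rfl⟩
  rw [D.m_comp hb one_mem_pow_zero (by omega) (by omega), one_mul]
  have hb' : b ∈ I ^ (K + n₀) * I ^ (r - n₀ - (K + n₀)) := by
    rwa [← pow_add, Nat.add_sub_cancel' hs]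
  refine (Submodule.mul_induction_on
    (C := fun b => b ∈ I ^ (r - n₀) ∧ D.m (K + n₀) (K + r - 2 * (K + n₀)) b z = 0) hb' ?_ ?_).2
  · intro b' hb' b'' hb''
    have hmem : b' * b'' ∈ I ^ (r - n₀) := by
      have h1 := Ideal.mul_mem_mul hb' hb''
      rwa [← pow_add, Nat.add_sub_cancel' hs] at h1
    refine ⟨hmem, ?_⟩
    rw [mul_comm b' b'', ← D.m_comp hb' hb'' (by omega : K + n₀ ≤ K + n₀ + (K + n₀)) (by omega),
      D.m_self hb', D.Q_kill hb' z hz, map_zero]
  · rintro b1 b2 ⟨h1, h1'⟩ ⟨h2, h2'⟩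
    refine ⟨Ideal.add_mem _ h1 h2, ?_⟩
    rw [D.m_add h1 h2 (by omega), LinearMap.add_apply, h1', h2', add_zero]

end Groth.Agent.Lib.GradedAR48
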