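import Groth.Agent.Lib.FormalFn48
import Groth.Agent.Lib.GradedAR48

/-!
# Stabilisation of `ker (H^p(I^nF) → H^p(F))` (EGA III 4.1.5 / conclusion of S0837) (helper48)

`kernel_stabilizes I F p hS hfin`: for `A` Noetherian, from the conclusion `hS` of the frozen S2435 (Rees
generation of `⊕ H^p(I^kF)`) and finiteness of the `A`-modules `H^p(X, I^kF)`, there is `c` such that for all
`n ≥ c`, `ker (H^p(I^nF) → H^p(F)) = ker (H^p(I^nF) → H^p(I^{n-c}F))`.

The proof instantiates the graded Artin–Rees lemma `GradedAR48.Data.exists_stable` with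
`H n = H^p(X, I^nF)`, `m k n a = H^p(mulTo a)`, `Q n = ker (H^p(I^nF) → H^p(F))`.

Implementation note: kernel type checking of terms mentioning the instances of `Coh.HH X M p` is slow
(seconds per distinct module `M`), so the algebra is run on wrapper types `HP I F p n` (a `def`, not an `abbrev`)
whose instances are constants; the "raw" lemmas are proved first, one per declaration.
-/

set_option autoImplicit false
universe u
open CategoryTheory CategoryTheory.Limits AlgebraicGeometry Opposite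

namespace Groth.Agent.Lib.FormalFn48

open Groth.Agent.Lib

variable {A : Type u} [CommRing A] {X : Scheme.{u}} [X.Over (Spec (CommRingCat.of A))]
variable (I : Ideal A) (F : X.Modules) (p : ℕ)

theorem mulTo_self {r k : ℕ} (a : A) (ha : a ∈ I ^ r) :
    mulTo I F a ha (Nat.le_add_right k r) = Formal.smulMod A (P I F k) a := by
  rw [← cancel_mono (ι I F k), mulTo_ι, Formal.smulMod_naturality]

theorem map_add' {M N : X.Modules} (f g : M ⟶ N) (x : Coh.HH X M p) :
    CohLES.map (f + g) p x = CohLES.map f p x + CohLES.map g p x := by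
  unfold CohLES.map
  rw [Functor.map_add]
  exact Sheaf.H.map_add_apply _ _ x

/-! ### Raw lemmas -/

/-- `H^p(mulTo a)`, as a total function of `a` (zero when `a` is not known to lie in a suitable power). -/
noncomputable def muRaw (k n : ℕ) (a : A) :
    Coh.HH X (P I F k) p →ₗ[A] Coh.HH X (P I F n) p := by
  classical
  exact if h : ∃ r, a ∈ I ^ r ∧ n ≤ k + r then
    CohLES.mapₗ A (mulTo I F a h.choose_spec.1 h.choose_spec.2) p else 0

theorem muRaw_eq {r k n : ℕ} {a : A} (ha : a ∈ I ^ r) (h : n ≤ k + r) :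
    muRaw I F p k n a = CohLES.mapₗ A (mulTo I F a ha h) p := by
  unfold muRaw
  rw [dif_pos ⟨r, ha, h⟩]
  rfl

theorem muRaw_apply {r k n : ℕ} {a : A} (ha : a ∈ I ^ r) (h : n ≤ k + r)
    (x : Coh.HH X (P I F k) p) :
    muRaw I F p k n a x = CohLES.map (mulTo I F a ha h) p x := by
  rw [muRaw_eq I F p ha h]; rfl

theorem muRaw_add {r k n : ℕ} {a b : A} (ha : a ∈ I ^ r) (hb : b ∈ I ^ r) (h : n ≤ k + r) :
    muRaw I F p k n (a + b) = muRaw I F p k n a + muRaw I F p k n b := by
  ext x
  rw [LinearMap.add_apply, muRaw_apply I F p ha h, muRaw_apply I F p hb h,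
    muRaw_apply I F p (Ideal.add_mem _ ha hb) h, mulTo_add I F a b ha hb h, map_add']

theorem muRaw_smul {r k n : ℕ} (c : A) {a : A} (ha : a ∈ I ^ r) (h : n ≤ k + r) :
    muRaw I F p k n (c * a) = c • muRaw I F p k n a := by
  ext x
  rw [LinearMap.smul_apply, muRaw_apply I F p ha h,
    muRaw_apply I F p (Ideal.mul_mem_left _ c ha) h]
  have e : mulTo I F (c * a) (Ideal.mul_mem_left _ c ha) h =
      Formal.smulMod A (P I F k) c ≫ mulTo I F a ha h := by
    rw [smulMod_comp_mulTo]
    congr 1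
    exact mul_comm c a
  rw [e, CohLES.map_comp, Hmap_smulMod]
  exact (CohLES.mapₗ A (mulTo I F a ha h) p).map_smul c x

theorem muRaw_comp {r s k n l : ℕ} {a b : A} (ha : a ∈ I ^ r) (hb : b ∈ I ^ s) (h : n ≤ k + r)
    (h' : l ≤ n + s) (x : Coh.HH X (P I F k) p) :
    muRaw I F p n l b (muRaw I F p k n a x) = muRaw I F p k l (b * a) x := by
  have hba : b * a ∈ I ^ (s + r) := by rw [pow_add]; exact Ideal.mul_mem_mul hb ha
  rw [muRaw_apply I F p ha h, muRaw_apply I F p hb h',
    muRaw_apply I F p hba (by omega : l ≤ k + (s + r)), ← CohLES.map_comp, mulTo_comp_mulTo]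

theorem muRaw_self {r k : ℕ} {a : A} (ha : a ∈ I ^ r) (x : Coh.HH X (P I F k) p) :
    muRaw I F p k k a x = a • x := by
  rw [muRaw_apply I F p ha (Nat.le_add_right k r), mulTo_self, Hmap_smulMod]

theorem rho_muRaw {r k n : ℕ} {a : A} (ha : a ∈ I ^ r) (h : n ≤ k + r)
    (x : Coh.HH X (P I F k) p) :
    CohLES.mapₗ A (ι I F n) p (muRaw I F p k n a x) = a • CohLES.mapₗ A (ι I F k) p x := by
  rw [muRaw_apply I F p ha h, CohLES.mapₗ_apply, CohLES.mapₗ_apply, ← CohLES.map_comp, mulTo_ι,
    CohLES.map_comp, Hmap_smulMod]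

theorem kill_raw {k : ℕ} {a : A} (ha : a ∈ I ^ k) (x : Coh.HH X (P I F k) p)
    (hx : CohLES.mapₗ A (ι I F k) p x = 0) : a • x = 0 := by
  rw [CohLES.mapₗ_apply] at hx
  rw [← Hmap_smulMod, ← ι_comp_mulInto I F a ha, CohLES.map_comp, hx, map_zero]

theorem muRaw_one_apply {k n : ℕ} (h : n ≤ k) (x : Coh.HH X (P I F k) p) :
    muRaw I F p k n 1 x = CohLES.map (Formal2.idealPowIncl I h F) p x := by
  rw [muRaw_apply I F p GradedAR48.one_mem_pow_zero (by omega : n ≤ k + 0), mulTo_one]

theorem gen_raw {K : ℕ} (r : ℕ)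
    (hS : (⨆ a : ↥(I ^ r), (CohIII.HmulMap (I ^ r) (I ^ K) F a p).range) = ⊤) :
    (⨆ a : ↥(I ^ r), LinearMap.range (muRaw I F p K (K + r) a)) = ⊤ := by
  have h1 := gen_of_rees I F p (rfl : K + r = K + r) hS
  rw [← h1]
  refine iSup_congr fun a => ?_
  rw [muRaw_eq I F p a.2 le_rfl]

/-! ### Wrappers -/

/-- `H^p(X, I^nF)`, as a `def`. -/
noncomputable def HP (n : ℕ) : Type u := Coh.HH X (P I F n) p

/-- `H^p(X, F)`, as a `def`. -/
noncomputable def HF : Type u := Coh.HH X F p

noncomputable instance instACGHP (n : ℕ) : AddCommGroup (HP I F p n) :=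
  (inferInstance : AddCommGroup (Coh.HH X (P I F n) p))

noncomputable instance instModHP (n : ℕ) : Module A (HP I F p n) :=
  Coh.moduleOver A X (P I F n) p

noncomputable instance instACGHF : AddCommGroup (HF F p) :=
  (inferInstance : AddCommGroup (Coh.HH X F p))

noncomputable instance instModHF : Module A (HF F p) :=
  Coh.moduleOver A X F p

noncomputable def mu (k n : ℕ) (a : A) : HP I F p k →ₗ[A] HP I F p n := muRaw I F p k n a

noncomputable def rho (n : ℕ) : HP I F p n →ₗ[A] HF F p := CohLES.mapₗ A (ι I F n) p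

/-- The data for the graded Artin–Rees lemma. -/
noncomputable def data : GradedAR48.Data I (HP I F p) where
  m := mu I F p
  m_add := fun ha hb h => muRaw_add I F p ha hb h
  m_smul := fun c _ ha h => muRaw_smul I F p c ha h
  m_comp := fun ha hb h h' x => muRaw_comp I F p ha hb h h' x
  m_self := fun ha x => muRaw_self I F p ha x
  Q := fun n => LinearMap.ker (rho I F p n)
  Q_m := by
    intro r k n a ha h x hx
    rw [LinearMap.mem_ker] at hx ⊢
    have h1 : rho I F p n (mu I F p k n a x) = a • rho I F p k x := rho_muRaw I F p ha h x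
    rw [h1, hx, smul_zero]
  Q_kill := by
    intro k a ha x hx
    rw [LinearMap.mem_ker] at hx
    exact kill_raw I F p ha x hx

theorem exists_stable [IsNoetherianRing A] (K : ℕ)
    (hK : ∀ r : ℕ, (⨆ a : ↥(I ^ r), (CohIII.HmulMap (I ^ r) (I ^ K) F a p).range) = ⊤)
    (hfin : Module.Finite A (Coh.HH X (Formal2.idealPowMod I K F) p)) :
    ∃ c, ∀ n, c ≤ n → ∀ y : HP I F p n, rho I F p n y = 0 → mu I F p n (n - c) 1 y = 0 := by
  haveI : Module.Finite A (HP I F p K) := hfin
  have gen : ∀ r, (⨆ a : ↥(I ^ r), LinearMap.range ((data I F p).m K (K + r) a)) = ⊤ :=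
    fun r => gen_raw I F p r (hK r)
  obtain ⟨c, hc⟩ := (data I F p).exists_stable K gen
  exact ⟨c, fun n hn y hy => hc n hn y (LinearMap.mem_ker.mpr hy)⟩

/-- The conclusion of S0837 (EGA III 4.1.5) from the conclusion of the frozen S2435 and finiteness of
the `H^p(X, I^kF)`. -/
theorem kernel_stabilizes [IsNoetherianRing A]
    (hS : ∃ k₀ : ℕ, ∀ k : ℕ, k₀ ≤ k → ∀ r : ℕ,
      (⨆ a : ↥(I ^ r), (CohIII.HmulMap (I ^ r) (I ^ k) F a p).range) = ⊤)
    (hfin : ∀ k, Module.Finite A (Coh.HH X (Formal2.idealPowMod I k F) p)) :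
    ∃ c : ℕ, ∀ (n : ℕ) (_ : c ≤ n),
      (Sheaf.H.map ((SheafOfModules.toSheaf _).map (Formal2.idealPowModι I n F)) p).ker =
        (Sheaf.H.map ((SheafOfModules.toSheaf _).map
          (Formal2.idealPowIncl I (Nat.sub_le n c) F)) p).ker := by
  obtain ⟨K, hK⟩ := hS
  obtain ⟨c, hc⟩ := exists_stable I F p K (hK K le_rfl) (hfin K)
  refine ⟨c, fun n hn => ?_⟩
  ext y
  rw [AddMonoidHom.mem_ker, AddMonoidHom.mem_ker]
  change CohLES.map (ι I F n) p y = 0 ↔
    CohLES.map (Formal2.idealPowIncl I (Nat.sub_le n c) F) p y = 0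
  constructor
  · intro hy
    have h1 : muRaw I F p n (n - c) 1 y = 0 := hc n hn y hy
    rwa [muRaw_one_apply I F p (Nat.sub_le n c)] at h1
  · intro hy
    rw [← incl_ι I F (Nat.sub_le n c), CohLES.map_comp, hy, map_zero]

end Groth.Agent.Lib.FormalFn48
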