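import Mathlib.RingTheory.Flat.Basic
import Mathlib.RingTheory.Ideal.Quotient.Operations
import Mathlib.RingTheory.TensorProduct.Quotient
import Mathlib.LinearAlgebra.TensorProduct.RightExactness

/-!
# Formal glueing for a general ideal (helper18)

`R → S` a ring map, `I` an ideal of `R` with `R/I → S/IS` bijective.  For an `R`-module `M`
 * killed by `I`: `m ↦ 1 ⊗ m : M → S ⊗ M` is bijective (no flatness needed);
 * killed by `I ^ n`, or `I`-power torsion, and `S` flat over `R`: still bijective.
-/

set_option autoImplicit false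
universe u v
open TensorProduct

namespace Groth.Agent.Lib.FormalGlue18

variable {R S : Type u} [CommRing R] [CommRing S] [Algebra R S] (I : Ideal R)

/-- `M` is `I`-power torsion -/
def IsTors (M : Type v) [AddCommGroup M] [Module R M] : Prop :=
  ∀ m : M, ∃ n : ℕ, ∀ a ∈ I ^ n, a • m = 0

/-- elements of `IS` kill `S ⊗ M` from the left when `I` kills `M` -/
lemma tmul_eq_zero_of_mem_map {M : Type v} [AddCommGroup M] [Module R M]
    (hM : ∀ a ∈ I, ∀ m : M, a • m = 0) {j : S} (hj : j ∈ I.map (algebraMap R S)) (m : M) :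
    j ⊗ₜ[R] m = 0 := by
  unfold Ideal.map at hj
  induction hj using Submodule.span_induction with
  | mem x hx =>
    obtain ⟨a, ha, rfl⟩ := hx
    rw [Algebra.algebraMap_eq_smul_one, TensorProduct.smul_tmul, hM a ha, tmul_zero]
  | zero => exact zero_tmul _ _
  | add x y _ _ hx hy => rw [add_tmul, hx, hy, add_zero]
  | smul s x _ hx =>
    have : (s * x) ⊗ₜ[R] m = s • (x ⊗ₜ[R] m) := by rw [TensorProduct.smul_tmul', smul_eq_mul]
    rw [smul_eq_mul, this, hx, smul_zero]

variable (hq : Function.Bijective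
  (Ideal.quotientMap (I.map (algebraMap R S)) (algebraMap R S) Ideal.le_comap_map))

include hq

lemma exists_sub_mem (s : S) : ∃ r : R, s - algebraMap R S r ∈ I.map (algebraMap R S) := by
  obtain ⟨r', hr'⟩ := hq.2 (Ideal.Quotient.mk _ s)
  obtain ⟨r, rfl⟩ := Ideal.Quotient.mk_surjective r'
  rw [Ideal.quotientMap_mk, Ideal.Quotient.eq] at hr'
  refine ⟨r, ?_⟩
  have := (I.map (algebraMap R S)).neg_mem hr'
  rwa [neg_sub] at this

lemma mem_of_algebraMap_mem {r : R} (h : algebraMap R S r ∈ I.map (algebraMap R S)) : r ∈ I := by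
  have h0 : Ideal.quotientMap (I.map (algebraMap R S)) (algebraMap R S) Ideal.le_comap_map
      (Ideal.Quotient.mk I r) = 0 := by
    rw [Ideal.quotientMap_mk]
    exact Ideal.Quotient.eq_zero_iff_mem.mpr h
  exact Ideal.Quotient.eq_zero_iff_mem.mp (hq.1 (h0.trans (map_zero _).symm))

/-- surjectivity of `m ↦ 1 ⊗ m` for `M` killed by `I` -/
lemma surjective_mk_of_killed {M : Type v} [AddCommGroup M] [Module R M]
    (hM : ∀ a ∈ I, ∀ m : M, a • m = 0) : Function.Surjective (TensorProduct.mk R S M 1) := by
  intro y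
  induction y using TensorProduct.induction_on with
  | zero => exact ⟨0, map_zero _⟩
  | tmul s m =>
    obtain ⟨r, hr⟩ := exists_sub_mem I hq s
    refine ⟨r • m, ?_⟩
    have h1 := tmul_eq_zero_of_mem_map I hM hr m
    rw [sub_tmul, sub_eq_zero] at h1
    rw [h1, TensorProduct.mk_apply, Algebra.algebraMap_eq_smul_one, TensorProduct.smul_tmul]
  | add x y hx hy =>
    obtain ⟨a, rfl⟩ := hx
    obtain ⟨b, rfl⟩ := hy
    exact ⟨a + b, map_add _ _ _⟩

/-- a retraction of `m ↦ 1 ⊗ m` for `M` killed by `I` -/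
lemma exists_retraction_of_killed {M : Type v} [AddCommGroup M] [Module R M]
    (hM : ∀ a ∈ I, ∀ m : M, a • m = 0) :
    ∃ ρ : S ⊗[R] M →ₗ[R] M, ∀ x, ρ ((1 : S) ⊗ₜ[R] x) = x := by
  let J : Ideal S := I.map (algebraMap R S)
  let e : R ⧸ I ≃+* S ⧸ J :=
    RingEquiv.ofBijective (Ideal.quotientMap J (algebraMap R S) Ideal.le_comap_map) hq
  have he : ∀ r : R, e (Ideal.Quotient.mk I r) = Ideal.Quotient.mk J (algebraMap R S r) := by
    intro r
    change Ideal.quotientMap J (algebraMap R S) Ideal.le_comap_map (Ideal.Quotient.mk I r) = _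
    rw [Ideal.quotientMap_mk]
  let φ₁ : R ⧸ I →+* Module.End R M :=
    Ideal.Quotient.lift I (algebraMap R (Module.End R M)) (by
      intro a ha
      ext x
      rw [Module.algebraMap_end_apply, hM a ha]
      rfl)
  let φ : S →+* Module.End R M := φ₁.comp (e.symm.toRingHom.comp (Ideal.Quotient.mk J))
  have hφ : ∀ r : R, φ (algebraMap R S r) = algebraMap R (Module.End R M) r := by
    intro r
    have : e.symm (Ideal.Quotient.mk J (algebraMap R S r)) = Ideal.Quotient.mk I r := by
      rw [RingEquiv.symm_apply_eq, he]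
    simp only [φ, RingHom.comp_apply, RingEquiv.toRingHom_eq_coe, RingHom.coe_coe, this, φ₁,
      Ideal.Quotient.lift_mk]
  let B : S →ₗ[R] M →ₗ[R] M :=
    { toFun := fun s => φ s
      map_add' := fun a b => map_add φ a b
      map_smul' := by
        intro r a
        rw [Algebra.smul_def, map_mul, hφ, RingHom.id_apply, Algebra.algebraMap_eq_smul_one,
          smul_mul_assoc, one_mul] }
  refine ⟨TensorProduct.lift B, fun x => ?_⟩
  rw [TensorProduct.lift.tmul]
  change φ 1 x = x
  rw [map_one]
  rfl

lemma injective_mk_of_killed {M : Type v} [AddCommGroup M] [Module R M]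
    (hM : ∀ a ∈ I, ∀ m : M, a • m = 0) : Function.Injective (TensorProduct.mk R S M 1) := by
  obtain ⟨ρ, hρ⟩ := exists_retraction_of_killed I hq hM
  intro x y hxy
  have := congrArg ρ hxy
  simpa [hρ] using this

lemma bijective_mk_of_killed {M : Type v} [AddCommGroup M] [Module R M]
    (hM : ∀ a ∈ I, ∀ m : M, a • m = 0) : Function.Bijective (TensorProduct.mk R S M 1) :=
  ⟨injective_mk_of_killed I hq hM, surjective_mk_of_killed I hq hM⟩

section flat

variable [Module.Flat R S]

/-- `m ↦ 1 ⊗ m` is bijective for `M` killed by `I ^ n` (flat case) -/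
lemma bijective_mk_of_pow_killed (n : ℕ) : ∀ (M : Type v) [AddCommGroup M] [Module R M],
    (∀ a ∈ I ^ n, ∀ m : M, a • m = 0) → Function.Bijective (TensorProduct.mk R S M 1) := by
  induction n with
  | zero =>
    intro M _ _ hM
    have hsub : Subsingleton M := ⟨fun x y => by
      have hx := hM 1 (by simp) x
      have hy := hM 1 (by simp) y
      rw [one_smul] at hx hy
      rw [hx, hy]⟩
    have hsub' : Subsingleton (S ⊗[R] M) := inferInstance
    exact ⟨fun x y _ => Subsingleton.elim _ _, fun y => ⟨0, Subsingleton.elim _ _⟩⟩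
  | succ n ih =>
    intro M _ _ hM
    let M' : Submodule R M := I • (⊤ : Submodule R M)
    have hM' : ∀ a ∈ I ^ n, ∀ m : M', a • m = 0 := by
      rintro a ha ⟨m, hm⟩
      apply Subtype.ext
      simp only [Submodule.coe_smul, Submodule.coe_zero]
      induction hm using Submodule.smul_induction_on' with
      | smul b hb x _ =>
        rw [← mul_smul]
        exact hM _ (by rw [pow_succ]; exact Ideal.mul_mem_mul ha hb) x
      | add x _ y _ hx hy => rw [smul_add, hx, hy, add_zero]
    have hQ : ∀ a ∈ I, ∀ q : M ⧸ M', a • q = 0 := by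
      intro a ha q
      obtain ⟨m, rfl⟩ := M'.mkQ_surjective q
      rw [← map_smul, Submodule.mkQ_apply, Submodule.Quotient.mk_eq_zero]
      exact Submodule.smul_mem_smul ha Submodule.mem_top
    have ih' := ih M' hM'
    have hQb := bijective_mk_of_killed I hq hQ
    have hinj : Function.Injective (M'.subtype.lTensor S) :=
      Module.Flat.lTensor_preserves_injective_linearMap _ (Submodule.injective_subtype _)
    have hex : Function.Exact (M'.subtype.lTensor S) (M'.mkQ.lTensor S) :=
      lTensor_exact S (LinearMap.exact_subtype_mkQ M') (Submodule.mkQ_surjective M')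
    constructor
    · rw [injective_iff_map_eq_zero]
      intro x hx
      have h1 : TensorProduct.mk R S (M ⧸ M') 1 (M'.mkQ x) = 0 := by
        have := congrArg (M'.mkQ.lTensor S) hx
        simpa using this
      have h2 : M'.mkQ x = 0 := hQb.1 (h1.trans (map_zero _).symm)
      have hxM' : x ∈ M' := (Submodule.Quotient.mk_eq_zero M').mp h2
      have h3 : TensorProduct.mk R S M' 1 ⟨x, hxM'⟩ = 0 := by
        apply hinj
        rw [map_zero, TensorProduct.mk_apply, LinearMap.lTensor_tmul]
        exact hx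
      have h4 := ih'.1 (h3.trans (map_zero _).symm)
      exact congrArg Subtype.val h4
    · intro y
      obtain ⟨q, hq'⟩ := hQb.2 (M'.mkQ.lTensor S y)
      obtain ⟨m, rfl⟩ := M'.mkQ_surjective q
      have h1 : M'.mkQ.lTensor S (y - (1 : S) ⊗ₜ[R] m) = 0 := by
        rw [map_sub, ← hq', LinearMap.lTensor_tmul, TensorProduct.mk_apply, sub_self]
      obtain ⟨y', hy'⟩ := (hex _).mp h1
      obtain ⟨m', rfl⟩ := ih'.2 y'
      refine ⟨m + (m' : M), ?_⟩
      rw [TensorProduct.mk_apply, LinearMap.lTensor_tmul] at hy'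
      rw [TensorProduct.mk_apply, tmul_add]
      change _ + (1 : S) ⊗ₜ[R] (M'.subtype m') = y
      rw [hy']
      abel

end flat

/-- the submodule of elements killed by `I ^ n` -/
def tors {M : Type v} [AddCommGroup M] [Module R M] (n : ℕ) : Submodule R M where
  carrier := {m | ∀ a ∈ I ^ n, a • m = 0}
  add_mem' := by
    intro x y hx hy a ha
    rw [smul_add, hx a ha, hy a ha, add_zero]
  zero_mem' := fun a _ => smul_zero a
  smul_mem' := by
    intro c x hx a ha
    rw [smul_comm, hx a ha, smul_zero]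

omit hq in
lemma mem_tors {M : Type v} [AddCommGroup M] [Module R M] (n : ℕ) (m : M) :
    m ∈ tors I (M := M) n ↔ ∀ a ∈ I ^ n, a • m = 0 := Iff.rfl

omit hq in
lemma tors_mono {M : Type v} [AddCommGroup M] [Module R M] {n k : ℕ} (h : n ≤ k) :
    tors I (M := M) n ≤ tors I k := by
  intro m hm a ha
  exact hm a (Ideal.pow_le_pow_right h ha)

omit hq in
lemma tors_killed {M : Type v} [AddCommGroup M] [Module R M] (n : ℕ) :
    ∀ a ∈ I ^ n, ∀ m : tors I (M := M) n, a • m = 0 := by
  rintro a ha ⟨m, hm⟩
  apply Subtype.ext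
  exact hm a ha

section flat

variable [Module.Flat R S]

/-- `m ↦ 1 ⊗ m` is bijective for `I`-power torsion `M` (flat case) -/
theorem bijective_mk_of_isTors {M : Type v} [AddCommGroup M] [Module R M] (hM : IsTors I M) :
    Function.Bijective (TensorProduct.mk R S M 1) := by
  have hinj : ∀ n, Function.Injective ((tors I (M := M) n).subtype.lTensor S) := fun n =>
    Module.Flat.lTensor_preserves_injective_linearMap _ (Submodule.injective_subtype _)
  have hb : ∀ n, Function.Bijective (TensorProduct.mk R S (tors I (M := M) n) 1) := fun n =>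
    bijective_mk_of_pow_killed I hq n _ (tors_killed I n)
  constructor
  · rw [injective_iff_map_eq_zero]
    intro x hx
    obtain ⟨n, hn⟩ := hM x
    have h3 : TensorProduct.mk R S (tors I (M := M) n) 1 ⟨x, hn⟩ = 0 := by
      apply hinj n
      rw [map_zero, TensorProduct.mk_apply, LinearMap.lTensor_tmul]
      exact hx
    have h4 := (hb n).1 (h3.trans (map_zero _).symm)
    exact congrArg Subtype.val h4
  · intro y
    induction y using TensorProduct.induction_on with
    | zero => exact ⟨0, map_zero _⟩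
    | tmul s m =>
      obtain ⟨n, hn⟩ := hM m
      obtain ⟨m', hm'⟩ := (hb n).2 (s ⊗ₜ[R] (⟨m, hn⟩ : tors I (M := M) n))
      refine ⟨(m' : M), ?_⟩
      have := congrArg ((tors I (M := M) n).subtype.lTensor S) hm'
      rw [TensorProduct.mk_apply, LinearMap.lTensor_tmul, LinearMap.lTensor_tmul] at this
      exact this
    | add x y hx hy =>
      obtain ⟨a, rfl⟩ := hx
      obtain ⟨b, rfl⟩ := hy
      exact ⟨a + b, map_add _ _ _⟩

end flat

section flat

variable [Module.Flat R S]

/-- an element killed by a power of `I` (in an arbitrary module) with `1 ⊗ m = 0` is zero -/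
theorem eq_zero_of_tmul_eq_zero {M : Type v} [AddCommGroup M] [Module R M] (m : M)
    (hm : ∃ n : ℕ, ∀ a ∈ I ^ n, a • m = 0) (h : (1 : S) ⊗ₜ[R] m = 0) : m = 0 := by
  obtain ⟨n, hn⟩ := hm
  have hinj : Function.Injective ((tors I (M := M) n).subtype.lTensor S) :=
    Module.Flat.lTensor_preserves_injective_linearMap _ (Submodule.injective_subtype _)
  have hb := bijective_mk_of_pow_killed (S := S) I hq n _ (tors_killed I (M := M) n)
  have h3 : TensorProduct.mk R S (tors I (M := M) n) 1 ⟨m, hn⟩ = 0 := by
    apply hinj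
    rw [map_zero, TensorProduct.mk_apply, LinearMap.lTensor_tmul]
    exact h
  have h4 := hb.1 (h3.trans (map_zero _).symm)
  exact congrArg Subtype.val h4

/-- every element of `S ⊗ K` is of the form `1 ⊗ κ` if every element of the submodule `K` is
`I`-power torsion -/
theorem exists_tmul_eq_of_submodule {M : Type v} [AddCommGroup M] [Module R M] (K : Submodule R M)
    (hK : ∀ κ ∈ K, ∃ n : ℕ, ∀ a ∈ I ^ n, a • κ = 0) (z : S ⊗[R] K) :
    ∃ κ : K, (1 : S) ⊗ₜ[R] κ = z := by
  have hT : IsTors I K := by
    rintro ⟨κ, hκ⟩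
    obtain ⟨n, hn⟩ := hK κ hκ
    exact ⟨n, fun a ha => Subtype.ext (hn a ha)⟩
  obtain ⟨κ, hκ⟩ := (bijective_mk_of_isTors (S := S) I hq hT).2 z
  exact ⟨κ, hκ⟩

end flat

end Groth.Agent.Lib.FormalGlue18
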