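import Groth.Agent.Lib.FormalGlue18
import Groth.Prelude.Def_EtGlue
import Mathlib.RingTheory.Noetherian.Nilpotent
import Mathlib.Algebra.Module.LocalizedModule.Basic
import Mathlib.LinearAlgebra.TensorProduct.Pi
import Mathlib.RingTheory.Flat.Stability

/-!
# Formal glueing, finitely generated ideal `I = (f_1, …, f_t)` (helper18)
-/

set_option autoImplicit false
universe u v
open TensorProduct

namespace Groth.Agent.Lib.FormalGlue18

variable {R : Type u} [CommRing R]

/-- if a power of each generator of `I` kills `m` then a power of `I` kills `m` -/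
lemma exists_pow_kills {ι : Type*} [Finite ι] (f : ι → R) (I : Ideal R)
    (hI : Ideal.span (Set.range f) = I) {M : Type v} [AddCommGroup M] [Module R M] (m : M)
    (h : ∀ i, ∃ e : ℕ, f i ^ e • m = 0) : ∃ n : ℕ, ∀ a ∈ I ^ n, a • m = 0 := by
  subst hI
  let K : Ideal R := (Submodule.span R {m}).annihilator
  have hK : ∀ a : R, a ∈ K ↔ a • m = 0 := fun a => Submodule.mem_annihilator_span_singleton m a
  let J : Ideal (R ⧸ K) := (Ideal.span (Set.range f)).map (Ideal.Quotient.mk K)
  have hJfg : J.FG := by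
    apply Ideal.FG.map
    exact ⟨(Set.finite_range f).toFinset, by simp⟩
  have hJle : J ≤ nilradical (R ⧸ K) := by
    change Ideal.map _ _ ≤ _
    rw [Ideal.map_span, Ideal.span_le]
    rintro _ ⟨_, ⟨i, rfl⟩, rfl⟩
    obtain ⟨e, he⟩ := h i
    refine ⟨e, ?_⟩
    rw [← map_pow]
    change _ ∈ (⊥ : Ideal (R ⧸ K))
    rw [Ideal.mem_bot, Ideal.Quotient.eq_zero_iff_mem, hK]
    exact he
  obtain ⟨n, hn⟩ := hJfg.isNilpotent_iff_le_nilradical.mpr hJle
  refine ⟨n, fun a ha => ?_⟩
  rw [← hK]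
  have h1 : Ideal.Quotient.mk K a ∈ J ^ n := by
    rw [← Ideal.map_pow]
    exact Ideal.mem_map_of_mem _ ha
  rw [hn] at h1
  exact Ideal.Quotient.eq_zero_iff_mem.mp h1

/-- `f ^ n` acts injectively on `S ⊗ M_f` -/
lemma smul_pow_cancel (S : Type u) [CommRing S] [Algebra R S] (f : R) (M : Type v) [AddCommGroup M]
    [Module R M] (n : ℕ) (y y' : S ⊗[R] LocalizedModule (Submonoid.powers f) M)
    (h : f ^ n • y = f ^ n • y') : y = y' := by
  have hu := IsLocalizedModule.map_units (LocalizedModule.mkLinearMap (Submonoid.powers f) M)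
    (⟨f ^ n, Submonoid.pow_mem _ (Submonoid.mem_powers f) n⟩ : Submonoid.powers f)
  obtain ⟨u, hu⟩ := hu
  have hu' : ∀ z : LocalizedModule (Submonoid.powers f) M, (u : Module.End R _) z = f ^ n • z := by
    intro z
    rw [hu]
    rfl
  have key : ∀ y : S ⊗[R] LocalizedModule (Submonoid.powers f) M,
      (((u⁻¹ : (Module.End R (LocalizedModule (Submonoid.powers f) M))ˣ) :
        Module.End R (LocalizedModule (Submonoid.powers f) M)).lTensor S) (f ^ n • y) = y := by
    intro y
    induction y using TensorProduct.induction_on with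
    | zero => rw [smul_zero, map_zero]
    | tmul s z =>
      rw [← TensorProduct.tmul_smul, LinearMap.lTensor_tmul, ← hu' z]
      congr 1
      exact congrArg (fun g : Module.End R (LocalizedModule (Submonoid.powers f) M) => g z)
        (Units.inv_mul u)
    | add a b ha hb => rw [smul_add, map_add, ha, hb]
  rw [← key y, ← key y', h]

section glue

variable {S : Type u} [CommRing S] [Algebra R S] [Module.Flat R S]
  {t : ℕ} (f : Fin t → R) (I : Ideal R) (hI : Ideal.span (Set.range f) = I)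
  (hq : Function.Bijective
    (Ideal.quotientMap (Ideal.map (algebraMap R S) I) (algebraMap R S) Ideal.le_comap_map))
  (M : Type u) [AddCommGroup M] [Module R M]

/-- the localization maps `M → M_{f_i}` -/
noncomputable abbrev lam (i : Fin t) : M →ₗ[R] LocalizedModule (Submonoid.powers (f i)) M :=
  LocalizedModule.mkLinearMap (Submonoid.powers (f i)) M

/-- `M → ∏ M_{f_i}` -/
noncomputable abbrev del : M →ₗ[R] (∀ i : Fin t, LocalizedModule (Submonoid.powers (f i)) M) :=
  LinearMap.pi (lam f M)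

include hI in
omit [Module.Flat R S] in
lemma tors_of_lam_eq_zero (κ : M) (h : ∀ i, lam f M i κ = 0) :
    ∃ n : ℕ, ∀ a ∈ I ^ n, a • κ = 0 := by
  apply exists_pow_kills f I hI κ
  intro i
  obtain ⟨⟨c, hc⟩, h2⟩ := (IsLocalizedModule.eq_zero_iff (Submonoid.powers (f i))
    (lam f M i)).mp (h i)
  obtain ⟨e, rfl⟩ := (Submonoid.mem_powers_iff _ _).mp hc
  exact ⟨e, h2⟩

omit [Module.Flat R S] in
lemma piRight_lTensor_del (x : S ⊗[R] M) (i : Fin t) :
    TensorProduct.piRight R R S (fun i : Fin t => LocalizedModule (Submonoid.powers (f i)) M)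
      ((del f M).lTensor S x) i = (lam f M i).lTensor S x := by
  induction x using TensorProduct.induction_on with
  | zero => simp
  | tmul s m => simp [TensorProduct.piRightHom_tmul]
  | add a b ha hb => simp only [map_add, Pi.add_apply, ha, hb]

omit [Module.Flat R S] in
lemma lTensor_lam_eq (x : S ⊗[R] M) (N : ℕ) (i : Fin t) (mi : M)
    (hx : EtGlue.locOfTensor R S (f i) M x = EtGlue.tensorOfLoc R S (f i) M
      (LocalizedModule.mk mi
        ⟨f i ^ N, Submonoid.pow_mem _ (Submonoid.mem_powers (f i)) N⟩)) :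
    (lam f M i).lTensor S x = (1 : S) ⊗ₜ[R] (LocalizedModule.mk mi
        ⟨f i ^ N, Submonoid.pow_mem _ (Submonoid.mem_powers (f i)) N⟩ :
        LocalizedModule (Submonoid.powers (f i)) M) := by
  have h1 : EtGlue.tensorOfLoc R S (f i) M (LocalizedModule.mk mi
      ⟨f i ^ N, Submonoid.pow_mem _ (Submonoid.mem_powers (f i)) N⟩) =
      LocalizedModule.mk ((1 : S) ⊗ₜ[R] mi)
        ⟨f i ^ N, Submonoid.pow_mem _ (Submonoid.mem_powers (f i)) N⟩ := by
    unfold EtGlue.tensorOfLoc
    rw [IsLocalizedModule.mk_eq_mk', IsLocalizedModule.map_mk', IsLocalizedModule.mk_eq_mk']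
    rfl
  rw [h1] at hx
  change LocalizedModule.mk x 1 = _ at hx
  obtain ⟨⟨c, hc⟩, h2⟩ := LocalizedModule.mk_eq.mp hx
  obtain ⟨k, rfl⟩ := (Submonoid.mem_powers_iff _ _).mp hc
  change f i ^ k • f i ^ N • x = f i ^ k • (1 : R) • ((1 : S) ⊗ₜ[R] mi) at h2
  rw [one_smul] at h2
  have h3 := congrArg ((lam f M i).lTensor S) h2
  rw [map_smul, map_smul, map_smul, LinearMap.lTensor_tmul] at h3
  have h4 : f i ^ N • ((1 : S) ⊗ₜ[R] (LocalizedModule.mk mi
        ⟨f i ^ N, Submonoid.pow_mem _ (Submonoid.mem_powers (f i)) N⟩ :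
        LocalizedModule (Submonoid.powers (f i)) M)) = (1 : S) ⊗ₜ[R] (lam f M i mi) := by
    rw [← TensorProduct.tmul_smul]
    congr 1
    rw [LocalizedModule.smul'_mk]
    exact LocalizedModule.mk_cancel
      (⟨f i ^ N, Submonoid.pow_mem _ (Submonoid.mem_powers (f i)) N⟩ : Submonoid.powers (f i)) mi
  rw [← h4] at h3
  exact smul_pow_cancel S (f i) M N _ _ (smul_pow_cancel S (f i) M k _ _ h3)

omit [Module.Flat R S] in
/-- a compatible family `(m_i / f_i^N)` is, after multiplication by a power of `f_i`, in the image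
of `M` -/
lemma pow_smul_mem_range (N : ℕ) (m : Fin t → M)
    (hm : ∀ i j : Fin t, ∃ e : ℕ, (f i * f j) ^ e • (f j ^ N • m i - f i ^ N • m j) = 0)
    (i : Fin t) : ∃ E : ℕ, f i ^ E • (fun j : Fin t => (LocalizedModule.mk (m j)
      ⟨f j ^ N, Submonoid.pow_mem _ (Submonoid.mem_powers (f j)) N⟩ :
        LocalizedModule (Submonoid.powers (f j)) M)) ∈ LinearMap.range (del f M) := by
  choose e he using hm
  let E : ℕ := Finset.univ.sup (e i)
  refine ⟨E + N, f i ^ E • m i, ?_⟩
  funext j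
  change (LocalizedModule.mk (f i ^ E • m i) 1 : LocalizedModule (Submonoid.powers (f j)) M) =
    f i ^ (E + N) • LocalizedModule.mk (m j)
      (⟨f j ^ N, Submonoid.pow_mem _ (Submonoid.mem_powers (f j)) N⟩ : Submonoid.powers (f j))
  rw [LocalizedModule.smul'_mk (f i ^ (E + N)) (m j)
    (⟨f j ^ N, Submonoid.pow_mem _ (Submonoid.mem_powers (f j)) N⟩ : Submonoid.powers (f j))]
  refine LocalizedModule.mk_eq.mpr
    ⟨⟨f j ^ (e i j), Submonoid.pow_mem _ (Submonoid.mem_powers (f j)) _⟩, ?_⟩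
  change f j ^ (e i j) • f j ^ N • f i ^ E • m i = f j ^ (e i j) • (1 : R) • f i ^ (E + N) • m j
  have hle : e i j ≤ E := Finset.le_sup (f := e i) (Finset.mem_univ j)
  obtain ⟨d, hd⟩ := Nat.exists_eq_add_of_le hle
  have h0 := congrArg (fun y => f i ^ d • y) (he i j)
  simp only [smul_zero, smul_sub, smul_smul] at h0
  rw [sub_eq_zero] at h0
  simp only [smul_smul]
  rw [hd]
  convert h0 using 2 <;> ring

include hI hq in
/-- injectivity part of the glueing sequence -/
theorem glue_injective (m : M) (h1 : (1 : S) ⊗ₜ[R] m = 0) (h2 : ∀ i, lam f M i m = 0) : m = 0 :=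
  eq_zero_of_tmul_eq_zero I hq m (tors_of_lam_eq_zero f I hI M m h2) h1

include hI hq in
/-- exactness in the middle of the glueing sequence -/
theorem glue_exists (x : S ⊗[R] M) (N : ℕ) (m : Fin t → M)
    (hx : ∀ i : Fin t, EtGlue.locOfTensor R S (f i) M x = EtGlue.tensorOfLoc R S (f i) M
      (LocalizedModule.mk (m i)
        ⟨f i ^ N, Submonoid.pow_mem _ (Submonoid.mem_powers (f i)) N⟩))
    (hm : ∀ i j : Fin t, ∃ e : ℕ, (f i * f j) ^ e • (f j ^ N • m i - f i ^ N • m j) = 0) :
    ∃ μ : M, (1 : S) ⊗ₜ[R] μ = x ∧ ∀ i : Fin t, lam f M i μ = LocalizedModule.mk (m i)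
        ⟨f i ^ N, Submonoid.pow_mem _ (Submonoid.mem_powers (f i)) N⟩ := by
  classical
  let σ : ∀ j : Fin t, LocalizedModule (Submonoid.powers (f j)) M := fun j =>
    LocalizedModule.mk (m j) ⟨f j ^ N, Submonoid.pow_mem _ (Submonoid.mem_powers (f j)) N⟩
  -- `1 ⊗ σ` is the image of `x`
  have hσx : (1 : S) ⊗ₜ[R] σ = (del f M).lTensor S x := by
    apply (TensorProduct.piRight R R S
      (fun i : Fin t => LocalizedModule (Submonoid.powers (f i)) M)).injective
    funext i
    rw [piRight_lTensor_del, lTensor_lam_eq f M x N i (m i) (hx i)]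
    simp [TensorProduct.piRightHom_tmul, σ]
  -- the class of `σ` in the cokernel of `del`
  let Q := (∀ j : Fin t, LocalizedModule (Submonoid.powers (f j)) M) ⧸ LinearMap.range (del f M)
  let q : Q := Submodule.Quotient.mk σ
  have hq1 : (1 : S) ⊗ₜ[R] q = 0 := by
    have h1 : (1 : S) ⊗ₜ[R] q = (LinearMap.range (del f M)).mkQ.lTensor S ((1 : S) ⊗ₜ[R] σ) := by
      rw [LinearMap.lTensor_tmul]; rfl
    rw [h1, hσx, ← LinearMap.comp_apply, ← LinearMap.lTensor_comp]
    have h2 : (LinearMap.range (del f M)).mkQ ∘ₗ del f M = 0 := by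
      ext y
      simp only [LinearMap.comp_apply, Submodule.mkQ_apply, LinearMap.zero_apply,
        Submodule.Quotient.mk_eq_zero]
      exact LinearMap.mem_range_self _ y
    rw [h2, LinearMap.lTensor_zero, LinearMap.zero_apply]
  have hq2 : ∃ n : ℕ, ∀ a ∈ I ^ n, a • q = 0 := by
    apply exists_pow_kills f I hI q
    intro i
    obtain ⟨E, hE⟩ := pow_smul_mem_range f M N m hm i
    refine ⟨E, ?_⟩
    change f i ^ E • Submodule.Quotient.mk σ = 0
    rw [← Submodule.Quotient.mk_smul, Submodule.Quotient.mk_eq_zero]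
    exact hE
  have hq0 : q = 0 := eq_zero_of_tmul_eq_zero I hq q hq2 hq1
  obtain ⟨μ₁, hμ₁⟩ := (Submodule.Quotient.mk_eq_zero _).mp hq0
  -- correct `μ₁` by an element of the kernel
  have hz : (del f M).lTensor S (x - (1 : S) ⊗ₜ[R] μ₁) = 0 := by
    rw [map_sub, LinearMap.lTensor_tmul, hμ₁, hσx, sub_self]
  have hex := Module.Flat.lTensor_exact S (LinearMap.exact_subtype_ker_map (del f M))
  obtain ⟨z', hz'⟩ := (hex _).mp hz
  have hK : ∀ κ ∈ LinearMap.ker (del f M), ∃ n : ℕ, ∀ a ∈ I ^ n, a • κ = 0 := by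
    intro κ hκ
    apply tors_of_lam_eq_zero f I hI M κ
    intro i
    exact congrFun (LinearMap.mem_ker.mp hκ) i
  obtain ⟨κ, rfl⟩ := exists_tmul_eq_of_submodule I hq (LinearMap.ker (del f M)) hK z'
  rw [LinearMap.lTensor_tmul] at hz'
  refine ⟨μ₁ + κ, ?_, fun i => ?_⟩
  · rw [tmul_add]
    change _ + (1 : S) ⊗ₜ[R] ((LinearMap.ker (del f M)).subtype κ) = x
    rw [hz']
    abel
  · rw [map_add]
    have h1 : lam f M i μ₁ = σ i := congrFun hμ₁ i
    have h2 : lam f M i (κ : M) = 0 := congrFun (LinearMap.mem_ker.mp κ.2) i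
    rw [h1, h2, add_zero]

end glue

end Groth.Agent.Lib.FormalGlue18
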