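import Groth.Agent.Lib.FormalGlue18
import Mathlib.RingTheory.Flat.Stability
import Mathlib.LinearAlgebra.TensorProduct.Tower

/-!
# Formal glueing of maps (helper18)

`R → S` flat, `R/I ≅ S/IS`; `φ : M' → S ⊗ N` an `S`-linear map with `I`-power torsion kernel and
cokernel.  Then `M := N ×_{S ⊗ N} M'` satisfies `S ⊗ M ≅ M'`.
-/

set_option autoImplicit false
universe u
open TensorProduct

namespace Groth.Agent.Lib.FormalGlue18

variable {R S : Type u} [CommRing R] [CommRing S] [Algebra R S]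
  {N : Type u} [AddCommGroup N] [Module R N] {M' : Type u} [AddCommGroup M'] [Module S M']
  [Module R M'] [IsScalarTower R S M'] (φ : M' →ₗ[S] S ⊗[R] N)

/-- the fibre product `N ×_{S ⊗ N} M'` -/
def pb : Submodule R (N × M') where
  carrier := {p | (1 : S) ⊗ₜ[R] p.1 = φ p.2}
  add_mem' := by
    intro a b ha hb
    change (1 : S) ⊗ₜ[R] (a.1 + b.1) = φ (a.2 + b.2)
    rw [tmul_add, map_add, ha, hb]
  zero_mem' := by
    change (1 : S) ⊗ₜ[R] (0 : N) = φ 0
    rw [tmul_zero, map_zero]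
  smul_mem' := by
    intro c a ha
    change (1 : S) ⊗ₜ[R] (c • a.1) = φ (c • a.2)
    rw [tmul_smul, ← algebraMap_smul S c a.2, map_smul, ← ha, algebraMap_smul]

lemma mem_pb (p : N × M') : p ∈ pb φ ↔ (1 : S) ⊗ₜ[R] p.1 = φ p.2 := Iff.rfl

/-- the projection to `N` -/
def psi : pb φ →ₗ[R] N := (LinearMap.fst R N M').comp (pb φ).subtype

/-- the projection to `M'` -/
def pr2 : pb φ →ₗ[R] M' := (LinearMap.snd R N M').comp (pb φ).subtype

/-- the comparison map `S ⊗ M → M'` -/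
noncomputable def e0 : S ⊗[R] pb φ →ₗ[S] M' :=
  TensorProduct.AlgebraTensorModule.lift (LinearMap.toSpanSingleton S (pb φ →ₗ[R] M') (pr2 φ))

lemma e0_tmul (s : S) (p : pb φ) : e0 φ (s ⊗ₜ[R] p) = s • (p : N × M').2 := rfl

lemma phi_e0 (y : S ⊗[R] pb φ) : φ (e0 φ y) = (psi φ).baseChange S y := by
  induction y using TensorProduct.induction_on with
  | zero => simp
  | tmul s p =>
    rw [e0_tmul, map_smul, LinearMap.baseChange_tmul, ← p.2, TensorProduct.smul_tmul',
      smul_eq_mul, mul_one]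
    rfl
  | add a b ha hb => rw [map_add, map_add, map_add, ha, hb]

section bij

variable [Module.Flat R S] (I : Ideal R)
  (hq : Function.Bijective
    (Ideal.quotientMap (I.map (algebraMap R S)) (algebraMap R S) Ideal.le_comap_map))
  (hker : ∀ x : M', φ x = 0 → ∃ n : ℕ, ∀ a ∈ I ^ n, algebraMap R S a • x = 0)
  (hcoker : ∀ y : S ⊗[R] N, ∃ n : ℕ, ∀ a ∈ I ^ n, algebraMap R S a • y ∈ LinearMap.range φ)

set_option maxHeartbeats 400000 in
include hq hker in
theorem e0_injective : Function.Injective (e0 φ) := by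
  rw [injective_iff_map_eq_zero]
  intro y hy
  have h1 : (psi φ).lTensor S y = 0 := by
    have := phi_e0 φ y
    rw [hy, map_zero] at this
    rw [← LinearMap.baseChange_eq_ltensor]
    exact this.symm
  have hex := @Module.Flat.lTensor_exact R S _ _ _ _ (LinearMap.ker (psi φ)) (pb φ) N _ _ _ _ _ _
      (LinearMap.ker (psi φ)).subtype (psi φ) (LinearMap.exact_subtype_ker_map (psi φ))
  obtain ⟨y', rfl⟩ := (hex _).mp h1
  have hK : ∀ κ ∈ LinearMap.ker (psi φ), ∃ n : ℕ, ∀ a ∈ I ^ n, a • κ = 0 := by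
    rintro ⟨⟨n, m'⟩, hp⟩ hκ
    have hn : n = 0 := hκ
    subst hn
    have h0 : φ m' = 0 := by
      have : (1 : S) ⊗ₜ[R] (0 : N) = φ m' := hp
      rw [← this, tmul_zero]
    obtain ⟨k, hk⟩ := hker m' h0
    refine ⟨k, fun a ha => ?_⟩
    apply Subtype.ext
    apply Prod.ext
    · exact smul_zero a
    · change a • m' = 0
      rw [← algebraMap_smul S a m']
      exact hk a ha
  obtain ⟨κ, rfl⟩ := exists_tmul_eq_of_submodule I hq (LinearMap.ker (psi φ)) hK y'
  rw [LinearMap.lTensor_tmul] at hy ⊢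
  rw [e0_tmul, one_smul] at hy
  have h2 : ((LinearMap.ker (psi φ)).subtype κ : N × M').1 = 0 := κ.2
  have h3 : (LinearMap.ker (psi φ)).subtype κ = 0 := by
    apply Subtype.ext
    apply Prod.ext
    · exact h2
    · exact hy
  rw [h3, tmul_zero]

set_option maxHeartbeats 400000 in
include hq hcoker in
theorem e0_surjective : Function.Surjective (e0 φ) := by
  intro m'
  -- the cokernel of `psi` is `I`-power torsion
  have hT : IsTors I (N ⧸ LinearMap.range (psi φ)) := by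
    intro q
    obtain ⟨n, rfl⟩ := Submodule.mkQ_surjective _ q
    obtain ⟨k, hk⟩ := hcoker ((1 : S) ⊗ₜ[R] n)
    refine ⟨k, fun a ha => ?_⟩
    obtain ⟨x, hx⟩ := hk a ha
    rw [← map_smul, Submodule.mkQ_apply, Submodule.Quotient.mk_eq_zero]
    refine ⟨⟨(a • n, x), ?_⟩, rfl⟩
    change (1 : S) ⊗ₜ[R] (a • n) = φ x
    rw [hx, algebraMap_smul, tmul_smul]
  have hb := bijective_mk_of_isTors (S := S) I hq hT
  obtain ⟨q, hq'⟩ := hb.2 ((LinearMap.range (psi φ)).mkQ.lTensor S (φ m'))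
  obtain ⟨n, rfl⟩ := Submodule.mkQ_surjective _ q
  have hex : Function.Exact ((psi φ).lTensor S) ((LinearMap.range (psi φ)).mkQ.lTensor S) :=
    lTensor_exact S (LinearMap.exact_map_mkQ_range (psi φ)) (Submodule.mkQ_surjective _)
  have h1 : (LinearMap.range (psi φ)).mkQ.lTensor S (φ m' - (1 : S) ⊗ₜ[R] n) = 0 := by
    rw [map_sub, ← hq', LinearMap.lTensor_tmul, TensorProduct.mk_apply, sub_self]
  obtain ⟨y₁, hy₁⟩ := (hex _).mp h1
  rw [← LinearMap.baseChange_eq_ltensor, ← phi_e0] at hy₁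
  have h2 : (1 : S) ⊗ₜ[R] n = φ (m' - e0 φ y₁) := by
    rw [map_sub, hy₁]; abel
  refine ⟨y₁ + (1 : S) ⊗ₜ[R] (⟨(n, m' - e0 φ y₁), h2⟩ : pb φ), ?_⟩
  rw [map_add, e0_tmul, one_smul]
  exact add_sub_cancel _ _

end bij

end Groth.Agent.Lib.FormalGlue18
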