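import Groth.Prelude.Def_FSch3
import Groth.Agent.Lib.IdealSheafComap
import Groth.Agent.Lib.IdealComap
import Groth.Agent.Lib.FSchBC24
import Mathlib.AlgebraicGeometry.Morphisms.Smooth

/-!
# Geometric plumbing for local smooth formal liftings
-/

set_option autoImplicit false
universe u

namespace Groth.Agent.Lib.FormalLiftGeom24

open AlgebraicGeometry CategoryTheory Limits

/-- Around a point, a smooth morphism is standard smooth over a prescribed affine open of the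
target. -/
theorem exists_affine_standardSmooth {Y T : Scheme.{u}} (b : Y ⟶ T) [Smooth b]
    (W₀ : T.Opens) (hW₀ : IsAffineOpen W₀) (y : Y) (hy : b y ∈ W₀) (O : Y.Opens) (hyO : y ∈ O) :
    ∃ (V₀ : Y.Opens) (_ : IsAffineOpen V₀) (_ : y ∈ V₀) (_ : V₀ ≤ O) (e : V₀ ≤ b ⁻¹ᵁ W₀),
      (b.appLE W₀ V₀ e).hom.IsStandardSmooth := by
  obtain ⟨_, ⟨V', hV' : IsAffineOpen V', rfl⟩, hyV', hV'le⟩ :=
    Y.isBasis_affineOpens.exists_subset_of_mem_open
      (show y ∈ ((O ⊓ b ⁻¹ᵁ W₀ : Y.Opens) : Set Y) from ⟨hyO, hy⟩) (O ⊓ b ⁻¹ᵁ W₀).isOpen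
  have hV'O : V' ≤ O := fun z hz => (hV'le hz).1
  have e' : V' ≤ b ⁻¹ᵁ W₀ := fun z hz => (hV'le hz).2
  have hsm : (b.appLE W₀ V' e').hom.Smooth := Smooth.smooth_appLE b hW₀ hV' e'
  rw [RingHom.smooth_iff_locally_isStandardSmooth,
    RingHom.locally_iff_isLocalization RingHom.isStandardSmooth_respectsIso] at hsm
  obtain ⟨s, hs, hfs⟩ := hsm
  apply iSup_basicOpen_of_span_eq_top at hs
  have h1 : y ∈ (⨆ i ∈ s, Y.basicOpen i) := hs.symm ▸ hyV'
  have h2 : ∃ r ∈ s, y ∈ Y.basicOpen r := by simpa using h1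
  obtain ⟨r, hr, hyr⟩ := h2
  refine ⟨Y.basicOpen r, hV'.basicOpen r, hyr, (Y.basicOpen_le r).trans hV'O,
    (Y.basicOpen_le r).trans e', ?_⟩
  rw [← b.appLE_map e' (homOfLE (Y.basicOpen_le r)).op]
  have : IsLocalization.Away r Γ(Y, Y.basicOpen r) := hV'.isLocalization_basicOpen r
  exact hfs r hr _


/-- Sections over `W` of the morphism `Spec A ⟶ S` attached to `α : Γ(S, W) ⟶ A`. -/
theorem appLE_SpecMap_fromSpec {S : Scheme.{u}} {W : S.Opens} (hW : IsAffineOpen W)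
    {A : CommRingCat.{u}} (α : Γ(S, W) ⟶ A) (hle : ⊤ ≤ (Spec.map α ≫ hW.fromSpec) ⁻¹ᵁ W) :
    (Spec.map α ≫ hW.fromSpec).appLE W ⊤ hle = α ≫ (Scheme.ΓSpecIso A).inv := by
  apply Spec.map_injective
  rw [← cancel_mono hW.fromSpec,
    hW.SpecMap_appLE_fromSpec (Spec.map α ≫ hW.fromSpec) (isAffineOpen_top _) hle,
    IsAffineOpen.fromSpec_top, Scheme.isoSpec_Spec_inv, Spec.map_comp, Category.assoc]

theorem top_le_preimage {S : Scheme.{u}} {W : S.Opens} (hW : IsAffineOpen W)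
    {T : Scheme.{u}} (t : T ⟶ Spec Γ(S, W)) : ⊤ ≤ (t ≫ hW.fromSpec) ⁻¹ᵁ W := by
  intro z _
  show (t ≫ hW.fromSpec) z ∈ W
  have h : hW.fromSpec (t z) ∈ hW.fromSpec.opensRange := ⟨_, rfl⟩
  rw [hW.opensRange_fromSpec] at h
  exact h

/-- The inverse image of an ideal sheaf along the morphism `Spec A ⟶ S` attached to
`α : Γ(S, W) ⟶ A`. -/
theorem comap_SpecMap_fromSpec {S : Scheme.{u}} (I : S.IdealSheafData) {W : S.Opens}
    (hW : IsAffineOpen W) (A : Type u) [CommRing A] (α : Γ(S, W) ⟶ CommRingCat.of A) :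
    I.comap (Spec.map α ≫ hW.fromSpec) = FSch.idealSpec A ((I.ideal ⟨W, hW⟩).map α.hom) := by
  apply Scheme.IdealSheafData.ext_of_isAffine
  have hle := top_le_preimage hW (Spec.map α)
  rw [Groth.Agent.Lib.IdealComap.ideal_comap I _ W hW ⊤ (isAffineOpen_top _) hle,
    appLE_SpecMap_fromSpec hW α hle, Groth.Agent.Lib.IdealSheafComap.idealSpec_eq_ofIdealTop]
  have hbij : Function.Bijective (Scheme.ΓSpecIso (CommRingCat.of A)).hom.hom :=
    ConcreteCategory.bijective_of_isIso (Scheme.ΓSpecIso (CommRingCat.of A)).hom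
  have hcomp : α.hom = (Scheme.ΓSpecIso (CommRingCat.of A)).hom.hom.comp
      (α ≫ (Scheme.ΓSpecIso (CommRingCat.of A)).inv).hom := by
    rw [← CommRingCat.hom_comp, Category.assoc, Iso.inv_hom_id, Category.comp_id]
  have hr : ∀ K : Ideal Γ(Spec (CommRingCat.of A), ⊤),
      (Scheme.IdealSheafData.ofIdealTop K).ideal ⟨⊤, isAffineOpen_top _⟩ = K := fun K =>
    Scheme.IdealSheafData.equivOfIsAffine.right_inv K
  rw [hr]
  conv_rhs => rw [hcomp, ← Ideal.map_map]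
  rw [Ideal.comap_map_of_bijective _ hbij]

/-- The kernel of `Spec C ⟶ Spec B` is the ideal sheaf of the kernel of `B ⟶ C`. -/
theorem ker_SpecMap (B : Type u) [CommRing B] {C : CommRingCat.{u}} (ψ : CommRingCat.of B ⟶ C) :
    (Spec.map ψ).ker = FSch.idealSpec B (RingHom.ker ψ.hom) := by
  rw [Groth.Agent.Lib.IdealSheafComap.idealSpec_eq_ofIdealTop, Scheme.ker_of_isAffine]
  congr 1
  have h := Scheme.ΓSpecIso_naturality ψ
  have hinj : Function.Injective (Scheme.ΓSpecIso C).hom.hom :=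
    (ConcreteCategory.bijective_of_isIso (Scheme.ΓSpecIso C).hom).1
  ext x
  rw [RingHom.mem_ker, Ideal.mem_comap, RingHom.mem_ker, ← map_eq_zero_iff _ hinj]
  have := congr($(h).hom x)
  simp only [CommRingCat.hom_comp, RingHom.comp_apply] at this
  rw [this]

/-- Naturality of `IsAffineOpen.isoSpec`. -/
theorem resLE_isoSpec_hom {X Y : Scheme.{u}} (f : X ⟶ Y) {U : X.Opens} {V : Y.Opens}
    (hU : IsAffineOpen U) (hV : IsAffineOpen V) (e : U ≤ f ⁻¹ᵁ V) :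
    f.resLE V U e ≫ hV.isoSpec.hom = hU.isoSpec.hom ≫ Spec.map (f.appLE V U e) := by
  rw [← cancel_mono hV.fromSpec, Category.assoc, Category.assoc, hV.isoSpec_hom_fromSpec,
    Scheme.Hom.resLE_comp_ι, hV.SpecMap_appLE_fromSpec f hU e, hU.isoSpec_hom_fromSpec_assoc]


open Groth.Agent.Lib.FSchBC24

instance isClosedImmersion_completionToX {S : Scheme.{u}} (𝒥 : S.IdealSheafData) (n : ℕ) :
    IsClosedImmersion (FSch.completionToX S 𝒥 n) :=
  inferInstanceAs (IsClosedImmersion (𝒥 ^ (n + 1)).subschemeι)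

theorem ker_completionToX {S : Scheme.{u}} (𝒥 : S.IdealSheafData) (n : ℕ) :
    (FSch.completionToX S 𝒥 n).ker = 𝒥 ^ (n + 1) :=
  Scheme.IdealSheafData.ker_subschemeι _

section Sigma

variable {S : Scheme.{u}} (𝒥 : S.IdealSheafData) {W : S.Opens} (hW : IsAffineOpen W)
  (A : Type u) [CommRing A] (α : Γ(S, W) ⟶ CommRingCat.of A)

/-- The ideal `J^(n+1) A` of `A`, for `J` the ideal of `𝒥` over `W`. -/
def K (n : ℕ) : Ideal A := ((𝒥.ideal ⟨W, hW⟩) ^ (n + 1)).map α.hom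

theorem K_succ_le (n : ℕ) : K 𝒥 hW A α (n + 1) ≤ K 𝒥 hW A α n :=
  Ideal.map_mono (Ideal.pow_le_pow_right (Nat.le_succ (n + 1)))

/-- The morphism `Spec A ⟶ S` attached to `α : Γ(S, W) ⟶ A`. -/
noncomputable def gOf : Spec (CommRingCat.of A) ⟶ S := Spec.map α ≫ hW.fromSpec

/-- The closed immersion `Spec (A ⧸ J^(n+1) A) ⟶ Spec A`. -/
noncomputable def qK (n : ℕ) :
    Spec (CommRingCat.of (A ⧸ K 𝒥 hW A α n)) ⟶ Spec (CommRingCat.of A) :=
  Spec.map (CommRingCat.ofHom (Ideal.Quotient.mk (K 𝒥 hW A α n)))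

instance (n : ℕ) : IsClosedImmersion (qK 𝒥 hW A α n) :=
  IsClosedImmersion.spec_of_surjective _ Ideal.Quotient.mk_surjective

theorem ker_qK (n : ℕ) : (qK 𝒥 hW A α n).ker = FSch.idealSpec A (K 𝒥 hW A α n) := rfl

theorem ker_bcFst (n : ℕ) :
    (bcFst (gOf hW A α) 𝒥 n).ker = FSch.idealSpec A (K 𝒥 hW A α n) := by
  have h1 : (bcFst (gOf hW A α) 𝒥 n).ker =
      (FSch.completionToX S 𝒥 n).ker.comap (gOf hW A α) :=
    Scheme.IdealSheafData.ker_fst_of_isClosedImmersion _ _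
  rw [h1, ker_completionToX]
  exact comap_SpecMap_fromSpec (𝒥 ^ (n + 1)) hW A α

/-- The comparison morphism from the `n`-th level of the base change system to
`Spec (A ⧸ J^(n+1) A)`. -/
noncomputable def σ (n : ℕ) :
    (bcSys (gOf hW A α) 𝒥).X n ⟶ Spec (CommRingCat.of (A ⧸ K 𝒥 hW A α n)) :=
  IsClosedImmersion.lift (qK 𝒥 hW A α n) (bcFst (gOf hW A α) 𝒥 n)
    (by rw [ker_qK, ker_bcFst])

@[reassoc (attr := simp)]
theorem σ_qK (n : ℕ) : σ 𝒥 hW A α n ≫ qK 𝒥 hW A α n = bcFst (gOf hW A α) 𝒥 n :=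
  IsClosedImmersion.lift_fac _ _ _

/-- The transition morphism `Spec (A ⧸ J^(n+1) A) ⟶ Spec (A ⧸ J^(n+2) A)`. -/
noncomputable def tK (n : ℕ) :
    Spec (CommRingCat.of (A ⧸ K 𝒥 hW A α n)) ⟶ Spec (CommRingCat.of (A ⧸ K 𝒥 hW A α (n + 1))) :=
  Spec.map (CommRingCat.ofHom (Ideal.Quotient.factor (K_succ_le 𝒥 hW A α n)))

@[reassoc (attr := simp)]
theorem tK_qK (n : ℕ) : tK 𝒥 hW A α n ≫ qK 𝒥 hW A α (n + 1) = qK 𝒥 hW A α n := by
  unfold tK qK
  rw [← Spec.map_comp, ← CommRingCat.ofHom_comp, Ideal.Quotient.factor_comp_mk]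

theorem ι_σ (n : ℕ) :
    (bcSys (gOf hW A α) 𝒥).ι n ≫ σ 𝒥 hW A α (n + 1) = σ 𝒥 hW A α n ≫ tK 𝒥 hW A α n := by
  rw [← cancel_mono (qK 𝒥 hW A α (n + 1)), Category.assoc, Category.assoc, σ_qK, tK_qK, σ_qK,
    bcSys_ι_fst]

end Sigma

/-- The level zero cartesian square: an affine open `V₀` of a scheme over `V(𝒥)` whose ring of
sections is `B ⧸ J B` is the base change of `Spec B ⟶ S`. -/
theorem isPullback_level0 {S : Scheme.{u}} (𝒥 : S.IdealSheafData) {W : S.Opens}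
    (hW : IsAffineOpen W) {Y₀ : Scheme.{u}} (b : Y₀ ⟶ (FSch.completionAlong S 𝒥).X 0)
    {V₀ : Y₀.Opens} (hV₀ : IsAffineOpen V₀)
    (hle : V₀ ≤ (b ≫ FSch.completionToX S 𝒥 0) ⁻¹ᵁ W)
    (B : Type u) [CommRing B] (β : Γ(S, W) ⟶ CommRingCat.of B)
    (ψ : CommRingCat.of B ⟶ Γ(Y₀, V₀))
    (hβψ : β ≫ ψ = (b ≫ FSch.completionToX S 𝒥 0).appLE W V₀ hle)
    (hψ : Function.Surjective ψ.hom) (hker : RingHom.ker ψ.hom = K 𝒥 hW B β 0) :
    IsPullback (hV₀.isoSpec.hom ≫ Spec.map ψ) (V₀.ι ≫ b) (gOf hW B β)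
      (FSch.completionToX S 𝒥 0) := by
  have hci : IsClosedImmersion (Spec.map ψ) := IsClosedImmersion.spec_of_surjective ψ hψ
  have hcomm : (hV₀.isoSpec.hom ≫ Spec.map ψ) ≫ gOf hW B β =
      (V₀.ι ≫ b) ≫ FSch.completionToX S 𝒥 0 := by
    unfold gOf
    rw [Category.assoc, ← Spec.map_comp_assoc, hβψ, hW.SpecMap_appLE_fromSpec _ hV₀ hle,
      hV₀.isoSpec_hom_fromSpec_assoc, Category.assoc]
  refine isPullback_of_isClosedImmersion _ _ _ _ hcomm ?_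
  rw [ker_completionToX, Scheme.Hom.ker_comp_of_isIso, ker_SpecMap, hker]
  exact comap_SpecMap_fromSpec (𝒥 ^ (0 + 1)) hW B β

end Groth.Agent.Lib.FormalLiftGeom24
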