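import Mathlib
import Groth.Agent.Lib.EtaleLiftSurj

/-!
# Lifting standard smooth algebras along surjections, and formal lifting towers

* `exists_standardSmooth_lift`: for a surjection `R → B` and a standard smooth `B`-algebra `B'`,
  there is a standard smooth `R`-algebra `R'` with a surjection `R' → B'` of `R`-algebras whose
  kernel is generated by the kernel of `R → B`.
* `exists_standardSmooth_lift_ringHom`: the same in terms of ring homomorphisms.
* `exists_tower_lift`: for a formally smooth ring map `β : R → B`, a ring map `α : R → A`, an ideal `J`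
  of `R` and a map `g₀ : B → A ⧸ J A` over `R`, there are compatible maps
  `B → A ⧸ J^(n+1) A` over `R`, starting with `g₀`.
-/

set_option autoImplicit false
universe u
open TensorProduct MvPolynomial

namespace Groth.Agent.Lib.SmoothLift24

open Algebra

/-- Standard smooth algebras lift along surjections of rings. -/
theorem exists_standardSmooth_lift {R B B' : Type u} [CommRing R] [CommRing B] [CommRing B']
    [Algebra R B] [Algebra B B'] [Algebra R B'] [IsScalarTower R B B']
    (hsurj : Function.Surjective (algebraMap R B)) [Algebra.IsStandardSmooth B B'] :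
    ∃ (R' : Type u) (_ : CommRing R') (_ : Algebra R R') (ψ : R' →ₐ[R] B'),
      Algebra.IsStandardSmooth R R' ∧ Function.Surjective ψ ∧
      RingHom.ker ψ = (RingHom.ker (algebraMap R B)).map (algebraMap R R') := by
  obtain ⟨ι, σ, _, _, ⟨Q⟩⟩ := (‹Algebra.IsStandardSmooth B B'›).out
  have hmap : Function.Surjective
      (MvPolynomial.map (algebraMap R B) : MvPolynomial ι R → MvPolynomial ι B) :=
    MvPolynomial.map_surjective _ hsurj
  choose v hv using fun s => hmap (Q.relation s)
  let I : Ideal (MvPolynomial ι R) := Ideal.span (Set.range v)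
  let N : PreSubmersivePresentation R (MvPolynomial ι R ⧸ Ideal.span (Set.range v)) ι σ :=
    PreSubmersivePresentation.naive Q.map Q.map_inj
  let φ₀ : MvPolynomial ι R →ₐ[R] B' := MvPolynomial.aeval Q.val
  have hφ₀ : ∀ p, φ₀ p = MvPolynomial.aeval Q.val (MvPolynomial.map (algebraMap R B) p) := by
    intro p
    rw [MvPolynomial.aeval_map_algebraMap]
  have hφ₀I : ∀ a ∈ I, φ₀ a = 0 := by
    intro a ha
    refine Submodule.span_induction (p := fun a _ => φ₀ a = 0) ?_ ?_ ?_ ?_ ha
    · rintro _ ⟨s, rfl⟩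
      rw [hφ₀, hv, Q.aeval_val_relation]
    · simp
    · intro x y _ _ hx hy; rw [map_add, hx, hy, add_zero]
    · intro a x _ hx; rw [smul_eq_mul, map_mul, hx, mul_zero]
  let φ₁ : (MvPolynomial ι R ⧸ Ideal.span (Set.range v)) →ₐ[R] B' :=
    Ideal.Quotient.liftₐ I φ₀ hφ₀I
  have hφ₁ : ∀ p, φ₁ (Ideal.Quotient.mk I p) = φ₀ p := fun p => rfl
  classical
  cases nonempty_fintype σ
  have hjm : (MvPolynomial.map (algebraMap R B)).mapMatrix N.jacobiMatrix = Q.jacobiMatrix := by
    ext i j : 1
    rw [RingHom.mapMatrix_apply, Matrix.map_apply, PreSubmersivePresentation.jacobiMatrix_apply,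
      PreSubmersivePresentation.jacobiMatrix_apply]
    change MvPolynomial.map (algebraMap R B) (MvPolynomial.pderiv (Q.map i) (v j)) = _
    rw [← MvPolynomial.pderiv_map, hv]
  have key : φ₁ N.jacobian = Q.jacobian := by
    rw [PreSubmersivePresentation.jacobian_eq_jacobiMatrix_det,
      PreSubmersivePresentation.jacobian_eq_jacobiMatrix_det]
    change φ₁ (Ideal.Quotient.mk I N.jacobiMatrix.det) = _
    rw [hφ₁, hφ₀, RingHom.map_det, hjm, Algebra.Generators.algebraMap_apply]
  have hunit : ∀ y : Submonoid.powers N.jacobian, IsUnit (φ₁ y) := by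
    rintro ⟨_, n, rfl⟩
    rw [map_pow, key]
    exact Q.jacobian_isUnit.pow n
  let ψ : Localization.Away N.jacobian →ₐ[R] B' := IsLocalization.liftAlgHom hunit
  have hψ : ∀ m, ψ (algebraMap _ _ m) = φ₁ m := fun m => by
    simp [ψ]
  have hss : Algebra.IsStandardSmooth R (Localization.Away N.jacobian) := by
    have := Groth.Agent.Lib.EtaleLiftSurj.isStandardSmooth_localizationAway_jacobian N
      (Localization.Away N.jacobian)
    exact Algebra.IsStandardSmoothOfRelativeDimension.isStandardSmooth N.dimension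
  refine ⟨Localization.Away N.jacobian, inferInstance, inferInstance, ψ, hss, ?_, ?_⟩
  · intro b'
    obtain ⟨q, rfl⟩ := Q.aeval_val_surjective b'
    obtain ⟨p, rfl⟩ := hmap q
    exact ⟨algebraMap _ _ (Ideal.Quotient.mk I p), by rw [hψ, hφ₁, hφ₀]⟩
  · apply le_antisymm
    · intro x hx
      rw [RingHom.mem_ker] at hx
      obtain ⟨⟨m, ⟨_, n, rfl⟩⟩, hx'⟩ := IsLocalization.surj (Submonoid.powers N.jacobian) x
      have hm : φ₁ m = 0 := by
        rw [← hψ, ← hx', map_mul, hx, zero_mul]
      have hmJ : m ∈ (RingHom.ker (algebraMap R B)).map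
          (algebraMap R (MvPolynomial ι R ⧸ Ideal.span (Set.range v))) := by
        obtain ⟨p, rfl⟩ := Ideal.Quotient.mk_surjective m
        rw [hφ₁, hφ₀] at hm
        have h1 : MvPolynomial.map (algebraMap R B) p ∈ Q.ker := by
          rw [Q.ker_eq_ker_aeval_val]; exact hm
        rw [← Q.span_range_relation_eq_ker] at h1
        have h2 : Ideal.span (Set.range Q.relation) =
            Ideal.map (MvPolynomial.map (algebraMap R B)) I := by
          rw [Ideal.map_span, ← Set.range_comp]
          congr 1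
          ext s
          simp [hv]
        rw [h2, Ideal.mem_map_iff_of_surjective _ hmap] at h1
        obtain ⟨p₀, hp₀, hp₀'⟩ := h1
        have h3 : p - p₀ ∈ RingHom.ker (MvPolynomial.map (algebraMap R B) :
            MvPolynomial ι R →+* MvPolynomial ι B) := by
          rw [RingHom.mem_ker, map_sub, hp₀', sub_self]
        rw [MvPolynomial.ker_map] at h3
        have h4 : Ideal.Quotient.mk I p = Ideal.Quotient.mk I (p - p₀) := by
          rw [map_sub, Ideal.Quotient.eq_zero_iff_mem.2 hp₀, sub_zero]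
        rw [h4]
        have h5 := Ideal.mem_map_of_mem (Ideal.Quotient.mk I) h3
        rwa [Ideal.map_map] at h5
      have h6 : algebraMap _ (Localization.Away N.jacobian) m ∈
          (RingHom.ker (algebraMap R B)).map (algebraMap R (Localization.Away N.jacobian)) := by
        have := Ideal.mem_map_of_mem (algebraMap _ (Localization.Away N.jacobian)) hmJ
        rwa [Ideal.map_map, ← IsScalarTower.algebraMap_eq] at this
      have hu : IsUnit (algebraMap _ (Localization.Away N.jacobian) (N.jacobian ^ n)) :=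
        IsLocalization.map_units _ (⟨_, n, rfl⟩ : Submonoid.powers N.jacobian)
      rw [← hx'] at h6
      exact (Ideal.mul_unit_mem_iff_mem _ hu).1 h6
    · rw [Ideal.map_le_iff_le_comap]
      intro j hj
      rw [Ideal.mem_comap, RingHom.mem_ker, AlgHom.commutes, IsScalarTower.algebraMap_apply R B B',
        (RingHom.mem_ker).1 hj, map_zero]

/-- Ring homomorphism form of `exists_standardSmooth_lift`. -/
theorem exists_standardSmooth_lift_ringHom {R R₀ B₀ : Type u} [CommRing R] [CommRing R₀]
    [CommRing B₀] (ρ : R →+* R₀) (hρ : Function.Surjective ρ) (φ₀ : R₀ →+* B₀)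
    (hφ₀ : φ₀.IsStandardSmooth) :
    ∃ (B : Type u) (_ : CommRing B) (β : R →+* B) (ψ : B →+* B₀),
      β.IsStandardSmooth ∧ ψ.comp β = φ₀.comp ρ ∧ Function.Surjective ψ ∧
      RingHom.ker ψ = (RingHom.ker ρ).map β := by
  letI : Algebra R R₀ := ρ.toAlgebra
  letI : Algebra R₀ B₀ := φ₀.toAlgebra
  letI : Algebra R B₀ := (φ₀.comp ρ).toAlgebra
  haveI : IsScalarTower R R₀ B₀ := IsScalarTower.of_algebraMap_eq fun _ => rfl
  haveI : Algebra.IsStandardSmooth R₀ B₀ := hφ₀
  obtain ⟨B, _, _, ψ, hss, hψs, hψk⟩ := exists_standardSmooth_lift (R := R) (B := R₀) (B' := B₀) hρ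
  refine ⟨B, inferInstance, algebraMap R B, ψ.toRingHom, ?_, ?_, hψs, hψk⟩
  · rw [RingHom.isStandardSmooth_algebraMap]
    exact hss
  · ext r
    exact ψ.commutes r

/-- A formally smooth ring map lifts through the `J`-adic tower of any `R`-algebra. -/
theorem exists_tower_lift {R A B : Type u} [CommRing R] [CommRing A] [CommRing B]
    (β : R →+* B) (hβ : β.FormallySmooth) (α : R →+* A) (J : Ideal R)
    (g₀ : B →+* A ⧸ (J ^ (0 + 1)).map α)
    (hg₀ : g₀.comp β = (Ideal.Quotient.mk ((J ^ (0 + 1)).map α)).comp α) :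
    ∃ g : ∀ n : ℕ, B →+* A ⧸ (J ^ (n + 1)).map α,
      g 0 = g₀ ∧ (∀ n, (g n).comp β = (Ideal.Quotient.mk ((J ^ (n + 1)).map α)).comp α) ∧
      ∀ n, (Ideal.Quotient.factor
        (Ideal.map_mono (Ideal.pow_le_pow_right (Nat.le_succ (n + 1))))).comp (g (n + 1)) = g n := by
  letI : Algebra R A := α.toAlgebra
  letI : Algebra R B := β.toAlgebra
  haveI : Algebra.FormallySmooth R B := hβ
  have hKle : ∀ n : ℕ, (J ^ (n + 1 + 1)).map α ≤ (J ^ (n + 1)).map α := fun n =>
    Ideal.map_mono (Ideal.pow_le_pow_right (Nat.le_succ (n + 1)))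
  have step : ∀ (n : ℕ) (h : B →ₐ[R] A ⧸ (J ^ (n + 1)).map α),
      ∃ h' : B →ₐ[R] A ⧸ (J ^ (n + 1 + 1)).map α,
        (Ideal.Quotient.factorₐ R (hKle n)).comp h' = h := by
    intro n h
    have hsurj : Function.Surjective (Ideal.Quotient.factorₐ R (hKle n)) :=
      Ideal.Quotient.factor_surjective (hKle n)
    have hnil : IsNilpotent (RingHom.ker
        (Ideal.Quotient.factorₐ R (hKle n) :
          A ⧸ (J ^ (n + 1 + 1)).map α →+* A ⧸ (J ^ (n + 1)).map α)) := by
      refine ⟨2, ?_⟩
      rw [Ideal.Quotient.coe_factorₐ, Ideal.Quotient.factor_ker, ← Ideal.map_pow, ← Ideal.map_pow,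
        Ideal.zero_eq_bot, Ideal.map_eq_bot_iff_le_ker, Ideal.mk_ker]
      refine Ideal.map_mono ?_
      rw [← pow_mul]
      exact Ideal.pow_le_pow_right (by omega)
    exact ⟨Algebra.FormallySmooth.liftOfSurjective h _ hsurj hnil,
      Algebra.FormallySmooth.comp_liftOfSurjective _ _ _ _⟩
  let g₀' : B →ₐ[R] A ⧸ (J ^ (0 + 1)).map α :=
    { g₀ with commutes' := fun r => congr($hg₀ r) }
  let G : ∀ n : ℕ, B →ₐ[R] A ⧸ (J ^ (n + 1)).map α := fun n =>
    Nat.rec g₀' (fun n h => (step n h).choose) n
  have hG : ∀ n, (Ideal.Quotient.factorₐ R (hKle n)).comp (G (n + 1)) = G n := fun n =>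
    (step n (G n)).choose_spec
  refine ⟨fun n => (G n).toRingHom, rfl, fun n => ?_, fun n => ?_⟩
  · ext r
    exact (G n).commutes r
  · ext b
    exact congr($(hG n) b)

end Groth.Agent.Lib.SmoothLift24
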