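import Groth.Agent.Lib.FormalLiftGeom24
import Groth.Agent.Lib.SmoothLift24

/-!
# Local smooth formal liftings of a morphism of smooth schemes: the affine core
-/

set_option autoImplicit false
universe u

namespace Groth.Agent.Lib.FormalLiftMain24

open AlgebraicGeometry CategoryTheory Limits
open Groth.Agent.Lib.FSchBC24 Groth.Agent.Lib.FormalLiftGeom24 Groth.Agent.Lib.SmoothLift24

/-- An algebraic helper: a map into the quotient through a surjection with prescribed kernel. -/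
theorem exists_quot_factor {A A₀ B : Type u} [CommRing A] [CommRing A₀] [CommRing B]
    (ψA : A →+* A₀) (hψA : Function.Surjective ψA) (K₀ : Ideal A) (hK₀ : RingHom.ker ψA = K₀)
    (h : B →+* A₀) :
    ∃ (θ : A ⧸ K₀ →+* A₀) (g₀ : B →+* A ⧸ K₀), θ.comp (Ideal.Quotient.mk K₀) = ψA ∧
      θ.comp g₀ = h ∧ Function.Injective θ := by
  subst hK₀
  let e := RingHom.quotientKerEquivOfSurjective hψA
  refine ⟨e.toRingHom, e.symm.toRingHom.comp h, ?_, ?_, e.injective⟩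
  · ext x
    exact RingHom.quotientKerEquivOfSurjective_apply_mk hψA x
  · ext x
    exact e.apply_symm_apply (h x)

theorem smooth_gOf {S : Scheme.{u}} {W : S.Opens} (hW : IsAffineOpen W) (B : Type u)
    [CommRing B] (β : Γ(S, W) ⟶ CommRingCat.of B) (hβ : β.hom.IsStandardSmooth) :
    Smooth (gOf hW B β) := by
  have h1 : Smooth (Spec.map β) := by
    rw [HasRingHomProperty.Spec_iff (P := @Smooth)]
    exact hβ.smooth
  unfold gOf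
  infer_instance

set_option maxHeartbeats 1600000 in
/-- The affine core of the local smooth formal lifting. -/
theorem exists_formal_lifting {S : Scheme.{u}} (𝒥 : S.IdealSheafData) {X₀ Y₀ : Scheme.{u}}
    (a : X₀ ⟶ (FSch.completionAlong S 𝒥).X 0) (b : Y₀ ⟶ (FSch.completionAlong S 𝒥).X 0)
    (f : X₀ ⟶ Y₀) (w : f ≫ b = a) {W : S.Opens} (hW : IsAffineOpen W)
    {U₀ : X₀.Opens} {V₀ : Y₀.Opens} (hU₀ : IsAffineOpen U₀) (hV₀ : IsAffineOpen V₀)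
    (hUV : U₀ ≤ f ⁻¹ᵁ V₀)
    (hVW : V₀ ≤ b ⁻¹ᵁ (FSch.completionToX S 𝒥 0 ⁻¹ᵁ W))
    (hUW : U₀ ≤ a ⁻¹ᵁ (FSch.completionToX S 𝒥 0 ⁻¹ᵁ W))
    (hssV : (b.appLE (FSch.completionToX S 𝒥 0 ⁻¹ᵁ W) V₀ hVW).hom.IsStandardSmooth)
    (hssU : (a.appLE (FSch.completionToX S 𝒥 0 ⁻¹ᵁ W) U₀ hUW).hom.IsStandardSmooth) :
    ∃ (𝔘 𝔙 : FSch.Sys.{u}) (p : 𝔘 ⟶ FSch.completionAlong S 𝒥) (q : 𝔙 ⟶ FSch.completionAlong S 𝒥)
      (Φ : 𝔘 ⟶ 𝔙) (eU : 𝔘.X 0 ≅ U₀.toScheme) (eV : 𝔙.X 0 ≅ V₀.toScheme),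
      Φ ≫ q = p ∧ FSch.IsAdicHom p ∧ FSch.IsAdicHom q ∧
      (∀ n : ℕ, AlgebraicGeometry.Smooth ((p : FSch.Hom 𝔘 _).app n)) ∧
      (∀ n : ℕ, AlgebraicGeometry.Smooth ((q : FSch.Hom 𝔙 _).app n)) ∧
      eU.hom ≫ U₀.ι ≫ a = (p : FSch.Hom 𝔘 _).app 0 ∧
      eV.hom ≫ V₀.ι ≫ b = (q : FSch.Hom 𝔙 _).app 0 ∧
      (Φ : FSch.Hom 𝔘 𝔙).app 0 ≫ eV.hom = eU.hom ≫ f.resLE V₀ U₀ hUV := by
  set c₀ := FSch.completionToX S 𝒥 0 with hc₀
  -- the surjection on sections over `W`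
  have hρ : Function.Surjective (c₀.app W).hom := c₀.app_surjective W hW
  have hkρ : RingHom.ker (c₀.app W).hom = (𝒥.ideal ⟨W, hW⟩) ^ (0 + 1) := by
    have h1 := Scheme.Hom.ker_apply c₀ ⟨W, hW⟩
    rw [hc₀, ker_completionToX] at h1
    exact h1.symm
  -- standard smooth lifts
  obtain ⟨B, _, β, ψB, hβ, hβψ, hψBs, hψBk⟩ :=
    exists_standardSmooth_lift_ringHom (c₀.app W).hom hρ _ hssV
  obtain ⟨A, _, α, ψA, hα, hαψ, hψAs, hψAk⟩ :=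
    exists_standardSmooth_lift_ringHom (c₀.app W).hom hρ _ hssU
  let β' : Γ(S, W) ⟶ CommRingCat.of B := CommRingCat.ofHom β
  let α' : Γ(S, W) ⟶ CommRingCat.of A := CommRingCat.ofHom α
  let ψB' : CommRingCat.of B ⟶ Γ(Y₀, V₀) := CommRingCat.ofHom ψB
  let ψA' : CommRingCat.of A ⟶ Γ(X₀, U₀) := CommRingCat.ofHom ψA
  have hleV : V₀ ≤ (b ≫ c₀) ⁻¹ᵁ W := hVW
  have hleU : U₀ ≤ (a ≫ c₀) ⁻¹ᵁ W := hUW
  have hβψ' : β' ≫ ψB' = (b ≫ c₀).appLE W V₀ hleV := by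
    rw [Scheme.Hom.comp_appLE]
    ext r
    exact congr($hβψ r)
  have hαψ' : α' ≫ ψA' = (a ≫ c₀).appLE W U₀ hleU := by
    rw [Scheme.Hom.comp_appLE]
    ext r
    exact congr($hαψ r)
  have hkB : RingHom.ker ψB'.hom = K 𝒥 hW B β' 0 := by
    show RingHom.ker ψB = _
    rw [hψBk, hkρ]; rfl
  have hkA : RingHom.ker ψA'.hom = K 𝒥 hW A α' 0 := by
    show RingHom.ker ψA = _
    rw [hψAk, hkρ]; rfl
  -- level zero cartesian squares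
  have hPV := isPullback_level0 𝒥 hW b hV₀ hleV B β' ψB' hβψ' hψBs hkB
  have hPU := isPullback_level0 𝒥 hW a hU₀ hleU A α' ψA' hαψ' hψAs hkA
  -- the map `B → A ⧸ J A` induced by `f`
  obtain ⟨θ, g₀, hθ, hθg₀, hθinj⟩ := exists_quot_factor ψA hψAs (K 𝒥 hW A α' 0) hkA
    ((f.appLE V₀ U₀ hUV).hom.comp ψB)
  have hfab : (b.appLE (c₀ ⁻¹ᵁ W) V₀ hVW) ≫ f.appLE V₀ U₀ hUV = a.appLE (c₀ ⁻¹ᵁ W) U₀ hUW := by
    rw [Scheme.Hom.appLE_comp_appLE]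
    subst w
    rfl
  have hg₀ : g₀.comp β = (Ideal.Quotient.mk (K 𝒥 hW A α' 0)).comp α := by
    apply RingHom.ext
    intro r
    apply hθinj
    have e1 : θ (g₀ (β r)) = (f.appLE V₀ U₀ hUV).hom (ψB (β r)) := congr($hθg₀ (β r))
    have e2 : θ (Ideal.Quotient.mk (K 𝒥 hW A α' 0) (α r)) = ψA (α r) := congr($hθ (α r))
    have e3 : ψB (β r) = (b.appLE (c₀ ⁻¹ᵁ W) V₀ hVW).hom ((c₀.app W).hom r) := congr($hβψ r)
    have e4 : ψA (α r) = (a.appLE (c₀ ⁻¹ᵁ W) U₀ hUW).hom ((c₀.app W).hom r) := congr($hαψ r)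
    have e5 := congr($(hfab).hom ((c₀.app W).hom r))
    simp only [CommRingCat.hom_comp, RingHom.comp_apply] at e5
    simp only [RingHom.comp_apply]
    rw [e1, e2, e3, e4, e5]
  -- the tower of lifts
  obtain ⟨g, hg0, hgβ, hgfac⟩ := exists_tower_lift β hβ.smooth.formallySmooth α (𝒥.ideal ⟨W, hW⟩)
    g₀ hg₀
  let g' : ∀ n : ℕ, CommRingCat.of B ⟶ CommRingCat.of (A ⧸ K 𝒥 hW A α' n) := fun n =>
    CommRingCat.ofHom (g n)
  let φ : ∀ n : ℕ, (bcSys (gOf hW A α') 𝒥).X n ⟶ Spec (CommRingCat.of B) := fun n =>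
    σ 𝒥 hW A α' n ≫ Spec.map (g' n)
  have h1 : ∀ n, φ n ≫ gOf hW B β' = bcFst (gOf hW A α') 𝒥 n ≫ gOf hW A α' := by
    intro n
    have e1 : β' ≫ g' n = α' ≫ CommRingCat.ofHom (Ideal.Quotient.mk (K 𝒥 hW A α' n)) := by
      ext r
      exact congr($(hgβ n) r)
    show (σ 𝒥 hW A α' n ≫ Spec.map (g' n)) ≫ Spec.map β' ≫ hW.fromSpec =
      bcFst (gOf hW A α') 𝒥 n ≫ Spec.map α' ≫ hW.fromSpec
    rw [Category.assoc, ← Spec.map_comp_assoc, e1, Spec.map_comp_assoc, ← σ_qK 𝒥 hW A α' n,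
      Category.assoc]
    rfl
  have h2 : ∀ n, (bcSys (gOf hW A α') 𝒥).ι n ≫ φ (n + 1) = φ n := by
    intro n
    have e1 : g' (n + 1) ≫ CommRingCat.ofHom (Ideal.Quotient.factor (K_succ_le 𝒥 hW A α' n)) =
        g' n := by
      ext r
      exact congr($(hgfac n) r)
    show (bcSys (gOf hW A α') 𝒥).ι n ≫ σ 𝒥 hW A α' (n + 1) ≫ Spec.map (g' (n + 1)) =
      σ 𝒥 hW A α' n ≫ Spec.map (g' n)
    rw [← Category.assoc, ι_σ, Category.assoc, ← e1, Spec.map_comp]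
    rfl
  haveI : Smooth (gOf hW B β') := smooth_gOf hW B β' hβ
  haveI : Smooth (gOf hW A α') := smooth_gOf hW A α' hα
  let eU : (bcSys (gOf hW A α') 𝒥).X 0 ≅ U₀.toScheme :=
    (isPullback_bc (gOf hW A α') 𝒥 0).isoIsPullback _ _ hPU
  let eV : (bcSys (gOf hW B β') 𝒥).X 0 ≅ V₀.toScheme :=
    (isPullback_bc (gOf hW B β') 𝒥 0).isoIsPullback _ _ hPV
  have heU1 : eU.hom ≫ hU₀.isoSpec.hom ≫ Spec.map ψA' = bcFst (gOf hW A α') 𝒥 0 :=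
    IsPullback.isoIsPullback_hom_fst _ _ _ _
  have heU2 : eU.hom ≫ U₀.ι ≫ a = bcSnd (gOf hW A α') 𝒥 0 :=
    IsPullback.isoIsPullback_hom_snd _ _ _ _
  have heV1 : eV.hom ≫ hV₀.isoSpec.hom ≫ Spec.map ψB' = bcFst (gOf hW B β') 𝒥 0 :=
    IsPullback.isoIsPullback_hom_fst _ _ _ _
  have heV2 : eV.hom ≫ V₀.ι ≫ b = bcSnd (gOf hW B β') 𝒥 0 :=
    IsPullback.isoIsPullback_hom_snd _ _ _ _
  refine ⟨bcSys (gOf hW A α') 𝒥, bcSys (gOf hW B β') 𝒥, bcHom _ 𝒥, bcHom _ 𝒥,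
    bcLift (gOf hW A α') φ h1 h2, eU, eV, bcLift_comp_bcHom _ φ h1 h2, isAdicHom_bcHom _ 𝒥,
    isAdicHom_bcHom _ 𝒥, fun n => smooth_bcHom_app _ 𝒥 n, fun n => smooth_bcHom_app _ 𝒥 n,
    heU2, heV2, ?_⟩
  apply hPV.hom_ext
  · -- first projection
    let θ' : CommRingCat.of (A ⧸ K 𝒥 hW A α' 0) ⟶ Γ(X₀, U₀) := CommRingCat.ofHom θ
    have hσ : σ 𝒥 hW A α' 0 = eU.hom ≫ hU₀.isoSpec.hom ≫ Spec.map θ' := by
      rw [← cancel_mono (qK 𝒥 hW A α' 0), σ_qK, Category.assoc, Category.assoc]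
      have e1 : CommRingCat.ofHom (Ideal.Quotient.mk (K 𝒥 hW A α' 0)) ≫ θ' = ψA' := by
        ext r
        exact congr($hθ r)
      unfold qK
      rw [← Spec.map_comp, e1, heU1]
    have e2 : g' 0 ≫ θ' = ψB' ≫ f.appLE V₀ U₀ hUV := by
      ext r
      show θ (g 0 r) = (f.appLE V₀ U₀ hUV).hom (ψB r)
      rw [hg0]
      exact congr($hθg₀ r)
    rw [Category.assoc, heV1, bcLift_app_fst, Category.assoc,
      ← Category.assoc (f.resLE V₀ U₀ hUV), resLE_isoSpec_hom f hU₀ hV₀ hUV, Category.assoc,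
      ← Spec.map_comp, ← e2, Spec.map_comp]
    show σ 𝒥 hW A α' 0 ≫ Spec.map (g' 0) = _
    rw [hσ, Category.assoc, Category.assoc]
  · -- second projection
    rw [Category.assoc, Category.assoc, heV2, bcLift_app_snd, Scheme.Hom.resLE_comp_ι_assoc, w,
      heU2]

end Groth.Agent.Lib.FormalLiftMain24
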