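import Mathlib.AlgebraicGeometry.Morphisms.Proper
import Mathlib.AlgebraicGeometry.Morphisms.FlatDescent
import Mathlib.AlgebraicGeometry.Morphisms.LocalFlatDescent
import Mathlib.AlgebraicGeometry.Morphisms.Immersion

set_option autoImplicit false
open CategoryTheory CategoryTheory.Limits AlgebraicGeometry MorphismProperty
universe u

namespace Groth.Agent.Lib.ProperDescent

/-- The morphism property of having closed range. -/
def closedRange : MorphismProperty Scheme.{u} := fun _ _ f => IsClosed (Set.range f.base)

lemma closedRange_iff {X Y : Scheme.{u}} (f : X ⟶ Y) :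
    closedRange f ↔ IsClosed (Set.range f.base) := Iff.rfl

instance closedRange_respectsIso : (closedRange.{u}).RespectsIso := by
  apply MorphismProperty.RespectsIso.mk
  · intro X Y Z e f hf
    rw [closedRange_iff] at hf ⊢
    have : Set.range (e.hom ≫ f).base = Set.range f.base := by
      rw [Scheme.Hom.comp_base, TopCat.coe_comp, Set.range_comp]
      have : Set.range e.hom.base = Set.univ := by
        rw [Set.range_eq_univ]
        exact e.hom.surjective
      rw [this, Set.image_univ]
    rw [this]
    exact hf
  · intro X Y Z e f hf
    rw [closedRange_iff] at hf ⊢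
    rw [Scheme.Hom.comp_base, TopCat.coe_comp, Set.range_comp]
    exact (e.hom.homeomorph.isClosedMap) _ hf

instance closedRange_descendsAlong :
    (closedRange.{u}).DescendsAlong (@Surjective ⊓ @Flat ⊓ @QuasiCompact) := by
  apply DescendsAlong.mk'
  intro X Y Z f g _ hf hfst
  obtain ⟨⟨hs, hfl⟩, hqc⟩ := hf
  rw [closedRange_iff] at hfst ⊢
  have h1 : Set.range (pullback.fst f g).base = f.base ⁻¹' Set.range g.base :=
    Scheme.Pullback.range_fst f g
  rw [h1] at hfst
  exact (Flat.isQuotientMap_of_surjective f).isClosed_preimage.mp hfst

lemma isSeparated_iff_diagonal_closedRange {X Y : Scheme.{u}} (f : X ⟶ Y) :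
    IsSeparated f ↔ (closedRange.{u}).diagonal f := by
  rw [isSeparated_iff]
  constructor
  · intro h
    exact (pullback.diagonal f).isClosedEmbedding.isClosed_range
  · intro h
    exact IsClosedImmersion.of_isPreimmersion _ h

instance isSeparated_descendsAlong :
    DescendsAlong @IsSeparated.{u} (@Surjective ⊓ @Flat ⊓ @QuasiCompact) := by
  have : @IsSeparated = (closedRange.{u}).diagonal := by
    ext X Y f
    exact isSeparated_iff_diagonal_closedRange f
  rw [this]
  infer_instance

instance isProper_descendsAlong :
    DescendsAlong @IsProper.{u} (@Surjective ⊓ @Flat ⊓ @QuasiCompact) := by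
  rw [isProper_eq]
  infer_instance

/-- If `k` is a surjective closed immersion and `k ≫ q` is separated, then `q` is separated. -/
lemma isSeparated_of_comp_surjective_closedImmersion {T W S : Scheme.{u}} (k : T ⟶ W) (q : W ⟶ S)
    [IsClosedImmersion k] [Surjective k] [IsSeparated (k ≫ q)] : IsSeparated q := by
  rw [isSeparated_iff_diagonal_closedRange]
  change IsClosed (Set.range (pullback.diagonal q).base)
  let kk : pullback (k ≫ q) (k ≫ q) ⟶ pullback q q :=
    pullback.map (k ≫ q) (k ≫ q) q q k k (𝟙 S) (by simp) (by simp)
  have hkk : IsClosedImmersion kk :=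
    MorphismProperty.pullbackMap (P := @IsClosedImmersion) (f := k ≫ q) (g := k ≫ q)
      (f' := q) (g' := q) (i₁ := k) (i₂ := k) inferInstance inferInstance rfl rfl
  have hcomm : pullback.diagonal (k ≫ q) ≫ kk = k ≫ pullback.diagonal q := by
    apply pullback.hom_ext
    · simp only [kk, Category.assoc]
      rw [pullback.lift_fst, pullback.diagonal_fst_assoc, pullback.diagonal_fst, Category.comp_id]
    · simp only [kk, Category.assoc]
      rw [pullback.lift_snd, pullback.diagonal_snd_assoc, pullback.diagonal_snd, Category.comp_id]
  have h1 : Set.range (pullback.diagonal q).base = Set.range (k ≫ pullback.diagonal q).base := by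
    rw [Scheme.Hom.comp_base, TopCat.coe_comp, Set.range_comp]
    have : Set.range k.base = Set.univ := by
      rw [Set.range_eq_univ]
      exact k.surjective
    rw [this, Set.image_univ]
  rw [h1, ← hcomm, Scheme.Hom.comp_base, TopCat.coe_comp, Set.range_comp]
  exact kk.isClosedEmbedding.isClosedMap _
    (pullback.diagonal (k ≫ q)).isClosedEmbedding.isClosed_range

/-- If `k` is a surjective closed immersion, `q` is locally of finite type and `k ≫ q` is proper,
then `q` is proper. -/
lemma isProper_of_comp_surjective_closedImmersion {T W S : Scheme.{u}} (k : T ⟶ W) (q : W ⟶ S)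
    [IsClosedImmersion k] [Surjective k] [LocallyOfFiniteType q] [IsProper (k ≫ q)] :
    IsProper q := by
  have : IsSeparated q := isSeparated_of_comp_surjective_closedImmersion k q
  have : UniversallyClosed q := UniversallyClosed.of_comp_surjective k q
  exact ⟨⟩

/-- fpqc descent of properness, in the form used most often. -/
lemma isProper_of_pullback_snd {W Y Y' : Scheme.{u}} (p : W ⟶ Y) (g : Y' ⟶ Y)
    [QuasiCompact g] [Flat g] [Surjective g] (h : IsProper (pullback.snd p g)) : IsProper p :=
  MorphismProperty.of_pullback_snd_of_descendsAlong (P := @IsProper)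
    (Q := @Surjective ⊓ @Flat ⊓ @QuasiCompact) (f := p) (g := g)
    ⟨⟨inferInstance, inferInstance⟩, inferInstance⟩ h

end Groth.Agent.Lib.ProperDescent
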