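import Groth.Agent.Lib.ZClos5S
import Groth.Agent.Lib.FiniteDescentFamily
import Groth.Agent.Lib.UnitBaseChange
import Groth.Agent.Lib.SupportTensor
import Groth.Agent.Lib.H90CohRestrict

/-!
# ZClos cluster, part T: coherence of the Z-closure and flat base change (S5854)

* `finite_tensor_of_finite_pullback_sections`
* `isCoh_pullback` : the pullback of a coherent module is coherent
* `isCoh_of_isCoh_pullback` : fpqc descent of coherence for quasi-coherent modules
-/

set_option autoImplicit false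
set_option linter.style.haveILetI false
universe u

open CategoryTheory CategoryTheory.Limits AlgebraicGeometry TopologicalSpace Opposite TensorProduct

namespace Groth.Agent.Lib.ZClos5

section Descent

open Groth.Agent.Lib.UnitBaseChange

variable {X X' : Scheme.{u}} (f : X' ⟶ X)

/-- the pullback of a coherent module is coherent -/
theorem isCoh_pullback (G : X.Modules) (hG : Coh.IsCoh G) :
    Coh.IsCoh ((Scheme.Modules.pullback f).obj G) := by
  haveI : G.IsQuasicoherent := hG.1
  haveI : G.IsFiniteType := hG.2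
  exact ⟨inferInstance, Groth.Agent.Lib.SupportTensor.isFiniteType_pullback f G⟩

/-- finiteness of the sections of `f^*G` over an affine `U ≤ f⁻¹V` gives finiteness of the base
change of `Γ(G, V)` -/
theorem finite_tensor_of_finite_pullback_sections (G : X.Modules) [G.IsQuasicoherent]
    {U : X'.Opens} {V : X.Opens} (hU : IsAffineOpen U) (hV : IsAffineOpen V) (hUV : U ≤ f ⁻¹ᵁ V)
    (hfin : Module.Finite Γ(X', U) Γ((Scheme.Modules.pullback f).obj G, U)) :
    letI : Algebra Γ(X, V) Γ(X', U) := (f.appLE V U hUV).hom.toAlgebra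
    Module.Finite Γ(X', U) (Γ(X', U) ⊗[Γ(X, V)] Γ(G, V)) := by
  letI : Algebra Γ(X, V) Γ(X', U) := (f.appLE V U hUV).hom.toAlgebra
  letI : Module Γ(X, V) Γ((Scheme.Modules.pullback f).obj G, U) :=
    Module.compHom _ (f.appLE V U hUV).hom
  haveI : IsScalarTower Γ(X, V) Γ(X', U) Γ((Scheme.Modules.pullback f).obj G, U) :=
    .of_algebraMap_smul fun _ _ => rfl
  have hbc : IsBaseChange Γ(X', U) (unitSec f G hUV) := isBaseChange_unitSec f G hU hV hUV
  exact Module.Finite.equiv hbc.equiv.symm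

/-- **fpqc descent of coherence**: a quasi-coherent module whose pullback along a flat,
surjective, quasi-compact morphism is coherent is coherent -/
theorem isCoh_of_isCoh_pullback [Flat f] [Surjective f] [QuasiCompact f]
    (G : X.Modules) [G.IsQuasicoherent]
    (hN : Coh.IsCoh ((Scheme.Modules.pullback f).obj G)) : Coh.IsCoh G := by
  rw [Groth.Agent.Lib.H90OXModAffineFT.isCoh_iff_forall_affine]
  refine ⟨inferInstance, fun V => ?_⟩
  have hc : IsCompact ((f ⁻¹ᵁ V.1 : X'.Opens) : Set X') :=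
    QuasiCompact.isCompact_preimage (f := f) _ V.1.isOpen V.2.isCompact
  obtain ⟨s, hs, hcover⟩ := isCompact_iff_finite_and_eq_biUnion_affineOpens.mp hc
  haveI : Finite s := hs.to_subtype
  have hle : ∀ i : s, (i.1 : X'.Opens) ≤ f ⁻¹ᵁ V.1 := fun i => by
    rw [hcover]; exact le_iSup₂ (f := fun (j : X'.affineOpens) (_ : j ∈ s) => (j : X'.Opens)) i.1 i.2
  letI : ∀ i : s, Algebra Γ(X, V.1) Γ(X', (i.1 : X'.Opens)) :=
    fun i => (f.appLE V.1 i.1.1 (hle i)).hom.toAlgebra
  haveI : ∀ i : s, Module.Flat Γ(X, V.1) Γ(X', (i.1 : X'.Opens)) :=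
    fun i => f.flat_appLE V.2 i.1.2 (hle i)
  refine Groth.Agent.Lib.FiniteDescentFamily.finite_of_family
    (fun i : s => Γ(X', (i.1 : X'.Opens))) ?_ ?_
  · intro p
    let y : V.1 := V.2.isoSpec.inv p
    have hy : V.2.primeIdealOf y = p := by
      show V.2.isoSpec.hom (V.2.isoSpec.inv p) = p
      rw [← Scheme.Hom.comp_apply, Iso.inv_hom_id]
      rfl
    obtain ⟨x', hx'⟩ := f.surjective y.1
    have hx'V : x' ∈ f ⁻¹ᵁ V.1 := by
      show f x' ∈ V.1
      rw [hx']; exact y.2
    rw [hcover] at hx'V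
    obtain ⟨i, hi⟩ := Opens.mem_iSup.mp hx'V
    obtain ⟨his, hxi⟩ := Opens.mem_iSup.mp hi
    refine ⟨⟨i, his⟩, i.2.primeIdealOf ⟨x', hxi⟩, ?_⟩
    have h1 := IsAffineOpen.comap_primeIdealOf_appLE (f := f) V.1 V.2 i.1 i.2 (hle ⟨i, his⟩) hxi
    have h2 : V.2.primeIdealOf ⟨f x', (hle ⟨i, his⟩) hxi⟩ = p := by
      rw [← hy]
      congr 1
      exact Subtype.ext hx'
    rw [h2] at h1
    exact congrArg PrimeSpectrum.asIdeal h1
  · intro i
    exact finite_tensor_of_finite_pullback_sections f G i.1.2 V.2 (hle i)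
      (Groth.Agent.Lib.CohFinite.finite_sections_of_isCoh _ hN i.1.2)

end Descent

section H0

variable {X X' : Scheme.{u}} [IsLocallyNoetherian X] [IsLocallyNoetherian X'] (f : X' ⟶ X) [Flat f]
  (Z : Set X) (hZ : StableUnderSpecialization Z)

include hZ in
/-- **S5854** -/
theorem isCoh_H0_pullback_of_flat (F : X.Modules) [F.IsQuasicoherent] :
    (Coh.IsCoh ((ZClos.H0 Z).obj F) →
      Coh.IsCoh ((ZClos.H0 (f.base ⁻¹' Z)).obj ((Scheme.Modules.pullback f).obj F))) ∧
    (Surjective f → QuasiCompact f →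
      Coh.IsCoh ((ZClos.H0 (f.base ⁻¹' Z)).obj ((Scheme.Modules.pullback f).obj F)) →
        Coh.IsCoh ((ZClos.H0 Z).obj F)) := by
  obtain ⟨e⟩ := nonempty_pullback_H0_iso f Z hZ F
  haveI : ((ZClos.H0 Z).obj F).IsQuasicoherent := isQuasicoherent_H0 Z F
  refine ⟨fun h => ?_, fun h1 h2 h => ?_⟩
  · exact Groth.Agent.Lib.H90CohRestrict.isCoh_of_iso e (isCoh_pullback f _ h)
  · haveI := h1
    haveI := h2
    exact isCoh_of_isCoh_pullback f _ (Groth.Agent.Lib.H90CohRestrict.isCoh_of_iso e.symm h)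

end H0

end Groth.Agent.Lib.ZClos5
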