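import Groth.Agent.Lib.FormalTransfer23
import Groth.Agent.Lib.H90AnnIdeal
import Groth.Agent.Lib.ProperDescent
import Groth.Agent.Lib.ZClos5T
import Groth.Prelude.Def_ClSub2

set_option autoImplicit false
universe u

/-!
# Formal functions for modules with proper support, from the proper case (helper23)

`main`: the statement of S4460 (coherent `M` on `X` locally of finite type over a Noetherian `I`-adically
complete `A`, with support proper over `A`) follows from the statement of S0003 (`FormalFunctionsHyp`).
-/

namespace Groth.Agent.Lib.FormalProperSupport23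

open CategoryTheory CategoryTheory.Limits AlgebraicGeometry Formal

/-- The statement of S0003 (theorem on formal functions for proper `X`), as a hypothesis. -/
def FormalFunctionsHyp : Prop :=
  ∀ (A : Type u) [CommRing A] [IsNoetherianRing A] (I : Ideal A)
    [IsAdicComplete I A] (X : Scheme.{u}) [X.Over (Spec (CommRingCat.of A))]
    [IsProper (X ↘ Spec (CommRingCat.of A))] (M : X.Modules) (_ : Coh.IsCoh M) (p : ℕ),
    Function.Bijective (Formal.toHHlim I M p)

theorem main (H3 : FormalFunctionsHyp.{u}) (A : Type u) [CommRing A] [IsNoetherianRing A] (I : Ideal A)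
    [IsAdicComplete I A] (X : Scheme.{u}) [X.Over (Spec (CommRingCat.of A))]
    [LocallyOfFiniteType (X ↘ Spec (CommRingCat.of A))]
    (M : X.Modules) (hM : Coh.IsCoh M)
    (hs : ClSub.IsProperOver (X ↘ Spec (CommRingCat.of A)) (CohB1.support M)) (p : ℕ) :
    Function.Bijective (Formal.toHHlim I M p) := by
  obtain ⟨hqc, hft⟩ := (Groth.Agent.Lib.H90OXModAffineFT.isCoh_iff_forall_affine M).1 hM
  have : M.IsQuasicoherent := hqc
  obtain ⟨hcl, hprop⟩ := hs
  -- the scheme-theoretic support
  let K : X.IdealSheafData := Groth.Agent.Lib.H90AnnIdeal.annIdeal M hft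
  have hsupp : (K.support : Set X) = CohB1.support M :=
    Groth.Agent.Lib.H90AnnIdeal.support_annIdeal M hft
  let Zc : TopologicalSpace.Closeds X := ⟨CohB1.support M, hcl⟩
  have hle : K ≤ Scheme.IdealSheafData.vanishingIdeal Zc := by
    rw [← Scheme.IdealSheafData.le_support_iff_le_vanishingIdeal]
    intro x hx
    have : x ∈ (K.support : Set X) := by rw [hsupp]; exact hx
    exact this
  let Over_Z : K.subscheme.Over (Spec (CommRingCat.of A)) :=
    ⟨K.subschemeι ≫ (X ↘ Spec (CommRingCat.of A))⟩
  have hover : K.subschemeι.IsOver (Spec (CommRingCat.of A)) := ⟨rfl⟩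
  -- properness
  have hproper : IsProper (K.subscheme ↘ Spec (CommRingCat.of A)) := by
    change IsProper (K.subschemeι ≫ (X ↘ Spec (CommRingCat.of A)))
    have hk : IsClosedImmersion (Scheme.IdealSheafData.inclusion hle) := by
      have h1 : IsClosedImmersion (Scheme.IdealSheafData.inclusion hle ≫ K.subschemeι) := by
        rw [Scheme.IdealSheafData.inclusion_subschemeι]
        infer_instance
      exact IsClosedImmersion.of_comp _ K.subschemeι
    have hsurj : Surjective (Scheme.IdealSheafData.inclusion hle) := by
      refine ⟨fun z => ?_⟩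
      have hz : K.subschemeι z ∈ Set.range (Scheme.IdealSheafData.vanishingIdeal Zc).subschemeι := by
        rw [Scheme.IdealSheafData.range_subschemeι, Scheme.IdealSheafData.coe_support_vanishingIdeal]
        change K.subschemeι z ∈ CohB1.support M
        rw [← hsupp, ← Scheme.IdealSheafData.range_subschemeι]
        exact ⟨z, rfl⟩
      obtain ⟨w, hw⟩ := hz
      refine ⟨w, ?_⟩
      apply K.subschemeι.isClosedEmbedding.injective
      rw [← hw, ← Scheme.IdealSheafData.inclusion_subschemeι hle]
      rfl
    have hlft : LocallyOfFiniteType (K.subschemeι ≫ (X ↘ Spec (CommRingCat.of A))) := inferInstance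
    have hpr : IsProper (Scheme.IdealSheafData.inclusion hle ≫
        (K.subschemeι ≫ (X ↘ Spec (CommRingCat.of A)))) := by
      rw [← Category.assoc, Scheme.IdealSheafData.inclusion_subschemeι]
      exact hprop
    exact Groth.Agent.Lib.ProperDescent.isProper_of_comp_surjective_closedImmersion
      (Scheme.IdealSheafData.inclusion hle) _
  -- the module on the closed subscheme
  have hiso : IsIso ((Scheme.Modules.pullbackPushforwardAdjunction K.subschemeι).unit.app M) :=
    Groth.Agent.Lib.H90AnnIdeal.isIso_unit_annIdeal M hft
  let φ : M ≅ (Scheme.Modules.pushforward K.subschemeι).obj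
      ((Scheme.Modules.pullback K.subschemeι).obj M) :=
    asIso ((Scheme.Modules.pullbackPushforwardAdjunction K.subschemeι).unit.app M)
  have hN : Coh.IsCoh ((Scheme.Modules.pullback K.subschemeι).obj M) :=
    Groth.Agent.Lib.ZClos5.isCoh_pullback K.subschemeι M hM
  have hbij := H3 A I K.subscheme ((Scheme.Modules.pullback K.subschemeι).obj M) hN p
  exact Groth.Agent.Lib.FormalTransfer23.toHHlim_bijective I K.subschemeι φ p hbij

end Groth.Agent.Lib.FormalProperSupport23
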