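import Groth.Agent.Lib.PushCechLead
import Groth.Agent.Lib.CohFormal

/-!
# K2b (S2435), part A: multiplication by functions versus pushforward and pullback (lead)

`smulModΓ M r` is `Formal.smulModΓ`.  For `g : Y ⟶ X`:
* `push_smulModΓ`: `g_*(r' · ) = r ·` on `g_* M` when `r' = g^# r`;
* `pull_smulModΓ`: `g^*(r ·) = (g^# r) ·` on `g^* N`;
* the unit and counit of `g^* ⊣ g_*` commute with these multiplications.
-/

set_option autoImplicit false
universe u
open CategoryTheory CategoryTheory.Limits AlgebraicGeometry Opposite TopologicalSpace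

namespace Groth.Agent.Lib.ReesCoh

open Groth.Agent.Lib.PushCechLead Formal

variable {X Y : Scheme.{u}} (g : Y ⟶ X)

theorem push_smulModΓ (M : Y.Modules) (r : Coh.Γtop X) :
    (Scheme.Modules.pushforward g).map (smulModΓ M (gtop g r)) =
      smulModΓ ((Scheme.Modules.pushforward g).obj M) r := by
  ext U m
  change (smulModΓ M (gtop g r)).app (g ⁻¹ᵁ U) m = (smulModΓ ((Scheme.Modules.pushforward g).obj M) r).app U m
  exact (smulAb_push_app g M r (op U) m).symm

theorem pull_smulModΓ (N : X.Modules) (r : Coh.Γtop X) :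
    (Scheme.Modules.pullback g).map (smulModΓ N r) =
      smulModΓ ((Scheme.Modules.pullback g).obj N) (gtop g r) := by
  apply ((Scheme.Modules.pullbackPushforwardAdjunction g).homEquiv _ _).injective
  rw [Adjunction.homEquiv_unit, Adjunction.homEquiv_unit, push_smulModΓ]
  have h1 := smulModΓ_naturality ((Scheme.Modules.pullbackPushforwardAdjunction g).unit.app N) r
  have h2 := (Scheme.Modules.pullbackPushforwardAdjunction g).unit.naturality (smulModΓ N r)
  exact h2.symm.trans h1

end Groth.Agent.Lib.ReesCoh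

namespace Groth.Agent.Lib.ReesCoh

open Groth.Agent.Lib.PushCechLead Formal

section Over

variable {X Y : Scheme.{u}} (g : Y ⟶ X) (A B : Type u) [CommRing A] [CommRing B] [Algebra A B]
  [X.Over (Spec (CommRingCat.of A))] [Y.Over (Spec (CommRingCat.of B))]

/-- `g : Y ⟶ X` lies over `Spec B ⟶ Spec A`. -/
def IsOverAlg : Prop :=
  g ≫ (X ↘ Spec (CommRingCat.of A)) =
    (Y ↘ Spec (CommRingCat.of B)) ≫ Spec.map (CommRingCat.ofHom (algebraMap A B))

variable {g A B}

theorem gtop_toGlobal_alg (hg : IsOverAlg g A B) (a : A) :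
    gtop g (Coh.toGlobal (X ↘ Spec (CommRingCat.of A)) a) =
      Coh.toGlobal (Y ↘ Spec (CommRingCat.of B)) (algebraMap A B a) := by
  unfold Coh.toGlobal gtop
  have h1 : (X ↘ Spec (CommRingCat.of A)).appTop ≫ g.appTop =
      (Spec.map (CommRingCat.ofHom (algebraMap A B))).appTop ≫
        (Y ↘ Spec (CommRingCat.of B)).appTop := by
    rw [← Scheme.Hom.comp_appTop, ← Scheme.Hom.comp_appTop, hg]
  have h2 := Scheme.ΓSpecIso_inv_naturality (CommRingCat.ofHom (algebraMap A B))
  have h3 : (Scheme.ΓSpecIso (CommRingCat.of A)).inv ≫ (X ↘ Spec (CommRingCat.of A)).appTop ≫ g.appTop =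
      CommRingCat.ofHom (algebraMap A B) ≫ (Scheme.ΓSpecIso (CommRingCat.of B)).inv ≫
        (Y ↘ Spec (CommRingCat.of B)).appTop := by
    rw [h1, ← Category.assoc, ← h2, Category.assoc]
  exact congr($(h3).hom a)

theorem push_smulMod (hg : IsOverAlg g A B) (M : Y.Modules) (a : A) :
    (Scheme.Modules.pushforward g).map (smulMod B M (algebraMap A B a)) =
      smulMod A ((Scheme.Modules.pushforward g).obj M) a := by
  unfold smulMod
  rw [← gtop_toGlobal_alg hg, push_smulModΓ]

theorem pull_smulMod (hg : IsOverAlg g A B) (N : X.Modules) (a : A) :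
    (Scheme.Modules.pullback g).map (smulMod A N a) =
      smulMod B ((Scheme.Modules.pullback g).obj N) (algebraMap A B a) := by
  unfold smulMod
  rw [← gtop_toGlobal_alg hg, pull_smulModΓ]

end Over

end Groth.Agent.Lib.ReesCoh
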