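import Groth.Agent.Lib.FormalCoker13
import Groth.Agent.Lib.ReesCohA
import Groth.Agent.Lib.ZClos5T

/-!
# Pullback of coherent formal modules (helper13)

* `pull_smulMod_over`: `f^*(a ·) = (a ·)` for `f` over `Spec A`;
* `IsCokerSmul.pullback`: `f^*` preserves cokernels of multiplication by an ideal;
* `isCohFormal_pullback`: the componentwise pullback of a coherent formal module is one (S0835).
-/

set_option autoImplicit false
universe u
open CategoryTheory CategoryTheory.Limits AlgebraicGeometry Opposite

namespace Groth.Agent.Lib.FormalPull13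

open Formal Groth.Agent.Lib.FormalCoker13

variable {A : Type u} [CommRing A] {X Y : Scheme.{u}}
  [X.Over (Spec (CommRingCat.of A))] [Y.Over (Spec (CommRingCat.of A))]
  (f : X ⟶ Y) (hf : f ≫ (Y ↘ Spec (CommRingCat.of A)) = X ↘ Spec (CommRingCat.of A))

include hf in
theorem pull_smulMod_over (N : Y.Modules) (a : A) :
    (Scheme.Modules.pullback f).map (smulMod A N a) =
      smulMod A ((Scheme.Modules.pullback f).obj N) a := by
  have : f.IsOver (Spec (CommRingCat.of A)) := ⟨hf⟩
  unfold smulMod
  rw [Groth.Agent.Lib.ReesCoh.pull_smulModΓ, Groth.Agent.Lib.PushCechLead.gtop_toGlobal f A a]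

include hf in
theorem killedBy_pullback {J : Ideal A} {N : Y.Modules} (hN : KilledBy J N) :
    KilledBy J ((Scheme.Modules.pullback f).obj N) := by
  intro a ha
  rw [← pull_smulMod_over f hf, hN a ha, Functor.map_zero]

include hf in
theorem isCokerSmul_pullback {J : Ideal A} {N N' : Y.Modules} {q : N ⟶ N'}
    (h : IsCokerSmul J q) : IsCokerSmul J ((Scheme.Modules.pullback f).map q) := by
  have hepi := h.epi
  let adj := Scheme.Modules.pullbackPushforwardAdjunction f
  refine ⟨?_, ?_, ?_⟩
  · intro a ha
    rw [← pull_smulMod_over f hf, ← Functor.map_comp, h.1 a ha, Functor.map_zero]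
  · have : (Scheme.Modules.pullback f).PreservesEpimorphisms :=
      Functor.preservesEpimorphisms_of_adjunction adj
    infer_instance
  · intro T g hg
    -- transpose
    have hg' : ∀ a ∈ J, smulMod A N a ≫ (adj.homEquiv _ _) g = 0 := by
      intro a ha
      rw [← adj.homEquiv_naturality_left, pull_smulMod_over f hf, hg a ha, adj.homEquiv_unit,
        Functor.map_zero, comp_zero]
    obtain ⟨k, hk⟩ := h.2.2 _ hg'
    refine ⟨(adj.homEquiv _ _).symm k, ?_⟩
    rw [← adj.homEquiv_naturality_left_symm, hk, Equiv.symm_apply_apply]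

include hf in
theorem isCohFormal_pullback {I : Ideal A} {G : ℕᵒᵖ ⥤ Y.Modules} (hG : IsCohFormal I G) :
    IsCohFormal I (G ⋙ Scheme.Modules.pullback f) := by
  refine ⟨fun n => Groth.Agent.Lib.ZClos5.isCoh_pullback f _ (hG.1 n),
    fun n => killedBy_pullback f hf (hG.killedBy n), fun n => ?_⟩
  exact (isCokerSmul_iff _ _).1 (isCokerSmul_pullback f hf (hG.isCokerSmul_succ n))

end Groth.Agent.Lib.FormalPull13
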