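/-
helper20: **functoriality of the graded system of kernels** (`FormalKerSys20.kerSys`) of a coherent formal module:

* `kerOp_kerIso`: a levelwise isomorphism of coherent formal modules compatible with the transition maps induces
  isomorphisms of the kernels compatible with the operators;
* `map_kerOp_comparison`: for a functor `T` commuting with the scalar multiplications, the comparison maps
  `T (Ker(G_{n+1} → G_n)) ⟶ Ker(T G_{n+1} → T G_n)` are compatible with the operators.
-/
import Groth.Agent.Lib.FormalKerSys20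

set_option autoImplicit false
set_option linter.style.haveILetI false
universe u

open CategoryTheory CategoryTheory.Limits AlgebraicGeometry Opposite

namespace Groth.Agent.Lib.KerSysFunct20

open Formal Groth.Agent.Lib.UnifVanSys20 Groth.Agent.Lib.FormalKerSys20

variable {A : Type u} [CommRing A] {X : Scheme.{u}} [X.Over (Spec (CommRingCat.of A))]
  {I : Ideal A}

section Iso

variable {G G' : ℕᵒᵖ ⥤ X.Modules} (hG : IsCohFormal I G) (hG' : IsCohFormal I G')
  (e : ∀ n, G.obj (op n) ≅ G'.obj (op n))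
  (he : ∀ n, tr G n ≫ (e n).hom = (e (n + 1)).hom ≫ tr G' n)
  {r : ℕ} (a : Fin r → A) (ha : ∀ i, a i ∈ I)
  (s : Fin r → ∀ n, G.obj (op n) ⟶ G.obj (op (n + 1)))
  (hs : ∀ i n, tr G n ≫ s i n = smulMod A (G.obj (op (n + 1))) (a i))
  (s' : Fin r → ∀ n, G'.obj (op n) ⟶ G'.obj (op (n + 1)))
  (hs' : ∀ i n, tr G' n ≫ s' i n = smulMod A (G'.obj (op (n + 1))) (a i))

/-- The induced isomorphism of the kernels of the transition maps. -/
noncomputable def kerIso (n : ℕ) : kernel (tr G n) ≅ kernel (tr G' n) :=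
  kernel.mapIso (tr G n) (tr G' n) (e (n + 1)) (e n) (he n)

@[reassoc]
theorem kerIso_hom_ι (n : ℕ) :
    (kerIso e he n).hom ≫ kernel.ι (tr G' n) = kernel.ι (tr G n) ≫ (e (n + 1)).hom := by
  simp [kerIso]

include hG hs hs' he in
theorem sec_e (i : Fin r) (n : ℕ) : s i n ≫ (e (n + 1)).hom = (e n).hom ≫ s' i n := by
  haveI := epi_tr hG n
  rw [← cancel_epi (tr G n), ← Category.assoc, hs, ← Category.assoc, he, Category.assoc, hs',
    smulMod_naturality]

theorem kerOp_kerIso (i : Fin r) (n : ℕ) :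
    kerOp hG a ha s hs i n ≫ (kerIso e he (n + 1)).hom =
      (kerIso e he n).hom ≫ kerOp hG' a ha s' hs' i n := by
  rw [← cancel_mono (kernel.ι (tr G' (n + 1))), Category.assoc, Category.assoc, kerIso_hom_ι,
    kerOp_ι_assoc, kerOp_ι, kerIso_hom_ι_assoc, sec_e hG e he a s hs s' hs' i (n + 1)]

end Iso

section Functor

variable {X' : Scheme.{u}} [X'.Over (Spec (CommRingCat.of A))]
  (T : X.Modules ⥤ X'.Modules) [T.PreservesZeroMorphisms]
  (hT : ∀ (N : X.Modules) (a : A), T.map (smulMod A N a) = smulMod A (T.obj N) a)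
  {G : ℕᵒᵖ ⥤ X.Modules} (hG : IsCohFormal I G) (hG' : IsCohFormal I (G ⋙ T))
  {r : ℕ} (a : Fin r → A) (ha : ∀ i, a i ∈ I)
  (s : Fin r → ∀ n, G.obj (op n) ⟶ G.obj (op (n + 1)))
  (hs : ∀ i n, tr G n ≫ s i n = smulMod A (G.obj (op (n + 1))) (a i))

omit [T.PreservesZeroMorphisms] in
include hT hs in
theorem map_hs (i : Fin r) (n : ℕ) :
    tr (G ⋙ T) n ≫ T.map (s i n) = smulMod A ((G ⋙ T).obj (op (n + 1))) (a i) := by
  change T.map (tr G n) ≫ T.map (s i n) = _
  rw [← T.map_comp, hs, hT]
  rfl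

/-- The comparison map `T (Ker(G_{n+1} → G_n)) ⟶ Ker(T G_{n+1} → T G_n)`. -/
noncomputable def comparison (n : ℕ) : T.obj (kernel (tr G n)) ⟶ kernel (tr (G ⋙ T) n) :=
  kernelComparison (tr G n) T

@[reassoc]
theorem comparison_ι (n : ℕ) :
    comparison T (G := G) n ≫ kernel.ι (tr (G ⋙ T) n) = T.map (kernel.ι (tr G n)) :=
  kernelComparison_comp_ι (tr G n) T

theorem map_kerOp_comparison (i : Fin r) (n : ℕ) :
    T.map (kerOp hG a ha s hs i n) ≫ comparison T (n + 1) =
      comparison T n ≫ kerOp hG' a ha (fun i n => T.map (s i n)) (map_hs T hT a s hs) i n := by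
  rw [← cancel_mono (kernel.ι (tr (G ⋙ T) (n + 1))), Category.assoc, Category.assoc, comparison_ι,
    kerOp_ι, ← Category.assoc (comparison T n), comparison_ι, ← T.map_comp, ← T.map_comp, kerOp_ι]

end Functor

end Groth.Agent.Lib.KerSysFunct20
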