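/-
helper20: **functorial images and gluing of graded systems** (`UnifVanSys20.Sys`).

* `Sys.map T S`: image of a system under a functor; finite generation is preserved by left adjoints (`isFGFrom_map`).
* `GlueData`: a sequence of systems `Sg K` (`K : ℕ`) with isomorphisms `θ K m : (Sg (K+1)).G m ≅ (Sg K).G m` for `m < K`
  compatible with the operators in the range `m + 1 < K` ("the systems agree in degrees `< K`").  `glue` is the system with
  `G m = (Sg (m+1)).G m`; `glueIso` identifies `(Sg K).G m` with `(glue).G m` for all `m < K`; finite generation passes to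
  the glued system (`isFGFrom_glue`).
-/
import Groth.Agent.Lib.UnifVanSys20

set_option autoImplicit false

open CategoryTheory CategoryTheory.Limits

namespace Groth.Agent.Lib.SysGlue20

open Groth.Agent.Lib.UnifVanSys20

universe v u v' u'

variable {C : Type u} [Category.{v} C] {D : Type u'} [Category.{v'} D] {r : ℕ}

/-- The image of a system under a functor. -/
@[reducible] def mapSys (T : C ⥤ D) (S : Sys C r) : Sys D r where
  G n := T.obj (S.G n)
  t i n := T.map (S.t i n)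
  comm i j n := by rw [← T.map_comp, ← T.map_comp, S.comm]

/-- Left adjoints preserve finite generation. -/
theorem isFGFrom_map [Abelian C] [Abelian D] {T : C ⥤ D} {T' : D ⥤ C} (adj : T ⊣ T')
    [T.PreservesZeroMorphisms] [T'.PreservesZeroMorphisms] {S : Sys C r} {n₁ : ℕ}
    (h : S.IsFGFrom n₁) : (mapSys T S).IsFGFrom n₁ := by
  intro n hn Z g hg
  change T.obj (S.G (n + 1)) ⟶ Z at g
  have hg' : ∀ i, T.map (S.t i n) ≫ g = 0 := hg
  have h0 : adj.homEquiv _ _ g = 0 := by
    apply h n hn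
    intro i
    rw [← adj.homEquiv_naturality_left, hg' i, adj.homEquiv_unit, T'.map_zero, comp_zero]
  have : g = (adj.homEquiv _ _).symm 0 := by rw [← h0, Equiv.symm_apply_apply]
  rw [this, adj.homEquiv_counit, T.map_zero, zero_comp]

/-- Gluing data: systems agreeing in a growing range of degrees. -/
structure GlueData (C : Type u) [Category.{v} C] (r : ℕ) where
  Sg : ℕ → Sys C r
  θ : ∀ K m, m < K → ((Sg (K + 1)).G m ≅ (Sg K).G m)
  hθ : ∀ K m (h : m + 1 < K) (i : Fin r),
    (Sg (K + 1)).t i m ≫ (θ K (m + 1) h).hom = (θ K m (Nat.lt_of_succ_lt h)).hom ≫ (Sg K).t i m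

namespace GlueData

variable (E : GlueData C r)

lemma t_θ_inv (K m : ℕ) (h : m + 1 < K) (i : Fin r) :
    (E.Sg K).t i m ≫ (E.θ K (m + 1) h).inv =
      (E.θ K m (Nat.lt_of_succ_lt h)).inv ≫ (E.Sg (K + 1)).t i m := by
  rw [Iso.comp_inv_eq, Category.assoc, E.hθ K m h i, Iso.inv_hom_id_assoc]

/-- The glued system. -/
@[reducible] def glue : Sys C r where
  G m := (E.Sg (m + 1)).G m
  t i m := (E.θ (m + 1) m (Nat.lt_succ_self m)).inv ≫ (E.Sg (m + 1 + 1)).t i m
  comm i j m := by
    have hi := E.t_θ_inv (m + 1 + 1) m (Nat.lt_succ_self _) i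
    have hj := E.t_θ_inv (m + 1 + 1) m (Nat.lt_succ_self _) j
    simp only [Category.assoc]
    rw [reassoc_of% hi, reassoc_of% hj, (E.Sg (m + 1 + 1 + 1)).comm]

/-- `(Sg (m+1+d)).G m ≅ (Sg (m+1)).G m`. -/
def ρ (m : ℕ) : ∀ d, ((E.Sg (m + 1 + d)).G m ≅ (E.Sg (m + 1)).G m)
  | 0 => Iso.refl _
  | d + 1 => E.θ (m + 1 + d) m (by omega) ≪≫ ρ m d

theorem nonempty_glueIso (K m : ℕ) (h : m < K) : Nonempty ((E.Sg K).G m ≅ E.glue.G m) := by
  obtain ⟨d, rfl⟩ : ∃ d, K = m + 1 + d := ⟨K - (m + 1), by omega⟩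
  exact ⟨E.ρ m d⟩

theorem isFGFrom_glue [Abelian C] {n₁ : ℕ} (h : ∀ K, (E.Sg K).IsFGFrom n₁) : E.glue.IsFGFrom n₁ := by
  intro n hn Z g hg
  change (E.Sg (n + 1 + 1)).G (n + 1) ⟶ Z at g
  have hg' : ∀ i, ((E.θ (n + 1) n (Nat.lt_succ_self n)).inv ≫ (E.Sg (n + 1 + 1)).t i n) ≫ g = 0 := hg
  apply h (n + 1 + 1) n hn
  intro i
  have := hg' i
  rwa [Category.assoc, Iso.inv_comp_eq, comp_zero] at this

end GlueData

end Groth.Agent.Lib.SysGlue20
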