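import Groth.Agent.Lib.NilThick

set_option autoImplicit false
universe u

namespace Groth.Agent.Lib.NilThickBC

open AlgebraicGeometry CategoryTheory Limits

/-- The ideal sheaf of a finitely generated ideal is of finite type. -/
lemma idealFT_idealSpec (A : Type u) [CommRing A] (𝔞 : Ideal A) (h : 𝔞.FG) :
    FSch.IdealFT (FSch.idealSpec A 𝔞) := by
  intro U
  rw [IdealSheafComap.idealSpec_eq_ofIdealTop, Scheme.IdealSheafData.ofIdealTop_ideal]
  refine Ideal.FG.map ?_ _
  let e : Γ(Spec (CommRingCat.of A), ⊤) ≃+* A :=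
    (Scheme.ΓSpecIso (CommRingCat.of A)).commRingCatIsoToRingEquiv
  have : 𝔞.comap (Scheme.ΓSpecIso (CommRingCat.of A)).hom.hom = 𝔞.map (e.symm : A →+* _) :=
    (Ideal.map_symm (I := 𝔞) e).symm
  rw [this]
  exact Ideal.FG.map h _

/-- A thickening `W` of a locally Noetherian scheme by a nilpotent ideal sheaf which, on the members
of an affine open cover, is the ideal sheaf of a finitely generated ideal, is locally Noetherian. -/
lemma isLocallyNoetherian_of_nilpotent_of_openCover {Z W : Scheme.{u}} (i : Z ⟶ W)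
    [IsClosedImmersion i] [IsLocallyNoetherian Z] {m : ℕ} (hm : i.ker ^ m = ⊥)
    (𝒰 : W.OpenCover)
    (H : ∀ k, ∃ (A : Type u) (_ : CommRing A) (e : 𝒰.X k = Spec (CommRingCat.of A)) (𝔞 : Ideal A),
      𝔞.FG ∧ i.ker.comap (eqToHom e.symm ≫ 𝒰.f k) = FSch.idealSpec A 𝔞) :
    IsLocallyNoetherian W := by
  rw [isLocallyNoetherian_iff_openCover 𝒰]
  intro k
  obtain ⟨A, _, e, 𝔞, hfg, h𝔞⟩ := H k
  suffices hs : IsLocallyNoetherian (Spec (CommRingCat.of A)) by
    exact isLocallyNoetherian_of_isOpenImmersion (eqToHom e)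
  let j : Spec (CommRingCat.of A) ⟶ W := eqToHom e.symm ≫ 𝒰.f k
  have hP : IsLocallyNoetherian (pullback j i) :=
    isLocallyNoetherian_of_isOpenImmersion (pullback.snd j i)
  have hker : (pullback.fst j i).ker = FSch.idealSpec A 𝔞 := by
    rw [Scheme.IdealSheafData.ker_fst_of_isClosedImmersion]
    exact h𝔞
  refine NilThick.isLocallyNoetherian_of_nilpotent (pullback.fst j i) ?_ (m := m) ?_
  · rw [hker]
    exact idealFT_idealSpec A 𝔞 hfg
  · rw [Scheme.IdealSheafData.ker_fst_of_isClosedImmersion, ← IdealSheafComap.comap_pow, hm,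
      Scheme.IdealSheafData.comap_bot]

/-- Pointwise form of `isLocallyNoetherian_of_nilpotent_of_openCover`. -/
lemma isLocallyNoetherian_of_nilpotent_of_local {Z W : Scheme.{u}} (i : Z ⟶ W)
    [IsClosedImmersion i] [IsLocallyNoetherian Z] {m : ℕ} (hm : i.ker ^ m = ⊥)
    (H : ∀ x : W, ∃ (A : Type u) (_ : CommRing A) (j : Spec (CommRingCat.of A) ⟶ W)
      (_ : IsOpenImmersion j) (𝔞 : Ideal A),
      x ∈ Set.range j ∧ 𝔞.FG ∧ i.ker.comap j = FSch.idealSpec A 𝔞) :
    IsLocallyNoetherian W := by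
  choose A instA j hj 𝔞 hx hfg hker using H
  let 𝒰 : W.OpenCover := Scheme.Cover.mkOfCovers W (fun x => Spec (CommRingCat.of (A x))) j
    (fun x => by obtain ⟨y, hy⟩ := hx x; exact ⟨x, y, hy⟩) hj
  refine isLocallyNoetherian_of_nilpotent_of_openCover i hm 𝒰 fun x => ?_
  refine ⟨A x, instA x, rfl, 𝔞 x, hfg x, ?_⟩
  rw [← hker x]
  exact congrArg _ (Category.id_comp _)

/-- In a cartesian square whose bottom side is a closed immersion with nilpotent kernel into a
locally Noetherian scheme, if the upper left corner is locally Noetherian then so is the upper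
right corner. -/
theorem isLocallyNoetherian_of_isPullback {X₀ X₁ S₀ S₁ : Scheme.{u}} {iX : X₀ ⟶ X₁} {f₀ : X₀ ⟶ S₀}
    {g : X₁ ⟶ S₁} {iS : S₀ ⟶ S₁} [IsClosedImmersion iS] (h : IsPullback iX f₀ g iS)
    [IsLocallyNoetherian S₁] [IsLocallyNoetherian X₀] {m : ℕ} (hm : iS.ker ^ m = ⊥) :
    IsLocallyNoetherian X₁ := by
  have hci : IsClosedImmersion iX :=
    MorphismProperty.of_isPullback (P := @IsClosedImmersion) h.flip inferInstance
  have hker : iX.ker = iS.ker.comap g := FSchKer.ker_of_isPullback h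
  have hm' : iX.ker ^ m = ⊥ := by
    rw [hker, ← IdealSheafComap.comap_pow, hm, Scheme.IdealSheafData.comap_bot]
  refine isLocallyNoetherian_of_nilpotent_of_local iX hm' fun x => ?_
  obtain ⟨_, ⟨V, hV : IsAffineOpen V, rfl⟩, hxV, -⟩ :=
    S₁.isBasis_affineOpens.exists_subset_of_mem_open (Set.mem_univ (g x)) isOpen_univ
  obtain ⟨_, ⟨U, hU : IsAffineOpen U, rfl⟩, hxU, hUV⟩ :=
    X₁.isBasis_affineOpens.exists_subset_of_mem_open (show x ∈ (g ⁻¹ᵁ V : Set X₁) from hxV)
      (g ⁻¹ᵁ V).isOpen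
  have hUV' : U ≤ g ⁻¹ᵁ V := hUV
  have hN : IsNoetherianRing Γ(S₁, V) := IsLocallyNoetherian.component_noetherian ⟨V, hV⟩
  obtain ⟨𝔟, h𝔟⟩ := IdealSheafComap.exists_eq_idealSpec Γ(S₁, V) (iS.ker.comap hV.fromSpec)
  refine ⟨Γ(X₁, U), inferInstance, hU.fromSpec, inferInstance,
    𝔟.map (g.appLE V U hUV').hom, ?_, ?_, ?_⟩
  · rw [hU.range_fromSpec]
    exact hxU
  · exact Ideal.FG.map (IsNoetherian.noetherian 𝔟) _
  · rw [hker, ← Scheme.IdealSheafData.comap_comp, ← hV.SpecMap_appLE_fromSpec g hU hUV',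
      Scheme.IdealSheafData.comap_comp]
    erw [h𝔟]
    exact IdealSheafComap.comap_idealSpec _ _ _ 𝔟

end Groth.Agent.Lib.NilThickBC
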