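/-
helper20: **towers of thickenings over `Spec (A/J^{k+1})`** (the levels of a formal scheme over `Spf A`).

Part A (any scheme over `A`): a coherent module killed by an ideal `I ⊆ A` is killed by the ideal sheaf of the closed
fibre `X ×_A Spec (A/I) ⟶ X` (`killedByIdeal_ker_of_killedBy`), hence is the pushforward of its restriction to the closed
fibre (`isIso_unit_of_killedBy`).

Part B: `Tower A J`: schemes `Xs k` over `Spec (A/J^{k+1})` with cartesian transition squares.  All `Xs k` are schemes
over `Spec A`; `T.j k : Xs 0 ⟶ Xs k`; the squares over `Spec A` (`isPullback_i`, `isPullback_j`); local Noetherianity.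
-/
import Groth.Agent.Lib.FibreVan20
import Groth.Agent.Lib.ClosedPushCons20
import Groth.Agent.Lib.NilThickBC
import Groth.Agent.Lib.FSchKer

set_option autoImplicit false
set_option linter.style.haveILetI false
universe u

open CategoryTheory CategoryTheory.Limits AlgebraicGeometry Opposite

namespace Groth.Agent.Lib.ThickTower20

open Formal CohB1

section PartA

variable {A : Type u} [CommRing A] {X : Scheme.{u}} [X.Over (Spec (CommRingCat.of A))]

/-- A coherent module killed by `I` is killed by the ideal sheaf of the closed fibre over `Spec (A/I)`. -/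
theorem killedByIdeal_ker_of_killedBy [IsLocallyNoetherian X] (I : Ideal A)
    {Z : Scheme.{u}} (j : Z ⟶ X) (q : Z ⟶ Spec (CommRingCat.of (A ⧸ I)))
    (hsq : IsPullback j q (X ↘ Spec (CommRingCat.of A))
      (Spec.map (CommRingCat.ofHom (Ideal.Quotient.mk I))))
    (F : X.Modules) (hF : Coh.IsCoh F) (hk : KilledBy I F) :
    ClSub.KilledByIdeal j.ker F := by
  haveI : F.IsQuasicoherent := hF.1
  have hft : ∀ U : X.affineOpens, Module.Finite Γ(X, U.1) Γ(F, U.1) := fun U =>
    CohFinite.finite_sections_of_isCoh F hF U.2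
  let K := H90AnnIdeal.annIdeal F hft
  have hI : ∀ a ∈ I, (K.subschemeι ≫ (X ↘ Spec (CommRingCat.of A))).appTop.hom
      ((Scheme.ΓSpecIso (CommRingCat.of A)).inv.hom a) = 0 := by
    intro a ha
    rw [Scheme.Hom.comp_appTop]
    change K.subschemeι.appTop.hom (Coh.toGlobal (X ↘ Spec (CommRingCat.of A)) a) = 0
    exact FibreVan20.subschemeι_appTop_eq_zero K _
      (fun U => FibreVan20.res_mem_annihilator (hk a ha) U.1)
  obtain ⟨t, ht⟩ := FibreVan20.exists_lift_quot (K.subschemeι ≫ (X ↘ Spec (CommRingCat.of A))) I hI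
  let c : K.subscheme ⟶ Z := hsq.lift K.subschemeι t ht.symm
  have hc : c ≫ j = K.subschemeι := hsq.lift_fst _ _ _
  have hle : j.ker ≤ K := by
    have h1 := Scheme.Hom.le_ker_comp c j
    rw [hc, Scheme.IdealSheafData.ker_subschemeι] at h1
    exact h1
  intro U a ha m
  exact Module.mem_annihilator.mp (hle U ha) m

/-- ... hence the unit `F ⟶ j_* j^* F` is an isomorphism. -/
theorem isIso_unit_of_killedBy [IsLocallyNoetherian X] (I : Ideal A)
    {Z : Scheme.{u}} (j : Z ⟶ X) (q : Z ⟶ Spec (CommRingCat.of (A ⧸ I)))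
    (hsq : IsPullback j q (X ↘ Spec (CommRingCat.of A))
      (Spec.map (CommRingCat.ofHom (Ideal.Quotient.mk I))))
    (F : X.Modules) (hF : Coh.IsCoh F) (hk : KilledBy I F) :
    IsIso ((Scheme.Modules.pullbackPushforwardAdjunction j).unit.app F) := by
  haveI : F.IsQuasicoherent := hF.1
  haveI : IsClosedImmersion (Spec.map (CommRingCat.ofHom (Ideal.Quotient.mk I))) :=
    IsClosedImmersion.spec_of_surjective _ Ideal.Quotient.mk_surjective
  haveI : IsClosedImmersion j := MorphismProperty.of_isPullback hsq.flip inferInstance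
  exact ClosedImmersionPush.isIso_unit_of_killedByIdeal j F
    (killedByIdeal_ker_of_killedBy I j q hsq F hF hk)

end PartA

section PartB

variable (A : Type u) [CommRing A] (J : Ideal A)

/-- A tower of schemes `Xs k` over `Spec (A/J^{k+1})` with cartesian transition squares. -/
structure Tower where
  Xs : ℕ → Scheme.{u}
  p : ∀ k, Xs k ⟶ Spec (CommRingCat.of (A ⧸ J ^ (k + 1)))
  i : ∀ k, Xs k ⟶ Xs (k + 1)
  hcart : ∀ k, IsPullback (i k) (p k) (p (k + 1)) (CohB1.specQuotTrans J k)

variable {A J}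

namespace Tower

variable (T : Tower A J)

/-- The structure morphism to `Spec A`. -/
noncomputable def q (k : ℕ) : T.Xs k ⟶ Spec (CommRingCat.of A) := T.p k ≫ CohB1.specQuot J k

noncomputable instance (k : ℕ) : (T.Xs k).Over (Spec (CommRingCat.of A)) := ⟨T.q k⟩

theorem over_eq (k : ℕ) : (T.Xs k ↘ Spec (CommRingCat.of A)) = T.q k := rfl

theorem i_q (k : ℕ) : T.i k ≫ T.q (k + 1) = T.q k := by
  unfold q
  rw [← Category.assoc, (T.hcart k).w, Category.assoc, CohB1.specQuotTrans_specQuot]

/-- The closed immersion of the bottom level. -/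
noncomputable def j : ∀ k, T.Xs 0 ⟶ T.Xs k
  | 0 => 𝟙 _
  | k + 1 => j k ≫ T.i k

theorem j_succ (k : ℕ) : T.j (k + 1) = T.j k ≫ T.i k := rfl

theorem j_q (k : ℕ) : T.j k ≫ T.q k = T.q 0 := by
  induction k with
  | zero => exact Category.id_comp _
  | succ k ih => rw [j_succ, Category.assoc, T.i_q, ih]

instance isClosedImmersion_specQuotTrans (k : ℕ) : IsClosedImmersion (CohB1.specQuotTrans J k) :=
  IsClosedImmersion.spec_of_surjective _ (Ideal.Quotient.factor_surjective
    (Ideal.pow_le_pow_right (Nat.le_succ (k + 1))))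

instance isClosedImmersion_specQuot (k : ℕ) : IsClosedImmersion (CohB1.specQuot J k) :=
  IsClosedImmersion.spec_of_surjective _ Ideal.Quotient.mk_surjective

instance isClosedImmersion_i (k : ℕ) : IsClosedImmersion (T.i k) :=
  MorphismProperty.of_isPullback (T.hcart k).flip inferInstance

instance isClosedImmersion_j (k : ℕ) : IsClosedImmersion (T.j k) := by
  induction k with
  | zero => exact inferInstanceAs (IsClosedImmersion (𝟙 _))
  | succ k ih => rw [j_succ]; infer_instance

/-- the square over `Spec A` for the transition maps -/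
theorem isPullback_i (k : ℕ) : IsPullback (T.i k) (T.p k) (T.Xs (k + 1) ↘ Spec (CommRingCat.of A))
    (Spec.map (CommRingCat.ofHom (Ideal.Quotient.mk (J ^ (k + 1))))) := by
  have h2 : IsPullback (CohB1.specQuotTrans J k) (𝟙 _) (CohB1.specQuot J (k + 1))
      (CohB1.specQuot J k) :=
    IsPullback.of_vert_isIso_mono ⟨by rw [Category.id_comp, CohB1.specQuotTrans_specQuot]⟩
  have := (T.hcart k).paste_vert h2
  rwa [Category.comp_id] at this

/-- the composite transition `Spec (A/J^{0+1}) ⟶ Spec (A/J^{k+1})` -/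
noncomputable def τ : ∀ k, Spec (CommRingCat.of (A ⧸ J ^ (0 + 1))) ⟶ Spec (CommRingCat.of (A ⧸ J ^ (k + 1)))
  | 0 => 𝟙 _
  | k + 1 => τ k ≫ CohB1.specQuotTrans J k

theorem τ_specQuot (k : ℕ) : τ (J := J) k ≫ CohB1.specQuot J k = CohB1.specQuot J 0 := by
  induction k with
  | zero => exact Category.id_comp _
  | succ k ih =>
    change (τ k ≫ CohB1.specQuotTrans J k) ≫ _ = _
    rw [Category.assoc, CohB1.specQuotTrans_specQuot, ih]

theorem isPullback_j_τ (k : ℕ) : IsPullback (T.j k) (T.p 0) (T.p k) (τ k) := by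
  induction k with
  | zero =>
    haveI : IsIso (T.j 0) := inferInstanceAs (IsIso (𝟙 _))
    haveI : IsIso (τ (J := J) 0) := inferInstanceAs (IsIso (𝟙 _))
    exact IsPullback.of_horiz_isIso ⟨by simp [j, τ]⟩
  | succ k ih => exact ih.paste_horiz (T.hcart k)

/-- the square over `Spec A` for the bottom level -/
theorem isPullback_j (k : ℕ) : IsPullback (T.j k) (T.p 0) (T.Xs k ↘ Spec (CommRingCat.of A))
    (Spec.map (CommRingCat.ofHom (Ideal.Quotient.mk (J ^ (0 + 1))))) := by
  have h2 : IsPullback (τ (J := J) k) (𝟙 _) (CohB1.specQuot J k) (CohB1.specQuot J 0) :=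
    IsPullback.of_vert_isIso_mono ⟨by rw [Category.id_comp, τ_specQuot]⟩
  have := (T.isPullback_j_τ k).paste_vert h2
  rwa [Category.comp_id] at this

theorem idealSpec_bot (B : Type u) [CommRing B] : FSch.idealSpec B ⊥ = ⊥ := by
  rw [IdealSheafComap.idealSpec_eq_ofIdealTop, Ideal.comap_bot_of_injective _
    (ConcreteCategory.bijective_of_isIso (Scheme.ΓSpecIso (CommRingCat.of B)).hom).1]
  exact map_bot (Scheme.IdealSheafData.equivOfIsAffine (X := Spec (CommRingCat.of B))).symm

theorem ker_specQuotTrans_sq (k : ℕ) : (CohB1.specQuotTrans J k).ker ^ 2 = ⊥ := by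
  rw [CohB1.specQuotTrans, FSchKer.ker_SpecMap, Ideal.Quotient.factor_ker,
    ← FSchKer.idealSpec_pow_succ, ← Ideal.map_pow, ← pow_mul]
  have h0 : (J ^ ((k + 1) * (1 + 1))).map (Ideal.Quotient.mk (J ^ (k + 1 + 1))) = ⊥ := by
    rw [Ideal.map_eq_bot_iff_le_ker, Ideal.mk_ker]
    exact Ideal.pow_le_pow_right (I := J) (show k + 1 + 1 ≤ (k + 1) * (1 + 1) by omega)
  rw [h0]
  exact idealSpec_bot _

end Tower

end PartB

end Groth.Agent.Lib.ThickTower20
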