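/-
helper20: **the graded system on the bottom level of a tower of thickenings** and uniform vanishing on all levels.

`T : Tower A J`, coherent modules `F k` on `T.Xs k` with `(T.i k)^* F (k+1) ≅ F k`.  On every level the `J`-adic system of
`F k` has its graded system of kernels (`FormalKerSys20.kerSys`); pulled back to the bottom level `T.Xs 0` these systems
agree in degrees `< k` and glue to ONE finitely generated graded system on `T.Xs 0` (`SysGlue20`).  Uniform Serre vanishing
on `T.Xs 0` then gives one `d₀` with `H^q(Xs k, F k ⊗ L k^d) = 0` for all `k`, `d ≥ d₀`, `q > 0`.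
-/
import Groth.Agent.Lib.ThickTower20
import Groth.Agent.Lib.KerSysFunct20
import Groth.Agent.Lib.SysGlue20
import Groth.Agent.Lib.AdjKer20
import Groth.Agent.Lib.FormalPull13

set_option autoImplicit false
set_option linter.style.haveILetI false
set_option linter.unusedSectionVars false
universe u

open CategoryTheory CategoryTheory.Limits AlgebraicGeometry Opposite

namespace Groth.Agent.Lib.TowerSys20

open Formal CohB1 Groth.Agent.Lib.UnifVanSys20 Groth.Agent.Lib.FormalKerSys20
  Groth.Agent.Lib.KerSysFunct20 Groth.Agent.Lib.FormalCoker13 Groth.Agent.Lib.ThickTower20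

section Completion

variable {A : Type u} [CommRing A] {X X' : Scheme.{u}} [X.Over (Spec (CommRingCat.of A))]
  [X'.Over (Spec (CommRingCat.of A))]

/-- A left adjoint commuting with scalar multiplications carries the `I`-adic system of `M` to that of `T M`. -/
theorem exists_completion_iso {T : X.Modules ⥤ X'.Modules} {T' : X'.Modules ⥤ X.Modules}
    (adj : T ⊣ T') [T.PreservesZeroMorphisms] [T'.PreservesZeroMorphisms]
    (hT : ∀ (N : X.Modules) (a : A), T.map (smulMod A N a) = smulMod A (T.obj N) a)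
    (I : Ideal A) {M : X.Modules} {N : X'.Modules} (ψ : T.obj M ≅ N) :
    ∃ e : ∀ n, (completion I M ⋙ T).obj (op n) ≅ (completion I N).obj (op n),
      ∀ n, tr (completion I M ⋙ T) n ≫ (e n).hom = (e (n + 1)).hom ≫ tr (completion I N) n := by
  have h1 : ∀ n, IsCokerSmul (I ^ (n + 1)) (T.map (modPowπ I (n + 1) M)) := fun n =>
    FormalGr20.isCokerSmul_map adj hT (isCokerSmul_modPowπ I (n + 1) M)
  have h2 : ∀ n, IsCokerSmul (I ^ (n + 1)) (ψ.hom ≫ modPowπ I (n + 1) N) := fun n =>
    (isCokerSmul_modPowπ I (n + 1) N).of_iso_left ψ.hom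
  choose e he using fun n => IsCokerSmul.uniqueIso (h1 n) (h2 n)
  have key : ∀ n, T.map (modPowTrans I (n + 1) M) ≫ (e n).hom =
      (e (n + 1)).hom ≫ modPowTrans I (n + 1) N := by
    intro n
    haveI : Epi (T.map (modPowπ I (n + 1 + 1) M)) := (h1 (n + 1)).epi
    rw [← cancel_epi (T.map (modPowπ I (n + 1 + 1) M)), ← Category.assoc, ← T.map_comp,
      modPowπ_trans, he n, ← Category.assoc, he (n + 1), Category.assoc, modPowπ_trans]
  refine ⟨e, fun n => ?_⟩
  have h3 : tr (completion I M ⋙ T) n = T.map (modPowTrans I (n + 1) M) :=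
    congrArg (fun f => T.map f) (FormalGr20.completion_map_succ I M n)
  have h4 : tr (completion I N) n = modPowTrans I (n + 1) N :=
    FormalGr20.completion_map_succ I N n
  exact (congrArg (fun f => f ≫ (e n).hom) h3).trans
    ((key n).trans (congrArg (fun f => (e (n + 1)).hom ≫ f) h4.symm))

end Completion

section PullComm

variable {X₀ X₁ X₂ : Scheme.{u}} (f : X₀ ⟶ X₁) (g : X₁ ⟶ X₂)

theorem pull_comm {M M' : X₂.Modules} {N N' : X₁.Modules} (t : M ⟶ M') (u : N ⟶ N')
    (w : (Scheme.Modules.pullback g).obj M ⟶ N) (w' : (Scheme.Modules.pullback g).obj M' ⟶ N')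
    (h : (Scheme.Modules.pullback g).map t ≫ w' = w ≫ u) :
    (Scheme.Modules.pullback (f ≫ g)).map t ≫
        ((Scheme.Modules.pullbackComp f g).inv.app M' ≫ (Scheme.Modules.pullback f).map w') =
      ((Scheme.Modules.pullbackComp f g).inv.app M ≫ (Scheme.Modules.pullback f).map w) ≫
        (Scheme.Modules.pullback f).map u := by
  have nat := (Scheme.Modules.pullbackComp f g).inv.naturality t
  rw [← Category.assoc, nat, Category.assoc, Category.assoc, Functor.comp_map, ← Functor.map_comp,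
    ← Functor.map_comp, h]

end PullComm

section Main

variable {A : Type u} [CommRing A] [IsNoetherianRing A] {J : Ideal A} (T : Tower A J)
  [hN : ∀ k, IsLocallyNoetherian (T.Xs k)]
  (F : ∀ k, (T.Xs k).Modules) (hF : ∀ k, Coh.IsCoh (F k))
  (ψ : ∀ k, (Scheme.Modules.pullback (T.i k)).obj (F (k + 1)) ≅ F k)
  {r : ℕ} (a : Fin r → A) (ha : ∀ i, a i ∈ J)

/-- The `J`-adic system of `F k` on level `k`. -/
noncomputable abbrev C (k : ℕ) : ℕᵒᵖ ⥤ (T.Xs k).Modules := completion J (F k)

include hF in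
theorem hC (k : ℕ) : IsCohFormal J (C T F k) := FormalGr20.isCohFormal_completion J (hF k)

/-- chosen "division by the transition map" -/
noncomputable def sec (k : ℕ) (i : Fin r) (n : ℕ) :
    (C T F k).obj (op n) ⟶ (C T F k).obj (op (n + 1)) :=
  (exists_sec (hC T F hF k) (a i) (ha i) n).choose

theorem hsec (k : ℕ) (i : Fin r) (n : ℕ) :
    tr (C T F k) n ≫ sec T F hF a ha k i n = smulMod A ((C T F k).obj (op (n + 1))) (a i) :=
  (exists_sec (hC T F hF k) (a i) (ha i) n).choose_spec

/-- The graded system of kernels on level `k`. -/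
noncomputable abbrev KS (k : ℕ) : Sys (T.Xs k).Modules r :=
  kerSys (hC T F hF k) a ha (sec T F hF a ha k) (hsec T F hF a ha k)

theorem hT (k : ℕ) (N : (T.Xs (k + 1)).Modules) (b : A) :
    (Scheme.Modules.pullback (T.i k)).map (smulMod A N b) =
      smulMod A ((Scheme.Modules.pullback (T.i k)).obj N) b :=
  FormalPull13.pull_smulMod_over (T.i k) (T.i_q k) N b

include hF in
theorem hCP (k : ℕ) : IsCohFormal J (C T F (k + 1) ⋙ Scheme.Modules.pullback (T.i k)) :=
  FormalPull13.isCohFormal_pullback (T.i k) (T.i_q k) (hC T F hF (k + 1))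

include ψ in
theorem exists_ecomp (k : ℕ) :
    ∃ e : ∀ n, (C T F (k + 1) ⋙ Scheme.Modules.pullback (T.i k)).obj (op n) ≅ (C T F k).obj (op n),
      ∀ n, tr (C T F (k + 1) ⋙ Scheme.Modules.pullback (T.i k)) n ≫ (e n).hom =
        (e (n + 1)).hom ≫ tr (C T F k) n :=
  exists_completion_iso (Scheme.Modules.pullbackPushforwardAdjunction (T.i k)) (hT T k) J (ψ k)

noncomputable def ecomp (k : ℕ) (n : ℕ) :
    (C T F (k + 1) ⋙ Scheme.Modules.pullback (T.i k)).obj (op n) ≅ (C T F k).obj (op n) :=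
  (exists_ecomp T F ψ k).choose n

theorem hecomp (k : ℕ) (n : ℕ) :
    tr (C T F (k + 1) ⋙ Scheme.Modules.pullback (T.i k)) n ≫ (ecomp T F ψ k n).hom =
      (ecomp T F ψ k (n + 1)).hom ≫ tr (C T F k) n :=
  (exists_ecomp T F ψ k).choose_spec n

/-- The comparison `(T.i k)^* Ker_m^{k+1} ⟶ Ker_m^k`. -/
noncomputable def ω (k m : ℕ) :
    (Scheme.Modules.pullback (T.i k)).obj (kernel (tr (C T F (k + 1)) m)) ⟶ kernel (tr (C T F k) m) :=
  comparison (Scheme.Modules.pullback (T.i k)) m ≫ (kerIso (ecomp T F ψ k) (hecomp T F ψ k) m).hom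

theorem ω_comm (k : ℕ) (i : Fin r) (m : ℕ) :
    (Scheme.Modules.pullback (T.i k)).map ((KS T F hF a ha (k + 1)).t i m) ≫ ω T F ψ k (m + 1) =
      ω T F ψ k m ≫ (KS T F hF a ha k).t i m := by
  unfold ω
  rw [← Category.assoc]
  erw [map_kerOp_comparison (Scheme.Modules.pullback (T.i k)) (hT T k) (hC T F hF (k + 1))
    (hCP T F hF k) a ha (sec T F hF a ha (k + 1)) (hsec T F hF a ha (k + 1)) i m]
  rw [Category.assoc, Category.assoc]
  erw [kerOp_kerIso (hCP T F hF k) (hC T F hF k) (ecomp T F ψ k) (hecomp T F ψ k) a ha _ _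
    (sec T F hF a ha k) (hsec T F hF a ha k) i m]

include hF in
theorem killedBy_C (k n : ℕ) (h : n ≤ k) : KilledBy (J ^ (k + 1)) ((C T F (k + 1)).obj (op n)) :=
  KilledBy.mono (Ideal.pow_le_pow_right (Nat.succ_le_succ h)) ((hC T F hF (k + 1)).2.1 n)

include hF in
theorem isCoh_ker (k m : ℕ) : Coh.IsCoh (kernel (tr (C T F k) m)) := by
  haveI := ((hC T F hF k).1 m).1
  exact H90OXModExact.isCoh_kernel (tr (C T F k) m) ((hC T F hF k).1 (m + 1))

include hF in
theorem isIso_ω (k m : ℕ) (h : m < k) : IsIso (ω T F ψ k m) := by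
  have u1 : IsIso ((Scheme.Modules.pullbackPushforwardAdjunction (T.i k)).unit.app
      ((C T F (k + 1)).obj (op (m + 1)))) :=
    isIso_unit_of_killedBy (J ^ (k + 1)) (T.i k) (T.p k) (T.isPullback_i k) _
      ((hC T F hF (k + 1)).1 (m + 1)) (killedBy_C T F hF k (m + 1) h)
  have u2 : IsIso ((Scheme.Modules.pullbackPushforwardAdjunction (T.i k)).unit.app
      ((C T F (k + 1)).obj (op m))) :=
    isIso_unit_of_killedBy (J ^ (k + 1)) (T.i k) (T.p k) (T.isPullback_i k) _
      ((hC T F hF (k + 1)).1 m) (killedBy_C T F hF k m (Nat.le_of_lt h))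
  have u3 : IsIso ((Scheme.Modules.pullbackPushforwardAdjunction (T.i k)).unit.app
      (kernel (tr (C T F (k + 1)) m))) :=
    isIso_unit_of_killedBy (J ^ (k + 1)) (T.i k) (T.p k) (T.isPullback_i k) _
      (isCoh_ker T F hF (k + 1) m)
      (FormalGr20.killedBy_kernel _ (killedBy_C T F hF k (m + 1) h))
  haveI : IsIso (comparison (Scheme.Modules.pullback (T.i k)) (G := C T F (k + 1)) m) :=
    AdjKer20.isIso_kernelComparison (Scheme.Modules.pullbackPushforwardAdjunction (T.i k))
      (tr (C T F (k + 1)) m)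
  unfold ω
  infer_instance

/-- The pulled back system on the bottom level. -/
noncomputable abbrev Sg (k : ℕ) : Sys (T.Xs 0).Modules r :=
  SysGlue20.mapSys (Scheme.Modules.pullback (T.j k)) (KS T F hF a ha k)

/-- The gluing isomorphisms. -/
noncomputable def θ (k m : ℕ) (h : m < k) :
    (Sg T F hF a ha (k + 1)).G m ≅ (Sg T F hF a ha k).G m :=
  (Scheme.Modules.pullbackComp (T.j k) (T.i k)).symm.app (kernel (tr (C T F (k + 1)) m)) ≪≫
    (Scheme.Modules.pullback (T.j k)).mapIso
      (@asIso _ _ _ _ (ω T F ψ k m) (isIso_ω T F hF ψ k m h))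

theorem θ_comm (k m : ℕ) (h : m + 1 < k) (i : Fin r) :
    (Sg T F hF a ha (k + 1)).t i m ≫ (θ T F hF ψ a ha k (m + 1) h).hom =
      (θ T F hF ψ a ha k m (Nat.lt_of_succ_lt h)).hom ≫ (Sg T F hF a ha k).t i m :=
  pull_comm (T.j k) (T.i k) ((KS T F hF a ha (k + 1)).t i m) ((KS T F hF a ha k).t i m)
    (ω T F ψ k m) (ω T F ψ k (m + 1)) (ω_comm T F hF ψ a ha k i m)

/-- The gluing data on the bottom level. -/
noncomputable def E : SysGlue20.GlueData (T.Xs 0).Modules r where
  Sg := Sg T F hF a ha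
  θ := θ T F hF ψ a ha
  hθ := θ_comm T F hF ψ a ha

end Main

end Groth.Agent.Lib.TowerSys20
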