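/-
helper20: **completion commutes with restriction to an open subscheme**.

* `nonempty_iso_of_levelwise`: levelwise isomorphisms compatible with the transition maps give an isomorphism of systems;
* `restrict_smulMod`: restriction to an open commutes with the scalar multiplications;
* `nonempty_completion_restrict_iso`: `completion I (M|_U) ≅ (completion I M)|_U`;
* `isAmple_structureModule_of_isAffine`, `exists_algebraization_affine`: Grothendieck existence on `Spec A`
  (`A` Noetherian `I`-adically complete): every coherent formal module on `Spec A` is the completion of a coherent module.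
-/
import Groth.Agent.Lib.FormalAlgebraize20
import Groth.Agent.Lib.TowerSys20
import Groth.Agent.Lib.H78QAffine
import Groth.Agent.Lib.H90CohRestrict

set_option autoImplicit false
set_option linter.style.haveILetI false
universe u

open CategoryTheory CategoryTheory.Limits AlgebraicGeometry Opposite

namespace Groth.Agent.Lib.FormalRestrict20

open Formal Groth.Agent.Lib.FormalKerSys20 Groth.Agent.Lib.FormalCoker13

section Levelwise

variable {X : Scheme.{u}}

/-- levelwise isomorphisms compatible with the transition maps give an isomorphism of systems -/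
theorem nonempty_iso_of_levelwise {F G : ℕᵒᵖ ⥤ X.Modules} (e : ∀ n, F.obj (op n) ≅ G.obj (op n))
    (h : ∀ n, tr F n ≫ (e n).hom = (e (n + 1)).hom ≫ tr G n) : Nonempty (F ≅ G) := by
  let φ : F ⟶ G := NatTrans.ofOpSequence (F := F) (G := G) (fun n => (e n).hom) h
  haveI : ∀ n : ℕᵒᵖ, IsIso (φ.app n) := by
    intro n
    obtain ⟨n⟩ := n
    exact inferInstanceAs (IsIso (e n).hom)
  haveI : IsIso φ := NatIso.isIso_of_isIso_app φ
  exact ⟨asIso φ⟩

end Levelwise

variable {A : Type u} [CommRing A] {X : Scheme.{u}} [X.Over (Spec (CommRingCat.of A))]
  (U : X.Opens) [(↑U : Scheme.{u}).Over (Spec (CommRingCat.of A))]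
  (hU : U.ι ≫ (X ↘ Spec (CommRingCat.of A)) = ((↑U : Scheme.{u}) ↘ Spec (CommRingCat.of A)))

include hU in
/-- restriction to an open commutes with the scalar multiplications -/
theorem restrict_smulMod (N : X.Modules) (a : A) :
    (Scheme.Modules.restrictFunctor U.ι).map (smulMod A N a) =
      smulMod A ((Scheme.Modules.restrictFunctor U.ι).obj N) a := by
  have h1 := (Scheme.Modules.restrictFunctorIsoPullback U.ι).hom.naturality (smulMod A N a)
  have h2 := Groth.Agent.Lib.FormalPull13.pull_smulMod_over U.ι hU N a
  rw [h2, ← smulMod_naturality] at h1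
  haveI : IsIso ((Scheme.Modules.restrictFunctorIsoPullback U.ι).hom.app N) := inferInstance
  exact (cancel_mono ((Scheme.Modules.restrictFunctorIsoPullback U.ι).hom.app N)).mp h1

include hU in
/-- **completion commutes with restriction to an open subscheme** -/
theorem nonempty_completion_restrict_iso (I : Ideal A) (M : X.Modules) :
    Nonempty (completion I M ⋙ Scheme.Modules.restrictFunctor U.ι ≅
      completion I ((Scheme.Modules.restrictFunctor U.ι).obj M)) := by
  obtain ⟨e, he⟩ := Groth.Agent.Lib.TowerSys20.exists_completion_iso
    (Scheme.Modules.restrictAdjunction U.ι) (restrict_smulMod U hU) I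
    (Iso.refl ((Scheme.Modules.restrictFunctor U.ι).obj M))
  exact nonempty_iso_of_levelwise e he

include hU in
/-- variant: `(completion I M)|_U ≅ completion I N` for `M|_U ≅ N` -/
theorem nonempty_completion_restrict_iso' (I : Ideal A) {M : X.Modules} {N : (↑U : Scheme.{u}).Modules}
    (ψ : (Scheme.Modules.restrictFunctor U.ι).obj M ≅ N) :
    Nonempty (completion I M ⋙ Scheme.Modules.restrictFunctor U.ι ≅ completion I N) := by
  obtain ⟨e, he⟩ := Groth.Agent.Lib.TowerSys20.exists_completion_iso
    (Scheme.Modules.restrictAdjunction U.ι) (restrict_smulMod U hU) I ψ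
  exact nonempty_iso_of_levelwise e he

end Groth.Agent.Lib.FormalRestrict20
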