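import Groth.Agent.Lib.FormalTransfer23

/-!
# Transfer along a closed immersion: the inverse limits (helper23)

The `ek` of `FormalTransfer23` induce an equivalence of the inverse limits (`nonempty_limEquiv`).
-/

set_option autoImplicit false
universe u

open CategoryTheory CategoryTheory.Limits TopologicalSpace Opposite AlgebraicGeometry

namespace Groth.Agent.Lib.FormalTransfer23

/-- Abstract form: a compatible family of additive equivalences induces an equivalence of the
inverse limits (given as additive subgroups of the products). -/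
theorem nonempty_addEquiv_limits {G H : ℕ → Type u} [∀ n, AddCommGroup (G n)]
    [∀ n, AddCommGroup (H n)]
    (tG : ∀ n, G (n + 1) →+ G n) (tH : ∀ n, H (n + 1) →+ H n) (e : ∀ n, G n ≃+ H n)
    (he : ∀ n x, e n (tG n x) = tH n (e (n + 1) x))
    (LG : AddSubgroup (∀ n, G n)) (LH : AddSubgroup (∀ n, H n))
    (hLG : ∀ x, x ∈ LG ↔ ∀ n, tG n (x (n + 1)) = x n)
    (hLH : ∀ x, x ∈ LH ↔ ∀ n, tH n (x (n + 1)) = x n) : Nonempty (LG ≃+ LH) :=
  ⟨{  toFun := fun y => ⟨fun n => e n (y.1 n), (hLH _).mpr fun n => by
        rw [← he, (hLG _).mp y.2 n]⟩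
      invFun := fun z => ⟨fun n => (e n).symm (z.1 n), (hLG _).mpr fun n => by
        apply (e n).injective
        rw [he, AddEquiv.apply_symm_apply, AddEquiv.apply_symm_apply, (hLH _).mp z.2 n]⟩
      left_inv := fun y => by
        apply Subtype.ext
        funext n
        exact (e n).symm_apply_apply _
      right_inv := fun z => by
        apply Subtype.ext
        funext n
        exact (e n).apply_symm_apply _
      map_add' := fun y y' => by
        apply Subtype.ext
        funext n
        exact (e n).map_add _ _ }⟩

open Formal Groth.Agent.Lib.ModPowPush23 Groth.Agent.Lib.ClosedImmCoh23 Groth.Agent.Lib.CohLES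

variable {A : Type u} [CommRing A] [IsNoetherianRing A] (I : Ideal A)
  {X Z : Scheme.{u}} [X.Over (Spec (CommRingCat.of A))] [Z.Over (Spec (CommRingCat.of A))]
  (i : Z ⟶ X) [i.IsOver (Spec (CommRingCat.of A))] [IsClosedImmersion i]
  {M : X.Modules} {N : Z.Modules} (φ : M ≅ (Scheme.Modules.pushforward i).obj N)

include i φ in
/-- The induced equivalence of the inverse limits (stated as `Nonempty`: the kernel is slow on every
declaration mentioning these cohomology groups). -/
theorem nonempty_limEquiv (p : ℕ) : Nonempty (HHlim I M p ≃+ HHlim I N p) :=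
  nonempty_addEquiv_limits (G := fun n => HHmodPow I M p n) (H := fun n => HHmodPow I N p n)
    (fun n => HHmodPowTrans I M p n) (fun n => HHmodPowTrans I N p n)
    (fun n => ek I i φ (n + 1) p) (fun n x => ek_trans I i φ (n + 1) p x) (HHlim I M p)
    (HHlim I N p) (fun _ => Iff.rfl) (fun _ => Iff.rfl)

end Groth.Agent.Lib.FormalTransfer23
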