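import Groth.Prelude.Def_MoreMor
import Groth.Agent.S9723
import Mathlib.AlgebraicGeometry.Morphisms.Smooth

/-!
# Formally smooth morphisms of schemes are affine-locally formally smooth (helper45)

`MoreMor.IsFormallySmoothHom f` (lifting against first order thickenings of affine schemes)
implies that for affine opens `U ⊆ f⁻¹ V` the ring map `Γ(Y, V) → Γ(X, U)` is formally smooth,
and hence that all stalk maps are formally smooth.
-/

set_option autoImplicit false
universe u

namespace Groth.Agent.Lib.FormallySmoothHomAffine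

open AlgebraicGeometry CategoryTheory

/-- `(1) ⇒ (3)` for formally smooth morphisms: sections over affine opens. -/
theorem formallySmooth_appLE {X Y : Scheme.{u}} (f : X ⟶ Y) (hf : MoreMor.IsFormallySmoothHom f)
    (U : X.Opens) (V : Y.Opens) (hU : IsAffineOpen U) (hV : IsAffineOpen V) (hUV : U ≤ f ⁻¹ᵁ V) :
    letI := (f.appLE V U hUV).hom.toAlgebra
    Algebra.FormallySmooth Γ(Y, V) Γ(X, U) := by
  let _ := (f.appLE V U hUV).hom.toAlgebra
  refine Algebra.FormallySmooth.of_comp_surjective ?_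
  intro B _ _ I hI g
  -- the lifting problem of schemes
  let a : Spec (CommRingCat.of (B ⧸ I)) ⟶ X := Spec.map (CommRingCat.ofHom g.toRingHom) ≫ hU.fromSpec
  let b : Spec (CommRingCat.of B) ⟶ Y :=
    Spec.map (CommRingCat.ofHom (algebraMap Γ(Y, V) B)) ≫ hV.fromSpec
  have hab : Spec.map (CommRingCat.ofHom (Ideal.Quotient.mk I)) ≫ b = a ≫ f := by
    dsimp only [a, b]
    rw [Category.assoc, ← IsAffineOpen.SpecMap_appLE_fromSpec f hV hU hUV, ← Spec.map_comp_assoc,
      ← Spec.map_comp_assoc]
    congr 2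
    ext x
    simp only [CommRingCat.hom_comp, CommRingCat.hom_ofHom, RingHom.comp_apply]
    have := g.commutes x
    rw [RingHom.algebraMap_toAlgebra] at this
    exact this.symm
  obtain ⟨l, hl1, hl2⟩ := hf B I hI a b hab
  have hrange : Set.range l ⊆ Set.range hU.fromSpec := by
    rintro _ ⟨p, rfl⟩
    obtain ⟨q, rfl⟩ := Groth.Agent.S9723.surj_of_sq_zero B I hI p
    refine ⟨Spec.map (CommRingCat.ofHom g.toRingHom) q, ?_⟩
    have := congrArg (fun g => g q) hl1
    simpa [a] using this.symm
  let l' : Spec (CommRingCat.of B) ⟶ Spec Γ(X, U) := IsOpenImmersion.lift hU.fromSpec l hrange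
  have hl' : l' ≫ hU.fromSpec = l := IsOpenImmersion.lift_fac _ _ _
  let ψ : Γ(X, U) ⟶ CommRingCat.of B := Spec.preimage l'
  have hψ : Spec.map ψ = l' := Spec.map_preimage l'
  -- ψ is an algebra map
  have h1 : f.appLE V U hUV ≫ ψ = CommRingCat.ofHom (algebraMap Γ(Y, V) B) := by
    apply Spec.map_injective
    rw [← cancel_mono hV.fromSpec, Spec.map_comp, Category.assoc,
      IsAffineOpen.SpecMap_appLE_fromSpec f hV hU hUV, hψ, ← Category.assoc, hl', hl2]
  have h2 : ψ ≫ CommRingCat.ofHom (Ideal.Quotient.mk I) = CommRingCat.ofHom g.toRingHom := by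
    apply Spec.map_injective
    rw [← cancel_mono hU.fromSpec, Spec.map_comp, Category.assoc, hψ, hl', hl1]
  refine ⟨{ ψ.hom with commutes' := fun r => ?_ }, ?_⟩
  · have := congrArg (fun φ => φ.hom r) h1
    simpa [RingHom.algebraMap_toAlgebra] using this
  · ext x
    have := congrArg (fun φ => φ.hom x) h2
    simpa using this

/-- Stalk maps of a formally smooth morphism are formally smooth. -/
theorem formallySmooth_stalkMap {X Y : Scheme.{u}} (f : X ⟶ Y)
    (hf : MoreMor.IsFormallySmoothHom f) (x : X) : (f.stalkMap x).hom.FormallySmooth := by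
  obtain ⟨_, ⟨V, hV, rfl⟩, hxV, -⟩ :=
    Y.isBasis_affineOpens.exists_subset_of_mem_open (Set.mem_univ (f x)) isOpen_univ
  obtain ⟨_, ⟨U, hU, rfl⟩, hxU, hUV⟩ :=
    X.isBasis_affineOpens.exists_subset_of_mem_open hxV (V.2.preimage f.continuous)
  rw [formallySmooth_stalkMap_iff V hV U hU hUV hxU]
  let _ := (f.appLE V U hUV).hom.toAlgebra
  have h1 : Algebra.FormallySmooth Γ(Y, V) Γ(X, U) := formallySmooth_appLE f hf U V hU hV hUV
  change Algebra.FormallySmooth Γ(Y, V) (Localization.AtPrime (hU.primeIdealOf ⟨x, hxU⟩).asIdeal)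
  have h2 : Algebra.FormallySmooth Γ(X, U)
      (Localization.AtPrime (hU.primeIdealOf ⟨x, hxU⟩).asIdeal) :=
    Algebra.FormallySmooth.of_isLocalization (hU.primeIdealOf ⟨x, hxU⟩).asIdeal.primeCompl
  exact Algebra.FormallySmooth.comp Γ(Y, V) Γ(X, U) _

end Groth.Agent.Lib.FormallySmoothHomAffine
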