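import Groth.Prelude.Def_GLin6
import Mathlib.Algebra.MvPolynomial.Coeff
import Mathlib.Algebra.MvPolynomial.Monad

/-!
# The action of matrices on the coordinates of the space of forms (helper38)

`fc k M l m` is the matrix of the degree-`d` substitution representation at a matrix `M` with
entries in a commutative `k`-algebra `S`; `act k a M` the moved coordinate vector.  Multiplicativity,
diagonal matrices, base change, and the identity `formPoly (act a M) = (formPoly a)(M y)`.
-/

set_option autoImplicit false
set_option linter.unusedSectionVars false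
set_option linter.unusedSimpArgs false
universe u v w
open MvPolynomial TensorProduct CoordGrp

namespace Groth.Agent.Lib.FormsAct38

section Basic
variable (k : Type u) [CommRing k] {n d : ℕ} {S : Type v} [CommRing S] [Algebra k S]

/-- the matrix coefficients of the substitution representation on forms, at the matrix `M` -/
noncomputable def fc (M : Matrix (Fin n) (Fin n) S) (l m : FormIdx n d) : S :=
  Mat.aeval n k M (formCoeff k n d l m)

/-- the coordinate vector `a` moved by the matrix `M` -/
noncomputable def act (a : FormIdx n d → S) (M : Matrix (Fin n) (Fin n) S) : FormIdx n d → S :=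
  fun m => ∑ l, a l * fc k M l m

theorem aeval_one : Mat.aeval n k (1 : Matrix (Fin n) (Fin n) S) =
    (Algebra.ofId k S).comp (Bialgebra.counitAlgHom k (Mat n k)) := by
  apply Mat.algHom_ext
  intro i j
  rw [Mat.aeval_X, AlgHom.comp_apply, Bialgebra.counitAlgHom_apply, Mat.counit_X, Matrix.one_apply]
  split_ifs <;> simp

theorem aeval_mul (M N : Matrix (Fin n) (Fin n) S) : Mat.aeval n k (M * N) =
    (Algebra.TensorProduct.lift (Mat.aeval n k M) (Mat.aeval n k N)
      (fun _ _ => Commute.all _ _)).comp (Bialgebra.comulAlgHom k (Mat n k)) := by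
  apply Mat.algHom_ext
  intro i j
  rw [Mat.aeval_X, AlgHom.comp_apply, Bialgebra.comulAlgHom_apply, Mat.comul_X, map_sum,
    Matrix.mul_apply]
  apply Finset.sum_congr rfl
  intro l _
  rw [Algebra.TensorProduct.lift_tmul, Mat.aeval_X, Mat.aeval_X]

theorem fc_one [DecidableEq (FormIdx n d)] (l m : FormIdx n d) :
    fc k (1 : Matrix (Fin n) (Fin n) S) l m = if l = m then 1 else 0 := by
  classical
  rw [fc, aeval_one, AlgHom.comp_apply, Bialgebra.counitAlgHom_apply, counit_formCoeff]
  split_ifs with h
  · exact map_one _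
  · exact map_zero _

theorem fc_mul (M N : Matrix (Fin n) (Fin n) S) (l m : FormIdx n d) :
    fc k (M * N) l m = ∑ j, fc k M l j * fc k N j m := by
  rw [fc, aeval_mul, AlgHom.comp_apply, Bialgebra.comulAlgHom_apply, comul_formCoeff, map_sum]
  apply Finset.sum_congr rfl
  intro j _
  rw [Algebra.TensorProduct.lift_tmul]
  rfl

theorem act_one (a : FormIdx n d → S) : act k a 1 = a := by
  classical
  funext m
  simp only [act, fc_one, mul_ite, mul_one, mul_zero, Finset.sum_ite_eq', Finset.mem_univ, if_true]

theorem act_mul (a : FormIdx n d → S) (M N : Matrix (Fin n) (Fin n) S) :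
    act k (act k a M) N = act k a (M * N) := by
  funext m
  simp only [act, fc_mul, Finset.sum_mul, Finset.mul_sum]
  rw [Finset.sum_comm]
  apply Finset.sum_congr rfl
  intro l _
  apply Finset.sum_congr rfl
  intro j _
  ring

theorem act_zero (M : Matrix (Fin n) (Fin n) S) : act k (0 : FormIdx n d → S) M = 0 := by
  funext m
  simp [act]

theorem fc_map {S' : Type w} [CommRing S'] [Algebra k S'] (φ : S →ₐ[k] S')
    (M : Matrix (Fin n) (Fin n) S) (l m : FormIdx n d) :
    φ (fc k M l m) = fc k (M.map φ) l m := by
  have h : φ.comp (Mat.aeval n k M) = Mat.aeval n k (M.map φ) := by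
    apply Mat.algHom_ext
    intro i j
    simp
  rw [fc, fc, ← h]
  rfl

theorem act_map {S' : Type w} [CommRing S'] [Algebra k S'] (φ : S →ₐ[k] S')
    (a : FormIdx n d → S) (M : Matrix (Fin n) (Fin n) S) (m : FormIdx n d) :
    φ (act k a M m) = act k (fun l => φ (a l)) (M.map φ) m := by
  simp only [act, map_sum, map_mul, fc_map]

end Basic

section Subst
variable (k : Type u) [CommRing k] {n d : ℕ} {S : Type v} [CommRing S] [Algebra k S]

/-- the substitution `x_i ↦ Σ_j M_ji x_j`, from `k[x]` to `S[x]` -/
noncomputable def subT (M : Matrix (Fin n) (Fin n) S) :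
    MvPolynomial (Fin n) k →ₐ[k] MvPolynomial (Fin n) S :=
  aeval fun i => ∑ j, C (M j i) * X j

/-- `k[x] ⊗ O(Mat) → S[x]`, evaluating the second factor at `M` -/
noncomputable def Phi (M : Matrix (Fin n) (Fin n) S) :
    MvPolynomial (Fin n) k ⊗[k] Mat n k →ₐ[k] MvPolynomial (Fin n) S :=
  Algebra.TensorProduct.lift (mapAlgHom (Algebra.ofId k S))
    ((IsScalarTower.toAlgHom k S (MvPolynomial (Fin n) S)).comp (Mat.aeval n k M))
    (fun _ _ => Commute.all _ _)

theorem Phi_tmul (M : Matrix (Fin n) (Fin n) S) (p : MvPolynomial (Fin n) k) (a : Mat n k) :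
    Phi k M (p ⊗ₜ[k] a) = map (algebraMap k S) p * C (Mat.aeval n k M a) := by
  rw [Phi, Algebra.TensorProduct.lift_tmul]
  rfl

theorem Phi_stdCoact (M : Matrix (Fin n) (Fin n) S) :
    (Phi k M).comp (stdCoactAlg n k) = subT k M := by
  apply MvPolynomial.algHom_ext
  intro i
  rw [AlgHom.comp_apply, stdCoactAlg_X, map_sum, subT, aeval_X]
  apply Finset.sum_congr rfl
  intro j _
  rw [Phi_tmul, map_X, Mat.aeval_X, mul_comm]

theorem coeff_Phi (M : Matrix (Fin n) (Fin n) S) (l : Fin n →₀ ℕ)
    (w : MvPolynomial (Fin n) k ⊗[k] Mat n k) :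
    coeff l (Phi k M w) = Mat.aeval n k M (coeffT (k := k) l w) := by
  induction w using TensorProduct.induction_on with
  | zero => simp
  | add x y hx hy => simp only [map_add, coeff_add, hx, hy]
  | tmul p a =>
    rw [Phi_tmul, coeffT_tmul, mul_comm, coeff_C_mul, coeff_map, map_smul, Algebra.smul_def, mul_comm]

theorem fc_eq_coeff (M : Matrix (Fin n) (Fin n) S) (l m : FormIdx n d) :
    fc k M l m = coeff l.1 (subT k M (monomial m.1 1)) := by
  rw [fc, formCoeff, ← coeff_Phi, ← Phi_stdCoact]
  rfl

theorem subT_monomial (M : Matrix (Fin n) (Fin n) S) (m : Fin n →₀ ℕ) :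
    subT k M (monomial m 1) = ∏ i, (∑ j, C (M j i) * X j) ^ m i := by
  rw [subT, aeval_monomial, map_one, one_mul, Finsupp.prod_fintype]
  intro i
  exact pow_zero _

theorem fc_diagonal [DecidableEq (FormIdx n d)] (t : Fin n → S) (l m : FormIdx n d) :
    fc k (Matrix.diagonal t) l m = if l = m then ∏ i, t i ^ m.1 i else 0 := by
  classical
  rw [fc_eq_coeff, subT_monomial]
  have h1 : ∀ i, (∑ j, C (Matrix.diagonal t j i) * X j : MvPolynomial (Fin n) S) = C (t i) * X i := by
    intro i
    rw [Finset.sum_eq_single i]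
    · rw [Matrix.diagonal_apply_eq]
    · intro j _ hj
      rw [Matrix.diagonal_apply_ne _ hj, map_zero, zero_mul]
    · intro h; exact absurd (Finset.mem_univ i) h
  simp only [h1, mul_pow, Finset.prod_mul_distrib]
  have h2 : (∏ i, (X i : MvPolynomial (Fin n) S) ^ m.1 i) = monomial m.1 1 := by
    rw [monomial_eq, map_one, one_mul, Finsupp.prod_fintype]
    intro i
    exact pow_zero _
  rw [h2]
  simp only [← map_pow, ← map_prod]
  rw [coeff_C_mul, coeff_monomial]
  by_cases h : l = m
  · subst h; simp
  · have : m.1 ≠ l.1 := fun e => h (Subtype.ext e.symm)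
    simp [h, this]

theorem act_diagonal (a : FormIdx n d → S) (t : Fin n → S) (m : FormIdx n d) :
    act k a (Matrix.diagonal t) m = a m * ∏ i, t i ^ m.1 i := by
  classical
  simp only [act, fc_diagonal, mul_ite, mul_zero, Finset.sum_ite_eq', Finset.mem_univ, if_true]

end Subst

section FormPoly
variable (k : Type u) [CommRing k] {n d : ℕ} {S : Type v} [CommRing S] [Algebra k S]

/-- the linear form `(M y)_i` -/
noncomputable def linM (M : Matrix (Fin n) (Fin n) S) (i : Fin n) : MvPolynomial (Fin n) S :=
  ∑ j, C (M i j) * X j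

theorem sum_id_eq_degree (l : FormIdx n d) : (l.1.sum fun _ e => e) = d := l.2

/-- the multinomial expansion as an identity of polynomials -/
theorem sum_smul_X_pow {B : Type w} [CommRing B] (a : Fin n → B) :
    (∑ i, a i • (X i : MvPolynomial (Fin n) B)) ^ d =
      ∑ m : FormIdx n d, monomial m.1 ((m.1.multinomial : B) * ∏ i, a i ^ m.1 i) := by
  classical
  ext s
  rw [coeff_linearCombination_X_pow_of_fintype, coeff_sum]
  by_cases hs : (s.sum fun _ e => e) = d
  · rw [if_pos hs, Finset.sum_eq_single (⟨s, hs⟩ : FormIdx n d)]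
    · rw [coeff_monomial, if_pos rfl, Finsupp.prod_fintype]
      intro i
      exact pow_zero _
    · intro m _ hm
      rw [coeff_monomial, if_neg]
      intro e
      exact hm (Subtype.ext e)
    · intro h; exact absurd (Finset.mem_univ _) h
  · rw [if_neg hs]
    symm
    apply Finset.sum_eq_zero
    intro m _
    rw [coeff_monomial, if_neg]
    intro e
    exact hs (e ▸ m.2)

theorem key_star (M : Matrix (Fin n) (Fin n) S) (l : FormIdx n d) :
    ∑ m : FormIdx n d, monomial m.1 ((m.1.multinomial : S) * fc k M l m) =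
      C (l.1.multinomial : S) * ∏ i, linM M i ^ l.1 i := by
  classical
  -- work in `S[y][x]`
  let Sy := MvPolynomial (Fin n) S
  let Lx : Fin n → MvPolynomial (Fin n) Sy := fun i => ∑ j, C (C (M j i)) * X j
  have hbase : (∑ j, linM M j • (X j : MvPolynomial (Fin n) Sy)) =
      ∑ i, (X i : Sy) • Lx i := by
    simp only [linM, Lx, smul_eq_C_mul, map_sum, map_mul, Finset.sum_mul, Finset.mul_sum]
    rw [Finset.sum_comm]
    apply Finset.sum_congr rfl
    intro i _
    apply Finset.sum_congr rfl
    intro j _
    ring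
  have h1 := congrArg (coeff l.1) (sum_smul_X_pow (d := d) (fun j => linM M j))
  have h2 := congrArg (aeval Lx : MvPolynomial (Fin n) Sy →ₐ[Sy] MvPolynomial (Fin n) Sy)
    (sum_smul_X_pow (d := d) (fun i => (X i : Sy)))
  rw [map_pow, map_sum] at h2
  simp only [map_smul, aeval_X] at h2
  rw [← hbase, map_sum] at h2
  rw [h2] at h1
  -- right-hand side of h1
  have hr : coeff l.1 (∑ m : FormIdx n d, monomial m.1
      ((m.1.multinomial : Sy) * ∏ i, linM M i ^ m.1 i)) =
        (l.1.multinomial : Sy) * ∏ i, linM M i ^ l.1 i := by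
    rw [coeff_sum, Finset.sum_eq_single l]
    · rw [coeff_monomial, if_pos rfl]
    · intro m _ hm
      rw [coeff_monomial, if_neg]
      intro e
      exact hm (Subtype.ext e)
    · intro h; exact absurd (Finset.mem_univ _) h
  rw [hr] at h1
  -- left-hand side of h1
  have hLx : ∀ m : FormIdx n d, (∏ i, Lx i ^ m.1 i) =
      map (C : S →+* Sy) (subT k M (monomial m.1 1)) := by
    intro m
    rw [subT_monomial, map_prod]
    apply Finset.prod_congr rfl
    intro i _
    rw [map_pow, map_sum]
    congr 1
    apply Finset.sum_congr rfl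
    intro j _
    rw [map_mul, map_C, map_X]
  have hl : ∀ m : FormIdx n d, coeff l.1 ((aeval Lx : MvPolynomial (Fin n) Sy →ₐ[Sy] _)
      (monomial m.1 ((m.1.multinomial : Sy) * ∏ i, (X i : Sy) ^ m.1 i))) =
        monomial m.1 ((m.1.multinomial : S) * fc k M l m) := by
    intro m
    rw [aeval_monomial, Finsupp.prod_fintype _ _ (fun i => pow_zero _), hLx,
      MvPolynomial.algebraMap_eq, coeff_C_mul, coeff_map, ← fc_eq_coeff, monomial_eq,
      Finsupp.prod_fintype _ _ (fun i => pow_zero _), map_mul, map_natCast]
    ring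
  rw [coeff_sum] at h1
  simp only [hl] at h1
  rw [h1, map_natCast]

/-- **the form of the moved point is the form with the variables substituted** -/
theorem formPoly_act (a : FormIdx n d → S) (M : Matrix (Fin n) (Fin n) S) :
    formPoly (act k a M) = aeval (linM M) (formPoly a) := by
  classical
  simp only [formPoly, act, map_sum]
  have h : ∀ l : FormIdx n d, aeval (linM M) (monomial l.1 ((l.1.multinomial : S) * a l)) =
      C (a l) * ∑ m : FormIdx n d, monomial m.1 ((m.1.multinomial : S) * fc k M l m) := by
    intro l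
    rw [key_star, aeval_monomial, Finsupp.prod_fintype _ _ (fun i => pow_zero _),
      MvPolynomial.algebraMap_eq, map_mul, map_natCast]
    ring
  simp only [h, Finset.mul_sum]
  rw [Finset.sum_comm]
  apply Finset.sum_congr rfl
  intro m _
  simp only [C_mul_monomial, ← map_sum (monomial m.1)]
  congr 1
  apply Finset.sum_congr rfl
  intro l _
  ring

end FormPoly

end Groth.Agent.Lib.FormsAct38
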