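import Groth.Agent.Lib.FpBaseChange

/-!
# The relative diagonal square (helper64)

For `a : 𝒜 ⟶ 𝒴`, `b : ℬ ⟶ 𝒴`, `g : 𝒴 ⟶ 𝒵` over `C`:
* `relToProd a b g : 𝒜 ×_𝒴 ℬ ⟶ 𝒜 ×_𝒵 ℬ`, `relProdMap a b g : 𝒜 ×_𝒵 ℬ ⟶ 𝒴 ×_𝒵 𝒴`;
* `relDiagEquiv a b g : 𝒜 ×_𝒴 ℬ ⟶ (𝒜 ×_𝒵 ℬ) ×_{𝒴 ×_𝒵 𝒴} 𝒴`, an equivalence over `C`
  (`relDiagEquiv_isEquivOver`): the square with the diagonal `Δ_g : 𝒴 ⟶ 𝒴 ×_𝒵 𝒴` is 2-cartesian.
-/

set_option autoImplicit false
set_option linter.style.haveILetI false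
set_option backward.isDefEq.respectTransparency false
set_option backward.isDefEq.respectTransparency.types false

namespace Groth.Agent.Lib.FpRelDiag

open CategoryTheory Functor Groth.Agent.Lib.FibGrpd Groth.Agent.Lib.FpEquiv

universe v₅ u₅ v₄ u₄ v₃ u₃ v₂ u₂ v u

variable {C : Type u} [Category.{v} C]

variable {𝒜 : BasedCategory.{v₂, u₂} C} {ℬ : BasedCategory.{v₃, u₃} C}
  {𝒴 : BasedCategory.{v₄, u₄} C} {𝒵 : BasedCategory.{v₅, u₅} C}
  (a : 𝒜 ⥤ᵇ 𝒴) (b : ℬ ⥤ᵇ 𝒴) (g : 𝒴 ⥤ᵇ 𝒵)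

/-- `𝒜 ×_𝒴 ℬ ⟶ 𝒜 ×_𝒵 ℬ`, `(x, y, φ) ↦ (x, y, g φ)`. -/
def relToProd : FibCat.fp a b ⥤ᵇ FibCat.fp (BasedFunctor.comp a g) (BasedFunctor.comp b g) :=
  fpMap (F := BasedFunctor.comp a g) (G := BasedFunctor.comp b g) (F' := a) (G' := b)
    (BasedFunctor.id 𝒜) (BasedFunctor.id ℬ) g (Iso.refl _) (Iso.refl _)

@[simp] theorem relToProd_obj_fst (z : (FibCat.fp a b).obj) :
    ((relToProd a b g).obj z).obj.fst = z.obj.fst := rfl

@[simp] theorem relToProd_obj_snd (z : (FibCat.fp a b).obj) :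
    ((relToProd a b g).obj z).obj.snd = z.obj.snd := rfl

theorem relToProd_obj_iso_hom (z : (FibCat.fp a b).obj) :
    ((relToProd a b g).obj z).obj.iso.hom = g.map z.obj.iso.hom := by
  have := fpMap_obj_iso_hom (F := BasedFunctor.comp a g) (G := BasedFunctor.comp b g) (F' := a)
    (G' := b) (BasedFunctor.id 𝒜) (BasedFunctor.id ℬ) g (Iso.refl _) (Iso.refl _) z
  refine this.trans ?_
  simp only [appIso, mapIso_refl, Iso.app_inv, Iso.refl_inv, NatTrans.id_app,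
    Iso.app_hom, Iso.refl_hom]
  exact (Category.id_comp _).trans (Category.comp_id _)

@[simp] theorem relToProd_map_fst {z z' : (FibCat.fp a b).obj} (m : z ⟶ z') :
    ((relToProd a b g).map m).hom.fst = m.hom.fst := rfl

@[simp] theorem relToProd_map_snd {z z' : (FibCat.fp a b).obj} (m : z ⟶ z') :
    ((relToProd a b g).map m).hom.snd = m.hom.snd := rfl

/-- `𝒜 ×_𝒵 ℬ ⟶ 𝒴 ×_𝒵 𝒴`, `(x, y, ψ) ↦ (a x, b y, ψ)`. -/
def relProdMap : FibCat.fp (BasedFunctor.comp a g) (BasedFunctor.comp b g) ⥤ᵇ FibCat.fp g g :=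
  fpMap (F := g) (G := g) (F' := BasedFunctor.comp a g) (G' := BasedFunctor.comp b g)
    a b (BasedFunctor.id 𝒵) (Iso.refl _) (Iso.refl _)

@[simp] theorem relProdMap_obj_fst
    (z : (FibCat.fp (BasedFunctor.comp a g) (BasedFunctor.comp b g)).obj) :
    ((relProdMap a b g).obj z).obj.fst = a.obj z.obj.fst := rfl

@[simp] theorem relProdMap_obj_snd
    (z : (FibCat.fp (BasedFunctor.comp a g) (BasedFunctor.comp b g)).obj) :
    ((relProdMap a b g).obj z).obj.snd = b.obj z.obj.snd := rfl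

theorem relProdMap_obj_iso_hom
    (z : (FibCat.fp (BasedFunctor.comp a g) (BasedFunctor.comp b g)).obj) :
    ((relProdMap a b g).obj z).obj.iso.hom = z.obj.iso.hom := by
  have := fpMap_obj_iso_hom (F := g) (G := g) (F' := BasedFunctor.comp a g)
    (G' := BasedFunctor.comp b g) a b (BasedFunctor.id 𝒵) (Iso.refl _) (Iso.refl _) z
  refine this.trans ?_
  simp only [BasedFunctor.comp_id, appIso, mapIso_refl, Iso.app_inv, Iso.refl_inv, NatTrans.id_app,
    Iso.app_hom, Iso.refl_hom]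
  exact (Category.id_comp _).trans (Category.comp_id _)

@[simp] theorem relProdMap_map_fst
    {z z' : (FibCat.fp (BasedFunctor.comp a g) (BasedFunctor.comp b g)).obj} (m : z ⟶ z') :
    ((relProdMap a b g).map m).hom.fst = a.map m.hom.fst := rfl

@[simp] theorem relProdMap_map_snd
    {z z' : (FibCat.fp (BasedFunctor.comp a g) (BasedFunctor.comp b g)).obj} (m : z ⟶ z') :
    ((relProdMap a b g).map m).hom.snd = b.map m.hom.snd := rfl

theorem diag_obj_fst (s : 𝒴.obj) : ((FibCat.diag g).obj s).obj.fst = s := rfl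

theorem diag_obj_snd (s : 𝒴.obj) : ((FibCat.diag g).obj s).obj.snd = s := rfl

theorem diag_obj_iso_hom (s : 𝒴.obj) : ((FibCat.diag g).obj s).obj.iso.hom = 𝟙 (g.obj s) := rfl

theorem diag_map_fst {s s' : 𝒴.obj} (σ : s ⟶ s') : ((FibCat.diag g).map σ).hom.fst = σ := rfl

theorem diag_map_snd {s s' : 𝒴.obj} (σ : s ⟶ s') : ((FibCat.diag g).map σ).hom.snd = σ := rfl

/-- The component of the 2-isomorphism used to define `relDiagEquiv`. -/
def relDiagObjIso (z : (FibCat.fp a b).obj) :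
    (relProdMap a b g).obj ((relToProd a b g).obj z) ≅ (FibCat.diag g).obj (b.obj z.obj.snd) :=
  fpIsoMk (z := (relProdMap a b g).obj ((relToProd a b g).obj z))
    (z' := (FibCat.diag g).obj (b.obj z.obj.snd)) z.obj.iso (Iso.refl (b.obj z.obj.snd)) (by
      rw [relProdMap_obj_iso_hom, relToProd_obj_iso_hom, diag_obj_iso_hom]
      have e1 : g.map (Iso.refl (b.obj z.obj.snd)).hom = 𝟙 _ := g.toFunctor.map_id _
      rw [e1])

theorem relDiagObjIso_hom_fst (z : (FibCat.fp a b).obj) :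
    (relDiagObjIso a b g z).hom.hom.fst = z.obj.iso.hom := rfl

theorem relDiagObjIso_hom_snd (z : (FibCat.fp a b).obj) :
    (relDiagObjIso a b g z).hom.hom.snd = 𝟙 (b.obj z.obj.snd) := rfl

/-- The 2-isomorphism used to define `relDiagEquiv`. -/
def relDiagIso :
    BasedFunctor.comp (relToProd a b g) (relProdMap a b g) ≅
      BasedFunctor.comp (BasedFunctor.comp (FibCat.fpSnd a b) b) (FibCat.diag g) :=
  BasedNatIso.mkNatIso
    (NatIso.ofComponents (fun z => relDiagObjIso a b g z) (fun {z z'} m => by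
      apply fp_hom_ext
      · show a.map m.hom.fst ≫ z'.obj.iso.hom = z.obj.iso.hom ≫ b.map m.hom.snd
        exact m.hom.w
      · show b.map m.hom.snd ≫ 𝟙 _ = 𝟙 _ ≫ b.map m.hom.snd
        rw [Category.comp_id, Category.id_comp]))
    (fun z => by
      rw [fp_isHomLift_iff]
      show 𝒴.p.IsHomLift (𝟙 (𝒜.p.obj z.obj.fst)) z.obj.iso.hom
      exact z.property)

/-- The comparison `𝒜 ×_𝒴 ℬ ⟶ (𝒜 ×_𝒵 ℬ) ×_{𝒴 ×_𝒵 𝒴} 𝒴`. -/
def relDiagEquiv : FibCat.fp a b ⥤ᵇ FibCat.fp (relProdMap a b g) (FibCat.diag g) :=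
  FibCat.fpLift (relToProd a b g) (BasedFunctor.comp (FibCat.fpSnd a b) b) (relDiagIso a b g)

theorem relDiagEquiv_obj_fst (z : (FibCat.fp a b).obj) :
    ((relDiagEquiv a b g).obj z).obj.fst = (relToProd a b g).obj z := rfl

theorem relDiagEquiv_obj_snd (z : (FibCat.fp a b).obj) :
    ((relDiagEquiv a b g).obj z).obj.snd = b.obj z.obj.snd := rfl

theorem relDiagEquiv_obj_iso_hom_fst (z : (FibCat.fp a b).obj) :
    ((relDiagEquiv a b g).obj z).obj.iso.hom.hom.fst = z.obj.iso.hom := rfl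

theorem relDiagEquiv_obj_iso_hom_snd (z : (FibCat.fp a b).obj) :
    ((relDiagEquiv a b g).obj z).obj.iso.hom.hom.snd = 𝟙 (b.obj z.obj.snd) := rfl

theorem relDiagEquiv_map_fst {z z' : (FibCat.fp a b).obj} (m : z ⟶ z') :
    ((relDiagEquiv a b g).map m).hom.fst = (relToProd a b g).map m := rfl

theorem relDiagEquiv_map_snd {z z' : (FibCat.fp a b).obj} (m : z ⟶ z') :
    ((relDiagEquiv a b g).map m).hom.snd = b.map m.hom.snd := rfl

/-- The first projection of `relDiagEquiv` is `relToProd`. -/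
theorem relDiagEquiv_comp_fpFst :
    BasedFunctor.comp (relDiagEquiv a b g) (FibCat.fpFst (relProdMap a b g) (FibCat.diag g)) =
      relToProd a b g := rfl

theorem relDiagEquiv_faithful : (relDiagEquiv a b g).toFunctor.Faithful where
  map_injective {z z'} m n hmn := by
    have h1 : (relToProd a b g).map m = (relToProd a b g).map n :=
      congrArg (fun k : (relDiagEquiv a b g).obj z ⟶ (relDiagEquiv a b g).obj z' => k.hom.fst) hmn
    apply fp_hom_ext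
    · exact congrArg
        (fun k : (relToProd a b g).obj z ⟶ (relToProd a b g).obj z' => k.hom.fst) h1
    · exact congrArg
        (fun k : (relToProd a b g).obj z ⟶ (relToProd a b g).obj z' => k.hom.snd) h1

theorem relDiagEquiv_full : (relDiagEquiv a b g).toFunctor.Full where
  map_surjective {z z'} n := by
    let ξ : z.obj.fst ⟶ z'.obj.fst := n.hom.fst.hom.fst
    let υ : z.obj.snd ⟶ z'.obj.snd := n.hom.fst.hom.snd
    let σ : b.obj z.obj.snd ⟶ b.obj z'.obj.snd := n.hom.snd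
    have hw := n.hom.w
    have hw1 : a.map ξ ≫ z'.obj.iso.hom = z.obj.iso.hom ≫ σ :=
      congrArg (fun k : (relProdMap a b g).obj ((relToProd a b g).obj z) ⟶
        (FibCat.diag g).obj (b.obj z'.obj.snd) => k.hom.fst) hw
    have hw2 : b.map υ ≫ 𝟙 (b.obj z'.obj.snd) = 𝟙 (b.obj z.obj.snd) ≫ σ :=
      congrArg (fun k : (relProdMap a b g).obj ((relToProd a b g).obj z) ⟶
        (FibCat.diag g).obj (b.obj z'.obj.snd) => k.hom.snd) hw
    rw [Category.comp_id, Category.id_comp] at hw2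
    have hm : a.map ξ ≫ z'.obj.iso.hom = z.obj.iso.hom ≫ b.map υ := by rw [hw2]; exact hw1
    refine ⟨fpHomMk ξ υ hm, ?_⟩
    apply fp_hom_ext
    · apply fp_hom_ext
      · rfl
      · rfl
    · exact hw2

theorem relDiagEquiv_isEquivOver : FibCat.IsEquivOver (relDiagEquiv a b g) := by
  haveI := relDiagEquiv_faithful a b g
  haveI := relDiagEquiv_full a b g
  apply isEquivOver_of_ff_of_ess
  intro w
  let P : (FibCat.fp (BasedFunctor.comp a g) (BasedFunctor.comp b g)).obj := w.obj.fst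
  let x : 𝒜.obj := P.obj.fst
  let y : ℬ.obj := P.obj.snd
  let s : 𝒴.obj := w.obj.snd
  let κ : (relProdMap a b g).obj P ≅ (FibCat.diag g).obj s := w.obj.iso
  let κ₁ : a.obj x ≅ s := fpIsoFst κ
  let κ₂ : b.obj y ≅ s := fpIsoSnd κ
  have hκ : (FibCat.fp g g).p.IsHomLift (𝟙 (𝒜.p.obj x)) κ.hom := w.property
  haveI hκ₁ : 𝒴.p.IsHomLift (𝟙 (𝒜.p.obj x)) κ₁.hom := (fp_isHomLift_iff _ _ _ κ.hom).1 hκ
  haveI hκ₂ : 𝒴.p.IsHomLift (𝟙 (𝒜.p.obj x)) κ₂.hom := fp_isHomLift_snd' _ _ _ κ.hom hκ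
  haveI hκ₂' : 𝒴.p.IsHomLift (𝟙 (𝒜.p.obj x)) κ₂.inv := inferInstance
  let φ : a.obj x ≅ b.obj y := κ₁ ≪≫ κ₂.symm
  have hφ : 𝒴.p.IsHomLift (𝟙 (𝒜.p.obj x)) φ.hom := by
    show 𝒴.p.IsHomLift (𝟙 (𝒜.p.obj x)) (κ₁.hom ≫ κ₂.inv)
    infer_instance
  let z : (FibCat.fp a b).obj := ⟨{ fst := x, snd := y, iso := φ }, hφ⟩
  -- the compatibility of `κ` with the structure isomorphisms
  have hκw : g.map κ₁.hom ≫ 𝟙 (g.obj s) = P.obj.iso.hom ≫ g.map κ₂.hom := by
    have := κ.hom.hom.w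
    rw [relProdMap_obj_iso_hom, diag_obj_iso_hom] at this
    exact this
  have he₁ : (BasedFunctor.comp a g).map (𝟙 x) ≫ P.obj.iso.hom =
      ((relToProd a b g).obj z).obj.iso.hom ≫ (BasedFunctor.comp b g).map (𝟙 y) := by
    rw [relToProd_obj_iso_hom]
    show g.map (a.map (𝟙 x)) ≫ P.obj.iso.hom = g.map (κ₁.hom ≫ κ₂.inv) ≫ g.map (b.map (𝟙 y))
    rw [Functor.map_id, Functor.map_id, Functor.map_id, Functor.map_id, Category.id_comp,
      Category.comp_id, Functor.map_comp, ← cancel_mono (g.map κ₂.hom), Category.assoc,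
      ← Functor.map_comp, Iso.inv_hom_id, Functor.map_id, Category.comp_id, ← hκw,
      Category.comp_id]
  let e₁ : (relToProd a b g).obj z ≅ P :=
    fpIsoMk (z := (relToProd a b g).obj z) (z' := P) (Iso.refl x) (Iso.refl y) he₁
  have hcompat : (relProdMap a b g).map e₁.hom ≫ κ.hom =
      ((relDiagEquiv a b g).obj z).obj.iso.hom ≫ (FibCat.diag g).map κ₂.hom := by
    apply fp_hom_ext
    · show a.map (𝟙 x) ≫ κ₁.hom = (κ₁.hom ≫ κ₂.inv) ≫ κ₂.hom
      rw [a.map_id, Category.id_comp, Category.assoc, Iso.inv_hom_id, Category.comp_id]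
    · show b.map (𝟙 y) ≫ κ₂.hom = 𝟙 (b.obj y) ≫ κ₂.hom
      rw [b.map_id]
  let e : (relDiagEquiv a b g).obj z ≅ w :=
    fpIsoMk (z := (relDiagEquiv a b g).obj z) (z' := w) e₁ κ₂ hcompat
  refine ⟨z, e, ?_⟩
  show (FibCat.fp (relProdMap a b g) (FibCat.diag g)).p.IsHomLift (𝟙 (𝒜.p.obj x)) e.hom
  rw [fp_isHomLift_iff, fp_isHomLift_iff]
  show 𝒜.p.IsHomLift (𝟙 (𝒜.p.obj x)) (𝟙 x)
  exact IsHomLift.id rfl

end Groth.Agent.Lib.FpRelDiag
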