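import Mathlib

/-!
# helper67: factoring through a closed immersion is fppf-local on the source

`exists_fac_of_fppf_local`: if `i : K ⟶ X` is a closed immersion, `a : W ⟶ X`, and for a family of flat morphisms
`u : U ⟶ W` which is jointly surjective every `u ≫ a` factors through `i`, then `a` factors through `i`.
-/

set_option autoImplicit false
universe u
open CategoryTheory CategoryTheory.Limits AlgebraicGeometry

namespace Groth.Agent.Lib.FppfClosed67

/-- the stalk map of a flat morphism is injective -/
theorem stalkMap_injective_of_flat {U W : Scheme.{u}} (f : U ⟶ W) [Flat f] (x : U) :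
    Function.Injective (f.stalkMap x).hom := by
  algebraize [(f.stalkMap x).hom]
  have : Module.FaithfullyFlat (W.presheaf.stalk (f x)) (U.presheaf.stalk x) :=
    @Module.FaithfullyFlat.of_flat_of_isLocalHom _ _ _ _ _ _ _
      (Flat.stalkMap f x) (f.toLRSHom.prop x)
  exact ‹RingHom.FaithfullyFlat _›.injective

/-- a closed immersion through which a jointly surjective family of flat morphisms factors is an isomorphism -/
theorem isIso_of_closedImmersion_of_flat_family {Z W : Scheme.{u}} (j : Z ⟶ W) [IsClosedImmersion j]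
    (h : ∀ w : W, ∃ (U : Scheme.{u}) (u : U ⟶ W) (v : U ⟶ Z), Flat u ∧ v ≫ j = u ∧ w ∈ Set.range u) :
    IsIso j := by
  rw [isIso_iff_isIso_stalkMap]
  have hinj : Function.Injective j := j.isClosedEmbedding.injective
  have hsurj : Function.Surjective j := by
    intro w
    obtain ⟨U, u, v, _, huv, q, hq⟩ := h w
    refine ⟨v q, ?_⟩
    rw [← hq, ← huv]
    rfl
  refine ⟨?_, ?_⟩
  · have hhomeo : IsHomeomorph j :=
      (isHomeomorph_iff_isEmbedding_surjective).2 ⟨j.isClosedEmbedding.isEmbedding, hsurj⟩
    exact (TopCat.isIso_iff_isHomeomorph _).2 hhomeo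
  · intro z
    obtain ⟨U, u, v, hu, huv, q, hq⟩ := h (j z)
    have hvq : v q = z := by
      apply hinj
      rw [← hq, ← huv]
      rfl
    subst huv
    subst hvq
    have h1 : Function.Injective ((v ≫ j).stalkMap q).hom := stalkMap_injective_of_flat (v ≫ j) q
    rw [Scheme.Hom.stalkMap_comp] at h1
    have h1' : Function.Injective ((v.stalkMap q).hom ∘ (j.stalkMap (v q)).hom) := h1
    have h2 : Function.Injective (j.stalkMap (v q)).hom := h1'.of_comp
    have h3 : Function.Surjective (j.stalkMap (v q)).hom := j.stalkMap_surjective (v q)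
    exact (ConcreteCategory.isIso_iff_bijective _).2 ⟨h2, h3⟩

/-- factoring through a closed immersion is local for jointly surjective flat families -/
theorem exists_fac_of_flat_family {W X K : Scheme.{u}} (i : K ⟶ X) [IsClosedImmersion i] (a : W ⟶ X)
    (h : ∀ w : W, ∃ (U : Scheme.{u}) (u : U ⟶ W) (y : U ⟶ K), Flat u ∧ y ≫ i = u ≫ a ∧ w ∈ Set.range u) :
    ∃ y : W ⟶ K, y ≫ i = a := by
  have : IsIso (pullback.fst a i) := by
    apply isIso_of_closedImmersion_of_flat_family
    intro w
    obtain ⟨U, u, y, hu, hy, hw⟩ := h w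
    exact ⟨U, u, pullback.lift u y hy.symm, hu, pullback.lift_fst _ _ _, hw⟩
  refine ⟨inv (pullback.fst a i) ≫ pullback.snd a i, ?_⟩
  rw [Category.assoc, ← pullback.condition, IsIso.inv_hom_id_assoc]

/-- factoring through a closed immersion is fppf-local -/
theorem exists_fac_of_fppf_local {W X K : Scheme.{u}} (i : K ⟶ X) [IsClosedImmersion i] (a : W ⟶ X)
    (R : Presieve W) (hR : R ∈ Scheme.fppfPrecoverage W)
    (h : ∀ ⦃U : Scheme.{u}⦄ (u : U ⟶ W), R u → ∃ y : U ⟶ K, y ≫ i = u ≫ a) :
    ∃ y : W ⟶ K, y ≫ i = a := by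
  apply exists_fac_of_flat_family i a
  intro w
  have hR1 : R ∈ Scheme.jointlySurjectivePrecoverage W := hR.1
  rw [Presieve.mem_comap_jointlySurjectivePrecoverage_iff] at hR1
  obtain ⟨U, u, hu, hw⟩ := hR1 w
  obtain ⟨y, hy⟩ := h u hu
  have hflat : Flat u := (hR.2 hu).1
  exact ⟨U, u, y, hflat, hy, hw⟩

end Groth.Agent.Lib.FppfClosed67
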