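import Mathlib
import Groth.Agent.Lib.FpqcCov18

/-!
# fppf morphisms are `IsFpqcCov` (helper18)

`isFpqcCov_of_fppf` : a flat, surjective, locally finitely presented morphism is, locally on the
target, dominated by flat surjective quasi-compact morphisms.
-/

set_option autoImplicit false
set_option maxHeartbeats 400000
universe u
open CategoryTheory CategoryTheory.Limits AlgebraicGeometry

namespace Groth.Agent.Lib.FpqcCov18

lemma isFpqcCov_of_fppf {X Y : Scheme.{u}} (q : X ⟶ Y) [Flat q] [Surjective q]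
    [LocallyOfFinitePresentation q] : IsFpqcCov q := by
  apply isFpqcCov_of_exists q
  refine ⟨X, q, 𝟙 X, Category.id_comp _, inferInstance, inferInstance, ?_⟩
  intro V hV
  have hopen : IsOpenMap q := q.isOpenMap
  have hex : ∀ x : ↥(q ⁻¹ᵁ V), ∃ U : X.Opens, IsAffineOpen U ∧ x.1 ∈ U ∧ U ≤ q ⁻¹ᵁ V := by
    intro x
    obtain ⟨_, ⟨U, hU, rfl⟩, hxU, hUV⟩ :=
      X.isBasis_affineOpens.exists_subset_of_mem_open x.2 (q ⁻¹ᵁ V).isOpen
    exact ⟨U, hU, hxU, hUV⟩
  choose U hUaff hxU hUV using hex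
  have hcover : (V : Set Y) ⊆ ⋃ x, q '' (U x : Set X) := by
    intro y hy
    obtain ⟨x, rfl⟩ := q.surjective y
    exact Set.mem_iUnion.mpr ⟨⟨x, hy⟩, x, hxU _, rfl⟩
  obtain ⟨t, ht⟩ := hV.isCompact.elim_finite_subcover (fun x => q '' (U x : Set X))
    (fun x => hopen _ (U x).isOpen) hcover
  refine ⟨⟨⋃ x ∈ t, (U x : Set X), isOpen_biUnion (fun x _ => (U x).isOpen)⟩, ?_, ?_⟩
  · exact t.isCompact_biUnion (fun x _ => (hUaff x).isCompact)
  · apply Set.Subset.antisymm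
    · rintro _ ⟨z, hz, rfl⟩
      obtain ⟨x, hx, hzx⟩ := Set.mem_iUnion₂.mp hz
      exact hUV x hzx
    · intro y hy
      obtain ⟨x, hx, z, hz, rfl⟩ := Set.mem_iUnion₂.mp (ht hy)
      exact ⟨z, Set.mem_iUnion₂.mpr ⟨x, hx, hz⟩, rfl⟩

end Groth.Agent.Lib.FpqcCov18
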