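import Mathlib
import Groth.Prelude.Def_W4bk4git07Quot
import Groth.Agent.Lib.FpqcCov18
import Groth.Agent.Lib.FpqcCovFppf18

/-!
# `IsFpqcCov` from fppf covering families; submersiveness (helper18)

* `isFpqcCov_of_comp` : if `r ≫ p` is an `IsFpqcCov` then so is `p`;
* `isFpqcCov_of_fppf_family` : if every member of an fppf covering family of `Y` factors through
  `p : X ⟶ Y` then `IsFpqcCov p`;
* `IsFpqcCov.isQuotientMap`, `IsFpqcCov.isUnivSubmersive`;
* `hom_ext_of_fppfTopology` : morphisms of schemes agreeing on a covering sieve for the fppf topology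
  are equal.
-/

set_option autoImplicit false
universe u
open CategoryTheory CategoryTheory.Limits AlgebraicGeometry

namespace Groth.Agent.Lib.FpqcCov18

lemma isFpqcCov_of_comp {Z X Y : Scheme.{u}} (r : Z ⟶ X) (p : X ⟶ Y) (h : IsFpqcCov (r ≫ p)) :
    IsFpqcCov p := by
  intro y
  obtain ⟨V, W, hh, r', hyV, hs, hf, hqc, hr⟩ := h y
  exact ⟨V, W, hh, r' ≫ r, hyV, hs, hf, hqc, by rw [Category.assoc, hr]⟩

lemma isFpqcCov_of_fppf_family {X Y : Scheme.{u}} (p : X ⟶ Y) (R : Presieve Y)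
    (hR : R ∈ Scheme.fppfPrecoverage Y)
    (hfac : ∀ ⦃T : Scheme.{u}⦄ (g : T ⟶ Y), R g → ∃ s : T ⟶ X, s ≫ p = g) : IsFpqcCov p := by
  have hR' : R ∈ Scheme.precoverage (@Flat ⊓ @LocallyOfFinitePresentation) Y := hR
  obtain ⟨hsurj, hprop⟩ := hR'
  rw [Presieve.mem_comap_jointlySurjectivePrecoverage_iff] at hsurj
  choose U g hg hx using hsurj
  choose s hs using fun y => hfac (g y) (hg y)
  let π : ∐ U ⟶ Y := Sigma.desc g
  have hπι : ∀ x, Sigma.ι U x ≫ π = g x := fun x => Sigma.ι_desc _ _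
  have h1 : Surjective π := by
    refine ⟨fun x => ?_⟩
    obtain ⟨y, hy⟩ := hx x
    refine ⟨Sigma.ι U x y, ?_⟩
    rw [← Scheme.Hom.comp_apply, hπι]
    exact hy
  have h2 : Flat π := IsZariskiLocalAtSource.sigmaDesc (P := @Flat) fun x => (hprop (hg x)).1
  have h3 : LocallyOfFinitePresentation π :=
    IsZariskiLocalAtSource.sigmaDesc (P := @LocallyOfFinitePresentation) fun x => (hprop (hg x)).2
  have hcov : IsFpqcCov π := isFpqcCov_of_fppf π
  have e : π = Sigma.desc s ≫ p := by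
    apply Sigma.hom_ext
    intro x
    rw [hπι, ← Category.assoc, Sigma.ι_desc, hs]
  rw [e] at hcov
  exact isFpqcCov_of_comp _ _ hcov

lemma IsFpqcCov.isQuotientMap {Z Y : Scheme.{u}} {q : Z ⟶ Y} (hq : IsFpqcCov q) :
    Topology.IsQuotientMap q.base := by
  rw [Topology.isQuotientMap_iff, Topology.isCoinducing_iff]
  refine ⟨fun A => ⟨fun hA => ?_, fun hA => hA.preimage q.continuous⟩, hq.surjective.surj⟩
  rw [isOpen_iff_forall_mem_open]
  intro y hy
  obtain ⟨V, W, h, r, hyV, hs, hf, hqc, hr⟩ := hq y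
  have hquot : Topology.IsQuotientMap h.base := Flat.isQuotientMap_of_surjective h
  have hB : IsOpen (V.ι.base ⁻¹' A) := by
    rw [← hquot.isOpen_preimage]
    have : h.base ⁻¹' (V.ι.base ⁻¹' A) = r.base ⁻¹' (q.base ⁻¹' A) := by
      ext w
      simp only [Set.mem_preimage]
      rw [← Scheme.Hom.comp_apply, ← Scheme.Hom.comp_apply, hr]
    rw [this]
    exact hA.preimage r.continuous
  exact ⟨V.ι.base '' (V.ι.base ⁻¹' A), Set.image_preimage_subset _ _,
    V.ι.isOpenEmbedding.isOpenMap _ hB, ⟨⟨y, hyV⟩, hy, rfl⟩⟩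

lemma IsFpqcCov.isUnivSubmersive {Z Y : Scheme.{u}} {q : Z ⟶ Y} (hq : IsFpqcCov q) :
    GIT.IsUnivSubmersive q := by
  intro X' Y' i₁ i₂ f' sq
  exact (hq.of_isPullback sq.flip).isQuotientMap

lemma hom_ext_of_fppfTopology {A B : Scheme.{u}} (f₁ f₂ : A ⟶ B) (R : Sieve A)
    (hR : R ∈ Scheme.fppfTopology A)
    (h : ∀ ⦃T : Scheme.{u}⦄ (t : T ⟶ A), R t → t ≫ f₁ = t ≫ f₂) : f₁ = f₂ := by
  have hsh := (GrothendieckTopology.Subcanonical.isSheaf_of_isRepresentable
    (J := Scheme.fppfTopology) (yoneda.obj B)) _ hR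
  exact hsh.isSeparatedFor.ext fun T t ht => h t ht

end Groth.Agent.Lib.FpqcCov18
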