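import Groth.Agent.Lib.H69QuotOpen3
import Groth.Agent.Lib.H69QuotPres
import Groth.Agent.Lib.FpqcCovSubm18
import Groth.Prelude.Def_ChGrp

/-!
# fppf quotient sheaves of group actions: local conjugacy and local sections (helper18)

For an action `a` of `G` on `X` in `Over S` and `q : X ⟶ Y` with
`QuotSh.IsQuotient Scheme.fppfPrecoverage a.act (snd G X) q`:

* `isPreEqvRelSp_act` : the orbit relation is a pre-equivalence relation;
* `exists_local_conj` : two `T`-points of `X` with the same image in `Y` are fppf-locally conjugate;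
* `exists_fppf_sections` : `q` has sections over the members of an fppf covering family of `Y`;
* `isFpqcCov_of_isQuotient` : `q.left` is an `IsFpqcCov`.
-/

set_option autoImplicit false
set_option maxHeartbeats 400000
universe u
open CategoryTheory CategoryTheory.Limits MonoidalCategory CartesianMonoidalCategory MonObj
  AlgebraicGeometry

namespace Groth.Agent.Lib.FppfQuotConj18

open Groth.Agent.Lib.H69QuotPres Groth.Agent.Lib.H69AlgSp Groth.Agent.Lib.H69QuotOpen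
  Groth.Agent.Lib.FpqcCov18

variable {S : Scheme.{u}} {G X Y : Over S} [GrpObj G] (a : AlgGrp.Action G X) (q : X ⟶ Y)

lemma isPreEqvRelSp_act :
    AlgSp.IsPreEqvRelSp ((AlgSp.yon S).map a.act) ((AlgSp.yon S).map (snd G X)) := by
  intro T
  have hsplit : ∀ ρ : T ⟶ G ⊗ X, ρ = lift (ρ ≫ fst G X) (ρ ≫ snd G X) := by
    intro ρ
    rw [← comp_lift, lift_fst_snd, Category.comp_id]
  refine ⟨?_, ?_, ?_⟩
  · intro α
    obtain ⟨x, rfl⟩ := (AlgSp.yon S).map_surjective α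
    refine ⟨(AlgSp.yon S).map (lift 1 x), ?_, ?_⟩
    · rw [← Functor.map_comp, lift_snd]
    · rw [← Functor.map_comp, AlgGrp.Action.lift_one_act]
  · rintro α β ⟨r, rfl, rfl⟩
    obtain ⟨ρ, rfl⟩ := (AlgSp.yon S).map_surjective r
    obtain ⟨g, x, rfl⟩ : ∃ g x, ρ = lift g x := ⟨_, _, hsplit ρ⟩
    refine ⟨(AlgSp.yon S).map (lift g⁻¹ (lift g x ≫ a.act)), ?_, ?_⟩
    · rw [← Functor.map_comp, ← Functor.map_comp, lift_snd]
    · rw [← Functor.map_comp, ← Functor.map_comp]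
      congr 1
      rw [← AlgGrp.Action.lift_mul_act, inv_mul_cancel, AlgGrp.Action.lift_one_act, lift_snd]
  · rintro α β c ⟨r₁, rfl, rfl⟩ ⟨r₂, h₂, rfl⟩
    obtain ⟨ρ₁, rfl⟩ := (AlgSp.yon S).map_surjective r₁
    obtain ⟨ρ₂, rfl⟩ := (AlgSp.yon S).map_surjective r₂
    obtain ⟨g₁, x₁, rfl⟩ : ∃ g x, ρ₁ = lift g x := ⟨_, _, hsplit ρ₁⟩
    obtain ⟨g₂, x₂, rfl⟩ : ∃ g x, ρ₂ = lift g x := ⟨_, _, hsplit ρ₂⟩
    have h₂' : x₂ = lift g₁ x₁ ≫ a.act := by
      have : lift g₂ x₂ ≫ snd G X = lift g₁ x₁ ≫ a.act := by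
        apply (AlgSp.yon S).map_injective
        rw [Functor.map_comp, Functor.map_comp, h₂]
      rwa [lift_snd] at this
    refine ⟨(AlgSp.yon S).map (lift (g₂ * g₁) x₁), ?_, ?_⟩
    · rw [← Functor.map_comp, ← Functor.map_comp, lift_snd, lift_snd]
    · rw [← Functor.map_comp, ← Functor.map_comp]
      congr 1
      rw [AlgGrp.Action.lift_mul_act, ← h₂']

variable {a q}

lemma quotMap_comp (hq : QuotSh.IsQuotient Scheme.fppfPrecoverage a.act (snd G X) q) :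
    ∃ ε : QuotSh.quot Scheme.fppfPrecoverage a.act (snd G X) ⟶ (AlgSp.yon S).obj Y,
      IsIso ε ∧ quotMap a.act (snd G X) ≫ ε = (AlgSp.yon S).map q := by
  obtain ⟨w, hiso⟩ := hq
  refine ⟨QuotSh.quotDesc Scheme.fppfPrecoverage q w ≫ (rIso Y).hom, inferInstance, ?_⟩
  have h1 : QuotSh.quotπ Scheme.fppfPrecoverage a.act (snd G X) ≫
      QuotSh.quotDesc Scheme.fppfPrecoverage q w = QuotSh.repMap Scheme.fppfPrecoverage q :=
    coequalizer.π_desc _ _
  rw [quotMap, Category.assoc, ← Category.assoc (QuotSh.quotπ _ _ _), h1, rIso_naturality,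
    Iso.inv_hom_id_assoc]

lemma exists_local_conj (hq : QuotSh.IsQuotient Scheme.fppfPrecoverage a.act (snd G X) q)
    {T : Over S} (x₁ x₂ : T ⟶ X) (h : x₁ ≫ q = x₂ ≫ q) :
    ∃ 𝒮 ∈ AlgSp.J S T, ∀ ⦃T' : Over S⦄ (t : T' ⟶ T), 𝒮 t →
      ∃ g : T' ⟶ G, lift g (t ≫ x₁) ≫ a.act = t ≫ x₂ := by
  obtain ⟨ε, hε, hεq⟩ := quotMap_comp hq
  have hab : (AlgSp.yon S).map x₁ ≫ quotMap a.act (snd G X) =
      (AlgSp.yon S).map x₂ ≫ quotMap a.act (snd G X) := by
    have e1 : ∀ x : T ⟶ X, ((AlgSp.yon S).map x ≫ quotMap a.act (snd G X)) ≫ ε =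
        (AlgSp.yon S).map (x ≫ q) := by
      intro x
      rw [Category.assoc, hεq, Functor.map_comp]
    rw [← cancel_mono ε, e1, e1, h]
  obtain ⟨𝒮, h𝒮, hrel⟩ := exists_local_rel_quotMap (isPreEqvRelSp_act a) x₁ x₂ hab
  refine ⟨𝒮, h𝒮, fun T' t ht => ?_⟩
  obtain ⟨ρ, h1, h2⟩ := hrel t ht
  refine ⟨ρ ≫ fst G X, ?_⟩
  rw [← h1, ← comp_lift, lift_fst_snd, Category.comp_id, h2]

lemma exists_fppf_sections (hq : QuotSh.IsQuotient Scheme.fppfPrecoverage a.act (snd G X) q) :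
    ∃ R ∈ Scheme.fppfPrecoverage Y.left, ∀ ⦃T : Scheme.{u}⦄ (g : T ⟶ Y.left), R g →
      ∃ s : Over.mk (g ≫ Y.hom) ⟶ X, s ≫ q = (Over.homMk g : Over.mk (g ≫ Y.hom) ⟶ Y) := by
  obtain ⟨ε, hε, hεq⟩ := quotMap_comp hq
  have hepi : Epi ((AlgSp.yon S).map q) := by
    rw [← hεq]
    exact epi_comp _ _
  have hloc : Sheaf.IsLocallySurjective ((AlgSp.yon S).map q) :=
    (Sheaf.isLocallySurjective_iff_epi _).2 hepi
  obtain ⟨R, hR, hlift⟩ := Groth.Agent.Lib.H69AlgSp.exists_cover_lift ((AlgSp.yon S).map q)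
    (𝟙 ((AlgSp.yon S).obj Y))
  refine ⟨R, hR, fun T g hg => ?_⟩
  obtain ⟨y, hy⟩ := hlift g hg
  obtain ⟨s, rfl⟩ := (AlgSp.yon S).map_surjective y
  refine ⟨s, (AlgSp.yon S).map_injective ?_⟩
  rw [Functor.map_comp, hy, Category.comp_id]

lemma isFpqcCov_of_isQuotient
    (hq : QuotSh.IsQuotient Scheme.fppfPrecoverage a.act (snd G X) q) : IsFpqcCov q.left := by
  obtain ⟨R, hR, hsec⟩ := exists_fppf_sections hq
  refine isFpqcCov_of_fppf_family q.left R hR fun T g hg => ?_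
  obtain ⟨s, hs⟩ := hsec g hg
  refine ⟨s.left, ?_⟩
  have := congrArg (fun k => k.left) hs
  simpa using this

end Groth.Agent.Lib.FppfQuotConj18
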