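import Groth.Agent.Lib.QFSection6
import Groth.Agent.Lib.EtLocQF
import Mathlib

/-!
# Refining flat lfp morphisms étale-locally by finite flat ones (helper33)

* `exists_etale_finite_flat`: for `g : S₁ ⟶ S` flat lfp and a point `x`, there are an étale `e : S' ⟶ S`
  with `g x` in its image, and a surjective finite flat lfp `π : V ⟶ S'` with an `S`-morphism
  `r : V ⟶ S₁`.
-/

set_option autoImplicit false
universe u

open CategoryTheory AlgebraicGeometry Limits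

namespace Groth.Agent.Lib.FppfRefine33

theorem exists_etale_finite_flat {S₁ S : Scheme.{u}} (g : S₁ ⟶ S) [Flat g]
    [LocallyOfFinitePresentation g] (x : S₁) :
    ∃ (S' V : Scheme.{u}) (e : S' ⟶ S) (π : V ⟶ S') (r : V ⟶ S₁), Etale e ∧ g x ∈ Set.range ⇑e ∧
      Surjective π ∧ IsFinite π ∧ Flat π ∧ LocallyOfFinitePresentation π ∧ r ≫ g = π ≫ e := by
  obtain ⟨T, gT, h, hcomp, hfl, hfp, hqf, z, hz⟩ :=
    Groth.Agent.Lib.QFSection6.exists_local_quasiSection g x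
  have hlft : LocallyOfFiniteType gT := inferInstance
  obtain ⟨U, e₀, u, het, hu, -, V, v, hvV, hfin, hsnd, -, -⟩ :=
    Groth.Agent.Lib.EtLocQF.exists_etaleNbhd_of_quasiFiniteAt gT z (gT.quasiFiniteAt z)
  have hflp : Flat (V.ι ≫ pullback.snd gT e₀) := inferInstance
  have hfpp : LocallyOfFinitePresentation (V.ι ≫ pullback.snd gT e₀) := inferInstance
  have hopen : IsOpen (Set.range ⇑(V.ι ≫ pullback.snd gT e₀)) :=
    (V.ι ≫ pullback.snd gT e₀).isOpenMap.isOpen_range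
  let W : U.Opens := ⟨Set.range ⇑(V.ι ≫ pullback.snd gT e₀), hopen⟩
  have huW : u ∈ W := ⟨⟨v, hvV⟩, by rw [Scheme.Hom.comp_apply]; exact hsnd⟩
  refine ⟨W, ((V.ι ≫ pullback.snd gT e₀) ⁻¹ᵁ W : _), W.ι ≫ e₀,
    (V.ι ≫ pullback.snd gT e₀) ∣_ W,
    ((V.ι ≫ pullback.snd gT e₀) ⁻¹ᵁ W).ι ≫ V.ι ≫ pullback.fst gT e₀ ≫ h,
    inferInstance, ?_, ?_, inferInstance, inferInstance, inferInstance, ?_⟩
  · refine ⟨⟨u, huW⟩, ?_⟩
    rw [Scheme.Hom.comp_apply, ← hz, ← hu]
    rfl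
  · constructor
    rintro ⟨w, y, rfl⟩
    refine ⟨⟨y, ⟨y, rfl⟩⟩, ?_⟩
    apply W.ι.isOpenEmbedding.injective
    rw [← Scheme.Hom.comp_apply, morphismRestrict_ι]
    rfl
  · simp only [Category.assoc]
    rw [hcomp, pullback.condition, ← Category.assoc V.ι, ← Category.assoc _ (V.ι ≫ _) e₀,
      ← morphismRestrict_ι]
    simp only [Category.assoc]

end Groth.Agent.Lib.FppfRefine33
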