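import Mathlib
import Groth.Agent.Lib.AlgSpBasic

/-!
# Locally quasi-finite descends along surjective base change (for morphisms locally of finite type)
-/

set_option autoImplicit false
universe u
open CategoryTheory CategoryTheory.Limits AlgebraicGeometry

namespace Groth.Agent.Lib.LqfDescent

/-- Locally quasi-finite descends along a base change of a one-point integral base (e.g. a field
extension). -/
theorem locallyQuasiFinite_of_isPullback_field {T' T Y' Y : Scheme.{u}} {q : T' ⟶ T}
    {t' : T' ⟶ Y'} {t : T ⟶ Y} {e : Y' ⟶ Y} (sq : IsPullback q t' t e)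
    [IsIntegral Y] [Subsingleton Y] [Nonempty Y'] [Subsingleton Y']
    [LocallyOfFiniteType t] [LocallyQuasiFinite t'] : LocallyQuasiFinite t := by
  rw [locallyQuasiFinite_iff_isDiscrete_preimage_singleton]
  intro y
  have he : Surjective e := ⟨fun y => ⟨Classical.arbitrary _, Subsingleton.elim _ _⟩⟩
  have hqs : Surjective q := MorphismProperty.of_isPullback (P := @Surjective) sq.flip he
  have heo : UniversallyOpen e := inferInstance
  have hqo : UniversallyOpen q := MorphismProperty.of_isPullback (P := @UniversallyOpen) sq.flip heo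
  refine Groth.Agent.Lib.AlgSpBasic.isDiscrete_of_preimage q.isOpenMap q.surjective ?_
  have h1 : (q : T' → T) ⁻¹' ((t : T → Y) ⁻¹' {y}) = (t' : T' → Y') ⁻¹' ((e : Y' → Y) ⁻¹' {y}) := by
    ext z
    simp only [Set.mem_preimage, Set.mem_singleton_iff, ← Scheme.Hom.comp_apply, sq.w]
  rw [h1]
  have hd : _root_.IsDiscrete ((e : Y' → Y) ⁻¹' {y}) :=
    Set.Subsingleton.isDiscrete (Set.subsingleton_of_subsingleton)
  exact t'.isDiscrete_preimage hd

/-- Locally quasi-finite (for morphisms locally of finite type) descends along any surjective base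
change. -/
theorem locallyQuasiFinite_of_isPullback_surjective {U' U V' V : Scheme.{u}} {ψ : U' ⟶ V'}
    {φ : U' ⟶ U} {π : V' ⟶ V} {h : U ⟶ V} (sq : IsPullback ψ φ π h) [Surjective π]
    [LocallyOfFiniteType h] [LocallyQuasiFinite ψ] : LocallyQuasiFinite h := by
  apply LocallyQuasiFinite.of_fiberToSpecResidueField
  intro x
  obtain ⟨x', rfl⟩ := π.surjective x
  have key := isPullback_fiberToSpecResidueField_of_isPullback sq.flip x'
  have h1 : LocallyOfFiniteType (h.fiberToSpecResidueField (π x')) :=
    MorphismProperty.pullback_snd (P := @LocallyOfFiniteType) _ _ ‹LocallyOfFiniteType h›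
  have h2 : LocallyQuasiFinite (ψ.fiberToSpecResidueField x') :=
    MorphismProperty.pullback_snd (P := @LocallyQuasiFinite) _ _ ‹LocallyQuasiFinite ψ›
  exact @locallyQuasiFinite_of_isPullback_field _ _ _ _ _ _ _ _ key inferInstance inferInstance
    inferInstance inferInstance h1 h2

instance descendsAlong_lqf_lft_fpqc :
    (@LocallyQuasiFinite ⊓ @LocallyOfFiniteType : MorphismProperty Scheme.{u}).DescendsAlong
      (@Surjective ⊓ @Flat ⊓ @QuasiCompact) where
  of_isPullback {A X Y Z fst snd f g} sq hf hfst := by
    have : Surjective f := hf.1.1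
    have : LocallyQuasiFinite fst := hfst.1
    have h2 : LocallyOfFiniteType g :=
      MorphismProperty.DescendsAlong.of_isPullback (P := @LocallyOfFiniteType)
        (Q := @Surjective ⊓ @Flat ⊓ @QuasiCompact) sq hf hfst.2
    exact ⟨locallyQuasiFinite_of_isPullback_surjective sq, h2⟩


end Groth.Agent.Lib.LqfDescent
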