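import Groth.Agent.Lib.SepLqfRep46b
import Groth.Agent.Lib.AlgSpUnram

/-!
# A separated locally quasi-finite algebraic space over a scheme is a scheme (Stacks 0418), helper46
-/

set_option autoImplicit false
universe u

open CategoryTheory CategoryTheory.Limits AlgebraicGeometry Opposite

namespace Groth.Agent.Lib.SepLqfRep46

open AlgSp Groth.Agent.Lib.SepLqfImg46 Groth.Agent.Lib.H69AlgSp Groth.Agent.Lib.AlgSpPoints
open Groth.Agent.Lib.H86AlgSpOpen Groth.Agent.Lib.H86AlgSpSub Groth.Agent.Lib.EtDistBound46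

variable {S : Scheme.{u}}

/-- Through every point of an etale chart of `X` there is an open subspace of `X` which is a scheme. -/
theorem exists_open_subscheme_through {T : Over S} {X : Sp S} (hX : IsAlgSpace X) (f : X ⟶ (yon S).obj T)
    (hsep : IsSeparatedMor f) (hqf : LocP (@LocallyQuasiFinite ⊓ @LocallyOfFiniteType) f)
    {U : Over S} (a : (yon S).obj U ⟶ X) (ha : RepWith @Etale a) (u : ↥U.left) :
    ∃ (W : Over S) (i : (yon S).obj W ⟶ X), RepWith @IsOpenImmersion i ∧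
      Points.map a (Points.ofScheme U u) ∈ Set.range (Points.map i) := by
  obtain ⟨g, hg⟩ := (yon S).map_surjective (a ≫ f)
  have hgP : (@LocallyQuasiFinite ⊓ @LocallyOfFiniteType) g.left :=
    hqf a (𝟙 _) g ha (repWith_id _ T) (by rw [hg, Category.comp_id])
  have : LocallyQuasiFinite g.left := hgP.1
  have : LocallyOfFiniteType g.left := hgP.2
  -- affine opens
  obtain ⟨T₁, hT₁, hgu⟩ : ∃ T₁ : T.left.Opens, IsAffineOpen T₁ ∧ g.left u ∈ T₁ := by
    obtain ⟨_, ⟨T₁, hT₁, rfl⟩, ht, -⟩ :=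
      T.left.isBasis_affineOpens.exists_subset_of_mem_open (Set.mem_univ (g.left u)) isOpen_univ
    exact ⟨T₁, hT₁, ht⟩
  obtain ⟨U₁, hU₁, hu, hU₁T₁⟩ : ∃ U₁ : U.left.Opens, IsAffineOpen U₁ ∧ u ∈ U₁ ∧ U₁ ≤ g.left ⁻¹ᵁ T₁ := by
    obtain ⟨_, ⟨U₁, hU₁, rfl⟩, hu, hle⟩ :=
      U.left.isBasis_affineOpens.exists_subset_of_mem_open
        (show u ∈ ((g.left ⁻¹ᵁ T₁ : U.left.Opens) : Set ↥U.left) from hgu) (g.left ⁻¹ᵁ T₁).2
    exact ⟨U₁, hU₁, hu, hle⟩
  have : IsAffine (T₁ : Scheme.{u}) := hT₁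
  have : IsAffine (U₁ : Scheme.{u}) := hU₁
  have hrange : Set.range (U₁.ι ≫ g.left) ⊆ Set.range T₁.ι := by
    rintro _ ⟨x, rfl⟩
    rw [Scheme.Opens.range_ι]
    exact hU₁T₁ x.2
  let g₁ : (U₁ : Scheme.{u}) ⟶ T₁ := IsOpenImmersion.lift T₁.ι (U₁.ι ≫ g.left) hrange
  have hg₁ : g₁ ≫ T₁.ι = U₁.ι ≫ g.left := IsOpenImmersion.lift_fac _ _ _
  have : LocallyOfFiniteType g₁ :=
    MorphismProperty.of_postcomp (W := @LocallyOfFiniteType) (W' := @IsOpenImmersion) g₁ T₁.ι inferInstance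
      (by rw [hg₁]; infer_instance)
  have : LocallyQuasiFinite g₁ :=
    MorphismProperty.of_postcomp (W := @LocallyQuasiFinite) (W' := @IsOpenImmersion) g₁ T₁.ι inferInstance
      (by rw [hg₁]; infer_instance)
  obtain ⟨T'₀, q₁, t', hT'aff, hq₁et, hq₁t, V, hVfin, hV⟩ :=
    exists_etale_affine_finite_open g₁ ⟨g.left u, hgu⟩
  -- `T'` over `S`
  let T' : Over S := Over.mk (q₁ ≫ T₁.ι ≫ T.hom)
  let q : T' ⟶ T := Over.homMk (q₁ ≫ T₁.ι) (by simp [T'])
  have : Etale q.left := inferInstanceAs (Etale (q₁ ≫ T₁.ι))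
  have : IsSeparated q.left := inferInstanceAs (IsSeparated (q₁ ≫ T₁.ι))
  have : LocallyQuasiFinite q₁ := Groth.Agent.Lib.AlgSpBasic.locallyQuasiFinite_of_etale q₁
  obtain ⟨N, hN⟩ := exists_distBound_of_isAffine q₁
  have hNq : DistBound q.left N := by
    intro K _ b hb
    refine hN K b (fun i j => ?_)
    rw [← cancel_mono T₁.ι, Category.assoc, Category.assoc]
    exact hb i j
  have hImg : ImgRep q := imgRep_of_distBound N q hNq
  -- `U'`
  let ζ₀ : (V : Scheme.{u}) ⟶ T'₀ := V.ι ≫ pullback.snd g₁ q₁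
  let U' : Over S := Over.mk (ζ₀ ≫ T'.hom)
  let ζ : U' ⟶ T' := Over.homMk ζ₀ rfl
  have : IsFinite ζ.left := hVfin
  have : IsAffine T'.left := hT'aff
  have : IsAffine U'.left := isAffine_of_isAffineHom ζ.left
  let κ₀ : (V : Scheme.{u}) ⟶ U.left := V.ι ≫ pullback.fst g₁ q₁ ≫ U₁.ι
  have hκ₀ : κ₀ ≫ g.left = ζ₀ ≫ q.left := by
    change (V.ι ≫ pullback.fst g₁ q₁ ≫ U₁.ι) ≫ g.left = (V.ι ≫ pullback.snd g₁ q₁) ≫ q₁ ≫ T₁.ι
    simp only [Category.assoc]
    rw [← hg₁, ← Category.assoc (pullback.fst g₁ q₁), pullback.condition, Category.assoc]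
  let κ : U' ⟶ U := Over.homMk κ₀ (by
    change κ₀ ≫ U.hom = ζ₀ ≫ T'.hom
    rw [← Over.w g, ← Category.assoc, hκ₀, Category.assoc, Over.w q])
  have hκg : κ ≫ g = ζ ≫ q := Over.OverMorphism.ext hκ₀
  have : Etale κ.left := inferInstanceAs (Etale (V.ι ≫ pullback.fst g₁ q₁ ≫ U₁.ι))
  -- `P`
  have sq := IsPullback.of_hasPullback f ((yon S).map q)
  set P := pullback f ((yon S).map q) with hP
  set p2 : P ⟶ X := pullback.fst _ _ with hp2
  set p1 : P ⟶ (yon S).obj T' := pullback.snd _ _ with hp1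
  have hbw : ((yon S).map κ ≫ a) ≫ f = (yon S).map ζ ≫ (yon S).map q := by
    rw [Category.assoc, ← hg, ← Functor.map_comp, ← Functor.map_comp, hκg]
  let b : (yon S).obj U' ⟶ P := sq.lift _ _ hbw
  have hb2 : b ≫ p2 = (yon S).map κ ≫ a := sq.lift_fst _ _ _
  have hb1 : b ≫ p1 = (yon S).map ζ := sq.lift_snd _ _ _
  have hdiag : RepWith @Etale (pullback.diagonal p2) := by
    have h1 : RepWith @Etale (pullback.diagonal ((yon S).map q)) :=
      (Groth.Agent.Lib.AlgSpUnram.repWith_diagonal_yon_map_iff @Etale q).2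
        (inferInstance : Etale (pullback.diagonal q.left))
    exact (RepWith @Etale).of_isPullback
      (Groth.Agent.Lib.H69AlgSpMor.isPullback_diagonal_of_isPullback sq.flip) h1
  have hb : RepWith @Etale b :=
    Groth.Agent.Lib.AlgSpBasic.repWith_of_comp @Etale b p2 hdiag (by
      rw [hb2]
      exact (RepWith @Etale).comp_mem _ _ ((repWith_yon_map_iff _ κ).2 inferInstance) ha)
  obtain ⟨W, i, hi, hir⟩ :=
    exists_open_subscheme_of_finite_chart q hImg hX f hsep hqf sq b hb ζ hb1.symm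
  refine ⟨W, i, hi, ?_⟩
  rw [hir, hb2]
  -- the point
  have hg₁u : g₁ ⟨u, hu⟩ = q₁ t' := by
    rw [hq₁t]
    apply T₁.ι.isOpenEmbedding.injective
    rw [← Scheme.Hom.comp_apply, hg₁]
    rfl
  obtain ⟨w, hw1, hw2⟩ := Scheme.Pullback.exists_preimage_pullback (f := g₁) (g := q₁) ⟨u, hu⟩ t' hg₁u
  have hwV : w ∈ V := hV w hw2
  refine ⟨Points.ofScheme U' ⟨w, hwV⟩, ?_⟩
  rw [Points.map_comp]
  have h1 : Points.map ((yon S).map κ) (Points.ofScheme U' ⟨w, hwV⟩) = Points.ofScheme U (κ.left ⟨w, hwV⟩) :=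
    Points.map_yon_map_apply κ ⟨w, hwV⟩
  have h2 : κ.left ⟨w, hwV⟩ = u := by
    change (V.ι ≫ pullback.fst g₁ q₁ ≫ U₁.ι) ⟨w, hwV⟩ = u
    rw [Scheme.Hom.comp_apply, Scheme.Hom.comp_apply]
    change U₁.ι (pullback.fst g₁ q₁ w) = u
    rw [hw1]
    rfl
  rw [h1, h2]

/-- **Stacks 0418.** An algebraic space separated and locally quasi-finite over a scheme is a scheme. -/
theorem isRepresentable_of_sep_lqf {T : Over S} {X : Sp S} (hX : IsAlgSpace X) (f : X ⟶ (yon S).obj T)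
    (hsep : IsSeparatedMor f) (hqf : LocP (@LocallyQuasiFinite ⊓ @LocallyOfFiniteType) f) :
    X.obj.IsRepresentable := by
  obtain ⟨U, a, ha, has⟩ := hX.atlas
  have key := fun u : ↥U.left => exists_open_subscheme_through hX f hsep hqf a ha u
  choose W i hi hmem using key
  refine Groth.Agent.Lib.H86ZarGlue.isRepresentable_of_openCover i hi (fun x => ?_)
  obtain ⟨y, rfl⟩ := Groth.Agent.Lib.AlgSpQC.surjective_map_of_repWith_surjective has x
  refine ⟨Points.toScheme U y, ?_⟩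
  have := hmem (Points.toScheme U y)
  rwa [Points.ofScheme_toScheme] at this

end Groth.Agent.Lib.SepLqfRep46
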