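import Groth.Agent.Lib.SheafDescRep46
import Groth.Agent.Lib.EffDescFamOpenH52
import Groth.Agent.Lib.SepLqfRep46c
import Groth.Agent.Lib.FpqcDescent
import Groth.Agent.Lib.LqfDescent
import Groth.Agent.Lib.AlgSpQC
import Groth.Agent.Lib.AlgSpPoints
import Groth.Agent.Lib.AlgSpProper
import Groth.Agent.Lib.GrpFieldSep46b
import Groth.Prelude.Def_AlgSpRep

/-!
# fppf-local representability of separated locally quasi-finite maps of sheaves (helper46)

* `repWith_of_fppf_chart`: a map `b : H ⟶ G` of fppf sheaves such that for every `ξ : h_T ⟶ G` the base change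
  `H ×_G h_T` becomes, after an fppf covering `V ⟶ T`, a scheme separated and locally quasi-finite over `V`, is
  representable, separated and locally quasi-finite (effective descent + descent of properties).
* `repWith_of_isPullback_fppf`: Stacks "bootstrap" lemma: in a cartesian square with `g` fppf representable by
  algebraic spaces and `a` separated locally quasi-finite representable by algebraic spaces, `b` is
  representable by schemes, separated and locally quasi-finite.
-/

set_option autoImplicit false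
universe u

namespace Groth.Agent.Lib.FppfSepLqfDesc46

open CategoryTheory CategoryTheory.Limits AlgebraicGeometry Opposite AlgSp Desc
open Groth.Agent.Lib.H69AlgSp Groth.Agent.Lib.SheafDescRep46

variable {S : Scheme.{u}}

/-- fppf descent for separatedness. -/
instance descendsAlong_isSeparated_fppf :
    MorphismProperty.DescendsAlong @IsSeparated.{u}
      (@Surjective ⊓ @Flat ⊓ @LocallyOfFinitePresentation) :=
  haveI := Groth.Agent.Lib.FpqcDescent.descendsAlong_isSeparated.{u}
  inferInstance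

/-- fppf descent for locally quasi-finite morphisms (locally of finite type). -/
instance descendsAlong_lqf_lft_fppf :
    MorphismProperty.DescendsAlong (@LocallyQuasiFinite ⊓ @LocallyOfFiniteType : MorphismProperty Scheme.{u})
      (@Surjective ⊓ @Flat ⊓ @LocallyOfFinitePresentation) :=
  haveI := Groth.Agent.Lib.LqfDescent.descendsAlong_lqf_lft_fpqc.{u}
  inferInstance

/-- One chart: the base change of `b` along `ξ` is a scheme with the descended properties. -/
theorem exists_isPullback_of_fppf_chart {H G : Sp S} (b : H ⟶ G) {T V Z' : Over S}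
    (ξ : (yon S).obj T ⟶ G) (π : V ⟶ T) (ζ : Z' ⟶ V) (a' : (yon S).obj Z' ⟶ pullback b ξ)
    [Flat π.left] [LocallyOfFinitePresentation π.left] [Surjective π.left]
    (sq' : IsPullback a' ((yon S).map ζ) (pullback.snd b ξ) ((yon S).map π))
    [IsSeparated ζ.left] [LocallyQuasiFinite ζ.left] [LocallyOfFiniteType ζ.left] :
    ∃ (Z₀ : Over S) (fst : (yon S).obj Z₀ ⟶ H) (snd : Z₀ ⟶ T) (_ : IsPullback fst ((yon S).map snd) b ξ),
      IsSeparated snd.left ∧ (@LocallyQuasiFinite ⊓ @LocallyOfFiniteType) snd.left := by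
  have : IsSeparated (descDatum sq').obj.hom := ‹IsSeparated ζ.left›
  have : LocallyQuasiFinite (descDatum sq').obj.hom := ‹LocallyQuasiFinite ζ.left›
  have : LocallyOfFiniteType (descDatum sq').obj.hom := ‹LocallyOfFiniteType ζ.left›
  obtain ⟨Z, ⟨Ψ⟩⟩ := Groth.Agent.Lib.EffDescFamH52.exists_iso_of_fppf_of_locallyQuasiFinite π.left
    (descDatum sq')
  obtain ⟨θ, hθ⟩ := exists_iso_of_effective sq' Z Ψ
  have h1 : IsPullback θ.hom ((yon S).map (Over.homMk Z.hom rfl : Over.mk (Z.hom ≫ T.hom) ⟶ T))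
      (pullback.snd b ξ) (𝟙 _) := IsPullback.of_horiz_isIso ⟨by rw [hθ, Category.comp_id]⟩
  have h2 := h1.paste_horiz (IsPullback.of_hasPullback b ξ)
  rw [Category.id_comp] at h2
  refine ⟨Over.mk (Z.hom ≫ T.hom), θ.hom ≫ pullback.fst b ξ, Over.homMk Z.hom rfl, h2, ?_⟩
  -- descent of the properties
  let ψ : pullback π.left Z.hom ⟶ Z'.left := Ψ.hom.hom.left
  let ψi : Z'.left ⟶ pullback π.left Z.hom := Ψ.inv.hom.left
  have hψψi : ψ ≫ ψi = 𝟙 _ := by
    have := congrArg (fun k => k.hom.left) Ψ.hom_inv_id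
    exact this
  have hψiψ : ψi ≫ ψ = 𝟙 _ := by
    have := congrArg (fun k => k.hom.left) Ψ.inv_hom_id
    exact this
  have hfst : pullback.fst π.left Z.hom = ψ ≫ ζ.left := (Over.w Ψ.hom.hom).symm
  have hiso : IsIso ψ := ⟨ψi, hψψi, hψiψ⟩
  have hQ : (@Surjective ⊓ @Flat ⊓ @LocallyOfFinitePresentation : MorphismProperty Scheme.{u}) π.left :=
    ⟨⟨inferInstance, inferInstance⟩, inferInstance⟩
  constructor
  · change IsSeparated Z.hom
    refine MorphismProperty.of_pullback_fst_of_descendsAlong (P := @IsSeparated)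
      (Q := @Surjective ⊓ @Flat ⊓ @LocallyOfFinitePresentation) (f := π.left) (g := Z.hom) hQ ?_
    rw [hfst]
    exact (MorphismProperty.cancel_left_of_respectsIso @IsSeparated _ _).2 inferInstance
  · change (@LocallyQuasiFinite ⊓ @LocallyOfFiniteType) Z.hom
    refine MorphismProperty.of_pullback_fst_of_descendsAlong
      (P := (@LocallyQuasiFinite ⊓ @LocallyOfFiniteType : MorphismProperty Scheme.{u}))
      (Q := @Surjective ⊓ @Flat ⊓ @LocallyOfFinitePresentation) (f := π.left) (g := Z.hom) hQ ?_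
    rw [hfst]
    exact (MorphismProperty.cancel_left_of_respectsIso
      (@LocallyQuasiFinite ⊓ @LocallyOfFiniteType : MorphismProperty Scheme.{u}) _ _).2
      ⟨inferInstance, inferInstance⟩

/-- A map of fppf sheaves which fppf locally on the base is a separated locally quasi-finite scheme is representable,
separated and locally quasi-finite. -/
theorem repWith_of_fppf_chart {H G : Sp S} (b : H ⟶ G)
    (hchart : ∀ (T : Over S) (ξ : (yon S).obj T ⟶ G), ∃ (V Z' : Over S) (π : V ⟶ T) (ζ : Z' ⟶ V)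
      (a' : (yon S).obj Z' ⟶ pullback b ξ), Flat π.left ∧ LocallyOfFinitePresentation π.left ∧
        Surjective π.left ∧ IsPullback a' ((yon S).map ζ) (pullback.snd b ξ) ((yon S).map π) ∧
        IsSeparated ζ.left ∧ LocallyQuasiFinite ζ.left ∧ LocallyOfFiniteType ζ.left) :
    RepWith @IsSeparated b ∧ RepWith (@LocallyQuasiFinite ⊓ @LocallyOfFiniteType) b := by
  constructor
  · apply MorphismProperty.relative.of_exists
    intro T ξ
    obtain ⟨V, Z', π, ζ, a', h1, h2, h3, sq', h4, h5, h6⟩ := hchart T ξ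
    obtain ⟨Z₀, fst, snd, sq, hs, -⟩ := exists_isPullback_of_fppf_chart b ξ π ζ a' sq'
    exact ⟨Z₀, fst, snd, sq, hs⟩
  · apply MorphismProperty.relative.of_exists
    intro T ξ
    obtain ⟨V, Z', π, ζ, a', h1, h2, h3, sq', h4, h5, h6⟩ := hchart T ξ
    obtain ⟨Z₀, fst, snd, sq, -, hs⟩ := exists_isPullback_of_fppf_chart b ξ π ζ a' sq'
    exact ⟨Z₀, fst, snd, sq, hs⟩

/-- **Bootstrap lemma.** In a cartesian square `E = H ×_G F` of fppf sheaves with `g : F ⟶ G` representable by
algebraic spaces, flat, surjective and locally of finite presentation, and `a : E ⟶ F` representable by algebraic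
spaces, separated and locally quasi-finite, the map `b : H ⟶ G` is representable by schemes, separated and locally
quasi-finite. -/
theorem repWith_of_isPullback_fppf {E F G H : Sp S} (a : E ⟶ F) (f : E ⟶ H) (g : F ⟶ G) (b : H ⟶ G)
    (sq : IsPullback a f g b)
    (hg : RepBySpWith (IsSurjectiveMor ⊓ LocP @Flat ⊓ LocP @LocallyOfFinitePresentation) g.hom)
    (ha : RepBySpWith (IsSeparatedMor ⊓ LocP (@LocallyQuasiFinite ⊓ @LocallyOfFiniteType)) a.hom) :
    RepWith @IsSeparated b ∧ RepWith (@LocallyQuasiFinite ⊓ @LocallyOfFiniteType) b := by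
  apply repWith_of_fppf_chart
  intro T ξ
  -- the algebraic space `F_T`
  have sqF := IsPullback.of_hasPullback g ξ
  have sqFp := sqF.map (sheafToPresheaf (J S) (Type (u + 1)))
  obtain ⟨hsh, hFT, ⟨hsurj, hflat⟩, hlfp⟩ := hg ξ.hom _ _ sqFp
  change IsAlgSpace (pullback g ξ) at hFT
  change IsSurjectiveMor (pullback.snd g ξ) at hsurj
  change LocP @Flat (pullback.snd g ξ) at hflat
  change LocP @LocallyOfFinitePresentation (pullback.snd g ξ) at hlfp
  obtain ⟨V, c, hce, hcs⟩ := hFT.atlas
  obtain ⟨π, hπ⟩ := (yon S).map_surjective (c ≫ pullback.snd g ξ)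
  have hπ' : c ≫ pullback.snd g ξ = (yon S).map π ≫ 𝟙 _ := by rw [hπ, Category.comp_id]
  have h1 : Flat π.left := hflat c (𝟙 _) π hce (repWith_id _ T) hπ'
  have h2 : LocallyOfFinitePresentation π.left := hlfp c (𝟙 _) π hce (repWith_id _ T) hπ'
  have h3 : Surjective π.left := by
    constructor
    rw [← Groth.Agent.Lib.AlgSpPoints.surjective_map_yon_map_iff (φ := π), hπ]
    intro t
    obtain ⟨y, hy⟩ := hsurj t
    obtain ⟨v, hv⟩ := Groth.Agent.Lib.AlgSpQC.surjective_map_of_repWith_surjective hcs y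
    exact ⟨v, by rw [Points.map_comp, hv, hy]⟩
  -- the algebraic space `E_V`
  have sqE := IsPullback.of_hasPullback a (c ≫ pullback.fst g ξ)
  have sqEp := sqE.map (sheafToPresheaf (J S) (Type (u + 1)))
  obtain ⟨hsh', hEV, hsep, hqf⟩ := ha (c ≫ pullback.fst g ξ).hom _ _ sqEp
  change IsAlgSpace (pullback a (c ≫ pullback.fst g ξ)) at hEV
  change IsSeparatedMor (pullback.snd a (c ≫ pullback.fst g ξ)) at hsep
  change LocP (@LocallyQuasiFinite ⊓ @LocallyOfFiniteType) (pullback.snd a (c ≫ pullback.fst g ξ)) at hqf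
  have hrep := Groth.Agent.Lib.SepLqfRep46.isRepresentable_of_sep_lqf hEV _ hsep hqf
  obtain ⟨Z', ⟨R⟩⟩ := hrep.has_representation
  let e : (yon S).obj Z' ≅ pullback a (c ≫ pullback.fst g ξ) := isoOfRepresentableBy R
  obtain ⟨ζ, hζ⟩ := (yon S).map_surjective (e.hom ≫ pullback.snd a (c ≫ pullback.fst g ξ))
  have hζqf : (@LocallyQuasiFinite ⊓ @LocallyOfFiniteType) ζ.left :=
    hqf e.hom (𝟙 _) ζ (MorphismProperty.of_isIso (RepWith (S := S) @Etale) _) (repWith_id _ V)
      (by rw [hζ, Category.comp_id])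
  have hζsep : IsSeparated ζ.left := by
    have h1 : IsSeparatedMor ((yon S).map ζ) := by
      rw [hζ]
      exact Groth.Agent.Lib.AlgSpProper.isSeparatedMor_comp
        (Groth.Agent.Lib.GrpFieldSep46.isSeparatedMor_of_mono _) hsep
    exact ⟨(Groth.Agent.Lib.AlgSpUnram.repWith_diagonal_yon_map_iff _ ζ).1 h1⟩
  -- the pullback square
  have big : IsPullback (pullback.fst a (c ≫ pullback.fst g ξ) ≫ f)
      (pullback.snd a (c ≫ pullback.fst g ξ)) b ((c ≫ pullback.fst g ξ) ≫ g) := sqE.paste_horiz sq.flip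
  have hbot : (c ≫ pullback.fst g ξ) ≫ g = (yon S).map π ≫ ξ := by
    rw [Category.assoc, pullback.condition, ← Category.assoc, hπ]
  rw [hbot] at big
  have sqH := IsPullback.of_hasPullback b ξ
  have hw : (pullback.fst a (c ≫ pullback.fst g ξ) ≫ f) ≫ b =
      (pullback.snd a (c ≫ pullback.fst g ξ) ≫ (yon S).map π) ≫ ξ := by
    rw [big.w, Category.assoc]
  have sq' : IsPullback (sqH.lift _ _ hw) (pullback.snd a (c ≫ pullback.fst g ξ)) (pullback.snd b ξ)
      ((yon S).map π) :=
    IsPullback.of_right (by rw [sqH.lift_fst]; exact big) (sqH.lift_snd _ _ hw) sqH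
  have sq'' : IsPullback (e.hom ≫ sqH.lift _ _ hw) ((yon S).map ζ) (pullback.snd b ξ) ((yon S).map π) := by
    have k1 : IsPullback e.hom ((yon S).map ζ) (pullback.snd a (c ≫ pullback.fst g ξ)) (𝟙 _) :=
      IsPullback.of_horiz_isIso ⟨by rw [hζ, Category.comp_id]⟩
    have k2 := k1.paste_horiz sq'
    rwa [Category.id_comp] at k2
  exact ⟨V, Z', π, ζ, _, h1, h2, h3, sq'', hζsep, hζqf.1, hζqf.2⟩

end Groth.Agent.Lib.FppfSepLqfDesc46
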