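import Groth.Prelude.Def_AlgSpRep
import Groth.Agent.Lib.H69AlgSp

/-!
# Presheaves of sets on `Sch/S` and maps representable by schemes (helper69)

Toolkit for `AlgSp.PSp S` / `AlgSp.pyon S` (presheaf versions of `AlgSp.Sp S` / `AlgSp.yon S`):
the Yoneda bijection at the right universe and its naturality, pullback squares tested on `h_T`-points,
`h_V` is an fppf sheaf, and the two basic facts on maps `a : F ⟶ G` of presheaves representable by schemes:
`F` is an fppf sheaf (resp. separated) if `G` is, and the relative diagonal of `a` is representable.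
-/

set_option autoImplicit false
universe u

open CategoryTheory CategoryTheory.Limits AlgebraicGeometry Opposite AlgSp

namespace Groth.Agent.Lib.H69PSp

open Groth.Agent.Lib.H69AlgSp

variable {S : Scheme.{u}}

/-- Sections of a presheaf `F` over `U` are maps `h_U ⟶ F` (Mathlib's `uliftYonedaEquiv` at the right universe). -/
noncomputable abbrev pEquiv {U : Over S} {F : PSp S} : ((pyon S).obj U ⟶ F) ≃ F.obj (op U) :=
  CategoryTheory.uliftYonedaEquiv.{u + 1}

theorem pEquiv_comp {U : Over S} {F G : PSp S} (a : (pyon S).obj U ⟶ F) (f : F ⟶ G) :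
    pEquiv (a ≫ f) = f.app _ (pEquiv a) :=
  CategoryTheory.uliftYonedaEquiv_comp.{u + 1} a f

theorem pEquiv_map_comp {U V : Over S} {F : PSp S} (a : (pyon S).obj U ⟶ F) (g : V ⟶ U) :
    pEquiv ((pyon S).map g ≫ a) = F.map g.op (pEquiv a) :=
  (CategoryTheory.uliftYonedaEquiv_naturality.{u + 1} a g.op).symm

theorem pEquiv_pyon_map {U V : Over S} (g : U ⟶ V) : pEquiv ((pyon S).map g) = ⟨g⟩ :=
  CategoryTheory.uliftYonedaEquiv_uliftYoneda_map.{u + 1} g

theorem pEquiv_symm_comp {U : Over S} {F G : PSp S} (x : F.obj (op U)) (f : F ⟶ G) :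
    pEquiv.symm x ≫ f = pEquiv.symm (f.app _ x) :=
  CategoryTheory.uliftYonedaEquiv_symm_comp.{u + 1} x f

theorem pEquiv_symm_map {U V : Over S} {F : PSp S} (g : V ⟶ U) (x : F.obj (op U)) :
    pEquiv.symm (F.map g.op x) = (pyon S).map g ≫ pEquiv.symm x :=
  CategoryTheory.uliftYonedaEquiv_symm_map.{u + 1} g.op x

/-- `h_V` is an fppf sheaf (the fppf topology over `S` is subcanonical). -/
theorem isSheaf_pyon_obj (V : Over S) : Presheaf.IsSheaf (J S) ((pyon S).obj V) :=
  ((yon S).obj V).property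

theorem pyon_map_apply {U V T : Over S} (g : U ⟶ V) (s : ((pyon S).obj U).obj (op T)) :
    ((pyon S).map g).app (op T) s = ⟨s.down ≫ g⟩ := rfl

theorem pyon_obj_map {U T T' : Over S} (f : T' ⟶ T) (s : ((pyon S).obj U).obj (op T)) :
    ((pyon S).obj U).map f.op s = ⟨f ≫ s.down⟩ := rfl

/-- Two maps of presheaves on `Sch/S` agree as soon as they agree on all `h_U`-points. -/
theorem hom_ext_pyon {F G : PSp S} {f g : F ⟶ G}
    (h : ∀ (U : Over S) (a : (pyon S).obj U ⟶ F), a ≫ f = a ≫ g) : f = g :=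
  CategoryTheory.hom_ext_uliftYoneda.{u + 1} h

/-- Pullback squares of presheaves on `Sch/S` can be checked on `h_T`-points. -/
theorem isPullback_of_pyon {P X Y Z : PSp S} {fst : P ⟶ X} {snd : P ⟶ Y} {f : X ⟶ Z} {g : Y ⟶ Z}
    (hw : fst ≫ f = snd ≫ g)
    (hinj : ∀ (T : Over S) (p p' : (pyon S).obj T ⟶ P), p ≫ fst = p' ≫ fst → p ≫ snd = p' ≫ snd → p = p')
    (hsurj : ∀ (T : Over S) (x : (pyon S).obj T ⟶ X) (y : (pyon S).obj T ⟶ Y), x ≫ f = y ≫ g →
      ∃ p : (pyon S).obj T ⟶ P, p ≫ fst = x ∧ p ≫ snd = y) :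
    IsPullback fst snd f g := by
  refine psh_isPullback_of_sections hw ?_ ?_
  · rintro ⟨T⟩ p p' h1 h2
    obtain ⟨a, rfl⟩ := (pEquiv (U := T) (F := P)).surjective p
    obtain ⟨b, rfl⟩ := (pEquiv (U := T) (F := P)).surjective p'
    rw [← pEquiv_comp, ← pEquiv_comp] at h1 h2
    rw [hinj T a b (pEquiv.injective h1) (pEquiv.injective h2)]
  · rintro ⟨T⟩ x y h
    obtain ⟨a, rfl⟩ := (pEquiv (U := T) (F := X)).surjective x
    obtain ⟨b, rfl⟩ := (pEquiv (U := T) (F := Y)).surjective y
    rw [← pEquiv_comp, ← pEquiv_comp] at h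
    obtain ⟨p, hp1, hp2⟩ := hsurj T a b (pEquiv.injective h)
    exact ⟨pEquiv p, by rw [← pEquiv_comp, hp1], by rw [← pEquiv_comp, hp2]⟩

/-- If `a : F ⟶ G` is representable by schemes and `G` is separated for a covering sieve `R`, so is `F`. -/
theorem isSeparatedFor_of_relativelyRepresentable {F G : PSp S} (a : F ⟶ G)
    (ha : (pyon S).relativelyRepresentable a) {T : Over S} (R : Sieve T) (hR : R ∈ J S T)
    (hG : Presieve.IsSeparatedFor G R.arrows) : Presieve.IsSeparatedFor F R.arrows := by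
  intro x t₁ t₂ h₁ h₂
  have hc : a.app _ t₁ = a.app _ t₂ := hG (x.map a) _ _ (h₁.map a) (h₂.map a)
  set g : (pyon S).obj T ⟶ G := pEquiv.symm (a.app _ t₁) with hg
  have e₁ : pEquiv.symm t₁ ≫ a = (pyon S).map (𝟙 T) ≫ g := by
    rw [pEquiv_symm_comp, (pyon S).map_id, Category.id_comp]
  have e₂ : pEquiv.symm t₂ ≫ a = (pyon S).map (𝟙 T) ≫ g := by
    rw [pEquiv_symm_comp, (pyon S).map_id, Category.id_comp, hg, hc]
  have key : ha.lift (pEquiv.symm t₁) (𝟙 T) e₁ = ha.lift (pEquiv.symm t₂) (𝟙 T) e₂ := by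
    have hsep := ((isSheaf_iff_isSheaf_of_type _ _).1 (isSheaf_pyon_obj (ha.pullback g))).isSeparated
    have hs := hsep R hR
    let σ : Presieve.FamilyOfElements ((pyon S).obj (ha.pullback g)) R.arrows :=
      fun Y f _ => ⟨f ≫ ha.lift (pEquiv.symm t₁) (𝟙 T) e₁⟩
    have := hs σ ⟨ha.lift (pEquiv.symm t₁) (𝟙 T) e₁⟩ ⟨ha.lift (pEquiv.symm t₂) (𝟙 T) e₂⟩
      (fun Y f hf => rfl) (fun Y f hf => by
        rw [pyon_obj_map]
        congr 1
        apply ha.hom_ext
        · rw [Functor.map_comp, Functor.map_comp, Category.assoc, Category.assoc, ha.lift_fst,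
            ha.lift_fst, ← pEquiv_symm_map, ← pEquiv_symm_map, h₁ f hf, h₂ f hf]
        · rw [Category.assoc, Category.assoc, ha.lift_snd, ha.lift_snd])
    exact congrArg ULift.down this
  have := congrArg (fun s => (pyon S).map s ≫ ha.fst g) key
  simp only [ha.lift_fst] at this
  exact pEquiv.symm.injective this

/-- If `a : F ⟶ G` is representable by schemes and `G` is a sheaf for a covering sieve `R`, so is `F`. -/
theorem isSheafFor_of_relativelyRepresentable {F G : PSp S} (a : F ⟶ G)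
    (ha : (pyon S).relativelyRepresentable a) {T : Over S} (R : Sieve T) (hR : R ∈ J S T)
    (hG : Presieve.IsSheafFor G R.arrows) : Presieve.IsSheafFor F R.arrows := by
  rw [← Presieve.isSeparatedFor_and_exists_isAmalgamation_iff_isSheafFor]
  refine ⟨isSeparatedFor_of_relativelyRepresentable a ha R hR hG.isSeparatedFor, fun x hx => ?_⟩
  obtain ⟨c, hc, -⟩ := hG (x.map a) (hx.map a)
  set g : (pyon S).obj T ⟶ G := pEquiv.symm c with hg
  have e : ∀ {Y : Over S} (f : Y ⟶ T) (hf : R.arrows f),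
      pEquiv.symm (x f hf) ≫ a = (pyon S).map f ≫ g := by
    intro Y f hf
    rw [pEquiv_symm_comp, hg, ← pEquiv_symm_map, hc f hf]
    rfl
  let σ : Presieve.FamilyOfElements ((pyon S).obj (ha.pullback g)) R.arrows :=
    fun Y f hf => ⟨ha.lift (pEquiv.symm (x f hf)) f (e f hf)⟩
  have hσ : σ.Compatible := by
    intro Y₁ Y₂ Z g₁ g₂ f₁ f₂ h₁ h₂ hgf
    change (⟨g₁ ≫ _⟩ : ULift _) = ⟨g₂ ≫ _⟩
    congr 1
    apply ha.hom_ext
    · rw [Functor.map_comp, Functor.map_comp, Category.assoc, Category.assoc, ha.lift_fst,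
        ha.lift_fst, ← pEquiv_symm_map, ← pEquiv_symm_map, hx g₁ g₂ h₁ h₂ hgf]
    · rw [Category.assoc, Category.assoc, ha.lift_snd, ha.lift_snd, hgf]
  obtain ⟨s, hs, -⟩ := ((isSheaf_iff_isSheaf_of_type _ _).1
    (isSheaf_pyon_obj (ha.pullback g))) R hR σ hσ
  refine ⟨pEquiv ((pyon S).map s.down ≫ ha.fst g), fun Y f hf => ?_⟩
  rw [← pEquiv_map_comp, ← Category.assoc, ← Functor.map_comp]
  have h1 : f ≫ s.down = ha.lift (pEquiv.symm (x f hf)) f (e f hf) := congrArg ULift.down (hs f hf)
  rw [h1, ha.lift_fst, Equiv.apply_symm_apply]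

/-- Let `a : F ⟶ G` be a map of presheaves of sets on schemes over `S` which is representable by schemes. If `G`
is an fppf sheaf then so is `F`. -/
theorem isSheaf_of_relativelyRepresentable {F G : PSp S} (a : F ⟶ G)
    (ha : (pyon S).relativelyRepresentable a) (hG : Presheaf.IsSheaf (J S) G) :
    Presheaf.IsSheaf (J S) F := by
  rw [isSheaf_iff_isSheaf_of_type] at hG ⊢
  intro T R hR
  exact isSheafFor_of_relativelyRepresentable a ha R hR (hG R hR)

/-- Let `a : F ⟶ G` be a map of presheaves of sets on schemes over `S` which is representable by schemes. Then the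
relative diagonal `F ⟶ F ×_G F` is representable by schemes (by the equalizer of the two induced sections). -/
theorem relativelyRepresentable_diagonal {F G : PSp S} (a : F ⟶ G)
    (ha : (pyon S).relativelyRepresentable a) :
    (pyon S).relativelyRepresentable (pullback.diagonal a) := by
  intro T z
  set x : (pyon S).obj T ⟶ F := z ≫ pullback.fst a a with hx
  set y : (pyon S).obj T ⟶ F := z ≫ pullback.snd a a with hy
  set g : (pyon S).obj T ⟶ G := x ≫ a with hg
  have ex : x ≫ a = (pyon S).map (𝟙 T) ≫ g := by rw [(pyon S).map_id, Category.id_comp]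
  have ey : y ≫ a = (pyon S).map (𝟙 T) ≫ g := by
    rw [(pyon S).map_id, Category.id_comp, hg, hx, hy, Category.assoc, Category.assoc,
      pullback.condition]
  set σx : T ⟶ ha.pullback g := ha.lift x (𝟙 T) ex with hσx
  set σy : T ⟶ ha.pullback g := ha.lift y (𝟙 T) ey with hσy
  have hxσ : (pyon S).map σx ≫ ha.fst g = x := ha.lift_fst x (𝟙 T) ex
  have hyσ : (pyon S).map σy ≫ ha.fst g = y := ha.lift_fst y (𝟙 T) ey
  have hxp : σx ≫ ha.snd g = 𝟙 T := ha.lift_snd x (𝟙 T) ex
  have hyp : σy ≫ ha.snd g = 𝟙 T := ha.lift_snd y (𝟙 T) ey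
  have hexy : (pyon S).map (equalizer.ι σx σy) ≫ x = (pyon S).map (equalizer.ι σx σy) ≫ y := by
    rw [← hxσ, ← hyσ, ← Category.assoc, ← Category.assoc, ← Functor.map_comp, ← Functor.map_comp,
      equalizer.condition]
  refine ⟨equalizer σx σy, equalizer.ι σx σy, (pyon S).map (equalizer.ι σx σy) ≫ x, ?_⟩
  refine isPullback_of_pyon ?_ ?_ ?_
  · apply pullback.hom_ext
    · rw [Category.assoc, Category.assoc, pullback.diagonal_fst, Category.comp_id, Category.assoc]
    · rw [Category.assoc, Category.assoc, pullback.diagonal_snd, Category.comp_id, Category.assoc,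
        hexy]
  · intro W p p' _ h2
    obtain ⟨q, rfl⟩ := (pyon S).map_surjective p
    obtain ⟨q', rfl⟩ := (pyon S).map_surjective p'
    rw [← Functor.map_comp, ← Functor.map_comp] at h2
    have := (pyon S).map_injective h2
    rw [(cancel_mono (equalizer.ι σx σy)).1 this]
  · intro W w t h
    obtain ⟨τ, rfl⟩ := (pyon S).map_surjective t
    have h1 : w = (pyon S).map τ ≫ x := by
      have := congrArg (fun m => m ≫ pullback.fst a a) h
      simpa using this
    have h2 : w = (pyon S).map τ ≫ y := by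
      have := congrArg (fun m => m ≫ pullback.snd a a) h
      simpa using this
    have hτ : τ ≫ σx = τ ≫ σy := by
      apply ha.hom_ext
      · rw [Functor.map_comp, Functor.map_comp, Category.assoc, Category.assoc, hxσ, hyσ, ← h1, ← h2]
      · rw [Category.assoc, Category.assoc, hxp, hyp]
    refine ⟨(pyon S).map (equalizer.lift τ hτ), ?_, ?_⟩
    · rw [← Category.assoc, ← Functor.map_comp, equalizer.lift_ι, ← h1]
    · rw [← Functor.map_comp, equalizer.lift_ι]

end Groth.Agent.Lib.H69PSp
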