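import Groth.Agent.Lib.SubSheafCover91
import Groth.Agent.Lib.H69PSp
import Groth.Agent.Lib.H69AlgSp
import Groth.Prelude.Def_AlgSpRep
import Mathlib

/-!
# A Zariski sheaf covered by fppf subsheaves representable by algebraic spaces is an fppf sheaf (helper91)
-/

set_option autoImplicit false
set_option maxHeartbeats 400000
universe v u

namespace Groth.Agent.Lib.FppfSheafCover91

open CategoryTheory CategoryTheory.Limits AlgebraicGeometry Opposite AlgSp
open Groth.Agent.Lib.H69AlgSp Groth.Agent.Lib.H69PSp Groth.Agent.Lib.SubSheafCover91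

variable {S : Scheme.{u}}

/-- A sieve on `T` containing open subschemes covering `T` is a Zariski covering sieve. -/
theorem mem_Jzar_of_opens {T : Over S} (Z : Sieve T)
    (h : ∀ t : T.left, ∃ (U : T.left.Opens), t ∈ U ∧
      Z (Over.homMk U.ι : Over.mk (U.ι ≫ T.hom) ⟶ T)) :
    Z ∈ QuotSh.J Scheme.zariskiPrecoverage S T := by
  rw [GrothendieckTopology.mem_over_iff]
  choose U hU hZ using h
  have hmem : Presieve.ofArrows (fun t => (U t).toScheme) (fun t => (U t).ι) ∈
      Scheme.zariskiPrecoverage T.left := by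
    rw [Scheme.ofArrows_mem_precoverage_iff]
    refine ⟨fun x => ⟨x, ?_⟩, fun t => inferInstance⟩
    rw [Scheme.Opens.range_ι]
    exact hU x
  refine GrothendieckTopology.superset_covering _ ?_ (Precoverage.generate_mem_toGrothendieck hmem)
  rw [Sieve.generate_le_iff]
  rintro _ _ ⟨t⟩
  rw [Sieve.overEquiv_iff]
  exact hZ t

/-- Every fppf covering sieve is Zariski locally refined by a single fppf covering morphism. -/
theorem generate_refPresieve_mem (T : Over S) (R : Sieve T) (hR : R ∈ J S T) :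
    Sieve.generate (refPresieve (J S) R) ∈ QuotSh.J Scheme.zariskiPrecoverage S T := by
  rw [GrothendieckTopology.mem_over_iff,
    Precoverage.mem_toGrothendieck_iff_of_isStableUnderComposition] at hR
  obtain ⟨P, hP, hle⟩ := hR
  apply mem_Jzar_of_opens
  intro t
  obtain ⟨Y, g, hg, y, hy⟩ := (Presieve.mem_comap_jointlySurjectivePrecoverage_iff _).1 hP.1 t
  have hfl : Flat g := (hP.2 hg).1
  have hfp : LocallyOfFinitePresentation g := (hP.2 hg).2
  let U : T.left.Opens := ⟨Set.range g, g.isOpenMap.isOpen_range⟩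
  refine ⟨U, ⟨y, hy⟩, ?_⟩
  apply Sieve.le_generate
  let g' : Y ⟶ U.toScheme := IsOpenImmersion.lift U.ι g (by rw [Scheme.Opens.range_ι]; rfl)
  have hg' : g' ≫ U.ι = g := IsOpenImmersion.lift_fac _ _ _
  let Yo : Over S := Over.mk (g ≫ T.hom)
  let Vo : Over S := Over.mk (U.ι ≫ T.hom)
  let h' : Yo ⟶ Vo := Over.homMk g' (by
    change g' ≫ U.ι ≫ T.hom = g ≫ T.hom
    rw [← Category.assoc, hg'])
  refine ⟨Yo, h', ?_, ?_⟩
  · haveI : Flat h'.left :=
      MorphismProperty.of_postcomp (W := @Flat) (W' := @IsOpenImmersion) g' U.ι inferInstance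
        (by rw [hg']; exact hfl)
    haveI : LocallyOfFinitePresentation h'.left :=
      MorphismProperty.of_postcomp (W := @LocallyOfFinitePresentation) (W' := @IsOpenImmersion) g' U.ι
        inferInstance (by rw [hg']; exact hfp)
    haveI : Surjective h'.left := by
      constructor
      intro v
      obtain ⟨y', hy'⟩ : (U.ι v : T.left) ∈ Set.range g := by
        have := v.2
        exact this
      refine ⟨y', ?_⟩
      apply U.ι.isOpenEmbedding.injective
      change U.ι (g' y') = U.ι v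
      rw [← Scheme.Hom.comp_apply, hg', hy']
    exact mem_J_of_fppf h' _ (Sieve.le_generate _ _ _ (Presieve.singleton.mk))
  · have h1 := hle _ _ hg
    rw [Sieve.overEquiv_iff] at h1
    have e : h' ≫ (Over.homMk U.ι : Vo ⟶ T) = (Over.homMk g : Over.mk (g ≫ T.hom) ⟶ T) := by
      apply Over.OverMorphism.ext
      exact hg'
    rw [e]
    exact h1

open Presieve in
/-- Membership in a subfunctor whose inclusion is representable by algebraic spaces is fppf local. -/
theorem mem_range_of_memSieve_mem {F : PSp S} {ι : Type*} {Fi : ι → PSp S} (m : ∀ i, Fi i ⟶ F)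
    (hm : ∀ i T, Function.Injective ((m i).app T))
    (hb : ∀ i, RepBySp (m i)) (T : Over S) (x : F.obj (op T)) (i : ι)
    (h : memSieve m x i ∈ J S T) : x ∈ Set.range ((m i).app (op T)) := by
  let ξ : (pyon S).obj T ⟶ F := pEquiv.symm x
  have sq := IsPullback.of_hasPullback (m i) ξ
  obtain ⟨hW, -⟩ := hb i ξ _ _ sq
  have hW' := (isSheaf_iff_isSheaf_of_type _ _).1 hW
  have hT' := (isSheaf_iff_isSheaf_of_type _ _).1 (isSheaf_pyon_obj (S := S) T)
  have hξ : ∀ {T' : Over S} (g : T' ⟶ T), ξ.app (op T') ⟨g⟩ = F.map g.op x := by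
    intro T' g
    rfl
  have key : ∀ ⦃T' : Over S⦄ (g : T' ⟶ T) (hg : memSieve m x i g),
      ∃ w : (pullback (m i) ξ).obj (op T'), (pullback.fst (m i) ξ).app _ w = hg.choose ∧
        (pullback.snd (m i) ξ).app _ w = ⟨g⟩ := by
    intro T' g hg
    apply Types.exists_of_isPullback (sq.app (op T'))
    rw [hg.choose_spec]
    exact (hξ g).symm
  choose w hw1 hw2 using key
  let wfam : FamilyOfElements (pullback (m i) ξ) (memSieve m x i).arrows := fun T' g hg => w g hg
  have hcomp : wfam.Compatible := by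
    intro Y₁ Y₂ Z g₁ g₂ f₁ f₂ h₁ h₂ e
    apply Types.ext_of_isPullback (sq.app (op Z))
    · rw [NatTrans.naturality_apply, NatTrans.naturality_apply]
      change (Fi i).map g₁.op ((pullback.fst (m i) ξ).app _ (w f₁ h₁)) =
        (Fi i).map g₂.op ((pullback.fst (m i) ξ).app _ (w f₂ h₂))
      rw [hw1, hw1]
      apply hm i
      have n1 := NatTrans.naturality_apply (m i) g₁.op h₁.choose
      have n2 := NatTrans.naturality_apply (m i) g₂.op h₂.choose
      rw [n1, n2, h₁.choose_spec, h₂.choose_spec, ← Functor.map_comp_apply, ← Functor.map_comp_apply,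
        ← op_comp, ← op_comp, e]
    · rw [NatTrans.naturality_apply, NatTrans.naturality_apply]
      change ((pyon S).obj T).map g₁.op ((pullback.snd (m i) ξ).app _ (w f₁ h₁)) =
        ((pyon S).obj T).map g₂.op ((pullback.snd (m i) ξ).app _ (w f₂ h₂))
      rw [hw2, hw2]
      change ULift.up (g₁ ≫ f₁) = ULift.up (g₂ ≫ f₂)
      rw [e]
  obtain ⟨w₀, hw₀, -⟩ := hW' _ h wfam hcomp
  have hsnd : (pullback.snd (m i) ξ).app _ w₀ = ⟨𝟙 T⟩ := by
    refine (hT'.isSeparated _ h).ext ?_
    intro T' g hg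
    have n1 := NatTrans.naturality_apply (pullback.snd (m i) ξ) g.op w₀
    rw [← n1, hw₀ g hg]
    change (pullback.snd (m i) ξ).app _ (w g hg) = ULift.up (g ≫ 𝟙 T)
    rw [hw2, Category.comp_id]
  refine ⟨(pullback.fst (m i) ξ).app _ w₀, ?_⟩
  have h1 := congrArg (fun k => k.app (op T) w₀) sq.w
  change (m i).app _ ((pullback.fst (m i) ξ).app _ w₀) = ξ.app _ ((pullback.snd (m i) ξ).app _ w₀) at h1
  rw [h1, hsnd, hξ, op_id, F.map_id]
  rfl

/-- **A Zariski sheaf covered by fppf subsheaves with inclusions representable by algebraic spaces is an fppf sheaf.** -/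
theorem isSheaf_fppf_of_cover {F : PSp S}
    (h1 : Presheaf.IsSheaf (QuotSh.J Scheme.zariskiPrecoverage S) F) {ι : Type v} (Fi : ι → PSp S)
    (m : ∀ i, Fi i ⟶ F) [∀ i, Mono (m i)] (ha : ∀ i, Presheaf.IsSheaf (AlgSp.J S) (Fi i))
    (hb : ∀ i, RepBySp (m i))
    (hc : ∀ (T : Over S) (x : F.obj (op T)), ∃ R ∈ (AlgSp.J S) T,
      ∀ ⦃T' : Over S⦄ (f : T' ⟶ T), R.arrows f → ∃ i, F.map f.op x ∈ Set.range ((m i).app (op T'))) :
    Presheaf.IsSheaf (AlgSp.J S) F := by
  have hm : ∀ i T, Function.Injective ((m i).app T) := by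
    intro i T
    have := (NatTrans.mono_iff_mono_app (m i)).1 inferInstance T
    exact (mono_iff_injective _).1 this
  rw [isSheaf_iff_isSheaf_of_type] at h1 ⊢
  exact SubSheafCover91.isSheaf (AlgSp.J S) (QuotSh.J Scheme.zariskiPrecoverage S) m hm h1
    (fun i => (isSheaf_iff_isSheaf_of_type _ _).1 (ha i))
    (mem_range_of_memSieve_mem m hm hb) generate_refPresieve_mem hc

end Groth.Agent.Lib.FppfSheafCover91
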