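import Mathlib
import Groth.Agent.Lib.SchLfpCancel

/-!
# Descent of flat / lft / lfp along a morphism admitting fppf-local sections (helper64)

Ring level: `A → B → C → D` with `B → D` faithfully flat and `A → C` flat; then `A → B` is flat
(`B → C` is universally injective because it becomes split after the faithfully flat `B → D`).

Scheme level: `c : U ⟶ V`, `m : V ⟶ W`, `l : T ⟶ U` with `l ≫ c` flat (and lfp).
* `flat_stalkMap_of_section`: if `c ≫ m` is flat then `m` is flat at every point `c (l x)`;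
* `lft_of_section`, `lfp_of_section`: if `c ≫ m` is lft (lfp) then so is `(l ≫ c) ≫ m` (graph trick).
-/

set_option autoImplicit false
universe u
open TensorProduct CategoryTheory CategoryTheory.Limits AlgebraicGeometry

namespace Groth.Agent.Lib.FppfSurjSrc64

section Ring

variable {A B C D : Type u} [CommRing A] [CommRing B] [CommRing C] [CommRing D]
  [Algebra A B] [Algebra B C] [Algebra C D] [Algebra A C] [Algebra B D] [Algebra A D]
  [IsScalarTower A B C] [IsScalarTower B C D] [IsScalarTower A B D] [IsScalarTower A C D]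

/-- `A → B → C → D`, `B → D` faithfully flat, `A → C` flat: then `A → B` is flat. -/
theorem flat_of_faithfullyFlat_factor [Module.FaithfullyFlat B D] [Module.Flat A C] :
    Module.Flat A B := by
  rw [Module.Flat.iff_lTensor_injectiveₛ]
  intro P _ _ N
  let ψ₁ : B →ₗ[A] C := (IsScalarTower.toAlgHom A B C).toLinearMap
  let ψ₂ : C →ₗ[A] D := (IsScalarTower.toAlgHom A C D).toLinearMap
  let ψ : B →ₗ[A] D := (IsScalarTower.toAlgHom A B D).toLinearMap
  have hψ : ψ = ψ₂ ∘ₗ ψ₁ := by
    ext
    simp [ψ, ψ₁, ψ₂, ← IsScalarTower.algebraMap_apply]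
  -- `B ⊗ N → D ⊗ N` is injective
  have h1 : Function.Injective (ψ.rTensor N) := by
    have hmk := Module.FaithfullyFlat.tensorProduct_mk_injective (A := B) (B := D) (B ⊗[A] N)
    have heq : ∀ x : B ⊗[A] N, ψ.rTensor N x =
        AlgebraTensorModule.cancelBaseChange A B D D N (TensorProduct.mk B D (B ⊗[A] N) 1 x) := by
      intro x
      induction x with
      | zero => simp
      | add x y hx hy => simp only [map_add, hx, hy]
      | tmul b n =>
        simp only [LinearMap.rTensor_tmul, TensorProduct.mk_apply,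
          AlgebraTensorModule.cancelBaseChange_tmul]
        simp [ψ, Algebra.smul_def]
    intro x y hxy
    rw [heq, heq] at hxy
    exact hmk ((AlgebraTensorModule.cancelBaseChange A B D D N).injective hxy)
  have h2 : Function.Injective (ψ₁.rTensor N) := by
    have : ψ.rTensor N = (ψ₂.rTensor N) ∘ₗ (ψ₁.rTensor N) := by
      rw [hψ, LinearMap.rTensor_comp]
    rw [this, LinearMap.coe_comp] at h1
    exact Function.Injective.of_comp h1
  have h3 : Function.Injective (N.subtype.lTensor C) :=
    Module.Flat.lTensor_preserves_injective_linearMap N.subtype N.injective_subtype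
  have h4 : (ψ₁.rTensor P) ∘ₗ (N.subtype.lTensor B) = (N.subtype.lTensor C) ∘ₗ (ψ₁.rTensor N) := by
    rw [LinearMap.rTensor_comp_lTensor, LinearMap.lTensor_comp_rTensor]
  have h5 : Function.Injective ((ψ₁.rTensor P) ∘ₗ (N.subtype.lTensor B)) := by
    rw [h4, LinearMap.coe_comp]
    exact h3.comp h2
  rw [LinearMap.coe_comp] at h5
  exact Function.Injective.of_comp h5

end Ring

theorem flat_of_comp_factor {A B C D : Type u} [CommRing A] [CommRing B] [CommRing C] [CommRing D]
    (f₁ : A →+* B) (f₂ : B →+* C) (f₃ : C →+* D) (h : (f₃.comp f₂).FaithfullyFlat)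
    (h' : (f₂.comp f₁).Flat) : f₁.Flat := by
  algebraize [f₁, f₂, f₃, f₃.comp f₂, f₂.comp f₁, f₃.comp (f₂.comp f₁)]
  have : IsScalarTower A B D := IsScalarTower.of_algebraMap_eq (fun _ => rfl)
  exact flat_of_faithfullyFlat_factor (A := A) (B := B) (C := C) (D := D)

section Scheme

variable {U V W T : Scheme.{u}} (c : U ⟶ V) (m : V ⟶ W) (l : T ⟶ U)

/-- If `l ≫ c` and `c ≫ m` are flat then `m` is flat at the points `c (l x)`. -/
theorem flat_stalkMap_of_section [Flat (l ≫ c)] [Flat (c ≫ m)] (x : T) :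
    (m.stalkMap (c (l x))).hom.Flat := by
  have h0 : ((l ≫ c).stalkMap x).hom.Flat := Flat.stalkMap (l ≫ c) x
  have hloc : IsLocalHom ((l ≫ c).stalkMap x).hom := (l ≫ c).toLRSHom.prop x
  have h0' : ((l ≫ c).stalkMap x).hom.FaithfullyFlat := by
    algebraize [((l ≫ c).stalkMap x).hom]
    have : Module.FaithfullyFlat (V.presheaf.stalk ((l ≫ c) x)) (T.presheaf.stalk x) :=
      @Module.FaithfullyFlat.of_flat_of_isLocalHom _ _ _ _ _ _ _ h0 hloc
    exact ‹RingHom.FaithfullyFlat _›
  have h1 : ((c ≫ m).stalkMap (l x)).hom.Flat := Flat.stalkMap (c ≫ m) (l x)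
  rw [Scheme.Hom.stalkMap_comp] at h0' h1
  exact flat_of_comp_factor (m.stalkMap (c (l x))).hom (c.stalkMap (l x)).hom (l.stalkMap x).hom
    h0' h1

/-- The graph trick: the property `lft` passes from `c ≫ m` to `(l ≫ c) ≫ m` when `l ≫ c` is
lfp. -/
theorem lft_of_section [LocallyOfFinitePresentation (l ≫ c)] [LocallyOfFiniteType (c ≫ m)] :
    LocallyOfFiniteType ((l ≫ c) ≫ m) := by
  let Γ : T ⟶ pullback c (l ≫ c) := pullback.lift l (𝟙 T) (by simp)
  have hΓ1 : Γ ≫ pullback.fst c (l ≫ c) = l := pullback.lift_fst _ _ _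
  have hΓ2 : Γ ≫ pullback.snd c (l ≫ c) = 𝟙 T := pullback.lift_snd _ _ _
  have h1 : LocallyOfFiniteType (Γ ≫ pullback.snd c (l ≫ c)) := by rw [hΓ2]; infer_instance
  have hΓ : LocallyOfFiniteType Γ := locallyOfFiniteType_of_comp Γ (pullback.snd c (l ≫ c))
  have h2 : LocallyOfFiniteType (pullback.fst c (l ≫ c)) := inferInstance
  have e : (l ≫ c) ≫ m = Γ ≫ pullback.fst c (l ≫ c) ≫ c ≫ m := by
    rw [← Category.assoc Γ, hΓ1, Category.assoc]
  rw [e]
  infer_instance

/-- The graph trick for `lfp`. -/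
theorem lfp_of_section [LocallyOfFinitePresentation (l ≫ c)]
    [LocallyOfFinitePresentation (c ≫ m)] : LocallyOfFinitePresentation ((l ≫ c) ≫ m) := by
  let Γ : T ⟶ pullback c (l ≫ c) := pullback.lift l (𝟙 T) (by simp)
  have hΓ1 : Γ ≫ pullback.fst c (l ≫ c) = l := pullback.lift_fst _ _ _
  have hΓ2 : Γ ≫ pullback.snd c (l ≫ c) = 𝟙 T := pullback.lift_snd _ _ _
  have hc : LocallyOfFiniteType c := locallyOfFiniteType_of_comp c m
  have h1 : LocallyOfFinitePresentation (Γ ≫ pullback.snd c (l ≫ c)) := by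
    rw [hΓ2]; infer_instance
  have hsnd : LocallyOfFiniteType (pullback.snd c (l ≫ c)) := inferInstance
  have hΓ : LocallyOfFinitePresentation Γ :=
    Groth.Agent.Lib.SchLfpCancel.lfp_of_comp_of_lft h1 hsnd
  have h2 : LocallyOfFinitePresentation (pullback.fst c (l ≫ c)) := inferInstance
  have e : (l ≫ c) ≫ m = Γ ≫ pullback.fst c (l ≫ c) ≫ c ≫ m := by
    rw [← Category.assoc Γ, hΓ1, Category.assoc]
  rw [e]
  infer_instance

end Scheme

end Groth.Agent.Lib.FppfSurjSrc64
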