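import Groth.Agent.Lib.JointFF
import Groth.Agent.Lib.PullbackAffine
import Mathlib.AlgebraicGeometry.Morphisms.Flat
import Mathlib.AlgebraicGeometry.Morphisms.QuasiCompact

/-!
# fpqc descent of module properties for quasi-coherent modules (helper81)

* `faithfullyFlat_pi_sections`: for `g : X' ⟶ X` flat and surjective, `V ⊆ X` affine and finitely many
  affine opens `U j ⊆ g⁻¹ V` covering `g⁻¹ V`, the product `∏ Γ(X', U j)` is faithfully flat over
  `Γ(X, V)`.
* `descent_principle`: a property `P` of (ring, module) pairs which is invariant under linear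
  equivalences and descends along jointly faithfully flat finite families descends from
  `g^* F` (on all affine opens of `X'`) to `F` (on all affine opens of `X`), for `g` fpqc.
-/

set_option autoImplicit false
universe u
open CategoryTheory AlgebraicGeometry TopologicalSpace TensorProduct

namespace Groth.Agent.Lib.FpqcModDescent

variable {X X' : Scheme.{u}}

/-- For a quasi-compact `g`, the preimage of an affine open is covered by finitely many affine
opens. -/
theorem exists_finite_affine_cover_preimage (g : X' ⟶ X) [QuasiCompact g] {V : X.Opens}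
    (hV : IsAffineOpen V) :
    ∃ s : Set X'.affineOpens, s.Finite ∧ g ⁻¹ᵁ V = ⨆ i ∈ s, (i : X'.Opens) :=
  isCompact_iff_finite_and_eq_biUnion_affineOpens.mp (g.isCompact_preimage hV.isCompact)

theorem faithfullyFlat_pi_sections (g : X' ⟶ X) [Flat g] [Surjective g] {V : X.Opens}
    (hV : IsAffineOpen V) {ι : Type u} [Finite ι] (U : ι → X'.Opens)
    (hU : ∀ j, IsAffineOpen (U j)) (hle : ∀ j, U j ≤ g ⁻¹ᵁ V)
    (hcov : ∀ x' : X', g.base x' ∈ V → ∃ j, x' ∈ U j) :
    letI : ∀ j, Algebra Γ(X, V) Γ(X', U j) := fun j => (g.appLE V (U j) (hle j)).hom.toAlgebra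
    Module.FaithfullyFlat Γ(X, V) (∀ j, Γ(X', U j)) := by
  letI : ∀ j, Algebra Γ(X, V) Γ(X', U j) := fun j => (g.appLE V (U j) (hle j)).hom.toAlgebra
  classical
  cases nonempty_fintype ι
  have hflat : ∀ j, Module.Flat Γ(X, V) Γ(X', U j) := fun j =>
    g.flat_appLE hV (hU j) (hle j)
  have : Module.Flat Γ(X, V) (∀ j, Γ(X', U j)) :=
    Module.Flat.of_linearEquiv
      (DirectSum.linearEquivFunOnFintype Γ(X, V) ι (fun j => Γ(X', U j))).symm
  apply Module.FaithfullyFlat.of_comap_surjective
  intro p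
  -- the point of `V` corresponding to `p`
  obtain ⟨x, hx⟩ : ∃ x : V, hV.primeIdealOf x = p := by
    let p' : ↥(Spec Γ(X, V)) := p
    refine ⟨hV.isoSpec.inv p', ?_⟩
    change hV.isoSpec.hom (hV.isoSpec.inv p') = p'
    rw [← Scheme.Hom.comp_apply, Iso.inv_hom_id]
    rfl
  obtain ⟨x', hx'⟩ := Surjective.surj (f := g) x.1
  obtain ⟨j, hj⟩ := hcov x' (hx' ▸ x.2)
  refine ⟨PrimeSpectrum.comap (Pi.evalRingHom (fun j => Γ(X', U j)) j)
    ((hU j).primeIdealOf ⟨x', hj⟩), ?_⟩
  have h1 := IsAffineOpen.comap_primeIdealOf_appLE (f := g) V hV (U j) (hU j) (hle j) hj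
  rw [← hx]
  have hx'' : (⟨g.base x', hle j hj⟩ : V) = x := Subtype.ext hx'
  rw [← hx'', ← h1]
  rfl

/-- **fpqc descent principle** for quasi-coherent modules. -/
theorem descent_principle (g : X' ⟶ X) [Flat g] [Surjective g] [QuasiCompact g] (F : X.Modules)
    [F.IsQuasicoherent]
    (P : ∀ (R : Type u) [CommRing R] (N : Type u) [AddCommGroup N] [Module R N], Prop)
    (hP_equiv : ∀ (R : Type u) [CommRing R] (N N' : Type u) [AddCommGroup N] [Module R N]
      [AddCommGroup N'] [Module R N'], (N ≃ₗ[R] N') → P R N → P R N')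
    (hP_desc : ∀ (A : Type u) [CommRing A] (ι : Type u) [Finite ι] (B : ι → Type u)
      [∀ j, CommRing (B j)] [∀ j, Algebra A (B j)] [Module.FaithfullyFlat A (∀ j, B j)]
      (N : Type u) [AddCommGroup N] [Module A N], (∀ j, P (B j) (B j ⊗[A] N)) → P A N)
    (h : ∀ U : X'.Opens, IsAffineOpen U → P Γ(X', U) Γ((Scheme.Modules.pullback g).obj F, U))
    {V : X.Opens} (hV : IsAffineOpen V) : P Γ(X, V) Γ(F, V) := by
  obtain ⟨s, hs, hcov⟩ := exists_finite_affine_cover_preimage g hV
  have : Finite s := hs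
  let U : s → X'.Opens := fun j => j.1.1
  have hU : ∀ j, IsAffineOpen (U j) := fun j => j.1.2
  have hle : ∀ j, U j ≤ g ⁻¹ᵁ V := fun j => by
    rw [hcov]
    exact le_iSup₂ (f := fun (i : X'.affineOpens) (_ : i ∈ s) => (i : X'.Opens)) j.1 j.2
  have hc : ∀ x' : X', g.base x' ∈ V → ∃ j, x' ∈ U j := fun x' hx' => by
    have : x' ∈ g ⁻¹ᵁ V := hx'
    rw [hcov] at this
    simp only [Opens.mem_iSup] at this
    obtain ⟨i, hi, hx⟩ := this
    exact ⟨⟨i, hi⟩, hx⟩
  letI : ∀ j, Algebra Γ(X, V) Γ(X', U j) := fun j => (g.appLE V (U j) (hle j)).hom.toAlgebra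
  have := faithfullyFlat_pi_sections g hV U hU hle hc
  refine hP_desc Γ(X, V) s (fun j => Γ(X', U j)) Γ(F, V) fun j => ?_
  exact hP_equiv _ _ _
    (Groth.Agent.Lib.PullbackAffine.sectionsPullbackEquiv g F (hU j) hV (hle j)) (h (U j) (hU j))

/-- fpqc descent of finiteness of sections. -/
theorem finite_sections (g : X' ⟶ X) [Flat g] [Surjective g] [QuasiCompact g] (F : X.Modules)
    [F.IsQuasicoherent]
    (h : ∀ U : X'.Opens, IsAffineOpen U →
      Module.Finite Γ(X', U) Γ((Scheme.Modules.pullback g).obj F, U))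
    {V : X.Opens} (hV : IsAffineOpen V) : Module.Finite Γ(X, V) Γ(F, V) :=
  descent_principle g F (fun R _ N _ _ => Module.Finite R N)
    (fun _ _ _ _ _ _ _ _ e _ => Module.Finite.equiv e)
    (fun A _ _ _ B _ _ _ N _ _ hN => Groth.Agent.Lib.JointFF.finite_of_forall (A := A) (B := B) N hN)
    h hV

/-- fpqc descent of finite presentation of sections. -/
theorem finitePresentation_sections (g : X' ⟶ X) [Flat g] [Surjective g] [QuasiCompact g]
    (F : X.Modules) [F.IsQuasicoherent]
    (h : ∀ U : X'.Opens, IsAffineOpen U →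
      Module.FinitePresentation Γ(X', U) Γ((Scheme.Modules.pullback g).obj F, U))
    {V : X.Opens} (hV : IsAffineOpen V) : Module.FinitePresentation Γ(X, V) Γ(F, V) :=
  descent_principle g F (fun R _ N _ _ => Module.FinitePresentation R N)
    (fun _ _ _ _ _ _ _ _ e _ => Module.FinitePresentation.of_equiv e)
    (fun A _ _ _ B _ _ _ N _ _ hN =>
      Groth.Agent.Lib.JointFF.finitePresentation_of_forall (A := A) (B := B) N hN)
    h hV

/-- fpqc descent of flatness of sections. -/
theorem flat_sections (g : X' ⟶ X) [Flat g] [Surjective g] [QuasiCompact g]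
    (F : X.Modules) [F.IsQuasicoherent]
    (h : ∀ U : X'.Opens, IsAffineOpen U →
      Module.Flat Γ(X', U) Γ((Scheme.Modules.pullback g).obj F, U))
    {V : X.Opens} (hV : IsAffineOpen V) : Module.Flat Γ(X, V) Γ(F, V) :=
  descent_principle g F (fun R _ N _ _ => Module.Flat R N)
    (fun _ _ _ _ _ _ _ _ e _ => Module.Flat.of_linearEquiv e.symm)
    (fun A _ _ _ B _ _ _ N _ _ hN => Groth.Agent.Lib.JointFF.flat_of_forall (A := A) (B := B) N hN)
    h hV

/-- fpqc descent of projectivity of sections (Raynaud–Gruson). -/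
theorem projective_sections (g : X' ⟶ X) [Flat g] [Surjective g] [QuasiCompact g]
    (F : X.Modules) [F.IsQuasicoherent]
    (h : ∀ U : X'.Opens, IsAffineOpen U →
      Module.Projective Γ(X', U) Γ((Scheme.Modules.pullback g).obj F, U))
    {V : X.Opens} (hV : IsAffineOpen V) : Module.Projective Γ(X, V) Γ(F, V) :=
  descent_principle g F (fun R _ N _ _ => Module.Projective R N)
    (fun _ _ _ _ _ _ _ _ e _ => Module.Projective.of_equiv' e)
    (fun A _ _ _ B _ _ _ N _ _ hN =>
      Groth.Agent.Lib.JointFF.projective_of_forall (A := A) (B := B) N hN)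
    h hV

end Groth.Agent.Lib.FpqcModDescent
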