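import Mathlib

/-!
# Sieves which are locally dominated by fpqc morphisms are fpqc coverings (helper18)

* `mem_fpqcTopology_of_local` : a sieve `Sv` on a scheme `Y` such that every point of `Y` has an
  open neighbourhood `V` with a flat surjective quasi-compact `h : W ⟶ V` for which `h ≫ V.ι`
  belongs to `Sv` is a covering sieve for the fpqc topology.
* Over a base `S`: `hom_ext_of_sieve`, `existsUnique_glue_of_sieve` : separatedness and gluing of
  morphisms `T ⟶ M` in `Over S` along a covering sieve of `T.left` (the fpqc topology is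
  subcanonical).
-/

set_option autoImplicit false
set_option maxHeartbeats 400000
universe u
open CategoryTheory AlgebraicGeometry

namespace Groth.Agent.Lib.FpqcSieve18

theorem mem_fpqcTopology_of_local {Y : Scheme.{u}} (Sv : Sieve Y)
    (h : ∀ y : Y, ∃ (V : Y.Opens) (W : Scheme.{u}) (h : W ⟶ (V : Scheme.{u})),
      y ∈ V ∧ Surjective h ∧ Flat h ∧ QuasiCompact h ∧ Sv (h ≫ V.ι)) :
    Sv ∈ Scheme.fpqcTopology Y := by
  choose V W hh hyV hs hf hqc hSv using h
  -- the Zariski covering by the `V y`
  have hZ : Sieve.generate (Presieve.ofArrows (fun y : Y => ((V y : Y.Opens) : Scheme.{u}))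
      (fun y => (V y).ι)) ∈ Scheme.fpqcTopology Y := by
    apply Scheme.zariskiTopology_le_fpqcTopology
    apply Precoverage.generate_mem_toGrothendieck
    rw [Scheme.ofArrows_mem_precoverage_iff]
    refine ⟨fun y => ⟨y, ?_⟩, fun y => inferInstance⟩
    rw [Scheme.Opens.range_ι]
    exact hyV y
  refine Scheme.fpqcTopology.transitive hZ Sv ?_
  intro T f hf'
  obtain ⟨T', t, g, hg, rfl⟩ := hf'
  obtain ⟨y⟩ := hg
  -- the singleton `hh y` covers `V y`
  have h1 : Sieve.generate (Presieve.singleton (hh y)) ∈ Scheme.fpqcTopology (V y : Scheme.{u}) := by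
    have := hs y; have := hf y; have := hqc y
    exact Precoverage.generate_mem_toGrothendieck (hh y).singleton_mem_fpqcPrecoverage
  have h2 : Sieve.generate (Presieve.singleton (hh y)) ≤ Sv.pullback (V y).ι := by
    rw [Sieve.generate_le_iff]
    rintro Z g ⟨⟩
    exact hSv y
  have h3 := Scheme.fpqcTopology.superset_covering h2 h1
  have h4 := Scheme.fpqcTopology.pullback_stable t h3
  rwa [← Sieve.pullback_comp] at h4

section overS

variable {S : Scheme.{u}}

lemma isSheaf_yoneda (M : Over S) :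
    Presieve.IsSheaf (Scheme.fpqcTopology.over S) (yoneda.obj M) :=
  GrothendieckTopology.Subcanonical.isSheaf_of_isRepresentable (yoneda.obj M)

lemma overSieve_mem {T : Over S} (Sv : Sieve T.left) (hSv : Sv ∈ Scheme.fpqcTopology T.left) :
    (Sieve.overEquiv T).symm Sv ∈ (Scheme.fpqcTopology.over S) T := by
  rw [GrothendieckTopology.mem_over_iff, OrderIso.apply_symm_apply]
  exact hSv

/-- Separatedness: two morphisms which agree on a covering sieve are equal. -/
theorem hom_ext_of_sieve {T M : Over S} (Sv : Sieve T.left)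
    (hSv : Sv ∈ Scheme.fpqcTopology T.left) (r₁ r₂ : T ⟶ M)
    (h : ∀ ⦃T' : Over S⦄ (t : T' ⟶ T), Sv t.left → t ≫ r₁ = t ≫ r₂) : r₁ = r₂ := by
  have hsep := (isSheaf_yoneda M _ (overSieve_mem Sv hSv)).isSeparatedFor
  refine hsep.ext ?_
  intro T' t ht
  exact h t ht

/-- Gluing: a compatible family of morphisms on a covering sieve glues uniquely. -/
theorem existsUnique_glue_of_sieve {T M : Over S} (Sv : Sieve T.left)
    (hSv : Sv ∈ Scheme.fpqcTopology T.left)
    (F : ∀ ⦃T' : Over S⦄ (t : T' ⟶ T), Sv t.left → (T' ⟶ M))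
    (hF : ∀ ⦃T'' T' : Over S⦄ (h : T'' ⟶ T') (t : T' ⟶ T) (ht : Sv t.left)
      (ht' : Sv (h ≫ t).left), F (h ≫ t) ht' = h ≫ F t ht) :
    ∃! g : T ⟶ M, ∀ ⦃T' : Over S⦄ (t : T' ⟶ T) (ht : Sv t.left), t ≫ g = F t ht := by
  have hsh := isSheaf_yoneda M _ (overSieve_mem Sv hSv)
  let x : Presieve.FamilyOfElements (yoneda.obj M) ((Sieve.overEquiv T).symm Sv).arrows :=
    fun T' t ht => F t ht
  have hx : x.Compatible := by
    rw [Presieve.compatible_iff_sieveCompatible]
    intro T' T'' t h ht
    exact hF h t ht _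
  obtain ⟨g, hg, hguniq⟩ := hsh x hx
  refine ⟨g, fun T' t ht => hg t ht, ?_⟩
  intro g' hg'
  apply hguniq
  intro T' t ht
  exact hg' t ht

end overS

end Groth.Agent.Lib.FpqcSieve18
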