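import Groth.Agent.Lib.ShFracInter25
import Mathlib

/-!
# The map `Frac(D) → Frac(S/Q)` (helper61)

`S` a `D`-algebra, `Q` a prime of `S` containing the image of no non-zero-divisor of `D`:
the induced map `rho : FractionRing D → FractionRing (S ⧸ Q)` and the induced map `theta` on
integral closures.
-/

set_option autoImplicit false

namespace Groth.Agent.Lib.FracRho61

open Polynomial
open Groth.Agent.Lib.ShFracInter25

variable {D S : Type*} [CommRing D] [CommRing S] [Algebra D S] (Q : Ideal S) [Q.IsPrime]
  (hnz : ∀ w ∈ nonZeroDivisors D, algebraMap D S w ∉ Q)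

/-- The map `Frac(D) → Frac(S/Q)`. -/
noncomputable def rho : FractionRing D →+* FractionRing (S ⧸ Q) :=
  IsLocalization.lift (M := nonZeroDivisors D) (g := (toK Q).comp (algebraMap D S)) (by
    intro w
    rw [RingHom.comp_apply, isUnit_iff_ne_zero, Ne, toK_eq_zero_iff]
    exact hnz w w.2)

theorem rho_algebraMap (d : D) :
    rho Q hnz (algebraMap D (FractionRing D) d) = toK Q (algebraMap D S d) :=
  IsLocalization.lift_eq _ d

omit [Algebra D S] in
theorem exists_num_den (c : FractionRing D) : ∃ a : D, ∃ w ∈ nonZeroDivisors D,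
    c * algebraMap D (FractionRing D) w = algebraMap D (FractionRing D) a := by
  obtain ⟨⟨a, w⟩, h⟩ := IsLocalization.surj (nonZeroDivisors D) c
  exact ⟨a, w, w.2, h⟩

theorem rho_eq_zero_iff (c : FractionRing D) (a w : D) (hw : w ∈ nonZeroDivisors D)
    (h : c * algebraMap D (FractionRing D) w = algebraMap D (FractionRing D) a) :
    rho Q hnz c = 0 ↔ algebraMap D S a ∈ Q := by
  have h1 : rho Q hnz c * toK Q (algebraMap D S w) = toK Q (algebraMap D S a) := by
    rw [← rho_algebraMap Q hnz, ← rho_algebraMap Q hnz, ← map_mul, h]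
  have hw' : toK Q (algebraMap D S w) ≠ 0 := by
    rw [Ne, toK_eq_zero_iff]
    exact hnz w hw
  constructor
  · intro h0
    rw [h0, zero_mul] at h1
    exact (toK_eq_zero_iff Q _).mp h1.symm
  · intro ha
    rw [(toK_eq_zero_iff Q _).mpr ha] at h1
    exact (mul_eq_zero.mp h1).resolve_right hw'

theorem mul_eq_zero_of_rho_eq_zero (u : D) (hu : ∀ a : D, algebraMap D S a ∈ Q → a * u = 0)
    (c : FractionRing D) (hc : rho Q hnz c = 0) :
    algebraMap D (FractionRing D) u * c = 0 := by
  obtain ⟨a, w, hw, h⟩ := exists_num_den c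
  have ha := (rho_eq_zero_iff Q hnz c a w hw h).mp hc
  have h1 : (algebraMap D (FractionRing D) u * c) * algebraMap D (FractionRing D) w = 0 := by
    rw [mul_assoc, h, ← map_mul, mul_comm, hu a ha, map_zero]
  have hunit : IsUnit (algebraMap D (FractionRing D) w) :=
    IsLocalization.map_units (FractionRing D) (⟨w, hw⟩ : nonZeroDivisors D)
  exact (hunit.mul_left_eq_zero).mp h1

theorem isIntegral_rho (y : FractionRing D) (hy : IsIntegral D y) :
    IsIntegral (S ⧸ Q) (rho Q hnz y) := by
  obtain ⟨G, hGm, hG⟩ := hy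
  refine ⟨G.map ((Ideal.Quotient.mk Q).comp (algebraMap D S)), hGm.map _, ?_⟩
  rw [eval₂_map]
  have h1 : (algebraMap (S ⧸ Q) (FractionRing (S ⧸ Q))).comp
      ((Ideal.Quotient.mk Q).comp (algebraMap D S)) =
      (rho Q hnz).comp (algebraMap D (FractionRing D)) := by
    ext d
    simp only [RingHom.comp_apply, rho_algebraMap]
    rfl
  rw [h1, ← hom_eval₂, hG, map_zero]

/-- The induced map on integral closures. -/
noncomputable def theta : integralClosure D (FractionRing D) →+*
    integralClosure (S ⧸ Q) (FractionRing (S ⧸ Q)) :=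
  ((rho Q hnz).comp (integralClosure D (FractionRing D)).val.toRingHom).codRestrict _
    (fun y => isIntegral_rho Q hnz y y.2)

theorem theta_coe (y : integralClosure D (FractionRing D)) :
    ((theta Q hnz y : _) : FractionRing (S ⧸ Q)) = rho Q hnz (y : FractionRing D) := rfl

theorem theta_algebraMap (d : D) :
    ((theta Q hnz (algebraMap D (integralClosure D (FractionRing D)) d) : _) :
      FractionRing (S ⧸ Q)) = toK Q (algebraMap D S d) := by
  rw [theta_coe]
  exact rho_algebraMap Q hnz d

end Groth.Agent.Lib.FracRho61
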