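import Groth.Agent.Lib.GLinGrading38
import Mathlib.RingTheory.Jacobson.Ring
import Mathlib.FieldTheory.IsAlgClosed.Basic
import Mathlib.RingTheory.FiniteType

/-!
# Affine quotients by linearly reductive groups: points and orbit closures (helper38)

* `exists_algHom_ker_ge`: Nullstellensatz — a proper ideal of a finite type algebra over an
  algebraically closed field is contained in the kernel of a `k`-point.
* invariants are constant on orbit closures; separation of disjoint invariant closed sets by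
  invariants via the Reynolds operator.
-/

set_option autoImplicit false
set_option linter.unusedSectionVars false
universe u v w
open TensorProduct

namespace Groth.Agent.Lib.GITQuot38
open Groth.Agent.Lib.Comod Groth.Agent.Lib.Reynolds38 Groth.Agent.Lib.GLinGrading38

/-- Nullstellensatz: a proper ideal is contained in the kernel of a rational point. -/
theorem exists_algHom_ker_ge {k : Type*} [Field k] [IsAlgClosed k] {R : Type*} [CommRing R]
    [Algebra k R] [Algebra.FiniteType k R] (I : Ideal R) (hI : I ≠ ⊤) :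
    ∃ z : R →ₐ[k] k, I ≤ RingHom.ker z := by
  obtain ⟨𝔪, h𝔪, hI𝔪⟩ := Ideal.exists_le_maximal I hI
  have := h𝔪
  let _ : Field (R ⧸ 𝔪) := Ideal.Quotient.field 𝔪
  have : Algebra.FiniteType k (R ⧸ 𝔪) :=
    Algebra.FiniteType.of_surjective (Ideal.Quotient.mkₐ k 𝔪) (Ideal.Quotient.mkₐ_surjective k 𝔪)
  have : Module.Finite k (R ⧸ 𝔪) := finite_of_finite_type_of_isJacobsonRing k (R ⧸ 𝔪)
  have : Algebra.IsIntegral k (R ⧸ 𝔪) := Algebra.IsIntegral.of_finite k _
  have hbij := IsAlgClosed.algebraMap_bijective_of_isIntegral (k := k) (K := R ⧸ 𝔪)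
  let e : k ≃ₐ[k] (R ⧸ 𝔪) := AlgEquiv.ofBijective (Algebra.ofId k _) hbij
  refine ⟨(e.symm : (R ⧸ 𝔪) →ₐ[k] k).comp (Ideal.Quotient.mkₐ k 𝔪), ?_⟩
  intro f hf
  rw [RingHom.mem_ker]
  show e.symm (Ideal.Quotient.mk 𝔪 f) = 0
  rw [Ideal.Quotient.eq_zero_iff_mem.2 (hI𝔪 hf), map_zero]

section Points

variable {k : Type u} [Field k] {A : Type v} [CommRing A] [Bialgebra k A]
  {R : Type w} [CommRing R] [Algebra k R] [HopfRep.Comod k A R] [GLin.IsCoactAlg k A R]

/-- The orbit morphism is constant on invariants. -/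
theorem orbitHom_of_mem_invariants (x : R →ₐ[k] k) {f : R} (hf : f ∈ GLin.invariants k A R) :
    GLin.orbitHom k A x f = algebraMap k A (x f) := by
  rw [orbitHom_apply, (GLin.mem_invariants_iff k A R f).1 hf]
  simp [Algebra.algebraMap_eq_smul_one]

/-- A function vanishing along the orbit of `x` vanishes at `x`. -/
theorem apply_eq_zero_of_orbitHom_eq_zero (x : R →ₐ[k] k) {f : R}
    (hf : GLin.orbitHom k A x f = 0) : x f = 0 := by
  rw [← Groth.Agent.Lib.IsMu38.counit_orbitHom (A := A) x f, hf, map_zero]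

/-- `x` lies in its own orbit closure. -/
theorem inOrbitClosure_self (x : R →ₐ[k] k) : GLin.InOrbitClosure k A x x := by
  intro f hf
  rw [RingHom.mem_ker] at hf ⊢
  exact apply_eq_zero_of_orbitHom_eq_zero x hf

/-- Invariants are constant on orbit closures. -/
theorem apply_eq_of_inOrbitClosure {x z : R →ₐ[k] k} (h : GLin.InOrbitClosure k A x z) {f : R}
    (hf : f ∈ GLin.invariants k A R) : z f = x f := by
  have hG : f - algebraMap k R (x f) ∈ RingHom.ker (GLin.orbitHom k A x) := by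
    rw [RingHom.mem_ker, map_sub, orbitHom_of_mem_invariants x hf, AlgHom.commutes, sub_self]
  have := h hG
  rw [RingHom.mem_ker, map_sub, AlgHom.commutes, sub_eq_zero] at this
  rw [this]
  rfl

end Points

section Reductive

variable {k : Type u} [Field k] {A : Type v} [CommRing A] [Bialgebra k A]
  {R : Type v} [CommRing R] [Algebra k R] [HopfRep.Comod k A R] [GLin.IsCoactAlg k A R]

/-- If two points agree on invariants, the ideals of their orbit closures do not span `R`. -/
theorem ker_orbitHom_sup_ne_top (hG : HopfRep.IsLinearlyReductive k A) (x₁ x₂ : R →ₐ[k] k)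
    (h : ∀ f ∈ GLin.invariants k A R, x₁ f = x₂ f) :
    RingHom.ker (GLin.orbitHom k A x₁) ⊔ RingHom.ker (GLin.orbitHom k A x₂) ≠ ⊤ := by
  intro htop
  have h1 : (1 : R) ∈ RingHom.ker (GLin.orbitHom k A x₁) ⊔ RingHom.ker (GLin.orbitHom k A x₂) := by
    rw [htop]; exact Submodule.mem_top
  obtain ⟨f₁, hf₁, f₂, hf₂, hsum⟩ := Submodule.mem_sup.1 h1
  have hf₁' : GLin.orbitHom k A x₁ f₁ = 0 := hf₁
  have hf₂' : GLin.orbitHom k A x₂ f₂ = 0 := hf₂
  obtain ⟨E, hE⟩ := exists_isReynolds hG R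
  have hE1 : E 1 = 1 := (hE.2.2 1).2 (Subalgebra.one_mem (GLin.invariants k A R))
  have hk1 : E f₁ ∈ LinearMap.ker (GLin.orbitHom k A x₁).toLinearMap :=
    hE.apply_mem_of_isSubcomod hG (isSubcomod_ker_orbitHom x₁)
      (show (GLin.orbitHom k A x₁).toLinearMap f₁ = 0 from hf₁')
  have hk2 : E f₂ ∈ LinearMap.ker (GLin.orbitHom k A x₂).toLinearMap :=
    hE.apply_mem_of_isSubcomod hG (isSubcomod_ker_orbitHom x₂)
      (show (GLin.orbitHom k A x₂).toLinearMap f₂ = 0 from hf₂')
  have e1 : x₁ (E f₁) = 0 := apply_eq_zero_of_orbitHom_eq_zero x₁ hk1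
  have e2 : x₂ (E f₂) = 0 := apply_eq_zero_of_orbitHom_eq_zero x₂ hk2
  have e3 : x₁ (E f₂) = 0 := by rw [h _ (hE.apply_mem f₂), e2]
  have : x₁ (E (f₁ + f₂)) = 0 := by rw [map_add, map_add, e1, e3, add_zero]
  rw [hsum, hE1, map_one] at this
  exact one_ne_zero this

end Reductive

end Groth.Agent.Lib.GITQuot38

namespace Groth.Agent.Lib.GITQuot38
open Groth.Agent.Lib.Comod Groth.Agent.Lib.Reynolds38 Groth.Agent.Lib.GLinGrading38

section Extension

variable {k : Type u} [Field k] {A : Type v} [CommRing A] [Bialgebra k A]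
  {R : Type v} [CommRing R] [Algebra k R] [HopfRep.Comod k A R] [GLin.IsCoactAlg k A R]

/-- The Reynolds operator maps the extension to `R` of an ideal `𝔫` of the invariant ring into `𝔫`
(`B` is any subalgebra with the carrier of the invariants). -/
theorem reynolds_map_mem (hG : HopfRep.IsLinearlyReductive k A) {E : R →ₗ[k] R}
    (hE : IsReynolds (A := A) E) (B : Subalgebra k R)
    (hB : ∀ b : R, b ∈ B ↔ b ∈ GLin.invariants k A R) (𝔫 : Ideal B) :
    ∀ r ∈ Ideal.map B.val.toRingHom 𝔫, ∃ y ∈ 𝔫, (y : R) = E r := by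
  have key : ∀ r ∈ Ideal.map B.val.toRingHom 𝔫, ∀ a : R, ∃ y ∈ 𝔫, (y : R) = E (a * r) := by
    intro r hr
    rw [Ideal.map] at hr
    induction hr using Submodule.span_induction with
    | mem r hr =>
      obtain ⟨i, hi, rfl⟩ := hr
      intro a
      have hmem : E a ∈ B := (hB _).2 (hE.apply_mem a)
      refine ⟨⟨E a, hmem⟩ * i, 𝔫.mul_mem_left _ hi, ?_⟩
      have := IsReynolds.map_mul_invariant hG hE a (i : R) ((hB _).1 i.2)
      rw [show (B.val.toRingHom i : R) = (i : R) from rfl, this]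
      rfl
    | zero => intro a; exact ⟨0, 𝔫.zero_mem, by simp⟩
    | add r s _ _ hr hs =>
      intro a
      obtain ⟨y, hy, hy'⟩ := hr a
      obtain ⟨z, hz, hz'⟩ := hs a
      refine ⟨y + z, 𝔫.add_mem hy hz, ?_⟩
      rw [mul_add, map_add, ← hy', ← hz']
      rfl
    | smul b r _ hr =>
      intro a
      obtain ⟨y, hy, hy'⟩ := hr (a * b)
      refine ⟨y, hy, ?_⟩
      rw [hy', smul_eq_mul, mul_assoc]
  intro r hr
  obtain ⟨y, hy, hy'⟩ := key r hr 1
  rw [one_mul] at hy'
  exact ⟨y, hy, hy'⟩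

/-- Surjectivity of the affine quotient map on invariant closed subsets: a point of `Spec R^G`
vanishing on `I ∩ R^G` (`I` an invariant ideal) lifts to a point of `Spec R` vanishing on `I`. -/
theorem exists_point_over [IsAlgClosed k] [Algebra.FiniteType k R]
    (hG : HopfRep.IsLinearlyReductive k A) (B : Subalgebra k R)
    (hB : ∀ b : R, b ∈ B ↔ b ∈ GLin.invariants k A R)
    (I : Ideal R) (hI : HopfRep.IsSubcomod (k := k) (A := A) (I.restrictScalars k))
    (φ : B →ₐ[k] k) (hφ : ∀ f : B, (f : R) ∈ I → φ f = 0) :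
    ∃ x : R →ₐ[k] k, (∀ f ∈ I, x f = 0) ∧ ∀ f : B, x (f : R) = φ f := by
  obtain ⟨E, hE⟩ := exists_isReynolds hG R
  have hE1 : E 1 = 1 := (hE.2.2 1).2 (Subalgebra.one_mem (GLin.invariants k A R))
  set 𝔫 : Ideal B := RingHom.ker (φ : B →+* k) with h𝔫
  have hJ : I ⊔ Ideal.map B.val.toRingHom 𝔫 ≠ ⊤ := by
    intro htop
    have h1 : (1 : R) ∈ I ⊔ Ideal.map B.val.toRingHom 𝔫 := by rw [htop]; exact Submodule.mem_top
    obtain ⟨i, hi, j, hj, hsum⟩ := Submodule.mem_sup.1 h1
    obtain ⟨y, hy, hy'⟩ := reynolds_map_mem hG hE B hB 𝔫 j hj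
    have hEi : E i ∈ I := hE.apply_mem_of_isSubcomod hG hI hi
    have hEiB : E i ∈ B := (hB _).2 (hE.apply_mem i)
    have e1 : φ ⟨E i, hEiB⟩ = 0 := hφ ⟨E i, hEiB⟩ hEi
    have e2 : φ y = 0 := hy
    have hone : (⟨E i, hEiB⟩ : B) + y = 1 := by
      apply Subtype.ext
      show E i + (y : R) = 1
      rw [hy', ← map_add, hsum, hE1]
    have := congrArg φ hone
    rw [map_add, e1, e2, add_zero, map_one] at this
    exact zero_ne_one this
  obtain ⟨x, hx⟩ := exists_algHom_ker_ge (k := k) _ hJ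
  refine ⟨x, fun f hf => hx (Submodule.mem_sup_left hf), fun f => ?_⟩
  have hmem : f - algebraMap k B (φ f) ∈ 𝔫 := by
    show φ (f - algebraMap k B (φ f)) = 0
    rw [map_sub, AlgHom.commutes, sub_eq_zero]
    rfl
  have h2 : B.val.toRingHom (f - algebraMap k B (φ f)) ∈ RingHom.ker x :=
    hx (Submodule.mem_sup_right (Ideal.mem_map_of_mem _ hmem))
  rw [RingHom.mem_ker] at h2
  have h3 : B.val.toRingHom (f - algebraMap k B (φ f)) = (f : R) - algebraMap k R (φ f) := rfl
  rw [h3, map_sub, AlgHom.commutes, sub_eq_zero] at h2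
  rw [h2]
  rfl

end Extension

end Groth.Agent.Lib.GITQuot38
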