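import Groth.Prelude.Def_GLin
import Mathlib.Algebra.Polynomial.Laurent
import Mathlib.RingTheory.Bialgebra.MonoidAlgebra

/-!
# The numerical function `GLin.IsMu` for linear coactions, in Laurent coordinates (helper38)

For a coaction on `MvPolynomial ι k` and a one-parameter subgroup `lam`, the orbit of the point `v`
is described by its Laurent coordinates `coord lam v i = lamOrbit lam v (X i)`.  `HasLimit`,
`IsLimit`, `IsMu` are expressed through the coefficients of these Laurent polynomials.
-/

set_option autoImplicit false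
set_option linter.unusedSectionVars false
universe u v w

open TensorProduct LaurentPolynomial Polynomial

namespace Groth.Agent.Lib.IsMu38

section Laurent

variable {k : Type u} [CommRing k]

theorem coeff_T_mul (m n : ℤ) (f : k[T;T⁻¹]) : (T m * f).coeff n = f.coeff (n - m) := by
  rw [T, AddMonoidAlgebra.coeff_single_mul_apply, one_mul]
  congr 1; ring

theorem coeff_toLaurent_natCast (p : k[X]) (n : ℕ) : (toLaurent p).coeff (n : ℤ) = p.coeff n := by
  rw [Polynomial.toLaurent_apply, AddMonoidAlgebra.coeff_mapDomain,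
    Finsupp.mapDomain_apply Nat.cast_injective]
  rfl

theorem coeff_toLaurent_neg (p : k[X]) (n : ℤ) (hn : n < 0) : (toLaurent p).coeff n = 0 := by
  rw [Polynomial.toLaurent_apply, AddMonoidAlgebra.coeff_mapDomain]
  apply Finsupp.mapDomain_of_notMem_range
  rintro ⟨m, rfl⟩
  omega

theorem coeff_trunc (f : k[T;T⁻¹]) (n : ℕ) : (LaurentPolynomial.trunc f).coeff n = f.coeff n := by
  simp [LaurentPolynomial.trunc]

theorem toLaurent_trunc (f : k[T;T⁻¹]) (h : ∀ n : ℤ, n < 0 → f.coeff n = 0) :
    toLaurent (LaurentPolynomial.trunc f) = f := by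
  ext n
  rcases lt_or_ge n 0 with hn | hn
  · rw [coeff_toLaurent_neg _ n hn, h n hn]
  · lift n to ℕ using hn
    rw [coeff_toLaurent_natCast, coeff_trunc]

theorem mem_range_toLaurent_iff (f : k[T;T⁻¹]) :
    f ∈ Set.range (toLaurent (R := k)) ↔ ∀ n : ℤ, n < 0 → f.coeff n = 0 := by
  constructor
  · rintro ⟨p, rfl⟩ n hn
    exact coeff_toLaurent_neg p n hn
  · intro h
    exact ⟨LaurentPolynomial.trunc f, toLaurent_trunc f h⟩

end Laurent

section Ext

variable {k : Type u} [CommRing k] {ι : Type w}

/-- Extensions to the affine line of a Laurent-polynomial-valued point of affine space, with a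
condition on the value at `0`. -/
theorem exists_extension_iff (g : ι → k[T;T⁻¹]) (P : (MvPolynomial ι k →ₐ[k] k) → Prop) :
    (∃ h : MvPolynomial ι k →ₐ[k] k[X],
        (Polynomial.toLaurentAlg (R := k)).comp h = MvPolynomial.aeval g ∧
          P ((Polynomial.aeval (0 : k)).comp h)) ↔
      (∀ i, ∀ n : ℤ, n < 0 → (g i).coeff n = 0) ∧
        P (MvPolynomial.aeval fun i => (g i).coeff 0) := by
  constructor
  · rintro ⟨h, hh, hP⟩
    have hi : ∀ i, toLaurent (h (MvPolynomial.X i)) = g i := by
      intro i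
      have := congrArg (fun φ : MvPolynomial ι k →ₐ[k] k[T;T⁻¹] => φ (MvPolynomial.X i)) hh
      simpa using this
    refine ⟨fun i n hn => ?_, ?_⟩
    · rw [← hi i]; exact coeff_toLaurent_neg _ n hn
    · have : (Polynomial.aeval (0 : k)).comp h = MvPolynomial.aeval fun i => (g i).coeff 0 := by
        apply MvPolynomial.algHom_ext
        intro i
        rw [AlgHom.comp_apply, MvPolynomial.aeval_X, ← hi i]
        have := coeff_toLaurent_natCast (h (MvPolynomial.X i)) 0
        rw [Nat.cast_zero] at this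
        rw [this, Polynomial.coeff_zero_eq_aeval_zero]
      rwa [this] at hP
  · rintro ⟨hneg, hP⟩
    refine ⟨MvPolynomial.aeval fun i => LaurentPolynomial.trunc (g i), ?_, ?_⟩
    · apply MvPolynomial.algHom_ext
      intro i
      rw [AlgHom.comp_apply, MvPolynomial.aeval_X, MvPolynomial.aeval_X,
        Polynomial.toLaurentAlg_apply, toLaurent_trunc _ (hneg i)]
    · have : (Polynomial.aeval (0 : k)).comp
          (MvPolynomial.aeval fun i => LaurentPolynomial.trunc (g i)) =
          MvPolynomial.aeval fun i => (g i).coeff 0 := by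
        apply MvPolynomial.algHom_ext
        intro i
        rw [AlgHom.comp_apply, MvPolynomial.aeval_X, MvPolynomial.aeval_X,
          ← Polynomial.coeff_zero_eq_aeval_zero, coeff_trunc, Nat.cast_zero]
      rwa [this]

theorem aeval_ne_aeval_zero_iff [Nontrivial k] (c : ι → k) :
    (MvPolynomial.aeval c : MvPolynomial ι k →ₐ[k] k) ≠ MvPolynomial.aeval (fun _ : ι => (0 : k)) ↔
      ∃ i, c i ≠ 0 := by
  constructor
  · intro h
    by_contra hc
    simp only [not_exists, not_not] at hc
    apply h
    apply MvPolynomial.algHom_ext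
    intro i
    rw [MvPolynomial.aeval_X, MvPolynomial.aeval_X, hc i]
  · rintro ⟨i, hi⟩ h
    apply hi
    have := congrArg (fun φ : MvPolynomial ι k →ₐ[k] k => φ (MvPolynomial.X i)) h
    simpa using this

theorem aeval_eq_aeval_zero_iff (c : ι → k) :
    (MvPolynomial.aeval c : MvPolynomial ι k →ₐ[k] k) = MvPolynomial.aeval (fun _ : ι => (0 : k)) ↔
      ∀ i, c i = 0 := by
  constructor
  · intro h i
    have := congrArg (fun φ : MvPolynomial ι k →ₐ[k] k => φ (MvPolynomial.X i)) h
    simpa using this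
  · intro hc
    apply MvPolynomial.algHom_ext
    intro i
    rw [MvPolynomial.aeval_X, MvPolynomial.aeval_X, hc i]

end Ext

section GLin

variable {k : Type u} [CommRing k] {A : Type v} [CommRing A] [Bialgebra k A]

/-- The counit of the orbit morphism of `x` is `x` (any coaction). -/
theorem counit_orbitHom {R : Type w} [CommRing R] [Algebra k R] [HopfRep.Comod k A R]
    [GLin.IsCoactAlg k A R] (x : R →ₐ[k] k) (f : R) :
    Coalgebra.counit (R := k) (GLin.orbitHom k A x f) = x f := by
  have key : ∀ t : R ⊗[k] A,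
      Coalgebra.counit (R := k) ((Algebra.TensorProduct.lid k A)
        ((Algebra.TensorProduct.map x (AlgHom.id k A)) t)) =
      x ((TensorProduct.rid k R) ((Coalgebra.counit (R := k) (A := A)).lTensor R t)) := by
    intro t
    induction t using TensorProduct.induction_on with
    | zero => simp
    | add a b ha hb => simp only [map_add, ha, hb]
    | tmul r a => simp [mul_comm]
  have h := LinearMap.congr_fun (HopfRep.Comod.counit_comp (k := k) (A := A) (V := R)) f
  simp only [LinearMap.coe_comp, Function.comp_apply, LinearMap.flip_apply,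
    TensorProduct.mk_apply] at h
  show Coalgebra.counit (R := k) ((Algebra.TensorProduct.lid k A)
    ((Algebra.TensorProduct.map x (AlgHom.id k A)) (GLin.coactAlgHom k A R f))) = x f
  rw [GLin.coactAlgHom_apply, key, h]
  simp

variable {ι : Type w} [Fintype ι] [HopfRep.Comod k A (MvPolynomial ι k)]
  [GLin.IsCoactAlg k A (MvPolynomial ι k)]

/-- The `i`-th Laurent coordinate of the orbit of `v` under the one-parameter subgroup `lam`. -/
noncomputable def coord (lam : A →ₐc[k] k[T;T⁻¹]) (v : ι → k) (i : ι) : k[T;T⁻¹] :=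
  GLin.lamOrbit k A lam (GLin.vecPt k ι v) (MvPolynomial.X i)

theorem lamOrbit_eq_aeval (lam : A →ₐc[k] k[T;T⁻¹]) (v : ι → k) :
    GLin.lamOrbit k A lam (GLin.vecPt k ι v) = MvPolynomial.aeval (coord lam v) := by
  apply MvPolynomial.algHom_ext
  intro i
  rw [MvPolynomial.aeval_X]
  rfl

theorem shiftedOrbit_eq_aeval (lam : A →ₐc[k] k[T;T⁻¹]) (v : ι → k) (m : ℤ) :
    GLin.shiftedOrbit k A lam v m = MvPolynomial.aeval fun i => T m * coord lam v i := rfl

/-- The counit (value at `t = 1`) of the `i`-th coordinate of the orbit is `v i`. -/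
theorem counit_coord (lam : A →ₐc[k] k[T;T⁻¹]) (v : ι → k) (i : ι) :
    Coalgebra.counit (R := k) (coord lam v i) = v i := by
  have h1 : Coalgebra.counit (R := k) (coord lam v i) =
      Coalgebra.counit (R := k) (GLin.orbitHom k A (GLin.vecPt k ι v) (MvPolynomial.X i)) :=
    CoalgHomClass.counit_comp_apply lam _
  rw [h1, counit_orbitHom, MvPolynomial.aeval_X]

theorem hasLimit_iff (lam : A →ₐc[k] k[T;T⁻¹]) (v : ι → k) :
    GLin.HasLimit k A lam (GLin.vecPt k ι v) ↔
      ∀ i, ∀ n : ℤ, n < 0 → (coord lam v i).coeff n = 0 := by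
  have := exists_extension_iff (coord lam v) (fun _ => True)
  simp only [and_true] at this
  rw [← this, GLin.HasLimit, lamOrbit_eq_aeval]

theorem isLimit_iff (lam : A →ₐc[k] k[T;T⁻¹]) (v y : ι → k) :
    GLin.IsLimit k A lam (GLin.vecPt k ι v) (GLin.vecPt k ι y) ↔
      (∀ i, ∀ n : ℤ, n < 0 → (coord lam v i).coeff n = 0) ∧ ∀ i, (coord lam v i).coeff 0 = y i := by
  have := exists_extension_iff (coord lam v) (fun φ => φ = GLin.vecPt k ι y)
  rw [GLin.IsLimit, lamOrbit_eq_aeval, this]
  refine and_congr Iff.rfl ?_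
  constructor
  · intro h i
    have := congrArg (fun φ : MvPolynomial ι k →ₐ[k] k => φ (MvPolynomial.X i)) h
    simpa using this
  · intro h
    apply MvPolynomial.algHom_ext
    intro i
    rw [MvPolynomial.aeval_X, MvPolynomial.aeval_X, h i]

theorem isMu_iff [Nontrivial k] (lam : A →ₐc[k] k[T;T⁻¹]) (v : ι → k) (m : ℤ) :
    GLin.IsMu k A lam v m ↔
      (∀ i, ∀ n : ℤ, n < -m → (coord lam v i).coeff n = 0) ∧ ∃ i, (coord lam v i).coeff (-m) ≠ 0 := by
  have := exists_extension_iff (fun i => T m * coord lam v i)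
    (fun φ => φ ≠ MvPolynomial.aeval (fun _ : ι => (0 : k)))
  rw [GLin.IsMu, shiftedOrbit_eq_aeval, this, aeval_ne_aeval_zero_iff]
  simp only [coeff_T_mul, zero_sub]
  refine and_congr ?_ Iff.rfl
  constructor
  · intro h i n hn
    have := h i (n + m) (by omega)
    rwa [add_sub_cancel_right] at this
  · intro h i n hn
    exact h i (n - m) (by omega)

end GLin

section Unique

variable {k : Type u} [CommRing k] {ι : Type w} [Fintype ι]

/-- The union of the supports of a finite family of Laurent polynomials. -/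
noncomputable def supp (g : ι → k[T;T⁻¹]) : Finset ℤ :=
  Finset.univ.biUnion fun i => (g i).coeff.support

theorem mem_supp (g : ι → k[T;T⁻¹]) (n : ℤ) : n ∈ supp g ↔ ∃ i, (g i).coeff n ≠ 0 := by
  simp [supp]

theorem supp_nonempty (g : ι → k[T;T⁻¹]) (h : ∃ i, g i ≠ 0) : (supp g).Nonempty := by
  obtain ⟨i, hi⟩ := h
  have : ∃ n, (g i).coeff n ≠ 0 := by
    by_contra hc
    simp only [not_exists, not_not] at hc
    apply hi
    ext n
    rw [hc n]
    rfl
  obtain ⟨n, hn⟩ := this
  exact ⟨n, (mem_supp g n).2 ⟨i, hn⟩⟩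

theorem cond_iff (g : ι → k[T;T⁻¹]) (hS : (supp g).Nonempty) (m : ℤ) :
    ((∀ i, ∀ n : ℤ, n < -m → (g i).coeff n = 0) ∧ ∃ i, (g i).coeff (-m) ≠ 0) ↔
      -m = (supp g).min' hS := by
  constructor
  · rintro ⟨h1, h2⟩
    apply le_antisymm
    · apply Finset.le_min'
      intro n hn
      by_contra hlt
      obtain ⟨i, hi⟩ := (mem_supp g n).1 hn
      exact hi (h1 i n (not_le.1 hlt))
    · exact Finset.min'_le _ _ ((mem_supp g _).2 h2)
  · intro h
    refine ⟨fun i n hn => ?_, ?_⟩
    · by_contra hne
      have hmem : n ∈ supp g := (mem_supp g n).2 ⟨i, hne⟩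
      have := Finset.min'_le _ _ hmem
      omega
    · rw [h]
      exact (mem_supp g _).1 (Finset.min'_mem _ hS)

theorem existsUnique_cond (g : ι → k[T;T⁻¹]) (h : ∃ i, g i ≠ 0) :
    ∃! m : ℤ, (∀ i, ∀ n : ℤ, n < -m → (g i).coeff n = 0) ∧ ∃ i, (g i).coeff (-m) ≠ 0 := by
  have hS := supp_nonempty g h
  refine ⟨-(supp g).min' hS, ?_, ?_⟩
  · show _ ∧ _
    rw [cond_iff g hS, neg_neg]
  · intro m hm
    have := (cond_iff g hS m).1 hm
    omega

end Unique

section Main

variable {k : Type u} [Field k] {A : Type v} [CommRing A] [Bialgebra k A]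
  {ι : Type w} [Fintype ι] [HopfRep.Comod k A (MvPolynomial ι k)]
  [GLin.IsCoactAlg k A (MvPolynomial ι k)]

theorem exists_coord_ne_zero (lam : A →ₐc[k] k[T;T⁻¹]) (v : ι → k) (hv : v ≠ 0) :
    ∃ i, coord lam v i ≠ 0 := by
  have : ∃ i, v i ≠ 0 := by
    by_contra hc
    simp only [not_exists, not_not] at hc
    exact hv (funext hc)
  obtain ⟨i, hi⟩ := this
  refine ⟨i, fun h0 => hi ?_⟩
  rw [← counit_coord lam v i, h0, map_zero]

/-- For `v ≠ 0` there is exactly one `m` with `IsMu lam v m` (any coaction on the polynomial ring). -/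
theorem existsUnique_isMu (lam : A →ₐc[k] k[T;T⁻¹]) (v : ι → k) (hv : v ≠ 0) :
    ∃! m : ℤ, GLin.IsMu k A lam v m := by
  simp only [isMu_iff]
  exact existsUnique_cond (coord lam v) (exists_coord_ne_zero lam v hv)

/-- `IsMu` in terms of the minimal exponent occurring in the coordinates of the orbit. -/
theorem isMu_iff_min (lam : A →ₐc[k] k[T;T⁻¹]) (v : ι → k) (hv : v ≠ 0) (m : ℤ) :
    GLin.IsMu k A lam v m ↔
      -m = (supp (coord lam v)).min' (supp_nonempty _ (exists_coord_ne_zero lam v hv)) := by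
  rw [isMu_iff, cond_iff]

end Main

end Groth.Agent.Lib.IsMu38
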