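import Groth.Agent.Lib.Reynolds38
import Groth.Agent.Lib.IsMu38
import Mathlib.RingTheory.MvPolynomial.Homogeneous

/-!
# Orbit maps and gradings for `GLin` coactions (helper38)

* `isComodHom_orbitHom`: the orbit morphism `R → A` of a rational point is a comodule map to the
  regular comodule, so its kernel (the ideal of the orbit closure) is a subcomodule.
* For a linear coaction on `MvPolynomial ι k` (`GLin.IsLinear`): the coaction preserves degrees
  (`rTensor_homogeneousComponent_coact`), homogeneous components of invariants are invariant,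
  and the ideal of the origin is a subcomodule.
-/

set_option autoImplicit false
set_option linter.unusedSectionVars false
universe u v w
open TensorProduct

namespace Groth.Agent.Lib.GLinGrading38
open Groth.Agent.Lib.Comod

section Orbit
variable {k : Type u} [Field k] {A : Type v} [CommRing A] [Bialgebra k A]
  {R : Type w} [CommRing R] [Algebra k R] [HopfRep.Comod k A R] [GLin.IsCoactAlg k A R]

/-- orbit map as contraction on the left factor -/
theorem orbitHom_apply (x : R →ₐ[k] k) (f : R) :
    GLin.orbitHom k A x f = (TensorProduct.lid k A) ((x.toLinearMap.rTensor A)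
      (HopfRep.Comod.coact (k := k) (A := A) f)) := by
  show (Algebra.TensorProduct.lid k A) ((Algebra.TensorProduct.map x (AlgHom.id k A))
    (GLin.coactAlgHom k A R f)) = _
  rw [GLin.coactAlgHom_apply]
  generalize HopfRep.Comod.coact (k := k) (A := A) f = t
  induction t using TensorProduct.induction_on with
  | zero => simp
  | add a b ha hb => simp only [map_add, ha, hb]
  | tmul a b => simp

/-- The orbit morphism is a comodule map to the regular comodule. -/
theorem isComodHom_orbitHom (x : R →ₐ[k] k) :
    Hoch.IsComodHom A (GLin.orbitHom k A x).toLinearMap := by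
  apply LinearMap.ext
  intro f
  simp only [LinearMap.coe_comp, Function.comp_apply, AlgHom.toLinearMap_apply]
  have hco := LinearMap.congr_fun (HopfRep.Comod.coassoc (k := k) (A := A) (V := R)) f
  simp only [LinearMap.coe_comp, LinearEquiv.coe_coe, Function.comp_apply] at hco
  -- general identity on tensors
  have key : ∀ t : R ⊗[k] A,
      CoalgebraStruct.comul (R := k) ((TensorProduct.lid k A) ((x.toLinearMap.rTensor A) t)) =
      (TensorProduct.lid k (A ⊗[k] A)) ((x.toLinearMap.rTensor (A ⊗[k] A))
        ((CoalgebraStruct.comul (R := k) (A := A)).lTensor R t)) := by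
    intro t
    induction t using TensorProduct.induction_on with
    | zero => simp
    | add a b ha hb => simp only [map_add, ha, hb]
    | tmul a b => simp
  have key2 : ∀ s : (R ⊗[k] A) ⊗[k] A,
      (TensorProduct.lid k (A ⊗[k] A)) ((x.toLinearMap.rTensor (A ⊗[k] A))
        ((TensorProduct.assoc k R A A) s)) =
      (((TensorProduct.lid k A).toLinearMap ∘ₗ (x.toLinearMap.rTensor A)).rTensor A) s := by
    intro s
    induction s using TensorProduct.induction_on with
    | zero => simp
    | add a b ha hb => simp only [map_add, ha, hb]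
    | tmul t c =>
      induction t using TensorProduct.induction_on with
      | zero => simp
      | add a b ha hb => simp only [TensorProduct.add_tmul, map_add, ha, hb]
      | tmul a b => simp [TensorProduct.smul_tmul']
  show CoalgebraStruct.comul (R := k) (GLin.orbitHom k A x f) = _
  rw [orbitHom_apply, key, ← hco, key2]
  generalize HopfRep.Comod.coact (k := k) (A := A) f = t
  induction t using TensorProduct.induction_on with
  | zero => simp
  | add a b ha hb => simp only [map_add, ha, hb]
  | tmul a b =>
    simp only [LinearMap.rTensor_tmul, LinearMap.coe_comp, LinearEquiv.coe_coe, Function.comp_apply,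
      AlgHom.toLinearMap_apply]
    rw [orbitHom_apply]

/-- The ideal of the orbit closure of `x` is a subcomodule. -/
theorem isSubcomod_ker_orbitHom (x : R →ₐ[k] k) :
    HopfRep.IsSubcomod (k := k) (A := A) (LinearMap.ker (GLin.orbitHom k A x).toLinearMap) :=
  isSubcomod_ker (isComodHom_orbitHom x)

end Orbit

section Grading
variable {k : Type u} [Field k] {A : Type v} [CommRing A] [Bialgebra k A]
  {ι : Type w}

/-- The image of `R_d ⊗ A` in `R ⊗ A`. -/
noncomputable def M (A : Type v) [CommRing A] [Algebra k A] (ι : Type w) (d : ℕ) :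
    Submodule k (MvPolynomial ι k ⊗[k] A) :=
  LinearMap.range ((MvPolynomial.homogeneousSubmodule ι k d).subtype.rTensor A)

theorem tmul_mem_M {d : ℕ} {y : MvPolynomial ι k} (hy : y.IsHomogeneous d) (a : A) :
    y ⊗ₜ[k] a ∈ M (k := k) A ι d :=
  ⟨(⟨y, hy⟩ : MvPolynomial.homogeneousSubmodule ι k d) ⊗ₜ[k] a, by simp⟩

theorem mul_mem_M {d e : ℕ} {s t : MvPolynomial ι k ⊗[k] A} (hs : s ∈ M (k := k) A ι d)
    (ht : t ∈ M (k := k) A ι e) : s * t ∈ M (k := k) A ι (d + e) := by
  obtain ⟨s', rfl⟩ := hs
  obtain ⟨t', rfl⟩ := ht
  induction s' using TensorProduct.induction_on with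
  | zero => simp
  | add a b ha hb => rw [map_add, add_mul]; exact add_mem ha hb
  | tmul y a =>
    induction t' using TensorProduct.induction_on with
    | zero => simp
    | add c d' hc hd => rw [map_add, mul_add]; exact add_mem hc hd
    | tmul z b =>
      simp only [LinearMap.rTensor_tmul, Submodule.subtype_apply,
        Algebra.TensorProduct.tmul_mul_tmul]
      exact tmul_mem_M (y.2.mul z.2) _

theorem one_mem_M : (1 : MvPolynomial ι k ⊗[k] A) ∈ M (k := k) A ι 0 := by
  rw [Algebra.TensorProduct.one_def]
  exact tmul_mem_M (MvPolynomial.isHomogeneous_one ι k) 1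

theorem pow_mem_M {d : ℕ} {s : MvPolynomial ι k ⊗[k] A} (hs : s ∈ M (k := k) A ι d) (n : ℕ) :
    s ^ n ∈ M (k := k) A ι (d * n) := by
  induction n with
  | zero => simpa using one_mem_M
  | succ n ih =>
    rw [pow_succ, Nat.mul_succ]
    exact mul_mem_M ih hs

/-- `π_d ⊗ id` on `M e`. -/
theorem rTensor_homogeneousComponent_of_mem_M {d e : ℕ} {t : MvPolynomial ι k ⊗[k] A}
    (ht : t ∈ M (k := k) A ι e) :
    (MvPolynomial.homogeneousComponent d).rTensor A t = if d = e then t else 0 := by
  obtain ⟨t', rfl⟩ := ht
  rw [← LinearMap.comp_apply, ← LinearMap.rTensor_comp]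
  have : MvPolynomial.homogeneousComponent d ∘ₗ (MvPolynomial.homogeneousSubmodule ι k e).subtype =
      if d = e then (MvPolynomial.homogeneousSubmodule ι k e).subtype else 0 := by
    apply LinearMap.ext
    intro y
    rw [LinearMap.comp_apply, Submodule.subtype_apply, MvPolynomial.homogeneousComponent_of_mem y.2]
    split_ifs <;> simp
  rw [this]
  split_ifs <;> simp

variable [Fintype ι] [HopfRep.Comod k A (MvPolynomial ι k)] [GLin.IsCoactAlg k A (MvPolynomial ι k)]

theorem coact_monomial_mem_M (hlin : GLin.IsLinear k A ι) (α : ι →₀ ℕ) :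
    HopfRep.Comod.coact (k := k) (A := A) (MvPolynomial.monomial α (1 : k)) ∈
      M (k := k) A ι α.degree := by
  induction α using Finsupp.induction_linear with
  | zero =>
    have : (MvPolynomial.monomial (0 : ι →₀ ℕ) (1 : k)) = 1 := rfl
    rw [this, GLin.IsCoactAlg.coact_one (k := k) (A := A)]
    simpa using one_mem_M (k := k) (A := A) (ι := ι)
  | add f g hf hg =>
    have : MvPolynomial.monomial (f + g) (1 : k) =
        MvPolynomial.monomial f 1 * MvPolynomial.monomial g 1 := by
      rw [MvPolynomial.monomial_mul, one_mul]
    rw [this, GLin.IsCoactAlg.coact_mul, map_add]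
    exact mul_mem_M hf hg
  | single i n =>
    have h1 : MvPolynomial.monomial (Finsupp.single i n) (1 : k) = (MvPolynomial.X i) ^ n := by
      rw [MvPolynomial.X_pow_eq_monomial]
    have hpow : ∀ n : ℕ, HopfRep.Comod.coact (k := k) (A := A) ((MvPolynomial.X i : MvPolynomial ι k) ^ n) =
        (HopfRep.Comod.coact (k := k) (A := A) (MvPolynomial.X i : MvPolynomial ι k)) ^ n := by
      intro n
      induction n with
      | zero => rw [pow_zero, pow_zero, GLin.IsCoactAlg.coact_one (k := k) (A := A)]
      | succ n ih => rw [pow_succ, pow_succ, GLin.IsCoactAlg.coact_mul, ih]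
    rw [h1, hpow, Finsupp.degree_single]
    have hX : HopfRep.Comod.coact (k := k) (A := A) (MvPolynomial.X i : MvPolynomial ι k) ∈
        M (k := k) A ι 1 := by
      obtain ⟨m, hm⟩ := hlin i
      rw [hm]
      exact Submodule.sum_mem _ fun j _ => tmul_mem_M (MvPolynomial.isHomogeneous_X k j) _
    have := pow_mem_M hX n
    rwa [one_mul] at this

theorem coact_mem_M (hlin : GLin.IsLinear k A ι) {F : MvPolynomial ι k} {d : ℕ}
    (hF : F.IsHomogeneous d) :
    HopfRep.Comod.coact (k := k) (A := A) F ∈ M (k := k) A ι d := by
  rw [← MvPolynomial.support_sum_monomial_coeff F, map_sum]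
  refine Submodule.sum_mem _ fun α hα => ?_
  have h1 : MvPolynomial.monomial α (MvPolynomial.coeff α F) =
      MvPolynomial.coeff α F • MvPolynomial.monomial α (1 : k) := by
    rw [MvPolynomial.smul_monomial, smul_eq_mul, mul_one]
  rw [h1, map_smul]
  refine Submodule.smul_mem _ _ ?_
  have hdeg : α.degree = d := by
    have := hF (MvPolynomial.mem_support_iff.1 hα)
    rw [← this, Finsupp.degree_eq_weight_one]
    rfl
  rw [← hdeg]
  exact coact_monomial_mem_M hlin α

/-- A linear coaction commutes with taking homogeneous components. -/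
theorem rTensor_homogeneousComponent_coact (hlin : GLin.IsLinear k A ι) (d : ℕ)
    (F : MvPolynomial ι k) :
    (MvPolynomial.homogeneousComponent d).rTensor A (HopfRep.Comod.coact (k := k) (A := A) F) =
      HopfRep.Comod.coact (k := k) (A := A) (MvPolynomial.homogeneousComponent d F) := by
  conv_lhs => rw [← MvPolynomial.sum_homogeneousComponent F]
  rw [map_sum, map_sum]
  have : ∀ e ∈ Finset.range (F.totalDegree + 1),
      (MvPolynomial.homogeneousComponent d).rTensor A
        (HopfRep.Comod.coact (k := k) (A := A) (MvPolynomial.homogeneousComponent e F)) =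
      if d = e then HopfRep.Comod.coact (k := k) (A := A) (MvPolynomial.homogeneousComponent e F)
        else 0 := fun e _ =>
    rTensor_homogeneousComponent_of_mem_M
      (coact_mem_M hlin (MvPolynomial.homogeneousComponent_isHomogeneous e F))
  rw [Finset.sum_congr rfl this, Finset.sum_ite_eq]
  split_ifs with h
  · rfl
  · rw [Finset.mem_range, not_lt] at h
    rw [MvPolynomial.homogeneousComponent_eq_zero _ _ (by omega), map_zero]

theorem homogeneousComponent_mem_invariants (hlin : GLin.IsLinear k A ι) (d : ℕ)
    {F : MvPolynomial ι k} (hF : F ∈ GLin.invariants k A (MvPolynomial ι k)) :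
    MvPolynomial.homogeneousComponent d F ∈ GLin.invariants k A (MvPolynomial ι k) := by
  rw [GLin.mem_invariants_iff] at hF ⊢
  rw [← rTensor_homogeneousComponent_coact hlin, hF, LinearMap.rTensor_tmul]

/-- The dual-algebra action commutes with homogeneous components (linear coaction). -/
theorem act_homogeneousComponent (hlin : GLin.IsLinear k A ι) (d : ℕ) (φ : A →ₗ[k] k)
    (F : MvPolynomial ι k) :
    act (MvPolynomial ι k) φ (MvPolynomial.homogeneousComponent d F) =
      MvPolynomial.homogeneousComponent d (act (MvPolynomial ι k) φ F) := by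
  rw [act_apply, act_apply, ← rTensor_homogeneousComponent_coact hlin, contr_rTensor]

/-- The ideal of the origin is a subcomodule (linear coaction). -/
theorem isSubcomod_ker_vecPt_zero (hlin : GLin.IsLinear k A ι) :
    HopfRep.IsSubcomod (k := k) (A := A)
      (LinearMap.ker (GLin.vecPt k ι (fun _ : ι => (0 : k))).toLinearMap) := by
  have hmem : ∀ F : MvPolynomial ι k, F ∈ LinearMap.ker (GLin.vecPt k ι (fun _ : ι => (0 : k))).toLinearMap ↔
      MvPolynomial.homogeneousComponent 0 F = 0 := by
    intro F
    rw [LinearMap.mem_ker, AlgHom.toLinearMap_apply, MvPolynomial.homogeneousComponent_zero]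
    have : GLin.vecPt k ι (fun _ : ι => (0 : k)) F = MvPolynomial.coeff 0 F := by
      show MvPolynomial.aeval (fun _ : ι => (0 : k)) F = _
      rw [MvPolynomial.aeval_zero', MvPolynomial.constantCoeff_eq]
      rfl
    rw [this]
    constructor
    · intro h; rw [h, map_zero]
    · intro h
      have := congrArg (MvPolynomial.coeff 0) h
      simpa using this
  rw [isSubcomod_iff_act]
  intro φ F hF
  rw [hmem] at hF ⊢
  rw [← act_homogeneousComponent hlin, hF, map_zero]

end Grading

end Groth.Agent.Lib.GLinGrading38
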