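import Groth.Agent.Lib.ComodUnip
import Groth.Prelude.Def_GLin

/-!
# Reynolds operator for linearly reductive affine groups (helper38)

On top of helper41's `Lib/Comod*`.  For a commutative bialgebra `A` over a field `k` whose
finite-dimensional comodules are semisimple (`HopfRep.IsLinearlyReductive`), every comodule (of any
dimension, in the universe of `A`) is semisimple; the invariants have a unique invariant complement;
the Reynolds operator exists, is unique, commutes with comodule maps, and is linear over the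
invariants for multiplicative coactions.
-/

set_option autoImplicit false
universe u v w

open TensorProduct

namespace Groth.Agent.Lib.Reynolds38

open Groth.Agent.Lib.Comod

section Basic

variable {k : Type u} {A : Type v} [Field k] [CommRing A] [Bialgebra k A]

/-- A tensor all of whose contractions vanish is zero (over a field). -/
theorem eq_zero_of_forall_contr_eq_zero {V : Type w} [AddCommGroup V] [Module k V]
    (x : V ⊗[k] A) (h : ∀ φ : A →ₗ[k] k, contr V φ x = 0) : x = 0 := by
  have hx : x ∈ LinearMap.range ((⊥ : Submodule k V).subtype.rTensor A) := by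
    rw [mem_range_rTensor_subtype_iff]
    intro φ
    rw [h φ]
    exact zero_mem _
  rw [range_rTensor_bot] at hx
  exact (Submodule.mem_bot k).1 hx

variable {V : Type w} [AddCommGroup V] [Module k V] [HopfRep.Comod k A V]

/-- Fixed vectors in terms of the dual-algebra action. -/
theorem mem_fixedPts_iff_act (v : V) :
    v ∈ HopfRep.fixedPts k A V ↔ ∀ φ : A →ₗ[k] k, act V φ v = φ 1 • v := by
  constructor
  · intro hv φ
    have hv' : HopfRep.Comod.coact (k := k) (A := A) v = v ⊗ₜ[k] (1 : A) := hv
    rw [act_apply, hv', contr_tmul]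
  · intro h
    show HopfRep.Comod.coact (k := k) (A := A) v = v ⊗ₜ[k] (1 : A)
    rw [← sub_eq_zero]
    apply eq_zero_of_forall_contr_eq_zero
    intro φ
    rw [map_sub, contr_tmul, ← act_apply, h φ, sub_self]

/-- Comodule maps send fixed vectors to fixed vectors. -/
theorem map_mem_fixedPts {W : Type*} [AddCommGroup W] [Module k W] [HopfRep.Comod k A W]
    {f : V →ₗ[k] W} (hf : Hoch.IsComodHom A f) {v : V} (hv : v ∈ HopfRep.fixedPts k A V) :
    f v ∈ HopfRep.fixedPts k A W := by
  have hv' : HopfRep.Comod.coact (k := k) (A := A) v = v ⊗ₜ[k] (1 : A) := hv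
  have h := LinearMap.congr_fun hf v
  simp only [LinearMap.coe_comp, Function.comp_apply] at h
  show HopfRep.Comod.coact (k := k) (A := A) (f v) = f v ⊗ₜ[k] (1 : A)
  rw [h, hv', LinearMap.rTensor_tmul]

end Basic

section Semisimple

variable {k : Type u} {A : Type v} [Field k] [CommRing A] [Bialgebra k A]

/-- Inside a finite-dimensional subcomodule `W`, any subcomodule `U` of the ambient comodule has a
relative complement. -/
theorem exists_compl_in_finite (hG : HopfRep.IsLinearlyReductive k A)
    {V : Type v} [AddCommGroup V] [Module k V] [c : HopfRep.Comod k A V]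
    (W U : Submodule k V) [Module.Finite k W]
    (hW : HopfRep.IsSubcomod (k := k) (A := A) W) (hU : HopfRep.IsSubcomod (k := k) (A := A) U) :
    ∃ W₂ : Submodule k V, HopfRep.IsSubcomod (k := k) (A := A) W₂ ∧ W₂ ≤ W ∧
      Disjoint W₂ U ∧ W ≤ U ⊔ W₂ := by
  have hU' : @HopfRep.IsSubcomod k A _ _ _ _ W _ _ (ComodSub.Comod.restr c W hW)
      (U.comap W.subtype) := by
    let _ := ComodSub.Comod.restr c W hW
    exact isSubcomod_comap (ComodSub.isComodHom_subtype c W hW) hU
  obtain ⟨W₂', hW₂', hcompl⟩ := @hG W _ _ (ComodSub.Comod.restr c W hW) inferInstance _ hU'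
  have hmap : HopfRep.IsSubcomod (k := k) (A := A) (W₂'.map W.subtype) := by
    let _ := ComodSub.Comod.restr c W hW
    exact isSubcomod_map (ComodSub.isComodHom_subtype c W hW) hW₂'
  refine ⟨W₂'.map W.subtype, hmap, Submodule.map_subtype_le W W₂', ?_, ?_⟩
  · rw [Submodule.disjoint_def]
    rintro x ⟨y, hy, rfl⟩ hxU
    have hy0 : y = 0 := by
      have : y ∈ U.comap W.subtype ⊓ W₂' := ⟨hxU, hy⟩
      rw [hcompl.inf_eq_bot] at this
      exact (Submodule.mem_bot k).1 this
    rw [hy0, map_zero]
  · intro x hx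
    have hx' : (⟨x, hx⟩ : W) ∈ U.comap W.subtype ⊔ W₂' := by
      rw [hcompl.sup_eq_top]; exact Submodule.mem_top
    obtain ⟨a, ha, b, hb, hab⟩ := Submodule.mem_sup.1 hx'
    have : x = (a : V) + (b : V) := by
      have := congrArg (fun z : W => (z : V)) hab
      simpa using this.symm
    rw [this]
    exact Submodule.add_mem_sup ha ⟨b, hb, rfl⟩

/-- For a linearly reductive group every comodule, of any dimension, is semisimple. -/
theorem isSemisimpleComod (hG : HopfRep.IsLinearlyReductive k A)
    (V : Type v) [AddCommGroup V] [Module k V] [HopfRep.Comod k A V] :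
    HopfRep.IsSemisimpleComod k A V := by
  intro U hU
  let S : Set (Submodule k V) := {N | HopfRep.IsSubcomod (k := k) (A := A) N ∧ Disjoint N U}
  obtain ⟨N, hN⟩ : ∃ N, Maximal (· ∈ S) N := by
    apply zorn_le₀
    intro c hcS hc
    refine ⟨sSup c, ⟨isSubcomod_sSup fun W hW => (hcS hW).1, ?_⟩, fun z hz => le_sSup hz⟩
    rcases c.eq_empty_or_nonempty with rfl | hne
    · simp
    · rw [Submodule.disjoint_def]
      intro x hx hxU
      obtain ⟨W, hWc, hxW⟩ := (Submodule.mem_sSup_of_directed hne hc.directedOn).1 hx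
      exact (Submodule.disjoint_def.1 (hcS hWc).2) x hxW hxU
  have hNsub : HopfRep.IsSubcomod (k := k) (A := A) N := hN.prop.1
  have hNU : Disjoint N U := hN.prop.2
  refine ⟨N, hNsub, ⟨hNU.symm, ?_⟩⟩
  rw [codisjoint_iff_le_sup]
  intro v _
  obtain ⟨W, hWfin, hvW, hW⟩ := exists_finite_subcomod_mem (k := k) (C := A) v
  obtain ⟨W₂, hW₂, hW₂W, hdisj, hle⟩ :=
    exists_compl_in_finite hG W (N ⊔ U) hW (isSubcomod_sup hNsub hU)
  have hmem : N ⊔ W₂ ∈ S := by
    refine ⟨isSubcomod_sup hNsub hW₂, ?_⟩
    rw [Submodule.disjoint_def]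
    intro x hx hxU
    obtain ⟨n, hn, w, hw, rfl⟩ := Submodule.mem_sup.1 hx
    have hw0 : w = 0 := by
      apply Submodule.disjoint_def.1 hdisj w hw
      have : w = (n + w) - n := by abel
      rw [this]
      exact Submodule.sub_mem _ (Submodule.mem_sup_right hxU) (Submodule.mem_sup_left hn)
    rw [hw0, add_zero] at hxU ⊢
    exact Submodule.disjoint_def.1 hNU n hn hxU
  have hW₂N : W₂ ≤ N := le_trans le_sup_right (hN.le_of_ge hmem le_sup_left)
  have hW₂0 : W₂ = ⊥ := by
    rw [eq_bot_iff]
    intro x hx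
    exact (Submodule.mem_bot k).2
      (Submodule.disjoint_def.1 hdisj x hx (Submodule.mem_sup_left (hW₂N hx)))
  rw [hW₂0, sup_bot_eq] at hle
  have := hle hvW
  rwa [sup_comm] at this

end Semisimple

section Reynolds

variable {k : Type u} {A : Type v} [Field k] [CommRing A] [Bialgebra k A]

/-- `E` is a Reynolds operator on the comodule `V`. -/
def IsReynolds {V : Type w} [AddCommGroup V] [Module k V] [HopfRep.Comod k A V]
    (E : V →ₗ[k] V) : Prop :=
  Hoch.IsComodHom A E ∧ E ∘ₗ E = E ∧ ∀ x : V, E x = x ↔ x ∈ HopfRep.fixedPts k A V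

theorem IsReynolds.apply_mem {V : Type w} [AddCommGroup V] [Module k V] [HopfRep.Comod k A V]
    {E : V →ₗ[k] V} (hE : IsReynolds (A := A) E) (x : V) : E x ∈ HopfRep.fixedPts k A V := by
  rw [← hE.2.2]
  exact LinearMap.congr_fun hE.2.1 x

/-- Existence of the Reynolds operator. -/
theorem exists_isReynolds (hG : HopfRep.IsLinearlyReductive k A)
    (V : Type v) [AddCommGroup V] [Module k V] [c : HopfRep.Comod k A V] :
    ∃ E : V →ₗ[k] V, IsReynolds (A := A) E := by
  obtain ⟨N, hN, hc⟩ := isSemisimpleComod hG V (HopfRep.fixedPts k A V) (isSubcomod_fixedPts c)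
  set F := HopfRep.fixedPts k A V with hF
  have hFsub : HopfRep.IsSubcomod (k := k) (A := A) F := isSubcomod_fixedPts c
  let E : V →ₗ[k] V := F.subtype ∘ₗ F.projectionOnto N hc
  have hEF : ∀ x ∈ F, E x = x := by
    intro x hx
    show ((F.projectionOnto N hc x : F) : V) = x
    rw [Submodule.projectionOnto_apply_of_mem_left hc hx]
  have hEN : ∀ x ∈ N, E x = 0 := by
    intro x hx
    show ((F.projectionOnto N hc x : F) : V) = 0
    rw [Submodule.projectionOnto_apply_of_mem_right hc hx]
    rfl
  have hEmem : ∀ x, E x ∈ F := fun x => (F.projectionOnto N hc x).2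
  have hsub : ∀ x, x - E x ∈ N := by
    intro x
    rw [← Submodule.projectionOnto_apply_eq_zero_iff hc, map_sub]
    have : F.projectionOnto N hc (E x) = F.projectionOnto N hc x :=
      Submodule.projectionOnto_apply_left hc (F.projectionOnto N hc x)
    rw [this, sub_self]
  refine ⟨E, ?_, ?_, ?_⟩
  · apply isComodHom_of_act_comm
    intro φ v
    have h1 : act V φ v = act V φ (E v) + act V φ (v - E v) := by
      rw [← map_add]; congr 1; abel
    rw [h1, map_add, hEF _ (act_mem_of_isSubcomod hFsub φ (hEmem v)),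
      hEN _ (act_mem_of_isSubcomod hN φ (hsub v)), add_zero]
  · apply LinearMap.ext
    intro x
    exact hEF _ (hEmem x)
  · intro x
    exact ⟨fun h => h ▸ hEmem x, hEF x⟩

/-- A comodule map into fixed vectors kills every subcomodule without fixed vectors. -/
theorem map_eq_zero_of_disjoint_fixedPts (hG : HopfRep.IsLinearlyReductive k A)
    {V : Type v} [AddCommGroup V] [Module k V] [HopfRep.Comod k A V]
    {T : Type w} [AddCommGroup T] [Module k T] [HopfRep.Comod k A T]
    (f : V →ₗ[k] T) (hf : Hoch.IsComodHom A f) (K : Submodule k V)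
    (hK : HopfRep.IsSubcomod (k := k) (A := A) K) (hKF : Disjoint K (HopfRep.fixedPts k A V))
    (hfix : ∀ x ∈ K, f x ∈ HopfRep.fixedPts k A T) : ∀ x ∈ K, f x = 0 := by
  have hM : HopfRep.IsSubcomod (k := k) (A := A) (K ⊓ LinearMap.ker f) :=
    isSubcomod_inf hK (isSubcomod_ker hf)
  obtain ⟨N, hN, hc⟩ := isSemisimpleComod hG V _ hM
  have hN' : HopfRep.IsSubcomod (k := k) (A := A) (K ⊓ N) := isSubcomod_inf hK hN
  have hzero : ∀ n ∈ K ⊓ N, n = 0 := by
    intro n hn
    have hfixed : n ∈ HopfRep.fixedPts k A V := by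
      rw [mem_fixedPts_iff_act]
      intro φ
      rw [← sub_eq_zero]
      have hd : act V φ n - φ 1 • n ∈ K ⊓ N :=
        Submodule.sub_mem _ (act_mem_of_isSubcomod hN' φ hn) (Submodule.smul_mem _ _ hn)
      have hfd : f (act V φ n - φ 1 • n) = 0 := by
        rw [map_sub, map_smul, ← IsComodHom.act_comm hf,
          (mem_fixedPts_iff_act (f n)).1 (hfix n hn.1) φ, sub_self]
      have : act V φ n - φ 1 • n ∈ (K ⊓ LinearMap.ker f) ⊓ N :=
        ⟨⟨hd.1, LinearMap.mem_ker.2 hfd⟩, hd.2⟩
      rw [hc.inf_eq_bot] at this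
      exact (Submodule.mem_bot k).1 this
    exact Submodule.disjoint_def.1 hKF n hn.1 hfixed
  intro x hx
  have hx' : x ∈ (K ⊓ LinearMap.ker f) ⊔ N := by rw [hc.sup_eq_top]; exact Submodule.mem_top
  obtain ⟨m, hm, n, hn, rfl⟩ := Submodule.mem_sup.1 hx'
  have hnK : n ∈ K := by
    have : n = (m + n) - m := by abel
    rw [this]
    exact Submodule.sub_mem _ hx hm.1
  rw [hzero n ⟨hnK, hn⟩, add_zero]
  exact LinearMap.mem_ker.1 hm.2

/-- Reynolds operators commute with comodule maps. -/
theorem IsReynolds.comp_comm (hG : HopfRep.IsLinearlyReductive k A)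
    {V : Type v} [AddCommGroup V] [Module k V] [HopfRep.Comod k A V]
    {W : Type w} [AddCommGroup W] [Module k W] [HopfRep.Comod k A W]
    {E : V →ₗ[k] V} (hE : IsReynolds (A := A) E) {E' : W →ₗ[k] W} (hE' : IsReynolds (A := A) E')
    {u : V →ₗ[k] W} (hu : Hoch.IsComodHom A u) : E' ∘ₗ u = u ∘ₗ E := by
  have hKF : Disjoint (LinearMap.ker E) (HopfRep.fixedPts k A V) := by
    rw [Submodule.disjoint_def]
    intro y hy hyF
    rw [← (hE.2.2 y).2 hyF]
    exact LinearMap.mem_ker.1 hy
  have hvan := map_eq_zero_of_disjoint_fixedPts hG (E' ∘ₗ u) (isComodHom_comp' hu hE'.1)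
    (LinearMap.ker E) (isSubcomod_ker hE.1) hKF (fun x _ => hE'.apply_mem (u x))
  apply LinearMap.ext
  intro x
  have hx : x - E x ∈ LinearMap.ker E := by
    rw [LinearMap.mem_ker, map_sub]
    have : E (E x) = E x := LinearMap.congr_fun hE.2.1 x
    rw [this, sub_self]
  have h0 := hvan _ hx
  simp only [LinearMap.coe_comp, Function.comp_apply, map_sub] at h0 ⊢
  rw [sub_eq_zero] at h0
  rw [h0]
  exact (hE'.2.2 _).2 (map_mem_fixedPts hu (hE.apply_mem x))

/-- Uniqueness of the Reynolds operator. -/
theorem IsReynolds.unique (hG : HopfRep.IsLinearlyReductive k A)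
    {V : Type v} [AddCommGroup V] [Module k V] [HopfRep.Comod k A V]
    {E E' : V →ₗ[k] V} (hE : IsReynolds (A := A) E) (hE' : IsReynolds (A := A) E') : E = E' := by
  have := IsReynolds.comp_comm hG hE hE' (u := LinearMap.id) isComodHom_id
  simpa using this.symm

/-- A Reynolds operator preserves every subcomodule. -/
theorem IsReynolds.apply_mem_of_isSubcomod (hG : HopfRep.IsLinearlyReductive k A)
    {V : Type v} [AddCommGroup V] [Module k V] [c : HopfRep.Comod k A V]
    {E : V →ₗ[k] V} (hE : IsReynolds (A := A) E) {U : Submodule k V}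
    (hU : HopfRep.IsSubcomod (k := k) (A := A) U) {x : V} (hx : x ∈ U) : E x ∈ U := by
  obtain ⟨EU, hEU⟩ := @exists_isReynolds k A _ _ _ hG U _ _ (ComodSub.Comod.restr c U hU)
  have := @IsReynolds.comp_comm k A _ _ _ hG U _ _ (ComodSub.Comod.restr c U hU) V _ _ c EU hEU E hE
    U.subtype (ComodSub.isComodHom_subtype c U hU)
  have h := LinearMap.congr_fun this ⟨x, hx⟩
  simp only [LinearMap.coe_comp, Function.comp_apply, Submodule.subtype_apply] at h
  rw [h]
  exact (EU ⟨x, hx⟩).2

/-- Surjective comodule maps are surjective on invariants. -/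
theorem exists_fixedPts_map_eq (hG : HopfRep.IsLinearlyReductive k A)
    {V : Type v} [AddCommGroup V] [Module k V] [HopfRep.Comod k A V]
    {W : Type v} [AddCommGroup W] [Module k W] [HopfRep.Comod k A W]
    (φ : V →ₗ[k] W) (hφ : Hoch.IsComodHom A φ) (hsurj : Function.Surjective φ)
    (w : W) (hw : w ∈ HopfRep.fixedPts k A W) :
    ∃ v ∈ HopfRep.fixedPts k A V, φ v = w := by
  obtain ⟨E, hE⟩ := exists_isReynolds hG V
  obtain ⟨E', hE'⟩ := exists_isReynolds hG W
  obtain ⟨v, rfl⟩ := hsurj w
  refine ⟨E v, hE.apply_mem v, ?_⟩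
  have h := LinearMap.congr_fun (IsReynolds.comp_comm hG hE hE' hφ) v
  simp only [LinearMap.coe_comp, Function.comp_apply] at h
  rw [← h]
  exact (hE'.2.2 _).2 hw

end Reynolds

section Algebra

variable {k : Type u} {A : Type v} [Field k] [CommRing A] [Bialgebra k A]
  {R : Type v} [CommRing R] [Algebra k R] [HopfRep.Comod k A R] [GLin.IsCoactAlg k A R]

/-- Multiplication by an invariant element is a comodule map. -/
theorem isComodHom_mulRight_of_mem_invariants {y : R} (hy : y ∈ GLin.invariants k A R) :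
    Hoch.IsComodHom A (LinearMap.mulRight k y) := by
  apply LinearMap.ext
  intro x
  simp only [LinearMap.coe_comp, Function.comp_apply, LinearMap.mulRight_apply]
  rw [GLin.IsCoactAlg.coact_mul, (GLin.mem_invariants_iff k A R y).1 hy]
  generalize HopfRep.Comod.coact (k := k) (A := A) x = t
  induction t using TensorProduct.induction_on with
  | zero => simp
  | add a b ha hb => rw [add_mul, map_add, ha, hb]
  | tmul a b => simp [Algebra.TensorProduct.tmul_mul_tmul]

/-- The Reynolds operator is linear over the invariants. -/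
theorem IsReynolds.map_mul_invariant (hG : HopfRep.IsLinearlyReductive k A)
    {E : R →ₗ[k] R} (hE : IsReynolds (A := A) E) (x y : R) (hy : y ∈ GLin.invariants k A R) :
    E (x * y) = E x * y := by
  have h := LinearMap.congr_fun
    (IsReynolds.comp_comm hG hE hE (isComodHom_mulRight_of_mem_invariants hy)) x
  simpa using h

end Algebra

end Groth.Agent.Lib.Reynolds38
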