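import Groth.Agent.Lib.H86Coprod
import Mathlib.AlgebraicGeometry.Morphisms.Flat
import Mathlib.AlgebraicGeometry.ResidueField

/-!
# helper86: free group actions give étale equivalence relations
-/

set_option autoImplicit false
set_option linter.style.haveILetI false
universe u
open CategoryTheory CategoryTheory.Limits AlgebraicGeometry Opposite

namespace Groth.Agent.Lib.H86FreeAction
open AlgSp

variable {S : Scheme.{u}}

section Cofan

variable {G : Type u} {U : Over S} (c : Cofan (fun _ : G => U)) (hc : IsColimit c)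

include hc in
/-- The components of a coproduct of copies of `U` in `Over S`: open immersions, jointly surjective,
pairwise disjoint. -/
theorem cofan_left_facts :
    (∀ g, IsOpenImmersion (c.inj g).left) ∧
      (∀ r : ↥c.pt.left, ∃ g, r ∈ Set.range (c.inj g).left) ∧
        ∀ g h (u u' : ↥U.left), (c.inj g).left u = (c.inj h).left u' → g = h := by
  have hc₁ : IsColimit (Cofan.mk c.pt c.inj) :=
    IsColimit.ofIsoColimit hc (Cofan.ext (Iso.refl _) (fun g => by simp))
  have hc' : IsColimit (Cofan.mk c.pt.left (fun g => (c.inj g).left) :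
      Cofan (fun _ : G => U.left)) :=
    isColimitCofanMkObjOfIsColimit (Over.forget S) _ _ hc₁
  let f : G → Scheme.{u} := fun _ => U.left
  let e : c.pt.left ≅ ∐ f := hc'.coconePointUniqueUpToIso (coproductIsCoproduct f)
  have he : ∀ g, (c.inj g).left ≫ e.hom = Sigma.ι f g := fun g =>
    hc'.comp_coconePointUniqueUpToIso_hom (coproductIsCoproduct f) ⟨g⟩
  have he' : ∀ g, (c.inj g).left = Sigma.ι f g ≫ e.inv := fun g => by
    rw [← he g, Category.assoc, e.hom_inv_id, Category.comp_id]
  refine ⟨fun g => ?_, fun r => ?_, fun g h u u' huu' => ?_⟩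
  · rw [he' g]
    infer_instance
  · obtain ⟨g₀, u₀, hu₀⟩ := (sigmaOpenCover f).exists_eq (e.hom r)
    obtain ⟨g, u, hu⟩ : ∃ (g : G) (u : ↥U.left), (Sigma.ι f g) u = e.hom r := ⟨g₀, u₀, hu₀⟩
    refine ⟨g, u, ?_⟩
    have h1 : (c.inj g).left u = e.inv ((Sigma.ι f g) u) := by
      rw [he' g]
      rfl
    rw [h1, hu, ← Scheme.Hom.comp_apply, e.hom_inv_id]
    rfl
  · have h1 : (Sigma.ι f g) u = (Sigma.ι f h) u' := by
      rw [← he g, ← he h, Scheme.Hom.comp_apply, Scheme.Hom.comp_apply, huu']
    have h2 := (sigmaι_eq_iff f g h u u').1 h1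
    exact congrArg Sigma.fst h2

set_option backward.isDefEq.respectTransparency false in
theorem isZariskiLocalAtSource_etale : IsZariskiLocalAtSource @Etale := inferInstance

include hc in
/-- Étaleness of a morphism out of the coproduct is checked on the components. -/
theorem etale_left_of_forall_inj {R' : Over S} (q : c.pt ⟶ R')
    (hq : ∀ g, Etale (c.inj g ≫ q).left) : Etale q.left := by
  obtain ⟨hopen, hcov, -⟩ := cofan_left_facts c hc
  let 𝒰 : c.pt.left.OpenCover := Scheme.Cover.mkOfCovers G (fun _ => U.left)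
    (fun g => (c.inj g).left) (fun r => by obtain ⟨g, u, hu⟩ := hcov r; exact ⟨g, u, hu⟩) hopen
  have hloc := isZariskiLocalAtSource_etale
  refine (IsZariskiLocalAtSource.iff_of_openCover (P := @Etale) 𝒰).2 ?_
  intro (g : G)
  exact hq g

end Cofan

section ResidueField

/-- If two endomorphisms agree on a field-valued point, they agree on the residue field point below. -/
theorem exists_fromSpecResidueField_comp_eq {X Y : Scheme.{u}} {K : Type u} [Field K]
    (b : Spec (.of K) ⟶ X) (α β : X ⟶ Y) (h : b ≫ α = b ≫ β) :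
    ∃ x : ↥X, X.fromSpecResidueField x ≫ α = X.fromSpecResidueField x ≫ β := by
  have hb := (Scheme.SpecToEquivOfField K X).left_inv b
  set xf := Scheme.SpecToEquivOfField K X b with hxf
  have hb' : Spec.map xf.2 ≫ X.fromSpecResidueField xf.1 = b := hb
  refine ⟨xf.1, ?_⟩
  haveI : Flat (Spec.map xf.2) := by
    rw [HasRingHomProperty.Spec_iff (P := @Flat)]
    algebraize [xf.2.hom]
    change Module.Flat _ _
    infer_instance
  haveI : Surjective (Spec.map xf.2) := by
    refine ⟨fun p => ⟨IsLocalRing.closedPoint K, Subsingleton.elim _ _⟩⟩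
  haveI : Epi (Spec.map xf.2) := Flat.epi_of_flat_of_surjective _
  rw [← cancel_epi (Spec.map xf.2), ← Category.assoc, ← Category.assoc, hb', h]

end ResidueField

section Pieces

variable {G : Type u} {U : Over S} (c : Cofan (fun _ : G => U))
  [hopen : ∀ g, IsOpenImmersion (c.inj g).left] {T : Over S} (r : T ⟶ c.pt) (g : G)

/-- The open subset of `T` mapped by `r` into the `g`-th component. -/
noncomputable def pieceOpen : T.left.Opens := r.left ⁻¹ᵁ (c.inj g).left.opensRange

/-- The open subscheme of `T` mapped by `r` into the `g`-th component, over `S`. -/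
noncomputable def piece : Over S := Over.mk ((pieceOpen c r g).ι ≫ T.hom)

/-- Its inclusion. -/
noncomputable def pieceι : piece c r g ⟶ T := Over.homMk (pieceOpen c r g).ι rfl

instance : IsOpenImmersion (pieceι c r g).left :=
  inferInstanceAs (IsOpenImmersion (pieceOpen c r g).ι)

theorem range_pieceι : Set.range (pieceι c r g).left = r.left ⁻¹' Set.range (c.inj g).left := by
  change Set.range (pieceOpen c r g).ι = _
  rw [Scheme.Opens.range_ι]
  rfl

/-- The restriction of `r` to the piece, as a map of schemes to `U`. -/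
noncomputable def pieceLiftLeft : (pieceOpen c r g : Scheme.{u}) ⟶ U.left :=
  IsOpenImmersion.lift (c.inj g).left ((pieceOpen c r g).ι ≫ r.left) (by
    rintro _ ⟨y, rfl⟩
    exact y.2)

theorem pieceLiftLeft_fac :
    pieceLiftLeft c r g ≫ (c.inj g).left = (pieceOpen c r g).ι ≫ r.left :=
  IsOpenImmersion.lift_fac _ _ _

theorem pieceLiftLeft_w : pieceLiftLeft c r g ≫ U.hom = (pieceOpen c r g).ι ≫ T.hom := by
  have h1 : (c.inj g).left ≫ c.pt.hom = U.hom := Over.w (c.inj g)
  rw [← h1, ← Category.assoc, pieceLiftLeft_fac, Category.assoc, Over.w r]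

/-- The restriction of `r` to the piece, as a map to `U` over `S`. -/
noncomputable def pieceLift : piece c r g ⟶ U :=
  Over.homMk (pieceLiftLeft c r g) (pieceLiftLeft_w c r g)

theorem pieceLift_inj : pieceLift c r g ≫ c.inj g = pieceι c r g ≫ r := by
  ext
  exact pieceLiftLeft_fac c r g

end Pieces

section PiecesCover

variable {G : Type u} {U : Over S} (c : Cofan (fun _ : G => U))
  [hopen : ∀ g, IsOpenImmersion (c.inj g).left]
  (hcov : ∀ x : ↥c.pt.left, ∃ g, x ∈ Set.range (c.inj g).left)
  (hdisj : ∀ g h (u u' : ↥U.left), (c.inj g).left u = (c.inj h).left u' → g = h)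
  {T : Over S} (r : T ⟶ c.pt)

include hcov in
theorem exists_mem_range_pieceι (y : ↥T.left) : ∃ g, y ∈ Set.range (pieceι c r g).left := by
  obtain ⟨g, hg⟩ := hcov (r.left y)
  exact ⟨g, by rw [range_pieceι]; exact hg⟩

include hcov in
/-- Morphisms out of `T` are determined by their restrictions to the pieces. -/
theorem hom_ext_pieces {R' : Over S} (a b : T ⟶ R')
    (h : ∀ g, pieceι c r g ≫ a = pieceι c r g ≫ b) : a = b := by
  obtain ⟨e, -, huniq⟩ := Groth.Agent.Lib.H86Coprod.existsUnique_glue (fun g => piece c r g)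
    (fun g => pieceι c r g) (fun g => inferInstance) (exists_mem_range_pieceι c hcov r)
    ((yon S).obj R') (fun g => (yon S).map (pieceι c r g ≫ a)) (by
      intro i k Z a' b' hab
      rw [← Functor.map_comp, ← Functor.map_comp, ← Category.assoc, ← Category.assoc, hab])
  have h1 := huniq ((yon S).map a) (fun g => (Functor.map_comp _ _ _).symm)
  have h2 := huniq ((yon S).map b) (fun g => by rw [← Functor.map_comp, ← h g])
  exact (yon S).map_injective (h1.trans h2.symm)

include hcov hdisj in
/-- Morphisms out of `T` can be glued from arbitrary morphisms on the (pairwise disjoint) pieces. -/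
theorem exists_glue_pieces {R' : Over S} (x : ∀ g, piece c r g ⟶ R') :
    ∃ e : T ⟶ R', ∀ g, pieceι c r g ≫ e = x g := by
  obtain ⟨e, he, -⟩ := Groth.Agent.Lib.H86Coprod.existsUnique_glue (fun g => piece c r g)
    (fun g => pieceι c r g) (fun g => inferInstance) (exists_mem_range_pieceι c hcov r)
    ((yon S).obj R') (fun g => (yon S).map (x g)) (by
      intro i k Z a' b' hab
      by_cases hik : i = k
      · subst hik
        haveI : Mono (pieceι c r i) := Over.mono_of_mono_left _
        rw [(cancel_mono (pieceι c r i)).1 hab]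
      · haveI : IsEmpty ↥Z.left := by
          constructor
          intro z
          apply hik
          have h1 : (a' ≫ pieceι c r i).left z ∈ Set.range (pieceι c r i).left :=
            ⟨a'.left z, rfl⟩
          have h2 : (a' ≫ pieceι c r i).left z ∈ Set.range (pieceι c r k).left := by
            rw [hab]
            exact ⟨b'.left z, rfl⟩
          rw [range_pieceι] at h1 h2
          obtain ⟨u, hu⟩ := h1
          obtain ⟨u', hu'⟩ := h2
          exact hdisj i k u u' (hu.trans hu'.symm)
        exact Groth.Agent.Lib.H86Coprod.hom_ext_of_isEmpty _ _)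
  obtain ⟨e', rfl⟩ := (yon S).map_surjective e
  refine ⟨e', fun g => (yon S).map_injective ?_⟩
  rw [Functor.map_comp]
  exact he g

end PiecesCover

section Action

variable {G : Type u} [Group G] {U : Over S} (ρ : G →* Aut U)

theorem rho_one_hom : (ρ 1).hom = 𝟙 U := by rw [map_one]; rfl

theorem rho_mul_hom (g h : G) : (ρ (g * h)).hom = (ρ h).hom ≫ (ρ g).hom := by rw [map_mul]; rfl

theorem rho_inv_hom (g : G) : (ρ g⁻¹).hom = (ρ g).inv := by rw [map_inv]; rfl

/-- A morphism into the coproduct landing in one component is determined by its composite with a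
retraction of that component. -/
theorem eq_of_comp_retraction_eq {Z X Y : Scheme.{u}} (j : X ⟶ Y) [IsOpenImmersion j] (p : Y ⟶ X)
    (hjp : j ≫ p = 𝟙 X) (m₁ m₂ : Z ⟶ Y) (H₁ : Set.range m₁ ⊆ Set.range j)
    (H₂ : Set.range m₂ ⊆ Set.range j) (h : m₁ ≫ p = m₂ ≫ p) : m₁ = m₂ := by
  have f₁ := IsOpenImmersion.lift_fac j m₁ H₁
  have f₂ := IsOpenImmersion.lift_fac j m₂ H₂
  have l₁ : IsOpenImmersion.lift j m₁ H₁ = m₁ ≫ p := by
    have := congrArg (· ≫ p) f₁
    rwa [Category.assoc, hjp, Category.comp_id] at this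
  have l₂ : IsOpenImmersion.lift j m₂ H₂ = m₂ ≫ p := by
    have := congrArg (· ≫ p) f₂
    rwa [Category.assoc, hjp, Category.comp_id] at this
  have e₁ : m₁ = (m₁ ≫ p) ≫ j := by rw [← l₁, f₁]
  have e₂ : m₂ = (m₂ ≫ p) ≫ j := by rw [← l₂, f₂]
  rw [e₁, e₂, h]

variable (hfree : ∀ (g : G) (x : U.left), g ≠ 1 →
      U.left.fromSpecResidueField x ≫ (ρ g).hom.left ≠ U.left.fromSpecResidueField x)
  (c : Cofan (fun _ : G => U)) (hc : IsColimit c) (s t : c.pt ⟶ U)
  (hs : ∀ g, c.inj g ≫ s = 𝟙 U) (ht : ∀ g, c.inj g ≫ t = (ρ g).hom)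

include hfree hs ht in
/-- Two `T`-points of `R` with the same source and target lie, at every point, in the same component. -/
theorem component_eq [hopen : ∀ g, IsOpenImmersion (c.inj g).left] {T : Over S} (r r' : T ⟶ c.pt)
    (hrt : r ≫ t = r' ≫ t) (hrs : r ≫ s = r' ≫ s) (y : ↥T.left) (g h : G)
    (hg : r.left y ∈ Set.range (c.inj g).left) (hh : r'.left y ∈ Set.range (c.inj h).left) :
    g = h := by
  let σ := T.left.fromSpecResidueField y
  have hσ : ∀ p, σ p = y := fun p => Scheme.fromSpecResidueField_apply y p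
  have H : Set.range (σ ≫ r.left) ⊆ Set.range (c.inj g).left := by
    rintro _ ⟨p, rfl⟩
    rw [Scheme.Hom.comp_apply, hσ]
    exact hg
  have H' : Set.range (σ ≫ r'.left) ⊆ Set.range (c.inj h).left := by
    rintro _ ⟨p, rfl⟩
    rw [Scheme.Hom.comp_apply, hσ]
    exact hh
  let b := IsOpenImmersion.lift (c.inj g).left (σ ≫ r.left) H
  let b' := IsOpenImmersion.lift (c.inj h).left (σ ≫ r'.left) H'
  have hb : b ≫ (c.inj g).left = σ ≫ r.left := IsOpenImmersion.lift_fac _ _ _
  have hb' : b' ≫ (c.inj h).left = σ ≫ r'.left := IsOpenImmersion.lift_fac _ _ _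
  have hsl : ∀ k, (c.inj k).left ≫ s.left = 𝟙 U.left := fun k =>
    congrArg (fun m => m.left) (hs k)
  have htl : ∀ k, (c.inj k).left ≫ t.left = (ρ k).hom.left := fun k =>
    congrArg (fun m => m.left) (ht k)
  have hrsl : r.left ≫ s.left = r'.left ≫ s.left := congrArg (fun m => m.left) hrs
  have hrtl : r.left ≫ t.left = r'.left ≫ t.left := congrArg (fun m => m.left) hrt
  have e1 : b = σ ≫ r.left ≫ s.left := by
    rw [← Category.assoc, ← hb, Category.assoc, hsl, Category.comp_id]
  have e2 : b' = σ ≫ r'.left ≫ s.left := by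
    rw [← Category.assoc, ← hb', Category.assoc, hsl, Category.comp_id]
  have e3 : b = b' := by rw [e1, e2, hrsl]
  have e4 : b ≫ (ρ g).hom.left = b ≫ (ρ h).hom.left := by
    conv_rhs => rw [e3]
    rw [← htl g, ← htl h, ← Category.assoc, ← Category.assoc, hb, hb', Category.assoc,
      Category.assoc, hrtl]
  obtain ⟨x, hx⟩ := exists_fromSpecResidueField_comp_eq (K := T.left.residueField y) b
    (ρ g).hom.left (ρ h).hom.left e4
  by_contra hne
  have hk : h⁻¹ * g ≠ 1 := fun hk => hne (by
    have := congrArg (fun z => h * z) hk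
    simpa using this)
  refine hfree (h⁻¹ * g) x hk ?_
  have e5 : (ρ (h⁻¹ * g)).hom.left = (ρ g).hom.left ≫ (ρ h).inv.left := by
    rw [rho_mul_hom, rho_inv_hom]
    rfl
  rw [e5, ← Category.assoc, hx, Category.assoc]
  have e6 : (ρ h).hom.left ≫ (ρ h).inv.left = 𝟙 U.left :=
    congrArg (fun m => m.left) (ρ h).hom_inv_id
  rw [e6, Category.comp_id]

include hfree hc hs ht in
/-- A free action by automorphisms gives an étale equivalence relation `∐_G U ⇉ U`. -/
theorem isEtaleEqvRel_of_free : IsEtaleEqvRel s t := by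
  obtain ⟨hopen, hcov, hdisj⟩ := cofan_left_facts c hc
  haveI := hopen
  have hsl : ∀ k, (c.inj k).left ≫ s.left = 𝟙 U.left := fun k =>
    congrArg (fun m => m.left) (hs k)
  -- the inversion and the translations of `R`
  let inv : c.pt ⟶ c.pt := Cofan.IsColimit.desc hc (fun g => (ρ g).hom ≫ c.inj g⁻¹)
  have hinv : ∀ g, c.inj g ≫ inv = (ρ g).hom ≫ c.inj g⁻¹ := fun g =>
    Cofan.IsColimit.fac hc _ g
  have hinv_s : inv ≫ s = t := by
    refine Cofan.IsColimit.hom_ext hc _ _ fun g => ?_
    rw [← Category.assoc, hinv, Category.assoc, hs, Category.comp_id, ht]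
  have hinv_t : inv ≫ t = s := by
    refine Cofan.IsColimit.hom_ext hc _ _ fun g => ?_
    rw [← Category.assoc, hinv, Category.assoc, ht, hs, ← rho_mul_hom, inv_mul_cancel, rho_one_hom]
  let mu : G → (c.pt ⟶ c.pt) := fun g => Cofan.IsColimit.desc hc (fun h => c.inj (g * h))
  have hmu : ∀ g h, c.inj h ≫ mu g = c.inj (g * h) := fun g h => Cofan.IsColimit.fac hc _ h
  have hmu_s : ∀ g, mu g ≫ s = s := by
    intro g
    refine Cofan.IsColimit.hom_ext hc _ _ fun h => ?_
    rw [← Category.assoc, hmu, hs, hs]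
  have hmu_t : ∀ g, mu g ≫ t = t ≫ (ρ g).hom := by
    intro g
    refine Cofan.IsColimit.hom_ext hc _ _ fun h => ?_
    rw [← Category.assoc, hmu, ht, ← Category.assoc, ht, rho_mul_hom]
  refine ⟨⟨?_, ?_⟩, ?_, ?_⟩
  · -- injectivity
    intro T r r' hrt hrs
    refine hom_ext_pieces c hcov r r r' fun g => ?_
    ext
    refine eq_of_comp_retraction_eq (c.inj g).left s.left (hsl g) _ _ ?_ ?_ ?_
    · rintro _ ⟨z, rfl⟩
      have hz : (pieceι c r g).left z ∈ Set.range (pieceι c r g).left := ⟨z, rfl⟩
      rw [range_pieceι] at hz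
      exact hz
    · rintro _ ⟨z, rfl⟩
      have hz : (pieceι c r g).left z ∈ Set.range (pieceι c r g).left := ⟨z, rfl⟩
      rw [range_pieceι] at hz
      obtain ⟨h, hh⟩ := hcov (r'.left ((pieceι c r g).left z))
      have hgh := component_eq ρ hfree c s t hs ht r r' hrt hrs _ g h hz hh
      subst hgh
      exact hh
    · change (pieceι c r g ≫ r ≫ s).left = (pieceι c r g ≫ r' ≫ s).left
      rw [hrs]
  · -- equivalence
    intro T
    refine ⟨fun a => ?_, ?_, ?_⟩
    · exact ⟨a ≫ c.inj 1, by rw [Category.assoc, ht, rho_one_hom, Category.comp_id],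
        by rw [Category.assoc, hs, Category.comp_id]⟩
    · rintro a b ⟨r, hrt, hrs⟩
      exact ⟨r ≫ inv, by rw [Category.assoc, hinv_t, hrs], by rw [Category.assoc, hinv_s, hrt]⟩
    · rintro a b d ⟨r₁, hr₁t, hr₁s⟩ ⟨r₂, hr₂t, hr₂s⟩
      obtain ⟨r₃, hr₃⟩ := exists_glue_pieces c hcov hdisj r₁
        (fun g => pieceι c r₁ g ≫ r₂ ≫ mu g)
      have hb : ∀ g, pieceι c r₁ g ≫ b = pieceLift c r₁ g := fun g => by
        rw [← hr₁s, ← Category.assoc, ← pieceLift_inj, Category.assoc, hs, Category.comp_id]
      have ha : ∀ g, pieceι c r₁ g ≫ a = pieceLift c r₁ g ≫ (ρ g).hom := fun g => by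
        rw [← hr₁t, ← Category.assoc, ← pieceLift_inj, Category.assoc, ht]
      refine ⟨r₃, ?_, ?_⟩
      · refine hom_ext_pieces c hcov r₁ _ _ fun g => ?_
        rw [← Category.assoc, hr₃, Category.assoc, Category.assoc, hmu_t, ← Category.assoc r₂,
          hr₂t, ← Category.assoc, hb, ha]
      · refine hom_ext_pieces c hcov r₁ _ _ fun g => ?_
        rw [← Category.assoc, hr₃, Category.assoc, Category.assoc, hmu_s, hr₂s]
  · refine etale_left_of_forall_inj c hc s fun g => ?_
    rw [hs g]
    change Etale (𝟙 U.left)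
    infer_instance
  · refine etale_left_of_forall_inj c hc t fun g => ?_
    rw [ht g]
    haveI : IsIso (ρ g).hom.left :=
      ⟨(ρ g).inv.left, by rw [← Over.comp_left, (ρ g).hom_inv_id]; rfl,
        by rw [← Over.comp_left, (ρ g).inv_hom_id]; rfl⟩
    infer_instance

end Action

end Groth.Agent.Lib.H86FreeAction
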