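import Groth.Agent.Lib.EtEqvRelQuot46
import Groth.Agent.Lib.H86FreeAction
import Groth.Agent.Lib.AlgSpSrcCover

/-!
# Separation of the quotient of a scheme by a free action of a finite group (helper46)
-/

set_option autoImplicit false
universe u

namespace Groth.Agent.Lib.FreeQuotSep46

open CategoryTheory CategoryTheory.Limits AlgebraicGeometry Opposite AlgSp
open Groth.Agent.Lib.H69AlgSp Groth.Agent.Lib.H69QuotPres Groth.Agent.Lib.EtEqvRelQuot46

/-- A morphism is quasi-compact if its restrictions to a finite jointly surjective family are. -/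
theorem quasiCompact_of_finite_family {ι : Type*} [Finite ι] {R Y : Scheme.{u}} (j : R ⟶ Y)
    (W : ι → Scheme.{u}) (k : ∀ i, W i ⟶ R) (hsurj : ∀ x : R, ∃ i, ∃ y : W i, k i y = x)
    (h : ∀ i, QuasiCompact (k i ≫ j)) : QuasiCompact j := by
  constructor
  intro V hV hVc
  have e : j ⁻¹' V = ⋃ i, k i '' ((k i ≫ j) ⁻¹' V) := by
    ext x
    simp only [Set.mem_preimage, Set.mem_iUnion, Set.mem_image]
    constructor
    · intro hx
      obtain ⟨i, y, rfl⟩ := hsurj x
      exact ⟨i, y, by simpa using hx, rfl⟩
    · rintro ⟨i, y, hy, rfl⟩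
      simpa using hy
  rw [e]
  exact isCompact_iUnion fun i => ((h i).isCompact_preimage V hV hVc).image (k i).continuous

/-- An injective morphism is a closed immersion if its restrictions to a finite jointly surjective family of open
immersions are. -/
theorem isClosedImmersion_of_finite_family {ι : Type u} [Finite ι] {R Y : Scheme.{u}} (j : R ⟶ Y)
    (hinj : Function.Injective j) (W : ι → Scheme.{u}) (k : ∀ i, W i ⟶ R) [∀ i, IsOpenImmersion (k i)]
    (hsurj : ∀ x : R, ∃ i, ∃ y : W i, k i y = x) (h : ∀ i, IsClosedImmersion (k i ≫ j)) :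
    IsClosedImmersion j := by
  have hst : SurjectiveOnStalks j :=
    Groth.Agent.Lib.AlgSpSrcCover.of_family (P := @SurjectiveOnStalks) (Q := @IsOpenImmersion) W k
      (fun i => inferInstance) hsurj j (fun i => inferInstance)
  have hcl : IsClosedMap j := by
    intro C hC
    have e : j '' C = ⋃ i, (k i ≫ j) '' ((k i) ⁻¹' C) := by
      ext x
      simp only [Set.mem_image, Set.mem_iUnion, Set.mem_preimage]
      constructor
      · rintro ⟨r, hr, rfl⟩
        obtain ⟨i, y, rfl⟩ := hsurj r
        exact ⟨i, y, hr, by simp⟩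
      · rintro ⟨i, y, hy, rfl⟩
        exact ⟨k i y, hy, by simp⟩
    rw [e]
    exact isClosed_iUnion_of_finite fun i =>
      (Scheme.Hom.isClosedEmbedding (k i ≫ j)).isClosedMap _ (hC.preimage (k i).continuous)
  have hce : Topology.IsClosedEmbedding j :=
    Topology.IsClosedEmbedding.of_continuous_injective_isClosedMap j.continuous hinj hcl
  haveI : IsPreimmersion j := { toSurjectiveOnStalks := hst, isEmbedding := hce.isEmbedding }
  exact IsClosedImmersion.of_isPreimmersion j hce.isClosed_range

variable {S : Scheme.{u}}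

/-- The graph of an automorphism of `U` over `S` has every iso-invariant property of the diagonal of `U ⟶ S`. -/
theorem graph_left_of_diagonal (P : MorphismProperty Scheme.{u}) [P.RespectsIso] {U : Over S} (φ : U ≅ U)
    (hP : P (pullback.diagonal U.hom)) : P (prod.lift φ.hom (𝟙 U)).left := by
  have e1 : prod.lift φ.hom (𝟙 U) = Limits.diag U ≫ prod.map φ.hom (𝟙 U) := by
    apply Limits.prod.hom_ext
    · rw [prod.lift_fst, Category.assoc, prod.map_fst, ← Category.assoc, Limits.diag, prod.lift_fst,
        Category.id_comp]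
    · rw [prod.lift_snd, Category.assoc, prod.map_snd, ← Category.assoc, Limits.diag, prod.lift_snd,
        Category.id_comp]
  have e2 : (Limits.diag U).left = pullback.diagonal U.hom ≫ (Over.prodLeftIsoPullback U U).inv := by
    rw [← diag_left_comp_prodLeftIsoPullback U, Category.assoc, Iso.hom_inv_id, Category.comp_id]
  rw [e1, Over.comp_left, e2, Category.assoc]
  haveI : IsIso (prod.map φ.hom (𝟙 U)) := inferInstance
  haveI : IsIso (prod.map φ.hom (𝟙 U)).left :=
    (inferInstance : IsIso ((Over.forget S).map (prod.map φ.hom (𝟙 U))))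
  exact (P.cancel_right_of_respectsIso _ _).2 hP

/-- **Quotients by free actions of finite groups.**  The quotient sheaf `U/G` is quasi-separated (resp. separated) over
`S` when `U ⟶ S` is. -/
theorem separation_quot_of_free (U : Over S) (G : Type u) [Group G] [Finite G] (ρ : G →* Aut U)
    (hfree : ∀ (g : G) (x : U.left), g ≠ 1 →
      U.left.fromSpecResidueField x ≫ (ρ g).hom.left ≠ U.left.fromSpecResidueField x)
    (c : Cofan (fun _ : G => U)) (hc : IsColimit c) (s t : c.pt ⟶ U)
    (hs : ∀ g, c.inj g ≫ s = 𝟙 U) (ht : ∀ g, c.inj g ≫ t = (ρ g).hom) :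
    (QuasiSeparated U.hom → IsQuasiSeparatedSp (QuotSh.quot Scheme.fppfPrecoverage s t)) ∧
      (IsSeparated U.hom → IsSeparatedSp (QuotSh.quot Scheme.fppfPrecoverage s t)) := by
  have hER : IsEtaleEqvRel s t :=
    Groth.Agent.Lib.H86FreeAction.isEtaleEqvRel_of_free ρ hfree c hc s t hs ht
  have ker := isPullback_quotMap hER.toIsEqvRel
  obtain ⟨hQ, hpe, hps⟩ := isAlgSpace_of_kernelPair (quotMap s t) ker hER
  obtain ⟨hopen, hcov, -⟩ := Groth.Agent.Lib.H86FreeAction.cofan_left_facts c hc
  haveI := hopen
  have hcomp : ∀ g, (c.inj g).left ≫ (prod.lift t s).left = (prod.lift (ρ g).hom (𝟙 U)).left :=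
    fun g => by rw [← Over.comp_left, prod.comp_lift, ht, hs]
  have hsurjc : ∀ x : c.pt.left, ∃ g, ∃ y : U.left, (c.inj g).left y = x := fun x => by
    obtain ⟨g, y, hy⟩ := hcov x
    exact ⟨g, y, hy⟩
  constructor
  · intro hqs
    rw [IsQuasiSeparatedSp, repWith_diag_iff_of_atlas hQ.diag (quotMap s t) hpe hps t s ker @QuasiCompact]
    refine quasiCompact_of_finite_family _ (fun _ : G => U.left) (fun g => (c.inj g).left) hsurjc ?_
    intro g
    rw [hcomp g]
    exact graph_left_of_diagonal @QuasiCompact (ρ g) hqs.quasiCompact_diagonal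
  · intro hsep
    rw [IsSeparatedSp, repWith_diag_iff_of_atlas hQ.diag (quotMap s t) hpe hps t s ker @IsClosedImmersion]
    haveI hm : Mono (prod.lift t s) := ⟨fun a b hab => hER.injective _ a b
      (by simpa only [Category.assoc, prod.lift_fst] using hab =≫ prod.fst)
      (by simpa only [Category.assoc, prod.lift_snd] using hab =≫ prod.snd)⟩
    haveI hm' : Mono (prod.lift t s).left := inferInstance
    refine isClosedImmersion_of_finite_family _ (Scheme.Hom.injective _) (fun _ : G => U.left)
      (fun g => (c.inj g).left) hsurjc ?_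
    intro g
    rw [hcomp g]
    exact graph_left_of_diagonal @IsClosedImmersion (ρ g) hsep.isClosedImmersion_diagonal

end Groth.Agent.Lib.FreeQuotSep46
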