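import Mathlib.CategoryTheory.Sites.PreservesSheafification
import Mathlib.CategoryTheory.Sites.LeftExact
import Mathlib.CategoryTheory.Sites.Limits
import Mathlib.CategoryTheory.Sites.Adjunction
import Mathlib.CategoryTheory.Sites.LocallySurjective
import Mathlib.CategoryTheory.Sites.LocallyBijective
import Mathlib.CategoryTheory.Sites.EpiMono
import Mathlib.CategoryTheory.Sites.Abelian
import Mathlib.CategoryTheory.Limits.FunctorCategory.Basic
import Mathlib.Algebra.Category.Grp.Limits
import Mathlib.Algebra.Category.Grp.FilteredColimits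
import Mathlib.Algebra.Category.Grp.Abelian
import Mathlib.Algebra.Category.Grp.EpiMono
import Mathlib.Algebra.Category.Grp.Adjunctions

/-!
# Free abelian sheaves on representables of a small site (helper31)

`Zf J : C ⥤ Sheaf J Ab`, `homEquiv : (Zf U ⟶ G) ≃ G(U)` with naturality in `U` and `G`, additivity;
local lifting of maps `Zf U ⟶ B''` along epimorphisms `B ⟶ B''`.
-/

set_option autoImplicit false

open CategoryTheory CategoryTheory.Limits Opposite

universe u

namespace Groth.Agent.FreeSheaf31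

variable {C : Type u} [SmallCategory C] (J : GrothendieckTopology C)

/-- the free abelian sheaf functor on representables -/
noncomputable abbrev Zf : C ⥤ Sheaf J AddCommGrpCat.{u} :=
  yoneda ⋙ (Functor.whiskeringRight _ _ _).obj AddCommGrpCat.free.{u} ⋙
    presheafToSheaf J AddCommGrpCat.{u}

variable {J}

/-- morphisms out of the free abelian sheaf on `U` are sections over `U` -/
noncomputable def homEquiv (U : C) (G : Sheaf J AddCommGrpCat.{u}) :
    ((Zf J).obj U ⟶ G) ≃ G.obj.obj (op U) :=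
  ((sheafificationAdjunction J AddCommGrpCat.{u}).homEquiv _ _).trans
    (((AddCommGrpCat.adj.{u}.whiskerRight Cᵒᵖ).homEquiv (yoneda.obj U) G.obj).trans yonedaEquiv)

lemma homEquiv_comp (U : C) {G G' : Sheaf J AddCommGrpCat.{u}} (h : (Zf J).obj U ⟶ G)
    (φ : G ⟶ G') :
    homEquiv U G' (h ≫ φ) = φ.hom.app (op U) (homEquiv U G h) := by
  simp only [homEquiv, Equiv.trans_apply]
  rw [Adjunction.homEquiv_naturality_right, Adjunction.homEquiv_naturality_right]
  rw [yonedaEquiv_comp]
  rfl

lemma homEquiv_map {U V : C} (f : V ⟶ U) {G : Sheaf J AddCommGrpCat.{u}}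
    (h : (Zf J).obj U ⟶ G) :
    homEquiv V G ((Zf J).map f ≫ h) = G.obj.map f.op (homEquiv U G h) := by
  simp only [homEquiv, Equiv.trans_apply]
  change yonedaEquiv (((AddCommGrpCat.adj.{u}.whiskerRight Cᵒᵖ).homEquiv (yoneda.obj V) G.obj)
    (((sheafificationAdjunction J AddCommGrpCat.{u}).homEquiv _ _)
      ((presheafToSheaf J AddCommGrpCat.{u}).map
        (Functor.whiskerRight (yoneda.map f) AddCommGrpCat.free.{u}) ≫ h))) = _
  rw [Adjunction.homEquiv_naturality_left]
  have := (AddCommGrpCat.adj.{u}.whiskerRight Cᵒᵖ).homEquiv_naturality_left (yoneda.map f)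
    (((sheafificationAdjunction J AddCommGrpCat.{u}).homEquiv _ _) h)
  erw [this]
  rw [← yonedaEquiv_naturality]
  rfl

/-- the universal section -/
noncomputable def gen (U : C) : ((Zf J).obj U).obj.obj (op U) := homEquiv U _ (𝟙 _)

lemma homEquiv_eq (U : C) {G : Sheaf J AddCommGrpCat.{u}} (h : (Zf J).obj U ⟶ G) :
    homEquiv U G h = h.hom.app (op U) (gen U) := by
  have := homEquiv_comp U (𝟙 ((Zf J).obj U)) h
  rw [Category.id_comp] at this
  exact this

lemma homEquiv_zero (U : C) (G : Sheaf J AddCommGrpCat.{u}) :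
    homEquiv U G 0 = 0 := by
  rw [homEquiv_eq]
  rfl

lemma homEquiv_add (U : C) {G : Sheaf J AddCommGrpCat.{u}} (h h' : (Zf J).obj U ⟶ G) :
    homEquiv U G (h + h') = homEquiv U G h + homEquiv U G h' := by
  rw [homEquiv_eq, homEquiv_eq, homEquiv_eq]
  rfl

lemma eq_zero_of_homEquiv_eq_zero (U : C) {G : Sheaf J AddCommGrpCat.{u}}
    (h : (Zf J).obj U ⟶ G) (hh : homEquiv U G h = 0) : h = 0 := by
  apply (homEquiv U G).injective
  rw [hh, homEquiv_zero]

/-- local lifting along an epimorphism of abelian sheaves -/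
theorem exists_local_lift {B B'' : Sheaf J AddCommGrpCat.{u}} (π : B ⟶ B'') [Epi π] {U : C}
    (t : (Zf J).obj U ⟶ B'') :
    ∃ S ∈ J U, ∀ ⦃V : C⦄ (f : V ⟶ U), S.arrows f →
      ∃ b : (Zf J).obj V ⟶ B, b ≫ π = (Zf J).map f ≫ t := by
  have hπ : Sheaf.IsLocallySurjective π := (Sheaf.isLocallySurjective_iff_epi' AddCommGrpCat.{u} π).2 inferInstance
  refine ⟨_, Presheaf.imageSieve_mem J π.hom (homEquiv U B'' t), ?_⟩
  intro V f hf
  obtain ⟨x, hx⟩ := hf
  refine ⟨(homEquiv V B).symm x, ?_⟩
  apply (homEquiv V B'').injective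
  rw [homEquiv_comp, Equiv.apply_symm_apply, homEquiv_map]
  exact hx

end Groth.Agent.FreeSheaf31
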