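import Mathlib
import Groth.Prelude.Def_FrobAlg
import Groth.Agent.S3176

/-!
# Relative Frobenius of smooth algebras (helper37)

* `FrobPoly.Phi_bijective`: `R[X]` is free over `R[X^p]` on the monomials with exponents `< p`.
* `FrobRel.polyBasis`, `poly_free`, `poly_finrank`: the relative Frobenius of a polynomial ring
  is free of rank `p ^ n`.
* `FrobRel.isPushout_left`, `isPushout_outer`, `isPushout_right`: for `C` étale over `P`
  (both `A`-algebras of characteristic `p`), the relative Frobenius of `C` is the base change of
  the relative Frobenius of `P`.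
* `FrobRel.flat_relFrob_of_smooth'`: the relative Frobenius of a smooth algebra is flat.
-/

set_option autoImplicit false
universe u v

open MvPolynomial

namespace Groth.Agent.Lib.RelFrobSmooth

namespace FrobPoly

variable {σ : Type*} [Finite σ] (p : ℕ) [hp : NeZero p]

/-- exponent vectors below `p` as finsupps -/
noncomputable def toExp (e : σ → Fin p) : σ →₀ ℕ :=
  Finsupp.equivFunOnFinite.symm (fun i => (e i : ℕ))

omit hp in
@[simp] lemma toExp_apply (e : σ → Fin p) (i : σ) : toExp p e i = (e i : ℕ) := rfl

/-- division with remainder on exponent vectors -/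
noncomputable def divMod : (σ → Fin p) × (σ →₀ ℕ) ≃ (σ →₀ ℕ) where
  toFun x := p • x.2 + toExp p x.1
  invFun m := (fun i => ⟨m i % p, Nat.mod_lt _ (Nat.pos_of_ne_zero hp.out)⟩,
    Finsupp.mapRange (· / p) (Nat.zero_div p) m)
  left_inv := by
    rintro ⟨e, q⟩
    ext i
    · simp [Nat.mod_eq_of_lt (e i).isLt]
    · simp only [Finsupp.mapRange_apply, Finsupp.coe_add, Finsupp.coe_smul, Pi.add_apply,
        Pi.smul_apply, smul_eq_mul, toExp_apply]
      rw [Nat.mul_add_div (Nat.pos_of_ne_zero hp.out), Nat.div_eq_of_lt (e i).isLt, add_zero]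
  right_inv := by
    intro m
    ext i
    simp [Nat.div_add_mod]

variable (R : Type*) [CommRing R]

/-- The sum map. -/
noncomputable def Phi : ((σ → Fin p) →₀ MvPolynomial σ R) →ₗ[R] MvPolynomial σ R :=
  Finsupp.lsum R (fun e => (LinearMap.mulRight R (monomial (toExp p e) (1 : R))).comp
    (expand p (σ := σ) (R := R)).toLinearMap)

omit hp in
lemma Phi_single (e : σ → Fin p) (a : MvPolynomial σ R) :
    Phi p R (Finsupp.single e a) = expand p a * monomial (toExp p e) 1 := by
  simp [Phi]

lemma Phi_bijective : Function.Bijective (Phi (σ := σ) p R) := by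
  classical
  let b : Module.Basis (Σ _ : σ → Fin p, (σ →₀ ℕ)) R ((σ → Fin p) →₀ MvPolynomial σ R) :=
    Finsupp.basis (fun _ => basisMonomials σ R)
  let b' := basisMonomials σ R
  let β : (Σ _ : σ → Fin p, (σ →₀ ℕ)) ≃ (σ →₀ ℕ) :=
    (Equiv.sigmaEquivProd _ _).trans (divMod p)
  have : Phi (σ := σ) p R = (b.equiv b' β : _ →ₗ[R] _) := by
    apply b.ext
    rintro ⟨e, q⟩
    rw [LinearEquiv.coe_coe, Module.Basis.equiv_apply]
    simp only [b, b', Finsupp.coe_basis, coe_basisMonomials, Phi_single, expand_monomial]
    rw [monomial_mul, one_mul]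
    rfl
  rw [this]
  exact (b.equiv b' β).bijective

end FrobPoly

namespace FrobRel

open FrobAlg TensorProduct

section basic
variable (p : ℕ) [Fact p.Prime] (A : Type u) [CommRing A] [CharP A p]
  (B : Type v) [CommRing B] [Algebra A B] [CharP B p]

lemma relFrob_tmul (b : B) (a : Twist p A) :
    relFrob p A B (b ⊗ₜ a) = b ^ p * algebraMap A B ((toTwist p A).symm a) := by
  simp only [relFrob, RingHom.coe_comp, Function.comp_apply]
  rfl

lemma relFrob_includeLeft (b : B) : relFrob p A B (b ⊗ₜ 1) = b ^ p := by
  rw [relFrob_tmul]; simp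

lemma relFrob_includeRight (a : Twist p A) :
    relFrob p A B (1 ⊗ₜ a) = algebraMap A B ((toTwist p A).symm a) := by
  rw [relFrob_tmul]; simp

omit [CharP B p] in
/-- ring homs out of the Frobenius twist are determined on the two factors -/
lemma ringHom_ext {T : Type*} [Semiring T] (f g : BaseChange p A B →+* T)
    (h1 : ∀ b : B, f (b ⊗ₜ 1) = g (b ⊗ₜ 1)) (h2 : ∀ a : Twist p A, f (1 ⊗ₜ a) = g (1 ⊗ₜ a)) :
    f = g := by
  refine RingHom.ext fun x => ?_
  induction x using TensorProduct.induction_on with
  | zero => simp
  | add x y hx hy => rw [map_add, map_add, hx, hy]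
  | tmul b a =>
    have : b ⊗ₜ[A] a = (b ⊗ₜ[A] (1 : Twist p A)) * ((1 : B) ⊗ₜ[A] a) := by
      rw [Algebra.TensorProduct.tmul_mul_tmul, mul_one, one_mul]
    rw [this, map_mul, map_mul, h1, h2]

end basic

section poly
variable (p : ℕ) [Fact p.Prime] (A : Type u) [CommRing A] [CharP A p] (σ : Type*)

instance : NeZero p := ⟨(Fact.out : p.Prime).ne_zero⟩

/-- The twist of a polynomial ring is a polynomial ring. -/
noncomputable def Psi : BaseChange p A (MvPolynomial σ A) ≃+* MvPolynomial σ A :=
  ((Algebra.TensorProduct.comm A (MvPolynomial σ A) (Twist p A)).toRingEquiv.trans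
    (MvPolynomial.algebraTensorAlgEquiv A (Twist p A)).toRingEquiv).trans
    (MvPolynomial.mapEquiv σ (toTwist p A).symm)

lemma Psi_tmul (m : MvPolynomial σ A) (a : Twist p A) :
    Psi p A σ (m ⊗ₜ a) = C ((toTwist p A).symm a) * MvPolynomial.map (frobenius A p) m := by
  show MvPolynomial.map ((toTwist p A).symm : Twist p A →+* A)
    (MvPolynomial.algebraTensorAlgEquiv A (Twist p A)
      (Algebra.TensorProduct.comm A (MvPolynomial σ A) (Twist p A) (m ⊗ₜ a))) = _
  rw [Algebra.TensorProduct.comm_tmul, algebraTensorAlgEquiv_tmul, MvPolynomial.smul_eq_C_mul,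
    map_mul, MvPolynomial.map_C, MvPolynomial.map_map]
  rfl

lemma expand_Psi (y : BaseChange p A (MvPolynomial σ A)) :
    expand p (Psi p A σ y) = relFrob p A (MvPolynomial σ A) y := by
  have key : ((expand p (σ := σ) (R := A)).toRingHom.comp (Psi p A σ).toRingHom) =
      relFrob p A (MvPolynomial σ A) := by
    apply ringHom_ext
    · intro m
      show expand p (Psi p A σ (m ⊗ₜ 1)) = _
      rw [Psi_tmul, relFrob_includeLeft]
      simp only [map_one, one_mul]
      induction m using MvPolynomial.induction_on with
      | C a => simp [frobenius_def]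
      | add x y hx hy => rw [map_add, map_add, hx, hy, add_pow_char]
      | mul_X x i hx => simp [hx, mul_pow]
    · intro a
      show expand p (Psi p A σ (1 ⊗ₜ a)) = _
      rw [Psi_tmul, relFrob_includeRight]
      simp
  exact congr($key y)

variable [Finite σ]

/-- The monomials with exponents `< p` form a basis of `A[X]` over its Frobenius twist. -/
theorem linearCombination_bijective :
    letI := (relFrob p A (MvPolynomial σ A)).toAlgebra
    Function.Bijective (Finsupp.linearCombination (BaseChange p A (MvPolynomial σ A))
      (fun e : σ → Fin p => monomial (FrobPoly.toExp p e) (1 : A))) := by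
  letI := (relFrob p A (MvPolynomial σ A)).toAlgebra
  have h : ∀ f : (σ → Fin p) →₀ BaseChange p A (MvPolynomial σ A),
      Finsupp.linearCombination (BaseChange p A (MvPolynomial σ A))
        (fun e : σ → Fin p => monomial (FrobPoly.toExp p e) (1 : A)) f =
      FrobPoly.Phi p A (Finsupp.mapRange.addEquiv (Psi p A σ).toAddEquiv f) := by
    intro f
    induction f using Finsupp.induction_linear with
    | zero => simp
    | add f g hf hg => rw [map_add, map_add, map_add, hf, hg]
    | single e a =>
      rw [Finsupp.linearCombination_single, Finsupp.mapRange.addEquiv_apply,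
        Finsupp.mapRange_single, FrobPoly.Phi_single, Algebra.smul_def]
      congr 1
      exact (expand_Psi p A σ a).symm
  have : (Finsupp.linearCombination (BaseChange p A (MvPolynomial σ A))
        (fun e : σ → Fin p => monomial (FrobPoly.toExp p e) (1 : A)) : _ → _) =
      (FrobPoly.Phi p A) ∘ (Finsupp.mapRange.addEquiv (Psi p A σ).toAddEquiv) := funext h
  rw [this]
  exact (FrobPoly.Phi_bijective p A).comp (AddEquiv.bijective _)

/-- The basis. -/
noncomputable def polyBasis :
    letI := (relFrob p A (MvPolynomial σ A)).toAlgebra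
    Module.Basis (σ → Fin p) (BaseChange p A (MvPolynomial σ A)) (MvPolynomial σ A) :=
  letI := (relFrob p A (MvPolynomial σ A)).toAlgebra
  Module.Basis.ofRepr (LinearEquiv.ofBijective _ (linearCombination_bijective p A σ)).symm

theorem poly_free : letI := (relFrob p A (MvPolynomial σ A)).toAlgebra
    Module.Free (BaseChange p A (MvPolynomial σ A)) (MvPolynomial σ A) :=
  letI := (relFrob p A (MvPolynomial σ A)).toAlgebra
  Module.Free.of_basis (polyBasis p A σ)

theorem poly_finrank [Nontrivial A] : letI := (relFrob p A (MvPolynomial σ A)).toAlgebra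
    Module.finrank (BaseChange p A (MvPolynomial σ A)) (MvPolynomial σ A) = p ^ Nat.card σ := by
  letI := (relFrob p A (MvPolynomial σ A)).toAlgebra
  have : Nontrivial (BaseChange p A (MvPolynomial σ A)) :=
    (relFrob p A (MvPolynomial σ A)).domain_nontrivial
  classical
  have := Fintype.ofFinite σ
  rw [Module.finrank_eq_card_basis (polyBasis p A σ)]
  simp [Nat.card_eq_fintype_card]

end poly

lemma charP_of_algebra' (p : ℕ) [Fact p.Prime] (P : Type*) [CommRing P] [CharP P p]
    (D : Type*) [CommRing D] [Nontrivial D] [Algebra P D] : CharP D p := by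
  rw [CharP.charP_iff_prime_eq_zero (Fact.out : p.Prime)]
  rw [← map_natCast (algebraMap P D), CharP.cast_eq_zero, map_zero]

section pushout
open CategoryTheory Limits

variable (p : ℕ) [Fact p.Prime] (A : Type u) [CommRing A] [CharP A p]
  (P : Type v) [CommRing P] [Algebra A P] [CharP P p]
  (C : Type*) [CommRing C] [Algebra A C] [CharP C p]

variable {P C} in
/-- functoriality of the twist -/
noncomputable def mapBC (f : P →ₐ[A] C) : BaseChange p A P →+* BaseChange p A C :=
  (Algebra.TensorProduct.map f (AlgHom.id A (Twist p A))).toRingHom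

variable {P C} in
omit [CharP P p] [CharP C p] in
lemma mapBC_tmul (f : P →ₐ[A] C) (x : P) (a : Twist p A) :
    mapBC p A f (x ⊗ₜ a) = f x ⊗ₜ a := rfl

variable {P C} in
lemma relFrob_naturality (f : P →ₐ[A] C) :
    (relFrob p A C).comp (mapBC p A f) = f.toRingHom.comp (relFrob p A P) := by
  apply ringHom_ext
  · intro b
    simp [mapBC_tmul, relFrob_includeLeft]
  · intro a
    simp [mapBC_tmul, relFrob_includeRight]

end pushout

section pushout2
open CategoryTheory Limits

variable (p : ℕ) [Fact p.Prime] (A : Type u) [CommRing A] [CharP A p]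
  (P : Type u) [CommRing P] [Algebra A P] [CharP P p]
  (C : Type u) [CommRing C] [Algebra A C] [CharP C p] [Algebra P C] [IsScalarTower A P C]

/-- Left square: the twist of `C` is the base change of the twist of `P`. -/
lemma isPushout_left :
    IsPushout (CommRingCat.ofHom (Algebra.TensorProduct.includeLeftRingHom :
        P →+* BaseChange p A P))
      (CommRingCat.ofHom (algebraMap P C))
      (CommRingCat.ofHom (mapBC p A (IsScalarTower.toAlgHom A P C)))
      (CommRingCat.ofHom (Algebra.TensorProduct.includeLeftRingHom :
        C →+* BaseChange p A C)) := by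
  letI : Algebra (BaseChange p A P) (BaseChange p A C) :=
    (mapBC p A (IsScalarTower.toAlgHom A P C)).toAlgebra
  haveI : IsScalarTower P (BaseChange p A P) (BaseChange p A C) :=
    IsScalarTower.of_algebraMap_eq' (by
      ext x
      simp [RingHom.algebraMap_toAlgebra, mapBC_tmul])
  have h : Algebra.IsPushout P C (BaseChange p A P) (BaseChange p A C) :=
    Algebra.IsPushout.tensorProduct_tensorProduct A (Twist p A) P C (by
      ext x
      simp [RingHom.algebraMap_toAlgebra, mapBC_tmul])
  have := CommRingCat.isPushout_of_isPushout P C (BaseChange p A P) (BaseChange p A C)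
  exact this.flip

variable [Algebra.Etale P C]

/-- Outer rectangle: Frobenius squares of étale maps are pushouts. -/
lemma isPushout_outer :
    IsPushout (CommRingCat.ofHom (Algebra.TensorProduct.includeLeftRingHom :
        P →+* BaseChange p A P) ≫ CommRingCat.ofHom (relFrob p A P))
      (CommRingCat.ofHom (algebraMap P C))
      (CommRingCat.ofHom (algebraMap P C))
      (CommRingCat.ofHom (Algebra.TensorProduct.includeLeftRingHom :
        C →+* BaseChange p A C) ≫ CommRingCat.ofHom (relFrob p A C)) := by
  have hbij := Groth.Agent.S3176.bijective_of_etale p P C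
  let e₄ : BaseChange p P C ≃+* C := RingEquiv.ofBijective (relFrob p P C) hbij
  refine (CommRingCat.isPushout_tensorProduct P C (Twist p P)).flip.of_iso (Iso.refl _)
    (toTwist p P).symm.toCommRingCatIso (Iso.refl _) e₄.toCommRingCatIso ?_ ?_ ?_ ?_
  · ext x
    simp [relFrob_includeLeft, algebraMap_twist]
  · simp
  · ext a
    simp [e₄, relFrob_includeRight]
  · ext c
    simp [e₄, relFrob_includeLeft]

/-- Right square: for `C` étale over `P`, the relative Frobenius of `C` is the base change
of the relative Frobenius of `P`. -/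
theorem isPushout_right :
    IsPushout (CommRingCat.ofHom (relFrob p A P))
      (CommRingCat.ofHom (mapBC p A (IsScalarTower.toAlgHom A P C)))
      (CommRingCat.ofHom (algebraMap P C))
      (CommRingCat.ofHom (relFrob p A C)) := by
  refine IsPushout.of_left (isPushout_outer p A P C) ?_ (isPushout_left p A P C)
  rw [← CommRingCat.ofHom_comp, ← CommRingCat.ofHom_comp, relFrob_naturality]
  rfl

theorem flat_of_etale (h : (relFrob p A P).Flat) : (relFrob p A C).Flat :=
  (CommRingCat.flat_ofHom_iff _).mp
    (MorphismProperty.of_isPushout (P := CommRingCat.flat) (isPushout_right p A P C).flip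
      ((CommRingCat.flat_ofHom_iff _).mpr h))

omit [Algebra.Etale P C] in
theorem flat_mapBC (h : (algebraMap P C).Flat) :
    (mapBC p A (IsScalarTower.toAlgHom A P C)).Flat :=
  (CommRingCat.flat_ofHom_iff _).mp
    (MorphismProperty.of_isPushout (P := CommRingCat.flat) (isPushout_left p A P C)
      ((CommRingCat.flat_ofHom_iff _).mpr h))

end pushout2


section main
variable (p : ℕ) [Fact p.Prime] (A : Type u) [CommRing A] [CharP A p]
  (B : Type u) [CommRing B] [Algebra A B] [CharP B p]

theorem flat_poly (σ : Type*) [Finite σ] : (relFrob p A (MvPolynomial σ A)).Flat := by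
  letI := (relFrob p A (MvPolynomial σ A)).toAlgebra
  have := poly_free p A σ
  show Module.Flat _ _
  infer_instance

/-- The relative Frobenius of a smooth algebra is flat (one universe). -/
theorem flat_relFrob_of_smooth [Algebra.Smooth A B] : (relFrob p A B).Flat := by
  let s : Set B := {g | ∃ (n : ℕ) (_ : Algebra (MvPolynomial (Fin n) A) (Localization.Away g)),
      IsScalarTower A (MvPolynomial (Fin n) A) (Localization.Away g) ∧
      Algebra.Etale (MvPolynomial (Fin n) A) (Localization.Away g)}
  have hs : Ideal.span s = ⊤ := by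
    by_contra hne
    obtain ⟨m, hm, hle⟩ := Ideal.exists_le_maximal _ hne
    have : m.IsPrime := hm.isPrime
    obtain ⟨f, hf, n, alg, tower, het⟩ :=
      Algebra.IsSmoothAt.exists_isStandardEtale_mvPolynomial (R := A) (p := m)
    exact hf (hle (Ideal.subset_span ⟨n, alg, tower, inferInstance⟩))
  refine RingHom.Flat.ofLocalizationSpanTarget _ s hs ?_
  rintro ⟨g, n, alg, tower, het⟩
  rcases subsingleton_or_nontrivial (Localization.Away g) with hsub | hnt
  · letI := ((algebraMap B (Localization.Away g)).comp (relFrob p A B)).toAlgebra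
    show Module.Flat _ _
    infer_instance
  · have hchar : CharP (Localization.Away g) p := charP_of_algebra' p B _
    have h1 : (relFrob p A (Localization.Away g)).Flat :=
      flat_of_etale p A (MvPolynomial (Fin n) A) _ (flat_poly p A _)
    have h2 : (mapBC p A (IsScalarTower.toAlgHom A B (Localization.Away g))).Flat :=
      flat_mapBC p A B _ (RingHom.flat_algebraMap_iff.mpr inferInstance)
    have := relFrob_naturality p A (IsScalarTower.toAlgHom A B (Localization.Away g))
    show ((algebraMap B (Localization.Away g)).comp (relFrob p A B)).Flat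
    have e : (algebraMap B (Localization.Away g)).comp (relFrob p A B) =
      (relFrob p A (Localization.Away g)).comp
        (mapBC p A (IsScalarTower.toAlgHom A B (Localization.Away g))) := this.symm
    rw [e]
    exact h2.comp h1

end main


section univ
variable (p : ℕ) [Fact p.Prime] (A : Type u) [CommRing A] [CharP A p]
  (B : Type v) [CommRing B] [Algebra A B] [CharP B p]

/-- The relative Frobenius of a smooth algebra is flat. -/
theorem flat_relFrob_of_smooth' [Algebra.Smooth A B] : (relFrob p A B).Flat := by
  obtain ⟨n, f, hf, -⟩ := (Algebra.FinitePresentation.out : ∃ n, ∃ f : MvPolynomial (Fin n) A →ₐ[A] B, _)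
  let B₀ := MvPolynomial (Fin n) A ⧸ RingHom.ker f
  let e : B₀ ≃ₐ[A] B := Ideal.quotientKerAlgEquivOfSurjective hf
  have hBnt : Nontrivial B := CharP.nontrivial_of_char_ne_one (R := B) (Fact.out : p.Prime).ne_one
  have : Nontrivial B₀ := e.toEquiv.nontrivial
  have : CharP B₀ p := charP_of_algebra' p A B₀
  have : Algebra.Smooth A B₀ := Algebra.Smooth.of_equiv e.symm
  have h0 : (relFrob p A B₀).Flat := flat_relFrob_of_smooth p A B₀
  have hnat := relFrob_naturality p A (e.symm : B →ₐ[A] B₀)
  have hbij : Function.Bijective (mapBC p A (e.symm : B →ₐ[A] B₀)) :=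
    (Algebra.TensorProduct.congr e.symm (AlgEquiv.refl (R := A) (A₁ := Twist p A))).bijective
  have key : relFrob p A B = (e : B₀ →+* B).comp ((relFrob p A B₀).comp
      (mapBC p A (e.symm : B →ₐ[A] B₀))) := by
    rw [hnat]
    refine RingHom.ext fun x => ?_
    simp only [RingHom.coe_comp, Function.comp_apply, AlgHom.toRingHom_eq_coe, RingHom.coe_coe]
    exact (e.apply_symm_apply _).symm
  rw [key]
  exact ((RingHom.Flat.of_bijective hbij).comp h0).comp (RingHom.Flat.of_bijective e.bijective)

end univ

end FrobRel

end Groth.Agent.Lib.RelFrobSmooth
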