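import Mathlib
import Groth.Prelude.Def_FrobAlg
import Groth.Agent.Lib.RelFrobSmooth

/-!
# Relative Frobenius of an adic completion of an `F`-finite Noetherian ring (helper37)

For a Noetherian ring `A` of characteristic `p` with finite Frobenius and an ideal `I`, the relative
Frobenius `Â ⊗_{A,F} A → Â` of the `I`-adic completion is bijective:
`Â ⊗_A F_*A ≅ (F_*A)^` (finite module over Noetherian ring) and the `I`-adic filtration on `F_*A`
(`= (I^n)^{[p]} A`) is cofinal with the `I`-adic filtration of `A`.
-/

set_option autoImplicit false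
universe u

namespace Groth.Agent.Lib.FrobAdic

open FrobAlg TensorProduct

section
variable (p : ℕ) [Fact p.Prime] (A : Type u) [CommRing A] [CharP A p] (I : Ideal A)

/-- the Frobenius-semilinear identification `Twist p A → A` -/
noncomputable def fT : Twist p A →ₛₗ[frobenius A p] A where
  toFun t := (toTwist p A).symm t
  map_add' := map_add _
  map_smul' a t := by
    show (toTwist p A).symm (a • t) = frobenius A p a • (toTwist p A).symm t
    rw [Algebra.smul_def, algebraMap_twist, map_mul, RingEquiv.symm_apply_apply, smul_eq_mul,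
      frobenius_def]

@[simp] lemma fT_apply (t : Twist p A) : fT p A t = (toTwist p A).symm t := rfl

lemma smul_top_le_comap (n : ℕ) :
    (I ^ n • ⊤ : Submodule A (Twist p A)) ≤ (I ^ n • ⊤ : Submodule A A).comap (fT p A) := by
  rw [Submodule.smul_le]
  intro a ha t _
  rw [Submodule.mem_comap, map_smulₛₗ]
  refine Submodule.smul_mem_smul ?_ trivial
  rw [frobenius_def]
  exact Ideal.pow_mem_of_mem _ ha p (Fact.out : p.Prime).pos

/-- the maps on quotients -/
noncomputable def q (n : ℕ) :
    (Twist p A ⧸ (I ^ n • ⊤ : Submodule A (Twist p A))) →ₛₗ[frobenius A p]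
      (A ⧸ (I ^ n • ⊤ : Submodule A A)) :=
  Submodule.mapQ _ _ (fT p A) (smul_top_le_comap p A I n)

lemma q_mk (n : ℕ) (t : Twist p A) :
    q p A I n (Submodule.Quotient.mk t) = Submodule.Quotient.mk ((toTwist p A).symm t) := rfl

/-- change of filtration -/
noncomputable def Θ (x : AdicCompletion I (Twist p A)) : AdicCompletion I A :=
  ⟨fun n => q p A I n (x.val n), by
    intro m n hmn
    show AdicCompletion.transitionMap I A hmn (q p A I n (x.val n)) = q p A I m (x.val m)
    rw [← x.property hmn]
    obtain ⟨t, ht⟩ := Submodule.Quotient.mk_surjective _ (x.val n)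
    rw [← ht]
    rfl⟩

lemma Θ_val (x : AdicCompletion I (Twist p A)) (n : ℕ) : (Θ p A I x).val n = q p A I n (x.val n) :=
  rfl

lemma Θ_add (x y : AdicCompletion I (Twist p A)) : Θ p A I (x + y) = Θ p A I x + Θ p A I y := by
  apply AdicCompletion.ext
  intro n
  simp [Θ_val, AdicCompletion.val_add_apply]

/-- the ideal generated by `p`-th powers of elements of `J` -/
def frobPow (J : Ideal A) : Ideal A := Ideal.span {x | ∃ y ∈ J, x = y ^ p}

omit [Fact p.Prime] [CharP A p] in
lemma frobPow_mul_le (J K : Ideal A) : frobPow p A J * frobPow p A K ≤ frobPow p A (J * K) := by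
  rw [frobPow, frobPow, Ideal.span_mul_span']
  rw [Ideal.span_le]
  rintro _ ⟨_, ⟨a, ha, rfl⟩, _, ⟨b, hb, rfl⟩, rfl⟩
  exact Ideal.subset_span ⟨a * b, Ideal.mul_mem_mul ha hb, (mul_pow a b p).symm⟩

omit [Fact p.Prime] [CharP A p] in
lemma frobPow_pow_le (J : Ideal A) (n : ℕ) : frobPow p A J ^ n ≤ frobPow p A (J ^ n) := by
  induction n with
  | zero =>
    rw [pow_zero, pow_zero, Ideal.one_eq_top]
    intro x _
    have h1 : (1 : A) ∈ frobPow p A ⊤ := Ideal.subset_span ⟨1, trivial, (one_pow p).symm⟩
    rw [(Ideal.eq_top_iff_one _).mpr h1]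
    trivial
  | succ n ih =>
    rw [pow_succ, pow_succ]
    exact (Ideal.mul_mono_left ih).trans (frobPow_mul_le p A _ _)

lemma toTwist_mem_of_mem_frobPow (J : Ideal A) (a : A) (ha : a ∈ frobPow p A J) :
    toTwist p A a ∈ (J • ⊤ : Submodule A (Twist p A)) := by
  rw [Ideal.smul_top_eq_map]
  show toTwist p A a ∈ J.map (algebraMap A (Twist p A))
  have h1 : (frobPow p A J).map (toTwist p A : A →+* Twist p A) ≤ J.map (algebraMap A (Twist p A)) := by
    rw [frobPow, Ideal.map_span, Ideal.span_le]
    rintro _ ⟨_, ⟨y, hy, rfl⟩, rfl⟩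
    have : (toTwist p A : A →+* Twist p A) (y ^ p) = algebraMap A (Twist p A) y := rfl
    rw [this]
    exact Ideal.mem_map_of_mem _ hy
  exact h1 (Ideal.mem_map_of_mem _ ha)

end

section noeth
variable (p : ℕ) [Fact p.Prime] (A : Type u) [CommRing A] [CharP A p] [IsNoetherianRing A]
  (I : Ideal A)

omit [Fact p.Prime] [CharP A p] in
lemma exists_pow_le : ∃ k : ℕ, 0 < k ∧ ∀ n, I ^ (k * n) ≤ frobPow p A (I ^ n) := by
  have h1 : I ≤ (frobPow p A I).radical := by
    intro a ha
    exact ⟨p, Ideal.subset_span ⟨a, ha, rfl⟩⟩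
  obtain ⟨k, hk⟩ := Ideal.exists_pow_le_of_le_radical_of_fg h1 (IsNoetherian.noetherian I)
  refine ⟨k + 1, Nat.succ_pos k, fun n => ?_⟩
  rw [pow_mul]
  have h2 : I ^ (k + 1) ≤ frobPow p A I := (Ideal.pow_le_pow_right (Nat.le_succ k)).trans hk
  exact (Ideal.pow_right_mono h2 n).trans (frobPow_pow_le p A I n)

lemma Θ_bijective : Function.Bijective (Θ p A I) := by
  obtain ⟨k, hk0, hk⟩ := exists_pow_le p A I
  -- key: f t ∈ I^(k n) → t ∈ I^n • ⊤
  have key : ∀ (n : ℕ) (t : Twist p A), (toTwist p A).symm t ∈ (I ^ (k * n) • ⊤ : Submodule A A) →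
      t ∈ (I ^ n • ⊤ : Submodule A (Twist p A)) := by
    intro n t ht
    have h1 : (toTwist p A).symm t ∈ I ^ (k * n) := by
      simpa using ht
    have h2 := toTwist_mem_of_mem_frobPow p A (I ^ n) _ (hk n h1)
    rwa [RingEquiv.apply_symm_apply] at h2
  have hle : ∀ n, n ≤ k * n := fun n => Nat.le_mul_of_pos_left n hk0
  constructor
  · -- injective
    intro x y hxy
    apply AdicCompletion.ext
    intro n
    have h1 : (Θ p A I x).val (k * n) = (Θ p A I y).val (k * n) := by rw [hxy]
    rw [Θ_val, Θ_val] at h1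
    obtain ⟨t, ht⟩ := Submodule.Quotient.mk_surjective _ (x.val (k * n))
    obtain ⟨s, hs⟩ := Submodule.Quotient.mk_surjective _ (y.val (k * n))
    rw [← ht, ← hs, q_mk, q_mk, Submodule.Quotient.eq, ← map_sub] at h1
    have h2 := key n (t - s) h1
    rw [← x.property (hle n), ← y.property (hle n), ← ht, ← hs]
    show Submodule.Quotient.mk t = Submodule.Quotient.mk s
    rw [Submodule.Quotient.eq]
    exact h2
  · -- surjective
    intro y
    choose r hr using fun n => Submodule.Quotient.mk_surjective _ (y.val (k * n))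
    have hcompat : ∀ {m n : ℕ}, m ≤ n → r n - r m ∈ (I ^ (k * m) • ⊤ : Submodule A A) := by
      intro m n hmn
      have h1 := y.property (Nat.mul_le_mul_left k hmn)
      rw [← hr n, ← hr m] at h1
      have h2 : (Submodule.Quotient.mk (r n) : A ⧸ (I ^ (k * m) • ⊤ : Submodule A A)) =
          Submodule.Quotient.mk (r m) := h1
      rwa [Submodule.Quotient.eq] at h2
    refine ⟨⟨fun n => Submodule.Quotient.mk (toTwist p A (r n)), ?_⟩, ?_⟩
    · intro m n hmn
      show (Submodule.Quotient.mk (toTwist p A (r n)) :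
        Twist p A ⧸ (I ^ m • ⊤ : Submodule A (Twist p A))) = Submodule.Quotient.mk (toTwist p A (r m))
      rw [Submodule.Quotient.eq, ← map_sub]
      apply key m
      rw [RingEquiv.symm_apply_apply]
      exact hcompat hmn
    · apply AdicCompletion.ext
      intro n
      show q p A I n (Submodule.Quotient.mk (toTwist p A (r n))) = y.val n
      rw [q_mk, RingEquiv.symm_apply_apply, ← y.property (hle n), ← hr n]
      rfl

end noeth

section main
variable (p : ℕ) [Fact p.Prime] (A : Type u) [CommRing A] [CharP A p] (I : Ideal A)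

lemma Θ_zero : Θ p A I 0 = 0 := by
  have h := Θ_add p A I 0 0
  rw [add_zero] at h
  exact (add_eq_left.mp h.symm)

lemma finite_twist (hF : (frobenius A p).Finite) : Module.Finite A (Twist p A) := by
  have h1 : (algebraMap A (Twist p A)).Finite := by
    have : algebraMap A (Twist p A) = (toTwist p A : A →+* Twist p A).comp (frobenius A p) := rfl
    rw [this]
    exact RingHom.Finite.comp (RingHom.Finite.of_surjective _ (toTwist p A).surjective) hF
  exact RingHom.finite_algebraMap.mp h1

omit [Fact p.Prime] [CharP A p] in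
lemma val_pow (x : AdicCompletion I A) (n k : ℕ) : (x ^ k).val n = (x.val n) ^ k := by
  induction k with
  | zero => rw [pow_zero, pow_zero, AdicCompletion.val_one]
  | succ k ih => rw [pow_succ, AdicCompletion.val_mul, ih, pow_succ]

theorem relFrob_eq [CharP (AdicCompletion I A) p] (z : BaseChange p A (AdicCompletion I A)) :
    relFrob p A (AdicCompletion I A) z =
      Θ p A I (AdicCompletion.ofTensorProduct I (Twist p A) z) := by
  induction z using TensorProduct.induction_on with
  | zero => rw [map_zero, map_zero, Θ_zero]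
  | add x y hx hy => rw [map_add, map_add, Θ_add, hx, hy]
  | tmul b t =>
    rw [AdicCompletion.ofTensorProduct_tmul]
    apply AdicCompletion.ext
    intro n
    rw [Θ_val, AdicCompletion.smul_eval]
    have h1 : relFrob p A (AdicCompletion I A) (b ⊗ₜ t) =
        b ^ p * algebraMap A (AdicCompletion I A) ((toTwist p A).symm t) :=
      Groth.Agent.Lib.RelFrobSmooth.FrobRel.relFrob_tmul p A (AdicCompletion I A) b t
    rw [h1, AdicCompletion.val_mul, val_pow, AdicCompletion.algebraMap_apply,
      AdicCompletion.of_apply, AdicCompletion.of_apply]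
    obtain ⟨β, hβ⟩ := Submodule.Quotient.mk_surjective _ (b.val n)
    rw [← hβ]
    show (Ideal.Quotient.mk (I ^ n • ⊤ : Ideal A) β) ^ p *
        Ideal.Quotient.mk (I ^ n • ⊤ : Ideal A) ((toTwist p A).symm t) =
      q p A I n ((Ideal.Quotient.mk (I ^ n • ⊤ : Ideal A) β) •
        (Submodule.Quotient.mk t : Twist p A ⧸ (I ^ n • ⊤ : Submodule A (Twist p A))))
    rw [AdicCompletion.mk_smul_mk, ← Submodule.Quotient.mk_smul, q_mk, ← map_pow, ← map_mul]
    congr 1

theorem relFrob_bijective [IsNoetherianRing A] (hF : (frobenius A p).Finite)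
    [CharP (AdicCompletion I A) p] :
    Function.Bijective (relFrob p A (AdicCompletion I A)) := by
  have := finite_twist p A hF
  have h1 := AdicCompletion.ofTensorProduct_bijective_of_finite_of_isNoetherian I (Twist p A)
  have h2 := Θ_bijective p A I
  have : (relFrob p A (AdicCompletion I A) : _ → _) =
      (Θ p A I) ∘ (AdicCompletion.ofTensorProduct I (Twist p A)) := funext (relFrob_eq p A I)
  rw [this]
  exact h2.comp h1

end main

end Groth.Agent.Lib.FrobAdic
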