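/-
helper90: the annihilator of a finite module commutes with flat base change.
-/
import Mathlib

set_option autoImplicit false
open TensorProduct

namespace Groth.Agent.Lib.H90AnnFlat

variable (A B M : Type*) [CommRing A] [CommRing B] [Algebra A B] [AddCommGroup M] [Module A M]

theorem map_annihilator_le_tensor :
    (Module.annihilator A M).map (algebraMap A B) ≤ Module.annihilator B (B ⊗[A] M) := by
  rw [Ideal.map_le_iff_le_comap]
  intro a ha
  rw [Ideal.mem_comap, Module.mem_annihilator]
  intro x
  induction x using TensorProduct.induction_on with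
  | zero => simp
  | tmul b m =>
    rw [algebraMap_smul, ← TensorProduct.tmul_smul, Module.mem_annihilator.mp ha m, tmul_zero]
  | add x y hx hy => rw [smul_add, hx, hy, add_zero]

theorem annihilator_tensor_of_flat [Module.Flat A B] [Module.Finite A M] :
    Module.annihilator B (B ⊗[A] M) = (Module.annihilator A M).map (algebraMap A B) := by
  apply le_antisymm _ (map_annihilator_le_tensor A B M)
  intro b hb
  rw [Module.mem_annihilator] at hb
  obtain ⟨n, m, hm⟩ := Module.Finite.exists_fin (R := A) (M := M)
  let f : A →ₗ[A] (Fin n → M) := LinearMap.pi (fun i => LinearMap.toSpanSingleton A M (m i))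
  have hf : ∀ a i, f a i = a • m i := fun a i => rfl
  have hker : ∀ a, a ∈ LinearMap.ker f → a ∈ Module.annihilator A M := by
    intro a ha
    rw [← Submodule.annihilator_top, ← hm, Submodule.mem_annihilator_span]
    rintro ⟨_, i, rfl⟩
    have := congrFun (LinearMap.mem_ker.mp ha) i
    rwa [hf] at this
  let x : B ⊗[A] A := b ⊗ₜ (1 : A)
  have hx : x ∈ LinearMap.ker (AlgebraTensorModule.lTensor B B f) := by
    rw [LinearMap.mem_ker]
    apply (TensorProduct.piRight A B B (fun _ : Fin n => M)).injective
    rw [map_zero]
    change (TensorProduct.piRight A B B (fun _ : Fin n => M)) (b ⊗ₜ[A] f 1) = 0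
    rw [TensorProduct.piRight_apply, TensorProduct.piRightHom_tmul]
    funext i
    rw [hf, one_smul]
    have := hb ((1 : B) ⊗ₜ[A] m i)
    rwa [TensorProduct.smul_tmul', smul_eq_mul, mul_one] at this
  rw [Module.Flat.ker_lTensor_eq] at hx
  obtain ⟨y, hy⟩ := hx
  let μ : B ⊗[A] A →ₗ[A] B := (TensorProduct.rid A B).toLinearMap
  have hμ : μ x = b := by
    change (TensorProduct.rid A B) (b ⊗ₜ (1 : A)) = b
    rw [TensorProduct.rid_tmul, one_smul]
  have key : ∀ y : B ⊗[A] LinearMap.ker f,
      μ (AlgebraTensorModule.lTensor B B (LinearMap.ker f).subtype y) ∈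
        (Module.annihilator A M).map (algebraMap A B) := by
    intro y
    induction y using TensorProduct.induction_on with
    | zero => simp
    | tmul b' a =>
      change (TensorProduct.rid A B) (b' ⊗ₜ (a : A)) ∈ _
      rw [TensorProduct.rid_tmul, Algebra.smul_def]
      exact Ideal.mul_mem_right _ _ (Ideal.mem_map_of_mem _ (hker a a.2))
    | add y₁ y₂ h₁ h₂ =>
      rw [map_add, map_add]
      exact Ideal.add_mem _ h₁ h₂
  rw [← hμ, ← hy]
  exact key y

/-- `IsBaseChange` form. -/
theorem annihilator_of_isBaseChange [Module.Flat A B] [Module.Finite A M] {N : Type*}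
    [AddCommGroup N] [Module A N] [Module B N] [IsScalarTower A B N] (g : M →ₗ[A] N)
    (hg : IsBaseChange B g) :
    Module.annihilator B N = (Module.annihilator A M).map (algebraMap A B) := by
  rw [← hg.equiv.annihilator_eq]
  exact annihilator_tensor_of_flat A B M

end Groth.Agent.Lib.H90AnnFlat
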