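/-
helper90: ideal sheaf pullback on affines, and the annihilator ideal of a flat pullback.
* `comap_ideal_eq_map`: `(J.comap f).ideal V = (J.ideal U).map (f.appLE U V e)` for affine `V ≤ f⁻¹U`.
* `annihilator_pullback_of_flat`: `Ann Γ(f^*F, V) = (Ann Γ(F,U)).map (f.appLE U V e)` for `f` flat, `F` qcoh f.t.
* `comap_ideal_eq_annihilator` (= S9378).
-/
import Mathlib
import Groth.Agent.Lib.H90AnnFlat
import Groth.Agent.Lib.H90AnnIdeal
import Groth.Agent.Lib.ThickeningBC

set_option autoImplicit false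
set_option linter.style.haveILetI false
universe u
open CategoryTheory AlgebraicGeometry TopologicalSpace Opposite TensorProduct

namespace Groth.Agent.Lib.H90AnnPullback

open AlgebraicGeometry.Scheme.Modules Groth.Agent.Lib.H90AnnIdeal Groth.Agent.Lib.UnitBaseChange
  Groth.Agent.Lib.ThickeningBC

variable {X Y : Scheme.{u}}

theorem comap_ideal_eq_map (J : X.IdealSheafData) (f : Y ⟶ X) {U : X.Opens} (hU : IsAffineOpen U)
    {V : Y.Opens} (hV : IsAffineOpen V) (e : V ≤ f ⁻¹ᵁ U) :
    (J.comap f).ideal ⟨V, hV⟩ = (J.ideal ⟨U, hU⟩).map (f.appLE U V e).hom := by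
  have hc : IsPullback (Limits.pullback.fst f J.subschemeι) (Limits.pullback.snd f J.subschemeι) f
      J.subschemeι := IsPullback.of_hasPullback _ _
  haveI : IsClosedImmersion (Limits.pullback.fst f J.subschemeι) := inferInstance
  have P := isPushout_appLE hc hU hV e
  change (Limits.pullback.fst f J.subschemeι).ker.ideal ⟨V, hV⟩ = _
  rw [Scheme.Hom.ker_apply]
  apply le_antisymm
  · have := ker_le_map_of_isPushout P (J.subschemeι.app_surjective U hU)
    rwa [Scheme.IdealSheafData.ker_subschemeι_app J ⟨U, hU⟩] at this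
  · rw [Ideal.map_le_iff_le_comap]
    intro a ha
    rw [← Scheme.IdealSheafData.ker_subschemeι_app J ⟨U, hU⟩, RingHom.mem_ker] at ha
    rw [Ideal.mem_comap, RingHom.mem_ker]
    have hw := congrArg (fun φ => φ.hom a) P.w
    simp only [CommRingCat.hom_comp, RingHom.comp_apply] at hw
    rw [hw]
    erw [ha]
    exact map_zero _

set_option backward.isDefEq.respectTransparency false in
theorem annihilator_pullback_of_flat (f : Y ⟶ X) [Flat f] (F : X.Modules) [F.IsQuasicoherent]
    {U : X.Opens} (hU : IsAffineOpen U) [Module.Finite Γ(X, U) Γ(F, U)]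
    {V : Y.Opens} (hV : IsAffineOpen V) (e : V ≤ f ⁻¹ᵁ U) :
    Module.annihilator Γ(Y, V) Γ((pullback f).obj F, V) =
      (Module.annihilator Γ(X, U) Γ(F, U)).map (f.appLE U V e).hom := by
  have hbc := isBaseChange_unitSec f F hV hU e
  letI : Algebra Γ(X, U) Γ(Y, V) := (f.appLE U V e).hom.toAlgebra
  letI : Module Γ(X, U) Γ((pullback f).obj F, V) := Module.compHom _ (f.appLE U V e).hom
  haveI : IsScalarTower Γ(X, U) Γ(Y, V) Γ((pullback f).obj F, V) :=
    .of_algebraMap_smul fun _ _ => rfl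
  haveI : Module.Flat Γ(X, U) Γ(Y, V) := f.flat_appLE hU hV e
  exact Groth.Agent.Lib.H90AnnFlat.annihilator_of_isBaseChange Γ(X, U) Γ(Y, V) Γ(F, U)
    (unitSec f F e) hbc

/-- For `f` flat and `J` the annihilator ideal sheaf of a quasi-coherent finite type module `F`, the pullback ideal
sheaf `J.comap f` is the annihilator ideal sheaf of `f^*F`. -/
theorem comap_ideal_eq_annihilator (f : Y ⟶ X) [Flat f] (F : X.Modules) [F.IsQuasicoherent]
    (hft : ∀ U : X.affineOpens, Module.Finite Γ(X, U.1) Γ(F, U.1))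
    (hft' : ∀ V : Y.affineOpens, Module.Finite Γ(Y, V.1) Γ((pullback f).obj F, V.1))
    (J : X.IdealSheafData)
    (hJ : ∀ U : X.affineOpens, J.ideal U = Module.annihilator Γ(X, U.1) Γ(F, U.1))
    (V : Y.affineOpens) :
    (J.comap f).ideal V = Module.annihilator Γ(Y, V.1) Γ((pullback f).obj F, V.1) := by
  suffices h : J.comap f = annIdeal ((pullback f).obj F) hft' by rw [h]; rfl
  -- the affine opens of `Y` mapping into an affine open of `X`
  let ι := {W : Y.affineOpens // ∃ U : X.affineOpens, W.1 ≤ f ⁻¹ᵁ U.1}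
  apply Scheme.IdealSheafData.ext_of_iSup_eq_top (fun W : ι => W.1)
  · rw [eq_top_iff]
    intro y _
    obtain ⟨_, ⟨U, hU : IsAffineOpen U, rfl⟩, hyU, -⟩ :=
      X.isBasis_affineOpens.exists_subset_of_mem_open (Set.mem_univ (f y)) isOpen_univ
    obtain ⟨_, ⟨W, hW : IsAffineOpen W, rfl⟩, hyW, hWU⟩ :=
      Y.isBasis_affineOpens.exists_subset_of_mem_open (show y ∈ (f ⁻¹ᵁ U : Set Y) from hyU)
        (f ⁻¹ᵁ U).2
    exact Opens.mem_iSup.mpr ⟨⟨⟨W, hW⟩, ⟨U, hU⟩, hWU⟩, hyW⟩
  · rintro ⟨W, U, hWU⟩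
    haveI := hft U
    change (J.comap f).ideal W = Module.annihilator Γ(Y, W.1) Γ((pullback f).obj F, W.1)
    rw [comap_ideal_eq_map J f U.2 W.2 hWU, annihilator_pullback_of_flat f F U.2 W.2 hWU, hJ]

end Groth.Agent.Lib.H90AnnPullback
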