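import Mathlib
import Groth.Prelude.Def_Frob
import Groth.Agent.Lib.H90AnnPullback

/-!
# Geometric Frobenius twists contract ideal sheaves (helper37)

Let `C = C₀ ×_{k₀} K` with `K` algebraically closed of characteristic `p`, and `Fr : C ⟶ C` an
endomorphism over `K` lifting the `N`-th power of the absolute Frobenius of `C₀`.

* `frobPow_spec`: the `N`-th power of the absolute Frobenius is the identity on opens and
  `s ↦ s ^ p ^ N` on sections.
* `exists_affine_chart`: affine charts of a fibre product and the pushout square of sections.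
* `eq_top_of_isPushout`: a pushout of commutative rings is generated by the two images.
* `comap_le_radical_pow`: for every ideal sheaf `M` on `C`, `M.comap Fr ≤ (M.comap Fr).radical ^ p ^ N`.
-/

set_option autoImplicit false
universe u

open CategoryTheory Limits AlgebraicGeometry

namespace Groth.Agent.Lib.FrobContract37

theorem appLE_congr {X Y : Scheme.{u}} {a b : X ⟶ Y} (h : a = b) (V : Y.Opens) (W : X.Opens)
    (e : W ≤ a ⁻¹ᵁ V) : a.appLE V W e = b.appLE V W (h ▸ e) := by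
  subst h; rfl

/-- The `N`-th power of the absolute Frobenius: identity on opens, `s ↦ s ^ p ^ N` on sections. -/
theorem frobPow_spec (X : Scheme.{u}) (p : ℕ) [Fact p.Prime] [FrobSch.IsCharP X p] (N : ℕ) :
    ∀ G : X ⟶ X, G = End.asHom (End.of (FrobSch.frob X p) ^ N) →
      (∀ U : X.Opens, G ⁻¹ᵁ U = U) ∧
        ∀ (U : X.Opens) (e : U ≤ G ⁻¹ᵁ U) (s : Γ(X, U)), (G.appLE U U e).hom s = s ^ (p ^ N) := by
  induction N with
  | zero =>
    intro G hG
    rw [pow_zero] at hG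
    have hG' : G = 𝟙 X := hG
    subst hG'
    refine ⟨fun U ↦ rfl, fun U e s ↦ ?_⟩
    rw [pow_zero, pow_one]
    change (X.presheaf.map (𝟙 (Opposite.op U))).hom ((𝟙 Γ(X, U) : Γ(X, U) ⟶ Γ(X, U)).hom s) = s
    rw [X.presheaf.map_id]
    rfl
  | succ N ih =>
    intro G hG
    rw [pow_succ] at hG
    have hG' : G = FrobSch.frob X p ≫ End.asHom (End.of (FrobSch.frob X p) ^ N) := hG
    obtain ⟨h1, h2⟩ := ih _ rfl
    set GN : X ⟶ X := End.asHom (End.of (FrobSch.frob X p) ^ N) with hGN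
    subst hG'
    have hpre : ∀ U : X.Opens, (FrobSch.frob X p ≫ GN) ⁻¹ᵁ U = U := by
      intro U
      rw [Scheme.Hom.comp_preimage, h1 U]
      rfl
    refine ⟨hpre, fun U e s ↦ ?_⟩
    have e1 : U ≤ GN ⁻¹ᵁ U := (h1 U).ge
    have e2 : U ≤ (FrobSch.frob X p) ⁻¹ᵁ U := le_rfl
    have h3 : (FrobSch.frob X p ≫ GN).appLE U U e =
        GN.appLE U U e1 ≫ (FrobSch.frob X p).appLE U U e2 := by
      rw [Scheme.Hom.appLE_comp_appLE]
    have h4 : (FrobSch.frob X p).appLE U U e2 = (FrobSch.frob X p).app U :=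
      (Scheme.Hom.app_eq_appLE _).symm
    rw [h3, h4]
    change (FrobSch.frob X p).app U ((GN.appLE U U e1).hom s) = _
    rw [FrobSch.frob_app, h2 U e1 s, ← pow_mul, ← pow_succ]

/-- Affine charts of a fibre product, with the pushout square of sections. -/
theorem exists_affine_chart {P X Y Z : Scheme.{u}} {fst : P ⟶ X} {snd : P ⟶ Y} {f : X ⟶ Z}
    {g : Y ⟶ Z} (h : IsPullback fst snd f g) {V : Z.Opens} (hV : IsAffineOpen V) {W : X.Opens}
    (hW : IsAffineOpen W) (hWV : W ≤ f ⁻¹ᵁ V) {V' : Y.Opens} (hV' : IsAffineOpen V')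
    (hV'V : V' ≤ g ⁻¹ᵁ V) :
    IsAffineOpen (fst ⁻¹ᵁ W ⊓ snd ⁻¹ᵁ V') ∧
      IsPushout (f.appLE V W hWV) (g.appLE V V' hV'V)
        (fst.appLE W (fst ⁻¹ᵁ W ⊓ snd ⁻¹ᵁ V') inf_le_left)
        (snd.appLE V' (fst ⁻¹ᵁ W ⊓ snd ⁻¹ᵁ V') inf_le_right) := by
  constructor
  · have : IsAffine V := hV
    have : IsAffine V' := hV'
    have : IsAffine W := hW
    exact .of_isIso (Scheme.Hom.isPullback_resLE h hV'V hWV rfl).isoPullback.hom
  · exact (isIso_pushoutSection_iff h hV'V hWV rfl).mp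
      (isIso_pushoutSection_of_isAffineOpen h hV'V hWV rfl hV hV' hW)

/-- A pushout of commutative rings is generated by the images of the two factors. -/
theorem eq_top_of_isPushout {R A K B : CommRingCat.{u}} {f : R ⟶ A} {g : R ⟶ K} {inl : A ⟶ B}
    {inr : K ⟶ B} (h : IsPushout f g inl inr) (S : Subring B) (h1 : ∀ a, inl.hom a ∈ S)
    (h2 : ∀ c, inr.hom c ∈ S) : S = ⊤ := by
  let Sc : CommRingCat.{u} := CommRingCat.of S
  let a : A ⟶ Sc := CommRingCat.ofHom (inl.hom.codRestrict S h1)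
  let b : K ⟶ Sc := CommRingCat.ofHom (inr.hom.codRestrict S h2)
  have hab : f ≫ a = g ≫ b := by
    ext r
    exact congr($(h.w).hom r)
  let d : B ⟶ Sc := h.desc a b hab
  let ι : Sc ⟶ B := CommRingCat.ofHom S.subtype
  have hid : d ≫ ι = 𝟙 B := by
    apply h.hom_ext
    · rw [← Category.assoc, h.inl_desc]; ext x; rfl
    · rw [← Category.assoc, h.inr_desc]; ext x; rfl
  rw [eq_top_iff]
  intro x _
  have : ι.hom (d.hom x) = x := congr($(hid).hom x)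
  rw [← this]
  exact (d.hom x).2

section Ring

variable {B : Type*} [CommRing B]

/-- The iterated `p`-power map as a ring endomorphism. -/
noncomputable def powHomIter (p : ℕ) [Fact p.Prime] (h : (p : B) = 0) (N : ℕ) : B →+* B where
  toFun b := b ^ (p ^ N)
  map_one' := one_pow _
  map_mul' x y := mul_pow x y _
  map_zero' := zero_pow (pow_pos (Fact.out : p.Prime).pos N).ne'
  map_add' x y := by
    rcases subsingleton_or_nontrivial B with hB | hB
    · exact Subsingleton.elim _ _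
    · have : CharP B p := (CharP.charP_iff_prime_eq_zero Fact.out).2 h
      exact add_pow_char_pow x y p N

/-- If `Φ` takes values in `q`-th powers then `M.map Φ ≤ (M.map Φ).radical ^ q`. -/
theorem map_le_radical_pow (Φ : B →+* B) (q : ℕ) (hΦ : ∀ s, ∃ t, Φ s = t ^ q)
    (M : Ideal B) : M.map Φ ≤ (M.map Φ).radical ^ q := by
  rw [Ideal.map_le_iff_le_comap]
  intro s hs
  rw [Ideal.mem_comap]
  obtain ⟨t, ht⟩ := hΦ s
  rw [ht]
  apply Ideal.pow_mem_pow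
  exact ⟨q, ht ▸ Ideal.mem_map_of_mem Φ hs⟩

end Ring

section Main

variable {C C₀ : Scheme.{u}} (p : ℕ) [Fact p.Prime]
  (k₀ : Type u) [Field k₀] (K : Type u) [Field K] [Algebra k₀ K] [IsAlgClosed K]
  (f₀ : C₀ ⟶ Spec (CommRingCat.of k₀)) [FrobSch.IsCharP C₀ p]
  (πC₀ : C ⟶ C₀) (πK : C ⟶ Spec (CommRingCat.of K))
  (hC : IsPullback πC₀ πK f₀ (Spec.map (CommRingCat.ofHom (algebraMap k₀ K))))
  (N : ℕ) (Fr : C ⟶ C)
  (hFr₀ : Fr ≫ πC₀ = πC₀ ≫ End.asHom (End.of (FrobSch.frob C₀ p) ^ N))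
  (hFrK : Fr ≫ πK = πK)

include hC hFr₀ hFrK in
/-- On the chart `π⁻¹(U₀)` the twist `Fr` takes values in `p ^ N`-th powers. -/
theorem chart_spec (U₀ : C₀.Opens) (hU₀ : IsAffineOpen U₀) :
    IsAffineOpen (πC₀ ⁻¹ᵁ U₀ ⊓ πK ⁻¹ᵁ ⊤) ∧
      ∃ e : (πC₀ ⁻¹ᵁ U₀ ⊓ πK ⁻¹ᵁ ⊤) ≤ Fr ⁻¹ᵁ (πC₀ ⁻¹ᵁ U₀ ⊓ πK ⁻¹ᵁ ⊤),
        ∀ s, ∃ t, (Fr.appLE _ _ e).hom s = t ^ (p ^ N) := by
  set G : C₀ ⟶ C₀ := End.asHom (End.of (FrobSch.frob C₀ p) ^ N) with hG
  obtain ⟨hGpre, hGapp⟩ := frobPow_spec C₀ p N G rfl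
  set sι := Spec.map (CommRingCat.ofHom (algebraMap k₀ K)) with hsι
  obtain ⟨hWaff, hpo⟩ := exists_affine_chart hC (isAffineOpen_top (Spec (CommRingCat.of k₀)))
    hU₀ (le_top : U₀ ≤ f₀ ⁻¹ᵁ ⊤) (isAffineOpen_top (Spec (CommRingCat.of K)))
    (le_top : (⊤ : (Spec (CommRingCat.of K)).Opens) ≤ sι ⁻¹ᵁ ⊤)
  set W : C.Opens := πC₀ ⁻¹ᵁ U₀ ⊓ πK ⁻¹ᵁ ⊤ with hW
  refine ⟨hWaff, ?_⟩
  have e : W ≤ Fr ⁻¹ᵁ W := by
    rw [hW, Scheme.Hom.preimage_inf, ← Scheme.Hom.comp_preimage, ← Scheme.Hom.comp_preimage,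
      hFr₀, hFrK, Scheme.Hom.comp_preimage, hGpre]
  refine ⟨e, ?_⟩
  have hpC : FrobSch.IsCharP C p := FrobSch.IsCharP.of_hom πC₀ p
  have hpW : (p : Γ(C, W)) = 0 := FrobSch.natCast_eq_zero_app C p W
  set Φ := Fr.appLE W W e with hΦ
  -- compatibility with the two factors
  have h1 : πC₀.appLE U₀ W inf_le_left ≫ Φ =
      G.appLE U₀ U₀ (hGpre U₀).ge ≫ πC₀.appLE U₀ W inf_le_left := by
    rw [hΦ, Scheme.Hom.appLE_comp_appLE, Scheme.Hom.appLE_comp_appLE]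
    exact appLE_congr hFr₀ _ _ _
  have h2 : πK.appLE ⊤ W inf_le_right ≫ Φ = πK.appLE ⊤ W inf_le_right := by
    rw [hΦ, Scheme.Hom.appLE_comp_appLE]
    exact appLE_congr hFrK _ _ _
  have hq0 : 0 < p ^ N := pow_pos (Fact.out : p.Prime).pos N
  let ψ : Γ(C, W) →+* Γ(C, W) := powHomIter p hpW N
  let S : Subring Γ(C, W) := ψ.range.comap Φ.hom
  have hS : S = ⊤ := by
    apply eq_top_of_isPushout hpo S
    · intro a
      refine ⟨(πC₀.appLE U₀ W inf_le_left).hom a, ?_⟩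
      have := congr($(h1).hom a)
      change Φ.hom ((πC₀.appLE U₀ W inf_le_left).hom a) =
        (πC₀.appLE U₀ W inf_le_left).hom ((G.appLE U₀ U₀ (hGpre U₀).ge).hom a) at this
      rw [this, hGapp, map_pow]
      rfl
    · intro c
      obtain ⟨c₁, hc₁⟩ := IsAlgClosed.exists_pow_nat_eq
        ((Scheme.ΓSpecIso (CommRingCat.of K)).hom.hom c) hq0
      refine ⟨(πK.appLE ⊤ W inf_le_right).hom ((Scheme.ΓSpecIso (CommRingCat.of K)).inv.hom c₁), ?_⟩
      have := congr($(h2).hom c)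
      change Φ.hom ((πK.appLE ⊤ W inf_le_right).hom c) = (πK.appLE ⊤ W inf_le_right).hom c at this
      rw [this]
      change ((πK.appLE ⊤ W inf_le_right).hom ((Scheme.ΓSpecIso (CommRingCat.of K)).inv.hom c₁)) ^
        (p ^ N) = _
      rw [← map_pow, ← map_pow, hc₁]
      congr 1
      exact congr($((Scheme.ΓSpecIso (CommRingCat.of K)).hom_inv_id).hom c)
  intro s
  have hs : s ∈ S := hS ▸ Subring.mem_top s
  obtain ⟨t, ht⟩ := hs
  exact ⟨t, ht.symm⟩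

include hC hFr₀ hFrK in
/-- The inverse image of any ideal sheaf under the twist `Fr` is contained in the `p ^ N`-th power
of its radical. -/
theorem comap_le_radical_pow (M : C.IdealSheafData) :
    M.comap Fr ≤ (M.comap Fr).radical ^ (p ^ N) := by
  have hq0 : 0 < p ^ N := pow_pos (Fact.out : p.Prime).pos N
  refine Scheme.IdealSheafData.le_of_iSup_eq_top
    (fun U₀ : C₀.affineOpens ↦ (⟨πC₀ ⁻¹ᵁ U₀.1 ⊓ πK ⁻¹ᵁ ⊤,
      (chart_spec p k₀ K f₀ πC₀ πK hC N Fr hFr₀ hFrK U₀.1 U₀.2).1⟩ : C.affineOpens)) ?_ ?_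
  · rw [eq_top_iff]
    intro x _
    obtain ⟨_, ⟨U₀, hU₀, rfl⟩, hxU₀, -⟩ :=
      C₀.isBasis_affineOpens.exists_subset_of_mem_open (Set.mem_univ (πC₀ x)) isOpen_univ
    exact TopologicalSpace.Opens.mem_iSup.mpr ⟨⟨U₀, hU₀⟩, hxU₀, trivial⟩
  · intro U₀
    obtain ⟨hWaff, e, hpow⟩ := chart_spec p k₀ K f₀ πC₀ πK hC N Fr hFr₀ hFrK U₀.1 U₀.2
    rw [Scheme.IdealSheafData.ideal_pow, Pi.pow_apply, Scheme.IdealSheafData.radical_ideal,
      Groth.Agent.Lib.H90AnnPullback.comap_ideal_eq_map M Fr hWaff hWaff e]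
    exact map_le_radical_pow _ _ hpow _

end Main

end Groth.Agent.Lib.FrobContract37
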