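import Mathlib
import Groth.Agent.Lib.FrobContract37
import Groth.Agent.Lib.IdealSheafComap

/-!
# Contracting ideal sheaves: arithmetic and restriction to opens (helper37)

* `contract_of_le_radical_pow`: `L ≤ L.radical ^ q`, `L.radical ≤ J.radical`, `J.radical ^ d ≤ J`,
  `d < q` imply `L ≤ J` and `L ^ d ≤ J ^ (d + 1)`.
* `comap_radical_of_isOpenImmersion`: radical commutes with restriction to an open subscheme.
* `isClosed_of_subset_of_isClosed_of_isDiscrete`: subsets of closed discrete sets are closed.
-/

set_option autoImplicit false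
universe u

open CategoryTheory Limits AlgebraicGeometry

namespace Groth.Agent.Lib.FrobContract37b

theorem contract_of_le_radical_pow {Y : Scheme.{u}} (L J : Y.IdealSheafData) (q d : ℕ)
    (h1 : L ≤ L.radical ^ q) (h2 : L.radical ≤ J.radical) (h3 : J.radical ^ d ≤ J) (hn : d < q) :
    L ≤ J ∧ L ^ d ≤ J ^ (d + 1) := by
  constructor
  · intro U
    have a1 := h1 U
    have a2 := h2 U
    have a3 := h3 U
    rw [Scheme.IdealSheafData.ideal_pow, Pi.pow_apply] at a1 a3
    refine a1.trans (le_trans ?_ a3)
    exact (Ideal.pow_right_mono a2 _).trans (Ideal.pow_le_pow_right hn.le)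
  · intro U
    have a1 := h1 U
    have a2 := h2 U
    have a3 := h3 U
    rw [Scheme.IdealSheafData.ideal_pow, Pi.pow_apply] at a1 a3
    rw [Scheme.IdealSheafData.ideal_pow, Pi.pow_apply, Scheme.IdealSheafData.ideal_pow, Pi.pow_apply]
    calc L.ideal U ^ d ≤ ((J.radical.ideal U) ^ q) ^ d :=
          Ideal.pow_right_mono (a1.trans (Ideal.pow_right_mono a2 _)) d
      _ = ((J.radical.ideal U) ^ d) ^ q := by rw [← pow_mul, ← pow_mul, mul_comm]
      _ ≤ (J.ideal U) ^ q := Ideal.pow_right_mono a3 _
      _ ≤ (J.ideal U) ^ (d + 1) := Ideal.pow_le_pow_right hn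

theorem comap_radical_of_isOpenImmersion {X Y : Scheme.{u}} (f : X ⟶ Y) [IsOpenImmersion f]
    (K : Y.IdealSheafData) : K.radical.comap f = (K.comap f).radical := by
  ext U : 2
  rw [Scheme.IdealSheafData.ideal_comap_of_isOpenImmersion, Scheme.IdealSheafData.radical_ideal,
    Scheme.IdealSheafData.radical_ideal, Scheme.IdealSheafData.ideal_comap_of_isOpenImmersion,
    Ideal.comap_radical]

theorem isClosed_of_subset_of_isClosed_of_isDiscrete {T : Type*} [TopologicalSpace T] {R D : Set T}
    (hsub : R ⊆ D) (hcl : IsClosed D) (hdisc : IsDiscrete D) : IsClosed R := by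
  have hD := isClosed_and_discrete_iff.mp ⟨hcl, hdisc⟩
  exact (isClosed_and_discrete_iff.mpr fun y ↦
    (hD y).mono_right (Filter.principal_mono.mpr hsub)).1

end Groth.Agent.Lib.FrobContract37b
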