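import Mathlib

/-!
# Frobenius-semilinear maps over separably closed fields, part 1

Basic facts: injectivity of a Frobenius-semilinear map whose range spans, Artin–Schreier roots,
the number of solutions of `d ^ p = d`, and the auxiliary `p`-polynomials used to find fixed
vectors.
-/

set_option autoImplicit false
universe u v

namespace Groth.Agent.Lib.FrobLang

open Polynomial Module

section basic

variable (p : ℕ) [Fact p.Prime] {k : Type u} [Field k] [CharP k p]
variable {V : Type v} [AddCommGroup V] [Module k V]

/-- Bundle an additive Frobenius-semilinear map as a semilinear map. -/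
def semi (T : V →+ V) (hT : ∀ (c : k) (v : V), T (c • v) = c ^ p • T v) :
    V →ₛₗ[frobenius k p] V where
  toFun := T
  map_add' := T.map_add
  map_smul' c v := by
    rw [hT c v]
    rfl

@[simp] lemma semi_apply (T : V →+ V) (hT : ∀ (c : k) (v : V), T (c • v) = c ^ p • T v) (v : V) :
    semi p T hT v = T v := rfl

variable {p}

omit [Fact p.Prime] [CharP k p] in
lemma map_sum_smul (T : V →+ V) (hT : ∀ (c : k) (v : V), T (c • v) = c ^ p • T v)
    {ι : Type*} (s : Finset ι) (c : ι → k) (w : ι → V) :
    T (∑ i ∈ s, c i • w i) = ∑ i ∈ s, c i ^ p • T (w i) := by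
  rw [map_sum]
  exact Finset.sum_congr rfl fun i _ => hT _ _

omit [CharP k p] in
/-- A Frobenius-semilinear map of a finite-dimensional space whose range spans is injective. -/
theorem injective_of_span [Module.Finite k V] (T : V →+ V)
    (hT : ∀ (c : k) (v : V), T (c • v) = c ^ p • T v)
    (hspan : Submodule.span k (Set.range T) = ⊤) : Function.Injective T := by
  classical
  let b := Module.finBasis k V
  have hle : Submodule.span k (Set.range T) ≤ Submodule.span k (Set.range (fun i => T (b i))) := by
    rw [Submodule.span_le]
    rintro _ ⟨x, rfl⟩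
    have hx : x = ∑ i, b.repr x i • b i := (b.sum_repr x).symm
    rw [hx, map_sum_smul T hT]
    refine Submodule.sum_mem _ fun i _ => Submodule.smul_mem _ _ (Submodule.subset_span ⟨i, rfl⟩)
  have htop : ⊤ ≤ Submodule.span k (Set.range (fun i => T (b i))) := hspan ▸ hle
  have hli : LinearIndependent k (fun i => T (b i)) :=
    linearIndependent_of_top_le_span_of_card_eq_finrank htop (by simp)
  rw [injective_iff_map_eq_zero]
  intro x hx0
  have hx : x = ∑ i, b.repr x i • b i := (b.sum_repr x).symm
  rw [hx, map_sum_smul T hT] at hx0
  have h0 := Fintype.linearIndependent_iff.mp hli _ hx0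
  have h1 : ∀ i, b.repr x i = 0 := fun i => by
    have := h0 i
    exact pow_eq_zero_iff (Fact.out : p.Prime).ne_zero |>.mp this
  rw [hx]
  exact Finset.sum_eq_zero fun i _ => by rw [h1 i, zero_smul]

end basic

section poly

variable (p : ℕ) [hp : Fact p.Prime] {k : Type u} [Field k] [CharP k p]

omit hp [CharP k p] in
lemma separable_of_derivative_eq_neg_one (f : k[X]) (h : derivative f = -1) : f.Separable := by
  rw [separable_def, h]
  exact isCoprime_one_right.neg_right

/-- Artin–Schreier: `d ^ p - d = c` is solvable in a separably closed field. -/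
theorem exists_pow_sub_eq [IsSepClosed k] (c : k) : ∃ d : k, d ^ p - d = c := by
  have hp1 : 1 < p := hp.out.one_lt
  let f : k[X] := X ^ p - X - C c
  have hXp : derivative (X ^ p : k[X]) = 0 := by
    rw [derivative_X_pow, CharP.cast_eq_zero k p, C_0, zero_mul]
  have hder : derivative f = -1 := by
    simp only [f, derivative_sub, hXp, derivative_X, derivative_C, zero_sub, sub_zero]
  have hdeg : f.natDegree = p := by
    have h1 : (X ^ p - X : k[X]).natDegree = p := FiniteField.X_pow_card_sub_X_natDegree_eq k hp1
    have : (C c : k[X]).natDegree < (X ^ p - X : k[X]).natDegree := by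
      rw [h1, natDegree_C]
      exact hp.out.pos
    rw [natDegree_sub_eq_left_of_natDegree_lt this, h1]
  have hdeg' : f.degree ≠ 0 := by
    intro h0
    have := natDegree_eq_of_degree_eq_some h0
    rw [hdeg] at this
    exact hp.out.ne_zero this
  obtain ⟨d, hd⟩ := IsSepClosed.exists_root f hdeg' (separable_of_derivative_eq_neg_one f hder)
  refine ⟨d, ?_⟩
  have : eval d f = 0 := hd
  simp only [f, eval_sub, eval_pow, eval_X, eval_C] at this
  exact sub_eq_zero.mp this

/-- In a separably closed field of characteristic `p` the equation `d ^ p = d` has exactly `p`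
solutions. -/
theorem card_pow_eq_self [IsSepClosed k] : Nat.card {d : k // d ^ p = d} = p := by
  classical
  have hp1 : 1 < p := hp.out.one_lt
  let f : k[X] := X ^ p - X
  have hdeg : f.natDegree = p := FiniteField.X_pow_card_sub_X_natDegree_eq k hp1
  have hsep : f.Separable := galois_poly_separable p p dvd_rfl
  have hsplit : f.Splits := IsSepClosed.splits_of_separable f hsep
  have hcard : f.roots.card = p := by rw [← hsplit.natDegree_eq_card_roots, hdeg]
  have hnd : f.roots.Nodup := nodup_roots hsep
  have hf0 : f ≠ 0 := by
    intro h0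
    rw [h0, natDegree_zero] at hdeg
    exact hp.out.ne_zero hdeg.symm
  have hmem : ∀ d : k, d ∈ f.roots.toFinset ↔ d ^ p = d := by
    intro d
    rw [Multiset.mem_toFinset, mem_roots hf0, IsRoot.def]
    simp only [f, eval_sub, eval_pow, eval_X]
    exact sub_eq_zero
  rw [Nat.card_congr (Equiv.subtypeEquivRight (fun d => (hmem d).symm)), Nat.card_eq_fintype_card,
    Fintype.card_coe, Multiset.toFinset_card_of_nodup hnd, hcard]

end poly

end Groth.Agent.Lib.FrobLang
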