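import Groth.Agent.Lib.FrobLang1

/-!
# Frobenius-semilinear maps over separably closed fields, part 2

Existence of a nonzero fixed vector of an injective Frobenius-semilinear map of a nonzero
finite-dimensional space over a separably closed field.
-/

set_option autoImplicit false
universe u v

namespace Groth.Agent.Lib.FrobLang

open Polynomial Module

section ppoly

variable (p : ℕ) [hp : Fact p.Prime] {k : Type u} [Field k] [CharP k p]

/-- The auxiliary `p`-polynomials: `Xs 0 = a₀ X^p`, `Xs (i+1) = (Xs i)^p + a_{i+1} X^p`. -/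
noncomputable def Xs (a : ℕ → k) : ℕ → k[X]
  | 0 => C (a 0) * X ^ p
  | (i + 1) => (Xs a i) ^ p + C (a (i + 1)) * X ^ p

omit hp [CharP k p] in
lemma Xs_zero (a : ℕ → k) : Xs p a 0 = C (a 0) * X ^ p := rfl

omit hp [CharP k p] in
lemma Xs_succ (a : ℕ → k) (i : ℕ) : Xs p a (i + 1) = (Xs p a i) ^ p + C (a (i + 1)) * X ^ p := rfl

omit hp in
lemma derivative_C_mul_X_pow_p (c : k) : derivative (C c * X ^ p : k[X]) = 0 := by
  rw [derivative_C_mul, derivative_X_pow, CharP.cast_eq_zero k p, C_0, zero_mul, mul_zero]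

omit hp in
lemma derivative_Xs (a : ℕ → k) (i : ℕ) : derivative (Xs p a i) = 0 := by
  cases i with
  | zero => rw [Xs_zero, derivative_C_mul_X_pow_p]
  | succ i =>
    rw [Xs_succ, derivative_add, derivative_C_mul_X_pow_p, derivative_pow,
      CharP.cast_eq_zero k p, C_0, zero_mul, zero_mul, add_zero]

omit hp [CharP k p] in
lemma eval_Xs_zero (a : ℕ → k) (z : k) : eval z (Xs p a 0) = a 0 * z ^ p := by
  simp [Xs_zero]

omit hp [CharP k p] in
lemma eval_Xs_succ (a : ℕ → k) (z : k) (i : ℕ) :
    eval z (Xs p a (i + 1)) = (eval z (Xs p a i)) ^ p + a (i + 1) * z ^ p := by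
  simp [Xs_succ]

omit [CharP k p] in
lemma natDegree_Xs_succ (a : ℕ → k) (i : ℕ) (hge : p ≤ natDegree (Xs p a i)) :
    natDegree (Xs p a (i + 1)) = p * natDegree (Xs p a i) := by
  have hp2 : 2 ≤ p := hp.out.two_le
  have h1 : natDegree ((Xs p a i) ^ p) = p * natDegree (Xs p a i) := natDegree_pow _ _
  have h2 : natDegree (C (a (i + 1)) * X ^ p : k[X]) ≤ p := natDegree_C_mul_X_pow_le _ _
  have h3 : natDegree (C (a (i + 1)) * X ^ p : k[X]) < natDegree ((Xs p a i) ^ p) := by
    rw [h1]
    calc natDegree (C (a (i + 1)) * X ^ p : k[X]) ≤ p := h2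
      _ < p * 2 := by omega
      _ ≤ p * natDegree (Xs p a i) := Nat.mul_le_mul_left p (le_trans hp2 hge)
  rw [Xs_succ, natDegree_add_eq_left_of_natDegree_lt h3, h1]

omit [CharP k p] in
lemma natDegree_Xs_ge (a : ℕ → k) (i : ℕ) (h : Xs p a i ≠ 0) : p ≤ natDegree (Xs p a i) := by
  induction i with
  | zero =>
    have ha : a 0 ≠ 0 := by
      intro h0
      apply h
      rw [Xs_zero, h0, C_0, zero_mul]
    rw [Xs_zero, natDegree_C_mul_X_pow p _ ha]
  | succ i ih =>
    by_cases h0 : Xs p a i = 0
    · have hX : Xs p a (i + 1) = C (a (i + 1)) * X ^ p := by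
        rw [Xs_succ, h0, zero_pow hp.out.ne_zero, zero_add]
      have ha : a (i + 1) ≠ 0 := by
        intro h1
        apply h
        rw [hX, h1, C_0, zero_mul]
      rw [hX, natDegree_C_mul_X_pow p _ ha]
    · have hge := ih h0
      rw [natDegree_Xs_succ p a i hge]
      calc p = p * 1 := (mul_one p).symm
        _ ≤ p * natDegree (Xs p a i) := Nat.mul_le_mul_left p (le_trans hp.out.one_le hge)

omit [CharP k p] in
lemma Xs_succ_ne_zero (a : ℕ → k) (i : ℕ) (h : Xs p a i ≠ 0) : Xs p a (i + 1) ≠ 0 := by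
  have hge := natDegree_Xs_ge p a i h
  intro h0
  have h1 := natDegree_Xs_succ p a i hge
  rw [h0, natDegree_zero] at h1
  have : 0 < p * natDegree (Xs p a i) :=
    Nat.mul_pos hp.out.pos (lt_of_lt_of_le hp.out.pos hge)
  omega

omit [CharP k p] in
lemma Xs_ne_zero_of_le (a : ℕ → k) {l m : ℕ} (hlm : l ≤ m) (h : Xs p a l ≠ 0) :
    Xs p a m ≠ 0 := by
  induction m, hlm using Nat.le_induction with
  | base => exact h
  | succ m _ ih => exact Xs_succ_ne_zero p a m ih

omit [CharP k p] in
lemma Xs_ne_zero (a : ℕ → k) {j s : ℕ} (hjs : j ≤ s) (h : a j ≠ 0) : Xs p a s ≠ 0 := by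
  have hex : ∃ l ≤ j, Xs p a l ≠ 0 := by
    cases j with
    | zero =>
      refine ⟨0, le_rfl, ?_⟩
      rw [Xs_zero]
      exact mul_ne_zero (C_ne_zero.mpr h) (pow_ne_zero _ X_ne_zero)
    | succ j =>
      by_cases h0 : Xs p a j = 0
      · refine ⟨j + 1, le_rfl, ?_⟩
        rw [Xs_succ, h0, zero_pow hp.out.ne_zero, zero_add]
        exact mul_ne_zero (C_ne_zero.mpr h) (pow_ne_zero _ X_ne_zero)
      · exact ⟨j, Nat.le_succ j, h0⟩
  obtain ⟨l, hl, hne⟩ := hex
  exact Xs_ne_zero_of_le p a (le_trans hl hjs) hne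

/-- A nonzero solution of `Xs s (z) = z`. -/
theorem exists_root_ne_zero [IsSepClosed k] (a : ℕ → k) (s : ℕ) (h : ∃ j ≤ s, a j ≠ 0) :
    ∃ z : k, z ≠ 0 ∧ eval z (Xs p a s) = z := by
  classical
  obtain ⟨j, hjs, haj⟩ := h
  have hne := Xs_ne_zero p a hjs haj
  have hge := natDegree_Xs_ge p a s hne
  have hp2 : 2 ≤ p := hp.out.two_le
  let f : k[X] := Xs p a s - X
  have hder : derivative f = -1 := by
    simp only [f, derivative_sub, derivative_Xs, derivative_X, zero_sub]
  have hsep : f.Separable := separable_of_derivative_eq_neg_one f hder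
  have hdeg : f.natDegree = natDegree (Xs p a s) := by
    apply natDegree_sub_eq_left_of_natDegree_lt
    rw [natDegree_X]
    omega
  have hsplit : f.Splits := IsSepClosed.splits_of_separable f hsep
  have hcard : f.roots.card = natDegree (Xs p a s) := by
    rw [← hsplit.natDegree_eq_card_roots, hdeg]
  have hnd : f.roots.Nodup := nodup_roots hsep
  have hf0 : f ≠ 0 := by
    intro h0
    rw [h0, natDegree_zero] at hdeg
    omega
  have hex : ∃ z ∈ f.roots, z ≠ 0 := by
    by_contra hno
    push Not at hno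
    have hsub : f.roots.toFinset ⊆ {0} := by
      intro z hz
      rw [Multiset.mem_toFinset] at hz
      rw [Finset.mem_singleton]
      exact hno z hz
    have := Finset.card_le_card hsub
    rw [Multiset.toFinset_card_of_nodup hnd, hcard, Finset.card_singleton] at this
    omega
  obtain ⟨z, hz, hz0⟩ := hex
  refine ⟨z, hz0, ?_⟩
  have : eval z f = 0 := (mem_roots hf0).mp hz
  simp only [f, eval_sub, eval_X] at this
  exact sub_eq_zero.mp this

end ppoly

section fixed

variable (p : ℕ) [hp : Fact p.Prime] {k : Type u} [Field k] [CharP k p] [IsSepClosed k]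
variable {V : Type v} [AddCommGroup V] [Module k V] [Module.Finite k V]

/-- An injective Frobenius-semilinear map of a nonzero finite-dimensional vector space over a
separably closed field has a nonzero fixed vector. -/
theorem exists_fixed_ne_zero [Nontrivial V] (T : V →+ V)
    (hT : ∀ (c : k) (v : V), T (c • v) = c ^ p • T v) (hinj : Function.Injective T) :
    ∃ v : V, v ≠ 0 ∧ T v = v := by
  classical
  obtain ⟨w, hw⟩ := exists_ne (0 : V)
  let u : ℕ → V := fun i => T^[i] w
  have husucc : ∀ i, u (i + 1) = T (u i) := fun i => Function.iterate_succ_apply' T i w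
  have hune : ∀ i, u i ≠ 0 := by
    intro i
    induction i with
    | zero => exact hw
    | succ i ih =>
      rw [husucc]
      intro h
      exact ih (hinj (h.trans (map_zero T).symm))
  let Q : ℕ → Prop := fun m => u m ∈ Submodule.span k (Set.range (fun i : Fin m => u i))
  have hli : ∀ r, (∀ m < r, ¬ Q m) → LinearIndependent k (fun i : Fin r => u i) := by
    intro r
    induction r with
    | zero => intro _; exact linearIndependent_empty_type
    | succ r ih =>
      intro h
      have h1 : (fun i : Fin (r + 1) => u i) = Fin.snoc (fun i : Fin r => u i) (u r) := by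
        ext i
        refine Fin.lastCases ?_ (fun j => ?_) i
        · simp
        · simp
      rw [h1, linearIndependent_finSnoc]
      exact ⟨ih (fun m hm => h m (Nat.lt_succ_of_lt hm)), h r (Nat.lt_succ_self r)⟩
  have hex : ∃ m, Q m := by
    by_contra hno
    push Not at hno
    have h1 := hli (finrank k V + 1) (fun m _ => hno m)
    have h2 := h1.fintype_card_le_finrank
    simp at h2
  obtain ⟨r, hQr, hmin⟩ : ∃ r, Q r ∧ ∀ m < r, ¬ Q m :=
    ⟨Nat.find hex, Nat.find_spec hex, fun m hm => Nat.find_min hex hm⟩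
  have hLI := hli r hmin
  have hr0 : r ≠ 0 := by
    intro h0
    subst h0
    have h1 : u 0 ∈ Submodule.span k (Set.range (fun i : Fin 0 => u i)) := hQr
    have h2 : Set.range (fun i : Fin 0 => u i) = ∅ := Set.range_eq_empty _
    rw [h2, Submodule.span_empty, Submodule.mem_bot] at h1
    exact hw h1
  obtain ⟨s, rfl⟩ := Nat.exists_eq_succ_of_ne_zero hr0
  obtain ⟨c, hc⟩ := (Submodule.mem_span_range_iff_exists_fun k).mp hQr
  let a : ℕ → k := fun i => if h : i < s + 1 then c ⟨i, h⟩ else 0
  have ha : ∑ i ∈ Finset.range (s + 1), a i • u i = u (s + 1) := by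
    rw [← Fin.sum_univ_eq_sum_range (fun i => a i • u i) (s + 1), ← hc]
    refine Finset.sum_congr rfl fun i _ => ?_
    have hi : (i : ℕ) < s + 1 := i.isLt
    have hai : a (i : ℕ) = c i := by
      simp only [a, dif_pos hi]
    change a (i : ℕ) • u i = c i • u i
    rw [hai]
  have hane : ∃ j ≤ s, a j ≠ 0 := by
    by_contra hno
    push Not at hno
    apply hune (s + 1)
    rw [← ha]
    refine Finset.sum_eq_zero fun i hi => ?_
    rw [Finset.mem_range] at hi
    rw [hno i (by omega), zero_smul]
  obtain ⟨z, hz0, hz⟩ := exists_root_ne_zero p a s hane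
  let x : ℕ → k := fun i => eval z (Xs p a i)
  have hx0 : x 0 = a 0 * z ^ p := eval_Xs_zero p a z
  have hxsucc : ∀ i, x (i + 1) = x i ^ p + a (i + 1) * z ^ p := fun i => eval_Xs_succ p a z i
  have hxs : x s = z := hz
  refine ⟨∑ i ∈ Finset.range (s + 1), x i • u i, ?_, ?_⟩
  · intro hv
    rw [← Fin.sum_univ_eq_sum_range (fun i => x i • u i) (s + 1)] at hv
    have h1 := Fintype.linearIndependent_iff.mp hLI (fun i => x i) hv ⟨s, Nat.lt_succ_self s⟩
    exact hz0 (hxs ▸ h1)
  · have hTv : T (∑ i ∈ Finset.range (s + 1), x i • u i) =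
        ∑ i ∈ Finset.range (s + 1), x i ^ p • u (i + 1) := by
      rw [map_sum_smul T hT]
      exact Finset.sum_congr rfl fun i _ => by rw [husucc]
    rw [hTv, Finset.sum_range_succ, hxs, ← ha,
      Finset.sum_range_succ' (fun i => a i • u i) s,
      Finset.sum_range_succ' (fun i => x i • u i) s, hx0, smul_add, Finset.smul_sum, ← add_assoc,
      ← Finset.sum_add_distrib]
    congr 1
    · refine Finset.sum_congr rfl fun i _ => ?_
      rw [hxsucc]
      module
    · module

end fixed

end Groth.Agent.Lib.FrobLang
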