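import Groth.Agent.Lib.FrobLang2

/-!
# Frobenius-semilinear maps over separably closed fields, part 3

The Lang-type theorem over a separably closed field `k` of characteristic `p`: for a
finite-dimensional `k`-vector space `V` and an additive Frobenius-semilinear map `T` whose range
spans `V`, the map `T - 1` is surjective and has exactly `p ^ dim V` fixed vectors.
-/

set_option autoImplicit false
universe u v

namespace Groth.Agent.Lib.FrobLang

open Module

/-- The additive subgroup of fixed vectors of an additive map. -/
def fixedPts {V : Type*} [AddCommGroup V] (T : V →+ V) : AddSubgroup V where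
  carrier := {v | T v = v}
  zero_mem' := map_zero T
  add_mem' := by
    intro a b ha hb
    change T (a + b) = a + b
    have ha' : T a = a := ha
    have hb' : T b = b := hb
    rw [map_add, ha', hb']
  neg_mem' := by
    intro a ha
    change T (-a) = -a
    have ha' : T a = a := ha
    rw [map_neg, ha']

lemma mem_fixedPts {V : Type*} [AddCommGroup V] (T : V →+ V) (v : V) :
    v ∈ fixedPts T ↔ T v = v := Iff.rfl

lemma card_fixedPts {V : Type*} [AddCommGroup V] (T : V →+ V) :
    Nat.card {v : V // T v = v} = Nat.card (fixedPts T) :=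
  Nat.card_congr (Equiv.subtypeEquivRight fun _ => Iff.rfl)

section main

variable (p : ℕ) [hp : Fact p.Prime] {k : Type u} [Field k] [CharP k p] [IsSepClosed k]

/-- The dévissage step along a fixed line. -/
theorem step {V : Type v} [AddCommGroup V] [Module k V]
    (T : V →+ V) (hT : ∀ (c : k) (v : V), T (c • v) = c ^ p • T v)
    (v : V) (hv0 : v ≠ 0) (hv : T v = v)
    (T' : V ⧸ (Submodule.span k {v}) →+ V ⧸ (Submodule.span k {v}))
    (hT' : ∀ x : V, T' (Submodule.Quotient.mk x) = Submodule.Quotient.mk (T x))
    (hsurj' : Function.Surjective (fun x' => T' x' - x')) :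
    Function.Surjective (fun x => T x - x) ∧
      Nat.card (fixedPts T) = p * Nat.card (fixedPts T') := by
  classical
  let W : Submodule k V := Submodule.span k {v}
  have hvW : v ∈ W := Submodule.mem_span_singleton_self v
  -- the key correction lemma
  have hcorr : ∀ x y : V, (Submodule.Quotient.mk (T x - x - y) : V ⧸ W) = 0 →
      ∃ d : k, T (x - d • v) - (x - d • v) = y := by
    intro x y h
    rw [Submodule.Quotient.mk_eq_zero] at h
    obtain ⟨c, hc⟩ := Submodule.mem_span_singleton.mp h
    obtain ⟨d, hd⟩ := exists_pow_sub_eq p c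
    refine ⟨d, ?_⟩
    rw [map_sub, hT, hv]
    have h1 : d ^ p • v - d • v = T x - x - y := by
      rw [← sub_smul, hd, hc]
    have hy : y = T x - x - (d ^ p • v - d • v) := by
      rw [h1]
      abel
    rw [hy]
    abel
  refine ⟨?_, ?_⟩
  · intro y
    obtain ⟨x', hx'⟩ := hsurj' (Submodule.Quotient.mk y)
    obtain ⟨x, rfl⟩ := Submodule.Quotient.mk_surjective W x'
    have h : (Submodule.Quotient.mk (T x - x - y) : V ⧸ W) = 0 := by
      rw [Submodule.Quotient.mk_sub, Submodule.Quotient.mk_sub, ← hT']
      exact sub_eq_zero.mpr hx'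
    obtain ⟨d, hd⟩ := hcorr x y h
    exact ⟨x - d • v, hd⟩
  · let φ : fixedPts T →+ fixedPts T' :=
      { toFun := fun x => ⟨Submodule.Quotient.mk x.1, by
          rw [mem_fixedPts, hT']
          exact congrArg _ x.2⟩
        map_zero' := Subtype.ext rfl
        map_add' := fun a b => Subtype.ext rfl }
    have hφ : ∀ x : fixedPts T, (φ x : V ⧸ W) = Submodule.Quotient.mk x.1 := fun _ => rfl
    have hφsurj : Function.Surjective φ := by
      rintro ⟨x', hx'⟩
      obtain ⟨x, rfl⟩ := Submodule.Quotient.mk_surjective W x'
      rw [mem_fixedPts, hT'] at hx'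
      have h : (Submodule.Quotient.mk (T x - x - 0) : V ⧸ W) = 0 := by
        rw [sub_zero, Submodule.Quotient.mk_sub]
        exact sub_eq_zero.mpr hx'
      obtain ⟨d, hd⟩ := hcorr x 0 h
      refine ⟨⟨x - d • v, sub_eq_zero.mp hd⟩, ?_⟩
      apply Subtype.ext
      rw [hφ]
      change (Submodule.Quotient.mk (x - d • v) : V ⧸ W) = Submodule.Quotient.mk x
      rw [Submodule.Quotient.mk_sub, sub_eq_self, Submodule.Quotient.mk_eq_zero]
      exact Submodule.smul_mem _ _ hvW
    -- kernel of φ
    let ψ : {d : k // d ^ p = d} → φ.ker := fun d =>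
      ⟨⟨d.1 • v, by rw [mem_fixedPts, hT, hv, d.2]⟩, by
        rw [AddMonoidHom.mem_ker]
        apply Subtype.ext
        rw [hφ]
        change (Submodule.Quotient.mk (d.1 • v) : V ⧸ W) = 0
        rw [Submodule.Quotient.mk_eq_zero]
        exact Submodule.smul_mem _ _ hvW⟩
    have hψ : Function.Bijective ψ := by
      constructor
      · intro d d' hdd
        have h1 : d.1 • v = d'.1 • v := congrArg (fun t : φ.ker => (t.1.1 : V)) hdd
        exact Subtype.ext (smul_left_injective k hv0 h1)
      · rintro ⟨⟨x, hx⟩, hker⟩
        rw [AddMonoidHom.mem_ker] at hker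
        have h1 : (Submodule.Quotient.mk x : V ⧸ W) = 0 := by
          have := congrArg Subtype.val hker
          rwa [hφ] at this
        rw [Submodule.Quotient.mk_eq_zero] at h1
        obtain ⟨d, rfl⟩ := Submodule.mem_span_singleton.mp h1
        rw [mem_fixedPts, hT, hv] at hx
        exact ⟨⟨d, smul_left_injective k hv0 hx⟩, rfl⟩
    have hker : Nat.card φ.ker = p := by
      rw [← Nat.card_eq_of_bijective ψ hψ, card_pow_eq_self p]
    have hquot : Nat.card (fixedPts T ⧸ φ.ker) = Nat.card (fixedPts T') :=
      Nat.card_congr (QuotientAddGroup.quotientKerEquivOfSurjective φ hφsurj).toEquiv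
    rw [AddSubgroup.card_eq_card_quotient_mul_card_addSubgroup φ.ker, hquot, hker, mul_comm]

/-- Lang-type theorem, inductive form. -/
theorem main_aux (n : ℕ) : ∀ {V : Type v} [AddCommGroup V] [Module k V] [Module.Finite k V]
    (T : V →+ V), (∀ (c : k) (v : V), T (c • v) = c ^ p • T v) →
    Submodule.span k (Set.range T) = ⊤ → finrank k V = n →
    Function.Surjective (fun v => T v - v) ∧ Nat.card (fixedPts T) = p ^ n := by
  induction n with
  | zero =>
    intro V _ _ _ T hT hspan hn
    have hsub : Subsingleton V := Module.finrank_zero_iff.mp hn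
    refine ⟨fun y => ⟨0, Subsingleton.elim _ _⟩, ?_⟩
    rw [pow_zero, Nat.card_eq_one_iff_unique]
    exact ⟨⟨fun a b => Subtype.ext (Subsingleton.elim _ _)⟩, ⟨0⟩⟩
  | succ n ih =>
    intro V _ _ _ T hT hspan hn
    have hnt : Nontrivial V := Module.nontrivial_of_finrank_pos (R := k) (by omega)
    have hinj := injective_of_span T hT hspan
    obtain ⟨v, hv0, hv⟩ := exists_fixed_ne_zero p T hT hinj
    let W : Submodule k V := Submodule.span k {v}
    have hvW : v ∈ W := Submodule.mem_span_singleton_self v
    have hW : W ≤ W.comap (semi p T hT) := by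
      intro x hx
      obtain ⟨c, rfl⟩ := Submodule.mem_span_singleton.mp hx
      change T (c • v) ∈ W
      rw [hT, hv]
      exact Submodule.smul_mem _ _ hvW
    let T' : V ⧸ W →+ V ⧸ W := (W.mapQ W (semi p T hT) hW).toAddMonoidHom
    have hT'mk : ∀ x : V, T' (Submodule.Quotient.mk x) = Submodule.Quotient.mk (T x) :=
      fun x => rfl
    have hT'semi : ∀ (c : k) (x' : V ⧸ W), T' (c • x') = c ^ p • T' x' := by
      intro c x'
      obtain ⟨x, rfl⟩ := Submodule.Quotient.mk_surjective W x'
      rw [← Submodule.Quotient.mk_smul, hT'mk, hT'mk, hT, Submodule.Quotient.mk_smul]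
    have hspan' : Submodule.span k (Set.range T') = ⊤ := by
      rw [eq_top_iff]
      rintro x' -
      obtain ⟨x, rfl⟩ := Submodule.Quotient.mk_surjective W x'
      have hx : x ∈ Submodule.span k (Set.range T) := hspan ▸ Submodule.mem_top
      induction hx using Submodule.span_induction with
      | mem y hy =>
        obtain ⟨y, rfl⟩ := hy
        exact Submodule.subset_span ⟨Submodule.Quotient.mk y, hT'mk y⟩
      | zero => exact Submodule.zero_mem _
      | add y z _ _ hy hz =>
        rw [Submodule.Quotient.mk_add]
        exact Submodule.add_mem _ hy hz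
      | smul c y _ hy =>
        rw [Submodule.Quotient.mk_smul]
        exact Submodule.smul_mem _ _ hy
    have hfin : finrank k (V ⧸ W) = n := by
      have h1 := Submodule.finrank_quotient_add_finrank W
      have h2 : finrank k W = 1 := finrank_span_singleton hv0
      omega
    obtain ⟨hs', hc'⟩ := ih T' hT'semi hspan' hfin
    obtain ⟨hs, hc⟩ := step p T hT v hv0 hv T' hT'mk hs'
    exact ⟨hs, by rw [hc, hc', pow_succ']⟩

/-- Lang-type theorem over a separably closed field. -/
theorem field_case {V : Type v} [AddCommGroup V] [Module k V] [Module.Finite k V]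
    (T : V →+ V) (hT : ∀ (c : k) (v : V), T (c • v) = c ^ p • T v)
    (hspan : Submodule.span k (Set.range T) = ⊤) :
    Function.Surjective (fun v => T v - v) ∧
      Nat.card {v : V // T v = v} = p ^ finrank k V := by
  obtain ⟨h1, h2⟩ := main_aux p (finrank k V) T hT hspan rfl
  exact ⟨h1, (card_fixedPts T).trans h2⟩

end main

end Groth.Agent.Lib.FrobLang
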