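import Groth.Agent.Lib.FrobLang3

/-!
# Frobenius-semilinear maps, part 4: reduction to the residue field

For a local ring `R` of characteristic `p` with residue field `κ` and a Frobenius-semilinear
additive map `T` of an `R`-module `M`, we build the induced map `Tbar` of `κ ⊗[R] M`.  When `T` is
bijective, `M` is finite and the maximal ideal is principal, `M` is killed by the maximal ideal,
so the Lang-type statement for `M` follows from the field case.
-/

set_option autoImplicit false
universe u v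

namespace Groth.Agent.Lib.FrobLang

open Module IsLocalRing TensorProduct

section resid

variable (p : ℕ) [hp : Fact p.Prime] {R : Type u} [CommRing R] [IsLocalRing R] [CharP R p]

/-- The residue field of a local ring of characteristic `p` has characteristic `p`. -/
theorem charP_residueField : CharP (ResidueField R) p := by
  rw [CharP.charP_iff_prime_eq_zero hp.out]
  have h : ((p : R) : R) = 0 := CharP.cast_eq_zero R p
  have h2 := congrArg (residue R) h
  rwa [map_natCast, map_zero] at h2

variable {M : Type v} [AddCommGroup M] [Module R M]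

omit hp [CharP R p] in
lemma residue_pow_smul (r : R) (c : ResidueField R) : (r • c) ^ p = r ^ p • c ^ p := by
  rw [Algebra.smul_def, Algebra.smul_def, mul_pow, map_pow]

/-- The map induced by `T` on `κ ⊗[R] M`: `c ⊗ m ↦ c ^ p ⊗ T m`. -/
noncomputable def Tbar (T : M →+ M) (hT : ∀ (r : R) (m : M), T (r • m) = r ^ p • T m) :
    ResidueField R ⊗[R] M →+ ResidueField R ⊗[R] M :=
  haveI := charP_residueField (R := R) p
  TensorProduct.liftAddHom
    { toFun := fun c => ((TensorProduct.mk R (ResidueField R) M (c ^ p)).toAddMonoidHom).comp T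
      map_zero' := by
        ext m
        simp [zero_pow hp.out.ne_zero]
      map_add' := fun c c' => by
        ext m
        simp [add_pow_char] }
    (by
      intro r c m
      change ((r • c) ^ p) ⊗ₜ[R] T m = (c ^ p) ⊗ₜ[R] T (r • m)
      rw [hT, residue_pow_smul, TensorProduct.smul_tmul])

lemma Tbar_tmul (T : M →+ M) (hT : ∀ (r : R) (m : M), T (r • m) = r ^ p • T m)
    (c : ResidueField R) (m : M) : Tbar p T hT (c ⊗ₜ[R] m) = (c ^ p) ⊗ₜ[R] T m := rfl

lemma Tbar_smul (T : M →+ M) (hT : ∀ (r : R) (m : M), T (r • m) = r ^ p • T m)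
    (d : ResidueField R) (x : ResidueField R ⊗[R] M) :
    Tbar p T hT (d • x) = d ^ p • Tbar p T hT x := by
  induction x using TensorProduct.induction_on with
  | zero => rw [smul_zero, map_zero, smul_zero]
  | tmul c m =>
    rw [TensorProduct.smul_tmul', Tbar_tmul, Tbar_tmul, TensorProduct.smul_tmul', smul_eq_mul,
      smul_eq_mul, mul_pow]
  | add x y hx hy => rw [smul_add, map_add, map_add, hx, hy, smul_add]

lemma span_range_Tbar (T : M →+ M) (hT : ∀ (r : R) (m : M), T (r • m) = r ^ p • T m)
    (hsurj : Function.Surjective T) :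
    Submodule.span (ResidueField R) (Set.range (Tbar p T hT)) = ⊤ := by
  rw [eq_top_iff]
  rintro x -
  induction x using TensorProduct.induction_on with
  | zero => exact Submodule.zero_mem _
  | tmul c m =>
    obtain ⟨m', rfl⟩ := hsurj m
    have h1 : c ⊗ₜ[R] T m' = c • Tbar p T hT (1 ⊗ₜ[R] m') := by
      rw [Tbar_tmul, one_pow, TensorProduct.smul_tmul', smul_eq_mul, mul_one]
    rw [h1]
    exact Submodule.smul_mem _ _ (Submodule.subset_span ⟨_, rfl⟩)
  | add x y hx hy => exact Submodule.add_mem _ hx hy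

omit hp [CharP R p] in
/-- `1 ⊗ m = 0` in `κ ⊗ M` iff `m ∈ 𝔪 M`. -/
lemma one_tmul_eq_zero_iff (m : M) :
    (1 : ResidueField R) ⊗ₜ[R] m = 0 ↔ m ∈ (maximalIdeal R • ⊤ : Submodule R M) := by
  constructor
  · intro h
    have h1 : (1 : R ⧸ maximalIdeal R) ⊗ₜ[R] m = 0 := h
    have h2 := congrArg (TensorProduct.quotTensorEquivQuotSMul M (maximalIdeal R)) h1
    rw [TensorProduct.quotTensorEquivQuotSMul_mk_one_tmul, map_zero,
      Submodule.Quotient.mk_eq_zero] at h2
    exact h2
  · intro h
    have h2 : (Submodule.Quotient.mk m : M ⧸ (maximalIdeal R • ⊤ : Submodule R M)) = 0 :=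
      (Submodule.Quotient.mk_eq_zero _).mpr h
    have h3 := congrArg (TensorProduct.quotTensorEquivQuotSMul M (maximalIdeal R)).symm h2
    rw [TensorProduct.quotTensorEquivQuotSMul_symm_mk, map_zero] at h3
    exact h3

omit hp [CharP R p] in
lemma one_tmul_surjective (x : ResidueField R ⊗[R] M) :
    ∃ m : M, (1 : ResidueField R) ⊗ₜ[R] m = x := by
  induction x using TensorProduct.induction_on with
  | zero => exact ⟨0, TensorProduct.tmul_zero _ _⟩
  | tmul c m =>
    obtain ⟨r, rfl⟩ := residue_surjective c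
    refine ⟨r • m, ?_⟩
    rw [← TensorProduct.smul_tmul, Algebra.smul_def, mul_one]
    rfl
  | add x y hx hy =>
    obtain ⟨a, rfl⟩ := hx
    obtain ⟨b, rfl⟩ := hy
    exact ⟨a + b, TensorProduct.tmul_add _ _ _⟩

/-- If `T` is bijective, `M` is finite and the maximal ideal is principal, then `𝔪 M = 0`. -/
theorem smul_top_eq_bot [IsSepClosed (ResidueField R)] [IsNoetherianRing R] [Module.Finite R M]
    (ϖ : R) (hϖ : maximalIdeal R = Ideal.span {ϖ})
    (T : M →+ M) (hT : ∀ (r : R) (m : M), T (r • m) = r ^ p • T m)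
    (hbij : Function.Bijective T) : (maximalIdeal R • ⊤ : Submodule R M) = ⊥ := by
  have := charP_residueField (R := R) p
  have hinjbar : Function.Injective (Tbar p T hT) :=
    injective_of_span (Tbar p T hT) (Tbar_smul p T hT) (span_range_Tbar p T hT hbij.2)
  have hstep : ∀ m : M, T m ∈ (maximalIdeal R • ⊤ : Submodule R M) →
      m ∈ (maximalIdeal R • ⊤ : Submodule R M) := by
    intro m hm
    rw [← one_tmul_eq_zero_iff] at hm ⊢
    apply hinjbar
    rw [Tbar_tmul, one_pow, hm, map_zero]
  have hmem : ∀ m : M, m ∈ (maximalIdeal R • ⊤ : Submodule R M) ↔ ∃ m' : M, ϖ • m' = m := by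
    intro m
    rw [hϖ, Submodule.ideal_span_singleton_smul, Submodule.mem_smul_pointwise_iff_exists]
    constructor
    · rintro ⟨b, -, hb⟩
      exact ⟨b, hb⟩
    · rintro ⟨b, hb⟩
      exact ⟨b, Submodule.mem_top, hb⟩
  have hϖmem : ϖ ∈ maximalIdeal R := hϖ ▸ Ideal.mem_span_singleton_self ϖ
  have hFG : (maximalIdeal R • ⊤ : Submodule R M).FG := IsNoetherian.noetherian _
  apply Submodule.eq_bot_of_le_smul_of_le_jacobson_bot (maximalIdeal R) _ hFG ?_
    (IsLocalRing.jacobson_eq_maximalIdeal ⊥ bot_ne_top).ge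
  intro n hn
  obtain ⟨m, rfl⟩ := (hmem n).mp hn
  obtain ⟨m₁, hm₁⟩ := hbij.2 (ϖ • m)
  have h1 : m₁ ∈ (maximalIdeal R • ⊤ : Submodule R M) := hstep m₁ (hm₁ ▸ hn)
  obtain ⟨m₂, rfl⟩ := (hmem m₁).mp h1
  rw [← hm₁, hT]
  have hp1 : p = (p - 1) + 1 := (Nat.sub_add_cancel hp.out.one_le).symm
  have h2 : ϖ ^ p • T m₂ = ϖ ^ (p - 1) • (ϖ • T m₂) := by
    rw [smul_smul, ← pow_succ, ← hp1]
  rw [h2]
  apply Submodule.smul_mem_smul
  · exact Ideal.pow_mem_of_mem _ hϖmem _ (Nat.sub_pos_of_lt hp.out.one_lt)
  · exact (hmem _).mpr ⟨T m₂, rfl⟩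

/-- Lang-type theorem for finite modules over a local ring with principal maximal ideal and
separably closed residue field, for a bijective Frobenius-semilinear map. -/
theorem principal_case [IsSepClosed (ResidueField R)] [IsNoetherianRing R] [Module.Finite R M]
    (ϖ : R) (hϖ : maximalIdeal R = Ideal.span {ϖ})
    (T : M →+ M) (hT : ∀ (r : R) (m : M), T (r • m) = r ^ p • T m)
    (hbij : Function.Bijective T) :
    Function.Surjective (fun m => T m - m) ∧
      Nat.card {m : M // T m = m} =
        p ^ Module.finrank (ResidueField R) (ResidueField R ⊗[R] M) := by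
  have := charP_residueField (R := R) p
  have hbot := smul_top_eq_bot p ϖ hϖ T hT hbij
  obtain ⟨hs, hc⟩ := field_case p (Tbar p T hT) (Tbar_smul p T hT)
    (span_range_Tbar p T hT hbij.2)
  let ι : M → ResidueField R ⊗[R] M := fun m => (1 : ResidueField R) ⊗ₜ[R] m
  have hιadd : ∀ a b, ι (a - b) = ι a - ι b := fun a b => TensorProduct.tmul_sub _ _ _
  have hιT : ∀ m, ι (T m) = Tbar p T hT (ι m) := by
    intro m
    change (1 : ResidueField R) ⊗ₜ[R] T m = Tbar p T hT (1 ⊗ₜ[R] m)
    rw [Tbar_tmul, one_pow]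
  have hιinj : Function.Injective ι := by
    intro a b hab
    have h0 : ι (a - b) = 0 := by rw [hιadd, hab, sub_self]
    have h1 : a - b ∈ (maximalIdeal R • ⊤ : Submodule R M) := (one_tmul_eq_zero_iff _).mp h0
    rw [hbot, Submodule.mem_bot] at h1
    exact sub_eq_zero.mp h1
  have hιsurj : Function.Surjective ι := one_tmul_surjective
  refine ⟨?_, ?_⟩
  · intro y
    obtain ⟨x', hx'⟩ := hs (ι y)
    obtain ⟨x, rfl⟩ := hιsurj x'
    refine ⟨x, hιinj ?_⟩
    change ι (T x - x) = ι y
    rw [hιadd, hιT]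
    exact hx'
  · rw [← hc]
    refine Nat.card_congr (Equiv.subtypeEquiv (Equiv.ofBijective ι ⟨hιinj, hιsurj⟩) ?_)
    intro m
    change T m = m ↔ Tbar p T hT (ι m) = ι m
    rw [← hιT]
    exact ⟨fun h => congrArg ι h, fun h => hιinj h⟩

end resid

end Groth.Agent.Lib.FrobLang
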