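import Mathlib.RingTheory.Unramified.LocalRing
import Mathlib.RingTheory.Etale.Basic
import Mathlib.FieldTheory.IsSepClosed

set_option autoImplicit false
universe u

namespace Groth.Agent.Lib.StrictHensel

open IsLocalRing

/-- Over a local ring with separably closed residue field, the residue field of an unramified
algebra at a prime over the maximal ideal is trivial: every element is congruent to an element
of the base modulo the prime. -/
theorem exists_sub_mem_of_isSepClosed {R C : Type*} [CommRing R] [IsLocalRing R]
    [IsSepClosed (ResidueField R)] [CommRing C] [Algebra R C] [Algebra.FormallyUnramified R C]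
    [Algebra.EssFiniteType R C] (q : Ideal C) [q.IsPrime] [hq : q.LiesOver (maximalIdeal R)]
    (c : C) : ∃ r : R, c - algebraMap R C r ∈ q := by
  let Cq := Localization.AtPrime q
  have hloc : IsLocalHom (algebraMap R Cq) := by
    refine ⟨fun r hr => ?_⟩
    by_contra hnu
    have h1 : r ∈ maximalIdeal R := hnu
    rw [hq.over, Ideal.under_def, Ideal.mem_comap] at h1
    have h2 : algebraMap C Cq (algebraMap R C r) ∈ maximalIdeal Cq :=
      (IsLocalization.AtPrime.to_map_mem_maximal_iff Cq q _).mpr h1
    rw [← IsScalarTower.algebraMap_apply] at h2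
    exact h2 hr
  have hunr : Algebra.FormallyUnramified R Cq := Algebra.FormallyUnramified.comp R C Cq
  have hess : Algebra.EssFiniteType R Cq := Algebra.EssFiniteType.comp R C Cq
  have hbij := IsSepClosed.algebraMap_bijective (ResidueField R) (ResidueField Cq)
  obtain ⟨x, hx⟩ := hbij.2 (residue Cq (algebraMap C Cq c))
  obtain ⟨r, rfl⟩ := residue_surjective x
  refine ⟨r, ?_⟩
  rw [← IsLocalization.AtPrime.to_map_mem_maximal_iff Cq q, ← residue_eq_zero_iff, map_sub, map_sub,
    ← hx, ← IsScalarTower.algebraMap_apply, sub_eq_zero]
  rfl

end Groth.Agent.Lib.StrictHensel
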