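import Groth.Agent.Lib.EssEtaleLift
import Groth.Agent.Lib.StrictHensel

set_option autoImplicit false
universe u

namespace Groth.Agent.Lib.StrictHenselSolutions

open IsLocalRing

variable {R : Type u} [CommRing R] {n : ℕ} (P : Fin n → MvPolynomial (Fin n) R)

/-- The algebra map out of the quotient attached to a solution. -/
noncomputable def solHom {T : Type u} [CommRing T] [Algebra R T] (t : Fin n → T)
    (ht : ∀ i, MvPolynomial.aeval t (P i) = 0) :
    (MvPolynomial (Fin n) R ⧸ Ideal.span (Set.range P)) →ₐ[R] T :=
  Ideal.Quotient.liftₐ _ (MvPolynomial.aeval t) (by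
    intro p hp
    have hle : Ideal.span (Set.range P) ≤
        RingHom.ker (MvPolynomial.aeval t : MvPolynomial (Fin n) R →ₐ[R] T) := by
      rw [Ideal.span_le]
      rintro _ ⟨i, rfl⟩
      exact ht i
    exact hle hp)

lemma solHom_mk {T : Type u} [CommRing T] [Algebra R T] (t : Fin n → T)
    (ht : ∀ i, MvPolynomial.aeval t (P i) = 0) (p : MvPolynomial (Fin n) R) :
    solHom P t ht (Ideal.Quotient.mk _ p) = MvPolynomial.aeval t p := rfl

lemma aeval_eq_of_algHom {T : Type u} [CommRing T] [Algebra R T]
    (f : (MvPolynomial (Fin n) R ⧸ Ideal.span (Set.range P)) →ₐ[R] T)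
    (p : MvPolynomial (Fin n) R) :
    MvPolynomial.aeval (fun j => f (Ideal.Quotient.mk _ (MvPolynomial.X j))) p =
      f (Ideal.Quotient.mk _ p) := by
  have : MvPolynomial.aeval (fun j => f (Ideal.Quotient.mk _ (MvPolynomial.X j))) =
      f.comp (Ideal.Quotient.mkₐ R (Ideal.span (Set.range P))) := by
    apply MvPolynomial.algHom_ext
    intro i
    simp
  rw [this]
  rfl

lemma aeval_sol_eq_zero {T : Type u} [CommRing T] [Algebra R T]
    (f : (MvPolynomial (Fin n) R ⧸ Ideal.span (Set.range P)) →ₐ[R] T) (i : Fin n) :
    MvPolynomial.aeval (fun j => f (Ideal.Quotient.mk _ (MvPolynomial.X j))) (P i) = 0 := by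
  rw [aeval_eq_of_algHom]
  have : (Ideal.Quotient.mk (Ideal.span (Set.range P))) (P i) = 0 := by
    rw [Ideal.Quotient.eq_zero_iff_mem]
    exact Ideal.subset_span ⟨i, rfl⟩
  rw [this, map_zero]

/-- Solutions of an etale square system over a strictly henselian local ring `R` correspond
bijectively to the solutions over any local ring `S` receiving a local map from `R`. -/
theorem bijOn_solutions [HenselianLocalRing R] [IsSepClosed (ResidueField R)]
    {S : Type u} [CommRing S] [IsLocalRing S] (φ : R →+* S) [IsLocalHom φ]
    [Algebra.Etale R (MvPolynomial (Fin n) R ⧸ Ideal.span (Set.range P))] :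
    Set.BijOn (fun r : Fin n → R => φ ∘ r)
      {r : Fin n → R | ∀ i, MvPolynomial.eval r (P i) = 0}
      {s : Fin n → S | ∀ i, MvPolynomial.eval s (MvPolynomial.map φ (P i)) = 0} := by
  classical
  let C := MvPolynomial (Fin n) R ⧸ Ideal.span (Set.range P)
  let _ : Algebra R S := φ.toAlgebra
  have halgS : ∀ r, algebraMap R S r = φ r := fun _ => rfl
  have hevS : ∀ (s : Fin n → S) (p : MvPolynomial (Fin n) R),
      MvPolynomial.eval s (MvPolynomial.map φ p) = MvPolynomial.aeval s p := by
    intro s p
    rw [MvPolynomial.eval_map]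
    rfl
  have hevR : ∀ (r : Fin n → R) (p : MvPolynomial (Fin n) R),
      MvPolynomial.eval r p = MvPolynomial.aeval r p := by
    intro r p
    rw [MvPolynomial.aeval_eq_eval]
  have hφev : ∀ (r : Fin n → R) (p : MvPolynomial (Fin n) R),
      φ (MvPolynomial.eval r p) = MvPolynomial.aeval (φ ∘ r) p := by
    intro r p
    rw [MvPolynomial.eval, MvPolynomial.coe_eval₂Hom, MvPolynomial.eval₂_comp_left φ]
    rfl
  have hφres : ∀ x y : R, φ x = φ y → residue R x = residue R y := by
    intro x y hxy
    rw [← sub_eq_zero, ← map_sub, residue_eq_zero_iff]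
    by_contra hnu
    have hu : IsUnit (x - y) := by
      by_contra h
      exact hnu h
    have := hu.map φ
    rw [map_sub, hxy, sub_self] at this
    exact not_isUnit_zero this
  refine ⟨?_, ?_, ?_⟩
  · intro r hr i
    rw [hevS, ← hφev, hr i, map_zero]
  · intro r hr r' hr' hrr'
    have hr1 : ∀ i, MvPolynomial.aeval r (P i) = 0 := fun i => by rw [← hevR]; exact hr i
    have hr1' : ∀ i, MvPolynomial.aeval r' (P i) = 0 := fun i => by rw [← hevR]; exact hr' i
    have hff : solHom P r hr1 = solHom P r' hr1' := by
      apply Groth.Agent.Lib.EssEtale.algHom_ext_of_residue_eq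
      intro x
      obtain ⟨p, rfl⟩ := Ideal.Quotient.mk_surjective x
      rw [solHom_mk, solHom_mk, ← hevR, ← hevR]
      apply hφres
      rw [hφev, hφev]
      have : φ ∘ r = φ ∘ r' := hrr'
      rw [this]
    funext j
    have := congr($hff (Ideal.Quotient.mk _ (MvPolynomial.X j)))
    rwa [solHom_mk, solHom_mk, MvPolynomial.aeval_X, MvPolynomial.aeval_X] at this
  · intro s hs
    have hs1 : ∀ i, MvPolynomial.aeval s (P i) = 0 := fun i => by rw [← hevS]; exact hs i
    let g : C →ₐ[R] S := solHom P s hs1
    let χ : C →+* ResidueField S := (residue S).comp g.toRingHom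
    have hχ : ∀ x, χ x = residue S (g x) := fun _ => rfl
    let q : Ideal C := RingHom.ker χ
    have hqp : q.IsPrime := RingHom.ker_isPrime χ
    have hqmem : ∀ x, x ∈ q ↔ residue S (g x) = 0 := fun x => RingHom.mem_ker
    have hLO : q.LiesOver (maximalIdeal R) := by
      refine ⟨?_⟩
      ext r
      rw [Ideal.under_def, Ideal.mem_comap, hqmem, g.commutes, halgS, residue_eq_zero_iff]
      constructor
      · exact fun hr => map_nonunit φ r hr
      · intro hr
        by_contra hnu
        have hu : IsUnit r := by
          by_contra h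
          exact hnu h
        exact hr (hu.map φ)
    have hSH := Groth.Agent.Lib.StrictHensel.exists_sub_mem_of_isSepClosed (R := R) q
    -- the residue field of `q` is the residue field of `R`
    let ρ : ResidueField R →+* C ⧸ q :=
      Ideal.Quotient.lift (maximalIdeal R) ((Ideal.Quotient.mk q).comp (algebraMap R C)) (by
        intro r hr
        rw [RingHom.comp_apply, Ideal.Quotient.eq_zero_iff_mem]
        rw [hLO.over] at hr
        exact hr)
    have hρ : ∀ r, ρ (residue R r) = Ideal.Quotient.mk q (algebraMap R C r) := fun _ => rfl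
    have hρbij : Function.Bijective ρ := by
      refine ⟨ρ.injective, ?_⟩
      intro z
      obtain ⟨c, rfl⟩ := Ideal.Quotient.mk_surjective z
      obtain ⟨r, hr⟩ := hSH c
      exact ⟨residue R r, by rw [hρ]; exact (Ideal.Quotient.eq.mpr hr).symm⟩
    let e : ResidueField R ≃+* C ⧸ q := RingEquiv.ofBijective ρ hρbij
    have he : ∀ r, e.symm (Ideal.Quotient.mk q (algebraMap R C r)) = residue R r := by
      intro r
      rw [← hρ]
      exact e.symm_apply_apply (residue R r)
    let χR : C →ₐ[R] ResidueField R :=
      { (e.symm : C ⧸ q →+* ResidueField R).comp (Ideal.Quotient.mk q) with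
        commutes' := fun r => he r }
    have hχR : ∀ x, χR x = e.symm (Ideal.Quotient.mk q x) := fun _ => rfl
    have hχRq : ∀ x, χR x = 0 → x ∈ q := by
      intro x hx
      rw [hχR, map_eq_zero_iff _ e.symm.injective, Ideal.Quotient.eq_zero_iff_mem] at hx
      exact hx
    obtain ⟨f, hf⟩ := Groth.Agent.Lib.EssEtaleLift.exists_algHom_lift (A := R) (C := C) (B := R)
      q χR hχRq
    let r : Fin n → R := fun j => f (Ideal.Quotient.mk _ (MvPolynomial.X j))
    refine ⟨r, fun i => ?_, ?_⟩
    · rw [hevR]
      exact aeval_sol_eq_zero P f i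
    · let φa : R →ₐ[R] S := Algebra.ofId R S
      have hgg : φa.comp f = g := by
        apply Groth.Agent.Lib.EssEtale.algHom_ext_of_residue_eq
        intro x
        obtain ⟨r₀, hr₀⟩ := hSH x
        have h1 : residue S (g x) = residue S (φ r₀) := by
          rw [← sub_eq_zero, ← map_sub, ← halgS, ← g.commutes, ← map_sub, ← hqmem]
          exact hr₀
        have h2 : residue R (f x) = residue R r₀ := by
          rw [hf, hχR]
          have : Ideal.Quotient.mk q x = Ideal.Quotient.mk q (algebraMap R C r₀) :=
            Ideal.Quotient.eq.mpr hr₀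
          rw [this, he]
        rw [h1, AlgHom.comp_apply]
        change residue S (φ (f x)) = _
        rw [← ResidueField.map_residue, ← ResidueField.map_residue, h2]
      funext j
      have := congr($hgg (Ideal.Quotient.mk _ (MvPolynomial.X j)))
      rw [AlgHom.comp_apply] at this
      change φ (r j) = s j
      change φ (f _) = g _ at this
      rw [this]
      change solHom P s hs1 _ = _
      rw [solHom_mk, MvPolynomial.aeval_X]

end Groth.Agent.Lib.StrictHenselSolutions
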