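import Groth.Agent.Lib.FrobLang4
import Groth.Agent.Lib.JacobianEtale
import Groth.Agent.Lib.StrictHenselSolutions

/-!
# Frobenius-semilinear maps, part 5: free modules over strictly henselian local rings

In coordinates the equation `T x - x = y` is the square system
`∑ i, A j i * x i ^ p - x j - y j = 0`, whose Jacobian matrix is `-1` in characteristic `p`, so
the system is étale.  Solutions over a strictly henselian local ring correspond bijectively to
solutions over the residue field, where the field case applies.
-/

set_option autoImplicit false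
universe u v

namespace Groth.Agent.Lib.FrobLang

open Module IsLocalRing MvPolynomial

section sys

variable (p : ℕ) {R : Type u} [CommRing R] {n : ℕ}

/-- The square polynomial system attached to a matrix `A` and a right-hand side `y`. -/
noncomputable def sysP (A : Matrix (Fin n) (Fin n) R) (y : Fin n → R) :
    Fin n → MvPolynomial (Fin n) R :=
  fun j => ∑ i, C (A j i) * X i ^ p - X j - C (y j)

lemma eval_sysP (A : Matrix (Fin n) (Fin n) R) (y r : Fin n → R) (j : Fin n) :
    eval r (sysP p A y j) = ∑ i, A j i * r i ^ p - r j - y j := by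
  simp [sysP]

lemma map_sysP {S : Type*} [CommRing S] (φ : R →+* S) (A : Matrix (Fin n) (Fin n) R)
    (y : Fin n → R) (j : Fin n) :
    MvPolynomial.map φ (sysP p A y j) = sysP p (A.map φ) (φ ∘ y) j := by
  simp [sysP]

lemma pderiv_sysP [CharP R p] (A : Matrix (Fin n) (Fin n) R) (y : Fin n → R)
    (i j : Fin n) :
    pderiv i (sysP p A y j) = -(1 : Matrix (Fin n) (Fin n) (MvPolynomial (Fin n) R)) i j := by
  classical
  have h0 : ∀ l : Fin n, pderiv i (C (A j l) * X l ^ p : MvPolynomial (Fin n) R) = 0 := by
    intro l
    rw [pderiv_C_mul, pderiv_pow, CharP.cast_eq_zero (MvPolynomial (Fin n) R) p, zero_mul,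
      zero_mul, mul_zero]
  rw [sysP, map_sub, map_sub, map_sum, Finset.sum_eq_zero (fun l _ => h0 l), pderiv_C, pderiv_X,
    zero_sub, sub_zero, Matrix.one_apply]
  by_cases hij : i = j
  · subst hij
    simp
  · simp [hij]

/-- The system is étale in characteristic `p`. -/
theorem etale_sysP [CharP R p] (A : Matrix (Fin n) (Fin n) R)
    (y : Fin n → R) :
    Algebra.Etale R (MvPolynomial (Fin n) R ⧸ Ideal.span (Set.range (sysP p A y))) := by
  classical
  have hmat : (Matrix.of (fun i j => MvPolynomial.pderiv i (sysP p A y j)) :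
      Matrix (Fin n) (Fin n) (MvPolynomial (Fin n) R)) = -1 := by
    ext i j
    rw [Matrix.of_apply, pderiv_sysP]
    rfl
  have hunit : IsUnit (Groth.Agent.Lib.JacobianEtale.pre (sysP p A y)).jacobian := by
    have h1 := Groth.Agent.Lib.JacobianEtale.jac_eq (sysP p A y)
    rw [Groth.Agent.Lib.JacobianEtale.jac, hmat, Matrix.det_neg, Matrix.det_one, mul_one] at h1
    rw [h1, map_pow, map_neg, map_one]
    refine IsUnit.pow _ ?_
    exact IsUnit.neg (α := MvPolynomial (Fin n) R ⧸ Ideal.span (Set.range (sysP p A y)))
      isUnit_one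
  let P : Algebra.SubmersivePresentation R
      (MvPolynomial (Fin n) R ⧸ Ideal.span (Set.range (sysP p A y))) (Fin n) (Fin n) :=
    { Groth.Agent.Lib.JacobianEtale.pre (sysP p A y) with jacobian_isUnit := hunit }
  have : Algebra.IsStandardSmoothOfRelativeDimension 0 R
      (MvPolynomial (Fin n) R ⧸ Ideal.span (Set.range (sysP p A y))) :=
    P.isStandardSmoothOfRelativeDimension (by simp [Algebra.Presentation.dimension])
  infer_instance

end sys

section matT

variable (p : ℕ) [hp : Fact p.Prime] {S : Type u} [CommRing S] [CharP S p] {n : ℕ}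

/-- The Frobenius-semilinear map of `Sⁿ` attached to a matrix. -/
def matT (B : Matrix (Fin n) (Fin n) S) : (Fin n → S) →+ (Fin n → S) where
  toFun s := fun j => ∑ i, B j i * s i ^ p
  map_zero' := by
    funext j
    simp [zero_pow hp.out.ne_zero]
  map_add' s t := by
    funext j
    simp only [Pi.add_apply, add_pow_char, mul_add, Finset.sum_add_distrib]

lemma matT_apply (B : Matrix (Fin n) (Fin n) S) (s : Fin n → S) (j : Fin n) :
    matT p B s j = ∑ i, B j i * s i ^ p := rfl

lemma matT_smul (B : Matrix (Fin n) (Fin n) S) (c : S) (s : Fin n → S) :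
    matT p B (c • s) = c ^ p • matT p B s := by
  funext j
  simp only [matT_apply, Pi.smul_apply, smul_eq_mul, mul_pow, Finset.mul_sum]
  exact Finset.sum_congr rfl fun i _ => by ring

lemma eval_sysP_eq (B : Matrix (Fin n) (Fin n) S) (y s : Fin n → S) (j : Fin n) :
    eval s (sysP p B y j) = (matT p B s - s - y) j := by
  rw [eval_sysP]
  rfl

lemma sol_iff (B : Matrix (Fin n) (Fin n) S) (y s : Fin n → S) :
    (∀ j, eval s (sysP p B y j) = 0) ↔ matT p B s - s = y := by
  constructor
  · intro h
    funext j
    have := h j
    rw [eval_sysP_eq] at this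
    have h2 : (matT p B s - s) j - y j = 0 := this
    exact sub_eq_zero.mp h2
  · intro h j
    rw [eval_sysP_eq, h, sub_self]
    rfl

end matT

end Groth.Agent.Lib.FrobLang
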