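import Groth.Agent.Lib.FrobLang5

/-!
# Frobenius-semilinear maps, part 6: the free case over a strictly henselian local ring
-/

set_option autoImplicit false
universe u v

namespace Groth.Agent.Lib.FrobLang

open Module IsLocalRing MvPolynomial

section free

variable (p : ℕ) [hp : Fact p.Prime] {R : Type u} [CommRing R] [HenselianLocalRing R]
  [IsSepClosed (ResidueField R)] [CharP R p]
variable {M : Type v} [AddCommGroup M] [Module R M] [Module.Free R M] [Module.Finite R M]

/-- Lang-type theorem for free modules of finite rank over a strictly henselian local ring of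
characteristic `p`. -/
theorem free_case (T : M →+ M) (hT : ∀ (r : R) (m : M), T (r • m) = r ^ p • T m)
    (hspan : Submodule.span R (Set.range T) = ⊤) :
    Function.Surjective (fun m => T m - m) ∧
      Nat.card {m : M // T m = m} = p ^ Module.finrank R M := by
  classical
  have hκ : CharP (ResidueField R) p := charP_residueField (R := R) p
  let n := Module.finrank R M
  let b : Basis (Fin n) R M := Module.finBasis R M
  let e : M ≃ₗ[R] (Fin n → R) := b.equivFun
  let A : Matrix (Fin n) (Fin n) R := Matrix.of fun j i => b.repr (T (b i)) j
  have he : ∀ x : M, e (T x) = matT p A (e x) := by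
    intro x
    funext j
    have hx : x = ∑ i, b.repr x i • b i := (b.sum_repr x).symm
    have hTx : T x = ∑ i, (b.repr x i) ^ p • T (b i) := by
      conv_lhs => rw [hx]
      rw [map_sum]
      exact Finset.sum_congr rfl fun i _ => hT _ _
    change b.repr (T x) j = ∑ i, A j i * (b.repr x i) ^ p
    rw [hTx, map_sum, Finsupp.finsetSum_apply]
    refine Finset.sum_congr rfl fun i _ => ?_
    rw [map_smul, Finsupp.smul_apply, smul_eq_mul, mul_comm]
    rfl
  let Abar : Matrix (Fin n) (Fin n) (ResidueField R) := A.map (residue R)
  let ρ : (Fin n → R) → (Fin n → ResidueField R) := fun r => residue R ∘ r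
  have hρ : ∀ r : Fin n → R, ρ (matT p A r) = matT p Abar (ρ r) := by
    intro r
    funext j
    change residue R (∑ i, A j i * r i ^ p) = ∑ i, Abar j i * (residue R (r i)) ^ p
    rw [map_sum]
    refine Finset.sum_congr rfl fun i _ => ?_
    rw [map_mul, map_pow]
    rfl
  have hρsurj : Function.Surjective ρ := by
    intro s
    refine ⟨fun i => Classical.choose (residue_surjective (s i)), ?_⟩
    funext i
    exact Classical.choose_spec (residue_surjective (s i))
  have hspanbar : Submodule.span (ResidueField R) (Set.range (matT p Abar)) = ⊤ := by
    rw [eq_top_iff]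
    rintro s -
    obtain ⟨r, rfl⟩ := hρsurj s
    have hm : e.symm r ∈ Submodule.span R (Set.range T) := hspan ▸ Submodule.mem_top
    have key : ∀ m ∈ Submodule.span R (Set.range T),
        ρ (e m) ∈ Submodule.span (ResidueField R) (Set.range (matT p Abar)) := by
      intro m hm
      induction hm using Submodule.span_induction with
      | mem y hy =>
        obtain ⟨x, rfl⟩ := hy
        rw [he, hρ]
        exact Submodule.subset_span ⟨_, rfl⟩
      | zero =>
        have : ρ (e 0) = 0 := by
          funext j
          change residue R (e 0 j) = 0
          rw [map_zero, Pi.zero_apply, map_zero]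
        rw [this]
        exact Submodule.zero_mem _
      | add y z _ _ hy hz =>
        have : ρ (e (y + z)) = ρ (e y) + ρ (e z) := by
          funext j
          change residue R (e (y + z) j) = residue R (e y j) + residue R (e z j)
          rw [map_add, Pi.add_apply, map_add]
        rw [this]
        exact Submodule.add_mem _ hy hz
      | smul c y _ hy =>
        have : ρ (e (c • y)) = residue R c • ρ (e y) := by
          funext j
          change residue R (e (c • y) j) = residue R c * residue R (e y j)
          rw [map_smul, Pi.smul_apply, smul_eq_mul, map_mul]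
        rw [this]
        exact Submodule.smul_mem _ _ hy
    have := key _ hm
    rwa [LinearEquiv.apply_symm_apply] at this
  obtain ⟨hsbar, hcbar⟩ := field_case p (matT p Abar) (matT_smul p Abar) hspanbar
  rw [Module.finrank_fin_fun] at hcbar
  -- the étale lifting
  have hbij : ∀ yc : Fin n → R, Set.BijOn ρ {r | matT p A r - r = yc}
      {s | matT p Abar s - s = ρ yc} := by
    intro yc
    have := etale_sysP p A yc
    have h1 := Groth.Agent.Lib.StrictHenselSolutions.bijOn_solutions (sysP p A yc) (residue R)
    have h2 : {r : Fin n → R | ∀ i, eval r (sysP p A yc i) = 0} = {r | matT p A r - r = yc} := by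
      ext r
      exact sol_iff p A yc r
    have h3 : {s : Fin n → ResidueField R |
        ∀ i, eval s (MvPolynomial.map (residue R) (sysP p A yc i)) = 0} =
        {s | matT p Abar s - s = ρ yc} := by
      ext s
      simp only [Set.mem_ofPred_eq, map_sysP]
      exact sol_iff p Abar (ρ yc) s
    rw [h2, h3] at h1
    exact h1
  refine ⟨?_, ?_⟩
  · intro y
    obtain ⟨s, hs⟩ := hsbar (ρ (e y))
    obtain ⟨r, hr, -⟩ := (hbij (e y)).surjOn hs
    refine ⟨e.symm r, e.injective ?_⟩
    change e (T (e.symm r) - e.symm r) = e y
    rw [map_sub, he, LinearEquiv.apply_symm_apply]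
    exact hr
  · have hρ0 : ρ 0 = 0 := by
      funext j
      change residue R 0 = 0
      exact map_zero _
    have e1 : {m : M // T m = m} ≃ {r : Fin n → R | matT p A r - r = 0} :=
      Equiv.subtypeEquiv e.toEquiv (by
        intro m
        change T m = m ↔ matT p A (e m) - e m = 0
        rw [← he, sub_eq_zero]
        exact ⟨fun h => congrArg e h, fun h => e.injective h⟩)
    have e2 : {r : Fin n → R | matT p A r - r = 0} ≃
        {s : Fin n → ResidueField R | matT p Abar s - s = ρ 0} := (hbij 0).equiv
    have e3 : {s : Fin n → ResidueField R | matT p Abar s - s = ρ 0} ≃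
        {s : Fin n → ResidueField R // matT p Abar s = s} :=
      Equiv.subtypeEquivRight (by
        intro s
        change matT p Abar s - s = ρ 0 ↔ matT p Abar s = s
        rw [hρ0, sub_eq_zero])
    rw [Nat.card_congr ((e1.trans e2).trans e3), hcbar]

end free

end Groth.Agent.Lib.FrobLang
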