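import Mathlib

set_option autoImplicit false
universe u v w z

noncomputable section
namespace Groth.Agent.Lib.FrobLift76

section General
variable {A : Type u} [CommRing A] {σ : A →+* A}
variable {P₁ : Type v} {P₂ : Type w} [AddCommGroup P₁] [Module A P₁] [AddCommGroup P₂] [Module A P₂]
variable {ι : Type z} (b₁ : Module.Basis ι A P₁)
variable (F₁ : P₁ →ₛₗ[σ] P₁) (F₂ : P₂ →ₛₗ[σ] P₂)

/-- the basis `F₁ (b₁ i)`. -/
def cB (hF₁ : LinearIndependent A (fun i => F₁ (b₁ i)) ∧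
      Submodule.span A (Set.range fun i => F₁ (b₁ i)) = ⊤) : Module.Basis ι A P₁ :=
  Module.Basis.mk hF₁.1 (by rw [hF₁.2])

theorem cB_apply (hF₁ : LinearIndependent A (fun i => F₁ (b₁ i)) ∧
      Submodule.span A (Set.range fun i => F₁ (b₁ i)) = ⊤) (i : ι) :
    cB b₁ F₁ hF₁ i = F₁ (b₁ i) := Module.Basis.mk_apply _ _ i

/-- the operator `U ω = (F₂ ω)^# ∘ (F₁^#)⁻¹` on `Hom(P₁, P₂)`. -/
def U (hF₁ : LinearIndependent A (fun i => F₁ (b₁ i)) ∧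
      Submodule.span A (Set.range fun i => F₁ (b₁ i)) = ⊤) :
    (P₁ →ₗ[A] P₂) →+ (P₁ →ₗ[A] P₂) where
  toFun ω := (cB b₁ F₁ hF₁).constr ℕ (fun i => F₂ (ω (b₁ i)))
  map_zero' := by
    refine (cB b₁ F₁ hF₁).ext fun i => ?_
    rw [Module.Basis.constr_basis, LinearMap.zero_apply, map_zero, LinearMap.zero_apply]
  map_add' ω ω' := by
    refine (cB b₁ F₁ hF₁).ext fun i => ?_
    simp only [Module.Basis.constr_basis, LinearMap.add_apply, map_add]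

variable (hF₁ : LinearIndependent A (fun i => F₁ (b₁ i)) ∧
      Submodule.span A (Set.range fun i => F₁ (b₁ i)) = ⊤)

theorem U_apply_basis (ω : P₁ →ₗ[A] P₂) (i : ι) :
    U b₁ F₁ F₂ hF₁ ω (F₁ (b₁ i)) = F₂ (ω (b₁ i)) := by
  rw [← cB_apply b₁ F₁ hF₁ i]
  exact Module.Basis.constr_basis _ _ _ _

theorem U_apply_F (ω : P₁ →ₗ[A] P₂) (x : P₁) :
    U b₁ F₁ F₂ hF₁ ω (F₁ x) = F₂ (ω x) := by
  have : (U b₁ F₁ F₂ hF₁ ω).comp F₁ = F₂.comp ω :=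
    b₁.ext fun i => U_apply_basis b₁ F₁ F₂ hF₁ ω i
  exact LinearMap.congr_fun this x

theorem eq_U_iff (α : P₁ →ₗ[A] P₂) :
    U b₁ F₁ F₂ hF₁ α = α ↔ ∀ x, F₂ (α x) = α (F₁ x) := by
  constructor
  · intro h x
    rw [← U_apply_F b₁ F₁ F₂ hF₁ α x, h]
  · intro h
    refine (cB b₁ F₁ hF₁).ext fun i => ?_
    rw [cB_apply, U_apply_basis, h]

theorem semilinear_mem (J : Ideal A) (y : P₂) (hy : y ∈ J • (⊤ : Submodule A P₂)) :
    F₂ y ∈ (J.map σ) • (⊤ : Submodule A P₂) := by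
  refine Submodule.smul_induction_on hy (fun c hc y _ => ?_) (fun y₁ y₂ h₁ h₂ => ?_)
  · rw [map_smulₛₗ]
    exact Submodule.smul_mem_smul (Ideal.mem_map_of_mem σ hc) Submodule.mem_top
  · rw [map_add]; exact add_mem h₁ h₂

include hF₁ in
theorem mem_of_basis (N : Submodule A P₂) (ω : P₁ →ₗ[A] P₂)
    (h : ∀ i, ω (F₁ (b₁ i)) ∈ N) (x : P₁) : ω x ∈ N := by
  have hx : x ∈ Submodule.span A (Set.range fun i => F₁ (b₁ i)) := by
    rw [hF₁.2]; exact Submodule.mem_top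
  have hle : Submodule.span A (Set.range fun i => F₁ (b₁ i)) ≤ N.comap ω := by
    rw [Submodule.span_le]
    rintro _ ⟨i, rfl⟩
    exact h i
  exact hle hx

theorem U_mem (J : Ideal A) (ω : P₁ →ₗ[A] P₂) (hω : ∀ x, ω x ∈ J • (⊤ : Submodule A P₂))
    (x : P₁) : U b₁ F₁ F₂ hF₁ ω x ∈ (J.map σ) • (⊤ : Submodule A P₂) := by
  refine mem_of_basis b₁ F₁ hF₁ _ _ (fun i => ?_) x
  rw [U_apply_basis]
  exact semilinear_mem F₂ J _ (hω _)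

theorem U_iterate_mem (J : Ideal A) (ω : P₁ →ₗ[A] P₂)
    (hω : ∀ x, ω x ∈ J • (⊤ : Submodule A P₂)) (k : ℕ) (x : P₁) :
    (⇑(U b₁ F₁ F₂ hF₁))^[k] ω x ∈ (J.map (σ ^ k)) • (⊤ : Submodule A P₂) := by
  induction k generalizing x with
  | zero =>
    rw [pow_zero, Function.iterate_zero, id]
    have : J.map (1 : A →+* A) = J := Ideal.map_id J
    rw [this]
    exact hω x
  | succ k ih =>
    rw [Function.iterate_succ_apply']
    have := U_mem b₁ F₁ F₂ hF₁ (J.map (σ ^ k)) _ ih x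
    rw [Ideal.map_map] at this
    have e : σ.comp (σ ^ k) = σ ^ (k + 1) := by rw [pow_succ']; rfl
    rwa [e] at this

theorem U_iterate_mem_stable (J : Ideal A) (hJ : ∀ x ∈ J, σ x ∈ J) (ω : P₁ →ₗ[A] P₂)
    (hω : ∀ x, ω x ∈ J • (⊤ : Submodule A P₂)) (k : ℕ) (x : P₁) :
    (⇑(U b₁ F₁ F₂ hF₁))^[k] ω x ∈ J • (⊤ : Submodule A P₂) := by
  induction k generalizing x with
  | zero => exact hω x
  | succ k ih =>
    rw [Function.iterate_succ_apply']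
    have := U_mem b₁ F₁ F₂ hF₁ J _ ih x
    have hle : J.map σ ≤ J := Ideal.map_le_iff_le_comap.mpr hJ
    exact Submodule.smul_mono_left hle this

theorem U_iterate_eq_zero (J : Ideal A) (M : ℕ) (hM : ∀ x ∈ J, (σ ^ M) x = 0)
    (ω : P₁ →ₗ[A] P₂) (hω : ∀ x, ω x ∈ J • (⊤ : Submodule A P₂)) :
    (⇑(U b₁ F₁ F₂ hF₁))^[M] ω = 0 := by
  apply LinearMap.ext
  intro x
  have h := U_iterate_mem b₁ F₁ F₂ hF₁ J ω hω M x
  have hbot : J.map (σ ^ M) = ⊥ := by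
    rw [eq_bot_iff, Ideal.map_le_iff_le_comap]
    intro y hy
    rw [Ideal.mem_comap, hM y hy]
    exact zero_mem _
  rw [hbot, Submodule.bot_smul] at h
  exact (Submodule.mem_bot A).mp h

include b₁ hF₁ in
theorem exists_lift (J : Ideal A) (hJ : ∀ x ∈ J, σ x ∈ J) (M : ℕ) (hM : ∀ x ∈ J, (σ ^ M) x = 0)
    (α₀ : P₁ →ₗ[A] P₂)
    (hα₀ : ∀ x : P₁, F₂ (α₀ x) - α₀ (F₁ x) ∈ J • (⊤ : Submodule A P₂)) :
    ∃ α : P₁ →ₗ[A] P₂, (∀ x : P₁, α x - α₀ x ∈ J • (⊤ : Submodule A P₂)) ∧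
      ∀ x : P₁, F₂ (α x) = α (F₁ x) := by
  set δ : P₁ →ₗ[A] P₂ := U b₁ F₁ F₂ hF₁ α₀ - α₀ with hδ
  have hδmem : ∀ x, δ x ∈ J • (⊤ : Submodule A P₂) := by
    intro x
    refine mem_of_basis b₁ F₁ hF₁ _ δ (fun i => ?_) x
    rw [hδ, LinearMap.sub_apply, U_apply_basis]
    exact hα₀ (b₁ i)
  set ω : P₁ →ₗ[A] P₂ := ∑ i ∈ Finset.range M, (⇑(U b₁ F₁ F₂ hF₁))^[i] δ with hω
  have hUω : ω - U b₁ F₁ F₂ hF₁ ω = δ := by
    rw [hω, map_sum, ← Finset.sum_sub_distrib]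
    have : ∀ i ∈ Finset.range M, (⇑(U b₁ F₁ F₂ hF₁))^[i] δ -
        U b₁ F₁ F₂ hF₁ ((⇑(U b₁ F₁ F₂ hF₁))^[i] δ) =
        (⇑(U b₁ F₁ F₂ hF₁))^[i] δ - (⇑(U b₁ F₁ F₂ hF₁))^[i + 1] δ := by
      intro i _
      rw [Function.iterate_succ_apply']
    rw [Finset.sum_congr rfl this, Finset.sum_range_sub', Function.iterate_zero, id,
      U_iterate_eq_zero b₁ F₁ F₂ hF₁ J M hM δ hδmem, sub_zero]
  refine ⟨α₀ + ω, fun x => ?_, ?_⟩
  · rw [LinearMap.add_apply, add_sub_cancel_left, hω, LinearMap.sum_apply]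
    exact Submodule.sum_mem _ fun i _ => U_iterate_mem_stable b₁ F₁ F₂ hF₁ J hJ δ hδmem i x
  · rw [← eq_U_iff b₁ F₁ F₂ hF₁, map_add]
    have h1 : U b₁ F₁ F₂ hF₁ α₀ = α₀ + δ := by rw [hδ]; abel
    have h2 : U b₁ F₁ F₂ hF₁ ω = ω - δ := by rw [← hUω]; abel
    rw [h1, h2]; abel

include b₁ hF₁ in
theorem unique_lift (J : Ideal A) (M : ℕ) (hM : ∀ x ∈ J, (σ ^ M) x = 0)
    (α α' : P₁ →ₗ[A] P₂) (h : ∀ x : P₁, α x - α' x ∈ J • (⊤ : Submodule A P₂))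
    (hα : ∀ x : P₁, F₂ (α x) = α (F₁ x)) (hα' : ∀ x : P₁, F₂ (α' x) = α' (F₁ x)) : α = α' := by
  have hd : U b₁ F₁ F₂ hF₁ (α - α') = α - α' := by
    rw [map_sub, (eq_U_iff b₁ F₁ F₂ hF₁ α).mpr hα, (eq_U_iff b₁ F₁ F₂ hF₁ α').mpr hα']
  have hit : ∀ k : ℕ, (⇑(U b₁ F₁ F₂ hF₁))^[k] (α - α') = α - α' := by
    intro k
    induction k with
    | zero => rfl
    | succ k ih => rw [Function.iterate_succ_apply', ih, hd]
  have h0 := U_iterate_eq_zero b₁ F₁ F₂ hF₁ J M hM (α - α') (fun x => by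
    rw [LinearMap.sub_apply]; exact h x)
  rw [hit M] at h0
  exact sub_eq_zero.mp h0

end General
end Groth.Agent.Lib.FrobLift76
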