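import Mathlib

/-!
# Frobenius orbits on the primes of `A ⊗[k] K` over a finite field `k` (helper37)

Let `k` be a finite field with `q` elements, `K` an algebraic extension, `A` a `k`-algebra of finite
type.  Let `Φ = Frob_q ⊗ id` and `σ = id ⊗ Frob_q` on `A ⊗[k] K`.

* `exists_iterate_comap_eq_of_periodic`: abstract transitivity for a locally periodic ring
  endomorphism `σ` of `B` with invariants `A`: two primes (one finitely generated) over the same
  prime of `A` differ by an iterate of `comap σ`.
* `mem_range_of_pow_card_eq`: `c ^ q = c` in an extension of `k` implies `c ∈ k`.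
* `exists_iterate_comap_phi_eq`: two primes of `A ⊗[k] K` with the same contraction to `A` differ
  by an iterate of `comap Φ`.
-/

set_option autoImplicit false
universe u

namespace Groth.Agent.Lib.FrobOrbit37

open Polynomial TensorProduct

section Abstract

variable {A B : Type*} [CommRing A] [CommRing B] [Algebra A B]

lemma mem_iterate_comap (σ : B →+* B) (P : Ideal B) (m : ℕ) (b : B) :
    b ∈ (Ideal.comap σ)^[m] P ↔ σ^[m] b ∈ P := by
  induction m generalizing P with
  | zero => simp
  | succ m ih =>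
    rw [Function.iterate_succ_apply, ih, Ideal.mem_comap, Function.iterate_succ_apply']

lemma isPrime_iterate_comap (σ : B →+* B) (P : Ideal B) [P.IsPrime] (m : ℕ) :
    ((Ideal.comap σ)^[m] P).IsPrime := by
  induction m generalizing P with
  | zero => simpa
  | succ m ih =>
    rw [Function.iterate_succ_apply]
    exact ih (P.comap σ)

lemma sigma_prod_iterate (σ : B →+* B) (b : B) (n : ℕ) (hn : σ^[n] b = b) :
    σ (∏ m ∈ Finset.range n, σ^[m] b) = ∏ m ∈ Finset.range n, σ^[m] b := by
  rw [map_prod]
  cases n with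
  | zero => simp
  | succ n =>
    rw [Finset.prod_range_succ, Finset.prod_range_succ' (fun m ↦ σ^[m] b)]
    simp only [← Function.iterate_succ_apply' σ]
    rw [hn]
    rfl

omit [CommRing B] in
lemma exists_common_period (σ : B → B) (hper : ∀ b, ∃ n, 0 < n ∧ σ^[n] b = b) (S : Finset B) :
    ∃ n, 0 < n ∧ ∀ g ∈ S, σ^[n] g = g := by
  classical
  induction S using Finset.induction_on with
  | empty => exact ⟨1, one_pos, by simp⟩
  | insert g S hg ih =>
    obtain ⟨n, hn0, hn⟩ := ih
    obtain ⟨m, hm0, hm⟩ := hper g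
    refine ⟨m * n, Nat.mul_pos hm0 hn0, ?_⟩
    intro x hx
    rcases Finset.mem_insert.mp hx with rfl | hx
    · exact Function.IsPeriodicPt.mul_const hm n
    · exact Function.IsPeriodicPt.const_mul (hn x hx) m

/-- Transitivity of a locally periodic endomorphism with invariant ring `A` on the primes over a
given prime of `A`. -/
theorem exists_iterate_comap_eq_of_periodic (σ : B →+* B)
    (hfix : ∀ a, σ (algebraMap A B a) = algebraMap A B a)
    (hinv : ∀ b, σ b = b → b ∈ Set.range (algebraMap A B))
    (hper : ∀ b, ∃ n, 0 < n ∧ σ^[n] b = b) [Algebra.IsIntegral A B]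
    (P P' : Ideal B) [P.IsPrime] [P'.IsPrime] (hP : P.FG)
    (h : P.comap (algebraMap A B) = P'.comap (algebraMap A B)) :
    ∃ m, (Ideal.comap σ)^[m] P = P' := by
  set Q : ℕ → Ideal B := fun m ↦ (Ideal.comap σ)^[m] P with hQ
  have hQmem : ∀ m b, b ∈ Q m ↔ σ^[m] b ∈ P := fun m b ↦ mem_iterate_comap σ P m b
  have hQprime : ∀ m, (Q m).IsPrime := fun m ↦ isPrime_iterate_comap σ P m
  have hfix' : ∀ m a, σ^[m] (algebraMap A B a) = algebraMap A B a := fun m a ↦
    Function.iterate_fixed (hfix a) m
  have hQA : ∀ m, (Q m).comap (algebraMap A B) = P.comap (algebraMap A B) := by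
    intro m
    ext a
    simp only [Ideal.mem_comap, hQmem, hfix']
  have hincomp : ∀ (I J : Ideal B) [I.IsPrime] [J.IsPrime], I ≤ J →
      I.comap (algebraMap A B) = J.comap (algebraMap A B) → I = J := by
    intro I J _ _ hIJ hc
    by_contra hne
    obtain ⟨x, hxJ, hxI⟩ := SetLike.exists_of_lt (lt_of_le_of_ne hIJ hne)
    exact (Ideal.comap_lt_comap_of_integral_mem_sdiff hIJ ⟨hxJ, hxI⟩
      (Algebra.IsIntegral.isIntegral x)).ne hc
  -- a period of `P`
  obtain ⟨n, hn0, hn⟩ : ∃ n, 0 < n ∧ Q n = P := by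
    obtain ⟨S, hS⟩ := hP
    obtain ⟨n, hn0, hn⟩ := exists_common_period σ hper S
    refine ⟨n, hn0, ?_⟩
    have hle : P ≤ Q n := by
      rw [← hS, Ideal.span_le]
      intro g hg
      change g ∈ Q n
      rw [hQmem, hn g hg, ← hS]
      exact Ideal.subset_span hg
    have := hQprime n
    exact (hincomp P (Q n) hle (hQA n).symm).symm
  have hQadd : ∀ m, Q (m + n) = Q m := by
    intro m
    ext b
    rw [hQmem, add_comm, Function.iterate_add_apply, ← hQmem n, hn, hQmem]
  have hQmod : ∀ m, Q m = Q (m % n) := by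
    intro m
    have : ∀ t i, Q (i + n * t) = Q i := by
      intro t
      induction t with
      | zero => intro i; simp
      | succ t ih =>
        intro i
        rw [Nat.mul_succ, ← add_assoc, hQadd, ih]
    conv_lhs => rw [← Nat.mod_add_div m n]
    exact this _ _
  have hcover : (P' : Set B) ⊆ ⋃ i ∈ (Finset.range n : Set ℕ), (Q i : Set B) := by
    intro b hb
    obtain ⟨r, hr0, hr⟩ := hper b
    have hN := sigma_prod_iterate σ b r hr
    obtain ⟨a, ha⟩ := hinv _ hN
    have hNP' : ∏ m ∈ Finset.range r, σ^[m] b ∈ P' :=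
      Ideal.prod_mem P' (Finset.mem_range.mpr hr0) (by simpa using hb)
    have haP : a ∈ P'.comap (algebraMap A B) := by
      rw [Ideal.mem_comap, ha]; exact hNP'
    rw [← h, Ideal.mem_comap, ha] at haP
    obtain ⟨m, -, hmP⟩ := Ideal.IsPrime.prod_mem_iff.mp haP
    rw [← hQmem, hQmod] at hmP
    simp only [Set.mem_iUnion, Finset.coe_range, Set.mem_Iio, SetLike.mem_coe]
    exact ⟨m % n, Nat.mod_lt _ hn0, hmP⟩
  obtain ⟨i, -, hi⟩ := (Ideal.subset_union_prime 0 0 (fun i _ _ _ ↦ hQprime i)).mp hcover
  have := hQprime i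
  exact ⟨i, (hincomp P' (Q i) hi (h.symm.trans (hQA i).symm)).symm⟩

end Abstract

section FiniteField

variable {k K : Type*} [Field k] [Fintype k] [Field K] [Algebra k K]

/-- In an extension of a finite field `k` with `q` elements, the solutions of `c ^ q = c` are the
elements of `k`. -/
lemma mem_range_of_pow_card_eq (c : K) (hc : c ^ Fintype.card k = c) :
    c ∈ Set.range (algebraMap k K) := by
  classical
  have hq : 1 < Fintype.card k := Fintype.one_lt_card
  let p : K[X] := X ^ Fintype.card k - X
  have hp0 : p ≠ 0 := FiniteField.X_pow_card_sub_X_ne_zero K hq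
  have hdeg : p.natDegree = Fintype.card k := FiniteField.X_pow_card_sub_X_natDegree_eq K hq
  let S : Finset K := Finset.univ.image (algebraMap k K)
  have hS : S.card = Fintype.card k := by
    rw [Finset.card_image_of_injective _ (algebraMap k K).injective, Finset.card_univ]
  have hsub : S ⊆ p.roots.toFinset := by
    intro x hx
    obtain ⟨r, -, rfl⟩ := Finset.mem_image.mp hx
    rw [Multiset.mem_toFinset, Polynomial.mem_roots hp0]
    simp [p, ← map_pow, FiniteField.pow_card]
  have hcard : p.roots.toFinset.card ≤ Fintype.card k :=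
    (Multiset.toFinset_card_le _).trans (hdeg ▸ Polynomial.card_roots' p)
  have heq : S = p.roots.toFinset := Finset.eq_of_subset_of_card_le hsub (by rw [hS]; exact hcard)
  have hc' : c ∈ p.roots.toFinset := by
    rw [Multiset.mem_toFinset, Polynomial.mem_roots hp0]
    simp [p, hc]
  rw [← heq] at hc'
  obtain ⟨r, -, hr⟩ := Finset.mem_image.mp hc'
  exact ⟨r, hr⟩

/-- Every element of an algebraic extension of a finite field is a periodic point of the
Frobenius. -/
lemma exists_frob_iterate_eq [Algebra.IsAlgebraic k K] (c : K) :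
    ∃ n, 0 < n ∧ (FiniteField.frobeniusAlgHom k K)^[n] c = c := by
  set φ := FiniteField.frobeniusAlgHom k K
  have hint : IsIntegral k c := Algebra.IsIntegral.isIntegral c
  have hroot : ∀ i : ℕ, φ^[i] c ∈ (minpoly k c).rootSet K := by
    intro i
    rw [Polynomial.mem_rootSet]
    refine ⟨minpoly.ne_zero hint, ?_⟩
    rw [← AlgHom.coe_pow, Polynomial.aeval_algHom_apply, minpoly.aeval, map_zero]
  have hfin : Finite ((minpoly k c).rootSet K) := Polynomial.rootSet_finite _ _
  obtain ⟨i, j, hij, he⟩ := Finite.exists_ne_map_eq_of_infinite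
    (fun i : ℕ ↦ (⟨φ^[i] c, hroot i⟩ : (minpoly k c).rootSet K))
  have he' : φ^[i] c = φ^[j] c := congrArg Subtype.val he
  have hinj : ∀ i : ℕ, Function.Injective φ^[i] := fun i ↦
    Function.Injective.iterate (φ : K →+* K).injective i
  rcases Nat.lt_or_gt_of_ne hij with hlt | hlt
  · refine ⟨j - i, Nat.sub_pos_of_lt hlt, ?_⟩
    apply hinj i
    rw [← Function.iterate_add_apply, Nat.add_sub_cancel' hlt.le, he']
  · refine ⟨i - j, Nat.sub_pos_of_lt hlt, ?_⟩
    apply hinj j
    rw [← Function.iterate_add_apply, Nat.add_sub_cancel' hlt.le, he']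

end FiniteField

section Tensor

variable (k : Type u) [Field k] [Fintype k] (K : Type u) [Field K] [Algebra k K]
  (A : Type u) [CommRing A] [Algebra k A]

/-- `σ = id ⊗ Frob_q` on `A ⊗[k] K`. -/
noncomputable def sigma : A ⊗[k] K →ₐ[k] A ⊗[k] K :=
  Algebra.TensorProduct.map (AlgHom.id k A) (FiniteField.frobeniusAlgHom k K)

/-- `Φ = Frob_q ⊗ id` on `A ⊗[k] K`. -/
noncomputable def phi : A ⊗[k] K →ₐ[k] A ⊗[k] K :=
  Algebra.TensorProduct.map (FiniteField.frobeniusAlgHom k A) (AlgHom.id k K)

@[simp] lemma sigma_tmul (a : A) (c : K) :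
    sigma k K A (a ⊗ₜ c) = a ⊗ₜ (c ^ Fintype.card k) := by
  simp [sigma]

@[simp] lemma phi_tmul (a : A) (c : K) :
    phi k K A (a ⊗ₜ c) = (a ^ Fintype.card k) ⊗ₜ c := by
  simp [phi]

lemma phi_comp_sigma : (phi k K A).comp (sigma k K A) = FiniteField.frobeniusAlgHom k (A ⊗[k] K) := by
  apply Algebra.TensorProduct.ext'
  intro a c
  simp [Algebra.TensorProduct.tmul_pow]

lemma sigma_comp_phi : (sigma k K A).comp (phi k K A) = FiniteField.frobeniusAlgHom k (A ⊗[k] K) := by
  apply Algebra.TensorProduct.ext'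
  intro a c
  simp [Algebra.TensorProduct.tmul_pow]

lemma comap_sigma_comap_phi (P : Ideal (A ⊗[k] K)) [P.IsPrime] :
    (P.comap (phi k K A).toRingHom).comap (sigma k K A).toRingHom = P := by
  ext b
  have : (phi k K A) ((sigma k K A) b) = b ^ Fintype.card k := by
    rw [← AlgHom.comp_apply, phi_comp_sigma]; rfl
  simp only [Ideal.mem_comap, AlgHom.toRingHom_eq_coe, RingHom.coe_coe, this]
  exact Ideal.IsPrime.pow_mem_iff_mem inferInstance _ Fintype.card_pos

lemma comap_phi_comap_sigma (P : Ideal (A ⊗[k] K)) [P.IsPrime] :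
    (P.comap (sigma k K A).toRingHom).comap (phi k K A).toRingHom = P := by
  ext b
  have : (sigma k K A) ((phi k K A) b) = b ^ Fintype.card k := by
    rw [← AlgHom.comp_apply, sigma_comp_phi]; rfl
  simp only [Ideal.mem_comap, AlgHom.toRingHom_eq_coe, RingHom.coe_coe, this]
  exact Ideal.IsPrime.pow_mem_iff_mem inferInstance _ Fintype.card_pos

lemma iterate_comap_phi_iterate_comap_sigma (m : ℕ) (P : Ideal (A ⊗[k] K)) [P.IsPrime] :
    (Ideal.comap (phi k K A).toRingHom)^[m] ((Ideal.comap (sigma k K A).toRingHom)^[m] P) = P := by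
  induction m generalizing P with
  | zero => rfl
  | succ m ih =>
    rw [Function.iterate_succ_apply' (Ideal.comap (sigma k K A).toRingHom),
      Function.iterate_succ_apply]
    have := isPrime_iterate_comap (sigma k K A).toRingHom P m
    rw [comap_phi_comap_sigma, ih]

lemma sigma_iterate_tmul (n : ℕ) (a : A) (c : K) :
    (sigma k K A)^[n] (a ⊗ₜ c) = a ⊗ₜ ((FiniteField.frobeniusAlgHom k K)^[n] c) := by
  induction n generalizing c with
  | zero => rfl
  | succ n ih =>
    rw [Function.iterate_succ_apply, sigma_tmul, ih, Function.iterate_succ_apply]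
    rfl

lemma sigma_periodic [Algebra.IsAlgebraic k K] (b : A ⊗[k] K) :
    ∃ n, 0 < n ∧ (sigma k K A)^[n] b = b := by
  induction b using TensorProduct.induction_on with
  | zero => exact ⟨1, one_pos, map_zero _⟩
  | tmul a c =>
    obtain ⟨n, hn0, hn⟩ := exists_frob_iterate_eq (k := k) c
    exact ⟨n, hn0, by rw [sigma_iterate_tmul, hn]⟩
  | add x y hx hy =>
    obtain ⟨n, hn0, hn⟩ := hx
    obtain ⟨m, hm0, hm⟩ := hy
    refine ⟨n * m, Nat.mul_pos hn0 hm0, ?_⟩
    have h1 : (sigma k K A)^[n * m] x = x := Function.IsPeriodicPt.mul_const hn m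
    have h2 : (sigma k K A)^[n * m] y = y := Function.IsPeriodicPt.const_mul hm n
    rw [← AlgHom.coe_pow, map_add, AlgHom.coe_pow, h1, h2]

lemma mem_range_of_sigma_eq (b : A ⊗[k] K) (hb : sigma k K A b = b) :
    b ∈ Set.range (algebraMap A (A ⊗[k] K)) := by
  let φ := FiniteField.frobeniusAlgHom k K
  let f : K →ₗ[k] K := φ.toLinearMap - LinearMap.id
  let g : k →ₗ[k] K := Algebra.linearMap k K
  have hex : Function.Exact g f := by
    intro c
    constructor
    · intro hc
      have : c ^ Fintype.card k = c := by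
        have : φ c - c = 0 := hc
        exact sub_eq_zero.mp this
      exact mem_range_of_pow_card_eq c this
    · rintro ⟨r, rfl⟩
      change φ (algebraMap k K r) - algebraMap k K r = 0
      rw [φ.commutes, sub_self]
  have hex' := Module.Flat.lTensor_exact A hex
  have hσ : (sigma k K A).toLinearMap = φ.toLinearMap.lTensor A := by
    apply TensorProduct.ext'
    intro a c
    simp [φ]
  have hfb : (f.lTensor A) b = 0 := by
    have : f.lTensor A = (sigma k K A).toLinearMap - LinearMap.id := by
      rw [hσ, LinearMap.lTensor_sub, LinearMap.lTensor_id]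
    rw [this]
    simp [hb]
  obtain ⟨t, rfl⟩ := (hex' b).mp hfb
  clear hfb hb
  induction t using TensorProduct.induction_on with
  | zero => exact ⟨0, by simp⟩
  | tmul a r =>
    refine ⟨r • a, ?_⟩
    simp only [LinearMap.lTensor_tmul, g, Algebra.linearMap_apply,
      Algebra.TensorProduct.algebraMap_apply, Algebra.algebraMap_self, RingHom.id_apply]
    rw [Algebra.algebraMap_eq_smul_one, TensorProduct.tmul_smul, TensorProduct.smul_tmul']
  | add x y hx hy =>
    obtain ⟨a, ha⟩ := hx
    obtain ⟨a', ha'⟩ := hy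
    exact ⟨a + a', by rw [map_add, map_add, ha, ha']⟩

/-- Two primes of `A ⊗[k] K` with the same contraction to `A` differ by an iterate of
`comap (Frob_q ⊗ id)`. -/
theorem exists_iterate_comap_phi_eq [Algebra.IsAlgebraic k K] [Algebra.FiniteType k A]
    (P P' : Ideal (A ⊗[k] K)) [P.IsPrime] [P'.IsPrime]
    (h : P.comap (algebraMap A (A ⊗[k] K)) = P'.comap (algebraMap A (A ⊗[k] K))) :
    ∃ m, (Ideal.comap (phi k K A).toRingHom)^[m] P = P' := by
  have hnoeth : IsNoetherianRing (A ⊗[k] K) := by
    have : IsNoetherianRing (K ⊗[k] A) := Algebra.FiniteType.isNoetherianRing K (K ⊗[k] A)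
    exact isNoetherianRing_of_ringEquiv _ (Algebra.TensorProduct.comm k K A).toRingEquiv
  obtain ⟨m, hm⟩ := exists_iterate_comap_eq_of_periodic (A := A) (sigma k K A).toRingHom
    (fun a ↦ by simp [Algebra.TensorProduct.algebraMap_apply])
    (fun b hb ↦ mem_range_of_sigma_eq k K A b hb)
    (fun b ↦ sigma_periodic k K A b) P' P
    ((isNoetherianRing_iff_ideal_fg _).mp hnoeth P') h.symm
  refine ⟨m, ?_⟩
  rw [← hm]
  exact iterate_comap_phi_iterate_comap_sigma k K A m P'

end Tensor

end Groth.Agent.Lib.FrobOrbit37
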