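import Groth.Agent.Lib.LBaseChangeKProj
import Groth.Agent.Lib.TFunAcyclic
import Groth.Agent.Lib.TFunCompare
import Groth.Agent.Lib.ConeQuasiIso

/-!
# `DRing.LBaseChange` and `DRing.LTensor` on bounded above complexes of FLAT modules

For an additive functor `G : Mod A ⥤ Mod B` and the abstract total left derived functor `LG G` of
`Kh G` (see `Groth.Agent.Lib.LBaseChangeKProj`):

* `CounitIso G E`: the canonical counit `LG(Q E) ⟶ Q(G E)` is an isomorphism; `lgIso' G E h` the
  resulting isomorphism `(LG G).obj (Q.obj E) ≅ Q.obj (G E)`, natural in `E` (`lgIso'_hom_naturality`).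
* `counitIso_of_kproj`: K-projective complexes (with `G E` having a K-projective representative).
* `counitIso_of_quasiIso`: transfer along a quasi-isomorphism `p` with `G p` a quasi-isomorphism.
* `KillsFlatAcyclic G`: `G` sends bounded above acyclic complexes of flat modules to acyclic complexes
  (`killsFlatAcyclic_tensorRight`, `killsFlatAcyclic_extendScalars`); then
  `quasiIso_map_of_flat` and `counitIso_of_flat`: bounded above complexes of flat modules compute `LG G`.
* wrappers `lbcIsoOfFlat`, `ltIsoOfFlat` for `DRing.LBaseChange`, `DRing.LTensor`.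
-/

set_option autoImplicit false
universe u

open CategoryTheory CategoryTheory.Limits Category MonoidalCategory

attribute [local instance] HasDerivedCategory.standard

namespace Groth.Agent.Lib.LBaseChangeFlat

open DerivedCategory Groth.Agent.Lib.LBaseChangeKProj

section General

variable {A B : Type u} [CommRing A] [CommRing B]
  (G : ModuleCat.{u} A ⥤ ModuleCat.{u} B) [G.Additive]

/-- `G` sends bounded above acyclic complexes of flat modules to acyclic complexes. -/
def KillsFlatAcyclic : Prop :=
  ∀ (C : CochainComplex (ModuleCat.{u} A) ℤ), (∀ i, Module.Flat A (C.X i)) →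
    (∃ b : ℤ, ∀ i, b < i → IsZero (C.X i)) → C.Acyclic →
    ((G.mapHomologicalComplex (ComplexShape.up ℤ)).obj C).Acyclic

variable {G} in
/-- quasi-isomorphisms between bounded above complexes of flat modules are preserved -/
theorem quasiIso_map_of_flat (hG : KillsFlatAcyclic G) {P E : CochainComplex (ModuleCat.{u} A) ℤ}
    (p : P ⟶ E) [QuasiIso p] (hP : ∀ i, Module.Flat A (P.X i)) (hE : ∀ i, Module.Flat A (E.X i))
    (b : ℤ) (hPb : ∀ i, b < i → IsZero (P.X i)) (hEb : ∀ i, b < i → IsZero (E.X i)) :
    QuasiIso ((G.mapHomologicalComplex (ComplexShape.up ℤ)).map p) := by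
  rw [Groth.Agent.Lib.ConeQuasiIso.quasiIso_iff_acyclic_mappingCone]
  have h1 : (CochainComplex.mappingCone p).Acyclic :=
    (Groth.Agent.Lib.ConeQuasiIso.quasiIso_iff_acyclic_mappingCone p).1 inferInstance
  have h2 := hG (CochainComplex.mappingCone p)
    (Groth.Agent.Lib.ConeQuasiIso.flat_mappingCone_X p hP hE) ⟨b, fun i hi => by
      refine IsZero.of_iso ?_ (HomologicalComplex.homotopyCofiber.XIsoBiprod p i (i + 1) rfl)
      rw [biprod_isZero_iff]
      exact ⟨hPb _ (by lia), hEb _ hi⟩⟩ h1
  intro i
  exact (h2 i).of_iso (CochainComplex.mappingCone.mapHomologicalComplexIso p G)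

variable [(Kh G).HasLeftDerivedFunctor
  (HomotopyCategory.quasiIso (ModuleCat.{u} A) (ComplexShape.up ℤ))]

/-- The counit of the abstract derived functor is an isomorphism at the complex `E`. -/
def CounitIso (E : CochainComplex (ModuleCat.{u} A) ℤ) : Prop :=
  IsIso ((counit G).app ((HomotopyCategory.quotient _ _).obj E))

lemma counitIso_of_kproj (P₀ : CochainComplex (ModuleCat.{u} A) ℤ) [P₀.IsKProjective]
    (h : HasKProjRep (Q.obj ((G.mapHomologicalComplex (ComplexShape.up ℤ)).obj P₀))) :
    CounitIso G P₀ := isIso_counit_app G P₀ h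

/-- The value of the abstract derived functor at a complex where the counit is invertible. -/
noncomputable def lgIso' (E : CochainComplex (ModuleCat.{u} A) ℤ) (h : CounitIso G E) :
    (LG G).obj (Q.obj E) ≅ Q.obj ((G.mapHomologicalComplex (ComplexShape.up ℤ)).obj E) :=
  have : IsIso ((counit G).app ((HomotopyCategory.quotient _ _).obj E)) := h
  (LG G).mapIso ((quotientCompQhIso (ModuleCat.{u} A)).app E).symm ≪≫
    asIso ((counit G).app ((HomotopyCategory.quotient _ _).obj E)) ≪≫ khObjIso G E

lemma lgIso'_hom_naturality {E₀ E₁ : CochainComplex (ModuleCat.{u} A) ℤ}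
    (h₀ : CounitIso G E₀) (h₁ : CounitIso G E₁) (f : E₀ ⟶ E₁) :
    (LG G).map (Q.map f) ≫ (lgIso' G E₁ h₁).hom =
      (lgIso' G E₀ h₀).hom ≫ Q.map ((G.mapHomologicalComplex (ComplexShape.up ℤ)).map f) := by
  dsimp only [lgIso', Iso.trans_hom, Functor.mapIso_hom, Iso.symm_hom, Iso.app_inv, asIso_hom]
  have h1 : (LG G).map (Q.map f) ≫
      (LG G).map ((quotientCompQhIso (ModuleCat.{u} A)).inv.app E₁) =
      (LG G).map ((quotientCompQhIso (ModuleCat.{u} A)).inv.app E₀) ≫
        (LG G).map (Qh.map ((HomotopyCategory.quotient _ _).map f)) := by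
    rw [← Functor.map_comp, ← Functor.map_comp, quotientCompQhIso_inv_naturality]
  have h2 := (counit G).naturality ((HomotopyCategory.quotient _ _).map f)
  simp only [Functor.comp_map] at h2
  have h3 := khObjIso_hom_naturality G f
  simp only [Functor.comp_map] at h3
  rw [← assoc, h1, assoc, assoc, ← assoc ((LG G).map (Qh.map _)), h2, assoc, h3, assoc]

/-- Transfer along a quasi-isomorphism which stays a quasi-isomorphism after applying `G`. -/
lemma counitIso_of_quasiIso {P E : CochainComplex (ModuleCat.{u} A) ℤ} (p : P ⟶ E) [QuasiIso p]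
    (hGp : QuasiIso ((G.mapHomologicalComplex (ComplexShape.up ℤ)).map p))
    (hP : CounitIso G P) : CounitIso G E := by
  have h2 := (counit G).naturality ((HomotopyCategory.quotient _ _).map p)
  simp only [Functor.comp_map] at h2
  have i1 : IsIso (Qh.map ((HomotopyCategory.quotient _ _).map p)) := by
    rw [DerivedCategory.isIso_Qh_map_iff, HomotopyCategory.quotient_map_mem_quasiIso_iff,
      HomologicalComplex.mem_quasiIso_iff]
    infer_instance
  have i2 : IsIso ((Kh G).map ((HomotopyCategory.quotient _ _).map p)) := by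
    have h3 := khObjIso_hom_naturality G p
    have : IsIso (Q.map ((G.mapHomologicalComplex (ComplexShape.up ℤ)).map p)) := by
      rw [DerivedCategory.isIso_Q_map_iff_quasiIso]
      exact hGp
    have h4 : (Kh G).map ((HomotopyCategory.quotient _ _).map p) =
        ((khObjIso G P).hom ≫ Q.map ((G.mapHomologicalComplex (ComplexShape.up ℤ)).map p)) ≫
          (khObjIso G E).inv := by
      rw [← h3, assoc, Iso.hom_inv_id, comp_id]
    rw [h4]
    infer_instance
  have i3 : IsIso ((counit G).app ((HomotopyCategory.quotient _ _).obj P)) := hP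
  have h5 : (counit G).app ((HomotopyCategory.quotient _ _).obj E) =
      inv ((LG G).map (Qh.map ((HomotopyCategory.quotient _ _).map p))) ≫
        (counit G).app ((HomotopyCategory.quotient _ _).obj P) ≫
          (Kh G).map ((HomotopyCategory.quotient _ _).map p) := by
    rw [IsIso.eq_inv_comp]
    exact h2
  unfold CounitIso
  rw [h5]
  infer_instance

/-- Bounded above complexes of flat modules compute the abstract derived functor. -/
theorem counitIso_of_flat (hG : KillsFlatAcyclic G) (E : CochainComplex (ModuleCat.{u} A) ℤ)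
    (hE : ∀ i, Module.Flat A (E.X i)) (b : ℤ) (hEb : ∀ i, b < i → IsZero (E.X i)) :
    CounitIso G E := by
  have : E.IsStrictlyLE b := by
    rw [CochainComplex.isStrictlyLE_iff]
    exact hEb
  obtain ⟨P, p, hp, hP, hPb⟩ := Groth.Agent.Lib.ProjResolution.exists_quasiIso_projective E b
  have hPflat : ∀ i, Module.Flat A (P.X i) := fun i => by
    have := hP i
    have : Module.Projective A (P.X i) := ModuleCat.projective_of_module_projective (P.X i)
    infer_instance
  have hq := quasiIso_map_of_flat hG p hPflat hE b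
    (fun i hi => P.isZero_of_isStrictlyLE b i hi) hEb
  have := CochainComplex.isKProjective_of_projective P b
  exact counitIso_of_quasiIso G p hq
    (counitIso_of_kproj G P (hasKProjRep_map_of_isStrictlyLE G P b))

end General

section Instances

variable {A : Type u} [CommRing A]

theorem killsFlatAcyclic_tensorRight (M : ModuleCat.{u} A) :
    KillsFlatAcyclic (tensorRight M) := by
  intro C hC hb hac i
  rw [HomologicalComplex.exactAt_iff_isZero_homology]
  exact Groth.Agent.Lib.TFunAcyclic.isZero_TFun_obj_of_acyclic_above C hC hb (i - 1)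
    (fun p _ => (HomologicalComplex.exactAt_iff_isZero_homology _ _).1 (hac p)) i (by lia) M

theorem killsFlatAcyclic_extendScalars {B : Type u} [CommRing B] [Algebra A B] :
    KillsFlatAcyclic (ModuleCat.extendScalars.{u, u, u} (algebraMap A B)) := by
  intro C hC hb hac i
  rw [HomologicalComplex.exactAt_iff_isZero_homology]
  have h1 : IsZero ((CohIII.TFun C i).obj (ModuleCat.of A B)) :=
    Groth.Agent.Lib.TFunAcyclic.isZero_TFun_obj_of_acyclic_above C hC hb (i - 1)
      (fun p _ => (HomologicalComplex.exactAt_iff_isZero_homology _ _).1 (hac p)) i (by lia) _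
  have h2 := h1.of_iso (Groth.Agent.Lib.TFunCompare.homologyCompare B C i)
  have h3 := ModuleCat.subsingleton_of_isZero h2
  exact @ModuleCat.isZero_of_subsingleton _ _ _ h3

end Instances

section DRingWrappers

variable {A B : Type u} [CommRing A] [CommRing B] (φ : A →+* B) [DRing.HasLBaseChange φ]

omit [DRing.HasLBaseChange φ] in
theorem killsFlatAcyclic_extendScalars' :
    KillsFlatAcyclic (ModuleCat.extendScalars.{u, u, u} φ) := by
  let _ := φ.toAlgebra
  exact killsFlatAcyclic_extendScalars (A := A) (B := B)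

/-- `K ⊗^L_A B` for `K` the class of a bounded above complex `E` of FLAT modules is the class of
`E ⊗_A B` (termwise). -/
noncomputable def lbcIsoOfFlat (E : CochainComplex (ModuleCat.{u} A) ℤ)
    (hE : ∀ i, Module.Flat A (E.X i)) (b : ℤ) (hEb : ∀ i, b < i → IsZero (E.X i)) :
    (DRing.LBaseChange φ).obj (Q.obj E) ≅
      Q.obj (((ModuleCat.extendScalars.{u, u, u} φ).mapHomologicalComplex
        (ComplexShape.up ℤ)).obj E) :=
  lgIso' (ModuleCat.extendScalars.{u, u, u} φ) E
    (counitIso_of_flat _ (killsFlatAcyclic_extendScalars' φ) E hE b hEb)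

lemma lbcIsoOfFlat_hom_naturality {E₀ E₁ : CochainComplex (ModuleCat.{u} A) ℤ}
    (hE₀ : ∀ i, Module.Flat A (E₀.X i)) (b₀ : ℤ) (hEb₀ : ∀ i, b₀ < i → IsZero (E₀.X i))
    (hE₁ : ∀ i, Module.Flat A (E₁.X i)) (b₁ : ℤ) (hEb₁ : ∀ i, b₁ < i → IsZero (E₁.X i))
    (f : E₀ ⟶ E₁) :
    (DRing.LBaseChange φ).map (Q.map f) ≫ (lbcIsoOfFlat φ E₁ hE₁ b₁ hEb₁).hom =
      (lbcIsoOfFlat φ E₀ hE₀ b₀ hEb₀).hom ≫
        Q.map (((ModuleCat.extendScalars.{u, u, u} φ).mapHomologicalComplex
          (ComplexShape.up ℤ)).map f) :=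
  lgIso'_hom_naturality (ModuleCat.extendScalars.{u, u, u} φ) _ _ f

variable (A) in
/-- `K ⊗^L_A M` for `K` the class of a bounded above complex `E` of FLAT modules is the class of
`E ⊗_A M` (termwise). -/
noncomputable def ltIsoOfFlat (M : ModuleCat.{u} A) [DRing.HasLTensor A M]
    (E : CochainComplex (ModuleCat.{u} A) ℤ)
    (hE : ∀ i, Module.Flat A (E.X i)) (b : ℤ) (hEb : ∀ i, b < i → IsZero (E.X i)) :
    (DRing.LTensor A M).obj (Q.obj E) ≅
      Q.obj (((tensorRight M).mapHomologicalComplex (ComplexShape.up ℤ)).obj E) :=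
  lgIso' (tensorRight M) E (counitIso_of_flat _ (killsFlatAcyclic_tensorRight M) E hE b hEb)

lemma ltIsoOfFlat_hom_naturality (M : ModuleCat.{u} A) [DRing.HasLTensor A M]
    {E₀ E₁ : CochainComplex (ModuleCat.{u} A) ℤ}
    (hE₀ : ∀ i, Module.Flat A (E₀.X i)) (b₀ : ℤ) (hEb₀ : ∀ i, b₀ < i → IsZero (E₀.X i))
    (hE₁ : ∀ i, Module.Flat A (E₁.X i)) (b₁ : ℤ) (hEb₁ : ∀ i, b₁ < i → IsZero (E₁.X i))
    (f : E₀ ⟶ E₁) :
    (DRing.LTensor A M).map (Q.map f) ≫ (ltIsoOfFlat A M E₁ hE₁ b₁ hEb₁).hom =
      (ltIsoOfFlat A M E₀ hE₀ b₀ hEb₀).hom ≫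
        Q.map (((tensorRight M).mapHomologicalComplex (ComplexShape.up ℤ)).map f) :=
  lgIso'_hom_naturality (tensorRight M) _ _ f

end DRingWrappers

end Groth.Agent.Lib.LBaseChangeFlat
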