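import Groth.Agent.Lib.CechBC25
import Groth.Agent.Lib.CechRes25
import Groth.Agent.Lib.CechFlat25
import Groth.Agent.Lib.LBaseChangeFlat
import Mathlib.Algebra.Category.ModuleCat.Monoidal.Basic
import Mathlib.Algebra.CharP.Frobenius

/-!
# `RΓ_I(Y) ≅ Q(ced fs Y)` and Frobenius base change of `RΓ_I(A)` (helper25)
-/

set_option autoImplicit false
set_option linter.style.haveILetI false
set_option linter.unusedSectionVars false
universe u

open CategoryTheory Category Limits CochainComplex HomologicalComplex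

attribute [local instance] HasDerivedCategory.standard

namespace Groth.Agent.Lib.FrobRG25

open DerivedCategory Groth.Agent.Lib.CechRG25 Groth.Agent.Lib.CechBC25
  Groth.Agent.Lib.CechRes25
open Groth.Agent.Lib.RGammaAcyc25 Groth.Agent.Lib.RGammaNoeth25 Groth.Agent.Lib.RGammaComp25

variable {A : Type u} [CommRing A]

/-- `ced fs` applied to an isomorphism -/
noncomputable def cedIso : ∀ (fs : List A) {Y Y' : Cx A} (_ : Y ≅ Y'), ced fs Y ≅ ced fs Y'
  | [], _, _, e => e
  | f :: fs, _, _, e => ceIso f (cedIso fs e)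

/-- **`RΓ_I` is computed by the iterated Čech construction** on any complex (Noetherian ring) -/
theorem nonempty_rg_ced [IsNoetherianRing A] (I : Ideal A) [DRing.HasRgammaI I] (fs : List A)
    (hfs : Ideal.span {x | x ∈ fs} = I) (Y : Cx A) :
    Nonempty ((DRing.RgammaI I).obj (Q.obj Y) ≅ Q.obj (ced fs Y)) := by
  obtain ⟨Y', j, hK, hj, hInj⟩ := exists_kinj_injTerms Y
  have : IsIso (Q.map j) := by
    rw [isIso_Q_map_iff_quasiIso]
    exact hj
  obtain ⟨e1⟩ := nonempty_ced_iso fs Y Y' hInj (asIso (Q.map j))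
  exact ⟨(DRing.RgammaI I).mapIso (asIso (Q.map j)) ≪≫ rgIsoInj I Y' hInj ≪≫
    Q.mapIso (gXCongr hfs.symm Y') ≪≫ e1.symm⟩

/-- `A[0]` -/
noncomputable abbrev X₀ (A : Type u) [CommRing A] : Cx A :=
  (HomologicalComplex.single (ModuleCat.{u} A) (ComplexShape.up ℤ) 0).obj (ModuleCat.of A A)

/-- extension of scalars of `A[0]` is `B[0]` -/
noncomputable def extX₀ {B : Type u} [CommRing B] (φ : A →+* B) : (G φ).obj (X₀ A) ≅ X₀ B :=
  (HomologicalComplex.singleMapHomologicalComplex (ModuleCat.extendScalars.{u, u, u} φ)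
      (ComplexShape.up ℤ) 0).app (ModuleCat.of A A) ≪≫
    (HomologicalComplex.single (ModuleCat.{u} B) (ComplexShape.up ℤ) 0).mapIso
      (Functor.Monoidal.εIso (ModuleCat.extendScalars.{u, u, u} φ)).symm

/-- **Frobenius base change of `RΓ_I(A)`** (= S8934) -/
theorem nonempty_iso_frobenius (p : ℕ) [Fact p.Prime] [IsNoetherianRing A] [CharP A p]
    (I : Ideal A) [DRing.HasRgammaI I] [DRing.HasLBaseChange (frobenius A p)] :
    Nonempty ((DRing.LBaseChange (frobenius A p)).obj ((DRing.RgammaI I).obj (Dual.inD A A)) ≅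
      (DRing.RgammaI I).obj (Dual.inD A A)) := by
  obtain ⟨fs, hfs⟩ := exists_list_span I
  obtain ⟨e1⟩ := nonempty_rg_ced I fs hfs (X₀ A)
  have hflat : ∀ i, Module.Flat A ((ced fs (X₀ A)).X i) := by
    rw [← extCech_eq]
    exact Groth.Agent.Lib.CechFlat25.flat_extCech (ModuleCat.of A A) fs
  have hbdd : ∀ i : ℤ, (fs.length : ℤ) < i → IsZero ((ced fs (X₀ A)).X i) := by
    rw [← extCech_eq]
    exact Groth.Agent.Lib.CechFlat25.isZero_extCech (ModuleCat.of A A) fs
  let e2 := Groth.Agent.Lib.LBaseChangeFlat.lbcIsoOfFlat (frobenius A p) (ced fs (X₀ A)) hflat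
    (fs.length : ℤ) hbdd
  let e3 : (G (frobenius A p)).obj (ced fs (X₀ A)) ≅ ced (fs.map (frobenius A p)) (X₀ A) :=
    cedBC (frobenius A p) fs (X₀ A) ≪≫ cedIso _ (extX₀ (frobenius A p))
  have hmap : fs.map (frobenius A p) = fs.map (fun f => f ^ p) := by
    apply List.map_congr_left
    intro a _
    exact frobenius_def p a
  let e4 : ced (fs.map (frobenius A p)) (X₀ A) ≅ ced fs (X₀ A) :=
    eqToIso (by rw [hmap]) ≪≫ cedPow p (Fact.out : p.Prime).pos fs (X₀ A)
  exact ⟨(DRing.LBaseChange (frobenius A p)).mapIso e1 ≪≫ e2 ≪≫ Q.mapIso (e3 ≪≫ e4) ≪≫ e1.symm⟩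

end Groth.Agent.Lib.FrobRG25
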