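import Groth.Agent.Lib.ProperFinHyp
import Groth.Agent.Lib.H90InvertibleFP
import Mathlib.FieldTheory.Perfect

/-!
# Frobenius split proper schemes: `H^i(X, B) = 0` for `B = coker (Frobenius on O_X)` (helper5)

S16369 in hypothesis form on S0002.
-/

set_option autoImplicit false
universe u

open CategoryTheory CategoryTheory.Limits AlgebraicGeometry TopologicalSpace Opposite

namespace Groth.Agent.Lib.FrobSplit5

open Groth.Agent.Lib.ProperFinHyp

section Alg

/-- An injective additive endomorphism of a finite-dimensional vector space which is semilinear with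
respect to a surjective ring endomorphism of the field is surjective. -/
theorem surjective_of_injective_of_semilinear {k V : Type*} [Field k] [AddCommGroup V] [Module k V]
    [FiniteDimensional k V] (σ : k →+* k) (hσ : Function.Surjective σ) (f : V →+ V)
    (hf : ∀ (c : k) (v : V), f (c • v) = σ c • f v) (hinj : Function.Injective f) :
    Function.Surjective f := by
  classical
  obtain ⟨τ, hτ⟩ := hσ.hasRightInverse
  let b := Module.finBasis k V
  have hli : LinearIndependent k (fun i => f (b i)) := by
    rw [linearIndependent_iff']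
    intro s g hg i hi
    have h1 : f (∑ j ∈ s, τ (g j) • b j) = 0 := by
      rw [map_sum, ← hg]
      refine Finset.sum_congr rfl fun j _ => ?_
      rw [hf, hτ]
    have h2 : ∑ j ∈ s, τ (g j) • b j = 0 := hinj (by rw [h1, map_zero])
    have h3 := linearIndependent_iff'.mp b.linearIndependent s (fun j => τ (g j)) h2 i hi
    have h4 : σ (τ (g i)) = 0 := by rw [h3, map_zero]
    rwa [hτ] at h4
  have hspan : Submodule.span k (Set.range fun i => f (b i)) = ⊤ :=
    hli.span_eq_top_of_card_eq_finrank' (by simp)
  -- the range of `f` is a subspace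
  let W : Submodule k V :=
    { carrier := Set.range f
      add_mem' := by
        rintro _ _ ⟨a, rfl⟩ ⟨a', rfl⟩
        exact ⟨a + a', map_add f a a'⟩
      zero_mem' := ⟨0, map_zero f⟩
      smul_mem' := by
        rintro c _ ⟨a, rfl⟩
        exact ⟨τ c • a, by rw [hf, hτ]⟩ }
  have hW : Submodule.span k (Set.range fun i => f (b i)) ≤ W := by
    rw [Submodule.span_le]
    rintro _ ⟨i, rfl⟩
    exact ⟨b i, rfl⟩
  intro v
  have : v ∈ W := hW (by rw [hspan]; trivial)
  exact this

end Alg

section Main

variable {X : Scheme.{u}}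

/-- `H.map 0 = 0`. -/
theorem H_map_zero {F G : Sheaf (Opens.grothendieckTopology X) AddCommGrpCat.{u}} (n : ℕ)
    (x : Sheaf.H F n) : Sheaf.H.map (0 : F ⟶ G) n x = 0 := by
  change ((Sheaf.functorH _ n).map (0 : F ⟶ G)).hom x = 0
  rw [Functor.map_zero]
  rfl

/-- Multiplication by `r` followed by the `p`-th power map is the `p`-th power map followed by
multiplication by `r ^ p`. -/
theorem smulAb_comp_frob (p : ℕ)
    (φ : Coh.toAb (Coh.structureModule X) ⟶ Coh.toAb (Coh.structureModule X))
    (hφ : ∀ (U : X.Opens) (t : Γ(X, U)), φ.hom.app (op U) t = t ^ p) (r : Coh.Γtop X) :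
    Coh.smulAb (Coh.structureModule X) r ≫ φ = φ ≫ Coh.smulAb (Coh.structureModule X) (r ^ p) := by
  ext U m
  obtain ⟨U⟩ := U
  change φ.hom.app (op U) ((Coh.smulAb (Coh.structureModule X) r).hom.app (op U) m) =
    (Coh.smulAb (Coh.structureModule X) (r ^ p)).hom.app (op U) (φ.hom.app (op U) m)
  rw [Coh.smulAb_app, Coh.smulAb_app, map_pow]
  have h1 := hφ U m
  have h2 := hφ U ((show Γ(X, U) from Coh.resTop X (op U) r) * (show Γ(X, U) from m))
  rw [mul_pow] at h2
  rw [h1]
  exact h2

/-- **S16369 (hypothesis form on S0002)**. -/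
theorem subsingleton_H_cokernel_frobenius (H : Hyp.{u})
    (p : ℕ) [Fact p.Prime] (k : Type u) [Field k] [CharP k p] [PerfectField k]
    (X : Scheme.{u}) [X.Over (Spec (CommRingCat.of k))] [IsProper (X ↘ Spec (CommRingCat.of k))]
    (φ : Coh.toAb (Coh.structureModule X) ⟶ Coh.toAb (Coh.structureModule X))
    (hφ : ∀ (U : X.Opens) (t : Γ(X, U)), φ.hom.app (op U) t = t ^ p)
    (s : Coh.toAb (Coh.structureModule X) ⟶ Coh.toAb (Coh.structureModule X))
    (hs : φ ≫ s = 𝟙 _) (i : ℕ) : Subsingleton (Sheaf.H (Limits.cokernel φ) i) := by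
  haveI : Module.Finite k (Coh.HH X (Coh.structureModule X) i) :=
    H k X (Coh.structureModule X) (Groth.Agent.Lib.H90Invertible.isCoh_of_isInvertible
      (Groth.Agent.Lib.H90Invertible.isInvertible_structureModule X)) i
  -- `H^i(φ)` is Frobenius-semilinear
  have hsemi : ∀ (c : k) (x : Coh.HH X (Coh.structureModule X) i),
      Sheaf.H.map φ i (c • x) = frobenius k p c • Sheaf.H.map φ i x := by
    intro c x
    change Sheaf.H.map φ i (Sheaf.H.map (Coh.smulAb (Coh.structureModule X)
      (Coh.toGlobal (X ↘ Spec (CommRingCat.of k)) c)) i x) =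
      Sheaf.H.map (Coh.smulAb (Coh.structureModule X)
        (Coh.toGlobal (X ↘ Spec (CommRingCat.of k)) (frobenius k p c))) i (Sheaf.H.map φ i x)
    rw [← Sheaf.H.map_comp_apply, ← Sheaf.H.map_comp_apply, smulAb_comp_frob p φ hφ,
      frobenius_def, map_pow]
  have hinj : Function.Injective (Sheaf.H.map φ i) := by
    intro x y hxy
    have := congrArg (Sheaf.H.map s i) hxy
    rwa [← Sheaf.H.map_comp_apply, ← Sheaf.H.map_comp_apply, hs, Sheaf.H.map_id_apply,
      Sheaf.H.map_id_apply] at this
  have hsurj : Function.Surjective (Sheaf.H.map φ i) :=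
    surjective_of_injective_of_semilinear (frobenius k p) (surjective_frobenius k p)
      (Sheaf.H.map φ i) hsemi hinj
  -- the cokernel is a retract of `O_X`
  have he : φ ≫ (𝟙 _ - s ≫ φ) = 0 := by
    rw [Preadditive.comp_sub, Category.comp_id, ← Category.assoc, hs, Category.id_comp, sub_self]
  set r := cokernel.desc φ (𝟙 _ - s ≫ φ) he with hr
  have hrπ : r ≫ cokernel.π φ = 𝟙 _ := by
    apply (cancel_epi (cokernel.π φ)).mp
    rw [← Category.assoc, hr, cokernel.π_desc, Preadditive.sub_comp, Category.id_comp,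
      Category.assoc, cokernel.condition, comp_zero, sub_zero, Category.comp_id]
  refine ⟨fun y y' => ?_⟩
  have key : ∀ y : Sheaf.H (Limits.cokernel φ) i, y = 0 := by
    intro y
    have h1 : y = Sheaf.H.map (cokernel.π φ) i (Sheaf.H.map r i y) := by
      rw [← Sheaf.H.map_comp_apply, hrπ, Sheaf.H.map_id_apply]
    obtain ⟨w, hw⟩ := hsurj (Sheaf.H.map r i y)
    rw [h1, ← hw, ← Sheaf.H.map_comp_apply, cokernel.condition]
    exact H_map_zero i w
  rw [key y, key y']

end Main

end Groth.Agent.Lib.FrobSplit5
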