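/-
Base-point-free pencil trick (Castelnuovo) for function fields of one variable (helper70),
on top of helper40's FunFld library (Riemann–Roch in `Lib/H40FunFldWeil`).

* `mul_mem_L`, `val_eq_of_mem_of_not_mem`, `mem_L_sub_single`
* `NoBase F s₁ s₂`, `exists_pencil` (base-point-free ⟹ a pencil without common base points)
* `pencil`: `L (G + F) = s₁ L(G) + s₂ L(G)` when `ℓ(G+F) + ℓ(G-F) = 2 ℓ(G)`
-/
import Mathlib
import Groth.Agent.Lib.H40FunFldWeil
import Groth.Agent.Lib.H40FunFldGaps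

set_option autoImplicit false

namespace Groth.Agent.Lib.FunFldPencil

open FunFld Groth.Agent.Lib.H40FunFld

variable {k K : Type*} [Field k] [Field K] [Algebra k K]

theorem mul_mem_L {D E : Divisor k K} {x y : K} (hx : x ∈ L D) (hy : y ∈ L E) :
    x * y ∈ L (D + E) := by
  rw [mem_L_iff] at hx hy ⊢
  intro P
  rw [map_mul, Finsupp.add_apply, WithZero.exp_add]
  exact mul_le_mul' (hx P) (hy P)

theorem mem_L_sub_single {D : Divisor k K} {P : Place k K} {x : K} (hx : x ∈ L D)
    (h : P.1 x < WithZero.exp (D P)) : x ∈ L (D - Finsupp.single P 1) := by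
  classical
  rw [mem_L_iff] at hx ⊢
  intro Q
  by_cases hQ : Q = P
  · subst hQ
    rw [Finsupp.sub_apply, Finsupp.single_eq_same]
    have : D Q = (D Q - 1) + 1 := by ring
    rw [this, lt_exp_add_one_iff] at h
    exact h
  · rw [Finsupp.sub_apply, Finsupp.single_eq_of_ne hQ, sub_zero]
    exact hx Q

theorem val_eq_of_mem_of_not_mem {D : Divisor k K} {P : Place k K} {x : K} (hx : x ∈ L D)
    (hx' : x ∉ L (D - Finsupp.single P 1)) : P.1 x = WithZero.exp (D P) := by
  by_contra hne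
  exact hx' (mem_L_sub_single hx (lt_of_le_of_ne ((mem_L_iff D x).1 hx P) hne))

theorem L_sub_single_le (D : Divisor k K) (P : Place k K) :
    L (D - Finsupp.single P 1) ≤ L D := by
  apply L_mono
  intro Q
  classical
  rw [Finsupp.sub_apply]
  by_cases hQ : Q = P
  · subst hQ; rw [Finsupp.single_eq_same]; omega
  · rw [Finsupp.single_eq_of_ne hQ]; omega

/-- `s₁, s₂` have no common base point with respect to `F`. -/
def NoBase (F : Divisor k K) (s₁ s₂ : K) : Prop :=
  ∀ Q : Place k K, Q.1 s₁ = WithZero.exp (F Q) ∨ Q.1 s₂ = WithZero.exp (F Q)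

theorem NoBase.symm {F : Divisor k K} {s₁ s₂ : K} (h : NoBase F s₁ s₂) : NoBase F s₂ s₁ :=
  fun Q => (h Q).symm

/-- auxiliary pencil lemma, `s₁ ≠ 0` -/
theorem pencil_aux (hK : IsFunctionField k K) {F G : Divisor k K} {s₁ s₂ : K}
    (h₁ : s₁ ∈ L F) (h₂ : s₂ ∈ L F) (hnb : NoBase F s₁ s₂) (hs₁ : s₁ ≠ 0)
    (hdim : ell (G + F) + ell (G - F) = 2 * ell G) :
    ∀ x ∈ L (G + F), ∃ a ∈ L G, ∃ b ∈ L G, x = s₁ * a + s₂ * b := by
  haveI := finiteDimensional_L hK G
  haveI := finiteDimensional_L hK (G + F)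
  haveI := finiteDimensional_L hK (G - F)
  -- the multiplication map
  obtain ⟨Ψ, hΨ⟩ : ∃ Ψ : (L G × L G) →ₗ[k] K, ∀ p : L G × L G, Ψ p = s₁ * p.1 + s₂ * p.2 :=
    ⟨(LinearMap.mulLeft k s₁).comp ((L G).subtype.comp (LinearMap.fst k _ _)) +
      (LinearMap.mulLeft k s₂).comp ((L G).subtype.comp (LinearMap.snd k _ _)), fun p => rfl⟩
  have hrange : LinearMap.range Ψ ≤ L (G + F) := by
    rintro _ ⟨p, rfl⟩
    rw [hΨ]
    refine Submodule.add_mem _ ?_ ?_
    · rw [add_comm G F]; exact mul_mem_L h₁ p.1.2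
    · rw [add_comm G F]; exact mul_mem_L h₂ p.2.2
  -- the kernel injects into `L (G - F)`
  have hker : ∀ p ∈ LinearMap.ker Ψ, -(p.2 : K) * s₁⁻¹ ∈ L (G - F) := by
    intro p hp
    rw [LinearMap.mem_ker, hΨ] at hp
    rw [mem_L_iff]
    intro Q
    rw [Finsupp.sub_apply, WithZero.exp_sub]
    rcases hnb Q with hQ | hQ
    · rw [map_mul, Valuation.map_neg, map_inv₀, hQ, div_eq_mul_inv]
      exact mul_le_mul_left ((mem_L_iff G _).1 p.2.2 Q) _
    · have hs₂ : s₂ ≠ 0 := by
        intro h0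
        rw [h0, map_zero] at hQ
        exact WithZero.exp_ne_zero hQ.symm
      have e : -(p.2 : K) * s₁⁻¹ = (p.1 : K) * s₂⁻¹ := by
        field_simp
        first | linear_combination (-1 : K) * hp | linear_combination hp
      rw [e, map_mul, map_inv₀, hQ, div_eq_mul_inv]
      exact mul_le_mul_left ((mem_L_iff G _).1 p.1.2 Q) _
  obtain ⟨T, hTdef⟩ : ∃ T : LinearMap.ker Ψ →ₗ[k] L (G - F),
      ∀ p : LinearMap.ker Ψ, ((T p : L (G - F)) : K) = -(p.1.2 : K) * s₁⁻¹ :=
    ⟨{ toFun := fun p => ⟨-(p.1.2 : K) * s₁⁻¹, hker p.1 p.2⟩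
       map_add' := fun p q => by
         apply Subtype.ext
         simp only [Submodule.coe_add, Prod.snd_add]
         ring
       map_smul' := fun c p => by
         apply Subtype.ext
         simp only [Submodule.coe_smul, Prod.smul_snd, RingHom.id_apply,
           Algebra.smul_def]
         ring }, fun p => rfl⟩
  have hT0 : ∀ p : LinearMap.ker Ψ, T p = 0 → p = 0 := by
    intro p hp
    have h0 : -(p.1.2 : K) * s₁⁻¹ = 0 := by
      rw [← hTdef p, hp]; rfl
    have hb : (p.1.2 : K) = 0 := by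
      have := mul_eq_zero.mp h0
      rcases this with h | h
      · exact neg_eq_zero.mp h
      · exact absurd (inv_eq_zero.mp h) hs₁
    have hp' := p.2
    rw [LinearMap.mem_ker, hΨ, hb, mul_zero, add_zero] at hp'
    have ha : (p.1.1 : K) = 0 := by
      rcases mul_eq_zero.mp hp' with h | h
      · exact absurd h hs₁
      · exact h
    apply Subtype.ext
    apply Prod.ext
    · exact Subtype.ext ha
    · exact Subtype.ext hb
  have hT : Function.Injective T := by
    intro p q hpq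
    have h1 : T (p - q) = 0 := by rw [T.map_sub p q, hpq, sub_self]
    exact sub_eq_zero.mp (hT0 _ h1)
  have hfin : Module.finrank k (LinearMap.ker Ψ) ≤ ell (G - F) :=
    LinearMap.finrank_le_finrank_of_injective hT
  have hrn := LinearMap.finrank_range_add_finrank_ker Ψ
  rw [Module.finrank_prod] at hrn
  have hge : Module.finrank k (L (G + F)) ≤ Module.finrank k (LinearMap.range Ψ) := by
    unfold ell at hdim hfin
    omega
  have heq : LinearMap.range Ψ = L (G + F) := Submodule.eq_of_le_of_finrank_le hrange hge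
  intro x hx
  rw [← heq] at hx
  obtain ⟨p, rfl⟩ := hx
  exact ⟨p.1, p.1.2, p.2, p.2.2, hΨ p⟩

/-- **Base-point-free pencil trick.** -/
theorem pencil (hK : IsFunctionField k K) {F G : Divisor k K} {s₁ s₂ : K}
    (h₁ : s₁ ∈ L F) (h₂ : s₂ ∈ L F) (hnb : NoBase F s₁ s₂)
    (hdim : ell (G + F) + ell (G - F) = 2 * ell G) :
    ∀ x ∈ L (G + F), ∃ a ∈ L G, ∃ b ∈ L G, x = s₁ * a + s₂ * b := by
  by_cases hs₁ : s₁ = 0
  · have hs₂ : s₂ ≠ 0 := by
      obtain ⟨Q⟩ := exists_place hK
      intro h0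
      rcases hnb Q with hQ | hQ
      · rw [hs₁, map_zero] at hQ; exact WithZero.exp_ne_zero hQ.symm
      · rw [h0, map_zero] at hQ; exact WithZero.exp_ne_zero hQ.symm
    intro x hx
    obtain ⟨a, ha, b, hb, e⟩ := pencil_aux hK h₂ h₁ hnb.symm hs₂ hdim x hx
    exact ⟨b, hb, a, ha, by rw [e, add_comm]⟩
  · exact pencil_aux hK h₁ h₂ hnb hs₁ hdim

theorem finite_base (hK : IsFunctionField k K) (F : Divisor k K) {s : K} (hs : s ≠ 0) :
    {Q : Place k K | Q.1 s ≠ WithZero.exp (F Q)}.Finite := by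
  refine ((finite_support_ord hK s).union F.support.finite_toSet).subset ?_
  intro Q hQ
  by_contra hn
  rw [Set.mem_union, not_or] at hn
  apply hQ
  have h1 : Q.ord s = 0 := by
    by_contra h; exact hn.1 h
  have h2 : F Q = 0 := by
    by_contra h; exact hn.2 (Finsupp.mem_support_iff.mpr h)
  rw [val_eq_exp_neg_ord Q hs, h1, h2, neg_zero]

/-- a base-point-free complete linear system over an infinite field contains a pencil without
common base points -/
theorem exists_pencil [Infinite k] (hK : IsFunctionField k K) {F : Divisor k K}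
    (hbpf : ∀ Q : Place k K, ¬ L F ≤ L (F - Finsupp.single Q 1)) :
    ∃ s₁ ∈ L F, ∃ s₂ ∈ L F, NoBase F s₁ s₂ := by
  classical
  obtain ⟨Q₀⟩ := exists_place hK
  obtain ⟨s₁, hs₁, hs₁'⟩ := SetLike.not_le_iff_exists.mp (hbpf Q₀)
  have hs₁0 : s₁ ≠ 0 := fun h => hs₁' (h ▸ Submodule.zero_mem _)
  let Z : Finset (Place k K) := (finite_base hK F hs₁0).toFinset
  let p : Place k K → Submodule k (L F) := fun Q =>
    (L (F - Finsupp.single Q 1)).comap (L F).subtype
  have htop : (⊤ : Submodule k (L F)) ∉ Z.image p := by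
    intro h
    obtain ⟨Q, -, hQ⟩ := Finset.mem_image.mp h
    apply hbpf Q
    intro x hx
    have : (⟨x, hx⟩ : L F) ∈ p Q := by rw [hQ]; exact Submodule.mem_top
    exact this
  have hne := Subspace.biUnion_ne_univ_of_top_notMem htop
  obtain ⟨y, hy⟩ := (Set.ne_univ_iff_exists_notMem _).mp hne
  refine ⟨s₁, hs₁, y.1, y.2, fun Q => ?_⟩
  by_cases hQ : Q ∈ Z
  · right
    apply val_eq_of_mem_of_not_mem y.2
    intro hmem
    apply hy
    simp only [Set.mem_iUnion, SetLike.mem_coe]
    exact ⟨p Q, Finset.mem_image_of_mem p hQ, hmem⟩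
  · left
    by_contra hne'
    exact hQ ((finite_base hK F hs₁0).mem_toFinset.mpr hne')


end Groth.Agent.Lib.FunFldPencil
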