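/-
Embedding criterion for complete linear systems on function fields of one variable (helper70):
Castelnuovo's base-point-free pencil trick + Nakayama's determinant trick, over helper40's
FunFld library.

* `exists_smul_le` : generalized Nakayama (`N ≤ I • N ⊔ N₀`, `N` f.g. ⟹ `r • N ≤ N₀`, `r ≡ 1 mod I`)
* `isNonsingularAt_of_pencils` : abstract criterion for `FunFld.IsNonsingularAt φ P` when `φ` spans
  `L D`, in terms of base-point-freeness of `D`, `D - P` and dimension identities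
  `ℓ(mD + F) + ℓ(mD - F) = 2 ℓ(mD)` for `F = D`, `D - P`.
-/
import Mathlib
import Groth.Agent.Lib.FunFldPencil
import Groth.Prelude.Def_W4bk4goldsch45

set_option autoImplicit false

namespace Groth.Agent.Lib.FunFldEmbed

open FunFld Groth.Agent.Lib.H40FunFld Groth.Agent.Lib.FunFldPencil

/-- generalized Nakayama via the determinant trick -/
theorem exists_smul_le {R M : Type*} [CommRing R] [AddCommGroup M] [Module R M] (I : Ideal R)
    (N N₀ : Submodule R M) (hN : N.FG) (h : N ≤ I • N ⊔ N₀) :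
    ∃ r : R, r - 1 ∈ I ∧ ∀ n ∈ N, r • n ∈ N₀ := by
  have h1 : N.map N₀.mkQ ≤ I • N.map N₀.mkQ := by
    rw [← Submodule.map_smul'']
    rintro _ ⟨n, hn, rfl⟩
    obtain ⟨a, ha, b, hb, rfl⟩ := Submodule.mem_sup.mp (h hn)
    have hb0 : N₀.mkQ b = 0 := (Submodule.Quotient.mk_eq_zero N₀).mpr hb
    rw [map_add, hb0, add_zero]
    exact Submodule.mem_map_of_mem ha
  obtain ⟨r, hr, hr'⟩ :=
    Submodule.exists_sub_one_mem_and_smul_eq_zero_of_fg_of_le_smul I _ (hN.map _) h1
  refine ⟨r, hr, fun n hn => ?_⟩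
  have := hr' _ (Submodule.mem_map_of_mem hn)
  rw [← map_smul, Submodule.mkQ_apply, Submodule.Quotient.mk_eq_zero] at this
  exact this

variable {k K : Type*} [Field k] [Field K] [Algebra k K]

theorem pow_mem_L {D : Divisor k K} {x : K} (hx : x ∈ L D) (m : ℕ) : x ^ m ∈ L (m • D) := by
  induction m with
  | zero =>
    rw [pow_zero, zero_smul, mem_L_iff]
    intro P
    simp
  | succ m ih =>
    rw [pow_succ, succ_nsmul]
    exact mul_mem_L ih hx

/-- the residue field of a place over an algebraically closed constant field is `k` -/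
theorem exists_const [IsAlgClosed k] (hK : FunFld.IsFunctionField k K) (P : FunFld.Place k K)
    (x : K) (hx : P.1 x ≤ 1) : ∃ c : k, P.1 (x - algebraMap k K c) < 1 := by
  have hfin : Module.Finite k (IsLocalRing.ResidueField P.O) :=
    Groth.Agent.Lib.H40FunFld.finiteDimensional_residueField hK P
  have hint : Algebra.IsIntegral k (IsLocalRing.ResidueField P.O) :=
    @Algebra.IsIntegral.of_finite k (IsLocalRing.ResidueField P.O) _ _ _ hfin
  have hsurj : Function.Surjective (algebraMap k (IsLocalRing.ResidueField P.O)) :=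
    (IsAlgClosed.algebraMap_bijective_of_isIntegral (k := k)).2
  obtain ⟨c, hc⟩ := hsurj (IsLocalRing.residue P.O ⟨x, hx⟩)
  refine ⟨c, ?_⟩
  have h0 : IsLocalRing.residue P.O (⟨x, hx⟩ - ⟨algebraMap k K c, P.2.1 c⟩) = 0 := by
    rw [map_sub, ← Groth.Agent.Lib.H40FunFld.algebraMap_residue, hc, sub_self]
  exact (Groth.Agent.Lib.H40FunFld.residue_eq_zero_iff P _).mp h0

/-- **Embedding criterion.** -/
theorem isNonsingularAt_of_pencils [IsAlgClosed k] (hK : IsFunctionField k K) (D : Divisor k K)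
    {n : ℕ} (φ : Fin (n + 1) → K) (hspan : Submodule.span k (Set.range φ) = L D)
    (P : Place k K) (n₀ : ℕ)
    (hbpfD : ∀ Q : Place k K, ¬ L D ≤ L (D - Finsupp.single Q 1))
    (hbpfDP : ∀ Q : Place k K,
      ¬ L (D - Finsupp.single P 1) ≤ L (D - Finsupp.single P 1 - Finsupp.single Q 1))
    (hdim1 : ∀ m, n₀ ≤ m → ell (m • D + D) + ell (m • D - D) = 2 * ell (m • D))
    (hdim2 : ∀ m, n₀ ≤ m → ell (m • D + (D - Finsupp.single P 1)) +
      ell (m • D - (D - Finsupp.single P 1)) = 2 * ell (m • D))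
    (hlarge : ∀ B : Divisor k K, ∃ m, n₀ ≤ m ∧
      ¬ L (m • D - B) ≤ L (m • D - B - Finsupp.single P 1)) :
    IsNonsingularAt φ P := by
  classical
  haveI : Infinite k := inferInstance
  -- Step 0: the index `j`
  have hφL : ∀ i, φ i ∈ L D := fun i => hspan ▸ Submodule.subset_span ⟨i, rfl⟩
  obtain ⟨j, hj⟩ : ∃ j, φ j ∉ L (D - Finsupp.single P 1) := by
    by_contra hcon
    push Not at hcon
    apply hbpfD P
    rw [← hspan]
    exact Submodule.span_le.mpr (by rintro _ ⟨i, rfl⟩; exact hcon i)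
  have hPj : P.1 (φ j) = WithZero.exp (D P) := val_eq_of_mem_of_not_mem (hφL j) hj
  have hj0 : φ j ≠ 0 := by
    intro h
    rw [h, map_zero] at hPj
    exact WithZero.exp_ne_zero hPj.symm
  have hle : ∀ i, P.1 (φ i) ≤ P.1 (φ j) := fun i => by
    rw [hPj]; exact (mem_L_iff D _).1 (hφL i) P
  set Rg := Algebra.adjoin k (Set.range fun i => φ i / φ j) with hRg
  have hR1 : ∀ s ∈ L D, s / φ j ∈ Rg := by
    intro s hs
    rw [← hspan] at hs
    refine Submodule.span_induction (p := fun s _ => s / φ j ∈ Rg) ?_ ?_ ?_ ?_ hs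
    · rintro _ ⟨i, rfl⟩
      exact Algebra.subset_adjoin ⟨i, rfl⟩
    · rw [zero_div]; exact Rg.zero_mem
    · intro x y _ _ hx hy
      rw [add_div]; exact Rg.add_mem hx hy
    · intro c x _ hx
      rw [smul_div_assoc]; exact Rg.smul_mem hx c
  have hRval : ∀ c ∈ Rg, P.1 c ≤ 1 := by
    intro c hc
    refine Algebra.adjoin_induction (p := fun c _ => P.1 c ≤ 1) ?_ ?_ ?_ ?_ hc
    · rintro _ ⟨i, rfl⟩
      rw [map_div₀]
      exact div_le_one_of_le₀ (hle i) zero_le
    · intro c; exact P.2.1 c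
    · intro x y _ _ hx hy
      exact (P.1.map_add x y).trans (max_le hx hy)
    · intro x y _ _ hx hy
      rw [map_mul]; exact mul_le_one' hx hy
  -- the pieces `T m`
  let T : ℕ → Submodule k K := fun m => (L (m • D)).map (LinearMap.mulRight k ((φ j)⁻¹ ^ m))
  have hT : ∀ m x, x ∈ T m ↔ ∃ h ∈ L (m • D), h * (φ j)⁻¹ ^ m = x := fun m x => by
    simp only [T, Submodule.mem_map, LinearMap.mulRight_apply]
  let N : Submodule Rg K := Submodule.span Rg (T n₀ : Set K)
  -- pencils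
  obtain ⟨s₁, hs₁, s₂, hs₂, hnb⟩ := exists_pencil hK hbpfD
  obtain ⟨t₁, ht₁, t₂, ht₂, hnb'⟩ := exists_pencil hK hbpfDP
  have hTN : ∀ m, n₀ ≤ m → (T m : Set K) ⊆ N := by
    intro m hm
    induction m, hm using Nat.le_induction with
    | base => exact Submodule.subset_span
    | succ m hm ih =>
      intro x hx
      obtain ⟨h, hh, rfl⟩ := (hT _ _).1 hx
      rw [succ_nsmul] at hh
      obtain ⟨a, ha, b, hb, e⟩ := pencil hK hs₁ hs₂ hnb (hdim1 m hm) h hh
      have ea : (⟨s₁ / φ j, hR1 _ hs₁⟩ : Rg) • (a * (φ j)⁻¹ ^ m) +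
          (⟨s₂ / φ j, hR1 _ hs₂⟩ : Rg) • (b * (φ j)⁻¹ ^ m) = h * (φ j)⁻¹ ^ (m + 1) := by
        rw [Subalgebra.smul_def, Subalgebra.smul_def, smul_eq_mul, smul_eq_mul, e]
        simp only [div_eq_mul_inv]
        ring
      rw [← ea]
      exact N.add_mem (N.smul_mem _ (ih ((hT _ _).2 ⟨a, ha, rfl⟩)))
        (N.smul_mem _ (ih ((hT _ _).2 ⟨b, hb, rfl⟩)))
  have hNfg : N.FG := by
    haveI := finiteDimensional_L hK (n₀ • D)
    have h1 : (L (n₀ • D)).FG := Module.Finite.iff_fg.mp inferInstance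
    have h2 : (T n₀).FG := h1.map _
    obtain ⟨S, hS⟩ := h2
    have : N = Submodule.span Rg (S : Set K) := by
      show Submodule.span Rg (T n₀ : Set K) = _
      rw [← hS, Submodule.span_span_of_tower]
    rw [this]
    exact Submodule.fg_span S.finite_toSet
  -- the maximal ideal
  let mR : Ideal Rg :=
    { carrier := {r | P.1 (r : K) < 1}
      add_mem' := fun {a b} ha hb => lt_of_le_of_lt (P.1.map_add _ _) (max_lt ha hb)
      zero_mem' := by simp
      smul_mem' := fun c r hr => by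
        show P.1 ((c * r : Rg) : K) < 1
        rw [Subalgebra.coe_mul, map_mul]
        exact mul_lt_one_of_nonneg_of_lt_one_right (hRval _ c.2) zero_le hr }
  have hexpm : ∀ m : ℕ, P.1 ((φ j) ^ m) = WithZero.exp ((m • D) P) := fun m => by
    rw [map_pow, hPj, Finsupp.smul_apply, WithZero.exp_nsmul]
  have hNak : N ≤ mR • N ⊔ Submodule.span Rg {(1 : K)} := by
    refine Submodule.span_le.mpr ?_
    intro t ht
    obtain ⟨h, hh, rfl⟩ := (hT _ _).1 ht
    have hPt : P.1 (h * (φ j)⁻¹ ^ n₀) ≤ 1 := by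
      rw [map_mul, inv_pow, map_inv₀, hexpm]
      exact mul_inv_le_one_of_le₀ ((mem_L_iff _ _).1 hh P) zero_le
    obtain ⟨c, hc⟩ := exists_const hK P _ hPt
    -- the corrected form
    have hφpow : (φ j) ^ (n₀ + 1) ∈ L (n₀ • D + D) := by
      rw [← succ_nsmul]; exact pow_mem_L (hφL j) _
    have hh' : h * φ j - algebraMap k K c * (φ j) ^ (n₀ + 1) ∈ L (n₀ • D + D) := by
      refine Submodule.sub_mem _ (mul_mem_L hh (hφL j)) ?_
      rw [← Algebra.smul_def]
      exact Submodule.smul_mem _ _ hφpow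
    have hinv : (φ j)⁻¹ ^ n₀ * (φ j) ^ n₀ = 1 := by
      rw [inv_pow, inv_mul_cancel₀ (pow_ne_zero _ hj0)]
    have hfac : h * φ j - algebraMap k K c * (φ j) ^ (n₀ + 1)
        = (h * (φ j)⁻¹ ^ n₀ - algebraMap k K c) * (φ j) ^ (n₀ + 1) := by
      have e0 : (h * (φ j)⁻¹ ^ n₀ - algebraMap k K c) * (φ j) ^ (n₀ + 1)
          = h * ((φ j)⁻¹ ^ n₀ * (φ j) ^ n₀) * φ j - algebraMap k K c * (φ j) ^ (n₀ + 1) := by
        ring
      rw [e0, hinv, mul_one]
    have hlt : P.1 (h * φ j - algebraMap k K c * (φ j) ^ (n₀ + 1))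
        < WithZero.exp ((n₀ • D + D) P) := by
      rw [hfac, map_mul, hexpm, succ_nsmul]
      have hpos : (0 : WithZero (Multiplicative ℤ)) < WithZero.exp ((n₀ • D + D) P) :=
        WithZero.exp_pos
      calc P.1 (h * (φ j)⁻¹ ^ n₀ - algebraMap k K c) * WithZero.exp ((n₀ • D + D) P)
          < 1 * WithZero.exp ((n₀ • D + D) P) := by
            exact mul_lt_mul_of_pos_right hc hpos
        _ = _ := one_mul _
    have hmem := mem_L_sub_single hh' hlt
    rw [add_sub_assoc] at hmem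
    obtain ⟨a, ha, b, hb, e⟩ := pencil hK ht₁ ht₂ hnb' (hdim2 n₀ le_rfl) _ hmem
    have ht₁D : t₁ ∈ L D := L_sub_single_le D P ht₁
    have ht₂D : t₂ ∈ L D := L_sub_single_le D P ht₂
    have hlt1 : ∀ t ∈ L (D - Finsupp.single P 1), P.1 (t / φ j) < 1 := by
      intro t ht
      rw [map_div₀, hPj]
      have h1 := (mem_L_iff _ _).1 ht P
      rw [Finsupp.sub_apply, Finsupp.single_eq_same] at h1
      have h2 : WithZero.exp (D P - 1) < WithZero.exp (D P) := by
        rw [WithZero.exp_lt_exp]; omega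
      exact (div_lt_one₀ WithZero.exp_pos).mpr (lt_of_le_of_lt h1 h2)
    have e2 : h * (φ j)⁻¹ ^ n₀ = (⟨algebraMap k K c, Subalgebra.algebraMap_mem _ c⟩ : Rg) • (1 : K) +
        ((⟨t₁ / φ j, hR1 _ ht₁D⟩ : Rg) • (a * (φ j)⁻¹ ^ n₀) +
          (⟨t₂ / φ j, hR1 _ ht₂D⟩ : Rg) • (b * (φ j)⁻¹ ^ n₀)) := by
      simp only [Subalgebra.smul_def, smul_eq_mul, mul_one]
      have key : t₁ / φ j * (a * (φ j)⁻¹ ^ n₀) + t₂ / φ j * (b * (φ j)⁻¹ ^ n₀)
          = (t₁ * a + t₂ * b) * ((φ j)⁻¹ * (φ j)⁻¹ ^ n₀) := by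
        simp only [div_eq_mul_inv]
        ring
      have key2 : (h * φ j - algebraMap k K c * (φ j) ^ (n₀ + 1)) * ((φ j)⁻¹ * (φ j)⁻¹ ^ n₀)
          = h * (φ j)⁻¹ ^ n₀ * (φ j * (φ j)⁻¹)
            - algebraMap k K c * ((φ j)⁻¹ ^ n₀ * (φ j) ^ n₀) * (φ j * (φ j)⁻¹) := by
        ring
      rw [key, ← e, key2, hinv, mul_inv_cancel₀ hj0]
      ring
    rw [e2, add_comm]
    refine Submodule.mem_sup.mpr ⟨_, ?_, _, ?_, rfl⟩
    · refine Submodule.add_mem _ ?_ ?_
      · exact Submodule.smul_mem_smul (hlt1 _ ht₁)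
          (Submodule.subset_span ((hT _ _).2 ⟨a, ha, rfl⟩))
      · exact Submodule.smul_mem_smul (hlt1 _ ht₂)
          (Submodule.subset_span ((hT _ _).2 ⟨b, hb, rfl⟩))
    · exact Submodule.smul_mem _ _ (Submodule.mem_span_singleton_self _)
  obtain ⟨r, hr1, hrN⟩ := exists_smul_le mR N _ hNfg hNak
  have hrN' : ∀ x ∈ N, (r : K) * x ∈ Rg := by
    intro x hx
    obtain ⟨a, ha⟩ := Submodule.mem_span_singleton.mp (hrN x hx)
    rw [Subalgebra.smul_def, Subalgebra.smul_def, smul_eq_mul, smul_eq_mul, mul_one] at ha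
    rw [← ha]
    exact a.2
  have hPr : P.1 (r : K) = 1 := by
    have h1 : P.1 ((r : K) - 1) < 1 := hr1
    have h2 := P.1.map_one_add_of_lt h1
    rwa [add_sub_cancel] at h2
  -- Step 2
  intro z hz
  by_cases hz0 : z = 0
  · exact ⟨j, hj0, hle, 0, Rg.zero_mem, 1, Rg.one_mem, map_one _, by rw [hz0, zero_mul]⟩
  have hBz : z ∈ L (poleDiv (k := k) z) := (mem_L_iff _ _).2 fun Q => val_le_exp_poleDiv hK z Q
  have hBP : poleDiv (k := k) z P = 0 := by
    rw [poleDiv_apply hK z P]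
    have : WithZero.log (P.1 z) ≤ 0 := (val_le_one_iff_log P hz0).1 hz
    have h2 : -P.ord z = WithZero.log (P.1 z) := by
      unfold FunFld.Place.ord; ring
    rw [h2]
    exact max_eq_right this
  obtain ⟨m, hm, hnot⟩ := hlarge (poleDiv (k := k) z)
  obtain ⟨h, hh, hh'⟩ := SetLike.not_le_iff_exists.mp hnot
  have hPh : P.1 h = WithZero.exp ((m • D) P) := by
    rw [val_eq_of_mem_of_not_mem hh hh', Finsupp.sub_apply, hBP, sub_zero]
  have hhD : h ∈ L (m • D) := by
    refine L_mono ?_ hh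
    intro Q
    rw [Finsupp.sub_apply]
    have := poleDiv_nonneg (k := k) z Q
    simp only [Finsupp.coe_zero, Pi.zero_apply] at this
    omega
  have hzh : z * h ∈ L (m • D) := by
    have := mul_mem_L hBz hh
    rwa [add_sub_cancel] at this
  have hu₁ := hrN' _ (hTN m hm ((hT _ _).2 ⟨z * h, hzh, rfl⟩))
  have hu₂ := hrN' _ (hTN m hm ((hT _ _).2 ⟨h, hhD, rfl⟩))
  refine ⟨j, hj0, hle, _, hu₁, _, hu₂, ?_, by ring⟩
  rw [map_mul, hPr, one_mul, map_mul, hPh, inv_pow, map_inv₀, hexpm]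
  exact mul_inv_cancel₀ WithZero.exp_ne_zero

end Groth.Agent.Lib.FunFldEmbed
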