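/-
The local ring of a projective map `φ` at a place (helper70): independence of the index of least
order, ring structure, and basic valuation facts for the affine coordinate rings
`Rg φ j = k[φ i / φ j]`.
-/
import Mathlib
import Groth.Prelude.Def_W4bk4goldsch45
import Groth.Agent.Lib.H40FunFldWeil

set_option autoImplicit false

namespace Groth.Agent.Lib.FunFldLocRing

open FunFld Groth.Agent.Lib.H40FunFld

variable {k K : Type*} [Field k] [Field K] [Algebra k K] {ι : Type*}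

/-- the affine coordinate ring `k[φ i / φ j]` -/
def Rg (k : Type*) [Field k] [Algebra k K] (φ : ι → K) (j : ι) : Subalgebra k K :=
  Algebra.adjoin k (Set.range fun i => φ i / φ j)

/-- `φ j` has least order at `Q` -/
def Least (φ : ι → K) (j : ι) (Q : Place k K) : Prop := ∀ i, Q.1 (φ i) ≤ Q.1 (φ j)

theorem ratio_mem_Rg (φ : ι → K) (j i : ι) : φ i / φ j ∈ Rg k φ j :=
  Algebra.subset_adjoin ⟨i, rfl⟩

theorem val_ratio_le_one {φ : ι → K} {j : ι} {Q : Place k K} (hj : Least φ j Q) (i : ι) :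
    Q.1 (φ i / φ j) ≤ 1 := by
  rw [map_div₀]
  exact div_le_one_of_le₀ (hj i) zero_le

/-- elements of `Rg φ j` are integral at every place where `φ j` has least order -/
theorem val_le_one_of_mem_Rg {φ : ι → K} {j : ι} {Q : Place k K} (hj : Least φ j Q) {x : K}
    (hx : x ∈ Rg k φ j) : Q.1 x ≤ 1 := by
  refine Algebra.adjoin_induction (p := fun c _ => Q.1 c ≤ 1) ?_ ?_ ?_ ?_ hx
  · rintro _ ⟨i, rfl⟩
    exact val_ratio_le_one hj i
  · intro c; exact Q.2.1 c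
  · intro x y _ _ hx hy
    exact (Q.1.map_add x y).trans (max_le hx hy)
  · intro x y _ _ hx hy
    rw [map_mul]; exact mul_le_one' hx hy

theorem val_ratio_eq_one {φ : ι → K} {j j' : ι} {P : Place k K} (hj0 : φ j ≠ 0)
    (hj : Least φ j P) (hj' : Least φ j' P) : P.1 (φ j' / φ j) = 1 := by
  have hPj0 : P.1 (φ j) ≠ 0 := by simpa using hj0
  rw [map_div₀, le_antisymm (hj j') (hj' j)]
  exact div_self hPj0

/-- elements of `Rg φ j'` become elements of `Rg φ j` after multiplication by a power of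
`φ j' / φ j` -/
theorem exists_pow_mul_mem_Rg {φ : ι → K} (j j' : ι) (hj'0 : φ j' ≠ 0) {x : K}
    (hx : x ∈ Rg k φ j') : ∃ d : ℕ, x * (φ j' / φ j) ^ d ∈ Rg k φ j := by
  refine Algebra.adjoin_induction
    (p := fun x _ => ∃ d : ℕ, x * (φ j' / φ j) ^ d ∈ Rg k φ j) ?_ ?_ ?_ ?_ hx
  · rintro _ ⟨i, rfl⟩
    refine ⟨1, ?_⟩
    have e : φ i / φ j' * (φ j' / φ j) ^ 1 = φ i / φ j := by
      rw [pow_one]; field_simp
    rw [e]
    exact ratio_mem_Rg φ j i
  · intro c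
    exact ⟨0, by rw [pow_zero, mul_one]; exact Subalgebra.algebraMap_mem _ c⟩
  · rintro x y _ _ ⟨d, hd⟩ ⟨e, he⟩
    refine ⟨d + e, ?_⟩
    have e1 : (x + y) * (φ j' / φ j) ^ (d + e) =
        x * (φ j' / φ j) ^ d * (φ j' / φ j) ^ e + y * (φ j' / φ j) ^ e * (φ j' / φ j) ^ d := by
      rw [pow_add]; ring
    rw [e1]
    exact Subalgebra.add_mem _
      (Subalgebra.mul_mem _ hd (Subalgebra.pow_mem _ (ratio_mem_Rg φ j j') _))
      (Subalgebra.mul_mem _ he (Subalgebra.pow_mem _ (ratio_mem_Rg φ j j') _))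
  · rintro x y _ _ ⟨d, hd⟩ ⟨e, he⟩
    refine ⟨d + e, ?_⟩
    have e1 : x * y * (φ j' / φ j) ^ (d + e) =
        x * (φ j' / φ j) ^ d * (y * (φ j' / φ j) ^ e) := by
      rw [pow_add]; ring
    rw [e1]
    exact Subalgebra.mul_mem _ hd he

/-- the local ring does not depend on the index of least order -/
theorem inLocRing_index {φ : ι → K} {P : Place k K} {z : K} (h : InLocRing φ P z) (j : ι)
    (hj0 : φ j ≠ 0) (hj : Least φ j P) :
    ∃ u ∈ Rg k φ j, ∃ w ∈ Rg k φ j, P.1 w = 1 ∧ z * w = u := by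
  obtain ⟨j', hj'0, hj', u, hu, w, hw, hPw, hzw⟩ := h
  obtain ⟨d, hd⟩ := exists_pow_mul_mem_Rg (k := k) j j' hj'0 hu
  obtain ⟨e, he⟩ := exists_pow_mul_mem_Rg (k := k) j j' hj'0 hw
  have hv : P.1 (φ j' / φ j) = 1 := val_ratio_eq_one hj0 hj hj'
  refine ⟨u * (φ j' / φ j) ^ d * (φ j' / φ j) ^ e,
    Subalgebra.mul_mem _ hd (Subalgebra.pow_mem _ (ratio_mem_Rg φ j j') _),
    w * (φ j' / φ j) ^ e * (φ j' / φ j) ^ d,
    Subalgebra.mul_mem _ he (Subalgebra.pow_mem _ (ratio_mem_Rg φ j j') _), ?_, ?_⟩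
  · rw [map_mul, map_mul, map_pow, map_pow, hv, hPw, one_pow, one_pow, mul_one, mul_one]
  · rw [← hzw]; ring

theorem inLocRing_of_mem_Rg {φ : ι → K} {P : Place k K} {j : ι} (hj0 : φ j ≠ 0)
    (hj : Least φ j P) {x : K} (hx : x ∈ Rg k φ j) : InLocRing φ P x :=
  ⟨j, hj0, hj, x, hx, 1, Subalgebra.one_mem _, map_one _, mul_one _⟩

theorem inLocRing_add {φ : ι → K} {P : Place k K} {z₁ z₂ : K} (h₁ : InLocRing φ P z₁)
    (h₂ : InLocRing φ P z₂) : InLocRing φ P (z₁ + z₂) := by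
  obtain ⟨j, hj0, hj, u₁, hu₁, w₁, hw₁, hP₁, e₁⟩ := h₁
  obtain ⟨u₂, hu₂, w₂, hw₂, hP₂, e₂⟩ := inLocRing_index h₂ j hj0 hj
  refine ⟨j, hj0, hj, u₁ * w₂ + u₂ * w₁,
    Subalgebra.add_mem _ (Subalgebra.mul_mem _ hu₁ hw₂) (Subalgebra.mul_mem _ hu₂ hw₁),
    w₁ * w₂, Subalgebra.mul_mem _ hw₁ hw₂, ?_, ?_⟩
  · rw [map_mul, hP₁, hP₂, one_mul]
  · rw [← e₁, ← e₂]; ring

theorem inLocRing_mul {φ : ι → K} {P : Place k K} {z₁ z₂ : K} (h₁ : InLocRing φ P z₁)
    (h₂ : InLocRing φ P z₂) : InLocRing φ P (z₁ * z₂) := by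
  obtain ⟨j, hj0, hj, u₁, hu₁, w₁, hw₁, hP₁, e₁⟩ := h₁
  obtain ⟨u₂, hu₂, w₂, hw₂, hP₂, e₂⟩ := inLocRing_index h₂ j hj0 hj
  refine ⟨j, hj0, hj, u₁ * u₂, Subalgebra.mul_mem _ hu₁ hu₂,
    w₁ * w₂, Subalgebra.mul_mem _ hw₁ hw₂, ?_, ?_⟩
  · rw [map_mul, hP₁, hP₂, one_mul]
  · rw [← e₁, ← e₂]; ring

theorem inLocRing_pow {φ : ι → K} {P : Place k K} {j : ι} (hj0 : φ j ≠ 0) (hj : Least φ j P)
    {z : K} (h : InLocRing φ P z) (m : ℕ) : InLocRing φ P (z ^ m) := by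
  induction m with
  | zero => rw [pow_zero]; exact inLocRing_of_mem_Rg hj0 hj (Subalgebra.one_mem _)
  | succ m ih => rw [pow_succ]; exact inLocRing_mul ih h

theorem inLocRing_algebraMap {φ : ι → K} {P : Place k K} {j : ι} (hj0 : φ j ≠ 0)
    (hj : Least φ j P) (c : k) : InLocRing φ P (algebraMap k K c) :=
  inLocRing_of_mem_Rg hj0 hj (Subalgebra.algebraMap_mem _ c)

/-- the local ring is contained in the valuation ring -/
theorem val_le_one_of_inLocRing {φ : ι → K} {P : Place k K} {z : K} (h : InLocRing φ P z) :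
    P.1 z ≤ 1 := by
  obtain ⟨j, hj0, hj, u, hu, w, hw, hPw, e⟩ := h
  have h1 : P.1 z = P.1 u := by rw [← e, map_mul, hPw, mul_one]
  rw [h1]
  exact val_le_one_of_mem_Rg hj hu

/-- there is always an index of least order -/
theorem exists_least [Fintype ι] [Nonempty ι] (φ : ι → K) (P : Place k K) :
    ∃ j, Least φ j P := by
  obtain ⟨j, -, hj⟩ := Finset.exists_max_image Finset.univ (fun i => P.1 (φ i))
    Finset.univ_nonempty
  exact ⟨j, fun i => hj i (Finset.mem_univ _)⟩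

end Groth.Agent.Lib.FunFldLocRing
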