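import Groth.Agent.Lib.H40FunFldMapDiv
import Groth.Agent.Lib.H40FunFldWeil
import Mathlib.RingTheory.AlgebraTower
import Mathlib.RingTheory.PowerBasis

set_option autoImplicit false
set_option linter.style.haveILetI false
set_option linter.unusedSectionVars false
open FunFld Polynomial

namespace Groth.Agent.Lib.H40FunFld

open Groth.Agent.Lib.H40QuotChain IntermediateField

universe u v w

section PlaneGenus

variable {k : Type u} [Field k] {K : Type v} [Field K] [Algebra k K]

theorem exp_neg_ord_le (P : FunFld.Place k K) (z : K) :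
    P.1 z ≤ WithZero.exp (-P.ord z) := by
  by_cases hz : z = 0
  · rw [hz, map_zero]; exact zero_le
  · rw [← val_eq_exp_neg_ord P hz]

theorem exp_neg_ord_le_max_one (P : FunFld.Place k K) (z : K) :
    WithZero.exp (-P.ord z) ≤ max 1 (P.1 z) := by
  by_cases hz : z = 0
  · rw [hz, FunFld.Place.ord, map_zero, WithZero.log_zero, neg_zero, neg_zero, WithZero.exp_zero]
    exact le_max_left _ _
  · rw [← val_eq_exp_neg_ord P hz]
    exact le_max_right _ _

/-- Valuation form of the divisor of the plane map `(1 : x : y)`. -/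
theorem exp_mapDiv_plane (hK : FunFld.IsFunctionField k K) (x y : K) (P : FunFld.Place k K) :
    WithZero.exp (FunFld.mapDiv k ![(1 : K), x, y] P) = max 1 (max (P.1 x) (P.1 y)) := by
  rw [mapDiv_apply_of_finite _ (fun i => finite_support_ord hK _)]
  apply le_antisymm
  · obtain ⟨i, -, hi⟩ := Finset.exists_mem_eq_inf' (Finset.univ_nonempty (α := Fin 3))
      (fun i => P.ord (![(1 : K), x, y] i))
    rw [hi]
    fin_cases i
    · refine (exp_neg_ord_le_max_one P _).trans ?_
      simp
    · refine (exp_neg_ord_le_max_one P _).trans ?_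
      exact max_le (le_max_left _ _) ((le_max_left _ _).trans (le_max_right _ _))
    · refine (exp_neg_ord_le_max_one P _).trans ?_
      exact max_le (le_max_left _ _) ((le_max_right _ _).trans (le_max_right _ _))
  · have key : ∀ i : Fin 3, P.1 (![(1 : K), x, y] i) ≤ WithZero.exp
        (-Finset.univ.inf' Finset.univ_nonempty (fun i => P.ord (![(1 : K), x, y] i))) := by
      intro i
      refine (exp_neg_ord_le P _).trans ?_
      rw [WithZero.exp_le_exp, neg_le_neg_iff]
      exact Finset.inf'_le _ (Finset.mem_univ i)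
    refine max_le ?_ (max_le ?_ ?_)
    · simpa using key 0
    · simpa using key 1
    · simpa using key 2

theorem exp_poleDiv (hK : FunFld.IsFunctionField k K) (x : K) (P : FunFld.Place k K) :
    WithZero.exp (poleDiv x P) = max 1 (P.1 x) := by
  rw [poleDiv_apply hK]
  by_cases hx : x = 0
  · rw [hx, FunFld.Place.ord, map_zero, WithZero.log_zero, neg_zero, neg_zero, max_self,
      WithZero.exp_zero]
    simp
  · rw [val_eq_exp_neg_ord P hx]
    rcases le_total (-P.ord x) 0 with h | h
    · rw [max_eq_right h, WithZero.exp_zero, max_eq_left]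
      rw [← WithZero.exp_zero, WithZero.exp_le_exp]; exact h
    · rw [max_eq_left h, max_eq_right]
      rw [← WithZero.exp_zero, WithZero.exp_le_exp]; exact h

/-- A linear change of coordinates making the divisor of the plane map the pole divisor of `x'`. -/
theorem exists_coord_change (hK : FunFld.IsFunctionField k K) [Infinite k] (x y : K) :
    ∃ c : k, ∀ P : FunFld.Place k K,
      max 1 (P.1 (x + algebraMap k K c * y)) = max 1 (max (P.1 x) (P.1 y)) := by
  classical
  set D := FunFld.mapDiv k ![(1 : K), x, y] with hD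
  have hM : ∀ P : FunFld.Place k K, WithZero.exp (D P) = max 1 (max (P.1 x) (P.1 y)) :=
    fun P => exp_mapDiv_plane hK x y P
  -- the bad constants at a place of the support
  have hsub : ∀ P : FunFld.Place k K, 1 < max 1 (max (P.1 x) (P.1 y)) →
      {c : k | P.1 (x + algebraMap k K c * y) < max 1 (max (P.1 x) (P.1 y))}.Subsingleton := by
    intro P h1 c₁ hc₁ c₂ hc₂
    by_contra hne
    rw [Set.mem_ofPred_eq] at hc₁ hc₂
    have hsubv : P.1 (algebraMap k K (c₁ - c₂) * y) < max 1 (max (P.1 x) (P.1 y)) := by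
      have e : algebraMap k K (c₁ - c₂) * y =
          (x + algebraMap k K c₁ * y) - (x + algebraMap k K c₂ * y) := by
        rw [map_sub]; ring
      rw [e]
      exact (Valuation.map_sub _ _ _).trans_lt (max_lt hc₁ hc₂)
    rw [map_mul, val_algebraMap P (sub_ne_zero.2 hne), one_mul] at hsubv
    have hx : P.1 x < max 1 (max (P.1 x) (P.1 y)) := by
      have e : (x + algebraMap k K c₁ * y) - algebraMap k K c₁ * y = x := by ring
      have h2 : P.1 ((x + algebraMap k K c₁ * y) - algebraMap k K c₁ * y) <
          max 1 (max (P.1 x) (P.1 y)) := by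
        refine (Valuation.map_sub _ _ _).trans_lt (max_lt hc₁ ?_)
        rw [map_mul]
        exact (mul_le_of_le_one_left' (val_algebraMap_le P c₁)).trans_lt hsubv
      rwa [e] at h2
    exact lt_irrefl _ (max_lt h1 (max_lt hx hsubv))
  have hfin : (⋃ P ∈ D.support,
      {c : k | P.1 (x + algebraMap k K c * y) < max 1 (max (P.1 x) (P.1 y))}).Finite := by
    refine Set.Finite.biUnion D.support.finite_toSet (fun P hP => ?_)
    apply Set.Subsingleton.finite
    apply hsub
    have hP' : D P ≠ 0 := Finsupp.mem_support_iff.1 hP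
    rw [← hM P]
    have h0 : (1 : WithZero (Multiplicative ℤ)) ≤ WithZero.exp (D P) := by
      rw [hM P]; exact le_max_left _ _
    refine lt_of_le_of_ne h0 (fun h => hP' ?_)
    exact (WithZero.exp_eq_one.1 h.symm)
  obtain ⟨c, hc⟩ := hfin.exists_notMem
  refine ⟨c, fun P => ?_⟩
  have hle : P.1 (x + algebraMap k K c * y) ≤ max (P.1 x) (P.1 y) := by
    refine (Valuation.map_add _ _ _).trans (max_le_max le_rfl ?_)
    rw [map_mul]
    exact mul_le_of_le_one_left' (val_algebraMap_le P c)
  by_cases hP : D P = 0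
  · have h1 : max 1 (max (P.1 x) (P.1 y)) = 1 := by rw [← hM P, hP, WithZero.exp_zero]
    rw [h1]
    apply max_eq_left
    have := le_max_right 1 (max (P.1 x) (P.1 y))
    rw [h1] at this
    exact hle.trans this
  · have hnb : ¬ P.1 (x + algebraMap k K c * y) < max 1 (max (P.1 x) (P.1 y)) := by
      intro hb
      apply hc
      rw [Set.mem_iUnion₂]
      exact ⟨P, Finsupp.mem_support_iff.2 hP, hb⟩
    rw [not_lt] at hnb
    apply le_antisymm
    · exact max_le (le_max_left _ _) (hle.trans (le_max_right _ _))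
    · exact hnb.trans (le_max_right _ _)

theorem two_mul_sum_range_sub (n m : ℕ) (hm : m ≤ n + 1) :
    2 * ∑ j ∈ Finset.range m, ((n + 1 - j : ℕ) : ℤ) = 2 * (m : ℤ) * (n + 1) - m * (m - 1) := by
  induction m with
  | zero => simp
  | succ m ih =>
    rw [Finset.sum_range_succ, mul_add, ih (by omega)]
    have h1 : ((n + 1 - m : ℕ) : ℤ) = (n : ℤ) + 1 - m := by omega
    rw [h1]
    push_cast
    ring

/-- Genus bound for a plane model: `2g ≤ (d-1)(d-2)`. -/
theorem two_mul_genus_le_of_plane (hK : FunFld.IsFunctionField k K) [Infinite k] (x y : K)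
    (hxy : IntermediateField.adjoin k ({x, y} : Set K) = ⊤) :
    2 * (FunFld.genus k K : ℤ) ≤
      ((FunFld.mapDiv k ![(1 : K), x, y]).deg - 1) *
        ((FunFld.mapDiv k ![(1 : K), x, y]).deg - 2) := by
  classical
  obtain ⟨c, hc⟩ := exists_coord_change hK x y
  have hM : ∀ P : FunFld.Place k K, WithZero.exp (FunFld.mapDiv k ![(1 : K), x, y] P) =
      max 1 (max (P.1 x) (P.1 y)) := fun P => exp_mapDiv_plane hK x y P
  have hDeq : FunFld.mapDiv k ![(1 : K), x, y] = poleDiv (x + algebraMap k K c * y) := by
    ext P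
    apply WithZero.exp_injective
    rw [hM P, exp_poleDiv hK, hc P]
  have hvx' : ∀ P : FunFld.Place k K, P.1 (x + algebraMap k K c * y) ≤
      WithZero.exp (FunFld.mapDiv k ![(1 : K), x, y] P) := fun P => by
    rw [hM P, ← hc P]; exact le_max_right _ _
  have hvy : ∀ P : FunFld.Place k K, P.1 y ≤
      WithZero.exp (FunFld.mapDiv k ![(1 : K), x, y] P) := fun P => by
    rw [hM P]; exact (le_max_right _ _).trans (le_max_right _ _)
  have h1D : ∀ P : FunFld.Place k K,
      1 ≤ WithZero.exp (FunFld.mapDiv k ![(1 : K), x, y] P) := fun P => by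
    rw [hM P]; exact le_max_left _ _
  -- `k(x', y) = K`
  have hxy' : IntermediateField.adjoin k ({x + algebraMap k K c * y, y} : Set K) = ⊤ := by
    rw [eq_top_iff, ← hxy, IntermediateField.adjoin_le_iff]
    have hxm : x + algebraMap k K c * y ∈
        IntermediateField.adjoin k ({x + algebraMap k K c * y, y} : Set K) :=
      IntermediateField.subset_adjoin k _ (by simp)
    have hym : y ∈ IntermediateField.adjoin k ({x + algebraMap k K c * y, y} : Set K) :=
      IntermediateField.subset_adjoin k _ (by simp)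
    rintro z (rfl | rfl)
    · have e : (z + algebraMap k K c * y) - algebraMap k K c * y = z := by ring
      have h3 := sub_mem hxm (mul_mem (IntermediateField.algebraMap_mem _ c) hym)
      rwa [e] at h3
    · exact hym
  -- `x'` is transcendental
  have htr : Transcendental k (x + algebraMap k K c * y) := by
    intro halg
    obtain ⟨a, ha⟩ := hK.2 _ halg
    have hD0 : ∀ P : FunFld.Place k K,
        WithZero.exp (FunFld.mapDiv k ![(1 : K), x, y] P) = 1 := by
      intro P
      rw [hM P, ← hc P, ← ha]
      exact max_eq_left (val_algebraMap_le P a)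
    have hyk : y ∈ (⊥ : IntermediateField k K) := by
      have hyL : y ∈ FunFld.L (0 : FunFld.Divisor k K) := by
        intro P
        rw [Finsupp.zero_apply, WithZero.exp_zero]
        exact (hvy P).trans_eq (hD0 P)
      rw [L_zero_eq_one hK, Submodule.mem_one] at hyL
      obtain ⟨b, hb⟩ := hyL
      rw [IntermediateField.mem_bot]
      exact ⟨b, hb⟩
    have hx'k : x + algebraMap k K c * y ∈ (⊥ : IntermediateField k K) :=
      IntermediateField.mem_bot.2 ⟨a, ha⟩
    have htop : (⊤ : IntermediateField k K) ≤ ⊥ := by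
      rw [← hxy', IntermediateField.adjoin_le_iff]
      rintro z (rfl | rfl)
      exacts [hx'k, hyk]
    obtain ⟨t, ht, -⟩ := hK.1
    obtain ⟨b, hb⟩ := IntermediateField.mem_bot.1 (htop (IntermediateField.mem_top (x := t)))
    exact ht (hb ▸ isAlgebraic_algebraMap b)
  haveI hfd : FiniteDimensional ↥k⟮x + algebraMap k K c * y⟯ K :=
    finiteDimensional_adjoin_of_transcendental hK htr
  have hdeg : (FunFld.mapDiv k ![(1 : K), x, y]).deg =
      Module.finrank ↥k⟮x + algebraMap k K c * y⟯ K := by
    rw [hDeq]; exact (deg_zeroDiv_eq_and_deg_poleDiv_eq hK htr).2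
  have htop' : (↥k⟮x + algebraMap k K c * y⟯)⟮y⟯ = ⊤ := by
    rw [← IntermediateField.restrictScalars_eq_top_iff (K := k),
      IntermediateField.adjoin_simple_adjoin_simple]
    exact hxy'
  have hnat : (minpoly ↥k⟮x + algebraMap k K c * y⟯ y).natDegree =
      Module.finrank ↥k⟮x + algebraMap k K c * y⟯ K := by
    rw [← IntermediateField.adjoin.finrank (Algebra.IsIntegral.isIntegral y), htop',
      IntermediateField.finrank_top']
  -- linear independence of the monomials `x'^i y^j`, `j < d`
  have hli1 : LinearIndependent k (fun i : ℕ =>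
      (⟨x + algebraMap k K c * y, mem_adjoin_simple_self k _⟩ :
        ↥k⟮x + algebraMap k K c * y⟯) ^ i) := by
    apply LinearIndependent.of_comp (k⟮x + algebraMap k K c * y⟯.val.toLinearMap)
    have e : (k⟮x + algebraMap k K c * y⟯.val.toLinearMap ∘ fun i : ℕ =>
        (⟨x + algebraMap k K c * y, mem_adjoin_simple_self k _⟩ :
          ↥k⟮x + algebraMap k K c * y⟯) ^ i) = fun i : ℕ => (x + algebraMap k K c * y) ^ i := by
      funext i
      simp
    rw [e]
    exact linearIndependent_pow_of_transcendental htr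
  have hli2 := linearIndependent_pow (K := ↥k⟮x + algebraMap k K c * y⟯) y
  have hli := linearIndependent_smul hli1 hli2
  have hd1 : 1 ≤ (minpoly ↥k⟮x + algebraMap k K c * y⟯ y).natDegree := by
    rw [hnat]; exact Module.finrank_pos
  generalize hd' : (minpoly ↥k⟮x + algebraMap k K c * y⟯ y).natDegree = d' at hli hli2 hnat hd1
  generalize hn : d' + 2 * FunFld.genus k K = n
  have hmem : ∀ i j : ℕ, i + j ≤ n → (x + algebraMap k K c * y) ^ i * y ^ j ∈
      FunFld.L (n • FunFld.mapDiv k ![(1 : K), x, y]) := by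
    intro i j hij P
    rw [Finsupp.smul_apply, WithZero.exp_nsmul, map_mul, map_pow, map_pow]
    calc P.1 (x + algebraMap k K c * y) ^ i * P.1 y ^ j
        ≤ WithZero.exp (FunFld.mapDiv k ![(1 : K), x, y] P) ^ i *
          WithZero.exp (FunFld.mapDiv k ![(1 : K), x, y] P) ^ j :=
          mul_le_mul' (pow_le_pow_left' (hvx' P) i) (pow_le_pow_left' (hvy P) j)
      _ = WithZero.exp (FunFld.mapDiv k ![(1 : K), x, y] P) ^ (i + j) := (pow_add _ _ _).symm
      _ ≤ WithZero.exp (FunFld.mapDiv k ![(1 : K), x, y] P) ^ n :=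
          pow_le_pow_right' (h1D P) hij
  let g : (Σ j : Fin d', Fin (n + 1 - j)) → FunFld.L (n • FunFld.mapDiv k ![(1 : K), x, y]) :=
    fun s => ⟨(x + algebraMap k K c * y) ^ (s.2 : ℕ) * y ^ (s.1 : ℕ),
      hmem _ _ (by have h1 := s.2.isLt; have h2 := s.1.isLt; omega)⟩
  have hg : LinearIndependent k g := by
    apply LinearIndependent.of_comp (FunFld.L (n • FunFld.mapDiv k ![(1 : K), x, y])).subtype
    have hinj : Function.Injective
        (fun s : (Σ j : Fin d', Fin (n + 1 - j)) => ((s.2 : ℕ), s.1)) := by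
      rintro ⟨j₁, i₁⟩ ⟨j₂, i₂⟩ h
      simp only [Prod.mk.injEq] at h
      obtain ⟨h1, h2⟩ := h
      subst h2
      have : i₁ = i₂ := Fin.ext h1
      rw [this]
    have h3 := hli.comp _ hinj
    convert h3 using 1
    funext s
    simp only [Function.comp_apply, g, Submodule.subtype_apply, Algebra.smul_def]
    rfl
  haveI := finiteDimensional_L hK (n • FunFld.mapDiv k ![(1 : K), x, y])
  have hcard := hg.fintype_card_le_finrank
  rw [Fintype.card_sigma] at hcard
  simp only [Fintype.card_fin] at hcard
  rw [Fin.sum_univ_eq_sum_range (fun j => n + 1 - j) d'] at hcard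
  have hsum := two_mul_sum_range_sub n d' (by omega)
  have hcard' : (∑ j ∈ Finset.range d', ((n + 1 - j : ℕ) : ℤ)) ≤
      (FunFld.ell (n • FunFld.mapDiv k ![(1 : K), x, y]) : ℤ) := by
    have := (Nat.cast_le (α := ℤ)).2 hcard
    rw [Nat.cast_sum] at this
    exact this
  have hdegn : (n • FunFld.mapDiv k ![(1 : K), x, y]).deg = (n : ℤ) * d' := by
    rw [deg_nsmul, hdeg, ← hnat]
  have hnz : (n : ℤ) = d' + 2 * FunFld.genus k K := by rw [← hn]; push_cast; ring
  have hd1z : (1 : ℤ) ≤ d' := by exact_mod_cast hd1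
  have hell := ell_eq_of_deg_ge hK (n • FunFld.mapDiv k ![(1 : K), x, y]) (by
    rw [hdegn]
    nlinarith [Nat.cast_nonneg (α := ℤ) (FunFld.genus k K)])
  rw [hdegn] at hell
  rw [hdeg, ← hnat]
  nlinarith [hsum, hcard', hell]

end PlaneGenus

end Groth.Agent.Lib.H40FunFld
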