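import Groth.Agent.Lib.H40FunFldGaps

/-!
# Function fields of one variable (`FunFld`): linear series and vanishing sequences at two places.
-/

set_option autoImplicit false
open FunFld Polynomial

namespace Groth.Agent.Lib.H40FunFld

open Groth.Agent.Lib.H40QuotChain IntermediateField

universe u v w
variable {k : Type u} {K : Type v} [Field k] [Field K] [Algebra k K]

theorem L_inf (D₁ D₂ : FunFld.Divisor k K) : FunFld.L D₁ ⊓ FunFld.L D₂ = FunFld.L (D₁ ⊓ D₂) := by
  ext x
  rw [Submodule.mem_inf, mem_L_iff, mem_L_iff, mem_L_iff]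
  constructor
  · rintro ⟨h1, h2⟩ P
    rw [Finsupp.inf_apply]
    rcases le_total (D₁ P) (D₂ P) with h | h
    · rw [inf_eq_left.2 h]; exact h1 P
    · rw [inf_eq_right.2 h]; exact h2 P
  · intro h
    exact ⟨fun P => (h P).trans (WithZero.exp_le_exp.2 (by rw [Finsupp.inf_apply]; exact inf_le_left)),
      fun P => (h P).trans (WithZero.exp_le_exp.2 (by rw [Finsupp.inf_apply]; exact inf_le_right))⟩

/-- For distinct places, vanishing to order `m` at `P` and `n` at `Q` together. -/
theorem L_sub_single_inf_L_sub_single (D : FunFld.Divisor k K) {P Q : FunFld.Place k K}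
    (hPQ : P ≠ Q) {m n : ℤ} (hm : 0 ≤ m) (hn : 0 ≤ n) :
    FunFld.L (D - Finsupp.single P m) ⊓ FunFld.L (D - Finsupp.single Q n) =
      FunFld.L (D - Finsupp.single P m - Finsupp.single Q n) := by
  classical
  rw [L_inf]
  congr 1
  ext R
  rw [Finsupp.inf_apply, Finsupp.sub_apply, Finsupp.sub_apply, Finsupp.sub_apply, Finsupp.sub_apply,
    Finsupp.single_apply, Finsupp.single_apply]
  split_ifs with h1 h2 h2
  · exact absurd (h1.trans h2.symm) hPQ
  · omega
  · omega
  · omega

/-- Two vanishing conditions of total order exceeding the degree leave nothing. -/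
theorem inf_L_sub_inf_L_sub_eq_bot (hK : FunFld.IsFunctionField k K) [IsAlgClosed k]
    (D : FunFld.Divisor k K) {P Q : FunFld.Place k K} (hPQ : P ≠ Q) {m n : ℤ} (hm : 0 ≤ m)
    (hn : 0 ≤ n) (hdeg : D.deg < m + n) :
    FunFld.L (D - Finsupp.single P m) ⊓ FunFld.L (D - Finsupp.single Q n) = ⊥ := by
  rw [L_sub_single_inf_L_sub_single D hPQ hm hn]
  apply L_eq_bot_of_deg_neg hK
  rw [deg_sub, deg_sub, deg_single, deg_single, deg_eq_one_of_isAlgClosed hK P,
    deg_eq_one_of_isAlgClosed hK Q]
  push_cast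
  linarith

theorem finrank_inf_add_finrank_inf_le {V : Type*} [AddCommGroup V] [Module k V]
    (W A B : Submodule k V) [FiniteDimensional k W] (h : W ⊓ A ⊓ (W ⊓ B) = ⊥) :
    Module.finrank k ↥(W ⊓ A) + Module.finrank k ↥(W ⊓ B) ≤ Module.finrank k W := by
  have h1 : FiniteDimensional k ↥(W ⊓ A) := Submodule.finiteDimensional_of_le inf_le_left
  have h2 : FiniteDimensional k ↥(W ⊓ B) := Submodule.finiteDimensional_of_le inf_le_left
  have h3 := Submodule.finrank_sup_add_finrank_inf_eq (W ⊓ A) (W ⊓ B)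
  rw [h, finrank_bot, add_zero] at h3
  rw [← h3]
  exact Submodule.finrank_mono (sup_le inf_le_left inf_le_left)

/-- `dim V(-nP) + dim V(-(d+1-n)Q) ≤ dim V` for distinct places. -/
theorem finrank_vanishing_add_le (hK : FunFld.IsFunctionField k K) [IsAlgClosed k]
    {d : ℕ} (D : FunFld.Divisor k K) (hD : D.deg = d) (V : Submodule k K)
    [FiniteDimensional k V] {P Q : FunFld.Place k K} (hPQ : P ≠ Q) {n : ℕ} (hn : n ≤ d + 1) :
    Module.finrank k ↥(V ⊓ FunFld.L (D - Finsupp.single P (n : ℤ))) +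
      Module.finrank k ↥(V ⊓ FunFld.L (D - Finsupp.single Q ((d : ℤ) + 1 - n))) ≤
        Module.finrank k V := by
  apply finrank_inf_add_finrank_inf_le
  have h1 := inf_L_sub_inf_L_sub_eq_bot hK D hPQ (m := (n : ℤ)) (n := (d : ℤ) + 1 - n)
    (Int.natCast_nonneg n) (by have : (n : ℤ) ≤ d + 1 := by exact_mod_cast hn
                               linarith) (by rw [hD]; linarith)
  rw [eq_bot_iff]
  calc V ⊓ FunFld.L (D - Finsupp.single P (n : ℤ)) ⊓
        (V ⊓ FunFld.L (D - Finsupp.single Q ((d : ℤ) + 1 - n)))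
      ≤ FunFld.L (D - Finsupp.single P (n : ℤ)) ⊓ FunFld.L (D - Finsupp.single Q ((d : ℤ) + 1 - n)) :=
        inf_le_inf inf_le_right inf_le_right
    _ = ⊥ := h1

/-- The sum of the weights (plus `r(r+1)`) of a linear series at two distinct places is at most
`(r+1) d`. -/
theorem sum_vanishing_add_sum_vanishing_le (hK : FunFld.IsFunctionField k K) [IsAlgClosed k]
    {d : ℕ} (D : FunFld.Divisor k K) (hD : D.deg = d) (V : Submodule k K)
    [FiniteDimensional k V] {P Q : FunFld.Place k K} (hPQ : P ≠ Q) :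
    (∑ n ∈ Finset.range d, Module.finrank k ↥(V ⊓ FunFld.L (D - Finsupp.single P ((n : ℤ) + 1)))) +
      (∑ n ∈ Finset.range d, Module.finrank k ↥(V ⊓ FunFld.L (D - Finsupp.single Q ((n : ℤ) + 1)))) ≤
        Module.finrank k V * d := by
  rw [← Finset.sum_range_reflect
    (fun n => Module.finrank k ↥(V ⊓ FunFld.L (D - Finsupp.single Q ((n : ℤ) + 1)))) d,
    ← Finset.sum_add_distrib]
  calc _ ≤ ∑ _n ∈ Finset.range d, Module.finrank k V := by
        apply Finset.sum_le_sum
        intro n hn
        rw [Finset.mem_range] at hn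
        have h1 := finrank_vanishing_add_le hK D hD V hPQ (n := n + 1) (by omega)
        have e1 : ((n + 1 : ℕ) : ℤ) = (n : ℤ) + 1 := by push_cast; ring
        have e2 : (d : ℤ) + 1 - ((n : ℤ) + 1) = ((d - 1 - n : ℕ) : ℤ) + 1 := by
          have : ((d - 1 - n : ℕ) : ℤ) = (d : ℤ) - 1 - n := by omega
          rw [this]; ring
        rw [e1, e2] at h1
        exact h1
    _ = Module.finrank k V * d := by
        rw [Finset.sum_const, Finset.card_range, smul_eq_mul, mul_comm]

/-- `ℓ(D) ≤ deg D + 1` as soon as `L(D) ≠ 0`. -/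
theorem ell_le_deg_add_one (hK : FunFld.IsFunctionField k K) (D : FunFld.Divisor k K)
    (h : 0 < FunFld.ell D) : (FunFld.ell D : ℤ) ≤ D.deg + 1 := by
  obtain ⟨z, hzL, hz0⟩ := exists_ne_zero_mem_L_of_ell_pos h
  have h1 := (mem_L_iff_nonneg hK _ hz0).1 hzL
  have h2 := (finiteDimensional_L_of_nonneg hK h1).2
  rwa [ell_add_div hK D hz0, deg_add, deg_div_eq_zero hK, add_zero] at h2

/-- In positive genus a divisor of degree one has `ℓ ≤ 1`. -/
theorem ell_le_one_of_deg_eq_one (hK : FunFld.IsFunctionField k K)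
    (hg : 0 < FunFld.genus k K) (E : FunFld.Divisor k K) (hE : E.deg = 1) : FunFld.ell E ≤ 1 := by
  by_contra hlt
  have h2 : 2 ≤ FunFld.ell E := by omega
  obtain ⟨z, hzL, hz0⟩ := exists_ne_zero_mem_L_of_ell_pos (by omega : 0 < FunFld.ell E)
  have h1 := (mem_L_iff_nonneg hK _ hz0).1 hzL
  have hdeg : (E + FunFld.div k z).deg = 1 := by rw [deg_add, deg_div_eq_zero hK, hE, add_zero]
  obtain ⟨R, hR, hRdeg⟩ := exists_eq_single_of_deg_eq_one hK h1 hdeg
  have h3 := ell_add_div hK E hz0
  rw [hR, ell_single_one_of_genus_pos hK hg hRdeg] at h3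
  omega

theorem finrank_inf_L_le_ell (hK : FunFld.IsFunctionField k K) (V : Submodule k K)
    (E : FunFld.Divisor k K) : Module.finrank k ↥(V ⊓ FunFld.L E) ≤ FunFld.ell E := by
  have := finiteDimensional_L hK E
  exact Submodule.finrank_mono inf_le_right

/-- For subspaces `A ≤ B`, cutting with `W` can only decrease the jump in dimension. -/
theorem finrank_inf_add_le {U : Type*} [AddCommGroup U] [Module k U] (W : Submodule k U)
    {A B : Submodule k U} (hAB : A ≤ B) [FiniteDimensional k B] :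
    Module.finrank k ↥(W ⊓ B) + Module.finrank k A ≤
      Module.finrank k B + Module.finrank k ↥(W ⊓ A) := by
  have hA : FiniteDimensional k A := Submodule.finiteDimensional_of_le hAB
  have hWB : FiniteDimensional k ↥(W ⊓ B) := Submodule.finiteDimensional_of_le inf_le_right
  have h1 := Submodule.finrank_sup_add_finrank_inf_eq (W ⊓ B) A
  have h2 : Module.finrank k ↥((W ⊓ B) ⊔ A) ≤ Module.finrank k B :=
    Submodule.finrank_mono (sup_le inf_le_right hAB)
  have h3 : (W ⊓ B) ⊓ A = W ⊓ A := by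
    rw [inf_assoc, inf_eq_right.2 hAB]
  rw [h3] at h1
  omega

/-- The dimension of the members of `V` vanishing to order `≥ n` at `P` (relative to `D`). -/
noncomputable def vdim (V : Submodule k K) (D : FunFld.Divisor k K) (P : FunFld.Place k K)
    (n : ℕ) : ℕ := Module.finrank k ↥(V ⊓ FunFld.L (D - Finsupp.single P (n : ℤ)))

theorem vdim_zero {V : Submodule k K} {D : FunFld.Divisor k K} (hV : V ≤ FunFld.L D)
    (P : FunFld.Place k K) : vdim V D P 0 = Module.finrank k V := by
  unfold vdim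
  have : D - Finsupp.single P ((0 : ℕ) : ℤ) = D := by simp
  rw [this, inf_eq_left.2 hV]

theorem vdim_succ_le (hK : FunFld.IsFunctionField k K) (V : Submodule k K)
    (D : FunFld.Divisor k K) (P : FunFld.Place k K) (n : ℕ) :
    vdim V D P (n + 1) ≤ vdim V D P n := by
  unfold vdim
  have := finiteDimensional_L hK (D - Finsupp.single P (n : ℤ))
  have : FiniteDimensional k ↥(V ⊓ FunFld.L (D - Finsupp.single P (n : ℤ))) :=
    Submodule.finiteDimensional_of_le inf_le_right
  apply Submodule.finrank_mono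
  apply inf_le_inf_left
  apply L_mono
  exact sub_le_sub_left (single_mono P (by push_cast; omega)) D

theorem vdim_le_succ_add_one (hK : FunFld.IsFunctionField k K) (V : Submodule k K)
    (D : FunFld.Divisor k K) {P : FunFld.Place k K} (hP : P.deg = 1) (n : ℕ) :
    vdim V D P n ≤ vdim V D P (n + 1) + 1 := by
  unfold vdim
  have hle : D - Finsupp.single P ((n + 1 : ℕ) : ℤ) ≤ D - Finsupp.single P (n : ℤ) :=
    sub_le_sub_left (single_mono P (by push_cast; omega)) D
  have := finiteDimensional_L hK (D - Finsupp.single P (n : ℤ))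
  have h1 := finrank_inf_add_le V (L_mono hle)
  have h2 := ell_sub_ell_le hK hle
  rw [deg_sub, deg_sub, deg_single, deg_single, hP] at h2
  unfold FunFld.ell at h2
  push_cast at h2
  have h3 : (Module.finrank k ↥(FunFld.L (D - Finsupp.single P (n : ℤ))) : ℤ) ≤
      Module.finrank k ↥(FunFld.L (D - Finsupp.single P ((n : ℤ) + 1))) + 1 := by linarith
  have e : ((n + 1 : ℕ) : ℤ) = (n : ℤ) + 1 := by push_cast; ring
  rw [e] at h1 ⊢
  have h4 : Module.finrank k ↥(FunFld.L (D - Finsupp.single P (n : ℤ))) ≤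
      Module.finrank k ↥(FunFld.L (D - Finsupp.single P ((n : ℤ) + 1))) + 1 := by exact_mod_cast h3
  omega

/-- A section with prescribed divisor `nP + (d-n)Q`. -/
theorem exists_section_of_vdim (hK : FunFld.IsFunctionField k K) [IsAlgClosed k] {d : ℕ}
    {D : FunFld.Divisor k K} (hD : D.deg = d) (V : Submodule k K) [FiniteDimensional k V]
    {P Q : FunFld.Place k K} (hPQ : P ≠ Q) {n : ℕ} (hn : n ≤ d)
    (h : Module.finrank k V + 1 ≤ vdim V D P n + vdim V D Q (d - n)) :
    ∃ s ∈ V, s ≠ 0 ∧
      FunFld.div k s + D = Finsupp.single P (n : ℤ) + Finsupp.single Q ((d - n : ℕ) : ℤ) := by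
  unfold vdim at h
  set A := V ⊓ FunFld.L (D - Finsupp.single P (n : ℤ)) with hA
  set B := V ⊓ FunFld.L (D - Finsupp.single Q ((d - n : ℕ) : ℤ)) with hB
  have hfA : FiniteDimensional k A := Submodule.finiteDimensional_of_le inf_le_left
  have hfB : FiniteDimensional k B := Submodule.finiteDimensional_of_le inf_le_left
  have h1 := Submodule.finrank_sup_add_finrank_inf_eq A B
  have h2 : Module.finrank k ↥(A ⊔ B) ≤ Module.finrank k V :=
    Submodule.finrank_mono (sup_le inf_le_left inf_le_left)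
  have h3 : 0 < Module.finrank k ↥(A ⊓ B) := by omega
  have hnt : Nontrivial ↥(A ⊓ B) := Module.finrank_pos_iff.1 h3
  obtain ⟨s, hs⟩ := exists_ne (0 : ↥(A ⊓ B))
  have hs0 : (s : K) ≠ 0 := fun h0 => hs (Subtype.ext h0)
  have hsA : (s : K) ∈ A := s.2.1
  have hsB : (s : K) ∈ B := s.2.2
  refine ⟨s, hsA.1, hs0, ?_⟩
  have hmem : (s : K) ∈ FunFld.L (D - Finsupp.single P (n : ℤ) -
      Finsupp.single Q ((d - n : ℕ) : ℤ)) := by
    rw [← L_sub_single_inf_L_sub_single D hPQ (Int.natCast_nonneg _) (Int.natCast_nonneg _)]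
    exact ⟨hsA.2, hsB.2⟩
  have hnn := (mem_L_iff_nonneg hK _ hs0).1 hmem
  have hdeg : (D - Finsupp.single P (n : ℤ) - Finsupp.single Q ((d - n : ℕ) : ℤ) +
      FunFld.div k (s : K)).deg = 0 := by
    rw [deg_add, deg_sub, deg_sub, deg_single, deg_single, deg_div_eq_zero hK, hD,
      deg_eq_one_of_isAlgClosed hK P, deg_eq_one_of_isAlgClosed hK Q]
    have : ((d - n : ℕ) : ℤ) = (d : ℤ) - n := by omega
    rw [this]; push_cast; ring
  have h0 := eq_zero_of_nonneg_of_deg_eq_zero hK hnn hdeg
  have : FunFld.div k (s : K) + D - (Finsupp.single P (n : ℤ) +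
      Finsupp.single Q ((d - n : ℕ) : ℤ)) = 0 := by rw [← h0]; abel
  exact sub_eq_zero.1 this

/-- A counting lemma: if the total weight at two points is large, at least two of the numbers
`a n + b (d - n)` reach the maximum `r + 2`. -/
theorem exists_two_of_sum_large {a b : ℕ → ℕ} {d r : ℕ} (ha0 : a 0 = r + 1) (hb0 : b 0 = r + 1)
    (hbstep : ∀ n, b n ≤ b (n + 1) + 1)
    (hab : ∀ n, n ≤ d + 1 → a n + b (d + 1 - n) ≤ r + 1)
    (hw : (r + 1) * d + 1 ≤
      (∑ n ∈ Finset.range d, a (n + 1)) + (∑ n ∈ Finset.range d, b (n + 1)) + r) :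
    ∃ n₁ n₂, n₁ < n₂ ∧ n₂ ≤ d ∧ r + 2 ≤ a n₁ + b (d - n₁) ∧ r + 2 ≤ a n₂ + b (d - n₂) := by
  set c : ℕ → ℕ := fun n => a n + b (d - n) with hc
  have hcle : ∀ n ∈ Finset.range (d + 1), c n ≤ r + 2 := by
    intro n hn
    rw [Finset.mem_range] at hn
    have h1 := hab n (by omega)
    have h2 := hbstep (d - n)
    have e : d - n + 1 = d + 1 - n := by omega
    rw [e] at h2
    change a n + b (d - n) ≤ r + 2
    omega
  -- the sum of the `c n`
  have hsum : ∑ n ∈ Finset.range (d + 1), c n =
      2 * (r + 1) + (∑ n ∈ Finset.range d, a (n + 1)) + (∑ n ∈ Finset.range d, b (n + 1)) := by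
    have h1 : ∑ n ∈ Finset.range (d + 1), c n =
        (∑ n ∈ Finset.range (d + 1), a n) + ∑ n ∈ Finset.range (d + 1), b (d - n) :=
      Finset.sum_add_distrib
    have h2 : ∑ n ∈ Finset.range (d + 1), b (d - n) = ∑ n ∈ Finset.range (d + 1), b n := by
      have := Finset.sum_range_reflect b (d + 1)
      rw [← this]
      apply Finset.sum_congr rfl
      intro n _
      congr 1
    rw [h1, h2, Finset.sum_range_succ' a d, Finset.sum_range_succ' b d, ha0, hb0]
    ring
  -- the set of good indices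
  set G := (Finset.range (d + 1)).filter fun n => r + 2 ≤ c n with hG
  have hcard : 2 ≤ G.card := by
    by_contra hlt
    have hGc : G.card ≤ 1 := by omega
    -- the complement contributes at least one each to the defect
    have h3 : ∑ n ∈ Finset.range (d + 1), (c n + (if r + 2 ≤ c n then 0 else 1)) ≤
        ∑ _n ∈ Finset.range (d + 1), (r + 2) := by
      apply Finset.sum_le_sum
      intro n hn
      have := hcle n hn
      split_ifs with h
      · omega
      · omega
    rw [Finset.sum_add_distrib, Finset.sum_const, Finset.card_range, smul_eq_mul] at h3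
    have h4 : ∑ n ∈ Finset.range (d + 1), (if r + 2 ≤ c n then 0 else 1) =
        (d + 1) - G.card := by
      have h5 : ∑ n ∈ Finset.range (d + 1), (if r + 2 ≤ c n then 0 else 1) =
          ((Finset.range (d + 1)).filter fun n => ¬ r + 2 ≤ c n).card := by
        rw [Finset.card_filter]
        apply Finset.sum_congr rfl
        intro n _
        split_ifs <;> rfl
      have h6 := Finset.card_filter_add_card_filter_not
        (s := Finset.range (d + 1)) (fun n => r + 2 ≤ c n)
      rw [Finset.card_range] at h6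
      rw [h5, hG]
      omega
    rw [h4, hsum] at h3
    have h7 : (d + 1) * (r + 2) = (r + 1) * d + d + r + 2 := by ring
    rw [h7] at h3
    omega
  obtain ⟨n₁, hn₁, n₂, hn₂, hne⟩ := Finset.one_lt_card.1 (by omega : 1 < G.card)
  rw [hG, Finset.mem_filter, Finset.mem_range] at hn₁ hn₂
  rcases lt_or_gt_of_ne hne with h | h
  · exact ⟨n₁, n₂, h, by omega, hn₁.2, hn₂.2⟩
  · exact ⟨n₂, n₁, h, by omega, hn₂.2, hn₁.2⟩

/-- The (shifted) weight `∑_{j=1}^{d} dim V(-jP)` of a linear series at a place. -/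
noncomputable def wsum (V : Submodule k K) (D : FunFld.Divisor k K) (d : ℕ)
    (P : FunFld.Place k K) : ℕ :=
  ∑ j ∈ Finset.range d, Module.finrank k ↥(V ⊓ FunFld.L (D - Finsupp.single P ((j : ℤ) + 1)))

/-- Compatibility of two aspects at a node makes their shifted weights add up to `(r+1) d`. -/
theorem wsum_add_wsum_of_compatible {K' : Type w} [Field K'] [Algebra k K']
    (V : Submodule k K) (D : FunFld.Divisor k K) (V' : Submodule k K') (D' : FunFld.Divisor k K')
    (d r : ℕ) (B : FunFld.Place k K) (A : FunFld.Place k K')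
    (hcomp : ∀ m : ℕ, m ≤ d + 1 →
      Module.finrank k ↥(V ⊓ FunFld.L (D - Finsupp.single B ((m : ℤ)))) +
        Module.finrank k ↥(V' ⊓ FunFld.L (D' - Finsupp.single A ((d : ℤ) + 1 - m))) = r + 1) :
    wsum V D d B + wsum V' D' d A = (r + 1) * d := by
  unfold wsum
  rw [← Finset.sum_range_reflect
    (fun j => Module.finrank k ↥(V' ⊓ FunFld.L (D' - Finsupp.single A ((j : ℤ) + 1)))) d,
    ← Finset.sum_add_distrib]
  calc _ = ∑ _j ∈ Finset.range d, (r + 1) := by
        apply Finset.sum_congr rfl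
        intro j hj
        rw [Finset.mem_range] at hj
        have h1 := hcomp (j + 1) (by omega)
        have e1 : ((j + 1 : ℕ) : ℤ) = (j : ℤ) + 1 := by push_cast; ring
        have e2 : (d : ℤ) + 1 - ((j : ℤ) + 1) = ((d - 1 - j : ℕ) : ℤ) + 1 := by
          have : ((d - 1 - j : ℕ) : ℤ) = (d : ℤ) - 1 - j := by omega
          rw [this]; ring
        rw [e1, e2] at h1
        exact h1
    _ = (r + 1) * d := by
        rw [Finset.sum_const, Finset.card_range, smul_eq_mul, mul_comm]

theorem wsum_add_wsum_le (hK : FunFld.IsFunctionField k K) [IsAlgClosed k]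
    {d : ℕ} (D : FunFld.Divisor k K) (hD : D.deg = d) (V : Submodule k K) {r : ℕ}
    (hVr : Module.finrank k ↥V = r + 1) {P Q : FunFld.Place k K} (hPQ : P ≠ Q) :
    wsum V D d P + wsum V D d Q ≤ (r + 1) * d := by
  have hfin : FiniteDimensional k ↥V := Module.finite_of_finrank_pos (by omega)
  rw [← hVr]
  exact sum_vanishing_add_sum_vanishing_le hK D hD V hPQ

/-- At a place of degree one every integral element is congruent to a constant. -/
theorem exists_const_val_sub_lt_one {Q : FunFld.Place k K} (hQ : Q.deg = 1) {x : K}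
    (hx : Q.1 x ≤ 1) : ∃ c : k, Q.1 (x - algebraMap k K c) < 1 := by
  have h1 : (1 : IsLocalRing.ResidueField Q.O) ≠ 0 := one_ne_zero
  obtain ⟨c, hc⟩ := (finrank_eq_one_iff_of_nonzero' (1 : IsLocalRing.ResidueField Q.O) h1).1 hQ
    (IsLocalRing.residue Q.O ⟨x, hx⟩)
  refine ⟨c, ?_⟩
  have h2 : IsLocalRing.residue Q.O (c • (1 : Q.O)) = IsLocalRing.residue Q.O ⟨x, hx⟩ := hc
  have h4 : c • (1 : Q.O) = ⟨algebraMap k K c, Q.2.1 c⟩ := by
    rw [Algebra.smul_def, mul_one]; rfl
  rw [h4] at h2
  have h3 : IsLocalRing.residue Q.O (⟨x, hx⟩ - ⟨algebraMap k K c, Q.2.1 c⟩) = 0 := by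
    rw [map_sub, h2, sub_self]
  rw [residue_eq_zero_iff] at h3
  exact h3

theorem val_const (P : FunFld.Place k K) {c : k} (hc : c ≠ 0) : P.1 (algebraMap k K c) = 1 :=
  val_algebraMap P hc

/-- A function with a single simple pole, at a place of degree one, has only simple zeros. -/
theorem val_eq_exp_neg_one_of_simple_pole (hK : FunFld.IsFunctionField k K) {u : K}
    {B Q : FunFld.Place k K} (hB : B.deg = 1) (hu : B.ord u = -1)
    (huR : ∀ R : FunFld.Place k K, R ≠ B → 0 ≤ R.ord u) (hQ : Q.1 u < 1) :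
    Q.1 u = WithZero.exp (-1 : ℤ) := by
  classical
  have htr : Transcendental k u := transcendental_of_ord_ne_zero hK (P := B) (by rw [hu]; omega)
  have hu0 : u ≠ 0 := fun h => htr (h ▸ isAlgebraic_zero)
  have htop := adjoin_eq_top_of_simple_pole hK hB hu huR
  have h1 := (deg_zeroDiv_eq_and_deg_poleDiv_eq hK htr).1
  rw [finrank_eq_one_iff_eq_top.2 htop] at h1
  obtain ⟨Z, hZ, -⟩ := exists_eq_single_of_deg_eq_one hK (zeroDiv_nonneg u) (by exact_mod_cast h1)
  have h2 := zeroDiv_apply hK u Q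
  have hordpos : 0 < Q.ord u := by
    rw [FunFld.Place.ord]
    have h0 : Q.1 u ≠ 0 := (Valuation.ne_zero_iff _).2 hu0
    have : WithZero.log (Q.1 u) < 0 := by
      rw [← WithZero.exp_lt_exp, WithZero.exp_log h0, WithZero.exp_zero]; exact hQ
    omega
  rw [hZ, Finsupp.single_apply] at h2
  have hord : Q.ord u = 1 := by
    split_ifs at h2 with h
    · omega
    · omega
  rw [val_eq_exp_neg_ord Q hu0, hord]

/-- Over a field of characteristic zero, `t ^ m - γ` vanishes to order at most one at a place `Q`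
of degree one where `t` is a unit, if `t - τ` vanishes there only to first order for the
constant `τ` with `t ≡ τ`. -/
theorem exp_neg_one_le_val_pow_sub_const [CharZero k] {t : K} {Q : FunFld.Place k K} {τ : k}
    (hτ0 : τ ≠ 0) (hτ : Q.1 (t - algebraMap k K τ) = WithZero.exp (-1 : ℤ)) {m : ℕ} (hm : 0 < m)
    (γ : k) : WithZero.exp (-1 : ℤ) ≤ Q.1 (t ^ m - algebraMap k K γ) := by
  set c := algebraMap k K τ with hc
  have hlt : Q.1 (t - c) < 1 := by
    rw [hτ, ← WithZero.exp_zero, WithZero.exp_lt_exp]; norm_num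
  have hc1 : Q.1 c = 1 := val_const Q hτ0
  have ht1 : Q.1 t = 1 := by
    have e : t = c + (t - c) := by ring
    rw [e, Valuation.map_add_eq_of_lt_left, hc1]
    rw [hc1]; exact hlt
  -- `t ^ i ≡ c ^ i`
  have hpow : ∀ i : ℕ, Q.1 (t ^ i - c ^ i) < 1 := by
    intro i
    have e := (Commute.all t c).geom_sum₂_mul i
    rw [← e, map_mul]
    have h1 : Q.1 (∑ j ∈ Finset.range i, t ^ j * c ^ (i - 1 - j)) ≤ 1 := by
      apply Valuation.map_sum_le
      intro j _
      rw [map_mul, map_pow, map_pow, ht1, hc1, one_pow, one_pow, one_mul]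
    calc Q.1 (∑ j ∈ Finset.range i, t ^ j * c ^ (i - 1 - j)) * Q.1 (t - c) ≤ 1 * Q.1 (t - c) :=
          mul_le_mul' h1 le_rfl
      _ = Q.1 (t - c) := one_mul _
      _ < 1 := hlt
  -- the cofactor `G` is a unit at `Q`
  set G := ∑ j ∈ Finset.range m, t ^ j * c ^ (m - 1 - j) with hG
  have hGeq : G * (t - c) = t ^ m - c ^ m := (Commute.all t c).geom_sum₂_mul m
  have hmc : (m : k) * τ ^ (m - 1) ≠ 0 :=
    mul_ne_zero (Nat.cast_ne_zero.2 hm.ne') (pow_ne_zero _ hτ0)
  have hG1 : Q.1 G = 1 := by
    have e : G = algebraMap k K ((m : k) * τ ^ (m - 1)) +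
        ∑ j ∈ Finset.range m, (t ^ j - c ^ j) * c ^ (m - 1 - j) := by
      have e1 : ∑ j ∈ Finset.range m, c ^ j * c ^ (m - 1 - j) =
          algebraMap k K ((m : k) * τ ^ (m - 1)) := by
        have : ∀ j ∈ Finset.range m, c ^ j * c ^ (m - 1 - j) = c ^ (m - 1) := by
          intro j hj
          rw [Finset.mem_range] at hj
          rw [← pow_add]; congr 1; omega
        rw [Finset.sum_congr rfl this, Finset.sum_const, Finset.card_range, nsmul_eq_mul,
          map_mul, map_pow, map_natCast]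
      rw [← e1, ← Finset.sum_add_distrib]
      apply Finset.sum_congr rfl
      intro j _
      ring
    rw [e, Valuation.map_add_eq_of_lt_left, val_const Q hmc]
    rw [val_const Q hmc]
    apply Valuation.map_sum_lt _ one_ne_zero
    intro j _
    rw [map_mul, map_pow, hc1, one_pow, mul_one]
    exact hpow j
  have hmain : Q.1 (t ^ m - c ^ m) = WithZero.exp (-1 : ℤ) := by
    rw [← hGeq, map_mul, hG1, one_mul, hτ]
  by_cases hγ : γ = τ ^ m
  · rw [hγ, map_pow, hmain]
  · have hne : τ ^ m - γ ≠ 0 := sub_ne_zero.2 (Ne.symm hγ)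
    have e : t ^ m - algebraMap k K γ = algebraMap k K (τ ^ m - γ) + (t ^ m - c ^ m) := by
      rw [map_sub, map_pow]; ring
    rw [e, Valuation.map_add_eq_of_lt_left, val_const Q hne]
    · rw [← WithZero.exp_zero, WithZero.exp_le_exp]; norm_num
    · rw [val_const Q hne, hmain, ← WithZero.exp_zero, WithZero.exp_lt_exp]; norm_num


/-- A nonzero function with trivial divisor is a nonzero constant. -/
theorem exists_const_of_div_eq_zero (hK : FunFld.IsFunctionField k K) {x : K} (hx : x ≠ 0)
    (h : FunFld.div k x = 0) : ∃ c : k, c ≠ 0 ∧ x = algebraMap k K c := by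
  have h1 : x ∈ FunFld.L (0 : FunFld.Divisor k K) := by
    rw [mem_L_iff_nonneg hK _ hx, h, add_zero]
  rw [L_zero_eq_one hK, Submodule.mem_one] at h1
  obtain ⟨c, hc⟩ := h1
  refine ⟨c, ?_, hc.symm⟩
  rintro rfl
  rw [map_zero] at hc
  exact hx hc.symm

theorem div_pow (hK : FunFld.IsFunctionField k K) {x : K} (hx : x ≠ 0) (n : ℕ) :
    FunFld.div k (x ^ n) = n • FunFld.div k x := by
  induction n with
  | zero =>
    rw [pow_zero, zero_smul]
    exact div_eq_zero_of_isAlgebraic hK (by simpa using isAlgebraic_algebraMap (R := k) (A := K) (1 : k))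
  | succ n ih => rw [pow_succ, div_mul hK (pow_ne_zero _ hx) hx, ih, succ_nsmul]

/-- In genus `0`, any two places of degree one are linearly equivalent. -/
theorem exists_div_eq_single_sub_single (hK : FunFld.IsFunctionField k K)
    (hg0 : FunFld.genus k K = 0) {A B : FunFld.Place k K} (hA : A.deg = 1) (hB : B.deg = 1) :
    ∃ t : K, t ≠ 0 ∧ FunFld.div k t =
      (Finsupp.single A (1 : ℤ) - Finsupp.single B (1 : ℤ) : FunFld.Divisor k K) := by
  set E : FunFld.Divisor k K := Finsupp.single B (1 : ℤ) - Finsupp.single A (1 : ℤ) with hE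
  have hdeg : E.deg = 0 := by
    rw [hE, deg_sub, deg_single, deg_single, hA, hB]; simp
  have h1 := ell_eq_of_deg_ge hK E (by rw [hg0, hdeg]; norm_num)
  rw [hg0, hdeg] at h1
  obtain ⟨z, hzL, hz0⟩ := exists_ne_zero_mem_L_of_ell_pos (D := E) (by
    have : (FunFld.ell E : ℤ) = 1 := by rw [h1]; norm_num
    omega)
  refine ⟨z, hz0, ?_⟩
  have h2 := (mem_L_iff_nonneg hK E hz0).1 hzL
  have h3 := eq_zero_of_nonneg_of_deg_eq_zero hK h2 (by
    rw [deg_add, hdeg, deg_div_eq_zero hK, add_zero])
  have h4 : FunFld.div k z = -E := by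
    rw [eq_neg_iff_add_eq_zero, add_comm]; exact h3
  rw [h4, hE, neg_sub]

/-- Key local computation on a rational curve in characteristic zero: if `t` has a single simple
pole (at `B`), then for a place `Q ≠ B` where `t` is a unit, no nontrivial combination
`α + β t ^ m` (`m > 0`) vanishes to order two or more at `Q`. -/
theorem exp_neg_one_le_val_const_add_const_mul_pow [CharZero k]
    (hK : FunFld.IsFunctionField k K) {t : K} {B Q : FunFld.Place k K} (hB : B.deg = 1)
    (hQ : Q.deg = 1) (htB : B.ord t = -1)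
    (htR : ∀ R : FunFld.Place k K, R ≠ B → 0 ≤ R.ord t) (htQ : Q.ord t = 0) {m : ℕ} (hm : 0 < m)
    (α β : k) (hαβ : α ≠ 0 ∨ β ≠ 0) :
    WithZero.exp (-1 : ℤ) ≤ Q.1 (algebraMap k K α + algebraMap k K β * t ^ m) := by
  have ht0 : t ≠ 0 := by
    rintro rfl
    rw [ord_zero] at htB; omega
  have hQt : Q.1 t = 1 := by
    rw [val_eq_exp_neg_ord Q ht0, htQ, neg_zero, WithZero.exp_zero]
  obtain ⟨τ, hτ⟩ := exists_const_val_sub_lt_one hQ (x := t) hQt.le
  have hτ0 : τ ≠ 0 := by
    rintro rfl
    rw [map_zero, sub_zero, hQt] at hτ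
    exact lt_irrefl _ hτ
  have hBt : B.1 t = WithZero.exp (1 : ℤ) := by
    rw [val_eq_exp_neg_ord B ht0, htB]; rfl
  have hBlt : B.1 (algebraMap k K τ) < B.1 t := by
    rw [val_const B hτ0, hBt, ← WithZero.exp_zero, WithZero.exp_lt_exp]; norm_num
  have hu0 : t - algebraMap k K τ ≠ 0 := by
    intro h0
    rw [sub_eq_zero] at h0
    rw [h0] at hBlt
    exact lt_irrefl _ hBlt
  have huB : B.ord (t - algebraMap k K τ) = -1 := by
    rw [FunFld.Place.ord, Valuation.map_sub_eq_of_lt_left _ hBlt, ← FunFld.Place.ord, htB]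
  have huR : ∀ R : FunFld.Place k K, R ≠ B → 0 ≤ R.ord (t - algebraMap k K τ) := by
    intro R hR
    rw [ord_nonneg_iff]
    refine le_trans (Valuation.map_sub _ _ _) (max_le ?_ (val_algebraMap_le R τ))
    rw [← ord_nonneg_iff]; exact htR R hR
  have hval := val_eq_exp_neg_one_of_simple_pole hK hB huB huR hτ
  by_cases hβ : β = 0
  · have hα : α ≠ 0 := by tauto
    rw [hβ, map_zero, zero_mul, add_zero, val_const Q hα, ← WithZero.exp_zero,
      WithZero.exp_le_exp]
    norm_num
  · have h1 := exp_neg_one_le_val_pow_sub_const hτ0 hval hm (-α / β)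
    have e : algebraMap k K α + algebraMap k K β * t ^ m =
        algebraMap k K β * (t ^ m - algebraMap k K (-α / β)) := by
      rw [map_div₀, map_neg]
      have : algebraMap k K β ≠ 0 := by
        rw [Ne, map_eq_zero_iff _ (algebraMap k K).injective]; exact hβ
      field_simp
      ring
    rw [e, map_mul, val_const Q hβ, one_mul]
    exact h1

/-- Imposing one more vanishing condition at a place of degree one cuts the dimension by at most
one. -/
theorem finrank_inf_L_le_sub_single_add_one (hK : FunFld.IsFunctionField k K) (V : Submodule k K)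
    {E E' : FunFld.Divisor k K} {P : FunFld.Place k K} (hP : P.deg = 1)
    (hE : E' = E - Finsupp.single P (1 : ℤ)) :
    Module.finrank k ↥(V ⊓ FunFld.L E) ≤ Module.finrank k ↥(V ⊓ FunFld.L E') + 1 := by
  subst hE
  have hle : E - Finsupp.single P (1 : ℤ) ≤ E :=
    sub_le_self E (by
      rw [Finsupp.le_def]; intro R; classical
      rw [Finsupp.zero_apply, Finsupp.single_apply]; split_ifs <;> norm_num)
  have := finiteDimensional_L hK E
  have h1 := finrank_inf_add_le V (L_mono hle)
  have h2 := ell_sub_ell_le hK hle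
  rw [deg_sub, deg_single, hP] at h2
  unfold FunFld.ell at h2
  push_cast at h2
  have h4 : Module.finrank k ↥(FunFld.L E) ≤
      Module.finrank k ↥(FunFld.L (E - Finsupp.single P (1 : ℤ))) + 1 := by
    have : (Module.finrank k ↥(FunFld.L E) : ℤ) ≤
      Module.finrank k ↥(FunFld.L (E - Finsupp.single P (1 : ℤ))) + 1 := by linarith
    exact_mod_cast this
  omega

/-- Dimension count for two subspaces of a common finite-dimensional space. -/
theorem finrank_add_le_of_inf_eq {U : Type*} [AddCommGroup U] [Module k U]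
    {X Y Z W : Submodule k U} [FiniteDimensional k Z] (hX : X ≤ Z) (hY : Y ≤ Z)
    (hW : X ⊓ Y = W) :
    Module.finrank k ↥X + Module.finrank k ↥Y ≤ Module.finrank k ↥Z + Module.finrank k ↥W := by
  have hXf : FiniteDimensional k ↥X := Submodule.finiteDimensional_of_le hX
  have hYf : FiniteDimensional k ↥Y := Submodule.finiteDimensional_of_le hY
  have h1 := Submodule.finrank_sup_add_finrank_inf_eq X Y
  have h2 : Module.finrank k ↥(X ⊔ Y) ≤ Module.finrank k ↥Z :=
    Submodule.finrank_mono (sup_le hX hY)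
  rw [hW] at h1
  omega

end Groth.Agent.Lib.H40FunFld
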