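/-
Finite generation of the integral closure of the affine coordinate rings of a birational
projective map of a function field, and the conductor (helper70).
-/
import Mathlib
import Groth.Agent.Lib.FunFldLocRing
import Groth.Agent.Lib.FunFldEmbed
import Groth.Agent.Lib.H40FunFldPlaneGenus
import Groth.Agent.Lib.H40FunFldSeries

set_option autoImplicit false

namespace Groth.Agent.Lib.FunFldConductor

open FunFld Groth.Agent.Lib.H40FunFld Groth.Agent.Lib.FunFldPencil Groth.Agent.Lib.FunFldEmbed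
  Groth.Agent.Lib.FunFldLocRing

variable {k K : Type*} [Field k] [Field K] [Algebra k K] {ι : Type*} [Fintype ι] [Nonempty ι]

section MapDiv

theorem mapDiv_apply (hK : IsFunctionField k K) (φ : ι → K) (P : Place k K) :
    mapDiv k φ P = -Finset.univ.inf' Finset.univ_nonempty (fun i => P.ord (φ i)) :=
  mapDiv_apply_of_finite φ (fun i => finite_support_ord hK _) P

theorem val_le_exp_mapDiv (hK : IsFunctionField k K) (φ : ι → K) (i : ι) (P : Place k K) :
    P.1 (φ i) ≤ WithZero.exp (mapDiv k φ P) := by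
  rw [mapDiv_apply hK]
  refine (exp_neg_ord_le P _).trans ?_
  rw [WithZero.exp_le_exp, neg_le_neg_iff]
  exact Finset.inf'_le _ (Finset.mem_univ i)

theorem exists_val_eq_exp_mapDiv (hK : IsFunctionField k K) (φ : ι → K) (hne : ∀ i, φ i ≠ 0)
    (P : Place k K) : ∃ j, P.1 (φ j) = WithZero.exp (mapDiv k φ P) := by
  obtain ⟨j, -, hj⟩ := Finset.exists_mem_eq_inf' (Finset.univ_nonempty (α := ι))
    (fun i => P.ord (φ i))
  refine ⟨j, ?_⟩
  rw [mapDiv_apply hK, hj, val_eq_exp_neg_ord P (hne j)]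

theorem mem_L_mapDiv (hK : IsFunctionField k K) (φ : ι → K) (i : ι) : φ i ∈ L (mapDiv k φ) :=
  (mem_L_iff _ _).2 fun P => val_le_exp_mapDiv hK φ i P

theorem span_le_L_mapDiv (hK : IsFunctionField k K) (φ : ι → K) :
    Submodule.span k (Set.range φ) ≤ L (mapDiv k φ) :=
  Submodule.span_le.mpr (by rintro _ ⟨i, rfl⟩; exact mem_L_mapDiv hK φ i)

theorem least_iff (hK : IsFunctionField k K) (φ : ι → K) (hne : ∀ i, φ i ≠ 0) (j : ι)
    (P : Place k K) : Least φ j P ↔ P.1 (φ j) = WithZero.exp (mapDiv k φ P) := by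
  constructor
  · intro h
    obtain ⟨j', hj'⟩ := exists_val_eq_exp_mapDiv hK φ hne P
    exact le_antisymm (val_le_exp_mapDiv hK φ j P) (hj' ▸ h j')
  · intro h i
    rw [h]
    exact val_le_exp_mapDiv hK φ i P

/-- the span of `φ` has no base point relative to `mapDiv φ` -/
theorem span_not_le (hK : IsFunctionField k K) (φ : ι → K) (hne : ∀ i, φ i ≠ 0) (Q : Place k K) :
    ¬ Submodule.span k (Set.range φ) ≤ L (mapDiv k φ - Finsupp.single Q 1) := by
  classical
  intro h
  obtain ⟨j, hj⟩ := exists_val_eq_exp_mapDiv hK φ hne Q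
  have h1 := (mem_L_iff _ _).1 (h (Submodule.subset_span ⟨j, rfl⟩)) Q
  rw [hj, Finsupp.sub_apply, Finsupp.single_eq_same, WithZero.exp_le_exp] at h1
  omega

theorem one_le_deg_mapDiv (hK : IsFunctionField k K) (φ : ι → K) (hφ : LinearIndependent k φ)
    (hcard : 2 ≤ Fintype.card ι) : 1 ≤ (mapDiv k φ).deg := by
  have := finiteDimensional_L hK (mapDiv k φ)
  have h1 : Module.finrank k (Submodule.span k (Set.range φ)) = Fintype.card ι :=
    finrank_span_eq_card hφ
  have h2 : Module.finrank k (Submodule.span k (Set.range φ)) ≤ FunFld.ell (mapDiv k φ) :=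
    Submodule.finrank_mono (span_le_L_mapDiv hK φ)
  have h3 := ell_le_deg_add_one hK (mapDiv k φ) (by omega)
  omega

end MapDiv

section Pencil

omit [Fintype ι] [Nonempty ι] in
/-- a base-point-free linear system over an infinite field contains a pencil without
common base points -/
theorem exists_pencil_sub [Infinite k] (hK : IsFunctionField k K) {F : Divisor k K}
    (W : Submodule k K) (hW : W ≤ L F)
    (hbpf : ∀ Q : Place k K, ¬ W ≤ L (F - Finsupp.single Q 1)) :
    ∃ s₁ ∈ W, ∃ s₂ ∈ W, NoBase F s₁ s₂ := by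
  classical
  obtain ⟨Q₀⟩ := exists_place hK
  obtain ⟨s₁, hs₁, hs₁'⟩ := SetLike.not_le_iff_exists.mp (hbpf Q₀)
  have hs₁0 : s₁ ≠ 0 := fun h => hs₁' (h ▸ Submodule.zero_mem _)
  let Z : Finset (Place k K) := (finite_base hK F hs₁0).toFinset
  let p : Place k K → Submodule k W := fun Q =>
    (L (F - Finsupp.single Q 1)).comap W.subtype
  have htop : (⊤ : Submodule k W) ∉ Z.image p := by
    intro h
    obtain ⟨Q, -, hQ⟩ := Finset.mem_image.mp h
    apply hbpf Q
    intro x hx
    have : (⟨x, hx⟩ : W) ∈ p Q := by rw [hQ]; exact Submodule.mem_top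
    exact this
  have hne := Subspace.biUnion_ne_univ_of_top_notMem htop
  obtain ⟨y, hy⟩ := (Set.ne_univ_iff_exists_notMem _).mp hne
  refine ⟨s₁, hs₁, y.1, y.2, fun Q => ?_⟩
  by_cases hQ : Q ∈ Z
  · right
    apply val_eq_of_mem_of_not_mem (hW y.2)
    intro hmem
    apply hy
    simp only [Set.mem_iUnion, SetLike.mem_coe]
    exact ⟨p Q, Finset.mem_image_of_mem p hQ, hmem⟩
  · left
    by_contra hne'
    exact hQ ((finite_base hK F hs₁0).mem_toFinset.mpr hne')

omit [Fintype ι] [Nonempty ι] in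
/-- Riemann–Roch for large multiples -/
theorem ell_nsmul_add (hK : IsFunctionField k K) {D : Divisor k K} (hD : 1 ≤ D.deg) (m : ℕ)
    (hm : 2 * FunFld.genus k K + 1 ≤ m) :
    ell (m • D + D) + ell (m • D - D) = 2 * ell (m • D) := by
  have hm1 : (2 : ℤ) * FunFld.genus k K ≤ (m : ℤ) - 1 := by omega
  have hmul : ((m : ℤ) - 1) ≤ ((m : ℤ) - 1) * D.deg := by nlinarith
  have h1 := ell_eq_of_deg_ge hK (m • D + D) (by rw [deg_add, deg_nsmul]; nlinarith)
  have h2 := ell_eq_of_deg_ge hK (m • D - D) (by rw [deg_sub, deg_nsmul]; nlinarith)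
  have h3 := ell_eq_of_deg_ge hK (m • D) (by rw [deg_nsmul]; nlinarith)
  rw [deg_add, deg_nsmul] at h1
  rw [deg_sub, deg_nsmul] at h2
  rw [deg_nsmul] at h3
  have : ((ell (m • D + D) + ell (m • D - D) : ℕ) : ℤ) = ((2 * ell (m • D) : ℕ) : ℤ) := by
    push_cast
    linarith
  exact_mod_cast this

end Pencil

section FinGen

omit [Fintype ι] [Nonempty ι] in
/-- `T m = L(mD) / y^m` -/
noncomputable def T (D : Divisor k K) (y : K) (m : ℕ) : Submodule k K :=
  (L (m • D)).map (LinearMap.mulRight k (y⁻¹ ^ m))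

omit [Fintype ι] [Nonempty ι] in
theorem mem_T {D : Divisor k K} {y : K} {m : ℕ} {x : K} :
    x ∈ T D y m ↔ ∃ h ∈ L (m • D), h * y⁻¹ ^ m = x := by
  simp only [T, Submodule.mem_map, LinearMap.mulRight_apply]

theorem div_mem_Rg_of_mem_span (φ : ι → K) (j : ι) {s : K}
    (hs : s ∈ Submodule.span k (Set.range φ)) : s / φ j ∈ Rg k φ j := by
  refine Submodule.span_induction (p := fun s _ => s / φ j ∈ Rg k φ j) ?_ ?_ ?_ ?_ hs
  · rintro _ ⟨i, rfl⟩
    exact ratio_mem_Rg φ j i
  · rw [zero_div]; exact Subalgebra.zero_mem _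
  · intro x y _ _ hx hy
    rw [add_div]; exact Subalgebra.add_mem _ hx hy
  · intro c x _ hx
    rw [smul_div_assoc]; exact Subalgebra.smul_mem _ hx c

/-- the pieces `T m` for `m ≥ m₀ = 2g+1` are contained in the `Rg`-span of `T m₀` -/
theorem T_subset_span [Infinite k] (hK : IsFunctionField k K) (φ : ι → K)
    (hφ : LinearIndependent k φ) (hcard : 2 ≤ Fintype.card ι) (j : ι) (m : ℕ)
    (hm : 2 * FunFld.genus k K + 1 ≤ m) :
    (T (mapDiv k φ) (φ j) m : Set K) ⊆
      Submodule.span (Rg k φ j) (T (mapDiv k φ) (φ j) (2 * FunFld.genus k K + 1) : Set K) := by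
  have hne : ∀ i, φ i ≠ 0 := hφ.ne_zero
  have hdeg := one_le_deg_mapDiv hK φ hφ hcard
  obtain ⟨s₁, hs₁, s₂, hs₂, hnb⟩ := exists_pencil_sub hK (Submodule.span k (Set.range φ))
    (span_le_L_mapDiv hK φ) (span_not_le hK φ hne)
  induction m, hm using Nat.le_induction with
  | base => exact Submodule.subset_span
  | succ m hm ih =>
    intro x hx
    obtain ⟨h, hh, rfl⟩ := mem_T.1 hx
    rw [succ_nsmul] at hh
    obtain ⟨a, ha, b, hb, e⟩ := pencil hK (span_le_L_mapDiv hK φ hs₁) (span_le_L_mapDiv hK φ hs₂)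
      hnb (ell_nsmul_add hK hdeg m hm) h hh
    have ea : (⟨s₁ / φ j, div_mem_Rg_of_mem_span φ j hs₁⟩ : Rg k φ j) • (a * (φ j)⁻¹ ^ m) +
        (⟨s₂ / φ j, div_mem_Rg_of_mem_span φ j hs₂⟩ : Rg k φ j) • (b * (φ j)⁻¹ ^ m) =
          h * (φ j)⁻¹ ^ (m + 1) := by
      rw [Subalgebra.smul_def, Subalgebra.smul_def, smul_eq_mul, smul_eq_mul, e]
      simp only [div_eq_mul_inv]
      ring
    rw [← ea]
    exact Submodule.add_mem _ (Submodule.smul_mem _ _ (ih (mem_T.2 ⟨a, ha, rfl⟩)))
      (Submodule.smul_mem _ _ (ih (mem_T.2 ⟨b, hb, rfl⟩)))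

/-- a function regular at all places where `φ j` has least order lies in some `T m` -/
theorem exists_mem_T (hK : IsFunctionField k K) (φ : ι → K) (hne : ∀ i, φ i ≠ 0) (j : ι)
    (z : K) (hz : ∀ Q : Place k K, Least φ j Q → Q.1 z ≤ 1) (m₀ : ℕ) :
    ∃ m, m₀ ≤ m ∧ z ∈ T (mapDiv k φ) (φ j) m := by
  classical
  -- a bound on the pole orders of z
  obtain ⟨M, hM⟩ : ∃ M : ℕ, ∀ Q : Place k K, poleDiv (k := k) z Q ≤ M := by
    refine ⟨(poleDiv (k := k) z).support.sup fun Q => (poleDiv (k := k) z Q).toNat, fun Q => ?_⟩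
    by_cases hQ : Q ∈ (poleDiv (k := k) z).support
    · have h1 : (poleDiv (k := k) z Q).toNat ≤
          (poleDiv (k := k) z).support.sup fun Q => (poleDiv (k := k) z Q).toNat :=
        Finset.le_sup (f := fun Q => (poleDiv (k := k) z Q).toNat) hQ
      have h2 := Int.self_le_toNat (poleDiv (k := k) z Q)
      exact h2.trans (by exact_mod_cast h1)
    · rw [Finsupp.notMem_support_iff.mp hQ]
      exact Int.natCast_nonneg _
  refine ⟨max m₀ M, le_max_left _ _, mem_T.2 ⟨z * (φ j) ^ (max m₀ M), ?_, ?_⟩⟩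
  · rw [mem_L_iff]
    intro Q
    rw [map_mul, map_pow, Finsupp.smul_apply, WithZero.exp_nsmul]
    by_cases hQ : Least φ j Q
    · rw [(least_iff hK φ hne j Q).1 hQ]
      calc Q.1 z * WithZero.exp (mapDiv k φ Q) ^ (max m₀ M)
          ≤ 1 * WithZero.exp (mapDiv k φ Q) ^ (max m₀ M) := mul_le_mul_left (hz Q hQ) _
        _ = _ := one_mul _
    · have h1 : Q.1 (φ j) < WithZero.exp (mapDiv k φ Q) :=
        lt_of_le_of_ne (val_le_exp_mapDiv hK φ j Q) fun h => hQ ((least_iff hK φ hne j Q).2 h)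
      have h2 : Q.1 (φ j) ≤ WithZero.exp (mapDiv k φ Q - 1) := by
        have e : mapDiv k φ Q = (mapDiv k φ Q - 1) + 1 := by ring
        rw [e, lt_exp_add_one_iff] at h1
        exact h1
      have h3 : Q.1 z ≤ WithZero.exp ((max m₀ M : ℕ) : ℤ) :=
        (val_le_exp_poleDiv hK z Q).trans
          (WithZero.exp_le_exp.2 ((hM Q).trans (by exact_mod_cast le_max_right m₀ M)))
      calc Q.1 z * Q.1 (φ j) ^ (max m₀ M)
          ≤ WithZero.exp ((max m₀ M : ℕ) : ℤ) * WithZero.exp (mapDiv k φ Q - 1) ^ (max m₀ M) :=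
            mul_le_mul' h3 (pow_le_pow_left₀ zero_le h2 _)
        _ = WithZero.exp (mapDiv k φ Q) ^ (max m₀ M) := by
            rw [← WithZero.exp_nsmul, ← WithZero.exp_nsmul, ← WithZero.exp_add]
            congr 1
            rw [smul_sub, nsmul_eq_mul, nsmul_eq_mul]
            ring
  · rw [mul_assoc, inv_pow, mul_inv_cancel₀ (pow_ne_zero _ (hne j)), mul_one]

end FinGen

section Conductor

omit [Fintype ι] [Nonempty ι] in
/-- birationality does not depend on the index -/
theorem adjoin_ratio_eq_top (φ : ι → K) (j₀ j : ι) (hj0 : φ j ≠ 0) (hj₀0 : φ j₀ ≠ 0)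
    (hbir : IntermediateField.adjoin k (Set.range fun i => φ i / φ j₀) = ⊤) :
    IntermediateField.adjoin k (Set.range fun i => φ i / φ j) = ⊤ := by
  rw [eq_top_iff, ← hbir, IntermediateField.adjoin_le_iff]
  rintro _ ⟨i, rfl⟩
  have e : φ i / φ j₀ = (φ i / φ j) / (φ j₀ / φ j) := by field_simp
  show φ i / φ j₀ ∈ IntermediateField.adjoin k (Set.range fun i => φ i / φ j)
  rw [e]
  exact div_mem (IntermediateField.subset_adjoin _ _ ⟨i, rfl⟩)
    (IntermediateField.subset_adjoin _ _ ⟨j₀, rfl⟩)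

omit [Fintype ι] [Nonempty ι] in
/-- `K` is the fraction field of `Rg φ j` -/
theorem exists_denominator (φ : ι → K) (j : ι)
    (hbir : IntermediateField.adjoin k (Set.range fun i => φ i / φ j) = ⊤) (x : K) :
    ∃ s ∈ Rg k φ j, s ≠ 0 ∧ s * x ∈ Rg k φ j := by
  have hx : x ∈ IntermediateField.adjoin k (Set.range fun i => φ i / φ j) := by
    rw [hbir]; exact IntermediateField.mem_top
  obtain ⟨r, hr, s, hs, e⟩ := IntermediateField.mem_adjoin_iff_div.1 hx
  by_cases hs0 : s = 0
  · refine ⟨1, Subalgebra.one_mem _, one_ne_zero, ?_⟩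
    rw [e, hs0, div_zero, mul_zero]
    exact Subalgebra.zero_mem _
  · refine ⟨s, hs, hs0, ?_⟩
    rw [e, mul_div_cancel₀ _ hs0]
    exact hr

/-- **The conductor.** There is a nonzero `c ∈ Rg φ j` multiplying every function regular on
the places where `φ j` has least order into `Rg φ j`. -/
theorem exists_conductor [Infinite k] (hK : IsFunctionField k K) (φ : ι → K)
    (hφ : LinearIndependent k φ) (hcard : 2 ≤ Fintype.card ι) (j₀ : ι)
    (hbir : IntermediateField.adjoin k (Set.range fun i => φ i / φ j₀) = ⊤) (j : ι) :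
    ∃ c ∈ Rg k φ j, c ≠ 0 ∧
      ∀ z : K, (∀ Q : Place k K, Least φ j Q → Q.1 z ≤ 1) → c * z ∈ Rg k φ j := by
  classical
  have hne : ∀ i, φ i ≠ 0 := hφ.ne_zero
  have hbir' := adjoin_ratio_eq_top φ j₀ j (hne j) (hne j₀) hbir
  set m₀ := 2 * FunFld.genus k K + 1 with hm₀
  haveI := finiteDimensional_L hK (m₀ • mapDiv k φ)
  have h1 : (L (m₀ • mapDiv k φ)).FG := Module.Finite.iff_fg.mp inferInstance
  have h2 : (T (mapDiv k φ) (φ j) m₀).FG := h1.map _
  obtain ⟨S, hS⟩ := h2
  choose s hs hs0 hsx using exists_denominator φ j hbir'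
  refine ⟨∏ b ∈ S, s b, Subalgebra.prod_mem _ fun b _ => hs b,
    Finset.prod_ne_zero_iff.mpr fun b _ => hs0 b, ?_⟩
  intro z hz
  obtain ⟨m, hm, hzm⟩ := exists_mem_T hK φ hne j z hz m₀
  have hzN := T_subset_span hK φ hφ hcard j m hm hzm
  have hN : Submodule.span (Rg k φ j) (T (mapDiv k φ) (φ j) m₀ : Set K) =
      Submodule.span (Rg k φ j) (S : Set K) := by
    rw [← hS, Submodule.span_span_of_tower]
  rw [hN] at hzN
  refine Submodule.span_induction (p := fun x _ => (∏ b ∈ S, s b) * x ∈ Rg k φ j)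
    ?_ ?_ ?_ ?_ hzN
  · intro b hb
    have hb' : b ∈ S := hb
    rw [← Finset.prod_erase_mul S s hb', mul_assoc]
    exact Subalgebra.mul_mem _ (Subalgebra.prod_mem _ fun b' _ => hs b') (hsx b)
  · rw [mul_zero]; exact Subalgebra.zero_mem _
  · intro x y _ _ hx hy
    rw [mul_add]; exact Subalgebra.add_mem _ hx hy
  · intro r x _ hx
    rw [Subalgebra.smul_def, smul_eq_mul, mul_left_comm]
    exact Subalgebra.mul_mem _ r.2 hx

end Conductor

section Main

omit [Fintype ι] [Nonempty ι] in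
/-- a uniform bound on the valuations of a function -/
theorem exists_val_bound (hK : IsFunctionField k K) (z : K) :
    ∃ M : ℕ, ∀ Q : Place k K, Q.1 z ≤ WithZero.exp (M : ℤ) := by
  classical
  refine ⟨(poleDiv (k := k) z).support.sup fun Q => (poleDiv (k := k) z Q).toNat, fun Q => ?_⟩
  refine (val_le_exp_poleDiv hK z Q).trans (WithZero.exp_le_exp.2 ?_)
  by_cases hQ : Q ∈ (poleDiv (k := k) z).support
  · have h1 : (poleDiv (k := k) z Q).toNat ≤
        (poleDiv (k := k) z).support.sup fun Q => (poleDiv (k := k) z Q).toNat :=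
      Finset.le_sup (f := fun Q => (poleDiv (k := k) z Q).toNat) hQ
    have h2 := Int.self_le_toNat (poleDiv (k := k) z Q)
    exact h2.trans (by exact_mod_cast h1)
  · rw [Finsupp.notMem_support_iff.mp hQ]
    exact Int.natCast_nonneg _

/-- all ratios `φ i / φ j` have common residues at `P` and `Q` -/
def CommonConst (φ : ι → K) (j : ι) (P Q : Place k K) : Prop :=
  ∀ i, ∃ c : k, P.1 (φ i / φ j - algebraMap k K c) < 1 ∧ Q.1 (φ i / φ j - algebraMap k K c) < 1

omit [Fintype ι] [Nonempty ι] in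
theorem lt_one_iff_le_exp (x : WithZero (Multiplicative ℤ)) :
    x < 1 ↔ x ≤ WithZero.exp (-1 : ℤ) := by
  have e : (1 : WithZero (Multiplicative ℤ)) = WithZero.exp ((-1 : ℤ) + 1) := by
    rw [neg_add_cancel, WithZero.exp_zero]
  rw [e, lt_exp_add_one_iff]

omit [Fintype ι] [Nonempty ι] in
/-- a function in `Rg φ j`, a unit at `P`, vanishing to high order at finitely many places with
image different from that of `P` -/
theorem exists_separator [IsAlgClosed k] (hK : IsFunctionField k K) (φ : ι → K) (j : ι)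
    {P : Place k K} (hP : Least φ j P) (S : Finset (Place k K))
    (hS : ∀ Q ∈ S, Least φ j Q ∧ ¬ CommonConst φ j P Q) (e : ℕ) :
    ∃ h ∈ Rg k φ j, P.1 h = 1 ∧ ∀ Q ∈ S, Q.1 h ≤ WithZero.exp (-(e : ℤ)) := by
  classical
  induction S using Finset.induction_on with
  | empty => exact ⟨1, Subalgebra.one_mem _, map_one _, by simp⟩
  | insert Q S hQS ih =>
    obtain ⟨h, hh, hPh, hSh⟩ := ih fun Q' hQ' => hS Q' (Finset.mem_insert_of_mem hQ')
    obtain ⟨hQl, hQc⟩ := hS Q (Finset.mem_insert_self Q S)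
    unfold CommonConst at hQc
    push Not at hQc
    obtain ⟨i, hi⟩ := hQc
    obtain ⟨b, hb⟩ := exists_const hK Q (φ i / φ j) (val_ratio_le_one hQl i)
    have hlR : φ i / φ j - algebraMap k K b ∈ Rg k φ j :=
      Subalgebra.sub_mem _ (ratio_mem_Rg φ j i) (Subalgebra.algebraMap_mem _ b)
    have hPl : P.1 (φ i / φ j - algebraMap k K b) = 1 := by
      apply le_antisymm (val_le_one_of_mem_Rg hP hlR)
      by_contra hlt
      push Not at hlt
      exact absurd hb (not_lt.mpr (hi b hlt))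
    refine ⟨h * (φ i / φ j - algebraMap k K b) ^ e,
      Subalgebra.mul_mem _ hh (Subalgebra.pow_mem _ hlR _), ?_, ?_⟩
    · rw [map_mul, map_pow, hPh, hPl, one_pow, one_mul]
    · intro Q' hQ'
      rw [map_mul, map_pow]
      rcases Finset.mem_insert.mp hQ' with rfl | hQ'S
      · have h1 : Q'.1 h ≤ 1 := val_le_one_of_mem_Rg hQl hh
        have h2 : Q'.1 (φ i / φ j - algebraMap k K b) ≤ WithZero.exp (-1 : ℤ) :=
          (lt_one_iff_le_exp _).1 hb
        calc Q'.1 h * Q'.1 (φ i / φ j - algebraMap k K b) ^ e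
            ≤ 1 * WithZero.exp (-1 : ℤ) ^ e := mul_le_mul' h1 (pow_le_pow_left₀ zero_le h2 _)
          _ = WithZero.exp (-(e : ℤ)) := by
              rw [one_mul, ← WithZero.exp_nsmul]; congr 1; simp
      · have h1 := hSh Q' hQ'S
        have h2 : Q'.1 (φ i / φ j - algebraMap k K b) ≤ 1 :=
          val_le_one_of_mem_Rg (hS Q' hQ').1 hlR
        calc Q'.1 h * Q'.1 (φ i / φ j - algebraMap k K b) ^ e
            ≤ WithZero.exp (-(e : ℤ)) * 1 := mul_le_mul' h1 (pow_le_one₀ zero_le h2)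
          _ = _ := mul_one _

omit [Fintype ι] [Nonempty ι] in
/-- **Main lemma.** If `c` is a conductor element and `z` is divisible by `c` at all places
over the image of `P`, then `z` lies in the local ring at `P`. -/
theorem main_lemma [IsAlgClosed k] (hK : IsFunctionField k K) (φ : ι → K) (j : ι) {c : K}
    (hc0 : c ≠ 0)
    (hcond : ∀ z : K, (∀ Q : Place k K, Least φ j Q → Q.1 z ≤ 1) → c * z ∈ Rg k φ j)
    {P : Place k K} (hP : Least φ j P) (z : K)
    (hz : ∀ Q : Place k K, Least φ j Q → CommonConst φ j P Q → Q.1 z ≤ Q.1 c) :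
    ∃ u ∈ Rg k φ j, ∃ w ∈ Rg k φ j, P.1 w = 1 ∧ z * w = u := by
  classical
  have hfin : {Q : Place k K | Least φ j Q ∧ 1 < Q.1 (z / c)}.Finite := by
    refine (finite_support_ord hK (z / c)).subset ?_
    rintro Q ⟨-, hQ⟩
    rw [Function.mem_support]
    intro h0
    have hz0 : z / c ≠ 0 := by
      intro h; rw [h, map_zero] at hQ; exact absurd hQ (by simp)
    rw [val_eq_exp_neg_ord Q hz0, h0, neg_zero, WithZero.exp_zero] at hQ
    exact lt_irrefl _ hQ
  obtain ⟨M, hM⟩ := exists_val_bound hK (z / c)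
  have hS : ∀ Q ∈ hfin.toFinset, Least φ j Q ∧ ¬ CommonConst φ j P Q := by
    intro Q hQ
    obtain ⟨hQl, hQz⟩ := hfin.mem_toFinset.mp hQ
    refine ⟨hQl, fun hcc => ?_⟩
    have h1 := hz Q hQl hcc
    have hQc : Q.1 c ≠ 0 := by simpa using hc0
    rw [map_div₀] at hQz
    exact absurd hQz (not_lt.mpr (div_le_one_of_le₀ h1 zero_le))
  obtain ⟨h, hh, hPh, hSh⟩ := exists_separator hK φ j hP hfin.toFinset hS M
  have hreg : ∀ Q : Place k K, Least φ j Q → Q.1 (h * (z / c)) ≤ 1 := by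
    intro Q hQl
    rw [map_mul]
    by_cases hQ : 1 < Q.1 (z / c)
    · have h1 := hSh Q (hfin.mem_toFinset.mpr ⟨hQl, hQ⟩)
      calc Q.1 h * Q.1 (z / c) ≤ WithZero.exp (-(M : ℤ)) * WithZero.exp (M : ℤ) :=
            mul_le_mul' h1 (hM Q)
        _ = 1 := by rw [← WithZero.exp_add, neg_add_cancel, WithZero.exp_zero]
    · push Not at hQ
      exact mul_le_one' (val_le_one_of_mem_Rg hQl hh) hQ
  have h2 := hcond _ hreg
  have e : c * (h * (z / c)) = z * h := by field_simp
  rw [e] at h2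
  exact ⟨z * h, h2, h, hh, hPh, rfl⟩

end Main

end Groth.Agent.Lib.FunFldConductor
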