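import Groth.Agent.Lib.FunFldG97

/-!
# Genus-one computations on top of helper40's `FunFld` library (helper97)

Pure-`ℕ` sum lemmas for vanishing-sequence weights, a small linear algebra lemma, `div_pow`, values
of `ℓ` in genus one, and `single`-divisor arithmetic.
-/

set_option autoImplicit false
open FunFld

namespace Groth.Agent.Lib.FunFldE97

open Groth.Agent.Lib.H40FunFld Groth.Agent.Lib.FunFldG97

theorem sum_sub_aux (n : ℕ) : ∑ i ∈ Finset.range n, (n - i) = (n + 1).choose 2 := by
  induction n with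
  | zero => simp
  | succ n ih =>
    rw [Finset.sum_range_succ']
    have : ∑ i ∈ Finset.range n, (n + 1 - (i + 1)) = ∑ i ∈ Finset.range n, (n - i) :=
      Finset.sum_congr rfl fun i _ => by omega
    have hc : (n + 2).choose 2 = (n + 1).choose 1 + (n + 1).choose 2 :=
      Nat.choose_succ_succ' (n + 1) 1
    rw [this, ih, hc, Nat.choose_one_right, Nat.sub_zero]
    omega

theorem sum_sub_aux' (h : ℕ) : ∑ n ∈ Finset.range h, (h + 1 - n) + 1 = (h + 2).choose 2 := by
  have h1 : ∑ n ∈ Finset.range h, (h + 1 - n) = ∑ n ∈ Finset.range h, ((h - n) + 1) :=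
    Finset.sum_congr rfl fun i hi => by
      have := Finset.mem_range.1 hi
      omega
  have hc : (h + 2).choose 2 = (h + 1).choose 1 + (h + 1).choose 2 :=
    Nat.choose_succ_succ' (h + 1) 1
  rw [h1, Finset.sum_add_distrib, sum_sub_aux, Finset.sum_const, Finset.card_range, smul_eq_mul,
    mul_one, hc, Nat.choose_one_right]
  omega

/-- Sum bound used for the weight of a hyperplane of `L(gA)` at a point `Q ≠ A`. -/
theorem sum_bound_A (h δ₁ δ₂ : ℕ) (hδ : δ₁ + δ₂ ≤ 1) (t : ℕ → ℕ)
    (h1 : ∀ n, n < h → t n ≤ h + 1 - n) (h2 : t h ≤ δ₁ + 1) (h3 : t (h + 1) ≤ 1)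
    (h4 : t (h + 2) ≤ δ₂) (h5 : ∀ n, h + 3 ≤ n → t n = 0) :
    ∑ n ∈ Finset.range (2 * (h + 3) - 2), t n ≤ (h + 2).choose 2 + 2 := by
  have e : 2 * (h + 3) - 2 = h + (3 + (h + 1)) := by omega
  rw [e, Finset.sum_range_add, Finset.sum_range_add]
  have hz : ∑ x ∈ Finset.range (h + 1), t (h + (3 + x)) = 0 :=
    Finset.sum_eq_zero fun x _ => h5 _ (by omega)
  rw [hz, add_zero, Finset.sum_range_succ, Finset.sum_range_succ, Finset.sum_range_one]
  have hs : ∑ n ∈ Finset.range h, t n ≤ ∑ n ∈ Finset.range h, (h + 1 - n) :=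
    Finset.sum_le_sum fun n hn => h1 n (Finset.mem_range.1 hn)
  have := sum_sub_aux' h
  simp only [add_zero] at *
  omega

/-- Sum evaluation used for the weight of a hyperplane of `L(gA)` at the point `A`. -/
theorem sum_eq_B (h ε : ℕ) (t : ℕ → ℕ)
    (h1 : ∀ n, n < h + 1 → t n = h + 2) (h2 : t (h + 1) = h + 1 + ε)
    (h3 : ∀ i, i < h + 1 → t (h + 2 + i) = h + 1 - i) (h4 : t (2 * h + 3) = 1) :
    ∑ n ∈ Finset.range (2 * (h + 3) - 2), t n = (h + 2).choose 2 + (h + 2) ^ 2 + ε := by
  have e : 2 * (h + 3) - 2 = (h + 1) + (1 + ((h + 1) + 1)) := by omega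
  rw [e, Finset.sum_range_add t (h + 1) (1 + ((h + 1) + 1)),
    Finset.sum_range_add (fun x => t (h + 1 + x)) 1 ((h + 1) + 1),
    Finset.sum_range_succ (fun x => t (h + 1 + (1 + x))) (h + 1)]
  rw [Finset.sum_range_one]
  have s1 : ∑ x ∈ Finset.range (h + 1), t x = (h + 1) * (h + 2) := by
    rw [Finset.sum_congr rfl fun x hx => h1 x (Finset.mem_range.1 hx), Finset.sum_const,
      Finset.card_range, smul_eq_mul]
  have s2 : ∑ x ∈ Finset.range (h + 1), t (h + 1 + (1 + x)) = (h + 2).choose 2 := by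
    rw [← sum_sub_aux (h + 1)]
    refine Finset.sum_congr rfl fun x hx => ?_
    have e2 : h + 1 + (1 + x) = h + 2 + x := by omega
    rw [e2, h3 x (Finset.mem_range.1 hx)]
  have e3 : h + 1 + (1 + (h + 1)) = 2 * h + 3 := by omega
  rw [s1, s2, e3, h4, add_zero, h2]
  ring

universe u v
variable {k : Type u} {K : Type v} [Field k] [Field K] [Algebra k K]

/-- If `U, W ≤ V₁` and `U` has codimension at most one in `V₁`, then `W ⊓ U` has codimension at
most one in `W`. -/
theorem finrank_le_finrank_inf_add_one {V : Type*} [AddCommGroup V] [Module k V]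
    (V₁ U W : Submodule k V) [FiniteDimensional k V₁] (hU : U ≤ V₁) (hW : W ≤ V₁)
    (h : Module.finrank k V₁ ≤ Module.finrank k U + 1) :
    Module.finrank k W ≤ Module.finrank k ↥(W ⊓ U) + 1 := by
  have : FiniteDimensional k U := Submodule.finiteDimensional_of_le hU
  have : FiniteDimensional k W := Submodule.finiteDimensional_of_le hW
  have h1 := Submodule.finrank_sup_add_finrank_inf_eq W U
  have h2 : Module.finrank k ↥(W ⊔ U) ≤ Module.finrank k V₁ :=
    Submodule.finrank_mono (sup_le hW hU)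
  have h3 : Module.finrank k U ≤ Module.finrank k ↥(W ⊔ U) :=
    have : FiniteDimensional k ↥(W ⊔ U) := Submodule.finiteDimensional_of_le (sup_le hW hU)
    Submodule.finrank_mono le_sup_right
  omega

theorem div_one (hK : FunFld.IsFunctionField k K) : FunFld.div k (1 : K) = 0 := by
  have := div_algebraMap hK (1 : k)
  rwa [map_one] at this

theorem div_pow (hK : FunFld.IsFunctionField k K) {z : K} (hz : z ≠ 0) (n : ℕ) :
    FunFld.div k (z ^ n) = n • FunFld.div k z := by
  induction n with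
  | zero => rw [pow_zero, zero_smul, div_one hK]
  | succ n ih => rw [pow_succ, div_mul hK (pow_ne_zero n hz) hz, ih, succ_nsmul]

/-- In genus one, `ℓ(D) = deg D` for `deg D ≥ 1`. -/
theorem ell_eq_deg_of_genus_one (hK : FunFld.IsFunctionField k K) (hg : FunFld.genus k K = 1)
    (D : FunFld.Divisor k K) (hD : 1 ≤ D.deg) : (FunFld.ell D : ℤ) = D.deg := by
  have h1 := ell_eq_of_deg_ge hK D (by rw [hg]; push_cast; linarith)
  rw [hg] at h1
  rw [h1]; push_cast; ring

theorem ell_eq_zero_of_deg_neg (hK : FunFld.IsFunctionField k K) (D : FunFld.Divisor k K)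
    (hD : D.deg < 0) : FunFld.ell D = 0 := by
  rw [FunFld.ell, L_eq_bot_of_deg_neg hK D hD, finrank_bot]

theorem ell_le_one_of_deg_zero (hK : FunFld.IsFunctionField k K) (D : FunFld.Divisor k K)
    (hD : D.deg = 0) : FunFld.ell D ≤ 1 := by
  by_contra hlt
  obtain ⟨z, hz0, -, hz⟩ := exists_div_eq_of_ell_pos_of_deg_zero hK hD (by omega)
  have e : D = 0 + FunFld.div k z⁻¹ := by
    rw [div_inv hK, zero_add, eq_neg_iff_add_eq_zero]; exact hz
  rw [e, ell_add_div hK 0 (inv_ne_zero hz0), ell_zero hK] at hlt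
  exact hlt le_rfl

theorem single_eq_zsmul (P : FunFld.Place k K) (n : ℤ) :
    (Finsupp.single P n : FunFld.Divisor k K) = n • Finsupp.single P (1 : ℤ) := by
  rw [Finsupp.smul_single, smul_eq_mul, mul_one]

theorem single_sub_single_inf {A Q : FunFld.Place k K} (hQ : Q ≠ A) {M m j : ℤ} (hm : m ≤ M)
    (hj : 0 ≤ j) :
    (Finsupp.single A M - Finsupp.single Q j : FunFld.Divisor k K) ⊓ Finsupp.single A m =
      Finsupp.single A m - Finsupp.single Q j := by
  classical
  ext R
  rw [Finsupp.inf_apply, Finsupp.sub_apply, Finsupp.sub_apply, Finsupp.single_apply,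
    Finsupp.single_apply, Finsupp.single_apply]
  by_cases h1 : A = R
  · subst h1
    rw [if_pos rfl, if_pos rfl, if_neg hQ]
    simp [hm]
  · rw [if_neg h1, if_neg h1]
    by_cases h2 : Q = R
    · rw [if_pos h2]; simp [hj]
    · rw [if_neg h2]; simp

theorem deg_single_sub_single (hdeg1 : ∀ R : FunFld.Place k K, R.deg = 1)
    (A Q : FunFld.Place k K) (m j : ℤ) :
    FunFld.Divisor.deg (Finsupp.single A m - Finsupp.single Q j : FunFld.Divisor k K) = m - j := by
  rw [deg_sub, deg_single, deg_single, hdeg1, hdeg1]; simp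

end Groth.Agent.Lib.FunFldE97
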