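/-
Nonsingularity of a birational projective map of a function field over an algebraically closed
field: finiteness of the singular places and characterisations (helper70).
-/
import Mathlib
import Groth.Agent.Lib.FunFldConductor
import Groth.Agent.S11078

set_option autoImplicit false

namespace Groth.Agent.Lib.FunFldNonsing

open FunFld Groth.Agent.Lib.H40FunFld Groth.Agent.Lib.FunFldPencil Groth.Agent.Lib.FunFldEmbed
  Groth.Agent.Lib.FunFldLocRing Groth.Agent.Lib.FunFldConductor Groth.Agent.S11078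

variable {k K : Type*} [Field k] [Field K] [Algebra k K] {ι : Type*}

/-- with common residues of the coordinates, all elements of `Rg φ j` have common residues -/
theorem common_residue {φ : ι → K} {j : ι} {P Q : Place k K} (hcc : CommonConst φ j P Q)
    {r : K} (hr : r ∈ Rg k φ j) :
    ∃ a : k, P.1 (r - algebraMap k K a) < 1 ∧ Q.1 (r - algebraMap k K a) < 1 := by
  refine Algebra.adjoin_induction
    (p := fun r _ => ∃ a : k, P.1 (r - algebraMap k K a) < 1 ∧ Q.1 (r - algebraMap k K a) < 1)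
    ?_ ?_ ?_ ?_ hr
  · rintro _ ⟨i, rfl⟩
    exact hcc i
  · intro c
    exact ⟨c, by simp, by simp⟩
  · rintro x y _ _ ⟨c, h1, h2⟩ ⟨d, h3, h4⟩
    exact ⟨c + d, close_add P x y c d h1 h3, close_add Q x y c d h2 h4⟩
  · rintro x y _ _ ⟨c, h1, h2⟩ ⟨d, h3, h4⟩
    exact ⟨c * d, close_mul P x y c d h1 h3, close_mul Q x y c d h2 h4⟩

variable [Fintype ι] [Nonempty ι]

/-- for large `m` the linear system `|mD - B|` separates `P` -/
theorem exists_not_le (hK : IsFunctionField k K) {D : Divisor k K} (hD : 1 ≤ D.deg)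
    (B : Divisor k K) (P : Place k K) (m₀ : ℕ) :
    ∃ m, m₀ ≤ m ∧ ¬ L (m • D - B) ≤ L (m • D - B - Finsupp.single P 1) := by
  have hPdeg : (1 : ℤ) ≤ P.deg := by exact_mod_cast deg_pos hK P
  refine ⟨max m₀ (2 * FunFld.genus k K + B.deg.toNat + P.deg), le_max_left _ _, fun hle => ?_⟩
  set m := max m₀ (2 * FunFld.genus k K + B.deg.toNat + P.deg) with hm
  have hm1 : (2 * FunFld.genus k K + B.deg.toNat + P.deg : ℕ) ≤ m := le_max_right _ _
  have hm2 : (2 : ℤ) * FunFld.genus k K + B.deg + P.deg ≤ m := by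
    have := Int.self_le_toNat B.deg
    have : ((2 * FunFld.genus k K + B.deg.toNat + P.deg : ℕ) : ℤ) ≤ (m : ℤ) := by
      exact_mod_cast hm1
    push_cast at this
    linarith
  have hmul : (m : ℤ) ≤ m * D.deg := by nlinarith
  have h1 := ell_eq_of_deg_ge hK (m • D - B)
    (by rw [deg_sub, deg_nsmul]; linarith)
  have h2 := ell_eq_of_deg_ge hK (m • D - B - Finsupp.single P 1)
    (by rw [deg_sub, deg_sub, deg_nsmul, deg_single]; linarith)
  rw [deg_sub, deg_nsmul] at h1
  rw [deg_sub, deg_sub, deg_nsmul, deg_single] at h2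
  haveI := finiteDimensional_L hK (m • D - B - Finsupp.single P 1)
  have h3 : FunFld.ell (m • D - B) ≤ FunFld.ell (m • D - B - Finsupp.single P 1) :=
    Submodule.finrank_mono hle
  have h3' : (FunFld.ell (m • D - B) : ℤ) ≤ FunFld.ell (m • D - B - Finsupp.single P 1) := by
    exact_mod_cast h3
  linarith

/-- a function regular where `φ j` has least order, a unit at `P` and vanishing at `Q` -/
theorem exists_sep_function (hK : IsFunctionField k K) (φ : ι → K) (hφ : LinearIndependent k φ)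
    (hcard : 2 ≤ Fintype.card ι) (j : ι) {P Q : Place k K} (hPQ : P ≠ Q)
    (hP : Least φ j P) (hQ : Least φ j Q) :
    ∃ f : K, (∀ Q' : Place k K, Least φ j Q' → Q'.1 f ≤ 1) ∧ P.1 f = 1 ∧ Q.1 f < 1 := by
  classical
  have hne : ∀ i, φ i ≠ 0 := hφ.ne_zero
  have hdeg := one_le_deg_mapDiv hK φ hφ hcard
  obtain ⟨m, -, hnot⟩ := exists_not_le hK hdeg (Finsupp.single Q 1) P 0
  obtain ⟨s, hs, hs'⟩ := SetLike.not_le_iff_exists.mp hnot
  have hexpm : ∀ Q' : Place k K, Least φ j Q' →
      Q'.1 ((φ j) ^ m) = WithZero.exp ((m • mapDiv k φ) Q') := fun Q' hQ' => by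
    rw [map_pow, (least_iff hK φ hne j Q').1 hQ', Finsupp.smul_apply, WithZero.exp_nsmul]
  refine ⟨s / (φ j) ^ m, fun Q' hQ' => ?_, ?_, ?_⟩
  · rw [map_div₀, hexpm Q' hQ']
    refine div_le_one_of_le₀ ?_ zero_le
    refine ((mem_L_iff _ _).1 hs Q').trans (WithZero.exp_le_exp.2 ?_)
    rw [Finsupp.sub_apply]
    by_cases h : Q' = Q
    · subst h; rw [Finsupp.single_eq_same]; omega
    · rw [Finsupp.single_eq_of_ne h]; omega
  · rw [map_div₀, hexpm P hP, val_eq_of_mem_of_not_mem hs hs', Finsupp.sub_apply,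
      Finsupp.single_eq_of_ne hPQ, sub_zero]
    exact div_self WithZero.exp_ne_zero
  · rw [map_div₀, hexpm Q hQ]
    have h1 := (mem_L_iff _ _).1 hs Q
    rw [Finsupp.sub_apply, Finsupp.single_eq_same] at h1
    have h2 : WithZero.exp ((m • mapDiv k φ) Q - 1) < WithZero.exp ((m • mapDiv k φ) Q) := by
      rw [WithZero.exp_lt_exp]; omega
    exact (div_lt_one₀ WithZero.exp_pos).mpr (lt_of_le_of_lt h1 h2)

/-- **Nonsingularity criterion**: a place where the conductor element is a unit is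
nonsingular. -/
theorem isNonsingularAt_of_conductor_unit [IsAlgClosed k] (hK : IsFunctionField k K)
    (φ : ι → K) (hφ : LinearIndependent k φ) (hcard : 2 ≤ Fintype.card ι) (j : ι) {c : K}
    (hc : c ∈ Rg k φ j) (hc0 : c ≠ 0)
    (hcond : ∀ z : K, (∀ Q : Place k K, Least φ j Q → Q.1 z ≤ 1) → c * z ∈ Rg k φ j)
    {P : Place k K} (hP : Least φ j P) (hPc : P.1 c = 1) : IsNonsingularAt φ P := by
  have hne : ∀ i, φ i ≠ 0 := hφ.ne_zero
  intro z hz
  have hzc : ∀ Q : Place k K, Least φ j Q → CommonConst φ j P Q → Q.1 z ≤ Q.1 c := by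
    intro Q hQ hcc
    by_cases hPQ : P = Q
    · subst hPQ; rw [hPc]; exact hz
    · exfalso
      obtain ⟨f, hf, hPf, hQf⟩ := exists_sep_function hK φ hφ hcard j hPQ hP hQ
      have hcf := hcond f hf
      obtain ⟨a, ha1, ha2⟩ := common_residue hcc hcf
      have hQcf : Q.1 (c * f) < 1 := by
        rw [map_mul]
        calc Q.1 c * Q.1 f ≤ 1 * Q.1 f := mul_le_mul_left (val_le_one_of_mem_Rg hQ hc) _
          _ < 1 := by rwa [one_mul]
      have ha0 : a = 0 := (close_lt_one_iff Q _ a ha2).1 hQcf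
      have hPcf : P.1 (c * f) < 1 := (close_lt_one_iff P _ a ha1).2 ha0
      rw [map_mul, hPc, hPf, one_mul] at hPcf
      exact lt_irrefl _ hPcf
  obtain ⟨u, hu, w, hw, hPw, e⟩ := main_lemma hK φ j hc0 hcond hP z hzc
  exact ⟨j, hne j, hP, u, hu, w, hw, hPw, e⟩

omit [Fintype ι] [Nonempty ι] in
theorem finite_zeros' (hK : IsFunctionField k K) {c : K} (hc : c ≠ 0) :
    {P : Place k K | P.1 c < 1}.Finite := by
  refine (finite_support_ord hK c).subset ?_
  intro Q hQ
  rw [Function.mem_support]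
  intro h0
  have hQ' : Q.1 c < 1 := hQ
  rw [val_eq_exp_neg_ord Q hc, h0, neg_zero, WithZero.exp_zero] at hQ'
  exact lt_irrefl _ hQ'

/-- **Finiteness of the singular places** of a birational projective map. -/
theorem finite_singular [IsAlgClosed k] (hK : IsFunctionField k K) (φ : ι → K)
    (hφ : LinearIndependent k φ) (hcard : 2 ≤ Fintype.card ι) (j₀ : ι)
    (hbir : IntermediateField.adjoin k (Set.range fun i => φ i / φ j₀) = ⊤) :
    {P : Place k K | ¬ IsNonsingularAt φ P}.Finite := by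
  choose c hc hc0 hcond using fun j => exists_conductor hK φ hφ hcard j₀ hbir j
  refine (Set.finite_iUnion fun j => finite_zeros' hK (hc0 j)).subset ?_
  intro P hP
  obtain ⟨j, hj⟩ := exists_least φ P
  rw [Set.mem_iUnion]
  refine ⟨j, ?_⟩
  show P.1 (c j) < 1
  refine lt_of_le_of_ne (val_le_one_of_mem_Rg hj (hc j)) fun h1 => hP ?_
  exact isNonsingularAt_of_conductor_unit hK φ hφ hcard j (hc j) (hc0 j) (hcond j) hj h1

end Groth.Agent.Lib.FunFldNonsing
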