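/-
Characterisation of nonsingular places of a birational projective map by unibranchness and a
local parameter (helper70).
-/
import Mathlib
import Groth.Agent.Lib.FunFldNonsing
import Groth.Agent.Lib.H40FunFldApprox
import Groth.Agent.S12532

set_option autoImplicit false

namespace Groth.Agent.Lib.FunFldNonsing2

open FunFld Groth.Agent.Lib.H40FunFld Groth.Agent.Lib.FunFldPencil Groth.Agent.Lib.FunFldEmbed
  Groth.Agent.Lib.FunFldLocRing Groth.Agent.Lib.FunFldConductor Groth.Agent.Lib.FunFldNonsing

variable {k K : Type*} [Field k] [Field K] [Algebra k K]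

/-- distinct places have incomparable valuation rings -/
theorem exists_val_le_one_lt {P Q : Place k K} (hQP : Q ≠ P) :
    ∃ z : K, P.1 z ≤ 1 ∧ 1 < Q.1 z := by
  classical
  obtain ⟨w, hw1, hw2⟩ := exists_approx_one_zero ({Q} : Finset (Place k K)) P
    (by simpa using hQP.symm) 1
  have hlt : WithZero.exp (-((1 : ℕ) : ℤ)) < (1 : WithZero (Multiplicative ℤ)) := by
    rw [← WithZero.exp_zero, WithZero.exp_lt_exp]; norm_num
  have hPw : P.1 w = 1 := by
    have h1 : P.1 (w - 1) < 1 := lt_of_le_of_lt hw1 hlt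
    have h2 := P.1.map_one_add_of_lt h1
    rwa [add_sub_cancel] at h2
  have hQw : Q.1 w < 1 := lt_of_le_of_lt (hw2 Q (Finset.mem_singleton_self Q)) hlt
  have hw0 : w ≠ 0 := by
    intro h; rw [h, map_zero] at hPw; exact zero_ne_one hPw
  refine ⟨w⁻¹, by rw [map_inv₀, hPw, inv_one], ?_⟩
  rw [map_inv₀]
  have hQw0 : Q.1 w ≠ 0 := by simpa using hw0
  exact (one_lt_inv₀ (zero_lt_iff.mpr hQw0)).mpr hQw

variable [IsAlgClosed k]

/-- a unibranch point with a local parameter in the local ring is nonsingular -/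
theorem isNonsingularAt_of_unique_of_uniformizer (hK : IsFunctionField k K) {n : ℕ} (hn : 1 ≤ n)
    (φ : Fin (n + 1) → K) (hφ : LinearIndependent k φ)
    (hbir : IntermediateField.adjoin k (Set.range fun i => φ i / φ 0) = ⊤) (P : Place k K)
    (h1 : ∀ Q : Place k K, (∀ z : K, InLocRing φ P z → Q.1 z ≤ 1) → Q = P)
    {t : K} (ht : InLocRing φ P t) (hPt : P.1 t = WithZero.exp (-1 : ℤ)) :
    IsNonsingularAt φ P := by
  have hne : ∀ i, φ i ≠ 0 := hφ.ne_zero
  obtain ⟨j, hj⟩ := exists_least φ P
  obtain ⟨N, hN⟩ := Groth.Agent.S12532.result k K hK hn φ hφ hbir P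
  have hN' : ∀ z : K, P.1 z ≤ WithZero.exp (-(N : ℤ)) → InLocRing φ P z := by
    intro z hz
    apply hN z
    intro Q hQ
    have hQP : Q = P := h1 Q fun z hz =>
      ((Groth.Agent.S11078.result k K hK hn φ hφ P Q).1 hQ z hz).1
    rw [hQP]; exact hz
  have ht0 : t ≠ 0 := by
    intro h; rw [h, map_zero] at hPt; exact WithZero.exp_ne_zero hPt.symm
  have key : ∀ d : ℕ, d ≤ N → ∀ z : K, P.1 z ≤ WithZero.exp (-((N - d : ℕ) : ℤ)) →
      InLocRing φ P z := by
    intro d
    induction d with
    | zero => intro _ z hz; exact hN' z (by simpa using hz)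
    | succ d ih =>
      intro hd z hz
      set e := N - (d + 1) with he
      have hte : P.1 (t ^ e) = WithZero.exp (-(e : ℤ)) := by
        rw [map_pow, hPt, ← WithZero.exp_nsmul]; congr 1; simp
      have hzt : P.1 (z / t ^ e) ≤ 1 := by
        rw [map_div₀, hte]
        exact div_le_one_of_le₀ hz zero_le
      obtain ⟨a, ha⟩ := exists_const hK P _ hzt
      have hsub : P.1 (z - algebraMap k K a * t ^ e) ≤ WithZero.exp (-((N - d : ℕ) : ℤ)) := by
        have e1 : z - algebraMap k K a * t ^ e = (z / t ^ e - algebraMap k K a) * t ^ e := by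
          field_simp
        rw [e1, map_mul, hte]
        have h2 : P.1 (z / t ^ e - algebraMap k K a) ≤ WithZero.exp (-1 : ℤ) :=
          (lt_one_iff_le_exp _).1 ha
        calc P.1 (z / t ^ e - algebraMap k K a) * WithZero.exp (-(e : ℤ))
            ≤ WithZero.exp (-1 : ℤ) * WithZero.exp (-(e : ℤ)) := mul_le_mul_left h2 _
          _ = WithZero.exp (-((N - d : ℕ) : ℤ)) := by
              rw [← WithZero.exp_add]; congr 1
              have : N - d = e + 1 := by omega
              rw [this]; push_cast; ring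
      have h3 := ih (by omega) _ hsub
      have h4 : InLocRing φ P (algebraMap k K a * t ^ e) :=
        inLocRing_mul (inLocRing_algebraMap (hne j) hj a) (inLocRing_pow (hne j) hj ht e)
      have h5 := inLocRing_add h3 h4
      rwa [sub_add_cancel] at h5
  intro z hz
  exact key N le_rfl z (by simpa using hz)

end Groth.Agent.Lib.FunFldNonsing2
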