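/-
Nonsingularity of a birational projective map at a place in terms of codimension two conditions
(helper70).
-/
import Mathlib
import Groth.Agent.Lib.FunFldNonsing2
import Groth.Agent.Lib.FunFldE97

set_option autoImplicit false

namespace Groth.Agent.Lib.FunFldNonsing3

open FunFld Groth.Agent.Lib.H40FunFld Groth.Agent.Lib.FunFldPencil Groth.Agent.Lib.FunFldEmbed
  Groth.Agent.Lib.FunFldLocRing Groth.Agent.Lib.FunFldConductor Groth.Agent.Lib.FunFldNonsing
  Groth.Agent.Lib.FunFldNonsing2 Groth.Agent.S11078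

variable {k K : Type*} [Field k] [Field K] [Algebra k K] {ι : Type*} [Fintype ι] [Nonempty ι]

section Dim

variable [IsAlgClosed k]

omit [Fintype ι] [Nonempty ι] in
theorem ell_le_ell_sub_single_add_one (hK : IsFunctionField k K) (E : Divisor k K)
    (Q : Place k K) : FunFld.ell E ≤ FunFld.ell (E - Finsupp.single Q 1) + 1 := by
  classical
  have hle : E - Finsupp.single Q 1 ≤ E := by
    intro Q'
    rw [Finsupp.sub_apply]
    by_cases h : Q' = Q
    · subst h; rw [Finsupp.single_eq_same]; omega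
    · rw [Finsupp.single_eq_of_ne h]; omega
  have h1 := ell_sub_ell_le hK hle
  rw [deg_sub, deg_single, deg_eq_one_of_isAlgClosed hK Q] at h1
  have h2 : (FunFld.ell E : ℤ) ≤ FunFld.ell (E - Finsupp.single Q 1) + 1 := by
    push_cast at h1 ⊢; linarith
  exact_mod_cast h2

omit [Fintype ι] [Nonempty ι] in
theorem finrank_L_le (hK : IsFunctionField k K) (E : Divisor k K) (Q : Place k K) :
    Module.finrank k ↥(L E) ≤ Module.finrank k ↥(L (E - Finsupp.single Q 1)) + 1 :=
  ell_le_ell_sub_single_add_one hK E Q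

omit [Fintype ι] [Nonempty ι] in
/-- the codimension two condition is equivalent to the existence of a separating section -/
theorem codim_two_iff_aux (hK : IsFunctionField k K) (W : Submodule k K) (D : Divisor k K)
    (hWD : W ≤ L D) (P Q : Place k K) (hP : ∃ s ∈ W, s ∉ L (D - Finsupp.single P 1)) :
    Module.finrank k ↥(W ⊓ L (D - Finsupp.single P 1 - Finsupp.single Q 1)) + 2 =
      Module.finrank k ↥W ↔
    ∃ s ∈ W, s ∈ L (D - Finsupp.single P 1) ∧
      s ∉ L (D - Finsupp.single P 1 - Finsupp.single Q 1) := by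
  classical
  haveI := finiteDimensional_L hK D
  haveI := finiteDimensional_L hK (D - Finsupp.single P 1)
  haveI : FiniteDimensional k W := Submodule.finiteDimensional_of_le hWD
  have hle1 : L (D - Finsupp.single P 1) ≤ L D := L_sub_single_le D P
  have hle2 : L (D - Finsupp.single P 1 - Finsupp.single Q 1) ≤ L (D - Finsupp.single P 1) :=
    L_sub_single_le _ Q
  -- step 1
  have h1 : Module.finrank k W ≤ Module.finrank k ↥(W ⊓ L (D - Finsupp.single P 1)) + 1 :=
    Groth.Agent.Lib.FunFldE97.finrank_le_finrank_inf_add_one (L D) (L (D - Finsupp.single P 1)) W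
      hle1 hWD (finrank_L_le hK D P)
  obtain ⟨s₀, hs₀, hs₀'⟩ := hP
  have hlt1 : W ⊓ L (D - Finsupp.single P 1) < W := by
    refine lt_of_le_of_ne inf_le_left fun heq => hs₀' ?_
    have hmem : s₀ ∈ W ⊓ L (D - Finsupp.single P 1) := by
      rw [heq]; exact hs₀
    exact hmem.2
  have h1' := Submodule.finrank_lt_finrank_of_lt hlt1
  -- step 2
  have hW' : W ⊓ L (D - Finsupp.single P 1) ≤ L (D - Finsupp.single P 1) := inf_le_right
  have h2 : Module.finrank k ↥(W ⊓ L (D - Finsupp.single P 1)) ≤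
      Module.finrank k ↥(W ⊓ L (D - Finsupp.single P 1) ⊓
        L (D - Finsupp.single P 1 - Finsupp.single Q 1)) + 1 :=
    Groth.Agent.Lib.FunFldE97.finrank_le_finrank_inf_add_one (L (D - Finsupp.single P 1))
      (L (D - Finsupp.single P 1 - Finsupp.single Q 1)) (W ⊓ L (D - Finsupp.single P 1))
      hle2 hW' (finrank_L_le hK _ Q)
  have heq2 : W ⊓ L (D - Finsupp.single P 1) ⊓ L (D - Finsupp.single P 1 - Finsupp.single Q 1) =
      W ⊓ L (D - Finsupp.single P 1 - Finsupp.single Q 1) := by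
    rw [inf_assoc, inf_eq_right.mpr hle2]
  rw [heq2] at h2
  have hle3 : W ⊓ L (D - Finsupp.single P 1 - Finsupp.single Q 1) ≤
      W ⊓ L (D - Finsupp.single P 1) := inf_le_inf_left W hle2
  haveI : FiniteDimensional k ↥(W ⊓ L (D - Finsupp.single P 1)) :=
    Submodule.finiteDimensional_of_le inf_le_left
  have h3 := Submodule.finrank_mono hle3
  constructor
  · intro h
    have hne' : W ⊓ L (D - Finsupp.single P 1 - Finsupp.single Q 1) ≠
        W ⊓ L (D - Finsupp.single P 1) := by
      intro heq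
      rw [heq] at h
      omega
    obtain ⟨s, hs, hs'⟩ := SetLike.exists_of_lt (lt_of_le_of_ne hle3 hne')
    exact ⟨s, hs.1, hs.2, fun hc => hs' ⟨hs.1, hc⟩⟩
  · rintro ⟨s, hsW, hs1, hs2⟩
    have hlt : W ⊓ L (D - Finsupp.single P 1 - Finsupp.single Q 1) <
        W ⊓ L (D - Finsupp.single P 1) := by
      refine lt_of_le_of_ne hle3 fun heq => hs2 ?_
      have : s ∈ W ⊓ L (D - Finsupp.single P 1 - Finsupp.single Q 1) := by
        rw [heq]; exact ⟨hsW, hs1⟩
      exact this.2
    have h4 := Submodule.finrank_lt_finrank_of_lt hlt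
    omega

/-- the codimension two condition is equivalent to the existence of a separating section -/
theorem codim_two_iff (hK : IsFunctionField k K) (φ : ι → K) (hne : ∀ i, φ i ≠ 0)
    (P Q : Place k K) :
    Module.finrank k ↥(Submodule.span k (Set.range φ) ⊓
        L (mapDiv k φ - Finsupp.single P 1 - Finsupp.single Q 1)) + 2 =
      Module.finrank k ↥(Submodule.span k (Set.range φ)) ↔
    ∃ s ∈ Submodule.span k (Set.range φ), s ∈ L (mapDiv k φ - Finsupp.single P 1) ∧
      s ∉ L (mapDiv k φ - Finsupp.single P 1 - Finsupp.single Q 1) := by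
  classical
  refine codim_two_iff_aux hK _ _ (span_le_L_mapDiv hK φ) P Q ?_
  obtain ⟨j, hj⟩ := exists_val_eq_exp_mapDiv hK φ hne P
  refine ⟨φ j, Submodule.subset_span ⟨j, rfl⟩, fun hmem => ?_⟩
  have h2 := (mem_L_iff _ _).1 hmem P
  rw [hj, Finsupp.sub_apply, Finsupp.single_eq_same, WithZero.exp_le_exp] at h2
  omega

end Dim

section Geom

variable [IsAlgClosed k]

/-- separating sections imply nonsingularity -/
theorem isNonsingularAt_of_sep (hK : IsFunctionField k K) {n : ℕ} (hn : 1 ≤ n)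
    (φ : Fin (n + 1) → K) (hφ : LinearIndependent k φ)
    (hbir : IntermediateField.adjoin k (Set.range fun i => φ i / φ 0) = ⊤) (P : Place k K)
    (hsep : ∀ Q : Place k K, ∃ s ∈ Submodule.span k (Set.range φ),
      s ∈ L (mapDiv k φ - Finsupp.single P 1) ∧
        s ∉ L (mapDiv k φ - Finsupp.single P 1 - Finsupp.single Q 1)) :
    IsNonsingularAt φ P := by
  classical
  have hne : ∀ i, φ i ≠ 0 := hφ.ne_zero
  obtain ⟨j, hj⟩ := exists_least φ P
  have hPj := (least_iff hK φ hne j P).1 hj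
  -- the local parameter
  obtain ⟨s, hsW, hs1, hs2⟩ := hsep P
  have hPs := val_eq_of_mem_of_not_mem hs1 hs2
  rw [Finsupp.sub_apply, Finsupp.single_eq_same] at hPs
  have ht : InLocRing φ P (s / φ j) :=
    inLocRing_of_mem_Rg (hne j) hj (div_mem_Rg_of_mem_span φ j hsW)
  have hPt : P.1 (s / φ j) = WithZero.exp (-1 : ℤ) := by
    rw [map_div₀, hPs, hPj, ← WithZero.exp_sub]; congr 1; ring
  refine isNonsingularAt_of_unique_of_uniformizer hK hn φ hφ hbir P ?_ ht hPt
  intro Q hQ
  by_contra hQP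
  by_cases hQl : Least φ j Q
  · obtain ⟨s, hsW, hs1, hs2⟩ := hsep Q
    have hQs := val_eq_of_mem_of_not_mem hs1 hs2
    rw [Finsupp.sub_apply, Finsupp.single_eq_of_ne hQP, sub_zero] at hQs
    have hQj := (least_iff hK φ hne j Q).1 hQl
    have huR : s / φ j ∈ Rg k φ j := div_mem_Rg_of_mem_span φ j hsW
    have hQu : Q.1 (s / φ j) = 1 := by
      rw [map_div₀, hQs, hQj]; exact div_self WithZero.exp_ne_zero
    have hPu : P.1 (s / φ j) < 1 := by
      rw [map_div₀, hPj]
      have h1 := (mem_L_iff _ _).1 hs1 P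
      rw [Finsupp.sub_apply, Finsupp.single_eq_same] at h1
      have h2 : WithZero.exp (mapDiv k φ P - 1) < WithZero.exp (mapDiv k φ P) := by
        rw [WithZero.exp_lt_exp]; omega
      exact (div_lt_one₀ WithZero.exp_pos).mpr (lt_of_le_of_lt h1 h2)
    obtain ⟨b, hb⟩ := Groth.Agent.Lib.FunFldEmbed.exists_const hK Q (s / φ j) hQu.le
    have hb0 : b ≠ 0 := by
      intro h0
      have := (close_lt_one_iff Q (s / φ j) b hb).2 h0
      rw [hQu] at this; exact lt_irrefl _ this
    have hwR : s / φ j - algebraMap k K b ∈ Rg k φ j :=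
      Subalgebra.sub_mem _ huR (Subalgebra.algebraMap_mem _ b)
    have hPw : P.1 (s / φ j - algebraMap k K b) = 1 := by
      have h1 : P.1 ((algebraMap k K b - s / φ j) - algebraMap k K b) < 1 := by
        rw [sub_sub_cancel_left, Valuation.map_neg]; exact hPu
      have h2 := close_val_eq_one P _ b hb0 h1
      rwa [Valuation.map_sub_swap] at h2
    have hw0 : s / φ j - algebraMap k K b ≠ 0 := by
      intro h; rw [h, map_zero] at hPw; exact zero_ne_one hPw
    have hz : InLocRing φ P (s / φ j - algebraMap k K b)⁻¹ :=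
      ⟨j, hne j, hj, 1, Subalgebra.one_mem _, _, hwR, hPw, inv_mul_cancel₀ hw0⟩
    have h3 := hQ _ hz
    rw [map_inv₀] at h3
    have hQw0 : Q.1 (s / φ j - algebraMap k K b) ≠ 0 := by simpa using hw0
    exact absurd h3 (not_le.mpr ((one_lt_inv₀ (zero_lt_iff.mpr hQw0)).mpr hb))
  · unfold Least at hQl
    push Not at hQl
    obtain ⟨i, hi⟩ := hQl
    have h3 := hQ _ (inLocRing_of_mem_Rg (hne j) hj (ratio_mem_Rg φ j i))
    rw [map_div₀] at h3
    have hQj0 : Q.1 (φ j) ≠ 0 := by simpa using hne j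
    rw [div_le_one₀ (zero_lt_iff.mpr hQj0)] at h3
    exact absurd h3 (not_le.mpr hi)

omit [Fintype ι] [Nonempty ι] in
theorem exp_neg_two_lt : WithZero.exp (-2 : ℤ) < (WithZero.exp (-1 : ℤ) : WithZero (Multiplicative ℤ)) := by
  rw [WithZero.exp_lt_exp]; norm_num

/-- modulo the square of the maximal ideal at `P`, every element of `Rg φ j` is a ratio
`s / φ j` with `s` in the span of `φ` -/
theorem exists_span_approx (hK : IsFunctionField k K) (φ : ι → K) (j : ι) (hj0 : φ j ≠ 0)
    {P : Place k K} (hj : Least φ j P) {r : K} (hr : r ∈ Rg k φ j) :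
    ∃ s ∈ Submodule.span k (Set.range φ), P.1 (r - s / φ j) ≤ WithZero.exp (-2 : ℤ) := by
  refine Algebra.adjoin_induction
    (p := fun r _ => ∃ s ∈ Submodule.span k (Set.range φ),
      P.1 (r - s / φ j) ≤ WithZero.exp (-2 : ℤ)) ?_ ?_ ?_ ?_ hr
  · rintro _ ⟨i, rfl⟩
    exact ⟨φ i, Submodule.subset_span ⟨i, rfl⟩, by simp⟩
  · intro c
    refine ⟨c • φ j, Submodule.smul_mem _ _ (Submodule.subset_span ⟨j, rfl⟩), ?_⟩
    rw [Algebra.smul_def, mul_div_assoc, div_self hj0, mul_one, sub_self, map_zero]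
    exact zero_le
  · rintro x y _ _ ⟨s₁, hs₁, h₁⟩ ⟨s₂, hs₂, h₂⟩
    refine ⟨s₁ + s₂, Submodule.add_mem _ hs₁ hs₂, ?_⟩
    have e : x + y - (s₁ + s₂) / φ j = (x - s₁ / φ j) + (y - s₂ / φ j) := by
      rw [add_div]; ring
    rw [e]
    exact (P.1.map_add _ _).trans (max_le h₁ h₂)
  · rintro x y hx hy ⟨s₁, hs₁, h₁⟩ ⟨s₂, hs₂, h₂⟩
    have hv₁R := div_mem_Rg_of_mem_span φ j hs₁
    have hv₂R := div_mem_Rg_of_mem_span φ j hs₂
    have hv₁ : P.1 (s₁ / φ j) ≤ 1 := val_le_one_of_mem_Rg hj hv₁R
    have hv₂ : P.1 (s₂ / φ j) ≤ 1 := val_le_one_of_mem_Rg hj hv₂R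
    have hy1 : P.1 y ≤ 1 := val_le_one_of_mem_Rg hj hy
    obtain ⟨c₁, hc₁⟩ := Groth.Agent.Lib.FunFldEmbed.exists_const hK P _ hv₁
    obtain ⟨c₂, hc₂⟩ := Groth.Agent.Lib.FunFldEmbed.exists_const hK P _ hv₂
    refine ⟨c₁ • s₂ + c₂ • s₁ - (c₁ * c₂) • φ j,
      Submodule.sub_mem _ (Submodule.add_mem _ (Submodule.smul_mem _ _ hs₂)
        (Submodule.smul_mem _ _ hs₁)) (Submodule.smul_mem _ _ (Submodule.subset_span ⟨j, rfl⟩)), ?_⟩
    have e : x * y - (c₁ • s₂ + c₂ • s₁ - (c₁ * c₂) • φ j) / φ j =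
        ((x - s₁ / φ j) * y + s₁ / φ j * (y - s₂ / φ j)) +
          (s₁ / φ j - algebraMap k K c₁) * (s₂ / φ j - algebraMap k K c₂) := by
      rw [Algebra.smul_def, Algebra.smul_def, Algebra.smul_def, map_mul]
      field_simp
      ring
    rw [e]
    refine (P.1.map_add _ _).trans (max_le ((P.1.map_add _ _).trans (max_le ?_ ?_)) ?_)
    · rw [map_mul]
      calc P.1 (x - s₁ / φ j) * P.1 y ≤ WithZero.exp (-2 : ℤ) * 1 := mul_le_mul' h₁ hy1
        _ = _ := mul_one _
    · rw [map_mul]
      calc P.1 (s₁ / φ j) * P.1 (y - s₂ / φ j) ≤ 1 * WithZero.exp (-2 : ℤ) := mul_le_mul' hv₁ h₂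
        _ = _ := one_mul _
    · rw [map_mul]
      calc P.1 (s₁ / φ j - algebraMap k K c₁) * P.1 (s₂ / φ j - algebraMap k K c₂)
          ≤ WithZero.exp (-1 : ℤ) * WithZero.exp (-1 : ℤ) :=
            mul_le_mul' ((lt_one_iff_le_exp _).1 hc₁) ((lt_one_iff_le_exp _).1 hc₂)
        _ = WithZero.exp (-2 : ℤ) := by rw [← WithZero.exp_add]; norm_num

/-- nonsingularity implies the existence of separating sections -/
theorem exists_sep_of_isNonsingularAt (hK : IsFunctionField k K) (φ : ι → K)
    (hne : ∀ i, φ i ≠ 0) (P : Place k K) (hns : IsNonsingularAt φ P) (Q : Place k K) :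
    ∃ s ∈ Submodule.span k (Set.range φ), s ∈ L (mapDiv k φ - Finsupp.single P 1) ∧
      s ∉ L (mapDiv k φ - Finsupp.single P 1 - Finsupp.single Q 1) := by
  classical
  obtain ⟨j, hj⟩ := exists_least φ P
  have hPj := (least_iff hK φ hne j P).1 hj
  have hWD := span_le_L_mapDiv hK φ
  -- membership in `L (D - P)` from vanishing of the ratio
  have hmemP : ∀ s ∈ Submodule.span k (Set.range φ), P.1 (s / φ j) < 1 →
      s ∈ L (mapDiv k φ - Finsupp.single P 1) := by
    intro s hs hlt
    apply mem_L_sub_single (hWD hs)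
    rw [map_div₀, hPj, div_lt_one₀ WithZero.exp_pos] at hlt
    exact hlt
  by_cases hQP : Q = P
  · subst hQP
    obtain ⟨π, hπ⟩ := exists_uniformizer Q
    have hπ1 : Q.1 π ≤ 1 := by
      rw [hπ, ← WithZero.exp_zero, WithZero.exp_le_exp]; norm_num
    obtain ⟨u, hu, w, hw, hPw, e⟩ := inLocRing_index (hns π hπ1) j (hne j) hj
    have hPu : Q.1 u = WithZero.exp (-1 : ℤ) := by rw [← e, map_mul, hPw, mul_one, hπ]
    obtain ⟨s, hs, happ⟩ := exists_span_approx hK φ j (hne j) hj hu
    have hPv : Q.1 (s / φ j) = WithZero.exp (-1 : ℤ) := by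
      have e1 : s / φ j = u - (u - s / φ j) := by ring
      rw [e1, Valuation.map_sub_eq_of_lt_left _ (by rw [hPu]; exact lt_of_le_of_lt happ exp_neg_two_lt),
        hPu]
    have hPs : Q.1 s = WithZero.exp (mapDiv k φ Q - 1) := by
      have e2 : s = s / φ j * φ j := by field_simp [hne j]
      rw [e2, map_mul, hPv, hPj, ← WithZero.exp_add]; congr 1; ring
    refine ⟨s, hs, hmemP s hs (by rw [hPv, ← WithZero.exp_zero, WithZero.exp_lt_exp]; norm_num), ?_⟩
    intro hmem
    have h1 := (mem_L_iff _ _).1 hmem Q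
    rw [hPs, Finsupp.sub_apply, Finsupp.sub_apply, Finsupp.single_eq_same,
      WithZero.exp_le_exp] at h1
    omega
  · have hnotmem : ∀ s : K, Q.1 s = WithZero.exp (mapDiv k φ Q) →
        s ∉ L (mapDiv k φ - Finsupp.single P 1 - Finsupp.single Q 1) := by
      intro s hQs hmem
      have h1 := (mem_L_iff _ _).1 hmem Q
      rw [hQs, Finsupp.sub_apply, Finsupp.sub_apply, Finsupp.single_eq_same,
        Finsupp.single_eq_of_ne hQP, WithZero.exp_le_exp] at h1
      omega
    by_cases hQl : Least φ j Q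
    · have hQj := (least_iff hK φ hne j Q).1 hQl
      obtain ⟨z, hz1, hz2⟩ := exists_val_le_one_lt (P := P) hQP
      obtain ⟨u, hu, w, hw, hPw, e⟩ := inLocRing_index (hns z hz1) j (hne j) hj
      have hQw : Q.1 w < 1 := by
        refine lt_of_le_of_ne (val_le_one_of_mem_Rg hQl hw) fun h1 => ?_
        have h2 : Q.1 z = Q.1 u := by rw [← e, map_mul, h1, mul_one]
        rw [h2] at hz2
        exact absurd (val_le_one_of_mem_Rg hQl hu) (not_le.mpr hz2)
      have hncc : ¬ CommonConst φ j P Q := by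
        intro hcc
        obtain ⟨a, ha1, ha2⟩ := common_residue hcc hw
        have ha0 : a = 0 := (close_lt_one_iff Q w a ha2).1 hQw
        have := (close_lt_one_iff P w a ha1).2 ha0
        rw [hPw] at this
        exact lt_irrefl _ this
      unfold CommonConst at hncc
      push Not at hncc
      obtain ⟨i, hi⟩ := hncc
      obtain ⟨a, ha⟩ := Groth.Agent.Lib.FunFldEmbed.exists_const hK P (φ i / φ j) (val_ratio_le_one hj i)
      have hsW : φ i - a • φ j ∈ Submodule.span k (Set.range φ) :=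
        Submodule.sub_mem _ (Submodule.subset_span ⟨i, rfl⟩)
          (Submodule.smul_mem _ _ (Submodule.subset_span ⟨j, rfl⟩))
      have hratio : (φ i - a • φ j) / φ j = φ i / φ j - algebraMap k K a := by
        rw [Algebra.smul_def, sub_div, mul_div_assoc, div_self (hne j), mul_one]
      refine ⟨φ i - a • φ j, hsW, hmemP _ hsW (by rw [hratio]; exact ha), ?_⟩
      apply hnotmem
      have hQr : Q.1 (φ i / φ j - algebraMap k K a) = 1 := by
        apply le_antisymm
        · exact val_le_one_of_mem_Rg hQl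
            (Subalgebra.sub_mem _ (ratio_mem_Rg φ j i) (Subalgebra.algebraMap_mem _ a))
        · exact hi a ha
      have e2 : φ i - a • φ j = (φ i / φ j - algebraMap k K a) * φ j := by
        rw [← hratio]; field_simp [hne j]
      rw [e2, map_mul, hQr, one_mul, hQj]
    · obtain ⟨j', hj'⟩ := exists_least φ Q
      have hQj' := (least_iff hK φ hne j' Q).1 hj'
      have hlt : Q.1 (φ j) < Q.1 (φ j') := by
        refine lt_of_le_of_ne (hj' j) fun heq => hQl ?_
        intro i
        rw [heq]; exact hj' i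
      obtain ⟨a, ha⟩ := Groth.Agent.Lib.FunFldEmbed.exists_const hK P (φ j' / φ j) (val_ratio_le_one hj j')
      have hsW : φ j' - a • φ j ∈ Submodule.span k (Set.range φ) :=
        Submodule.sub_mem _ (Submodule.subset_span ⟨j', rfl⟩)
          (Submodule.smul_mem _ _ (Submodule.subset_span ⟨j, rfl⟩))
      have hratio : (φ j' - a • φ j) / φ j = φ j' / φ j - algebraMap k K a := by
        rw [Algebra.smul_def, sub_div, mul_div_assoc, div_self (hne j), mul_one]
      refine ⟨φ j' - a • φ j, hsW, hmemP _ hsW (by rw [hratio]; exact ha), ?_⟩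
      apply hnotmem
      have h1 : Q.1 (a • φ j) < Q.1 (φ j') := by
        rw [Algebra.smul_def, map_mul]
        calc Q.1 (algebraMap k K a) * Q.1 (φ j) ≤ 1 * Q.1 (φ j) := mul_le_mul_left (Q.2.1 a) _
          _ = Q.1 (φ j) := one_mul _
          _ < _ := hlt
      rw [Valuation.map_sub_eq_of_lt_left _ h1, hQj']

end Geom

end Groth.Agent.Lib.FunFldNonsing3
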