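/-
Nonsingularity of a birational projective map at a place in terms of hyperplane intersection
multiplicities (helper70).
-/
import Mathlib
import Groth.Agent.Lib.FunFldNonsing3

set_option autoImplicit false

namespace Groth.Agent.Lib.FunFldNonsing4

open FunFld Groth.Agent.Lib.H40FunFld Groth.Agent.Lib.FunFldPencil
  Groth.Agent.Lib.FunFldLocRing Groth.Agent.Lib.FunFldConductor Groth.Agent.Lib.FunFldNonsing
  Groth.Agent.Lib.FunFldNonsing2 Groth.Agent.Lib.FunFldNonsing3 Groth.Agent.S11078

variable {k K : Type*} [Field k] [Field K] [Algebra k K] [IsAlgClosed k]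

/-- a point with a single place above it and a local parameter in the local ring is
nonsingular -/
theorem isNonsingularAt_of_fiber_of_uniformizer (hK : IsFunctionField k K) {n : ℕ} (hn : 1 ≤ n)
    (φ : Fin (n + 1) → K) (hφ : LinearIndependent k φ)
    (hbir : IntermediateField.adjoin k (Set.range fun i => φ i / φ 0) = ⊤) (P : Place k K)
    (h1 : ∀ Q : Place k K, SameImage φ P Q → Q = P)
    {t : K} (ht : InLocRing φ P t) (hPt : P.1 t = WithZero.exp (-1 : ℤ)) :
    IsNonsingularAt φ P := by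
  have hne : ∀ i, φ i ≠ 0 := hφ.ne_zero
  obtain ⟨j, hj⟩ := exists_least φ P
  obtain ⟨N, hN⟩ := Groth.Agent.S12532.result k K hK hn φ hφ hbir P
  have hN' : ∀ z : K, P.1 z ≤ WithZero.exp (-(N : ℤ)) → InLocRing φ P z := by
    intro z hz
    apply hN z
    intro Q hQ
    rw [h1 Q hQ]; exact hz
  have key : ∀ d : ℕ, d ≤ N → ∀ z : K, P.1 z ≤ WithZero.exp (-((N - d : ℕ) : ℤ)) →
      InLocRing φ P z := by
    intro d
    induction d with
    | zero => intro _ z hz; exact hN' z (by simpa using hz)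
    | succ d ih =>
      intro hd z hz
      set e := N - (d + 1) with he
      have hte : P.1 (t ^ e) = WithZero.exp (-(e : ℤ)) := by
        rw [map_pow, hPt, ← WithZero.exp_nsmul]; congr 1; simp
      have ht0 : t ≠ 0 := by
        intro h; rw [h, map_zero] at hPt; exact WithZero.exp_ne_zero hPt.symm
      have hzt : P.1 (z / t ^ e) ≤ 1 := by
        rw [map_div₀, hte]
        exact div_le_one_of_le₀ hz zero_le
      obtain ⟨a, ha⟩ := Groth.Agent.Lib.FunFldEmbed.exists_const hK P _ hzt
      have hsub : P.1 (z - algebraMap k K a * t ^ e) ≤ WithZero.exp (-((N - d : ℕ) : ℤ)) := by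
        have e1 : z - algebraMap k K a * t ^ e = (z / t ^ e - algebraMap k K a) * t ^ e := by
          field_simp
        rw [e1, map_mul, hte]
        have h2 : P.1 (z / t ^ e - algebraMap k K a) ≤ WithZero.exp (-1 : ℤ) :=
          (lt_one_iff_le_exp _).1 ha
        calc P.1 (z / t ^ e - algebraMap k K a) * WithZero.exp (-(e : ℤ))
            ≤ WithZero.exp (-1 : ℤ) * WithZero.exp (-(e : ℤ)) := mul_le_mul_left h2 _
          _ = WithZero.exp (-((N - d : ℕ) : ℤ)) := by
              rw [← WithZero.exp_add]; congr 1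
              have : N - d = e + 1 := by omega
              rw [this]; push_cast; ring
      have h3 := ih (by omega) _ hsub
      have h4 : InLocRing φ P (algebraMap k K a * t ^ e) :=
        inLocRing_mul (inLocRing_algebraMap (hne j) hj a) (inLocRing_pow (hne j) hj ht e)
      have h5 := inLocRing_add h3 h4
      rwa [sub_add_cancel] at h5
  intro z hz
  exact key N le_rfl z (by simpa using hz)

variable {ι : Type*} [Fintype ι] [Nonempty ι]

omit [Fintype ι] [Nonempty ι] in
theorem sameImage_self (hK : IsFunctionField k K) (φ : ι → K) {j : ι} (hj0 : φ j ≠ 0)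
    {P : Place k K} (hj : Least φ j P) : SameImage φ P P := by
  refine ⟨j, hj0, hj, hj, fun i => ?_⟩
  obtain ⟨c, hc⟩ := Groth.Agent.Lib.FunFldEmbed.exists_const hK P (φ i / φ j)
    (val_ratio_le_one hj i)
  exact ⟨c, hc, hc⟩

/-- the local intersection number of the hyperplane `s` at `Q` -/
theorem val_ratio_eq (hK : IsFunctionField k K) (φ : ι → K) (hne : ∀ i, φ i ≠ 0) {s : K}
    (hs0 : s ≠ 0) {j : ι} {Q : Place k K} (hj : Least φ j Q) :
    Q.1 (s / φ j) = WithZero.exp (-(mapDiv k φ Q + Q.ord s)) := by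
  rw [map_div₀, (least_iff hK φ hne j Q).1 hj, val_eq_exp_neg_ord Q hs0, ← WithZero.exp_sub]
  congr 1; ring

theorem term_nonneg (hK : IsFunctionField k K) (φ : ι → K) {s : K}
    (hs : s ∈ Submodule.span k (Set.range φ)) (hs0 : s ≠ 0) (Q : Place k K) :
    0 ≤ mapDiv k φ Q + Q.ord s := by
  have h1 := (mem_L_iff _ _).1 (span_le_L_mapDiv hK φ hs) Q
  rw [val_eq_exp_neg_ord Q hs0, WithZero.exp_le_exp] at h1
  omega

/-- vanishing of the hyperplane is constant along the fibre -/
theorem term_eq_zero_iff (hK : IsFunctionField k K) (φ : ι → K) (hne : ∀ i, φ i ≠ 0) {s : K}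
    (hs : s ∈ Submodule.span k (Set.range φ)) (hs0 : s ≠ 0) {P Q : Place k K}
    (hPQ : SameImage φ P Q) :
    mapDiv k φ Q + Q.ord s = 0 ↔ mapDiv k φ P + P.ord s = 0 := by
  obtain ⟨j, hj0, hjP, hjQ, hcc⟩ := hPQ
  have hR := div_mem_Rg_of_mem_span φ j hs
  obtain ⟨a, ha1, ha2⟩ := common_residue (P := P) (Q := Q) hcc hR
  have hP := val_ratio_eq hK φ hne hs0 (j := j) (Q := P) hjP
  have hQ := val_ratio_eq hK φ hne hs0 (j := j) (Q := Q) hjQ
  have hPn := term_nonneg hK φ hs hs0 P
  have hQn := term_nonneg hK φ hs hs0 Q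
  have key : ∀ (R : Place k K) (t : ℤ), 0 ≤ t → R.1 (s / φ j) = WithZero.exp (-t) →
      (t = 0 ↔ ¬ R.1 (s / φ j) < 1) := by
    intro R t ht hR
    rw [hR, ← WithZero.exp_zero, WithZero.exp_lt_exp]
    omega
  rw [key Q _ hQn hQ, key P _ hPn hP, close_lt_one_iff Q _ a ha2, close_lt_one_iff P _ a ha1]

/-- **Hyperplane criterion** (⟸). -/
theorem isNonsingularAt_of_hyperplane (hK : IsFunctionField k K) {n : ℕ} (hn : 1 ≤ n)
    (φ : Fin (n + 1) → K) (hφ : LinearIndependent k φ)
    (hbir : IntermediateField.adjoin k (Set.range fun i => φ i / φ 0) = ⊤) (P : Place k K)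
    {s : K} (hs : s ∈ Submodule.span k (Set.range φ)) (hs0 : s ≠ 0)
    (hsum : ∑ᶠ Q ∈ {Q : Place k K | SameImage φ P Q}, (mapDiv k φ Q + Q.ord s) = 1) :
    IsNonsingularAt φ P := by
  classical
  have hne : ∀ i, φ i ≠ 0 := hφ.ne_zero
  obtain ⟨j, hj⟩ := exists_least φ P
  have hPP : SameImage φ P P := sameImage_self hK φ (hne j) hj
  -- the term at P is positive
  have hP0 : mapDiv k φ P + P.ord s ≠ 0 := by
    intro h0
    have hall : ∀ Q ∈ {Q : Place k K | SameImage φ P Q}, mapDiv k φ Q + Q.ord s = 0 :=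
      fun Q hQ => (term_eq_zero_iff hK φ hne hs hs0 hQ).2 h0
    rw [finsum_mem_congr rfl hall, finsum_mem_zero] at hsum
    exact zero_ne_one hsum
  have hpos : ∀ Q ∈ {Q : Place k K | SameImage φ P Q}, 1 ≤ mapDiv k φ Q + Q.ord s := by
    intro Q hQ
    have h1 := term_nonneg hK φ hs hs0 Q
    have h2 : mapDiv k φ Q + Q.ord s ≠ 0 := fun h0 =>
      hP0 ((term_eq_zero_iff hK φ hne hs hs0 hQ).1 h0)
    omega
  -- the fibre is finite
  have hfin : {Q : Place k K | SameImage φ P Q}.Finite := by
    by_contra hinf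
    have hinf' : ({Q : Place k K | SameImage φ P Q} ∩
        Function.support fun Q : Place k K => mapDiv k φ Q + Q.ord s).Infinite := by
      have e : {Q : Place k K | SameImage φ P Q} ∩
          Function.support (fun Q : Place k K => mapDiv k φ Q + Q.ord s) =
          {Q : Place k K | SameImage φ P Q} := by
        apply Set.inter_eq_left.mpr
        intro Q hQ
        rw [Function.mem_support]
        have := hpos Q hQ
        omega
      rw [e]; exact hinf
    rw [finsum_mem_eq_zero_of_infinite hinf'] at hsum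
    exact zero_ne_one hsum
  rw [finsum_mem_eq_finite_toFinset_sum _ hfin] at hsum
  have hcard : (hfin.toFinset.card : ℤ) ≤ 1 := by
    have h1 := Finset.card_nsmul_le_sum hfin.toFinset
      (fun Q : Place k K => mapDiv k φ Q + Q.ord s) 1
      (fun Q hQ => hpos Q (hfin.mem_toFinset.mp hQ))
    rw [hsum, nsmul_eq_mul, mul_one] at h1
    exact h1
  have hPmem : P ∈ hfin.toFinset := hfin.mem_toFinset.mpr hPP
  have hfiber : ∀ Q : Place k K, SameImage φ P Q → Q = P := by
    intro Q hQ
    have hQmem : Q ∈ hfin.toFinset := hfin.mem_toFinset.mpr hQ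
    exact Finset.card_le_one.mp (by exact_mod_cast hcard) Q hQmem P hPmem
  have hsing : hfin.toFinset = {P} := by
    ext Q
    rw [Finset.mem_singleton]
    exact ⟨fun hQ => hfiber Q (hfin.mem_toFinset.mp hQ), fun h => h ▸ hPmem⟩
  rw [hsing, Finset.sum_singleton] at hsum
  have hPt : P.1 (s / φ j) = WithZero.exp (-1 : ℤ) := by
    rw [val_ratio_eq hK φ hne hs0 hj, hsum]
  exact isNonsingularAt_of_fiber_of_uniformizer hK hn φ hφ hbir P hfiber
    (inLocRing_of_mem_Rg (hne j) hj (div_mem_Rg_of_mem_span φ j hs)) hPt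

/-- **Hyperplane criterion** (⟹). -/
theorem exists_hyperplane_of_isNonsingularAt (hK : IsFunctionField k K) {n : ℕ} (hn : 1 ≤ n)
    (φ : Fin (n + 1) → K) (hφ : LinearIndependent k φ) (P : Place k K)
    (hns : IsNonsingularAt φ P) :
    ∃ s ∈ Submodule.span k (Set.range φ), s ≠ 0 ∧
      ∑ᶠ Q ∈ {Q : Place k K | SameImage φ P Q}, (mapDiv k φ Q + Q.ord s) = 1 := by
  classical
  have hne : ∀ i, φ i ≠ 0 := hφ.ne_zero
  obtain ⟨j, hj⟩ := exists_least φ P
  have hPP : SameImage φ P P := sameImage_self hK φ (hne j) hj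
  have hfiber : {Q : Place k K | SameImage φ P Q} = {P} := by
    ext Q
    rw [Set.mem_singleton_iff, Set.mem_ofPred_eq]
    constructor
    · intro hQ
      by_contra hQP
      obtain ⟨z, hz1, hz2⟩ := exists_val_le_one_lt (P := P) hQP
      have := ((Groth.Agent.S11078.result k K hK hn φ hφ P Q).1 hQ z (hns z hz1)).1
      exact absurd this (not_le.mpr hz2)
    · rintro rfl; exact hPP
  obtain ⟨s, hsW, hs1, hs2⟩ := exists_sep_of_isNonsingularAt hK φ hne P hns P
  have hs0 : s ≠ 0 := fun h => hs2 (h ▸ Submodule.zero_mem _)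
  refine ⟨s, hsW, hs0, ?_⟩
  rw [hfiber, finsum_mem_singleton]
  have hPs := val_eq_of_mem_of_not_mem hs1 hs2
  rw [Finsupp.sub_apply, Finsupp.single_eq_same, val_eq_exp_neg_ord P hs0] at hPs
  have := WithZero.exp_injective hPs
  omega

end Groth.Agent.Lib.FunFldNonsing4
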