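/-
The ideal of homogeneous relations of a projective map of a function field (helper70).
`relHom k φ : k[X_i] → K[T]`, `X_i ↦ φ_i T`; its kernel is a homogeneous prime ideal; for a
nondegenerate map to the plane it is generated by any prime element it contains.
-/
import Mathlib
import Groth.Agent.Lib.FunFldNonsing4

set_option autoImplicit false

namespace Groth.Agent.Lib.FunFldRelIdeal

open FunFld Groth.Agent.Lib.H40FunFld MvPolynomial

variable {k K : Type*} [Field k] [Field K] [Algebra k K] {ι : Type*}

/-- the graded relation homomorphism `X_i ↦ φ_i T` -/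
noncomputable def relHom (k : Type*) {K : Type*} [Field k] [Field K] [Algebra k K] {ι : Type*}
    (φ : ι → K) : MvPolynomial ι k →ₐ[k] Polynomial K :=
  MvPolynomial.aeval fun i => Polynomial.C (φ i) * Polynomial.X

theorem relHom_monomial (φ : ι → K) (m : ι →₀ ℕ) (a : k) :
    relHom k φ (monomial m a) =
      Polynomial.C (MvPolynomial.aeval φ (monomial m a)) * Polynomial.X ^ m.degree := by
  unfold relHom
  rw [aeval_monomial, aeval_monomial, Finsupp.degree_apply, map_mul, ← Polynomial.algebraMap_apply]
  rw [Finsupp.prod, Finsupp.prod, map_prod, ← Finset.prod_pow_eq_pow_sum, mul_assoc,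
    ← Finset.prod_mul_distrib]
  congr 1
  refine Finset.prod_congr rfl fun i _ => ?_
  rw [mul_pow, map_pow]

theorem relHom_of_isHomogeneous (φ : ι → K) {F : MvPolynomial ι k} {d : ℕ}
    (hF : F.IsHomogeneous d) :
    relHom k φ F = Polynomial.C (MvPolynomial.aeval φ F) * Polynomial.X ^ d := by
  conv_lhs => rw [F.as_sum]
  conv_rhs => rw [F.as_sum]
  rw [map_sum, map_sum, map_sum, Finset.sum_mul]
  refine Finset.sum_congr rfl fun m hm => ?_
  rw [relHom_monomial]
  congr 2
  have := hF (mem_support_iff.mp hm)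
  rw [Finsupp.degree_eq_weight_one]
  exact this

theorem coeff_relHom (φ : ι → K) (F : MvPolynomial ι k) (d : ℕ) :
    (relHom k φ F).coeff d = MvPolynomial.aeval φ (homogeneousComponent d F) := by
  conv_lhs => rw [← sum_homogeneousComponent F]
  rw [map_sum, Polynomial.finsetSum_coeff]
  have h1 : ∀ i ∈ Finset.range (F.totalDegree + 1),
      (relHom k φ (homogeneousComponent i F)).coeff d =
        if i = d then MvPolynomial.aeval φ (homogeneousComponent d F) else 0 := by
    intro i _
    rw [relHom_of_isHomogeneous φ (homogeneousComponent_isHomogeneous i F),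
      Polynomial.coeff_C_mul, Polynomial.coeff_X_pow]
    split_ifs with h1 h2 h2
    · subst h1; simp
    · exact absurd h1.symm h2
    · exact absurd h2.symm h1
    · simp
  rw [Finset.sum_congr rfl h1, Finset.sum_ite_eq']
  split_ifs with h
  · rfl
  · rw [Finset.mem_range, not_lt] at h
    rw [homogeneousComponent_eq_zero _ _ (by omega), map_zero]

theorem mem_ker_relHom_iff (φ : ι → K) (F : MvPolynomial ι k) :
    F ∈ RingHom.ker (relHom k φ) ↔
      ∀ d, MvPolynomial.aeval φ (homogeneousComponent d F) = 0 := by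
  rw [RingHom.mem_ker, Polynomial.ext_iff]
  simp only [coeff_relHom, Polynomial.coeff_zero]

theorem mem_ker_relHom_of_isHomogeneous (φ : ι → K) {F : MvPolynomial ι k} {d : ℕ}
    (hF : F.IsHomogeneous d) :
    F ∈ RingHom.ker (relHom k φ) ↔ MvPolynomial.aeval φ F = 0 := by
  rw [RingHom.mem_ker, relHom_of_isHomogeneous φ hF]
  constructor
  · intro h
    have := congrArg (fun p => Polynomial.coeff p d) h
    simp only [Polynomial.coeff_C_mul, Polynomial.coeff_X_pow_self, mul_one,
      Polynomial.coeff_zero] at this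
    exact this
  · intro h; rw [h, map_zero, zero_mul]

theorem homogeneousComponent_mem_ker (φ : ι → K) {F : MvPolynomial ι k}
    (hF : F ∈ RingHom.ker (relHom k φ)) (d : ℕ) :
    homogeneousComponent d F ∈ RingHom.ker (relHom k φ) :=
  (mem_ker_relHom_of_isHomogeneous φ (homogeneousComponent_isHomogeneous d F)).2
    ((mem_ker_relHom_iff φ F).1 hF d)

instance ker_relHom_isPrime (φ : ι → K) : (RingHom.ker (relHom k φ)).IsPrime :=
  RingHom.ker_isPrime _

/-- scaling the map by a common factor -/
theorem aeval_mul_of_isHomogeneous (φ : ι → K) (s : K) {F : MvPolynomial ι k} {d : ℕ}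
    (hF : F.IsHomogeneous d) :
    MvPolynomial.aeval (fun i => φ i * s) F = MvPolynomial.aeval φ F * s ^ d := by
  have h1 : MvPolynomial.aeval (fun i => φ i * s) F = Polynomial.eval s (relHom k φ F) := by
    have : (MvPolynomial.aeval (fun i => φ i * s) : MvPolynomial ι k →ₐ[k] K) =
        (((Polynomial.aeval s : Polynomial K →ₐ[K] K).restrictScalars k).comp (relHom k φ)) := by
      apply MvPolynomial.algHom_ext
      intro i
      simp [relHom]
    rw [this]
    simp
  rw [h1, relHom_of_isHomogeneous φ hF, Polynomial.eval_mul, Polynomial.eval_C,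
    Polynomial.eval_pow, Polynomial.eval_X]

theorem ker_relHom_mul (φ : ι → K) {s : K} (hs : s ≠ 0) :
    RingHom.ker (relHom k fun i => φ i * s) = RingHom.ker (relHom k φ) := by
  ext F
  rw [mem_ker_relHom_iff, mem_ker_relHom_iff]
  refine forall_congr' fun d => ?_
  rw [aeval_mul_of_isHomogeneous φ s (homogeneousComponent_isHomogeneous d F)]
  simp [hs]

theorem ker_relHom_le_mul (φ : ι → K) (s : K) :
    RingHom.ker (relHom k φ) ≤ RingHom.ker (relHom k fun i => φ i * s) := by
  intro F hF
  rw [mem_ker_relHom_iff] at hF ⊢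
  intro d
  rw [aeval_mul_of_isHomogeneous φ s (homogeneousComponent_isHomogeneous d F), hF d, zero_mul]

/-- reduction of a polynomial expression modulo the maximal ideal of a place -/
theorem val_aeval_sub_lt_one (P : Place k K) (u : ι → K) (c : ι → k)
    (h : ∀ i, P.1 (u i - algebraMap k K (c i)) < 1) (F : MvPolynomial ι k) :
    P.1 (MvPolynomial.aeval u F - algebraMap k K (MvPolynomial.eval c F)) < 1 := by
  induction F using MvPolynomial.induction_on with
  | C a => simp
  | add p q hp hq =>
    have e : MvPolynomial.aeval u (p + q) - algebraMap k K (MvPolynomial.eval c (p + q)) =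
        (MvPolynomial.aeval u p - algebraMap k K (MvPolynomial.eval c p)) +
          (MvPolynomial.aeval u q - algebraMap k K (MvPolynomial.eval c q)) := by
      simp only [map_add]; ring
    rw [e]
    exact lt_of_le_of_lt (P.1.map_add _ _) (max_lt hp hq)
  | mul_X p i hp =>
    have e : MvPolynomial.aeval u (p * X i) - algebraMap k K (MvPolynomial.eval c (p * X i)) =
        (MvPolynomial.aeval u p - algebraMap k K (MvPolynomial.eval c p)) * u i +
          algebraMap k K (MvPolynomial.eval c p) * (u i - algebraMap k K (c i)) := by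
      simp only [map_mul, aeval_X, eval_X]; ring
    rw [e]
    refine lt_of_le_of_lt (P.1.map_add _ _) (max_lt ?_ ?_)
    · rw [map_mul]
      have h1 : P.1 (u i) ≤ 1 := Groth.Agent.S11078.close_val_le P (u i) (c i) (h i)
      calc P.1 (MvPolynomial.aeval u p - algebraMap k K (MvPolynomial.eval c p)) * P.1 (u i)
          ≤ P.1 (MvPolynomial.aeval u p - algebraMap k K (MvPolynomial.eval c p)) * 1 :=
            mul_le_mul_right h1 _
        _ < 1 := by rwa [mul_one]
    · rw [map_mul]
      calc P.1 (algebraMap k K (MvPolynomial.eval c p)) * P.1 (u i - algebraMap k K (c i))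
          ≤ 1 * P.1 (u i - algebraMap k K (c i)) := mul_le_mul_left (P.2.1 _) _
        _ < 1 := by rw [one_mul]; exact h i

/-- a polynomial relation among `u` reduces to a relation among the residues -/
theorem eval_eq_zero_of_aeval_eq_zero (P : Place k K) (u : ι → K) (c : ι → k)
    (h : ∀ i, P.1 (u i - algebraMap k K (c i)) < 1) {F : MvPolynomial ι k}
    (hF : MvPolynomial.aeval u F = 0) : MvPolynomial.eval c F = 0 := by
  have h1 := val_aeval_sub_lt_one P u c h F
  rw [hF, zero_sub, Valuation.map_neg] at h1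
  by_contra h0
  rw [Groth.Agent.S11078.val_const P _ h0] at h1
  exact lt_irrefl _ h1

/-- `c` is the image point of the place `P` in the chart `j` -/
def IsPoint (φ : ι → K) (P : Place k K) (j : ι) (c : ι → k) : Prop :=
  φ j ≠ 0 ∧ (∀ i, P.1 (φ i) ≤ P.1 (φ j)) ∧ ∀ i, P.1 (φ i / φ j - algebraMap k K (c i)) < 1

theorem IsPoint.apply_self {φ : ι → K} {P : Place k K} {j : ι} {c : ι → k}
    (h : IsPoint φ P j c) : c j = 1 := by
  have h1 := h.2.2 j
  rw [div_self h.1, ← map_one (algebraMap k K), ← map_sub] at h1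
  by_contra h0
  rw [Groth.Agent.S11078.val_const P _ (sub_ne_zero.mpr (Ne.symm h0))] at h1
  exact lt_irrefl _ h1

theorem exists_isPoint [IsAlgClosed k] [Fintype ι] [Nonempty ι] (hK : IsFunctionField k K)
    (φ : ι → K) (hne : ∃ i, φ i ≠ 0) (P : Place k K) : ∃ j c, IsPoint φ P j c := by
  obtain ⟨j, hj⟩ := Groth.Agent.Lib.FunFldLocRing.exists_least φ P
  have hj0 : φ j ≠ 0 := by
    obtain ⟨i, hi⟩ := hne
    intro h0
    have h1 := hj i
    rw [h0, map_zero] at h1
    exact hi (by simpa using le_antisymm h1 zero_le)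
  choose c hc using fun i => Groth.Agent.Lib.FunFldEmbed.exists_const hK P (φ i / φ j)
    (Groth.Agent.Lib.FunFldLocRing.val_ratio_le_one hj i)
  exact ⟨j, c, hj0, hj, hc⟩

/-- homogeneous relations of `φ` hold at the image point -/
theorem ker_relHom_le_of_isPoint {φ : ι → K} {P : Place k K} {j : ι} {c : ι → k}
    (h : IsPoint φ P j c) : RingHom.ker (relHom k φ) ≤ RingHom.ker (relHom k c) := by
  intro F hF
  rw [mem_ker_relHom_iff] at hF ⊢
  intro d
  have h1 : MvPolynomial.aeval (fun i => φ i / φ j) (homogeneousComponent d F) = 0 := by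
    simp only [div_eq_mul_inv]
    rw [aeval_mul_of_isHomogeneous φ _ (homogeneousComponent_isHomogeneous d F), hF d, zero_mul]
  have h2 := eval_eq_zero_of_aeval_eq_zero P _ c h.2.2 h1
  rw [← h2, MvPolynomial.aeval_eq_eval]

/-- a generator of a principal homogeneous ideal is homogeneous -/
theorem isHomogeneous_of_span_eq {I : Ideal (MvPolynomial ι k)} {p : MvPolynomial ι k}
    (hI : I = Ideal.span {p})
    (hhom : ∀ F ∈ I, ∀ d, homogeneousComponent d F ∈ I) :
    p.IsHomogeneous p.totalDegree := by
  by_cases hp0 : p = 0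
  · rw [hp0]; exact isHomogeneous_zero _ _ _
  have hpI : p ∈ I := by rw [hI]; exact Ideal.mem_span_singleton_self p
  have key : ∀ d, homogeneousComponent d p ≠ 0 → d = p.totalDegree := by
    intro d hd
    have h1 := hhom p hpI d
    rw [hI, Ideal.mem_span_singleton] at h1
    obtain ⟨h, hh⟩ := h1
    have hh0 : h ≠ 0 := by
      intro h0; rw [h0, mul_zero] at hh; exact hd hh
    have h2 : (homogeneousComponent d p).totalDegree = d :=
      (homogeneousComponent_isHomogeneous d p).totalDegree hd
    rw [hh, totalDegree_mul_of_isDomain hp0 hh0] at h2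
    have h3 : d ≤ p.totalDegree := by
      by_contra hlt
      rw [not_le] at hlt
      exact hd (homogeneousComponent_eq_zero _ _ hlt)
    omega
  have h4 : p = homogeneousComponent p.totalDegree p := by
    conv_lhs => rw [← sum_homogeneousComponent p]
    apply Finset.sum_eq_single_of_mem
    · simp
    · intro d _ hd
      by_contra h0
      exact hd (key d h0)
  have h5 := homogeneousComponent_isHomogeneous p.totalDegree p
  rwa [← h4] at h5

/-- `1, x, y` satisfy a nontrivial homogeneous relation -/
theorem exists_relation (hK : IsFunctionField k K) (x y : K) :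
    ∃ F : MvPolynomial (Fin 3) k, F ≠ 0 ∧ F ∈ RingHom.ker (relHom k ![1, x, y]) := by
  classical
  set D : Divisor k K := poleDiv x + poleDiv y with hD
  have hD0 : 0 ≤ D := add_nonneg (poleDiv_nonneg x) (poleDiv_nonneg y)
  have hdeg0 : 0 ≤ D.deg := deg_nonneg hD0
  obtain ⟨d, hd⟩ := Int.eq_ofNat_of_zero_le hdeg0
  set m : ℕ := 2 * d + 2 with hm
  set N : ℕ := 2 * m with hN
  have hND0 : 0 ≤ N • D := nsmul_nonneg hD0 N
  have hmem : ∀ i j : Fin m, x ^ (i : ℕ) * y ^ (j : ℕ) ∈ L (N • D) := by
    intro i j Q
    rw [map_mul, map_pow, map_pow]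
    have hx := val_le_exp_poleDiv hK x Q
    have hy := val_le_exp_poleDiv hK y Q
    have hx0 : 0 ≤ poleDiv (k := k) x Q := poleDiv_nonneg x Q
    have hy0 : 0 ≤ poleDiv (k := k) y Q := poleDiv_nonneg y Q
    calc Q.1 x ^ (i : ℕ) * Q.1 y ^ (j : ℕ)
        ≤ WithZero.exp (poleDiv x Q) ^ (i : ℕ) * WithZero.exp (poleDiv y Q) ^ (j : ℕ) :=
          mul_le_mul' (pow_le_pow_left' hx _) (pow_le_pow_left' hy _)
      _ = WithZero.exp ((i : ℕ) * poleDiv x Q + (j : ℕ) * poleDiv y Q) := by
          rw [← WithZero.exp_nsmul, ← WithZero.exp_nsmul, ← WithZero.exp_add]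
          simp
      _ ≤ WithZero.exp ((N • D) Q) := by
          rw [WithZero.exp_le_exp, hD, Finsupp.smul_apply, Finsupp.add_apply, nsmul_eq_mul]
          have hi : ((i : ℕ) : ℤ) ≤ N := by have := i.2; omega
          have hj : ((j : ℕ) : ℤ) ≤ N := by have := j.2; omega
          nlinarith
  obtain ⟨hfd, hell⟩ := finiteDimensional_L_of_nonneg hK hND0
  let v : Fin m × Fin m → L (N • D) := fun ij => ⟨x ^ (ij.1 : ℕ) * y ^ (ij.2 : ℕ), hmem ij.1 ij.2⟩
  have hnli : ¬ LinearIndependent k v := by
    intro hli
    have h1 := hli.fintype_card_le_finrank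
    rw [Fintype.card_prod, Fintype.card_fin] at h1
    rw [deg_nsmul, hd] at hell
    have h2 : (m * m : ℤ) ≤ (ell (N • D) : ℤ) := by exact_mod_cast h1
    have h3 : (m : ℤ) = 2 * d + 2 := by rw [hm]; push_cast; ring
    have h4 : ((N : ℕ) : ℤ) = 2 * m := by rw [hN]; push_cast; ring
    rw [h4] at hell
    nlinarith
  rw [Fintype.not_linearIndependent_iff] at hnli
  obtain ⟨g, hg, ij₀, hg0⟩ := hnli
  let e : Fin m × Fin m → (Fin 3 →₀ ℕ) := fun ij =>
    Finsupp.single 0 (N - ij.1 - ij.2) + Finsupp.single 1 (ij.1 : ℕ) + Finsupp.single 2 (ij.2 : ℕ)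
  have he1 : ∀ ij, e ij 1 = ij.1 := by intro ij; simp [e]
  have he2 : ∀ ij, e ij 2 = ij.2 := by intro ij; simp [e]
  have hedeg : ∀ ij, (e ij).degree = N := by
    intro ij
    have h1 := ij.1.2
    have h2 := ij.2.2
    simp only [e, map_add, Finsupp.degree_single]
    omega
  have heinj : Function.Injective e := by
    intro a b hab
    have h1 := congrArg (fun f => f 1) hab
    have h2 := congrArg (fun f => f 2) hab
    simp only [he1, he2] at h1 h2
    exact Prod.ext (Fin.ext h1) (Fin.ext h2)
  refine ⟨∑ ij, monomial (e ij) (g ij), ?_, ?_⟩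
  · intro h0
    have h1 := congrArg (coeff (e ij₀)) h0
    rw [coeff_sum, coeff_zero] at h1
    simp only [coeff_monomial] at h1
    rw [Finset.sum_eq_single ij₀] at h1
    · simp at h1; exact hg0 h1
    · intro b _ hb
      rw [if_neg]
      intro heq; exact hb (heinj heq)
    · intro h; exact absurd (Finset.mem_univ _) h
  · have hhom : (∑ ij, monomial (e ij) (g ij) : MvPolynomial (Fin 3) k).IsHomogeneous N :=
      IsHomogeneous.sum _ _ _ fun ij _ => isHomogeneous_monomial _ (hedeg ij)
    rw [mem_ker_relHom_of_isHomogeneous _ hhom, map_sum]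
    have h1 := congrArg (Subtype.val) hg
    rw [AddSubmonoidClass.coe_finsetSum] at h1
    simp only [SetLike.val_smul, ZeroMemClass.coe_zero] at h1
    rw [← h1]
    refine Finset.sum_congr rfl fun ij _ => ?_
    rw [aeval_monomial, Algebra.smul_def]
    congr 1
    simp only [e]
    rw [Finsupp.prod_add_index' (by simp) (by intros; rw [pow_add]),
      Finsupp.prod_add_index' (by simp) (by intros; rw [pow_add]),
      Finsupp.prod_single_index (by simp), Finsupp.prod_single_index (by simp),
      Finsupp.prod_single_index (by simp)]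
    simp [v]

section Plane

variable [IsAlgClosed k]

/-- the relation ideal of a nondegenerate map to the plane is generated by any prime element
it contains -/
theorem ker_relHom_eq_span_of_prime (hK : IsFunctionField k K) (φ : Fin 3 → K)
    (hnd : ∀ (j : Fin 3) (c : Fin 3 → k), ∃ i, φ i ≠ c i • φ j)
    {p : MvPolynomial (Fin 3) k} (hp : Prime p) (hpm : p ∈ RingHom.ker (relHom k φ)) :
    RingHom.ker (relHom k φ) = Ideal.span {p} := by
  classical
  obtain ⟨x, hx, -⟩ := hK.1
  obtain ⟨P, -⟩ := exists_place_val_lt_one hK hx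
  have hne : ∃ i, φ i ≠ 0 := by
    obtain ⟨i, hi⟩ := hnd 0 0
    exact ⟨i, by simpa using hi⟩
  obtain ⟨j, c, hpt⟩ := exists_isPoint hK φ hne P
  have hcj := hpt.apply_self
  by_contra hne'
  have hle : Ideal.span {p} ≤ RingHom.ker (relHom k φ) :=
    (Ideal.span_singleton_le_iff_mem _).2 hpm
  have hlt1 : Ideal.span {p} < RingHom.ker (relHom k φ) := lt_of_le_of_ne hle (Ne.symm hne')
  have hlt0 : (⊥ : Ideal (MvPolynomial (Fin 3) k)) < Ideal.span {p} := by
    rw [bot_lt_iff_ne_bot, Ne, Ideal.span_singleton_eq_bot]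
    exact hp.ne_zero
  have hlt2 : RingHom.ker (relHom k φ) < RingHom.ker (relHom k c) := by
    refine lt_of_le_of_ne (ker_relHom_le_of_isPoint hpt) ?_
    obtain ⟨i, hi⟩ := hnd j c
    intro heq
    have hL : (X i - C (c i) * X j : MvPolynomial (Fin 3) k).IsHomogeneous 1 :=
      (isHomogeneous_X _ _).sub (isHomogeneous_C_mul_X _ _)
    have h1 : (X i - C (c i) * X j : MvPolynomial (Fin 3) k) ∈ RingHom.ker (relHom k c) := by
      rw [mem_ker_relHom_of_isHomogeneous c hL]
      simp [hcj]
    rw [← heq, mem_ker_relHom_of_isHomogeneous φ hL] at h1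
    apply hi
    have h2 : φ i - algebraMap k K (c i) * φ j = 0 := by simpa using h1
    rw [Algebra.smul_def]
    exact sub_eq_zero.mp h2
  have hlt3 : RingHom.ker (relHom k c) < RingHom.ker (relHom k (fun i => c i * 0)) := by
    refine lt_of_le_of_ne (ker_relHom_le_mul c 0) ?_
    intro heq
    have hL : (X j : MvPolynomial (Fin 3) k).IsHomogeneous 1 := isHomogeneous_X _ _
    have h1 : (X j : MvPolynomial (Fin 3) k) ∈ RingHom.ker (relHom k (fun i => c i * 0)) := by
      rw [mem_ker_relHom_of_isHomogeneous _ hL]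
      simp
    rw [← heq, mem_ker_relHom_of_isHomogeneous c hL] at h1
    simp [hcj] at h1
  have hprime : (Ideal.span {p}).IsPrime := (Ideal.span_singleton_prime hp.ne_zero).2 hp
  let q : Fin 5 → PrimeSpectrum (MvPolynomial (Fin 3) k) :=
    ![⟨⊥, Ideal.isPrime_bot⟩, ⟨Ideal.span {p}, hprime⟩, ⟨RingHom.ker (relHom k φ), inferInstance⟩,
      ⟨RingHom.ker (relHom k c), inferInstance⟩,
      ⟨RingHom.ker (relHom k (fun i => c i * 0)), inferInstance⟩]
  have hq : StrictMono q := by
    rw [Fin.strictMono_iff_lt_succ]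
    intro i
    fin_cases i
    · exact hlt0
    · exact hlt1
    · exact hlt2
    · exact hlt3
  have h1 := Order.LTSeries.length_le_krullDim (LTSeries.mk 4 q hq)
  have h2 : ringKrullDim (MvPolynomial (Fin 3) k) = 3 := by
    rw [MvPolynomial.ringKrullDim_of_isNoetherianRing, ringKrullDim_eq_zero_of_field]
    simp
  rw [ringKrullDim] at h2
  rw [h2] at h1
  norm_num at h1

end Plane

end Groth.Agent.Lib.FunFldRelIdeal
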