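import Groth.Agent.Lib.H40FunFldPlaneGenus
import Mathlib.RingTheory.Valuation.LocalSubring

set_option autoImplicit false
set_option linter.style.haveILetI false
set_option linter.unusedSectionVars false
open FunFld Polynomial

namespace Groth.Agent.Lib.H40FunFld

open Groth.Agent.Lib.H40QuotChain IntermediateField

universe u v w

section Valuative

variable {k : Type u} [Field k] {K : Type v} [Field K] [Algebra k K]

/-- Valuative criterion for integrality over a `k`-subalgebra of a function field. -/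
theorem isIntegral_of_forall_place (hK : FunFld.IsFunctionField k K) (R : Subalgebra k K) {y : K}
    (h : ∀ P : FunFld.Place k K, (∀ a ∈ R, P.1 a ≤ 1) → P.1 y ≤ 1) : IsIntegral ↥R y := by
  by_contra hy
  have hyR : y ∉ (integralClosure ↥R K).toSubring := hy
  obtain ⟨V, hV, hyV⟩ := Subring.exists_le_valuationSubring_of_isIntegrallyClosedIn hyR
  have hy0 : y ≠ 0 := fun h0 => hyV (h0 ▸ V.zero_mem)
  have hinv : V.valuation y⁻¹ < 1 := by
    have h1 : ¬ V.valuation y ≤ 1 := fun h => hyV ((V.valuation_le_one_iff y).1 h)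
    rw [not_le] at h1
    rw [map_inv₀]
    exact inv_lt_one_of_one_lt₀ h1
  have hRV : ∀ a ∈ R, a ∈ V := fun a ha =>
    hV ((integralClosure ↥R K).algebraMap_mem (⟨a, ha⟩ : ↥R))
  have hk : ∀ c : k, algebraMap k K c ∈ V := fun c => hRV _ (R.algebraMap_mem c)
  obtain ⟨P, hP, -⟩ := exists_place_of_valuationSubring V hK hk (inv_ne_zero hy0) hinv
  apply hyV
  rw [← hP]
  apply h P
  intro a ha
  rw [hP]
  exact hRV a ha

/-- The localization of a subalgebra at the center of a place. -/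
def locAt (A : Subalgebra k K) (P : FunFld.Place k K) : Subalgebra k K where
  carrier := {z | ∃ u ∈ A, ∃ w ∈ A, P.1 w = 1 ∧ z * w = u}
  mul_mem' := by
    rintro z₁ z₂ ⟨u₁, hu₁, w₁, hw₁, hv₁, h₁⟩ ⟨u₂, hu₂, w₂, hw₂, hv₂, h₂⟩
    refine ⟨u₁ * u₂, A.mul_mem hu₁ hu₂, w₁ * w₂, A.mul_mem hw₁ hw₂, ?_, ?_⟩
    · rw [map_mul, hv₁, hv₂, one_mul]
    · rw [← h₁, ← h₂]; ring
  add_mem' := by
    rintro z₁ z₂ ⟨u₁, hu₁, w₁, hw₁, hv₁, h₁⟩ ⟨u₂, hu₂, w₂, hw₂, hv₂, h₂⟩
    refine ⟨u₁ * w₂ + u₂ * w₁, A.add_mem (A.mul_mem hu₁ hw₂) (A.mul_mem hu₂ hw₁), w₁ * w₂,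
      A.mul_mem hw₁ hw₂, ?_, ?_⟩
    · rw [map_mul, hv₁, hv₂, one_mul]
    · rw [← h₁, ← h₂]; ring
  algebraMap_mem' c := ⟨algebraMap k K c, A.algebraMap_mem c, 1, A.one_mem, map_one _, mul_one _⟩

theorem mem_locAt {A : Subalgebra k K} {P : FunFld.Place k K} {z : K} :
    z ∈ locAt A P ↔ ∃ u ∈ A, ∃ w ∈ A, P.1 w = 1 ∧ z * w = u := Iff.rfl

theorem le_locAt (A : Subalgebra k K) (P : FunFld.Place k K) : A ≤ locAt A P :=
  fun a ha => ⟨a, ha, 1, A.one_mem, map_one _, mul_one _⟩

/-- A quotient of elements of `locAt A P` with denominator a unit at `P` is in `locAt A P`. -/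
theorem div_mem_locAt {A : Subalgebra k K} {P : FunFld.Place k K} {z u w : K}
    (hu : u ∈ locAt A P) (hw : w ∈ locAt A P) (hvw : P.1 w = 1) (h : z * w = u) :
    z ∈ locAt A P := by
  obtain ⟨u₁, hu₁, u₂, hu₂, hvu, h₁⟩ := hu
  obtain ⟨w₁, hw₁, w₂, hw₂, hvw₂, h₂⟩ := hw
  refine ⟨u₁ * w₂, A.mul_mem hu₁ hw₂, u₂ * w₁, A.mul_mem hu₂ hw₁, ?_, ?_⟩
  · rw [map_mul, hvu, one_mul, ← h₂, map_mul, hvw, hvw₂, one_mul]
  · rw [← h₁, ← h₂, ← h]; ring

/-- Local-to-global: an element lying in the localization of `A` at the center of every place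
dominating `A` belongs to `A`. -/
theorem mem_of_forall_mem_locAt (hK : FunFld.IsFunctionField k K) (A : Subalgebra k K) {b : K}
    (P₀ : FunFld.Place k K) (hP₀ : ∀ a ∈ A, P₀.1 a ≤ 1)
    (h : ∀ P : FunFld.Place k K, (∀ a ∈ A, P.1 a ≤ 1) → b ∈ locAt A P) : b ∈ A := by
  let I : Ideal ↥A.toSubring :=
    { carrier := {a | (a : K) * b ∈ A}
      add_mem' := by
        intro a₁ a₂ h₁ h₂
        change ((a₁ : K) + (a₂ : K)) * b ∈ A
        rw [add_mul]
        exact A.add_mem h₁ h₂
      zero_mem' := by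
        change ((0 : K)) * b ∈ A
        rw [zero_mul]
        exact A.zero_mem
      smul_mem' := by
        intro c a ha
        change ((c : K) * (a : K)) * b ∈ A
        rw [mul_assoc]
        exact A.mul_mem c.2 ha }
  have hImem : ∀ a : ↥A.toSubring, a ∈ I ↔ (a : K) * b ∈ A := fun a => Iff.rfl
  by_cases hI : I = ⊤
  · have h1 : (1 : ↥A.toSubring) ∈ I := hI ▸ Submodule.mem_top
    rw [hImem] at h1
    simpa using h1
  · exfalso
    obtain ⟨V, hV, hIV⟩ := Ideal.image_subset_nonunits_valuationSubring I hI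
    obtain ⟨u₀, hu₀, w₀, hw₀, hvw₀, h₀⟩ := h P₀ hP₀
    have hw₀0 : w₀ ≠ 0 := by
      rintro rfl
      rw [map_zero] at hvw₀
      exact zero_ne_one hvw₀
    have hw₀I : (⟨w₀, hw₀⟩ : ↥A.toSubring) ∈ I := by
      rw [hImem]
      change w₀ * b ∈ A
      rw [mul_comm, h₀]
      exact hu₀
    have hw₀V : V.valuation w₀ < 1 := by
      have := hIV ⟨⟨w₀, hw₀⟩, hw₀I, rfl⟩
      exact (ValuationSubring.mem_nonunits_iff V).1 this
    have hk : ∀ c : k, algebraMap k K c ∈ V := fun c => hV (A.algebraMap_mem c)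
    obtain ⟨P, hP, hP'⟩ := exists_place_of_valuationSubring V hK hk hw₀0 hw₀V
    have hAP : ∀ a ∈ A, P.1 a ≤ 1 := fun a ha => (hP a).2 (hV ha)
    obtain ⟨u₁, hu₁, w₁, hw₁, hvw₁, h₁⟩ := h P hAP
    have hw₁I : (⟨w₁, hw₁⟩ : ↥A.toSubring) ∈ I := by
      rw [hImem]
      change w₁ * b ∈ A
      rw [mul_comm, h₁]
      exact hu₁
    have hw₁V : V.valuation w₁ < 1 := by
      have := hIV ⟨⟨w₁, hw₁⟩, hw₁I, rfl⟩
      exact (ValuationSubring.mem_nonunits_iff V).1 this
    have := (hP' w₁).2 hw₁V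
    rw [hvw₁] at this
    exact lt_irrefl _ this

end Valuative

section PlaneSetup

variable {k : Type u} [Field k] {K : Type v} [Field K] [Algebra k K]

/-- Packaged coordinate change for a plane model. -/
theorem exists_plane_coords (hK : FunFld.IsFunctionField k K) [Infinite k] (x y : K)
    (hxy : IntermediateField.adjoin k ({x, y} : Set K) = ⊤) :
    ∃ c : k, Transcendental k (x + algebraMap k K c * y) ∧
      (∀ P : FunFld.Place k K, max 1 (P.1 (x + algebraMap k K c * y)) =
        max 1 (max (P.1 x) (P.1 y))) ∧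
      (∀ P : FunFld.Place k K, WithZero.exp (FunFld.mapDiv k ![(1 : K), x, y] P) =
        max 1 (max (P.1 x) (P.1 y))) ∧
      (↥k⟮x + algebraMap k K c * y⟯)⟮y⟯ = ⊤ ∧
      (FunFld.mapDiv k ![(1 : K), x, y]).deg =
        Module.finrank ↥k⟮x + algebraMap k K c * y⟯ K := by
  classical
  obtain ⟨c, hc⟩ := exists_coord_change hK x y
  have hM : ∀ P : FunFld.Place k K, WithZero.exp (FunFld.mapDiv k ![(1 : K), x, y] P) =
      max 1 (max (P.1 x) (P.1 y)) := fun P => exp_mapDiv_plane hK x y P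
  have hDeq : FunFld.mapDiv k ![(1 : K), x, y] = poleDiv (x + algebraMap k K c * y) := by
    ext P
    apply WithZero.exp_injective
    rw [hM P, exp_poleDiv hK, hc P]
  have hvy : ∀ P : FunFld.Place k K, P.1 y ≤
      WithZero.exp (FunFld.mapDiv k ![(1 : K), x, y] P) := fun P => by
    rw [hM P]; exact (le_max_right _ _).trans (le_max_right _ _)
  have hxy' : IntermediateField.adjoin k ({x + algebraMap k K c * y, y} : Set K) = ⊤ := by
    rw [eq_top_iff, ← hxy, IntermediateField.adjoin_le_iff]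
    have hxm : x + algebraMap k K c * y ∈
        IntermediateField.adjoin k ({x + algebraMap k K c * y, y} : Set K) :=
      IntermediateField.subset_adjoin k _ (by simp)
    have hym : y ∈ IntermediateField.adjoin k ({x + algebraMap k K c * y, y} : Set K) :=
      IntermediateField.subset_adjoin k _ (by simp)
    rintro z (rfl | rfl)
    · have e : (z + algebraMap k K c * y) - algebraMap k K c * y = z := by ring
      have h3 := sub_mem hxm (mul_mem (IntermediateField.algebraMap_mem _ c) hym)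
      rwa [e] at h3
    · exact hym
  have htr : Transcendental k (x + algebraMap k K c * y) := by
    intro halg
    obtain ⟨a, ha⟩ := hK.2 _ halg
    have hD0 : ∀ P : FunFld.Place k K,
        WithZero.exp (FunFld.mapDiv k ![(1 : K), x, y] P) = 1 := by
      intro P
      rw [hM P, ← hc P, ← ha]
      exact max_eq_left (val_algebraMap_le P a)
    have hyk : y ∈ (⊥ : IntermediateField k K) := by
      have hyL : y ∈ FunFld.L (0 : FunFld.Divisor k K) := by
        intro P
        rw [Finsupp.zero_apply, WithZero.exp_zero]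
        exact (hvy P).trans_eq (hD0 P)
      rw [L_zero_eq_one hK, Submodule.mem_one] at hyL
      obtain ⟨b, hb⟩ := hyL
      rw [IntermediateField.mem_bot]
      exact ⟨b, hb⟩
    have hx'k : x + algebraMap k K c * y ∈ (⊥ : IntermediateField k K) :=
      IntermediateField.mem_bot.2 ⟨a, ha⟩
    have htop : (⊤ : IntermediateField k K) ≤ ⊥ := by
      rw [← hxy', IntermediateField.adjoin_le_iff]
      rintro z (rfl | rfl)
      exacts [hx'k, hyk]
    obtain ⟨t, ht, -⟩ := hK.1
    obtain ⟨b, hb⟩ := IntermediateField.mem_bot.1 (htop (IntermediateField.mem_top (x := t)))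
    exact ht (hb ▸ isAlgebraic_algebraMap b)
  refine ⟨c, htr, hc, hM, ?_, ?_⟩
  · rw [← IntermediateField.restrictScalars_eq_top_iff (K := k),
      IntermediateField.adjoin_simple_adjoin_simple]
    exact hxy'
  · rw [hDeq]; exact (deg_zeroDiv_eq_and_deg_poleDiv_eq hK htr).2

/-- Chart lemma: the local ring of a projective map at `P` lies in the localization at `P` of any
subalgebra containing the ratios `φ i / g`, for `g` of largest value at `P`. -/
theorem mem_locAt_of_inLocRing {ι : Type*} (φ : ι → K) (P : FunFld.Place k K)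
    (A : Subalgebra k K) (g : K) (hg0 : g ≠ 0) (hgmax : ∀ i, P.1 (φ i) ≤ P.1 g)
    (hgA : ∀ i, φ i / g ∈ A)
    (hgle : ∀ j, (∀ i, P.1 (φ i) ≤ P.1 (φ j)) → P.1 g ≤ P.1 (φ j))
    {z : K} (hz : FunFld.InLocRing φ P z) : z ∈ locAt A P := by
  obtain ⟨j, hj0, hjmax, u, hu, w, hw, hvw, hzw⟩ := hz
  have hvg0 : P.1 g ≠ 0 := (Valuation.ne_zero_iff _).2 hg0
  have hvj : P.1 (φ j / g) = 1 := by
    rw [map_div₀, le_antisymm (hgmax j) (hgle j hjmax), div_self hvg0]
  have hgen : ∀ i, φ i / φ j ∈ locAt A P := fun i =>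
    ⟨φ i / g, hgA i, φ j / g, hgA j, hvj, by field_simp⟩
  have hle : Algebra.adjoin k (Set.range fun i => φ i / φ j) ≤ locAt A P :=
    Algebra.adjoin_le (by rintro _ ⟨i, rfl⟩; exact hgen i)
  exact div_mem_locAt (hle hu) (hle hw) hvw hzw

theorem val_le_one_of_mem_adjoin (P : FunFld.Place k K) {S : Set K} (hS : ∀ s ∈ S, P.1 s ≤ 1)
    {a : K} (ha : a ∈ Algebra.adjoin k S) : P.1 a ≤ 1 := by
  induction ha using Algebra.adjoin_induction with
  | mem s hs => exact hS s hs
  | algebraMap c => exact val_algebraMap_le P c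
  | add a b _ _ ha hb => exact (P.1.map_add a b).trans (max_le ha hb)
  | mul a b _ _ ha hb => rw [map_mul]; exact mul_le_one' ha hb

end PlaneSetup

section Charts

variable {k : Type u} [Field k] {K : Type v} [Field K] [Algebra k K]

/-- Affine chart: for a plane model nonsingular everywhere, `L(nD) ⊆ k[x', y]`. -/
theorem mem_adjoin_of_mem_L_of_nonsingular (hK : FunFld.IsFunctionField k K) {x y : K} {c : k}
    (htr : Transcendental k (x + algebraMap k K c * y))
    (hc : ∀ P : FunFld.Place k K, max 1 (P.1 (x + algebraMap k K c * y)) =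
      max 1 (max (P.1 x) (P.1 y)))
    (hM : ∀ P : FunFld.Place k K, WithZero.exp (FunFld.mapDiv k ![(1 : K), x, y] P) =
      max 1 (max (P.1 x) (P.1 y)))
    (hns : ∀ P : FunFld.Place k K, FunFld.IsNonsingularAt ![(1 : K), x, y] P) {n : ℕ} {z : K}
    (hz : z ∈ FunFld.L (n • FunFld.mapDiv k ![(1 : K), x, y])) :
    z ∈ Algebra.adjoin k ({x + algebraMap k K c * y, y} : Set K) := by
  have hx'0 : x + algebraMap k K c * y ≠ 0 := fun h => htr (h ▸ isAlgebraic_zero)
  have hxmem : x + algebraMap k K c * y ∈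
      Algebra.adjoin k ({x + algebraMap k K c * y, y} : Set K) :=
    Algebra.subset_adjoin (by simp)
  have hymem : y ∈ Algebra.adjoin k ({x + algebraMap k K c * y, y} : Set K) :=
    Algebra.subset_adjoin (by simp)
  have hxm : x ∈ Algebra.adjoin k ({x + algebraMap k K c * y, y} : Set K) := by
    have e : (x + algebraMap k K c * y) - algebraMap k K c * y = x := by ring
    have h3 := Subalgebra.sub_mem _ hxmem (Subalgebra.mul_mem _ (Subalgebra.algebraMap_mem _ c) hymem)
    rwa [e] at h3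
  -- places dominating the chart
  have hchart : ∀ P : FunFld.Place k K, P.1 (x + algebraMap k K c * y) ≤ 1 →
      P.1 x ≤ 1 ∧ P.1 y ≤ 1 ∧ WithZero.exp (FunFld.mapDiv k ![(1 : K), x, y] P) = 1 := by
    intro P hP
    have h1 : max 1 (max (P.1 x) (P.1 y)) = 1 := by rw [← hc P]; exact max_eq_left hP
    have h2 := le_max_right 1 (max (P.1 x) (P.1 y))
    rw [h1] at h2
    exact ⟨(le_max_left _ _).trans h2, (le_max_right _ _).trans h2, by rw [hM P, h1]⟩
  obtain ⟨⟨P₀, hP₀⟩, -⟩ := exists_zero_and_exists_pole hK (x + algebraMap k K c * y)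
    (fun ⟨a, ha⟩ => htr (ha ▸ isAlgebraic_algebraMap a))
  have hP₀' : P₀.1 (x + algebraMap k K c * y) ≤ 1 := ((ord_pos_iff P₀ hx'0).1 hP₀).le
  refine mem_of_forall_mem_locAt hK _ P₀ (fun a ha => ?_) (fun P hP => ?_)
  · refine val_le_one_of_mem_adjoin P₀ ?_ ha
    rintro s (rfl | rfl)
    · exact hP₀'
    · exact (hchart P₀ hP₀').2.1
  · have hPx' : P.1 (x + algebraMap k K c * y) ≤ 1 := hP _ hxmem
    obtain ⟨hPx, hPy, hD⟩ := hchart P hPx'
    have hz1 : P.1 z ≤ 1 := by
      have := hz P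
      rwa [Finsupp.smul_apply, WithZero.exp_nsmul, hD, one_pow] at this
    refine mem_locAt_of_inLocRing ![(1 : K), x, y] P _ 1 one_ne_zero ?_ ?_ ?_ (hns P z hz1)
    · intro i
      rw [map_one]
      fin_cases i
      · simp
      · exact hPx
      · exact hPy
    · intro i
      rw [div_one]
      fin_cases i
      · exact Subalgebra.one_mem _
      · exact hxm
      · exact hymem
    · intro j hj
      have := hj 0
      simpa using this

/-- Chart at infinity: `z / x'^n ∈ k[1/x', y/x']` for `z ∈ L(nD)`. -/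
theorem mul_inv_pow_mem_adjoin_of_mem_L_of_nonsingular (hK : FunFld.IsFunctionField k K)
    {x y : K} {c : k} (htr : Transcendental k (x + algebraMap k K c * y))
    (hc : ∀ P : FunFld.Place k K, max 1 (P.1 (x + algebraMap k K c * y)) =
      max 1 (max (P.1 x) (P.1 y)))
    (hM : ∀ P : FunFld.Place k K, WithZero.exp (FunFld.mapDiv k ![(1 : K), x, y] P) =
      max 1 (max (P.1 x) (P.1 y)))
    (hns : ∀ P : FunFld.Place k K, FunFld.IsNonsingularAt ![(1 : K), x, y] P) {n : ℕ} {z : K}
    (hz : z ∈ FunFld.L (n • FunFld.mapDiv k ![(1 : K), x, y])) :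
    z * (x + algebraMap k K c * y)⁻¹ ^ n ∈
      Algebra.adjoin k ({(x + algebraMap k K c * y)⁻¹, y * (x + algebraMap k K c * y)⁻¹} : Set K) := by
  have hx'0 : x + algebraMap k K c * y ≠ 0 := fun h => htr (h ▸ isAlgebraic_zero)
  have humem : (x + algebraMap k K c * y)⁻¹ ∈ Algebra.adjoin k
      ({(x + algebraMap k K c * y)⁻¹, y * (x + algebraMap k K c * y)⁻¹} : Set K) :=
    Algebra.subset_adjoin (by simp)
  have hwmem : y * (x + algebraMap k K c * y)⁻¹ ∈ Algebra.adjoin k
      ({(x + algebraMap k K c * y)⁻¹, y * (x + algebraMap k K c * y)⁻¹} : Set K) :=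
    Algebra.subset_adjoin (by simp)
  have hchart : ∀ P : FunFld.Place k K, 1 ≤ P.1 (x + algebraMap k K c * y) →
      P.1 x ≤ P.1 (x + algebraMap k K c * y) ∧ P.1 y ≤ P.1 (x + algebraMap k K c * y) ∧
      WithZero.exp (FunFld.mapDiv k ![(1 : K), x, y] P) = P.1 (x + algebraMap k K c * y) := by
    intro P hP
    have h1 : max 1 (max (P.1 x) (P.1 y)) = P.1 (x + algebraMap k K c * y) := by
      rw [← hc P]; exact max_eq_right hP
    have h2 := le_max_right 1 (max (P.1 x) (P.1 y))
    rw [h1] at h2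
    exact ⟨(le_max_left _ _).trans h2, (le_max_right _ _).trans h2, by rw [hM P, h1]⟩
  have hinv : ∀ P : FunFld.Place k K, P.1 (x + algebraMap k K c * y)⁻¹ ≤ 1 →
      1 ≤ P.1 (x + algebraMap k K c * y) := by
    intro P hP
    rw [map_inv₀] at hP
    have h0 : P.1 (x + algebraMap k K c * y) ≠ 0 := (Valuation.ne_zero_iff _).2 hx'0
    exact (inv_le_one₀ (zero_lt_iff.2 h0)).1 hP
  obtain ⟨-, ⟨P₀, hP₀⟩⟩ := exists_zero_and_exists_pole hK (x + algebraMap k K c * y)
    (fun ⟨a, ha⟩ => htr (ha ▸ isAlgebraic_algebraMap a))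
  have hP₀' : 1 < P₀.1 (x + algebraMap k K c * y) := by
    rw [val_eq_exp_neg_ord P₀ hx'0, ← WithZero.exp_zero, WithZero.exp_lt_exp]
    omega
  have hgenle : ∀ P : FunFld.Place k K, 1 ≤ P.1 (x + algebraMap k K c * y) →
      ∀ s ∈ ({(x + algebraMap k K c * y)⁻¹, y * (x + algebraMap k K c * y)⁻¹} : Set K),
        P.1 s ≤ 1 := by
    intro P hP
    have h0 : P.1 (x + algebraMap k K c * y) ≠ 0 := (Valuation.ne_zero_iff _).2 hx'0
    rintro s (rfl | rfl)
    · rw [map_inv₀]
      exact (inv_le_one₀ (zero_lt_iff.2 h0)).2 hP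
    · rw [map_mul, map_inv₀]
      exact mul_inv_le_one_of_le₀ (hchart P hP).2.1 zero_le
  refine mem_of_forall_mem_locAt hK _ P₀ (fun a ha => ?_) (fun P hP => ?_)
  · exact val_le_one_of_mem_adjoin P₀ (hgenle P₀ hP₀'.le) ha
  · have hPx' : 1 ≤ P.1 (x + algebraMap k K c * y) := hinv P (hP _ humem)
    have h0 : P.1 (x + algebraMap k K c * y) ≠ 0 := (Valuation.ne_zero_iff _).2 hx'0
    obtain ⟨hPx, hPy, hD⟩ := hchart P hPx'
    have hz1 : P.1 (z * (x + algebraMap k K c * y)⁻¹ ^ n) ≤ 1 := by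
      have := hz P
      rw [Finsupp.smul_apply, WithZero.exp_nsmul, hD] at this
      rw [map_mul, map_pow, map_inv₀, inv_pow]
      exact mul_inv_le_one_of_le₀ this zero_le
    refine mem_locAt_of_inLocRing ![(1 : K), x, y] P _ (x + algebraMap k K c * y) hx'0
      ?_ ?_ ?_ (hns P _ hz1)
    · intro i
      fin_cases i
      · simpa using hPx'
      · exact hPx
      · exact hPy
    · intro i
      fin_cases i
      · simpa using humem
      · have e : x / (x + algebraMap k K c * y) =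
            1 - algebraMap k K c * (y * (x + algebraMap k K c * y)⁻¹) := by
          field_simp
          ring
        change x / (x + algebraMap k K c * y) ∈ _
        rw [e]
        exact Subalgebra.sub_mem _ (Subalgebra.one_mem _)
          (Subalgebra.mul_mem _ (Subalgebra.algebraMap_mem _ c) hwmem)
      · change y / (x + algebraMap k K c * y) ∈ _
        rw [div_eq_mul_inv]
        exact hwmem
    · intro j hj
      have h1 := hj 1
      have h2 := hj 2
      simp only [Matrix.cons_val_one, Matrix.cons_val_zero] at h1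
      have h2' : P.1 y ≤ P.1 (![(1 : K), x, y] j) := by simpa using h2
      refine (P.1.map_add _ _).trans (max_le h1 ?_)
      rw [map_mul]
      exact (mul_le_of_le_one_left' (val_algebraMap_le P c)).trans h2'

end Charts

section Basis

variable {k : Type u} [Field k] {K : Type v} [Field K] [Algebra k K]

open scoped IntermediateField.algebraAdjoinAdjoin in
/-- If `y'` is integral over `k[t]` (`t` transcendental), then every element of `k[t, y']` is a
`k[t]`-combination of `1, y', …, y'^(d-1)` with `d` the degree of `y'` over `k(t)`. -/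
theorem exists_coeffs_of_mem_adjoin_pair {t y' : K} (htr : Transcendental k t)
    (hint : IsIntegral ↥(Algebra.adjoin k ({t} : Set K)) y') {d : ℕ}
    (hd : (minpoly ↥k⟮t⟯ y').natDegree = d) {z : K}
    (hz : z ∈ Algebra.adjoin k ({t, y'} : Set K)) :
    ∃ c : ℕ → K, (∀ j, c j ∈ Algebra.adjoin k ({t} : Set K)) ∧
      z = ∑ j ∈ Finset.range d, c j * y' ^ j := by
  haveI : IsIntegrallyClosed ↥(Algebra.adjoin k ({t} : Set K)) :=
    IsIntegrallyClosed.of_equiv (Polynomial.algEquivOfTranscendental k t htr).toRingEquiv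
  have hmin : minpoly ↥k⟮t⟯ y' = (minpoly ↥(Algebra.adjoin k ({t} : Set K)) y').map
      (algebraMap ↥(Algebra.adjoin k ({t} : Set K)) ↥k⟮t⟯) :=
    minpoly.isIntegrallyClosed_eq_field_fractions' ↥k⟮t⟯ hint
  have hdeg : (minpoly ↥(Algebra.adjoin k ({t} : Set K)) y').natDegree = d := by
    rw [← hd, hmin, (minpoly.monic hint).natDegree_map]
  -- `z` is a polynomial in `y'` over `k[t]`
  have hpoly : ∃ f : (↥(Algebra.adjoin k ({t} : Set K)))[X], z = aeval y' f := by
    induction hz using Algebra.adjoin_induction with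
    | mem s hs =>
      rcases hs with rfl | rfl
      · exact ⟨C ⟨s, Algebra.self_mem_adjoin_singleton k s⟩, by rw [aeval_C]; rfl⟩
      · exact ⟨X, by rw [aeval_X]⟩
    | algebraMap a =>
      exact ⟨C (algebraMap k _ a), by rw [aeval_C]; rfl⟩
    | add a b _ _ ha hb =>
      obtain ⟨f, rfl⟩ := ha
      obtain ⟨g, rfl⟩ := hb
      exact ⟨f + g, by rw [map_add]⟩
    | mul a b _ _ ha hb =>
      obtain ⟨f, rfl⟩ := ha
      obtain ⟨g, rfl⟩ := hb
      exact ⟨f * g, by rw [map_mul]⟩
  have hspan := IsIntegral.mem_span_pow hint hpoly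
  obtain ⟨c', hc'⟩ := (Submodule.mem_span_range_iff_exists_fun _).1 hspan
  refine ⟨fun j => if h : j < (minpoly ↥(Algebra.adjoin k ({t} : Set K)) y').natDegree
    then ((c' ⟨j, h⟩ : ↥(Algebra.adjoin k ({t} : Set K))) : K) else 0, fun j => ?_, ?_⟩
  · dsimp only
    split_ifs with h
    · exact (c' ⟨j, h⟩).2
    · exact Subalgebra.zero_mem _
  · rw [← hc', ← hdeg, ← Fin.sum_univ_eq_sum_range
      (fun j => (if h : j < (minpoly ↥(Algebra.adjoin k ({t} : Set K)) y').natDegree
        then ((c' ⟨j, h⟩ : ↥(Algebra.adjoin k ({t} : Set K))) : K) else 0) * y' ^ j)]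
    refine Finset.sum_congr rfl fun j _ => ?_
    rw [dif_pos j.2, Algebra.smul_def]
    rfl

/-- Comparison of coefficients with respect to the powers of a generator. -/
theorem eq_zero_of_sum_mul_pow_eq_zero {F : IntermediateField k K} {y' : K} {d : ℕ}
    (hd : (minpoly ↥F y').natDegree = d) (a : ℕ → K) (ha : ∀ j, a j ∈ F)
    (h : ∑ j ∈ Finset.range d, a j * y' ^ j = 0) : ∀ j < d, a j = 0 := by
  subst hd
  have hli := linearIndependent_pow (K := ↥F) y'
  rw [Fintype.linearIndependent_iff] at hli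
  have h2 : ∑ i : Fin (minpoly ↥F y').natDegree, (⟨a i, ha i⟩ : ↥F) • y' ^ (i : ℕ) = 0 := by
    rw [← h, ← Fin.sum_univ_eq_sum_range (fun j => a j * y' ^ j)]
    refine Finset.sum_congr rfl fun i _ => ?_
    rw [Algebra.smul_def]
    rfl
  intro j hj
  have := hli _ h2 ⟨j, hj⟩
  exact congrArg Subtype.val this

/-- The value of a polynomial in `x` at a pole of `x`. -/
theorem val_aeval_of_one_lt (P : FunFld.Place k K) {x : K} (hx : 1 < P.1 x) {p : k[X]}
    (hp : p ≠ 0) : P.1 (aeval x p) = P.1 x ^ p.natDegree := by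
  have hx0 : x ≠ 0 := by
    rintro rfl
    rw [map_zero] at hx
    exact not_lt.2 zero_le hx
  letI := invertibleOfNonzero hx0
  have h1 := Polynomial.eval₂_reverse_mul_pow (algebraMap k K) x p
  have hu : P.1 (⅟x) < 1 := by
    rw [invOf_eq_inv, map_inv₀]
    exact inv_lt_one_of_one_lt₀ hx
  have h2 : P.1 (aeval (⅟x) (reverse p)) = 1 := by
    apply val_aeval_eq_one P hu
    rw [coeff_zero_reverse]
    exact leadingCoeff_ne_zero.2 hp
  rw [aeval_def, ← h1, map_mul, map_pow, ← aeval_def, h2, one_mul]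

end Basis

section Assembly

variable {k : Type u} [Field k] {K : Type v} [Field K] [Algebra k K]

theorem natDegree_add_le_of_mul_inv_pow_eq (hK : FunFld.IsFunctionField k K) {x' : K}
    (htr : Transcendental k x') {c e : K}
    (hcmem : c ∈ Algebra.adjoin k ({x'} : Set K)) (hemem : e ∈ Algebra.adjoin k ({x'⁻¹} : Set K))
    {n j : ℕ} (h : c * x'⁻¹ ^ n = e * x'⁻¹ ^ j) :
    ∃ p : k[X], c = aeval x' p ∧ (p = 0 ∨ p.natDegree + j ≤ n) := by
  rw [Algebra.adjoin_singleton_eq_range_aeval] at hcmem hemem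
  obtain ⟨p, rfl⟩ := hcmem
  obtain ⟨q, rfl⟩ := hemem
  refine ⟨p, rfl, ?_⟩
  by_cases hp : p = 0
  · exact Or.inl hp
  right
  have hx'0 : x' ≠ 0 := fun h => htr (h ▸ isAlgebraic_zero)
  obtain ⟨-, ⟨P₀, hP₀⟩⟩ := exists_zero_and_exists_pole hK x'
    (fun ⟨a, ha⟩ => htr (ha ▸ isAlgebraic_algebraMap a))
  have hval : P₀.1 x' = WithZero.exp (-P₀.ord x') := val_eq_exp_neg_ord P₀ hx'0
  have hP₀' : 1 < P₀.1 x' := by
    rw [hval, ← WithZero.exp_zero, WithZero.exp_lt_exp]
    omega
  have h1 := val_aeval_of_one_lt P₀ hP₀' hp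
  have hu : P₀.1 x'⁻¹ ≤ 1 := by
    rw [map_inv₀]
    exact (inv_lt_one_of_one_lt₀ hP₀').le
  have h2 : P₀.1 (aeval x'⁻¹ q) ≤ 1 := val_aeval_le_one P₀ hu q
  have h3 := congrArg P₀.1 h
  simp only [AlgHom.toRingHom_eq_coe, RingHom.coe_coe] at h3
  rw [map_mul, map_mul, map_pow, map_pow, h1, map_inv₀, hval] at h3
  have h4 : WithZero.exp (-P₀.ord x') ^ p.natDegree * (WithZero.exp (-P₀.ord x'))⁻¹ ^ n ≤
      (WithZero.exp (-P₀.ord x'))⁻¹ ^ j := by
    rw [h3]
    exact mul_le_of_le_one_left' h2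
  rw [← WithZero.exp_neg, ← WithZero.exp_nsmul, ← WithZero.exp_nsmul, ← WithZero.exp_nsmul,
    ← WithZero.exp_add, WithZero.exp_le_exp] at h4
  simp only [nsmul_eq_mul, neg_neg] at h4
  have hpos : 0 < -P₀.ord x' := by omega
  by_contra hcon
  push Not at hcon
  have : (n : ℤ) + 1 ≤ p.natDegree + j := by exact_mod_cast hcon
  nlinarith

/-- `y` is integral over `k[x']` and `y/x'` over `k[1/x']` in the adapted coordinates. -/
theorem isIntegral_plane_coords (hK : FunFld.IsFunctionField k K) {x y : K} {c : k}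
    (htr : Transcendental k (x + algebraMap k K c * y))
    (hc : ∀ P : FunFld.Place k K, max 1 (P.1 (x + algebraMap k K c * y)) =
      max 1 (max (P.1 x) (P.1 y))) :
    IsIntegral ↥(Algebra.adjoin k ({x + algebraMap k K c * y} : Set K)) y ∧
    IsIntegral ↥(Algebra.adjoin k ({(x + algebraMap k K c * y)⁻¹} : Set K))
      (y * (x + algebraMap k K c * y)⁻¹) := by
  have hx'0 : x + algebraMap k K c * y ≠ 0 := fun h => htr (h ▸ isAlgebraic_zero)
  constructor
  · refine isIntegral_of_forall_place hK _ (fun P hP => ?_)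
    have hPx' : P.1 (x + algebraMap k K c * y) ≤ 1 :=
      hP _ (Algebra.self_mem_adjoin_singleton k _)
    have h1 : max 1 (max (P.1 x) (P.1 y)) = 1 := by rw [← hc P]; exact max_eq_left hPx'
    have h2 := le_max_right 1 (max (P.1 x) (P.1 y))
    rw [h1] at h2
    exact (le_max_right _ _).trans h2
  · refine isIntegral_of_forall_place hK _ (fun P hP => ?_)
    have hPu : P.1 (x + algebraMap k K c * y)⁻¹ ≤ 1 :=
      hP _ (Algebra.self_mem_adjoin_singleton k _)
    have h0 : P.1 (x + algebraMap k K c * y) ≠ 0 := (Valuation.ne_zero_iff _).2 hx'0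
    rw [map_inv₀] at hPu
    have hPx' : 1 ≤ P.1 (x + algebraMap k K c * y) := (inv_le_one₀ (zero_lt_iff.2 h0)).1 hPu
    have h1 : max 1 (max (P.1 x) (P.1 y)) = P.1 (x + algebraMap k K c * y) := by
      rw [← hc P]; exact max_eq_right hPx'
    have h2 := le_max_right 1 (max (P.1 x) (P.1 y))
    rw [h1] at h2
    rw [map_mul, map_inv₀]
    exact mul_inv_le_one_of_le₀ ((le_max_right _ _).trans h2) zero_le

/-- For a plane model nonsingular at every place, `L(nD)` is spanned by the monomials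
`x'^i y^j`, `j < d`, `i + j ≤ n`. -/
theorem mem_span_monomials_of_mem_L (hK : FunFld.IsFunctionField k K) {x y : K} {c : k}
    (htr : Transcendental k (x + algebraMap k K c * y))
    (hc : ∀ P : FunFld.Place k K, max 1 (P.1 (x + algebraMap k K c * y)) =
      max 1 (max (P.1 x) (P.1 y)))
    (hM : ∀ P : FunFld.Place k K, WithZero.exp (FunFld.mapDiv k ![(1 : K), x, y] P) =
      max 1 (max (P.1 x) (P.1 y)))
    (hns : ∀ P : FunFld.Place k K, FunFld.IsNonsingularAt ![(1 : K), x, y] P)
    (hgen : (↥k⟮x + algebraMap k K c * y⟯)⟮y⟯ = ⊤) {d : ℕ}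
    (hd : Module.finrank ↥k⟮x + algebraMap k K c * y⟯ K = d) {n : ℕ} {z : K}
    (hz : z ∈ FunFld.L (n • FunFld.mapDiv k ![(1 : K), x, y])) :
    z ∈ Submodule.span k (Set.range fun s : (Σ j : Fin d, Fin (n + 1 - j)) =>
      (x + algebraMap k K c * y) ^ (s.2 : ℕ) * y ^ (s.1 : ℕ)) := by
  have hx'0 : x + algebraMap k K c * y ≠ 0 := fun h => htr (h ▸ isAlgebraic_zero)
  haveI hfd : FiniteDimensional ↥k⟮x + algebraMap k K c * y⟯ K :=
    finiteDimensional_adjoin_of_transcendental hK htr
  have htru : Transcendental k (x + algebraMap k K c * y)⁻¹ := fun h => htr (by simpa using h.inv)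
  haveI hfdu : FiniteDimensional ↥k⟮(x + algebraMap k K c * y)⁻¹⟯ K :=
    finiteDimensional_adjoin_of_transcendental hK htru
  have hz0 := mem_adjoin_of_mem_L_of_nonsingular hK htr hc hM hns hz
  have hz1 := mul_inv_pow_mem_adjoin_of_mem_L_of_nonsingular hK htr hc hM hns hz
  obtain ⟨hinty, hintw⟩ := isIntegral_plane_coords hK htr hc
  have hd0 : (minpoly ↥k⟮x + algebraMap k K c * y⟯ y).natDegree = d := by
    rw [← hd, ← IntermediateField.adjoin.finrank (Algebra.IsIntegral.isIntegral y), hgen,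
      IntermediateField.finrank_top']
  -- the same for `w = y/x'` over `k(1/x')`
  have hgenu : (↥k⟮(x + algebraMap k K c * y)⁻¹⟯)⟮y * (x + algebraMap k K c * y)⁻¹⟯ = ⊤ := by
    rw [← IntermediateField.restrictScalars_eq_top_iff (K := k),
      IntermediateField.adjoin_simple_adjoin_simple, eq_top_iff]
    have h1 : (⊤ : IntermediateField k K) =
        IntermediateField.adjoin k ({x + algebraMap k K c * y, y} : Set K) := by
      rw [← IntermediateField.adjoin_simple_adjoin_simple, hgen]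
      rfl
    rw [h1, IntermediateField.adjoin_le_iff]
    have hum : (x + algebraMap k K c * y)⁻¹ ∈ IntermediateField.adjoin k
        ({(x + algebraMap k K c * y)⁻¹, y * (x + algebraMap k K c * y)⁻¹} : Set K) :=
      IntermediateField.subset_adjoin k _ (by simp)
    have hwm : y * (x + algebraMap k K c * y)⁻¹ ∈ IntermediateField.adjoin k
        ({(x + algebraMap k K c * y)⁻¹, y * (x + algebraMap k K c * y)⁻¹} : Set K) :=
      IntermediateField.subset_adjoin k _ (by simp)
    rintro s (rfl | rfl)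
    · have := inv_mem hum
      rwa [inv_inv] at this
    · have h2 := mul_mem hwm (inv_mem hum)
      rwa [inv_inv, mul_assoc, inv_mul_cancel₀ hx'0, mul_one] at h2
  have hdu : Module.finrank ↥k⟮(x + algebraMap k K c * y)⁻¹⟯ K = d := by
    have h1 := (deg_zeroDiv_eq_and_deg_poleDiv_eq hK htru).1
    have h2 := (deg_zeroDiv_eq_and_deg_poleDiv_eq hK htr).2
    rw [← poleDiv_eq_zeroDiv_inv hK, h2, hd] at h1
    exact_mod_cast h1.symm
  have hd1 : (minpoly ↥k⟮(x + algebraMap k K c * y)⁻¹⟯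
      (y * (x + algebraMap k K c * y)⁻¹)).natDegree = d := by
    rw [← hdu, ← IntermediateField.adjoin.finrank (Algebra.IsIntegral.isIntegral _), hgenu,
      IntermediateField.finrank_top']
  obtain ⟨cc, hcc, hzc⟩ := exists_coeffs_of_mem_adjoin_pair htr hinty hd0 hz0
  obtain ⟨ee, hee, hze⟩ := exists_coeffs_of_mem_adjoin_pair htru hintw hd1 hz1
  -- compare coefficients
  have hcomb : ∑ j ∈ Finset.range d,
      (cc j * (x + algebraMap k K c * y)⁻¹ ^ n - ee j * (x + algebraMap k K c * y)⁻¹ ^ j) *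
        y ^ j = 0 := by
    have h1 : ∑ j ∈ Finset.range d, cc j * (x + algebraMap k K c * y)⁻¹ ^ n * y ^ j =
        z * (x + algebraMap k K c * y)⁻¹ ^ n := by
      rw [hzc, Finset.sum_mul]
      refine Finset.sum_congr rfl fun j _ => ?_
      ring
    have h2 : ∑ j ∈ Finset.range d, ee j * (x + algebraMap k K c * y)⁻¹ ^ j * y ^ j =
        z * (x + algebraMap k K c * y)⁻¹ ^ n := by
      rw [hze]
      refine Finset.sum_congr rfl fun j _ => ?_
      rw [mul_pow]
      ring
    simp only [sub_mul]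
    rw [Finset.sum_sub_distrib, h1, h2, sub_self]
  have hxmem : (x + algebraMap k K c * y)⁻¹ ∈ k⟮x + algebraMap k K c * y⟯ :=
    inv_mem (IntermediateField.mem_adjoin_simple_self k _)
  have hle0 : Algebra.adjoin k ({x + algebraMap k K c * y} : Set K) ≤
      (k⟮x + algebraMap k K c * y⟯).toSubalgebra :=
    Algebra.adjoin_le (by
      rintro s rfl
      exact IntermediateField.mem_adjoin_simple_self k _)
  have hle1 : Algebra.adjoin k ({(x + algebraMap k K c * y)⁻¹} : Set K) ≤
      (k⟮x + algebraMap k K c * y⟯).toSubalgebra :=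
    Algebra.adjoin_le (by
      rintro s rfl
      exact hxmem)
  have hcoef := eq_zero_of_sum_mul_pow_eq_zero (F := k⟮x + algebraMap k K c * y⟯) hd0 _
    (fun j => sub_mem (mul_mem (hle0 (hcc j)) (pow_mem hxmem n))
      (mul_mem (hle1 (hee j)) (pow_mem hxmem j))) hcomb
  rw [hzc]
  refine Submodule.sum_mem _ (fun j hj => ?_)
  have hjd : j < d := Finset.mem_range.1 hj
  obtain ⟨p, hp, hpdeg⟩ := natDegree_add_le_of_mul_inv_pow_eq hK htr (hcc j) (hee j)
    (sub_eq_zero.1 (hcoef j hjd))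
  rcases hpdeg with rfl | hpdeg
  · rw [hp, map_zero, zero_mul]
    exact Submodule.zero_mem _
  · rw [hp, aeval_eq_sum_range, Finset.sum_mul]
    refine Submodule.sum_mem _ (fun i hi => ?_)
    rw [smul_mul_assoc]
    refine Submodule.smul_mem _ _ (Submodule.subset_span ?_)
    have hi' : i < p.natDegree + 1 := Finset.mem_range.1 hi
    exact ⟨⟨⟨j, hjd⟩, ⟨i, by simp only; omega⟩⟩, rfl⟩

/-- A plane model nonsingular at every place has `2g = (d-1)(d-2)`. -/
theorem two_mul_genus_eq_of_nonsingular_plane (hK : FunFld.IsFunctionField k K) [Infinite k]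
    (x y : K) (hxy : IntermediateField.adjoin k ({x, y} : Set K) = ⊤)
    (hns : ∀ P : FunFld.Place k K, FunFld.IsNonsingularAt ![(1 : K), x, y] P) :
    2 * (FunFld.genus k K : ℤ) =
      ((FunFld.mapDiv k ![(1 : K), x, y]).deg - 1) *
        ((FunFld.mapDiv k ![(1 : K), x, y]).deg - 2) := by
  classical
  apply le_antisymm (two_mul_genus_le_of_plane hK x y hxy)
  obtain ⟨c, htr, hc, hM, hgen, hdeg⟩ := exists_plane_coords hK x y hxy
  haveI hfd : FiniteDimensional ↥k⟮x + algebraMap k K c * y⟯ K :=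
    finiteDimensional_adjoin_of_transcendental hK htr
  have hd1 : 1 ≤ Module.finrank ↥k⟮x + algebraMap k K c * y⟯ K := Module.finrank_pos
  generalize hd : Module.finrank ↥k⟮x + algebraMap k K c * y⟯ K = d at hdeg hd1
  generalize hn : d + 2 * FunFld.genus k K = n
  have hle : FunFld.L (n • FunFld.mapDiv k ![(1 : K), x, y]) ≤
      Submodule.span k (Set.range fun s : (Σ j : Fin d, Fin (n + 1 - j)) =>
        (x + algebraMap k K c * y) ^ (s.2 : ℕ) * y ^ (s.1 : ℕ)) :=
    fun z hz => mem_span_monomials_of_mem_L hK htr hc hM hns hgen hd hz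
  haveI : FiniteDimensional k ↥(Submodule.span k (Set.range
      fun s : (Σ j : Fin d, Fin (n + 1 - j)) =>
        (x + algebraMap k K c * y) ^ (s.2 : ℕ) * y ^ (s.1 : ℕ))) :=
    FiniteDimensional.span_of_finite k (Set.finite_range _)
  have h1 := Submodule.finrank_mono hle
  have h2 := finrank_range_le_card (R := k) (fun s : (Σ j : Fin d, Fin (n + 1 - j)) =>
        (x + algebraMap k K c * y) ^ (s.2 : ℕ) * y ^ (s.1 : ℕ))
  have hcard := h1.trans h2
  rw [Fintype.card_sigma] at hcard
  simp only [Fintype.card_fin] at hcard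
  rw [Fin.sum_univ_eq_sum_range (fun j => n + 1 - j) d] at hcard
  have hsum := two_mul_sum_range_sub n d (by omega)
  have hcard' : (FunFld.ell (n • FunFld.mapDiv k ![(1 : K), x, y]) : ℤ) ≤
      (∑ j ∈ Finset.range d, ((n + 1 - j : ℕ) : ℤ)) := by
    have := (Nat.cast_le (α := ℤ)).2 hcard
    rw [Nat.cast_sum] at this
    exact this
  have hdegn : (n • FunFld.mapDiv k ![(1 : K), x, y]).deg = (n : ℤ) * d := by
    rw [deg_nsmul, hdeg]
  have hnz : (n : ℤ) = d + 2 * FunFld.genus k K := by rw [← hn]; push_cast; ring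
  have hd1z : (1 : ℤ) ≤ d := by exact_mod_cast hd1
  have hell := ell_eq_of_deg_ge hK (n • FunFld.mapDiv k ![(1 : K), x, y]) (by
    rw [hdegn]
    nlinarith [Nat.cast_nonneg (α := ℤ) (FunFld.genus k K)])
  rw [hdegn] at hell
  rw [hdeg]
  nlinarith [hsum, hcard', hell]

/-- The genus of a function field with a nonsingular plane model is a triangular number. -/
theorem exists_triangular_of_nonsingular_plane (hK : FunFld.IsFunctionField k K) [Infinite k]
    (x y : K) (hxy : IntermediateField.adjoin k ({x, y} : Set K) = ⊤)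
    (hns : ∀ P : FunFld.Place k K, FunFld.IsNonsingularAt ![(1 : K), x, y] P) :
    ∃ m : ℕ, 2 * FunFld.genus k K = m * (m + 1) := by
  have heq := two_mul_genus_eq_of_nonsingular_plane hK x y hxy hns
  obtain ⟨c, htr, -, -, -, hdeg⟩ := exists_plane_coords hK x y hxy
  haveI hfd : FiniteDimensional ↥k⟮x + algebraMap k K c * y⟯ K :=
    finiteDimensional_adjoin_of_transcendental hK htr
  have hd1 : 1 ≤ Module.finrank ↥k⟮x + algebraMap k K c * y⟯ K := Module.finrank_pos
  generalize Module.finrank ↥k⟮x + algebraMap k K c * y⟯ K = d at hdeg hd1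
  rw [hdeg] at heq
  rcases Nat.lt_or_ge d 2 with h | h
  · have hd : d = 1 := by omega
    subst hd
    refine ⟨0, ?_⟩
    have : 2 * (FunFld.genus k K : ℤ) = 0 := by rw [heq]; norm_num
    omega
  · refine ⟨d - 2, ?_⟩
    have h2 : ((d - 2 : ℕ) : ℤ) = (d : ℤ) - 2 := by omega
    have : (2 * FunFld.genus k K : ℤ) = ((d - 2 : ℕ) : ℤ) * (((d - 2 : ℕ) : ℤ) + 1) := by
      rw [heq, h2]; ring
    exact_mod_cast this

end Assembly

end Groth.Agent.Lib.H40FunFld
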