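/-
Degree of a plane model of a function field (helper70): the affine relation ideal of `(x, y)` is
generated by any irreducible relation; the degree of the divisor of the map `(1 : x : y)` is the
total degree of the irreducible relation.
-/
import Mathlib
import Groth.Agent.Lib.FunFldRelIdeal
import Groth.Agent.Lib.H40FunFldPlaneNonsing

set_option autoImplicit false

namespace Groth.Agent.Lib.FunFldPlaneDeg

open FunFld Groth.Agent.Lib.H40FunFld MvPolynomial Groth.Agent.Lib.FunFldRelIdeal IntermediateField

variable {k K : Type*} [Field k] [Field K] [Algebra k K]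

section Affine

variable [IsAlgClosed k]

/-- the affine relation ideal of a pair `(x, y)`, not both constant, is generated by any
irreducible relation -/
theorem ker_aeval_eq_span_of_irreducible (x y : K)
    (hnd : ¬ (x ∈ Set.range (algebraMap k K) ∧ y ∈ Set.range (algebraMap k K)))
    {f : MvPolynomial (Fin 2) k} (hf : Irreducible f)
    (hfxy : MvPolynomial.aeval ![x, y] f = 0) :
    RingHom.ker (MvPolynomial.aeval (R := k) ![x, y]) = Ideal.span {f} := by
  classical
  set 𝔞 := RingHom.ker (MvPolynomial.aeval (R := k) ![x, y]) with h𝔞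
  have hprime : 𝔞.IsPrime := RingHom.ker_isPrime _
  have hfm : f ∈ 𝔞 := hfxy
  have hfp : Prime f := hf.prime
  by_contra hne'
  have hle : Ideal.span {f} ≤ 𝔞 := (Ideal.span_singleton_le_iff_mem _).2 hfm
  have hlt1 : Ideal.span {f} < 𝔞 := lt_of_le_of_ne hle (Ne.symm hne')
  have hlt0 : (⊥ : Ideal (MvPolynomial (Fin 2) k)) < Ideal.span {f} := by
    rw [bot_lt_iff_ne_bot, Ne, Ideal.span_singleton_eq_bot]
    exact hfp.ne_zero
  obtain ⟨𝔪, h𝔪, h𝔞𝔪⟩ := Ideal.exists_le_maximal 𝔞 hprime.ne_top
  have hlt2 : 𝔞 < 𝔪 := by
    refine lt_of_le_of_ne h𝔞𝔪 ?_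
    intro heq
    obtain ⟨pt, hpt⟩ := (MvPolynomial.isMaximal_iff_eq_vanishingIdeal_singleton (K := k)).1 h𝔪
    apply hnd
    have h0 : (X 0 - C (pt 0) : MvPolynomial (Fin 2) k) ∈ 𝔞 := by
      rw [heq, hpt, MvPolynomial.mem_vanishingIdeal_singleton_iff]
      simp
    have h1 : (X 1 - C (pt 1) : MvPolynomial (Fin 2) k) ∈ 𝔞 := by
      rw [heq, hpt, MvPolynomial.mem_vanishingIdeal_singleton_iff]
      simp
    rw [h𝔞, RingHom.mem_ker, map_sub, aeval_X, aeval_C] at h0 h1
    exact ⟨⟨pt 0, (sub_eq_zero.mp h0).symm⟩, ⟨pt 1, (sub_eq_zero.mp h1).symm⟩⟩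
  have hprimef : (Ideal.span {f}).IsPrime := (Ideal.span_singleton_prime hfp.ne_zero).2 hfp
  let q : Fin 4 → PrimeSpectrum (MvPolynomial (Fin 2) k) :=
    ![⟨⊥, Ideal.isPrime_bot⟩, ⟨Ideal.span {f}, hprimef⟩, ⟨𝔞, hprime⟩, ⟨𝔪, h𝔪.isPrime⟩]
  have hq : StrictMono q := by
    rw [Fin.strictMono_iff_lt_succ]
    intro i
    fin_cases i
    · exact hlt0
    · exact hlt1
    · exact hlt2
  have h1 := Order.LTSeries.length_le_krullDim (LTSeries.mk 3 q hq)
  have h2 : ringKrullDim (MvPolynomial (Fin 2) k) = 2 := by
    rw [MvPolynomial.ringKrullDim_of_isNoetherianRing, ringKrullDim_eq_zero_of_field]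
    simp
  rw [ringKrullDim] at h2
  rw [h2] at h1
  norm_num at h1

end Affine

section Coord

open Polynomial in
/-- the substitution `X₀ ↦ Z - c Y`, `X₁ ↦ Y` into `k[Z][Y]` -/
noncomputable def Psi (c : k) : MvPolynomial (Fin 2) k →ₐ[k] Polynomial (Polynomial k) :=
  MvPolynomial.aeval ![Polynomial.C Polynomial.X - Polynomial.C (Polynomial.C c) * Polynomial.X,
    Polynomial.X]

/-- evaluation `Z ↦ z`, `Y ↦ y` -/
noncomputable def Ev (z y : K) : Polynomial (Polynomial k) →ₐ[k] K :=
  ((Polynomial.aeval y : Polynomial K →ₐ[K] K).restrictScalars k).comp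
    (Polynomial.mapAlgHom (Polynomial.aeval z : Polynomial k →ₐ[k] K))

theorem Ev_apply (z y : K) (H : Polynomial (Polynomial k)) :
    Ev z y H = Polynomial.eval y (H.map (Polynomial.aeval z : Polynomial k →ₐ[k] K).toRingHom) := by
  simp [Ev, Polynomial.aeval_def, Polynomial.eval₂_eq_eval_map]

theorem Ev_Psi (c : k) (x y : K) (G : MvPolynomial (Fin 2) k) :
    Ev (x + algebraMap k K c * y) y (Psi c G) = MvPolynomial.aeval ![x, y] G := by
  have : (Ev (x + algebraMap k K c * y) y).comp (Psi c) =
      (MvPolynomial.aeval ![x, y] : MvPolynomial (Fin 2) k →ₐ[k] K) := by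
    apply MvPolynomial.algHom_ext
    intro i
    fin_cases i
    · simp [Ev, Psi]
    · simp [Ev, Psi]
  exact congrArg (fun φ => φ G) this

/-- the inverse substitution -/
noncomputable def PsiInv (c : k) : Polynomial (Polynomial k) →ₐ[k] MvPolynomial (Fin 2) k :=
  ((Polynomial.aeval (X 1 : MvPolynomial (Fin 2) k) :
      Polynomial (MvPolynomial (Fin 2) k) →ₐ[MvPolynomial (Fin 2) k]
        MvPolynomial (Fin 2) k).restrictScalars k).comp
    (Polynomial.mapAlgHom
      (Polynomial.aeval (X 0 + C c * X 1 : MvPolynomial (Fin 2) k) :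
        Polynomial k →ₐ[k] MvPolynomial (Fin 2) k))

theorem Psi_PsiInv (c : k) (H : Polynomial (Polynomial k)) : Psi c (PsiInv c H) = H := by
  have : ((Psi c).comp (PsiInv c)).toRingHom = RingHom.id _ := by
    apply Polynomial.ringHom_ext
    · intro a
      induction a using Polynomial.induction_on' with
      | add p q hp hq =>
        simp only [map_add] at hp hq ⊢
        rw [hp, hq]
      | monomial n a =>
        simp [PsiInv, Psi, Polynomial.C_mul_X_pow_eq_monomial.symm]
    · simp [PsiInv, Psi]
  exact congrArg (fun φ => φ H) this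

theorem natDegree_Psi_le (c : k) (F : MvPolynomial (Fin 2) k) :
    (Psi c F).natDegree ≤ F.totalDegree := by
  classical
  rw [F.as_sum, map_sum]
  refine Polynomial.natDegree_sum_le_of_forall_le _ _ fun m hm => ?_
  rw [← F.as_sum]
  unfold Psi
  rw [aeval_monomial]
  refine (Polynomial.natDegree_mul_le).trans ?_
  have h1 : (algebraMap k (Polynomial (Polynomial k)) (coeff m F)).natDegree = 0 := by
    rw [Polynomial.algebraMap_apply]; exact Polynomial.natDegree_C _
  rw [h1, zero_add, Finsupp.prod]
  refine (Polynomial.natDegree_prod_le _ _).trans ?_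
  have h2 : ∀ i ∈ m.support,
      ((![Polynomial.C Polynomial.X - Polynomial.C (Polynomial.C c) * Polynomial.X,
        Polynomial.X] : Fin 2 → Polynomial (Polynomial k)) i ^ m i).natDegree ≤ m i := by
    intro i _
    refine (Polynomial.natDegree_pow_le).trans ?_
    have h3 : ((![Polynomial.C Polynomial.X - Polynomial.C (Polynomial.C c) * Polynomial.X,
        Polynomial.X] : Fin 2 → Polynomial (Polynomial k)) i).natDegree ≤ 1 := by
      fin_cases i
      · simp only [Fin.zero_eta, Matrix.cons_val_zero]
        refine (Polynomial.natDegree_sub_le _ _).trans (max_le ?_ ?_)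
        · rw [Polynomial.natDegree_C]; exact Nat.zero_le _
        · exact (Polynomial.natDegree_C_mul_le _ _).trans Polynomial.natDegree_X_le
      · simp only [Fin.mk_one, Matrix.cons_val_one, Matrix.cons_val_zero]
        exact Polynomial.natDegree_X_le
    calc m i * _ ≤ m i * 1 := Nat.mul_le_mul_left _ h3
      _ = m i := mul_one _
  refine (Finset.sum_le_sum h2).trans ?_
  exact le_totalDegree hm

/-- the top coefficient of `Psi c f` specializes at `Z = 0` to the value of the top form -/
theorem eval_zero_coeff_Psi (c : k) (F : MvPolynomial (Fin 2) k) (d : ℕ) :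
    Polynomial.eval 0 ((Psi c F).coeff d) =
      MvPolynomial.aeval ![-c, 1] (homogeneousComponent d F) := by
  have h1 : (Polynomial.mapRingHom (Polynomial.evalRingHom (0 : k))).comp (Psi c).toRingHom =
      (relHom k ![-c, (1 : k)]).toRingHom := by
    apply MvPolynomial.ringHom_ext
    · intro a
      simp [Psi, relHom]
    · intro i
      fin_cases i
      · simp [Psi, relHom]
      · simp [Psi, relHom]
  have h2 := congrArg (fun φ => (φ F).coeff d) h1
  simp only [RingHom.comp_apply, AlgHom.toRingHom_eq_coe, RingHom.coe_coe,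
    Polynomial.coe_mapRingHom, Polynomial.coeff_map, Polynomial.coe_evalRingHom] at h2
  rw [h2, coeff_relHom]

/-- a nonzero binary form vanishes at only finitely many points `(-c : 1)` -/
theorem finite_bad [Infinite k] {F : MvPolynomial (Fin 2) k} {d : ℕ} (hF : F.IsHomogeneous d)
    (hF0 : F ≠ 0) : {c : k | MvPolynomial.aeval ![-c, (1 : k)] F = 0}.Finite := by
  classical
  set q : Polynomial k :=
    MvPolynomial.aeval ![-Polynomial.X, (1 : Polynomial k)] F with hq
  have heval : ∀ c : k, Polynomial.eval c q = MvPolynomial.aeval ![-c, (1 : k)] F := by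
    intro c
    have : ((Polynomial.aeval c : Polynomial k →ₐ[k] k)).comp
        (MvPolynomial.aeval ![-Polynomial.X, (1 : Polynomial k)]) =
        (MvPolynomial.aeval ![-c, (1 : k)] : MvPolynomial (Fin 2) k →ₐ[k] k) := by
      apply MvPolynomial.algHom_ext
      intro i
      fin_cases i
      · simp
      · simp
    have h2 := congrArg (fun φ => φ F) this
    simpa [Polynomial.aeval_def, Polynomial.eval₂_eq_eval_map] using h2
  have hq0 : q ≠ 0 := by
    intro h0
    have hall : ∀ c : k, MvPolynomial.aeval ![-c, (1 : k)] F = 0 := by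
      intro c; rw [← heval, h0, Polynomial.eval_zero]
    have hXF : (X 1 * F : MvPolynomial (Fin 2) k) = 0 := by
      have hhom : (X 1 * F : MvPolynomial (Fin 2) k).IsHomogeneous (1 + d) :=
        (isHomogeneous_X _ _).mul hF
      apply hhom.eq_zero_of_forall_eval_eq_zero
      intro r
      rw [map_mul, eval_X]
      by_cases hb : r 1 = 0
      · rw [hb, zero_mul]
      · have h1 := aeval_mul_of_isHomogeneous (K := k) ![r 0 / r 1, 1] (r 1) hF
        have h2 : (fun i => (![r 0 / r 1, 1] : Fin 2 → k) i * r 1) = r := by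
          ext i
          fin_cases i
          · simp; field_simp
          · simp
        rw [h2] at h1
        have h3 := hall (-(r 0 / r 1))
        rw [neg_neg] at h3
        rw [← MvPolynomial.aeval_eq_eval, h1, h3, zero_mul, mul_zero]
    rcases mul_eq_zero.mp hXF with h | h
    · exact X_ne_zero _ h
    · exact hF0 h
  refine (Polynomial.roots q).toFinset.finite_toSet.subset ?_
  intro c hc
  rw [Set.mem_ofPred_eq] at hc
  simp only [Finset.mem_coe, Multiset.mem_toFinset, Polynomial.mem_roots hq0,
    Polynomial.IsRoot.def]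
  rw [heval]; exact hc

end Coord

section Generic

/-- all but finitely many linear changes of coordinates make the divisor of the plane map the
pole divisor of `x + c y` (after `H40FunFldPlaneGenus.exists_coord_change`) -/
theorem finite_bad_coord (hK : FunFld.IsFunctionField k K) (x y : K) :
    ∃ B : Set k, B.Finite ∧ ∀ c ∉ B, ∀ P : FunFld.Place k K,
      max 1 (P.1 (x + algebraMap k K c * y)) = max 1 (max (P.1 x) (P.1 y)) := by
  classical
  set D := FunFld.mapDiv k ![(1 : K), x, y] with hD
  have hM : ∀ P : FunFld.Place k K, WithZero.exp (D P) = max 1 (max (P.1 x) (P.1 y)) :=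
    fun P => exp_mapDiv_plane hK x y P
  have hsub : ∀ P : FunFld.Place k K, 1 < max 1 (max (P.1 x) (P.1 y)) →
      {c : k | P.1 (x + algebraMap k K c * y) < max 1 (max (P.1 x) (P.1 y))}.Subsingleton := by
    intro P h1 c₁ hc₁ c₂ hc₂
    by_contra hne
    rw [Set.mem_ofPred_eq] at hc₁ hc₂
    have hsubv : P.1 (algebraMap k K (c₁ - c₂) * y) < max 1 (max (P.1 x) (P.1 y)) := by
      have e : algebraMap k K (c₁ - c₂) * y =
          (x + algebraMap k K c₁ * y) - (x + algebraMap k K c₂ * y) := by
        rw [map_sub]; ring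
      rw [e]
      exact (Valuation.map_sub _ _ _).trans_lt (max_lt hc₁ hc₂)
    rw [map_mul, val_algebraMap P (sub_ne_zero.2 hne), one_mul] at hsubv
    have hx : P.1 x < max 1 (max (P.1 x) (P.1 y)) := by
      have e : (x + algebraMap k K c₁ * y) - algebraMap k K c₁ * y = x := by ring
      have h2 : P.1 ((x + algebraMap k K c₁ * y) - algebraMap k K c₁ * y) <
          max 1 (max (P.1 x) (P.1 y)) := by
        refine (Valuation.map_sub _ _ _).trans_lt (max_lt hc₁ ?_)
        rw [map_mul]
        exact (mul_le_of_le_one_left' (val_algebraMap_le P c₁)).trans_lt hsubv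
      rwa [e] at h2
    exact lt_irrefl _ (max_lt h1 (max_lt hx hsubv))
  have hfin : (⋃ P ∈ D.support,
      {c : k | P.1 (x + algebraMap k K c * y) < max 1 (max (P.1 x) (P.1 y))}).Finite := by
    refine Set.Finite.biUnion D.support.finite_toSet (fun P hP => ?_)
    apply Set.Subsingleton.finite
    apply hsub
    have hP' : D P ≠ 0 := Finsupp.mem_support_iff.1 hP
    rw [← hM P]
    have h0 : (1 : WithZero (Multiplicative ℤ)) ≤ WithZero.exp (D P) := by
      rw [hM P]; exact le_max_left _ _
    refine lt_of_le_of_ne h0 (fun h => hP' ?_)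
    exact (WithZero.exp_eq_one.1 h.symm)
  refine ⟨_, hfin, fun c hc P => ?_⟩
  have hle : P.1 (x + algebraMap k K c * y) ≤ max (P.1 x) (P.1 y) := by
    refine (Valuation.map_add _ _ _).trans (max_le_max le_rfl ?_)
    rw [map_mul]
    exact mul_le_of_le_one_left' (val_algebraMap_le P c)
  by_cases hP : D P = 0
  · have h1 : max 1 (max (P.1 x) (P.1 y)) = 1 := by rw [← hM P, hP, WithZero.exp_zero]
    rw [h1]
    apply max_eq_left
    have := le_max_right 1 (max (P.1 x) (P.1 y))
    rw [h1] at this
    exact hle.trans this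
  · have hnb : ¬ P.1 (x + algebraMap k K c * y) < max 1 (max (P.1 x) (P.1 y)) := by
      intro hb
      apply hc
      rw [Set.mem_iUnion₂]
      exact ⟨P, Finsupp.mem_support_iff.2 hP, hb⟩
    rw [not_lt] at hnb
    apply le_antisymm
    · exact max_le (le_max_left _ _) (hle.trans (le_max_right _ _))
    · exact hnb.trans (le_max_right _ _)

/-- for a good constant `c`, the data of `H40FunFld.exists_plane_coords` -/
theorem plane_coords_of_good (hK : FunFld.IsFunctionField k K) (x y : K)
    (hxy : IntermediateField.adjoin k ({x, y} : Set K) = ⊤) {c : k}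
    (hc : ∀ P : FunFld.Place k K,
      max 1 (P.1 (x + algebraMap k K c * y)) = max 1 (max (P.1 x) (P.1 y))) :
    Transcendental k (x + algebraMap k K c * y) ∧
      (↥k⟮x + algebraMap k K c * y⟯)⟮y⟯ = ⊤ ∧
      (FunFld.mapDiv k ![(1 : K), x, y]).deg =
        Module.finrank ↥k⟮x + algebraMap k K c * y⟯ K := by
  classical
  have hM : ∀ P : FunFld.Place k K, WithZero.exp (FunFld.mapDiv k ![(1 : K), x, y] P) =
      max 1 (max (P.1 x) (P.1 y)) := fun P => exp_mapDiv_plane hK x y P
  have hDeq : FunFld.mapDiv k ![(1 : K), x, y] = poleDiv (x + algebraMap k K c * y) := by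
    ext P
    apply WithZero.exp_injective
    rw [hM P, exp_poleDiv hK, hc P]
  have hvy : ∀ P : FunFld.Place k K, P.1 y ≤
      WithZero.exp (FunFld.mapDiv k ![(1 : K), x, y] P) := fun P => by
    rw [hM P]; exact (le_max_right _ _).trans (le_max_right _ _)
  have hxy' : IntermediateField.adjoin k ({x + algebraMap k K c * y, y} : Set K) = ⊤ := by
    rw [eq_top_iff, ← hxy, IntermediateField.adjoin_le_iff]
    have hxm : x + algebraMap k K c * y ∈
        IntermediateField.adjoin k ({x + algebraMap k K c * y, y} : Set K) :=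
      IntermediateField.subset_adjoin k _ (by simp)
    have hym : y ∈ IntermediateField.adjoin k ({x + algebraMap k K c * y, y} : Set K) :=
      IntermediateField.subset_adjoin k _ (by simp)
    rintro z (rfl | rfl)
    · have e : (z + algebraMap k K c * y) - algebraMap k K c * y = z := by ring
      have h3 := sub_mem hxm (mul_mem (IntermediateField.algebraMap_mem _ c) hym)
      rwa [e] at h3
    · exact hym
  have htr : Transcendental k (x + algebraMap k K c * y) := by
    intro halg
    obtain ⟨a, ha⟩ := hK.2 _ halg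
    have hD0 : ∀ P : FunFld.Place k K,
        WithZero.exp (FunFld.mapDiv k ![(1 : K), x, y] P) = 1 := by
      intro P
      rw [hM P, ← hc P, ← ha]
      exact max_eq_left (val_algebraMap_le P a)
    have hyk : y ∈ (⊥ : IntermediateField k K) := by
      have hyL : y ∈ FunFld.L (0 : FunFld.Divisor k K) := by
        intro P
        rw [Finsupp.zero_apply, WithZero.exp_zero]
        exact (hvy P).trans_eq (hD0 P)
      rw [L_zero_eq_one hK, Submodule.mem_one] at hyL
      obtain ⟨b, hb⟩ := hyL
      rw [IntermediateField.mem_bot]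
      exact ⟨b, hb⟩
    have hx'k : x + algebraMap k K c * y ∈ (⊥ : IntermediateField k K) :=
      IntermediateField.mem_bot.2 ⟨a, ha⟩
    have htop : (⊤ : IntermediateField k K) ≤ ⊥ := by
      rw [← hxy', IntermediateField.adjoin_le_iff]
      rintro z (rfl | rfl)
      exacts [hx'k, hyk]
    obtain ⟨t, ht, -⟩ := hK.1
    obtain ⟨b, hb⟩ := IntermediateField.mem_bot.1 (htop (IntermediateField.mem_top (x := t)))
    exact ht (hb ▸ isAlgebraic_algebraMap b)
  refine ⟨htr, ?_, ?_⟩
  · rw [← IntermediateField.restrictScalars_eq_top_iff (K := k),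
      IntermediateField.adjoin_simple_adjoin_simple]
    exact hxy'
  · rw [hDeq]; exact (deg_zeroDiv_eq_and_deg_poleDiv_eq hK htr).2

end Generic

section Main

open IntermediateField.algebraAdjoinAdjoin

theorem homogeneousComponent_totalDegree_ne_zero {σ : Type*} {f : MvPolynomial σ k}
    (hf0 : f ≠ 0) : homogeneousComponent f.totalDegree f ≠ 0 := by
  classical
  have hne : f.support.Nonempty := by
    rw [Finset.nonempty_iff_ne_empty, Ne, support_eq_empty]; exact hf0
  obtain ⟨m, hm, hsup⟩ := Finset.exists_mem_eq_sup f.support hne (fun s => s.sum fun _ e => e)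
  intro h0
  have h1 := congrArg (coeff m) h0
  rw [coeff_homogeneousComponent, coeff_zero, if_pos] at h1
  · exact (mem_support_iff.mp hm) h1
  · rw [Finsupp.degree_apply]
    exact hsup.symm

variable [IsAlgClosed k]

/-- the degree of the divisor of the plane map `(1 : x : y)` is the total degree of the
irreducible relation between `x` and `y` -/
theorem deg_mapDiv_eq_totalDegree (hK : IsFunctionField k K) (x y : K)
    (hxy : IntermediateField.adjoin k ({x, y} : Set K) = ⊤) (f : MvPolynomial (Fin 2) k)
    (hf : Irreducible f) (hfxy : MvPolynomial.aeval ![x, y] f = 0) :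
    (FunFld.mapDiv k ![(1 : K), x, y]).deg = f.totalDegree := by
  classical
  set d := f.totalDegree with hd
  have hf0 : f ≠ 0 := hf.ne_zero
  have hfd0 : homogeneousComponent d f ≠ 0 := homogeneousComponent_totalDegree_ne_zero hf0
  obtain ⟨B, hBfin, hB⟩ := finite_bad_coord hK x y
  have hB2 := finite_bad (homogeneousComponent_isHomogeneous d f) hfd0
  obtain ⟨c, hc⟩ := (hBfin.union hB2).exists_notMem
  have hc1 : c ∉ B := fun h => hc (Or.inl h)
  have hc2 : MvPolynomial.aeval ![-c, (1 : k)] (homogeneousComponent d f) ≠ 0 :=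
    fun h => hc (Or.inr h)
  obtain ⟨htr, htop, hdeg⟩ := plane_coords_of_good hK x y hxy (hB c hc1)
  set z := x + algebraMap k K c * y with hz
  rw [hdeg]
  -- the affine relation ideal
  have hnd : ¬ (x ∈ Set.range (algebraMap k K) ∧ y ∈ Set.range (algebraMap k K)) := by
    rintro ⟨⟨a, ha⟩, ⟨b, hb⟩⟩
    apply htr
    rw [hz, ← ha, ← hb, ← map_mul, ← map_add]
    exact isAlgebraic_algebraMap _
  have hker := ker_aeval_eq_span_of_irreducible x y hnd hf hfxy
  have hcoeff : (Psi c f).coeff d ≠ 0 := by
    intro h0
    have := eval_zero_coeff_Psi c f d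
    rw [h0, Polynomial.eval_zero] at this
    exact hc2 this.symm
  have hPsi0 : Psi c f ≠ 0 := by
    intro h0; rw [h0, Polynomial.coeff_zero] at hcoeff; exact hcoeff rfl
  have hnat : (Psi c f).natDegree = d :=
    le_antisymm (natDegree_Psi_le c f) (Polynomial.le_natDegree_of_ne_zero hcoeff)
  have key : ∀ H : Polynomial (Polynomial k), H ≠ 0 → Ev z y H = 0 → d ≤ H.natDegree := by
    intro H hH0 hH
    have h1 : PsiInv c H ∈ RingHom.ker (MvPolynomial.aeval (R := k) ![x, y]) := by
      rw [RingHom.mem_ker, ← Ev_Psi c x y, Psi_PsiInv]; exact hH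
    rw [hker, Ideal.mem_span_singleton] at h1
    obtain ⟨q, hq⟩ := h1
    have h2 : H = Psi c f * Psi c q := by rw [← map_mul, ← hq, Psi_PsiInv]
    have hq0 : Psi c q ≠ 0 := by
      intro h; rw [h, mul_zero] at h2; exact hH0 h2
    rw [h2, Polynomial.natDegree_mul hPsi0 hq0, hnat]
    omega
  have hfd : FiniteDimensional ↥k⟮z⟯ K := finiteDimensional_adjoin_of_transcendental hK htr
  have hint : IsIntegral ↥k⟮z⟯ y := IsIntegral.of_finite _ _
  -- the upper bound
  have hup : Module.finrank ↥k⟮z⟯ K ≤ d := by
    have h1 := IntermediateField.adjoin.finrank hint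
    rw [htop, IntermediateField.finrank_top'] at h1
    rw [h1]
    let zF : ↥k⟮z⟯ := ⟨z, IntermediateField.mem_adjoin_simple_self k z⟩
    let ψ : Polynomial k →+* ↥k⟮z⟯ := (Polynomial.aeval zF : Polynomial k →ₐ[k] ↥k⟮z⟯).toRingHom
    have hψinj : Function.Injective ψ := by
      rw [injective_iff_map_eq_zero]
      intro p hp
      have h2 : Polynomial.aeval z p = 0 := by
        have h3 := congrArg (algebraMap ↥k⟮z⟯ K) hp
        rw [map_zero] at h3
        rw [← h3]
        show Polynomial.aeval z p = algebraMap ↥k⟮z⟯ K (Polynomial.aeval zF p)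
        rw [← Polynomial.aeval_algebraMap_apply]
        rfl
      exact (transcendental_iff.mp htr) p h2
    have hg0 : (Psi c f).map ψ ≠ 0 := by
      intro h0
      have := congrArg (fun p => Polynomial.coeff p d) h0
      simp only [Polynomial.coeff_map, Polynomial.coeff_zero] at this
      exact hcoeff (hψinj (by rw [this, map_zero]))
    have hcomp : (algebraMap ↥k⟮z⟯ K).comp ψ =
        (Polynomial.aeval z : Polynomial k →ₐ[k] K).toRingHom := by
      apply Polynomial.ringHom_ext
      · intro a; simp [ψ]
      · simp [ψ, zF]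
    have hroot : Polynomial.aeval y ((Psi c f).map ψ) = 0 := by
      rw [Polynomial.aeval_def, Polynomial.eval₂_map, hcomp, Polynomial.eval₂_eq_eval_map,
        ← Ev_apply, hz, Ev_Psi, hfxy]
    have h4 := minpoly.degree_le_of_ne_zero ↥k⟮z⟯ y hg0 hroot
    have h5 := Polynomial.natDegree_le_natDegree h4
    exact h5.trans ((Polynomial.natDegree_map_le).trans hnat.le)
  -- the lower bound
  have hlow : d ≤ Module.finrank ↥k⟮z⟯ K := by
    have hliA : LinearIndependent (Algebra.adjoin k ({z} : Set K)) (fun j : Fin d => y ^ (j : ℕ)) := by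
      rw [Fintype.linearIndependent_iff]
      intro g hg
      have hgm : ∀ j, ∃ p : Polynomial k, Polynomial.aeval z p = (g j : K) := by
        intro j
        have h1 : (g j : K) ∈ (Polynomial.aeval z : Polynomial k →ₐ[k] K).range := by
          rw [← Algebra.adjoin_singleton_eq_range_aeval]
          exact (g j).2
        exact h1
      choose p hp using hgm
      set H : Polynomial (Polynomial k) := ∑ j : Fin d, Polynomial.C (p j) * Polynomial.X ^ (j : ℕ)
        with hH
      have hEv : Ev z y H = 0 := by
        rw [hH, map_sum, ← hg]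
        refine Finset.sum_congr rfl fun j _ => ?_
        rw [Ev_apply]
        simp only [Polynomial.map_mul, Polynomial.map_C, Polynomial.map_pow, Polynomial.map_X,
          Polynomial.eval_mul, Polynomial.eval_C, Polynomial.eval_pow, Polynomial.eval_X]
        show Polynomial.aeval z (p j) * y ^ (j : ℕ) = _
        rw [hp j]
        rfl
      have hHdeg : H = 0 := by
        by_contra hH0
        have h1 := key H hH0 hEv
        have h2 : H.natDegree < d := by
          by_cases hd0 : d = 0
          · exact absurd (by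
              rw [hH]
              exact Finset.sum_eq_zero fun j _ => absurd j.2 (by omega) : H = 0) hH0
          rw [hH]
          have : ∀ j : Fin d, (Polynomial.C (p j) * Polynomial.X ^ (j : ℕ) :
              Polynomial (Polynomial k)).natDegree ≤ d - 1 := by
            intro j
            refine (Polynomial.natDegree_C_mul_X_pow_le _ _).trans ?_
            have := j.2
            omega
          have h3 := Polynomial.natDegree_sum_le_of_forall_le Finset.univ
            (fun j : Fin d => Polynomial.C (p j) * Polynomial.X ^ (j : ℕ)) (fun j _ => this j)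
          omega
        omega
      intro j
      have h1 : H.coeff (j : ℕ) = p j := by
        rw [hH, Polynomial.finsetSum_coeff]
        rw [Finset.sum_eq_single j]
        · simp
        · intro b _ hb
          rw [Polynomial.coeff_C_mul, Polynomial.coeff_X_pow, if_neg, mul_zero]
          intro h; exact hb (Fin.ext h.symm)
        · intro h; exact absurd (Finset.mem_univ _) h
      rw [hHdeg, Polynomial.coeff_zero] at h1
      apply Subtype.ext
      rw [← hp j, ← h1, map_zero]
      rfl
    have hliF : LinearIndependent ↥k⟮z⟯ (fun j : Fin d => y ^ (j : ℕ)) :=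
      (LinearIndependent.iff_fractionRing (Algebra.adjoin k ({z} : Set K)) ↥k⟮z⟯).1 hliA
    have := hliF.fintype_card_le_finrank
    rwa [Fintype.card_fin] at this
  exact_mod_cast le_antisymm hup hlow

end Main

end Groth.Agent.Lib.FunFldPlaneDeg
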