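/-
Automorphisms of a genus one function field in Weierstrass form fixing the place at infinity
(helper70).
-/
import Mathlib
import Groth.Agent.Lib.H40FunFldAut
import Groth.Agent.Lib.H40FunFldGaps
import Groth.Agent.Lib.H40FunFldGenusOne
import Groth.Agent.Lib.H40FunFldPlaneNonsing
import Groth.Agent.Lib.FunFldPlaneDeg

set_option autoImplicit false

namespace Groth.Agent.Lib.FunFldEllAut

open FunFld Groth.Agent.Lib.H40FunFld Groth.Agent.Lib.FunFldPlaneDeg

universe u v
variable {k : Type u} {K : Type v} [Field k] [Field K] [Algebra k K]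

/-- valuation-preserving automorphisms preserve `L(nP)` -/
theorem map_mem_L {P : Place k K} (σ : K ≃ₐ[k] K) (hσ : ∀ z, P.1 (σ z) = P.1 z) {n : ℤ} {z : K}
    (hz : z ∈ L (Finsupp.single P n : Divisor k K)) :
    σ z ∈ L (Finsupp.single P n : Divisor k K) := by
  rw [mem_L_single_iff] at hz ⊢
  refine ⟨by rw [hσ]; exact hz.1, fun Q hQ => ?_⟩
  have hne : comapPlace Q σ ≠ P := by
    intro heq
    apply hQ
    apply eq_of_forall_le_one
    intro t ht
    have h1 : Q.1 t = P.1 t := by
      have := congrArg (fun R : Place k K => R.1 (σ.symm t)) heq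
      simp only [comapPlace_apply, AlgEquiv.apply_symm_apply] at this
      rw [this, ← hσ (σ.symm t), AlgEquiv.apply_symm_apply]
    rw [← h1]; exact ht
  have := hz.2 _ hne
  rwa [comapPlace_apply] at this

section Weierstrass

variable [IsAlgClosed k] (hK : IsFunctionField k K) (hgen : genus k K = 1) (P : Place k K)
  {x y : K} (hx : x ∈ L (Finsupp.single P 2 : Divisor k K)) (hx2 : P.ord x = -2)
  (hy : y ∈ L (Finsupp.single P 3 : Divisor k K)) (hy3 : P.ord y = -3)

include hx2 in
theorem val_x : P.1 x = WithZero.exp (2 : ℤ) := val_of_ord_eq P (by norm_num) hx2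

include hy3 in
theorem val_y : P.1 y = WithZero.exp (3 : ℤ) := val_of_ord_eq P (by norm_num) hy3

include hx2 hy3 in
/-- the six monomials of pole order at most six are linearly independent -/
theorem linearIndependent_six :
    LinearIndependent k ![(1 : K), x, y, x ^ 2, x * y, x ^ 3] := by
  have vx := val_x P hx2
  have vy := val_y P hy3
  have hv : ∀ i : Fin 6, P.1 (![(1 : K), x, y, x ^ 2, x * y, x ^ 3] i) =
      WithZero.exp ((![0, 2, 3, 4, 5, 6] : Fin 6 → ℤ) i) := by
    intro i
    fin_cases i
    · simp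
    · simpa using vx
    · simpa using vy
    · simp only [Fin.reduceFinMk, Matrix.cons_val]
      rw [map_pow, vx, ← WithZero.exp_nsmul]; norm_num
    · simp only [Fin.reduceFinMk, Matrix.cons_val]
      rw [map_mul, vx, vy, ← WithZero.exp_add]; norm_num
    · simp only [Fin.reduceFinMk, Matrix.cons_val]
      rw [map_pow, vx, ← WithZero.exp_nsmul]; norm_num
  apply linearIndependent_of_val_injective P
  · intro i h0
    have := hv i
    rw [h0, map_zero] at this
    exact WithZero.exp_ne_zero this.symm
  · intro i j hij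
    simp only [hv] at hij
    have := WithZero.exp_injective hij
    fin_cases i <;> fin_cases j <;> simp_all

include hK hgen hx hx2 in
/-- `L(2P)` is spanned by `1, x` -/
theorem exists_of_mem_L_two {z : K} (hz : z ∈ L (Finsupp.single P 2 : Divisor k K)) :
    ∃ α β : k, z = α • x + β • (1 : K) := by
  have hP := deg_eq_one_of_isAlgClosed hK P
  have vx := val_x P hx2
  have hli : LinearIndependent k ![x, (1 : K)] := by
    apply linearIndependent_of_val_injective P
    · intro i; fin_cases i
      · intro h0; simp at h0; rw [h0, map_zero] at vx; exact WithZero.exp_ne_zero vx.symm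
      · simp
    · intro i j hij
      have h21 : (WithZero.exp (2 : ℤ) : WithZero (Multiplicative ℤ)) ≠ 1 := by
        intro h
        have : (WithZero.exp (2 : ℤ) : WithZero (Multiplicative ℤ)) = WithZero.exp 0 := by
          rw [WithZero.exp_zero]; exact h
        have := WithZero.exp_injective this
        norm_num at this
      fin_cases i <;> fin_cases j
      · rfl
      · exfalso; apply h21; simpa [vx] using hij
      · exfalso; apply h21; simpa [vx] using hij.symm
      · rfl
  have hmem : ∀ i, ![x, (1 : K)] i ∈ L (Finsupp.single P ((2 : ℕ) : ℤ) : Divisor k K) := by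
    intro i; fin_cases i
    · simpa using hx
    · simp only [Fin.mk_one, Matrix.cons_val_one, Matrix.cons_val_zero]
      rw [mem_L_single_iff]
      refine ⟨?_, fun Q _ => by rw [map_one]⟩
      rw [map_one, ← WithZero.exp_zero, WithZero.exp_le_exp]; norm_num
  have hspan := span_eq_L_of_linearIndependent hK _ ![x, (1 : K)] hmem hli
    (by rw [Fintype.card_fin, ell_single_of_genus_one hK hgen hP (by norm_num : 0 < 2)])
  have hz' : z ∈ Submodule.span k (Set.range ![x, (1 : K)]) := by
    rw [hspan]; simpa using hz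
  obtain ⟨c, hc⟩ := (Submodule.mem_span_range_iff_exists_fun k).1 hz'
  refine ⟨c 0, c 1, ?_⟩
  rw [← hc, Fin.sum_univ_two]
  simp

include hK hgen hx hx2 hy hy3 in
/-- `L(3P)` is spanned by `1, x, y` -/
theorem exists_of_mem_L_three {z : K} (hz : z ∈ L (Finsupp.single P 3 : Divisor k K)) :
    ∃ γ δ ε : k, z = γ • y + δ • x + ε • (1 : K) := by
  have hP := deg_eq_one_of_isAlgClosed hK P
  have h6 := linearIndependent_six P hx2 hy3
  have hli : LinearIndependent k ![y, x, (1 : K)] := by
    have h1 : ![y, x, (1 : K)] = ![(1 : K), x, y, x ^ 2, x * y, x ^ 3] ∘ ![2, 1, 0] := by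
      ext i; fin_cases i <;> rfl
    rw [h1]
    apply h6.comp
    intro i j hij
    fin_cases i <;> fin_cases j <;> simp_all
  have hmem : ∀ i, ![y, x, (1 : K)] i ∈ L (Finsupp.single P ((3 : ℕ) : ℤ) : Divisor k K) := by
    intro i; fin_cases i
    · simpa using hy
    · exact L_mono (single_mono P (by norm_num)) hx
    · rw [mem_L_single_iff]
      refine ⟨?_, fun Q _ => by simp⟩
      simp only [Fin.reduceFinMk, Matrix.cons_val, map_one]
      rw [← WithZero.exp_zero, WithZero.exp_le_exp]; norm_num
  have hspan := span_eq_L_of_linearIndependent hK _ ![y, x, (1 : K)] hmem hli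
    (by rw [Fintype.card_fin, ell_single_of_genus_one hK hgen hP (by norm_num : 0 < 3)])
  have hz' : z ∈ Submodule.span k (Set.range ![y, x, (1 : K)]) := by
    rw [hspan]; simpa using hz
  obtain ⟨c, hc⟩ := (Submodule.mem_span_range_iff_exists_fun k).1 hz'
  refine ⟨c 0, c 1, c 2, ?_⟩
  rw [← hc, Fin.sum_univ_three]
  simp

end Weierstrass


theorem exists_algHom_of_ker_eq {k S K L : Type*} [Field k] [CommRing S] [Algebra k S]
    [Field K] [Algebra k K] [Field L] [Algebra k L]
    (φ : S →ₐ[k] K) (φ' : S →ₐ[k] L) (hker : ∀ s, φ s = 0 ↔ φ' s = 0)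
    (htop : IntermediateField.adjoin k (Set.range φ) = ⊤) :
    ∃ σ : K →ₐ[k] L, ∀ s, σ (φ s) = φ' s := by
  have hfrac : IsFractionRing φ.range K := by
    apply IsFractionRing.of_field
    intro z
    have hz : z ∈ IntermediateField.adjoin k (Set.range φ) := by rw [htop]; trivial
    obtain ⟨a, ha, b, hb, rfl⟩ := IntermediateField.mem_adjoin_iff_div.1 hz
    have hA : Algebra.adjoin k (Set.range φ) = φ.range := by
      apply le_antisymm
      · exact Algebra.adjoin_le (fun z hz => hz)
      · exact fun z hz => Algebra.subset_adjoin hz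
    rw [hA] at ha hb
    exact ⟨⟨a, ha⟩, ⟨b, hb⟩, rfl⟩
  have hsurj : Function.Surjective φ.rangeRestrict := φ.rangeRestrict_surjective
  have hk : ∀ s ∈ RingHom.ker φ.rangeRestrict, φ' s = 0 := by
    intro s hs
    rw [RingHom.mem_ker] at hs
    have : φ s = 0 := congrArg Subtype.val hs
    exact (hker s).1 this
  let g : φ.range →ₐ[k] L :=
    (Ideal.Quotient.liftₐ (RingHom.ker φ.rangeRestrict) φ' hk).comp
      (Ideal.quotientKerAlgEquivOfSurjective hsurj).symm.toAlgHom
  have hg : ∀ s, g (φ.rangeRestrict s) = φ' s := by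
    intro s
    have : (Ideal.quotientKerAlgEquivOfSurjective hsurj).symm (φ.rangeRestrict s) =
        Ideal.Quotient.mk _ s := by
      rw [AlgEquiv.symm_apply_eq]
      rfl
    show (Ideal.Quotient.liftₐ (RingHom.ker φ.rangeRestrict) φ' hk)
      ((Ideal.quotientKerAlgEquivOfSurjective hsurj).symm (φ.rangeRestrict s)) = φ' s
    rw [this]
    rfl
  have hginj : Function.Injective g := by
    rw [injective_iff_map_eq_zero]
    intro a ha
    obtain ⟨s, rfl⟩ := hsurj a
    rw [hg] at ha
    have := (hker s).2 ha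
    exact Subtype.ext this
  refine ⟨IsFractionRing.liftAlgHom hginj, fun s => ?_⟩
  have : φ s = algebraMap φ.range K (φ.rangeRestrict s) := rfl
  rw [this, IsFractionRing.liftAlgHom_apply, IsFractionRing.lift_algebraMap]
  exact hg s


@[simp] theorem Ev_C (x y : K) (p : Polynomial k) :
    Ev x y (Polynomial.C p) = Polynomial.aeval x p := by
  simp [Ev]

@[simp] theorem Ev_X (x y : K) : Ev x y (Polynomial.X : Polynomial (Polynomial k)) = y := by
  simp [Ev]

open Polynomial in
/-- the Weierstrass polynomial `Y² - (X³ + aX + b)` in `k[X][Y]` -/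
noncomputable def wp (a b : k) : Polynomial (Polynomial k) :=
  X ^ 2 - C (X ^ 3 + C a * X + C b)

theorem wp_monic (a b : k) : (wp a b).Monic :=
  Polynomial.monic_X_pow_sub_C _ (by norm_num)

theorem wp_natDegree (a b : k) : (wp a b).natDegree = 2 :=
  Polynomial.natDegree_X_pow_sub_C

theorem Ev_wp (a b : k) (x y : K) :
    Ev x y (wp a b) = y ^ 2 - (x ^ 3 + algebraMap k K a * x + algebraMap k K b) := by
  simp [wp]

/-- parity of pole orders: `A(x) + B(x) y = 0` forces `A = B = 0` -/
theorem eq_zero_of_aeval_add_aeval_mul (P : Place k K) {x y : K}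
    (vx : P.1 x = WithZero.exp (2 : ℤ)) (vy : P.1 y = WithZero.exp (3 : ℤ))
    {A B : Polynomial k} (h : Polynomial.aeval x A + Polynomial.aeval x B * y = 0) :
    A = 0 ∧ B = 0 := by
  have hx1 : 1 < P.1 x := by
    rw [vx, ← WithZero.exp_zero, WithZero.exp_lt_exp]; norm_num
  have hA : A ≠ 0 → P.1 (Polynomial.aeval x A) = WithZero.exp ((2 * A.natDegree : ℕ) : ℤ) := by
    intro hA
    rw [val_aeval_of_one_lt P hx1 hA, vx, ← WithZero.exp_nsmul]
    congr 1
    push_cast; ring
  have hB : B ≠ 0 → P.1 (Polynomial.aeval x B * y) =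
      WithZero.exp ((2 * B.natDegree + 3 : ℕ) : ℤ) := by
    intro hB
    rw [map_mul, val_aeval_of_one_lt P hx1 hB, vx, vy, ← WithZero.exp_nsmul, ← WithZero.exp_add]
    congr 1
    push_cast; ring
  by_cases hA0 : A = 0
  · refine ⟨hA0, ?_⟩
    by_contra hB0
    have := hB hB0
    rw [hA0, map_zero, zero_add] at h
    rw [h, map_zero] at this
    exact WithZero.exp_ne_zero this.symm
  · exfalso
    by_cases hB0 : B = 0
    · have := hA hA0
      rw [hB0, map_zero, zero_mul, add_zero] at h
      rw [h, map_zero] at this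
      exact WithZero.exp_ne_zero this.symm
    · have h1 := hA hA0
      have h2 := hB hB0
      have h3 : Polynomial.aeval x A = -(Polynomial.aeval x B * y) := eq_neg_of_add_eq_zero_left h
      rw [h3, Valuation.map_neg, h2] at h1
      have := WithZero.exp_injective h1
      have : 2 * B.natDegree + 3 = 2 * A.natDegree := by exact_mod_cast this
      omega

/-- the kernel of evaluation at a Weierstrass pair is generated by the Weierstrass polynomial -/
theorem Ev_eq_zero_iff (P : Place k K) {x y : K} {a b : k}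
    (vx : P.1 x = WithZero.exp (2 : ℤ)) (vy : P.1 y = WithZero.exp (3 : ℤ))
    (heq : y ^ 2 = x ^ 3 + algebraMap k K a * x + algebraMap k K b)
    (g : Polynomial (Polynomial k)) : Ev x y g = 0 ↔ wp a b ∣ g := by
  have hwp : Ev x y (wp a b) = 0 := by rw [Ev_wp, heq, sub_self]
  constructor
  · intro hg
    have h1 := Polynomial.modByMonic_add_div g (wp a b)
    have h2 : Ev x y (g %ₘ wp a b) = 0 := by
      have := congrArg (Ev x y) h1
      rw [map_add, map_mul, hwp, zero_mul, add_zero, hg] at this
      exact this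
    have hdeg : (g %ₘ wp a b).natDegree ≤ 1 := by
      have := Polynomial.natDegree_modByMonic_lt g (wp_monic a b) (by
        intro h; have := wp_natDegree a b; rw [h] at this; simp at this)
      rw [wp_natDegree] at this
      omega
    have h3 := Polynomial.eq_X_add_C_of_natDegree_le_one hdeg
    rw [h3] at h2
    simp only [map_add, map_mul, Ev_C, Ev_X] at h2
    rw [add_comm] at h2
    obtain ⟨hA, hB⟩ := eq_zero_of_aeval_add_aeval_mul P vx vy h2
    have h4 : g %ₘ wp a b = 0 := by
      rw [h3, hA, hB]; simp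
    exact (Polynomial.modByMonic_eq_zero_iff_dvd (wp_monic a b)).1 h4
  · rintro ⟨q, rfl⟩
    rw [map_mul, hwp, zero_mul]


/-- two automorphisms agreeing on generators are equal -/
theorem algEquiv_ext_of_adjoin {x y : K}
    (hxy : IntermediateField.adjoin k ({x, y} : Set K) = ⊤) {σ τ : K ≃ₐ[k] K}
    (h1 : σ x = τ x) (h2 : σ y = τ y) : σ = τ := by
  have hle : IntermediateField.adjoin k ({x, y} : Set K) ≤ fixedFieldOf (σ.trans τ.symm) := by
    rw [IntermediateField.adjoin_le_iff]
    intro z hz
    rcases hz with rfl | rfl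
    · show (σ.trans τ.symm) z = z
      rw [AlgEquiv.trans_apply, h1, AlgEquiv.symm_apply_apply]
    · show (σ.trans τ.symm) z = z
      rw [AlgEquiv.trans_apply, h2, AlgEquiv.symm_apply_apply]
  rw [hxy] at hle
  ext z
  have : z ∈ fixedFieldOf (σ.trans τ.symm) := hle trivial
  rw [mem_fixedFieldOf, AlgEquiv.trans_apply, AlgEquiv.symm_apply_eq] at this
  exact this

/-- existence of the automorphism `x ↦ u²x`, `y ↦ u³y` -/
theorem exists_aut (P : Place k K) {x y : K} {a b : k}
    (heq : y ^ 2 = x ^ 3 + algebraMap k K a * x + algebraMap k K b)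
    (hxy : IntermediateField.adjoin k ({x, y} : Set K) = ⊤)
    (hx : x ∈ L (Finsupp.single P 2 : Divisor k K))
    (vx : P.1 x = WithZero.exp (2 : ℤ)) (vy : P.1 y = WithZero.exp (3 : ℤ))
    {u : k} (hu : u ≠ 0) (hua : u ^ 4 * a = a) (hub : u ^ 6 * b = b) :
    ∃ σ : K ≃ₐ[k] K, σ x = algebraMap k K (u ^ 2) * x ∧ σ y = algebraMap k K (u ^ 3) * y ∧
      ∀ z, P.1 (σ z) = P.1 z := by
  set x' : K := algebraMap k K (u ^ 2) * x with hx'
  set y' : K := algebraMap k K (u ^ 3) * y with hy'
  have vx' : P.1 x' = WithZero.exp (2 : ℤ) := by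
    rw [hx', map_mul, val_algebraMap P (pow_ne_zero 2 hu), one_mul, vx]
  have vy' : P.1 y' = WithZero.exp (3 : ℤ) := by
    rw [hy', map_mul, val_algebraMap P (pow_ne_zero 3 hu), one_mul, vy]
  have heq' : y' ^ 2 = x' ^ 3 + algebraMap k K a * x' + algebraMap k K b := by
    have hA : algebraMap k K u ^ 4 * algebraMap k K a = algebraMap k K a := by
      rw [← map_pow, ← map_mul, hua]
    have hB : algebraMap k K u ^ 6 * algebraMap k K b = algebraMap k K b := by
      rw [← map_pow, ← map_mul, hub]
    rw [hx', hy', map_pow, map_pow]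
    linear_combination (algebraMap k K u) ^ 6 * heq + (algebraMap k K u) ^ 2 * x * hA + hB
  have hker : ∀ s : Polynomial (Polynomial k), Ev x y s = 0 ↔ Ev x' y' s = 0 := fun s => by
    rw [Ev_eq_zero_iff P vx vy heq, Ev_eq_zero_iff P vx' vy' heq']
  have htop : IntermediateField.adjoin k
      (Set.range (Ev x y : Polynomial (Polynomial k) →ₐ[k] K)) = ⊤ := by
    rw [← top_le_iff, ← hxy]
    apply IntermediateField.adjoin.mono
    intro z hz
    rcases hz with rfl | rfl
    · exact ⟨Polynomial.C Polynomial.X, by simp⟩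
    · exact ⟨Polynomial.X, by simp⟩
  obtain ⟨σ₀, hσ₀⟩ := exists_algHom_of_ker_eq (Ev x y : Polynomial (Polynomial k) →ₐ[k] K)
    (Ev x' y') hker htop
  have hσx : σ₀ x = x' := by
    have := hσ₀ (Polynomial.C Polynomial.X)
    simpa using this
  have hσy : σ₀ y = y' := by
    have := hσ₀ Polynomial.X
    simpa using this
  have hsurj : Function.Surjective σ₀ := by
    have hle : IntermediateField.adjoin k ({x, y} : Set K) ≤ σ₀.fieldRange := by
      rw [IntermediateField.adjoin_le_iff]
      intro z hz
      rcases hz with rfl | rfl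
      · refine ⟨algebraMap k K (u ^ 2)⁻¹ * z, ?_⟩
        show σ₀ (algebraMap k K (u ^ 2)⁻¹ * z) = z
        rw [map_mul, AlgHom.commutes, hσx, hx', ← mul_assoc, ← map_mul,
          inv_mul_cancel₀ (pow_ne_zero 2 hu), map_one, one_mul]
      · refine ⟨algebraMap k K (u ^ 3)⁻¹ * z, ?_⟩
        show σ₀ (algebraMap k K (u ^ 3)⁻¹ * z) = z
        rw [map_mul, AlgHom.commutes, hσy, hy', ← mul_assoc, ← map_mul,
          inv_mul_cancel₀ (pow_ne_zero 3 hu), map_one, one_mul]
    rw [hxy] at hle
    intro z
    exact hle (trivial : z ∈ (⊤ : IntermediateField k K))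
  let σ : K ≃ₐ[k] K := AlgEquiv.ofBijective σ₀ ⟨σ₀.toRingHom.injective, hsurj⟩
  have hσ : ∀ z, σ z = σ₀ z := fun z => rfl
  refine ⟨σ, by rw [hσ, hσx], by rw [hσ, hσy], ?_⟩
  have hQ : comapPlace P σ = P := by
    by_contra hne
    have h1 := ((mem_L_single_iff P 2 x).1 hx).2 _ hne
    rw [comapPlace_apply, hσ, hσx, vx', ← WithZero.exp_zero, WithZero.exp_le_exp] at h1
    norm_num at h1
  intro z
  have := congrArg (fun R : Place k K => R.1 z) hQ
  simpa [comapPlace_apply] using this

section Forward

variable [IsAlgClosed k] (hK : IsFunctionField k K) (hgen : genus k K = 1) (P : Place k K)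
  {x y : K} (hx : x ∈ L (Finsupp.single P 2 : Divisor k K)) (hx2 : P.ord x = -2)
  (hy : y ∈ L (Finsupp.single P 3 : Divisor k K)) (hy3 : P.ord y = -3)

include hK hgen hx hx2 hy hy3 in
/-- every automorphism preserving `P` has the form `x ↦ u²x`, `y ↦ u³y` -/
theorem exists_of_aut (h2 : (2 : k) ≠ 0) (h3 : (3 : k) ≠ 0) {a b : k}
    (heq : y ^ 2 = x ^ 3 + algebraMap k K a * x + algebraMap k K b)
    (σ : K ≃ₐ[k] K) (hσ : ∀ z, P.1 (σ z) = P.1 z) :
    ∃ u : k, u ≠ 0 ∧ u ^ 4 * a = a ∧ u ^ 6 * b = b ∧
      σ x = algebraMap k K (u ^ 2) * x ∧ σ y = algebraMap k K (u ^ 3) * y := by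
  have vx := val_x P hx2
  have vy := val_y P hy3
  obtain ⟨α, β, hα⟩ := exists_of_mem_L_two hK hgen P hx hx2 (map_mem_L σ hσ hx)
  obtain ⟨γ, δ, ε, hγ⟩ := exists_of_mem_L_three hK hgen P hx hx2 hy hy3 (map_mem_L σ hσ hy)
  have h01 : (1 : WithZero (Multiplicative ℤ)) = WithZero.exp (0 : ℤ) := WithZero.exp_zero.symm
  have hα0 : α ≠ 0 := by
    rintro rfl
    have h1 : P.1 (σ x) ≤ 1 := by
      rw [hα, zero_smul, zero_add, Algebra.smul_def, mul_one]
      exact P.2.1 β
    rw [hσ, vx, h01, WithZero.exp_le_exp] at h1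
    norm_num at h1
  have hγ0 : γ ≠ 0 := by
    rintro rfl
    have h1 : P.1 (σ y) ≤ WithZero.exp (2 : ℤ) := by
      rw [hγ, zero_smul, zero_add]
      refine le_trans (Valuation.map_add _ _ _) (max_le ?_ ?_)
      · rw [Algebra.smul_def, map_mul]
        calc P.1 (algebraMap k K δ) * P.1 x ≤ 1 * P.1 x := mul_le_mul' (P.2.1 δ) le_rfl
          _ = WithZero.exp (2 : ℤ) := by rw [one_mul, vx]
      · rw [Algebra.smul_def, mul_one]
        refine le_trans (P.2.1 ε) ?_
        rw [h01, WithZero.exp_le_exp]; norm_num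
    rw [hσ, vy, WithZero.exp_le_exp] at h1
    norm_num at h1
  -- apply σ to the equation
  have hσeq : (σ y) ^ 2 = (σ x) ^ 3 + algebraMap k K a * σ x + algebraMap k K b := by
    have := congrArg σ heq
    simpa only [map_pow, map_add, map_mul, AlgEquiv.commutes] using this
  rw [hα, hγ] at hσeq
  simp only [Algebra.smul_def, mul_one] at hσeq
  have h6 := linearIndependent_six P hx2 hy3
  let c : Fin 6 → k := ![γ ^ 2 * b + ε ^ 2 - β ^ 3 - a * β - b,
    γ ^ 2 * a + 2 * δ * ε - 3 * α * β ^ 2 - a * α, 2 * γ * ε, δ ^ 2 - 3 * α ^ 2 * β,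
    2 * γ * δ, γ ^ 2 - α ^ 3]
  have hsum : ∑ i, c i • ![(1 : K), x, y, x ^ 2, x * y, x ^ 3] i = 0 := by
    simp only [c, Fin.sum_univ_succ, Fin.sum_univ_zero, Matrix.cons_val_zero, Matrix.cons_val_succ,
      Algebra.smul_def, map_add, map_sub, map_mul, map_pow, map_ofNat, add_zero, mul_one]
    linear_combination hσeq - (algebraMap k K γ) ^ 2 * heq
  have hc := Fintype.linearIndependent_iff.1 h6 c hsum
  have c0 := hc 0
  have c1 := hc 1
  have c2 := hc 2
  have c3 := hc 3
  have c4 := hc 4
  have c5 := hc 5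
  simp only [c, Matrix.cons_val_zero] at c0
  simp only [c, Matrix.cons_val_one, Matrix.cons_val_zero] at c1
  simp only [c, Matrix.cons_val] at c2 c3 c4 c5
  have hδ : δ = 0 := by
    rcases mul_eq_zero.1 c4 with h | h
    · rcases mul_eq_zero.1 h with h | h
      · exact absurd h h2
      · exact absurd h hγ0
    · exact h
  have hε : ε = 0 := by
    rcases mul_eq_zero.1 c2 with h | h
    · rcases mul_eq_zero.1 h with h | h
      · exact absurd h h2
      · exact absurd h hγ0
    · exact h
  have hβ : β = 0 := by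
    rw [hδ] at c3
    have : 3 * α ^ 2 * β = 0 := by linear_combination -c3
    rcases mul_eq_zero.1 this with h | h
    · rcases mul_eq_zero.1 h with h | h
      · exact absurd h h3
      · exact absurd h (pow_ne_zero 2 hα0)
    · exact h
  subst hδ hε hβ
  have hγα : γ ^ 2 = α ^ 3 := by linear_combination c5
  have ha' : α ^ 2 * a = a := by
    have : α * (α ^ 2 * a - a) = 0 := by linear_combination c1 - a * c5
    rcases mul_eq_zero.1 this with h | h
    · exact absurd h hα0
    · exact sub_eq_zero.1 h
  have hb' : α ^ 3 * b = b := by linear_combination c0 - b * c5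
  have hu2 : (γ / α) ^ 2 = α := by
    rw [_root_.div_pow, hγα, div_eq_iff (pow_ne_zero 2 hα0)]; ring
  have hu3 : (γ / α) ^ 3 = γ := by
    rw [pow_succ, hu2, mul_div_cancel₀ _ hα0]
  have hu4 : (γ / α) ^ 4 = α ^ 2 := by
    calc (γ / α) ^ 4 = ((γ / α) ^ 2) ^ 2 := by ring
      _ = α ^ 2 := by rw [hu2]
  have hu6 : (γ / α) ^ 6 = α ^ 3 := by
    calc (γ / α) ^ 6 = ((γ / α) ^ 2) ^ 3 := by ring
      _ = α ^ 3 := by rw [hu2]
  refine ⟨γ / α, div_ne_zero hγ0 hα0, ?_, ?_, ?_, ?_⟩
  · rw [hu4, ha']
  · rw [hu6, hb']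
  · rw [hu2, hα]
    simp [Algebra.smul_def]
  · rw [hu3, hγ]
    simp [Algebra.smul_def]

end Forward

section Count

variable [IsAlgClosed k]

/-- the number of `n`-th roots of unity in an algebraically closed field, `n` invertible -/
theorem card_pow_eq_one (n : ℕ) (hn : (n : k) ≠ 0) : Nat.card {u : k // u ^ n = 1} = n := by
  haveI : NeZero (n : k) := ⟨hn⟩
  haveI : NeZero n := NeZero.of_neZero_natCast k
  have hn0 : n ≠ 0 := NeZero.ne n
  refine (Nat.card_congr ?_).trans (HasEnoughRootsOfUnity.natCard_rootsOfUnity k n)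
  refine
    { toFun := fun u => ⟨Units.mk0 u.1 (by
          intro h
          have := u.2
          rw [h, zero_pow hn0] at this
          exact zero_ne_one this), by
        rw [mem_rootsOfUnity]
        apply Units.ext
        simp [u.2]⟩
      invFun := fun ζ => ⟨(ζ.1 : k), by
        have := ζ.2
        rw [mem_rootsOfUnity] at this
        have := congrArg Units.val this
        simpa using this⟩
      left_inv := fun u => by simp
      right_inv := fun ζ => by
        apply Subtype.ext
        apply Units.ext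
        simp }

/-- counting the admissible scalars `u` -/
theorem card_scalars (h2 : (2 : k) ≠ 0) (h3 : (3 : k) ≠ 0) {a b : k}
    (hdisc : 4 * a ^ 3 + 27 * b ^ 2 ≠ 0) [Decidable (a = 0)] [Decidable (b = 0)] :
    Nat.card {u : k // u ≠ 0 ∧ u ^ 4 * a = a ∧ u ^ 6 * b = b} =
      if a = 0 then 6 else if b = 0 then 4 else 2 := by
  have hne0 : ∀ (n : ℕ) (u : k), n ≠ 0 → u ^ n = 1 → u ≠ 0 := by
    intro n u hn hu h
    rw [h, zero_pow hn] at hu
    exact zero_ne_one hu
  by_cases ha : a = 0
  · rw [if_pos ha]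
    have hb : b ≠ 0 := by
      intro hb
      apply hdisc
      rw [ha, hb]; ring
    have h6 : ((6 : ℕ) : k) ≠ 0 := by
      have : ((6 : ℕ) : k) = 2 * 3 := by norm_num
      rw [this]; exact mul_ne_zero h2 h3
    refine (Nat.card_congr ?_).trans (card_pow_eq_one (k := k) 6 h6)
    apply Equiv.subtypeEquivRight
    intro u
    constructor
    · rintro ⟨_, _, hub⟩
      have : (u ^ 6 - 1) * b = 0 := by linear_combination hub
      rcases mul_eq_zero.1 this with h | h
      · exact sub_eq_zero.1 h
      · exact absurd h hb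
    · intro hu
      exact ⟨hne0 6 u (by norm_num) hu, by rw [ha]; ring, by rw [hu, one_mul]⟩
  · rw [if_neg ha]
    by_cases hb : b = 0
    · rw [if_pos hb]
      have h4 : ((4 : ℕ) : k) ≠ 0 := by
        have : ((4 : ℕ) : k) = 2 * 2 := by norm_num
        rw [this]; exact mul_ne_zero h2 h2
      refine (Nat.card_congr ?_).trans (card_pow_eq_one (k := k) 4 h4)
      apply Equiv.subtypeEquivRight
      intro u
      constructor
      · rintro ⟨_, hua, _⟩
        have : (u ^ 4 - 1) * a = 0 := by linear_combination hua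
        rcases mul_eq_zero.1 this with h | h
        · exact sub_eq_zero.1 h
        · exact absurd h ha
      · intro hu
        exact ⟨hne0 4 u (by norm_num) hu, by rw [hu, one_mul], by rw [hb]; ring⟩
    · rw [if_neg hb]
      have h2' : ((2 : ℕ) : k) ≠ 0 := by
        have : ((2 : ℕ) : k) = 2 := by norm_num
        rw [this]; exact h2
      refine (Nat.card_congr ?_).trans (card_pow_eq_one (k := k) 2 h2')
      apply Equiv.subtypeEquivRight
      intro u
      constructor
      · rintro ⟨hu0, hua, hub⟩
        have e4 : u ^ 4 = 1 := by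
          have : (u ^ 4 - 1) * a = 0 := by linear_combination hua
          rcases mul_eq_zero.1 this with h | h
          · exact sub_eq_zero.1 h
          · exact absurd h ha
        have e6 : u ^ 6 = 1 := by
          have : (u ^ 6 - 1) * b = 0 := by linear_combination hub
          rcases mul_eq_zero.1 this with h | h
          · exact sub_eq_zero.1 h
          · exact absurd h hb
        calc u ^ 2 = u ^ 4 * u ^ 2 := by rw [e4, one_mul]
          _ = u ^ 6 := by ring
          _ = 1 := e6
      · intro hu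
        refine ⟨hne0 2 u (by norm_num) hu, ?_, ?_⟩
        · have : u ^ 4 = 1 := by
            calc u ^ 4 = (u ^ 2) ^ 2 := by ring
              _ = 1 := by rw [hu]; ring
          rw [this, one_mul]
        · have : u ^ 6 = 1 := by
            calc u ^ 6 = (u ^ 2) ^ 3 := by ring
              _ = 1 := by rw [hu]; ring
          rw [this, one_mul]

end Count

end Groth.Agent.Lib.FunFldEllAut
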