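import Groth.Agent.Lib.H40FunFldGaps

/-!
# Small toolkit on top of helper40's `FunFld` Riemann–Roch library (helper97)

* `exists_div_eq_of_ell_pos_of_deg_zero`: a divisor of degree `0` with `ℓ ≥ 1` is principal (up to sign).
* `exists_algebraMap_eq_of_ell_eq_one`: if `ℓ(D) = 1` and `D ≥ 0` then `L(D)` consists of constants.
* `ell_sub_div`, `one_mem_L_iff`, `L_inf`.
-/

set_option autoImplicit false
open FunFld

namespace Groth.Agent.Lib.FunFldG97

open Groth.Agent.Lib.H40FunFld

universe u v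
variable {k : Type u} {K : Type v} [Field k] [Field K] [Algebra k K]

/-- A divisor of degree `0` with `ℓ(D) ≥ 1` satisfies `D + div z = 0` for some `z ≠ 0`. -/
theorem exists_div_eq_of_ell_pos_of_deg_zero (hK : FunFld.IsFunctionField k K)
    {D : FunFld.Divisor k K} (hdeg : D.deg = 0) (hl : 0 < FunFld.ell D) :
    ∃ z : K, z ≠ 0 ∧ z ∈ FunFld.L D ∧ D + FunFld.div k z = 0 := by
  obtain ⟨z, hzL, hz0⟩ := exists_ne_zero_mem_L_of_ell_pos hl
  refine ⟨z, hz0, hzL, ?_⟩
  have h5 := (mem_L_iff_nonneg hK _ hz0).1 hzL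
  have h6 : (D + FunFld.div k z).deg = 0 := by
    rw [deg_add, deg_div_eq_zero hK, hdeg]; ring
  exact eq_zero_of_nonneg_of_deg_eq_zero hK h5 h6

theorem one_mem_L_iff (D : FunFld.Divisor k K) : (1 : K) ∈ FunFld.L D ↔ 0 ≤ D := by
  rw [Finsupp.le_def]
  refine forall_congr' fun P => ?_
  rw [map_one, Finsupp.zero_apply, ← WithZero.exp_zero, WithZero.exp_le_exp]

/-- If `ℓ(D) = 1` and `D ≥ 0`, every element of `L(D)` is a constant. -/
theorem exists_algebraMap_eq_of_ell_eq_one (hK : FunFld.IsFunctionField k K)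
    {D : FunFld.Divisor k K} (hD : 0 ≤ D) (h1 : FunFld.ell D = 1) {x : K}
    (hx : x ∈ FunFld.L D) : ∃ c : k, algebraMap k K c = x := by
  have := finiteDimensional_L hK D
  have h1' : Module.finrank k (FunFld.L D) = 1 := h1
  have hone : (1 : K) ∈ FunFld.L D := (one_mem_L_iff D).2 hD
  have hne : (⟨1, hone⟩ : FunFld.L D) ≠ 0 := by
    intro h
    have := congrArg Subtype.val h
    exact one_ne_zero this
  obtain ⟨c, hc⟩ := (finrank_eq_one_iff_of_nonzero' (⟨1, hone⟩ : FunFld.L D) hne).1 h1' ⟨x, hx⟩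
  refine ⟨c, ?_⟩
  have := congrArg Subtype.val hc
  simpa [Algebra.smul_def] using this

theorem ell_sub_div (hK : FunFld.IsFunctionField k K) (D : FunFld.Divisor k K) {z : K}
    (hz : z ≠ 0) : FunFld.ell (D - FunFld.div k z) = FunFld.ell D := by
  have := ell_add_div hK D (inv_ne_zero hz)
  rwa [div_inv hK, ← sub_eq_add_neg] at this

/-- `L(D) ⊓ L(E) = L(D ⊓ E)`. -/
theorem L_inf (D E : FunFld.Divisor k K) : FunFld.L D ⊓ FunFld.L E = FunFld.L (D ⊓ E) := by
  ext x
  rw [Submodule.mem_inf]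
  constructor
  · rintro ⟨h1, h2⟩ P
    rw [Finsupp.inf_apply]
    rcases le_total (D P) (E P) with h | h
    · rw [min_eq_left h]; exact h1 P
    · rw [min_eq_right h]; exact h2 P
  · intro h
    exact ⟨L_mono inf_le_left h, L_mono inf_le_right h⟩

/-- The principal divisor of a constant is `0`. -/
theorem div_algebraMap (hK : FunFld.IsFunctionField k K) (c : k) :
    FunFld.div k (algebraMap k K c) = 0 :=
  div_eq_zero_of_isAlgebraic hK (isAlgebraic_algebraMap c)

theorem ell_pos_of_ell_eq {D : FunFld.Divisor k K} {n : ℕ} (h : FunFld.ell D = n + 1) :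
    0 < FunFld.ell D := by omega

end Groth.Agent.Lib.FunFldG97
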