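import Mathlib.LinearAlgebra.Quotient.Basic
import Mathlib.LinearAlgebra.FiniteDimensional.Lemmas
import Mathlib.LinearAlgebra.Dimension.Finite
import Mathlib.RingTheory.Finiteness.Finsupp
import Mathlib.Algebra.Exact.Basic

/-!
# Additivity of dimension along a chain of subspaces `A ≤ B ≤ C`

For subspaces `A ≤ B ≤ C` of a vector space `V` over a field `k`, writing
`relQuot X Y := ↥Y ⧸ comap Y.subtype X`, we have
`finrank (relQuot A C) = finrank (relQuot A B) + finrank (relQuot B C)` when the two on the right
are finite-dimensional.
-/

set_option autoImplicit false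

namespace Groth.Agent.Lib.H40QuotChain

variable {k V : Type*} [Field k] [AddCommGroup V] [Module k V]

/-- Additivity of `finrank` in a short exact sequence of vector spaces. -/
theorem finrank_of_exact {M N P : Type*} [AddCommGroup M] [Module k M] [AddCommGroup N]
    [Module k N] [AddCommGroup P] [Module k P] (f : M →ₗ[k] N) (g : N →ₗ[k] P)
    (hf : Function.Injective f) (hg : Function.Surjective g) (hex : Function.Exact f g)
    [FiniteDimensional k M] [FiniteDimensional k P] :
    FiniteDimensional k N ∧ Module.finrank k N = Module.finrank k M + Module.finrank k P := by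
  have hN : FiniteDimensional k N := Module.Finite.of_exact hex hg
  refine ⟨hN, ?_⟩
  have h1 := LinearMap.finrank_range_add_finrank_ker g
  have h2 : LinearMap.range g = ⊤ := LinearMap.range_eq_top.2 hg
  have h3 : LinearMap.ker g = LinearMap.range f := (LinearMap.exact_iff.1 hex)
  rw [h2, finrank_top, h3, LinearMap.finrank_range_of_inj hf] at h1
  omega

/-- The relative quotient `Y / X` for subspaces `X, Y` of `V` (only meaningful when `X ≤ Y`). -/
abbrev RelQuot (X Y : Submodule k V) : Type _ := ↥Y ⧸ Submodule.comap Y.subtype X

theorem finrank_relQuot_chain {A B C : Submodule k V} (hAB : A ≤ B) (hBC : B ≤ C)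
    [FiniteDimensional k (RelQuot A B)] [FiniteDimensional k (RelQuot B C)] :
    FiniteDimensional k (RelQuot A C) ∧
      Module.finrank k (RelQuot A C) =
        Module.finrank k (RelQuot A B) + Module.finrank k (RelQuot B C) := by
  let f : RelQuot A B →ₗ[k] RelQuot A C :=
    Submodule.mapQ _ _ (Submodule.inclusion hBC) (by
      intro x hx
      exact hx)
  let g : RelQuot A C →ₗ[k] RelQuot B C :=
    Submodule.factor (Submodule.comap_mono hAB)
  have hf : Function.Injective f := by
    rw [← LinearMap.ker_eq_bot, LinearMap.ker_eq_bot']
    intro x hx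
    obtain ⟨b, rfl⟩ := Submodule.Quotient.mk_surjective _ x
    have : Submodule.inclusion hBC b ∈ Submodule.comap C.subtype A :=
      (Submodule.Quotient.mk_eq_zero _).1 hx
    exact (Submodule.Quotient.mk_eq_zero _).2 this
  have hg : Function.Surjective g := Submodule.factor_surjective _
  have hex : Function.Exact f g := by
    rw [LinearMap.exact_iff]
    ext x
    obtain ⟨c, rfl⟩ := Submodule.Quotient.mk_surjective _ x
    constructor
    · intro hx
      have hcB : (c : V) ∈ B := by
        have h1 : g (Submodule.Quotient.mk c) = 0 := hx
        have h2 : (Submodule.Quotient.mk c : RelQuot B C) = 0 := h1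
        exact (Submodule.Quotient.mk_eq_zero (Submodule.comap C.subtype B)).1 h2
      exact ⟨Submodule.Quotient.mk ⟨c, hcB⟩, rfl⟩
    · rintro ⟨y, hy⟩
      obtain ⟨b, rfl⟩ := Submodule.Quotient.mk_surjective _ y
      rw [← hy]
      change g (Submodule.Quotient.mk (Submodule.inclusion hBC b)) = 0
      exact (Submodule.Quotient.mk_eq_zero _).2 b.2
  exact finrank_of_exact f g hf hg hex

end Groth.Agent.Lib.H40QuotChain
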