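import Groth.Agent.Lib.H40FunFldRes
import Groth.Agent.Lib.H40QuotChain

/-!
# Function fields of one variable (`FunFld`): `dim A(D₂)/A(D₁) = deg D₂ - deg D₁`.
-/

set_option autoImplicit false
open FunFld Polynomial

namespace Groth.Agent.Lib.H40FunFld

open Groth.Agent.Lib.H40QuotChain

universe u v
variable {k : Type u} {K : Type v} [Field k] [Field K] [Algebra k K]

theorem AD_mono {D₁ D₂ : FunFld.Divisor k K} (h : D₁ ≤ D₂) : FunFld.AD D₁ ≤ FunFld.AD D₂ :=
  fun _ ha P => (ha P).trans (WithZero.exp_le_exp.2 (h P))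

theorem lt_exp_add_one_iff {x : WithZero (Multiplicative ℤ)} (n : ℤ) :
    x < WithZero.exp (n + 1) ↔ x ≤ WithZero.exp n := by
  rw [WithZero.exp_add, WithZero.lt_mul_exp_iff_le WithZero.exp_ne_zero]

theorem deg_add_single (D : FunFld.Divisor k K) (P : FunFld.Place k K) (n : ℤ) :
    (D + Finsupp.single P n).deg = D.deg + n * P.deg := by
  classical
  rw [FunFld.Divisor.deg, FunFld.Divisor.deg, Finsupp.sum_add_index' (by simp)
    (by intro a b c; ring), Finsupp.sum_single_index (by simp)]

section Step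

variable (P : FunFld.Place k K) (D : FunFld.Divisor k K) {π : K}
  (hπ : P.1 π = WithZero.exp (-1 : ℤ))

include hπ in
theorem val_pow_mul_le_one {m : ℤ} {x : K} (hx : P.1 x ≤ WithZero.exp m) :
    P.1 (π ^ m * x) ≤ 1 := by
  rw [map_mul, map_zpow₀, hπ, ← WithZero.exp_zsmul, smul_eq_mul, mul_neg_one]
  calc WithZero.exp (-m) * P.1 x ≤ WithZero.exp (-m) * WithZero.exp m := by gcongr
    _ = 1 := by rw [← WithZero.exp_add, neg_add_cancel, WithZero.exp_zero]

/-- The map `a ↦ residue (π ^ (D P + 1) * a P)` on `A(D + P)`. -/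
noncomputable def stepMap : ↥(FunFld.AD (D + Finsupp.single P 1)) →ₗ[k]
    IsLocalRing.ResidueField P.O where
  toFun a := IsLocalRing.residue P.O ⟨π ^ (D P + 1) * a.1 P, val_pow_mul_le_one P hπ (by
    have := a.2 P
    simpa using this)⟩
  map_add' a b := by
    rw [← map_add]
    congr 1
    apply Subtype.ext
    change π ^ (D P + 1) * (a.1 P + b.1 P) = π ^ (D P + 1) * a.1 P + π ^ (D P + 1) * b.1 P
    ring
  map_smul' c a := by
    refine Eq.trans ?_ (Algebra.smul_def c _).symm
    rw [algebraMap_residue, ← map_mul]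
    congr 1
    apply Subtype.ext
    change π ^ (D P + 1) * (c • a.1 P) = algebraMap k K c * (π ^ (D P + 1) * a.1 P)
    rw [Algebra.smul_def]; ring

theorem stepMap_apply (a : ↥(FunFld.AD (D + Finsupp.single P 1))) :
    stepMap P D hπ a = IsLocalRing.residue P.O ⟨π ^ (D P + 1) * a.1 P,
      val_pow_mul_le_one P hπ (by have := a.2 P; simpa using this)⟩ := rfl

include hπ in
theorem pi_ne_zero : π ≠ 0 := by
  intro h0; rw [h0, map_zero] at hπ; exact WithZero.exp_ne_zero hπ.symm

theorem ker_stepMap :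
    LinearMap.ker (stepMap P D hπ) =
      Submodule.comap (FunFld.AD (D + Finsupp.single P 1)).subtype (FunFld.AD D) := by
  classical
  ext a
  rw [LinearMap.mem_ker, stepMap_apply, residue_eq_zero_iff, Submodule.mem_comap]
  change P.1 (π ^ (D P + 1) * a.1 P) < 1 ↔ ∀ Q : FunFld.Place k K, Q.1 (a.1 Q) ≤ WithZero.exp (D Q)
  have key : P.1 (π ^ (D P + 1) * a.1 P) < 1 ↔ P.1 (a.1 P) ≤ WithZero.exp (D P) := by
    rw [map_mul, map_zpow₀, hπ, ← WithZero.exp_zsmul, smul_eq_mul, mul_neg_one,
      WithZero.exp_neg, inv_mul_lt_iff₀ (WithZero.exp_pos), mul_one, lt_exp_add_one_iff]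
  rw [key]
  constructor
  · intro h Q
    by_cases hQ : Q = P
    · subst hQ; exact h
    · have := a.2 Q
      simpa [Finsupp.single_apply, Ne.symm hQ] using this
  · intro h; exact h P

theorem stepMap_surjective : Function.Surjective (stepMap P D hπ) := by
  classical
  intro r
  obtain ⟨b, rfl⟩ := IsLocalRing.residue_surjective r
  have hπ0 := pi_ne_zero P hπ
  let a : FunFld.Place k K → K := Function.update 0 P (π ^ (-(D P + 1)) * (b : K))
  have ha : a ∈ FunFld.AD (D + Finsupp.single P 1) := by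
    intro Q
    by_cases hQ : Q = P
    · subst hQ
      simp only [a, Function.update_self, Finsupp.add_apply, Finsupp.single_eq_same]
      rw [map_mul, map_zpow₀, hπ, ← WithZero.exp_zsmul, smul_eq_mul]
      calc WithZero.exp (-(D Q + 1) * -1) * Q.1 (b : K)
          ≤ WithZero.exp (-(D Q + 1) * -1) * 1 := by gcongr; exact b.2
        _ = WithZero.exp (D Q + 1) := by rw [mul_one]; congr 1; ring
    · simp [a, Function.update_of_ne hQ]
  refine ⟨⟨a, ha⟩, ?_⟩
  rw [stepMap_apply]
  congr 1
  apply Subtype.ext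
  change π ^ (D P + 1) * a P = (b : K)
  simp only [a, Function.update_self]
  rw [← mul_assoc, ← zpow_add₀ hπ0, add_neg_cancel, zpow_zero, one_mul]

/-- `A(D + P)/A(D) ≅ κ(P)`. -/
noncomputable def stepEquiv :
    RelQuot (FunFld.AD D) (FunFld.AD (D + Finsupp.single P 1)) ≃ₗ[k]
      IsLocalRing.ResidueField P.O :=
  (Submodule.quotEquivOfEq _ _ (ker_stepMap P D hπ).symm).trans
    ((stepMap P D hπ).quotKerEquivOfSurjective (stepMap_surjective P D hπ))

end Step

theorem finrank_step (hK : FunFld.IsFunctionField k K) (P : FunFld.Place k K)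
    (D : FunFld.Divisor k K) :
    FiniteDimensional k (RelQuot (FunFld.AD D) (FunFld.AD (D + Finsupp.single P 1))) ∧
      Module.finrank k (RelQuot (FunFld.AD D) (FunFld.AD (D + Finsupp.single P 1))) = P.deg := by
  obtain ⟨π, hπ⟩ := exists_uniformizer P
  have := finiteDimensional_residueField hK P
  exact ⟨LinearEquiv.finiteDimensional (stepEquiv P D hπ).symm,
    LinearEquiv.finrank_eq (stepEquiv P D hπ)⟩

/-- The statement `dim A(D₂)/A(D₁) = deg D₂ - deg D₁` (with finite-dimensionality). -/
def ADQuotFormula (D₁ D₂ : FunFld.Divisor k K) : Prop :=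
  FiniteDimensional k (RelQuot (FunFld.AD D₁) (FunFld.AD D₂)) ∧
    (Module.finrank k (RelQuot (FunFld.AD D₁) (FunFld.AD D₂)) : ℤ) = D₂.deg - D₁.deg

theorem ADQuotFormula.refl (D : FunFld.Divisor k K) : ADQuotFormula D D := by
  have h : Submodule.comap (FunFld.AD D).subtype (FunFld.AD D) = ⊤ := Submodule.comap_subtype_self _
  have hs : Subsingleton (RelQuot (FunFld.AD D) (FunFld.AD D)) :=
    Submodule.Quotient.subsingleton_iff.2 h
  refine ⟨inferInstance, ?_⟩
  rw [Module.finrank_zero_of_subsingleton]; simp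

theorem ADQuotFormula.trans {D₁ D₂ D₃ : FunFld.Divisor k K} (h12 : D₁ ≤ D₂) (h23 : D₂ ≤ D₃)
    (h1 : ADQuotFormula D₁ D₂) (h2 : ADQuotFormula D₂ D₃) : ADQuotFormula D₁ D₃ := by
  obtain ⟨f1, e1⟩ := h1
  obtain ⟨f2, e2⟩ := h2
  obtain ⟨f3, e3⟩ := finrank_relQuot_chain (AD_mono h12) (AD_mono h23)
  refine ⟨f3, ?_⟩
  rw [e3]; push_cast; rw [e1, e2]; ring

theorem ADQuotFormula.step (hK : FunFld.IsFunctionField k K) (P : FunFld.Place k K)
    (D : FunFld.Divisor k K) : ADQuotFormula D (D + Finsupp.single P 1) := by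
  obtain ⟨f, e⟩ := finrank_step hK P D
  refine ⟨f, ?_⟩
  rw [e, deg_add_single]; ring

/-- Cast a `ℕ`-valued finitely supported function to a divisor. -/
noncomputable def castDiv (E : FunFld.Place k K →₀ ℕ) : FunFld.Divisor k K :=
  E.mapRange (fun n : ℕ => (n : ℤ)) rfl

theorem castDiv_nonneg (E : FunFld.Place k K →₀ ℕ) : 0 ≤ castDiv E := by
  intro P; simp [castDiv]

theorem castDiv_add (E F : FunFld.Place k K →₀ ℕ) : castDiv (E + F) = castDiv E + castDiv F := by
  ext P; simp [castDiv]

theorem castDiv_single (P : FunFld.Place k K) (n : ℕ) :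
    castDiv (Finsupp.single P n) = Finsupp.single P (n : ℤ) := by
  classical
  ext Q; simp [castDiv, Finsupp.single_apply]

theorem ADQuotFormula.add_castDiv (hK : FunFld.IsFunctionField k K)
    (E : FunFld.Place k K →₀ ℕ) : ∀ D : FunFld.Divisor k K, ADQuotFormula D (D + castDiv E) := by
  classical
  induction E using Finsupp.induction_linear with
  | zero => intro D; simpa [castDiv] using ADQuotFormula.refl D
  | add f g hf hg =>
    intro D
    rw [castDiv_add, ← add_assoc]
    refine ADQuotFormula.trans ?_ ?_ (hf D) (hg (D + castDiv f))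
    · exact le_add_of_nonneg_right (castDiv_nonneg f)
    · exact le_add_of_nonneg_right (castDiv_nonneg g)
  | single P n =>
    intro D
    induction n with
    | zero => simpa [castDiv] using ADQuotFormula.refl D
    | succ n ih =>
      rw [castDiv_single] at ih ⊢
      have h1 : Finsupp.single P ((n + 1 : ℕ) : ℤ) =
          Finsupp.single P (n : ℤ) + Finsupp.single P (1 : ℤ) := by
        rw [← Finsupp.single_add]; push_cast; rfl
      rw [h1, ← add_assoc]
      refine ADQuotFormula.trans ?_ ?_ ih (ADQuotFormula.step hK P _)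
      · apply le_add_of_nonneg_right
        intro Q; simp [Finsupp.single_apply]; split_ifs <;> simp
      · apply le_add_of_nonneg_right
        intro Q; simp [Finsupp.single_apply]; split_ifs <;> simp

theorem adQuotFormula (hK : FunFld.IsFunctionField k K) {D₁ D₂ : FunFld.Divisor k K}
    (h : D₁ ≤ D₂) : ADQuotFormula D₁ D₂ := by
  let E : FunFld.Place k K →₀ ℕ := (D₂ - D₁).mapRange Int.toNat rfl
  have hE : D₂ = D₁ + castDiv E := by
    ext P
    have := h P
    simp [castDiv, E]
    omega
  rw [hE]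
  exact ADQuotFormula.add_castDiv hK E D₁

end Groth.Agent.Lib.H40FunFld
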