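/-
Semilocal rings of function fields: functions regular on a finite set of places, and the
dimension count `dim Õ/zÕ = ∑ ord_Q z` (helper70).
-/
import Mathlib
import Groth.Agent.Lib.H40FunFldApprox
import Groth.Agent.Lib.H40FunFldAD
import Groth.Agent.Lib.H40QuotChain
import Groth.Agent.Lib.FunFldEmbed

set_option autoImplicit false

namespace Groth.Agent.Lib.FunFldSemilocal

open FunFld Groth.Agent.Lib.H40FunFld Groth.Agent.Lib.H40QuotChain

universe u v
variable {k : Type u} {K : Type v} [Field k] [Field K] [Algebra k K]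

/-- functions with valuation at most `exp (-D Q)` at the places `Q ∈ F` -/
def Bd (F : Finset (Place k K)) (D : Place k K → ℤ) : Submodule k K where
  carrier := {z | ∀ Q ∈ F, Q.1 z ≤ WithZero.exp (-(D Q))}
  add_mem' {a b} ha hb Q hQ := (Q.1.map_add a b).trans (max_le (ha Q hQ) (hb Q hQ))
  zero_mem' Q _ := by simp
  smul_mem' c a ha Q hQ := by
    rw [Algebra.smul_def, map_mul]
    exact (mul_le_mul' (Q.2.1 c) (ha Q hQ)).trans_eq (one_mul _)

theorem mem_Bd {F : Finset (Place k K)} {D : Place k K → ℤ} {z : K} :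
    z ∈ Bd F D ↔ ∀ Q ∈ F, Q.1 z ≤ WithZero.exp (-(D Q)) := Iff.rfl

theorem Bd_anti {F : Finset (Place k K)} {D D' : Place k K → ℤ} (h : ∀ Q ∈ F, D Q ≤ D' Q) :
    Bd F D' ≤ Bd F D := by
  intro z hz Q hQ
  refine (hz Q hQ).trans ?_
  rw [WithZero.exp_le_exp]
  have := h Q hQ
  omega

theorem Bd_congr {F : Finset (Place k K)} {D D' : Place k K → ℤ} (h : ∀ Q ∈ F, D Q = D' Q) :
    Bd F D = Bd F D' :=
  le_antisymm (Bd_anti fun Q hQ => (h Q hQ).ge) (Bd_anti fun Q hQ => (h Q hQ).le)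

/-- an element of `Bd F D` with exact valuation at `Q₀` -/
theorem exists_mem_Bd_val_eq (F : Finset (Place k K)) (D : Place k K → ℤ) {Q₀ : Place k K}
    (hQ₀ : Q₀ ∈ F) : ∃ z₀ ∈ Bd F D, Q₀.1 z₀ = WithZero.exp (-(D Q₀)) := by
  classical
  obtain ⟨π, hπ⟩ := exists_uniformizer Q₀
  set t : K := π ^ (D Q₀) with ht
  have hvt : Q₀.1 t = WithZero.exp (-(D Q₀)) := by
    rw [ht, map_zpow₀, hπ, ← WithZero.exp_zsmul]
    congr 1
    simp
  set N : ℕ := (F.sup fun Q => (D Q).toNat) + 1 with hN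
  have hDN : ∀ Q ∈ F, D Q < (N : ℤ) := by
    intro Q hQ
    have h1 : (D Q).toNat ≤ F.sup fun Q => (D Q).toNat :=
      Finset.le_sup (f := fun Q => (D Q).toNat) hQ
    have h2 := Int.self_le_toNat (D Q)
    rw [hN]; push_cast; omega
  obtain ⟨z, hz⟩ := exists_approx F (fun Q => if Q = Q₀ then t else 0) N
  refine ⟨z, fun Q hQ => ?_, ?_⟩
  · by_cases hQQ : Q = Q₀
    · subst hQQ
      have h1 := hz Q hQ
      rw [if_pos rfl] at h1
      have h2 : z = (z - t) + t := by ring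
      rw [h2]
      refine (Q.1.map_add _ _).trans (max_le (h1.trans ?_) hvt.le)
      rw [WithZero.exp_le_exp]
      have := hDN Q hQ
      omega
    · have h1 := hz Q hQ
      rw [if_neg hQQ, sub_zero] at h1
      refine h1.trans ?_
      rw [WithZero.exp_le_exp]
      have := hDN Q hQ
      omega
  · have h1 := hz Q₀ hQ₀
    rw [if_pos rfl] at h1
    have h2 : Q₀.1 (z - t) < Q₀.1 t := by
      rw [hvt]
      refine lt_of_le_of_lt h1 ?_
      rw [WithZero.exp_lt_exp]
      have := hDN Q₀ hQ₀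
      omega
    have h3 : z = t + (z - t) := by ring
    rw [h3, Valuation.map_add_eq_of_lt_left _ h2, hvt]

section AlgClosed

variable [IsAlgClosed k]

/-- one step in the filtration has dimension one -/
theorem finrank_step [DecidableEq (Place k K)] (hK : IsFunctionField k K)
    (F : Finset (Place k K)) (D : Place k K → ℤ) {Q₀ : Place k K} (hQ₀ : Q₀ ∈ F) :
    FiniteDimensional k (RelQuot (Bd F (Function.update D Q₀ (D Q₀ + 1))) (Bd F D)) ∧
      Module.finrank k (RelQuot (Bd F (Function.update D Q₀ (D Q₀ + 1))) (Bd F D)) = 1 := by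
  set D₁ := Function.update D Q₀ (D Q₀ + 1) with hD₁
  obtain ⟨z₀, hz₀, hvz₀⟩ := exists_mem_Bd_val_eq F D hQ₀
  have hz₀0 : z₀ ≠ 0 := by
    intro h; rw [h, map_zero] at hvz₀; exact WithZero.exp_ne_zero hvz₀.symm
  set v : RelQuot (Bd F D₁) (Bd F D) := Submodule.Quotient.mk ⟨z₀, hz₀⟩ with hv
  have hv0 : v ≠ 0 := by
    intro h
    have h1 : (⟨z₀, hz₀⟩ : Bd F D) ∈ Submodule.comap (Bd F D).subtype (Bd F D₁) :=
      (Submodule.Quotient.mk_eq_zero _).1 h
    have h2 : z₀ ∈ Bd F D₁ := h1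
    have h3 := h2 Q₀ hQ₀
    rw [hvz₀, hD₁, Function.update_self, WithZero.exp_le_exp] at h3
    omega
  have hspan : ∀ w : RelQuot (Bd F D₁) (Bd F D), ∃ c : k, c • v = w := by
    intro w
    obtain ⟨⟨z, hz⟩, rfl⟩ := Submodule.Quotient.mk_surjective _ w
    have h1 : Q₀.1 (z / z₀) ≤ 1 := by
      rw [map_div₀, hvz₀]
      exact div_le_one_of_le₀ (hz Q₀ hQ₀) zero_le
    obtain ⟨a, ha⟩ := Groth.Agent.Lib.FunFldEmbed.exists_const hK Q₀ (z / z₀) h1
    refine ⟨a, ?_⟩
    rw [hv, ← Submodule.Quotient.mk_smul, eq_comm, Submodule.Quotient.eq]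
    show ((⟨z, hz⟩ : Bd F D) - a • ⟨z₀, hz₀⟩ : Bd F D).1 ∈ Bd F D₁
    show z - a • z₀ ∈ Bd F D₁
    intro Q hQ
    by_cases hQQ : Q = Q₀
    · subst hQQ
      rw [hD₁, Function.update_self]
      have e : z - a • z₀ = z₀ * (z / z₀ - algebraMap k K a) := by
        rw [Algebra.smul_def]; field_simp
      rw [e, map_mul, hvz₀]
      have h2 : Q.1 (z / z₀ - algebraMap k K a) ≤ WithZero.exp (-1 : ℤ) :=
        lt_one_iff_le_exp_neg_one.1 ha
      calc WithZero.exp (-(D Q)) * Q.1 (z / z₀ - algebraMap k K a)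
          ≤ WithZero.exp (-(D Q)) * WithZero.exp (-1 : ℤ) := mul_le_mul' le_rfl h2
        _ = WithZero.exp (-(D Q + 1)) := by rw [← WithZero.exp_add]; congr 1; ring
    · rw [hD₁, Function.update_of_ne hQQ]
      exact (Bd F D).sub_mem hz ((Bd F D).smul_mem a hz₀) Q hQ
  have hfin : FiniteDimensional k (RelQuot (Bd F D₁) (Bd F D)) := by
    refine Module.Finite.of_surjective (LinearMap.toSpanSingleton k _ v) ?_
    intro w
    obtain ⟨c, hc⟩ := hspan w
    exact ⟨c, by rw [LinearMap.toSpanSingleton_apply, hc]⟩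
  exact ⟨hfin, (finrank_eq_one_iff_of_nonzero' v hv0).2 hspan⟩

/-- the dimension of a quotient in the filtration -/
theorem finrank_Bd (hK : IsFunctionField k K) (F : Finset (Place k K)) (D' : Place k K → ℤ) :
    ∀ (n : ℕ) (D : Place k K → ℤ), (∀ Q ∈ F, D Q ≤ D' Q) → ∑ Q ∈ F, (D' Q - D Q) = n →
      FiniteDimensional k (RelQuot (Bd F D') (Bd F D)) ∧
        Module.finrank k (RelQuot (Bd F D') (Bd F D)) = n := by
  classical
  intro n
  induction n with
  | zero =>
    intro D hD hsum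
    have heq : ∀ Q ∈ F, D Q = D' Q := by
      intro Q hQ
      have h1 := (Finset.sum_eq_zero_iff_of_nonneg (fun Q hQ => by
        show 0 ≤ D' Q - D Q
        have := hD Q hQ; omega)).1 (by exact_mod_cast hsum) Q hQ
      have h2 : D' Q - D Q = 0 := h1
      omega
    have h2 : Bd F D = Bd F D' := Bd_congr heq
    have hs : Subsingleton (RelQuot (Bd F D') (Bd F D)) := by
      apply Submodule.Quotient.subsingleton_iff.2
      rw [h2]
      exact Submodule.comap_subtype_self _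
    exact ⟨inferInstance, Module.finrank_zero_of_subsingleton⟩
  | succ n ih =>
    intro D hD hsum
    have hex : ∃ Q₀ ∈ F, D Q₀ < D' Q₀ := by
      by_contra hne
      push Not at hne
      have : ∑ Q ∈ F, (D' Q - D Q) = 0 := by
        apply Finset.sum_eq_zero
        intro Q hQ
        have h1 := hD Q hQ
        have h2 := hne Q hQ
        omega
      rw [this] at hsum
      omega
    obtain ⟨Q₀, hQ₀, hlt⟩ := hex
    set D₁ := Function.update D Q₀ (D Q₀ + 1) with hD₁
    have hD₁le : ∀ Q ∈ F, D₁ Q ≤ D' Q := by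
      intro Q hQ
      by_cases hQQ : Q = Q₀
      · subst hQQ; rw [hD₁, Function.update_self]; omega
      · rw [hD₁, Function.update_of_ne hQQ]; exact hD Q hQ
    have hDD₁ : ∀ Q ∈ F, D Q ≤ D₁ Q := by
      intro Q hQ
      by_cases hQQ : Q = Q₀
      · subst hQQ; rw [hD₁, Function.update_self]; omega
      · rw [hD₁, Function.update_of_ne hQQ]
    have hsum₁ : ∑ Q ∈ F, (D' Q - D₁ Q) = n := by
      have h1 : ∑ Q ∈ F, (D' Q - D₁ Q) = ∑ Q ∈ F, ((D' Q - D Q) - if Q = Q₀ then 1 else 0) := by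
        apply Finset.sum_congr rfl
        intro Q hQ
        by_cases hQQ : Q = Q₀
        · subst hQQ; rw [hD₁, Function.update_self, if_pos rfl]; ring
        · rw [hD₁, Function.update_of_ne hQQ, if_neg hQQ]; ring
      rw [h1, Finset.sum_sub_distrib, hsum, Finset.sum_ite_eq' F Q₀, if_pos hQ₀]
      push_cast; ring
    obtain ⟨f1, e1⟩ := ih D₁ hD₁le hsum₁
    obtain ⟨f2, e2⟩ := finrank_step hK F D hQ₀
    haveI := f1
    haveI := f2
    obtain ⟨f3, e3⟩ := finrank_relQuot_chain (A := Bd F D') (B := Bd F D₁) (C := Bd F D)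
      (Bd_anti hD₁le) (Bd_anti hDD₁)
    exact ⟨f3, by rw [e3, e1, e2]⟩

/-- the semilocal ring of functions regular at the places of `F` -/
def Ot (F : Finset (Place k K)) : Subalgebra k K where
  carrier := {z | ∀ Q ∈ F, Q.1 z ≤ 1}
  mul_mem' {a b} ha hb Q hQ := by rw [map_mul]; exact mul_le_one' (ha Q hQ) (hb Q hQ)
  add_mem' {a b} ha hb Q hQ := (Q.1.map_add a b).trans (max_le (ha Q hQ) (hb Q hQ))
  algebraMap_mem' c Q _ := Q.2.1 c

theorem mem_Ot {F : Finset (Place k K)} {z : K} : z ∈ Ot F ↔ ∀ Q ∈ F, Q.1 z ≤ 1 := Iff.rfl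

theorem mem_Bd_zero {F : Finset (Place k K)} {z : K} : z ∈ Bd F 0 ↔ z ∈ Ot F := by
  simp [mem_Bd, mem_Ot]

/-- the dimension of the quotient of the semilocal ring by a principal ideal -/
theorem finrank_Ot_quot (hK : IsFunctionField k K) (F : Finset (Place k K)) (z : Ot F)
    (hz : (z : K) ≠ 0) :
    Module.Finite k (Ot F ⧸ Ideal.span {z}) ∧
      (Module.finrank k (Ot F ⧸ Ideal.span {z}) : ℤ) = ∑ Q ∈ F, Q.ord (z : K) := by
  classical
  set D' : Place k K → ℤ := fun Q => Q.ord (z : K) with hD'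
  have hval : ∀ Q : Place k K, Q.1 (z : K) = WithZero.exp (-(D' Q)) :=
    fun Q => val_eq_exp_neg_ord Q hz
  have hnn : ∀ Q ∈ F, (0 : Place k K → ℤ) Q ≤ D' Q := by
    intro Q hQ
    have h1 := z.2 Q hQ
    rw [hval, ← WithZero.exp_zero, WithZero.exp_le_exp] at h1
    show (0 : ℤ) ≤ D' Q
    omega
  have hsum_nn : 0 ≤ ∑ Q ∈ F, D' Q := Finset.sum_nonneg hnn
  obtain ⟨f1, e1⟩ := finrank_Bd hK F D' (∑ Q ∈ F, D' Q).toNat 0 hnn (by
    rw [Int.toNat_of_nonneg hsum_nn]
    apply Finset.sum_congr rfl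
    intro Q _
    show D' Q - 0 = D' Q
    ring)
  -- the comparison map
  let ι : Ot F →ₗ[k] Bd F 0 :=
    (Ot F).val.toLinearMap.codRestrict (Bd F 0) (fun w => mem_Bd_zero.2 w.2)
  let Φ : Ot F →ₗ[k] RelQuot (Bd F D') (Bd F 0) := (Submodule.mkQ _).comp ι
  have hΦsurj : Function.Surjective Φ := by
    intro w
    obtain ⟨⟨b, hb⟩, rfl⟩ := Submodule.Quotient.mk_surjective _ w
    exact ⟨⟨b, mem_Bd_zero.1 hb⟩, rfl⟩
  have hker : LinearMap.ker Φ = (Ideal.span {z}).restrictScalars k := by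
    ext w
    rw [LinearMap.mem_ker, Submodule.restrictScalars_mem, Ideal.mem_span_singleton']
    have h1 : Φ w = 0 ↔ (w : K) ∈ Bd F D' := by
      show (Submodule.Quotient.mk (ι w) : RelQuot (Bd F D') (Bd F 0)) = 0 ↔ _
      rw [Submodule.Quotient.mk_eq_zero]
      rfl
    rw [h1, mem_Bd]
    constructor
    · intro h
      refine ⟨⟨(w : K) / z, fun Q hQ => ?_⟩, Subtype.ext ?_⟩
      · rw [map_div₀]
        have := h Q hQ
        rw [← hval] at this
        exact div_le_one_of_le₀ this zero_le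
      · show (w : K) / z * z = w
        rw [div_mul_cancel₀ _ hz]
    · rintro ⟨a, rfl⟩ Q hQ
      show Q.1 ((a : K) * z) ≤ _
      rw [map_mul, ← hval]
      exact mul_le_of_le_one_left' (a.2 Q hQ)
  let e : (Ot F ⧸ Ideal.span {z}) ≃ₗ[k] RelQuot (Bd F D') (Bd F 0) :=
    (Submodule.Quotient.restrictScalarsEquiv k (Ideal.span {z})).symm.trans
      ((Submodule.quotEquivOfEq _ _ hker.symm).trans (Φ.quotKerEquivOfSurjective hΦsurj))
  refine ⟨Module.Finite.equiv e.symm, ?_⟩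
  rw [e.finrank_eq, e1, Int.toNat_of_nonneg hsum_nn]

end AlgClosed

end Groth.Agent.Lib.FunFldSemilocal
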