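/-
Intersection multiplicities on plane models of function fields: the local ring of the plane
curve at a point, its normalisation, and `∑ ord_Q g = dim_k O/(f, g)` (helper70).
-/
import Mathlib
import Groth.Agent.Lib.FunFldSemilocal
import Groth.Agent.Lib.FunFldRelIdeal
import Groth.Agent.Lib.FunFldPlaneDeg
import Groth.Agent.S11049

set_option autoImplicit false

namespace Groth.Agent.Lib.FunFldIntMult

open FunFld Groth.Agent.Lib.H40FunFld Groth.Agent.Lib.FunFldLocRing
  Groth.Agent.Lib.FunFldConductor Groth.Agent.Lib.FunFldSemilocal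

variable {k K : Type*} [Field k] [Field K] [Algebra k K]

section Generic

variable [IsAlgClosed k] {n : ℕ}

/-- conductor plus separation: functions divisible by the conductor along the fibre of `P`
lie in the local ring at `P` -/
theorem exists_conductor_local (hK : IsFunctionField k K) (φ : Fin (n + 1) → K)
    (hφ : LinearIndependent k φ) (hn : 1 ≤ n)
    (hbir : IntermediateField.adjoin k (Set.range fun i => φ i / φ 0) = ⊤)
    {P : Place k K} (hP : Least φ 0 P) :
    ∃ c ∈ Rg k φ 0, c ≠ 0 ∧ ∀ z : K,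
      (∀ Q : Place k K, Least φ 0 Q → CommonConst φ 0 P Q → Q.1 z ≤ Q.1 c) →
        ∃ u ∈ Rg k φ 0, ∃ w ∈ Rg k φ 0, P.1 w = 1 ∧ z * w = u := by
  obtain ⟨c, hc, hc0, hcond⟩ := exists_conductor hK φ hφ
    (by rw [Fintype.card_fin]; omega) 0 hbir 0
  exact ⟨c, hc, hc0, fun z hz => main_lemma hK φ 0 hc0 hcond hP z hz⟩

end Generic

section Plane

variable [IsAlgClosed k] (hK : IsFunctionField k K) {x y : K}
  (hxy : IntermediateField.adjoin k ({x, y} : Set K) = ⊤)

include hK hxy in
theorem not_both_const :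
    ¬ (x ∈ Set.range (algebraMap k K) ∧ y ∈ Set.range (algebraMap k K)) := by
  rintro ⟨⟨a, rfl⟩, ⟨b, rfl⟩⟩
  obtain ⟨⟨t, ht, -⟩, -⟩ := hK
  have h1 : IntermediateField.adjoin k ({algebraMap k K a, algebraMap k K b} : Set K) = ⊥ := by
    rw [IntermediateField.adjoin_eq_bot_iff]
    intro z hz
    rcases hz with rfl | rfl
    · exact IntermediateField.algebraMap_mem _ _
    · exact IntermediateField.algebraMap_mem _ _
  have h2 : t ∈ (⊥ : IntermediateField k K) := by
    rw [← h1, hxy]; exact IntermediateField.mem_top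
  rw [IntermediateField.mem_bot] at h2
  obtain ⟨c, rfl⟩ := h2
  exact ht (isAlgebraic_algebraMap c)

omit [IsAlgClosed k] in
/-- uniqueness of residues -/
theorem const_eq_of_close (P : Place k K) {z : K} {a b : k}
    (ha : P.1 (z - algebraMap k K a) < 1) (hb : P.1 (z - algebraMap k K b) < 1) : a = b := by
  by_contra hne
  have h1 : algebraMap k K (a - b) = (z - algebraMap k K b) - (z - algebraMap k K a) := by
    rw [map_sub]; ring
  have h2 : P.1 (algebraMap k K (a - b)) < 1 := by
    rw [h1]; exact lt_of_le_of_lt (Valuation.map_sub _ _ _) (max_lt hb ha)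
  rw [val_algebraMap P (sub_ne_zero.2 hne)] at h2
  exact lt_irrefl _ h2

end Plane

/-- membership in the local ring of the plane curve `k[x, y]` at the point `c` -/
def InLoc (x y : K) (c : Fin 2 → k) (z : K) : Prop :=
  ∃ p s : MvPolynomial (Fin 2) k, MvPolynomial.eval c s ≠ 0 ∧
    z * MvPolynomial.aeval ![x, y] s = MvPolynomial.aeval ![x, y] p

/-- the fibre condition: `Q` lies over the point `c` -/
def Over (x y : K) (c : Fin 2 → k) (Q : Place k K) : Prop :=
  ∀ i, Q.1 (![x, y] i - algebraMap k K (c i)) < 1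

theorem val_aeval_le_one_of_over {x y : K} {c : Fin 2 → k} {Q : Place k K} (hQ : Over x y c Q)
    (p : MvPolynomial (Fin 2) k) : Q.1 (MvPolynomial.aeval ![x, y] p) ≤ 1 :=
  Groth.Agent.S11078.close_val_le Q _ _
    (Groth.Agent.Lib.FunFldRelIdeal.val_aeval_sub_lt_one Q ![x, y] c hQ p)

theorem val_aeval_eq_one_of_over {x y : K} {c : Fin 2 → k} {Q : Place k K} (hQ : Over x y c Q)
    {s : MvPolynomial (Fin 2) k} (hs : MvPolynomial.eval c s ≠ 0) :
    Q.1 (MvPolynomial.aeval ![x, y] s) = 1 :=
  Groth.Agent.S11078.close_val_eq_one Q _ _ hs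
    (Groth.Agent.Lib.FunFldRelIdeal.val_aeval_sub_lt_one Q ![x, y] c hQ s)

theorem eval_ne_zero_of_val_eq_one {x y : K} {c : Fin 2 → k} {Q : Place k K} (hQ : Over x y c Q)
    {s : MvPolynomial (Fin 2) k} (hs : Q.1 (MvPolynomial.aeval ![x, y] s) = 1) :
    MvPolynomial.eval c s ≠ 0 := by
  intro h0
  have := Groth.Agent.Lib.FunFldRelIdeal.val_aeval_sub_lt_one Q ![x, y] c hQ s
  rw [h0, map_zero, sub_zero, hs] at this
  exact lt_irrefl _ this

section Plane2

variable [IsAlgClosed k] {n : ℕ}

open Groth.Agent.Lib.FunFldNonsing in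
/-- the conductor statement for a family spanning the same ring as `x, y` -/
theorem exists_conductor_of_family (hK : IsFunctionField k K) {x y : K}
    (hxy : IntermediateField.adjoin k ({x, y} : Set K) = ⊤)
    (φ : Fin (n + 1) → K) (hφ : LinearIndependent k φ) (hn : 1 ≤ n) (hφ0 : φ 0 = 1)
    (ha : ∀ i, ∃ p : MvPolynomial (Fin 2) k, φ i = MvPolynomial.aeval ![x, y] p)
    (hx : x ∈ Rg k φ 0) (hy : y ∈ Rg k φ 0)
    {P : Place k K} {c : Fin 2 → k} (hc : Over x y c P) :
    ∃ cc : MvPolynomial (Fin 2) k, MvPolynomial.aeval ![x, y] cc ≠ 0 ∧ ∀ z : K,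
      (∀ Q : Place k K, Over x y c Q → Q.1 z ≤ Q.1 (MvPolynomial.aeval ![x, y] cc)) →
        InLoc x y c z := by
  have hRg : ∀ u ∈ Rg k φ 0, ∃ p : MvPolynomial (Fin 2) k, u = MvPolynomial.aeval ![x, y] p := by
    intro u hu
    have hle : Rg k φ 0 ≤ (MvPolynomial.aeval ![x, y] : MvPolynomial (Fin 2) k →ₐ[k] K).range := by
      apply Algebra.adjoin_le
      rintro _ ⟨i, rfl⟩
      obtain ⟨p, hp⟩ := ha i
      refine ⟨p, ?_⟩
      show MvPolynomial.aeval ![x, y] p = φ i / φ 0
      rw [hφ0, div_one, hp]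
    obtain ⟨p, hp⟩ := hle hu
    exact ⟨p, hp.symm⟩
  have hbir : IntermediateField.adjoin k (Set.range fun i => φ i / φ 0) = ⊤ := by
    rw [← top_le_iff, ← hxy, IntermediateField.adjoin_le_iff]
    intro z hz
    have hsub := IntermediateField.algebra_adjoin_le_adjoin k (Set.range fun i => φ i / φ 0)
    rcases hz with rfl | rfl
    · exact hsub hx
    · exact hsub hy
  have hP : Least φ 0 P := by
    intro i
    obtain ⟨p, hp⟩ := ha i
    rw [hφ0, map_one, hp]
    exact val_aeval_le_one_of_over hc p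
  obtain ⟨c₀, hc₀, hc₀0, hmain⟩ := exists_conductor_local hK φ hφ hn hbir hP
  obtain ⟨cc, hcc⟩ := hRg c₀ hc₀
  refine ⟨cc, by rw [← hcc]; exact hc₀0, fun z hz => ?_⟩
  have hz' : ∀ Q : Place k K, Least φ 0 Q → CommonConst φ 0 P Q → Q.1 z ≤ Q.1 c₀ := by
    intro Q _ hQcc
    rw [hcc]
    apply hz Q
    intro i
    have hmem : ![x, y] i ∈ Rg k φ 0 := by
      fin_cases i
      · exact hx
      · exact hy
    obtain ⟨a, ha1, ha2⟩ := common_residue (P := P) (Q := Q) hQcc hmem
    have : a = c i := const_eq_of_close P ha1 (hc i)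
    rw [← this]; exact ha2
  obtain ⟨u, hu, w, hw, hPw, hzw⟩ := hmain z hz'
  obtain ⟨p, hp⟩ := hRg u hu
  obtain ⟨s, hs⟩ := hRg w hw
  refine ⟨p, s, eval_ne_zero_of_val_eq_one hc (by rw [← hs]; exact hPw), ?_⟩
  rw [← hs, ← hp]; exact hzw

end Plane2

section Plane3

variable [IsAlgClosed k]

theorem linearIndependent_one_of_not_const {t : K} (ht : t ∉ Set.range (algebraMap k K)) :
    LinearIndependent k ![(1 : K), t] := by
  rw [LinearIndependent.pair_iff]
  intro a b hab
  have hb : b = 0 := by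
    by_contra hb
    apply ht
    refine ⟨-(b⁻¹ * a), ?_⟩
    have h1 : algebraMap k K a + algebraMap k K b * t = 0 := by
      simpa [Algebra.smul_def] using hab
    have hb' : algebraMap k K b ≠ 0 := by simpa using hb
    rw [map_neg, map_mul, map_inv₀]
    field_simp
    linear_combination -h1
  subst hb
  refine ⟨?_, rfl⟩
  have h1 : algebraMap k K a = 0 := by simpa [Algebra.smul_def] using hab
  simpa using h1

/-- **The conductor for a plane model.** -/
theorem exists_conductor_plane (hK : IsFunctionField k K) {x y : K}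
    (hxy : IntermediateField.adjoin k ({x, y} : Set K) = ⊤)
    {P : Place k K} {c : Fin 2 → k} (hc : Over x y c P) :
    ∃ cc : MvPolynomial (Fin 2) k, MvPolynomial.aeval ![x, y] cc ≠ 0 ∧ ∀ z : K,
      (∀ Q : Place k K, Over x y c Q → Q.1 z ≤ Q.1 (MvPolynomial.aeval ![x, y] cc)) →
        InLoc x y c z := by
  by_cases h3 : LinearIndependent k ![(1 : K), x, y]
  · refine exists_conductor_of_family hK hxy ![(1 : K), x, y] h3 (by norm_num) rfl ?_ ?_ ?_ hc
    · intro i
      fin_cases i
      · exact ⟨1, by simp⟩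
      · exact ⟨MvPolynomial.X 0, by simp⟩
      · exact ⟨MvPolynomial.X 1, by simp⟩
    · have := ratio_mem_Rg (k := k) ![(1 : K), x, y] 0 1
      simpa using this
    · have := ratio_mem_Rg (k := k) ![(1 : K), x, y] 0 2
      simpa using this
  · by_cases hxc : x ∈ Set.range (algebraMap k K)
    · have hyc : y ∉ Set.range (algebraMap k K) := fun h => not_both_const hK hxy ⟨hxc, h⟩
      have h2 := linearIndependent_one_of_not_const hyc
      refine exists_conductor_of_family hK hxy ![(1 : K), y] h2 le_rfl rfl ?_ ?_ ?_ hc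
      · intro i
        fin_cases i
        · exact ⟨1, by simp⟩
        · exact ⟨MvPolynomial.X 1, by simp⟩
      · obtain ⟨a, rfl⟩ := hxc
        exact Subalgebra.algebraMap_mem _ a
      · have := ratio_mem_Rg (k := k) ![(1 : K), y] 0 1
        simpa using this
    · have h2 := linearIndependent_one_of_not_const hxc
      have hxR : x ∈ Rg k ![(1 : K), x] 0 := by
        have := ratio_mem_Rg (k := k) ![(1 : K), x] 0 1
        simpa using this
      refine exists_conductor_of_family hK hxy ![(1 : K), x] h2 le_rfl rfl ?_ hxR ?_ hc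
      · intro i
        fin_cases i
        · exact ⟨1, by simp⟩
        · exact ⟨MvPolynomial.X 0, by simp⟩
      · rw [Fintype.linearIndependent_iff] at h3
        push Not at h3
        obtain ⟨g, hg, i, hi⟩ := h3
        rw [Fin.sum_univ_three] at hg
        simp only [Matrix.cons_val_zero, Matrix.cons_val_one, Matrix.cons_val] at hg
        have hg2 : g 2 ≠ 0 := by
          intro h0
          rw [h0, zero_smul, add_zero] at hg
          obtain ⟨e0, e1⟩ := (LinearIndependent.pair_iff.1 h2) (g 0) (g 1) hg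
          fin_cases i
          · exact hi e0
          · exact hi e1
          · exact hi h0
        have hy : y = algebraMap k K (-((g 2)⁻¹ * g 0)) + algebraMap k K (-((g 2)⁻¹ * g 1)) * x := by
          have h1 : algebraMap k K (g 0) + algebraMap k K (g 1) * x + algebraMap k K (g 2) * y
              = 0 := by
            simpa [Algebra.smul_def] using hg
          have hb' : algebraMap k K (g 2) ≠ 0 := by simpa using hg2
          simp only [map_neg, map_mul, map_inv₀]
          field_simp
          linear_combination h1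
        rw [hy]
        exact Subalgebra.add_mem _ (Subalgebra.algebraMap_mem _ _)
          (Subalgebra.mul_mem _ (Subalgebra.algebraMap_mem _ _) hxR)

end Plane3

section Main

variable [IsAlgClosed k]

theorem sum_ord_eq_finrank (hK : IsFunctionField k K) {x y : K}
    (hxy : IntermediateField.adjoin k ({x, y} : Set K) = ⊤)
    (f g : MvPolynomial (Fin 2) k) (hf : Irreducible f)
    (hfxy : MvPolynomial.aeval ![x, y] f = 0) (hgxy : MvPolynomial.aeval ![x, y] g ≠ 0)
    {P : Place k K} {c : Fin 2 → k} (hc : Over x y c P)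
    (M : Ideal (MvPolynomial (Fin 2) k)) [M.IsMaximal]
    (hM : ∀ s, s ∈ M ↔ MvPolynomial.eval c s = 0)
    (F : Finset (Place k K)) (hF : ∀ Q, Q ∈ F ↔ Over x y c Q) :
    ∑ Q ∈ F, Q.ord (MvPolynomial.aeval ![x, y] g) =
      (Module.finrank k (Localization.AtPrime M ⧸
        Ideal.map (algebraMap (MvPolynomial (Fin 2) k) (Localization.AtPrime M))
          (Ideal.span {f, g})) : ℤ) := by
  classical
  set ev : MvPolynomial (Fin 2) k →ₐ[k] K := MvPolynomial.aeval ![x, y] with hev
  have hker := Groth.Agent.Lib.FunFldPlaneDeg.ker_aeval_eq_span_of_irreducible x y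
    (not_both_const hK hxy) hf hfxy
  -- polynomials are regular on the fibre
  have hevF : ∀ p, ev p ∈ Ot F := fun p Q hQ => val_aeval_le_one_of_over ((hF Q).1 hQ) p
  have hunit : ∀ s : M.primeCompl, IsUnit (ev s) := by
    intro s
    have hs : MvPolynomial.eval c s.1 ≠ 0 := fun h => s.2 ((hM _).2 h)
    have h1 := val_aeval_eq_one_of_over hc hs
    refine IsUnit.mk0 _ (fun h0 => ?_)
    rw [hev] at h0
    rw [h0, map_zero] at h1
    exact zero_ne_one h1
  let ψ : Localization.AtPrime M →ₐ[k] K := IsLocalization.liftAlgHom (M := M.primeCompl) hunit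
  have hψmk : ∀ (p : MvPolynomial (Fin 2) k) (s : M.primeCompl),
      ψ (IsLocalization.mk' _ p s) = ev p / ev s := by
    intro p s
    show IsLocalization.lift hunit (IsLocalization.mk' _ p s) = _
    rw [IsLocalization.lift_mk'_spec]
    have hs0 : ev (s : MvPolynomial (Fin 2) k) ≠ 0 := (hunit s).ne_zero
    show ev p = ev s * (ev p / ev s)
    rw [mul_div_cancel₀ _ hs0]
  -- the range of ψ is the local ring
  have hψrange : ∀ z : K, (∃ r, ψ r = z) ↔ InLoc x y c z := by
    intro z
    constructor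
    · rintro ⟨r, rfl⟩
      obtain ⟨p, s, rfl⟩ := IsLocalization.exists_mk'_eq M.primeCompl r
      refine ⟨p, s.1, fun h => s.2 ((hM _).2 h), ?_⟩
      rw [hψmk]
      have hs0 : ev (s : MvPolynomial (Fin 2) k) ≠ 0 := (hunit s).ne_zero
      exact div_mul_cancel₀ _ hs0
    · rintro ⟨p, s, hs, hz⟩
      have hsM : s ∈ M.primeCompl := fun h => hs ((hM _).1 h)
      refine ⟨IsLocalization.mk' _ p ⟨s, hsM⟩, ?_⟩
      rw [hψmk]
      have hs0 : ev s ≠ 0 := (hunit ⟨s, hsM⟩).ne_zero
      rw [div_eq_iff hs0]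
      exact hz.symm
  -- ψ lands in the semilocal ring
  have hψF : ∀ r, ψ r ∈ Ot F := by
    intro r
    obtain ⟨p, s, rfl⟩ := IsLocalization.exists_mk'_eq M.primeCompl r
    rw [hψmk]
    intro Q hQ
    have hQo := (hF Q).1 hQ
    have hs : MvPolynomial.eval c s.1 ≠ 0 := fun h => s.2 ((hM _).2 h)
    rw [map_div₀, val_aeval_eq_one_of_over hQo hs, div_one]
    exact val_aeval_le_one_of_over hQo p
  -- the kernel of ψ
  have hψker : ∀ r, ψ r = 0 ↔ r ∈ Ideal.map (algebraMap (MvPolynomial (Fin 2) k)
      (Localization.AtPrime M)) (Ideal.span {f}) := by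
    intro r
    obtain ⟨p, s, rfl⟩ := IsLocalization.exists_mk'_eq M.primeCompl r
    rw [hψmk]
    have hs0 : ev (s : MvPolynomial (Fin 2) k) ≠ 0 := (hunit s).ne_zero
    rw [div_eq_zero_iff, or_iff_left hs0, IsLocalization.mk'_mem_map_algebraMap_iff]
    constructor
    · intro hp
      have : p ∈ RingHom.ker ev := hp
      rw [hker] at this
      exact ⟨1, Submonoid.one_mem _, by simpa using this⟩
    · rintro ⟨t, ht, htp⟩
      rw [← hker] at htp
      have h1 : ev (t * p) = 0 := htp
      rw [map_mul] at h1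
      rcases mul_eq_zero.1 h1 with h | h
      · exact absurd h (hunit ⟨t, ht⟩).ne_zero
      · exact h
  have hψalg : ∀ p, ψ (algebraMap _ _ p) = ev p := fun p => IsLocalization.lift_eq hunit p
  let ψ' : Localization.AtPrime M →ₐ[k] Ot F := ψ.codRestrict (Ot F) hψF
  have hψ'val : ∀ r, ((ψ' r : Ot F) : K) = ψ r := fun r => rfl
  let S : Subalgebra k (Ot F) := ψ'.range
  let gR : Ot F := ⟨ev g, hevF g⟩
  have hgS : gR ∈ S := ⟨algebraMap _ _ g, Subtype.ext (hψalg g)⟩
  have hgR0 : (gR : K) ≠ 0 := hgxy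
  -- finiteness of the normalisation over the local ring
  obtain ⟨cc, hcc0, hcond⟩ := exists_conductor_plane hK hxy hc
  let cR : Ot F := ⟨ev cc, hevF cc⟩
  have hle : (Ideal.span {cR}).restrictScalars k ≤ Subalgebra.toSubmodule S := by
    intro w hw
    rw [Submodule.restrictScalars_mem, Ideal.mem_span_singleton'] at hw
    obtain ⟨a, rfl⟩ := hw
    have h1 : InLoc x y c ((a : K) * ev cc) := hcond _ (fun Q hQ => by
      rw [map_mul]
      exact mul_le_of_le_one_left' (a.2 Q ((hF Q).2 hQ)))
    obtain ⟨r, hr⟩ := (hψrange _).2 h1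
    exact ⟨r, Subtype.ext hr⟩
  obtain ⟨hfinc, -⟩ := finrank_Ot_quot hK F cR hcc0
  have hfinc' : Module.Finite k (Ot F ⧸ (Ideal.span {cR}).restrictScalars k) :=
    Module.Finite.equiv (Submodule.Quotient.restrictScalarsEquiv k (Ideal.span {cR})).symm
  haveI hfinS : Module.Finite k (Ot F ⧸ Subalgebra.toSubmodule S) :=
    Module.Finite.of_surjective (Submodule.factor hle) (Submodule.factor_surjective hle)
  obtain ⟨hfing, hsum⟩ := finrank_Ot_quot hK F gR hgR0
  let gS : S := ⟨gR, hgS⟩
  haveI : Module.Finite k (Ot F ⧸ Ideal.span {((gS : S) : Ot F)}) := hfing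
  have hS := Groth.Agent.S11049.result k (Ot F) S gS (fun h => hgR0 (by
    have : ((gS : Ot F) : K) = 0 := by rw [h]; rfl
    exact this))
  -- the local ring modulo g
  let Θ : Localization.AtPrime M →ₗ[k] (S ⧸ Ideal.span {gS}) :=
    (Ideal.Quotient.mkₐ k (Ideal.span {gS})).toLinearMap.comp ψ'.rangeRestrict.toLinearMap
  have hΘ : ∀ r, Θ r = Ideal.Quotient.mk (Ideal.span {gS}) (ψ'.rangeRestrict r) := fun r => rfl
  have hΘsurj : Function.Surjective Θ := by
    intro w
    obtain ⟨a, rfl⟩ := Ideal.Quotient.mk_surjective w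
    obtain ⟨r, rfl⟩ := ψ'.rangeRestrict_surjective a
    exact ⟨r, rfl⟩
  have hΘker : LinearMap.ker Θ = (Ideal.map (algebraMap (MvPolynomial (Fin 2) k)
      (Localization.AtPrime M)) (Ideal.span {f, g})).restrictScalars k := by
    ext r
    rw [LinearMap.mem_ker, hΘ, Ideal.Quotient.eq_zero_iff_mem, Ideal.mem_span_singleton',
      Submodule.restrictScalars_mem, Ideal.map_span, Set.image_pair, Ideal.mem_span_pair]
    constructor
    · rintro ⟨a, ha⟩
      obtain ⟨r', rfl⟩ := ψ'.rangeRestrict_surjective a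
      have h1 : ψ (r - r' * algebraMap _ _ g) = 0 := by
        have h2 := congrArg (fun w : S => ((w : Ot F) : K)) ha
        have h3 : ψ r' * ev g = ψ r := h2
        rw [map_sub, map_mul, hψalg, h3, sub_self]
      rw [hψker, Ideal.map_span, Set.image_singleton, Ideal.mem_span_singleton'] at h1
      obtain ⟨u, hu⟩ := h1
      exact ⟨u, r', by rw [hu]; ring⟩
    · rintro ⟨u, v, rfl⟩
      refine ⟨ψ'.rangeRestrict v, ?_⟩
      apply Subtype.ext
      apply Subtype.ext
      show ψ v * ev g = ψ (u * algebraMap _ _ f + v * algebraMap _ _ g)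
      rw [map_add, map_mul, map_mul, hψalg, hψalg]
      have : ev f = 0 := hfxy
      rw [this, mul_zero, zero_add]
  let e : (Localization.AtPrime M ⧸ Ideal.map (algebraMap (MvPolynomial (Fin 2) k)
      (Localization.AtPrime M)) (Ideal.span {f, g})) ≃ₗ[k] (S ⧸ Ideal.span {gS}) :=
    (Submodule.Quotient.restrictScalarsEquiv k _).symm.trans
      ((Submodule.quotEquivOfEq _ _ hΘker.symm).trans (Θ.quotKerEquivOfSurjective hΘsurj))
  rw [e.finrank_eq, ← hS, ← hsum]

end Main

section SameImage

open Groth.Agent.S11078 in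
/-- the fibre of the plane map `(1 : x : y)` over a finite point -/
theorem sameImage_iff_over {x y : K} {P : Place k K} {c : Fin 2 → k} (hc : Over x y c P)
    (Q : Place k K) : SameImage ![(1 : K), x, y] P Q ↔ Over x y c Q := by
  have hφle : ∀ (R : Place k K), Over x y c R → ∀ i, R.1 (![(1 : K), x, y] i) ≤ 1 := by
    intro R hR i
    fin_cases i
    · simp
    · exact close_val_le R x (c 0) (hR 0)
    · exact close_val_le R y (c 1) (hR 1)
  constructor
  · rintro ⟨j, hj0, hPj, hQj, hcc⟩
    set φ : Fin 3 → K := ![(1 : K), x, y] with hφ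
    -- `φ j` is a unit at `P`
    have hPj1 : P.1 (φ j) = 1 := by
      apply le_antisymm (hφle P hc j)
      have := hPj 0
      simpa [hφ] using this
    obtain ⟨a₀, ha₀P, ha₀Q⟩ := hcc 0
    have e0 : φ 0 / φ j = (φ j)⁻¹ := by simp [hφ]
    rw [e0] at ha₀P ha₀Q
    have ha₀ : a₀ ≠ 0 := by
      intro h0
      rw [h0, map_zero, sub_zero, map_inv₀, hPj1, inv_one] at ha₀P
      exact lt_irrefl _ ha₀P
    -- residues of `φ i`
    have key : ∀ (R : Place k K), R.1 ((φ j)⁻¹ - algebraMap k K a₀) < 1 → ∀ (i : Fin 3) (a : k),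
        R.1 (φ i / φ j - algebraMap k K a) < 1 → R.1 (φ i - algebraMap k K (a * a₀⁻¹)) < 1 := by
      intro R hR i a hia
      have h1 := close_inv R _ a₀ ha₀ hR
      rw [inv_inv] at h1
      have h2 := close_mul R _ _ a a₀⁻¹ hia h1
      rwa [div_mul_cancel₀ _ hj0] at h2
    intro i
    have hi : ∃ i' : Fin 3, φ i' = ![x, y] i := by
      fin_cases i
      · exact ⟨1, rfl⟩
      · exact ⟨2, rfl⟩
    obtain ⟨i', hi'⟩ := hi
    obtain ⟨a, haP, haQ⟩ := hcc i'
    have h1 := key P ha₀P i' a haP
    have h2 := key Q ha₀Q i' a haQ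
    rw [hi'] at h1 h2
    have : a * a₀⁻¹ = c i := const_eq_of_close P h1 (hc i)
    rw [← this]; exact h2
  · intro hQ
    refine ⟨0, by simp, fun i => ?_, fun i => ?_, fun i => ?_⟩
    · simpa using hφle P hc i
    · simpa using hφle Q hQ i
    · fin_cases i
      · exact ⟨1, by simp, by simp⟩
      · exact ⟨c 0, by simpa using hc 0, by simpa using hQ 0⟩
      · exact ⟨c 1, by simpa using hc 1, by simpa using hQ 1⟩

/-- the fibre over a finite point is finite -/
theorem finite_over [IsAlgClosed k] (hK : IsFunctionField k K) {x y : K}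
    (hxy : IntermediateField.adjoin k ({x, y} : Set K) = ⊤) (c : Fin 2 → k) :
    {Q : Place k K | Over x y c Q}.Finite := by
  have hnd := not_both_const hK hxy
  have key : ∀ (t : K) (a : k), t ∉ Set.range (algebraMap k K) →
      {Q : Place k K | Q.1 (t - algebraMap k K a) < 1}.Finite := by
    intro t a ht
    have h0 : t - algebraMap k K a ≠ 0 := fun h => ht ⟨a, (sub_eq_zero.1 h).symm⟩
    refine (finite_support_ord hK (t - algebraMap k K a)).subset ?_
    intro Q hQ
    rw [Function.mem_support]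
    intro h
    have hQ' : Q.1 (t - algebraMap k K a) < 1 := hQ
    rw [val_eq_exp_neg_ord Q h0, h, neg_zero, WithZero.exp_zero] at hQ'
    exact lt_irrefl _ hQ'
  by_cases hx : x ∈ Set.range (algebraMap k K)
  · have hy : y ∉ Set.range (algebraMap k K) := fun h => hnd ⟨hx, h⟩
    exact (key y (c 1) hy).subset fun Q hQ => hQ 1
  · exact (key x (c 0) hx).subset fun Q hQ => hQ 0

end SameImage

end Groth.Agent.Lib.FunFldIntMult
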