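/-
First order Taylor expansion of multivariate polynomials at a rational point (helper70).
-/
import Mathlib

set_option autoImplicit false

namespace Groth.Agent.Lib.FunFldTaylor

open MvPolynomial

variable {k : Type*} [Field k] {ι : Type*}

/-- the maximal ideal of the point `c` -/
noncomputable def maxId (c : ι → k) : Ideal (MvPolynomial ι k) :=
  Ideal.span (Set.range fun l => X l - C (c l))

theorem X_sub_C_mem_maxId (c : ι → k) (l : ι) : X l - C (c l) ∈ maxId c :=
  Ideal.subset_span ⟨l, rfl⟩

theorem sub_C_eval_mem_maxId (c : ι → k) (G : MvPolynomial ι k) :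
    G - C (eval c G) ∈ maxId c := by
  induction G using MvPolynomial.induction_on with
  | C a => simp
  | add p q hp hq =>
    have e : p + q - C (eval c (p + q)) = (p - C (eval c p)) + (q - C (eval c q)) := by
      simp only [map_add]; ring
    rw [e]; exact Ideal.add_mem _ hp hq
  | mul_X p i hp =>
    have e : p * X i - C (eval c (p * X i)) =
        (p - C (eval c p)) * X i + C (eval c p) * (X i - C (c i)) := by
      simp only [map_mul, eval_X]; ring
    rw [e]
    exact Ideal.add_mem _ (Ideal.mul_mem_right _ _ hp)
      (Ideal.mul_mem_left _ _ (X_sub_C_mem_maxId c i))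

theorem eval_eq_zero_of_mem_maxId (c : ι → k) {G : MvPolynomial ι k} (hG : G ∈ maxId c) :
    eval c G = 0 := by
  have h1 : maxId c ≤ RingHom.ker (eval c) := by
    rw [maxId, Ideal.span_le]
    rintro _ ⟨l, rfl⟩
    simp
  exact h1 hG

theorem mem_maxId_iff (c : ι → k) (G : MvPolynomial ι k) : G ∈ maxId c ↔ eval c G = 0 := by
  constructor
  · exact eval_eq_zero_of_mem_maxId c
  · intro h
    have := sub_C_eval_mem_maxId c G
    rwa [h, map_zero, sub_zero] at this

theorem eval_pderiv_eq_zero_of_mem_sq (c : ι → k) {Q : MvPolynomial ι k}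
    (hQ : Q ∈ maxId c * maxId c) (l : ι) : eval c (pderiv l Q) = 0 := by
  refine Submodule.mul_induction_on hQ ?_ ?_
  · intro a ha b hb
    rw [Derivation.leibniz, map_add, smul_eq_mul, smul_eq_mul, map_mul, map_mul,
      eval_eq_zero_of_mem_maxId c ha, eval_eq_zero_of_mem_maxId c hb]
    ring
  · intro a b ha hb
    rw [map_add, map_add, ha, hb, add_zero]

theorem eval_eq_zero_of_mem_sq (c : ι → k) {Q : MvPolynomial ι k}
    (hQ : Q ∈ maxId c * maxId c) : eval c Q = 0 :=
  eval_eq_zero_of_mem_maxId c (Ideal.mul_le_left hQ)

variable [Fintype ι]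

/-- first order Taylor expansion -/
theorem taylor_one (c : ι → k) (G : MvPolynomial ι k) :
    G - C (eval c G) - ∑ l, C (eval c (pderiv l G)) * (X l - C (c l)) ∈
      maxId c * maxId c := by
  classical
  induction G using MvPolynomial.induction_on with
  | C a => simp
  | add p q hp hq =>
    have e : p + q - C (eval c (p + q)) - ∑ l, C (eval c (pderiv l (p + q))) * (X l - C (c l)) =
        (p - C (eval c p) - ∑ l, C (eval c (pderiv l p)) * (X l - C (c l))) +
          (q - C (eval c q) - ∑ l, C (eval c (pderiv l q)) * (X l - C (c l))) := by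
      simp only [map_add, add_mul, Finset.sum_add_distrib]; ring
    rw [e]; exact Ideal.add_mem _ hp hq
  | mul_X p i hp =>
    have h1 : ∀ l, eval c (pderiv l (p * X i)) =
        eval c (pderiv l p) * c i + eval c p * (if l = i then 1 else 0) := by
      intro l
      rw [Derivation.leibniz, pderiv_X, map_add, smul_eq_mul, smul_eq_mul, map_mul, map_mul,
        eval_X]
      by_cases h : l = i
      · subst h; simp; ring
      · rw [Pi.single_apply, if_neg (Ne.symm h), if_neg h]; simp; ring
    have e : p * X i - C (eval c (p * X i)) -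
          ∑ l, C (eval c (pderiv l (p * X i))) * (X l - C (c l)) =
        (p - C (eval c p) - ∑ l, C (eval c (pderiv l p)) * (X l - C (c l))) * X i +
          (X i - C (c i)) * ∑ l, C (eval c (pderiv l p)) * (X l - C (c l)) := by
      simp only [h1, map_add, map_mul, add_mul, Finset.sum_add_distrib, eval_X]
      have h2 : ∑ l, C (eval c p) * C (if l = i then (1 : k) else 0) * (X l - C (c l)) =
          C (eval c p) * (X i - C (c i)) := by
        rw [Finset.sum_eq_single i]
        · simp
        · intro b _ hb; simp [hb]
        · intro h; exact absurd (Finset.mem_univ _) h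
      have h3 : ∑ l, C (eval c (pderiv l p)) * C (c i) * (X l - C (c l)) =
          C (c i) * ∑ l, C (eval c (pderiv l p)) * (X l - C (c l)) := by
        rw [Finset.mul_sum]
        refine Finset.sum_congr rfl fun l _ => ?_
        ring
      rw [h2, h3]
      ring
    rw [e]
    refine Ideal.add_mem _ (Ideal.mul_mem_right _ _ hp) ?_
    refine Ideal.mul_mem_mul (X_sub_C_mem_maxId c i) ?_
    exact Ideal.sum_mem _ fun l _ => Ideal.mul_mem_left _ _ (X_sub_C_mem_maxId c l)

end Groth.Agent.Lib.FunFldTaylor
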