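/-
The Jacobian criterion for nonsingularity of a projective map of a function field at a place
(helper70).
-/
import Mathlib
import Groth.Agent.Lib.FunFldRelIdeal
import Groth.Agent.Lib.FunFldTaylor

set_option autoImplicit false

namespace Groth.Agent.Lib.FunFldJacobian

open FunFld Groth.Agent.Lib.H40FunFld MvPolynomial Groth.Agent.Lib.FunFldRelIdeal
  Groth.Agent.Lib.FunFldTaylor Groth.Agent.Lib.FunFldLocRing Groth.Agent.Lib.FunFldConductor

variable {k K : Type*} [Field k] [Field K] [Algebra k K]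

section DVR

/-- values of nonzero integral elements -/
theorem exists_nat_val_eq (P : Place k K) {a : K} (ha0 : a ≠ 0) (ha : P.1 a ≤ 1) :
    ∃ m : ℕ, P.1 a = WithZero.exp (-(m : ℤ)) := by
  have h0 : P.1 a ≠ 0 := by simpa using ha0
  have h1 : P.1 a = WithZero.exp (WithZero.log (P.1 a)) := (WithZero.exp_log h0).symm
  have h2 : WithZero.log (P.1 a) ≤ 0 := by
    have h3 : WithZero.exp (WithZero.log (P.1 a)) ≤ WithZero.exp 0 := by
      rw [← h1, WithZero.exp_zero]; exact ha
    exact WithZero.exp_le_exp.mp h3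
  obtain ⟨m, hm⟩ := Int.eq_ofNat_of_zero_le (neg_nonneg.mpr h2)
  exact ⟨m, by rw [← hm, neg_neg]; exact h1⟩

/-- a subalgebra of the valuation ring whose maximal ideal at `P` is principal up to units
has the valuation ring as its localization -/
theorem mem_loc_of_principal (P : Place k K) (A : Subalgebra k K) (hA : ∀ a ∈ A, P.1 a ≤ 1)
    {t₀ r₀ : K} (ht₀A : t₀ ∈ A) (hr₀A : r₀ ∈ A) (hr₀ : P.1 r₀ = 1) (ht₀ : P.1 t₀ < 1)
    (h : ∀ a ∈ A, P.1 a < 1 → ∃ a' ∈ A, r₀ * a = t₀ * a')
    (hfrac : ∀ z : K, ∃ s ∈ A, s ≠ 0 ∧ s * z ∈ A) (z : K) (hz : P.1 z ≤ 1) :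
    ∃ a ∈ A, ∃ w ∈ A, P.1 w = 1 ∧ z * w = a := by
  have hr₀0 : r₀ ≠ 0 := by
    intro h0; rw [h0, map_zero] at hr₀; exact zero_ne_one hr₀
  -- the key claim
  have claim : ∀ m : ℕ, ∀ a ∈ A, a ≠ 0 → P.1 a = WithZero.exp (-(m : ℤ)) →
      ∃ e : ℕ, ∃ w ∈ A, ∃ w' ∈ A, P.1 w = 1 ∧ P.1 w' = 1 ∧ a * w = t₀ ^ e * w' := by
    intro m
    induction m using Nat.strong_induction_on with
    | _ m ih =>
      intro a haA ha0 hva
      by_cases hm : m = 0
      · subst hm
        refine ⟨0, 1, Subalgebra.one_mem _, a, haA, map_one _, ?_, by ring⟩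
        rw [hva]; simp
      · have hlt : P.1 a < 1 := by
          rw [hva, ← WithZero.exp_zero, WithZero.exp_lt_exp]
          have : 0 < m := Nat.pos_of_ne_zero hm
          omega
        obtain ⟨a', ha'A, hra⟩ := h a haA hlt
        have ht₀0 : t₀ ≠ 0 := by
          intro h0; rw [h0, zero_mul] at hra
          exact (mul_ne_zero hr₀0 ha0) hra
        have ha'0 : a' ≠ 0 := by
          intro h0; rw [h0, mul_zero] at hra
          exact (mul_ne_zero hr₀0 ha0) hra
        obtain ⟨m', hm'⟩ := exists_nat_val_eq P ha'0 (hA a' ha'A)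
        obtain ⟨mt, hmt⟩ := exists_nat_val_eq P ht₀0 ht₀.le
        have hmt1 : 1 ≤ mt := by
          rw [hmt, ← WithZero.exp_zero, WithZero.exp_lt_exp] at ht₀
          omega
        have hval := congrArg P.1 hra
        rw [map_mul, map_mul, hr₀, one_mul, hva, hmt, hm', ← WithZero.exp_add,
          WithZero.exp_inj] at hval
        have hm'lt : m' < m := by omega
        obtain ⟨e, w, hwA, w', hw'A, hw, hw', he⟩ := ih m' hm'lt a' ha'A ha'0 hm'
        refine ⟨e + 1, r₀ * w, Subalgebra.mul_mem _ hr₀A hwA, w', hw'A, ?_, hw', ?_⟩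
        · rw [map_mul, hr₀, hw, one_mul]
        · calc a * (r₀ * w) = (r₀ * a) * w := by ring
            _ = t₀ * (a' * w) := by rw [hra]; ring
            _ = t₀ ^ (e + 1) * w' := by rw [he]; ring
  by_cases hz0 : z = 0
  · exact ⟨0, Subalgebra.zero_mem _, 1, Subalgebra.one_mem _, map_one _, by rw [hz0, zero_mul]⟩
  obtain ⟨s, hsA, hs0, hszA⟩ := hfrac z
  have hb0 : s * z ≠ 0 := mul_ne_zero hs0 hz0
  obtain ⟨ms, hms⟩ := exists_nat_val_eq P hs0 (hA s hsA)
  obtain ⟨mb, hmb⟩ := exists_nat_val_eq P hb0 (hA _ hszA)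
  obtain ⟨es, ws, hwsA, ws', hws'A, hws, hws', hes⟩ := claim ms s hsA hs0 hms
  obtain ⟨eb, wb, hwbA, wb', hwb'A, hwb, hwb', heb⟩ := claim mb _ hszA hb0 hmb
  have ht₀0 : t₀ ≠ 0 ∨ (es = 0 ∧ eb = 0) := by
    by_cases h0 : t₀ = 0
    · right
      constructor
      · by_contra hes0
        rw [h0, zero_pow hes0, zero_mul] at hes
        have : P.1 (s * ws) = 0 := by rw [hes, map_zero]
        rw [map_mul, hws, mul_one] at this
        exact hs0 (by simpa using this)
      · by_contra heb0
        rw [h0, zero_pow heb0, zero_mul] at heb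
        have : P.1 (s * z * wb) = 0 := by rw [heb, map_zero]
        rw [map_mul, hwb, mul_one] at this
        exact hb0 (by simpa using this)
    · left; exact h0
  -- valuations
  have hvs : P.1 s = P.1 t₀ ^ es := by
    have := congrArg P.1 hes
    rwa [map_mul, map_mul, hws, hws', mul_one, mul_one, map_pow] at this
  have hvb : P.1 s * P.1 z = P.1 t₀ ^ eb := by
    have := congrArg P.1 heb
    rwa [map_mul, map_mul, map_mul, hwb, hwb', mul_one, mul_one, map_pow] at this
  have hle : es ≤ eb := by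
    rcases ht₀0 with ht₀0 | ⟨h1, h2⟩
    · by_contra hlt
      rw [not_le] at hlt
      have hvt0 : P.1 t₀ ≠ 0 := by simpa using ht₀0
      have h1 : P.1 t₀ ^ eb ≤ P.1 t₀ ^ es := by
        rw [← hvs, ← hvb]
        calc P.1 s * P.1 z ≤ P.1 s * 1 := mul_le_mul_right hz _
          _ = P.1 s := mul_one _
      have h2 : P.1 t₀ ^ es < P.1 t₀ ^ eb :=
        pow_lt_pow_right_of_lt_one₀ (zero_lt_iff.mpr hvt0) ht₀ hlt
      exact absurd h1 (not_le.mpr h2)
    · omega
  refine ⟨t₀ ^ (eb - es) * (wb' * ws),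
    Subalgebra.mul_mem _ (Subalgebra.pow_mem _ ht₀A _) (Subalgebra.mul_mem _ hwb'A hwsA),
    wb * ws', Subalgebra.mul_mem _ hwbA hws'A, by rw [map_mul, hwb, hws', one_mul], ?_⟩
  have hsw0 : s * ws ≠ 0 := by
    intro h0
    have : P.1 (s * ws) = 0 := by rw [h0, map_zero]
    rw [map_mul, hws, mul_one] at this
    exact hs0 (by simpa using this)
  apply mul_left_cancel₀ hsw0
  calc s * ws * (z * (wb * ws')) = (s * z * wb) * (ws * ws') := by ring
    _ = t₀ ^ eb * wb' * (ws * ws') := by rw [heb]
    _ = t₀ ^ (eb - es) * (t₀ ^ es * ws') * (wb' * ws) := by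
        rw [← Nat.sub_add_cancel hle, pow_add]
        simp only [Nat.add_sub_cancel]
        ring
    _ = s * ws * (t₀ ^ (eb - es) * (wb' * ws)) := by rw [← hes]; ring

end DVR

section Grad

variable {ι : Type*}

/-- the gradient at the point `c` -/
noncomputable def grad (c : ι → k) : MvPolynomial ι k →ₗ[k] (ι → k) where
  toFun G := fun l => eval c (pderiv l G)
  map_add' G H := by ext l; simp
  map_smul' a G := by ext l; simp [Derivation.map_smul]

theorem grad_apply (c : ι → k) (G : MvPolynomial ι k) (l : ι) :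
    grad c G l = eval c (pderiv l G) := rfl

theorem grad_mul (c : ι → k) (G H : MvPolynomial ι k) :
    grad c (H * G) = eval c H • grad c G + eval c G • grad c H := by
  ext l
  simp only [grad_apply, Derivation.leibniz, map_add, smul_eq_mul, map_mul, Pi.add_apply,
    Pi.smul_apply]

theorem grad_mul_of_eval_eq_zero (c : ι → k) {G : MvPolynomial ι k} (hG : eval c G = 0)
    (H : MvPolynomial ι k) : grad c (H * G) = eval c H • grad c G := by
  rw [grad_mul, hG, zero_smul, add_zero]

theorem grad_eq_zero_of_mem_sq (c : ι → k) {Q : MvPolynomial ι k}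
    (hQ : Q ∈ maxId c * maxId c) : grad c Q = 0 := by
  ext l
  exact eval_pderiv_eq_zero_of_mem_sq c hQ l

variable [Fintype ι]

/-- the linear form `∑ λ_l (X_l - c_l)` -/
noncomputable def lin (c : ι → k) : (ι → k) →ₗ[k] MvPolynomial ι k where
  toFun lam := ∑ l, C (lam l) * (X l - C (c l))
  map_add' a b := by simp [add_mul, Finset.sum_add_distrib]
  map_smul' a b := by
    simp only [Pi.smul_apply, smul_eq_mul, map_mul, RingHom.id_apply, Finset.smul_sum]
    refine Finset.sum_congr rfl fun l _ => ?_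
    rw [MvPolynomial.smul_eq_C_mul]; ring

theorem lin_apply (c : ι → k) (lam : ι → k) :
    lin c lam = ∑ l, C (lam l) * (X l - C (c l)) := rfl

theorem lin_mem_maxId (c : ι → k) (lam : ι → k) : lin c lam ∈ maxId c :=
  Ideal.sum_mem _ fun l _ => Ideal.mul_mem_left _ _ (X_sub_C_mem_maxId c l)

theorem eval_lin (c : ι → k) (lam : ι → k) : eval c (lin c lam) = 0 :=
  eval_eq_zero_of_mem_maxId c (lin_mem_maxId c lam)

theorem grad_lin [DecidableEq ι] (c : ι → k) (lam : ι → k) : grad c (lin c lam) = lam := by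
  ext m
  rw [grad_apply, lin_apply, map_sum, map_sum]
  rw [Finset.sum_eq_single m]
  · simp [Derivation.leibniz, pderiv_X]
  · intro b _ hb
    simp [Derivation.leibniz, pderiv_X, Pi.single_apply, hb]
  · intro h; exact absurd (Finset.mem_univ _) h

/-- Taylor expansion in terms of `grad` and `lin` -/
theorem taylor (c : ι → k) (G : MvPolynomial ι k) :
    G - C (eval c G) - lin c (grad c G) ∈ maxId c * maxId c :=
  taylor_one c G

theorem aeval_lin {A : Type*} [CommRing A] [Algebra k A] (c : ι → k) (lam : ι → k)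
    (u : ι → A) :
    MvPolynomial.aeval u (lin c lam) = ∑ l, lam l • (u l - algebraMap k A (c l)) := by
  rw [lin_apply, map_sum]
  refine Finset.sum_congr rfl fun l _ => ?_
  rw [map_mul, map_sub, aeval_C, aeval_X, aeval_C, Algebra.smul_def]

end Grad

section RelSpace

variable {ι : Type*}

/-- the space of gradients at `c` of the homogeneous relations of `φ` -/
noncomputable def relSpace (φ : ι → K) (c : ι → k) : Submodule k (ι → k) :=
  Submodule.map (grad c) ((RingHom.ker (relHom k φ)).restrictScalars k)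

theorem mem_relSpace {φ : ι → K} {c : ι → k} {lam : ι → k} :
    lam ∈ relSpace φ c ↔ ∃ G ∈ RingHom.ker (relHom k φ), grad c G = lam := by
  unfold relSpace
  rw [Submodule.mem_map]
  rfl

/-- homogeneous relations vanish at the image point -/
theorem eval_eq_zero_of_mem_ker {φ : ι → K} {P : Place k K} {j : ι} {c : ι → k}
    (hpt : IsPoint φ P j c) {G : MvPolynomial ι k} (hG : G ∈ RingHom.ker (relHom k φ)) :
    eval c G = 0 := by
  have h1 := ker_relHom_le_of_isPoint hpt hG
  rw [mem_ker_relHom_iff] at h1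
  conv_lhs => rw [← sum_homogeneousComponent G]
  rw [map_sum]
  refine Finset.sum_eq_zero fun d _ => ?_
  rw [← h1 d, MvPolynomial.aeval_eq_eval]

/-- homogeneous relations are relations among the affine coordinates -/
theorem aeval_ratio_eq_zero_of_mem_ker {φ : ι → K} (j : ι) {G : MvPolynomial ι k}
    (hG : G ∈ RingHom.ker (relHom k φ)) :
    MvPolynomial.aeval (fun i => φ i / φ j) G = 0 := by
  rw [mem_ker_relHom_iff] at hG
  conv_lhs => rw [← sum_homogeneousComponent G]
  rw [map_sum]
  refine Finset.sum_eq_zero fun d _ => ?_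
  simp only [div_eq_mul_inv]
  rw [aeval_mul_of_isHomogeneous φ _ (homogeneousComponent_isHomogeneous d G), hG d, zero_mul]

/-- if the relation ideal is generated by `f`, the relation space is spanned by the gradients
of `f` -/
theorem relSpace_eq_span {φ : ι → K} {P : Place k K} {j : ι} {c : ι → k}
    (hpt : IsPoint φ P j c) {r : ℕ} (f : Fin r → MvPolynomial ι k)
    (hgen : Ideal.span (Set.range f) = RingHom.ker (relHom k φ)) :
    relSpace φ c = Submodule.span k (Set.range fun i => grad c (f i)) := by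
  have hfm : ∀ i, f i ∈ RingHom.ker (relHom k φ) := fun i => by
    rw [← hgen]; exact Ideal.subset_span ⟨i, rfl⟩
  apply le_antisymm
  · intro lam hlam
    obtain ⟨G, hG, rfl⟩ := mem_relSpace.1 hlam
    rw [← hgen] at hG
    obtain ⟨H, rfl⟩ := (Ideal.mem_span_range_iff_exists_fun).1 hG
    rw [map_sum]
    refine Submodule.sum_mem _ fun i _ => ?_
    rw [grad_mul_of_eval_eq_zero c (eval_eq_zero_of_mem_ker hpt (hfm i))]
    exact Submodule.smul_mem _ _ (Submodule.subset_span ⟨i, rfl⟩)
  · rw [Submodule.span_le]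
    rintro _ ⟨i, rfl⟩
    exact mem_relSpace.2 ⟨f i, hfm i, rfl⟩

variable [Fintype ι]

/-- Euler: gradients of homogeneous relations are orthogonal to the point -/
theorem dot_eq_zero_of_mem_relSpace {φ : ι → K} {P : Place k K} {j : ι} {c : ι → k}
    (hpt : IsPoint φ P j c) {lam : ι → k} (hlam : lam ∈ relSpace φ c) :
    ∑ l, lam l * c l = 0 := by
  obtain ⟨G, hG, rfl⟩ := mem_relSpace.1 hlam
  have h1 : ∀ d, ∑ l, grad c (homogeneousComponent d G) l * c l = 0 := by
    intro d
    have h2 := (homogeneousComponent_isHomogeneous d G).sum_X_mul_pderiv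
    have h3 := congrArg (eval c) h2
    rw [map_sum, map_nsmul, eval_eq_zero_of_mem_ker hpt (homogeneousComponent_mem_ker φ hG d),
      smul_zero] at h3
    rw [← h3]
    refine Finset.sum_congr rfl fun l _ => ?_
    rw [map_mul, eval_X, grad_apply, mul_comm]
  have h4 : G = ∑ d ∈ Finset.range (G.totalDegree + 1), homogeneousComponent d G :=
    (sum_homogeneousComponent G).symm
  have h5 : grad c G = ∑ d ∈ Finset.range (G.totalDegree + 1),
      grad c (homogeneousComponent d G) := by
    conv_lhs => rw [h4]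
    rw [map_sum]
  rw [h5]
  simp only [Finset.sum_apply, Finset.sum_mul]
  rw [Finset.sum_comm]
  exact Finset.sum_eq_zero fun d _ => h1 d

/-- homogenization: an affine relation in the chart `j` is a homogeneous relation up to a
multiple of `X_j - 1` -/
theorem exists_homogenization (ψ : ι → K) (j : ι) (hψ : ψ j = 1) {G : MvPolynomial ι k}
    (hG : MvPolynomial.aeval ψ G = 0) :
    ∃ G' ∈ RingHom.ker (relHom k ψ), ∃ H : MvPolynomial ι k, G = G' + H * (X j - 1) := by
  set N := G.totalDegree with hN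
  let G' : MvPolynomial ι k :=
    ∑ d ∈ Finset.range (N + 1), X j ^ (N - d) * homogeneousComponent d G
  have hhom : G'.IsHomogeneous N := by
    refine IsHomogeneous.sum _ _ _ fun d hd => ?_
    have hd' : d ≤ N := by rw [Finset.mem_range] at hd; omega
    have h1 := (isHomogeneous_X_pow (R := k) j (N - d)).mul
      (homogeneousComponent_isHomogeneous d G)
    rwa [Nat.sub_add_cancel hd'] at h1
  have hG'ker : G' ∈ RingHom.ker (relHom k ψ) := by
    rw [mem_ker_relHom_of_isHomogeneous ψ hhom, map_sum]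
    rw [← hG]
    conv_rhs => rw [← sum_homogeneousComponent G, map_sum]
    refine Finset.sum_congr rfl fun d _ => ?_
    rw [map_mul, map_pow, aeval_X, hψ, one_pow, one_mul]
  have hdiff : G - G' ∈ Ideal.span {X j - (1 : MvPolynomial ι k)} := by
    have e : G - G' = ∑ d ∈ Finset.range (N + 1),
        (1 - X j ^ (N - d)) * homogeneousComponent d G := by
      conv_lhs => rw [← sum_homogeneousComponent G]
      rw [← Finset.sum_sub_distrib]
      refine Finset.sum_congr rfl fun d _ => ?_
      ring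
    rw [e]
    refine Ideal.sum_mem _ fun d _ => Ideal.mul_mem_right _ _ ?_
    rw [Ideal.mem_span_singleton]
    have h1 : X j - (1 : MvPolynomial ι k) ∣ X j ^ (N - d) - 1 ^ (N - d) :=
      sub_dvd_pow_sub_pow _ _ _
    rw [one_pow] at h1
    have h2 : (1 : MvPolynomial ι k) - X j ^ (N - d) = -(X j ^ (N - d) - 1) := by ring
    rw [h2]
    exact (dvd_neg).mpr h1
  rw [Ideal.mem_span_singleton] at hdiff
  obtain ⟨H, hH⟩ := hdiff
  exact ⟨G', hG'ker, H, by rw [mul_comm, ← hH]; ring⟩

/-- an affine relation whose gradient is orthogonal to the point gives an element of the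
relation space -/
theorem grad_mem_relSpace_of_aeval_eq_zero {φ : ι → K} {P : Place k K} {j : ι} {c : ι → k}
    (hpt : IsPoint φ P j c) {G : MvPolynomial ι k}
    (hG : MvPolynomial.aeval (fun i => φ i / φ j) G = 0)
    (hdot : ∑ l, grad c G l * c l = 0) : grad c G ∈ relSpace φ c := by
  classical
  have hcj := hpt.apply_self
  have hψ : (fun i => φ i / φ j) j = 1 := div_self hpt.1
  obtain ⟨G', hG', H, e⟩ := exists_homogenization (fun i => φ i / φ j) j hψ hG
  have hker : RingHom.ker (relHom k fun i => φ i / φ j) = RingHom.ker (relHom k φ) := by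
    simp only [div_eq_mul_inv]
    exact ker_relHom_mul φ (inv_ne_zero hpt.1)
  rw [hker] at hG'
  have hXj : eval c (X j - 1 : MvPolynomial ι k) = 0 := by simp [hcj]
  have h1 : grad c G = grad c G' + eval c H • grad c (X j - 1) := by
    rw [e, map_add, grad_mul_of_eval_eq_zero c hXj]
  have h2 : grad c (X j - 1 : MvPolynomial ι k) = Pi.single j 1 := by
    ext l
    simp [grad_apply, pderiv_X, Pi.single_apply, eq_comm]
  have h3 := dot_eq_zero_of_mem_relSpace hpt (mem_relSpace.2 ⟨G', hG', rfl⟩)
  have h4 : eval c H = 0 := by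
    rw [h1, h2] at hdot
    simp only [Pi.add_apply, Pi.smul_apply, smul_eq_mul, add_mul, Finset.sum_add_distrib, h3,
      zero_add] at hdot
    rw [Finset.sum_eq_single j] at hdot
    · simpa [hcj] using hdot
    · intro b _ hb; simp [hb]
    · intro h; exact absurd (Finset.mem_univ _) h
  rw [h1, h4, zero_smul, add_zero]
  exact mem_relSpace.2 ⟨G', hG', rfl⟩

end RelSpace

section Val

variable {ι : Type*} {φ : ι → K} {P : Place k K} {j : ι} {c : ι → k}

theorem aeval_mem_Rg (φ : ι → K) (j : ι) (G : MvPolynomial ι k) :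
    MvPolynomial.aeval (fun i => φ i / φ j) G ∈ Rg k φ j := by
  unfold Rg
  rw [Algebra.adjoin_range_eq_range_aeval]
  exact ⟨G, rfl⟩

theorem exists_aeval_eq_of_mem_Rg {a : K} (ha : a ∈ Rg k φ j) :
    ∃ G : MvPolynomial ι k, MvPolynomial.aeval (fun i => φ i / φ j) G = a := by
  unfold Rg at ha
  rw [Algebra.adjoin_range_eq_range_aeval] at ha
  exact ha

theorem val_aeval_lt_one_iff (hpt : IsPoint φ P j c) (G : MvPolynomial ι k) :
    P.1 (MvPolynomial.aeval (fun i => φ i / φ j) G) < 1 ↔ eval c G = 0 :=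
  Groth.Agent.S11078.close_lt_one_iff P _ _ (val_aeval_sub_lt_one P _ c hpt.2.2 G)

theorem val_aeval_eq_one (hpt : IsPoint φ P j c) {G : MvPolynomial ι k} (hG : eval c G ≠ 0) :
    P.1 (MvPolynomial.aeval (fun i => φ i / φ j) G) = 1 :=
  Groth.Agent.S11078.close_val_eq_one P _ _ hG (val_aeval_sub_lt_one P _ c hpt.2.2 G)

theorem val_aeval_le_one (hpt : IsPoint φ P j c) (G : MvPolynomial ι k) :
    P.1 (MvPolynomial.aeval (fun i => φ i / φ j) G) ≤ 1 :=
  Groth.Agent.S11078.close_val_le P _ _ (val_aeval_sub_lt_one P _ c hpt.2.2 G)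

theorem val_aeval_le_of_mem_sq (hpt : IsPoint φ P j c) {Q : MvPolynomial ι k}
    (hQ : Q ∈ maxId c * maxId c) :
    P.1 (MvPolynomial.aeval (fun i => φ i / φ j) Q) ≤ WithZero.exp (-2 : ℤ) := by
  refine Submodule.mul_induction_on hQ ?_ ?_
  · intro a ha b hb
    rw [map_mul, map_mul]
    have h1 := (lt_one_iff_le_exp _).1
      ((val_aeval_lt_one_iff hpt a).2 (eval_eq_zero_of_mem_maxId c ha))
    have h2 := (lt_one_iff_le_exp _).1
      ((val_aeval_lt_one_iff hpt b).2 (eval_eq_zero_of_mem_maxId c hb))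
    calc _ ≤ WithZero.exp (-1 : ℤ) * WithZero.exp (-1 : ℤ) := mul_le_mul' h1 h2
      _ = WithZero.exp (-2 : ℤ) := by rw [← WithZero.exp_add]; norm_num
  · intro a b ha hb
    rw [map_add]
    exact (P.1.map_add _ _).trans (max_le ha hb)

end Val

section Converse

variable {ι : Type*} [Fintype ι] {φ : ι → K} {P : Place k K} {j : ι} {c : ι → k}

theorem lin_single [DecidableEq ι] (c : ι → k) (l : ι) :
    lin c (Pi.single l 1) = X l - C (c l) := by
  rw [lin_apply, Finset.sum_eq_single l]
  · simp
  · intro b _ hb; simp [Pi.single_apply, hb]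
  · intro h; exact absurd (Finset.mem_univ _) h

/-- the generators of the maximal ideal of the point, modulo relations and squares -/
theorem gen_mem [DecidableEq ι] (hpt : IsPoint φ P j c) (l₀ : ι)
    (h : ∀ l, ∃ a : k, ((Pi.single l 1 - c l • Pi.single j 1 : ι → k) -
      a • (Pi.single l₀ 1 - c l₀ • Pi.single j 1)) ∈ relSpace φ c) (l : ι) :
    (X l - C (c l) : MvPolynomial ι k) ∈
      (Ideal.span {(X l₀ - C (c l₀) : MvPolynomial ι k)} ⊔
        RingHom.ker (MvPolynomial.aeval (R := k) fun i => φ i / φ j)) ⊔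
          maxId c * maxId c := by
  have hcj := hpt.apply_self
  obtain ⟨a, ha⟩ := h l
  obtain ⟨G, hG, hgrad⟩ := mem_relSpace.1 ha
  have hGc : eval c G = 0 := eval_eq_zero_of_mem_ker hpt hG
  have hGa : G ∈ RingHom.ker (MvPolynomial.aeval (R := k) fun i => φ i / φ j) :=
    aeval_ratio_eq_zero_of_mem_ker j hG
  have hXj : (X j - C (c j) : MvPolynomial ι k) ∈
      RingHom.ker (MvPolynomial.aeval (R := k) fun i => φ i / φ j) := by
    rw [RingHom.mem_ker, map_sub, aeval_X, aeval_C, hcj, map_one, div_self hpt.1, sub_self]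
  have ht := taylor c G
  rw [hGc, map_zero, sub_zero, hgrad] at ht
  have e : (X l - C (c l) : MvPolynomial ι k) =
      C a * (X l₀ - C (c l₀)) + (G + (C (c l) - C a * C (c l₀)) * (X j - C (c j))) -
        (G - lin c ((Pi.single l 1 - c l • Pi.single j 1 : ι → k) -
          a • (Pi.single l₀ 1 - c l₀ • Pi.single j 1))) := by
    simp only [map_sub, map_smul, lin_single, MvPolynomial.smul_eq_C_mul]
    ring
  rw [e]
  refine Ideal.sub_mem _ (Ideal.mem_sup_left (Ideal.add_mem _ ?_ ?_)) (Ideal.mem_sup_right ht)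
  · exact Ideal.mem_sup_left (Ideal.mul_mem_left _ _ (Ideal.mem_span_singleton_self _))
  · exact Ideal.mem_sup_right (Ideal.add_mem _ hGa (Ideal.mul_mem_left _ _ hXj))

open scoped Pointwise in
/-- if the relation space together with one coordinate direction fills the orthogonal
complement of the point, the map is nonsingular at `P` -/
theorem isNonsingularAt_of_relSpace [DecidableEq ι] (hne : ∀ i, φ i ≠ 0) (j₀ : ι)
    (hbir : IntermediateField.adjoin k (Set.range fun i => φ i / φ j₀) = ⊤)
    (hpt : IsPoint φ P j c) (l₀ : ι)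
    (h : ∀ l, ∃ a : k, ((Pi.single l 1 - c l • Pi.single j 1 : ι → k) -
      a • (Pi.single l₀ 1 - c l₀ • Pi.single j 1)) ∈ relSpace φ c) :
    IsNonsingularAt φ P := by
  have hfg : (maxId c).FG := Submodule.fg_span (Set.finite_range _)
  have hle : maxId c ≤ (Ideal.span {(X l₀ - C (c l₀) : MvPolynomial ι k)} ⊔
      RingHom.ker (MvPolynomial.aeval (R := k) fun i => φ i / φ j)) ⊔
        maxId c • maxId c := by
    have h1 : Ideal.span (Set.range fun l => (X l - C (c l) : MvPolynomial ι k)) ≤
        (Ideal.span {(X l₀ - C (c l₀) : MvPolynomial ι k)} ⊔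
          RingHom.ker (MvPolynomial.aeval (R := k) fun i => φ i / φ j)) ⊔
            maxId c • maxId c := by
      rw [Ideal.span_le]
      rintro _ ⟨l, rfl⟩
      exact gen_mem hpt l₀ h l
    exact h1
  obtain ⟨r, hr1, hr⟩ :=
    Submodule.exists_sub_one_mem_and_smul_le_of_fg_of_le_sup hfg le_rfl hle
  have hrc : eval c r = 1 := by
    have := eval_eq_zero_of_mem_maxId c hr1
    rw [map_sub, map_one] at this
    exact sub_eq_zero.mp this
  have hr₀ : P.1 (MvPolynomial.aeval (fun i => φ i / φ j) r) = 1 :=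
    val_aeval_eq_one hpt (by rw [hrc]; exact one_ne_zero)
  have ht₀ : P.1 (MvPolynomial.aeval (fun i => φ i / φ j) (X l₀ - C (c l₀) : MvPolynomial ι k))
      < 1 := (val_aeval_lt_one_iff hpt _).2 (by simp)
  have key : ∀ a ∈ Rg k φ j, P.1 a < 1 → ∃ a' ∈ Rg k φ j,
      MvPolynomial.aeval (fun i => φ i / φ j) r * a =
        MvPolynomial.aeval (fun i => φ i / φ j) (X l₀ - C (c l₀) : MvPolynomial ι k) * a' := by
    intro a haA hva
    obtain ⟨G, rfl⟩ := exists_aeval_eq_of_mem_Rg haA
    have hG : G ∈ maxId c := (mem_maxId_iff c G).2 ((val_aeval_lt_one_iff hpt G).1 hva)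
    have h1 : r • G ∈ r • (maxId c : Submodule (MvPolynomial ι k) (MvPolynomial ι k)) :=
      Submodule.smul_mem_pointwise_smul _ _ _ hG
    have h2 := hr h1
    obtain ⟨y, hy, z, hz, e⟩ := Submodule.mem_sup.1 h2
    obtain ⟨y', rfl⟩ := Ideal.mem_span_singleton'.1 hy
    refine ⟨MvPolynomial.aeval (fun i => φ i / φ j) y', aeval_mem_Rg φ j y', ?_⟩
    have h3 := congrArg (MvPolynomial.aeval (fun i => φ i / φ j)) e
    rw [map_add, (RingHom.mem_ker).1 hz, add_zero, smul_eq_mul, map_mul, map_mul] at h3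
    rw [← h3, mul_comm]
  intro z hz
  obtain ⟨a, haA, w, hwA, hw, e⟩ := mem_loc_of_principal P (Rg k φ j)
    (fun a ha => val_le_one_of_mem_Rg hpt.2.1 ha) (aeval_mem_Rg φ j _) (aeval_mem_Rg φ j r)
    hr₀ ht₀ key
    (exists_denominator φ j (adjoin_ratio_eq_top φ j₀ j (hne j) (hne j₀) hbir)) z hz
  exact ⟨j, hpt.1, hpt.2.1, a, haA, w, hwA, hw, e⟩

end Converse

section Direct

variable {ι : Type*} [Fintype ι] {φ : ι → K} {P : Place k K} {j : ι} {c : ι → k}

theorem val_smul_le (P : Place k K) (a : k) (x : K) : P.1 (a • x) ≤ P.1 x := by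
  rw [Algebra.smul_def, map_mul]
  calc P.1 (algebraMap k K a) * P.1 x ≤ 1 * P.1 x := mul_le_mul_left (P.2.1 a) _
    _ = P.1 x := one_mul _

theorem val_smul_eq (P : Place k K) {a : k} (ha : a ≠ 0) (x : K) : P.1 (a • x) = P.1 x := by
  rw [Algebra.smul_def, map_mul, Groth.Agent.S11078.val_const P a ha, one_mul]

theorem lt_exp_neg_one_iff (x : WithZero (Multiplicative ℤ)) :
    x < WithZero.exp (-1 : ℤ) ↔ x ≤ WithZero.exp (-2 : ℤ) := by
  have e : (WithZero.exp (-1 : ℤ) : WithZero (Multiplicative ℤ)) =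
      WithZero.exp ((-2 : ℤ) + 1) := by norm_num
  rw [e, lt_exp_add_one_iff]

/-- at a nonsingular point the relation space is the orthogonal complement of the point and
the tangent direction -/
theorem relSpace_eq_of_isNonsingularAt [IsAlgClosed k] [DecidableEq ι]
    (hK : IsFunctionField k K) (hpt : IsPoint φ P j c) (hns : IsNonsingularAt φ P) :
    ∃ τ : ι → k, τ j = 0 ∧ τ ≠ 0 ∧ ∀ lam : ι → k, lam ∈ relSpace φ c ↔
      (∑ l, lam l * c l = 0 ∧ ∑ l, lam l * τ l = 0) := by
  have hcj := hpt.apply_self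
  -- a uniformizer in the coordinate ring
  obtain ⟨π₀, hπ₀⟩ := exists_uniformizer P
  have hπ₀1 : P.1 π₀ ≤ 1 := by
    rw [hπ₀, ← WithZero.exp_zero, WithZero.exp_le_exp]; norm_num
  obtain ⟨π, hπA, w₀, -, hw₀, e₀⟩ := inLocRing_index (hns π₀ hπ₀1) j hpt.1 hpt.2.1
  have hπ : P.1 π = WithZero.exp (-1 : ℤ) := by rw [← e₀, map_mul, hw₀, mul_one, hπ₀]
  have hπ0 : π ≠ 0 := by
    intro h0; rw [h0, map_zero] at hπ; exact WithZero.exp_ne_zero hπ.symm
  obtain ⟨Pp, hPp⟩ := exists_aeval_eq_of_mem_Rg hπA
  have hPpm : Pp ∈ maxId c := by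
    rw [mem_maxId_iff, ← val_aeval_lt_one_iff hpt, hPp, hπ, ← WithZero.exp_zero,
      WithZero.exp_lt_exp]
    norm_num
  -- the coordinates
  set t : ι → K := fun l => φ l / φ j - algebraMap k K (c l) with ht
  have htv : ∀ l, P.1 (t l) ≤ WithZero.exp (-1 : ℤ) := fun l =>
    (lt_one_iff_le_exp _).1 (hpt.2.2 l)
  have htπ : ∀ l, P.1 (t l / π) ≤ 1 := by
    intro l
    rw [map_div₀, hπ]
    exact div_le_one_of_le₀ (htv l) zero_le
  choose τ hτ using fun l => Groth.Agent.Lib.FunFldEmbed.exists_const hK P (t l / π) (htπ l)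
  have hτ' : ∀ l, P.1 (t l - τ l • π) ≤ WithZero.exp (-2 : ℤ) := by
    intro l
    have e : t l - τ l • π = (t l / π - algebraMap k K (τ l)) * π := by
      rw [Algebra.smul_def]; field_simp
    rw [e, map_mul, hπ]
    have h1 := (lt_one_iff_le_exp _).1 (hτ l)
    calc _ ≤ WithZero.exp (-1 : ℤ) * WithZero.exp (-1 : ℤ) := mul_le_mul_left h1 _
      _ = WithZero.exp (-2 : ℤ) := by rw [← WithZero.exp_add]; norm_num
  have hev : ∀ lam : ι → k, MvPolynomial.aeval (fun i => φ i / φ j) (lin c lam) =
      ∑ l, lam l • t l := fun lam => aeval_lin c lam _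
  -- the key equivalence
  have hkey : ∀ lam : ι → k, P.1 (∑ l, lam l • t l) ≤ WithZero.exp (-2 : ℤ) ↔
      ∑ l, lam l * τ l = 0 := by
    intro lam
    have hdiff : P.1 (∑ l, lam l • t l - (∑ l, lam l * τ l) • π) ≤ WithZero.exp (-2 : ℤ) := by
      have e : ∑ l, lam l • t l - (∑ l, lam l * τ l) • π =
          ∑ l, lam l • (t l - τ l • π) := by
        rw [Finset.sum_smul, ← Finset.sum_sub_distrib]
        refine Finset.sum_congr rfl fun l _ => ?_
        rw [smul_sub (lam l) (t l) (τ l • π), mul_smul]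
      rw [e]
      exact P.1.map_sum_le fun l _ => (val_smul_le P _ _).trans (hτ' l)
    constructor
    · intro hle
      by_contra hs
      have h1 : P.1 ((∑ l, lam l * τ l) • π) = WithZero.exp (-1 : ℤ) := by
        rw [val_smul_eq P hs, hπ]
      have h2 : (∑ l, lam l * τ l) • π =
          ∑ l, lam l • t l - (∑ l, lam l • t l - (∑ l, lam l * τ l) • π) := by ring
      have h3 : P.1 ((∑ l, lam l * τ l) • π) ≤ WithZero.exp (-2 : ℤ) := by
        rw [h2]
        exact (P.1.map_sub _ _).trans (max_le hle hdiff)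
      rw [h1, WithZero.exp_le_exp] at h3
      norm_num at h3
    · intro hs
      rw [hs, zero_smul, sub_zero] at hdiff
      exact hdiff
  refine ⟨τ, ?_, ?_, ?_⟩
  · have h1 := hτ j
    have h2 : t j = 0 := by
      simp only [ht]; rw [div_self hpt.1, hcj, map_one, sub_self]
    rw [h2, zero_div, zero_sub, Valuation.map_neg] at h1
    by_contra h0
    rw [Groth.Agent.S11078.val_const P _ h0] at h1
    exact lt_irrefl _ h1
  · intro hτ0
    obtain ⟨H, hH⟩ := (Ideal.mem_span_range_iff_exists_fun).1 hPpm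
    have h1 : π = ∑ l, MvPolynomial.aeval (fun i => φ i / φ j) (H l) * t l := by
      rw [← hPp, ← hH, map_sum]
      refine Finset.sum_congr rfl fun l _ => ?_
      rw [map_mul, map_sub, aeval_X, aeval_C]
    have h2 : P.1 π < WithZero.exp (-1 : ℤ) := by
      rw [h1]
      refine P.1.map_sum_lt WithZero.exp_ne_zero fun l _ => ?_
      rw [map_mul]
      have h3 : P.1 (t l) < WithZero.exp (-1 : ℤ) := by
        have h4 := hτ' l
        rw [hτ0, Pi.zero_apply, zero_smul, sub_zero] at h4
        exact (lt_exp_neg_one_iff _).2 h4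
      calc _ ≤ 1 * P.1 (t l) := mul_le_mul_left (val_aeval_le_one hpt (H l)) _
        _ = P.1 (t l) := one_mul _
        _ < _ := h3
    rw [hπ] at h2
    exact lt_irrefl _ h2
  · intro lam
    constructor
    · intro hlam
      refine ⟨dot_eq_zero_of_mem_relSpace hpt hlam, ?_⟩
      obtain ⟨G, hG, rfl⟩ := mem_relSpace.1 hlam
      have h1 := taylor c G
      rw [eval_eq_zero_of_mem_ker hpt hG, map_zero, sub_zero] at h1
      have h2 := val_aeval_le_of_mem_sq hpt h1
      rw [map_sub, aeval_ratio_eq_zero_of_mem_ker j hG, zero_sub, Valuation.map_neg, hev] at h2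
      exact (hkey _).1 h2
    · rintro ⟨hc, hτl⟩
      have hv := (hkey lam).2 hτl
      have hz : P.1 ((∑ l, lam l • t l) / π ^ 2) ≤ 1 := by
        rw [map_div₀, map_pow, hπ, ← WithZero.exp_nsmul]
        refine div_le_one_of_le₀ ?_ zero_le
        simpa using hv
      obtain ⟨a', ha'A, w, hwA, hw, e⟩ := inLocRing_index (hns _ hz) j hpt.1 hpt.2.1
      obtain ⟨A', hA'⟩ := exists_aeval_eq_of_mem_Rg ha'A
      obtain ⟨W, hW⟩ := exists_aeval_eq_of_mem_Rg hwA
      have hWc : eval c W ≠ 0 := by
        intro h0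
        have := (val_aeval_lt_one_iff hpt W).2 h0
        rw [hW, hw] at this
        exact lt_irrefl _ this
      have hG₁ : MvPolynomial.aeval (fun i => φ i / φ j) (W * lin c lam - Pp * Pp * A') = 0 := by
        rw [map_sub, map_mul, map_mul, map_mul, hW, hPp, hA', hev, ← e]
        field_simp
        ring
      have hsq : Pp * Pp * A' ∈ maxId c * maxId c :=
        Ideal.mul_mem_right _ _ (Ideal.mul_mem_mul hPpm hPpm)
      have hgrad : grad c (W * lin c lam - Pp * Pp * A') = eval c W • lam := by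
        rw [map_sub, grad_mul_of_eval_eq_zero c (eval_lin c lam), grad_lin,
          grad_eq_zero_of_mem_sq c hsq, sub_zero]
      have hdot : ∑ l, grad c (W * lin c lam - Pp * Pp * A') l * c l = 0 := by
        rw [hgrad]
        simp only [Pi.smul_apply, smul_eq_mul, mul_assoc]
        rw [← Finset.mul_sum, hc, mul_zero]
      have h1 := grad_mem_relSpace_of_aeval_eq_zero hpt hG₁ hdot
      rw [hgrad] at h1
      have h2 := Submodule.smul_mem _ (eval c W)⁻¹ h1
      rwa [smul_smul, inv_mul_cancel₀ hWc, one_smul] at h2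

end Direct

section Dim

variable {ι : Type*} [Fintype ι]

/-- the dot product with `c` as a linear form -/
noncomputable def dotL (c : ι → k) : (ι → k) →ₗ[k] k where
  toFun lam := ∑ l, lam l * c l
  map_add' a b := by simp [add_mul, Finset.sum_add_distrib]
  map_smul' a b := by simp [Finset.mul_sum, mul_assoc]

theorem dotL_apply (c lam : ι → k) : dotL c lam = ∑ l, lam l * c l := rfl

theorem dotL_single [DecidableEq ι] (c : ι → k) (l : ι) : dotL c (Pi.single l 1) = c l := by
  rw [dotL_apply, Finset.sum_eq_single l]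
  · simp
  · intro b _ hb; simp [Pi.single_apply, hb]
  · intro h; exact absurd (Finset.mem_univ _) h

theorem finrank_ker_dotL [DecidableEq ι] {c : ι → k} {j : ι} (hcj : c j = 1) :
    Module.finrank k (LinearMap.ker (dotL c)) + 1 = Fintype.card ι := by
  have hsurj : Function.Surjective (dotL c) := by
    intro a
    refine ⟨a • Pi.single j 1, ?_⟩
    rw [map_smul, dotL_single, hcj, smul_eq_mul, mul_one]
  have h1 := LinearMap.finrank_range_add_finrank_ker (dotL c)
  rw [LinearMap.range_eq_top.2 hsurj, finrank_top, Module.finrank_self,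
    Module.finrank_fintype_fun_eq_card] at h1
  omega

theorem finrank_ker_prod [DecidableEq ι] {c τ : ι → k} {j : ι} (hcj : c j = 1) (hτj : τ j = 0)
    (hτ : τ ≠ 0) :
    Module.finrank k (LinearMap.ker ((dotL c).prod (dotL τ))) + 2 = Fintype.card ι := by
  obtain ⟨l₁, hl₁⟩ := Function.ne_iff.1 hτ
  rw [Pi.zero_apply] at hl₁
  have hsurj : Function.Surjective ((dotL c).prod (dotL τ)) := by
    rintro ⟨a, b⟩
    refine ⟨a • Pi.single j 1 + (b / τ l₁) • (Pi.single l₁ 1 - c l₁ • Pi.single j 1), ?_⟩
    refine Prod.ext ?_ ?_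
    · show dotL c _ = a
      simp only [map_add, map_smul, map_sub, dotL_single, hcj, smul_eq_mul]
      ring
    · show dotL τ _ = b
      simp only [map_add, map_smul, map_sub, dotL_single, hτj, smul_eq_mul, mul_zero, sub_zero,
        zero_add]
      field_simp
  have h1 := LinearMap.finrank_range_add_finrank_ker ((dotL c).prod (dotL τ))
  rw [LinearMap.range_eq_top.2 hsurj, finrank_top, Module.finrank_prod, Module.finrank_self,
    Module.finrank_fintype_fun_eq_card] at h1
  omega

variable [IsAlgClosed k]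

/-- **Jacobian criterion**, abstract form: the map is nonsingular at `P` iff the space of
gradients of its homogeneous relations at the image point has dimension `n - 1` -/
theorem isNonsingularAt_iff_finrank (hK : IsFunctionField k K) {n : ℕ} (hn : 1 ≤ n)
    {φ : Fin (n + 1) → K} (hne : ∀ i, φ i ≠ 0) (j₀ : Fin (n + 1))
    (hbir : IntermediateField.adjoin k (Set.range fun i => φ i / φ j₀) = ⊤)
    {P : Place k K} {j : Fin (n + 1)} {c : Fin (n + 1) → k} (hpt : IsPoint φ P j c) :
    IsNonsingularAt φ P ↔ Module.finrank k (relSpace φ c) = n - 1 := by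
  classical
  have hcj := hpt.apply_self
  constructor
  · intro hns
    obtain ⟨τ, hτj, hτ, hmem⟩ := relSpace_eq_of_isNonsingularAt hK hpt hns
    have heq : relSpace φ c = LinearMap.ker ((dotL c).prod (dotL τ)) := by
      ext lam
      rw [hmem lam, LinearMap.mem_ker]
      constructor
      · rintro ⟨h1, h2⟩
        exact Prod.ext h1 h2
      · intro h
        exact ⟨congrArg Prod.fst h, congrArg Prod.snd h⟩
    have h1 := finrank_ker_prod hcj hτj hτ
    rw [← heq, Fintype.card_fin] at h1
    omega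
  · intro hfr
    have hV := finrank_ker_dotL (j := j) hcj
    rw [Fintype.card_fin] at hV
    have hNV : relSpace φ c ≤ LinearMap.ker (dotL c) := fun lam hlam =>
      LinearMap.mem_ker.2 (dot_eq_zero_of_mem_relSpace hpt hlam)
    set b : Fin (n + 1) → (Fin (n + 1) → k) :=
      fun l => Pi.single l 1 - c l • Pi.single j 1 with hb
    have hbV : ∀ l, b l ∈ LinearMap.ker (dotL c) := by
      intro l
      rw [LinearMap.mem_ker, hb]
      simp only [map_sub, map_smul, dotL_single, hcj, smul_eq_mul, mul_one, sub_self]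
    have hex : ∃ l₀, b l₀ ∉ relSpace φ c := by
      by_contra hcon
      push Not at hcon
      have hVN : LinearMap.ker (dotL c) ≤ relSpace φ c := by
        intro lam hlam
        have e : lam = ∑ l, lam l • b l := by
          have h1 : ∑ l, lam l • b l =
              ∑ l, lam l • (Pi.single l 1 : Fin (n + 1) → k) -
                (∑ l, lam l * c l) • (Pi.single j 1 : Fin (n + 1) → k) := by
            rw [Finset.sum_smul, ← Finset.sum_sub_distrib]
            refine Finset.sum_congr rfl fun l _ => ?_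
            rw [hb, smul_sub, smul_smul]
          have h2 : ∑ l, lam l * c l = 0 := LinearMap.mem_ker.1 hlam
          rw [h1, h2, zero_smul, sub_zero]
          ext m
          rw [Finset.sum_apply, Finset.sum_eq_single m]
          · simp
          · intro l _ hl; simp [hl.symm]
          · intro h; exact absurd (Finset.mem_univ _) h
        rw [e]
        exact Submodule.sum_mem _ fun l _ => Submodule.smul_mem _ _ (hcon l)
      have := Submodule.finrank_mono hVN
      omega
    obtain ⟨l₀, hl₀⟩ := hex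
    have hsup : relSpace φ c ⊔ Submodule.span k {b l₀} = LinearMap.ker (dotL c) := by
      have hle : relSpace φ c ⊔ Submodule.span k {b l₀} ≤ LinearMap.ker (dotL c) :=
        sup_le hNV ((Submodule.span_singleton_le_iff_mem _ _).2 (hbV l₀))
      have hlt : relSpace φ c < relSpace φ c ⊔ Submodule.span k {b l₀} := by
        refine lt_of_le_of_ne le_sup_left ?_
        intro heq
        apply hl₀
        rw [heq]
        exact Submodule.mem_sup_right (Submodule.mem_span_singleton_self _)
      have h1 := Submodule.finrank_lt_finrank_of_lt hlt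
      have h2 := Submodule.finrank_mono hle
      exact Submodule.eq_of_le_of_finrank_eq hle (by omega)
    refine isNonsingularAt_of_relSpace hne j₀ hbir hpt l₀ ?_
    intro l
    have h1 : b l ∈ relSpace φ c ⊔ Submodule.span k {b l₀} := by rw [hsup]; exact hbV l
    obtain ⟨ν, hν, y, hy, e⟩ := Submodule.mem_sup.1 h1
    obtain ⟨a, rfl⟩ := Submodule.mem_span_singleton.1 hy
    refine ⟨a, ?_⟩
    have : b l - a • b l₀ = ν := by rw [← e]; abel
    rw [hb] at this
    simp only at this
    rw [this]
    exact hν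

end Dim

end Groth.Agent.Lib.FunFldJacobian
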