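/-
Leading coefficients at a place of a function field over an algebraically closed constant field
(helper70).  `rho : P.O →+* k` (residue map), `lcf π n f` = residue of `f * π ^ n`, its additivity /
multiplicativity on the spaces `L (n • P)`, and the kernel `L ((n - 1) • P)`.
-/
import Mathlib
import Groth.Agent.Lib.H40FunFldWeil
import Groth.Agent.Lib.H40FunFldGaps

set_option autoImplicit false

namespace Groth.Agent.Lib.FunFldLC

open FunFld Groth.Agent.Lib.H40FunFld

variable {k K : Type*} [Field k] [Field K] [Algebra k K]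

section Residue

variable [IsAlgClosed k]

theorem algebraMap_residue_bijective (hK : IsFunctionField k K) (P : Place k K) :
    Function.Bijective (algebraMap k (IsLocalRing.ResidueField P.O)) := by
  have hfin : Module.Finite k (IsLocalRing.ResidueField P.O) :=
    finiteDimensional_residueField hK P
  have hint : Algebra.IsIntegral k (IsLocalRing.ResidueField P.O) :=
    @Algebra.IsIntegral.of_finite k (IsLocalRing.ResidueField P.O) _ _ _ hfin
  exact IsAlgClosed.algebraMap_bijective_of_isIntegral (k := k)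

/-- `k ≃ κ(P)` -/
noncomputable def resEquiv (hK : IsFunctionField k K) (P : Place k K) :
    k ≃+* IsLocalRing.ResidueField P.O :=
  RingEquiv.ofBijective (algebraMap k (IsLocalRing.ResidueField P.O))
    (algebraMap_residue_bijective hK P)

/-- the residue map `O_P → k` -/
noncomputable def rho (hK : IsFunctionField k K) (P : Place k K) : P.O →+* k :=
  (resEquiv hK P).symm.toRingHom.comp (IsLocalRing.residue P.O)

theorem rho_algebraMap (hK : IsFunctionField k K) (P : Place k K) (c : k) :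
    rho hK P ⟨algebraMap k K c, P.2.1 c⟩ = c := by
  unfold rho
  rw [RingHom.comp_apply, ← algebraMap_residue]
  exact (resEquiv hK P).symm_apply_apply c

theorem rho_eq_zero_iff (hK : IsFunctionField k K) (P : Place k K) (a : P.O) :
    rho hK P a = 0 ↔ P.1 (a : K) < 1 := by
  unfold rho
  rw [RingHom.comp_apply, ← residue_eq_zero_iff]
  exact (resEquiv hK P).symm.map_eq_zero_iff

end Residue

section LnP

/-- membership in `L (m • P)` -/
theorem mem_L_zsmul_single (P : Place k K) (m : ℤ) (f : K) :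
    f ∈ L (m • (Finsupp.single P 1 : Divisor k K)) ↔
      P.1 f ≤ WithZero.exp m ∧ ∀ Q : Place k K, Q ≠ P → Q.1 f ≤ 1 := by
  classical
  rw [mem_L_iff]
  constructor
  · intro h
    refine ⟨?_, fun Q hQ => ?_⟩
    · have := h P
      rwa [Finsupp.smul_apply, Finsupp.single_eq_same, smul_eq_mul, mul_one] at this
    · have := h Q
      rwa [Finsupp.smul_apply, Finsupp.single_eq_of_ne hQ, smul_zero, WithZero.exp_zero] at this
  · rintro ⟨h1, h2⟩ Q
    by_cases hQ : Q = P
    · subst hQ
      rwa [Finsupp.smul_apply, Finsupp.single_eq_same, smul_eq_mul, mul_one]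
    · rw [Finsupp.smul_apply, Finsupp.single_eq_of_ne hQ, smul_zero, WithZero.exp_zero]
      exact h2 Q hQ

theorem L_zsmul_single_mono (P : Place k K) {m m' : ℤ} (h : m ≤ m') :
    L (m • (Finsupp.single P 1 : Divisor k K)) ≤ L (m' • (Finsupp.single P 1 : Divisor k K)) := by
  intro f hf
  rw [mem_L_zsmul_single] at hf ⊢
  exact ⟨hf.1.trans (WithZero.exp_le_exp.mpr h), hf.2⟩

end LnP

section LC

variable [IsAlgClosed k]

/-- the leading coefficient (w.r.t. `π`) of an element with pole order `≤ n` at `P` -/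
noncomputable def lcf (hK : IsFunctionField k K) (P : Place k K) (π : K) (n : ℕ) (f : K) : k :=
  if h : P.1 (f * π ^ n) ≤ 1 then rho hK P ⟨f * π ^ n, h⟩ else 0

variable (hK : IsFunctionField k K) (P : Place k K) {π : K} (hπ : P.1 π = WithZero.exp (-1 : ℤ))

include hπ in
theorem val_mul_pow_le {n : ℕ} {f : K}
    (hf : f ∈ L ((n : ℤ) • (Finsupp.single P 1 : Divisor k K))) : P.1 (f * π ^ n) ≤ 1 := by
  have h1 := ((mem_L_zsmul_single P n f).1 hf).1
  rw [map_mul, map_pow, hπ, ← WithZero.exp_nsmul]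
  calc P.1 f * WithZero.exp (n • (-1 : ℤ)) ≤ WithZero.exp (n : ℤ) * WithZero.exp (n • (-1 : ℤ)) :=
        mul_le_mul_left h1 _
    _ = 1 := by
        rw [← WithZero.exp_add, ← WithZero.exp_zero]
        congr 1
        simp

include hπ in
theorem lcf_eq {n : ℕ} {f : K}
    (hf : f ∈ L ((n : ℤ) • (Finsupp.single P 1 : Divisor k K))) :
    lcf hK P π n f = rho hK P ⟨f * π ^ n, val_mul_pow_le P hπ hf⟩ := by
  unfold lcf
  rw [dif_pos (val_mul_pow_le P hπ hf)]

theorem lcf_zero (π : K) (n : ℕ) : lcf hK P π n 0 = 0 := by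
  unfold lcf
  split_ifs with h
  · have : (⟨0 * π ^ n, h⟩ : P.O) = 0 := by
      apply Subtype.ext; simp
    rw [this, map_zero]
  · rfl

include hπ in
theorem lcf_add {n : ℕ} {f g : K}
    (hf : f ∈ L ((n : ℤ) • (Finsupp.single P 1 : Divisor k K)))
    (hg : g ∈ L ((n : ℤ) • (Finsupp.single P 1 : Divisor k K))) :
    lcf hK P π n (f + g) = lcf hK P π n f + lcf hK P π n g := by
  rw [lcf_eq hK P hπ hf, lcf_eq hK P hπ hg, lcf_eq hK P hπ (Submodule.add_mem _ hf hg), ← map_add]
  congr 1
  apply Subtype.ext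
  simp [add_mul]

include hπ in
theorem lcf_sum {ι : Type*} (s : Finset ι) {n : ℕ} (f : ι → K)
    (hf : ∀ i ∈ s, f i ∈ L ((n : ℤ) • (Finsupp.single P 1 : Divisor k K))) :
    lcf hK P π n (∑ i ∈ s, f i) = ∑ i ∈ s, lcf hK P π n (f i) := by
  classical
  induction s using Finset.induction_on with
  | empty => simp [lcf_zero]
  | insert a s ha ih =>
    rw [Finset.sum_insert ha, Finset.sum_insert ha,
      lcf_add hK P hπ (hf a (Finset.mem_insert_self a s))
        (Submodule.sum_mem _ fun i hi => hf i (Finset.mem_insert_of_mem hi)),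
      ih fun i hi => hf i (Finset.mem_insert_of_mem hi)]

theorem mul_mem_L_zsmul {i j : ℕ} {f g : K}
    (hf : f ∈ L ((i : ℤ) • (Finsupp.single P 1 : Divisor k K)))
    (hg : g ∈ L ((j : ℤ) • (Finsupp.single P 1 : Divisor k K))) :
    f * g ∈ L (((i + j : ℕ) : ℤ) • (Finsupp.single P 1 : Divisor k K)) := by
  rw [mem_L_zsmul_single] at hf hg ⊢
  refine ⟨?_, fun Q hQ => ?_⟩
  · rw [map_mul, Nat.cast_add, WithZero.exp_add]
    exact mul_le_mul' hf.1 hg.1
  · rw [map_mul]
    exact mul_le_one' (hf.2 Q hQ) (hg.2 Q hQ)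

include hπ in
theorem lcf_mul {i j : ℕ} {f g : K}
    (hf : f ∈ L ((i : ℤ) • (Finsupp.single P 1 : Divisor k K)))
    (hg : g ∈ L ((j : ℤ) • (Finsupp.single P 1 : Divisor k K))) :
    lcf hK P π (i + j) (f * g) = lcf hK P π i f * lcf hK P π j g := by
  rw [lcf_eq hK P hπ hf, lcf_eq hK P hπ hg, lcf_eq hK P hπ (mul_mem_L_zsmul P hf hg), ← map_mul]
  congr 1
  apply Subtype.ext
  show f * g * π ^ (i + j) = (f * π ^ i) * (g * π ^ j)
  rw [pow_add]; ring

theorem algebraMap_mem_L_zero (c : k) :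
    algebraMap k K c ∈ L (((0 : ℕ) : ℤ) • (Finsupp.single P 1 : Divisor k K)) := by
  rw [mem_L_zsmul_single]
  refine ⟨?_, fun Q _ => Q.2.1 c⟩
  rw [Nat.cast_zero, WithZero.exp_zero]
  exact P.2.1 c

theorem lcf_algebraMap (π : K) (c : k) : lcf hK P π 0 (algebraMap k K c) = c := by
  unfold lcf
  have h : P.1 (algebraMap k K c * π ^ 0) ≤ 1 := by rw [pow_zero, mul_one]; exact P.2.1 c
  rw [dif_pos h]
  have : (⟨algebraMap k K c * π ^ 0, h⟩ : P.O) = ⟨algebraMap k K c, P.2.1 c⟩ := by
    apply Subtype.ext; simp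
  rw [this, rho_algebraMap]

include hπ in
theorem lcf_smul {n : ℕ} (c : k) {f : K}
    (hf : f ∈ L ((n : ℤ) • (Finsupp.single P 1 : Divisor k K))) :
    lcf hK P π n (c • f) = c * lcf hK P π n f := by
  have := lcf_mul hK P hπ (algebraMap_mem_L_zero P c) hf
  rw [zero_add, lcf_algebraMap] at this
  rw [Algebra.smul_def]
  exact this

include hπ in
/-- the kernel of the leading coefficient map on `L (n P)` is `L ((n - 1) P)` -/
theorem lcf_eq_zero_iff {n : ℕ} {f : K}
    (hf : f ∈ L ((n : ℤ) • (Finsupp.single P 1 : Divisor k K))) :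
    lcf hK P π n f = 0 ↔ f ∈ L (((n : ℤ) - 1) • (Finsupp.single P 1 : Divisor k K)) := by
  rw [lcf_eq hK P hπ hf, rho_eq_zero_iff, mem_L_zsmul_single]
  have h2 := ((mem_L_zsmul_single P n f).1 hf).2
  have hπn : P.1 (π ^ n) = WithZero.exp (-(n : ℤ)) := by
    rw [map_pow, hπ, ← WithZero.exp_nsmul]; congr 1; simp
  show P.1 (f * π ^ n) < 1 ↔ _
  rw [map_mul, hπn]
  constructor
  · intro h
    refine ⟨?_, h2⟩
    have h3 : P.1 f < WithZero.exp (n : ℤ) := by
      by_contra hcon
      push Not at hcon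
      have : (1 : WithZero (Multiplicative ℤ)) ≤ P.1 f * WithZero.exp (-(n : ℤ)) := by
        calc (1 : WithZero (Multiplicative ℤ)) = WithZero.exp (n : ℤ) * WithZero.exp (-(n : ℤ)) := by
              rw [← WithZero.exp_add, add_neg_cancel, WithZero.exp_zero]
          _ ≤ P.1 f * WithZero.exp (-(n : ℤ)) := mul_le_mul_left hcon _
      exact absurd h (not_lt.mpr this)
    have e : (n : ℤ) = ((n : ℤ) - 1) + 1 := by ring
    rw [e, lt_exp_add_one_iff] at h3
    exact h3
  · rintro ⟨h, -⟩
    calc P.1 f * WithZero.exp (-(n : ℤ))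
        ≤ WithZero.exp ((n : ℤ) - 1) * WithZero.exp (-(n : ℤ)) := mul_le_mul_left h _
      _ = WithZero.exp (-1 : ℤ) := by rw [← WithZero.exp_add]; congr 1; ring
      _ < 1 := by rw [← WithZero.exp_zero, WithZero.exp_lt_exp]; norm_num

end LC

end Groth.Agent.Lib.FunFldLC
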