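/-
The section ring `⊕ L(nP) T^n` of a point divisor on a function field over an algebraically closed
field, and its "leading coefficient" homomorphism to `k[X]` (helper70).
-/
import Mathlib
import Groth.Prelude.Def_W4c6gradedringsgwSect
import Groth.Agent.Lib.FunFldLC
import Groth.Agent.Lib.FunFldG97

set_option autoImplicit false

namespace Groth.Agent.Lib.FunFldSect

open FunFld Groth.Agent.Lib.H40FunFld Groth.Agent.Lib.FunFldLC Polynomial W4c6gradedringsgw

universe u
variable {k : Type u} [Field k] {K : Type u} [Field K] [Algebra k K]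

section Div

theorem zsmul_single_le (P : Place k K) {m m' : ℤ} (h : m ≤ m') :
    m • (Finsupp.single P 1 : Divisor k K) ≤ m' • (Finsupp.single P 1 : Divisor k K) := by
  classical
  rw [Finsupp.le_def]
  intro Q
  rw [Finsupp.smul_apply, Finsupp.smul_apply]
  by_cases hQ : Q = P
  · subst hQ
    rw [Finsupp.single_eq_same, smul_eq_mul, smul_eq_mul, mul_one, mul_one]
    exact h
  · rw [Finsupp.single_eq_of_ne hQ, smul_zero, smul_zero]

theorem deg_zsmul_single {P : Place k K} (hP : P.deg = 1) (m : ℤ) :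
    FunFld.Divisor.deg (m • (Finsupp.single P 1 : Divisor k K)) = m := by
  rw [Finsupp.smul_single, smul_eq_mul, mul_one, deg_single, hP]
  simp

end Div

variable [IsAlgClosed k] (hK : IsFunctionField k K) (P : Place k K) {π : K}
  (hπ : P.1 π = WithZero.exp (-1 : ℤ))

/-- the underlying function of the leading coefficient homomorphism -/
noncomputable def phiFun (π : K) (p : K[X]) : k[X] :=
  ∑ n ∈ Finset.range (p.natDegree + 1), monomial n (lcf hK P π n (p.coeff n))

theorem coeff_phiFun (π : K) (p : K[X]) (m : ℕ) :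
    (phiFun hK P π p).coeff m = lcf hK P π m (p.coeff m) := by
  unfold phiFun
  rw [Polynomial.finsetSum_coeff]
  simp only [coeff_monomial]
  rw [Finset.sum_ite_eq']
  split_ifs with h
  · rfl
  · rw [Finset.mem_range, not_lt] at h
    rw [coeff_eq_zero_of_natDegree_lt (by omega), lcf_zero]

/-- the leading coefficient homomorphism `⊕ L(nP) T^n → k[T]` -/
noncomputable def Phi : ↥(sectRing (Finsupp.single P 1 : Divisor k K)) →ₐ[k] k[X] where
  toFun p := phiFun hK P π (p : K[X])
  map_one' := by
    ext m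
    rw [coeff_phiFun]
    show lcf hK P π m ((1 : K[X]).coeff m) = (1 : k[X]).coeff m
    rw [coeff_one, coeff_one]
    split_ifs with h
    · subst h
      have := lcf_algebraMap hK P π (1 : k)
      rwa [map_one] at this
    · exact lcf_zero hK P π m
  map_mul' p q := by
    ext m
    rw [coeff_phiFun, coeff_mul, Subalgebra.coe_mul, coeff_mul]
    rw [lcf_sum hK P hπ]
    · refine Finset.sum_congr rfl fun x hx => ?_
      rw [coeff_phiFun, coeff_phiFun]
      have hx' := Finset.HasAntidiagonal.mem_antidiagonal.mp hx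
      rw [← hx']
      exact lcf_mul hK P hπ (p.2 x.1) (q.2 x.2)
    · intro x hx
      have hx' := Finset.HasAntidiagonal.mem_antidiagonal.mp hx
      rw [← hx']
      exact mul_mem_L_zsmul P (p.2 x.1) (q.2 x.2)
  map_zero' := by
    ext m
    rw [coeff_phiFun]
    show lcf hK P π m ((0 : K[X]).coeff m) = (0 : k[X]).coeff m
    rw [coeff_zero, coeff_zero, lcf_zero]
  map_add' p q := by
    ext m
    rw [coeff_add, coeff_phiFun, coeff_phiFun, coeff_phiFun, Subalgebra.coe_add, coeff_add]
    exact lcf_add hK P hπ (p.2 m) (q.2 m)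
  commutes' c := by
    ext m
    rw [coeff_phiFun]
    show lcf hK P π m ((algebraMap k K[X] c).coeff m) = (algebraMap k k[X] c).coeff m
    rw [Polynomial.algebraMap_apply, Polynomial.algebraMap_apply, coeff_C, coeff_C]
    split_ifs with h
    · subst h
      exact lcf_algebraMap hK P π c
    · exact lcf_zero hK P π m

theorem coeff_Phi (p : ↥(sectRing (Finsupp.single P 1 : Divisor k K))) (m : ℕ) :
    (Phi hK P hπ p).coeff m = lcf hK P π m ((p : K[X]).coeff m) :=
  coeff_phiFun hK P π _ m

theorem Phi_eq_zero_iff (p : ↥(sectRing (Finsupp.single P 1 : Divisor k K))) :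
    Phi hK P hπ p = 0 ↔
      ∀ n : ℕ, (p : K[X]).coeff n ∈ L (((n : ℤ) - 1) • (Finsupp.single P 1 : Divisor k K)) := by
  constructor
  · intro h n
    have h1 : (Phi hK P hπ p).coeff n = 0 := by rw [h, coeff_zero]
    rw [coeff_Phi] at h1
    exact (lcf_eq_zero_iff hK P hπ (p.2 n)).1 h1
  · intro h
    ext n
    rw [coeff_zero, coeff_Phi]
    exact (lcf_eq_zero_iff hK P hπ (p.2 n)).2 (h n)

include hπ in
/-- the kernel of the leading coefficient homomorphism is generated by any nonzero degree one
element (genus `≥ 1`) -/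
theorem ker_Phi (hg : 1 ≤ FunFld.genus k K)
    (t : ↥(sectRing (Finsupp.single P 1 : Divisor k K))) (a : K) (ha : a ≠ 0)
    (ht : (t : K[X]) = C a * X) : RingHom.ker (Phi hK P hπ) = Ideal.span {t} := by
  classical
  have hP : P.deg = 1 := deg_eq_one_of_isAlgClosed hK P
  have hell : FunFld.ell (Finsupp.single P 1 : Divisor k K) = 1 :=
    ell_single_one_of_genus_pos hK (by omega) hP
  have haL : a ∈ L (Finsupp.single P 1 : Divisor k K) := by
    have h1 := t.2 1
    rw [ht, coeff_C_mul, coeff_X_one, mul_one, Nat.cast_one, one_smul] at h1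
    exact h1
  have hnn : (0 : Divisor k K) ≤ Finsupp.single P 1 := by
    rw [Finsupp.le_def]
    intro Q
    by_cases hQ : Q = P
    · subst hQ; rw [Finsupp.single_eq_same]; simp
    · rw [Finsupp.single_eq_of_ne hQ]; simp
  obtain ⟨c, hc⟩ := Groth.Agent.Lib.FunFldG97.exists_algebraMap_eq_of_ell_eq_one hK hnn hell haL
  apply le_antisymm
  · intro p hp
    rw [RingHom.mem_ker, Phi_eq_zero_iff] at hp
    rw [Ideal.mem_span_singleton']
    have hp0 : (p : K[X]).coeff 0 = 0 := by
      have h0 := hp 0
      rw [L_eq_bot_of_deg_neg hK] at h0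
      · exact (Submodule.mem_bot k).1 h0
      · rw [deg_zsmul_single hP]; simp
    have hq : C a⁻¹ * divX (p : K[X]) ∈ sectRing (Finsupp.single P 1 : Divisor k K) := by
      intro n
      rw [coeff_C_mul, coeff_divX]
      have h1 := hp (n + 1)
      have e : (((n + 1 : ℕ) : ℤ) - 1) = (n : ℤ) := by push_cast; ring
      rw [e] at h1
      have h2 : a⁻¹ * (p : K[X]).coeff (n + 1) = c⁻¹ • (p : K[X]).coeff (n + 1) := by
        rw [Algebra.smul_def, map_inv₀, hc]
      rw [h2]
      exact Submodule.smul_mem _ _ h1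
    refine ⟨⟨_, hq⟩, ?_⟩
    apply Subtype.ext
    rw [Subalgebra.coe_mul, ht]
    calc C a⁻¹ * divX (p : K[X]) * (C a * X)
        = C (a⁻¹ * a) * (divX (p : K[X]) * X) := by rw [C_mul]; ring
      _ = divX (p : K[X]) * X + C ((p : K[X]).coeff 0) := by
          rw [inv_mul_cancel₀ ha, C_1, one_mul, hp0, C_0, add_zero]
      _ = p := divX_mul_X_add _
  · rw [Ideal.span_le, Set.singleton_subset_iff, SetLike.mem_coe, RingHom.mem_ker, Phi_eq_zero_iff]
    intro n
    rw [ht, coeff_C_mul, coeff_X]
    split_ifs with h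
    · subst h
      rw [mul_one, ← hc]
      have h1 := Groth.Agent.Lib.FunFldLC.algebraMap_mem_L_zero P c
      have e : (((0 : ℕ) : ℤ)) = (((1 : ℕ) : ℤ) - 1) := by simp
      rwa [e] at h1
    · rw [mul_zero]; exact zero_mem _

include hπ in
theorem mem_poleOrders_of_lcf_ne_zero {n : ℕ} {f : K}
    (hf : f ∈ L ((n : ℤ) • (Finsupp.single P 1 : Divisor k K))) (h : lcf hK P π n f ≠ 0) :
    n ∈ poleOrders P := by
  have hP : P.deg = 1 := deg_eq_one_of_isAlgClosed hK P
  have hnot : f ∉ L (((n : ℤ) - 1) • (Finsupp.single P 1 : Divisor k K)) := fun hc =>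
    h ((lcf_eq_zero_iff hK P hπ hf).2 hc)
  have hle := zsmul_single_le P (show (n : ℤ) - 1 ≤ n by omega)
  have hlt : L (((n : ℤ) - 1) • (Finsupp.single P 1 : Divisor k K)) <
      L ((n : ℤ) • (Finsupp.single P 1 : Divisor k K)) :=
    lt_of_le_of_ne (L_mono hle) fun heq => hnot (heq ▸ hf)
  have hfd := finiteDimensional_L hK ((n : ℤ) • (Finsupp.single P 1 : Divisor k K))
  have h1 := Submodule.finrank_lt_finrank_of_lt hlt
  have h2 := ell_sub_ell_le hK hle
  rw [deg_zsmul_single hP, deg_zsmul_single hP] at h2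
  show FunFld.ell _ = FunFld.ell _ + 1
  unfold FunFld.ell at h2 ⊢
  omega

include hπ in
theorem exists_lcf_eq_one_of_mem_poleOrders {n : ℕ} (hn : n ∈ poleOrders P) :
    ∃ f ∈ L ((n : ℤ) • (Finsupp.single P 1 : Divisor k K)), lcf hK P π n f = 1 := by
  have hle := zsmul_single_le P (show (n : ℤ) - 1 ≤ n by omega)
  have hne : L (((n : ℤ) - 1) • (Finsupp.single P 1 : Divisor k K)) ≠
      L ((n : ℤ) • (Finsupp.single P 1 : Divisor k K)) := by
    intro heq
    have h1 : FunFld.ell ((n : ℤ) • (Finsupp.single P 1 : Divisor k K)) =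
        FunFld.ell (((n : ℤ) - 1) • (Finsupp.single P 1 : Divisor k K)) + 1 := hn
    unfold FunFld.ell at h1
    rw [heq] at h1
    omega
  obtain ⟨f, hf, hfn⟩ := SetLike.exists_of_lt (lt_of_le_of_ne (L_mono hle) hne)
  have h0 : lcf hK P π n f ≠ 0 := fun h => hfn ((lcf_eq_zero_iff hK P hπ hf).1 h)
  refine ⟨(lcf hK P π n f)⁻¹ • f, Submodule.smul_mem _ _ hf, ?_⟩
  rw [lcf_smul hK P hπ _ hf, inv_mul_cancel₀ h0]

/-- the monomial `f T^n` for `f ∈ L(nP)` -/
noncomputable def monoSect {n : ℕ} {f : K} (hf : f ∈ L ((n : ℤ) • (Finsupp.single P 1 : Divisor k K))) :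
    ↥(sectRing (Finsupp.single P 1 : Divisor k K)) :=
  ⟨monomial n f, fun m => by
    rw [coeff_monomial]
    split_ifs with h
    · subst h; exact hf
    · exact zero_mem _⟩

theorem Phi_monoSect {n : ℕ} {f : K}
    (hf : f ∈ L ((n : ℤ) • (Finsupp.single P 1 : Divisor k K))) :
    Phi hK P hπ (monoSect P hf) = monomial n (lcf hK P π n f) := by
  ext m
  rw [coeff_Phi, coeff_monomial]
  show lcf hK P π m ((monomial n f).coeff m) = _
  rw [coeff_monomial]
  split_ifs with h
  · subst h; rfl
  · exact lcf_zero hK P π m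

/-- the embedding of the semigroup algebra of a submonoid of `ℕ` into `k[X]` -/
noncomputable def Psi (k : Type u) [Field k] (S : AddSubmonoid ℕ) :
    AddMonoidAlgebra k S →ₐ[k] k[X] :=
  ((Polynomial.toFinsuppIsoAlg k).symm : AddMonoidAlgebra k ℕ →ₐ[k] k[X]).comp
    (AddMonoidAlgebra.mapDomainAlgHom k k S.subtype)

theorem Psi_single (S : AddSubmonoid ℕ) (h : S) (c : k) :
    Psi k S (AddMonoidAlgebra.single h c) = monomial (h : ℕ) c := by
  unfold Psi
  rw [AlgHom.comp_apply, AddMonoidAlgebra.mapDomainAlgHom_apply, AddMonoidAlgebra.mapDomain_single]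
  show (Polynomial.toFinsuppIsoAlg k).symm (AddMonoidAlgebra.single (h : ℕ) c) = _
  rw [AlgEquiv.symm_apply_eq]
  show _ = (monomial (h : ℕ) c).toFinsupp
  rw [toFinsupp_monomial]

theorem Psi_injective (S : AddSubmonoid ℕ) : Function.Injective (Psi k S) := by
  unfold Psi
  exact (Polynomial.toFinsuppIsoAlg k).symm.injective.comp
    (AddMonoidAlgebra.mapDomain_injective Subtype.coe_injective)

include hπ in
theorem range_Phi_le :
    (Phi hK P hπ).range ≤ (Psi k (AddSubmonoid.closure (poleOrders P))).range := by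
  rintro _ ⟨p, rfl⟩
  show phiFun hK P π (p : K[X]) ∈ _
  unfold phiFun
  refine Subalgebra.sum_mem _ fun n _ => ?_
  by_cases h0 : lcf hK P π n ((p : K[X]).coeff n) = 0
  · rw [h0, map_zero]; exact zero_mem _
  · have hn := mem_poleOrders_of_lcf_ne_zero hK P hπ (p.2 n) h0
    exact ⟨AddMonoidAlgebra.single ⟨n, AddSubmonoid.subset_closure hn⟩ _, Psi_single _ _ _⟩

include hπ in
theorem monomial_one_mem_range_Phi {n : ℕ} (hn : n ∈ AddSubmonoid.closure (poleOrders P)) :
    (monomial n (1 : k)) ∈ (Phi hK P hπ).range := by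
  induction hn using AddSubmonoid.closure_induction with
  | mem x hx =>
    obtain ⟨f, hf, h1⟩ := exists_lcf_eq_one_of_mem_poleOrders hK P hπ hx
    exact ⟨monoSect P hf, (Phi_monoSect hK P hπ hf).trans (by rw [h1])⟩
  | zero => exact one_mem _
  | add x y _ _ hx hy =>
    have := mul_mem hx hy
    rwa [monomial_mul_monomial, mul_one] at this

include hπ in
theorem range_Psi_le :
    (Psi k (AddSubmonoid.closure (poleOrders P))).range ≤ (Phi hK P hπ).range := by
  rintro _ ⟨x, rfl⟩
  change Psi k (AddSubmonoid.closure (poleOrders P)) x ∈ _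
  induction x using AddMonoidAlgebra.induction_linear with
  | zero => rw [map_zero]; exact zero_mem _
  | add x y hx hy => rw [map_add]; exact add_mem hx hy
  | single h c =>
    rw [Psi_single]
    have h1 := Subalgebra.smul_mem _ (monomial_one_mem_range_Phi hK P hπ h.2) c
    rwa [smul_monomial, smul_eq_mul, mul_one] at h1

include hK hπ in
/-- the main structure theorem: `R / t R ≃ k[H]` and `t R` is prime -/
theorem quotient_equiv (hg : 1 ≤ FunFld.genus k K)
    (t : ↥(sectRing (Finsupp.single P 1 : Divisor k K))) (a : K) (ha : a ≠ 0)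
    (ht : (t : K[X]) = C a * X) :
    Prime t ∧ Nonempty ((↥(sectRing (Finsupp.single P 1 : Divisor k K)) ⧸ Ideal.span {t}) ≃ₐ[k]
      AddMonoidAlgebra k ↥(AddSubmonoid.closure (poleOrders P))) := by
  have hker := ker_Phi hK P hπ hg t a ha ht
  have ht0 : t ≠ 0 := by
    intro h
    have h1 : (t : K[X]).coeff 1 = 0 := by rw [h]; rfl
    rw [ht, coeff_C_mul, coeff_X_one, mul_one] at h1
    exact ha h1
  constructor
  · rw [← Ideal.span_singleton_prime ht0, ← hker]
    exact RingHom.ker_isPrime _
  · have hinj := Psi_injective (k := k) (AddSubmonoid.closure (poleOrders P))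
    have hrange : (Phi hK P hπ).range = (Psi k (AddSubmonoid.closure (poleOrders P))).range :=
      le_antisymm (range_Phi_le hK P hπ) (range_Psi_le hK P hπ)
    let e := AlgEquiv.ofInjective (Psi k (AddSubmonoid.closure (poleOrders P))) hinj
    let Φ' : ↥(sectRing (Finsupp.single P 1 : Divisor k K)) →ₐ[k]
        (Psi k (AddSubmonoid.closure (poleOrders P))).range :=
      (Phi hK P hπ).codRestrict _ fun x => hrange ▸ (Phi hK P hπ).mem_range_self x
    let Θ : ↥(sectRing (Finsupp.single P 1 : Divisor k K)) →ₐ[k]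
        AddMonoidAlgebra k ↥(AddSubmonoid.closure (poleOrders P)) :=
      (e.symm : _ →ₐ[k] _).comp Φ'
    have hsurj : Function.Surjective Θ := by
      intro y
      have h1 : Psi k (AddSubmonoid.closure (poleOrders P)) y ∈ (Phi hK P hπ).range :=
        hrange ▸ AlgHom.mem_range_self _ y
      obtain ⟨p, hp⟩ := h1
      refine ⟨p, ?_⟩
      show e.symm (Φ' p) = y
      rw [AlgEquiv.symm_apply_eq]
      apply Subtype.ext
      exact hp
    have hkerΘ : RingHom.ker Θ = Ideal.span {t} := by
      rw [← hker]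
      ext p
      rw [RingHom.mem_ker, RingHom.mem_ker]
      show e.symm (Φ' p) = 0 ↔ _
      rw [EmbeddingLike.map_eq_zero_iff]
      constructor
      · intro h
        exact congrArg Subtype.val h
      · intro h
        apply Subtype.ext
        exact h
    exact ⟨(Ideal.quotientEquivAlgOfEq k hkerΘ.symm).trans
      (Ideal.quotientKerAlgEquivOfSurjective hsurj)⟩

end Groth.Agent.Lib.FunFldSect
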