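/-
Embedding dimension of the section ring `⊕ L(nP) T^n` of a point on a curve of genus `≥ 1`
(helper70): `ν(R₊) = emb(H) + 1`.
-/
import Mathlib
import Groth.Agent.Lib.FunFldSect

set_option autoImplicit false

namespace Groth.Agent.Lib.FunFldSectEmb

open FunFld Groth.Agent.Lib.H40FunFld Groth.Agent.Lib.FunFldLC Groth.Agent.Lib.FunFldSect
  Polynomial W4c6gradedringsgw

section General

/-- Lower bound for the number of generators of an ideal via a "semilinear" map to a vector
space. -/
theorem finrank_le_spanFinrank_of_semilinear {R : Type*} [CommRing R] {k : Type*} [Field k]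
    {V : Type*} [AddCommGroup V] [Module k V]
    (I : Ideal R) (hI : Submodule.FG I) (σ : R → k) (Λ : R → V)
    (hadd : ∀ x y, Λ (x + y) = Λ x + Λ y) (hzero : Λ 0 = 0)
    (hsmul : ∀ r, ∀ x ∈ I, Λ (r * x) = σ r • Λ x)
    (hspan : Submodule.span k (Λ '' (I : Set R)) = ⊤) :
    Module.finrank k V ≤ Submodule.spanFinrank I := by
  classical
  have hfin := Submodule.FG.finite_generators hI
  have hgen : Submodule.span R (Submodule.generators I) = I := Submodule.span_generators I
  have hsub : ∀ x ∈ Submodule.span R (Submodule.generators I),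
      x ∈ I ∧ Λ x ∈ Submodule.span k (Λ '' Submodule.generators I) := by
    intro x hx
    induction hx using Submodule.span_induction with
    | mem x hx => exact ⟨hgen ▸ Submodule.subset_span hx, Submodule.subset_span ⟨x, hx, rfl⟩⟩
    | zero => exact ⟨zero_mem _, by rw [hzero]; exact zero_mem _⟩
    | add x y hx hy ihx ihy =>
      exact ⟨add_mem ihx.1 ihy.1, by rw [hadd]; exact add_mem ihx.2 ihy.2⟩
    | smul r x hx ih =>
      refine ⟨I.smul_mem r ih.1, ?_⟩
      rw [smul_eq_mul, hsmul r x ih.1]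
      exact Submodule.smul_mem _ _ ih.2
  have htop : Submodule.span k (Λ '' Submodule.generators I) = ⊤ := by
    rw [eq_top_iff, ← hspan, Submodule.span_le]
    rintro _ ⟨x, hx, rfl⟩
    exact (hsub x (hgen.symm ▸ hx)).2
  have : Fintype (Λ '' Submodule.generators I) := (hfin.image Λ).fintype
  calc Module.finrank k V
      = Module.finrank k (Submodule.span k (Λ '' Submodule.generators I)) := by
        rw [htop, finrank_top]
    _ ≤ (Λ '' Submodule.generators I).toFinset.card := finrank_span_le_card _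
    _ = (Λ '' Submodule.generators I).ncard := (Set.ncard_eq_toFinset_card' _).symm
    _ ≤ (Submodule.generators I).ncard := Set.ncard_image_le hfin
    _ = Submodule.spanFinrank I := Submodule.FG.generators_ncard hI

end General

universe u
variable {k : Type u} [Field k] {K : Type u} [Field K] [Algebra k K]
variable [IsAlgClosed k] (hK : IsFunctionField k K) (P : Place k K) {π : K}
  (hπ : P.1 π = WithZero.exp (-1 : ℤ))

section Semigroup

include hK in
theorem mem_poleOrders_of_ge {n : ℕ} (hn : 2 * FunFld.genus k K ≤ n) :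
    n ∈ poleOrders P := by
  have hP : P.deg = 1 := deg_eq_one_of_isAlgClosed hK P
  have h1 := ell_eq_of_deg_ge hK ((n : ℤ) • (Finsupp.single P 1 : Divisor k K))
    (by rw [deg_zsmul_single hP]; omega)
  have h2 := ell_eq_of_deg_ge hK (((n : ℤ) - 1) • (Finsupp.single P 1 : Divisor k K))
    (by rw [deg_zsmul_single hP]; omega)
  rw [deg_zsmul_single hP] at h1 h2
  show FunFld.ell _ = FunFld.ell _ + 1
  omega

include hK in
theorem L_one_le_L_zero (hg : 1 ≤ FunFld.genus k K) {f : K}
    (hf : f ∈ L (((1 : ℕ) : ℤ) • (Finsupp.single P 1 : Divisor k K))) :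
    f ∈ L (((0 : ℕ) : ℤ) • (Finsupp.single P 1 : Divisor k K)) := by
  classical
  have hP : P.deg = 1 := deg_eq_one_of_isAlgClosed hK P
  have hell : FunFld.ell (Finsupp.single P 1 : Divisor k K) = 1 :=
    ell_single_one_of_genus_pos hK (by omega) hP
  have hnn : (0 : Divisor k K) ≤ Finsupp.single P 1 := by
    rw [Finsupp.le_def]
    intro Q
    by_cases hQ : Q = P
    · subst hQ; rw [Finsupp.single_eq_same]; simp
    · rw [Finsupp.single_eq_of_ne hQ]; simp
  rw [Nat.cast_one, one_smul] at hf
  obtain ⟨c, hc⟩ := Groth.Agent.Lib.FunFldG97.exists_algebraMap_eq_of_ell_eq_one hK hnn hell hf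
  rw [← hc]
  exact Groth.Agent.Lib.FunFldLC.algebraMap_mem_L_zero P c

include hK hπ in
theorem one_not_mem_poleOrders (hg : 1 ≤ FunFld.genus k K) : 1 ∉ poleOrders P := by
  intro h1
  obtain ⟨f, hf, hf1⟩ := exists_lcf_eq_one_of_mem_poleOrders hK P hπ h1
  have h0 := L_one_le_L_zero hK P hg hf
  have e : (((0 : ℕ) : ℤ)) = (((1 : ℕ) : ℤ) - 1) := by simp
  rw [e] at h0
  rw [(lcf_eq_zero_iff hK P hπ hf).2 h0] at hf1
  exact zero_ne_one hf1

include hK in
theorem minGens_finite (hg : 1 ≤ FunFld.genus k K) : (minGens (poleOrders P)).Finite := by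
  apply Set.Finite.subset (Set.finite_lt_nat (4 * FunFld.genus k K))
  intro h hh
  by_contra hcon
  have hcon' : 4 * FunFld.genus k K ≤ h := by
    have : ¬ h < 4 * FunFld.genus k K := hcon
    omega
  have ha : 2 * FunFld.genus k K ∈ poleOrders P := mem_poleOrders_of_ge hK P le_rfl
  have hb : h - 2 * FunFld.genus k K ∈ poleOrders P :=
    mem_poleOrders_of_ge hK P (by omega)
  exact hh.2.2 _ ha _ hb (by omega) (by omega) (by omega)

end Semigroup

section Lower

/-- the irrelevant ideal of the section ring -/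
noncomputable def irr : Ideal ↥(sectRing (Finsupp.single P 1 : Divisor k K)) :=
  RingHom.ker (Polynomial.constantCoeff.comp
    (sectRing (Finsupp.single P 1 : Divisor k K)).val.toRingHom)

theorem mem_irr (p : ↥(sectRing (Finsupp.single P 1 : Divisor k K))) :
    p ∈ irr P ↔ (p : K[X]).coeff 0 = 0 := by
  unfold irr
  rw [RingHom.mem_ker, RingHom.comp_apply, Polynomial.constantCoeff_apply]
  rfl

/-- the functionals detecting generators of the irrelevant ideal -/
noncomputable def Lam (p : ↥(sectRing (Finsupp.single P 1 : Divisor k K))) :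
    Option ↥(minGens (poleOrders P)) → k :=
  fun o => Option.elim o (lcf hK P π 0 ((p : K[X]).coeff 1)) fun h => (Phi hK P hπ p).coeff h

theorem Lam_none (p : ↥(sectRing (Finsupp.single P 1 : Divisor k K))) :
    Lam hK P hπ p none = lcf hK P π 0 ((p : K[X]).coeff 1) := rfl

theorem Lam_some (p : ↥(sectRing (Finsupp.single P 1 : Divisor k K)))
    (h : ↥(minGens (poleOrders P))) :
    Lam hK P hπ p (some h) = (Phi hK P hπ p).coeff h := rfl

theorem Lam_add (hg : 1 ≤ FunFld.genus k K)
    (p q : ↥(sectRing (Finsupp.single P 1 : Divisor k K))) :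
    Lam hK P hπ (p + q) = Lam hK P hπ p + Lam hK P hπ q := by
  funext o
  cases o with
  | none =>
    rw [Pi.add_apply, Lam_none, Lam_none, Lam_none, Subalgebra.coe_add, coeff_add]
    exact lcf_add hK P hπ (L_one_le_L_zero hK P hg (p.2 1)) (L_one_le_L_zero hK P hg (q.2 1))
  | some h =>
    rw [Pi.add_apply, Lam_some, Lam_some, Lam_some, map_add, coeff_add]

theorem Lam_zero : Lam hK P hπ 0 = 0 := by
  funext o
  cases o with
  | none =>
    rw [Lam_none]
    show lcf hK P π 0 ((0 : K[X]).coeff 1) = 0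
    rw [coeff_zero, lcf_zero]
  | some h =>
    rw [Lam_some, map_zero, coeff_zero]; rfl

theorem Lam_mul (hg : 1 ≤ FunFld.genus k K)
    (r x : ↥(sectRing (Finsupp.single P 1 : Divisor k K))) (hx : x ∈ irr P) :
    Lam hK P hπ (r * x) = (Phi hK P hπ r).coeff 0 • Lam hK P hπ x := by
  rw [mem_irr] at hx
  funext o
  cases o with
  | none =>
    rw [Pi.smul_apply, Lam_none, Lam_none, Subalgebra.coe_mul, mul_coeff_one, hx, mul_zero,
      add_zero, coeff_Phi, smul_eq_mul]
    have h1 := lcf_mul hK P hπ (r.2 0) (L_one_le_L_zero hK P hg (x.2 1))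
    exact h1
  | some h =>
    rw [Pi.smul_apply, Lam_some, Lam_some, map_mul, coeff_mul, smul_eq_mul]
    rw [Finset.sum_eq_single (0, (h : ℕ))]
    · rintro ⟨i, j⟩ hij hne
      have hij' : i + j = h := Finset.HasAntidiagonal.mem_antidiagonal.mp hij
      by_contra hcon
      have hi0 : (Phi hK P hπ r).coeff i ≠ 0 := left_ne_zero_of_mul hcon
      have hj0 : (Phi hK P hπ x).coeff j ≠ 0 := right_ne_zero_of_mul hcon
      rw [coeff_Phi] at hi0 hj0
      have hi := mem_poleOrders_of_lcf_ne_zero hK P hπ (r.2 i) hi0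
      have hj := mem_poleOrders_of_lcf_ne_zero hK P hπ (x.2 j) hj0
      have hj1 : j ≠ 0 := by
        rintro rfl
        rw [hx, lcf_zero] at hj0
        exact hj0 rfl
      have hi1 : i ≠ 0 := by
        rintro rfl
        apply hne
        rw [zero_add] at hij'
        rw [hij']
      exact h.2.2.2 i hi j hj hi1 hj1 hij'
    · intro hnot
      exact absurd (Finset.HasAntidiagonal.mem_antidiagonal.mpr (zero_add _)) hnot

/-- the degree one element `T` of the section ring -/
noncomputable def tT : ↥(sectRing (Finsupp.single P 1 : Divisor k K)) :=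
  monoSect (n := 1) (f := (1 : K)) P (by
    have := Groth.Agent.Lib.FunFldLC.algebraMap_mem_L_zero P (1 : k)
    rw [map_one] at this
    exact L_zsmul_single_mono P (by norm_num) this)

theorem coe_tT : ((tT P : ↥(sectRing (Finsupp.single P 1 : Divisor k K))) : K[X]) = monomial 1 1 :=
  rfl

theorem coe_monoSect {n : ℕ} {f : K}
    (hf : f ∈ L ((n : ℤ) • (Finsupp.single P 1 : Divisor k K))) :
    ((monoSect P hf : ↥(sectRing (Finsupp.single P 1 : Divisor k K))) : K[X]) = monomial n f :=
  rfl

theorem tT_mem_irr : tT P ∈ irr P := by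
  rw [mem_irr, coe_tT, coeff_monomial, if_neg (by norm_num)]

theorem monoSect_mem_irr {n : ℕ} (hn : n ≠ 0) {f : K}
    (hf : f ∈ L ((n : ℤ) • (Finsupp.single P 1 : Divisor k K))) : monoSect P hf ∈ irr P := by
  rw [mem_irr, coe_monoSect, coeff_monomial, if_neg hn]

include hK hπ in
theorem Phi_tT (hg : 1 ≤ FunFld.genus k K) : Phi hK P hπ (tT P) = 0 := by
  have h1 : tT P ∈ RingHom.ker (Phi hK P hπ) := by
    rw [ker_Phi hK P hπ hg (tT P) 1 one_ne_zero (by rw [coe_tT, C_1, one_mul, X, monomial_one_one_eq_X])]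
    exact Ideal.subset_span rfl
  exact h1

theorem Lam_tT (hg : 1 ≤ FunFld.genus k K) :
    Lam hK P hπ (tT P) = Pi.single none 1 := by
  funext o
  cases o with
  | none =>
    rw [Lam_none, coe_tT, coeff_monomial, if_pos rfl, Pi.single_eq_same]
    have := lcf_algebraMap hK P π (1 : k)
    rwa [map_one] at this
  | some h =>
    rw [Lam_some, Phi_tT hK P hπ hg, coeff_zero, Pi.single_eq_of_ne (by simp)]

theorem Lam_monoSect (hg : 1 ≤ FunFld.genus k K) (h : ↥(minGens (poleOrders P))) {f : K}
    (hf : f ∈ L (((h : ℕ) : ℤ) • (Finsupp.single P 1 : Divisor k K)))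
    (hf1 : lcf hK P π h f = 1) :
    Lam hK P hπ (monoSect P hf) = Pi.single (some h) 1 := by
  classical
  have hh1 : (h : ℕ) ≠ 1 := fun e => one_not_mem_poleOrders hK P hπ hg (e ▸ h.2.1)
  funext o
  cases o with
  | none =>
    rw [Lam_none, coe_monoSect, coeff_monomial, if_neg hh1, lcf_zero,
      Pi.single_eq_of_ne (by simp)]
  | some h' =>
    rw [Lam_some, Phi_monoSect, hf1, coeff_monomial, Pi.single_apply]
    by_cases e : h' = h
    · subst e; simp
    · rw [if_neg, if_neg]
      · simpa using e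
      · intro e'; exact e (Subtype.ext e'.symm)

theorem span_Lam_irr (hg : 1 ≤ FunFld.genus k K) [Fintype ↥(minGens (poleOrders P))] :
    Submodule.span k (Lam hK P hπ '' (irr P : Set ↥(sectRing (Finsupp.single P 1 : Divisor k K))))
      = ⊤ := by
  classical
  rw [eq_top_iff, ← (Pi.basisFun k (Option ↥(minGens (poleOrders P)))).span_eq, Submodule.span_le]
  rintro _ ⟨o, rfl⟩
  rw [Pi.basisFun_apply]
  apply Submodule.subset_span
  cases o with
  | none => exact ⟨tT P, tT_mem_irr P, Lam_tT hK P hπ hg⟩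
  | some h =>
    obtain ⟨f, hf, hf1⟩ := exists_lcf_eq_one_of_mem_poleOrders hK P hπ h.2.1
    exact ⟨monoSect P hf, monoSect_mem_irr P h.2.2.1 hf, Lam_monoSect hK P hπ hg h hf hf1⟩

include hK hπ in
theorem card_le_spanFinrank_irr (hg : 1 ≤ FunFld.genus k K) (hfg : Submodule.FG (irr P)) :
    Set.ncard (minGens (poleOrders P)) + 1 ≤ Submodule.spanFinrank (irr P) := by
  classical
  have : Fintype ↥(minGens (poleOrders P)) := (minGens_finite hK P hg).fintype
  have h1 := finrank_le_spanFinrank_of_semilinear (k := k) (irr P) hfg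
    (fun r => (Phi hK P hπ r).coeff 0) (Lam hK P hπ) (Lam_add hK P hπ hg) (Lam_zero hK P hπ)
    (fun r x hx => Lam_mul hK P hπ hg r x hx) (span_Lam_irr hK P hπ hg)
  rw [Module.finrank_fintype_fun_eq_card, Fintype.card_option] at h1
  rw [Set.ncard_eq_toFinset_card', Set.toFinset_card]
  exact h1

end Lower

section Upper

/-- chosen functions of exact pole order `h` for the minimal generators `h` -/
noncomputable def genF (h : ↥(minGens (poleOrders P))) : K :=
  (exists_lcf_eq_one_of_mem_poleOrders hK P hπ h.2.1).choose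

theorem genF_mem (h : ↥(minGens (poleOrders P))) :
    genF hK P hπ h ∈ L (((h : ℕ) : ℤ) • (Finsupp.single P 1 : Divisor k K)) :=
  (exists_lcf_eq_one_of_mem_poleOrders hK P hπ h.2.1).choose_spec.1

theorem genF_lcf (h : ↥(minGens (poleOrders P))) :
    lcf hK P π h (genF hK P hπ h) = 1 :=
  (exists_lcf_eq_one_of_mem_poleOrders hK P hπ h.2.1).choose_spec.2

/-- the generators `f_h T^h` -/
noncomputable def gen (h : ↥(minGens (poleOrders P))) :
    ↥(sectRing (Finsupp.single P 1 : Divisor k K)) :=
  monoSect P (genF_mem hK P hπ h)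

/-- the ideal generated by `T` and the `f_h T^h` -/
noncomputable def J : Ideal ↥(sectRing (Finsupp.single P 1 : Divisor k K)) :=
  Ideal.span (insert (tT P) (Set.range (gen hK P hπ)))

theorem exists_mem_J : ∀ n : ℕ, n ∈ poleOrders P → n ≠ 0 →
    ∃ f : K, ∃ hf : f ∈ L ((n : ℤ) • (Finsupp.single P 1 : Divisor k K)),
      lcf hK P π n f = 1 ∧ monoSect P hf ∈ J hK P hπ := by
  intro n
  induction n using Nat.strong_induction_on with
  | _ n ih =>
    intro hn hn0
    by_cases hmin : n ∈ minGens (poleOrders P)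
    · exact ⟨genF hK P hπ ⟨n, hmin⟩, genF_mem hK P hπ ⟨n, hmin⟩, genF_lcf hK P hπ ⟨n, hmin⟩,
        Ideal.subset_span (Set.mem_insert_of_mem _ ⟨⟨n, hmin⟩, rfl⟩)⟩
    · have hex : ∃ a ∈ poleOrders P, ∃ b ∈ poleOrders P, a ≠ 0 ∧ b ≠ 0 ∧ a + b = n := by
        by_contra hcon
        apply hmin
        exact ⟨hn, hn0, fun a ha b hb ha0 hb0 hab => hcon ⟨a, ha, b, hb, ha0, hb0, hab⟩⟩
      obtain ⟨a, ha, b, hb, ha0, hb0, rfl⟩ := hex
      obtain ⟨fa, hfa, hfa1, hfaJ⟩ := ih a (by omega) ha ha0
      obtain ⟨fb, hfb, hfb1⟩ := exists_lcf_eq_one_of_mem_poleOrders hK P hπ hb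
      refine ⟨fa * fb, mul_mem_L_zsmul P hfa hfb, ?_, ?_⟩
      · rw [lcf_mul hK P hπ hfa hfb, hfa1, hfb1, one_mul]
      · have e : monoSect P (mul_mem_L_zsmul P hfa hfb) = monoSect P hfa * monoSect P hfb := by
          apply Subtype.ext
          rw [Subalgebra.coe_mul, coe_monoSect, coe_monoSect, coe_monoSect, monomial_mul_monomial]
        rw [e]
        exact Ideal.mul_mem_right _ _ hfaJ

theorem monoSect_mem_J {n : ℕ} (hn : n ≠ 0) {f : K}
    (hf : f ∈ L ((n : ℤ) • (Finsupp.single P 1 : Divisor k K))) :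
    monoSect P hf ∈ J hK P hπ := by
  obtain ⟨m, rfl⟩ := Nat.exists_eq_succ_of_ne_zero hn
  have key : ∀ (g : K) (hg' : g ∈ L (((m + 1 : ℕ) : ℤ) • (Finsupp.single P 1 : Divisor k K))),
      lcf hK P π (m + 1) g = 0 → monoSect P hg' ∈ J hK P hπ := by
    intro g hg' h0
    have h1 := (lcf_eq_zero_iff hK P hπ hg').1 h0
    have e : (((m + 1 : ℕ) : ℤ) - 1) = (m : ℤ) := by push_cast; ring
    rw [e] at h1
    have e2 : monoSect P hg' = tT P * monoSect P h1 := by
      apply Subtype.ext
      rw [Subalgebra.coe_mul, coe_monoSect, coe_monoSect, coe_tT, monomial_mul_monomial, one_mul,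
        add_comm]
    rw [e2]
    exact Ideal.mul_mem_right _ _ (Ideal.subset_span (Set.mem_insert _ _))
  by_cases h0 : lcf hK P π (m + 1) f = 0
  · exact key f hf h0
  · have hH := mem_poleOrders_of_lcf_ne_zero hK P hπ hf h0
    obtain ⟨f', hf', hf'1, hf'J⟩ := exists_mem_J hK P hπ (m + 1) hH (Nat.succ_ne_zero m)
    have hsub : f - lcf hK P π (m + 1) f • f' ∈
        L (((m + 1 : ℕ) : ℤ) • (Finsupp.single P 1 : Divisor k K)) :=
      Submodule.sub_mem _ hf (Submodule.smul_mem _ _ hf')
    have hl0 : lcf hK P π (m + 1) (f - lcf hK P π (m + 1) f • f') = 0 := by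
      have h2 := lcf_add hK P hπ hsub (Submodule.smul_mem _ (lcf hK P π (m + 1) f) hf')
      rw [sub_add_cancel, lcf_smul hK P hπ _ hf', hf'1, mul_one] at h2
      exact right_eq_add.mp h2
    have e3 : monoSect P hf = lcf hK P π (m + 1) f • monoSect P hf' + monoSect P hsub := by
      apply Subtype.ext
      rw [Subalgebra.coe_add, Subalgebra.coe_smul, coe_monoSect, coe_monoSect, coe_monoSect,
        smul_monomial, ← map_add]
      congr 1
      abel
    rw [e3]
    refine Ideal.add_mem _ ?_ (key _ hsub hl0)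
    rw [Algebra.smul_def]
    exact Ideal.mul_mem_left _ _ hf'J

theorem irr_eq_J : irr P = J hK P hπ := by
  apply le_antisymm
  · intro p hp
    rw [mem_irr] at hp
    have e : p = ∑ n ∈ (p : K[X]).support, monoSect P (p.2 n) := by
      apply Subtype.ext
      rw [AddSubmonoidClass.coe_finsetSum]
      simp only [coe_monoSect]
      exact (p : K[X]).as_sum_support
    rw [e]
    refine Ideal.sum_mem _ fun n hn => monoSect_mem_J hK P hπ ?_ _
    rintro rfl
    exact (mem_support_iff.1 hn) hp
  · unfold J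
    rw [Ideal.span_le]
    rintro x (rfl | ⟨h, rfl⟩)
    · exact tT_mem_irr P
    · exact monoSect_mem_irr P h.2.2.1 _

include hK hπ in
theorem spanFinrank_irr (hg : 1 ≤ FunFld.genus k K) :
    Submodule.spanFinrank (irr P) = Set.ncard (minGens (poleOrders P)) + 1 := by
  classical
  have : Fintype ↥(minGens (poleOrders P)) := (minGens_finite hK P hg).fintype
  have hfin : (insert (tT P) (Set.range (gen hK P hπ))).Finite :=
    (Set.finite_range _).insert _
  have hfg : Submodule.FG (irr P) := by
    rw [irr_eq_J hK P hπ]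
    exact ⟨hfin.toFinset, by rw [hfin.coe_toFinset]; rfl⟩
  apply le_antisymm
  · rw [irr_eq_J hK P hπ]
    refine (Submodule.spanFinrank_span_le_ncard_of_finite hfin).trans ?_
    refine (Set.ncard_insert_le _ _).trans ?_
    rw [Nat.add_le_add_iff_right, ← Set.image_univ]
    refine (Set.ncard_image_le Set.finite_univ).trans ?_
    rw [Set.ncard_univ, Nat.card_eq_fintype_card, Set.ncard_eq_toFinset_card', Set.toFinset_card]
  · exact card_le_spanFinrank_irr hK P hπ hg hfg

end Upper

end Groth.Agent.Lib.FunFldSectEmb
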