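/-
helper37: function-field isomorphism ⇒ isomorphic nonempty opens, WITHOUT separatedness / quasi-compactness
hypotheses (same proof as `Groth.Agent.S7629.result'`, which never uses them).
-/
import Groth.Agent.S7629

set_option autoImplicit false
universe u
open CategoryTheory CategoryTheory.Limits AlgebraicGeometry
open Variety Groth.Agent.S7629

namespace Groth.Agent.Lib.FunctionFieldIso37

/-- Integral schemes locally of finite type over a field `k` with `k`-isomorphic function fields have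
`k`-isomorphic nonempty open subschemes. -/
theorem exists_open_iso (k : Type u) [Field k] (X : Scheme.{u}) [X.Over (Spec (CommRingCat.of k))] [IsIntegral X] [LocallyOfFiniteType (X ↘ (Spec (CommRingCat.of k)))]
    (Y : Scheme.{u}) [Y.Over (Spec (CommRingCat.of k))] [IsIntegral Y] [LocallyOfFiniteType (Y ↘ (Spec (CommRingCat.of k)))]
    (e : X.functionField ≅ Y.functionField)
    (he : e.hom.hom.comp (Curv2.stalkMap k X (genericPoint X)) = Curv2.stalkMap k Y (genericPoint Y)) :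
    ∃ (U : X.Opens) (V : Y.Opens), (U : Set ↥X).Nonempty ∧
      ∃ φ : (U : Scheme.{u}) ≅ (V : Scheme.{u}), φ.hom ≫ V.ι ≫ (Y ↘ (Spec (CommRingCat.of k))) = U.ι ≫ (X ↘ (Spec (CommRingCat.of k))) := by
  let ξ : X := genericPoint X
  let η : Y := genericPoint Y
  have he' : e.inv.hom.comp (Curv2.stalkMap k Y η) = Curv2.stalkMap k X ξ := by
    rw [← he]
    ext a
    simp
    rfl
  let φ₁ : Spec X.functionField ⟶ Y := Spec.map e.inv ≫ Y.fromSpecStalk η
  let φ₂ : Spec Y.functionField ⟶ X := Spec.map e.hom ≫ X.fromSpecStalk ξ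
  have hφ₁ : φ₁ ≫ (Y ↘ (Spec (CommRingCat.of k))) =
      X.fromSpecStalk ξ ≫ (X ↘ (Spec (CommRingCat.of k))) := by
    simp only [φ₁, Category.assoc]
    rw [Groth.Agent.Lib.H71GeomRedAt.fromSpecStalk_comp,
      Groth.Agent.Lib.H71GeomRedAt.fromSpecStalk_comp, ← Spec.map_comp]
    congr 1
    ext a
    exact DFunLike.congr_fun he' a
  have hφ₂ : φ₂ ≫ (X ↘ (Spec (CommRingCat.of k))) =
      Y.fromSpecStalk η ≫ (Y ↘ (Spec (CommRingCat.of k))) := by
    simp only [φ₂, Category.assoc]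
    rw [Groth.Agent.Lib.H71GeomRedAt.fromSpecStalk_comp,
      Groth.Agent.Lib.H71GeomRedAt.fromSpecStalk_comp, ← Spec.map_comp]
    congr 1
    ext a
    exact DFunLike.congr_fun he a
  obtain ⟨U₁, hξU₁, f, hf₁, hf₂⟩ := spread_out_of_isGermInjective'
    (X ↘ (Spec (CommRingCat.of k))) (Y ↘ (Spec (CommRingCat.of k))) (x := ξ) φ₁ hφ₁
  obtain ⟨V₁, hηV₁, g, hg₁, hg₂⟩ := spread_out_of_isGermInjective'
    (Y ↘ (Spec (CommRingCat.of k))) (X ↘ (Spec (CommRingCat.of k))) (x := η) φ₂ hφ₂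
  -- images of the generic points
  have hfξ : f ⟨ξ, hξU₁⟩ = η := by
    let c : ↥(Spec X.functionField) := IsLocalRing.closedPoint X.functionField
    have e1 : φ₁ c = η := by
      show Y.fromSpecStalk η (Spec.map e.inv c) = η
      have : Spec.map e.inv c = IsLocalRing.closedPoint Y.functionField :=
        Subsingleton.elim (α := PrimeSpectrum Y.functionField) _ _
      rw [this, Scheme.fromSpecStalk_closedPoint]
    have e2 : φ₁ c = f ⟨ξ, hξU₁⟩ := by
      rw [hf₁]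
      show f (U₁.fromSpecStalkOfMem ξ hξU₁ c) = _
      rw [fromSpecStalkOfMem_closedPoint U₁ ξ hξU₁ c rfl]
    rw [← e2, e1]
  have hgη : g ⟨η, hηV₁⟩ = ξ := by
    let c : ↥(Spec Y.functionField) := IsLocalRing.closedPoint Y.functionField
    have e1 : φ₂ c = ξ := by
      show X.fromSpecStalk ξ (Spec.map e.hom c) = ξ
      have : Spec.map e.hom c = IsLocalRing.closedPoint X.functionField :=
        Subsingleton.elim (α := PrimeSpectrum X.functionField) _ _
      rw [this, Scheme.fromSpecStalk_closedPoint]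
    have e2 : φ₂ c = g ⟨η, hηV₁⟩ := by
      rw [hg₁]
      show g (V₁.fromSpecStalkOfMem η hηV₁ c) = _
      rw [fromSpecStalkOfMem_closedPoint V₁ η hηV₁ c rfl]
    rw [← e2, e1]
  have hinv1 : Spec.map e.inv ≫ Spec.map e.hom = 𝟙 _ := by
    rw [← Spec.map_comp, e.hom_inv_id, Spec.map_id]
  have hinv2 : Spec.map e.hom ≫ Spec.map e.inv = 𝟙 _ := by
    rw [← Spec.map_comp, e.inv_hom_id, Spec.map_id]
  obtain ⟨W, hW, fW, hξW, c1, h1⟩ := exists_shrink ξ η U₁ V₁ hξU₁ hηV₁ f g (Spec.map e.inv)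
    hf₁.symm (by rw [← hg₁]; show Spec.map e.inv ≫ Spec.map e.hom ≫ _ = _
                 rw [reassoc_of% hinv1]) hfξ
  obtain ⟨W', hW', gW, hηW', c2, h2⟩ := exists_shrink η ξ V₁ U₁ hηV₁ hξU₁ g f (Spec.map e.hom)
    hg₁.symm (by rw [← hf₁]; show Spec.map e.hom ≫ Spec.map e.inv ≫ _ = _
                 rw [reassoc_of% hinv2]) hgη
  obtain ⟨U, V, hU, φ, hφ, hmem⟩ :=
    exists_iso_of_inverse U₁ V₁ f g W W' hW hW' fW gW c1 c2 h1 h2
  refine ⟨U, V, ⟨ξ, ?_⟩, φ, ?_⟩
  · refine hmem ⟨ξ, hξW⟩ ?_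
    rw [c1]
    have e0 : X.homOfLE hW ⟨ξ, hξW⟩ = ⟨ξ, hξU₁⟩ := Subtype.ext (Scheme.homOfLE_apply _ _)
    show f (X.homOfLE hW ⟨ξ, hξW⟩) ∈ W'
    rw [e0, hfξ]
    exact hηW'
  · rw [reassoc_of% hφ, hf₂, Scheme.homOfLE_ι_assoc]

end Groth.Agent.Lib.FunctionFieldIso37
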