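import Mathlib.Algebra.Homology.HomologySequence
import Mathlib.Algebra.Homology.HomologicalComplexAbelian
import Mathlib.CategoryTheory.Abelian.RightDerived
import Mathlib.CategoryTheory.Limits.Preserves.Shapes.Biproducts
import Mathlib.Algebra.Homology.ExactSequence

/-!
# Mayer–Vietoris long exact sequence of right derived functors (helper31)

Given additive functors `F G H K : C ⥤ D` and natural transformations
`a₁ : F ⟶ G`, `a₂ : F ⟶ H`, `c₁ : G ⟶ K`, `c₂ : H ⟶ K` such that for every injective `I`
`0 ⟶ F I ⟶ G I ⊞ H I ⟶ K I ⟶ 0` is short exact, we get a long exact sequence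
`RⁿF X ⟶ RⁿG X ⊞ RⁿH X ⟶ RⁿK X ⟶ Rⁿ⁺¹F X ⟶ ...`.
-/

set_option autoImplicit false

open CategoryTheory Limits

namespace Groth.Agent.FunctorSESLES31

section Prelim

variable {C D : Type*} [Category C] [Category D] [Preadditive C] [Preadditive D]

instance (priority := 50) preservesBinaryBiproduct_of_additive (F : C ⥤ D) [F.Additive]
    (X Y : C) : PreservesBinaryBiproduct X Y F :=
  have : PreservesBinaryBiproducts F := preservesBinaryBiproducts_of_preservesBiproducts F
  inferInstance

end Prelim

section Complexes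

variable {D : Type*} [Category D] [Abelian D] {ι : Type*} {c : ComplexShape ι}
  {A B₁ B₂ E : HomologicalComplex D c} (a₁ : A ⟶ B₁) (a₂ : A ⟶ B₂) (c₁ : B₁ ⟶ E) (c₂ : B₂ ⟶ E)

/-- The Mayer–Vietoris short complex of complexes. -/
noncomputable abbrev mvSC (w : a₁ ≫ c₁ = a₂ ≫ c₂) : ShortComplex (HomologicalComplex D c) :=
  ShortComplex.mk (biprod.lift a₁ a₂) (biprod.desc c₁ (-c₂)) (by simp [w])

variable (hS : ∀ i, ∃ w', (ShortComplex.mk (biprod.lift (a₁.f i) (a₂.f i))
    (biprod.desc (c₁.f i) (-(c₂.f i))) w').ShortExact)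

include hS in
lemma mvSC_shortExact (w : a₁ ≫ c₁ = a₂ ≫ c₂) : (mvSC a₁ a₂ c₁ c₂ w).ShortExact := by
  apply HomologicalComplex.shortExact_of_degreewise_shortExact
  intro i
  obtain ⟨w', h⟩ := hS i
  refine ShortComplex.shortExact_of_iso ?_ h
  refine ShortComplex.isoMk (Iso.refl _)
    (((HomologicalComplex.eval D c i).mapBiprod B₁ B₂).symm) (Iso.refl _) ?_ ?_
  · exact (Category.id_comp _).trans
      (biprod.lift_mapBiprod (HomologicalComplex.eval D c i) B₁ B₂ a₁ a₂).symm
  · exact (biprod.mapBiprod_inv_map_desc (HomologicalComplex.eval D c i) B₁ B₂ c₁ (-c₂)).trans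
      (Category.comp_id _).symm

include hS in
lemma exists_δ_complexes (w : a₁ ≫ c₁ = a₂ ≫ c₂) (i j : ι) (hij : c.Rel i j) :
    ∃ δ : E.homology i ⟶ A.homology j,
      (∃ w', (ShortComplex.mk
        (biprod.lift (HomologicalComplex.homologyMap a₁ i) (HomologicalComplex.homologyMap a₂ i))
        (biprod.desc (HomologicalComplex.homologyMap c₁ i)
          (-(HomologicalComplex.homologyMap c₂ i))) w').Exact) ∧
      (∃ w', (ShortComplex.mk
        (biprod.desc (HomologicalComplex.homologyMap c₁ i)
          (-(HomologicalComplex.homologyMap c₂ i))) δ w').Exact) ∧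
      (∃ w', (ShortComplex.mk δ
        (biprod.lift (HomologicalComplex.homologyMap a₁ j)
          (HomologicalComplex.homologyMap a₂ j)) w').Exact) := by
  have hSE := mvSC_shortExact a₁ a₂ c₁ c₂ hS w
  let e : ∀ k, (B₁ ⊞ B₂).homology k ≅ B₁.homology k ⊞ B₂.homology k := fun k =>
    (HomologicalComplex.homologyFunctor D c k).mapBiprod B₁ B₂
  have he₁ : ∀ k, HomologicalComplex.homologyMap (biprod.lift a₁ a₂) k ≫ (e k).hom =
      biprod.lift (HomologicalComplex.homologyMap a₁ k) (HomologicalComplex.homologyMap a₂ k) :=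
    fun k => biprod.map_lift_mapBiprod (HomologicalComplex.homologyFunctor D c k) B₁ B₂ a₁ a₂
  have he₂ : ∀ k, (e k).inv ≫ HomologicalComplex.homologyMap (biprod.desc c₁ (-c₂)) k =
      biprod.desc (HomologicalComplex.homologyMap c₁ k)
        (-(HomologicalComplex.homologyMap c₂ k)) := by
    intro k
    have := biprod.mapBiprod_inv_map_desc (HomologicalComplex.homologyFunctor D c k) B₁ B₂
      c₁ (-c₂)
    rw [Functor.map_neg] at this
    exact this
  refine ⟨hSE.δ i j hij, ?_, ?_, ?_⟩
  · have h := hSE.homology_exact₂ i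
    have w' : biprod.lift (HomologicalComplex.homologyMap a₁ i)
        (HomologicalComplex.homologyMap a₂ i) ≫
        biprod.desc (HomologicalComplex.homologyMap c₁ i)
          (-(HomologicalComplex.homologyMap c₂ i)) = 0 := by
      rw [← he₁, ← he₂, Category.assoc, Iso.hom_inv_id_assoc, ← HomologicalComplex.homologyMap_comp]
      have : biprod.lift a₁ a₂ ≫ biprod.desc c₁ (-c₂) = 0 := (mvSC a₁ a₂ c₁ c₂ w).zero
      rw [this, HomologicalComplex.homologyMap_zero]
    have iso : ShortComplex.mk (HomologicalComplex.homologyMap (mvSC a₁ a₂ c₁ c₂ w).f i)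
        (HomologicalComplex.homologyMap (mvSC a₁ a₂ c₁ c₂ w).g i)
        (by rw [← HomologicalComplex.homologyMap_comp, (mvSC a₁ a₂ c₁ c₂ w).zero,
          HomologicalComplex.homologyMap_zero]) ≅
        ShortComplex.mk _ _ w' :=
      ShortComplex.isoMk (Iso.refl _) (e i) (Iso.refl _)
        ((Category.id_comp _).trans (he₁ i).symm)
        (by
          change (e i).hom ≫ biprod.desc (HomologicalComplex.homologyMap c₁ i)
            (-(HomologicalComplex.homologyMap c₂ i)) =
            HomologicalComplex.homologyMap (biprod.desc c₁ (-c₂)) i ≫ 𝟙 _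
          rw [Category.comp_id, ← he₂, Iso.hom_inv_id_assoc])
    exact ⟨w', (ShortComplex.exact_iff_of_iso iso).1 h⟩
  · have h := hSE.homology_exact₃ i j hij
    have w' : biprod.desc (HomologicalComplex.homologyMap c₁ i)
          (-(HomologicalComplex.homologyMap c₂ i)) ≫ hSE.δ i j hij = 0 := by
      rw [← he₂, Category.assoc]
      have : HomologicalComplex.homologyMap (biprod.desc c₁ (-c₂)) i ≫ hSE.δ i j hij = 0 :=
        hSE.comp_δ i j hij
      rw [this, comp_zero]
    have iso : ShortComplex.mk (HomologicalComplex.homologyMap (mvSC a₁ a₂ c₁ c₂ w).g i)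
        (hSE.δ i j hij) (hSE.comp_δ i j hij) ≅ ShortComplex.mk _ _ w' :=
      ShortComplex.isoMk (e i) (Iso.refl _) (Iso.refl _)
        (by
          change (e i).hom ≫ biprod.desc (HomologicalComplex.homologyMap c₁ i)
            (-(HomologicalComplex.homologyMap c₂ i)) =
            HomologicalComplex.homologyMap (biprod.desc c₁ (-c₂)) i ≫ 𝟙 _
          rw [Category.comp_id, ← he₂, Iso.hom_inv_id_assoc])
        ((Category.id_comp _).trans (Category.comp_id _).symm)
    exact ⟨w', (ShortComplex.exact_iff_of_iso iso).1 h⟩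
  · have h := hSE.homology_exact₁ i j hij
    have w' : hSE.δ i j hij ≫ biprod.lift (HomologicalComplex.homologyMap a₁ j)
          (HomologicalComplex.homologyMap a₂ j) = 0 := by
      rw [← he₁]
      have : hSE.δ i j hij ≫ HomologicalComplex.homologyMap (biprod.lift a₁ a₂) j = 0 :=
        hSE.δ_comp i j hij
      rw [reassoc_of% this, zero_comp]
    have iso : ShortComplex.mk (hSE.δ i j hij)
        (HomologicalComplex.homologyMap (mvSC a₁ a₂ c₁ c₂ w).f j) (hSE.δ_comp i j hij) ≅
        ShortComplex.mk _ _ w' :=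
      ShortComplex.isoMk (Iso.refl _) (Iso.refl _) (e j)
        ((Category.id_comp _).trans (Category.comp_id _).symm)
        ((Category.id_comp _).trans (he₁ j).symm)
    exact ⟨w', (ShortComplex.exact_iff_of_iso iso).1 h⟩

end Complexes


section MonoZero

variable {D : Type*} [Category D] [Abelian D]

lemma mono_homologyMap_zero {A M : CochainComplex D ℕ} (φ : A ⟶ M) (hφ : Mono (φ.f 0)) :
    Mono (HomologicalComplex.homologyMap φ 0) := by
  have h1 : Mono (HomologicalComplex.cyclesMap φ 0) := by
    have : Mono (HomologicalComplex.cyclesMap φ 0 ≫ M.iCycles 0) := by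
      rw [HomologicalComplex.cyclesMap_i]
      infer_instance
    exact mono_of_mono _ (M.iCycles 0)
  have h2 : HomologicalComplex.homologyMap φ 0 =
      A.isoHomologyπ₀.inv ≫ HomologicalComplex.cyclesMap φ 0 ≫ M.isoHomologyπ₀.hom := by
    rw [← CochainComplex.isoHomologyπ₀_inv_naturality_assoc, Iso.inv_hom_id, Category.comp_id]
  rw [h2]
  infer_instance

end MonoZero

section Derived

variable {C D : Type*} [Category C] [Category D] [Abelian C] [Abelian D]
  [HasInjectiveResolutions C]
  {F G H K : C ⥤ D} [F.Additive] [G.Additive] [H.Additive] [K.Additive]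
  (a₁ : F ⟶ G) (a₂ : F ⟶ H) (c₁ : G ⟶ K) (c₂ : H ⟶ K)

/-- **Mayer–Vietoris long exact sequence for right derived functors.** -/
theorem exists_δ (w : a₁ ≫ c₁ = a₂ ≫ c₂)
    (hI : ∀ (I : C), Injective I → ∃ w', (ShortComplex.mk (biprod.lift (a₁.app I) (a₂.app I))
      (biprod.desc (c₁.app I) (-(c₂.app I))) w').ShortExact) (X : C) :
    ∃ δ : ∀ n : ℕ, (K.rightDerived n).obj X ⟶ (F.rightDerived (n + 1)).obj X,
      Mono (biprod.lift ((NatTrans.rightDerived a₁ 0).app X)
        ((NatTrans.rightDerived a₂ 0).app X)) ∧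
      ∀ n : ℕ,
        (ComposableArrows.mk₂
          (biprod.lift ((NatTrans.rightDerived a₁ n).app X) ((NatTrans.rightDerived a₂ n).app X))
          (biprod.desc ((NatTrans.rightDerived c₁ n).app X)
            (-((NatTrans.rightDerived c₂ n).app X)))).Exact ∧
        (ComposableArrows.mk₂
          (biprod.desc ((NatTrans.rightDerived c₁ n).app X)
            (-((NatTrans.rightDerived c₂ n).app X))) (δ n)).Exact ∧
        (ComposableArrows.mk₂ (δ n)
          (biprod.lift ((NatTrans.rightDerived a₁ (n + 1)).app X)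
            ((NatTrans.rightDerived a₂ (n + 1)).app X))).Exact := by
  let P := injectiveResolution X
  let A := (F.mapHomologicalComplex (ComplexShape.up ℕ)).obj P.cocomplex
  let B₁ := (G.mapHomologicalComplex (ComplexShape.up ℕ)).obj P.cocomplex
  let B₂ := (H.mapHomologicalComplex (ComplexShape.up ℕ)).obj P.cocomplex
  let E := (K.mapHomologicalComplex (ComplexShape.up ℕ)).obj P.cocomplex
  let a₁' : A ⟶ B₁ := (NatTrans.mapHomologicalComplex a₁ (ComplexShape.up ℕ)).app P.cocomplex
  let a₂' : A ⟶ B₂ := (NatTrans.mapHomologicalComplex a₂ (ComplexShape.up ℕ)).app P.cocomplex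
  let c₁' : B₁ ⟶ E := (NatTrans.mapHomologicalComplex c₁ (ComplexShape.up ℕ)).app P.cocomplex
  let c₂' : B₂ ⟶ E := (NatTrans.mapHomologicalComplex c₂ (ComplexShape.up ℕ)).app P.cocomplex
  have w' : a₁' ≫ c₁' = a₂' ≫ c₂' := by
    ext i
    exact congrArg (fun t => t.app (P.cocomplex.X i)) w
  have hS : ∀ i, ∃ w'', (ShortComplex.mk (biprod.lift (a₁'.f i) (a₂'.f i))
      (biprod.desc (c₁'.f i) (-(c₂'.f i))) w'').ShortExact := fun i =>
    hI (P.cocomplex.X i) (P.injective i)
  have key := fun n : ℕ => exists_δ_complexes a₁' a₂' c₁' c₂' hS w' n (n + 1) (by simp)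
  choose δ₀ h1 h2 h3 using key
  let eF : ∀ n, (F.rightDerived n).obj X ≅ A.homology n := fun n => P.isoRightDerivedObj F n
  let eG : ∀ n, (G.rightDerived n).obj X ≅ B₁.homology n := fun n => P.isoRightDerivedObj G n
  let eH : ∀ n, (H.rightDerived n).obj X ≅ B₂.homology n := fun n => P.isoRightDerivedObj H n
  let eK : ∀ n, (K.rightDerived n).obj X ≅ E.homology n := fun n => P.isoRightDerivedObj K n
  have ra₁ : ∀ n, (NatTrans.rightDerived a₁ n).app X ≫ (eG n).hom =
      (eF n).hom ≫ HomologicalComplex.homologyMap a₁' n := by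
    intro n
    have := P.rightDerived_app_eq a₁ n
    change _ = (eF n).hom ≫ HomologicalComplex.homologyMap a₁' n ≫ (eG n).inv at this
    rw [this, Category.assoc, Category.assoc, Iso.inv_hom_id, Category.comp_id]
  have ra₂ : ∀ n, (NatTrans.rightDerived a₂ n).app X ≫ (eH n).hom =
      (eF n).hom ≫ HomologicalComplex.homologyMap a₂' n := by
    intro n
    have := P.rightDerived_app_eq a₂ n
    change _ = (eF n).hom ≫ HomologicalComplex.homologyMap a₂' n ≫ (eH n).inv at this
    rw [this, Category.assoc, Category.assoc, Iso.inv_hom_id, Category.comp_id]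
  have rc₁ : ∀ n, (NatTrans.rightDerived c₁ n).app X ≫ (eK n).hom =
      (eG n).hom ≫ HomologicalComplex.homologyMap c₁' n := by
    intro n
    have := P.rightDerived_app_eq c₁ n
    change _ = (eG n).hom ≫ HomologicalComplex.homologyMap c₁' n ≫ (eK n).inv at this
    rw [this, Category.assoc, Category.assoc, Iso.inv_hom_id, Category.comp_id]
  have rc₂ : ∀ n, (NatTrans.rightDerived c₂ n).app X ≫ (eK n).hom =
      (eH n).hom ≫ HomologicalComplex.homologyMap c₂' n := by
    intro n
    have := P.rightDerived_app_eq c₂ n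
    change _ = (eH n).hom ≫ HomologicalComplex.homologyMap c₂' n ≫ (eK n).inv at this
    rw [this, Category.assoc, Category.assoc, Iso.inv_hom_id, Category.comp_id]
  -- the comparison squares
  have sq₁ : ∀ n, biprod.lift ((NatTrans.rightDerived a₁ n).app X)
      ((NatTrans.rightDerived a₂ n).app X) ≫ biprod.map (eG n).hom (eH n).hom =
      (eF n).hom ≫ biprod.lift (HomologicalComplex.homologyMap a₁' n)
        (HomologicalComplex.homologyMap a₂' n) := by
    intro n
    ext
    · simp [ra₁]
    · simp [ra₂]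
  have sq₂ : ∀ n, biprod.map (eG n).hom (eH n).hom ≫
      biprod.desc (HomologicalComplex.homologyMap c₁' n)
        (-(HomologicalComplex.homologyMap c₂' n)) =
      biprod.desc ((NatTrans.rightDerived c₁ n).app X)
        (-((NatTrans.rightDerived c₂ n).app X)) ≫ (eK n).hom := by
    intro n
    ext
    · simp [rc₁]
    · simp [rc₂]
  let eGH : ∀ n, (G.rightDerived n).obj X ⊞ (H.rightDerived n).obj X ≅
      B₁.homology n ⊞ B₂.homology n := fun n => biprod.mapIso (eG n) (eH n)
  have heGH : ∀ n, (eGH n).hom = biprod.map (eG n).hom (eH n).hom := fun n => rfl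
  let δ : ∀ n : ℕ, (K.rightDerived n).obj X ⟶ (F.rightDerived (n + 1)).obj X := fun n =>
    (eK n).hom ≫ δ₀ n ≫ (eF (n + 1)).inv
  have hδ : ∀ n, δ n ≫ (eF (n + 1)).hom = (eK n).hom ≫ δ₀ n := by
    intro n
    change ((eK n).hom ≫ δ₀ n ≫ (eF (n + 1)).inv) ≫ (eF (n + 1)).hom = _
    rw [Category.assoc, Category.assoc, Iso.inv_hom_id, Category.comp_id]
  refine ⟨δ, ?_, fun n => ⟨?_, ?_, ?_⟩⟩
  · -- mono
    have hm : Mono (biprod.lift (HomologicalComplex.homologyMap a₁' 0)
        (HomologicalComplex.homologyMap a₂' 0)) := by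
      have hm' : Mono (HomologicalComplex.homologyMap (biprod.lift a₁' a₂') 0) := by
        apply mono_homologyMap_zero
        have := (mvSC_shortExact a₁' a₂' c₁' c₂' hS w').mono_f
        exact inferInstanceAs (Mono ((HomologicalComplex.eval D _ 0).map (biprod.lift a₁' a₂')))
      have := biprod.map_lift_mapBiprod (HomologicalComplex.homologyFunctor D _ 0) B₁ B₂ a₁' a₂'
      change HomologicalComplex.homologyMap (biprod.lift a₁' a₂') 0 ≫ _ =
        biprod.lift (HomologicalComplex.homologyMap a₁' 0)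
          (HomologicalComplex.homologyMap a₂' 0) at this
      rw [← this]
      exact mono_comp _ _
    have h : biprod.lift ((NatTrans.rightDerived a₁ 0).app X)
        ((NatTrans.rightDerived a₂ 0).app X) =
        ((eF 0).hom ≫ biprod.lift (HomologicalComplex.homologyMap a₁' 0)
          (HomologicalComplex.homologyMap a₂' 0)) ≫ (eGH 0).inv := by
      rw [← sq₁, ← heGH, Category.assoc, Iso.hom_inv_id, Category.comp_id]
    rw [h]
    have : Mono ((eF 0).hom ≫ biprod.lift (HomologicalComplex.homologyMap a₁' 0)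
          (HomologicalComplex.homologyMap a₂' 0)) := mono_comp _ _
    exact mono_comp _ _
  · obtain ⟨w₀, h₀⟩ := h1 n
    have wz : biprod.lift ((NatTrans.rightDerived a₁ n).app X)
        ((NatTrans.rightDerived a₂ n).app X) ≫
        biprod.desc ((NatTrans.rightDerived c₁ n).app X)
          (-((NatTrans.rightDerived c₂ n).app X)) = 0 := by
      rw [← cancel_mono (eK n).hom, zero_comp, Category.assoc, ← sq₂ n, ← Category.assoc, sq₁ n,
        Category.assoc, w₀, comp_zero]
    have iso : ShortComplex.mk _ _ wz ≅ ShortComplex.mk _ _ w₀ :=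
      ShortComplex.isoMk (eF n) (eGH n) (eK n) (sq₁ n).symm (sq₂ n)
    exact ((ShortComplex.exact_iff_of_iso iso).2 h₀).exact_toComposableArrows
  · obtain ⟨w₀, h₀⟩ := h2 n
    have wz : biprod.desc ((NatTrans.rightDerived c₁ n).app X)
          (-((NatTrans.rightDerived c₂ n).app X)) ≫ δ n = 0 := by
      rw [← cancel_mono (eF (n + 1)).hom, zero_comp, Category.assoc, hδ, ← Category.assoc,
        ← sq₂ n, Category.assoc, w₀, comp_zero]
    have iso : ShortComplex.mk _ _ wz ≅ ShortComplex.mk _ _ w₀ :=
      ShortComplex.isoMk (eGH n) (eK n) (eF (n + 1)) (sq₂ n) (hδ n).symm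
    exact ((ShortComplex.exact_iff_of_iso iso).2 h₀).exact_toComposableArrows
  · obtain ⟨w₀, h₀⟩ := h3 n
    have wz : δ n ≫ biprod.lift ((NatTrans.rightDerived a₁ (n + 1)).app X)
        ((NatTrans.rightDerived a₂ (n + 1)).app X) = 0 := by
      rw [← cancel_mono (eGH (n + 1)).hom, zero_comp, Category.assoc, heGH, sq₁ (n + 1),
        ← Category.assoc, hδ, Category.assoc, w₀, comp_zero]
    have iso : ShortComplex.mk _ _ wz ≅ ShortComplex.mk _ _ w₀ :=
      ShortComplex.isoMk (eK n) (eF (n + 1)) (eGH (n + 1)) (hδ n).symm (sq₁ (n + 1)).symm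
    exact ((ShortComplex.exact_iff_of_iso iso).2 h₀).exact_toComposableArrows

end Derived

end Groth.Agent.FunctorSESLES31
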