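import Groth.Agent.Lib.GFT53

/-!
# Codimension-one form of the depth condition in the finiteness theorem (SGA2 VIII 2.3) (helper53)
-/

set_option maxHeartbeats 400000
set_option linter.unusedSectionVars false
universe u

namespace Groth.Agent.Lib.GFT53
open Groth.Agent.Lib.FinDimRel53 Groth.Agent.Lib.Faltings53 Groth.Agent.Lib.AdjDepth53
open Groth.Agent.Lib.DimIneqCore

section cov
variable {A : Type u} [CommRing A] (I : Ideal A)

theorem height_map_sup_ne_zero (p : PrimeSpectrum A) (hp : ¬ I ≤ p.asIdeal) :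
    ((I ⊔ p.asIdeal).map (Ideal.Quotient.mk p.asIdeal)).height ≠ 0 := by
  rw [Ne, Ideal.height_eq_zero_iff_eq_bot, Ideal.map_eq_bot_iff_le_ker, Ideal.mk_ker]
  exact fun h => hp (le_sup_left.trans h)

theorem relCodim_eq_one_of_covBy (p q : PrimeSpectrum A) (hp : ¬ I ≤ p.asIdeal)
    (hq : I ≤ q.asIdeal) (hpq : p ⋖ q) : SGA2.relCodim I p = 1 := by
  rw [relCodim_eq]
  apply le_antisymm
  · haveI hprime := isPrime_map_mk p.asIdeal q.asIdeal hpq.le
    refine le_trans (Ideal.height_mono (Ideal.map_mono (sup_le hq hpq.le))) ?_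
    change _ ≤ ((1 : ℕ) : ℕ∞)
    rw [Ideal.height_le_iff]
    intro Q' hQ' hlt
    have h1 : p ≤ (⟨Q'.comap (Ideal.Quotient.mk p.asIdeal), Ideal.IsPrime.comap _⟩ :
        PrimeSpectrum A) := le_comap_mk p.asIdeal Q'
    have h2 : (⟨Q'.comap (Ideal.Quotient.mk p.asIdeal), Ideal.IsPrime.comap _⟩ :
        PrimeSpectrum A) < q := by
      have := comap_mk_lt_comap_mk p.asIdeal hlt
      rw [comap_map_mk_eq p.asIdeal q.asIdeal hpq.le] at this
      exact this
    have h3 : p = (⟨Q'.comap (Ideal.Quotient.mk p.asIdeal), Ideal.IsPrime.comap _⟩ :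
        PrimeSpectrum A) := by
      by_contra hne
      exact hpq.2 (lt_of_le_of_ne h1 hne) h2
    have h4 : Q' = ⊥ := by
      rw [← Ideal.map_comap_of_surjective _ Ideal.Quotient.mk_surjective Q']
      have : Q'.comap (Ideal.Quotient.mk p.asIdeal) = p.asIdeal :=
        (congrArg PrimeSpectrum.asIdeal h3).symm
      rw [this, Ideal.map_quotient_self]
    rw [h4, Ideal.height_eq_zero_iff_eq_bot.2 rfl]
    exact_mod_cast zero_lt_one
  · exact Order.one_le_iff_pos.2 (pos_iff_ne_zero.2 (height_map_sup_ne_zero I p hp))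

theorem exists_covBy_of_relCodim_eq_one (p : PrimeSpectrum A) (h : SGA2.relCodim I p = 1) :
    ∃ q : PrimeSpectrum A, I ≤ q.asIdeal ∧ p ⋖ q := by
  rw [relCodim_eq] at h
  have h' : ((I ⊔ p.asIdeal).map (Ideal.Quotient.mk p.asIdeal)).height = ((1 : ℕ) : ℕ∞) := by
    rw [h]; rfl
  obtain ⟨Q, hQ, hJQ, hQ1⟩ := Ideal.exists_isPrime_height_eq h'
  have hle : I ⊔ p.asIdeal ≤ Q.comap (Ideal.Quotient.mk p.asIdeal) :=
    Ideal.map_le_iff_le_comap.1 hJQ
  refine ⟨⟨Q.comap (Ideal.Quotient.mk p.asIdeal), Ideal.IsPrime.comap _⟩,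
    le_sup_left.trans hle, ?_, ?_⟩
  · refine lt_of_le_of_ne (le_sup_right.trans hle) fun heq => ?_
    have : Q = ⊥ := by
      rw [← Ideal.map_comap_of_surjective _ Ideal.Quotient.mk_surjective Q]
      have : Q.comap (Ideal.Quotient.mk p.asIdeal) = p.asIdeal :=
        (congrArg PrimeSpectrum.asIdeal heq).symm
      rw [this, Ideal.map_quotient_self]
    rw [this, Ideal.height_eq_zero_iff_eq_bot.2 rfl] at hQ1
    exact absurd hQ1 (by simp)
  · intro t hpt htq
    haveI h1 := isPrime_map_mk p.asIdeal t.asIdeal hpt.le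
    have hlt1 : (⊥ : Ideal (A ⧸ p.asIdeal)) < t.asIdeal.map (Ideal.Quotient.mk p.asIdeal) := by
      have := map_mk_lt_map_mk p.asIdeal p.asIdeal t.asIdeal le_rfl hpt
      rwa [Ideal.map_quotient_self] at this
    have hlt2 : t.asIdeal.map (Ideal.Quotient.mk p.asIdeal) < Q := by
      have := map_mk_lt_map_mk p.asIdeal t.asIdeal _ hpt.le htq
      change _ < (Q.comap (Ideal.Quotient.mk p.asIdeal)).map _ at this
      rwa [Ideal.map_comap_of_surjective _ Ideal.Quotient.mk_surjective Q] at this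
    have e1 := Ideal.height_add_one_le_of_lt_of_isPrime hlt1
    have e2 := Ideal.height_add_one_le_of_lt_of_isPrime hlt2
    rw [hQ1] at e2
    have e3 : (1 : ℕ∞) + 1 ≤ ((1 : ℕ) : ℕ∞) :=
      le_trans (add_le_add (le_trans le_add_self e1) le_rfl) e2
    have : (2 : ℕ) ≤ 1 := by exact_mod_cast e3
    omega

end cov

section codimOne
variable {A : Type u} [CommRing A] [IsNoetherianRing A] (I : Ideal A)
  (M : Type u) [AddCommGroup M] [Module A M] [Module.Finite A M] (n : ℕ)

/-- SGA2 VIII 2.3 (ii)⇔(iii): it suffices to test the depth condition at the primes with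
`c(p) = 1`. -/
theorem lt_depth_add_relCodim_iff :
    (∀ p : PrimeSpectrum A, ¬ I ≤ p.asIdeal → (n : ℕ∞) <
      LocCoh.depth (Localization.AtPrime p.asIdeal) (LocalizedModule p.asIdeal.primeCompl M) +
        SGA2.relCodim I p) ↔
    (∀ p : PrimeSpectrum A, ¬ I ≤ p.asIdeal → SGA2.relCodim I p = 1 → (n : ℕ∞) ≤
      LocCoh.depth (Localization.AtPrime p.asIdeal) (LocalizedModule p.asIdeal.primeCompl M)) := by
  constructor
  · intro h p hp hc
    have := h p hp
    rw [hc] at this
    exact Order.le_of_lt_add_one this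
  · intro h p hp
    rw [relCodim_eq]
    by_cases hc : ((I ⊔ p.asIdeal).map (Ideal.Quotient.mk p.asIdeal)).height = ⊤
    · rw [hc, add_top]
      exact ENat.coe_lt_top n
    obtain ⟨c, hc⟩ := ENat.ne_top_iff_exists.1 hc
    have hc0 : c ≠ 0 := by
      intro h0
      apply height_map_sup_ne_zero I p hp
      rw [← hc, h0]
      rfl
    obtain ⟨Q, hQ, hJQ, hQc⟩ := Ideal.exists_isPrime_height_eq hc.symm
    have hnot : ¬ Q.height ≤ ((c - 1 : ℕ) : ℕ∞) := by
      rw [hQc, not_le]
      exact_mod_cast Nat.sub_lt (Nat.pos_of_ne_zero hc0) Nat.one_pos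
    rw [Ideal.height_le_iff] at hnot
    push Not at hnot
    obtain ⟨Q', hQ', hlt, hge⟩ := hnot
    have hle1 := Ideal.height_add_one_le_of_lt_of_isPrime hlt
    rw [hQc] at hle1
    have hQ'fin : Q'.height ≠ ⊤ :=
      ne_top_of_le_ne_top (ENat.natCast_ne_top c) (le_trans le_self_add hle1)
    obtain ⟨c', hc'⟩ := ENat.ne_top_iff_exists.1 hQ'fin
    rw [← hc'] at hle1 hge
    have hc'1 : c' + 1 ≤ c := by exact_mod_cast hle1
    have hc'2 : c - 1 ≤ c' := by exact_mod_cast hge
    have hc'eq : c' = c - 1 := by omega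
    -- the primes
    set p' : PrimeSpectrum A := ⟨Q'.comap (Ideal.Quotient.mk p.asIdeal), Ideal.IsPrime.comap _⟩
      with hp'def
    set q : PrimeSpectrum A := ⟨Q.comap (Ideal.Quotient.mk p.asIdeal), Ideal.IsPrime.comap _⟩
      with hqdef
    have hpp' : p ≤ p' := le_comap_mk p.asIdeal Q'
    have hp'q : p' < q := comap_mk_lt_comap_mk p.asIdeal hlt
    have hIq : I ⊔ p.asIdeal ≤ q.asIdeal := Ideal.map_le_iff_le_comap.1 hJQ
    have hmapp' : p'.asIdeal.map (Ideal.Quotient.mk p.asIdeal) = Q' :=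
      Ideal.map_comap_of_surjective _ Ideal.Quotient.mk_surjective Q'
    have hmapq : q.asIdeal.map (Ideal.Quotient.mk p.asIdeal) = Q :=
      Ideal.map_comap_of_surjective _ Ideal.Quotient.mk_surjective Q
    have hIp' : ¬ I ≤ p'.asIdeal := by
      intro hle
      have h1 : (I ⊔ p.asIdeal).map (Ideal.Quotient.mk p.asIdeal) ≤ Q' := by
        rw [← hmapp']
        exact Ideal.map_mono (sup_le hle hpp')
      have h2 := Ideal.height_mono h1
      rw [← hc, ← hc'] at h2
      have : c ≤ c' := by exact_mod_cast h2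
      omega
    have hrel : SGA2.relCodim I p' = 1 := by
      rw [relCodim_eq]
      apply le_antisymm
      · have h1 : ((I ⊔ p'.asIdeal).map (Ideal.Quotient.mk p'.asIdeal)).height ≤
            (q.asIdeal.map (Ideal.Quotient.mk p'.asIdeal)).height :=
          Ideal.height_mono (Ideal.map_mono (sup_le (le_sup_left.trans hIq) hp'q.le))
        have h2 := height_add_le p.asIdeal p'.asIdeal q.asIdeal hpp' hp'q.le
        rw [hmapp', hmapq, hQc, ← hc'] at h2
        have hxfin : (q.asIdeal.map (Ideal.Quotient.mk p'.asIdeal)).height ≠ ⊤ :=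
          ne_top_of_le_ne_top (ENat.natCast_ne_top c) (le_trans le_add_self h2)
        obtain ⟨x, hx⟩ := ENat.ne_top_iff_exists.1 hxfin
        rw [← hx] at h1 h2
        have h3 : c' + x ≤ c := by exact_mod_cast h2
        have h4 : x ≤ 1 := by omega
        refine le_trans h1 ?_
        exact_mod_cast h4
      · exact Order.one_le_iff_pos.2 (pos_iff_ne_zero.2 (height_map_sup_ne_zero I p' hIp'))
    have hdep := h p' hIp' hrel
    have h650 := Groth.Agent.S11650.result A M p.asIdeal p'.asIdeal hpp'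
    rw [hmapp', ← hc'] at h650
    have hle := le_trans hdep h650
    rw [← hc]
    by_cases hdtop : LocCoh.depth (Localization.AtPrime p.asIdeal)
        (LocalizedModule p.asIdeal.primeCompl M) = ⊤
    · rw [hdtop, top_add]
      exact ENat.coe_lt_top n
    obtain ⟨d, hd⟩ := ENat.ne_top_iff_exists.1 hdtop
    rw [← hd] at hle ⊢
    have h5 : n ≤ d + c' := by exact_mod_cast hle
    have h6 : n < d + c := by omega
    exact_mod_cast h6

end codimOne

end Groth.Agent.Lib.GFT53
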