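import Groth.Agent.Lib.GFT53b
import Groth.Agent.Lib.CMCat33
import Groth.Agent.Lib.H8Fin

/-!
# The finiteness theorem when `M` is Cohen–Macaulay off `V(I)` (SGA2 VIII 2.3 corollary) (helper53)
-/

set_option maxHeartbeats 400000
set_option linter.unusedSectionVars false
universe u

namespace Groth.Agent.Lib.GFT53
open Groth.Agent.Lib.FinDimRel53 Groth.Agent.Lib.Faltings53 Groth.Agent.Lib.AdjDepth53
open Groth.Agent.Lib.DimIneqCore

section cm
variable {R : Type u} [CommRing R] [hR : LocCoh.IsCohenMacaulayRing R]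

/-- in a CM ring `ht Q ≤ ht P₀ + ht(Q/P₀)`. -/
theorem height_le_add_quot (P₀ : Ideal R) [P₀.IsPrime] :
    ∀ (k : ℕ) (Q : Ideal R) [Q.IsPrime], P₀ ≤ Q →
      (Q.map (Ideal.Quotient.mk P₀)).height = k → Q.height ≤ P₀.height + k := by
  have hN : IsNoetherianRing R := inferInstance
  intro k
  induction k with
  | zero =>
    intro Q _ hPQ hk
    rw [Nat.cast_zero, Ideal.height_eq_zero_iff_eq_bot, Ideal.map_eq_bot_iff_le_ker,
      Ideal.mk_ker] at hk
    rw [Nat.cast_zero, add_zero, le_antisymm hk hPQ]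
  | succ k ih =>
    intro Q hQ hPQ hk
    haveI hQbar := isPrime_map_mk P₀ Q hPQ
    have hnot : ¬ (Q.map (Ideal.Quotient.mk P₀)).height ≤ (k : ℕ∞) := by
      rw [hk, not_le]
      exact_mod_cast Nat.lt_succ_self k
    rw [Ideal.height_le_iff] at hnot
    push Not at hnot
    obtain ⟨Q', hQ', hlt, hge⟩ := hnot
    have hle1 := Ideal.height_add_one_le_of_lt_of_isPrime hlt
    rw [hk] at hle1
    have hQ'fin : Q'.height ≠ ⊤ :=
      ne_top_of_le_ne_top (ENat.natCast_ne_top (k + 1)) (le_trans le_self_add hle1)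
    obtain ⟨c', hc'⟩ := ENat.ne_top_iff_exists.1 hQ'fin
    rw [← hc'] at hle1 hge
    have h1 : c' + 1 ≤ k + 1 := by exact_mod_cast hle1
    have h2 : k ≤ c' := by exact_mod_cast hge
    have hc'k : c' = k := by omega
    have hP₁ : (Q'.comap (Ideal.Quotient.mk P₀)).IsPrime := Ideal.IsPrime.comap _
    have hP₀P₁ : P₀ ≤ Q'.comap (Ideal.Quotient.mk P₀) := le_comap_mk P₀ Q'
    have hmap : (Q'.comap (Ideal.Quotient.mk P₀)).map (Ideal.Quotient.mk P₀) = Q' :=
      Ideal.map_comap_of_surjective _ Ideal.Quotient.mk_surjective Q'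
    have hIH := ih (Q'.comap (Ideal.Quotient.mk P₀)) hP₀P₁ (by rw [hmap, ← hc', hc'k])
    have hP₁Q : Q'.comap (Ideal.Quotient.mk P₀) < Q := by
      have := comap_mk_lt_comap_mk P₀ hlt
      rwa [comap_map_mk_eq P₀ Q hPQ] at this
    -- `P₁ ⋖ Q`
    have hcov : (⟨Q'.comap (Ideal.Quotient.mk P₀), hP₁⟩ : PrimeSpectrum R) ⋖ ⟨Q, hQ⟩ := by
      refine ⟨hP₁Q, fun T hP₁T hTQ => ?_⟩
      have hP₀T : P₀ ≤ T.asIdeal := hP₀P₁.trans hP₁T.le
      haveI := isPrime_map_mk P₀ T.asIdeal hP₀T
      have hlt1 : Q' < T.asIdeal.map (Ideal.Quotient.mk P₀) := by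
        have := map_mk_lt_map_mk P₀ _ T.asIdeal hP₀P₁ hP₁T
        rwa [hmap] at this
      have hlt2 : T.asIdeal.map (Ideal.Quotient.mk P₀) < Q.map (Ideal.Quotient.mk P₀) :=
        map_mk_lt_map_mk P₀ T.asIdeal Q hP₀T hTQ
      have e1 := Ideal.height_add_one_le_of_lt_of_isPrime hlt1
      have e2 := Ideal.height_add_one_le_of_lt_of_isPrime hlt2
      rw [hk] at e2
      rw [← hc'] at e1
      have e3 : ((c' : ℕ∞) + 1) + 1 ≤ ((k + 1 : ℕ) : ℕ∞) :=
        le_trans (add_le_add e1 le_rfl) e2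
      have : c' + 1 + 1 ≤ k + 1 := by exact_mod_cast e3
      omega
    have hht := Groth.Agent.Lib.CMCat33.height_eq_add_one_of_covBy hcov
    change Q.height = (Q'.comap (Ideal.Quotient.mk P₀)).height + 1 at hht
    rw [hht, Nat.cast_succ, ← add_assoc]
    gcongr

theorem height_eq_add_quot (P₀ Q : Ideal R) [P₀.IsPrime] [Q.IsPrime] (hPQ : P₀ ≤ Q) :
    Q.height = P₀.height + (Q.map (Ideal.Quotient.mk P₀)).height := by
  have hN : IsNoetherianRing R := inferInstance
  haveI := isPrime_map_mk P₀ Q hPQ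
  obtain ⟨k, hk⟩ := ENat.ne_top_iff_exists.1
    (Ideal.height_ne_top (I := Q.map (Ideal.Quotient.mk P₀)) Ideal.IsPrime.ne_top')
  apply le_antisymm
  · rw [← hk]
    exact height_le_add_quot P₀ k Q hPQ hk.symm
  · exact height_add_quot_le P₀ Q hPQ

end cm

section cat
variable {S A : Type u} [CommRing S] [CommRing A] [Algebra S A]
  (hπ : Function.Surjective (algebraMap S A)) [hS : LocCoh.IsCohenMacaulayRing S]

include hπ in
/-- heights of quotients of primes are additive in a quotient of a CM ring. -/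
theorem height_quot_le_add (p₀ p q : Ideal A) [p₀.IsPrime] [p.IsPrime] [q.IsPrime]
    (h₀ : p₀ ≤ p) (h₁ : p ≤ q) :
    (q.map (Ideal.Quotient.mk p₀)).height ≤
      (p.map (Ideal.Quotient.mk p₀)).height + (q.map (Ideal.Quotient.mk p)).height := by
  have hN : IsNoetherianRing S := inferInstance
  have key : ∀ (x y : Ideal A) [x.IsPrime] [y.IsPrime], x ≤ y →
      (y.map (Ideal.Quotient.mk x)).height =
        ((y.comap (algebraMap S A)).map
          (Ideal.Quotient.mk (x.comap (algebraMap S A)))).height := by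
    intro x y _ _ hxy
    have := height_map_mk_eq hπ (y.comap (algebraMap S A)) x
    rw [Ideal.map_comap_of_surjective _ hπ, sup_eq_left.2 hxy,
      sup_eq_left.2 (Ideal.comap_mono hxy)] at this
    exact this.symm
  rw [key p₀ q (h₀.trans h₁), key p₀ p h₀, key p q h₁]
  have e1 := height_eq_add_quot (p₀.comap (algebraMap S A)) (q.comap (algebraMap S A))
    (Ideal.comap_mono (h₀.trans h₁))
  have e2 := height_eq_add_quot (p₀.comap (algebraMap S A)) (p.comap (algebraMap S A))
    (Ideal.comap_mono h₀)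
  have e3 := height_eq_add_quot (p.comap (algebraMap S A)) (q.comap (algebraMap S A))
    (Ideal.comap_mono h₁)
  rw [e3, e2, add_assoc] at e1
  have hfin : (p₀.comap (algebraMap S A)).height ≠ ⊤ :=
    Ideal.height_ne_top Ideal.IsPrime.ne_top'
  exact le_of_eq ((ENat.add_right_injective_of_ne_top hfin) e1.symm).symm.symm

end cat

end Groth.Agent.Lib.GFT53
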