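import Groth.Agent.Lib.GFT53c
import Groth.Agent.Lib.ZClosed58

/-!
# The finiteness theorem when `M` is Cohen–Macaulay off `V(I)` (helper53)
-/

set_option maxHeartbeats 400000
set_option linter.unusedSectionVars false
universe u

namespace Groth.Agent.Lib.GFT53
open Groth.Agent.Lib.FinDimRel53 Groth.Agent.Lib.Faltings53 Groth.Agent.Lib.AdjDepth53
open Groth.Agent.Lib.DimIneqCore

section supp
variable {A : Type u} [CommRing A] (M : Type u) [AddCommGroup M] [Module A M]

/-- `ht(p/p₀) ≤ dim M_p` for `p₀ ∈ Supp M`, `p₀ ≤ p`. -/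
theorem height_quot_le_supportDim (p₀ p : PrimeSpectrum A) (h : p₀ ≤ p)
    (h₀ : p₀ ∈ Module.support A M) :
    (((p.asIdeal.map (Ideal.Quotient.mk p₀.asIdeal)).height : ℕ∞) : WithBot ℕ∞) ≤
      Module.supportDim (Localization.AtPrime p.asIdeal)
        (LocalizedModule p.asIdeal.primeCompl M) := by
  have hP : p ∈ Module.support A M := Module.mem_support_mono h h₀
  have h1 := Groth.Agent.Lib.H8Fin.supportDim_localization_eq_height p.asIdeal M hP
  rw [h1, ← orderHeight_Ici_eq p₀ p h]
  let f : Set.Ici p₀ → Module.support A M := fun x => ⟨x.1, Module.mem_support_mono x.2 h₀⟩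
  have hf : StrictMono f := fun x y hxy => hxy
  have := Order.height_le_height_apply_of_strictMono f hf ⟨p, h⟩
  exact_mod_cast this

end supp

section main
variable (R : Type u) [CommRing R] [IsRegularRing R] (A : Type u) [CommRing A]
  [IsNoetherianRing A] (π : R →+* A) (hπ : Function.Surjective π) (I : Ideal A)
  (M : Type u) [AddCommGroup M] [Module A M] [Module.Finite A M]

include hπ in
theorem finite_H_iff_of_cm_off
    (hCM : ∀ p : PrimeSpectrum A, ¬ I ≤ p.asIdeal →
      Subsingleton (LocalizedModule p.asIdeal.primeCompl M) ∨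
        LocCoh.IsCohenMacaulayModule (Localization.AtPrime p.asIdeal)
          (LocalizedModule p.asIdeal.primeCompl M)) (n : ℕ) :
    (∀ i : ℕ, i ≤ n → Module.Finite A (LocCoh.H I i M)) ↔
      ∀ p : PrimeSpectrum A, ¬ I ≤ p.asIdeal →
        p.asIdeal ∈ (Module.annihilator A M).minimalPrimes → (n : ℕ∞) < SGA2.relCodim I p := by
  rw [finite_H_iff_lt_depth_add_relCodim R A π hπ I M n]
  constructor
  · intro h p hp hmin
    have h1 := h p hp
    have hass : p.asIdeal ∈ associatedPrimes A M :=
      Module.associatedPrimes.minimalPrimes_annihilator_subset_associatedPrimes A M hmin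
    have h0 := (Groth.Agent.Lib.ZClosed58.mem_associatedPrimes_iff_not_one_le_depth A M p).1 hass
    rw [not_le, Order.lt_one_iff] at h0
    rwa [h0, zero_add] at h1
  · intro h p hp
    rcases subsingleton_or_nontrivial (LocalizedModule p.asIdeal.primeCompl M) with hsub | hnt
    · rw [depth_eq_top_of_subsingleton, top_add]
      exact ENat.coe_lt_top n
    have hcm : LocCoh.IsCohenMacaulayModule (Localization.AtPrime p.asIdeal)
        (LocalizedModule p.asIdeal.primeCompl M) := by
      rcases hCM p hp with hsub | hcm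
      · exact absurd hsub (not_subsingleton_iff_nontrivial.2 hnt)
      · exact hcm
    have hP : p ∈ Module.support A M := Module.mem_support_iff.2 hnt
    obtain ⟨p₀, hp₀min, hp₀p⟩ := Ideal.exists_minimalPrimes_le
      (Module.mem_support_iff_of_finite.1 hP)
    haveI hp₀prime : p₀.IsPrime := hp₀min.1.1
    have hIp₀ : ¬ I ≤ p₀ := fun hle => hp (hle.trans hp₀p)
    have h1 := h ⟨p₀, hp₀prime⟩ hIp₀ hp₀min
    have hp₀supp : (⟨p₀, hp₀prime⟩ : PrimeSpectrum A) ∈ Module.support A M :=
      Module.mem_support_iff_of_finite.2 hp₀min.1.2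
    have h2 := height_quot_le_supportDim M ⟨p₀, hp₀prime⟩ p hp₀p hp₀supp
    rw [hcm] at h2
    have h2' : (p.asIdeal.map (Ideal.Quotient.mk p₀)).height ≤
        LocCoh.depth (Localization.AtPrime p.asIdeal)
          (LocalizedModule p.asIdeal.primeCompl M) := by exact_mod_cast h2
    rw [relCodim_eq] at h1 ⊢
    by_cases hc : ((I ⊔ p.asIdeal).map (Ideal.Quotient.mk p.asIdeal)).height = ⊤
    · rw [hc, add_top]
      exact ENat.coe_lt_top n
    obtain ⟨c, hc⟩ := ENat.ne_top_iff_exists.1 hc
    obtain ⟨Q', hQ', hJQ', hQ'c⟩ := Ideal.exists_isPrime_height_eq hc.symm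
    have hle : I ⊔ p.asIdeal ≤ Q'.comap (Ideal.Quotient.mk p.asIdeal) :=
      Ideal.map_le_iff_le_comap.1 hJQ'
    haveI hq : (Q'.comap (Ideal.Quotient.mk p.asIdeal)).IsPrime := Ideal.IsPrime.comap _
    have hmapq : (Q'.comap (Ideal.Quotient.mk p.asIdeal)).map (Ideal.Quotient.mk p.asIdeal) = Q' :=
      Ideal.map_comap_of_surjective _ Ideal.Quotient.mk_surjective Q'
    have h3 : ((I ⊔ p₀).map (Ideal.Quotient.mk p₀)).height ≤
        ((Q'.comap (Ideal.Quotient.mk p.asIdeal)).map (Ideal.Quotient.mk p₀)).height :=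
      Ideal.height_mono (Ideal.map_mono
        (sup_le (le_sup_left.trans hle) (hp₀p.trans (le_sup_right.trans hle))))
    letI : Algebra R A := π.toAlgebra
    have hπ' : Function.Surjective (algebraMap R A) := hπ
    haveI := Groth.Agent.Lib.CMAscent33.isCohenMacaulayRing_of_isRegularRing R
    have h4 := height_quot_le_add hπ' p₀ p.asIdeal (Q'.comap (Ideal.Quotient.mk p.asIdeal))
      hp₀p (le_sup_right.trans hle)
    rw [hmapq, hQ'c] at h4
    rw [← hc]
    calc (n : ℕ∞) < ((I ⊔ p₀).map (Ideal.Quotient.mk p₀)).height := h1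
      _ ≤ _ := h3
      _ ≤ _ := h4
      _ ≤ _ := by gcongr

end main

end Groth.Agent.Lib.GFT53
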