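import Groth.Agent.Lib.GITQuot38
import Mathlib.RingTheory.HopfAlgebra.Convolution
import Mathlib.RingTheory.Spectrum.Prime.Topology

/-!
# Orbits of rational points under `GLin` coactions (helper38)

`actPt` is a right action of the convolution group of points; rational points of a closed orbit
closure lie in the orbit (for `A` of finite type over an algebraically closed field).
-/

set_option autoImplicit false
set_option linter.unusedSectionVars false
universe u v w
open TensorProduct

namespace Groth.Agent.Lib.GITOrbit38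
open Groth.Agent.Lib.Comod Groth.Agent.Lib.Reynolds38 Groth.Agent.Lib.GLinGrading38
  Groth.Agent.Lib.GITQuot38

section Act

variable {k : Type u} [Field k] {A : Type v} [CommRing A] [Bialgebra k A]
  {R : Type w} [CommRing R] [Algebra k R] [HopfRep.Comod k A R] [GLin.IsCoactAlg k A R]

/-- Two rational points with comparable kernels are equal. -/
theorem eq_of_ker_le {z w : R →ₐ[k] k} (h : RingHom.ker z ≤ RingHom.ker w) : w = z := by
  apply AlgHom.ext
  intro f
  have hmem : f - algebraMap k R (z f) ∈ RingHom.ker z := by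
    rw [RingHom.mem_ker, map_sub, AlgHom.commutes, sub_eq_zero]; rfl
  have := h hmem
  rw [RingHom.mem_ker, map_sub, AlgHom.commutes, sub_eq_zero] at this
  rw [this]; rfl

theorem actPt_apply (g : A →ₐ[k] k) (x : R →ₐ[k] k) (f : R) :
    GLin.actPt k g x f = g (GLin.orbitHom k A x f) := rfl

/-- The counit acts trivially. -/
theorem actPt_one (x : R →ₐ[k] k) :
    GLin.actPt k (1 : WithConv (A →ₐ[k] k)).ofConv x = x := by
  apply AlgHom.ext
  intro f
  rw [actPt_apply]
  show algebraMap k k (Coalgebra.counit (R := k) (GLin.orbitHom k A x f)) = x f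
  rw [Groth.Agent.Lib.IsMu38.counit_orbitHom]
  rfl

/-- `actPt` is a right action for the convolution product. -/
theorem actPt_actPt (g h : WithConv (A →ₐ[k] k)) (x : R →ₐ[k] k) :
    GLin.actPt k h.ofConv (GLin.actPt k g.ofConv x) = GLin.actPt k (g * h).ofConv x := by
  apply AlgHom.ext
  intro f
  rw [actPt_apply, actPt_apply]
  have hmul : (g * h).ofConv (GLin.orbitHom k A x f) =
      Algebra.TensorProduct.lift g.ofConv h.ofConv (fun _ _ => .all ..)
        (CoalgebraStruct.comul (R := k) (GLin.orbitHom k A x f)) := AlgHom.convMul_apply g h _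
  rw [hmul]
  have hcom := LinearMap.congr_fun (isComodHom_orbitHom (A := A) x) f
  simp only [LinearMap.coe_comp, Function.comp_apply, AlgHom.toLinearMap_apply] at hcom
  have hcom' : CoalgebraStruct.comul (R := k) (GLin.orbitHom k A x f) =
      (GLin.orbitHom k A x).toLinearMap.rTensor A (HopfRep.Comod.coact (k := k) (A := A) f) := hcom
  rw [hcom', orbitHom_apply]
  generalize HopfRep.Comod.coact (k := k) (A := A) f = t
  induction t using TensorProduct.induction_on with
  | zero => simp
  | add a b ha hb => simp only [map_add, ha, hb]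
  | tmul a b =>
    simp only [LinearMap.rTensor_tmul, AlgHom.toLinearMap_apply, TensorProduct.lid_tmul,
      Algebra.TensorProduct.lift_tmul, map_smul, smul_eq_mul]
    rfl

end Act

section Closed

variable {k : Type u} [Field k] [IsAlgClosed k] {A : Type v} [CommRing A] [Bialgebra k A]
  [Algebra.FiniteType k A]
  {R : Type w} [CommRing R] [Algebra k R] [HopfRep.Comod k A R] [GLin.IsCoactAlg k A R]

/-- A rational point in the closure of a closed orbit lies in the orbit. -/
theorem exists_actPt_eq_of_isClosedOrbit (x z : R →ₐ[k] k) (hcl : GLin.IsClosedOrbit k A x)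
    (hz : GLin.InOrbitClosure k A x z) : ∃ g : A →ₐ[k] k, z = GLin.actPt k g x := by
  have hzmax : (RingHom.ker z).IsMaximal := RingHom.ker_isMaximal_of_surjective (z : R →+* k)
    (fun c => ⟨algebraMap k R c, AlgHom.commutes z c⟩)
  let 𝔷 : PrimeSpectrum R := ⟨RingHom.ker z, hzmax.isPrime⟩
  have hmem : 𝔷 ∈ Set.range (PrimeSpectrum.comap (GLin.orbitHom k A x).toRingHom) := by
    have hc : closure (Set.range (PrimeSpectrum.comap (GLin.orbitHom k A x).toRingHom)) =
        Set.range (PrimeSpectrum.comap (GLin.orbitHom k A x).toRingHom) := hcl.closure_eq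
    rw [← hc, PrimeSpectrum.closure_range_comap, PrimeSpectrum.mem_zeroLocus]
    exact hz
  obtain ⟨𝔭, h𝔭⟩ := hmem
  obtain ⟨g, hg⟩ := exists_algHom_ker_ge (k := k) 𝔭.asIdeal 𝔭.2.ne_top
  refine ⟨g, (eq_of_ker_le (z := z) (w := GLin.actPt k g x) ?_).symm⟩
  intro f hf
  have hf' : f ∈ (PrimeSpectrum.comap (GLin.orbitHom k A x).toRingHom 𝔭).asIdeal := by
    rw [h𝔭]; exact hf
  rw [PrimeSpectrum.comap_asIdeal, Ideal.mem_comap] at hf'
  rw [RingHom.mem_ker, actPt_apply]
  exact hg hf'

end Closed

end Groth.Agent.Lib.GITOrbit38
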