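import Groth.Agent.Lib.GITOrbit38
import Mathlib.RingTheory.Jacobson.Ring

/-!
# Rational points of the group acting on rational points (helper38)

Bridges between `HopfRep.Comod.act` (the action of a rational point of the group on functions)
and the orbit morphism `GLin.orbitHom`, and the Nullstellensatz statement that an element of a
finitely generated algebra over an algebraically closed field killed by all rational points is
nilpotent.
-/

set_option autoImplicit false
set_option linter.unusedSectionVars false
universe u v w
open TensorProduct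

namespace Groth.Agent.Lib.GITPts38
open Groth.Agent.Lib.Comod Groth.Agent.Lib.Reynolds38 Groth.Agent.Lib.GLinGrading38
  Groth.Agent.Lib.GITQuot38 Groth.Agent.Lib.GITOrbit38

section Nullstellensatz

/-- An element killed by every rational point is nilpotent. -/
theorem isNilpotent_of_forall_algHom_eq_zero {k : Type*} [Field k] [IsAlgClosed k] {A : Type*}
    [CommRing A] [Algebra k A] [Algebra.FiniteType k A] (a : A)
    (h : ∀ g : A →ₐ[k] k, g a = 0) : IsNilpotent a := by
  have hJ : IsJacobsonRing A := isJacobsonRing_of_finiteType (A := k) (B := A)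
  rw [← mem_nilradical]
  show a ∈ (⊥ : Ideal A).radical
  rw [Ideal.radical_eq_jacobson, Ideal.jacobson, Ideal.mem_sInf]
  rintro J ⟨-, hJmax⟩
  obtain ⟨g, hg⟩ := exists_algHom_ker_ge (k := k) J hJmax.ne_top
  have hker : RingHom.ker g ≠ ⊤ := by
    intro htop
    have : (1 : A) ∈ RingHom.ker g := by rw [htop]; trivial
    rw [RingHom.mem_ker, map_one] at this
    exact one_ne_zero this
  have heq : J = RingHom.ker g := hJmax.eq_of_le hker hg
  rw [heq, RingHom.mem_ker]
  exact h g

end Nullstellensatz

section Act

variable {k : Type u} [Field k] {A : Type v} [CommRing A] [Bialgebra k A]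
  {R : Type w} [CommRing R] [Algebra k R] [HopfRep.Comod k A R] [GLin.IsCoactAlg k A R]

/-- Evaluating `g · f` at `x` is evaluating the orbit map of `x` at `g`. -/
theorem apply_act (x : R →ₐ[k] k) (g : A →ₐ[k] k) (f : R) :
    x (HopfRep.Comod.act k A R g f) = g (GLin.orbitHom k A x f) := by
  rw [orbitHom_apply]
  show x ((TensorProduct.rid k R) ((LinearMap.lTensor R g.toLinearMap)
    (HopfRep.Comod.coact (k := k) (A := A) f))) = _
  generalize HopfRep.Comod.coact (k := k) (A := A) f = t
  induction t using TensorProduct.induction_on with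
  | zero => simp
  | add a b ha hb => simp only [map_add, ha, hb]
  | tmul a b => simp [mul_comm]

/-- Invariant functions are fixed by rational points of the group. -/
theorem act_of_mem_fixedPts (g : A →ₐ[k] k) {f : R} (hf : f ∈ HopfRep.fixedPts k A R) :
    HopfRep.Comod.act k A R g f = f := by
  have hf' : HopfRep.Comod.coact (k := k) (A := A) f = f ⊗ₜ[k] (1 : A) := hf
  show (TensorProduct.rid k R) ((LinearMap.lTensor R g.toLinearMap)
    (HopfRep.Comod.coact (k := k) (A := A) f)) = f
  rw [hf']
  simp

theorem eq_zero_of_pow_eq_zero38 {K : Type*} [Field K] {c : K} {N : ℕ} (h : c ^ N = 0) : c = 0 := by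
  by_contra hc
  exact pow_ne_zero N hc h

/-- A point of the orbit closure (kernel of the orbit map) kills every function which vanishes
along the orbit at rational points of the group. -/
theorem apply_eq_zero_of_forall_act [IsAlgClosed k] [Algebra.FiniteType k A] {x z : R →ₐ[k] k}
    (hz : RingHom.ker (GLin.orbitHom k A x) ≤ RingHom.ker z) {f : R}
    (hf : ∀ g : A →ₐ[k] k, x (HopfRep.Comod.act k A R g f) = 0) : z f = 0 := by
  have hnil : IsNilpotent (GLin.orbitHom k A x f) :=
    isNilpotent_of_forall_algHom_eq_zero _ fun g => by rw [← apply_act]; exact hf g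
  obtain ⟨N, hN⟩ := hnil
  have h1 : f ^ N ∈ RingHom.ker (GLin.orbitHom k A x) := by
    rw [RingHom.mem_ker, map_pow]; exact hN
  have h2 := hz h1
  rw [RingHom.mem_ker, map_pow] at h2
  exact eq_zero_of_pow_eq_zero38 h2

end Act

end Groth.Agent.Lib.GITPts38
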