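/-
Serre's lemma: a subgroup of `GL₂(𝔽_p)` of order divisible by `p` containing a non-split Cartan
subgroup is the whole group (helper70).
-/
import Mathlib

set_option autoImplicit false

namespace Groth.Agent.Lib.GL2Serre

open Matrix

section Field

variable {F : Type*} [Field F]

/-- a nilpotent `2 × 2` matrix over a field squares to zero -/
theorem sq_eq_zero_of_isNilpotent {N : Matrix (Fin 2) (Fin 2) F} (hN : IsNilpotent N) :
    N * N = 0 := by
  have htr : N.trace = 0 := (Matrix.isNilpotent_trace_of_isNilpotent hN).eq_zero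
  have hdet : N.det = 0 := by
    obtain ⟨n, hn⟩ := hN
    have : N.det ^ n = 0 := by rw [← Matrix.det_pow, hn, Matrix.det_zero]
    exact pow_eq_zero_iff (by rintro rfl; simp at this) |>.1 this
  have h := Matrix.aeval_self_charpoly N
  rw [Matrix.charpoly_fin_two, htr, hdet] at h
  simpa [pow_two] using h

/-- powers of a unipotent with square-zero nilpotent part -/
theorem one_add_pow_of_sq_zero {N : Matrix (Fin 2) (Fin 2) F} (hN : N * N = 0) (n : ℕ) :
    (1 + N) ^ n = 1 + (n : F) • N := by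
  induction n with
  | zero => simp
  | succ n ih =>
    rw [pow_succ, ih]
    simp only [Nat.cast_add, Nat.cast_one, add_smul, one_smul]
    rw [mul_add, mul_one, add_mul, one_mul, smul_mul_assoc, hN, smul_zero, add_zero]
    abel

/-- the upper unipotent -/
def upper (a : F) : GL (Fin 2) F :=
  ⟨!![1, a; 0, 1], !![1, -a; 0, 1], by ext i j; fin_cases i <;> fin_cases j <;> simp,
    by ext i j; fin_cases i <;> fin_cases j <;> simp⟩

/-- the lower unipotent -/
def lower (b : F) : GL (Fin 2) F :=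
  ⟨!![1, 0; b, 1], !![1, 0; -b, 1], by ext i j; fin_cases i <;> fin_cases j <;> simp,
    by ext i j; fin_cases i <;> fin_cases j <;> simp⟩

@[simp] theorem upper_val (a : F) : (upper a : Matrix (Fin 2) (Fin 2) F) = !![1, a; 0, 1] := rfl
@[simp] theorem lower_val (b : F) : (lower b : Matrix (Fin 2) (Fin 2) F) = !![1, 0; b, 1] := rfl

/-- `SL₂` is generated by the elementary unipotents -/
theorem mem_of_det_eq_one (H : Subgroup (GL (Fin 2) F)) (hU : ∀ a, upper a ∈ H)
    (hL : ∀ b, lower b ∈ H) (g : GL (Fin 2) F)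
    (hg : (g : Matrix (Fin 2) (Fin 2) F).det = 1) : g ∈ H := by
  -- the case of nonzero lower-left entry
  have key : ∀ g : GL (Fin 2) F, (g : Matrix (Fin 2) (Fin 2) F).det = 1 →
      (g : Matrix (Fin 2) (Fin 2) F) 1 0 ≠ 0 → g ∈ H := by
    intro g hg hc
    set a := (g : Matrix (Fin 2) (Fin 2) F) 0 0 with ha
    set b := (g : Matrix (Fin 2) (Fin 2) F) 0 1 with hb
    set c := (g : Matrix (Fin 2) (Fin 2) F) 1 0 with hc'
    set d := (g : Matrix (Fin 2) (Fin 2) F) 1 1 with hd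
    have hdet : a * d - b * c = 1 := by
      rw [← hg, Matrix.det_fin_two]
    have e : g = upper ((a - 1) / c) * lower c * upper ((d - 1) / c) := by
      apply Units.ext
      rw [Units.val_mul, Units.val_mul, upper_val, lower_val, upper_val]
      ext i j
      fin_cases i <;> fin_cases j
      · simp only [Fin.zero_eta, Fin.isValue, Matrix.mul_apply, Fin.sum_univ_two]
        simp
        field_simp
        ring
      · simp only [Fin.zero_eta, Fin.mk_one, Fin.isValue, Matrix.mul_apply, Fin.sum_univ_two]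
        simp
        field_simp
        linear_combination -hdet
      · simp only [Fin.zero_eta, Fin.mk_one, Fin.isValue, Matrix.mul_apply, Fin.sum_univ_two]
        simp [hc']
      · simp only [Fin.mk_one, Fin.isValue, Matrix.mul_apply, Fin.sum_univ_two]
        simp
        field_simp
        ring
    rw [e]
    exact H.mul_mem (H.mul_mem (hU _) (hL _)) (hU _)
  by_cases hc : (g : Matrix (Fin 2) (Fin 2) F) 1 0 = 0
  · have ha : (g : Matrix (Fin 2) (Fin 2) F) 0 0 ≠ 0 := by
      intro h0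
      rw [Matrix.det_fin_two, h0, hc] at hg
      simp at hg
    have h1 : lower 1 * g ∈ H := by
      apply key
      · rw [Units.val_mul, Matrix.det_mul, hg, lower_val, Matrix.det_fin_two]; simp
      · rw [Units.val_mul, lower_val, Matrix.mul_apply, Fin.sum_univ_two]
        simpa [hc] using ha
    have h2 : g = (lower 1)⁻¹ * (lower 1 * g) := by group
    rw [h2]
    exact H.mul_mem (H.inv_mem (hL 1)) h1
  · exact key g hg hc

end Field

section ZModP

variable {p : ℕ} [Fact p.Prime]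


variable (E : Subring (Matrix (Fin 2) (Fin 2) (ZMod p))) (hE : IsField E) (hcard : Nat.card E = p ^ 2)

include hE in
/-- the action map of a field of matrices on a nonzero vector is injective -/
theorem mulVec_injective {v : Fin 2 → ZMod p} (hv : v ≠ 0) :
    Function.Injective fun e : E => (e : Matrix (Fin 2) (Fin 2) (ZMod p)).mulVec v := by
  intro e₁ e₂ h
  by_contra hne
  have hd : e₁ - e₂ ≠ 0 := sub_ne_zero.2 hne
  obtain ⟨d', hd'⟩ := hE.mul_inv_cancel hd
  have h1 : ((e₁ - e₂ : E) : Matrix (Fin 2) (Fin 2) (ZMod p)).mulVec v = 0 := by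
    have h' : (e₁ : Matrix (Fin 2) (Fin 2) (ZMod p)).mulVec v = (e₂ : Matrix (Fin 2) (Fin 2) (ZMod p)).mulVec v := h
    rw [AddSubgroupClass.coe_sub, Matrix.sub_mulVec, h', sub_self]
  have h2 : ((d' * (e₁ - e₂) : E) : Matrix (Fin 2) (Fin 2) (ZMod p)).mulVec v = v := by
    rw [hE.mul_comm, hd', Subring.coe_one, Matrix.one_mulVec]
  rw [Subring.coe_mul, ← Matrix.mulVec_mulVec, h1, Matrix.mulVec_zero] at h2
  exact hv h2.symm

include hE hcard in
/-- a field of matrices with `p²` elements acts simply transitively on nonzero vectors -/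
theorem mulVec_bijective {v : Fin 2 → ZMod p} (hv : v ≠ 0) :
    Function.Bijective fun e : E => (e : Matrix (Fin 2) (Fin 2) (ZMod p)).mulVec v := by
  apply (mulVec_injective E hE hv).bijective_of_nat_card_le
  rw [hcard, Nat.card_eq_fintype_card, Fintype.card_fun, ZMod.card, Fintype.card_fin]

include hE hcard in
theorem exists_mulVec_eq {v₁ : Fin 2 → ZMod p} (hv₁ : v₁ ≠ 0) (v₂ : Fin 2 → ZMod p) :
    ∃ e : E, (e : Matrix (Fin 2) (Fin 2) (ZMod p)).mulVec v₁ = v₂ :=
  (mulVec_bijective E hE hcard hv₁).2 v₂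

end ZModP

section Cartan

variable {p : ℕ} [Fact p.Prime]


variable (E : Subring (Matrix (Fin 2) (Fin 2) (ZMod p))) (hE : IsField E) (hcard : Nat.card E = p ^ 2)
  (H C : Subgroup (GL (Fin 2) (ZMod p)))
  (hEC : (E : Set (Matrix (Fin 2) (Fin 2) (ZMod p))) = insert 0 ((fun g : GL (Fin 2) (ZMod p) => (g : Matrix (Fin 2) (Fin 2) (ZMod p))) '' (C : Set (GL (Fin 2) (ZMod p)))))
  (hCH : C ≤ H)

include hE hcard hEC in
/-- the Cartan subgroup acts transitively on nonzero vectors -/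
theorem exists_mem_C_mulVec_eq {v₁ v₂ : Fin 2 → ZMod p} (hv₁ : v₁ ≠ 0) (hv₂ : v₂ ≠ 0) :
    ∃ c ∈ C, (c : Matrix (Fin 2) (Fin 2) (ZMod p)).mulVec v₁ = v₂ := by
  obtain ⟨e, he⟩ := exists_mulVec_eq E hE hcard hv₁ v₂
  have hmem : (e : Matrix (Fin 2) (Fin 2) (ZMod p)) ∈ (E : Set (Matrix (Fin 2) (Fin 2) (ZMod p))) := e.2
  rw [hEC] at hmem
  rcases hmem with h0 | ⟨c, hc, hce⟩
  · exfalso
    rw [h0, Matrix.zero_mulVec] at he
    exact hv₂ he.symm
  · exact ⟨c, hc, by rw [← he, ← hce]⟩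

include hE hcard hEC hCH in
/-- a transvection in `H` with prescribed fixed vector -/
theorem exists_transvection (hp : p ∣ Nat.card H) {t : Fin 2 → ZMod p} (ht : t ≠ 0) :
    ∃ u ∈ H, ((u : Matrix (Fin 2) (Fin 2) (ZMod p)) - 1) * ((u : Matrix (Fin 2) (Fin 2) (ZMod p)) - 1) = 0 ∧ (u : Matrix (Fin 2) (Fin 2) (ZMod p)) - 1 ≠ 0 ∧
      ((u : Matrix (Fin 2) (Fin 2) (ZMod p)) - 1).mulVec t = 0 := by
  obtain ⟨x, hx⟩ := exists_prime_orderOf_dvd_card' p hp
  set u₀ : GL (Fin 2) (ZMod p) := (x : GL (Fin 2) (ZMod p)) with hu₀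
  set N : Matrix (Fin 2) (Fin 2) (ZMod p) := (u₀ : Matrix (Fin 2) (Fin 2) (ZMod p)) - 1 with hN
  have hu₀p : (u₀ : Matrix (Fin 2) (Fin 2) (ZMod p)) ^ p = 1 := by
    have h1 : x ^ p = 1 := by
      have := pow_orderOf_eq_one x
      rwa [hx] at this
    have h2 : u₀ ^ p = 1 := by
      rw [hu₀, ← Subgroup.coe_pow, h1, Subgroup.coe_one]
    rw [← Units.val_pow_eq_pow_val, h2, Units.val_one]
  have hNp : N ^ p = 0 := by
    rw [hN, sub_pow_char_of_commute _ (Commute.one_right _), hu₀p, one_pow, sub_self]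
  have hN0 : N ≠ 0 := by
    intro h0
    have h1 : (u₀ : Matrix (Fin 2) (Fin 2) (ZMod p)) = 1 := sub_eq_zero.1 h0
    have h2 : u₀ = 1 := Units.ext h1
    have h3 : x = 1 := Subtype.ext h2
    rw [h3, orderOf_one] at hx
    exact (Fact.out : p.Prime).one_lt.ne hx
  have hNN : N * N = 0 := sq_eq_zero_of_isNilpotent ⟨p, hNp⟩
  obtain ⟨v, hv⟩ : ∃ v : Fin 2 → ZMod p, N.mulVec v ≠ 0 := by
    by_contra hall
    push Not at hall
    apply hN0
    ext i j
    have := congrFun (hall (Pi.single j 1)) i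
    simpa using this
  set w := N.mulVec v with hw
  have hNw : N.mulVec w = 0 := by
    rw [hw, Matrix.mulVec_mulVec, hNN, Matrix.zero_mulVec]
  obtain ⟨c, hcC, hcw⟩ := exists_mem_C_mulVec_eq E hE hcard C hEC hv ht
  have hcinv : ((c⁻¹ : GL (Fin 2) (ZMod p)) : Matrix (Fin 2) (Fin 2) (ZMod p)) * (c : Matrix (Fin 2) (Fin 2) (ZMod p)) = 1 := by
    rw [← Units.val_mul, inv_mul_cancel, Units.val_one]
  have hcinv' : (c : Matrix (Fin 2) (Fin 2) (ZMod p)) * ((c⁻¹ : GL (Fin 2) (ZMod p)) : Matrix (Fin 2) (Fin 2) (ZMod p)) = 1 := by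
    rw [← Units.val_mul, mul_inv_cancel, Units.val_one]
  have hconj : ((c * u₀ * c⁻¹ : GL (Fin 2) (ZMod p)) : Matrix (Fin 2) (Fin 2) (ZMod p)) - 1 = (c : Matrix (Fin 2) (Fin 2) (ZMod p)) * N * ((c⁻¹ : GL (Fin 2) (ZMod p)) : Matrix (Fin 2) (Fin 2) (ZMod p)) := by
    rw [Units.val_mul, Units.val_mul, hN, mul_sub, sub_mul, mul_one, hcinv']
  refine ⟨c * u₀ * c⁻¹, H.mul_mem (H.mul_mem (hCH hcC) x.2) (H.inv_mem (hCH hcC)), ?_, ?_, ?_⟩
  · rw [hconj]
    calc (c : Matrix (Fin 2) (Fin 2) (ZMod p)) * N * ((c⁻¹ : GL (Fin 2) (ZMod p)) : Matrix (Fin 2) (Fin 2) (ZMod p)) * ((c : Matrix (Fin 2) (Fin 2) (ZMod p)) * N * ((c⁻¹ : GL (Fin 2) (ZMod p)) : Matrix (Fin 2) (Fin 2) (ZMod p)))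
        = (c : Matrix (Fin 2) (Fin 2) (ZMod p)) * N * (((c⁻¹ : GL (Fin 2) (ZMod p)) : Matrix (Fin 2) (Fin 2) (ZMod p)) * (c : Matrix (Fin 2) (Fin 2) (ZMod p))) * N * ((c⁻¹ : GL (Fin 2) (ZMod p)) : Matrix (Fin 2) (Fin 2) (ZMod p)) := by
          simp only [mul_assoc]
      _ = 0 := by rw [hcinv, mul_one, mul_assoc (c : Matrix (Fin 2) (Fin 2) (ZMod p)), hNN, mul_zero, zero_mul]
  · rw [hconj]
    intro h0
    apply hN0
    have : N = ((c⁻¹ : GL (Fin 2) (ZMod p)) : Matrix (Fin 2) (Fin 2) (ZMod p)) * ((c : Matrix (Fin 2) (Fin 2) (ZMod p)) * N * ((c⁻¹ : GL (Fin 2) (ZMod p)) : Matrix (Fin 2) (Fin 2) (ZMod p))) * (c : Matrix (Fin 2) (Fin 2) (ZMod p)) := by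
      simp only [mul_assoc]
      rw [hcinv, mul_one, ← mul_assoc, hcinv, one_mul]
    rw [this, h0, mul_zero, zero_mul]
  · rw [hconj, ← hcw, Matrix.mulVec_mulVec, mul_assoc, mul_assoc, hcinv, mul_one,
      ← Matrix.mulVec_mulVec, hNw, Matrix.mulVec_zero]

/-- a transvection fixing `e₀` gives all upper unipotents -/
theorem upper_mem_of (H : Subgroup (GL (Fin 2) (ZMod p))) (u : GL (Fin 2) (ZMod p)) (hu : u ∈ H)
    (hNN : ((u : Matrix (Fin 2) (Fin 2) (ZMod p)) - 1) * ((u : Matrix (Fin 2) (Fin 2) (ZMod p)) - 1) = 0)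
    (hN0 : (u : Matrix (Fin 2) (Fin 2) (ZMod p)) - 1 ≠ 0)
    (hNt : ((u : Matrix (Fin 2) (Fin 2) (ZMod p)) - 1).mulVec (Pi.single 0 1) = 0) (a : ZMod p) :
    upper a ∈ H := by
  set N : Matrix (Fin 2) (Fin 2) (ZMod p) := (u : Matrix (Fin 2) (Fin 2) (ZMod p)) - 1 with hN
  have h00 : N 0 0 = 0 := by
    have := congrFun hNt 0
    simpa [Matrix.mulVec, dotProduct, Fin.sum_univ_two] using this
  have h10 : N 1 0 = 0 := by
    have := congrFun hNt 1
    simpa [Matrix.mulVec, dotProduct, Fin.sum_univ_two] using this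
  have h11 : N 1 1 = 0 := by
    have := congrFun (congrFun hNN 1) 1
    rw [Matrix.mul_apply, Fin.sum_univ_two, h10] at this
    simpa using this
  have hx : N 0 1 ≠ 0 := by
    intro h01
    apply hN0
    ext i j
    fin_cases i <;> fin_cases j <;> simp [h00, h01, h10, h11]
  set x := N 0 1 with hxdef
  have hu1 : (u : Matrix (Fin 2) (Fin 2) (ZMod p)) = 1 + N := by rw [hN]; abel
  have hpow : ((u ^ (a / x).val : GL (Fin 2) (ZMod p)) : Matrix (Fin 2) (Fin 2) (ZMod p)) =
      1 + (a / x) • N := by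
    rw [Units.val_pow_eq_pow_val, hu1, one_add_pow_of_sq_zero hNN, ZMod.natCast_zmod_val]
  have : upper a = u ^ (a / x).val := by
    apply Units.ext
    rw [hpow, upper_val]
    ext i j
    fin_cases i <;> fin_cases j
    · simp [h00]
    · have hax : a / x * x = a := div_mul_cancel₀ _ hx
      show a = (1 + (a / x) • N) 0 1
      rw [Matrix.add_apply, Matrix.smul_apply, smul_eq_mul, Matrix.one_apply_ne (by decide),
        zero_add]
      exact hax.symm
    · simp [h10]
    · simp [h11]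
  rw [this]
  exact H.pow_mem hu _

/-- a transvection fixing `e₁` gives all lower unipotents -/
theorem lower_mem_of (H : Subgroup (GL (Fin 2) (ZMod p))) (u : GL (Fin 2) (ZMod p)) (hu : u ∈ H)
    (hNN : ((u : Matrix (Fin 2) (Fin 2) (ZMod p)) - 1) * ((u : Matrix (Fin 2) (Fin 2) (ZMod p)) - 1) = 0)
    (hN0 : (u : Matrix (Fin 2) (Fin 2) (ZMod p)) - 1 ≠ 0)
    (hNt : ((u : Matrix (Fin 2) (Fin 2) (ZMod p)) - 1).mulVec (Pi.single 1 1) = 0) (a : ZMod p) :
    lower a ∈ H := by
  set N : Matrix (Fin 2) (Fin 2) (ZMod p) := (u : Matrix (Fin 2) (Fin 2) (ZMod p)) - 1 with hN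
  have h01 : N 0 1 = 0 := by
    have := congrFun hNt 0
    simpa [Matrix.mulVec, dotProduct, Fin.sum_univ_two] using this
  have h11 : N 1 1 = 0 := by
    have := congrFun hNt 1
    simpa [Matrix.mulVec, dotProduct, Fin.sum_univ_two] using this
  have h00 : N 0 0 = 0 := by
    have := congrFun (congrFun hNN 0) 0
    rw [Matrix.mul_apply, Fin.sum_univ_two, h01] at this
    simpa using this
  have hx : N 1 0 ≠ 0 := by
    intro h10
    apply hN0
    ext i j
    fin_cases i <;> fin_cases j <;> simp [h00, h01, h10, h11]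
  set x := N 1 0 with hxdef
  have hu1 : (u : Matrix (Fin 2) (Fin 2) (ZMod p)) = 1 + N := by rw [hN]; abel
  have hpow : ((u ^ (a / x).val : GL (Fin 2) (ZMod p)) : Matrix (Fin 2) (Fin 2) (ZMod p)) =
      1 + (a / x) • N := by
    rw [Units.val_pow_eq_pow_val, hu1, one_add_pow_of_sq_zero hNN, ZMod.natCast_zmod_val]
  have : lower a = u ^ (a / x).val := by
    apply Units.ext
    rw [hpow, lower_val]
    ext i j
    fin_cases i <;> fin_cases j
    · simp [h00]
    · simp [h01]
    · have hax : a / x * x = a := div_mul_cancel₀ _ hx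
      show a = (1 + (a / x) • N) 1 0
      rw [Matrix.add_apply, Matrix.smul_apply, smul_eq_mul, Matrix.one_apply_ne (by decide),
        zero_add]
      exact hax.symm
    · simp [h11]
  rw [this]
  exact H.pow_mem hu _

include hE hcard hEC hCH in
/-- `SL₂ ≤ H` -/
theorem mem_of_det_eq_one' (hp : p ∣ Nat.card H) (g : GL (Fin 2) (ZMod p))
    (hg : (g : Matrix (Fin 2) (Fin 2) (ZMod p)).det = 1) : g ∈ H := by
  have h0 : (Pi.single 0 1 : Fin 2 → ZMod p) ≠ 0 := by
    intro h; have := congrFun h 0; simp at this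
  have h1 : (Pi.single 1 1 : Fin 2 → ZMod p) ≠ 0 := by
    intro h; have := congrFun h 1; simp at this
  obtain ⟨u, hu, hNN, hN0, hNt⟩ := exists_transvection E hE hcard H C hEC hCH hp h0
  obtain ⟨u', hu', hNN', hN0', hNt'⟩ := exists_transvection E hE hcard H C hEC hCH hp h1
  exact mem_of_det_eq_one H (upper_mem_of H u hu hNN hN0 hNt) (lower_mem_of H u' hu' hNN' hN0' hNt')
    g hg

end Cartan

section Norm

variable {p : ℕ} [Fact p.Prime]

/-- the determinant is surjective on a quadratic field inside `M₂(𝔽_p)` -/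
theorem exists_det_eq_of_algHom {L : Type*} [Field L] [Algebra (ZMod p) L]
    (f : L →ₐ[ZMod p] Matrix (Fin 2) (Fin 2) (ZMod p)) (hcard : Nat.card L = p ^ 2) (d : ZMod p) :
    ∃ x : L, (f x).det = d := by
  haveI : Finite L := Nat.finite_of_card_ne_zero (by
    rw [hcard]; exact pow_ne_zero 2 (Fact.out : p.Prime).ne_zero)
  obtain ⟨e, he⟩ := FiniteField.norm_surjective (ZMod p) L d
  refine ⟨e, ?_⟩
  rw [← he]
  have hv₀ : (Pi.single 0 1 : Fin 2 → ZMod p) ≠ 0 := by
    intro h; have := congrFun h 0; simp at this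
  let φ₀ : L →ₗ[ZMod p] (Fin 2 → ZMod p) :=
    { toFun := fun e => (f e).mulVec (Pi.single 0 1)
      map_add' := fun x y => by rw [map_add, Matrix.add_mulVec]
      map_smul' := fun a x => by rw [map_smul, Matrix.smul_mulVec]; rfl }
  have hinj : Function.Injective φ₀ := by
    rw [← LinearMap.ker_eq_bot, LinearMap.ker_eq_bot']
    intro x hx
    by_contra hx0
    have h1 : (f x⁻¹ * f x).mulVec (Pi.single 0 1) = (Pi.single 0 1 : Fin 2 → ZMod p) := by
      rw [← map_mul, inv_mul_cancel₀ hx0, map_one, Matrix.one_mulVec]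
    have hx' : (f x).mulVec (Pi.single 0 1) = 0 := hx
    rw [← Matrix.mulVec_mulVec, hx', Matrix.mulVec_zero] at h1
    exact hv₀ h1.symm
  have hbij : Function.Bijective φ₀ := by
    apply hinj.bijective_of_nat_card_le
    rw [hcard, Nat.card_eq_fintype_card, Fintype.card_fun, ZMod.card, Fintype.card_fin]
  let φ : L ≃ₗ[ZMod p] (Fin 2 → ZMod p) := LinearEquiv.ofBijective φ₀ hbij
  have hφ : ∀ x : L, φ x = (f x).mulVec (Pi.single 0 1) := fun x => rfl
  have hconj : (φ : L →ₗ[ZMod p] (Fin 2 → ZMod p)) ∘ₗ (LinearMap.mulLeft (ZMod p) e) ∘ₗ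
      (φ.symm : (Fin 2 → ZMod p) →ₗ[ZMod p] L) = Matrix.toLin' (f e) := by
    apply LinearMap.ext
    intro w
    obtain ⟨x, rfl⟩ := φ.surjective w
    simp only [LinearMap.coe_comp, LinearEquiv.coe_coe, Function.comp_apply,
      LinearEquiv.symm_apply_apply, LinearMap.mulLeft_apply, Matrix.toLin'_apply]
    rw [hφ, hφ, map_mul, Matrix.mulVec_mulVec]
  have hlmul : Algebra.lmul (ZMod p) L e = LinearMap.mulLeft (ZMod p) e := rfl
  rw [Algebra.norm_apply, hlmul, ← LinearMap.det_conj _ φ, hconj, LinearMap.det_toLin']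

variable (E : Subring (Matrix (Fin 2) (Fin 2) (ZMod p))) (hE : IsField E)
  (hcard : Nat.card E = p ^ 2)

theorem algebraMap_mem (a : ZMod p) :
    algebraMap (ZMod p) (Matrix (Fin 2) (Fin 2) (ZMod p)) a ∈ E := by
  rw [← ZMod.natCast_zmod_val a, map_natCast]
  exact natCast_mem E _

include hE hcard in
theorem exists_det_eq (d : ZMod p) : ∃ e : E, (e : Matrix (Fin 2) (Fin 2) (ZMod p)).det = d := by
  letI : Field E := hE.toField
  letI : Algebra (ZMod p) E :=
    ((algebraMap (ZMod p) (Matrix (Fin 2) (Fin 2) (ZMod p))).codRestrict E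
      (algebraMap_mem E)).toAlgebra
  let f : E →ₐ[ZMod p] Matrix (Fin 2) (Fin 2) (ZMod p) :=
    { E.subtype with commutes' := fun a => rfl }
  obtain ⟨x, hx⟩ := exists_det_eq_of_algHom f hcard d
  exact ⟨x, hx⟩
end Norm

section Main

variable {p : ℕ} [Fact p.Prime]

/-- Serre's lemma, the hard direction -/
theorem eq_top_of_cartan (H C : Subgroup (GL (Fin 2) (ZMod p)))
    (E : Subring (Matrix (Fin 2) (Fin 2) (ZMod p))) (hCH : C ≤ H) (hE : IsField E)
    (hcard : Nat.card E = p ^ 2)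
    (hEC : (E : Set (Matrix (Fin 2) (Fin 2) (ZMod p))) =
      insert 0 ((fun g : GL (Fin 2) (ZMod p) => (g : Matrix (Fin 2) (Fin 2) (ZMod p))) ''
        (C : Set (GL (Fin 2) (ZMod p)))))
    (hp : p ∣ Nat.card H) : H = ⊤ := by
  rw [eq_top_iff]
  intro g _
  obtain ⟨e, he⟩ := exists_det_eq E hE hcard (g : Matrix (Fin 2) (Fin 2) (ZMod p)).det
  have hmem : (e : Matrix (Fin 2) (Fin 2) (ZMod p)) ∈
      (E : Set (Matrix (Fin 2) (Fin 2) (ZMod p))) := e.2
  rw [hEC] at hmem
  have hgdet : (g : Matrix (Fin 2) (Fin 2) (ZMod p)).det ≠ 0 := by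
    have := (Matrix.isUnit_iff_isUnit_det _).1 g.isUnit
    exact this.ne_zero
  rcases hmem with h0 | ⟨c, hc, hce⟩
  · exfalso
    rw [h0, Matrix.det_zero] at he
    exact hgdet he.symm
  · have hce' : (c : Matrix (Fin 2) (Fin 2) (ZMod p)) = (e : Matrix (Fin 2) (Fin 2) (ZMod p)) := hce
    have hdet1 : ((g * c⁻¹ : GL (Fin 2) (ZMod p)) : Matrix (Fin 2) (Fin 2) (ZMod p)).det = 1 := by
      have h1 : ((g * c⁻¹ : GL (Fin 2) (ZMod p)) : Matrix (Fin 2) (Fin 2) (ZMod p)).det *
          (c : Matrix (Fin 2) (Fin 2) (ZMod p)).det =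
          (g : Matrix (Fin 2) (Fin 2) (ZMod p)).det := by
        rw [← Matrix.det_mul, ← Units.val_mul, inv_mul_cancel_right]
      rw [hce', he] at h1
      exact mul_right_cancel₀ hgdet (by rw [h1, one_mul])
    have h2 : g * c⁻¹ ∈ H := mem_of_det_eq_one' E hE hcard H C hEC hCH hp _ hdet1
    have h3 : g = g * c⁻¹ * c := by group
    rw [h3]
    exact H.mul_mem h2 (hCH hc)

end Main

section Converse

variable (p : ℕ) [Fact p.Prime]

/-- existence of a non-split Cartan subgroup -/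
theorem exists_cartan : ∃ (C : Subgroup (GL (Fin 2) (ZMod p)))
    (E : Subring (Matrix (Fin 2) (Fin 2) (ZMod p))),
    IsField E ∧ Nat.card E = p ^ 2 ∧
      (E : Set (Matrix (Fin 2) (Fin 2) (ZMod p))) =
        insert 0 ((fun g : GL (Fin 2) (ZMod p) => (g : Matrix (Fin 2) (Fin 2) (ZMod p))) ''
          (C : Set (GL (Fin 2) (ZMod p)))) := by
  have hfr : Module.finrank (ZMod p) (GaloisField p 2) = 2 := GaloisField.finrank p (by norm_num)
  haveI : Module.Finite (ZMod p) (GaloisField p 2) := Module.finite_of_finrank_eq_succ hfr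
  let b : Module.Basis (Fin 2) (ZMod p) (GaloisField p 2) :=
    Module.finBasisOfFinrankEq (ZMod p) (GaloisField p 2) hfr
  let f : GaloisField p 2 →+* Matrix (Fin 2) (Fin 2) (ZMod p) :=
    (Algebra.leftMulMatrix b).toRingHom
  have hf : Function.Injective f := Algebra.leftMulMatrix_injective b
  let e : GaloisField p 2 ≃+* f.range :=
    RingEquiv.ofBijective f.rangeRestrict
      ⟨fun x y h => hf (by simpa using congrArg Subtype.val h), f.rangeRestrict_surjective⟩
  have hinv : ∀ x : GaloisField p 2, x ≠ 0 → f x⁻¹ * f x = 1 := by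
    intro x hx
    rw [← map_mul, inv_mul_cancel₀ hx, map_one]
  have hinv' : ∀ x : GaloisField p 2, x ≠ 0 → f x * f x⁻¹ = 1 := by
    intro x hx
    rw [← map_mul, mul_inv_cancel₀ hx, map_one]
  let C : Subgroup (GL (Fin 2) (ZMod p)) :=
    { carrier := {g | (g : Matrix (Fin 2) (Fin 2) (ZMod p)) ∈ f.range}
      mul_mem' := fun {a b} ha hb => by
        show ((a * b : GL (Fin 2) (ZMod p)) : Matrix (Fin 2) (Fin 2) (ZMod p)) ∈ f.range
        rw [Units.val_mul]
        exact f.range.mul_mem ha hb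
      one_mem' := by
        show ((1 : GL (Fin 2) (ZMod p)) : Matrix (Fin 2) (Fin 2) (ZMod p)) ∈ f.range
        rw [Units.val_one]
        exact f.range.one_mem
      inv_mem' := fun {g} hg => by
        show ((g⁻¹ : GL (Fin 2) (ZMod p)) : Matrix (Fin 2) (Fin 2) (ZMod p)) ∈ f.range
        obtain ⟨x, hx⟩ := hg
        have hx0 : x ≠ 0 := by
          rintro rfl
          rw [map_zero] at hx
          exact g.ne_zero hx.symm
        have : ((g⁻¹ : GL (Fin 2) (ZMod p)) : Matrix (Fin 2) (Fin 2) (ZMod p)) = f x⁻¹ :=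
          Units.inv_eq_of_mul_eq_one_left (by rw [← hx]; exact hinv x hx0)
        rw [this]
        exact ⟨_, rfl⟩ }
  refine ⟨C, f.range, ?_, ?_, ?_⟩
  · exact MulEquiv.isField (Field.toIsField (GaloisField p 2)) e.symm.toMulEquiv
  · rw [Nat.card_congr e.symm.toEquiv, GaloisField.card p 2 (by norm_num)]
  · ext M
    constructor
    · rintro ⟨x, rfl⟩
      by_cases hx : x = 0
      · left; rw [hx, map_zero]
      · right
        exact ⟨⟨f x, f x⁻¹, hinv' x hx, hinv x hx⟩, ⟨x, rfl⟩, rfl⟩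
    · rintro (h0 | ⟨c, hc, rfl⟩)
      · rw [h0]; exact f.range.zero_mem
      · exact hc

/-- `p` divides the order of `GL₂(𝔽_p)` -/
theorem dvd_card_GL : p ∣ Nat.card (GL (Fin 2) (ZMod p)) := by
  have hN : (!![0, 1; 0, 0] : Matrix (Fin 2) (Fin 2) (ZMod p)) * !![0, 1; 0, 0] = 0 := by
    ext i j; fin_cases i <;> fin_cases j <;> simp
  have hu : ((upper 1 : GL (Fin 2) (ZMod p)) : Matrix (Fin 2) (Fin 2) (ZMod p)) =
      1 + !![0, 1; 0, 0] := by
    rw [upper_val]
    ext i j; fin_cases i <;> fin_cases j <;> simp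
  have h1 : (upper 1 : GL (Fin 2) (ZMod p)) ^ p = 1 := by
    apply Units.ext
    rw [Units.val_pow_eq_pow_val, hu, one_add_pow_of_sq_zero hN, ZMod.natCast_self, zero_smul,
      add_zero, Units.val_one]
  have h2 : (upper 1 : GL (Fin 2) (ZMod p)) ≠ 1 := by
    intro h
    have := congrArg (fun g : GL (Fin 2) (ZMod p) => (g : Matrix (Fin 2) (Fin 2) (ZMod p)) 0 1) h
    simp at this
  have h3 := orderOf_dvd_natCard (upper 1 : GL (Fin 2) (ZMod p))
  rwa [orderOf_eq_prime h1 h2] at h3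

end Converse

end Groth.Agent.Lib.GL2Serre
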