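import Mathlib

/-!
# Finite subgroups of `GL₂(ℤ)`: fixed vectors
-/

set_option autoImplicit false

namespace Groth.Agent.Lib.GL2Z

open Matrix

/-- A `2 × 2` integer matrix of determinant one and finite order with a nonzero fixed vector is
the identity. -/
theorem eq_one_of_det_one_of_fixed (A : Matrix (Fin 2) (Fin 2) ℤ) (hdet : A.det = 1)
    (hfix : ∃ v : Fin 2 → ℤ, v ≠ 0 ∧ A *ᵥ v = v) (n : ℕ) (hn : 0 < n) (hpow : A ^ n = 1) :
    A = 1 := by
  have hdet1 : (A - 1).det = 0 := by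
    obtain ⟨v, hv, hAv⟩ := hfix
    apply Matrix.exists_mulVec_eq_zero_iff.mp
    exact ⟨v, hv, by rw [Matrix.sub_mulVec, hAv, Matrix.one_mulVec, sub_self]⟩
  rw [Matrix.det_fin_two] at hdet hdet1
  simp only [Matrix.sub_apply, Matrix.one_apply_eq, ne_eq, zero_ne_one, not_false_eq_true,
    Matrix.one_apply_ne, sub_zero, one_ne_zero] at hdet1
  have htr : A 0 0 + A 1 1 = 2 := by linarith
  have hsq : (A - 1) * (A - 1) = 0 := by
    ext i j
    fin_cases i <;> fin_cases j
    · simp only [Fin.zero_eta, Fin.isValue, Matrix.mul_apply, Fin.sum_univ_two, Matrix.sub_apply,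
        Matrix.one_apply_eq, ne_eq, zero_ne_one, not_false_eq_true, Matrix.one_apply_ne, sub_zero,
        one_ne_zero, Matrix.zero_apply]
      linear_combination (-1) * hdet1 + (A 0 0 - 1) * htr
    · simp only [Fin.zero_eta, Fin.isValue, Fin.mk_one, Matrix.mul_apply, Fin.sum_univ_two,
        Matrix.sub_apply, Matrix.one_apply_eq, ne_eq, zero_ne_one, not_false_eq_true,
        Matrix.one_apply_ne, sub_zero, one_ne_zero, Matrix.zero_apply]
      linear_combination (A 0 1) * htr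
    · simp only [Fin.zero_eta, Fin.isValue, Fin.mk_one, Matrix.mul_apply, Fin.sum_univ_two,
        Matrix.sub_apply, Matrix.one_apply_eq, ne_eq, zero_ne_one, not_false_eq_true,
        Matrix.one_apply_ne, sub_zero, one_ne_zero, Matrix.zero_apply]
      linear_combination (A 1 0) * htr
    · simp only [Fin.isValue, Fin.mk_one, Matrix.mul_apply, Fin.sum_univ_two, Matrix.sub_apply,
        Matrix.one_apply_eq, ne_eq, zero_ne_one, not_false_eq_true, Matrix.one_apply_ne, sub_zero,
        one_ne_zero, Matrix.zero_apply]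
      linear_combination (-1) * hdet1 + (A 1 1 - 1) * htr
  have hmul : (A - 1) * A = A - 1 := by
    have h1 : (A - 1) * A = (A - 1) * (A - 1) + (A - 1) := by noncomm_ring
    rw [h1, hsq, zero_add]
  have hpow' : ∀ m : ℕ, A ^ m = 1 + m • (A - 1) := by
    intro m
    induction m with
    | zero => simp
    | succ m ih =>
      rw [pow_succ, ih, add_mul, one_mul, smul_mul_assoc, hmul, succ_nsmul]
      abel
  have h := hpow' n
  rw [hpow] at h
  have h0 : n • (A - 1) = 0 := by
    have : (1 : Matrix (Fin 2) (Fin 2) ℤ) + n • (A - 1) = 1 + 0 := by rw [← h, add_zero]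
    exact add_left_cancel this
  have h1 : A - 1 = 0 := by
    ext i j
    have := congrFun (congrFun h0 i) j
    simp only [Matrix.smul_apply, Matrix.zero_apply, nsmul_eq_mul] at this
    rcases mul_eq_zero.mp this with h' | h'
    · exact absurd (by exact_mod_cast h') hn.ne'
    · exact h'
  exact sub_eq_zero.mp h1

/-- The determinant of an element of `GL₂(ℤ)` is `±1`. -/
theorem det_eq_one_or (γ : Matrix.GeneralLinearGroup (Fin 2) ℤ) :
    (γ : Matrix (Fin 2) (Fin 2) ℤ).det = 1 ∨ (γ : Matrix (Fin 2) (Fin 2) ℤ).det = -1 := by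
  have h : IsUnit (γ : Matrix (Fin 2) (Fin 2) ℤ).det := by
    rw [← Matrix.isUnit_iff_isUnit_det]
    exact γ.isUnit
  exact Int.isUnit_iff.mp h

/-- **Common fixed vector**: a finite subgroup of `GL₂(ℤ)` all of whose elements have a nonzero
fixed vector has a common nonzero fixed vector. -/
theorem exists_common_fixed (Γ : Subgroup (Matrix.GeneralLinearGroup (Fin 2) ℤ)) [Finite Γ]
    (h : ∀ γ ∈ Γ, ∃ v : Fin 2 → ℤ, v ≠ 0 ∧ (γ : Matrix (Fin 2) (Fin 2) ℤ) *ᵥ v = v) :
    ∃ v : Fin 2 → ℤ, v ≠ 0 ∧ ∀ γ ∈ Γ, (γ : Matrix (Fin 2) (Fin 2) ℤ) *ᵥ v = v := by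
  -- finite order
  have hfin : ∀ γ ∈ Γ, ∃ n : ℕ, 0 < n ∧ (γ : Matrix (Fin 2) (Fin 2) ℤ) ^ n = 1 := by
    intro γ hγ
    obtain ⟨n, hn, hpow⟩ := isOfFinOrder_iff_pow_eq_one.mp (isOfFinOrder_of_finite (⟨γ, hγ⟩ : Γ))
    refine ⟨n, hn, ?_⟩
    have : γ ^ n = 1 := by
      have := congrArg (Subtype.val) hpow
      simpa using this
    have := congrArg (fun g : Matrix.GeneralLinearGroup (Fin 2) ℤ =>
      (g : Matrix (Fin 2) (Fin 2) ℤ)) this
    simpa using this
  -- elements of determinant one are trivial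
  have hone : ∀ γ ∈ Γ, (γ : Matrix (Fin 2) (Fin 2) ℤ).det = 1 → γ = 1 := by
    intro γ hγ hdet
    obtain ⟨n, hn, hpow⟩ := hfin γ hγ
    have := eq_one_of_det_one_of_fixed _ hdet (h γ hγ) n hn hpow
    exact Units.ext this
  by_cases hex : ∃ γ ∈ Γ, (γ : Matrix (Fin 2) (Fin 2) ℤ).det = -1
  · obtain ⟨γ, hγ, hdet⟩ := hex
    obtain ⟨v, hv, hγv⟩ := h γ hγ
    refine ⟨v, hv, fun γ' hγ' => ?_⟩
    rcases det_eq_one_or γ' with h1 | h1
    · rw [hone γ' hγ' h1]; simp
    · -- γ' * γ has determinant one hence is trivial; γ * γ too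
      have h2 : γ' * γ = 1 := hone _ (Γ.mul_mem hγ' hγ) (by
        simp [Matrix.det_mul, h1, hdet])
      have h3 : γ * γ = 1 := hone _ (Γ.mul_mem hγ hγ) (by
        simp [Matrix.det_mul, hdet])
      have : γ' = γ := by
        have e1 : γ' = γ⁻¹ := eq_inv_of_mul_eq_one_left h2
        have e2 : γ = γ⁻¹ := eq_inv_of_mul_eq_one_left h3
        rw [e1, ← e2]
      rw [this]; exact hγv
  · push Not at hex
    refine ⟨![1, 0], by simp, fun γ hγ => ?_⟩
    have h1 : (γ : Matrix (Fin 2) (Fin 2) ℤ).det = 1 :=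
      (det_eq_one_or γ).resolve_right (hex γ hγ)
    rw [hone γ hγ h1]; simp

end Groth.Agent.Lib.GL2Z
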