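import Mathlib
import Groth.Agent.Lib.GL2Z

/-!
# Finite subgroups of `GL₂(ℤ)`: trace bound and fixed vectors modulo `d`
-/

set_option autoImplicit false

namespace Groth.Agent.Lib.GL2Z

open Matrix

/-- A finite-order `2 × 2` integer matrix of determinant `±1` has trace of absolute value at most
two. -/
theorem abs_trace_le_two (A : Matrix (Fin 2) (Fin 2) ℤ) (hdet : A.det = 1 ∨ A.det = -1)
    (n : ℕ) (hn : 0 < n) (hpow : A ^ n = 1) : |A.trace| ≤ 2 := by
  by_contra hlt
  rw [not_le] at hlt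
  have hCH : A * A = A.trace • A - A.det • (1 : Matrix (Fin 2) (Fin 2) ℤ) := by
    ext i j
    fin_cases i <;> fin_cases j <;>
      simp only [Fin.zero_eta, Fin.mk_one, Fin.isValue, Matrix.mul_apply, Fin.sum_univ_two,
        Matrix.sub_apply, Matrix.smul_apply, Matrix.one_apply_eq, Matrix.one_apply_ne, ne_eq,
        zero_ne_one, one_ne_zero, not_false_eq_true, smul_eq_mul, Matrix.trace_fin_two,
        Matrix.det_fin_two, mul_one, mul_zero, sub_zero] <;> ring
  have hrec : ∀ m, (A ^ (m + 2)).trace =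
      A.trace * (A ^ (m + 1)).trace - A.det * (A ^ m).trace := by
    intro m
    have : A ^ (m + 2) = A.trace • A ^ (m + 1) - A.det • A ^ m := by
      rw [pow_add, pow_two, hCH, mul_sub, mul_smul_comm, mul_smul_comm, mul_one, ← pow_succ]
    rw [this, Matrix.trace_sub, Matrix.trace_smul, Matrix.trace_smul]
    simp
  have hδ : |A.det| = 1 := by rcases hdet with h | h <;> simp [h]
  have hinc : ∀ m, |(A ^ m).trace| < |(A ^ (m + 1)).trace| := by
    intro m
    induction m with
    | zero =>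
      simp only [pow_zero, zero_add, pow_one, Matrix.trace_one, Fintype.card_fin]
      simpa using hlt
    | succ m ih =>
      rw [hrec m]
      have h1 : |A.trace * (A ^ (m + 1)).trace| - |A.det * (A ^ m).trace| ≤
          |A.trace * (A ^ (m + 1)).trace - A.det * (A ^ m).trace| := abs_sub_abs_le_abs_sub _ _
      rw [abs_mul, abs_mul, hδ, one_mul] at h1
      have h2 : 0 ≤ |(A ^ m).trace| := abs_nonneg _
      have h3 : 3 ≤ |A.trace| := hlt
      nlinarith
  have hgt : ∀ m, 0 < m → 2 < |(A ^ m).trace| := by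
    intro m hm
    induction m with
    | zero => exact absurd hm (lt_irrefl 0)
    | succ m ih =>
      rcases Nat.eq_zero_or_pos m with h0 | h0
      · subst h0
        simpa using hlt
      · exact (ih h0).trans (hinc m)
  have := hgt n hn
  rw [hpow, Matrix.trace_one, Fintype.card_fin] at this
  norm_num at this

/-- For a finite-order element of `GL₂(ℤ)`, `det (γ - 1)` has absolute value at most four. -/
theorem natAbs_det_sub_one_le (A : Matrix (Fin 2) (Fin 2) ℤ) (hdet : A.det = 1 ∨ A.det = -1)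
    (n : ℕ) (hn : 0 < n) (hpow : A ^ n = 1) : (A - 1).det.natAbs ≤ 4 := by
  have htr := abs_trace_le_two A hdet n hn hpow
  have e : (A - 1).det = A.det - A.trace + 1 := by
    simp [Matrix.det_fin_two, Matrix.trace_fin_two]
    ring
  have h1 : |(A - 1).det| ≤ 4 := by
    rw [e]
    have := abs_le.mp htr
    rcases hdet with h | h <;> rw [h] <;> rw [abs_le] <;> constructor <;> linarith
  have : ((A - 1).det.natAbs : ℤ) ≤ 4 := by rwa [Int.natCast_natAbs]
  exact_mod_cast this

/-- **Fixed vectors mod `d`**: a finite subgroup of `GL₂(ℤ)` fixing a vector of exact order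
`d > 6` modulo `d` has a common nonzero fixed vector in `ℤ²`. -/
theorem exists_common_fixed_of_mod (Γ : Subgroup (Matrix.GeneralLinearGroup (Fin 2) ℤ)) [Finite Γ]
    (d : ℕ) (hd : 6 < d) (w : Fin 2 → ZMod d) (hw : ∀ m : ℕ, 0 < m → m < d → m • w ≠ 0)
    (hfix : ∀ γ ∈ Γ, ((γ : Matrix (Fin 2) (Fin 2) ℤ).map (Int.castRingHom (ZMod d))) *ᵥ w = w) :
    ∃ v : Fin 2 → ℤ, v ≠ 0 ∧ ∀ γ ∈ Γ, (γ : Matrix (Fin 2) (Fin 2) ℤ) *ᵥ v = v := by
  apply exists_common_fixed
  intro γ hγ
  obtain ⟨n, hn, hpow⟩ : ∃ n : ℕ, 0 < n ∧ (γ : Matrix (Fin 2) (Fin 2) ℤ) ^ n = 1 := by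
    obtain ⟨n, hn, hpow⟩ := isOfFinOrder_iff_pow_eq_one.mp (isOfFinOrder_of_finite (⟨γ, hγ⟩ : Γ))
    refine ⟨n, hn, ?_⟩
    have : γ ^ n = 1 := by
      have := congrArg (Subtype.val) hpow
      simpa using this
    have := congrArg (fun g : Matrix.GeneralLinearGroup (Fin 2) ℤ =>
      (g : Matrix (Fin 2) (Fin 2) ℤ)) this
    simpa using this
  set A : Matrix (Fin 2) (Fin 2) ℤ := (γ : Matrix (Fin 2) (Fin 2) ℤ) with hA
  have hdetA := det_eq_one_or γ
  have hle := natAbs_det_sub_one_le A hdetA n hn hpow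
  -- det (A - 1) = 0
  have hdet0 : (A - 1).det = 0 := by
    by_contra hne
    have hpos : 0 < (A - 1).det.natAbs := Int.natAbs_pos.mpr hne
    have hlt : (A - 1).det.natAbs < d := by omega
    apply hw _ hpos hlt
    -- (A - 1) mod d kills w
    set M : Matrix (Fin 2) (Fin 2) (ZMod d) :=
      (Int.castRingHom (ZMod d)).mapMatrix (A - 1) with hM
    have hMw : M *ᵥ w = 0 := by
      have : M = A.map (Int.castRingHom (ZMod d)) - 1 := by
        rw [hM, map_sub, map_one, RingHom.mapMatrix_apply]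
      rw [this, Matrix.sub_mulVec, hfix γ hγ, Matrix.one_mulVec, sub_self]
    have hdetM : M.det = ((A - 1).det : ZMod d) := by
      rw [hM]
      exact ((Int.castRingHom (ZMod d)).map_det (A - 1)).symm
    have h0 : M.det • w = 0 := by
      have : (M.adjugate * M) *ᵥ w = 0 := by
        rw [← Matrix.mulVec_mulVec, hMw, Matrix.mulVec_zero]
      rw [Matrix.adjugate_mul, Matrix.smul_mulVec, Matrix.one_mulVec] at this
      exact this
    rw [hdetM] at h0
    have key : (((A - 1).det.natAbs : ℕ) : ZMod d) • w = 0 := by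
      rcases Int.natAbs_eq (A - 1).det with h | h
      · rw [h, Int.cast_natCast] at h0
        exact h0
      · rw [h, Int.cast_neg, Int.cast_natCast, neg_smul, neg_eq_zero] at h0
        exact h0
    rwa [Nat.cast_smul_eq_nsmul] at key
  obtain ⟨v, hv, hMv⟩ := Matrix.exists_mulVec_eq_zero_iff.mpr hdet0
  refine ⟨v, hv, ?_⟩
  rw [Matrix.sub_mulVec, Matrix.one_mulVec, sub_eq_zero] at hMv
  exact hMv

end Groth.Agent.Lib.GL2Z
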