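import Groth.Agent.Lib.MultTors55f

/-!
# Hopf algebras with a basis of group-like elements: lifting group-likes along nil ideals

`B` a commutative Hopf algebra over `S` with an `S`-basis `v` consisting of group-like elements
(e.g. a group algebra, or any base change of one), `J` an ideal of `S` consisting of nilpotents.

* `repr_comul`: comultiplication in coordinates.
* `unique_lift`: two group-likes congruent modulo `J B` are equal.
* `exists_lift`: an element which is group-like modulo `J` is congruent modulo `J B` to a group-like.
-/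

set_option autoImplicit false
set_option linter.unusedSectionVars false
set_option linter.unusedVariables false

universe u

open TensorProduct

namespace Groth.Agent.Lib.GLLift55

section Mem

variable {S : Type u} [CommRing S] {B : Type u} [CommRing B] [Algebra S B]

theorem mem_map_iff_repr_mem' {ι : Type*} (β : Module.Basis ι S B) (J : Ideal S) (x : B) :
    x ∈ J.map (algebraMap S B) ↔ ∀ i, β.repr x i ∈ J := by
  have h1 : x ∈ J.map (algebraMap S B) ↔ x ∈ J • (⊤ : Submodule S B) := by
    rw [Ideal.smul_top_eq_map]
    rfl
  rw [h1, ← β.span_eq, Submodule.mem_ideal_smul_span_iff_exists_sum]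
  constructor
  · rintro ⟨a, ha, rfl⟩ i
    have h2 : β.repr (a.sum fun i c => c • β i) = a := by
      have := β.repr_linearCombination a
      rwa [Finsupp.linearCombination_apply] at this
    rw [h2]
    exact ha i
  · intro h
    refine ⟨β.repr x, h, ?_⟩
    have := β.linearCombination_repr x
    rwa [Finsupp.linearCombination_apply] at this

end Mem

section GLBasis

variable {S : Type u} [CommRing S] {B : Type u} [CommRing B] [HopfAlgebra S B]
variable {ι : Type u} (v : Module.Basis ι S B) (hv : ∀ i, IsGroupLikeElem S (v i))

include hv in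
theorem repr_comul [DecidableEq ι] (x : B) (i j : ι) :
    (v.tensorProduct v).repr (Coalgebra.comul (R := S) x) (i, j) =
      if i = j then v.repr x i else 0 := by
  have key : (Finsupp.lapply (i, j) : (ι × ι →₀ S) →ₗ[S] S) ∘ₗ
      ((v.tensorProduct v).repr : B ⊗[S] B →ₗ[S] (ι × ι →₀ S)) ∘ₗ (Coalgebra.comul (R := S)) =
      if i = j then (Finsupp.lapply i : (ι →₀ S) →ₗ[S] S) ∘ₗ (v.repr : B →ₗ[S] (ι →₀ S)) else 0 := by
    apply v.ext
    intro k
    simp only [LinearMap.comp_apply, LinearEquiv.coe_coe, Finsupp.lapply_apply]
    rw [(hv k).comul_eq_tmul_self, ← Module.Basis.tensorProduct_apply, Module.Basis.repr_self]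
    by_cases hij : i = j
    · subst hij
      rw [if_pos rfl]
      simp only [LinearMap.comp_apply, LinearEquiv.coe_coe, Finsupp.lapply_apply,
        Module.Basis.repr_self]
      by_cases hk : k = i
      · subst hk
        rw [Finsupp.single_eq_same, Finsupp.single_eq_same]
      · rw [Finsupp.single_eq_of_ne, Finsupp.single_eq_of_ne]
        · exact fun h => hk h.symm
        · intro h
          exact hk (Prod.mk.inj h).1.symm
    · rw [if_neg hij, LinearMap.zero_apply, Finsupp.single_eq_of_ne]
      intro h
      have h1 := (Prod.mk.inj h).1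
      have h2 := (Prod.mk.inj h).2
      exact hij (h1.trans h2.symm)
  have := congrArg (fun f : B →ₗ[S] S => f x) key
  simp only [LinearMap.comp_apply, LinearEquiv.coe_coe, Finsupp.lapply_apply] at this
  rw [this]
  split_ifs
  · rfl
  · rfl

include hv in
theorem counit_eq_sum (x : B) :
    Coalgebra.counit (R := S) x = (v.repr x).sum fun _ c => c := by
  have h := v.linearCombination_repr x
  conv_lhs => rw [← h]
  rw [Finsupp.linearCombination_apply, Finsupp.sum, map_sum]
  refine Finset.sum_congr rfl fun i _ => ?_
  rw [map_smul, (hv i).counit_eq_one, smul_eq_mul, mul_one]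

include hv in
theorem repr_idem {g : B} (hg : IsGroupLikeElem S g) (i : ι) :
    IsIdempotentElem (v.repr g i) := by
  classical
  have h1 := repr_comul v hv g i i
  rw [if_pos rfl, hg.comul_eq_tmul_self, Module.Basis.tensorProduct_repr_tmul_apply,
    smul_eq_mul] at h1
  exact h1

include hv in
/-- Uniqueness of group-like lifts modulo an ideal of nilpotents. -/
theorem unique_lift (J : Ideal S) (hJ : ∀ x ∈ J, IsNilpotent x) {g g' : B}
    (hg : IsGroupLikeElem S g) (hg' : IsGroupLikeElem S g')
    (h : g - g' ∈ J.map (algebraMap S B)) : g = g' := by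
  apply v.repr.injective
  ext i
  have h1 := (mem_map_iff_repr_mem' v J (g - g')).1 h i
  rw [map_sub, Finsupp.sub_apply] at h1
  exact eq_of_isNilpotent_sub_of_isIdempotentElem_of_commute (repr_idem v hv hg i)
    (repr_idem v hv hg' i) (hJ _ h1) (Commute.all _ _)

include hv in
/-- Existence of group-like lifts modulo an ideal of nilpotents. -/
theorem exists_lift (J : Ideal S) (hJ : ∀ x ∈ J, IsNilpotent x) (b : B)
    (hΔ : Coalgebra.comul (R := S) b - b ⊗ₜ[S] b ∈ J.map (algebraMap S (B ⊗[S] B)))
    (hε : Coalgebra.counit (R := S) b - 1 ∈ J) :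
    ∃ g : B, IsGroupLikeElem S g ∧ g - b ∈ J.map (algebraMap S B) := by
  classical
  set c := v.repr b with hc
  have hcoord := (mem_map_iff_repr_mem' (v.tensorProduct v) J _).1 hΔ
  have hidem : ∀ i, c i - c i * c i ∈ J := by
    intro i
    have := hcoord (i, i)
    rw [map_sub, Finsupp.sub_apply, repr_comul v hv, if_pos rfl,
      Module.Basis.tensorProduct_repr_tmul_apply, smul_eq_mul] at this
    exact this
  have horth : ∀ i j, i ≠ j → c i * c j ∈ J := by
    intro i j hij
    have := hcoord (i, j)
    rw [map_sub, Finsupp.sub_apply, repr_comul v hv, if_neg hij,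
      Module.Basis.tensorProduct_repr_tmul_apply, smul_eq_mul, zero_sub, neg_mem_iff,
      mul_comm] at this
    exact this
  have hsum : (∑ i ∈ c.support, c i) - 1 ∈ J := by
    have := counit_eq_sum v hv b
    rw [Finsupp.sum] at this
    rw [← this]
    exact hε
  -- the family of idempotents modulo `J`
  have hco : CompleteOrthogonalIdempotents
      (fun i : c.support => Ideal.Quotient.mk J (c i)) := by
    refine ⟨⟨fun i => ?_, fun i j hij => ?_⟩, ?_⟩
    · unfold IsIdempotentElem
      rw [← map_mul, eq_comm]
      exact Ideal.Quotient.eq.2 (hidem i)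
    · change Ideal.Quotient.mk J (c i) * Ideal.Quotient.mk J (c j) = 0
      rw [← map_mul]
      exact Ideal.Quotient.eq_zero_iff_mem.2
        (horth i j (fun h => hij (Subtype.ext h)))
    · rw [← map_sum, ← map_one (Ideal.Quotient.mk J)]
      apply Ideal.Quotient.eq.2
      rw [Finset.sum_coe_sort c.support (fun i => c i)]
      exact hsum
  have hker : ∀ x ∈ RingHom.ker (Ideal.Quotient.mk J), IsNilpotent x := by
    intro x hx
    rw [Ideal.mk_ker] at hx
    exact hJ x hx
  obtain ⟨e, he, hee⟩ := CompleteOrthogonalIdempotents.lift_of_isNilpotent_ker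
    (Ideal.Quotient.mk J) hker hco (fun i => ⟨_, rfl⟩)
  have hecong : ∀ i : c.support, e i - c i ∈ J := by
    intro i
    have := congrFun hee i
    exact Ideal.Quotient.eq.1 this
  refine ⟨∑ i : c.support, e i • v i, ⟨?_, ?_⟩, ?_⟩
  · rw [map_sum]
    simp only [map_smul, (hv _).counit_eq_one, smul_eq_mul, mul_one]
    exact he.complete
  · rw [map_sum, TensorProduct.sum_tmul]
    refine Finset.sum_congr rfl fun i _ => ?_
    rw [map_smul, (hv i).comul_eq_tmul_self, TensorProduct.tmul_sum,
      Finset.sum_eq_single i]
    · rw [TensorProduct.smul_tmul_smul, (he.idem i).eq]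
    · intro j _ hji
      rw [TensorProduct.smul_tmul_smul, he.ortho (Ne.symm hji), zero_smul]
    · intro h
      exact absurd (Finset.mem_univ i) h
  · have hb : b = ∑ i : c.support, c i • v i := by
      have := v.linearCombination_repr b
      rw [Finsupp.linearCombination_apply, Finsupp.sum] at this
      rw [← this, Finset.sum_coe_sort c.support (fun i => c i • v i)]
    have key : (∑ i : c.support, e i • v i) - b = ∑ i : c.support, (e i - c i) • v i := by
      simp only [sub_smul, Finset.sum_sub_distrib]
      congr 1
    rw [key]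
    refine Ideal.sum_mem _ fun i _ => ?_
    rw [Algebra.smul_def]
    exact Ideal.mul_mem_right _ _ (Ideal.mem_map_of_mem _ (hecong i))

end GLBasis

end Groth.Agent.Lib.GLLift55
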