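import Groth.Agent.Lib.GLLift55a

/-!
# Group-likes of the base changes `S ⊗[R] A` of a Hopf algebra: functoriality and flat descent
-/

set_option autoImplicit false
set_option linter.unusedSectionVars false
set_option linter.unusedVariables false

universe u

open TensorProduct

namespace Groth.Agent.Lib.GLLift55

open Groth.Agent.Lib.MultType58

section Functoriality

variable {R : Type u} [CommRing R] {A : Type u} [CommRing A] [HopfAlgebra R A]
variable {S : Type u} [CommRing S] [Algebra R S] {T : Type u} [CommRing T] [Algebra R T]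

/-- The map `S ⊗ A → T ⊗ A` induced by `ι : S → T`. -/
noncomputable abbrev bcMap (A : Type u) [CommRing A] [HopfAlgebra R A] (ι : S →ₐ[R] T) :
    S ⊗[R] A →ₐ[R] T ⊗[R] A :=
  Algebra.TensorProduct.map ι (AlgHom.id R A)

theorem bcMap_eq_cancel (ι : S →ₐ[R] T) [Algebra S T] [IsScalarTower R S T]
    (hι : ∀ s, ι s = algebraMap S T s) (g : S ⊗[R] A) :
    bcMap A ι g = Algebra.TensorProduct.cancelBaseChange R S T T A ((1 : T) ⊗ₜ[S] g) := by
  induction g using TensorProduct.induction_on with
  | zero => simp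
  | add x y hx hy => rw [map_add, hx, hy, TensorProduct.tmul_add, map_add]
  | tmul s a =>
    rw [Algebra.TensorProduct.cancelBaseChange_tmul, Algebra.TensorProduct.map_tmul,
      AlgHom.id_apply, hι, Algebra.smul_def, mul_one]

/-- Base change along `ι : S → T` preserves group-like elements. -/
theorem isGroupLikeElem_bcMap (ι : S →ₐ[R] T) {g : S ⊗[R] A} (hg : IsGroupLikeElem S g) :
    IsGroupLikeElem T (bcMap A ι g) := by
  letI : Algebra S T := ι.toRingHom.toAlgebra
  haveI : IsScalarTower R S T := IsScalarTower.of_algebraMap_eq' (ι.comp_algebraMap).symm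
  rw [bcMap_eq_cancel ι (fun _ => rfl) g]
  have h1 : IsGroupLikeElem T ((1 : T) ⊗ₜ[S] g) := isGroupLikeElem_one_tmul T hg
  have h2 := h1.map (cancelBialgHom R S T A)
  exact h2

/-- Base change of a basis of group-likes. -/
theorem hasGLBasis_bcMap (ι : S →ₐ[R] T)
    (h : ∃ (κ : Type u) (v : Module.Basis κ S (S ⊗[R] A)), ∀ i, IsGroupLikeElem S (v i)) :
    ∃ (κ : Type u) (v : Module.Basis κ T (T ⊗[R] A)), ∀ i, IsGroupLikeElem T (v i) := by
  obtain ⟨κ, v, hv⟩ := h
  letI : Algebra S T := ι.toRingHom.toAlgebra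
  haveI : IsScalarTower R S T := IsScalarTower.of_algebraMap_eq' (ι.comp_algebraMap).symm
  refine ⟨κ, (v.baseChange T).map
    (Algebra.TensorProduct.cancelBaseChange R S T T A).toLinearEquiv, fun i => ?_⟩
  rw [Module.Basis.map_apply, Module.Basis.baseChange_apply]
  have := isGroupLikeElem_bcMap (A := A) ι (hv i)
  rw [bcMap_eq_cancel ι (fun _ => rfl)] at this
  exact this

/-- `bcMap` maps the ideal generated by `I` into the ideal generated by `I`. -/
theorem bcMap_mem (ι : S →ₐ[R] T) (I : Ideal R) {x : S ⊗[R] A}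
    (hx : x ∈ I.map (algebraMap R (S ⊗[R] A))) :
    bcMap A ι x ∈ I.map (algebraMap R (T ⊗[R] A)) := by
  have h1 := Ideal.mem_map_of_mem ((bcMap A ι : S ⊗[R] A →ₐ[R] T ⊗[R] A) :
    S ⊗[R] A →+* T ⊗[R] A) hx
  rw [Ideal.map_map] at h1
  have h2 : ((bcMap A ι : S ⊗[R] A →ₐ[R] T ⊗[R] A) : S ⊗[R] A →+* T ⊗[R] A).comp
      (algebraMap R (S ⊗[R] A)) = algebraMap R (T ⊗[R] A) :=
    AlgHom.comp_algebraMap (bcMap A ι)
  rw [h2] at h1
  exact h1

theorem bcMap_one_tmul (ι : S →ₐ[R] T) (a : A) :
    bcMap A ι ((1 : S) ⊗ₜ[R] a) = (1 : T) ⊗ₜ[R] a := by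
  rw [Algebra.TensorProduct.map_tmul, map_one, AlgHom.id_apply]

/-- The ideal of `S ⊗ A` generated by `I`, in terms of the extension of `I` to `S`. -/
theorem map_map_eq (I : Ideal R) :
    (I.map (algebraMap R S)).map (algebraMap S (S ⊗[R] A)) =
      I.map (algebraMap R (S ⊗[R] A)) := by
  rw [Ideal.map_map, ← IsScalarTower.algebraMap_eq]

end Functoriality

section FlatDescent

variable {R : Type u} [CommRing R] {A : Type u} [CommRing A] [HopfAlgebra R A]
variable (T : Type u) [CommRing T] [Algebra R T] [Module.FaithfullyFlat R T]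

theorem one_tmul_injective (R : Type u) [CommRing R] (T : Type u) [CommRing T] [Algebra R T]
    [Module.FaithfullyFlat R T] (M : Type u) [AddCommGroup M] [Module R M] {x y : M}
    (h : (1 : T) ⊗ₜ[R] x = (1 : T) ⊗ₜ[R] y) : x = y :=
  Module.FaithfullyFlat.tensorProduct_mk_injective (A := R) (B := T) M h

/-- Faithfully flat descent of group-likeness. -/
theorem isGroupLikeElem_of_one_tmul {g : A} (hg : IsGroupLikeElem T ((1 : T) ⊗ₜ[R] g)) :
    IsGroupLikeElem R g where
  counit_eq_one := by
    have h := hg.counit_eq_one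
    rw [counit_tmul', mul_one] at h
    apply FaithfulSMul.algebraMap_injective R T
    rw [h, map_one]
  comul_eq_tmul_self := by
    have h := hg.comul_eq_tmul_self
    rw [← (reprBC T (Coalgebra.Repr.arbitrary R g)).eq] at h
    simp only [reprBC] at h
    apply one_tmul_injective R T (A ⊗[R] A)
    apply (TensorProduct.AlgebraTensorModule.distribBaseChange R T A A).injective
    rw [TensorProduct.AlgebraTensorModule.distribBaseChange_tmul, ← h,
      ← (Coalgebra.Repr.arbitrary R g).eq, TensorProduct.tmul_sum, map_sum]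
    refine Finset.sum_congr rfl fun i _ => ?_
    rw [TensorProduct.AlgebraTensorModule.distribBaseChange_tmul]

/-- Faithfully flat descent of congruences modulo `I`. -/
theorem mem_map_of_one_tmul_mem (I : Ideal R) (M : Type u) [CommRing M] [Algebra R M] {x : M}
    (hx : (1 : T) ⊗ₜ[R] x ∈ I.map (algebraMap R (T ⊗[R] M))) :
    x ∈ I.map (algebraMap R M) := by
  have hx' : (1 : T) ⊗ₜ[R] x ∈ (I • (⊤ : Submodule R (T ⊗[R] M))) := by
    rw [Ideal.smul_top_eq_map]
    exact hx
  set q : M →ₗ[R] M ⧸ (I • (⊤ : Submodule R M)) := Submodule.mkQ _ with hq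
  have hkill : ∀ z ∈ (I • (⊤ : Submodule R (T ⊗[R] M))), (q.lTensor T) z = 0 := by
    intro z hz
    refine Submodule.smul_induction_on hz ?_ ?_
    · intro j hj w hw
      clear hw
      induction w using TensorProduct.induction_on with
      | zero => simp
      | add a b ha hb => rw [smul_add, map_add, ha, hb, add_zero]
      | tmul t m =>
        rw [TensorProduct.smul_tmul', LinearMap.lTensor_tmul, TensorProduct.smul_tmul,
          ← map_smul]
        have : q (j • m) = 0 := by
          rw [hq, Submodule.mkQ_apply, Submodule.Quotient.mk_eq_zero]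
          exact Submodule.smul_mem_smul hj trivial
        rw [this, TensorProduct.tmul_zero]
    · intro a b ha hb
      rw [map_add, ha, hb, add_zero]
  have h1 := hkill _ hx'
  rw [LinearMap.lTensor_tmul] at h1
  have h2 : q x = 0 := by
    apply one_tmul_injective R T (M ⧸ (I • (⊤ : Submodule R M)))
    rw [h1, TensorProduct.tmul_zero]
  rw [hq, Submodule.mkQ_apply, Submodule.Quotient.mk_eq_zero] at h2
  have h3 := Ideal.smul_top_eq_map (R := R) (S := M) I
  have h4 : x ∈ (I.map (algebraMap R M)).restrictScalars R := by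
    rw [← h3]
    exact h2
  exact h4

end FlatDescent

end Groth.Agent.Lib.GLLift55
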