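import Groth.Agent.Lib.GLLift55b
import Groth.Agent.S1156

/-!
# Faithfully flat descent of group-like lifts

`R → T` faithfully flat, `T ⊗ A` with a basis of group-likes, `I` an ideal of nilpotents: every element
of `A` which is group-like modulo `I` is congruent modulo `I A` to a group-like element.
-/

set_option autoImplicit false
set_option linter.unusedSectionVars false
set_option linter.unusedVariables false

universe u

open TensorProduct

namespace Groth.Agent.Lib.GLLift55

open Groth.Agent.Lib.MultType58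

section Nil

variable {R : Type u} [CommRing R] {T : Type u} [CommRing T] [Algebra R T]

theorem map_nil (I : Ideal R) (hI : ∀ x ∈ I, IsNilpotent x) :
    ∀ x ∈ I.map (algebraMap R T), IsNilpotent x := by
  have h : I.map (algebraMap R T) ≤ nilradical T := by
    rw [Ideal.map_le_iff_le_comap]
    intro x hx
    rw [Ideal.mem_comap, mem_nilradical]
    exact (hI x hx).map _
  intro x hx
  exact mem_nilradical.1 (h hx)

end Nil

section GLMod

variable {R : Type u} [CommRing R] {A : Type u} [CommRing A] [HopfAlgebra R A]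
variable (T : Type u) [CommRing T] [Algebra R T]

/-- Base change of "group-like modulo `I`": the comultiplication part. -/
theorem comul_one_tmul_sub_mem (I : Ideal R) (b : A)
    (hΔ : Coalgebra.comul (R := R) b - b ⊗ₜ[R] b ∈ I.map (algebraMap R (A ⊗[R] A))) :
    Coalgebra.comul (R := T) ((1 : T) ⊗ₜ[R] b) - ((1 : T) ⊗ₜ[R] b) ⊗ₜ[T] ((1 : T) ⊗ₜ[R] b) ∈
      (I.map (algebraMap R T)).map
        (algebraMap T ((T ⊗[R] A) ⊗[T] (T ⊗[R] A))) := by
  have h1 : Coalgebra.comul (R := T) ((1 : T) ⊗ₜ[R] b) =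
      TensorProduct.AlgebraTensorModule.distribBaseChange R T A A
        ((1 : T) ⊗ₜ[R] Coalgebra.comul (R := R) b) := by
    rw [← (reprBC T (Coalgebra.Repr.arbitrary R b)).eq, ← (Coalgebra.Repr.arbitrary R b).eq,
      TensorProduct.tmul_sum, map_sum]
    simp only [reprBC]
    refine Finset.sum_congr rfl fun i _ => ?_
    rw [TensorProduct.AlgebraTensorModule.distribBaseChange_tmul]
  have h2 : ((1 : T) ⊗ₜ[R] b) ⊗ₜ[T] ((1 : T) ⊗ₜ[R] b) =
      TensorProduct.AlgebraTensorModule.distribBaseChange R T A A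
        ((1 : T) ⊗ₜ[R] (b ⊗ₜ[R] b)) := by
    rw [TensorProduct.AlgebraTensorModule.distribBaseChange_tmul]
  rw [h1, h2, ← map_sub, ← TensorProduct.tmul_sub]
  have hz : Coalgebra.comul (R := R) b - b ⊗ₜ[R] b ∈ (I • (⊤ : Submodule R (A ⊗[R] A))) := by
    rw [Ideal.smul_top_eq_map]
    exact hΔ
  refine Submodule.smul_induction_on hz ?_ ?_
  · intro j hj w _
    rw [TensorProduct.tmul_smul]
    have : (j • ((1 : T) ⊗ₜ[R] w) : T ⊗[R] (A ⊗[R] A)) =
        (algebraMap R T j) • ((1 : T) ⊗ₜ[R] w) := by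
      rw [algebraMap_smul]
    rw [this, map_smul]
    have h3 : ∀ (t : T) (y : (T ⊗[R] A) ⊗[T] (T ⊗[R] A)),
        t • y = algebraMap T ((T ⊗[R] A) ⊗[T] (T ⊗[R] A)) t * y := by
      intro t y
      induction y using TensorProduct.induction_on with
      | zero => simp
      | add x y hx hy => rw [smul_add, mul_add, hx, hy]
      | tmul p q =>
        rw [TensorProduct.smul_tmul', Algebra.TensorProduct.algebraMap_apply,
          Algebra.TensorProduct.tmul_mul_tmul, one_mul, Algebra.smul_def]
    rw [h3]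
    exact Ideal.mul_mem_right _ _ (Ideal.mem_map_of_mem _ (Ideal.mem_map_of_mem _ hj))
  · intro x y hx hy
    rw [TensorProduct.tmul_add, map_add]
    exact Ideal.add_mem _ hx hy

theorem counit_one_tmul_sub_mem (I : Ideal R) (b : A)
    (hε : Coalgebra.counit (R := R) b - 1 ∈ I) :
    Coalgebra.counit (R := T) ((1 : T) ⊗ₜ[R] b) - 1 ∈ I.map (algebraMap R T) := by
  rw [counit_tmul', mul_one, ← map_one (algebraMap R T), ← map_sub]
  exact Ideal.mem_map_of_mem _ hε

end GLMod

section Fpqc

variable {R : Type u} [CommRing R] {A : Type u} [CommRing A] [HopfAlgebra R A]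
variable (T : Type u) [CommRing T] [Algebra R T] [Module.FaithfullyFlat R T]

theorem assoc_bcMap_includeRight (y : T ⊗[R] A) :
    TensorProduct.assoc R T T A
      (bcMap A (Algebra.TensorProduct.includeRight : T →ₐ[R] T ⊗[R] T) y) =
      TensorProduct.mk R T (T ⊗[R] A) 1 y := by
  induction y using TensorProduct.induction_on with
  | zero => simp
  | add x y hx hy => rw [map_add, map_add, hx, hy, map_add]
  | tmul t a =>
    rw [Algebra.TensorProduct.map_tmul, Algebra.TensorProduct.includeRight_apply,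
      AlgHom.id_apply, TensorProduct.assoc_tmul]
    rfl

theorem assoc_bcMap_includeLeft (y : T ⊗[R] A) :
    TensorProduct.assoc R T T A
      (bcMap A (Algebra.TensorProduct.includeLeft : T →ₐ[R] T ⊗[R] T) y) =
      LinearMap.lTensor T (TensorProduct.mk R T A 1) y := by
  induction y using TensorProduct.induction_on with
  | zero => simp
  | add x y hx hy => rw [map_add, map_add, hx, hy, map_add]
  | tmul t a =>
    rw [Algebra.TensorProduct.map_tmul, Algebra.TensorProduct.includeLeft_apply,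
      AlgHom.id_apply, TensorProduct.assoc_tmul, LinearMap.lTensor_tmul]
    rfl

/-- Faithfully flat descent of the existence of group-like lifts. -/
theorem exists_lift_of_faithfullyFlat (I : Ideal R) (hI : ∀ x ∈ I, IsNilpotent x)
    (hT : ∃ (κ : Type u) (v : Module.Basis κ T (T ⊗[R] A)), ∀ i, IsGroupLikeElem T (v i))
    (b : A)
    (hΔ : Coalgebra.comul (R := R) b - b ⊗ₜ[R] b ∈ I.map (algebraMap R (A ⊗[R] A)))
    (hε : Coalgebra.counit (R := R) b - 1 ∈ I) :
    ∃ g : A, IsGroupLikeElem R g ∧ g - b ∈ I.map (algebraMap R A) := by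
  obtain ⟨κ, v, hv⟩ := hT
  -- the lift over `T`
  obtain ⟨g', hg', hcong⟩ := exists_lift v hv (I.map (algebraMap R T)) (map_nil I hI)
    ((1 : T) ⊗ₜ[R] b) (comul_one_tmul_sub_mem T I b hΔ) (counit_one_tmul_sub_mem T I b hε)
  rw [map_map_eq] at hcong
  -- the two pullbacks to `T ⊗ T`
  obtain ⟨κ₂, v₂, hv₂⟩ := hasGLBasis_bcMap (A := A)
    (Algebra.TensorProduct.includeLeft : T →ₐ[R] T ⊗[R] T) ⟨κ, v, hv⟩
  have heq : bcMap A (Algebra.TensorProduct.includeLeft : T →ₐ[R] T ⊗[R] T) g' =
      bcMap A (Algebra.TensorProduct.includeRight : T →ₐ[R] T ⊗[R] T) g' := by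
    apply unique_lift v₂ hv₂ (I.map (algebraMap R (T ⊗[R] T))) (map_nil I hI)
      (isGroupLikeElem_bcMap _ hg') (isGroupLikeElem_bcMap _ hg')
    rw [map_map_eq]
    have h1 := bcMap_mem (A := A) (Algebra.TensorProduct.includeLeft : T →ₐ[R] T ⊗[R] T) I hcong
    have h2 := bcMap_mem (A := A) (Algebra.TensorProduct.includeRight : T →ₐ[R] T ⊗[R] T) I hcong
    rw [map_sub, bcMap_one_tmul] at h1 h2
    have h3 := Ideal.sub_mem _ h1 h2
    rwa [sub_sub_sub_cancel_right] at h3
  -- descent
  have hd : TensorProduct.mk R T (T ⊗[R] A) 1 g' =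
      LinearMap.lTensor T (TensorProduct.mk R T A 1) g' := by
    rw [← assoc_bcMap_includeRight, ← assoc_bcMap_includeLeft, heq]
  obtain ⟨g, hg⟩ := Groth.Agent.S1156.result R T A g' hd
  have hg1 : (1 : T) ⊗ₜ[R] g = g' := hg
  refine ⟨g, isGroupLikeElem_of_one_tmul T (hg1 ▸ hg'), ?_⟩
  apply mem_map_of_one_tmul_mem T I A
  rw [TensorProduct.tmul_sub, hg1]
  exact hcong

end Fpqc

end Groth.Agent.Lib.GLLift55
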