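import Mathlib

/-!
# Gluing elements of a module over a finite cover by basic opens (helper55)

`exists_glue`: `t` a finite set of elements of `R` generating the unit ideal, `y f ∈ R_f ⊗ M` a family
of elements which agree in `(R_f ⊗ R_f') ⊗ M`; then there is `m : M` with `1 ⊗ m = y f` for all `f ∈ t`.
-/

set_option autoImplicit false
set_option linter.unusedSectionVars false
set_option linter.unusedVariables false

universe u

open TensorProduct

namespace Groth.Agent.Lib.ZarGlue55

variable {R : Type u} [CommRing R] {M : Type u} [AddCommGroup M] [Module R M]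

/-- If `1 ⊗ 1 ⊗ z = 0` in `(R_f ⊗ R_f') ⊗ M` then a power of `f f'` kills `z`. -/
theorem exists_pow_smul_eq_zero (f f' : R) (z : M)
    (hz : ((1 : Localization.Away f) ⊗ₜ[R] (1 : Localization.Away f')) ⊗ₜ[R] z =
      (0 : (Localization.Away f ⊗[R] Localization.Away f') ⊗[R] M)) :
    ∃ k : ℕ, (f * f') ^ k • z = 0 := by
  have hz2 : (1 : Localization.Away f) ⊗ₜ[R] ((1 : Localization.Away f') ⊗ₜ[R] z) =
      (0 : Localization.Away f ⊗[R] (Localization.Away f' ⊗[R] M)) := by
    have := congrArg (TensorProduct.assoc R (Localization.Away f) (Localization.Away f') M) hz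
    rwa [TensorProduct.assoc_tmul, map_zero] at this
  have h1 : TensorProduct.mk R (Localization.Away f) (Localization.Away f' ⊗[R] M) 1
      ((1 : Localization.Away f') ⊗ₜ[R] z) =
      TensorProduct.mk R (Localization.Away f) (Localization.Away f' ⊗[R] M) 1 0 := by
    rw [map_zero]
    exact hz2
  obtain ⟨k, hk⟩ := IsLocalizedModule.Away.exists_of_eq f h1
  rw [smul_zero, ← TensorProduct.tmul_smul] at hk
  have h2 : TensorProduct.mk R (Localization.Away f') M 1 (f ^ k • z) =
      TensorProduct.mk R (Localization.Away f') M 1 0 := by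
    rw [map_zero]
    exact hk
  obtain ⟨k', hk'⟩ := IsLocalizedModule.Away.exists_of_eq f' h2
  rw [smul_zero] at hk'
  refine ⟨max k k', ?_⟩
  have e1 : (f * f') ^ (max k k') =
      (f ^ (max k k' - k) * f' ^ (max k k' - k')) * (f' ^ k' * f ^ k) := by
    rw [mul_pow]
    have h3 : f ^ (max k k') = f ^ (max k k' - k) * f ^ k := by
      rw [← pow_add, Nat.sub_add_cancel (le_max_left k k')]
    have h4 : f' ^ (max k k') = f' ^ (max k k' - k') * f' ^ k' := by
      rw [← pow_add, Nat.sub_add_cancel (le_max_right k k')]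
    rw [h3, h4]
    ring
  rw [e1, mul_smul, mul_smul (f' ^ k'), hk', smul_zero]

/-- Gluing elements of a module along a finite cover by basic opens. -/
theorem exists_glue (t : Finset R) (ht : Ideal.span (t : Set R) = ⊤)
    (y : ∀ f : R, Localization.Away f ⊗[R] M)
    (hcompat : ∀ f ∈ t, ∀ f' ∈ t,
      (LinearMap.rTensor M ((Algebra.TensorProduct.includeLeft :
        Localization.Away f →ₐ[R] Localization.Away f ⊗[R] Localization.Away f').toLinearMap))
          (y f) =
      (LinearMap.rTensor M ((Algebra.TensorProduct.includeRight :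
        Localization.Away f' →ₐ[R] Localization.Away f ⊗[R] Localization.Away f').toLinearMap))
          (y f')) :
    ∃ m : M, ∀ f ∈ t, (1 : Localization.Away f) ⊗ₜ[R] m = y f := by
  classical
  have ha : ∀ f : R, ∃ (n : ℕ) (m : M), f ^ n • y f = (1 : Localization.Away f) ⊗ₜ[R] m :=
    fun f => IsLocalizedModule.Away.surj (TensorProduct.mk R (Localization.Away f) M 1) f (y f)
  choose n₀ m₀ hnm using ha
  set n := t.sup n₀ with hn
  set m₁ : R → M := fun f => f ^ (n - n₀ f) • m₀ f with hm₁
  have h1 : ∀ f ∈ t, f ^ n • y f = (1 : Localization.Away f) ⊗ₜ[R] m₁ f := by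
    intro f hf
    have hle : n₀ f ≤ n := Finset.le_sup hf
    have e : f ^ n = f ^ (n - n₀ f) * f ^ n₀ f := by
      rw [← pow_add, Nat.sub_add_cancel hle]
    rw [e, mul_smul, hnm, ← TensorProduct.tmul_smul]
  have hb : ∀ f f' : R, ∃ k : ℕ, f ∈ t → f' ∈ t →
      (f * f') ^ k • (f' ^ n • m₁ f - f ^ n • m₁ f') = 0 := by
    intro f f'
    by_cases hf : f ∈ t
    · by_cases hf' : f' ∈ t
      · have hc := hcompat f hf f' hf'
        have hc2 := congrArg (fun z => (f' ^ n * f ^ n) • z) hc
        beta_reduce at hc2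
        have hL : (f' ^ n * f ^ n) • (LinearMap.rTensor M ((Algebra.TensorProduct.includeLeft :
            Localization.Away f →ₐ[R] Localization.Away f ⊗[R] Localization.Away f').toLinearMap))
            (y f) = ((1 : Localization.Away f) ⊗ₜ[R] (1 : Localization.Away f')) ⊗ₜ[R]
              (f' ^ n • m₁ f) := by
          rw [mul_smul, ← map_smul, ← map_smul, h1 f hf, ← TensorProduct.tmul_smul,
            LinearMap.rTensor_tmul]
          simp
        have hR : (f' ^ n * f ^ n) • (LinearMap.rTensor M ((Algebra.TensorProduct.includeRight :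
            Localization.Away f' →ₐ[R] Localization.Away f ⊗[R] Localization.Away f').toLinearMap))
            (y f') = ((1 : Localization.Away f) ⊗ₜ[R] (1 : Localization.Away f')) ⊗ₜ[R]
              (f ^ n • m₁ f') := by
          rw [mul_comm, mul_smul, ← map_smul, ← map_smul, h1 f' hf', ← TensorProduct.tmul_smul,
            LinearMap.rTensor_tmul]
          simp
        rw [hL, hR] at hc2
        have hz : ((1 : Localization.Away f) ⊗ₜ[R] (1 : Localization.Away f')) ⊗ₜ[R]
            (f' ^ n • m₁ f - f ^ n • m₁ f') =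
            (0 : (Localization.Away f ⊗[R] Localization.Away f') ⊗[R] M) := by
          rw [TensorProduct.tmul_sub, hc2, sub_self]
        obtain ⟨k, hk⟩ := exists_pow_smul_eq_zero f f' _ hz
        exact ⟨k, fun _ _ => hk⟩
      · exact ⟨0, fun _ h => absurd h hf'⟩
    · exact ⟨0, fun h _ => absurd h hf⟩
  choose k₀ hk₀ using hb
  set K := t.sup (fun f => t.sup (fun f' => k₀ f f')) with hK
  have hKle : ∀ f ∈ t, ∀ f' ∈ t, k₀ f f' ≤ K := by
    intro f hf f' hf'
    exact le_trans (Finset.le_sup (f := fun f' => k₀ f f') hf')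
      (Finset.le_sup (f := fun f => t.sup (fun f' => k₀ f f')) hf)
  set m₂ : R → M := fun f => f ^ K • m₁ f with hm₂
  have h2 : ∀ f ∈ t, f ^ (n + K) • y f = (1 : Localization.Away f) ⊗ₜ[R] m₂ f := by
    intro f hf
    rw [pow_add, mul_comm, mul_smul, h1 f hf, ← TensorProduct.tmul_smul]
  have h3 : ∀ f ∈ t, ∀ f' ∈ t, f' ^ (n + K) • m₂ f = f ^ (n + K) • m₂ f' := by
    intro f hf f' hf'
    have hk := hk₀ f f' hf hf'
    have hk' : (f * f') ^ K • (f' ^ n • m₁ f - f ^ n • m₁ f') = 0 := by
      have e : (f * f') ^ K = (f * f') ^ (K - k₀ f f') * (f * f') ^ k₀ f f' := by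
        rw [← pow_add, Nat.sub_add_cancel (hKle f hf f' hf')]
      rw [e, mul_smul, hk, smul_zero]
    rw [smul_sub, sub_eq_zero] at hk'
    have e1 : f' ^ (n + K) • m₂ f = (f * f') ^ K • f' ^ n • m₁ f := by
      simp only [hm₂, smul_smul]
      congr 1
      ring
    have e2 : f ^ (n + K) • m₂ f' = (f * f') ^ K • f ^ n • m₁ f' := by
      simp only [hm₂, smul_smul]
      congr 1
      ring
    rw [e1, e2, hk']
  -- partition of unity
  have hspan : Ideal.span (Set.range (fun f : t => (f : R) ^ (n + K))) = ⊤ := by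
    have := Ideal.span_pow_eq_top (t : Set R) ht (n + K)
    rw [← this]
    congr 1
    ext x
    constructor
    · rintro ⟨f, rfl⟩
      exact ⟨f, f.2, rfl⟩
    · rintro ⟨f, hf, rfl⟩
      exact ⟨⟨f, hf⟩, rfl⟩
  have hone : (1 : R) ∈ Ideal.span (Set.range (fun f : t => (f : R) ^ (n + K))) := by
    rw [hspan]
    trivial
  rw [Ideal.mem_span_range_iff_exists_fun] at hone
  obtain ⟨c, hc⟩ := hone
  refine ⟨∑ f : t, c f • m₂ f, ?_⟩
  intro f' hf'
  have h4 : f' ^ (n + K) • (∑ f : t, c f • m₂ (f : R)) = m₂ f' := by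
    rw [Finset.smul_sum]
    have : ∀ f : t, f' ^ (n + K) • c f • m₂ (f : R) = (c f * (f : R) ^ (n + K)) • m₂ f' := by
      intro f
      rw [smul_comm, h3 f f.2 f' hf', smul_smul]
    simp only [this]
    rw [← Finset.sum_smul, hc, one_smul]
  have hunit := IsLocalizedModule.Away.isUnit_algebraMap
    (TensorProduct.mk R (Localization.Away f') M 1) f'
  have hinj : Function.Injective (fun z : Localization.Away f' ⊗[R] M => f' ^ (n + K) • z) := by
    have hu : IsUnit (algebraMap R (Module.End R (Localization.Away f' ⊗[R] M)) (f' ^ (n + K))) := by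
      rw [map_pow]
      exact hunit.pow _
    have := (Module.End.isUnit_iff _).1 hu
    exact this.1
  apply hinj
  simp only
  rw [h2 f' hf', ← TensorProduct.tmul_smul, h4]

end Groth.Agent.Lib.ZarGlue55
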