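import Groth.Agent.Lib.GLLift55c
import Groth.Agent.Lib.ZarGlue55

/-!
# Uniqueness of group-like lifts over arbitrary base changes (helper55)

* `rTensor_injective`: for a tower `R → S → T` with `T` faithfully flat over `S`, `S ⊗[R] N → T ⊗[R] N` is
  injective.
* `bcMap_injective`.
* `hasGLBasis_cancel`: transport of a basis of group-likes along `T ⊗[R₁] (R₁ ⊗[R] A) ≃ T ⊗[R] A`.
* `unique_of_tower`: if `T ⊗[R] A` has a basis of group-likes with `T` faithfully flat over `R₁`, then
  for every `R₁`-algebra `S`, group-likes of `S ⊗[R] A` congruent modulo a nil ideal are equal.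
-/

set_option autoImplicit false
set_option linter.unusedSectionVars false
set_option linter.unusedVariables false

universe u

open TensorProduct

namespace Groth.Agent.Lib.GLLift55

open Groth.Agent.Lib.MultType58

section Tower

variable (R : Type u) [CommRing R] (S : Type u) [CommRing S] [Algebra R S]
  (T : Type u) [CommRing T] [Algebra R T] [Algebra S T] [IsScalarTower R S T]
  (N : Type u) [AddCommGroup N] [Module R N]

theorem rTensor_eq_cancel (x : S ⊗[R] N) :
    LinearMap.rTensor N (IsScalarTower.toAlgHom R S T).toLinearMap x =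
      TensorProduct.AlgebraTensorModule.cancelBaseChange R S T T N ((1 : T) ⊗ₜ[S] x) := by
  induction x using TensorProduct.induction_on with
  | zero => simp
  | add x y hx hy => rw [map_add, hx, hy, TensorProduct.tmul_add, map_add]
  | tmul s n =>
    rw [LinearMap.rTensor_tmul, TensorProduct.AlgebraTensorModule.cancelBaseChange_tmul,
      AlgHom.toLinearMap_apply, IsScalarTower.coe_toAlgHom', Algebra.smul_def, mul_one]

theorem rTensor_injective [Module.FaithfullyFlat S T] :
    Function.Injective (LinearMap.rTensor N (IsScalarTower.toAlgHom R S T).toLinearMap) := by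
  intro x y hxy
  rw [rTensor_eq_cancel, rTensor_eq_cancel] at hxy
  have h1 := (TensorProduct.AlgebraTensorModule.cancelBaseChange R S T T N).injective hxy
  exact Module.FaithfullyFlat.tensorProduct_mk_injective (A := S) (B := T) (S ⊗[R] N) h1

/-- Joint injectivity for a tower: if `1 ⊗ x = 0` in `T ⊗[R] N` then `1 ⊗ x = 0` in `S ⊗[R] N`. -/
theorem one_tmul_eq_zero_of_tower [Module.FaithfullyFlat S T] {x : N}
    (h : (1 : T) ⊗ₜ[R] x = 0) : (1 : S) ⊗ₜ[R] x = 0 := by
  apply rTensor_injective R S T N
  rw [LinearMap.rTensor_tmul, map_zero, AlgHom.toLinearMap_apply, map_one]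
  exact h

end Tower

section BcInj

variable {R : Type u} [CommRing R] {A : Type u} [CommRing A] [HopfAlgebra R A]
variable {S : Type u} [CommRing S] [Algebra R S] {T : Type u} [CommRing T] [Algebra R T]

theorem bcMap_injective (ι : S →ₐ[R] T) [Algebra S T] [IsScalarTower R S T]
    [Module.FaithfullyFlat S T] (hι : ∀ s, ι s = algebraMap S T s) :
    Function.Injective (bcMap A ι) := by
  intro x y hxy
  rw [bcMap_eq_cancel ι hι, bcMap_eq_cancel ι hι] at hxy
  have h1 := (Algebra.TensorProduct.cancelBaseChange R S T T A).injective hxy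
  exact Module.FaithfullyFlat.tensorProduct_mk_injective (A := S) (B := T) (S ⊗[R] A) h1

end BcInj

section TowerGL

variable {R : Type u} [CommRing R] {A : Type u} [CommRing A] [HopfAlgebra R A]
variable (R₁ : Type u) [CommRing R₁] [Algebra R R₁]
  (T : Type u) [CommRing T] [Algebra R T] [Algebra R₁ T] [IsScalarTower R R₁ T]

/-- Transport of a basis of group-likes along `T ⊗[R₁] (R₁ ⊗[R] A) ≃ T ⊗[R] A`. -/
theorem hasGLBasis_cancel
    (h : ∃ (κ : Type u) (v : Module.Basis κ T (T ⊗[R₁] (R₁ ⊗[R] A))),
      ∀ i, IsGroupLikeElem T (v i)) :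
    ∃ (κ : Type u) (v : Module.Basis κ T (T ⊗[R] A)), ∀ i, IsGroupLikeElem T (v i) := by
  obtain ⟨κ, v, hv⟩ := h
  refine ⟨κ, v.map (Algebra.TensorProduct.cancelBaseChange R R₁ T T A).toLinearEquiv,
    fun i => ?_⟩
  rw [Module.Basis.map_apply]
  exact (hv i).map (cancelBialgHom R R₁ T A)

variable [Module.FaithfullyFlat R₁ T]

/-- Uniqueness of group-like lifts over every `R₁`-algebra. -/
theorem unique_of_tower
    (hT : ∃ (κ : Type u) (v : Module.Basis κ T (T ⊗[R] A)), ∀ i, IsGroupLikeElem T (v i))
    (S : Type u) [CommRing S] [Algebra R S] [Algebra R₁ S] [IsScalarTower R R₁ S]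
    (I : Ideal R) (hI : ∀ x ∈ I, IsNilpotent x) {g g' : S ⊗[R] A}
    (hg : IsGroupLikeElem S g) (hg' : IsGroupLikeElem S g')
    (h : g - g' ∈ I.map (algebraMap R (S ⊗[R] A))) : g = g' := by
  obtain ⟨κ', v', hv'⟩ := hasGLBasis_bcMap (A := A)
    ((Algebra.TensorProduct.includeRight : T →ₐ[R₁] S ⊗[R₁] T).restrictScalars R) hT
  apply bcMap_injective (A := A)
    (Algebra.TensorProduct.includeLeft : S →ₐ[R] S ⊗[R₁] T) (fun s => rfl)
  apply unique_lift v' hv' (I.map (algebraMap R (S ⊗[R₁] T))) (map_nil I hI)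
    (isGroupLikeElem_bcMap _ hg) (isGroupLikeElem_bcMap _ hg')
  rw [map_map_eq, ← map_sub]
  exact bcMap_mem _ I h

end TowerGL

end Groth.Agent.Lib.GLLift55
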