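import Groth.Agent.Lib.GLLift55d

/-!
# Zariski descent for group-like lifts (helper55)

* `eq_zero_of_forall_one_tmul`: joint injectivity of `M → ∏ R_f ⊗ M` over a cover.
* `isGroupLikeElem_of_zariski`, `mem_map_of_zariski`.
* `HasGLCover`, `hasGLCover_of_isMultType`.
* `unique_global`, `exists_lift_global`: uniqueness and existence of group-like lifts modulo a nil ideal
  for groups of multiplicative type.
-/

set_option autoImplicit false
set_option linter.unusedSectionVars false
set_option linter.unusedVariables false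

universe u

open TensorProduct

namespace Groth.Agent.Lib.GLLift55

open Groth.Agent.Lib.MultType58

section Zar

variable {R : Type u} [CommRing R]

theorem eq_zero_of_forall_one_tmul {M : Type u} [AddCommGroup M] [Module R M]
    (t : Finset R) (ht : Ideal.span (t : Set R) = ⊤) (z : M)
    (h : ∀ f ∈ t, (1 : Localization.Away f) ⊗ₜ[R] z = 0) : z = 0 := by
  rw [← Submodule.mem_bot R]
  refine Submodule.mem_of_span_eq_top_of_smul_pow_mem ⊥ (t : Set R) ht z fun f => ?_
  have h2 : TensorProduct.mk R (Localization.Away (f : R)) M 1 z =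
      TensorProduct.mk R (Localization.Away (f : R)) M 1 0 := by
    rw [map_zero]
    exact h f f.2
  obtain ⟨n, hn⟩ := IsLocalizedModule.Away.exists_of_eq (f : R) h2
  refine ⟨n, ?_⟩
  rw [Submodule.mem_bot, hn, smul_zero]

end Zar

section GenBC

variable {R : Type u} [CommRing R] {A : Type u} [CommRing A] [HopfAlgebra R A]
variable (T : Type u) [CommRing T] [Algebra R T]

/-- Consequences of `1 ⊗ g` being group-like, without flatness. -/
theorem counit_of_one_tmul {g : A} (hg : IsGroupLikeElem T ((1 : T) ⊗ₜ[R] g)) :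
    (1 : T) ⊗ₜ[R] (Coalgebra.counit (R := R) g - 1) = (0 : T ⊗[R] R) := by
  have h := hg.counit_eq_one
  rw [counit_tmul', mul_one] at h
  have e : ∀ r : R, (1 : T) ⊗ₜ[R] r = (algebraMap R T r) ⊗ₜ[R] (1 : R) := by
    intro r
    rw [Algebra.algebraMap_eq_smul_one, TensorProduct.smul_tmul, smul_eq_mul, mul_one]
  rw [e, map_sub, h, map_one, sub_self, TensorProduct.zero_tmul]

theorem comul_of_one_tmul {g : A} (hg : IsGroupLikeElem T ((1 : T) ⊗ₜ[R] g)) :
    (1 : T) ⊗ₜ[R] (Coalgebra.comul (R := R) g - g ⊗ₜ[R] g) = (0 : T ⊗[R] (A ⊗[R] A)) := by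
  have h := hg.comul_eq_tmul_self
  rw [← (reprBC T (Coalgebra.Repr.arbitrary R g)).eq] at h
  simp only [reprBC] at h
  rw [TensorProduct.tmul_sub, sub_eq_zero]
  apply (TensorProduct.AlgebraTensorModule.distribBaseChange R T A A).injective
  rw [TensorProduct.AlgebraTensorModule.distribBaseChange_tmul, ← h,
    ← (Coalgebra.Repr.arbitrary R g).eq, TensorProduct.tmul_sum, map_sum]
  refine Finset.sum_congr rfl fun i _ => ?_
  rw [TensorProduct.AlgebraTensorModule.distribBaseChange_tmul]

/-- Congruences modulo `I` pass to the quotient after base change, without flatness. -/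
theorem one_tmul_mkQ_eq_zero (I : Ideal R) (M : Type u) [CommRing M] [Algebra R M] {x : M}
    (hx : (1 : T) ⊗ₜ[R] x ∈ I.map (algebraMap R (T ⊗[R] M))) :
    (1 : T) ⊗ₜ[R] (Submodule.mkQ (I • (⊤ : Submodule R M)) x) = 0 := by
  have hx' : (1 : T) ⊗ₜ[R] x ∈ (I • (⊤ : Submodule R (T ⊗[R] M))) := by
    rw [Ideal.smul_top_eq_map]
    exact hx
  set q : M →ₗ[R] M ⧸ (I • (⊤ : Submodule R M)) := Submodule.mkQ _ with hq
  have hkill : ∀ z ∈ (I • (⊤ : Submodule R (T ⊗[R] M))), (q.lTensor T) z = 0 := by
    intro z hz
    refine Submodule.smul_induction_on hz ?_ ?_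
    · intro j hj w hw
      clear hw
      induction w using TensorProduct.induction_on with
      | zero => simp
      | add a b ha hb => rw [smul_add, map_add, ha, hb, add_zero]
      | tmul t m =>
        rw [TensorProduct.smul_tmul', LinearMap.lTensor_tmul, TensorProduct.smul_tmul,
          ← map_smul]
        have : q (j • m) = 0 := by
          rw [hq, Submodule.mkQ_apply, Submodule.Quotient.mk_eq_zero]
          exact Submodule.smul_mem_smul hj trivial
        rw [this, TensorProduct.tmul_zero]
    · intro a b ha hb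
      rw [map_add, ha, hb, add_zero]
  have h1 := hkill _ hx'
  rw [LinearMap.lTensor_tmul] at h1
  exact h1

end GenBC

section ZarGL

variable {R : Type u} [CommRing R] {A : Type u} [CommRing A] [HopfAlgebra R A]

/-- Zariski descent of group-likeness. -/
theorem isGroupLikeElem_of_zariski (t : Finset R) (ht : Ideal.span (t : Set R) = ⊤) {g : A}
    (h : ∀ f ∈ t, IsGroupLikeElem (Localization.Away f) ((1 : Localization.Away f) ⊗ₜ[R] g)) :
    IsGroupLikeElem R g where
  counit_eq_one := by
    rw [← sub_eq_zero]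
    exact eq_zero_of_forall_one_tmul t ht _ fun f hf => counit_of_one_tmul _ (h f hf)
  comul_eq_tmul_self := by
    rw [← sub_eq_zero]
    exact eq_zero_of_forall_one_tmul t ht _ fun f hf => comul_of_one_tmul _ (h f hf)

/-- Zariski descent of congruences modulo `I`. -/
theorem mem_map_of_zariski (t : Finset R) (ht : Ideal.span (t : Set R) = ⊤) (I : Ideal R)
    (M : Type u) [CommRing M] [Algebra R M] {x : M}
    (h : ∀ f ∈ t, (1 : Localization.Away f) ⊗ₜ[R] x ∈
      I.map (algebraMap R (Localization.Away f ⊗[R] M))) :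
    x ∈ I.map (algebraMap R M) := by
  have h2 : Submodule.mkQ (I • (⊤ : Submodule R M)) x = 0 :=
    eq_zero_of_forall_one_tmul t ht _ fun f hf => one_tmul_mkQ_eq_zero _ I M (h f hf)
  rw [Submodule.mkQ_apply, Submodule.Quotient.mk_eq_zero] at h2
  have h3 := Ideal.smul_top_eq_map (R := R) (S := M) I
  have h4 : x ∈ (I.map (algebraMap R M)).restrictScalars R := by
    rw [← h3]
    exact h2
  exact h4

end ZarGL

section Cover

variable (R : Type u) [CommRing R] (A : Type u) [CommRing A] [HopfAlgebra R A]

/-- Zariski-locally, after a faithfully flat base change, `A` has a basis of group-likes. -/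
def HasGLCover : Prop :=
  ∃ t : Finset R, Ideal.span (t : Set R) = ⊤ ∧ ∀ f ∈ t,
    ∃ (T : Type u) (_ : CommRing T) (_ : Algebra (Localization.Away f) T),
      Module.FaithfullyFlat (Localization.Away f) T ∧
      ∃ (κ : Type u)
        (v : Module.Basis κ T (T ⊗[Localization.Away f] (Localization.Away f ⊗[R] A))),
        ∀ i, IsGroupLikeElem T (v i)

variable {R A}

theorem hasGLBasis_of_isDiag (h : SGA3b.IsDiag R A) :
    ∃ (κ : Type u) (v : Module.Basis κ R A), ∀ i, IsGroupLikeElem R (v i) := by
  obtain ⟨M, _, ⟨e⟩⟩ := h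
  refine ⟨M, (MonoidAlgebra.basis M R).map e.symm.toLinearEquiv, fun i => ?_⟩
  rw [Module.Basis.map_apply, MonoidAlgebra.basis_apply]
  exact (MonoidAlgebra.isGroupLikeElem_single_one (R := R) i).map e.symm

theorem hasGLCover_of_isMultType (h : SGA3b.IsMultType R A) : HasGLCover R A := by
  obtain ⟨s, hs, hf⟩ := h
  obtain ⟨t, hts, ht⟩ := (Ideal.span_eq_top_iff_finite s).mp hs
  refine ⟨t, ht, fun f hft => ?_⟩
  obtain ⟨R', i1, i2, hff, hd⟩ := hf f (hts hft)
  exact ⟨R', i1, i2, hff, hasGLBasis_of_isDiag hd⟩

/-- Uniqueness of group-like lifts over the localisations and their pairwise tensor products. -/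
theorem unique_local (I : Ideal R) (hI : ∀ x ∈ I, IsNilpotent x) (f : R)
    (hT : ∃ (T : Type u) (_ : CommRing T) (_ : Algebra (Localization.Away f) T),
      Module.FaithfullyFlat (Localization.Away f) T ∧
      ∃ (κ : Type u)
        (v : Module.Basis κ T (T ⊗[Localization.Away f] (Localization.Away f ⊗[R] A))),
        ∀ i, IsGroupLikeElem T (v i))
    (S : Type u) [CommRing S] [Algebra R S] [Algebra (Localization.Away f) S]
    [IsScalarTower R (Localization.Away f) S] {g g' : S ⊗[R] A}
    (hg : IsGroupLikeElem S g) (hg' : IsGroupLikeElem S g')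
    (h : g - g' ∈ I.map (algebraMap R (S ⊗[R] A))) : g = g' := by
  obtain ⟨T, _, _, hff, hb⟩ := hT
  letI : Algebra R T :=
    ((algebraMap (Localization.Away f) T).comp (algebraMap R (Localization.Away f))).toAlgebra
  haveI : IsScalarTower R (Localization.Away f) T := IsScalarTower.of_algebraMap_eq' rfl
  exact unique_of_tower (Localization.Away f) T (hasGLBasis_cancel (Localization.Away f) T hb)
    S I hI hg hg' h

theorem unique_global (hcov : HasGLCover R A) (I : Ideal R) (hI : ∀ x ∈ I, IsNilpotent x)
    {g g' : A} (hg : IsGroupLikeElem R g) (hg' : IsGroupLikeElem R g')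
    (h : g - g' ∈ I.map (algebraMap R A)) : g = g' := by
  obtain ⟨t, ht, hT⟩ := hcov
  rw [← sub_eq_zero]
  refine eq_zero_of_forall_one_tmul t ht _ fun f hf => ?_
  rw [TensorProduct.tmul_sub, sub_eq_zero]
  apply unique_local I hI f (hT f hf) (Localization.Away f)
    (isGroupLikeElem_one_tmul _ hg) (isGroupLikeElem_one_tmul _ hg')
  rw [← TensorProduct.tmul_sub, ← map_map_eq]
  exact tmul_mem_map _ I h _

theorem rTensor_eq_bcMap {S T : Type u} [CommRing S] [Algebra R S] [CommRing T] [Algebra R T]
    (ι : S →ₐ[R] T) (x : S ⊗[R] A) :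
    LinearMap.rTensor A ι.toLinearMap x = bcMap A ι x := by
  induction x using TensorProduct.induction_on with
  | zero => simp
  | add x y hx hy => rw [map_add, map_add, hx, hy]
  | tmul s a => rfl

/-- Existence of group-like lifts modulo a nil ideal. -/
theorem exists_lift_global (hcov : HasGLCover R A) (I : Ideal R) (hI : ∀ x ∈ I, IsNilpotent x)
    (b : A)
    (hΔ : Coalgebra.comul (R := R) b - b ⊗ₜ[R] b ∈ I.map (algebraMap R (A ⊗[R] A)))
    (hε : Coalgebra.counit (R := R) b - 1 ∈ I) :
    ∃ g : A, IsGroupLikeElem R g ∧ g - b ∈ I.map (algebraMap R A) := by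
  obtain ⟨t, ht, hT⟩ := hcov
  have hloc : ∀ f : R, ∃ y : Localization.Away f ⊗[R] A, f ∈ t →
      (IsGroupLikeElem (Localization.Away f) y ∧
        y - (1 : Localization.Away f) ⊗ₜ[R] b ∈
          I.map (algebraMap R (Localization.Away f ⊗[R] A))) := by
    intro f
    by_cases hf : f ∈ t
    · obtain ⟨T, _, _, hff, hb⟩ := hT f hf
      obtain ⟨y, hy1, hy2⟩ := exists_lift_of_faithfullyFlat T
        (I.map (algebraMap R (Localization.Away f))) (map_nil I hI) hb
        ((1 : Localization.Away f) ⊗ₜ[R] b)
        (comul_one_tmul_sub_mem (Localization.Away f) I b hΔ)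
        (counit_one_tmul_sub_mem (Localization.Away f) I b hε)
      rw [map_map_eq] at hy2
      exact ⟨y, fun _ => ⟨hy1, hy2⟩⟩
    · exact ⟨0, fun h => absurd h hf⟩
  choose y hy using hloc
  have hcompat : ∀ f ∈ t, ∀ f' ∈ t,
      (LinearMap.rTensor A ((Algebra.TensorProduct.includeLeft :
        Localization.Away f →ₐ[R] Localization.Away f ⊗[R] Localization.Away f').toLinearMap))
          (y f) =
      (LinearMap.rTensor A ((Algebra.TensorProduct.includeRight :
        Localization.Away f' →ₐ[R] Localization.Away f ⊗[R] Localization.Away f').toLinearMap))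
          (y f') := by
    intro f hf f' hf'
    rw [rTensor_eq_bcMap, rTensor_eq_bcMap]
    apply unique_local I hI f (hT f hf) (Localization.Away f ⊗[R] Localization.Away f')
      (isGroupLikeElem_bcMap _ (hy f hf).1) (isGroupLikeElem_bcMap _ (hy f' hf').1)
    have h1 := bcMap_mem (A := A) (Algebra.TensorProduct.includeLeft :
      Localization.Away f →ₐ[R] Localization.Away f ⊗[R] Localization.Away f') I (hy f hf).2
    have h2 := bcMap_mem (A := A) (Algebra.TensorProduct.includeRight :
      Localization.Away f' →ₐ[R] Localization.Away f ⊗[R] Localization.Away f') I (hy f' hf').2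
    rw [map_sub, bcMap_one_tmul] at h1 h2
    have h3 := Ideal.sub_mem _ h1 h2
    rwa [sub_sub_sub_cancel_right] at h3
  obtain ⟨g, hg⟩ := Groth.Agent.Lib.ZarGlue55.exists_glue t ht y hcompat
  refine ⟨g, isGroupLikeElem_of_zariski t ht fun f hf => ?_,
    mem_map_of_zariski t ht I A fun f hf => ?_⟩
  · rw [hg f hf]
    exact (hy f hf).1
  · rw [TensorProduct.tmul_sub, hg f hf]
    exact (hy f hf).2

end Cover

end Groth.Agent.Lib.GLLift55
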