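import Groth.Agent.Lib.GLLift55e

/-!
# Comparing two bases of group-likes modulo a nil ideal (helper55)

`mem_span_of_lifts`: `T ⊗[R] A` with a basis `v` of group-likes; `(R/I) ⊗[R] A` with a basis `w` of group-likes
which lift to group-likes `g m` of `A`.  Then every `v i` is a `T`-linear combination of the `1 ⊗ g m`.
-/

set_option autoImplicit false
set_option linter.unusedSectionVars false
set_option linter.unusedVariables false

universe u

open TensorProduct

namespace Groth.Agent.Lib.GLLift55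

open Groth.Agent.Lib.MultType58

section Basics

variable {R : Type u} [CommRing R] {A : Type u} [CommRing A] [HopfAlgebra R A]
variable {S : Type u} [CommRing S] [Algebra R S] {T : Type u} [CommRing T] [Algebra R T]

/-- Base change of a basis along `ι : S → T`. -/
noncomputable def bcBasis (ι : S →ₐ[R] T) {κ : Type u} (v : Module.Basis κ S (S ⊗[R] A)) :
    Module.Basis κ T (T ⊗[R] A) :=
  letI : Algebra S T := ι.toRingHom.toAlgebra
  haveI : IsScalarTower R S T := IsScalarTower.of_algebraMap_eq' (ι.comp_algebraMap).symm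
  (v.baseChange T).map (Algebra.TensorProduct.cancelBaseChange R S T T A).toLinearEquiv

theorem bcBasis_apply (ι : S →ₐ[R] T) {κ : Type u} (v : Module.Basis κ S (S ⊗[R] A)) (i : κ) :
    bcBasis ι v i = bcMap A ι (v i) := by
  letI : Algebra S T := ι.toRingHom.toAlgebra
  haveI : IsScalarTower R S T := IsScalarTower.of_algebraMap_eq' (ι.comp_algebraMap).symm
  rw [bcMap_eq_cancel ι (fun _ => rfl)]
  unfold bcBasis
  rw [Module.Basis.map_apply, Module.Basis.baseChange_apply]
  rfl

/-- `bcMap` is semilinear. -/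
theorem bcMap_smul (ι : S →ₐ[R] T) (s : S) (x : S ⊗[R] A) :
    bcMap A ι (s • x) = ι s • bcMap A ι x := by
  rw [Algebra.smul_def, Algebra.smul_def, map_mul, Algebra.TensorProduct.algebraMap_apply,
    Algebra.TensorProduct.algebraMap_apply, Algebra.TensorProduct.map_tmul, map_one]
  rfl

/-- `1 ⊗ x = 1 ⊗ y` in `(R/I) ⊗ M` means `x - y ∈ I M` (for any algebra `M`). -/
theorem mem_map_of_one_tmul_eq' (I : Ideal R) {M : Type u} [CommRing M] [Algebra R M] {x y : M}
    (h : (1 : R ⧸ I) ⊗ₜ[R] x = (1 : R ⧸ I) ⊗ₜ[R] y) : x - y ∈ I.map (algebraMap R M) := by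
  have h1 : (Ideal.Quotient.mk I (1 : R)) ⊗ₜ[R] (x - y) = (0 : (R ⧸ I) ⊗[R] M) := by
    rw [TensorProduct.tmul_sub, map_one, h, sub_self]
  have h2 := congrArg (TensorProduct.quotTensorEquivQuotSMul M I) h1
  rw [TensorProduct.quotTensorEquivQuotSMul_mk_tmul, map_zero, one_smul,
    Submodule.Quotient.mk_eq_zero, Ideal.smul_top_eq_map] at h2
  exact h2

theorem assoc_bcMap_includeRight' (y : T ⊗[R] A) :
    TensorProduct.assoc R S T A
      (bcMap A (Algebra.TensorProduct.includeRight : T →ₐ[R] S ⊗[R] T) y) =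
      (1 : S) ⊗ₜ[R] y := by
  induction y using TensorProduct.induction_on with
  | zero => simp
  | add x y hx hy => rw [map_add, map_add, hx, hy, TensorProduct.tmul_add]
  | tmul t a =>
    rw [Algebra.TensorProduct.map_tmul, Algebra.TensorProduct.includeRight_apply,
      AlgHom.id_apply, TensorProduct.assoc_tmul]

end Basics

section GLBasis2

variable {S : Type u} [CommRing S] {B : Type u} [CommRing B] [HopfAlgebra S B]
variable {ι : Type u} (v : Module.Basis ι S B) (hv : ∀ i, IsGroupLikeElem S (v i))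

include hv in
theorem repr_orth {g : B} (hg : IsGroupLikeElem S g) {i j : ι} (hij : i ≠ j) :
    v.repr g i * v.repr g j = 0 := by
  classical
  have h1 := repr_comul v hv g i j
  rw [if_neg hij, hg.comul_eq_tmul_self, Module.Basis.tensorProduct_repr_tmul_apply,
    smul_eq_mul, mul_comm] at h1
  exact h1

include hv in
theorem repr_sum {g : B} (hg : IsGroupLikeElem S g) :
    ∑ i ∈ (v.repr g).support, v.repr g i = 1 := by
  have := counit_eq_sum v hv g
  rw [hg.counit_eq_one, Finsupp.sum] at this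
  exact this.symm

include hv in
theorem repr_coi {g : B} (hg : IsGroupLikeElem S g) :
    CompleteOrthogonalIdempotents (fun i : (v.repr g).support => v.repr g i) := by
  refine ⟨⟨fun i => repr_idem v hv hg i, fun i j hij => ?_⟩, ?_⟩
  · exact repr_orth v hv hg (fun h => hij (Subtype.ext h))
  · rw [Finset.sum_coe_sort (v.repr g).support (fun i => v.repr g i)]
    exact repr_sum v hv hg

/-- A combination of group-likes with complete orthogonal idempotent coefficients is group-like. -/
theorem isGroupLikeElem_sum_coi {κ : Type*} [Fintype κ] [DecidableEq κ] {e : κ → S}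
    (he : CompleteOrthogonalIdempotents e) (x : κ → B) (hx : ∀ i, IsGroupLikeElem S (x i)) :
    IsGroupLikeElem S (∑ i, e i • x i) := by
  refine ⟨?_, ?_⟩
  · rw [map_sum]
    simp only [map_smul, (hx _).counit_eq_one, smul_eq_mul, mul_one]
    exact he.complete
  · rw [map_sum, TensorProduct.sum_tmul]
    refine Finset.sum_congr rfl fun i _ => ?_
    rw [map_smul, (hx i).comul_eq_tmul_self, TensorProduct.tmul_sum,
      Finset.sum_eq_single i]
    · rw [TensorProduct.smul_tmul_smul, (he.idem i).eq]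
    · intro j _ hji
      rw [TensorProduct.smul_tmul_smul, he.ortho (Ne.symm hji), zero_smul]
    · intro h
      exact absurd (Finset.mem_univ i) h

end GLBasis2

section Key

variable {R : Type u} [CommRing R] {A : Type u} [CommRing A] [HopfAlgebra R A]
variable (T : Type u) [CommRing T] [Algebra R T]

theorem includeRight_ker_nil (I : Ideal R) (hI : ∀ x ∈ I, IsNilpotent x) :
    ∀ x ∈ RingHom.ker ((Algebra.TensorProduct.includeRight : T →ₐ[R] (R ⧸ I) ⊗[R] T) :
      T →+* (R ⧸ I) ⊗[R] T), IsNilpotent x := by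
  intro x hx
  rw [RingHom.mem_ker] at hx
  have h1 : (1 : R ⧸ I) ⊗ₜ[R] x = (1 : R ⧸ I) ⊗ₜ[R] (0 : T) := by
    rw [TensorProduct.tmul_zero]
    exact hx
  have h2 := mem_map_of_one_tmul_eq' I h1
  rw [sub_zero] at h2
  exact map_nil I hI x h2

theorem includeRight_surj (I : Ideal R) (z : (R ⧸ I) ⊗[R] T) :
    z ∈ ((Algebra.TensorProduct.includeRight : T →ₐ[R] (R ⧸ I) ⊗[R] T) :
      T →+* (R ⧸ I) ⊗[R] T).range := by
  induction z using TensorProduct.induction_on with
  | zero => exact Subring.zero_mem _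
  | add x y hx hy => exact Subring.add_mem _ hx hy
  | tmul r t =>
    obtain ⟨r, rfl⟩ := Ideal.Quotient.mk_surjective r
    refine ⟨r • t, ?_⟩
    show (1 : R ⧸ I) ⊗ₜ[R] (r • t) = (Ideal.Quotient.mk I r) ⊗ₜ[R] t
    rw [← TensorProduct.smul_tmul, Algebra.smul_def, mul_one]
    rfl

/-- Comparison of two bases of group-likes modulo a nil ideal. -/
theorem mem_span_of_lifts {κ : Type u} (v : Module.Basis κ T (T ⊗[R] A))
    (hv : ∀ i, IsGroupLikeElem T (v i)) (I : Ideal R) (hI : ∀ x ∈ I, IsNilpotent x)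
    {μ : Type u} (w : Module.Basis μ (R ⧸ I) ((R ⧸ I) ⊗[R] A))
    (hw : ∀ m, IsGroupLikeElem (R ⧸ I) (w m)) (g : μ → A)
    (hg : ∀ m, IsGroupLikeElem R (g m)) (hgw : ∀ m, (1 : R ⧸ I) ⊗ₜ[R] g m = w m) (i : κ) :
    v i ∈ Submodule.span T (Set.range fun m => (1 : T) ⊗ₜ[R] g m) := by
  classical
  set ιL : (R ⧸ I) →ₐ[R] (R ⧸ I) ⊗[R] T := Algebra.TensorProduct.includeLeft with hιL
  set ιR : T →ₐ[R] (R ⧸ I) ⊗[R] T := Algebra.TensorProduct.includeRight with hιR
  set w' := bcBasis (A := A) ιL w with hw'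
  have hw'g : ∀ m, w' m = (1 : (R ⧸ I) ⊗[R] T) ⊗ₜ[R] g m := by
    intro m
    rw [hw', bcBasis_apply, ← hgw, bcMap_one_tmul]
  have hw'gl : ∀ m, IsGroupLikeElem ((R ⧸ I) ⊗[R] T) (w' m) := by
    intro m
    rw [hw', bcBasis_apply]
    exact isGroupLikeElem_bcMap _ (hw m)
  set x := bcMap A ιR (v i) with hx
  have hxgl : IsGroupLikeElem ((R ⧸ I) ⊗[R] T) x := isGroupLikeElem_bcMap _ (hv i)
  set c := w'.repr x with hc
  have hco := repr_coi w' hw'gl hxgl
  obtain ⟨e, he, hee⟩ := CompleteOrthogonalIdempotents.lift_of_isNilpotent_ker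
    (ιR : T →+* (R ⧸ I) ⊗[R] T) (includeRight_ker_nil T I hI) hco
    (fun m => includeRight_surj T I _)
  have hee' : ∀ m : c.support, ιR (e m) = c m := fun m => congrFun hee m
  set h := ∑ m : c.support, e m • ((1 : T) ⊗ₜ[R] g (m : μ)) with hh
  have hgl : IsGroupLikeElem T h :=
    isGroupLikeElem_sum_coi he _ (fun m => isGroupLikeElem_one_tmul T (hg m))
  have himg : bcMap A ιR h = x := by
    rw [hh, map_sum]
    have h1 : ∀ m : c.support, bcMap A ιR (e m • ((1 : T) ⊗ₜ[R] g (m : μ))) =
        c m • w' m := by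
      intro m
      rw [bcMap_smul, bcMap_one_tmul, hee', hw'g]
    simp only [h1]
    rw [Finset.sum_coe_sort c.support (fun m => c m • w' m)]
    have := w'.linearCombination_repr x
    rw [Finsupp.linearCombination_apply, Finsupp.sum] at this
    exact this
  have hcong : h - v i ∈ I.map (algebraMap R (T ⊗[R] A)) := by
    apply mem_map_of_one_tmul_eq' I
    rw [← assoc_bcMap_includeRight' (S := R ⧸ I), ← assoc_bcMap_includeRight' (S := R ⧸ I)]
    congr 1
  rw [← map_map_eq] at hcong
  have heq : h = v i := unique_lift v hv (I.map (algebraMap R T)) (map_nil I hI) hgl (hv i) hcong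
  rw [← heq, hh]
  refine Submodule.sum_mem _ fun m _ => Submodule.smul_mem _ _ (Submodule.subset_span ⟨m, rfl⟩)

end Key

end Groth.Agent.Lib.GLLift55
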