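import Groth.Agent.Lib.GLLift55f
import Groth.Agent.Lib.DiagSub41

/-!
# Lifts of a basis of group-likes modulo a nil ideal form a basis (helper55)

`A` of multiplicative type over `R`, `I` a nil ideal, `w` a basis of group-likes of `(R/I) ⊗ A`, `g m` group-like
lifts of the `w m`.  Then the `g m` span `A` (`span_eq_top_of_lifts`) and are linearly independent
(`linearIndependent_of_lifts`).
-/

set_option autoImplicit false
set_option linter.unusedSectionVars false
set_option linter.unusedVariables false

universe u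

open TensorProduct

namespace Groth.Agent.Lib.GLLift55

open Groth.Agent.Lib.MultType58
open Groth.Agent.Lib

variable {R : Type u} [CommRing R] {A : Type u} [CommRing A] [HopfAlgebra R A]

theorem span_eq_top_of_lifts (hcov : HasGLCover R A) (I : Ideal R)
    (hI : ∀ x ∈ I, IsNilpotent x) {μ : Type u}
    (w : Module.Basis μ (R ⧸ I) ((R ⧸ I) ⊗[R] A))
    (hw : ∀ m, IsGroupLikeElem (R ⧸ I) (w m)) (g : μ → A)
    (hg : ∀ m, IsGroupLikeElem R (g m)) (hgw : ∀ m, (1 : R ⧸ I) ⊗ₜ[R] g m = w m) :
    Submodule.span R (Set.range g) = ⊤ := by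
  obtain ⟨t, ht, hT⟩ := hcov
  set N := Submodule.span R (Set.range g) with hN
  rw [eq_top_iff]
  rintro a -
  have h0 : N.mkQ a = 0 := by
    refine eq_zero_of_forall_one_tmul t ht _ fun f hf => ?_
    obtain ⟨T, _, _, hff, hb⟩ := hT f hf
    letI : Algebra R T :=
      ((algebraMap (Localization.Away f) T).comp (algebraMap R (Localization.Away f))).toAlgebra
    haveI : IsScalarTower R (Localization.Away f) T := IsScalarTower.of_algebraMap_eq' rfl
    apply one_tmul_eq_zero_of_tower R (Localization.Away f) T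
    obtain ⟨κ, v, hv⟩ := hasGLBasis_cancel (Localization.Away f) T hb
    have h1 : Submodule.span T (Set.range fun m => (1 : T) ⊗ₜ[R] g m) ≤
        LinearMap.ker (N.mkQ.baseChange T) := by
      rw [Submodule.span_le]
      rintro _ ⟨m, rfl⟩
      rw [SetLike.mem_coe, LinearMap.mem_ker, LinearMap.baseChange_tmul]
      have : N.mkQ (g m) = 0 := by
        rw [Submodule.mkQ_apply, Submodule.Quotient.mk_eq_zero]
        exact Submodule.subset_span ⟨m, rfl⟩
      rw [this, TensorProduct.tmul_zero]
    have h2 : (⊤ : Submodule T (T ⊗[R] A)) ≤ LinearMap.ker (N.mkQ.baseChange T) := by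
      rw [← v.span_eq, Submodule.span_le]
      rintro _ ⟨i, rfl⟩
      exact h1 (mem_span_of_lifts T v hv I hI w hw g hg hgw i)
    have h3 : (1 : T) ⊗ₜ[R] a ∈ LinearMap.ker (N.mkQ.baseChange T) := h2 trivial
    rw [LinearMap.mem_ker, LinearMap.baseChange_tmul] at h3
    exact h3
  rw [Submodule.mkQ_apply, Submodule.Quotient.mk_eq_zero] at h0
  exact h0

theorem linearIndependent_of_lifts (h : SGA3b.IsMultType R A) (I : Ideal R)
    (hI : ∀ x ∈ I, IsNilpotent x) {μ : Type u}
    (w : Module.Basis μ (R ⧸ I) ((R ⧸ I) ⊗[R] A)) (g : μ → A)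
    (hg : ∀ m, IsGroupLikeElem R (g m)) (hgw : ∀ m, (1 : R ⧸ I) ⊗ₜ[R] g m = w m) :
    LinearIndependent R g := by
  classical
  rw [linearIndependent_iff']
  intro s r h0 k hk
  have h1 := DiagSub41.indepMod_of_isMultType h μ s g hg r h0 k hk
  have h2 : (⨆ i ∈ s.erase k, DiagSub41.annEl R (g i - g k)) = ⊥ := by
    rw [eq_bot_iff]
    refine iSup₂_le fun i hi => ?_
    obtain ⟨e, he, hann⟩ := DiagSub41.annIdem_of_isMultType h (g i) (g k) (hg i) (hg k)
    have hik : i ≠ k := Finset.ne_of_mem_erase hi
    have he0 : e = 0 := by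
      apply he.eq_zero_of_isNilpotent
      apply hI
      have h3 : e ∈ DiagSub41.annEl R (g i - g k) := by
        rw [hann]
        exact Ideal.mem_span_singleton_self _
      rw [DiagSub41.mem_annEl] at h3
      have h4 : (1 : R ⧸ I) ⊗ₜ[R] (e • (g i - g k)) = 0 := by
        rw [h3, TensorProduct.tmul_zero]
      rw [TensorProduct.tmul_smul, TensorProduct.tmul_sub, hgw, hgw,
        ← algebraMap_smul (R ⧸ I) e (w i - w k)] at h4
      have h5 := congrArg (fun z => w.repr z i) h4
      simp only [map_smul, map_sub, Module.Basis.repr_self, Finsupp.smul_apply,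
        Finsupp.sub_apply, Finsupp.single_eq_same, map_zero, Finsupp.zero_apply] at h5
      rw [Finsupp.single_eq_of_ne hik, sub_zero, smul_eq_mul, mul_one] at h5
      exact Ideal.Quotient.eq_zero_iff_mem.1 h5
    rw [hann, he0, Ideal.span_singleton_eq_bot.2 rfl]
  rw [h2] at h1
  exact (Submodule.mem_bot R).1 h1

end Groth.Agent.Lib.GLLift55
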