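import Groth.Agent.Lib.StabLie38b

set_option autoImplicit false
set_option linter.unusedSectionVars false
universe u v w
open TensorProduct

namespace Groth.Agent.Lib.InvFrac38
open Groth.Agent.Lib.Comod Groth.Agent.Lib.Cartier38 Groth.Agent.Lib.GLinGrading38
  Groth.Agent.Lib.GITOrbit38 Groth.Agent.Lib.GITQuot38 Groth.Agent.Lib.OrbitDim38
  Groth.Agent.Lib.OrbitOpen38 Groth.Agent.Lib.Reynolds38 Groth.Agent.Lib.GITPts38
  Groth.Agent.Lib.StabLie38

section Sep
variable {k : Type u} [Field k] [IsAlgClosed k] {A : Type v} [CommRing A] [Algebra k A]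
  [Algebra.FiniteType k A] [IsReduced A]

/-- Rational points of a reduced finitely generated algebra separate tensors. -/
theorem eq_zero_of_forall_contr {M : Type w} [AddCommGroup M] [Module k M] (t : M ⊗[k] A)
    (h : ∀ g : A →ₐ[k] k, contr M g.toLinearMap t = 0) : t = 0 := by
  classical
  let b := Module.Basis.ofVectorSpace k M
  apply (TensorProduct.equivFinsuppOfBasisLeft (N := A) b).injective
  rw [map_zero]
  ext i
  rw [Finsupp.zero_apply]
  apply (isNilpotent_of_forall_algHom_eq_zero (k := k) _ ?_).eq_zero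
  intro g
  have key : ∀ s : M ⊗[k] A, g (TensorProduct.equivFinsuppOfBasisLeft b s i) =
      b.coord i (contr M g.toLinearMap s) := by
    intro s
    induction s using TensorProduct.induction_on with
    | zero => simp
    | add x y hx hy => simp only [map_add, Finsupp.add_apply, hx, hy]
    | tmul m a =>
      rw [TensorProduct.equivFinsuppOfBasisLeft_apply_tmul_apply, contr_tmul, map_smul, map_smul]
      simp [mul_comm]
  rw [key, h g, map_zero]

end Sep

section ActAlg
variable {k : Type u} [Field k] {A : Type v} [CommRing A] [Bialgebra k A]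
  {R : Type w} [CommRing R] [Algebra k R] [HopfRep.Comod k A R] [GLin.IsCoactAlg k A R]

/-- contraction with a rational point, as an algebra map -/
noncomputable def contrAlg (R : Type w) [CommRing R] [Algebra k R] (g : A →ₐ[k] k) :
    R ⊗[k] A →ₐ[k] R :=
  (Algebra.TensorProduct.rid k k R).toAlgHom.comp (Algebra.TensorProduct.map (AlgHom.id k R) g)

theorem contrAlg_apply (g : A →ₐ[k] k) (t : R ⊗[k] A) :
    contrAlg R g t = contr R g.toLinearMap t := by
  induction t using TensorProduct.induction_on with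
  | zero => simp
  | add x y hx hy => simp only [map_add, hx, hy]
  | tmul r a => simp [contrAlg]

theorem act_eq (g : A →ₐ[k] k) (f : R) :
    HopfRep.Comod.act k A R g f = Comod.act R g.toLinearMap f := rfl

theorem act_eq_contrAlg (g : A →ₐ[k] k) (f : R) :
    HopfRep.Comod.act k A R g f = contrAlg R g (GLin.coactAlgHom k A R f) := by
  rw [contrAlg_apply]; rfl

theorem act_mul (g : A →ₐ[k] k) (f f' : R) :
    HopfRep.Comod.act k A R g (f * f') =
      HopfRep.Comod.act k A R g f * HopfRep.Comod.act k A R g f' := by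
  simp only [act_eq_contrAlg, map_mul]

/-- contraction is linear over the left factor -/
theorem contr_tmul_one_mul (φ : A →ₗ[k] k) (r : R) (t : R ⊗[k] A) :
    contr R φ ((r ⊗ₜ[k] (1 : A)) * t) = r * contr R φ t := by
  induction t using TensorProduct.induction_on with
  | zero => simp
  | add x y hx hy => simp only [mul_add, map_add, hx, hy]
  | tmul r' a => simp [Algebra.TensorProduct.tmul_mul_tmul]

/-- an invariant fraction is fixed by rational points -/
theorem mul_act_eq_of_frac {a b : R}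
    (hab : (a ⊗ₜ[k] (1 : A)) * HopfRep.Comod.coact (k := k) (A := A) b =
      (b ⊗ₜ[k] (1 : A)) * HopfRep.Comod.coact (k := k) (A := A) a) (g : A →ₐ[k] k) :
    a * HopfRep.Comod.act k A R g b = b * HopfRep.Comod.act k A R g a := by
  have := congrArg (contr R g.toLinearMap) hab
  rw [contr_tmul_one_mul, contr_tmul_one_mul] at this
  exact this

end ActAlg

section Main
variable {k : Type u} [Field k] [IsAlgClosed k] {A : Type u} [CommRing A] [HopfAlgebra k A]
  [Algebra.FiniteType k A] [IsReduced A]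
  {R : Type u} [CommRing R] [IsDomain R] [Algebra k R] [HopfRep.Comod k A R] [GLin.IsCoactAlg k A R]
  [Algebra.FiniteType k R]

omit [HopfAlgebra k A] [Algebra.FiniteType k A] [IsReduced A] [HopfRep.Comod k A R]
  [GLin.IsCoactAlg k A R] in
theorem exists_point_ne_zero {f : R} (hf : f ≠ 0) : ∃ y : R →ₐ[k] k, y f ≠ 0 := by
  by_contra hne
  push Not at hne
  exact hf (isNilpotent_of_forall_algHom_eq_zero (k := k) f hne).eq_zero

/-- rational points of the group act injectively on functions -/
theorem act_ne_zero (g : A →ₐ[k] k) {b : R} (hb : b ≠ 0) : HopfRep.Comod.act k A R g b ≠ 0 := by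
  obtain ⟨y, hy⟩ := exists_point_ne_zero (k := k) hb
  intro h0
  have e := (actPt_eq_iff (GLin.actPt k (WithConv.toConv g)⁻¹.ofConv y) _ g).1 rfl b
  rw [h0, map_zero] at e
  have e2 : GLin.actPt k g (GLin.actPt k (WithConv.toConv g)⁻¹.ofConv y) = y := by
    have := actPt_inv_actPt (WithConv.toConv g)⁻¹ y
    rwa [inv_inv] at this
  rw [e2] at e
  exact hy e.symm

/-- the ideal of denominators of the fraction `a / b` -/
def denom (a b : R) : Ideal R where
  carrier := {d | ∃ c, a * d = b * c}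
  add_mem' := by
    rintro d d' ⟨c, hc⟩ ⟨c', hc'⟩
    exact ⟨c + c', by rw [mul_add, mul_add, hc, hc']⟩
  zero_mem' := ⟨0, by simp⟩
  smul_mem' := by
    rintro r d ⟨c, hc⟩
    exact ⟨r * c, by rw [smul_eq_mul]; linear_combination r * hc⟩

theorem mem_denom {a b d : R} : d ∈ denom a b ↔ ∃ c, a * d = b * c := Iff.rfl

theorem key_identity {a b : R} (hb : b ≠ 0)
    (hab : (a ⊗ₜ[k] (1 : A)) * HopfRep.Comod.coact (k := k) (A := A) b =
      (b ⊗ₜ[k] (1 : A)) * HopfRep.Comod.coact (k := k) (A := A) a)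
    {d c : R} (h : a * d = b * c) (g : A →ₐ[k] k) :
    a * HopfRep.Comod.act k A R g d = b * HopfRep.Comod.act k A R g c := by
  have h1 : HopfRep.Comod.act k A R g a * HopfRep.Comod.act k A R g d =
      HopfRep.Comod.act k A R g b * HopfRep.Comod.act k A R g c := by
    rw [← act_mul, ← act_mul, h]
  have h2 := mul_act_eq_of_frac hab g
  apply mul_left_cancel₀ (act_ne_zero g hb)
  linear_combination (HopfRep.Comod.act k A R g d) * h2 + b * h1

theorem tensor_identity {a b : R} (hb : b ≠ 0)
    (hab : (a ⊗ₜ[k] (1 : A)) * HopfRep.Comod.coact (k := k) (A := A) b =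
      (b ⊗ₜ[k] (1 : A)) * HopfRep.Comod.coact (k := k) (A := A) a)
    {d c : R} (h : a * d = b * c) :
    (a ⊗ₜ[k] (1 : A)) * HopfRep.Comod.coact (k := k) (A := A) d =
      (b ⊗ₜ[k] (1 : A)) * HopfRep.Comod.coact (k := k) (A := A) c := by
  rw [← sub_eq_zero]
  apply eq_zero_of_forall_contr
  intro g
  rw [map_sub, contr_tmul_one_mul, contr_tmul_one_mul, sub_eq_zero]
  exact key_identity hb hab h g

theorem isSubcomod_denom {a b : R} (hb : b ≠ 0)
    (hab : (a ⊗ₜ[k] (1 : A)) * HopfRep.Comod.coact (k := k) (A := A) b =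
      (b ⊗ₜ[k] (1 : A)) * HopfRep.Comod.coact (k := k) (A := A) a) :
    HopfRep.IsSubcomod (k := k) (A := A) ((denom a b).restrictScalars k) := by
  rw [isSubcomod_iff_act]
  rintro φ d ⟨c, hc⟩
  refine ⟨Comod.act R φ c, ?_⟩
  have := congrArg (contr R φ) (tensor_identity hb hab hc)
  rw [contr_tmul_one_mul, contr_tmul_one_mul] at this
  exact this

theorem mem_invariants_of_frac {a b : R} (hb : b ≠ 0)
    (hab : (a ⊗ₜ[k] (1 : A)) * HopfRep.Comod.coact (k := k) (A := A) b =
      (b ⊗ₜ[k] (1 : A)) * HopfRep.Comod.coact (k := k) (A := A) a)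
    {d c : R} (h : a * d = b * c) (hd : d ∈ GLin.invariants k A R) :
    c ∈ GLin.invariants k A R := by
  show HopfRep.Comod.coact (k := k) (A := A) c = c ⊗ₜ[k] (1 : A)
  rw [← sub_eq_zero]
  apply eq_zero_of_forall_contr
  intro g
  rw [map_sub, contr_tmul, sub_eq_zero]
  have h1 := key_identity hb hab h g
  rw [act_of_mem_fixedPts g (show d ∈ HopfRep.fixedPts k A R from hd), h] at h1
  have h2 := mul_left_cancel₀ hb h1
  show HopfRep.Comod.act k A R g c = _
  rw [← h2]
  simp

/-- **Invariant rational functions are quotients of invariants** when a stable point exists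
(characteristic zero, linearly reductive group). -/
theorem exists_invariant_frac [CharZero k] (hG : HopfRep.IsLinearlyReductive k A) (x : R →ₐ[k] k)
    (hcl : ∀ z : R →ₐ[k] k, GLin.InOrbitClosure k A x z → ∃ g : A →ₐ[k] k, z = GLin.actPt k g x)
    (hfin : {g : A →ₐ[k] k | GLin.actPt k g x = x}.Finite)
    {a b : R} (hb : b ≠ 0)
    (hab : (a ⊗ₜ[k] (1 : A)) * HopfRep.Comod.coact (k := k) (A := A) b =
      (b ⊗ₜ[k] (1 : A)) * HopfRep.Comod.coact (k := k) (A := A) a) :
    ∃ c ∈ GLin.invariants k A R, ∃ d ∈ GLin.invariants k A R, d ≠ 0 ∧ a * d = b * c := by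
  obtain ⟨S, hS, hSiff⟩ := exists_invariant_set_stable (k := k) (A := A) (R := R) hG
  obtain ⟨f₀, hf₀S, hxf₀⟩ := (hSiff x).1 ⟨hcl, hfin⟩
  have hf₀ : f₀ ≠ 0 := by rintro rfl; exact hxf₀ (map_zero x)
  obtain ⟨y, hy⟩ := exists_point_ne_zero (k := k) (mul_ne_zero hf₀ hb)
  rw [map_mul] at hy
  have hyf₀ : y f₀ ≠ 0 := left_ne_zero_of_mul hy
  have hyb : y b ≠ 0 := right_ne_zero_of_mul hy
  obtain ⟨hycl, -⟩ := (hSiff y).2 ⟨f₀, hf₀S, hyf₀⟩
  have hsub := isSubcomod_denom hb hab
  have hbmem : b ∈ denom a b := ⟨a, mul_comm a b⟩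
  have hsup : denom a b ⊔ RingHom.ker (GLin.orbitHom k A y) = ⊤ := by
    by_contra hne
    obtain ⟨w, hw⟩ := GITQuot38.exists_algHom_ker_ge (k := k) _ hne
    have hw1 : GLin.InOrbitClosure k A y w := le_sup_right.trans hw
    obtain ⟨g, rfl⟩ := hycl w hw1
    have hmem : HopfRep.Comod.act k A R (WithConv.toConv g)⁻¹.ofConv b ∈ denom a b :=
      act_mem_of_isSubcomod hsub _ hbmem
    have h0 := hw (Submodule.mem_sup_left hmem)
    rw [RingHom.mem_ker] at h0
    have e := (actPt_eq_iff (GLin.actPt k g y) _ (WithConv.toConv g)⁻¹.ofConv).1 rfl b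
    rw [h0] at e
    have e2 : GLin.actPt k (WithConv.toConv g)⁻¹.ofConv (GLin.actPt k g y) = y :=
      actPt_inv_actPt (WithConv.toConv g) y
    rw [e2] at e
    exact hyb e.symm
  have h1 : (1 : R) ∈ denom a b ⊔ RingHom.ker (GLin.orbitHom k A y) := hsup ▸ Submodule.mem_top
  obtain ⟨d, hd, u, hu, hdu⟩ := Submodule.mem_sup.1 h1
  obtain ⟨E, hE⟩ := exists_isReynolds hG R
  have hE1 : E 1 = 1 := (hE.2.2 1).2 (Subalgebra.one_mem (GLin.invariants k A R))
  have hEd : E d ∈ (denom a b).restrictScalars k := hE.apply_mem_of_isSubcomod hG hsub hd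
  have hEu : E u ∈ LinearMap.ker (GLin.orbitHom k A y).toLinearMap :=
    hE.apply_mem_of_isSubcomod hG (isSubcomod_ker_orbitHom y)
      (show (GLin.orbitHom k A y).toLinearMap u = 0 from hu)
  have e2 : y (E u) = 0 := apply_eq_zero_of_orbitHom_eq_zero y hEu
  have hyEd : y (E d) = 1 := by
    have : y (E d) + y (E u) = 1 := by rw [← map_add, ← map_add, hdu, hE1, map_one]
    rwa [e2, add_zero] at this
  obtain ⟨c, hc⟩ := hEd
  have hEdinv : E d ∈ GLin.invariants k A R := hE.apply_mem d
  refine ⟨c, mem_invariants_of_frac hb hab hc hEdinv, E d, hEdinv, ?_, hc⟩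
  intro h0
  rw [h0, map_zero] at hyEd
  exact zero_ne_one hyEd

end Main

end Groth.Agent.Lib.InvFrac38
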