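import Groth.Agent.Lib.Omega38
import Groth.Agent.Lib.ComodIntegral
import Groth.Agent.Lib.InvFrac38
import Groth.Prelude.Def_GLin5
import Mathlib.RingTheory.MvPolynomial.Basic

/-!
# The invariant integral on `GL_n` and `SL_n` in characteristic zero (helper38)

Cayley's Ω-process gives a normalised integral on `O(GL_n)`, transported to `O(SL_n)` along the
section `s ↦ diag(det⁻¹,1,…,1) s`.  Hence both are linearly reductive.
-/

set_option autoImplicit false
set_option linter.unusedSectionVars false
set_option linter.unusedSimpArgs false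
universe u v
open MvPolynomial TensorProduct CoordGrp

namespace Groth.Agent.Lib.GLnInt38
open Groth.Agent.Lib.Apolar38 Groth.Agent.Lib.Omega38 Groth.Agent.Lib.Comod
  Groth.Agent.Lib.Cartier38 Groth.Agent.Lib.ComodIntegral Groth.Agent.Lib.InvFrac38

section General
variable {k : Type u} [Field k] [IsAlgClosed k] {A : Type v} [CommRing A] [HopfAlgebra k A]
  [Algebra.FiniteType k A] [IsReduced A]

/-- a normalised functional invariant under right translation by all rational points is an
integral (reduced finitely generated Hopf algebra over an algebraically closed field) -/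
theorem isInt_of_forall_slice (α : A →ₗ[k] k) (h1 : α 1 = 1)
    (h : ∀ (g : A →ₐ[k] k) (a : A), α (sliceAlgHom g a) = α a) : IsInt k A α := by
  rw [isInt_iff]
  refine ⟨fun a => ?_, h1⟩
  rw [← sub_eq_zero]
  apply eq_zero_of_forall_contr
  intro g
  rw [map_sub, contr_rTensor, contr_tmul, sub_eq_zero, AlgHom.toLinearMap_apply, map_one, one_smul]
  exact h g a

end General

section Lift
variable {k : Type u} [Field k] {M N P : Type*} [AddCommGroup M] [Module k M] [AddCommGroup N]
  [Module k N] [AddCommGroup P] [Module k P]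

theorem exists_linearMap_of_surjective (f : M →ₗ[k] N) (hf : Function.Surjective f)
    (g : M →ₗ[k] P) (h : ∀ x, f x = 0 → g x = 0) : ∃ g' : N →ₗ[k] P, ∀ x, g' (f x) = g x := by
  have hk : LinearMap.ker f ≤ LinearMap.ker g := fun x hx => h x hx
  refine ⟨(LinearMap.ker f).liftQ g hk ∘ₗ (f.quotKerEquivOfSurjective hf).symm.toLinearMap, ?_⟩
  intro x
  have : (f.quotKerEquivOfSurjective hf).symm (f x) = Submodule.Quotient.mk x := by
    rw [LinearEquiv.symm_apply_eq]
    rfl
  simp [this]

end Lift

section GLb
variable (n : ℕ) (k : Type u) [Field k]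

/-- inclusion of the polynomial ring of matrices -/
noncomputable def incl : MvPolynomial (Fin n × Fin n) k →ₐ[k] GLb n k :=
  (rename Sum.inl : MvPolynomial (Fin n × Fin n) k →ₐ[k] MvPolynomial (GLPoly.Idx n) k)

variable {n k}

theorem incl_X (i j : Fin n) : incl n k (X (i, j)) = GLb.X i j := by
  change (rename Sum.inl (X (i, j)) : MvPolynomial (GLPoly.Idx n) k) = X (Sum.inl (i, j))
  rw [rename_X]

theorem incl_detP : incl n k (detP (Fin n) k) = GLb.det n k := by
  rw [detP, GLb.det, AlgHom.map_det]
  congr 1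
  ext i j
  simp [Matrix.mvPolynomialX, GLb.genMat, incl_X]

theorem incl_monomial_mul_D_pow (μ : Fin n × Fin n →₀ ℕ) (a : k) (r : ℕ) :
    incl n k (monomial μ a) * (GLb.D : GLb n k) ^ r =
      (monomial (μ.mapDomain Sum.inl + Finsupp.single (Sum.inr ()) r) a :
        MvPolynomial (GLPoly.Idx n) k) := by
  change (rename Sum.inl (monomial μ a) : MvPolynomial (GLPoly.Idx n) k) *
    (X (Sum.inr ()) : MvPolynomial (GLPoly.Idx n) k) ^ r = _
  rw [rename_monomial, X_pow_eq_monomial, monomial_mul, mul_one]

theorem monomial_eq_incl (m : GLPoly.Idx n →₀ ℕ) (a : k) :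
    (monomial m a : MvPolynomial (GLPoly.Idx n) k) =
      incl n k (monomial (m.comapDomain Sum.inl Sum.inl_injective.injOn) a) *
        (GLb.D : GLb n k) ^ (m (Sum.inr ())) := by
  have hm : (m.comapDomain Sum.inl Sum.inl_injective.injOn).mapDomain Sum.inl +
      Finsupp.single (Sum.inr ()) (m (Sum.inr ())) = m := by
    apply Finsupp.ext
    intro x
    rcases x with p | u
    · rw [Finsupp.add_apply, Finsupp.mapDomain_apply Sum.inl_injective, Finsupp.comapDomain_apply]
      simp
    · rw [Finsupp.add_apply, Finsupp.mapDomain_of_notMem_range]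
      · simp
      · simp
  rw [incl_monomial_mul_D_pow, hm]

theorem induction_incl {P : GLb n k → Prop} (h : ∀ f r, P (incl n k f * GLb.D ^ r))
    (hadd : ∀ p q, P p → P q → P (p + q)) : ∀ p, P p := by
  have : ∀ p : MvPolynomial (GLPoly.Idx n) k, P p := by
    intro p
    induction p using MvPolynomial.induction_on' with
    | monomial m a => rw [monomial_eq_incl]; exact h _ _
    | add p q hp hq => exact hadd p q hp hq
  exact this

variable (n k) in
/-- values of the integral on monomials -/
noncomputable def vfun (m : GLPoly.Idx n →₀ ℕ) : k :=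
  J (Fin n) k (m (Sum.inr ())) (monomial (m.comapDomain Sum.inl Sum.inl_injective.injOn) 1)

variable (n k) in
/-- the integral, on the polynomial ring in the entries and `D` -/
noncomputable def alphaT : GLb n k →ₗ[k] k :=
  ((basisMonomials (GLPoly.Idx n) k).constr k (vfun n k) : MvPolynomial (GLPoly.Idx n) k →ₗ[k] k)

theorem alphaT_monomial (m : GLPoly.Idx n →₀ ℕ) (a : k) :
    alphaT n k (monomial m a : MvPolynomial (GLPoly.Idx n) k) = a * vfun n k m := by
  have h : (monomial m a : MvPolynomial (GLPoly.Idx n) k) = a • basisMonomials (GLPoly.Idx n) k m := by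
    rw [coe_basisMonomials, smul_monomial, smul_eq_mul, mul_one]
  change ((basisMonomials (GLPoly.Idx n) k).constr k (vfun n k)) (monomial m a) = _
  rw [h, map_smul, Module.Basis.constr_basis, smul_eq_mul]

theorem alphaT_incl_mul (f : MvPolynomial (Fin n × Fin n) k) (r : ℕ) :
    alphaT n k (incl n k f * GLb.D ^ r) = J (Fin n) k r f := by
  induction f using MvPolynomial.induction_on' with
  | monomial μ a =>
    rw [incl_monomial_mul_D_pow, alphaT_monomial, vfun]
    have h1 : (μ.mapDomain Sum.inl + Finsupp.single (Sum.inr ()) r : GLPoly.Idx n →₀ ℕ)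
        (Sum.inr ()) = r := by
      rw [Finsupp.add_apply, Finsupp.mapDomain_of_notMem_range]
      · simp
      · simp
    have h2 : (μ.mapDomain Sum.inl + Finsupp.single (Sum.inr ()) r :
        GLPoly.Idx n →₀ ℕ).comapDomain Sum.inl Sum.inl_injective.injOn = μ := by
      ext p
      rw [Finsupp.comapDomain_apply, Finsupp.add_apply, Finsupp.mapDomain_apply Sum.inl_injective]
      simp
    rw [h1, h2]
    have h3 : (monomial μ a : MvPolynomial (Fin n × Fin n) k) = a • monomial μ 1 := by
      rw [smul_monomial, smul_eq_mul, mul_one]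
    rw [h3, map_smul, smul_eq_mul]
  | add p q hp hq => rw [map_add, add_mul, map_add, map_add, hp, hq]

theorem alphaT_one [CharZero k] : alphaT n k 1 = 1 := by
  have := alphaT_incl_mul (n := n) (k := k) 1 0
  rw [map_one, pow_zero, mul_one] at this
  rw [this, J_zero_one]

theorem alphaT_mul_rel [CharZero k] (p : GLb n k) : alphaT n k (p * GLb.rel n k) = 0 := by
  induction p using induction_incl with
  | h f r =>
    have e : incl n k f * GLb.D ^ r * GLb.rel n k =
        incl n k (detP (Fin n) k * f) * GLb.D ^ (r + 1) - incl n k f * GLb.D ^ r := by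
      rw [GLb.rel, map_mul, incl_detP, pow_succ]
      ring
    rw [e, map_sub, alphaT_incl_mul, alphaT_incl_mul, J_succ_detP_mul, sub_self]
  | hadd p q hp hq => rw [add_mul, map_add, hp, hq, add_zero]

end GLb

section GLn
variable {n : ℕ} {k : Type u} [Field k] [CharZero k]

theorem exists_alpha : ∃ α : GLn n k →ₗ[k] k, ∀ x : GLb n k, α (GLn.mk n k x) = alphaT n k x := by
  apply exists_linearMap_of_surjective (GLn.mk n k).toLinearMap
  · exact Ideal.Quotient.mkₐ_surjective k _
  · intro x hx
    have hx' : x ∈ GLb.relIdeal n k := Ideal.Quotient.eq_zero_iff_mem.mp hx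
    obtain ⟨p, rfl⟩ := Ideal.mem_span_singleton'.mp hx'
    exact alphaT_mul_rel p

variable (n k) in
/-- the invariant integral on `O(GL_n)` -/
noncomputable def alpha : GLn n k →ₗ[k] k := (exists_alpha (n := n) (k := k)).choose

theorem alpha_mk (x : GLb n k) : alpha n k (GLn.mk n k x) = alphaT n k x :=
  (exists_alpha (n := n) (k := k)).choose_spec x

theorem alpha_one : alpha n k 1 = 1 := by
  rw [← map_one (GLn.mk n k), alpha_mk, alphaT_one]

/-- the matrix of a rational point -/
noncomputable def ptMat (g : GLn n k →ₐ[k] k) : Matrix (Fin n) (Fin n) k := fun i j => g (GLn.X i j)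

theorem det_ptMat (g : GLn n k →ₐ[k] k) : (ptMat g).det = g GLn.det := by
  rw [GLn.det_eq, AlgHom.map_det]
  rfl

theorem slice_X (g : GLn n k →ₐ[k] k) (i j : Fin n) :
    sliceAlgHom g (GLn.X i j) = ∑ l, GLn.X i l * algebraMap k (GLn n k) (ptMat g l j) := by
  rw [sliceAlgHom_apply, slice, LinearMap.comp_apply, GLn.comul_X, map_sum]
  apply Finset.sum_congr rfl
  intro l _
  rw [contr_tmul, Algebra.smul_def, mul_comm]
  rfl

theorem slice_Dinv (g : GLn n k →ₐ[k] k) :
    sliceAlgHom g (GLn.Dinv : GLn n k) = g GLn.Dinv • GLn.Dinv := by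
  rw [sliceAlgHom_apply, slice, LinearMap.comp_apply, GLn.comul_Dinv, contr_tmul]
  rfl

theorem slice_mk_incl (g : GLn n k →ₐ[k] k) (f : MvPolynomial (Fin n × Fin n) k) :
    sliceAlgHom g (GLn.mk n k (incl n k f)) = GLn.mk n k (incl n k (rsub (ptMat g) f)) := by
  have h : (sliceAlgHom g).comp ((GLn.mk n k).comp (incl n k)) =
      ((GLn.mk n k).comp (incl n k)).comp (rsub (ptMat g)) := by
    apply MvPolynomial.algHom_ext
    rintro ⟨i, j⟩
    simp only [AlgHom.comp_apply, incl_X, rsub_X, map_sum, map_mul, GLn.mk_X]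
    rw [slice_X]
    apply Finset.sum_congr rfl
    intro l _
    congr 1
    rw [← MvPolynomial.algebraMap_eq, AlgHom.commutes, AlgHom.commutes]
  exact AlgHom.congr_fun h f

theorem alpha_slice (g : GLn n k →ₐ[k] k) (a : GLn n k) : alpha n k (sliceAlgHom g a) = alpha n k a := by
  obtain ⟨x, rfl⟩ := Ideal.Quotient.mkₐ_surjective k (GLb.relIdeal n k) a
  change alpha n k (sliceAlgHom g (GLn.mk n k x)) = alpha n k (GLn.mk n k x)
  induction x using induction_incl with
  | h f r =>
    have e1 : sliceAlgHom g (GLn.mk n k (incl n k f * GLb.D ^ r)) =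
        (g GLn.Dinv) ^ r • GLn.mk n k (incl n k (rsub (ptMat g) f) * GLb.D ^ r) := by
      rw [map_mul (GLn.mk n k), map_mul (sliceAlgHom g), map_pow (GLn.mk n k),
        map_pow (sliceAlgHom g), GLn.mk_D, slice_mk_incl, slice_Dinv, smul_pow, mul_smul_comm,
        map_mul (GLn.mk n k), map_pow (GLn.mk n k), GLn.mk_D]
    rw [e1, map_smul, alpha_mk, alpha_mk, alphaT_incl_mul, alphaT_incl_mul, J_rsub, det_ptMat,
      smul_eq_mul, ← mul_assoc, ← mul_pow, ← map_mul, GLn.Dinv_mul_det, map_one, one_pow, one_mul]
  | hadd p q hp hq => simp only [map_add, hp, hq]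

instance : Algebra.FiniteType k (GLb n k) :=
  inferInstanceAs (Algebra.FiniteType k (MvPolynomial (GLPoly.Idx n) k))

instance : Algebra.FiniteType k (GLn n k) :=
  Algebra.FiniteType.of_surjective (GLn.mk n k) (Ideal.Quotient.mkₐ_surjective k _)

instance : Algebra.FiniteType k (SLn n k) :=
  Algebra.FiniteType.of_surjective (SLn.mk n k) (Ideal.Quotient.mkₐ_surjective k _)

theorem isInt_alpha [IsAlgClosed k] : IsInt k (GLn n k) (alpha n k) := by
  have : IsReduced (GLn n k) := isReduced_of_charZero k (GLn n k)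
  exact isInt_of_forall_slice _ alpha_one alpha_slice

/-- `GL_n` is linearly reductive in characteristic zero -/
theorem isLinearlyReductive_GLn [IsAlgClosed k] : HopfRep.IsLinearlyReductive k (GLn n k) :=
  isLinearlyReductive_of_isInt isInt_alpha

end GLn

end Groth.Agent.Lib.GLnInt38
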