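import Groth.Agent.Lib.GMKos25

/-!
# Greenlees–May duality over a Noetherian ring (helper25)

* `nonempty_iso_RgammaI_completion` : `RΓ_I(K^) ≅ RΓ_I(K)`.
* `nonempty_iso_completion_RgammaI` : `(RΓ_I K)^ ≅ K^`.
-/

set_option autoImplicit false
set_option linter.unusedSectionVars false
set_option maxHeartbeats 400000
universe u
open CategoryTheory CategoryTheory.Limits Pretriangulated
attribute [local instance] HasDerivedCategory.standard

namespace Groth.Agent.Lib.GMDuality25

open Groth.Agent.Lib.ModCxElem25 Groth.Agent.Lib.RGammaAcyc25 Groth.Agent.Lib.RGammaNoeth25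
open Groth.Agent.Lib.RGammaKInj Groth.Agent.Lib.RGammaAdj25 Groth.Agent.Lib.RGammaComp25
open Groth.Agent.Lib.TorsionOrth Groth.Agent.Lib.TorsionOrthMod Groth.Agent.Lib.TKfAmp
open Groth.Agent.Lib.TKfTri Groth.Agent.Lib.TKfMod Groth.Agent.Lib.TKfIdeal Groth.Agent.Lib.TKfAdj
open Groth.Agent.Lib.TKfKos Groth.Agent.Lib.GMKos25 Groth.Agent.Lib.TKfCompl

variable {A : Type u} [CommRing A]

/-- morphisms in `D(A)` to a K-injective complex come from chain maps -/
lemma exists_Q_map_eq {X X' : Cx A} [X'.IsKInjective]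
    (ψ : DerivedCategory.Q.obj X ⟶ DerivedCategory.Q.obj X') :
    ∃ φ : X ⟶ X', DerivedCategory.Q.map φ = ψ := by
  let q := HomotopyCategory.quotient (ModuleCat.{u} A) (ComplexShape.up ℤ)
  let i := DerivedCategory.quotientCompQhIso (ModuleCat.{u} A)
  obtain ⟨g, hg⟩ := (CochainComplex.IsKInjective.Qh_map_bijective (q.obj X) X').2
    (i.hom.app X ≫ ψ ≫ i.inv.app X')
  obtain ⟨φ, rfl⟩ := q.map_surjective g
  refine ⟨φ, ?_⟩
  have hnat := i.hom.naturality φ
  have h1 : DerivedCategory.Q.map φ = i.inv.app X ≫ DerivedCategory.Qh.map (q.map φ) ≫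
      i.hom.app X' := by
    rw [← Iso.app_inv, ← Iso.app_hom, Iso.eq_inv_comp]
    exact hnat.symm
  rw [h1, hg]
  simp

lemma DC_of_nilD (f : A) (E : Dual.D A) (h : NilD f E) : DC f E := by
  rw [DC_iff_Cpl]
  intro Y hY g
  obtain ⟨n, hn⟩ := h
  have h1 : (f ^ n • 𝟙 Y) ≫ g = 0 := smul_id_comp_eq_zero hn g
  have : IsIso (f ^ n • 𝟙 Y) := isIso_pow_smul f Y hY n
  rw [← cancel_epi (f ^ n • 𝟙 Y), h1, comp_zero]

lemma acyclic_of_quasiIso' {X Y : Cx A} (φ : X ⟶ Y) [QuasiIso φ] (hX : X.Acyclic) :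
    Y.Acyclic := by
  intro i
  rw [HomologicalComplex.exactAt_iff_isZero_homology]
  exact IsZero.of_iso ((HomologicalComplex.exactAt_iff_isZero_homology X i).mp (hX i))
    (asIso (HomologicalComplex.homologyMap φ i)).symm

section completion

variable (I : Ideal A) [DRing.HasDerivedCompletion I]

lemma isIso_F_map_iff (T : Triangle (Dual.D A)) (hT : T ∈ distTriang (Dual.D A)) :
    IsIso ((DRing.derivedCompletion I).map T.mor₁) ↔
      IsZero ((DRing.derivedCompletion I).obj T.obj₃) := by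
  have h := (DRing.derivedCompletion I).map_distinguished T hT
  exact (Triangle.isZero₃_iff_isIso₁ _ h).symm

lemma FZ_cf (f : A) (Z : Cx A)
    (h : IsZero ((DRing.derivedCompletion I).obj (DerivedCategory.Q.obj Z))) :
    IsZero ((DRing.derivedCompletion I).obj (DerivedCategory.Q.obj (cf f Z))) := by
  have hT := DerivedCategory.mappingCone_triangle_distinguished (f • 𝟙 Z)
  refine (isIso_F_map_iff I _ hT).mp ?_
  exact ⟨⟨0, h.eq_of_src _ _, h.eq_of_tgt _ _⟩⟩

lemma FZ_kd (l : List A) (Z : Cx A)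
    (h : IsZero ((DRing.derivedCompletion I).obj (DerivedCategory.Q.obj Z))) :
    IsZero ((DRing.derivedCompletion I).obj (DerivedCategory.Q.obj (kd l Z))) := by
  induction l generalizing Z with
  | nil => exact h
  | cons f fs ih => exact ih _ (FZ_cf I f Z h)

lemma isZero_of_FZ (E : Dual.D A) (hE : DRing.IsDerivedComplete I E)
    (h : IsZero ((DRing.derivedCompletion I).obj E)) : IsZero E := by
  rw [IsZero.iff_id_eq_zero]
  let adj := DRing.derivedCompletionAdj I
  let E' : DRing.DComp I := ⟨E, hE⟩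
  have h1 : 𝟙 E = adj.homEquiv E E' ((adj.homEquiv E E').symm (𝟙 E)) :=
    (Equiv.apply_symm_apply _ _).symm
  rw [h1, h.eq_of_src ((adj.homEquiv E E').symm (𝟙 E)) 0, Adjunction.homEquiv_unit,
    Functor.map_zero, comp_zero]

lemma FZ_of_hom_eq_zero (Z : Dual.D A)
    (h : ∀ E : Dual.D A, DRing.IsDerivedComplete I E → ∀ g : Z ⟶ E, g = 0) :
    IsZero ((DRing.derivedCompletion I).obj Z) := by
  rw [IsZero.iff_id_eq_zero]
  let adj := DRing.derivedCompletionAdj I
  apply (adj.homEquiv Z _).injective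
  rw [h _ ((DRing.derivedCompletion I).obj Z).property (adj.homEquiv Z _ (𝟙 _)),
    Adjunction.homEquiv_unit, Functor.map_zero, comp_zero]

lemma isIso_F_map_unit (K : Dual.D A) :
    IsIso ((DRing.derivedCompletion I).map (DRing.toDerivedCompletion I K)) := by
  let adj := DRing.derivedCompletionAdj I
  have h := adj.left_triangle_components K
  have h1 : IsIso (adj.counit.app ((DRing.derivedCompletion I).obj K)) := inferInstance
  have h2 : IsIso ((DRing.derivedCompletion I).map (adj.unit.app K) ≫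
      adj.counit.app ((DRing.derivedCompletion I).obj K)) := by
    rw [h]
    exact IsIso.id _
  exact IsIso.of_isIso_comp_right _ (adj.counit.app ((DRing.derivedCompletion I).obj K))

omit [DRing.HasDerivedCompletion I] in
lemma isDerivedComplete_kd (l : List A) (hl : Ideal.span {f | f ∈ l} = I) (Z : Cx A) :
    DRing.IsDerivedComplete I (DerivedCategory.Q.obj (kd l Z)) := by
  rw [isDerivedComplete_iff_le, ← hl, Ideal.span_le]
  intro f hf
  exact DC_of_nilD f _ (nilD_kd_mem l Z f hf)

lemma isZero_kd_of_FZ (l : List A) (hl : Ideal.span {f | f ∈ l} = I) (Z : Cx A)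
    (h : IsZero ((DRing.derivedCompletion I).obj (DerivedCategory.Q.obj Z))) :
    IsZero (DerivedCategory.Q.obj (kd l Z)) :=
  isZero_of_FZ I _ (isDerivedComplete_kd I l hl Z) (FZ_kd I l Z h)

end completion

omit [CommRing A] in
lemma exists_list_span [CommRing A] [IsNoetherianRing A] (I : Ideal A) :
    ∃ l : List A, Ideal.span {f | f ∈ l} = I := by
  obtain ⟨s, hs⟩ : I.FG := IsNoetherian.noetherian I
  refine ⟨s.toList, ?_⟩
  rw [← hs]
  congr 1
  ext f
  simp

section main

variable [IsNoetherianRing A] (I : Ideal A) [DRing.HasRgammaI I] [DRing.HasDerivedCompletion I]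

/-- `Γ_I φ` is a quasi-isomorphism when `φ` models the completion map -/
lemma quasiIso_gammaI_map_of_FZ (l : List A) (hl : Ideal.span {f | f ∈ l} = I) {X X' : Cx A}
    (hX : InjTerms X) (hX' : InjTerms X') (φ : X ⟶ X')
    (h : IsIso ((DRing.derivedCompletion I).map (DerivedCategory.Q.map φ))) :
    QuasiIso (((DRing.gammaI I).mapHomologicalComplex (ComplexShape.up ℤ)).map φ) := by
  have hT := DerivedCategory.mappingCone_triangle_distinguished φ
  have hY : InjTerms (CochainComplex.mappingCone φ) := injTerms_mappingCone φ hX hX'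
  have h1 : IsZero ((DRing.derivedCompletion I).obj
      (DerivedCategory.Q.obj (CochainComplex.mappingCone φ))) := (isIso_F_map_iff I _ hT).mp h
  have h2 := isZero_kd_of_FZ I l hl _ h1
  rw [← acyclic_iff_isZero_Q] at h2
  have h3 := acyclic_gX I (injTerms_kd l hY) h2
  obtain ⟨e⟩ := exists_gX_kd_iso I l (CochainComplex.mappingCone φ)
  have h4 := acyclic_of_iso e h3
  rw [acyclic_iff_isZero_Q] at h4
  have hl' : ∀ f ∈ l, f ∈ I := by
    intro f hf
    rw [← hl]
    exact Ideal.subset_span hf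
  have h5 := isZero_of_isZero_kd l (gX I (CochainComplex.mappingCone φ))
    (fun f hf => PT_of_torsP I _ (torsP_Q_gX I _) f (hl' f hf)) h4
  rw [← acyclic_iff_isZero_Q] at h5
  rw [Groth.Agent.Lib.ConeQuasiIso.quasiIso_iff_acyclic_mappingCone]
  exact acyclic_of_iso (CochainComplex.mappingCone.mapHomologicalComplexIso φ (DRing.gammaI I)) h5

/-- **Greenlees–May, part 1**: `RΓ_I(K^) ≅ RΓ_I(K)` -/
theorem nonempty_iso_RgammaI_completion (K : Dual.D A) :
    Nonempty ((DRing.RgammaI I).obj ((DRing.derivedCompletion I).obj K).obj ≅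
      (DRing.RgammaI I).obj K) := by
  obtain ⟨l, hl⟩ := exists_list_span I
  obtain ⟨X, j, hX, hj, hXinj⟩ := exists_kinj_injTerms (DerivedCategory.Q.objPreimage K)
  let e : K ≅ DerivedCategory.Q.obj X :=
    (DerivedCategory.Q.objObjPreimageIso K).symm ≪≫ asIso (DerivedCategory.Q.map j)
  obtain ⟨X', j', hX', hj', hX'inj⟩ := exists_kinj_injTerms
    (DerivedCategory.Q.objPreimage ((DRing.derivedCompletion I).obj K).obj)
  let e' : ((DRing.derivedCompletion I).obj K).obj ≅ DerivedCategory.Q.obj X' :=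
    (DerivedCategory.Q.objObjPreimageIso _).symm ≪≫ asIso (DerivedCategory.Q.map j')
  obtain ⟨φ, hφ⟩ := exists_Q_map_eq (e.inv ≫ DRing.toDerivedCompletion I K ≫ e'.hom)
  have h1 : IsIso ((DRing.derivedCompletion I).map (DerivedCategory.Q.map φ)) := by
    rw [hφ, Functor.map_comp, Functor.map_comp]
    have := isIso_F_map_unit I K
    infer_instance
  have h2 := quasiIso_gammaI_map_of_FZ I l hl hXinj hX'inj φ h1
  exact ⟨(DRing.RgammaI I).mapIso e' ≪≫ rgIsoInj I X' hX'inj ≪≫
    (asIso (DerivedCategory.Q.map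
      (((DRing.gammaI I).mapHomologicalComplex (ComplexShape.up ℤ)).map φ))).symm ≪≫
    (rgIsoInj I X hXinj).symm ≪≫ (DRing.RgammaI I).mapIso e.symm⟩

/-- the cone of `Γ_I X ⟶ X` is Koszul-acyclic -/
lemma acyclic_kd_cone_ιX (l : List A) (hl : Ideal.span {f | f ∈ l} = I) {X : Cx A}
    (hX : InjTerms X) (ms : List ℕ) (hlen : ms.length = l.length) :
    (kd (List.zipWith (· ^ ·) l ms) (CochainComplex.mappingCone (ιX I X))).Acyclic := by
  set Y := CochainComplex.mappingCone (ιX I X) with hYdef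
  set l' := List.zipWith (· ^ ·) l ms with hl'
  have hY : InjTerms Y := injTerms_mappingCone (ιX I X) (injTerms_gX I hX) hX
  have h1 : (gX I Y).Acyclic := by
    have := isIso_mapHC_ιX I X
    have hq : QuasiIso (((DRing.gammaI I).mapHomologicalComplex (ComplexShape.up ℤ)).map
      (ιX I X)) := inferInstance
    have h := (Groth.Agent.Lib.ConeQuasiIso.quasiIso_iff_acyclic_mappingCone _).mp hq
    exact acyclic_of_iso
      (CochainComplex.mappingCone.mapHomologicalComplexIso (ιX I X) (DRing.gammaI I)).symm h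
  have h2 : (gX I (kd l' Y)).Acyclic := by
    obtain ⟨e⟩ := exists_gX_kd_iso I l' Y
    exact acyclic_of_iso e.symm (acyclic_kd l' _ h1)
  have h3 : ∀ f ∈ I, TorsH f (kd l' Y) := by
    intro f hf
    apply torsH_of_isPowerTorsion I _ _ f hf
    intro j x
    obtain ⟨k, hk⟩ := exists_pow_smul_homology_eq_zero l ms hlen Y j
    exact ⟨k, fun a ha => hk a (hl ▸ ha) x⟩
  have := quasiIso_ιX I (kd l' Y) (injTerms_kd l' hY).module h3
  exact acyclic_of_quasiIso' (ιX I (kd l' Y)) h2

/-- **Greenlees–May, part 2**: `(RΓ_I K)^ ≅ K^` -/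
theorem nonempty_iso_completion_RgammaI (K : Dual.D A) :
    Nonempty ((DRing.derivedCompletion I).obj ((DRing.RgammaI I).obj K) ≅
      (DRing.derivedCompletion I).obj K) := by
  obtain ⟨l, hl⟩ := exists_list_span I
  have hl' : ∀ f ∈ l, f ∈ I := by
    intro f hf
    rw [← hl]
    exact Ideal.subset_span hf
  obtain ⟨X, j, hX, hj, hXinj⟩ := exists_kinj_injTerms (DerivedCategory.Q.objPreimage K)
  let e : K ≅ DerivedCategory.Q.obj X :=
    (DerivedCategory.Q.objObjPreimageIso K).symm ≪≫ asIso (DerivedCategory.Q.map j)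
  set Y := CochainComplex.mappingCone (ιX I X) with hYdef
  have hT := DerivedCategory.mappingCone_triangle_distinguished (ιX I X)
  have h1 : ∀ E : Dual.D A, DRing.IsDerivedComplete I E →
      ∀ g : DerivedCategory.Q.obj Y ⟶ E, g = 0 := by
    intro E hE g
    have hb := cobij_of_kd_of_DC l (0 : Y ⟶ Y)
      (fun ms hlen => quasiIso_of_acyclic _ (acyclic_kd_cone_ιX I l hl hXinj ms hlen)
        (acyclic_kd_cone_ιX I l hl hXinj ms hlen)) E (fun f hf => hE f (hl' f hf))
    apply hb.1
    change DerivedCategory.Q.map (0 : Y ⟶ Y) ≫ g = DerivedCategory.Q.map (0 : Y ⟶ Y) ≫ 0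
    rw [Functor.map_zero, zero_comp, zero_comp]
  have h2 := FZ_of_hom_eq_zero I _ h1
  have h3 : IsIso ((DRing.derivedCompletion I).map (DerivedCategory.Q.map (ιX I X))) :=
    (isIso_F_map_iff I _ hT).mpr h2
  exact ⟨(DRing.derivedCompletion I).mapIso ((DRing.RgammaI I).mapIso e ≪≫ rgIsoInj I X hXinj) ≪≫
    asIso ((DRing.derivedCompletion I).map (DerivedCategory.Q.map (ιX I X))) ≪≫
    (DRing.derivedCompletion I).mapIso e.symm⟩

end main

end Groth.Agent.Lib.GMDuality25
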