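import Groth.Agent.Lib.TorsionOrthMod
import Groth.Agent.Lib.TKfTri

/-!
# Koszul criterion for completion equivalences in `D(A)` (helper25)

* `coinj_cosurj_of_bij_cone`: contravariant analogue of `TorsionOrth.inj_surj_of_bij_cone`.
* `cobij_of_kd`: if `φ : X ⟶ Y` becomes a quasi-isomorphism after applying `kd (f₁^m₁,…,f_r^m_r)`
  for all exponents, then `Hom(Y, E) → Hom(X, E)` is bijective for all `E ∈ D(A)` on which all
  `f_i` are nilpotent.
* `hom_eq_zero_of_nilD`: an object with no maps to objects on which the `f_i` are nilpotent has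
  no maps to objects which are derived complete with respect to the `f_i`.
* `cobij_of_kd_of_DC`: under the hypothesis of `cobij_of_kd`, `Hom(Y, E) → Hom(X, E)` is bijective
  for all `E` derived complete with respect to all `f_i`.
-/

set_option autoImplicit false
universe w v u

open CategoryTheory Limits Pretriangulated Opposite

namespace Groth.Agent.Lib.TKfKos

open Groth.Agent.Lib.TorsionOrth Groth.Agent.Lib.TorsionOrthMod CochainComplex
  Groth.Agent.Lib.TKf Groth.Agent.Lib.TKfMod Groth.Agent.Lib.TKfCompl Groth.Agent.Lib.TKfAdj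

attribute [local instance] HasDerivedCategory.standard

section generic

variable {D : Type u} [Category.{v} D] [Preadditive D] [HasZeroObject D] [HasShift D ℤ]
  [∀ n : ℤ, (CategoryTheory.shiftFunctor D n).Additive] [Pretriangulated D]

/-- contravariant inductive step. -/
theorem coinj_cosurj_of_bij_cone (T T' : Triangle D) (hT : T ∈ distTriang D)
    (hT' : T' ∈ distTriang D) (Φ : T ⟶ T') (E : D)
    (hS : ∀ a : T.obj₂ ⟶ E, T.mor₁ ≫ a = 0)
    (hI : ∀ g : T'.obj₂⟦(1 : ℤ)⟧ ⟶ E, T'.mor₁⟦(1 : ℤ)⟧' ≫ g = 0)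
    (hb : Function.Bijective (fun g : T'.obj₃ ⟶ E => Φ.hom₃ ≫ g)) :
    Function.Surjective (fun g : T'.obj₂ ⟶ E => Φ.hom₂ ≫ g) ∧
      Function.Injective (fun g : T'.obj₁⟦(1 : ℤ)⟧ ⟶ E => Φ.hom₁⟦(1 : ℤ)⟧' ≫ g) := by
  constructor
  · intro a
    obtain ⟨b, hb1⟩ := Triangle.yoneda_exact₂ T hT a (hS a)
    obtain ⟨b', hb'⟩ := hb.2 b
    change Φ.hom₃ ≫ b' = b at hb'
    refine ⟨T'.mor₂ ≫ b', ?_⟩
    change Φ.hom₂ ≫ T'.mor₂ ≫ b' = a
    rw [← Category.assoc, ← Φ.comm₂, Category.assoc, hb', hb1]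
  · intro g₁ g₂ h12
    change Φ.hom₁⟦(1 : ℤ)⟧' ≫ g₁ = Φ.hom₁⟦(1 : ℤ)⟧' ≫ g₂ at h12
    have h0 : Φ.hom₁⟦(1 : ℤ)⟧' ≫ (g₁ - g₂) = 0 := by
      rw [Preadditive.comp_sub, h12, sub_self]
    have h1 : T'.mor₃ ≫ (g₁ - g₂) = 0 := by
      apply hb.1
      change Φ.hom₃ ≫ T'.mor₃ ≫ (g₁ - g₂) = Φ.hom₃ ≫ 0
      rw [← Category.assoc, ← Φ.comm₃, Category.assoc, h0, comp_zero, comp_zero]
    obtain ⟨g', hg'⟩ := Triangle.yoneda_exact₃ _ (rot_of_distTriang _ hT') (g₁ - g₂) h1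
    change g₁ - g₂ = (-T'.mor₁⟦(1 : ℤ)⟧') ≫ g' at hg'
    rw [Preadditive.neg_comp, hI g', neg_zero] at hg'
    exact sub_eq_zero.mp hg'

end generic

section DA

variable {A : Type u} [CommRing A]

lemma nilD_shift {a : A} {E : Dual.D A} (h : NilD a E) (n : ℤ) : NilD a (E⟦n⟧) := by
  obtain ⟨k, hk⟩ := h
  refine ⟨k, ?_⟩
  have : a ^ k • 𝟙 (E⟦n⟧) = (CategoryTheory.shiftFunctor (Dual.D A) n).map (a ^ k • 𝟙 E) := by
    rw [Functor.map_smul, CategoryTheory.Functor.map_id]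
  rw [this, hk, Functor.map_zero]

lemma smul_id_comp_eq_zero {c : A} {X E : Dual.D A} (h : c • 𝟙 E = 0) (g : X ⟶ E) :
    (c • 𝟙 X) ≫ g = 0 := by
  rw [Linear.smul_comp, Category.id_comp]
  have : c • g = g ≫ (c • 𝟙 E) := by rw [Linear.comp_smul, Category.comp_id]
  rw [this, h, comp_zero]

/-- Koszul criterion, nilpotent targets. -/
theorem cobij_of_kd (l : List A) {X Y : Cx A} (φ : X ⟶ Y)
    (hyp : ∀ ms : List ℕ, ms.length = l.length →
      QuasiIso (kdMap (List.zipWith (· ^ ·) l ms) φ))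
    (E : Dual.D A) (hE : ∀ f ∈ l, NilD f E) :
    Function.Bijective (fun g : DerivedCategory.Q.obj Y ⟶ E => DerivedCategory.Q.map φ ≫ g) := by
  induction l generalizing X Y E with
  | nil =>
    have h0 := hyp [] rfl
    change QuasiIso φ at h0
    have : IsIso (DerivedCategory.Q.map φ) := inferInstance
    constructor
    · intro g₁ g₂ h
      exact (cancel_epi (DerivedCategory.Q.map φ)).mp h
    · intro g
      exact ⟨inv (DerivedCategory.Q.map φ) ≫ g, by simp⟩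
  | cons f fs ih =>
    obtain ⟨n, hn⟩ := hE f List.mem_cons_self
    have hb : ∀ E' : Dual.D A, (∀ g ∈ fs, NilD g E') →
        Function.Bijective (fun g : DerivedCategory.Q.obj (cf (f ^ n) Y) ⟶ E' =>
          DerivedCategory.Q.map (cfMap (f ^ n) φ) ≫ g) := by
      intro E' hE'
      apply ih
      · intro ms hms
        exact hyp (n :: ms) (by simp [hms])
      · exact hE'
    have comm : ((f ^ n) • 𝟙 X) ≫ φ = φ ≫ ((f ^ n) • 𝟙 Y) := by
      rw [Linear.smul_comp, Linear.comp_smul, Category.id_comp, Category.comp_id]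
    have hTX := DerivedCategory.mappingCone_triangle_distinguished ((f ^ n) • 𝟙 X)
    have hTY := DerivedCategory.mappingCone_triangle_distinguished ((f ^ n) • 𝟙 Y)
    let Φ := DerivedCategory.Q.mapTriangle.map (mappingCone.triangleMap _ _ φ φ comm)
    have hfs : ∀ E' : Dual.D A, (∀ g ∈ f :: fs, NilD g E') → ∀ g ∈ fs, NilD g E' :=
      fun E' h g hg => h g (List.mem_cons_of_mem f hg)
    have hn1 : (f ^ n) • 𝟙 (E⟦(1 : ℤ)⟧) = 0 := by
      have : (f ^ n) • 𝟙 (E⟦(1 : ℤ)⟧) =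
          (CategoryTheory.shiftFunctor (Dual.D A) (1 : ℤ)).map ((f ^ n) • 𝟙 E) := by
        rw [Functor.map_smul, CategoryTheory.Functor.map_id]
      rw [this, hn, Functor.map_zero]
    have key0 := coinj_cosurj_of_bij_cone _ _ hTX hTY Φ E
      (fun a => by
        change DerivedCategory.Q.map ((f ^ n) • 𝟙 X) ≫ a = 0
        rw [Functor.map_smul, CategoryTheory.Functor.map_id]
        exact smul_id_comp_eq_zero hn a)
      (fun g => by
        change (DerivedCategory.Q.map ((f ^ n) • 𝟙 Y))⟦(1 : ℤ)⟧' ≫ g = 0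
        rw [Functor.map_smul, CategoryTheory.Functor.map_id, Functor.map_smul,
          CategoryTheory.Functor.map_id]
        exact smul_id_comp_eq_zero hn g)
      (hb E (hfs E hE))
    have key1 := coinj_cosurj_of_bij_cone _ _ hTX hTY Φ (E⟦(1 : ℤ)⟧)
      (fun a => by
        change DerivedCategory.Q.map ((f ^ n) • 𝟙 X) ≫ a = 0
        rw [Functor.map_smul, CategoryTheory.Functor.map_id]
        exact smul_id_comp_eq_zero hn1 a)
      (fun g => by
        change (DerivedCategory.Q.map ((f ^ n) • 𝟙 Y))⟦(1 : ℤ)⟧' ≫ g = 0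
        rw [Functor.map_smul, CategoryTheory.Functor.map_id, Functor.map_smul,
          CategoryTheory.Functor.map_id]
        exact smul_id_comp_eq_zero hn1 g)
      (hb (E⟦(1 : ℤ)⟧) (fun g hg => nilD_shift (hE g (List.mem_cons_of_mem f hg)) 1))
    constructor
    · intro g₁ g₂ h12
      change DerivedCategory.Q.map φ ≫ g₁ = DerivedCategory.Q.map φ ≫ g₂ at h12
      apply (CategoryTheory.shiftFunctor (Dual.D A) (1 : ℤ)).map_injective
      apply key1.2
      change (DerivedCategory.Q.map φ)⟦(1 : ℤ)⟧' ≫ g₁⟦(1 : ℤ)⟧' =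
        (DerivedCategory.Q.map φ)⟦(1 : ℤ)⟧' ≫ g₂⟦(1 : ℤ)⟧'
      rw [← Functor.map_comp, ← Functor.map_comp, h12]
    · exact key0.1

/-- From nilpotent targets to derived complete targets. -/
theorem hom_eq_zero_of_nilD (Z : Dual.D A) (l : List A) : ∀ (l₀ : List A),
    (∀ E' : Dual.D A, (∀ f ∈ l₀ ++ l, NilD f E') → ∀ g : Z ⟶ E', g = 0) →
    ∀ E : Dual.D A, (∀ f ∈ l₀, NilD f E) → (∀ f ∈ l, DC f E) → ∀ g : Z ⟶ E, g = 0 := by
  induction l with
  | nil =>
    intro l₀ H E hN _ g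
    exact H E (by simpa using hN) g
  | cons f fs ih =>
    intro l₀ H E hN hDC g
    obtain ⟨E₁, j, p, hT⟩ := distinguished_cocone_triangle (f • 𝟙 E)
    have HZ1 : ∀ g : Z ⟶ E₁, g = 0 := by
      apply ih (l₀ ++ [f])
      · intro E' hE' g
        apply H E' _ g
        intro a ha
        apply hE' a
        simpa using ha
      · intro a ha
        rcases List.mem_append.mp ha with ha | ha
        · exact nilD_obj₃ _ hT a (hN a ha) (hN a ha)
        · have : a = f := by simpa using ha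
          subst this
          exact nilD_of_dist_self a j p hT
      · intro a ha
        have h1 := (DC_iff_Cpl a E).mp (hDC a (List.mem_cons_of_mem f ha))
        exact (DC_iff_Cpl a E₁).mpr (Cpl.of_triangle₃ _ hT h1 h1)
    have hsurj : ∀ φ : Z ⟶ E, ∃ φ' : Z ⟶ E, φ = φ' ≫ (f • 𝟙 E) := fun φ =>
      Triangle.coyoneda_exact₂ _ hT φ (HZ1 _)
    let seq : ℕ → (Z ⟶ E) := fun n => Nat.rec g (fun _ φ => (hsurj φ).choose) n
    have hseq : ∀ n, seq n = seq (n + 1) ≫ (f • 𝟙 E) := fun n => (hsurj (seq n)).choose_spec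
    have hiso : IsIso (delta E (f • 𝟙 E)) := isIso_delta_of_DC f E (hDC f List.mem_cons_self)
    let Φ : Z ⟶ ∏ᶜ fun _ : ℕ => E := Pi.lift seq
    have hΦ : Φ ≫ delta E (f • 𝟙 E) = 0 := by
      apply Pi.hom_ext
      intro n
      rw [Category.assoc, delta_π, Preadditive.comp_sub, Pi.lift_π, ← Category.assoc, Pi.lift_π,
        zero_comp, ← hseq n, sub_self]
    have hΦ0 : Φ = 0 := by
      rw [← cancel_mono (delta E (f • 𝟙 E)), hΦ, zero_comp]
    have : g = Φ ≫ Pi.π (fun _ : ℕ => E) 0 := by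
      rw [Pi.lift_π]
      rfl
    rw [this, hΦ0, zero_comp]

/-- Koszul criterion for completion equivalences. -/
theorem cobij_of_kd_of_DC (l : List A) {X Y : Cx A} (φ : X ⟶ Y)
    (hyp : ∀ ms : List ℕ, ms.length = l.length →
      QuasiIso (kdMap (List.zipWith (· ^ ·) l ms) φ))
    (E : Dual.D A) (hE : ∀ f ∈ l, DC f E) :
    Function.Bijective (fun g : DerivedCategory.Q.obj Y ⟶ E => DerivedCategory.Q.map φ ≫ g) := by
  have hT := DerivedCategory.mappingCone_triangle_distinguished φ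
  set T := DerivedCategory.Q.mapTriangle.obj (mappingCone.triangle φ) with hTdef
  have hZnil : ∀ E' : Dual.D A, (∀ f ∈ l, NilD f E') → ∀ g : T.obj₃ ⟶ E', g = 0 := by
    intro E' hE' g
    have b0 := cobij_of_kd l φ hyp E' hE'
    have b1 := cobij_of_kd l φ hyp (E'⟦(-1 : ℤ)⟧) (fun f hf => nilD_shift (hE' f hf) (-1))
    have h1 : T.mor₂ ≫ g = 0 := by
      apply b0.1
      change T.mor₁ ≫ T.mor₂ ≫ g = T.mor₁ ≫ 0
      rw [← Category.assoc, comp_distTriang_mor_zero₁₂ _ hT, zero_comp, comp_zero]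
    obtain ⟨g', hg'⟩ := Triangle.yoneda_exact₃ _ hT g h1
    let e : E' ≅ (E'⟦(-1 : ℤ)⟧)⟦(1 : ℤ)⟧ := (shiftNegShift E' (1 : ℤ)).symm
    obtain ⟨g₀, hg₀⟩ := (CategoryTheory.shiftFunctor (Dual.D A) (1 : ℤ)).map_surjective (g' ≫ e.hom)
    obtain ⟨h₀, hh₀⟩ := b1.2 g₀
    change T.mor₁ ≫ h₀ = g₀ at hh₀
    have h2 : g' = T.mor₁⟦(1 : ℤ)⟧' ≫ h₀⟦(1 : ℤ)⟧' ≫ e.inv := by
      rw [← Category.assoc, ← Functor.map_comp, hh₀, hg₀, Category.assoc, e.hom_inv_id,
        Category.comp_id]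
    rw [hg', h2, ← Category.assoc, comp_distTriang_mor_zero₃₁ _ hT, zero_comp]
  have hZ : ∀ E : Dual.D A, (∀ f ∈ l, DC f E) → ∀ g : T.obj₃ ⟶ E, g = 0 := by
    intro E hE g
    exact hom_eq_zero_of_nilD T.obj₃ l [] (fun E' hE' g => hZnil E' (by simpa using hE') g) E
      (by simp) hE g
  constructor
  · intro (g₁ : T.obj₂ ⟶ E) (g₂ : T.obj₂ ⟶ E) h12
    change T.mor₁ ≫ g₁ = T.mor₁ ≫ g₂ at h12
    have hd : T.mor₁ ≫ (g₁ - g₂) = 0 := by
      rw [Preadditive.comp_sub]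
      exact sub_eq_zero.mpr h12
    obtain ⟨d', hd'⟩ := Triangle.yoneda_exact₂ _ hT (g₁ - g₂) hd
    rw [hZ E hE d', comp_zero] at hd'
    exact sub_eq_zero.mp hd'
  · intro (h : T.obj₁ ⟶ E)
    have hE1 : ∀ f ∈ l, DC f (E⟦(1 : ℤ)⟧) := fun f hf =>
      (DC_iff_Cpl f _).mpr (((DC_iff_Cpl f E).mp (hE f hf)).shift 1)
    have hz : ∀ u : T.obj₃⟦(-1 : ℤ)⟧ ⟶ E, u = 0 := by
      intro u
      apply (CategoryTheory.shiftFunctor (Dual.D A) (1 : ℤ)).map_injective
      rw [Functor.map_zero]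
      have := hZ _ hE1 ((shiftNegShift T.obj₃ (1 : ℤ)).inv ≫ u⟦(1 : ℤ)⟧')
      rw [← cancel_epi (shiftNegShift T.obj₃ (1 : ℤ)).inv, this, comp_zero]
    obtain ⟨g, hg⟩ := Triangle.yoneda_exact₂ _ (inv_rot_of_distTriang _ hT) h (hz _)
    exact ⟨g, hg.symm⟩

end DA

end Groth.Agent.Lib.TKfKos
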