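import Groth.Agent.Lib.RGammaAdj25
import Groth.Agent.Lib.TKfKos
import Groth.Agent.Lib.SingleMaps31

/-!
# Koszul cones and `Γ_I` (helper25): preparation for Greenlees–May duality

* `acyclic_iff_isZero_Q`, `acyclic_cf`, `acyclic_kd`, `injTerms_kd`, `nilD_kd_mem`.
* `exists_gX_kd_iso` : `Γ_I (kd l Y) ≅ kd l (Γ_I Y)`.
* `PT g K` : all cohomology modules of `K ∈ D(A)` are `g`-power torsion; `PT_obj₃`.
* `isZero_of_isZero_kd` : torsion Nakayama: `kd l Z = 0` and `Z` has `f`-power torsion cohomology for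
  all `f ∈ l` implies `Z = 0` in `D(A)`.
-/

set_option autoImplicit false
set_option linter.unusedSectionVars false
universe u
open CategoryTheory CategoryTheory.Limits Pretriangulated
attribute [local instance] HasDerivedCategory.standard

namespace Groth.Agent.Lib.GMKos25

open Groth.Agent.Lib.ModCxElem25 Groth.Agent.Lib.RGammaAcyc25 Groth.Agent.Lib.RGammaNoeth25
open Groth.Agent.Lib.RGammaKInj Groth.Agent.Lib.RGammaAdj25
open Groth.Agent.Lib.TorsionOrth Groth.Agent.Lib.TorsionOrthMod Groth.Agent.Lib.TKfAmp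
open Groth.Agent.Lib.TKfTri Groth.Agent.Lib.TKfMod

variable {A : Type u} [CommRing A]

lemma acyclic_of_iso {X Y : Cx A} (e : X ≅ Y) (h : X.Acyclic) : Y.Acyclic := by
  intro i
  rw [HomologicalComplex.exactAt_iff_isZero_homology]
  exact IsZero.of_iso ((HomologicalComplex.exactAt_iff_isZero_homology _ i).mp (h i))
    ((HomologicalComplex.homologyFunctor _ _ i).mapIso e.symm)

lemma acyclic_iff_isZero_Q (X : Cx A) : X.Acyclic ↔ IsZero (DerivedCategory.Q.obj X) := by
  constructor
  · exact Groth.Agent.SingleMaps31.isZero_Q_obj_of_acyclic X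
  · intro h i
    rw [HomologicalComplex.exactAt_iff_isZero_homology]
    exact IsZero.of_iso ((DerivedCategory.homologyFunctor (ModuleCat.{u} A) i).map_isZero h)
      ((DerivedCategory.homologyFunctorFactors (ModuleCat.{u} A) i).app X).symm

lemma quasiIso_of_acyclic {X Y : Cx A} (φ : X ⟶ Y) (hX : X.Acyclic) (hY : Y.Acyclic) :
    QuasiIso φ := by
  rw [quasiIso_iff]
  intro i
  rw [quasiIsoAt_iff_exactAt _ _ (hX i)]
  exact hY i

lemma acyclic_cf (f : A) (Z : Cx A) (h : Z.Acyclic) : (cf f Z).Acyclic := by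
  have := quasiIso_of_acyclic (f • 𝟙 Z) h h
  exact (Groth.Agent.Lib.ConeQuasiIso.quasiIso_iff_acyclic_mappingCone (f • 𝟙 Z)).mp this

lemma acyclic_kd (l : List A) (Z : Cx A) (h : Z.Acyclic) : (kd l Z).Acyclic := by
  induction l generalizing Z with
  | nil => exact h
  | cons f fs ih => exact ih _ (acyclic_cf f Z h)

lemma injTerms_kd (l : List A) {Y : Cx A} (h : InjTerms Y) : InjTerms (kd l Y) := by
  induction l generalizing Y with
  | nil => exact h
  | cons f fs ih => exact ih (injTerms_mappingCone _ h h)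

lemma nilD_kd_mem (l : List A) (K : Cx A) (f : A) (hf : f ∈ l) :
    NilD f (DerivedCategory.Q.obj (kd l K)) := by
  induction l generalizing K with
  | nil => simp at hf
  | cons g gs ih =>
    rcases List.mem_cons.mp hf with rfl | hf'
    · exact nilD_kd f gs (cf f K) (nilD_cf_self f K)
    · exact ih _ hf'

/-- `kd l` applied to an isomorphism -/
noncomputable def kdIso (l : List A) {K L : Cx A} (e : K ≅ L) : kd l K ≅ kd l L where
  hom := kdMap l e.hom
  inv := kdMap l e.inv
  hom_inv_id := by rw [← kdMap_comp, e.hom_inv_id, kdMap_id]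
  inv_hom_id := by rw [← kdMap_comp, e.inv_hom_id, kdMap_id]

section gamma

variable (I : Ideal A)

/-- `Γ_I (cf f Y) ≅ cf f (Γ_I Y)` -/
noncomputable def gXcfIso (f : A) (Y : Cx A) : gX I (cf f Y) ≅ cf f (gX I Y) :=
  CochainComplex.mappingCone.mapHomologicalComplexIso (f • 𝟙 Y) (DRing.gammaI I) ≪≫
    eqToIso (congrArg (fun φ => CochainComplex.mappingCone φ) (mapHC_gammaI_smul I f Y))

lemma exists_gX_kd_iso (l : List A) (Y : Cx A) : Nonempty (gX I (kd l Y) ≅ kd l (gX I Y)) := by
  induction l generalizing Y with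
  | nil => exact ⟨Iso.refl _⟩
  | cons f fs ih =>
    obtain ⟨e⟩ := ih (cf f Y)
    exact ⟨e ≪≫ kdIso fs (gXcfIso I f Y)⟩

end gamma

/-- all cohomology modules are `g`-power torsion -/
def PT (g : A) (K : Dual.D A) : Prop :=
  ∀ (i : ℤ) (x : ((H A i).obj K : ModuleCat.{u} A)), ∃ n : ℕ, g ^ n • x = 0

lemma PT_obj₃ (T : Triangle (Dual.D A)) (hT : T ∈ distTriang (Dual.D A)) (g : A)
    (h₁ : PT g T.obj₁) (h₂ : PT g T.obj₂) : PT g T.obj₃ := by
  intro i x
  have hex := DerivedCategory.HomologySequence.exact₃ T hT i (i + 1) rfl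
  obtain ⟨a, ha⟩ := h₁ (i + 1) ((DerivedCategory.HomologySequence.δ T i (i + 1) rfl).hom x)
  have h1 : (DerivedCategory.HomologySequence.δ T i (i + 1) rfl).hom (g ^ a • x) = 0 := by
    rw [map_smul, ha]
  obtain ⟨y, hy⟩ := (ShortComplex.moduleCat_exact_iff _).mp hex (g ^ a • x) h1
  obtain ⟨b, hb⟩ := h₂ i y
  refine ⟨b + a, ?_⟩
  have hy' : ((H A i).map T.mor₂).hom y = g ^ a • x := hy
  rw [pow_add, mul_smul, ← hy', ← map_smul, hb, map_zero]

lemma PT_of_torsP (I : Ideal A) (K : Dual.D A) (hK : TorsP I K) (g : A) (hg : g ∈ I) : PT g K := by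
  intro i x
  obtain ⟨n, hn⟩ := hK i x
  exact ⟨n, hn _ (Ideal.pow_mem_pow hg n)⟩

/-- **torsion Nakayama** in `D(A)` -/
theorem isZero_of_isZero_kd (l : List A) (Z : Cx A)
    (hZ : ∀ f ∈ l, PT f (DerivedCategory.Q.obj Z))
    (h : IsZero (DerivedCategory.Q.obj (kd l Z))) : IsZero (DerivedCategory.Q.obj Z) := by
  induction l generalizing Z with
  | nil => exact h
  | cons f fs ih =>
    have hT := DerivedCategory.mappingCone_triangle_distinguished (f • 𝟙 Z)
    have h1 : IsZero (DerivedCategory.Q.obj (cf f Z)) := by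
      apply ih
      · intro g hg
        exact PT_obj₃ _ hT g (hZ g (List.mem_cons_of_mem _ hg)) (hZ g (List.mem_cons_of_mem _ hg))
      · exact h
    rw [← acyclic_iff_isZero_Q]
    intro j
    rw [HomologicalComplex.exactAt_iff_isZero_homology]
    have hmono : Mono ((H A j).map (DerivedCategory.Q.map (f • 𝟙 Z))) :=
      mono_H_mor₁ _ hT (j - 1) j (by omega) ((H A (j - 1)).map_isZero h1)
    have e1 : DerivedCategory.Q.map (f • 𝟙 Z) = f • 𝟙 (DerivedCategory.Q.obj Z) := by
      rw [Functor.map_smul, CategoryTheory.Functor.map_id]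
    rw [e1, homologyFunctor_map_smul_id] at hmono
    have hinj := (ModuleCat.mono_iff_injective _).mp hmono
    have hz : ∀ x : ((H A j).obj (DerivedCategory.Q.obj Z) : ModuleCat.{u} A), x = 0 := by
      intro x
      obtain ⟨n, hn⟩ := hZ f List.mem_cons_self j x
      induction n with
      | zero => simpa using hn
      | succ n ihn =>
        apply ihn
        apply hinj
        change f • (f ^ n • x) = f • 0
        rw [smul_zero, ← mul_smul, ← pow_succ']
        exact hn
    have : Subsingleton ((H A j).obj (DerivedCategory.Q.obj Z) : ModuleCat.{u} A) :=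
      ⟨fun x y => by rw [hz x, hz y]⟩
    have hz' : IsZero ((H A j).obj (DerivedCategory.Q.obj Z)) := ModuleCat.isZero_of_subsingleton _
    exact IsZero.of_iso hz'
      ((DerivedCategory.homologyFunctorFactors (ModuleCat.{u} A) j).app Z).symm

end Groth.Agent.Lib.GMKos25
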