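import Groth.Prelude.Def_VecGrp
import Groth.Prelude.Def_HopfRep
import Mathlib.RingTheory.HopfAlgebra.Convolution
import Mathlib.RingTheory.Bialgebra.Convolution
import Mathlib.AlgebraicGeometry.Group.Affine
import Mathlib.LinearAlgebra.GeneralLinearGroup.Basic

/-!
# The dictionary between comodules and `G`-modules for an affine group scheme `G = Spec A` (helper38)

For a commutative Hopf algebra `A` over a commutative ring `R` and an `R`-module `E`:
* `actB δ f : B ⊗ E →ₗ[B] B ⊗ E` for an `R`-linear `δ : E → E ⊗ A` and an algebra map `f : A → B`;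
* `actB_actB` / `actB_conv`: the two sides of multiplicativity, expressed through `Φ`;
* `gmodOfComod`: the `G`-module structure of a comodule; `deltaOf m`: the coaction of a `G`-module;
* the main dictionary theorems.
-/

set_option autoImplicit false
universe u
open CategoryTheory MonObj GrpObj AlgebraicGeometry
open scoped TensorProduct

noncomputable section

namespace Groth.Agent.Lib.GModComod38

section Act
variable {R : Type u} [CommRing R] {A : Type u} [CommRing A] [Algebra R A]
  {E : Type u} [AddCommGroup E] [Module R E] {B : Type u} [CommRing B] [Algebra R B]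

/-- `x ↦ comm ((id ⊗ f) (δ x))`. -/
def twist (δ : E →ₗ[R] E ⊗[R] A) (f : A →ₐ[R] B) : E →ₗ[R] B ⊗[R] E :=
  (TensorProduct.comm R E B).toLinearMap ∘ₗ f.toLinearMap.lTensor E ∘ₗ δ

theorem twist_apply (δ : E →ₗ[R] E ⊗[R] A) (f : A →ₐ[R] B) (x : E) :
    twist δ f x = (TensorProduct.comm R E B) (LinearMap.lTensor E f.toLinearMap (δ x)) := rfl

/-- The `B`-linear endomorphism of `B ⊗ E` attached to `δ` and a `B`-point `f`. -/
def actB (δ : E →ₗ[R] E ⊗[R] A) (f : A →ₐ[R] B) : B ⊗[R] E →ₗ[B] B ⊗[R] E :=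
  (twist δ f).liftBaseChange B

theorem actB_tmul (δ : E →ₗ[R] E ⊗[R] A) (f : A →ₐ[R] B) (b : B) (x : E) :
    actB δ f (b ⊗ₜ[R] x) = b • twist δ f x := rfl

theorem actB_one_tmul (δ : E →ₗ[R] E ⊗[R] A) (f : A →ₐ[R] B) (x : E) :
    actB δ f ((1 : B) ⊗ₜ[R] x) = twist δ f x := by
  rw [actB_tmul, one_smul]

/-- A `B`-linear map out of `B ⊗ E` is determined by its values on `1 ⊗ x`. -/
theorem ext_one_tmul {N : Type*} [AddCommGroup N] [Module B N] {S T : B ⊗[R] E →ₗ[B] N}
    (h : ∀ x : E, S ((1 : B) ⊗ₜ[R] x) = T ((1 : B) ⊗ₜ[R] x)) : S = T := by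
  apply LinearMap.ext
  intro y
  induction y using TensorProduct.induction_on with
  | zero => simp
  | add y z hy hz => rw [map_add, map_add, hy, hz]
  | tmul b x =>
    have : b ⊗ₜ[R] x = b • ((1 : B) ⊗ₜ[R] x) := by rw [TensorProduct.smul_tmul', smul_eq_mul, _root_.mul_one]
    rw [this, map_smul, map_smul, h]

/-- `x ⊗ (a ⊗ a') ↦ f a * f' a' ⊗ x`. -/
def Phi (f f' : A →ₐ[R] B) : E ⊗[R] (A ⊗[R] A) →ₗ[R] B ⊗[R] E :=
  (TensorProduct.comm R E B).toLinearMap ∘ₗ
    (LinearMap.mul' R B ∘ₗ TensorProduct.map f.toLinearMap f'.toLinearMap).lTensor E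

theorem Phi_tmul (f f' : A →ₐ[R] B) (x : E) (a a' : A) :
    Phi f f' (x ⊗ₜ[R] (a ⊗ₜ[R] a')) = (f a * f' a') ⊗ₜ[R] x := by
  simp [Phi]

/-- The composite of two actions, through `Φ`. -/
theorem actB_actB (δ : E →ₗ[R] E ⊗[R] A) (f f' : A →ₐ[R] B) (x : E) :
    actB δ f (actB δ f' ((1 : B) ⊗ₜ[R] x)) =
      Phi f f' (TensorProduct.assoc R E A A (δ.rTensor A (δ x))) := by
  rw [actB_one_tmul, twist_apply]
  generalize δ x = t
  induction t using TensorProduct.induction_on with
  | zero => simp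
  | add y z hy hz => simp only [map_add, hy, hz]
  | tmul y a' =>
    simp only [LinearMap.lTensor_tmul, AlgHom.toLinearMap_apply, TensorProduct.comm_tmul, actB_tmul,
      LinearMap.rTensor_tmul, twist_apply]
    generalize δ y = s
    induction s using TensorProduct.induction_on with
    | zero => simp
    | add y z hy hz => simp only [map_add, smul_add, TensorProduct.add_tmul, hy, hz]
    | tmul z a =>
      simp only [LinearMap.lTensor_tmul, AlgHom.toLinearMap_apply, TensorProduct.comm_tmul,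
        TensorProduct.assoc_tmul, Phi_tmul, TensorProduct.smul_tmul', smul_eq_mul]
      rw [mul_comm]

end Act

section Conv
variable {R : Type u} [CommRing R] {A : Type u} [CommRing A] [Bialgebra R A]
  {E : Type u} [AddCommGroup E] [Module R E] {B : Type u} [CommRing B] [Algebra R B]

theorem Phi_tmul' (f f' : A →ₐ[R] B) (x : E) (t : A ⊗[R] A) :
    Phi f f' (x ⊗ₜ[R] t) = (LinearMap.mul' R B (TensorProduct.map f.toLinearMap f'.toLinearMap t)) ⊗ₜ[R] x := by
  simp [Phi]

theorem convMul_apply' (y y' : WithConv (A →ₐ[R] B)) (a : A) :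
    (y * y').ofConv a =
      LinearMap.mul' R B (TensorProduct.map y.ofConv.toLinearMap y'.ofConv.toLinearMap
        (CoalgebraStruct.comul (R := R) a)) := by
  change (y * y') a = _
  rw [AlgHom.convMul_apply]
  generalize CoalgebraStruct.comul (R := R) a = t
  induction t using TensorProduct.induction_on with
  | zero => simp
  | add y z hy hz => simp only [map_add, hy, hz]
  | tmul b c => simp

/-- The action of a convolution product, through `Φ`. -/
theorem actB_conv (δ : E →ₗ[R] E ⊗[R] A) (y y' : WithConv (A →ₐ[R] B)) (x : E) :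
    actB δ (y * y').ofConv ((1 : B) ⊗ₜ[R] x) =
      Phi y.ofConv y'.ofConv ((CoalgebraStruct.comul (R := R) (A := A)).lTensor E (δ x)) := by
  rw [actB_one_tmul, twist_apply]
  generalize δ x = t
  induction t using TensorProduct.induction_on with
  | zero => simp
  | add y z hy hz => simp only [map_add, hy, hz]
  | tmul z a =>
    rw [LinearMap.lTensor_tmul, LinearMap.lTensor_tmul, TensorProduct.comm_tmul, Phi_tmul',
      AlgHom.toLinearMap_apply, convMul_apply']

theorem actB_one (δ : E →ₗ[R] E ⊗[R] A) (x : E) :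
    actB δ (1 : WithConv (A →ₐ[R] B)).ofConv ((1 : B) ⊗ₜ[R] x) =
      (TensorProduct.comm R E B) ((Algebra.linearMap R B).lTensor E
        ((CoalgebraStruct.counit (R := R) (A := A)).lTensor E (δ x))) := by
  rw [actB_one_tmul, twist_apply]
  generalize δ x = t
  induction t using TensorProduct.induction_on with
  | zero => simp
  | add y z hy hz => simp only [map_add, hy, hz]
  | tmul z a => simp [AlgHom.convOne_def]

end Conv

section Nat
variable {R : Type u} [CommRing R] {A : Type u} [CommRing A] [Algebra R A]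
  {E : Type u} [AddCommGroup E] [Module R E] {B B' : Type u} [CommRing B] [Algebra R B] [CommRing B'] [Algebra R B']

theorem Wmap_comm_lTensor (φ : B →ₐ[R] B') (f : A →ₐ[R] B) (t : E ⊗[R] A) :
    VecGrp.Wmap (M := E) φ ((TensorProduct.comm R E B) (LinearMap.lTensor E f.toLinearMap t)) =
      (TensorProduct.comm R E B') (LinearMap.lTensor E (φ.comp f).toLinearMap t) := by
  induction t using TensorProduct.induction_on with
  | zero => simp
  | add y z hy hz => simp only [map_add, hy, hz]
  | tmul z a => simp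

theorem Wmap_twist (δ : E →ₗ[R] E ⊗[R] A) (φ : B →ₐ[R] B') (f : A →ₐ[R] B) (x : E) :
    VecGrp.Wmap (M := E) φ (twist δ f x) = twist δ (φ.comp f) x :=
  Wmap_comm_lTensor φ f (δ x)

theorem Wmap_actB (δ : E →ₗ[R] E ⊗[R] A) (φ : B →ₐ[R] B') (f : A →ₐ[R] B) (y : B ⊗[R] E) :
    VecGrp.Wmap (M := E) φ (actB δ f y) = actB δ (φ.comp f) (VecGrp.Wmap (M := E) φ y) := by
  induction y using TensorProduct.induction_on with
  | zero => simp
  | add y z hy hz => simp only [map_add, hy, hz]
  | tmul b x =>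
    rw [actB_tmul, VecGrp.Wmap_smul, Wmap_twist, VecGrp.Wmap_tmul, actB_tmul]

end Nat

section GMod
variable {R : Type u} [CommRing R] {A : Type u} [CommRing A] [HopfAlgebra R A]
  {E : Type u} [AddCommGroup E] [Module R E]

/-- The affine group scheme `Spec A` over `Spec R`. -/
abbrev Gsp (R : Type u) [CommRing R] (A : Type u) [CommRing A] [HopfAlgebra R A] :
    Over (Spec (CommRingCat.of R)) :=
  (Spec (CommRingCat.of A)).asOver (Spec (CommRingCat.of R))

/-- The algebra map of a point. -/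
def algOf {B : Type u} [CommRing B] [Algebra R B] (g : VecGrp.pt R B ⟶ Gsp R A) : A →ₐ[R] B :=
  (Spec.mapMulEquiv.symm g).ofConv

theorem algOf_mul {B : Type u} [CommRing B] [Algebra R B] (g h : VecGrp.pt R B ⟶ Gsp R A) :
    algOf (g * h) = (WithConv.toConv (algOf g) * WithConv.toConv (algOf h)).ofConv :=
  congrArg WithConv.ofConv (map_mul (Spec.mapMulEquiv (R := R) (S := A) (T := B)).symm g h)

theorem algOf_one {B : Type u} [CommRing B] [Algebra R B] :
    algOf (1 : VecGrp.pt R B ⟶ Gsp R A) = (1 : WithConv (A →ₐ[R] B)).ofConv :=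
  congrArg WithConv.ofConv (map_one (Spec.mapMulEquiv (R := R) (S := A) (T := B)).symm)

theorem algOf_ptMap_comp {B B' : Type u} [CommRing B] [Algebra R B] [CommRing B'] [Algebra R B']
    (φ : B →ₐ[R] B') (g : VecGrp.pt R B ⟶ Gsp R A) :
    algOf (VecGrp.ptMap φ ≫ g) = φ.comp (algOf g) := by
  obtain ⟨y, rfl⟩ := (Spec.mapMulEquiv (R := R) (S := A) (T := B)).surjective g
  have h1 : VecGrp.ptMap φ ≫ Spec.mapMulEquiv y =
      Spec.mapMulEquiv (WithConv.toConv (φ.comp y.ofConv)) := by
    apply Over.OverMorphism.ext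
    change Spec.map (CommRingCat.ofHom φ.toRingHom) ≫ Spec.map (CommRingCat.ofHom y.ofConv.toRingHom) =
      Spec.map (CommRingCat.ofHom (φ.comp y.ofConv).toRingHom)
    rw [← Spec.map_comp]
    rfl
  unfold algOf
  rw [h1, MulEquiv.symm_apply_apply, MulEquiv.symm_apply_apply]

variable (E) in
/-- The monoid homomorphism from points to endomorphisms attached to a comodule. -/
def endHom [HopfRep.Comod R A E] (B : Type u) [CommRing B] [Algebra R B] :
    (VecGrp.pt R B ⟶ Gsp R A) →* Module.End B (B ⊗[R] E) where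
  toFun g := actB (HopfRep.Comod.coact (k := R) (A := A)) (algOf g)
  map_one' := by
    apply ext_one_tmul
    intro x
    rw [algOf_one, actB_one]
    have h := LinearMap.congr_fun (HopfRep.Comod.counit_comp (k := R) (A := A) (V := E)) x
    simp only [LinearMap.coe_comp, Function.comp_apply, LinearMap.flip_apply, TensorProduct.mk_apply] at h
    rw [h]
    simp
  map_mul' g h := by
    apply ext_one_tmul
    intro x
    rw [algOf_mul, actB_conv, Module.End.mul_apply, actB_actB]
    have hco := LinearMap.congr_fun (HopfRep.Comod.coassoc (k := R) (A := A) (V := E)) x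
    simp only [LinearMap.coe_comp, LinearEquiv.coe_coe, Function.comp_apply] at hco
    rw [hco]

variable (E) in
/-- The `G`-module structure attached to a comodule. -/
def gmodOfComod [HopfRep.Comod R A E] : VecGrp.GMod (Gsp R A) E where
  ρ B _ _ := (LinearMap.GeneralLinearGroup.generalLinearEquiv B (B ⊗[R] E)).toMonoidHom.comp
    (endHom E B).toHomUnits
  naturality φ g x := by
    change VecGrp.Wmap φ (actB _ (algOf g) x) = actB _ (algOf (VecGrp.ptMap φ ≫ g)) (VecGrp.Wmap φ x)
    rw [algOf_ptMap_comp, Wmap_actB]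

theorem gmodOfComod_ρ [HopfRep.Comod R A E] (B : Type u) [CommRing B] [Algebra R B]
    (g : VecGrp.pt R B ⟶ Gsp R A) (y : B ⊗[R] E) :
    (gmodOfComod (R := R) (A := A) E).ρ B g y =
      actB (HopfRep.Comod.coact (k := R) (A := A)) (algOf g) y := rfl

end GMod

section Delta
variable {R : Type u} [CommRing R] {A : Type u} [CommRing A] [HopfAlgebra R A]
  {E : Type u} [AddCommGroup E] [Module R E]

theorem algOf_injective {B : Type u} [CommRing B] [Algebra R B] :
    Function.Injective (algOf (R := R) (A := A) (B := B)) := by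
  intro g h hgh
  apply (Spec.mapMulEquiv (R := R) (S := A) (T := B)).symm.injective
  exact WithConv.ofConv_injective hgh

theorem algOf_mapMulEquiv {B : Type u} [CommRing B] [Algebra R B] (y : WithConv (A →ₐ[R] B)) :
    algOf (Spec.mapMulEquiv y : VecGrp.pt R B ⟶ Gsp R A) = y.ofConv :=
  congrArg WithConv.ofConv ((Spec.mapMulEquiv (R := R) (S := A) (T := B)).symm_apply_apply y)

variable (R A) in
/-- The universal point of `Spec A`. -/
def gU : VecGrp.pt R A ⟶ Gsp R A := Spec.mapMulEquiv (WithConv.toConv (AlgHom.id R A))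

theorem algOf_gU : algOf (gU R A) = AlgHom.id R A := algOf_mapMulEquiv _

theorem eq_ptMap_comp_gU {B : Type u} [CommRing B] [Algebra R B] (g : VecGrp.pt R B ⟶ Gsp R A) :
    VecGrp.ptMap (algOf g) ≫ gU R A = g := by
  apply algOf_injective
  rw [algOf_ptMap_comp, algOf_gU, AlgHom.comp_id]

/-- The coaction attached to a `G`-module structure: the action of the universal point. -/
def deltaOf (m : VecGrp.GMod (Gsp R A) E) : E →ₗ[R] E ⊗[R] A :=
  (TensorProduct.comm R E A).symm.toLinearMap ∘ₗ
    ((m.ρ A (gU R A)).toLinearMap.restrictScalars R) ∘ₗ (TensorProduct.mk R A E 1)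

theorem comm_deltaOf (m : VecGrp.GMod (Gsp R A) E) (x : E) :
    (TensorProduct.comm R E A) (deltaOf m x) = m.ρ A (gU R A) ((1 : A) ⊗ₜ[R] x) := by
  simp [deltaOf]

/-- A `G`-module structure is given by the formula of its coaction. -/
theorem ρ_one_tmul (m : VecGrp.GMod (Gsp R A) E) {B : Type u} [CommRing B] [Algebra R B]
    (g : VecGrp.pt R B ⟶ Gsp R A) (x : E) :
    m.ρ B g ((1 : B) ⊗ₜ[R] x) = twist (deltaOf m) (algOf g) x := by
  have h := m.naturality (algOf g) (gU R A) ((1 : A) ⊗ₜ[R] x)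
  rw [eq_ptMap_comp_gU, VecGrp.Wmap_tmul, map_one, ← comm_deltaOf] at h
  rw [← h, twist_apply]
  have h2 := Wmap_comm_lTensor (E := E) (algOf g) (AlgHom.id R A) (deltaOf m x)
  rw [AlgHom.comp_id, AlgHom.toLinearMap_id, LinearMap.lTensor_id, LinearMap.id_apply] at h2
  exact h2

theorem ρ_eq_actB (m : VecGrp.GMod (Gsp R A) E) {B : Type u} [CommRing B] [Algebra R B]
    (g : VecGrp.pt R B ⟶ Gsp R A) :
    ((m.ρ B g : (B ⊗[R] E) ≃ₗ[B] (B ⊗[R] E)) : (B ⊗[R] E) →ₗ[B] (B ⊗[R] E)) =
      actB (deltaOf m) (algOf g) := by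
  apply ext_one_tmul
  intro x
  rw [actB_one_tmul]
  exact ρ_one_tmul m g x

theorem ρ_apply (m : VecGrp.GMod (Gsp R A) E) {B : Type u} [CommRing B] [Algebra R B]
    (g : VecGrp.pt R B ⟶ Gsp R A) (y : B ⊗[R] E) :
    m.ρ B g y = actB (deltaOf m) (algOf g) y :=
  LinearMap.congr_fun (ρ_eq_actB m g) y

theorem Phi_includeLeft_includeRight (t : E ⊗[R] (A ⊗[R] A)) :
    Phi (Algebra.TensorProduct.includeLeft : A →ₐ[R] A ⊗[R] A) Algebra.TensorProduct.includeRight t =
      (TensorProduct.comm R E (A ⊗[R] A)) t := by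
  induction t using TensorProduct.induction_on with
  | zero => simp
  | add y z hy hz => simp only [map_add, hy, hz]
  | tmul x s =>
    induction s using TensorProduct.induction_on with
    | zero => simp
    | add y z hy hz => simp only [TensorProduct.tmul_add, map_add, hy, hz]
    | tmul a a' => simp [Phi_tmul]

theorem deltaOf_coassoc (m : VecGrp.GMod (Gsp R A) E) :
    (TensorProduct.assoc R E A A).toLinearMap ∘ₗ (deltaOf m).rTensor A ∘ₗ deltaOf m =
      (CoalgebraStruct.comul (R := R) (A := A)).lTensor E ∘ₗ deltaOf m := by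
  apply LinearMap.ext
  intro x
  simp only [LinearMap.coe_comp, LinearEquiv.coe_coe, Function.comp_apply]
  let y₁ : WithConv (A →ₐ[R] A ⊗[R] A) := WithConv.toConv Algebra.TensorProduct.includeLeft
  let y₂ : WithConv (A →ₐ[R] A ⊗[R] A) := WithConv.toConv Algebra.TensorProduct.includeRight
  let g₁ : VecGrp.pt R (A ⊗[R] A) ⟶ Gsp R A := Spec.mapMulEquiv y₁
  let g₂ : VecGrp.pt R (A ⊗[R] A) ⟶ Gsp R A := Spec.mapMulEquiv y₂
  have hmul : m.ρ (A ⊗[R] A) (g₁ * g₂) ((1 : A ⊗[R] A) ⊗ₜ[R] x) =
      m.ρ (A ⊗[R] A) g₁ (m.ρ (A ⊗[R] A) g₂ ((1 : A ⊗[R] A) ⊗ₜ[R] x)) := by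
    rw [map_mul]; rfl
  rw [ρ_apply, ρ_apply, ρ_apply, algOf_mul, algOf_mapMulEquiv, algOf_mapMulEquiv, actB_conv, actB_actB,
    Phi_includeLeft_includeRight, Phi_includeLeft_includeRight] at hmul
  exact ((TensorProduct.comm R E (A ⊗[R] A)).injective hmul).symm

theorem deltaOf_counit (m : VecGrp.GMod (Gsp R A) E) :
    (CoalgebraStruct.counit (R := R) (A := A)).lTensor E ∘ₗ deltaOf m = (TensorProduct.mk R E R).flip 1 := by
  apply LinearMap.ext
  intro x
  simp only [LinearMap.coe_comp, Function.comp_apply, LinearMap.flip_apply, TensorProduct.mk_apply]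
  have h1 : m.ρ R (1 : VecGrp.pt R R ⟶ Gsp R A) ((1 : R) ⊗ₜ[R] x) = (1 : R) ⊗ₜ[R] x := by
    rw [map_one]; rfl
  rw [ρ_apply, algOf_one, actB_one] at h1
  have h2 : (Algebra.linearMap R R) = LinearMap.id := by
    apply LinearMap.ext; intro r; simp
  rw [h2, LinearMap.lTensor_id, LinearMap.id_apply] at h1
  have h3 := congrArg (TensorProduct.comm R E R).symm h1
  rw [LinearEquiv.symm_apply_apply] at h3
  rw [h3]
  simp

end Delta

section Dict
variable {R : Type u} [CommRing R] {A : Type u} [CommRing A] [HopfAlgebra R A]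
  {E : Type u} [AddCommGroup E] [Module R E]

/-- Two `G`-module structures agreeing on the vectors `1 ⊗ x` are equal. -/
theorem gmod_ext {m m' : VecGrp.GMod (Gsp R A) E}
    (h : ∀ (B : Type u) [CommRing B] [Algebra R B] (g : VecGrp.pt R B ⟶ Gsp R A) (x : E),
      m.ρ B g ((1 : B) ⊗ₜ[R] x) = m'.ρ B g ((1 : B) ⊗ₜ[R] x)) : m = m' := by
  obtain ⟨ρ, hρ⟩ := m
  obtain ⟨ρ', hρ'⟩ := m'
  have : ρ = ρ' := by
    funext B _ _
    apply MonoidHom.ext
    intro g
    apply LinearEquiv.toLinearMap_injective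
    apply ext_one_tmul
    intro x
    exact h B g x
  subst this
  rfl

/-- **Dictionary, part 1**: a comodule structure corresponds to exactly one `G`-module structure. -/
theorem existsUnique_gmod [HopfRep.Comod R A E] :
    ∃! m : VecGrp.GMod (Gsp R A) E,
      ∀ (B : Type u) [CommRing B] [Algebra R B] (g : VecGrp.pt R B ⟶ Gsp R A) (x : E),
        m.ρ B g ((1 : B) ⊗ₜ[R] x) =
          (TensorProduct.comm R E B) (LinearMap.lTensor E (Spec.mapMulEquiv.symm g).ofConv.toLinearMap
            (HopfRep.Comod.coact (k := R) (A := A) x)) := by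
  refine ⟨gmodOfComod E, fun B _ _ g x => ?_, fun m' hm' => ?_⟩
  · rw [gmodOfComod_ρ, actB_one_tmul]
    rfl
  · apply gmod_ext
    intro B _ _ g x
    rw [hm' B g x, gmodOfComod_ρ, actB_one_tmul]
    rfl

/-- **Dictionary, part 2**: a `G`-module structure corresponds to exactly one comodule structure. -/
theorem existsUnique_delta (m : VecGrp.GMod (Gsp R A) E) :
    ∃! δ : E →ₗ[R] E ⊗[R] A,
      ((TensorProduct.assoc R E A A).toLinearMap ∘ₗ δ.rTensor A ∘ₗ δ =
          (CoalgebraStruct.comul (R := R) (A := A)).lTensor E ∘ₗ δ ∧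
        (CoalgebraStruct.counit (R := R) (A := A)).lTensor E ∘ₗ δ = (TensorProduct.mk R E R).flip 1) ∧
      (∀ (B : Type u) [CommRing B] [Algebra R B] (g : VecGrp.pt R B ⟶ Gsp R A) (x : E),
        m.ρ B g ((1 : B) ⊗ₜ[R] x) =
          (TensorProduct.comm R E B) (LinearMap.lTensor E (Spec.mapMulEquiv.symm g).ofConv.toLinearMap (δ x))) := by
  refine ⟨deltaOf m, ⟨⟨deltaOf_coassoc m, deltaOf_counit m⟩, fun B _ _ g x => ρ_one_tmul m g x⟩,
    fun δ' hδ' => ?_⟩
  apply LinearMap.ext
  intro x
  have h1 := hδ'.2 A (gU R A) x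
  have h2 : (Spec.mapMulEquiv.symm (gU R A)).ofConv = AlgHom.id R A := algOf_gU
  rw [h2, AlgHom.toLinearMap_id, LinearMap.lTensor_id, LinearMap.id_apply, ← comm_deltaOf] at h1
  exact ((TensorProduct.comm R E A).injective h1).symm

end Dict

end Groth.Agent.Lib.GModComod38
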