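import Groth.Agent.Lib.GPKer2
import Groth.Agent.Lib.CurveDeg48d
import Groth.Agent.Lib.EulerChar54
import Groth.Agent.S0047

/-!
# Generalised parabolic structures: `h⁰(G ⊗ O_D) = r · h⁰(O_D)` and parabolic monomorphisms (helper2)

Namespace `Groth.Agent.Lib.GPHom2`.  `H : ProperFinHyp.Hyp` is the statement of S0002.

* `finrank_fibD_eq` : on an integral proper curve, for an effective Cartier divisor `D` and `G` finite locally free of rank `r`,
  `dim H⁰(G ⊗ O_D) = r · dim H⁰(O_D)`.
* `finrank_comap_le` : `dim φ⁻¹(P) ≤ dim ker φ + dim P`.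
* `finrank_ker_fibDMap_le'` : for a same-rank mono `i : G ⟶ E` of locally free modules,
  `dim ker (H⁰(G_D) → H⁰(E_D)) ≤ deg E − deg G`.
-/

set_option autoImplicit false
universe u
open CategoryTheory CategoryTheory.Limits AlgebraicGeometry

namespace Groth.Agent.Lib.GPHom2

open Groth.Agent.Lib.TwistEquiv Groth.Agent.Lib.OXModTensor CohB1 Groth.Agent.Lib.CohLES

section LinAlg

/-- the preimage of a subspace has dimension at most that of the kernel plus that of the subspace -/
theorem finrank_comap_le {k : Type u} [Field k] {V W : Type u} [AddCommGroup V] [Module k V]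
    [AddCommGroup W] [Module k W] [Module.Finite k V] [Module.Finite k W] (φ : V →ₗ[k] W)
    (P : Submodule k W) :
    Module.finrank k (P.comap φ) ≤ Module.finrank k (LinearMap.ker φ) + Module.finrank k P := by
  have h1 := LinearMap.finrank_range_add_finrank_ker (φ.domRestrict (P.comap φ))
  have h2 : Module.finrank k (LinearMap.range (φ.domRestrict (P.comap φ))) ≤ Module.finrank k P := by
    apply Submodule.finrank_mono
    rintro _ ⟨x, rfl⟩
    exact x.2
  have hle : LinearMap.ker φ ≤ P.comap φ := fun x hx => by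
    rw [Submodule.mem_comap, LinearMap.mem_ker.mp hx]; exact P.zero_mem
  have h3 : Module.finrank k (LinearMap.ker (φ.domRestrict (P.comap φ))) =
      Module.finrank k (LinearMap.ker φ) := by
    rw [LinearMap.ker_domRestrict]
    exact (Submodule.comapSubtypeEquivOfLe hle).finrank_eq
  omega

end LinAlg

section Main

open Groth.Agent.Lib.ProperFinHyp Groth.Agent.Lib.CurveVB67 Groth.Agent.Lib.CurveLinSeries54

variable (H : Hyp.{u}) (k : Type u) [Field k] (X : Scheme.{u}) [X.Over (Spec (CommRingCat.of k))]
  [IsProper (X ↘ (Spec (CommRingCat.of k)))] [IsIntegral X]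

include H in
/-- `dim H⁰(G ⊗ O_D) = r · dim H⁰(O_D)` for `G` finite locally free of rank `r` and `D` an effective Cartier divisor on an
integral proper curve. -/
theorem finrank_fibD_eq (hdim : topologicalKrullDim X ≤ 1) (I : X.IdealSheafData)
    (hD : FGA.IsEffCartier I) {G : X.Modules} (r : ℕ) (hG : FlatMod.IsFinLocFreeOfRank r G) :
    Module.finrank k (ParSh.fibD X I G) = r * Module.finrank k (Coh.HH X (ClSub.quotMod I) 0) := by
  have hnoeth : IsLocallyNoetherian X :=
    LocallyOfFiniteType.isLocallyNoetherian (X ↘ Spec (CommRingCat.of k))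
  have hGc : Coh.IsCoh G := isCoh_of_rank hG
  let Q := ClSub.quotMod I
  have hQc : Coh.IsCoh Q := Groth.Agent.Lib.SnapCoeff13.isCoh_quotMod I
  have hQsub : CohB1.support Q ⊆ (I.support : Set X) :=
    Groth.Agent.Lib.ParSupp97.support_quotMod_subset I
  have hQcl : ∀ x ∈ CohB1.support Q, IsClosed ({x} : Set X) := fun x hx =>
    Groth.Agent.Lib.GPKer2.isClosed_singleton_of_mem_support X hdim I hD (hQsub hx)
  have hsuppI : topologicalKrullDim (I.support : Set X) ≤ ((0 : ℕ) : WithBot ℕ∞) :=
    Groth.Agent.Lib.EffCartierDim13.dim_support_le hD 0 (by simpa using hdim)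
  have hsupp : topologicalKrullDim (CohB1.support Q) ≤ 0 := by
    have hinc : Topology.IsInducing (Set.inclusion hQsub) :=
      (Topology.IsEmbedding.inclusion hQsub).isInducing
    exact (hinc.topologicalKrullDim_le).trans (by simpa using hsuppI)
  have hχ := Groth.Agent.Lib.CurveDeg48.euler_tensorMod_of_dim_support_le_zero' H k X Q hQc hsupp r G hG
  have hGD : Coh.IsCoh (tensorMod G Q) := Groth.Agent.Lib.CohFinAmple.isCoh_tensorMod hGc hQc
  have hGDcl : ∀ x ∈ CohB1.support (tensorMod G Q), IsClosed ({x} : Set X) := by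
    intro x hx
    have iQ : Q.IsQuasicoherent := hQc.1
    have iQ' : Q.IsFiniteType := hQc.2
    have iG : G.IsQuasicoherent := hGc.1
    have iG' : G.IsFiniteType := hGc.2
    rw [Groth.Agent.Lib.SupportTensor.support_tensorMod] at hx
    exact hQcl x hx.2
  have e1 := Groth.Agent.Lib.EulerChar54.euler_eq_finrank_zero k X Q
    (fun i hi => Groth.Agent.S0047.result X Q hQc hQcl i hi)
  have e2 := Groth.Agent.Lib.EulerChar54.euler_eq_finrank_zero k X (tensorMod G Q)
    (fun i hi => Groth.Agent.S0047.result X _ hGD hGDcl i hi)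
  rw [e1, e2] at hχ
  exact_mod_cast hχ

include H in
/-- **Kernel bound**, second form: `dim ker (H⁰(G_D) → H⁰(E_D)) ≤ deg E − deg G` for a same-rank mono of locally free
modules on an integral proper curve. -/
theorem finrank_ker_fibDMap_le' (hdim : topologicalKrullDim X ≤ 1) (I : X.IdealSheafData)
    (hD : FGA.IsEffCartier I) {G E : X.Modules} (n : ℕ) (hG : FlatMod.IsFinLocFreeOfRank n G)
    (hE : FlatMod.IsFinLocFreeOfRank n E) (i : G ⟶ E) [Mono i] :
    (Module.finrank k (LinearMap.ker (ParSh.fibDMap k X I i)) : ℤ) ≤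
      Curv2.deg k X E n - Curv2.deg k X G n := by
  have h := Groth.Agent.Lib.GPKer2.finrank_ker_fibDMap_le H k X hdim I hD n hG hE i
  rw [finrank_fibD_eq H k X hdim I hD n hG, finrank_fibD_eq H k X hdim I hD n hE] at h
  linarith

end Main

end Groth.Agent.Lib.GPHom2
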