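import Groth.Agent.Lib.GPKer2
import Groth.Agent.Lib.CurveVB67H
import Groth.Agent.Lib.CurveDeg48d
import Groth.Agent.Lib.EffCartierDim13
import Groth.Agent.Lib.EulerChar54

/-!
# Generalised parabolic bundles: dimension counts (helper97)

Namespace `Groth.Agent.Lib.GPHom97`.

* `finrank_le_comap_add` / `finrank_comap_le` : linear algebra.
* `dim_support_quotMod_le`, `isClosed_of_mem_support_quotMod` : the support of `O_D` (`D` effective Cartier on an integral
  scheme of dimension `≤ 1`) has dimension `≤ 0` and consists of closed points.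
* `finrank_fibD_eq` : `h⁰(G ⊗ O_D) = r · h⁰(O_D)` for `G` locally free of rank `r`.
* `ker_fibDMap_le_range` : for `p : E ⟶ V` epi with kernel `K`, `ker (H⁰(E_D) → H⁰(V_D)) ⊆ range (H⁰(K_D) → H⁰(E_D))`.
-/

set_option autoImplicit false
set_option maxHeartbeats 400000
universe u
open CategoryTheory CategoryTheory.Limits AlgebraicGeometry

namespace Groth.Agent.Lib.GPHom97

section LinAlg

variable {k : Type u} [Field k] {V₀ V V' : Type u} [AddCommGroup V₀] [Module k V₀]
  [AddCommGroup V] [Module k V] [AddCommGroup V'] [Module k V']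

/-- `dim (φ⁻¹ W) ≤ dim ker φ + dim W` -/
theorem finrank_comap_le [Module.Finite k V] [Module.Finite k V'] (φ : V →ₗ[k] V') (W : Submodule k V') :
    Module.finrank k (W.comap φ) ≤ Module.finrank k (LinearMap.ker φ) + Module.finrank k W := by
  let ψ : (W.comap φ) →ₗ[k] W := φ.restrict (fun x hx => hx)
  have h1 := LinearMap.finrank_range_add_finrank_ker ψ
  have h2 : Module.finrank k (LinearMap.range ψ) ≤ Module.finrank k W := Submodule.finrank_le _
  have h3 : Module.finrank k (LinearMap.ker ψ) ≤ Module.finrank k (LinearMap.ker φ) := by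
    let ι : LinearMap.ker ψ →ₗ[k] LinearMap.ker φ :=
      { toFun := fun x => ⟨x.1.1, by
          have := x.2
          rw [LinearMap.mem_ker] at this ⊢
          exact congrArg Subtype.val this⟩
        map_add' := fun _ _ => rfl
        map_smul' := fun _ _ => rfl }
    apply LinearMap.finrank_le_finrank_of_injective (f := ι)
    intro x y hxy
    apply Subtype.ext; apply Subtype.ext
    exact congrArg (fun z : LinearMap.ker φ => (z : V)) hxy
  omega

/-- If `a` maps `F₁` into `W` and `ker a ⊆ range b` then `dim F₁ ≤ dim (b⁻¹ F₁) + dim W`. -/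
theorem finrank_le_comap_add [Module.Finite k V₀] [Module.Finite k V] [Module.Finite k V']
    (b : V₀ →ₗ[k] V) (a : V →ₗ[k] V') (hab : LinearMap.ker a ≤ LinearMap.range b)
    (F₁ : Submodule k V) (W : Submodule k V') (hW : F₁.map a ≤ W) :
    Module.finrank k F₁ ≤ Module.finrank k (F₁.comap b) + Module.finrank k W := by
  let ψ : F₁ →ₗ[k] W := a.restrict (fun x hx => hW ⟨x, hx, rfl⟩)
  have h1 := LinearMap.finrank_range_add_finrank_ker ψ
  have h2 : Module.finrank k (LinearMap.range ψ) ≤ Module.finrank k W := Submodule.finrank_le _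
  have h3 : Module.finrank k (LinearMap.ker ψ) ≤ Module.finrank k (F₁.comap b) := by
    -- `ker ψ` embeds in `map b (comap b F₁)`
    have h4 : Module.finrank k (LinearMap.ker ψ) ≤ Module.finrank k ((F₁.comap b).map b) := by
      let ι : LinearMap.ker ψ →ₗ[k] ((F₁.comap b).map b) :=
        { toFun := fun x => ⟨x.1.1, by
            have hx := x.2
            rw [LinearMap.mem_ker] at hx
            have hx' : a x.1.1 = 0 := congrArg Subtype.val hx
            obtain ⟨y, hy⟩ := hab (LinearMap.mem_ker.mpr hx')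
            exact ⟨y, by change b y ∈ F₁; rw [hy]; exact x.1.2, hy⟩⟩
          map_add' := fun _ _ => rfl
          map_smul' := fun _ _ => rfl }
      apply LinearMap.finrank_le_finrank_of_injective (f := ι)
      intro x y hxy
      apply Subtype.ext; apply Subtype.ext
      exact congrArg (fun z : ((F₁.comap b).map b) => (z : V)) hxy
    exact h4.trans (Submodule.finrank_map_le b _)
  omega

end LinAlg

section Geom

open Groth.Agent.Lib.ProperFinHyp Groth.Agent.Lib.CurveVB67 Groth.Agent.Lib.CohLES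
  Groth.Agent.Lib.TwistEquiv Groth.Agent.Lib.OXModTensor CohB1 Groth.Agent.Lib.GPKer2

variable (H : Hyp.{u}) (k : Type u) [Field k] (X : Scheme.{u}) [X.Over (Spec (CommRingCat.of k))]
  [IsProper (X ↘ (Spec (CommRingCat.of k)))] [IsIntegral X]

omit [IsProper (X ↘ (Spec (CommRingCat.of k)))] [X.Over (Spec (CommRingCat.of k))] in
theorem dim_support_quotMod_le (hdim : topologicalKrullDim X ≤ 1) (I : X.IdealSheafData)
    (hD : FGA.IsEffCartier I) : topologicalKrullDim (CohB1.support (ClSub.quotMod I)) ≤ 0 := by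
  refine (Groth.Agent.Lib.IntNumAlg13.topologicalKrullDim_mono
    (Groth.Agent.Lib.ParSupp97.support_quotMod_subset I)).trans ?_
  have := Groth.Agent.Lib.EffCartierDim13.dim_support_le hD 0 (by simpa using hdim)
  simpa using this

omit [IsProper (X ↘ (Spec (CommRingCat.of k)))] [X.Over (Spec (CommRingCat.of k))] in
theorem isClosed_of_mem_support_quotMod (hdim : topologicalKrullDim X ≤ 1) (I : X.IdealSheafData)
    (hD : FGA.IsEffCartier I) {x : X} (hx : x ∈ CohB1.support (ClSub.quotMod I)) :
    IsClosed ({x} : Set X) :=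
  isClosed_singleton_of_mem_support X hdim I hD
    (Groth.Agent.Lib.ParSupp97.support_quotMod_subset I hx)

include H in
/-- `h⁰(G ⊗ O_D) = r · h⁰(O_D)` for `G` locally free of rank `r`. -/
theorem finrank_fibD_eq (hdim : topologicalKrullDim X ≤ 1) (I : X.IdealSheafData)
    (hD : FGA.IsEffCartier I) {G : X.Modules} (r : ℕ) (hG : FlatMod.IsFinLocFreeOfRank r G) :
    Module.finrank k (ParSh.fibD X I G) = r * Module.finrank k (Coh.HH X (ClSub.quotMod I) 0) := by
  have hnoeth : IsLocallyNoetherian X :=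
    LocallyOfFiniteType.isLocallyNoetherian (X ↘ Spec (CommRingCat.of k))
  have hGc : Coh.IsCoh G := isCoh_of_rank hG
  have hQc : Coh.IsCoh (ClSub.quotMod I) := Groth.Agent.Lib.SnapCoeff13.isCoh_quotMod I
  have hdimQ := dim_support_quotMod_le X hdim I hD
  have hQcl : ∀ x ∈ CohB1.support (ClSub.quotMod I), IsClosed ({x} : Set X) := fun x hx =>
    isClosed_of_mem_support_quotMod X hdim I hD hx
  have hTc : Coh.IsCoh (tensorMod G (ClSub.quotMod I)) :=
    Groth.Agent.Lib.CohFinAmple.isCoh_tensorMod hGc hQc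
  have hvQ : ∀ i, 0 < i → Subsingleton (Coh.HH X (ClSub.quotMod I) i) := fun i hi =>
    Groth.Agent.S0047.result X _ hQc hQcl i hi
  have hvT : ∀ i, 0 < i → Subsingleton (Coh.HH X (tensorMod G (ClSub.quotMod I)) i) := fun i hi => by
    refine Groth.Agent.S0047.result X _ hTc (fun y hy => hQcl y ?_) i hi
    haveI := hGc.1
    haveI := hGc.2
    haveI := hQc.1
    haveI := hQc.2
    rw [Groth.Agent.Lib.SupportTensor.support_tensorMod] at hy
    exact hy.2
  have a1 := Groth.Agent.Lib.EulerChar54.euler_eq_finrank_zero k X _ hvT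
  have a2 := Groth.Agent.Lib.EulerChar54.euler_eq_finrank_zero k X _ hvQ
  have a3 : Curv2.euler k X (tensorMod G (ClSub.quotMod I)) = r * Curv2.euler k X (ClSub.quotMod I) :=
    Groth.Agent.Lib.CurveDeg48.euler_tensorMod_of_dim_support_le_zero' H k X _ hQc hdimQ r G hG
  rw [a1, a2] at a3
  exact_mod_cast a3

/-- For an epimorphism `p : E ⟶ V` with `E` coherent:
`ker (H⁰(E_D) → H⁰(V_D)) ⊆ range (H⁰((ker p)_D) → H⁰(E_D))`. -/
theorem ker_fibDMap_le_range (hdim : topologicalKrullDim X ≤ 1) (I : X.IdealSheafData)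
    (hD : FGA.IsEffCartier I) {E V : X.Modules} (hE : Coh.IsCoh E) (hV : Coh.IsCoh V)
    (p : E ⟶ V) [Epi p] :
    LinearMap.ker (ParSh.fibDMap k X I p) ≤ LinearMap.range (ParSh.fibDMap k X I (kernel.ι p)) := by
  have hnoeth : IsLocallyNoetherian X :=
    LocallyOfFiniteType.isLocallyNoetherian (X ↘ Spec (CommRingCat.of k))
  have hQc : Coh.IsCoh (ClSub.quotMod I) := Groth.Agent.Lib.SnapCoeff13.isCoh_quotMod I
  have hQcl : ∀ x ∈ CohB1.support (ClSub.quotMod I), IsClosed ({x} : Set X) := fun x hx =>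
    isClosed_of_mem_support_quotMod X hdim I hD hx
  have iE : E.IsQuasicoherent := hE.1
  have iV : V.IsQuasicoherent := hV.1
  have hKc : Coh.IsCoh (kernel p) := Groth.Agent.Lib.H90OXModExact.isCoh_kernel p hE
  let Q := ClSub.quotMod I
  let F := tensorRightFunctor Q
  let S₀ : ShortComplex X.Modules := ShortComplex.mk (kernel.ι p) p (kernel.condition p)
  have hS₀ : S₀.Exact := ShortComplex.exact_kernel p
  have hS₀g : Epi S₀.g := inferInstanceAs (Epi p)
  obtain ⟨hSex, -⟩ := Groth.Agent.Lib.H90CurveH1.rightExact_map_tensorRight Q S₀ hS₀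
  have hKD : Coh.IsCoh (tensorMod (kernel p) Q) := Groth.Agent.Lib.CohFinAmple.isCoh_tensorMod hKc hQc
  have iKD : (F.obj (kernel p)).IsQuasicoherent := hKD.1
  have hED : Coh.IsCoh (tensorMod E Q) := Groth.Agent.Lib.CohFinAmple.isCoh_tensorMod hE hQc
  have iED : (F.obj E).IsQuasicoherent := hED.1
  have hKKc : Coh.IsCoh (kernel (F.map (kernel.ι p))) :=
    Groth.Agent.Lib.H90OXModExact.isCoh_kernel _ hKD
  have hKKcl : ∀ x ∈ CohB1.support (kernel (F.map (kernel.ι p))), IsClosed ({x} : Set X) := by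
    intro x hx
    have hx' : x ∈ CohB1.support (tensorMod (kernel p) Q) :=
      Groth.Agent.Lib.H90DevHub2.support_subset_of_mono (kernel.ι (F.map (kernel.ι p))) hx
    have iQ : Q.IsQuasicoherent := hQc.1
    have iQ' : Q.IsFiniteType := hQc.2
    have iK : (kernel p).IsQuasicoherent := hKc.1
    have iK' : (kernel p).IsFiniteType := hKc.2
    rw [Groth.Agent.Lib.SupportTensor.support_tensorMod] at hx'
    exact hQcl x hx'.2
  have hK1 : Subsingleton (Coh.HH X (kernel (S₀.map F).f) 1) :=
    Groth.Agent.S0047.result X _ hKKc hKKcl 1 Nat.one_pos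
  have hmid := exact_mid_zero (S₀.map F) hSex
  intro x hx
  have hx' : map (S₀.map F).g 0 x = 0 := by
    have h0 : map (ParSh.resDMap I p) 0 x = 0 := hx
    rw [resDMap_eq] at h0
    exact h0
  obtain ⟨y, hy⟩ := hmid x hx'
  refine ⟨y, ?_⟩
  change map (ParSh.resDMap I (kernel.ι p)) 0 y = x
  rw [resDMap_eq]
  exact hy

end Geom

end Groth.Agent.Lib.GPHom97
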