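import Groth.Agent.Lib.GPHom97a
import Groth.Agent.Lib.CurveVB67E

/-!
# Homomorphisms between semistable generalised parabolic bundles of the same slope (helper97)

Namespace `Groth.Agent.Lib.GPHom97`.

* `fibDMap_comp`, `gpInduced_comp`.
* `core` : for a nonzero parabolic homomorphism `f : E ⟶ F` between semistable generalised parabolic bundles of the same
  parabolic slope (weight `0 ≤ α < 1`) on an integral proper curve with principal local rings: the image is saturated
  (`coker f` locally free of rank `m - s`), `f` is mono if `E` is stable, and the image has full rank if `F` is stable.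
-/

set_option autoImplicit false
set_option maxHeartbeats 1000000
universe u
open CategoryTheory CategoryTheory.Limits AlgebraicGeometry

namespace Groth.Agent.Lib.GPHom97

open Groth.Agent.Lib.ProperFinHyp Groth.Agent.Lib.CurveVB67 Groth.Agent.Lib.CohLES
  Groth.Agent.Lib.TwistEquiv Groth.Agent.Lib.OXModTensor CohB1 Groth.Agent.Lib.GPKer2

variable (H : Hyp.{u}) (k : Type u) [Field k] (X : Scheme.{u}) [X.Over (Spec (CommRingCat.of k))]
  [IsProper (X ↘ (Spec (CommRingCat.of k)))] [IsIntegral X]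
  (hpid : ∀ x : X, IsPrincipalIdealRing (X.presheaf.stalk x))

omit [IsProper (X ↘ (Spec (CommRingCat.of k)))] [IsIntegral X] in
theorem fibDMap_comp (I : X.IdealSheafData) {A B C : X.Modules} (x : A ⟶ B) (y : B ⟶ C)
    (v : ParSh.fibD X I A) :
    ParSh.fibDMap k X I (x ≫ y) v = ParSh.fibDMap k X I y (ParSh.fibDMap k X I x v) := by
  have h : ParSh.resDMap I (x ≫ y) = ParSh.resDMap I x ≫ ParSh.resDMap I y := by
    rw [resDMap_eq, resDMap_eq, resDMap_eq, Functor.map_comp]
    rfl
  change map (ParSh.resDMap I (x ≫ y)) 0 v = map (ParSh.resDMap I y) 0 (map (ParSh.resDMap I x) 0 v)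
  rw [h]
  exact map_comp _ _ 0 v

omit [IsProper (X ↘ (Spec (CommRingCat.of k)))] [IsIntegral X] in
theorem gpInduced_comp (I : X.IdealSheafData) {A B C : X.Modules} (x : A ⟶ B) (y : B ⟶ C)
    (W : Submodule k (ParSh.fibD X I C)) :
    ParSh.gpInduced k X I (x ≫ y) W = (ParSh.gpInduced k X I y W).comap (ParSh.fibDMap k X I x) := by
  ext v
  change ParSh.fibDMap k X I (x ≫ y) v ∈ W ↔ ParSh.fibDMap k X I y (ParSh.fibDMap k X I x v) ∈ W
  rw [fibDMap_comp]

omit [IsProper (X ↘ (Spec (CommRingCat.of k)))] [IsIntegral X] in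
theorem fibDMap_id (I : X.IdealSheafData) (A : X.Modules) (v : ParSh.fibD X I A) :
    ParSh.fibDMap k X I (𝟙 A) v = v := by
  have h : ParSh.resDMap I (𝟙 A) = 𝟙 _ := by
    rw [resDMap_eq]
    exact (tensorRightFunctor (ClSub.quotMod I)).map_id A
  change map (ParSh.resDMap I (𝟙 A)) 0 v = v
  rw [h]
  exact map_id _ 0 v

omit [IsProper (X ↘ (Spec (CommRingCat.of k)))] [IsIntegral X] in
theorem fibDMap_injective_of_isIso (I : X.IdealSheafData) {A B : X.Modules} (f : A ⟶ B) [IsIso f] :
    Function.Injective (ParSh.fibDMap k X I f) := by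
  intro v w hvw
  have h1 := congrArg (ParSh.fibDMap k X I (inv f)) hvw
  rw [← fibDMap_comp, ← fibDMap_comp, IsIso.hom_inv_id, fibDMap_id, fibDMap_id] at h1
  exact h1

omit [IsIntegral X] in
include H in
theorem finite_fibD (I : X.IdealSheafData) {G : X.Modules} (hG : Coh.IsCoh G) :
    Module.Finite k (ParSh.fibD X I G) := by
  have hnoeth := isLocallyNoetherian_of_proper k X
  exact H k X _ (Groth.Agent.Lib.CohFinAmple.isCoh_tensorMod hG
    (Groth.Agent.Lib.SnapCoeff13.isCoh_quotMod I)) 0

omit [IsIntegral X] [IsProper (X ↘ (Spec (CommRingCat.of k)))] [X.Over (Spec (CommRingCat.of k))] in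
theorem isFinLocFreeOfRank_of_iso {A B : X.Modules} (e : A ≅ B) {r : ℕ}
    (h : FlatMod.IsFinLocFreeOfRank r B) : FlatMod.IsFinLocFreeOfRank r A := by
  intro x
  obtain ⟨V, hV, ⟨t⟩⟩ := h x
  exact ⟨V, hV, ⟨(Scheme.Modules.restrictFunctor V.ι).mapIso e ≪≫ t⟩⟩

/-- real-number core of the slope argument -/
theorem slope_arith (α : ℝ) (hα0 : 0 ≤ α) (hα1 : α < 1) (n m κ s : ℝ) (hn : 0 < n) (hm : 0 < m)
    (hns : n = κ + s)
    (dE dK dI dW x₁ xK xI xW xc A B gK gW : ℝ)
    (hdeg : dE = dK + dI) (hC1 : x₁ ≤ xK + xI) (hC2 : xI ≤ xc + xW) (ht : xc ≤ dW - dI)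
    (hA : A = dE + α * x₁) (hgK : gK = dK + α * xK) (hgW : gW = dW + α * xW)
    (hμ : A * m = B * n) (hD1 : gK * n ≤ A * κ) (hD2 : gW * m ≤ B * s) (hle : dI ≤ dW) :
    dW ≤ dI ∧ gK * n = A * κ ∧ gW * m = B * s := by
  have h1 : A ≤ gK + gW - (1 - α) * (dW - dI) := by
    have e1 : α * x₁ ≤ α * (xK + (xc + xW)) :=
      mul_le_mul_of_nonneg_left (hC1.trans (by linarith)) hα0
    have e2 : α * xc ≤ α * (dW - dI) := mul_le_mul_of_nonneg_left ht hα0
    rw [hA, hgK, hgW, hdeg]
    nlinarith
  have hnm : 0 < n * m := mul_pos hn hm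
  have h2 : A * (n * m) ≤ (gK * n) * m + (gW * m) * n - (1 - α) * (dW - dI) * (n * m) := by
    have := mul_le_mul_of_nonneg_right h1 hnm.le
    nlinarith
  have h3 : (gK * n) * m + (gW * m) * n ≤ A * (n * m) := by
    have a1 : (gK * n) * m ≤ (A * κ) * m := mul_le_mul_of_nonneg_right hD1 hm.le
    have a2 : (gW * m) * n ≤ (B * s) * n := mul_le_mul_of_nonneg_right hD2 hn.le
    have a3 : (B * s) * n = (A * m) * s := by rw [hμ]; ring
    have a4 : A * (n * m) = (A * κ) * m + (A * m) * s := by rw [hns]; ring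
    linarith
  have h4 : (1 - α) * (dW - dI) * (n * m) ≤ 0 := by linarith
  have h5 : dW - dI ≤ 0 := by
    by_contra hpos
    rw [not_le] at hpos
    have : 0 < (1 - α) * (dW - dI) * (n * m) := mul_pos (mul_pos (by linarith) hpos) hnm
    linarith
  have h6 : dW = dI := le_antisymm (by linarith) hle
  refine ⟨by linarith, ?_, ?_⟩
  · -- equality for K
    have a1 : (gK * n) * m ≤ (A * κ) * m := mul_le_mul_of_nonneg_right hD1 hm.le
    have a2 : (gW * m) * n ≤ (B * s) * n := mul_le_mul_of_nonneg_right hD2 hn.le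
    have a3 : (B * s) * n = (A * m) * s := by rw [hμ]; ring
    have a4 : A * (n * m) = (A * κ) * m + (A * m) * s := by rw [hns]; ring
    have h7 : A * (n * m) ≤ (gK * n) * m + (gW * m) * n := by
      rw [h6] at h2; linarith
    have h8 : (A * κ) * m ≤ (gK * n) * m := by linarith
    have := le_of_mul_le_mul_right h8 hm
    linarith
  · have a1 : (gK * n) * m ≤ (A * κ) * m := mul_le_mul_of_nonneg_right hD1 hm.le
    have a2 : (gW * m) * n ≤ (B * s) * n := mul_le_mul_of_nonneg_right hD2 hn.le
    have a3 : (B * s) * n = (A * m) * s := by rw [hμ]; ring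
    have a4 : A * (n * m) = (A * κ) * m + (A * m) * s := by rw [hns]; ring
    have h7 : A * (n * m) ≤ (gK * n) * m + (gW * m) * n := by
      rw [h6] at h2; linarith
    have h8 : (B * s) * n ≤ (gW * m) * n := by linarith
    have := le_of_mul_le_mul_right h8 hn
    linarith

include H hpid in
/-- **Core**: a nonzero parabolic homomorphism between semistable generalised parabolic bundles of the same slope. -/
theorem core (hdim : topologicalKrullDim X = 1) (I : X.IdealSheafData) (hD : FGA.IsEffCartier I)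
    (α : ℝ) (hα0 : 0 ≤ α) (hα1 : α < 1) {E F : X.Modules} (n m : ℕ) (hn : 0 < n) (hm : 0 < m)
    (hE : FlatMod.IsFinLocFreeOfRank n E) (hF : FlatMod.IsFinLocFreeOfRank m F)
    (F₁ : Submodule k (ParSh.fibD X I E)) (F₁' : Submodule k (ParSh.fibD X I F))
    (hEss : ParSh.IsGPSemistable k X I α F₁ n) (hFss : ParSh.IsGPSemistable k X I α F₁' m)
    (hμ : ParSh.gpDeg k X α E F₁ n * (m : ℝ) = ParSh.gpDeg k X α F F₁' m * (n : ℝ))
    (f : E ⟶ F) (hf : ParSh.IsGPHom k X I F₁ F₁' f) (hf0 : f ≠ 0) :
    ∃ s : ℕ, 0 < s ∧ s ≤ m ∧ FlatMod.IsFinLocFreeOfRank (m - s) (cokernel f) ∧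
      (ParSh.IsGPStable k X I α F₁ n → Mono f) ∧ (ParSh.IsGPStable k X I α F₁' m → s = m) := by
  have hnoeth := isLocallyNoetherian_of_proper k X
  have hdimle : topologicalKrullDim X ≤ 1 := hdim.le
  have hEc : Coh.IsCoh E := isCoh_of_rank hE
  have hFc : Coh.IsCoh F := isCoh_of_rank hF
  have iE : E.IsQuasicoherent := hEc.1
  have iF : F.IsQuasicoherent := hFc.1
  have hfac : Abelian.factorThruImage f ≫ Abelian.image.ι f = f := Abelian.image.fac f
  have hIc : Coh.IsCoh (Abelian.image f) := isCoh_image f hEc hFc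
  have iI : (Abelian.image f).IsQuasicoherent := hIc.1
  have hIlf := locFree_of_mono k X hpid (Abelian.image.ι f) hIc hF
  have htfE : TF E := tf_of_isFinLocFree (isFinLocFree_of_rank hE)
  have htfF : TF F := tf_of_isFinLocFree (isFinLocFree_of_rank hF)
  have hspos : 0 < rk (Abelian.image f) := by
    rcases Nat.eq_zero_or_pos (rk (Abelian.image f)) with h0 | h
    · exfalso
      apply hf0
      exact (isZero_image_iff f).mp (isZero_of_tf_of_rk_eq_zero hpid hIc (tf_image f htfF) h0)
    · exact h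
  -- the kernel of `E ⟶ im f`
  have hKc : Coh.IsCoh (kernel (Abelian.factorThruImage f)) :=
    Groth.Agent.Lib.H90OXModExact.isCoh_kernel _ hEc
  have hS : (ShortComplex.mk (kernel.ι (Abelian.factorThruImage f)) (Abelian.factorThruImage f)
      (kernel.condition _)).ShortExact := { exact := ShortComplex.exact_kernel _ }
  have hrk := rk_add _ hS hKc hIc
  have hdeg := deg_rk_add H k X _ hS hKc hEc hIc
  dsimp only at hrk hdeg
  rw [← eq_rk_of_isFinLocFreeOfRank hE] at hrk hdeg
  have hKlf := locFree_of_mono k X hpid (kernel.ι (Abelian.factorThruImage f)) hKc hE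
  -- the saturation of the image
  obtain ⟨W, g', j, hg', hj, hjg, hWc, hWlf, hQlf, hsm, hdegle, -⟩ :=
    exists_sat H k X hpid hdim hF (Abelian.image.ι f) hIc
  have hrkW : rk (Abelian.image f) = rk W := eq_rk_of_isFinLocFreeOfRank hWlf
  -- `h⁰` of the restrictions to `D`
  have hfinI := finrank_fibD_eq H k X hdimle I hD _ hIlf
  have hfinW := finrank_fibD_eq H k X hdimle I hD _ hWlf
  have hfinK := finrank_fibD_eq H k X hdimle I hD _ hKlf
  haveI fE : Module.Finite k (ParSh.fibD X I E) := finite_fibD H k X I hEc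
  haveI fF : Module.Finite k (ParSh.fibD X I F) := finite_fibD H k X I hFc
  haveI fK : Module.Finite k (ParSh.fibD X I (kernel (Abelian.factorThruImage f))) :=
    finite_fibD H k X I hKc
  haveI fI : Module.Finite k (ParSh.fibD X I (Abelian.image f)) := finite_fibD H k X I hIc
  haveI fW : Module.Finite k (ParSh.fibD X I W) := finite_fibD H k X I hWc
  -- (C1)
  have hker := ker_fibDMap_le_range k X hdimle I hD hEc hIc (Abelian.factorThruImage f)
  have hmapI : F₁.map (ParSh.fibDMap k X I (Abelian.factorThruImage f)) ≤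
      ParSh.gpInduced k X I (Abelian.image.ι f) F₁' := by
    rintro _ ⟨v, hv, rfl⟩
    change ParSh.fibDMap k X I (Abelian.image.ι f)
      (ParSh.fibDMap k X I (Abelian.factorThruImage f) v) ∈ F₁'
    rw [← fibDMap_comp]
    have : ParSh.fibDMap k X I (Abelian.factorThruImage f ≫ Abelian.image.ι f) v =
        ParSh.fibDMap k X I f v := by rw [hfac]
    rw [this]
    exact hf ⟨v, hv, rfl⟩
  have hC1 := finrank_le_comap_add (ParSh.fibDMap k X I (kernel.ι (Abelian.factorThruImage f)))
    (ParSh.fibDMap k X I (Abelian.factorThruImage f)) hker F₁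
    (ParSh.gpInduced k X I (Abelian.image.ι f) F₁') hmapI
  -- (C2)
  have hI₁ : ParSh.gpInduced k X I (Abelian.image.ι f) F₁' =
      (ParSh.gpInduced k X I g' F₁').comap (ParSh.fibDMap k X I j) := by
    rw [← hjg]; exact gpInduced_comp k X I j g' F₁'
  have hC2 := finrank_comap_le (ParSh.fibDMap k X I j) (ParSh.gpInduced k X I g' F₁')
  rw [← hI₁] at hC2
  -- (C3)
  have hC3 := finrank_ker_fibDMap_le H k X hdimle I hD _ hIlf hWlf j
  rw [hfinI, hfinW] at hC3
  have ht : (Module.finrank k (LinearMap.ker (ParSh.fibDMap k X I j)) : ℤ) ≤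
      Curv2.deg k X W (rk (Abelian.image f)) -
        Curv2.deg k X (Abelian.image f) (rk (Abelian.image f)) := by linarith
  -- semistability
  have hD2 := hFss W _ g' hg' hspos hWlf
  have hD1 : ParSh.gpDeg k X α (kernel (Abelian.factorThruImage f))
      (ParSh.gpInduced k X I (kernel.ι (Abelian.factorThruImage f)) F₁)
      (rk (kernel (Abelian.factorThruImage f))) * (n : ℝ) ≤
      ParSh.gpDeg k X α E F₁ n * (rk (kernel (Abelian.factorThruImage f)) : ℝ) := by
    rcases Nat.eq_zero_or_pos (rk (kernel (Abelian.factorThruImage f))) with h0 | hκ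
    · have hz : IsZero (kernel (Abelian.factorThruImage f)) :=
        isZero_of_tf_of_rk_eq_zero hpid hKc (tf_kernel _ htfE) h0
      have h1 : Module.finrank k (ParSh.gpInduced k X I (kernel.ι (Abelian.factorThruImage f)) F₁)
          = 0 := by
        have := Submodule.finrank_le
          (ParSh.gpInduced k X I (kernel.ι (Abelian.factorThruImage f)) F₁)
        rw [hfinK, h0, Nat.zero_mul] at this
        exact Nat.le_zero.mp this
      unfold ParSh.gpDeg ParSh.gpWt
      rw [h1, h0, deg_of_isZero k X hz]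
      simp
    · exact hEss _ _ (kernel.ι (Abelian.factorThruImage f)) inferInstance hκ hKlf
  -- the arithmetic
  have hdegR : (Curv2.deg k X E n : ℝ) =
      (Curv2.deg k X (kernel (Abelian.factorThruImage f)) (rk (kernel (Abelian.factorThruImage f))) : ℝ) +
        (Curv2.deg k X (Abelian.image f) (rk (Abelian.image f)) : ℝ) := by exact_mod_cast hdeg
  obtain ⟨hWI, hKeq, hWeq⟩ := slope_arith α hα0 hα1 (n : ℝ) (m : ℝ)
    (rk (kernel (Abelian.factorThruImage f)) : ℝ) (rk (Abelian.image f) : ℝ)
    (by exact_mod_cast hn) (by exact_mod_cast hm) (by exact_mod_cast hrk)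
    (Curv2.deg k X E n : ℝ)
    (Curv2.deg k X (kernel (Abelian.factorThruImage f)) (rk (kernel (Abelian.factorThruImage f))) : ℝ)
    (Curv2.deg k X (Abelian.image f) (rk (Abelian.image f)) : ℝ)
    (Curv2.deg k X W (rk (Abelian.image f)) : ℝ)
    (Module.finrank k F₁ : ℝ)
    (Module.finrank k (ParSh.gpInduced k X I (kernel.ι (Abelian.factorThruImage f)) F₁) : ℝ)
    (Module.finrank k (ParSh.gpInduced k X I (Abelian.image.ι f) F₁') : ℝ)
    (Module.finrank k (ParSh.gpInduced k X I g' F₁') : ℝ)
    (Module.finrank k (LinearMap.ker (ParSh.fibDMap k X I j)) : ℝ)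
    (ParSh.gpDeg k X α E F₁ n) (ParSh.gpDeg k X α F F₁' m)
    (ParSh.gpDeg k X α (kernel (Abelian.factorThruImage f))
      (ParSh.gpInduced k X I (kernel.ι (Abelian.factorThruImage f)) F₁)
      (rk (kernel (Abelian.factorThruImage f))))
    (ParSh.gpDeg k X α W (ParSh.gpInduced k X I g' F₁') (rk (Abelian.image f)))
    hdegR (by exact_mod_cast hC1) (by exact_mod_cast hC2) (by exact_mod_cast ht)
    rfl rfl rfl hμ hD1 hD2 (by exact_mod_cast hdegle)
  -- `j` is an isomorphism
  have hWI' : Curv2.deg k X W (rk (Abelian.image f)) ≤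
      Curv2.deg k X (Abelian.image f) (rk (Abelian.image f)) := by exact_mod_cast hWI
  have hjiso : IsIso j := isIso_of_deg_le H k X hdimle j hIc hWc hrkW _ hWI'
  -- the cokernel
  let e1 : cokernel f ≅ cokernel (Abelian.image.ι f) :=
    cokernelIsoOfEq hfac.symm ≪≫ cokernelEpiComp (Abelian.factorThruImage f) (Abelian.image.ι f)
  let e2 : cokernel (Abelian.image.ι f) ≅ cokernel g' :=
    cokernelIsoOfEq hjg.symm ≪≫ cokernelEpiComp j g'
  refine ⟨rk (Abelian.image f), hspos, hsm, isFinLocFreeOfRank_of_iso X (e1 ≪≫ e2) hQlf, ?_, ?_⟩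
  · intro hEst
    have hκ0 : rk (kernel (Abelian.factorThruImage f)) = 0 := by
      by_contra hne
      have hκ : 0 < rk (kernel (Abelian.factorThruImage f)) := Nat.pos_of_ne_zero hne
      have hlt : rk (kernel (Abelian.factorThruImage f)) < n := by omega
      have := hEst _ _ (kernel.ι (Abelian.factorThruImage f)) inferInstance hκ hlt hKlf
      exact absurd hKeq this.ne
    have hz : IsZero (kernel (Abelian.factorThruImage f)) :=
      isZero_of_tf_of_rk_eq_zero hpid hKc (tf_kernel _ htfE) hκ0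
    have hmono : Mono (Abelian.factorThruImage f) := Preadditive.mono_of_isZero_kernel _ hz
    rw [← hfac]
    exact mono_comp _ _
  · intro hFst
    by_contra hne
    have hlt : rk (Abelian.image f) < m := lt_of_le_of_ne hsm hne
    have := hFst W _ g' hg' hspos hlt hWlf
    exact absurd hWeq this.ne

end Groth.Agent.Lib.GPHom97
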