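import Groth.Agent.Lib.H4TwistGamma
import Groth.Agent.Lib.ReducedSubscheme
import Groth.Prelude.Def_ClSub2
import Mathlib.AlgebraicGeometry.AlgClosed.Basic

/-!
# `h⁰(O_p) = 1` for a closed point of a scheme locally of finite type over an algebraically closed field (lead, K6)

Namespace `Groth.Agent.Lib.PointDeg`.

* `exists_eq_appTop_of_subsingleton` : a reduced one-point scheme `Z`, locally of finite type over an algebraically closed
  field `k`, has `Γ(Z, ⊤) = k`.
* `finrank_H0_quotMod_point` : `dim_k H⁰(X, O_X / I_p) = 1` for the reduced structure on a closed point `p`.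
-/

set_option autoImplicit false
universe u
open CategoryTheory CategoryTheory.Limits AlgebraicGeometry Opposite TopologicalSpace

namespace Groth.Agent.Lib.PointDeg

section OnePoint

variable {k : Type u} [Field k] [IsAlgClosed k] {Z : Scheme.{u}} [IsReduced Z] [Subsingleton Z]
  (g : Z ⟶ Spec (CommRingCat.of k)) [LocallyOfFiniteType g]

/-- every global function on a reduced one-point scheme locally of finite type over an algebraically closed field comes
from the field -/
theorem exists_eq_appTop_of_subsingleton (z : Z) (s : Γ(Z, ⊤)) :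
    ∃ c : Γ(Spec (CommRingCat.of k), ⊤), s = g.appTop c := by
  have hz : IsClosed ({z} : Set Z) := by
    have : ({z} : Set Z) = Set.univ := by
      ext y
      simp [Subsingleton.elim y z]
    rw [this]
    exact isClosed_univ
  let σ : Spec (CommRingCat.of k) ⟶ Z := pointOfClosedPoint g z hz
  have hσ : σ ≫ g = 𝟙 _ := pointOfClosedPoint_comp g z hz
  refine ⟨σ.appTop s, ?_⟩
  have h1 : σ.appTop (g.appTop (σ.appTop s)) = σ.appTop s := by
    have := congr((Scheme.Hom.appTop $hσ) (σ.appTop s))
    rw [Scheme.Hom.comp_appTop, Scheme.Hom.id_appTop] at this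
    exact this
  have h2 : σ.appTop (s - g.appTop (σ.appTop s)) = 0 := by
    rw [map_sub, h1, sub_self]
  have h3 : Z.basicOpen (s - g.appTop (σ.appTop s)) = ⊥ := by
    rw [← Opens.not_nonempty_iff_eq_bot]
    rintro ⟨y, hy⟩
    have hpre := Scheme.preimage_basicOpen_top σ (s - g.appTop (σ.appTop s))
    rw [h2, Scheme.basicOpen_zero] at hpre
    have hy' : (IsLocalRing.closedPoint k) ∈ σ ⁻¹ᵁ Z.basicOpen (s - g.appTop (σ.appTop s)) := by
      change σ (IsLocalRing.closedPoint k) ∈ Z.basicOpen (s - g.appTop (σ.appTop s))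
      rw [Subsingleton.elim (σ (IsLocalRing.closedPoint k)) y]
      exact hy
    rw [hpre] at hy'
    exact hy'
  exact sub_eq_zero.mp ((basicOpen_eq_bot_iff _).mp h3)

end OnePoint

section Point

open Groth.Agent.Lib.H4Twist

variable (k : Type u) [Field k] [IsAlgClosed k] (X : Scheme.{u}) [X.Over (Spec (CommRingCat.of k))]
  [LocallyOfFiniteType (X ↘ Spec (CommRingCat.of k))] (p : X) (hp : IsClosed ({p} : Set X))

/-- the reduced closed subscheme on a closed point has exactly one point -/
theorem range_subschemeι_point :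
    Set.range (Scheme.IdealSheafData.vanishingIdeal (⟨{p}, hp⟩ : Closeds X)).subschemeι = {p} := by
  rw [Scheme.IdealSheafData.range_subschemeι, Scheme.IdealSheafData.coe_support_vanishingIdeal]
  rfl

/-- **`h⁰(O_p) = 1`**: the structure sheaf of the reduced closed point `p` of a scheme locally of finite type over an
algebraically closed field has a one-dimensional space of global sections. -/
theorem finrank_H0_quotMod_point :
    Module.finrank k (Coh.HH X (ClSub.quotMod
      (Scheme.IdealSheafData.vanishingIdeal (⟨{p}, hp⟩ : Closeds X))) 0) = 1 := by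
  set I := Scheme.IdealSheafData.vanishingIdeal (⟨{p}, hp⟩ : Closeds X) with hI
  have : IsReduced I.subscheme :=
    Groth.Agent.Lib.ReducedSubscheme.isReduced_subscheme_vanishingIdeal _
  have hrange : Set.range I.subschemeι = {p} := range_subschemeι_point X p hp
  have : Subsingleton I.subscheme := by
    refine ⟨fun a b => I.subschemeι.isClosedEmbedding.injective ?_⟩
    have ha : I.subschemeι a ∈ Set.range I.subschemeι := ⟨a, rfl⟩
    have hb : I.subschemeι b ∈ Set.range I.subschemeι := ⟨b, rfl⟩
    rw [hrange] at ha hb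
    exact ha.trans hb.symm
  obtain ⟨z, hz⟩ : ∃ z, I.subschemeι z = p := by
    have : p ∈ Set.range I.subschemeι := by rw [hrange]; rfl
    exact this
  have : Nonempty I.subscheme := ⟨z⟩
  let g : I.subscheme ⟶ Spec (CommRingCat.of k) := I.subschemeι ≫ (X ↘ Spec (CommRingCat.of k))
  have : LocallyOfFiniteType g := inferInstanceAs (LocallyOfFiniteType (I.subschemeι ≫ _))
  let M : X.Modules := ClSub.quotMod I
  let one : Γ(M, ⊤) := (1 : Γ(I.subscheme, I.subschemeι ⁻¹ᵁ ⊤))
  have hone : one ≠ 0 := by
    have : Nonempty ((I.subschemeι ⁻¹ᵁ ⊤ : I.subscheme.Opens)) := ⟨⟨z, trivial⟩⟩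
    exact one_ne_zero (α := Γ(I.subscheme, I.subschemeι ⁻¹ᵁ ⊤))
  let v : Coh.HH X M 0 := (h0Equiv M).symm one
  have hv : v ≠ 0 := (AddEquiv.map_ne_zero_iff (h0Equiv M).symm).mpr hone
  refine (finrank_eq_one_iff_of_nonzero' v hv).mpr fun w => ?_
  obtain ⟨c, hc⟩ := exists_eq_appTop_of_subsingleton g z (h0Equiv M w : Γ(I.subscheme, ⊤))
  refine ⟨(Scheme.ΓSpecIso (CommRingCat.of k)).hom c, ?_⟩
  apply (h0Equiv M).injective
  rw [← h0Equiv_symm_smul_over M _ one, AddEquiv.apply_symm_apply]
  refine Eq.trans ?_ hc.symm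
  change (I.subschemeι.app ⊤ (Coh.toGlobal (X ↘ Spec (CommRingCat.of k))
    ((Scheme.ΓSpecIso (CommRingCat.of k)).hom c))) * (1 : Γ(I.subscheme, I.subschemeι ⁻¹ᵁ ⊤)) = _
  rw [mul_one]
  change I.subschemeι.app ⊤ ((X ↘ Spec (CommRingCat.of k)).appTop
    ((Scheme.ΓSpecIso (CommRingCat.of k)).inv ((Scheme.ΓSpecIso (CommRingCat.of k)).hom c))) = _
  rw [← CommRingCat.comp_apply (Scheme.ΓSpecIso (CommRingCat.of k)).hom, Iso.hom_inv_id, CommRingCat.id_apply]
  rfl

end Point

end Groth.Agent.Lib.PointDeg
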