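import Groth.Agent.Lib.GPHom97b
import Groth.Agent.Lib.EndScalar
import Groth.Agent.Lib.PointDeg
import Groth.Agent.Lib.CurvePoint54
import Groth.Agent.Lib.CurveIdeal54

/-!
# Stable generalised parabolic bundles are simple (helper97)

Namespace `Groth.Agent.Lib.GPHom97`.

* `finrank_fibD_eq_of_dim` : `h⁰(G ⊗ O_Z) = r · h⁰(O_Z)` for `G` locally free of rank `r` and `Z` of dimension `≤ 0`.
* `fibDMap_eq_Θ` : `ParSh.fibDMap` on endomorphisms is helper's `EndScalar.Θ`.
* `exists_scalar` : a parabolic endomorphism of a stable generalised parabolic bundle (weight `0 ≤ α < 1`) on an integral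
  proper curve over an algebraically closed field is a scalar.
-/

set_option autoImplicit false
set_option maxHeartbeats 1000000
universe u
open CategoryTheory CategoryTheory.Limits AlgebraicGeometry

namespace Groth.Agent.Lib.GPHom97

open Groth.Agent.Lib.ProperFinHyp Groth.Agent.Lib.CurveVB67 Groth.Agent.Lib.CohLES
  Groth.Agent.Lib.TwistEquiv Groth.Agent.Lib.OXModTensor CohB1 Groth.Agent.Lib.GPKer2

variable (H : Hyp.{u}) (k : Type u) [Field k] (X : Scheme.{u}) [X.Over (Spec (CommRingCat.of k))]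
  [IsProper (X ↘ (Spec (CommRingCat.of k)))]

include H in
/-- `h⁰(G ⊗ O_Z) = r · h⁰(O_Z)` for `G` locally free of rank `r`, `dim Z ≤ 0`. -/
theorem finrank_fibD_eq_of_dim (J : X.IdealSheafData)
    (hJ : topologicalKrullDim (J.support : Set X) ≤ 0) {G : X.Modules} (r : ℕ)
    (hG : FlatMod.IsFinLocFreeOfRank r G) :
    Module.finrank k (ParSh.fibD X J G) = r * Module.finrank k (Coh.HH X (ClSub.quotMod J) 0) := by
  have hnoeth : IsLocallyNoetherian X :=
    LocallyOfFiniteType.isLocallyNoetherian (X ↘ Spec (CommRingCat.of k))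
  have hGc : Coh.IsCoh G := isCoh_of_rank hG
  have hQc : Coh.IsCoh (ClSub.quotMod J) := Groth.Agent.Lib.SnapCoeff13.isCoh_quotMod J
  have hsuppQ : CohB1.support (ClSub.quotMod J) ⊆ (J.support : Set X) :=
    Groth.Agent.Lib.ParSupp97.support_quotMod_subset J
  have hdimQ : topologicalKrullDim (CohB1.support (ClSub.quotMod J)) ≤ 0 :=
    (Groth.Agent.Lib.IntNumAlg13.topologicalKrullDim_mono hsuppQ).trans hJ
  have hQcl : ∀ x ∈ CohB1.support (ClSub.quotMod J), IsClosed ({x} : Set X) := fun x hx =>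
    Groth.Agent.Lib.CurveIdeal54.isClosed_singleton_of_dim_le_zero _ J.support.isClosed hJ x
      (hsuppQ hx)
  have hTc : Coh.IsCoh (tensorMod G (ClSub.quotMod J)) :=
    Groth.Agent.Lib.CohFinAmple.isCoh_tensorMod hGc hQc
  have hvQ : ∀ i, 0 < i → Subsingleton (Coh.HH X (ClSub.quotMod J) i) := fun i hi =>
    Groth.Agent.S0047.result X _ hQc hQcl i hi
  have hvT : ∀ i, 0 < i → Subsingleton (Coh.HH X (tensorMod G (ClSub.quotMod J)) i) := fun i hi => by
    refine Groth.Agent.S0047.result X _ hTc (fun y hy => hQcl y ?_) i hi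
    haveI := hGc.1
    haveI := hGc.2
    haveI := hQc.1
    haveI := hQc.2
    rw [Groth.Agent.Lib.SupportTensor.support_tensorMod] at hy
    exact hy.2
  have a1 := Groth.Agent.Lib.EulerChar54.euler_eq_finrank_zero k X _ hvT
  have a2 := Groth.Agent.Lib.EulerChar54.euler_eq_finrank_zero k X _ hvQ
  have a3 : Curv2.euler k X (tensorMod G (ClSub.quotMod J)) = r * Curv2.euler k X (ClSub.quotMod J) :=
    Groth.Agent.Lib.CurveDeg48.euler_tensorMod_of_dim_support_le_zero' H k X _ hQc hdimQ r G hG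
  rw [a1, a2] at a3
  exact_mod_cast a3

omit [IsProper (X ↘ (Spec (CommRingCat.of k)))] in
theorem fibDMap_eq_Θ (I : X.IdealSheafData) {E : X.Modules} (ψ : E ⟶ E) :
    ParSh.fibDMap k X I ψ = Groth.Agent.Lib.EndScalar.Θ k (ClSub.quotMod I) ψ := by
  ext x
  change map (ParSh.resDMap I ψ) 0 x = map ((DCoh.tensorRightMod (ClSub.quotMod I)).map ψ) 0 x
  rw [resDMap_eq]
  rfl

variable [IsIntegral X] [IsAlgClosed k]
  (hpid : ∀ x : X, IsPrincipalIdealRing (X.presheaf.stalk x))

omit [IsAlgClosed k] in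
include H hpid in
/-- nonzero parabolic endomorphisms of a stable generalised parabolic bundle are isomorphisms -/
theorem isIso_of_stable (hdim : topologicalKrullDim X = 1) (I : X.IdealSheafData)
    (hD : FGA.IsEffCartier I) (α : ℝ) (hα0 : 0 ≤ α) (hα1 : α < 1) {E : X.Modules} (n : ℕ) (hn : 0 < n)
    (hE : FlatMod.IsFinLocFreeOfRank n E) (F₁ : Submodule k (ParSh.fibD X I E))
    (hEss : ParSh.IsGPSemistable k X I α F₁ n) (hEst : ParSh.IsGPStable k X I α F₁ n)
    (g : E ⟶ E) (hg : ParSh.IsGPHom k X I F₁ F₁ g) (hg0 : g ≠ 0) : IsIso g := by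
  obtain ⟨s, hs, hsm, hcok, hmono, hfull⟩ := core H k X hpid hdim I hD α hα0 hα1 n n hn hn hE hE F₁ F₁
    hEss hEss rfl g hg hg0
  have hM : Mono g := hmono hEst
  have hsm' : s = n := hfull hEst
  rw [hsm', Nat.sub_self] at hcok
  have hnoeth := isLocallyNoetherian_of_proper k X
  have hz : IsZero (cokernel g) :=
    isZero_of_tf_of_rk_eq_zero hpid (isCoh_of_rank hcok)
      (tf_of_isFinLocFree (isFinLocFree_of_rank hcok)) (eq_rk_of_isFinLocFreeOfRank hcok).symm
  have hEpi : Epi g := Preadditive.epi_of_isZero_cokernel g hz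
  exact isIso_of_mono_of_epi g

include H hpid in
/-- **Stable generalised parabolic bundles are simple.** -/
theorem exists_scalar (hdim : topologicalKrullDim X = 1) (I : X.IdealSheafData)
    (hD : FGA.IsEffCartier I) (α : ℝ) (hα0 : 0 ≤ α) (hα1 : α < 1) {E : X.Modules} (n : ℕ) (hn : 0 < n)
    (hE : FlatMod.IsFinLocFreeOfRank n E) (F₁ : Submodule k (ParSh.fibD X I E))
    (hEss : ParSh.IsGPSemistable k X I α F₁ n) (hEst : ParSh.IsGPStable k X I α F₁ n)
    (f : E ⟶ E) (hf : ParSh.IsGPHom k X I F₁ F₁ f) : ∃ c : k, f = Formal.smulMod k E c := by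
  have hnoeth := isLocallyNoetherian_of_proper k X
  have hEc : Coh.IsCoh E := isCoh_of_rank hE
  -- a closed point
  obtain ⟨p, -, hp⟩ := Groth.Agent.Lib.CurvePoint54.exists_isClosed_singleton_mem k X ⊤
    ⟨genericPoint X, trivial⟩
  obtain ⟨J, hJdef⟩ : ∃ J : X.IdealSheafData,
      J = Scheme.IdealSheafData.vanishingIdeal (⟨{p}, hp⟩ : TopologicalSpace.Closeds X) := ⟨_, rfl⟩
  have hJ : topologicalKrullDim (J.support : Set X) ≤ 0 := by
    rw [hJdef, Scheme.IdealSheafData.coe_support_vanishingIdeal]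
    change topologicalKrullDim (({p} : Set X)) ≤ 0
    exact topologicalKrullDim_zero_of_discreteTopology _
  have hq : Module.finrank k (Coh.HH X (ClSub.quotMod J) 0) = 1 := by
    rw [hJdef]
    exact Groth.Agent.Lib.PointDeg.finrank_H0_quotMod_point k X p hp
  have hfin := finrank_fibD_eq_of_dim H k X J hJ n hE
  rw [hq, Nat.mul_one] at hfin
  haveI : Module.Finite k (Coh.HH X (CohB1.tensorMod E (ClSub.quotMod J)) 0) :=
    finite_fibD H k X J hEc
  haveI : Nontrivial (Coh.HH X (CohB1.tensorMod E (ClSub.quotMod J)) 0) := by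
    apply Module.nontrivial_of_finrank_pos (R := k)
    have : Module.finrank k (Coh.HH X (CohB1.tensorMod E (ClSub.quotMod J)) 0) = n := hfin
    omega
  obtain ⟨a, ha⟩ := Module.End.exists_eigenvalue
    (Groth.Agent.Lib.EndScalar.Θ k (ClSub.quotMod J) f)
  obtain ⟨v, hv⟩ := ha.exists_hasEigenvector
  refine ⟨a, ?_⟩
  by_contra hne
  have hψ : f - Formal.smulMod k E a ≠ 0 := fun h => hne (sub_eq_zero.1 h)
  have hpar : ParSh.IsGPHom k X I F₁ F₁ (f - Formal.smulMod k E a) := by
    rintro _ ⟨w, hw, rfl⟩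
    rw [fibDMap_eq_Θ, Groth.Agent.Lib.EndScalar.Θ_sub, Groth.Agent.Lib.EndScalar.Θ_smulMod,
      LinearMap.sub_apply, LinearMap.smul_apply, LinearMap.id_apply]
    refine F₁.sub_mem ?_ (F₁.smul_mem a hw)
    rw [← fibDMap_eq_Θ]
    exact hf ⟨w, hw, rfl⟩
  haveI := isIso_of_stable H k X hpid hdim I hD α hα0 hα1 n hn hE F₁ hEss hEst _ hpar hψ
  have hkill : Groth.Agent.Lib.EndScalar.Θ k (ClSub.quotMod J) (f - Formal.smulMod k E a) v = 0 := by
    rw [Groth.Agent.Lib.EndScalar.Θ_sub, Groth.Agent.Lib.EndScalar.Θ_smulMod, LinearMap.sub_apply,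
      hv.apply_eq_smul]
    simp
  have hinv : (Groth.Agent.Lib.EndScalar.Θ k (ClSub.quotMod J) (inv (f - Formal.smulMod k E a))).comp
      (Groth.Agent.Lib.EndScalar.Θ k (ClSub.quotMod J) (f - Formal.smulMod k E a)) = LinearMap.id := by
    rw [← Groth.Agent.Lib.EndScalar.Θ_comp, IsIso.hom_inv_id, Groth.Agent.Lib.EndScalar.Θ_id]
  have : v = 0 := by
    have := congrArg (fun f => f v) hinv
    simp only [LinearMap.comp_apply, hkill, map_zero, LinearMap.id_apply] at this
    exact this.symm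
  exact hv.2 this

end Groth.Agent.Lib.GPHom97
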