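import Groth.Prelude.Def_ParBun
import Groth.Agent.Lib.ModStalkLin
import Groth.Agent.Lib.FreeModStalk
import Groth.Agent.Lib.StalkTensor81D
import Groth.Agent.Lib.IdealMod
import Groth.Agent.Lib.H90DevHub2
import Groth.Agent.Lib.H90DevTwo2
import Groth.Agent.Lib.SnapCoeff13

/-!
# Supports of the graded pieces of a parabolic structure along an ideal (helper97)

`I` a quasi-coherent ideal, `E` an `O_X`-module, `ParSh.twistSub I E = I · E ⊆ E`.
* `surjective_stalkLin_twistMap` : away from `V(I)` the multiplication map `E ⊗ I ⟶ E` is surjective on stalks.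
* `support_cokernel_arrow_subset` : for a subobject `P ⊇ I · E`, `Supp (E / P) ⊆ Supp E ∩ V(I)`.
* `exists_mono_cokernel_pullback` (any abelian category): `W / f⁻¹ P ⟶ E / P` is a monomorphism.
* `support_cokernel_pullback_subset` : `Supp (W / f⁻¹ P) ⊆ Supp (E / P)`.
-/

set_option autoImplicit false
set_option maxHeartbeats 400000
universe v u
open CategoryTheory CategoryTheory.Limits AlgebraicGeometry

namespace Groth.Agent.Lib.ParSupp97

section Abelian

variable {C : Type u} [Category.{v} C] [Abelian C]

/-- the comparison map `W / f⁻¹ P ⟶ E / P` -/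
theorem exists_mono_cokernel_pullback {W E : C} (f : W ⟶ E) (P : Subobject E) :
    ∃ g : cokernel ((Subobject.pullback f).obj P).arrow ⟶ cokernel P.arrow,
      Mono g ∧ cokernel.π ((Subobject.pullback f).obj P).arrow ≫ g = f ≫ cokernel.π P.arrow := by
  have sq := Subobject.isPullback f P
  have hz : ((Subobject.pullback f).obj P).arrow ≫ f ≫ cokernel.π P.arrow = 0 := by
    rw [← Category.assoc, ← sq.w, Category.assoc, cokernel.condition, comp_zero]
  refine ⟨cokernel.desc _ (f ≫ cokernel.π P.arrow) hz, ?_, cokernel.π_desc _ _ _⟩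
  apply Preadditive.mono_of_cancel_zero
  intro T h hh
  have hcond := pullback.condition (f := h) (g := cokernel.π ((Subobject.pullback f).obj P).arrow)
  have ht : (pullback.snd h (cokernel.π ((Subobject.pullback f).obj P).arrow) ≫ f) ≫
      cokernel.π P.arrow = 0 := by
    rw [Category.assoc, ← cokernel.π_desc _ (f ≫ cokernel.π P.arrow) hz, ← Category.assoc, ← hcond,
      Category.assoc, hh, comp_zero]
  have hker : IsLimit (KernelFork.ofι P.arrow (cokernel.condition P.arrow)) :=
    Abelian.monoIsKernelOfCokernel _ (colimit.isColimit _)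
  let l := hker.lift (KernelFork.ofι _ ht)
  have hl : l ≫ P.arrow = pullback.snd h (cokernel.π ((Subobject.pullback f).obj P).arrow) ≫ f :=
    hker.fac (KernelFork.ofι _ ht) WalkingParallelPair.zero
  have hm := sq.lift_snd l _ hl
  have h0 : pullback.fst h (cokernel.π ((Subobject.pullback f).obj P).arrow) ≫ h = 0 := by
    rw [hcond, ← hm, Category.assoc, cokernel.condition, comp_zero]
  exact (cancel_epi (pullback.fst h (cokernel.π ((Subobject.pullback f).obj P).arrow))).1
    (by rw [h0, comp_zero])

/-- `E / A ⟶ E / B` for `A ≤ B` -/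
theorem exists_epi_cokernel_of_le {E : C} {A B : Subobject E} (h : A ≤ B) :
    ∃ g : cokernel A.arrow ⟶ cokernel B.arrow, Epi g ∧ cokernel.π A.arrow ≫ g = cokernel.π B.arrow := by
  have hz : A.arrow ≫ cokernel.π B.arrow = 0 := by
    rw [← Subobject.ofLE_arrow h, Category.assoc, cokernel.condition, comp_zero]
  refine ⟨cokernel.desc _ _ hz, ?_, cokernel.π_desc _ _ _⟩
  exact epi_of_epi_fac (cokernel.π_desc _ _ hz)

end Abelian

open Groth.Agent.Lib.ModStalkLin Groth.Agent.Lib.StalkTensor81

variable {X : Scheme.{u}}

theorem support_quotMod_subset (I : X.IdealSheafData) :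
    CohB1.support (ClSub.quotMod I) ⊆ (I.support : Set X) :=
  SnapCoeff13.support_quotMod_subset I

/-- away from `V(I)` the inclusion `I ⟶ O_X` is surjective on stalks -/
theorem surjective_stalkLin_idealModι (I : X.IdealSheafData) {x : X} (hx : x ∉ (I.support : Set X)) :
    Function.Surjective (stalkLin (ClSub.idealModι I) x) := by
  obtain ⟨-, hex, -⟩ := stalkLin_exact (IdealMod.idealMod_shortExact I) x
  have hsub : Subsingleton ((ClSub.quotMod I).presheaf.stalk x) := by
    by_contra h
    exact hx (support_quotMod_subset I h)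
  intro y
  exact (hex y).1 (Subsingleton.elim _ _)

/-- away from `V(I)` the multiplication map `E ⊗ I ⟶ E` is surjective on stalks -/
theorem surjective_stalkLin_twistMap (I : X.IdealSheafData) (E : X.Modules) {x : X}
    (hx : x ∉ (I.support : Set X)) : Function.Surjective (stalkLin (ParSh.twistMap I E) x) := by
  unfold ParSh.twistMap
  rw [stalkLin_comp]
  have h1 : Function.Surjective (stalkLin (SecTwist.unitorR E).hom x) :=
    (stalkLinEquiv (SecTwist.unitorR E) x).surjective
  rw [LinearMap.coe_comp]
  refine Function.Surjective.comp h1 ?_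
  rw [← KoszTw.tensorBi_obj_map, StalkTensor81.tensorBi_obj_map]
  intro y
  obtain ⟨z, hz⟩ := LinearMap.lTensor_surjective _ (surjective_stalkLin_idealModι I hx)
    (tensorStalkEquiv E (Coh.structureModule X) x y)
  refine ⟨(tensorStalkEquiv E (ClSub.idealMod I) x).symm z, ?_⟩
  apply (tensorStalkEquiv E (Coh.structureModule X) x).injective
  rw [← hz]
  refine (tensorStalkEquiv_naturality x (𝟙 E) (ClSub.idealModι I) (preWhiskerLeft E (ClSub.idealModι I))
    (fun U m n => preWhiskerLeft_ptmul E (ClSub.idealModι I) U m n) _).trans ?_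
  rw [stalkLin_id, LinearEquiv.apply_symm_apply]
  rfl

/-- a morphism which is surjective on the stalk at `x` has cokernel not supported at `x` -/
theorem notMem_support_cokernel {A B : X.Modules} (ψ : A ⟶ B) {x : X}
    (h : Function.Surjective (stalkLin ψ x)) : x ∉ CohB1.support (cokernel ψ) := by
  intro hx
  apply hx
  have hπ := stalkLin_surjective_of_epi (cokernel.π ψ) x
  have h0 : ∀ c : (cokernel ψ).presheaf.stalk x, c = 0 := by
    intro c
    obtain ⟨b, rfl⟩ := hπ c
    obtain ⟨a, rfl⟩ := h b
    have h2 := stalkLin_comp ψ (cokernel.π ψ) x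
    rw [cokernel.condition, FreeModStalk.stalkLin_zero] at h2
    have h3 := congrArg (fun f => f a) h2
    exact h3.symm
  exact ⟨fun a b => (h0 a).trans (h0 b).symm⟩

/-- `Supp (E / I E) ⊆ Supp E ∩ V(I)` -/
theorem support_cokernel_twistMap_subset (I : X.IdealSheafData) (E : X.Modules) :
    CohB1.support (cokernel (ParSh.twistMap I E)) ⊆ CohB1.support E ∩ (I.support : Set X) := by
  intro x hx
  refine ⟨H90DevHub2.support_subset_of_epi (cokernel.π (ParSh.twistMap I E)) hx, ?_⟩
  by_contra hxI
  exact notMem_support_cokernel _ (surjective_stalkLin_twistMap I E hxI) hx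

/-- for a subobject `P ⊇ I · E`, `Supp (E / P) ⊆ Supp E ∩ V(I)` -/
theorem support_cokernel_arrow_subset (I : X.IdealSheafData) {E : X.Modules} (P : Subobject E)
    (h : ParSh.twistSub I E ≤ P) :
    CohB1.support (cokernel P.arrow) ⊆ CohB1.support E ∩ (I.support : Set X) := by
  have hz : ParSh.twistMap I E ≫ cokernel.π P.arrow = 0 := by
    have h1 : ParSh.twistMap I E =
        factorThruImageSubobject (ParSh.twistMap I E) ≫ Subobject.ofLE _ _ h ≫ P.arrow := by
      rw [Subobject.ofLE_arrow]
      exact (imageSubobject_arrow_comp _).symm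
    rw [h1, Category.assoc, Category.assoc, cokernel.condition, comp_zero, comp_zero]
  have hepi : Epi (cokernel.desc (ParSh.twistMap I E) (cokernel.π P.arrow) hz) :=
    epi_of_epi_fac (cokernel.π_desc _ _ hz)
  exact (H90DevHub2.support_subset_of_epi
    (cokernel.desc (ParSh.twistMap I E) (cokernel.π P.arrow) hz)).trans
    (support_cokernel_twistMap_subset I E)

/-- `Supp (W / f⁻¹ P) ⊆ Supp (E / P)` -/
theorem support_cokernel_pullback_subset {W E : X.Modules} (f : W ⟶ E) (P : Subobject E) :
    CohB1.support (cokernel ((Subobject.pullback f).obj P).arrow) ⊆ CohB1.support (cokernel P.arrow) := by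
  obtain ⟨g, hg, -⟩ := exists_mono_cokernel_pullback f P
  exact H90DevHub2.support_subset_of_mono g

end Groth.Agent.Lib.ParSupp97
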