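import Groth.Agent.Lib.CurveVB67C
import Groth.Agent.Lib.CurveLinSeries54
import Groth.Agent.Lib.ParSupp97
import Groth.Agent.Lib.EffCartierDim13
import Groth.Agent.Lib.CohLESExact
import Groth.Agent.Lib.H90CurveH1
import Groth.Prelude.Def_ParBun2

/-!
# Generalised parabolic structures: the kernel of `H⁰(G ⊗ O_D) → H⁰(E ⊗ O_D)` (helper2)

Namespace `Groth.Agent.Lib.GPKer2`.

* `resDMap_eq` : `ParSh.resDMap I φ = (tensorRightFunctor (quotMod I)).map φ`.
* `exact_mid_zero` : middle exactness of `H⁰` for an exact complex whose kernel has no `H¹`.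
* `finrank_ker_add_le` : linear algebra count.
* `finrank_ker_fibDMap_le` : for a same-rank mono `i : G ⟶ E` of locally free modules on an integral proper curve,
  `dim ker (H⁰(G ⊗ O_D) → H⁰(E ⊗ O_D)) + h⁰(E_D) ≤ h⁰(G_D) + (deg E − deg G)`.
-/

set_option autoImplicit false
universe u
open CategoryTheory CategoryTheory.Limits AlgebraicGeometry

namespace Groth.Agent.Lib.GPKer2

open Groth.Agent.Lib.TwistEquiv Groth.Agent.Lib.OXModTensor CohB1 Groth.Agent.Lib.CohLES

section General

variable {X : Scheme.{u}}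

theorem resDMap_eq (I : X.IdealSheafData) {M M' : X.Modules} (φ : M ⟶ M') :
    ParSh.resDMap I φ = (tensorRightFunctor (ClSub.quotMod I)).map φ := by
  unfold ParSh.resDMap
  rw [← KoszTw.tensorBi_map_app, tensorRightFunctor_map]
  rfl

/-- `H⁰` of a mono is injective -/
theorem map_injective_zero_of_mono {A B : X.Modules} (φ : A ⟶ B) [Mono φ] :
    Function.Injective (map φ 0) := by
  have hS : (ShortComplex.mk φ (cokernel.π φ) (cokernel.condition φ)).ShortExact :=
    { exact := ShortComplex.exact_cokernel φ }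
  have h := map_f_injective_zero hS
  intro a b hab
  exact h hab

/-- left exactness of `H⁰`: a class killed by `g` comes from the kernel of `g` -/
theorem exists_of_map_eq_zero {A B : X.Modules} (g : A ⟶ B) (x : Coh.HH X A 0) (hx : map g 0 x = 0) :
    ∃ y : Coh.HH X (kernel g) 0, map (kernel.ι g) 0 y = x := by
  have hS1 : (ShortComplex.mk (kernel.ι g) (Abelian.coimage.π g) (by simp)).ShortExact := by
    have h1 : Mono (kernel.ι g) := inferInstance
    have h2 : Epi (Abelian.coimage.π g) := inferInstanceAs (Epi (cokernel.π (kernel.ι g)))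
    exact ShortComplex.ShortExact.mk'
      (ShortComplex.exact_of_g_is_cokernel _ (cokernelIsCokernel _)) h1 h2
  have hm : Mono (Abelian.image.ι g) := inferInstanceAs (Mono (kernel.ι (cokernel.π g)))
  let c := Abelian.coimageImageComparison g
  have hc : IsIso c := inferInstance
  have hfac : g = Abelian.coimage.π g ≫ c ≫ Abelian.image.ι g :=
    (Abelian.coimage_image_factorisation g).symm
  have h1 : map (Abelian.image.ι g) 0 (map c 0 (map (Abelian.coimage.π g) 0 x)) = 0 := by
    rw [← map_comp, ← map_comp, ← hfac]; exact hx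
  have h2 : map c 0 (map (Abelian.coimage.π g) 0 x) = 0 :=
    map_injective_zero_of_mono (Abelian.image.ι g) (h1.trans (map_zero _).symm)
  have h3 : map (Abelian.coimage.π g) 0 x = 0 := by
    have h4 : map (inv c) 0 (map c 0 (map (Abelian.coimage.π g) 0 x)) = 0 := by
      rw [h2, map_zero]
    rw [← map_comp, IsIso.hom_inv_id, map_id] at h4
    exact h4
  exact exact₂ hS1 0 x h3

/-- middle exactness of `H⁰` for an exact complex whose kernel has no `H¹` -/
theorem exact_mid_zero (S : ShortComplex X.Modules) (hS : S.Exact)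
    [hK : Subsingleton (Coh.HH X (kernel S.f) 1)] (x : Coh.HH X S.X₂ 0) (hx : map S.g 0 x = 0) :
    ∃ y : Coh.HH X S.X₁ 0, map S.f 0 y = x := by
  obtain ⟨z, hz⟩ := exists_of_map_eq_zero S.g x hx
  let l : S.X₁ ⟶ kernel S.g := kernel.lift S.g S.f S.zero
  have hl : Epi l := (S.exact_iff_epi_kernel_lift).mp hS
  have hlι : l ≫ kernel.ι S.g = S.f := kernel.lift_ι _ _ _
  let e : kernel l ≅ kernel S.f :=
    (kernelCompMono l (kernel.ι S.g)).symm ≪≫ kernelIsoOfEq hlι
  have h1 : Subsingleton (Coh.HH X (kernel l) (0 + 1)) := subsingleton_of_iso e 1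
  have hz0 : IsZero (cokernel l) := isZero_cokernel_of_epi _
  have h0 : Subsingleton (Coh.HH X (cokernel l) 0) := by
    refine subsingleton_of_forall_eq 0 fun w => ?_
    rw [← map_id _ 0 w, hz0.eq_of_src (𝟙 _) 0, map_zero']
  obtain ⟨y, hy⟩ := Groth.Agent.Lib.CurveSerreVan54.map_surjective_of_kernel_cokernel l 0 z
  refine ⟨y, ?_⟩
  rw [← hlι, map_comp, hy, hz]

end General

section LinAlg

variable {k : Type u} [Field k] {V₁ V₂ V₃ : Type u} [AddCommGroup V₁] [Module k V₁]
  [AddCommGroup V₂] [Module k V₂] [AddCommGroup V₃] [Module k V₃]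

/-- dimension count for a complex exact in the middle -/
theorem finrank_ker_add_le [Module.Finite k V₁] [Module.Finite k V₂] [Module.Finite k V₃]
    (f : V₁ →ₗ[k] V₂) (g : V₂ →ₗ[k] V₃) (h : ∀ x, g x = 0 → ∃ y, f y = x) :
    Module.finrank k (LinearMap.ker f) + Module.finrank k V₂ ≤
      Module.finrank k V₁ + Module.finrank k V₃ := by
  have h1 := LinearMap.finrank_range_add_finrank_ker f
  have h2 := LinearMap.finrank_range_add_finrank_ker g
  have h3 : Module.finrank k (LinearMap.ker g) ≤ Module.finrank k (LinearMap.range f) := by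
    apply Submodule.finrank_mono
    intro x hx
    obtain ⟨y, rfl⟩ := h x hx
    exact ⟨y, rfl⟩
  have h4 : Module.finrank k (LinearMap.range g) ≤ Module.finrank k V₃ := Submodule.finrank_le _
  omega

end LinAlg

section Main

open Groth.Agent.Lib.ProperFinHyp Groth.Agent.Lib.CurveVB67 Groth.Agent.Lib.CurveLinSeries54

variable (H : Hyp.{u}) (k : Type u) [Field k] (X : Scheme.{u}) [X.Over (Spec (CommRingCat.of k))]
  [IsProper (X ↘ (Spec (CommRingCat.of k)))] [IsIntegral X]

omit [IsProper (X ↘ (Spec (CommRingCat.of k)))] [X.Over (Spec (CommRingCat.of k))] in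
/-- points of an effective Cartier divisor on an integral scheme of dimension `≤ 1` are closed -/
theorem isClosed_singleton_of_mem_support (hdim : topologicalKrullDim X ≤ 1) (I : X.IdealSheafData)
    (hD : FGA.IsEffCartier I) {x : X} (hx : x ∈ (I.support : Set X)) : IsClosed ({x} : Set X) := by
  apply isClosed_singleton_of_ne_genericPoint hdim
  rintro rfl
  have huniv : (Set.univ : Set X) ∈ irreducibleComponents X := by
    rw [irreducibleComponents_eq_singleton]; rfl
  apply Groth.Agent.Lib.EffCartierDim13.not_subset_support_of_isEffCartier hD Set.univ huniv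
  intro y _
  have h1 : closure ({genericPoint X} : Set X) ⊆ (I.support : Set X) :=
    closure_minimal (Set.singleton_subset_iff.mpr hx) I.support.isClosed
  rw [(genericPoint_spec X).def] at h1
  exact h1 (Set.mem_univ y)

include H in
/-- **Kernel bound**: for a same-rank inclusion `i : G ⟶ E` of locally free modules on an integral proper curve and an
effective Cartier divisor `D`, `dim ker (H⁰(G_D) → H⁰(E_D)) + h⁰(E_D) ≤ h⁰(G_D) + (deg E − deg G)`. -/
theorem finrank_ker_fibDMap_le (hdim : topologicalKrullDim X ≤ 1) (I : X.IdealSheafData)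
    (hD : FGA.IsEffCartier I) {G E : X.Modules} (n : ℕ) (hG : FlatMod.IsFinLocFreeOfRank n G)
    (hE : FlatMod.IsFinLocFreeOfRank n E) (i : G ⟶ E) [Mono i] :
    (Module.finrank k (LinearMap.ker (ParSh.fibDMap k X I i)) : ℤ) +
        Module.finrank k (ParSh.fibD X I E) ≤
      Module.finrank k (ParSh.fibD X I G) + (Curv2.deg k X E n - Curv2.deg k X G n) := by
  have hnoeth : IsLocallyNoetherian X :=
    LocallyOfFiniteType.isLocallyNoetherian (X ↘ Spec (CommRingCat.of k))
  have hGc : Coh.IsCoh G := isCoh_of_rank hG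
  have hEc : Coh.IsCoh E := isCoh_of_rank hE
  have hrk : rk G = rk E :=
    (eq_rk_of_isFinLocFreeOfRank hG).symm.trans (eq_rk_of_isFinLocFreeOfRank hE)
  have iG : G.IsQuasicoherent := hGc.1
  have iE : E.IsQuasicoherent := hEc.1
  let T := cokernel i
  have hTc : Coh.IsCoh T := Groth.Agent.Lib.H90OXModExact.isCoh_cokernel i hEc
  have hTcl : ∀ x ∈ CohB1.support T, IsClosed ({x} : Set X) :=
    isClosed_of_mem_support_cokernel X hdim i hGc hEc hrk
  have hχ := euler_eq_add_finrank_cokernel H k X hdim i hGc hEc hrk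
  have hdeg : Curv2.deg k X E n - Curv2.deg k X G n = Module.finrank k (Coh.HH X T 0) := by
    unfold Curv2.deg
    rw [hχ]; ring
  rw [hdeg]
  let Q := ClSub.quotMod I
  have hQc : Coh.IsCoh Q := Groth.Agent.Lib.SnapCoeff13.isCoh_quotMod I
  have hQcl : ∀ x ∈ CohB1.support Q, IsClosed ({x} : Set X) := fun x hx =>
    isClosed_singleton_of_mem_support X hdim I hD (Groth.Agent.Lib.ParSupp97.support_quotMod_subset I hx)
  let F := tensorRightFunctor Q
  let S₀ : ShortComplex X.Modules := ShortComplex.mk i (cokernel.π i) (cokernel.condition i)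
  have hS₀ : S₀.Exact := ShortComplex.exact_cokernel i
  have hS₀g : Epi S₀.g := inferInstanceAs (Epi (cokernel.π i))
  obtain ⟨hSex, hSepi⟩ := Groth.Agent.Lib.H90CurveH1.rightExact_map_tensorRight Q S₀ hS₀
  -- coherence of the terms
  have hGD : Coh.IsCoh (tensorMod G Q) := Groth.Agent.Lib.CohFinAmple.isCoh_tensorMod hGc hQc
  have hED : Coh.IsCoh (tensorMod E Q) := Groth.Agent.Lib.CohFinAmple.isCoh_tensorMod hEc hQc
  have hTD : Coh.IsCoh (tensorMod T Q) := Groth.Agent.Lib.CohFinAmple.isCoh_tensorMod hTc hQc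
  have iED : (F.obj E).IsQuasicoherent := hED.1
  -- `H¹` of the kernel vanishes
  have hKc : Coh.IsCoh (kernel (F.map i)) := Groth.Agent.Lib.H90OXModExact.isCoh_kernel _ hGD
  have hKcl : ∀ x ∈ CohB1.support (kernel (F.map i)), IsClosed ({x} : Set X) := by
    intro x hx
    have hx' : x ∈ CohB1.support (tensorMod G Q) :=
      Groth.Agent.Lib.H90DevHub2.support_subset_of_mono (kernel.ι (F.map i)) hx
    have iQ : Q.IsQuasicoherent := hQc.1
    have iQ' : Q.IsFiniteType := hQc.2
    have iG' : G.IsFiniteType := hGc.2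
    rw [Groth.Agent.Lib.SupportTensor.support_tensorMod] at hx'
    exact hQcl x hx'.2
  have hK1 : Subsingleton (Coh.HH X (kernel (S₀.map F).f) 1) :=
    Groth.Agent.S0047.result X _ hKc hKcl 1 Nat.one_pos
  have hmid := exact_mid_zero (S₀.map F) hSex
  -- finiteness
  have fG : Module.Finite k (ParSh.fibD X I G) := H k X _ hGD 0
  have fE : Module.Finite k (ParSh.fibD X I E) := H k X _ hED 0
  have fTD : Module.Finite k (Coh.HH X (F.obj (cokernel i)) 0) := H k X _ hTD 0
  have fT : Module.Finite k (Coh.HH X T 0) := H k X _ hTc 0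
  have hcount := finrank_ker_add_le (k := k) (ParSh.fibDMap k X I i)
    (Canon.HHlin k (F.map (cokernel.π i)) 0) (by
      intro x hx
      have hx' : map (S₀.map F).g 0 x = 0 := hx
      obtain ⟨y, hy⟩ := hmid x hx'
      refine ⟨y, ?_⟩
      change map (ParSh.resDMap I i) 0 y = x
      rw [resDMap_eq]
      exact hy)
  -- `h⁰(T_D) ≤ h⁰(T)`
  let p : T ⟶ tensorMod T Q :=
    (tensorRightUnitIso (X := X)).inv.app T ≫ (tensorRightNat (ClSub.toSubscheme I)).app T
  have hepi0 : Epi (ClSub.toSubscheme I) := Groth.Agent.Lib.IdealMod.epi_toSubscheme I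
  have hepi1 : Epi ((tensorRightNat (ClSub.toSubscheme I)).app T) := by
    rw [tensorRightNat_app_eq]
    have : PreservesFiniteColimits (tensorLeftFunctor T) := inferInstance
    have : (tensorLeftFunctor T).PreservesEpimorphisms := inferInstance
    exact @Functor.map_epi _ _ _ _ (tensorLeftFunctor T) _ _ _ (ClSub.toSubscheme I) hepi0
  have hepi2 : Epi ((tensorRightUnitIso (X := X)).inv.app T) := inferInstance
  have hepi : Epi p := @epi_comp _ _ _ _ _ _ hepi2 _ hepi1
  have iTD : (tensorMod T Q).IsQuasicoherent := hTD.1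
  have hPc : Coh.IsCoh (kernel p) := Groth.Agent.Lib.H90OXModExact.isCoh_kernel _ hTc
  have hPcl : ∀ x ∈ CohB1.support (kernel p), IsClosed ({x} : Set X) := fun x hx =>
    hTcl x (Groth.Agent.Lib.H90DevHub2.support_subset_of_mono (kernel.ι p) hx)
  have hP1 : Subsingleton (Coh.HH X (kernel p) (0 + 1)) :=
    Groth.Agent.S0047.result X _ hPc hPcl 1 Nat.one_pos
  have hz0 : IsZero (cokernel p) := isZero_cokernel_of_epi _
  have hP0 : Subsingleton (Coh.HH X (cokernel p) 0) := by
    refine subsingleton_of_forall_eq 0 fun w => ?_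
    rw [← map_id _ 0 w, hz0.eq_of_src (𝟙 _) 0, map_zero']
  have hsurj : Function.Surjective (Canon.HHlin k p 0) :=
    Groth.Agent.Lib.CurveSerreVan54.map_surjective_of_kernel_cokernel p 0
  have hle : Module.finrank k (Coh.HH X (tensorMod T Q) 0) ≤ Module.finrank k (Coh.HH X T 0) :=
    LinearMap.finrank_le_finrank_of_surjective hsurj
  have hcount' : Module.finrank k (LinearMap.ker (ParSh.fibDMap k X I i)) +
      Module.finrank k (ParSh.fibD X I E) ≤
      Module.finrank k (ParSh.fibD X I G) + Module.finrank k (Coh.HH X T 0) :=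
    hcount.trans (Nat.add_le_add_left hle _)
  exact_mod_cast hcount'

end Main

end Groth.Agent.Lib.GPKer2
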