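import Groth.Agent.Lib.QENagata51
import Groth.Agent.Lib.FormalFibreNagata98
import Groth.Agent.S12125

/-!
# EGA IV 7.7.2 (Nagata part)

A Noetherian ring `A` that is J-2 and whose local rings at maximal ideals have geometrically
reduced formal fibres is a Nagata ring.
-/

set_option autoImplicit false
set_option linter.style.haveILetI false
universe u

namespace Groth.Agent.Lib.GRedJ2Nagata51

theorem isNagata_of_geomReducedFormalFibres_of_isJ2 (A : Type u) [CommRing A] [IsNoetherianRing A]
    (h1 : ∀ (m : Ideal A) [m.IsMaximal], EGA4.HasGeomReducedFormalFibres (Localization.AtPrime m))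
    (h2 : EGA4.IsJ2 A) : CAlg.IsNagata A := by
  refine (Groth.Agent.S12125.result A).mpr
    ⟨fun m hm P hP => ?_, fun p hp K' _ _ _ _ _ _ B' hB'fin hB'frac => ?_⟩
  · exact (Groth.Agent.Lib.FormalFibreNagata98.isNagata_of_geomReducedFormalFibres _ (h1 m)).2 P
  · haveI := hB'fin
    letI algAB' : Algebra A B' := ((algebraMap (A ⧸ p) B').comp (Ideal.Quotient.mk p)).toAlgebra
    haveI : IsScalarTower A (A ⧸ p) B' := IsScalarTower.of_algebraMap_eq (fun _ => rfl)
    haveI : Algebra.FiniteType A (A ⧸ p) :=
      Algebra.FiniteType.of_surjective (Algebra.ofId A (A ⧸ p)) Ideal.Quotient.mk_surjective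
    haveI : Algebra.FiniteType (A ⧸ p) B' := inferInstance
    have hft : Algebra.FiniteType A B' := Algebra.FiniteType.trans (S := A ⧸ p) inferInstance
      inferInstance
    exact Groth.Agent.Lib.QENagata51.exists_away_isIntegrallyClosed_of_isOpen_regLocus B'
      (h2 B' hft)

end Groth.Agent.Lib.GRedJ2Nagata51
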