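import Groth.Agent.Lib.UnivPt38

/-!
# Uniqueness of group laws on the affine line (helper38)

If the functor of points of a `k`-scheme `G` (`k` a domain) is naturally the functor of global functions
(`FnCoord` + surjectivity), then any group structure on `G` is given by `(x, y) ↦ x + y - u₀`, where `u₀` is the
coordinate of the unit section: `ga_law`.
-/

set_option linter.unusedSectionVars false
universe u

open CategoryTheory CategoryTheory.Limits AlgebraicGeometry Opposite MonoidalCategory CartesianMonoidalCategory MonObj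
open Polynomial

noncomputable section

namespace Groth.Agent.Lib.GaLaw38

open Groth.Agent.Lib.UnivPt38

variable {k : Type u} [CommRing k]

/-- Substitution `x ↦ va`, `y ↦ vb` in `k[y][x]`. -/
def ev {A : Type*} [CommRing A] (φ : k →+* A) (va vb : A) : (Polynomial (Polynomial k)) →+* A :=
  Polynomial.eval₂RingHom (Polynomial.eval₂RingHom φ vb) va

section ev
variable {A : Type*} [CommRing A] (φ : k →+* A) (va vb : A)

theorem ev_X : ev φ va vb X = va := Polynomial.eval₂_X _ _

theorem ev_C (s : Polynomial k) : ev φ va vb (C s) = Polynomial.eval₂ φ vb s := Polynomial.eval₂_C _ _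

theorem ev_CX : ev φ va vb (C X) = vb := by rw [ev_C, Polynomial.eval₂_X]

theorem ev_CC (a : k) : ev φ va vb (C (C a)) = φ a := by rw [ev_C, Polynomial.eval₂_C]

theorem ev_algebraMap (a : k) : ev φ va vb (algebraMap k (Polynomial (Polynomial k)) a) = φ a := ev_CC φ va vb a

theorem ev_ext {f : (Polynomial (Polynomial k)) →+* A} (h0 : ∀ a, f (C (C a)) = φ a) (hx : f X = va)
    (hy : f (C X) = vb) : f = ev φ va vb := by
  apply Polynomial.ringHom_ext
  · intro s
    rw [ev_C]
    have : f.comp C = Polynomial.eval₂RingHom φ vb := by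
      apply Polynomial.ringHom_ext
      · intro a
        rw [RingHom.comp_apply, h0, Polynomial.coe_eval₂RingHom, Polynomial.eval₂_C]
      · rw [RingHom.comp_apply, hy, Polynomial.coe_eval₂RingHom, Polynomial.eval₂_X]
    exact congrArg (fun g => g s) this
  · rw [hx, ev_X]

/-- Composition with a ring map. -/
theorem comp_ev {A' : Type*} [CommRing A'] (g : A →+* A') : g.comp (ev φ va vb) = ev (g.comp φ) (g va) (g vb) := by
  apply ev_ext
  · intro a
    rw [RingHom.comp_apply, ev_CC, RingHom.comp_apply]
  · rw [RingHom.comp_apply, ev_X]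
  · rw [RingHom.comp_apply, ev_CX]

end ev

theorem ev_eq_comp (p q : Polynomial (Polynomial k)) :
    ev (algebraMap k (Polynomial (Polynomial k))) q (C X) p = p.comp q := by
  have h : ev (algebraMap k (Polynomial (Polynomial k))) q (C X) =
      Polynomial.eval₂RingHom (C : Polynomial k →+* Polynomial (Polynomial k)) q := by
    symm
    apply ev_ext
    · intro a
      rw [Polynomial.coe_eval₂RingHom, Polynomial.eval₂_C]
      rfl
    · rw [Polynomial.coe_eval₂RingHom, Polynomial.eval₂_X]
    · rw [Polynomial.coe_eval₂RingHom, Polynomial.eval₂_C]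
  rw [h]
  rfl

/-- The algebra behind uniqueness of the group law on the affine line. -/
theorem law_eq [IsDomain k] (p q : Polynomial (Polynomial k)) (u₀ : k) (h1 : p.comp q = X)
    (h2 : ev (algebraMap k (Polynomial (Polynomial k))) X (C (C u₀)) p = X)
    (h3 : ev (algebraMap k (Polynomial (Polynomial k))) (C (C u₀)) (C X) p = C X) :
    p = X + C X - C (C u₀) := by
  have hdeg : p.natDegree * q.natDegree = 1 := by
    rw [← Polynomial.natDegree_comp, h1, Polynomial.natDegree_X]
  have hp1 : p.natDegree = 1 := Nat.eq_one_of_mul_eq_one_right hdeg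
  have hq1 : q.natDegree = 1 := Nat.eq_one_of_mul_eq_one_left hdeg
  have hlc : p.leadingCoeff * q.leadingCoeff ^ p.natDegree = 1 := by
    rw [← Polynomial.leadingCoeff_comp (by rw [hq1]; exact one_ne_zero), h1, Polynomial.leadingCoeff_X]
  have hu : IsUnit p.leadingCoeff := IsUnit.of_mul_eq_one _ hlc
  obtain ⟨a₀, ha₀, hC⟩ := Polynomial.isUnit_iff.mp hu
  have hpe : p = C (C a₀) * X + C (p.coeff 0) := by
    have := Polynomial.eq_X_add_C_of_natDegree_le_one (le_of_eq hp1)
    rw [hC]
    rw [Polynomial.leadingCoeff, hp1]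
    exact this
  set s := p.coeff 0 with hs
  have e2 : ev (algebraMap k (Polynomial (Polynomial k))) X (C (C u₀)) p = C (C a₀) * X + C (C (s.eval u₀)) := by
    conv_lhs => rw [hpe]
    rw [map_add, map_mul, ev_CC, ev_X, ev_C]
    congr 1
    have := Polynomial.hom_eval₂ s (RingHom.id k) (algebraMap k (Polynomial (Polynomial k))) u₀
    rw [RingHom.comp_id] at this
    exact this.symm
  have e3 : ev (algebraMap k (Polynomial (Polynomial k))) (C (C u₀)) (C X) p = C (C (a₀ * u₀) + s) := by
    conv_lhs => rw [hpe]
    rw [map_add, map_mul, ev_CC, ev_X, ev_C]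
    have h : Polynomial.eval₂ (algebraMap k (Polynomial (Polynomial k))) (C X) s = C s := by
      have := Polynomial.hom_eval₂ s (C : k →+* Polynomial k) (C : Polynomial k →+* Polynomial (Polynomial k)) X
      rw [Polynomial.eval₂_C_X] at this
      exact this.symm
    rw [h]
    change C (C a₀) * C (C u₀) + C s = _
    rw [← C_mul, ← C_mul, ← C_add]
  have ha1 : a₀ = 1 := by
    have h := congrArg (fun f => Polynomial.coeff f 1) (e2.symm.trans h2)
    simp only [Polynomial.coeff_add, Polynomial.coeff_C_mul, Polynomial.coeff_X_one, Polynomial.coeff_C_succ,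
      _root_.mul_one, add_zero] at h
    exact Polynomial.C_injective (h.trans Polynomial.C_1.symm)
  have hs' : C (a₀ * u₀) + s = X := Polynomial.C_injective (e3.symm.trans h3)
  rw [hpe, ha1, ← hs', ha1]
  simp only [map_one, _root_.one_mul, map_add]
  ring


/-! ### The geometric part -/

section Geom

variable {G : Over (Spec (CommRingCat.of k))} (c : FnCoord G) [GrpObj G]

/-- The universal base `Spec k[y][x]`. -/
abbrev T2 (k : Type u) [CommRing k] : Over (Spec (CommRingCat.of k)) := specOver k (Polynomial (Polynomial k))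

/-- Coordinate (in `k[y][x]`) of a point with values in the universal base. -/
def co (a : T2 k ⟶ G) : Polynomial (Polynomial k) := gammaEquiv _ (c.fn a)

theorem fn_eq_co (a : T2 k ⟶ G) : c.fn a = (gammaEquiv _).symm (co c a) :=
  ((gammaEquiv _).symm_apply_apply _).symm

/-- Evaluation of polynomials in two variables at a pair of points. -/
def evPt {T : Over (Spec (CommRingCat.of k))} (a b : T ⟶ G) : Polynomial (Polynomial k) →+* Γ(T.left, ⊤) :=
  ev (algK T) (c.fn a) (c.fn b)

theorem evPt_alg {T : Over (Spec (CommRingCat.of k))} (a b : T ⟶ G) (r : k) :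
    evPt c a b (algebraMap k (Polynomial (Polynomial k)) r) = algK T r := ev_algebraMap _ _ _ r

variable {Xp Yp : T2 k ⟶ G} (hX : co c Xp = X) (hY : co c Yp = C X)
include hX hY

theorem pull_X {T : Over (Spec (CommRingCat.of k))} (a b : T ⟶ G) :
    homOf T (evPt c a b) (evPt_alg c a b) ≫ Xp = a :=
  homOf_comp_eq c Xp T _ _ a (by
    change evPt c a b (co c Xp) = c.fn a
    rw [hX]
    exact ev_X _ _ _)

theorem pull_Y {T : Over (Spec (CommRingCat.of k))} (a b : T ⟶ G) :
    homOf T (evPt c a b) (evPt_alg c a b) ≫ Yp = b :=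
  homOf_comp_eq c Yp T _ _ b (by
    change evPt c a b (co c Yp) = c.fn b
    rw [hY]
    exact ev_CX _ _ _)

theorem fn_mul_eq {T : Over (Spec (CommRingCat.of k))} (a b : T ⟶ G) :
    c.fn (a * b) = evPt c a b (co c (Xp * Yp)) := by
  have h := fn_homOf_comp c (Xp * Yp) T (evPt c a b) (evPt_alg c a b)
  rw [MonObj.comp_mul, pull_X c hX hY, pull_Y c hX hY] at h
  exact h

omit hX hY in
theorem evPt_T2 (a b : T2 k ⟶ G) (f : Polynomial (Polynomial k)) :
    evPt c a b f = (gammaEquiv _).symm (ev (algebraMap k (Polynomial (Polynomial k))) (co c a) (co c b) f) := by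
  have h := comp_ev (algebraMap k (Polynomial (Polynomial k))) (co c a) (co c b)
    ((gammaEquiv (Polynomial (Polynomial k))).symm.toRingHom)
  have h2 : ((gammaEquiv (Polynomial (Polynomial k))).symm.toRingHom).comp
      (algebraMap k (Polynomial (Polynomial k))) = algK (T2 k) := by
    ext r
    exact (algK_specOver r).symm
  rw [h2] at h
  have h3 := congrArg (fun g => g f) h
  simp only [RingHom.comp_apply] at h3
  rw [evPt, fn_eq_co c a, fn_eq_co c b]
  exact h3.symm

theorem co_mul (a b : T2 k ⟶ G) :
    co c (a * b) = ev (algebraMap k (Polynomial (Polynomial k))) (co c a) (co c b) (co c (Xp * Yp)) := by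
  have h := fn_mul_eq c hX hY a b
  rw [evPt_T2] at h
  rw [co, h, RingEquiv.apply_symm_apply]

omit hX hY in
theorem co_one : co c (1 : T2 k ⟶ G) = C (C (unitConst c)) := by
  rw [co, fn_one, algK_specOver]
  exact (gammaEquiv _).apply_symm_apply _

theorem co_XY [IsDomain k] : co c (Xp * Yp) = X + C X - C (C (unitConst c)) := by
  apply law_eq (co c (Xp * Yp)) (co c (Xp * Yp⁻¹)) (unitConst c)
  · rw [← ev_eq_comp, ← hY, ← co_mul c hX hY, inv_mul_cancel_right, hX]
  · rw [← hX, ← co_one, ← co_mul c hX hY, _root_.mul_one]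
  · rw [← hY, ← co_one, ← co_mul c hX hY, _root_.one_mul]

/-- Any group law on a `k`-scheme whose points are the global functions is `x + y - u₀`. -/
theorem fn_mul_add_one [IsDomain k] {T : Over (Spec (CommRingCat.of k))} (a b : T ⟶ G) :
    c.fn (a * b) + c.fn (1 : T ⟶ G) = c.fn a + c.fn b := by
  rw [fn_mul_eq c hX hY a b, co_XY c hX hY, fn_one, map_sub, map_add]
  change ev _ _ _ X + ev _ _ _ (C X) - ev _ _ _ (C (C (unitConst c))) + _ = _
  rw [ev_X, ev_CX, ev_CC, sub_add_cancel]

end Geom

/-- Any group law on a `k`-scheme `G` (`k` a domain) whose functor of points is the functor of global functions is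
`x + y - u₀`, where `u₀` is the coordinate of the unit section. -/
theorem ga_law [IsDomain k] {G : Over (Spec (CommRingCat.of k))} (c : FnCoord G) [GrpObj G]
    (hs : ∀ (T : Over (Spec (CommRingCat.of k))) (v : Γ(T.left, ⊤)), ∃ x : T ⟶ G, c.fn x = v)
    {T : Over (Spec (CommRingCat.of k))} (a b : T ⟶ G) :
    c.fn (a * b) + c.fn (1 : T ⟶ G) = c.fn a + c.fn b := by
  obtain ⟨Xp, hX⟩ := hs (T2 k) ((gammaEquiv _).symm X)
  obtain ⟨Yp, hY⟩ := hs (T2 k) ((gammaEquiv _).symm (C X))
  have hX' : co c Xp = X := by rw [co, hX, RingEquiv.apply_symm_apply]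
  have hY' : co c Yp = C X := by rw [co, hY, RingEquiv.apply_symm_apply]
  exact fn_mul_add_one c hX' hY' a b

end Groth.Agent.Lib.GaLaw38
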