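import Groth.Prelude.Def_GmPts

/-!
# Points of the additive group `Red.Ga S` are global functions (helper73)

Additive analogue of the prelude module `Def_GmPts` (namespace `GmPts`): for `T : Over S`, a point
`x : T ⟶ Red.Ga S` is determined by the global function `Red.gaFn x : Γ(T.left, ⊤)`, every global function
arises, the group law on points is addition of functions, and everything is natural in `T`.

Main API (namespace `Groth.Agent.Lib.GaPts`):
* `gaFn_mul : Red.gaFn (x * y) = Red.gaFn x + Red.gaFn y`, `gaFn_one : Red.gaFn 1 = 0`,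
  `gaFn_inv : Red.gaFn x⁻¹ = - Red.gaFn x`, `gaFn_comp : Red.gaFn (g ≫ x) = g.left.appTop (Red.gaFn x)`,
  `gaFn_injective`, `ptOfElt v` with `gaFn_ptOfElt : Red.gaFn (ptOfElt v) = v`, `ptOfElt_gaFn`.
* `equiv T : (T ⟶ Red.Ga S) ≃* Multiplicative Γ(T.left, ⊤)`.
-/

universe u

open CategoryTheory CategoryTheory.Limits MonoidalCategory CartesianMonoidalCategory MonObj AlgebraicGeometry Opposite

noncomputable section

namespace Groth.Agent.Lib.GaPts

section Generic

open scoped TensorProduct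

variable {R A : Type u} [CommRing R] [CommRing A] [Bialgebra R A]

theorem specMap_appTop_ΓSpecIso_inv {B C : CommRingCat.{u}} (φ : B ⟶ C) (c : B) :
    (Spec.map φ).appTop ((Scheme.ΓSpecIso B).inv c) = (Scheme.ΓSpecIso C).inv (φ c) := by
  have h := congrArg (fun ψ => (ConcreteCategory.hom ψ) c) (Scheme.ΓSpecIso_inv_naturality φ)
  exact h.symm

/-- For a primitive element `a` of a bialgebra, the multiplication of `Spec A` pulls `a` back to the sum of
its pull-backs along the two projections. -/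
theorem mul_appTop_of_primitive (a : A) (ha : Coalgebra.comul (R := R) a = a ⊗ₜ[R] 1 + 1 ⊗ₜ[R] a) :
    μ[(Spec (CommRingCat.of A)).asOver (Spec (CommRingCat.of R))].left.appTop
        ((Scheme.ΓSpecIso (CommRingCat.of A)).inv a) =
      (pullback.fst ((Spec (CommRingCat.of A)).asOver (Spec (CommRingCat.of R))).hom
          ((Spec (CommRingCat.of A)).asOver (Spec (CommRingCat.of R))).hom).appTop
        ((Scheme.ΓSpecIso (CommRingCat.of A)).inv a) +
      (pullback.snd ((Spec (CommRingCat.of A)).asOver (Spec (CommRingCat.of R))).hom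
          ((Spec (CommRingCat.of A)).asOver (Spec (CommRingCat.of R))).hom).appTop
        ((Scheme.ΓSpecIso (CommRingCat.of A)).inv a) := by
  let iL : A →+* A ⊗[R] A := Algebra.TensorProduct.includeLeftRingHom
  let iR : A →+* A ⊗[R] A :=
    ((Algebra.TensorProduct.includeRight (R := R) (A := A) (B := A) : A →ₐ[R] A ⊗[R] A) : A →+* A ⊗[R] A)
  let fC : Spec (CommRingCat.of A) ⟶ Spec (CommRingCat.of R) :=
    Spec.map (CommRingCat.ofHom (algebraMap R A))
  let psi := pullbackSpecIso R A A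
  have hfst : pullback.fst fC fC = psi.hom ≫ Spec.map (CommRingCat.ofHom iL) := by
    rw [← pullbackSpecIso_inv_fst, Iso.hom_inv_id_assoc]
  have hsnd : pullback.snd fC fC = psi.hom ≫ Spec.map (CommRingCat.ofHom iR) := by
    rw [← pullbackSpecIso_inv_snd, Iso.hom_inv_id_assoc]
  have hc : (CommRingCat.ofHom (Bialgebra.comulAlgHom R A).toRingHom) a =
      (CommRingCat.ofHom iL) a + (CommRingCat.ofHom iR) a := by
    change Coalgebra.comul (R := R) a = (a ⊗ₜ[R] (1 : A)) + ((1 : A) ⊗ₜ[R] a)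
    rw [ha]
  change (psi.hom ≫ Spec.map (CommRingCat.ofHom (Bialgebra.comulAlgHom R A).toRingHom)).appTop
      ((Scheme.ΓSpecIso (CommRingCat.of A)).inv a) =
    (pullback.fst fC fC).appTop ((Scheme.ΓSpecIso (CommRingCat.of A)).inv a) +
      (pullback.snd fC fC).appTop ((Scheme.ΓSpecIso (CommRingCat.of A)).inv a)
  rw [hfst, hsnd, GmPts.appTop_comp_apply, GmPts.appTop_comp_apply, GmPts.appTop_comp_apply,
    specMap_appTop_ΓSpecIso_inv, specMap_appTop_ΓSpecIso_inv, specMap_appTop_ΓSpecIso_inv, hc, map_add, map_add]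

end Generic

/-- The coordinate ring `ℤ[x]` of the additive group over `ℤ` (as a symmetric algebra). -/
abbrev Coord : Type u := SymmetricAlgebra (ULift.{u} ℤ) (ULift.{u} ℤ)

abbrev baseZ : Scheme.{u} := GmPts.baseZ.{u}

abbrev toBaseZ (S : Scheme.{u}) : S ⟶ baseZ := GmPts.toBaseZ S

abbrev GaZ : Over baseZ.{u} := Red.GaZ.{u}

/-- The coordinate `x`. -/
abbrev gen : Coord.{u} := SymmetricAlgebra.ι (ULift.{u} ℤ) (ULift.{u} ℤ) (ULift.up 1)

abbrev coordIso : Γ(Spec (CommRingCat.of Coord.{u}), ⊤) ≅ CommRingCat.of Coord.{u} :=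
  Scheme.ΓSpecIso (CommRingCat.of Coord.{u})

theorem gaCoord_eq : Red.gaCoord.{u} = coordIso.inv gen := rfl

theorem algebraMap_eq_intCast (r : ULift.{u} ℤ) :
    algebraMap (ULift.{u} ℤ) Coord.{u} r = ((r.down : ℤ) : Coord.{u}) := by
  have : r = ((r.down : ℤ) : ULift.{u} ℤ) := by
    apply ULift.ext
    simp
  conv_lhs => rw [this]
  rw [map_intCast]

theorem ι_eq (x : ULift.{u} ℤ) :
    SymmetricAlgebra.ι (ULift.{u} ℤ) (ULift.{u} ℤ) x = ((x.down : ℤ) : Coord.{u}) * gen := by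
  have : x = (x.down : ℤ) • (ULift.up 1 : ULift.{u} ℤ) := by
    apply ULift.ext
    simp
  conv_lhs => rw [this]
  rw [map_zsmul, zsmul_eq_mul]

/-- Two ring maps out of `ℤ[x]` that agree on `x` are equal. -/
theorem ringHom_ext_gen {R : Type u} [CommRing R] {f g : Coord.{u} →+* R} (h : f gen = g gen) : f = g := by
  ext a
  refine SymmetricAlgebra.induction _ _ (motive := fun a => f a = g a) ?_ ?_ ?_ ?_ a
  · intro r
    rw [algebraMap_eq_intCast, map_intCast, map_intCast]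
  · intro x
    rw [ι_eq, map_mul, map_mul, map_intCast, map_intCast, h]
  · intro a b ha hb
    rw [map_mul, map_mul, ha, hb]
  · intro a b ha hb
    rw [map_add, map_add, ha, hb]

/-- The ring map `ℤ[x] → R` sending `x` to `v`. -/
def ringHomOfElt {R : Type u} [CommRing R] (v : R) : Coord.{u} →+* R :=
  letI : Algebra (ULift.{u} ℤ) R := ULift.algebra' ℤ R
  (SymmetricAlgebra.lift (R := ULift.{u} ℤ) (M := ULift.{u} ℤ) (A := R)
    (LinearMap.toSpanSingleton (ULift.{u} ℤ) R v)).toRingHom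

theorem ringHomOfElt_gen {R : Type u} [CommRing R] (v : R) : ringHomOfElt v gen = v := by
  let _ : Algebra (ULift.{u} ℤ) R := ULift.algebra' ℤ R
  change (SymmetricAlgebra.lift (R := ULift.{u} ℤ) (M := ULift.{u} ℤ) (A := R)
    (LinearMap.toSpanSingleton (ULift.{u} ℤ) R v)) gen = v
  rw [SymmetricAlgebra.lift_ι_apply, LinearMap.toSpanSingleton_apply]
  change (1 : ℤ) • v = v
  rw [one_smul]

variable {S : Scheme.{u}} {T T' : Over S}

/-! ### From points to functions -/

abbrev specPt (x : T ⟶ Red.Ga S) : T.left ⟶ Spec (CommRingCat.of Coord.{u}) :=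
  x.left ≫ pullback.fst GaZ.hom (toBaseZ S)

def ringHomOfPt (x : T ⟶ Red.Ga S) : Coord.{u} →+* Γ(T.left, ⊤) := (coordIso.inv ≫ (specPt x).appTop).hom

theorem ringHomOfPt_gen (x : T ⟶ Red.Ga S) : ringHomOfPt x gen = Red.gaFn x := rfl

/-! ### From functions to points -/

def homOfElt (v : Γ(T.left, ⊤)) : CommRingCat.of Coord.{u} ⟶ Γ(T.left, ⊤) := CommRingCat.ofHom (ringHomOfElt v)

def specOfElt (v : Γ(T.left, ⊤)) : T.left ⟶ Spec (CommRingCat.of Coord.{u}) :=
  ΓSpec.adjunction.homEquiv T.left (op (CommRingCat.of Coord.{u})) (homOfElt v).op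

theorem coordIso_inv_specOfElt (v : Γ(T.left, ⊤)) : coordIso.inv ≫ (specOfElt v).appTop = homOfElt v :=
  ΓSpecIso_inv_ΓSpec_adjunction_homEquiv _

theorem specOfElt_w (v : Γ(T.left, ⊤)) : specOfElt v ≫ GaZ.hom = T.hom ≫ toBaseZ S :=
  specULiftZIsTerminal.hom_ext _ _

/-- The point of the additive group over `T` attached to a global function `v`. -/
def ptOfElt (v : Γ(T.left, ⊤)) : T ⟶ Red.Ga S :=
  Over.homMk (pullback.lift (specOfElt v) T.hom (specOfElt_w v)) (pullback.lift_snd _ _ _)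

theorem specPt_ptOfElt (v : Γ(T.left, ⊤)) : specPt (ptOfElt v) = specOfElt v := pullback.lift_fst _ _ _

theorem ringHomOfPt_ptOfElt (v : Γ(T.left, ⊤)) : ringHomOfPt (ptOfElt v) = ringHomOfElt v := by
  change (coordIso.inv ≫ (specPt (ptOfElt v)).appTop).hom = _
  rw [specPt_ptOfElt, coordIso_inv_specOfElt]
  rfl

theorem gaFn_ptOfElt (v : Γ(T.left, ⊤)) : Red.gaFn (ptOfElt v) = v := by
  rw [← ringHomOfPt_gen, ringHomOfPt_ptOfElt, ringHomOfElt_gen]

theorem ringHomOfElt_gaFn (x : T ⟶ Red.Ga S) : ringHomOfElt (Red.gaFn x) = ringHomOfPt x :=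
  ringHom_ext_gen (by rw [ringHomOfElt_gen]; rfl)

theorem specOfElt_gaFn (x : T ⟶ Red.Ga S) : specOfElt (Red.gaFn x) = specPt x := by
  have h : (homOfElt (Red.gaFn x)).op =
      (ΓSpec.adjunction.homEquiv T.left (op (CommRingCat.of Coord.{u}))).symm (specPt x) := by
    rw [Adjunction.homEquiv_counit, ΓSpec.adjunction_counit_app]
    change (homOfElt (Red.gaFn x)).op = (coordIso.inv ≫ (specPt x).appTop).op
    congr 1
    ext1
    exact ringHomOfElt_gaFn x
  rw [specOfElt, h, Equiv.apply_symm_apply]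

theorem ptOfElt_gaFn (x : T ⟶ Red.Ga S) : ptOfElt (Red.gaFn x) = x := by
  ext1
  apply pullback.hom_ext
  · exact (specPt_ptOfElt _).trans (specOfElt_gaFn x)
  · exact (pullback.lift_snd _ _ _).trans (Over.w x).symm

theorem gaFn_injective : Function.Injective (fun x : T ⟶ Red.Ga S => Red.gaFn x) := fun x y h => by
  rw [← ptOfElt_gaFn x, ← ptOfElt_gaFn y]
  exact congrArg ptOfElt h

theorem gaFn_inj {x y : T ⟶ Red.Ga S} : Red.gaFn x = Red.gaFn y ↔ x = y :=
  ⟨fun h => gaFn_injective h, fun h => h ▸ rfl⟩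

/-! ### Naturality -/

theorem gaFn_comp (g : T' ⟶ T) (x : T ⟶ Red.Ga S) : Red.gaFn (g ≫ x) = g.left.appTop (Red.gaFn x) := by
  change ((g ≫ x).left ≫ pullback.fst GaZ.hom (toBaseZ S)).appTop Red.gaCoord = _
  rw [Over.comp_left, Category.assoc, Scheme.Hom.comp_appTop]
  rfl

theorem ptOfElt_comp (g : T' ⟶ T) (v : Γ(T.left, ⊤)) : g ≫ ptOfElt v = ptOfElt (g.left.appTop v) := by
  apply gaFn_injective
  change Red.gaFn (g ≫ ptOfElt v) = Red.gaFn (ptOfElt _)
  rw [gaFn_comp, gaFn_ptOfElt, gaFn_ptOfElt]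

/-! ### Additivity -/

theorem pullback_map_left_fst {X Y : Over baseZ.{u}} (g : X ⟶ Y) :
    ((Over.pullback (toBaseZ S)).map g).left ≫ pullback.fst Y.hom (toBaseZ S) =
      pullback.fst X.hom (toBaseZ S) ≫ g.left :=
  GmPts.pullback_map_left_fst g

def pairPt (x y : T ⟶ Red.Ga S) : T.left ⟶ (GaZ ⊗ GaZ).left :=
  (lift x y).left ≫ (Functor.LaxMonoidal.μ (Over.pullback (toBaseZ S)) GaZ GaZ).left ≫
    pullback.fst (GaZ ⊗ GaZ).hom (toBaseZ S)

theorem specPt_mul (x y : T ⟶ Red.Ga S) : specPt (x * y) = pairPt x y ≫ μ[GaZ].left := by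
  have h1 : x * y = lift x y ≫ μ[Red.Ga S] := Hom.mul_def x y
  have h2 : μ[Red.Ga S] = Functor.LaxMonoidal.μ (Over.pullback (toBaseZ S)) GaZ GaZ ≫
      (Over.pullback (toBaseZ S)).map μ[GaZ] := rfl
  have h3 := pullback_map_left_fst (S := S) μ[GaZ]
  rw [specPt, pairPt, h1, h2, Over.comp_left, Over.comp_left]
  simp only [Category.assoc]
  exact _ ≫= (_ ≫= h3)

theorem pairPt_fst (x y : T ⟶ Red.Ga S) : pairPt x y ≫ pullback.fst GaZ.hom GaZ.hom = specPt x := by
  rw [pairPt, Category.assoc, Category.assoc, Over.μ_pullback_left_fst_fst, ← Category.assoc]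
  congr 1
  rw [← Over.fst_left, ← Over.comp_left, lift_fst]

theorem pairPt_snd (x y : T ⟶ Red.Ga S) : pairPt x y ≫ pullback.snd GaZ.hom GaZ.hom = specPt y := by
  rw [pairPt, Category.assoc, Category.assoc, Over.μ_pullback_left_fst_snd, ← Category.assoc]
  congr 1
  rw [← Over.snd_left, ← Over.comp_left, lift_snd]

theorem mul_appTop_gen : μ[GaZ].left.appTop (coordIso.inv gen.{u}) =
    (pullback.fst GaZ.hom GaZ.hom).appTop (coordIso.inv gen.{u}) +
      (pullback.snd GaZ.hom GaZ.hom).appTop (coordIso.inv gen.{u}) :=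
  mul_appTop_of_primitive (R := ULift.{u} ℤ) (A := Coord.{u}) gen.{u} (SymmetricAlgebra.comul_ι _ _ _)

/-- `Red.gaFn` is additive: the function of a product of points is the sum of their functions. -/
theorem gaFn_mul (x y : T ⟶ Red.Ga S) : Red.gaFn (x * y) = Red.gaFn x + Red.gaFn y := by
  have e1 : Red.gaFn (x * y) = (pairPt x y).appTop (μ[GaZ].left.appTop (coordIso.inv gen)) := by
    change (specPt (x * y)).appTop (coordIso.inv gen) = _
    rw [specPt_mul]
    exact GmPts.appTop_comp_apply _ _ _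
  rw [e1, mul_appTop_gen, map_add, ← GmPts.appTop_comp_apply, ← GmPts.appTop_comp_apply, pairPt_fst, pairPt_snd]
  rfl

theorem gaFn_one : Red.gaFn (1 : T ⟶ Red.Ga S) = 0 := by
  have h := gaFn_mul (1 : T ⟶ Red.Ga S) 1
  have e : (1 : T ⟶ Red.Ga S) * 1 = 1 := _root_.mul_one (1 : T ⟶ Red.Ga S)
  rw [e] at h
  exact left_eq_add.mp h

theorem gaFn_inv (x : T ⟶ Red.Ga S) : Red.gaFn x⁻¹ = - Red.gaFn x := by
  have h := gaFn_mul x⁻¹ x
  have e : x⁻¹ * x = 1 := inv_mul_cancel x
  rw [e, gaFn_one] at h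
  exact eq_neg_of_add_eq_zero_left h.symm

theorem gaFn_div (x y : T ⟶ Red.Ga S) : Red.gaFn (x / y) = Red.gaFn x - Red.gaFn y := by
  rw [div_eq_mul_inv, gaFn_mul, gaFn_inv, sub_eq_add_neg]

theorem ptOfElt_add (v w : Γ(T.left, ⊤)) : (ptOfElt (v + w) : T ⟶ Red.Ga S) = ptOfElt v * ptOfElt w := by
  apply gaFn_injective
  change Red.gaFn (ptOfElt (v + w)) = Red.gaFn (ptOfElt v * ptOfElt w)
  rw [gaFn_mul, gaFn_ptOfElt, gaFn_ptOfElt, gaFn_ptOfElt]

theorem ptOfElt_zero : (ptOfElt (0 : Γ(T.left, ⊤)) : T ⟶ Red.Ga S) = 1 := by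
  apply gaFn_injective
  change Red.gaFn (ptOfElt 0) = Red.gaFn (1 : T ⟶ Red.Ga S)
  rw [gaFn_one, gaFn_ptOfElt]

theorem ptOfElt_neg (v : Γ(T.left, ⊤)) : (ptOfElt (-v) : T ⟶ Red.Ga S) = (ptOfElt v)⁻¹ := by
  apply gaFn_injective
  change Red.gaFn (ptOfElt (-v)) = Red.gaFn (ptOfElt v)⁻¹
  rw [gaFn_inv, gaFn_ptOfElt, gaFn_ptOfElt]

/-- Points of the additive group over `T` `≃*` global functions on `T` (written multiplicatively). -/
def equiv (T : Over S) : (T ⟶ Red.Ga S) ≃* Multiplicative Γ(T.left, ⊤) where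
  toFun x := Multiplicative.ofAdd (Red.gaFn x)
  invFun v := ptOfElt v.toAdd
  left_inv := ptOfElt_gaFn
  right_inv v := by
    change Multiplicative.ofAdd (Red.gaFn (ptOfElt v.toAdd)) = v
    rw [gaFn_ptOfElt]
    rfl
  map_mul' x y := by
    rw [gaFn_mul]
    rfl

/-- Points of `Red.Ga S` commute. -/
theorem mul_comm' (x y : T ⟶ Red.Ga S) : x * y = y * x := by
  apply gaFn_injective
  change Red.gaFn (x * y) = Red.gaFn (y * x)
  rw [gaFn_mul, gaFn_mul, add_comm]

end Groth.Agent.Lib.GaPts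

end
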