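import Mathlib
import Groth.Prelude.Def_W4c5qcohlocdualityLoc

set_option autoImplicit false
universe w v u
open CategoryTheory CategoryTheory.Limits

namespace Groth.Agent.Lib.GabLoc66

variable {C : Type u} [Category.{v} C] [Abelian C]

/-- The objects `Y` with `Hom(Y, M) = 0` and `Ext¹(Y, M) = 0` (in the form: every extension of `Y` by
`M` splits). -/
def perp (M : C) : ObjectProperty C := fun Y =>
  (∀ f : Y ⟶ M, f = 0) ∧ ∀ ⦃N : C⦄ (i : M ⟶ N) (p : N ⟶ Y) (hp : i ≫ p = 0),
    (ShortComplex.mk i p hp).ShortExact → IsSplitMono i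

lemma isClosedFor_iff (P : ObjectProperty C) (M : C) :
    GabLoc.IsClosedFor P M ↔ P ≤ perp M := by
  constructor
  · rintro ⟨h1, h2⟩ Y hY
    exact ⟨fun f => h1 hY f, fun N i p hp hS => h2 i p hp hY hS⟩
  · intro h
    exact ⟨fun Y hY f => (h Y hY).1 f, fun N Y i p hp hY hS => (h Y hY).2 i p hp hS⟩

section

variable {M E : C} (j : M ⟶ E)

/-- The lifting form of `perp M`, relative to an embedding `j : M ⟶ E` into an injective. -/
def Lp : ObjectProperty C := fun Y =>
  (∀ f : Y ⟶ M, f = 0) ∧ ∀ g : Y ⟶ cokernel j, ∃ g' : Y ⟶ E, g' ≫ cokernel.π j = g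

variable [Mono j]

lemma Lp.unique {Y : C} (h : Lp j Y) {a b : Y ⟶ E}
    (hab : a ≫ cokernel.π j = b ≫ cokernel.π j) : a = b := by
  have h0 : (a - b) ≫ cokernel.π j = 0 := by rw [Preadditive.sub_comp, hab, sub_self]
  have ex : (ShortComplex.mk j (cokernel.π j) (cokernel.condition j)).Exact :=
    ShortComplex.exact_cokernel j
  have hm : Mono (ShortComplex.mk j (cokernel.π j) (cokernel.condition j)).f := by
    dsimp; infer_instance
  have := ex.lift_f (a - b) h0
  rw [h.1 (ex.lift (a - b) h0), zero_comp] at this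
  exact sub_eq_zero.1 this.symm

lemma perp_le_Lp {Y : C} (h : perp M Y) : Lp j Y := by
  refine ⟨h.1, fun g => ?_⟩
  let i : M ⟶ pullback (cokernel.π j) g := pullback.lift j 0 (by simp)
  have hi : i ≫ pullback.fst _ _ = j := pullback.lift_fst _ _ _
  have hi' : i ≫ pullback.snd _ _ = 0 := pullback.lift_snd _ _ _
  have : Mono i := mono_of_mono_fac hi
  have : Epi (pullback.snd (cokernel.π j) g) := inferInstance
  have ex0 : (ShortComplex.mk j (cokernel.π j) (cokernel.condition j)).Exact :=
    ShortComplex.exact_cokernel j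
  have hm : Mono (ShortComplex.mk j (cokernel.π j) (cokernel.condition j)).f := by
    dsimp; infer_instance
  have hS : (ShortComplex.mk i (pullback.snd _ _) hi').ShortExact := by
    refine ShortComplex.ShortExact.mk' ?_ (by dsimp; infer_instance) (by dsimp; infer_instance)
    rw [ShortComplex.exact_iff_exact_up_to_refinements]
    intro W x hx
    dsimp at x hx
    have hx' : (x ≫ pullback.fst _ _) ≫ cokernel.π j = 0 := by
      rw [Category.assoc, pullback.condition, reassoc_of% hx, zero_comp]
    refine ⟨W, 𝟙 W, inferInstance, ex0.lift _ hx', ?_⟩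
    dsimp
    apply pullback.hom_ext
    · rw [Category.id_comp, Category.assoc, hi]
      exact (ex0.lift_f _ hx').symm
    · rw [Category.id_comp, Category.assoc, hi', comp_zero, hx]
  have hsplit := h.2 i (pullback.snd _ _) hi' hS
  obtain ⟨⟨r, hr⟩⟩ := hsplit
  let σ := ShortComplex.Splitting.ofExactOfRetraction _ hS.exact r hr hS.epi_g
  refine ⟨σ.s ≫ pullback.fst _ _, ?_⟩
  rw [Category.assoc, pullback.condition]
  have := σ.s_g
  dsimp at this
  rw [reassoc_of% this]

variable [Injective E]

lemma Lp_le_perp {Y : C} (h : Lp j Y) : perp M Y := by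
  refine ⟨h.1, fun N i p hp hS => ?_⟩
  have : Mono i := hS.mono_f
  have : Epi p := hS.epi_g
  let φ : N ⟶ E := Injective.factorThru j i
  have hφ : i ≫ φ = j := Injective.comp_factorThru j i
  have h0 : i ≫ φ ≫ cokernel.π j = 0 := by rw [reassoc_of% hφ, cokernel.condition]
  have hepi : Epi (ShortComplex.mk i p hp).g := by dsimp; infer_instance
  let g : Y ⟶ cokernel j := hS.exact.desc (φ ≫ cokernel.π j) h0
  have hg : p ≫ g = φ ≫ cokernel.π j := hS.exact.g_desc _ h0
  obtain ⟨g', hg'⟩ := h.2 g
  have ex0 : (ShortComplex.mk j (cokernel.π j) (cokernel.condition j)).Exact :=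
    ShortComplex.exact_cokernel j
  have hm : Mono (ShortComplex.mk j (cokernel.π j) (cokernel.condition j)).f := by
    dsimp; infer_instance
  have h1 : (φ - p ≫ g') ≫ cokernel.π j = 0 := by
    rw [Preadditive.sub_comp, Category.assoc, hg', hg, sub_self]
  let r : N ⟶ M := ex0.lift _ h1
  have hr : r ≫ j = φ - p ≫ g' := ex0.lift_f _ h1
  refine ⟨⟨r, ?_⟩⟩
  rw [← cancel_mono j, Category.assoc, hr, Preadditive.comp_sub, hφ, reassoc_of% hp, zero_comp,
    sub_zero, Category.id_comp]

omit [Mono j] [Injective E] in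
lemma Lp_of_isZero {Y : C} (hY : IsZero Y) : Lp j Y :=
  ⟨fun f => hY.eq_of_src _ _, fun g => ⟨0, hY.eq_of_src _ _⟩⟩

omit [Mono j] in
/-- `Lp` is closed under extensions. -/
lemma Lp_of_ext {Y₁ Y Y₂ : C} (a : Y₁ ⟶ Y) (e : Y ⟶ Y₂) (w : a ≫ e = 0) [Mono a] [Epi e]
    (ex : (ShortComplex.mk a e w).Exact) (h₁ : Lp j Y₁) (h₂ : Lp j Y₂) : Lp j Y := by
  have hepi : Epi (ShortComplex.mk a e w).g := by dsimp; infer_instance
  constructor
  · intro f
    have h0 : a ≫ f = 0 := h₁.1 _
    have := ex.g_desc f h0
    dsimp at this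
    rw [← this, h₂.1 (ex.desc f h0), comp_zero]
  · intro g
    obtain ⟨k₁, hk₁⟩ := h₁.2 (a ≫ g)
    let k : Y ⟶ E := Injective.factorThru k₁ a
    have hk : a ≫ k = k₁ := Injective.comp_factorThru k₁ a
    have h0 : a ≫ (g - k ≫ cokernel.π j) = 0 := by
      rw [Preadditive.comp_sub, reassoc_of% hk, hk₁, sub_self]
    have hd := ex.g_desc _ h0
    dsimp at hd
    obtain ⟨k₂, hk₂⟩ := h₂.2 (ex.desc _ h0)
    refine ⟨k + e ≫ k₂, ?_⟩
    rw [Preadditive.add_comp, Category.assoc, hk₂, hd]
    abel

omit [Injective E] in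
/-- `Lp` passes to quotients whose kernel has no maps to `M`. -/
lemma Lp_of_quot {B' B B₂ : C} (a : B' ⟶ B) (e : B ⟶ B₂) (w : a ≫ e = 0) [Epi e]
    (ex : (ShortComplex.mk a e w).Exact) (h' : ∀ f : B' ⟶ M, f = 0) (h : Lp j B) : Lp j B₂ := by
  have hepi : Epi (ShortComplex.mk a e w).g := by dsimp; infer_instance
  have ex0 : (ShortComplex.mk j (cokernel.π j) (cokernel.condition j)).Exact :=
    ShortComplex.exact_cokernel j
  have hm : Mono (ShortComplex.mk j (cokernel.π j) (cokernel.condition j)).f := by
    dsimp; infer_instance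
  constructor
  · intro f
    rw [← cancel_epi e, comp_zero]
    exact h.1 _
  · intro g
    obtain ⟨k, hk⟩ := h.2 (e ≫ g)
    have h0 : (a ≫ k) ≫ cokernel.π j = 0 := by
      rw [Category.assoc, hk, reassoc_of% w, zero_comp]
    have h1 : a ≫ k = 0 := by
      have := ex0.lift_f _ h0
      dsimp at this
      rw [← this, h' (ex0.lift _ h0), zero_comp]
    refine ⟨ex.desc k h1, ?_⟩
    rw [← cancel_epi e]
    have := ex.g_desc k h1
    dsimp at this
    rw [reassoc_of% this, hk]

omit [Injective E] in
/-- `Lp` is closed under arbitrary colimits. -/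
lemma Lp_of_isColimit {J : Type*} [Category J] {F : J ⥤ C} {c : Cocone F} (hc : IsColimit c)
    (h : ∀ x, Lp j (F.obj x)) : Lp j c.pt := by
  constructor
  · intro f
    apply hc.hom_ext
    intro x
    rw [comp_zero]
    exact (h x).1 _
  · intro g
    choose k hk using fun x => (h x).2 (c.ι.app x ≫ g)
    let s : Cocone F :=
      { pt := E
        ι :=
          { app := k
            naturality := by
              intro x y u
              dsimp
              rw [Category.comp_id]
              apply (h x).unique j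
              rw [Category.assoc, hk, hk, ← Category.assoc, c.w] } }
    refine ⟨hc.desc s, ?_⟩
    apply hc.hom_ext
    intro x
    rw [← Category.assoc, hc.fac]
    exact hk x

omit [Mono j] [Injective E] in
lemma Lp_of_iso {Y Y' : C} (e : Y ≅ Y') (h : Lp j Y) : Lp j Y' := by
  constructor
  · intro f
    rw [← cancel_epi e.hom, comp_zero]
    exact h.1 _
  · intro g
    obtain ⟨k, hk⟩ := h.2 (e.hom ≫ g)
    exact ⟨e.inv ≫ k, by rw [Category.assoc, hk, Iso.inv_hom_id_assoc]⟩

/-- The hereditary version of `Lp`: all subobjects satisfy `Lp`. -/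
def TM : ObjectProperty C := fun X => ∀ ⦃B : C⦄ (i : B ⟶ X), Mono i → Lp j B

omit [Mono j] [Injective E] in
lemma TM.lp {X : C} (h : TM j X) : Lp j X := h (𝟙 X) inferInstance

omit [Mono j] [Injective E] in
lemma TM_le_Lp : TM j ≤ Lp j := fun _ h => h.lp

instance : (TM j).IsClosedUnderSubobjects where
  prop_of_mono f _ hY _ i _ := hY (i ≫ f) (mono_comp _ _)

open ZeroObject in
instance : (TM j).ContainsZero :=
  ⟨0, isZero_zero C, fun _ i _ => Lp_of_isZero j (IsZero.of_mono i (isZero_zero C))⟩

instance : (TM j).IsClosedUnderQuotients where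
  prop_of_epi {X X₂} f _ hX B₂ i _ := by
    have hm : Mono (pullback.fst f i) := inferInstance
    have he : Epi (pullback.snd f i) := inferInstance
    have hk : Mono (kernel.ι (pullback.snd f i) ≫ pullback.fst f i) := mono_comp _ _
    exact Lp_of_quot j (kernel.ι (pullback.snd f i)) (pullback.snd f i) (kernel.condition _)
      (ShortComplex.exact_kernel _) (hX _ hk).1 (hX _ hm)

instance : (TM j).IsClosedUnderExtensions where
  prop_X₂_of_shortExact {S} hS h₁ h₃ B i _ := by
    have := hS.mono_f
    have hm1 : Mono (pullback.fst i S.f) := inferInstance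
    have hm2 : Mono (pullback.snd i S.f) := inferInstance
    have hm3 : Mono (image.ι (i ≫ S.g)) := inferInstance
    have he : Epi (factorThruImage (i ≫ S.g)) := inferInstance
    have w : pullback.fst i S.f ≫ factorThruImage (i ≫ S.g) = 0 := by
      rw [← cancel_mono (image.ι (i ≫ S.g)), Category.assoc, image.fac, zero_comp,
        pullback.condition_assoc, S.zero, comp_zero]
    refine Lp_of_ext j (pullback.fst i S.f) (factorThruImage (i ≫ S.g)) w ?_
      (h₁ _ hm2) (h₃ _ hm3)
    rw [ShortComplex.exact_iff_exact_up_to_refinements]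
    intro W x hx
    dsimp at x hx
    have hx' : (x ≫ i) ≫ S.g = 0 := by
      rw [Category.assoc, ← image.fac (i ≫ S.g), reassoc_of% hx, zero_comp]
    refine ⟨W, 𝟙 W, inferInstance,
      pullback.lift x (hS.exact.lift (x ≫ i) hx') (hS.exact.lift_f _ hx').symm, ?_⟩
    dsimp
    rw [Category.id_comp, pullback.lift_fst]

instance : (TM j).IsSerreClass where

instance : (TM j).IsClosedUnderBinaryCoproducts where
  colimitsOfShape_le := by
    rintro X ⟨p⟩
    let e : X ≅ p.diag.obj ⟨.left⟩ ⊞ p.diag.obj ⟨.right⟩ :=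
      IsColimit.coconePointsIsoOfNatIso p.isColimit (BinaryBiproduct.isColimit _ _)
        (diagramIsoPair p.diag)
    exact (TM j).prop_of_iso e.symm
      ((TM j).prop_biprod (p.prop_diag_obj _) (p.prop_diag_obj _))

instance : (TM j).IsClosedUnderFiniteCoproducts := ObjectProperty.IsClosedUnderFiniteCoproducts.mk'

attribute [local instance] IsFiltered.isConnected

open CoproductsFromFiniteFiltered in
lemma TM_coproduct [IsGrothendieckAbelian.{w} C] {J : Type w} (Y : J → C)
    (hY : ∀ x, TM j (Y x)) : TM j (∐ Y) := by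
  intro B i hi
  let G := liftToFinsetObj (Discrete.functor Y)
  let c := finiteSubcoproductsCocone Y
  have hc : IsColimit c := isColimitFiniteSubproductsCocone Y
  have hG : ∀ s, TM j (G.obj s) := fun s =>
    (TM j).prop_coproduct (fun x : s => hY x.1.as)
  let α : G ⟶ (Functor.const _).obj (cokernel i) := c.ι ≫ (Functor.const _).map (cokernel.π i)
  let S : ShortComplex (Finset (Discrete J) ⥤ C) :=
    ShortComplex.mk (kernel.ι α) α (kernel.condition α)
  have hS : S.Exact := ShortComplex.exact_kernel α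
  let c₁ := colimit.cocone (kernel α)
  have hc₁ : IsColimit c₁ := colimit.isColimit _
  let f : colimit (kernel α) ⟶ ∐ Y := colimit.desc (kernel α) (Cocone.mk _ (kernel.ι α ≫ c.ι))
  have hf : ∀ s, c₁.ι.app s ≫ f = S.f.app s ≫ c.ι.app s := fun s =>
    colimit.ι_desc _ s
  have hg : ∀ s, c.ι.app s ≫ cokernel.π i =
      S.g.app s ≫ (constCocone (Finset (Discrete J)) (cokernel i)).ι.app s := fun s =>
    (Category.comp_id _).symm
  have ex := colim.exact_mapShortComplex (S := S) hS hc₁ hc
    (isColimitConstCocone _ _) f (cokernel.π i) hf hg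
  have : Mono (kernel.ι α) := inferInstance
  have hfm : Mono f := colim.map_mono' (kernel.ι α) hc₁ hc f hf
  have ex' : (ShortComplex.mk i (cokernel.π i) (cokernel.condition i)).Exact :=
    ShortComplex.exact_cokernel i
  have hm1 : Mono (colim.mapShortComplex S hc₁ c (constCocone _ _) f (cokernel.π i) hf hg).f :=
    hfm
  have hm2 : Mono (ShortComplex.mk i (cokernel.π i) (cokernel.condition i)).f := by
    dsimp; infer_instance
  have hfπ : f ≫ cokernel.π i = 0 :=
    (colim.mapShortComplex S hc₁ c (constCocone _ _) f (cokernel.π i) hf hg).zero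
  let u : B ⟶ colimit (kernel α) := ex.lift i (cokernel.condition i)
  have hu : u ≫ f = i := ex.lift_f _ _
  let v : colimit (kernel α) ⟶ B := ex'.lift f hfπ
  have hv : v ≫ i = f := ex'.lift_f _ _
  let e : colimit (kernel α) ≅ B :=
    { hom := v
      inv := u
      hom_inv_id := by rw [← cancel_mono f, Category.assoc, hu, hv, Category.id_comp]
      inv_hom_id := by rw [← cancel_mono i, Category.assoc, hv, hu, Category.id_comp] }
  refine Lp_of_iso j e (Lp_of_isColimit j hc₁ (fun s => ?_))
  have : Mono ((kernel.ι α).app s) := inferInstance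
  exact hG s _ this

lemma isLocalizing_TM [IsGrothendieckAbelian.{w} C] : GabLoc.IsLocalizing.{w} (TM j) where
  isSerreClass := inferInstance
  isClosedUnderCoproducts J := by
    constructor
    rintro X ⟨p⟩
    let Y : J → C := fun x => p.diag.obj ⟨x⟩
    let e : X ≅ ∐ Y := IsColimit.coconePointsIsoOfNatIso p.isColimit (colimit.isColimit _)
      Discrete.natIsoFunctor
    exact (TM j).prop_of_iso e.symm (TM_coproduct j Y (fun x => p.prop_diag_obj _))

end

/-- If all subobjects of objects of `P` are `M`-perpendicular, then `M` is closed for the localizing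
closure of `P`. -/
theorem isClosedFor_locClosure [IsGrothendieckAbelian.{w} C] (P : ObjectProperty C) (M : C)
    (h : ∀ ⦃X B : C⦄ (i : B ⟶ X), Mono i → P X → perp M B) :
    GabLoc.IsClosedFor (GabLoc.locClosure.{w} P) M := by
  have : EnoughInjectives C := IsGrothendieckAbelian.enoughInjectives.{w}
  rw [isClosedFor_iff]
  intro X hX
  have hT : TM (Injective.ι M) X := hX (TM (Injective.ι M)) (isLocalizing_TM _)
    (fun Y hY B i hi => perp_le_Lp _ (h i hi hY))
  exact Lp_le_perp _ hT.lp

lemma le_locClosure (P : ObjectProperty C) : P ≤ GabLoc.locClosure.{w} P :=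
  fun _ hX _ _ hQ => hQ _ hX

end Groth.Agent.Lib.GabLoc66
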