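import Groth.Agent.Lib.GalAct13Alg
import Groth.Agent.Lib.FieldBC13
import Mathlib.AlgebraicGeometry.Pullbacks
import Mathlib.AlgebraicGeometry.AffineScheme

/-!
# The Galois group acts transitively on the fibres of `X_K ⟶ X` (helper13)

For a `k`-scheme `X` (structure morphism `f`) and a field extension `K/k`, `act K f σ` is the
automorphism `id × Spec σ` of `X_K = pullback f (Spec K ⟶ Spec k)`.  When `K/k` is Galois
(possibly infinite), two points of `X_K` with the same image in `X` are conjugate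
(`exists_act_eq`).
-/

set_option autoImplicit false
universe u

open CategoryTheory CategoryTheory.Limits AlgebraicGeometry TensorProduct

namespace Groth.Agent.Lib.GalAct13

open Groth.Agent.Lib.FieldBC13 Groth.Agent.Lib.GalAct13Alg

variable {k : Type u} [Field k] (K : Type u) [Field K] [Algebra k K]

/-- The action of `σ ∈ Aut(K/k)` on `X_K`. -/
noncomputable def act {X : Scheme.{u}} (f : X ⟶ Spec (CommRingCat.of k)) (σ : K ≃ₐ[k] K) :
    pullback f (Spec.map (CommRingCat.ofHom (algebraMap k K))) ⟶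
      pullback f (Spec.map (CommRingCat.ofHom (algebraMap k K))) :=
  pullback.map _ _ _ _ (𝟙 X) (Spec.map (CommRingCat.ofHom (σ : K →ₐ[k] K).toRingHom)) (𝟙 _)
    (by simp) (by rw [Category.comp_id, ← Spec.map_comp, ← CommRingCat.ofHom_comp,
      AlgHom.toRingHom_eq_coe, AlgHom.comp_algebraMap])

section

variable {X : Scheme.{u}} (f : X ⟶ Spec (CommRingCat.of k)) (σ : K ≃ₐ[k] K)

@[reassoc]
theorem act_fst : act K f σ ≫ pullback.fst f _ = pullback.fst f _ := by
  unfold act
  rw [pullback.lift_fst, Category.comp_id]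

@[reassoc]
theorem act_snd : act K f σ ≫ pullback.snd f _ =
    pullback.snd f _ ≫ Spec.map (CommRingCat.ofHom (σ : K →ₐ[k] K).toRingHom) := by
  unfold act
  rw [pullback.lift_snd]

theorem act_fst_apply (z : ↥(pullback f (Spec.map (CommRingCat.ofHom (algebraMap k K))))) :
    pullback.fst f _ (act K f σ z) = pullback.fst f _ z := by
  rw [← Scheme.Hom.comp_apply, act_fst]

end

section

variable {X T : Scheme.{u}} (fX : X ⟶ Spec (CommRingCat.of k)) (fT : T ⟶ Spec (CommRingCat.of k))
  (g : T ⟶ X) (w : g ≫ fX = fT) (σ : K ≃ₐ[k] K)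

@[reassoc]
theorem mapK_fst : mapK K fX fT g w ≫ pullback.fst fX _ = pullback.fst fT _ ≫ g := by
  unfold mapK
  rw [pullback.lift_fst]

@[reassoc]
theorem mapK_snd : mapK K fX fT g w ≫ pullback.snd fX _ = pullback.snd fT _ := by
  unfold mapK
  rw [pullback.lift_snd, Category.comp_id]

/-- The action commutes with base change of `k`-morphisms. -/
theorem mapK_act : mapK K fX fT g w ≫ act K fX σ = act K fT σ ≫ mapK K fX fT g w := by
  apply pullback.hom_ext
  · rw [Category.assoc, act_fst, mapK_fst, Category.assoc, mapK_fst, act_fst_assoc]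
  · rw [Category.assoc, act_snd, mapK_snd_assoc, Category.assoc, mapK_snd, act_snd]

end

/-- Transitivity of the action on the fibres of `X_K ⟶ X`. -/
def Trans {X : Scheme.{u}} (f : X ⟶ Spec (CommRingCat.of k)) : Prop :=
  ∀ z z' : ↥(pullback f (Spec.map (CommRingCat.ofHom (algebraMap k K)))),
    pullback.fst f _ z = pullback.fst f _ z' → ∃ σ : K ≃ₐ[k] K, act K f σ z = z'

/-- Transitivity can be checked locally on `X`. -/
theorem trans_of_local {X : Scheme.{u}} (f : X ⟶ Spec (CommRingCat.of k))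
    (h : ∀ x : X, ∃ (Y : Scheme.{u}) (j : Y ⟶ X) (y : Y), j y = x ∧ Trans K (j ≫ f)) :
    Trans K f := by
  intro z z' hzz'
  obtain ⟨Y, j, y, hy, hT⟩ := h (pullback.fst f _ z)
  have hpb := isPullback_mapK K f (j ≫ f) j rfl
  obtain ⟨w, hw1, hw2⟩ := Scheme.exists_preimage_of_isPullback hpb z y hy.symm
  obtain ⟨w', hw1', hw2'⟩ := Scheme.exists_preimage_of_isPullback hpb z' y (hzz' ▸ hy.symm)
  obtain ⟨σ, hσ⟩ := hT w w' (hw2.trans hw2'.symm)
  refine ⟨σ, ?_⟩
  rw [← hw1, ← Scheme.Hom.comp_apply, mapK_act, Scheme.Hom.comp_apply, hσ]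
  exact hw1'

section Affine

variable (A : Type u) [CommRing A] [Algebra k A]

/-- The action on `Spec (A ⊗[k] K)`. -/
theorem specMap_tmap_pullbackSpecIso_inv (σ : K ≃ₐ[k] K) :
    Spec.map (CommRingCat.ofHom (tmap A K σ : A ⊗[k] K →+* A ⊗[k] K)) ≫
        (pullbackSpecIso k A K).inv =
      (pullbackSpecIso k A K).inv ≫
        act K (Spec.map (CommRingCat.ofHom (algebraMap k A))) σ := by
  apply pullback.hom_ext
  · rw [Category.assoc, Category.assoc, act_fst, pullbackSpecIso_inv_fst, ← Spec.map_comp]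
    congr 1
    ext a
    change tmap A K σ (a ⊗ₜ 1) = a ⊗ₜ 1
    rw [tmap_tmul, map_one]
  · rw [Category.assoc, Category.assoc, act_snd, pullbackSpecIso_inv_snd_assoc,
      pullbackSpecIso_inv_snd, ← Spec.map_comp, ← Spec.map_comp]
    congr 1

theorem trans_affine [IsGalois k K] :
    Trans K (Spec.map (CommRingCat.ofHom (algebraMap k A))) := by
  intro z z' hzz'
  let e := pullbackSpecIso k A K
  let P : PrimeSpectrum (A ⊗[k] K) := e.hom z
  let P' : PrimeSpectrum (A ⊗[k] K) := e.hom z'
  have hfst : ∀ y : ↥(pullback (Spec.map (CommRingCat.ofHom (algebraMap k A)))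
      (Spec.map (CommRingCat.ofHom (algebraMap k K)))),
      pullback.fst (Spec.map (CommRingCat.ofHom (algebraMap k A)))
        (Spec.map (CommRingCat.ofHom (algebraMap k K))) y =
        Spec.map (CommRingCat.ofHom (algebraMap A (A ⊗[k] K))) (e.hom y) := by
    intro y
    rw [← Scheme.Hom.comp_apply]
    exact congrArg (fun q => q.base y) (pullbackSpecIso_hom_fst' k A K).symm
  have hcomap : P.asIdeal.comap (algebraMap A (A ⊗[k] K)) =
      P'.asIdeal.comap (algebraMap A (A ⊗[k] K)) := by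
    have := hzz'
    rw [hfst z, hfst z'] at this
    exact congrArg PrimeSpectrum.asIdeal this
  obtain ⟨σ, hσ⟩ := exists_comap_tmap_eq A K P.asIdeal P'.asIdeal hcomap
  refine ⟨σ, ?_⟩
  have hP' : P' = Spec.map (CommRingCat.ofHom (tmap A K σ : A ⊗[k] K →+* A ⊗[k] K)) P :=
    PrimeSpectrum.ext hσ
  have h1 : z' = e.inv P' := by
    change z' = e.inv (e.hom z')
    rw [← Scheme.Hom.comp_apply, e.hom_inv_id]; rfl
  have h2 : z = e.inv P := by
    change z = e.inv (e.hom z)
    rw [← Scheme.Hom.comp_apply, e.hom_inv_id]; rfl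
  rw [h1, hP', ← Scheme.Hom.comp_apply, specMap_tmap_pullbackSpecIso_inv, Scheme.Hom.comp_apply,
    ← h2]

end Affine

/-- **Transitivity**: for a Galois extension `K/k` (possibly infinite) and any `k`-scheme `X`, the
group `Aut(K/k)` acts transitively on the fibres of `X_K ⟶ X`. -/
theorem exists_act_eq [IsGalois k K] {X : Scheme.{u}} (f : X ⟶ Spec (CommRingCat.of k))
    (z z' : ↥(pullback f (Spec.map (CommRingCat.ofHom (algebraMap k K)))))
    (h : pullback.fst f _ z = pullback.fst f _ z') : ∃ σ : K ≃ₐ[k] K, act K f σ z = z' := by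
  refine trans_of_local K f (fun x => ?_) z z' h
  obtain ⟨U, hU, hxU, -⟩ := TopologicalSpace.Opens.isBasis_iff_nbhd.1 X.isBasis_affineOpens (TopologicalSpace.Opens.mem_top x)
  have hx : x ∈ Set.range hU.fromSpec := by
    rw [hU.range_fromSpec]; exact hxU
  obtain ⟨y, hy⟩ := hx
  obtain ⟨φ, hφ⟩ := Spec.map_surjective (hU.fromSpec ≫ f)
  let _ : Algebra k Γ(X, U) := φ.hom.toAlgebra
  refine ⟨_, hU.fromSpec, y, hy, ?_⟩
  have : hU.fromSpec ≫ f = Spec.map (CommRingCat.ofHom (algebraMap k Γ(X, U))) := hφ.symm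
  rw [this]
  exact trans_affine K Γ(X, U)

end Groth.Agent.Lib.GalAct13
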