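import Mathlib.RingTheory.Invariant.Profinite
import Mathlib.FieldTheory.Galois.Profinite
import Mathlib.FieldTheory.Galois.Infinite
import Mathlib.FieldTheory.KrullTopology
import Mathlib.LinearAlgebra.DirectSum.Finsupp
import Mathlib.LinearAlgebra.FreeModule.Basic
import Mathlib.RingTheory.TensorProduct.Maps
import Mathlib.Topology.Algebra.MulAction

/-!
# Galois action on `A ⊗[k] K` (helper13)

For a (possibly infinite) Galois extension `K/k` and a `k`-algebra `A`, the group `Gal(K/k)` acts
on `A ⊗[k] K` through the second factor, with ring of invariants `A`, and acts transitively on the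
primes of `A ⊗[k] K` lying over a given prime of `A` (`exists_comap_tmap_eq`).
-/

set_option autoImplicit false
universe u

open TensorProduct

namespace Groth.Agent.Lib.GalAct13Alg

variable {k : Type u} [Field k] (A : Type u) [CommRing A] [Algebra k A]
  (K : Type u) [Field K] [Algebra k K]

/-- The automorphism `id ⊗ σ` of `A ⊗[k] K`. -/
noncomputable def tmap (σ : K ≃ₐ[k] K) : A ⊗[k] K ≃ₐ[A] A ⊗[k] K :=
  Algebra.TensorProduct.congr AlgEquiv.refl σ

@[simp]
theorem tmap_tmul (σ : K ≃ₐ[k] K) (a : A) (c : K) : tmap A K σ (a ⊗ₜ c) = a ⊗ₜ σ c := by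
  simp [tmap]

theorem tmap_one (b : A ⊗[k] K) : tmap A K 1 b = b := by
  induction b using TensorProduct.induction_on with
  | zero => simp
  | tmul a c => simp
  | add x y hx hy => rw [map_add, hx, hy]

theorem tmap_mul (σ τ : K ≃ₐ[k] K) (b : A ⊗[k] K) :
    tmap A K (σ * τ) b = tmap A K σ (tmap A K τ b) := by
  induction b using TensorProduct.induction_on with
  | zero => simp
  | tmul a c => simp
  | add x y hx hy => rw [map_add, hx, hy, map_add, map_add]

/-- The action of `Gal(K/k)` on `A ⊗[k] K`. -/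
@[instance_reducible]
noncomputable def mulSemiringAction : MulSemiringAction (K ≃ₐ[k] K) (A ⊗[k] K) where
  smul σ b := tmap A K σ b
  one_smul b := tmap_one A K b
  mul_smul σ τ b := tmap_mul A K σ τ b
  smul_zero σ := map_zero (tmap A K σ)
  smul_add σ := map_add (tmap A K σ)
  smul_one σ := map_one (tmap A K σ)
  smul_mul σ := map_mul (tmap A K σ)

attribute [local instance] mulSemiringAction

theorem smul_def (σ : K ≃ₐ[k] K) (b : A ⊗[k] K) : σ • b = tmap A K σ b := rfl

theorem smulCommClass : SMulCommClass (K ≃ₐ[k] K) A (A ⊗[k] K) :=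
  ⟨fun σ a b => by
    rw [smul_def, smul_def, map_smul]⟩

/-- Stabilizers are open. -/
theorem isOpen_stabilizer [Algebra.IsIntegral k K] (b : A ⊗[k] K) :
    IsOpen (MulAction.stabilizer (K ≃ₐ[k] K) b : Set (K ≃ₐ[k] K)) := by
  induction b using TensorProduct.induction_on with
  | zero =>
    have : MulAction.stabilizer (K ≃ₐ[k] K) (0 : A ⊗[k] K) = ⊤ := by
      ext σ; simp
    rw [this]; exact isOpen_univ
  | tmul a c =>
    refine Subgroup.isOpen_mono (H₁ := MulAction.stabilizer (K ≃ₐ[k] K) c) ?_
      (stabilizer_isOpen_of_isIntegral c)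
    intro σ hσ
    rw [MulAction.mem_stabilizer_iff] at hσ ⊢
    rw [smul_def, tmap_tmul]
    congr 1
  | add x y hx hy =>
    refine Subgroup.isOpen_mono
      (H₁ := MulAction.stabilizer (K ≃ₐ[k] K) x ⊓ MulAction.stabilizer (K ≃ₐ[k] K) y) ?_ ?_
    · intro σ hσ
      rw [Subgroup.mem_inf, MulAction.mem_stabilizer_iff, MulAction.mem_stabilizer_iff] at hσ
      rw [MulAction.mem_stabilizer_iff, smul_add, hσ.1, hσ.2]
    · exact hx.inter hy

section Invariant

variable {ι : Type u} [DecidableEq ι] (e : Module.Basis ι k A)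

/-- Coordinates of `A ⊗[k] K` with respect to a `k`-basis of `A`. -/
noncomputable def coord : A ⊗[k] K ≃ₗ[k] (ι →₀ K) :=
  (TensorProduct.congr e.repr (LinearEquiv.refl k K)) ≪≫ₗ TensorProduct.finsuppScalarLeft k K ι

theorem coord_tmul (a : A) (c : K) (i : ι) : coord A K e (a ⊗ₜ c) i = e.repr a i • c := by
  simp [coord]

theorem coord_tmap (σ : K ≃ₐ[k] K) (b : A ⊗[k] K) (i : ι) :
    coord A K e (tmap A K σ b) i = σ (coord A K e b i) := by
  induction b using TensorProduct.induction_on with
  | zero => simp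
  | tmul a c => rw [tmap_tmul, coord_tmul, coord_tmul, map_smul]
  | add x y hx hy => simp only [map_add, Finsupp.add_apply, hx, hy]

end Invariant

/-- The invariants of `Gal(K/k)` on `A ⊗[k] K` are `A`. -/
theorem isInvariant [IsGalois k K] : Algebra.IsInvariant A (A ⊗[k] K) (K ≃ₐ[k] K) := by
  classical
  refine ⟨fun b hb => ?_⟩
  let e := Module.Free.chooseBasis k A
  have hfix : ∀ i, coord A K e b i ∈ Set.range (algebraMap k K) := by
    intro i
    rw [InfiniteGalois.mem_range_algebraMap_iff_fixed]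
    intro σ
    rw [← coord_tmap, ← smul_def, hb σ]
  choose d hd using hfix
  let dsupp : (Module.Free.ChooseBasisIndex k A) →₀ k :=
    Finsupp.onFinset (coord A K e b).support d (by
      intro i hi
      rw [Finsupp.mem_support_iff]
      intro h0
      apply hi
      have := hd i
      rw [h0] at this
      exact (FaithfulSMul.algebraMap_injective k K) (by rw [this, map_zero]))
  refine ⟨e.repr.symm dsupp, ?_⟩
  apply (coord A K e).injective
  ext i
  rw [Algebra.TensorProduct.algebraMap_apply, Algebra.algebraMap_self, RingHom.id_apply,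
    coord_tmul, LinearEquiv.apply_symm_apply, Finsupp.onFinset_apply, Algebra.smul_def, mul_one,
    hd]

/-- `Gal(K/k)` acts transitively on the primes of `A ⊗[k] K` over a given prime of `A`. -/
theorem exists_comap_tmap_eq [IsGalois k K] (P P' : Ideal (A ⊗[k] K)) [P.IsPrime] [P'.IsPrime]
    (h : P.comap (algebraMap A (A ⊗[k] K)) = P'.comap (algebraMap A (A ⊗[k] K))) :
    ∃ σ : K ≃ₐ[k] K, P' = P.comap (tmap A K σ : A ⊗[k] K →+* A ⊗[k] K) := by
  let _ : TopologicalSpace (A ⊗[k] K) := ⊥
  have : DiscreteTopology (A ⊗[k] K) := ⟨rfl⟩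
  have := smulCommClass (k := k) A K
  have := isInvariant (k := k) A K
  have : ContinuousSMul (K ≃ₐ[k] K) (A ⊗[k] K) :=
    continuousSMul_iff_stabilizer_isOpen.mpr (isOpen_stabilizer (k := k) A K)
  obtain ⟨g, hg⟩ := Algebra.IsInvariant.exists_smul_of_under_eq_of_profinite
    (A := A) (B := A ⊗[k] K) (G := K ≃ₐ[k] K) P P' h
  refine ⟨g⁻¹, ?_⟩
  rw [hg, Ideal.pointwise_smul_eq_comap]
  ext x
  simp only [Ideal.mem_comap]
  rfl

end Groth.Agent.Lib.GalAct13Alg
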