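import Groth.Agent.Lib.GalAct13Alg
import Mathlib.Topology.Algebra.OpenSubgroup
import Mathlib.RingTheory.Noetherian.Basic

/-!
# Galois action on `A ⊗[k] K`: open stabilizers and finiteness of fibres (helper13)
-/

set_option autoImplicit false
universe u

open TensorProduct

namespace Groth.Agent.Lib.GalAct13Alg

variable {k : Type u} [Field k] (A : Type u) [CommRing A] [Algebra k A]
  (K : Type u) [Field K] [Algebra k K]

attribute [local instance] mulSemiringAction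

/-- A finitely generated ideal of `A ⊗[k] K` is fixed by an open subgroup of `Gal(K/k)`. -/
theorem exists_open_subgroup_fixing [Algebra.IsIntegral k K] (I : Ideal (A ⊗[k] K)) (hI : I.FG) :
    ∃ H : Subgroup (K ≃ₐ[k] K), IsOpen (H : Set (K ≃ₐ[k] K)) ∧
      ∀ σ ∈ H, I.comap (tmap A K σ : A ⊗[k] K →+* A ⊗[k] K) = I := by
  classical
  obtain ⟨s, rfl⟩ := hI
  -- the open subgroup fixing all generators
  have hH : ∃ H : Subgroup (K ≃ₐ[k] K), IsOpen (H : Set (K ≃ₐ[k] K)) ∧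
      ∀ σ ∈ H, ∀ b ∈ s, tmap A K σ b = b := by
    induction s using Finset.induction_on with
    | empty => exact ⟨⊤, isOpen_univ, fun _ _ b hb => absurd hb (Finset.notMem_empty b)⟩
    | insert a s _ ih =>
      obtain ⟨H, hHo, hH⟩ := ih
      refine ⟨H ⊓ MulAction.stabilizer (K ≃ₐ[k] K) a,
        hHo.inter (isOpen_stabilizer (k := k) A K a), fun σ hσ b hb => ?_⟩
      rw [Subgroup.mem_inf] at hσ
      rcases Finset.mem_insert.mp hb with rfl | hb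
      · exact MulAction.mem_stabilizer_iff.mp hσ.2
      · exact hH σ hσ.1 b hb
  obtain ⟨H, hHo, hH⟩ := hH
  refine ⟨H, hHo, fun σ hσ => ?_⟩
  have hle : ∀ τ ∈ H, Ideal.span (s : Set (A ⊗[k] K)) ≤
      (Ideal.span (s : Set (A ⊗[k] K))).comap (tmap A K τ : A ⊗[k] K →+* A ⊗[k] K) := by
    intro τ hτ
    rw [Ideal.span_le]
    intro b hb
    rw [SetLike.mem_coe, Ideal.mem_comap]
    change tmap A K τ b ∈ _
    rw [hH τ hτ b hb]
    exact Ideal.subset_span hb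
  refine le_antisymm ?_ (hle σ hσ)
  intro x hx
  rw [Ideal.mem_comap] at hx
  have := hle σ⁻¹ (H.inv_mem hσ) hx
  rw [Ideal.mem_comap] at this
  have h2 : tmap A K σ⁻¹ (tmap A K σ x) = x := by
    rw [← tmap_mul, inv_mul_cancel, tmap_one]
  change tmap A K σ⁻¹ (tmap A K σ x) ∈ _ at this
  rwa [h2] at this

/-- If `A ⊗[k] K` is Noetherian and `K/k` is Galois, only finitely many primes of `A ⊗[k] K` lie
over a given prime of `A`. -/
theorem finite_primes_over [IsGalois k K] [IsNoetherianRing (A ⊗[k] K)] (p : Ideal A) :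
    {P : Ideal (A ⊗[k] K) | P.IsPrime ∧ P.comap (algebraMap A (A ⊗[k] K)) = p}.Finite := by
  by_cases hne : ∃ P₀ : Ideal (A ⊗[k] K), P₀.IsPrime ∧ P₀.comap (algebraMap A (A ⊗[k] K)) = p
  swap
  · convert Set.finite_empty
    ext P
    simp only [Set.mem_ofPred_eq, Set.mem_empty_iff_false, iff_false]
    exact fun h => hne ⟨P, h⟩
  obtain ⟨P₀, hP₀, hP₀p⟩ := hne
  obtain ⟨H, hHo, hH⟩ := exists_open_subgroup_fixing (k := k) A K P₀
    (IsNoetherian.noetherian P₀)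
  have hfin : Finite ((K ≃ₐ[k] K) ⧸ H) := H.quotient_finite_of_isOpen hHo
  let ψ : (K ≃ₐ[k] K) → Ideal (A ⊗[k] K) := fun σ =>
    P₀.comap (tmap A K σ⁻¹ : A ⊗[k] K →+* A ⊗[k] K)
  have hψ : ∀ (σ : K ≃ₐ[k] K) (h : K ≃ₐ[k] K), h ∈ H → ψ (σ * h) = ψ σ := by
    intro σ h hh
    change P₀.comap (tmap A K (σ * h)⁻¹ : A ⊗[k] K →+* A ⊗[k] K) =
      P₀.comap (tmap A K σ⁻¹ : A ⊗[k] K →+* A ⊗[k] K)
    have h1 : (tmap A K (σ * h)⁻¹ : A ⊗[k] K →+* A ⊗[k] K) =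
        (tmap A K h⁻¹ : A ⊗[k] K →+* A ⊗[k] K).comp (tmap A K σ⁻¹ : A ⊗[k] K →+* A ⊗[k] K) := by
      refine RingHom.ext fun x => ?_
      change tmap A K (σ * h)⁻¹ x = tmap A K h⁻¹ (tmap A K σ⁻¹ x)
      rw [mul_inv_rev, tmap_mul]
    rw [h1, ← Ideal.comap_comap, hH h⁻¹ (H.inv_mem hh)]
  refine (Set.finite_range (fun q : (K ≃ₐ[k] K) ⧸ H => ψ q.out)).subset ?_
  rintro P ⟨hP, hPp⟩
  obtain ⟨σ, hσ⟩ := exists_comap_tmap_eq A K P₀ P (hP₀p.trans hPp.symm)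
  obtain ⟨h, hh⟩ := QuotientGroup.mk_out_eq_mul H σ⁻¹
  refine ⟨QuotientGroup.mk σ⁻¹, ?_⟩
  change ψ (QuotientGroup.mk σ⁻¹ : (K ≃ₐ[k] K) ⧸ H).out = P
  rw [hh, hψ _ _ h.2, hσ]
  change P₀.comap (tmap A K σ⁻¹⁻¹ : A ⊗[k] K →+* A ⊗[k] K) = _
  rw [inv_inv]

end Groth.Agent.Lib.GalAct13Alg
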