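import Groth.Agent.Lib.GalAct13
import Groth.Prelude.Def_Curv2

/-!
# Galois action on `X_K`: group laws, invariant sets (helper13)
-/

set_option autoImplicit false
universe u

open CategoryTheory CategoryTheory.Limits AlgebraicGeometry TensorProduct

namespace Groth.Agent.Lib.GalAct13

open Groth.Agent.Lib.FieldBC13

variable {k : Type u} [Field k] (K : Type u) [Field K] [Algebra k K]

section

variable {X : Scheme.{u}} (f : X ⟶ Spec (CommRingCat.of k))

theorem act_one : act K f 1 = 𝟙 _ := by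
  apply pullback.hom_ext
  · rw [act_fst, Category.id_comp]
  · rw [act_snd, Category.id_comp]
    have : CommRingCat.ofHom ((1 : K ≃ₐ[k] K) : K →ₐ[k] K).toRingHom = 𝟙 (CommRingCat.of K) := rfl
    rw [this, Spec.map_id, Category.comp_id]

theorem act_mul (σ τ : K ≃ₐ[k] K) : act K f (σ * τ) = act K f σ ≫ act K f τ := by
  apply pullback.hom_ext
  · rw [act_fst, Category.assoc, act_fst, act_fst]
  · rw [act_snd, Category.assoc, act_snd, act_snd_assoc, ← Spec.map_comp]
    rfl

theorem act_inv_comp (σ : K ≃ₐ[k] K) : act K f σ⁻¹ ≫ act K f σ = 𝟙 _ := by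
  rw [← act_mul, inv_mul_cancel, act_one]

theorem act_comp_inv (σ : K ≃ₐ[k] K) : act K f σ ≫ act K f σ⁻¹ = 𝟙 _ := by
  rw [← act_mul, mul_inv_cancel, act_one]

instance (σ : K ≃ₐ[k] K) : IsIso (act K f σ) :=
  ⟨act K f σ⁻¹, act_comp_inv K f σ, act_inv_comp K f σ⟩

theorem act_inv_act_apply (σ : K ≃ₐ[k] K)
    (z : ↥(pullback f (Spec.map (CommRingCat.ofHom (algebraMap k K))))) :
    act K f σ (act K f σ⁻¹ z) = z := by
  rw [← Scheme.Hom.comp_apply, act_inv_comp]; rfl

theorem act_act_inv_apply (σ : K ≃ₐ[k] K)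
    (z : ↥(pullback f (Spec.map (CommRingCat.ofHom (algebraMap k K))))) :
    act K f σ⁻¹ (act K f σ z) = z := by
  rw [← Scheme.Hom.comp_apply, act_comp_inv]; rfl

/-- The action as a homeomorphism. -/
noncomputable def actHomeo (σ : K ≃ₐ[k] K) :
    ↥(pullback f (Spec.map (CommRingCat.ofHom (algebraMap k K)))) ≃ₜ
      ↥(pullback f (Spec.map (CommRingCat.ofHom (algebraMap k K)))) :=
  (act K f σ).homeomorph

@[simp]
theorem actHomeo_apply (σ : K ≃ₐ[k] K)
    (z : ↥(pullback f (Spec.map (CommRingCat.ofHom (algebraMap k K))))) :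
    actHomeo K f σ z = act K f σ z := rfl

/-- The image of a set under the projection is unchanged by the action. -/
theorem image_fst_image_act (σ : K ≃ₐ[k] K)
    (S : Set ↥(pullback f (Spec.map (CommRingCat.ofHom (algebraMap k K))))) :
    pullback.fst f _ '' (act K f σ '' S) = pullback.fst f _ '' S := by
  rw [← Set.image_comp]
  congr 1
  ext z
  exact act_fst_apply K f σ z

/-- A subset of `X_K` stable under the Galois group is saturated for `X_K ⟶ X`. -/
theorem preimage_image_eq_of_invariant [IsGalois k K]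
    (S : Set ↥(pullback f (Spec.map (CommRingCat.ofHom (algebraMap k K)))))
    (hS : ∀ σ : K ≃ₐ[k] K, act K f σ '' S ⊆ S) :
    pullback.fst f _ ⁻¹' (pullback.fst f _ '' S) = S := by
  refine subset_antisymm ?_ (Set.subset_preimage_image _ _)
  rintro z ⟨z', hz', h⟩
  obtain ⟨σ, hσ⟩ := exists_act_eq K f z' z h
  exact hS σ ⟨z', hz', hσ⟩

end

/-- The prelude's Galois action is `act`. -/
theorem galAct_eq_act (X : Scheme.{u}) [X.Over (Spec (CommRingCat.of k))] (σ : K ≃ₐ[k] K) :
    Curv2.galAct k X K σ = act K (X ↘ Spec (CommRingCat.of k)) σ := rfl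

end Groth.Agent.Lib.GalAct13
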