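import Groth.Agent.Lib.GalAct13b
import Mathlib.Topology.Sober

/-!
# Galois action on irreducible closed subsets of `X_K` (helper13)
-/

set_option autoImplicit false
universe u

open CategoryTheory CategoryTheory.Limits AlgebraicGeometry TensorProduct

namespace Groth.Agent.Lib.GalAct13

open Groth.Agent.Lib.FieldBC13

variable {k : Type u} [Field k] (K : Type u) [Field K] [Algebra k K]
variable {X : Scheme.{u}} (f : X ⟶ Spec (CommRingCat.of k))

/-- The image in `X` of the closure of a point of `X_K` (for `K/k` algebraic). -/
theorem image_closure_singleton [Algebra.IsAlgebraic k K]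
    (z : ↥(pullback f (Spec.map (CommRingCat.ofHom (algebraMap k K))))) :
    pullback.fst f _ '' closure {z} = closure {pullback.fst f _ z} := by
  rw [← (isClosedMap_fst K f).closure_image_eq_of_continuous (pullback.fst f _).continuous,
    Set.image_singleton]

/-- Two irreducible closed subsets of `X_K` with the same image in `X` are conjugate under the
Galois group. -/
theorem exists_act_image_eq_of_image_eq [IsGalois k K]
    (Z' Z'' : Set ↥(pullback f (Spec.map (CommRingCat.ofHom (algebraMap k K)))))
    (hZ'c : IsClosed Z') (hZ'i : IsIrreducible Z') (hZ''c : IsClosed Z'') (hZ''i : IsIrreducible Z'')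
    (h : pullback.fst f _ '' Z' = pullback.fst f _ '' Z'') :
    ∃ σ : K ≃ₐ[k] K, act K f σ '' Z' = Z'' := by
  obtain ⟨η', hη'⟩ := QuasiSober.sober hZ'i hZ'c
  obtain ⟨η'', hη''⟩ := QuasiSober.sober hZ''i hZ''c
  have h1 : closure {pullback.fst f _ η'} = closure {pullback.fst f _ η''} := by
    rw [← image_closure_singleton, ← image_closure_singleton, hη'.def, hη''.def, h]
  have h2 : pullback.fst f _ η' = pullback.fst f _ η'' :=
    (IsGenericPoint.eq (show IsGenericPoint (pullback.fst f _ η') _ from rfl)
      (show IsGenericPoint (pullback.fst f _ η'') _ from h1.symm))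
  obtain ⟨σ, hσ⟩ := exists_act_eq K f η' η'' h2
  refine ⟨σ, ?_⟩
  rw [← hη'.def, ← hη''.def]
  have := (actHomeo K f σ).image_closure {η'}
  rw [Set.image_singleton] at this
  change actHomeo K f σ '' closure {η'} = closure {η''}
  rw [this, actHomeo_apply, hσ]

end Groth.Agent.Lib.GalAct13
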