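import Groth.Agent.Lib.GalAct13c
import Groth.Agent.Lib.FieldBC13b

/-!
# Irreducible components of `X_K` and of `X` (helper13)
-/

set_option autoImplicit false
universe u

open CategoryTheory CategoryTheory.Limits AlgebraicGeometry TensorProduct

namespace Groth.Agent.Lib.GalAct13

open Groth.Agent.Lib.FieldBC13

variable {k : Type u} [Field k] (K : Type u) [Field K] [Algebra k K]
variable {X : Scheme.{u}} (f : X ⟶ Spec (CommRingCat.of k))

/-- Preimages of subsets of `X` are stable under the Galois action. -/
theorem image_act_preimage (σ : K ≃ₐ[k] K) (T : Set X) :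
    act K f σ '' (pullback.fst f _ ⁻¹' T) = pullback.fst f _ ⁻¹' T := by
  ext z
  constructor
  · rintro ⟨z', hz', rfl⟩
    rw [Set.mem_preimage, act_fst_apply]
    exact hz'
  · intro hz
    refine ⟨act K f σ⁻¹ z, ?_, act_inv_act_apply K f σ z⟩
    rw [Set.mem_preimage, act_fst_apply]
    exact hz

/-- For `K/k` algebraic, the image in `X` of an irreducible component of `X_K` is an irreducible
component of `X`. -/
theorem image_mem_irreducibleComponents [Algebra.IsAlgebraic k K]
    (Z : Set ↥(pullback f (Spec.map (CommRingCat.ofHom (algebraMap k K)))))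
    (hZ : Z ∈ irreducibleComponents ↥(pullback f (Spec.map (CommRingCat.ofHom (algebraMap k K))))) :
    pullback.fst f _ '' Z ∈ irreducibleComponents ↥X := by
  have hZc : IsClosed Z := isClosed_of_mem_irreducibleComponents _ hZ
  have hZi : IsIrreducible Z := hZ.1
  have hTc : IsClosed (pullback.fst f _ '' Z) := isClosedMap_fst K f _ hZc
  have hTi : IsIrreducible (pullback.fst f _ '' Z) :=
    hZi.image _ (pullback.fst f _).continuous.continuousOn
  refine ⟨hTi, fun T₁ hT₁ hle => ?_⟩
  obtain ⟨η, hη⟩ := QuasiSober.sober hZi hZc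
  obtain ⟨ξ, hξ⟩ := QuasiSober.sober hT₁.closure isClosed_closure
  have hηZ : η ∈ Z := hη.mem
  have h1 : ξ ⤳ pullback.fst f _ η := by
    rw [specializes_iff_mem_closure, hξ.def]
    exact subset_closure (hle ⟨η, hηZ, rfl⟩)
  obtain ⟨ζ, hζη, hζξ⟩ := generalizingMap_fst K f h1
  have h2 : closure {ζ} ≤ Z := by
    refine hZ.2 isIrreducible_singleton.closure ?_
    rw [← hη.def]
    exact specializes_iff_closure_subset.mp hζη
  have hζZ : ζ ∈ Z := h2 (subset_closure rfl)
  have hξT : ξ ∈ pullback.fst f _ '' Z := ⟨ζ, hζZ, hζξ⟩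
  calc T₁ ⊆ closure T₁ := subset_closure
    _ = closure {ξ} := hξ.def.symm
    _ ⊆ pullback.fst f _ '' Z := hTc.closure_subset_iff.mpr (Set.singleton_subset_iff.mpr hξT)

/-- For `K/k` algebraic and `T` an irreducible component of `X`, every point of `X_K` over `T`
lies on an irreducible component of `X_K` whose image is `T`. -/
theorem exists_irreducibleComponent_of_mem_preimage [Algebra.IsAlgebraic k K]
    (T : Set X) (hT : T ∈ irreducibleComponents ↥X)
    (z : ↥(pullback f (Spec.map (CommRingCat.ofHom (algebraMap k K)))))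
    (hz : pullback.fst f _ z ∈ T) :
    ∃ T' ∈ irreducibleComponents ↥(pullback f (Spec.map (CommRingCat.ofHom (algebraMap k K)))),
      z ∈ T' ∧ pullback.fst f _ '' T' = T := by
  have hTc : IsClosed T := isClosed_of_mem_irreducibleComponents _ hT
  obtain ⟨τ, hτ⟩ := QuasiSober.sober hT.1 hTc
  have h1 : τ ⤳ pullback.fst f _ z := by
    rw [specializes_iff_mem_closure, hτ.def]; exact hz
  obtain ⟨ζ, hζz, hζτ⟩ := generalizingMap_fst K f h1
  refine ⟨irreducibleComponent ζ, irreducibleComponent_mem_irreducibleComponents ζ, ?_, ?_⟩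
  · have hcl : IsClosed (irreducibleComponent ζ) := isClosed_irreducibleComponent
    exact hcl.closure_subset_iff.mpr (Set.singleton_subset_iff.mpr mem_irreducibleComponent)
      (specializes_iff_mem_closure.mp hζz)
  · have h2 := image_mem_irreducibleComponents K f _
      (irreducibleComponent_mem_irreducibleComponents ζ)
    have h3 : T ⊆ pullback.fst f _ '' irreducibleComponent ζ := by
      rw [← hτ.def]
      exact (isClosed_of_mem_irreducibleComponents _ h2).closure_subset_iff.mpr
        (Set.singleton_subset_iff.mpr ⟨ζ, mem_irreducibleComponent, hζτ⟩)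
    exact (subset_antisymm (hT.2 h2.1 h3) h3)

end Groth.Agent.Lib.GalAct13
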