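import Groth.Agent.Lib.GalAct13d

/-!
# Galois-stable connected components of `X_K` (helper13)
-/

set_option autoImplicit false
universe u

open CategoryTheory CategoryTheory.Limits AlgebraicGeometry TensorProduct

namespace Groth.Agent.Lib.GalAct13

open Groth.Agent.Lib.FieldBC13

variable {k : Type u} [Field k] (K : Type u) [Field K] [Algebra k K]
variable {X : Scheme.{u}} (f : X ⟶ Spec (CommRingCat.of k))

/-- If the connected component `C` of `t ∈ X_K` is stable under the Galois group (`K/k` Galois),
then `C` is the full preimage of the connected component of the image of `t` in `X`. -/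
theorem preimage_connectedComponent_eq [IsGalois k K]
    (t : ↥(pullback f (Spec.map (CommRingCat.ofHom (algebraMap k K)))))
    (hinv : ∀ σ : K ≃ₐ[k] K, act K f σ '' connectedComponent t ⊆ connectedComponent t) :
    pullback.fst f _ ⁻¹' connectedComponent (pullback.fst f _ t) = connectedComponent t := by
  set π := pullback.fst f (Spec.map (CommRingCat.ofHom (algebraMap k K))) with hπ
  set D := connectedComponent (π t) with hD
  have hDc : IsClosed D := isClosed_connectedComponent
  have hDp : _root_.IsPreconnected D := isPreconnected_connectedComponent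
  have hCS : connectedComponent t ⊆ π ⁻¹' D := by
    rw [← Set.image_subset_iff]
    exact (isPreconnected_connectedComponent.image _ π.continuous.continuousOn).subset_connectedComponent
      ⟨t, mem_connectedComponent, rfl⟩
  refine subset_antisymm ?_ hCS
  -- the fibre over `π t` lies in `C`
  have hfib : ∀ b, π b = π t → b ∈ connectedComponent t := by
    intro b hb
    obtain ⟨σ, hσ⟩ := exists_act_eq K f t b hb.symm
    exact hinv σ ⟨t, mem_connectedComponent, hσ⟩
  -- key: no separation of `S = π⁻¹ D` by closed sets `A ∋ t` and `B`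
  have key : ∀ A B : Set ↥(pullback f (Spec.map (CommRingCat.ofHom (algebraMap k K)))),
      IsClosed A → IsClosed B → π ⁻¹' D ⊆ A ∪ B → t ∈ A → (π ⁻¹' D ∩ B).Nonempty →
      (π ⁻¹' D ∩ (A ∩ B)).Nonempty := by
    intro A B hA hB hcov htA hSB
    by_contra hempty
    rw [Set.not_nonempty_iff_eq_empty] at hempty
    -- `C ∩ B = ∅`
    have hCB : connectedComponent t ∩ B = ∅ := by
      by_contra hne
      have := isPreconnected_closed_iff.mp (isPreconnected_connectedComponent (x := t)) A B hA hB
        (hCS.trans hcov) ⟨t, mem_connectedComponent, htA⟩ (Set.nonempty_iff_ne_empty.mpr hne)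
      obtain ⟨c, hc, hcAB⟩ := this
      have : c ∈ π ⁻¹' D ∩ (A ∩ B) := ⟨hCS hc, hcAB⟩
      rw [hempty] at this
      exact this
    -- `Q = π (S ∩ B)` is closed and relatively open in `D`
    have hQc : IsClosed (π '' (π ⁻¹' D ∩ B)) :=
      isClosedMap_fst K f _ ((hDc.preimage π.continuous).inter hB)
    have hVo : IsOpen (π '' Aᶜ) := isOpenMap_fst K f _ hA.isOpen_compl
    have hQV : π '' (π ⁻¹' D ∩ B) = π '' Aᶜ ∩ D := by
      ext y
      constructor
      · rintro ⟨b, ⟨hbD, hbB⟩, rfl⟩
        refine ⟨⟨b, fun hbA => ?_, rfl⟩, hbD⟩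
        have : b ∈ π ⁻¹' D ∩ (A ∩ B) := ⟨hbD, hbA, hbB⟩
        rw [hempty] at this
        exact this
      · rintro ⟨⟨b, hbA, rfl⟩, hbD⟩
        exact ⟨b, ⟨hbD, (hcov hbD).resolve_left hbA⟩, rfl⟩
    have hDQ : D ⊆ π '' (π ⁻¹' D ∩ B) := by
      by_contra hnot
      obtain ⟨y, hyD, hyQ⟩ := Set.not_subset.mp hnot
      obtain ⟨b, hb⟩ := hSB
      have := hDp (π '' (π ⁻¹' D ∩ B))ᶜ (π '' Aᶜ) hQc.isOpen_compl hVo
        (fun z hz => by
          by_cases hzQ : z ∈ π '' (π ⁻¹' D ∩ B)
          · right; rw [hQV] at hzQ; exact hzQ.1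
          · left; exact hzQ)
        ⟨y, hyD, hyQ⟩
        ⟨π b, hb.1, by
          have : π b ∈ π '' (π ⁻¹' D ∩ B) := ⟨b, hb, rfl⟩
          rw [hQV] at this; exact this.1⟩
      obtain ⟨z, hzD, hzU, hzV⟩ := this
      exact hzU (hQV ▸ ⟨hzV, hzD⟩)
    obtain ⟨b, ⟨-, hbB⟩, hb⟩ := hDQ (mem_connectedComponent (x := π t))
    have hbC := hfib b hb
    have : b ∈ connectedComponent t ∩ B := ⟨hbC, hbB⟩
    rw [hCB] at this
    exact this
  -- `S` is preconnected
  have hSp : _root_.IsPreconnected (π ⁻¹' D) := by
    rw [isPreconnected_closed_iff]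
    intro A B hA hB hcov hSA hSB
    have htS : t ∈ π ⁻¹' D := mem_connectedComponent
    rcases hcov htS with htA | htB
    · exact key A B hA hB hcov htA hSB
    · have := key B A hB hA (by rwa [Set.union_comm]) htB hSA
      rwa [Set.inter_comm B A] at this
  exact hSp.subset_connectedComponent mem_connectedComponent

end Groth.Agent.Lib.GalAct13
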