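import Groth.Agent.Lib.GalAct13d
import Groth.Agent.Lib.GalAct13Alg2
import Mathlib.AlgebraicGeometry.Morphisms.FiniteType
import Mathlib.RingTheory.FiniteStability

/-!
# Finiteness of the fibres of `X_K ⟶ X` for `X` locally of finite type and `K/k` Galois (helper13)
-/

set_option autoImplicit false
universe u

open CategoryTheory CategoryTheory.Limits AlgebraicGeometry TensorProduct

namespace Groth.Agent.Lib.GalAct13

open Groth.Agent.Lib.FieldBC13 Groth.Agent.Lib.GalAct13Alg

variable {k : Type u} [Field k] (K : Type u) [Field K] [Algebra k K]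

/-- Finite fibres over `y`. -/
def FinFib {X : Scheme.{u}} (f : X ⟶ Spec (CommRingCat.of k)) (x : X) : Prop :=
  {z : ↥(pullback f (Spec.map (CommRingCat.ofHom (algebraMap k K)))) |
    pullback.fst f _ z = x}.Finite

theorem finFib_affine [IsGalois k K] (A : Type u) [CommRing A] [Algebra k A]
    [IsNoetherianRing (A ⊗[k] K)] (y : ↥(Spec (CommRingCat.of A))) :
    FinFib K (Spec.map (CommRingCat.ofHom (algebraMap k A))) y := by
  let e := pullbackSpecIso k A K
  have hfst : ∀ z : ↥(pullback (Spec.map (CommRingCat.ofHom (algebraMap k A)))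
      (Spec.map (CommRingCat.ofHom (algebraMap k K)))),
      pullback.fst (Spec.map (CommRingCat.ofHom (algebraMap k A)))
        (Spec.map (CommRingCat.ofHom (algebraMap k K))) z =
        Spec.map (CommRingCat.ofHom (algebraMap A (A ⊗[k] K))) (e.hom z) := by
    intro z
    rw [← Scheme.Hom.comp_apply]
    exact congrArg (fun q => q.base z) (pullbackSpecIso_hom_fst' k A K).symm
  have hfin := finite_primes_over (k := k) A K (y : PrimeSpectrum A).asIdeal
  refine Set.Finite.of_finite_image (f := fun z => (e.hom z : PrimeSpectrum (A ⊗[k] K)).asIdeal)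
    (hfin.subset ?_) ?_
  · rintro _ ⟨z, hz, rfl⟩
    refine ⟨(e.hom z : PrimeSpectrum (A ⊗[k] K)).isPrime, ?_⟩
    have := hfst z
    rw [hz] at this
    exact (congrArg PrimeSpectrum.asIdeal this).symm
  · intro z _ z' _ h
    have h1 : e.hom z = e.hom z' := PrimeSpectrum.ext h
    have h2 := congrArg e.inv h1
    rwa [← Scheme.Hom.comp_apply, ← Scheme.Hom.comp_apply, e.hom_inv_id] at h2

theorem finFib_of_local {X Y : Scheme.{u}} (f : X ⟶ Spec (CommRingCat.of k)) (j : Y ⟶ X) (y : Y)
    (h : FinFib K (j ≫ f) y) : FinFib K f (j y) := by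
  have hpb := isPullback_mapK K f (j ≫ f) j rfl
  refine (h.image (mapK K f (j ≫ f) j rfl)).subset ?_
  intro z hz
  obtain ⟨w, hw1, hw2⟩ := Scheme.exists_preimage_of_isPullback hpb z y hz
  exact ⟨w, hw2, hw1⟩

/-- For `X` locally of finite type over `k` and `K/k` Galois, the fibres of `X_K ⟶ X` are
finite. -/
theorem finite_fiber [IsGalois k K] {X : Scheme.{u}} (f : X ⟶ Spec (CommRingCat.of k))
    [LocallyOfFiniteType f] (x : X) :
    {z : ↥(pullback f (Spec.map (CommRingCat.ofHom (algebraMap k K)))) |
      pullback.fst f _ z = x}.Finite := by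
  obtain ⟨U, hU, hxU, -⟩ := TopologicalSpace.Opens.isBasis_iff_nbhd.1 X.isBasis_affineOpens
    (TopologicalSpace.Opens.mem_top x)
  have hx : x ∈ Set.range hU.fromSpec := by
    rw [hU.range_fromSpec]; exact hxU
  obtain ⟨y, rfl⟩ := hx
  obtain ⟨φ, hφ⟩ := Spec.map_surjective (hU.fromSpec ≫ f)
  let _ : Algebra k Γ(X, U) := φ.hom.toAlgebra
  have hlft : LocallyOfFiniteType (Spec.map φ) := by rw [hφ]; infer_instance
  have hft : Algebra.FiniteType k Γ(X, U) :=
    (HasRingHomProperty.Spec_iff (P := @LocallyOfFiniteType)).mp hlft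
  have h1 : Algebra.FiniteType K (K ⊗[k] Γ(X, U)) := inferInstance
  have h2 : IsNoetherianRing (K ⊗[k] Γ(X, U)) := Algebra.FiniteType.isNoetherianRing K _
  have h3 : IsNoetherianRing (Γ(X, U) ⊗[k] K) :=
    isNoetherianRing_of_ringEquiv _ (Algebra.TensorProduct.comm k K Γ(X, U)).toRingEquiv
  refine finFib_of_local K f hU.fromSpec y ?_
  have : hU.fromSpec ≫ f = Spec.map (CommRingCat.ofHom (algebraMap k Γ(X, U))) := hφ.symm
  rw [this]
  exact finFib_affine K Γ(X, U) y

/-- For `X` locally of finite type over `k`, `K/k` Galois and `T` an irreducible component of `X`,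
only finitely many irreducible components of `X_K` map into `T`. -/
theorem finite_irreducibleComponents_over [IsGalois k K] {X : Scheme.{u}}
    (f : X ⟶ Spec (CommRingCat.of k)) [LocallyOfFiniteType f]
    (T : Set X) (hT : T ∈ irreducibleComponents ↥X) :
    {T' : Set ↥(pullback f (Spec.map (CommRingCat.ofHom (algebraMap k K)))) |
      T' ∈ irreducibleComponents ↥(pullback f (Spec.map (CommRingCat.ofHom (algebraMap k K)))) ∧
        pullback.fst f _ '' T' ⊆ T}.Finite := by
  have hTc : IsClosed T := isClosed_of_mem_irreducibleComponents _ hT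
  obtain ⟨τ, hτ⟩ := QuasiSober.sober hT.1 hTc
  have hfin := finite_fiber K f τ
  -- each such component is the closure of a point of the fibre over `τ`
  refine (hfin.image (fun z => closure {z})).subset ?_
  rintro T' ⟨hT', hsub⟩
  have hT'c : IsClosed T' := isClosed_of_mem_irreducibleComponents _ hT'
  obtain ⟨η, hη⟩ := QuasiSober.sober hT'.1 hT'c
  refine ⟨η, ?_, hη.def⟩
  have h1 := image_mem_irreducibleComponents K f T' hT'
  have h2 : pullback.fst f _ '' T' = T := subset_antisymm hsub (h1.2 hT.1 hsub)
  have h3 : closure {pullback.fst f _ η} = closure {τ} := by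
    rw [← image_closure_singleton, hη.def, h2, hτ.def]
  exact IsGenericPoint.eq (show IsGenericPoint (pullback.fst f _ η) _ from rfl)
    (show IsGenericPoint τ _ from h3.symm)

end Groth.Agent.Lib.GalAct13
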