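import Groth.Agent.Lib.GeomConn91b
import Groth.Agent.Lib.GalAct13
import Groth.Agent.Lib.GalAct13b
import Groth.Agent.Lib.FieldBC13

/-!
# Galois action on the points of `X_K` for an algebraic space `X` over a field (helper91)
-/

set_option autoImplicit false
set_option maxHeartbeats 400000
universe u

open CategoryTheory CategoryTheory.Limits AlgebraicGeometry Opposite

namespace Groth.Agent.Lib.GalAlgSp91a

open AlgSp Groth.Agent.Lib.GeomRedBC91d Groth.Agent.Lib.GeomConn91b Groth.Agent.Lib.GalAct13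

variable {k : Type u} [Field k] (K : Type u) [Field K] [Algebra k K]

/-- `Spec σ : Spec K ⟶ Spec K` over `Spec k`. -/
noncomputable def gσ (σ : K ≃ₐ[k] K) : fobj (k := k) K ⟶ fobj K :=
  Over.homMk (Spec.map (CommRingCat.ofHom (σ : K →ₐ[k] K).toRingHom)) (by
    change Spec.map _ ≫ Spec.map _ = Spec.map _
    rw [← Spec.map_comp, ← CommRingCat.ofHom_comp, AlgHom.toRingHom_eq_coe,
      AlgHom.comp_algebraMap])

theorem eq_gσ (σ : K ≃ₐ[k] K) (g : fobj (k := k) K ⟶ fobj K)
    (hg : g.left = Spec.map (CommRingCat.ofHom (σ : K ≃ₐ[k] K).toRingHom)) : g = gσ K σ := by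
  apply Over.OverMorphism.ext
  rw [hg]
  rfl

theorem prodIso_act (U : Over (Spec (CommRingCat.of k))) (σ : K ≃ₐ[k] K) :
    (prod.map (𝟙 U) (gσ K σ)).left ≫ (Over.prodLeftIsoPullback U (fobj K)).hom =
      (Over.prodLeftIsoPullback U (fobj K)).hom ≫ act K U.hom σ := by
  have h1 : act K U.hom σ ≫ pullback.fst U.hom (fobj (k := k) K).hom =
      pullback.fst U.hom (fobj K).hom := act_fst K U.hom σ
  have h2 : act K U.hom σ ≫ pullback.snd U.hom (fobj (k := k) K).hom =
      pullback.snd U.hom (fobj K).hom ≫ (gσ K σ).left := act_snd K U.hom σ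
  apply pullback.hom_ext
  · rw [Category.assoc, Over.prodLeftIsoPullback_hom_fst, Category.assoc, h1,
      Over.prodLeftIsoPullback_hom_fst, ← Over.comp_left, prod.map_fst, Category.comp_id]
  · rw [Category.assoc, Over.prodLeftIsoPullback_hom_snd, Category.assoc, h2,
      Over.prodLeftIsoPullback_hom_snd_assoc, ← Over.comp_left, prod.map_snd, Over.comp_left]

/-- The chart `U_K ⟶ X_K` is equivariant. -/
theorem ofPt_prodChart_map {X : Sp (Spec (CommRingCat.of k))} {U : Over (Spec (CommRingCat.of k))}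
    (a : (yon (Spec (CommRingCat.of k))).obj U ⟶ X) {K' L' : Over (Spec (CommRingCat.of k))}
    (φ : K' ⟶ L') (u : ↥(U ⨯ K').left) :
    Points.map (prod.map (𝟙 X) ((yon (Spec (CommRingCat.of k))).map φ))
      (Points.ofPt (prodChart a K') u) =
      Points.ofPt (prodChart a L') ((prod.map (𝟙 U) φ).left u) := by
  rw [Points.map_ofPt, (isPullback_prodChart_map a φ).w,
    Groth.Agent.Lib.AlgSpPoints.ofPt_yon_map_comp]

/-- **Transitivity**: two points of `X_K` over the same point of `X` are conjugate under the Galois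
group. -/
theorem exists_gal_map_eq [IsGalois k K] {X : Sp (Spec (CommRingCat.of k))} (hX : IsAlgSpace X)
    (xb tb : Points (X ⨯ (yon (Spec (CommRingCat.of k))).obj (fobj K)))
    (h : Points.map (prod.fst : X ⨯ (yon (Spec (CommRingCat.of k))).obj (fobj K) ⟶ X) xb =
      Points.map (prod.fst : X ⨯ (yon (Spec (CommRingCat.of k))).obj (fobj K) ⟶ X) tb) :
    ∃ σ : K ≃ₐ[k] K,
      Points.map (prod.map (𝟙 X) ((yon (Spec (CommRingCat.of k))).map (gσ K σ))) tb = xb := by
  obtain ⟨U, a, hae, has⟩ := hX.atlas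
  obtain ⟨u, hu⟩ := Groth.Agent.Lib.AlgSpQC.surjective_ofPt_of_repWith_surjective has
    (Points.map (prod.fst : X ⨯ (yon (Spec (CommRingCat.of k))).obj (fobj K) ⟶ X) xb)
  obtain ⟨u', hu'1, hu'2⟩ := exists_point_prodChart a (fobj K) u xb hu.symm
  obtain ⟨v', hv'1, hv'2⟩ := exists_point_prodChart a (fobj K) u tb (h ▸ hu.symm)
  let e := Over.prodLeftIsoPullback U (fobj K)
  have hfst : ∀ w : ↥(U ⨯ fobj K).left,
      pullback.fst U.hom (Spec.map (CommRingCat.ofHom (algebraMap k K))) (e.hom w) =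
      (prod.fst : U ⨯ fobj K ⟶ U).left w := by
    intro w
    rw [← Scheme.Hom.comp_apply]
    exact congrArg (fun m : (U ⨯ fobj K).left ⟶ U.left => m w)
      (Over.prodLeftIsoPullback_hom_fst U (fobj K))
  obtain ⟨σ, hσ⟩ := exists_act_eq K U.hom (e.hom v') (e.hom u')
    (by rw [hfst, hfst, hu'2, hv'2])
  refine ⟨σ, ?_⟩
  rw [← hv'1, ← hu'1, ofPt_prodChart_map]
  congr 1
  have hact : e.hom ((prod.map (𝟙 U) (gσ K σ)).left v') = act K U.hom σ (e.hom v') := by
    rw [← Scheme.Hom.comp_apply, ← Scheme.Hom.comp_apply]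
    exact congrArg (fun m : (U ⨯ fobj K).left ⟶ _ => m v') (prodIso_act K U σ)
  have hinj : Function.Injective e.hom := (Scheme.homeoOfIso e).injective
  apply hinj
  rw [hact, hσ]

theorem prodFst_left_eq (U : Over (Spec (CommRingCat.of k))) :
    (prod.fst : U ⨯ fobj (k := k) K ⟶ U).left =
      (Over.prodLeftIsoPullback U (fobj K)).hom ≫
        pullback.fst U.hom (Spec.map (CommRingCat.ofHom (algebraMap k K))) :=
  (Over.prodLeftIsoPullback_hom_fst U (fobj K)).symm

/-- `|X_K| ⟶ |X|` is closed for `K/k` algebraic. -/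
theorem isClosedMap_map_prod_fst [Algebra.IsAlgebraic k K] {X : Sp (Spec (CommRingCat.of k))}
    (hX : IsAlgSpace X) :
    IsClosedMap (Points.map
      (prod.fst : X ⨯ (yon (Spec (CommRingCat.of k))).obj (fobj K) ⟶ X)) := by
  obtain ⟨U, a, hae, has⟩ := hX.atlas
  refine Groth.Agent.Lib.AlgSpPoints.isClosedMap_of_isPullback_of_isQuotientMap
    (isPullback_prodChart a (fobj K))
    (Groth.Agent.Lib.AlgSpDescent.isQuotientMap_map_of_etale_surjective hae has)
    ((Groth.Agent.Lib.AlgSpPoints.isClosedMap_map_yon_map_iff _).2 ?_)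
  rw [prodFst_left_eq]
  exact (Groth.Agent.Lib.FieldBC13.isClosedMap_fst K U.hom).comp
    (Scheme.homeoOfIso (Over.prodLeftIsoPullback U (fobj K))).isClosedMap

/-- A closed Galois-stable subset of `|X_K|` is the preimage of a closed subset of `|X|`. -/
theorem exists_closed_of_galois_stable [IsGalois k K] {X : Sp (Spec (CommRingCat.of k))}
    (hX : IsAlgSpace X)
    (T : Set (Points (X ⨯ (yon (Spec (CommRingCat.of k))).obj (fobj K)))) (hT : IsClosed T)
    (hσ : ∀ σ : K ≃ₐ[k] K,
      Points.map (prod.map (𝟙 X) ((yon (Spec (CommRingCat.of k))).map (gσ K σ))) '' T = T) :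
    ∃ T₀ : Set (Points X), IsClosed T₀ ∧ Points.map
      (prod.fst : X ⨯ (yon (Spec (CommRingCat.of k))).obj (fobj K) ⟶ X) ⁻¹' T₀ = T := by
  refine ⟨_, isClosedMap_map_prod_fst K hX T hT, ?_⟩
  ext xb
  constructor
  · rintro ⟨tb, htb, htx⟩
    obtain ⟨σ, hσx⟩ := exists_gal_map_eq K hX xb tb htx.symm
    rw [← hσ σ]
    exact ⟨tb, htb, hσx⟩
  · intro hx
    exact ⟨xb, hx, rfl⟩

end Groth.Agent.Lib.GalAlgSp91a
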