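import Mathlib
import Groth.Agent.Lib.H72LimMod
import Groth.Agent.Lib.H72FpqcDescent
import Groth.Agent.Lib.SupportTensor
import Groth.Agent.Lib.Fitting82U

/-!
# Limit preserving functors `F_zero`, `F_epi`, `F_iso` (helper72)

For `f : X ⟶ S` quasi-compact, `u : F ⟶ G` a morphism of quasi-coherent modules on `X`, a cofiltered
system `T_i` of affine schemes over `S` with limit `T`: if `u_T` is zero / epi / iso then so is some
`u_{T_i}` (under the usual finiteness assumptions).  Consequently the corresponding subfunctors of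
the final functor are limit preserving.
-/

set_option autoImplicit false
set_option linter.style.haveILetI false
universe u

open CategoryTheory Limits AlgebraicGeometry Opposite

namespace Groth.Agent.Lib.H72LimXT

open Groth.Agent.Lib.H72FpqcDescent Groth.Agent.Lib.H72LimMod

variable {X S : Scheme.{u}} (f : X ⟶ S)

theorem XTmap_id (T : Over S) : PicF.XTmap f (𝟙 T) = 𝟙 (PicF.XT f T) := by
  apply pullback.hom_ext <;>
    simp only [PicF.XTmap, pullback.map, pullback.lift_fst, pullback.lift_snd, Category.id_comp,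
      Category.comp_id, Over.id_left]

theorem XTmap_comp {T T' T'' : Over S} (g : T'' ⟶ T') (g' : T' ⟶ T) :
    PicF.XTmap f (g ≫ g') = PicF.XTmap f g ≫ PicF.XTmap f g' := by
  apply pullback.hom_ext <;>
    simp only [PicF.XTmap, pullback.map, pullback.lift_fst, pullback.lift_snd, Category.assoc,
      pullback.lift_snd_assoc, Category.comp_id, Over.comp_left]

/-- `T ↦ X_T` as a functor. -/
@[simps] noncomputable def XTfunctor : Over S ⥤ Scheme.{u} where
  obj T := PicF.XT f T
  map g := PicF.XTmap f g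
  map_id T := XTmap_id f T
  map_comp g g' := XTmap_comp f g g'

theorem XTmap_snd {T T' : Over S} (g : T' ⟶ T) :
    PicF.XTmap f g ≫ PicF.XTproj f T = PicF.XTproj f T' ≫ g.left := by
  simp only [PicF.XTmap, PicF.XTproj, pullback.map, pullback.lift_snd]

/-- The projections `X_T ⟶ T` as a natural transformation. -/
@[simps] noncomputable def XTprojNat : XTfunctor f ⟶ Over.forget S where
  app T := PicF.XTproj f T
  naturality _ _ g := XTmap_snd f g

variable {I : Type u} [SmallCategory I] [IsCofiltered I] (D : I ⥤ Over S) (c : Cone D)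

attribute [local instance] IsCofiltered.isConnected

/-- `X_T` is the limit of the `X_{T_i}`. -/
noncomputable def isLimitXT (hc : IsLimit ((Over.forget S).mapCone c)) :
    IsLimit ((XTfunctor f).mapCone c) :=
  isLimitOfIsPullbackOfIsConnected (Functor.whiskerLeft D (XTprojNat f))
    ((XTfunctor f).mapCone c) ((Over.forget S).mapCone c)
    { hom := PicF.XTproj f c.pt
      w := fun i => (XTmap_snd f (c.π.app i)).symm }
    (fun i => isPullback_XTmap f (c.π.app i)) hc

theorem isAffineHom_XTmap {T T' : Over S} (k : T' ⟶ T) [IsAffineHom k.left] :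
    IsAffineHom (PicF.XTmap f k) :=
  MorphismProperty.of_isPullback (P := @IsAffineHom) (isPullback_XTmap f k).flip inferInstance

section Descent

variable {F G : X.Modules} [F.IsQuasicoherent] [G.IsQuasicoherent] (u : F ⟶ G) [QuasiCompact f]
  (hc : IsLimit ((Over.forget S).mapCone c)) (hD : ∀ i, IsAffine (D.obj i).left)

include hc hD in
/-- **Zero descends to a finite stage.** -/
theorem exists_uT_eq_zero [F.IsFiniteType] (h0 : uT f u c.pt = 0) :
    ∃ i : I, uT f u (D.obj i) = 0 := by
  haveI : ∀ {i j : I} (φ : i ⟶ j), IsAffineHom ((D ⋙ XTfunctor f).map φ) := fun {i j} φ => by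
    haveI := hD i
    haveI := hD j
    exact isAffineHom_XTmap f (D.map φ)
  let j₀ : I := IsCofiltered.nonempty.some
  haveI := hD j₀
  haveI : CompactSpace ((D ⋙ XTfunctor f).obj j₀) :=
    inferInstanceAs (CompactSpace ↑(pullback f (D.obj j₀).hom))
  haveI : (show ((D ⋙ XTfunctor f).obj j₀).Modules from
      (Scheme.Modules.pullback (pullback.fst f (D.obj j₀).hom)).obj F).IsQuasicoherent :=
    Groth.Agent.Lib.H72PullbackQCoh.isQuasicoherent_pullback _ F
  haveI : (show ((D ⋙ XTfunctor f).obj j₀).Modules from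
      (Scheme.Modules.pullback (pullback.fst f (D.obj j₀).hom)).obj G).IsQuasicoherent :=
    Groth.Agent.Lib.H72PullbackQCoh.isQuasicoherent_pullback _ G
  haveI : (show ((D ⋙ XTfunctor f).obj j₀).Modules from
      (Scheme.Modules.pullback (pullback.fst f (D.obj j₀).hom)).obj F).IsFiniteType :=
    Groth.Agent.Lib.SupportTensor.isFiniteType_pullback _ F
  have hLim : uLim (D ⋙ XTfunctor f) ((XTfunctor f).mapCone c) j₀ (uT f u (D.obj j₀)) = 0 :=
    map_eq_zero_of_natIso (pullbackXTmapIso f (c.π.app j₀)).symm u h0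
  obtain ⟨i, hi⟩ := exists_uAt_eq_zero (D ⋙ XTfunctor f) ((XTfunctor f).mapCone c)
    (isLimitXT f D c hc) j₀ (uT f u (D.obj j₀)) hLim
  exact ⟨i.left, map_eq_zero_of_natIso (pullbackXTmapIso f (D.map i.hom)) u hi⟩

include hc hD in
/-- **Epimorphisms descend to a finite stage.** -/
theorem exists_uT_epi [G.IsFiniteType] (h0 : Epi (uT f u c.pt)) :
    ∃ i : I, Epi (uT f u (D.obj i)) := by
  haveI : ∀ {i j : I} (φ : i ⟶ j), IsAffineHom ((D ⋙ XTfunctor f).map φ) := fun {i j} φ => by
    haveI := hD i
    haveI := hD j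
    exact isAffineHom_XTmap f (D.map φ)
  let j₀ : I := IsCofiltered.nonempty.some
  haveI := hD j₀
  haveI : CompactSpace ((D ⋙ XTfunctor f).obj j₀) :=
    inferInstanceAs (CompactSpace ↑(pullback f (D.obj j₀).hom))
  haveI : (show ((D ⋙ XTfunctor f).obj j₀).Modules from
      (Scheme.Modules.pullback (pullback.fst f (D.obj j₀).hom)).obj F).IsQuasicoherent :=
    Groth.Agent.Lib.H72PullbackQCoh.isQuasicoherent_pullback _ F
  haveI : (show ((D ⋙ XTfunctor f).obj j₀).Modules from
      (Scheme.Modules.pullback (pullback.fst f (D.obj j₀).hom)).obj G).IsQuasicoherent :=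
    Groth.Agent.Lib.H72PullbackQCoh.isQuasicoherent_pullback _ G
  haveI : (show ((D ⋙ XTfunctor f).obj j₀).Modules from
      (Scheme.Modules.pullback (pullback.fst f (D.obj j₀).hom)).obj G).IsFiniteType :=
    Groth.Agent.Lib.SupportTensor.isFiniteType_pullback _ G
  have hLim : Epi (uLim (D ⋙ XTfunctor f) ((XTfunctor f).mapCone c) j₀ (uT f u (D.obj j₀))) :=
    epi_map_of_natIso (pullbackXTmapIso f (c.π.app j₀)).symm u h0
  obtain ⟨i, hi⟩ := exists_uAt_epi (D ⋙ XTfunctor f) ((XTfunctor f).mapCone c)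
    (isLimitXT f D c hc) j₀ (uT f u (D.obj j₀)) hLim
  exact ⟨i.left, epi_map_of_natIso (pullbackXTmapIso f (D.map i.hom)) u hi⟩

include hc hD in
/-- **Isomorphisms descend to a finite stage.** -/
theorem exists_uT_isIso [F.IsFiniteType] [G.IsFinitePresentation] (h0 : IsIso (uT f u c.pt)) :
    ∃ i : I, IsIso (uT f u (D.obj i)) := by
  haveI : ∀ {i j : I} (φ : i ⟶ j), IsAffineHom ((D ⋙ XTfunctor f).map φ) := fun {i j} φ => by
    haveI := hD i
    haveI := hD j
    exact isAffineHom_XTmap f (D.map φ)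
  let j₀ : I := IsCofiltered.nonempty.some
  haveI := hD j₀
  haveI : CompactSpace ((D ⋙ XTfunctor f).obj j₀) :=
    inferInstanceAs (CompactSpace ↑(pullback f (D.obj j₀).hom))
  haveI : (show ((D ⋙ XTfunctor f).obj j₀).Modules from
      (Scheme.Modules.pullback (pullback.fst f (D.obj j₀).hom)).obj F).IsQuasicoherent :=
    Groth.Agent.Lib.H72PullbackQCoh.isQuasicoherent_pullback _ F
  haveI : (show ((D ⋙ XTfunctor f).obj j₀).Modules from
      (Scheme.Modules.pullback (pullback.fst f (D.obj j₀).hom)).obj G).IsQuasicoherent :=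
    Groth.Agent.Lib.H72PullbackQCoh.isQuasicoherent_pullback _ G
  haveI : (show ((D ⋙ XTfunctor f).obj j₀).Modules from
      (Scheme.Modules.pullback (pullback.fst f (D.obj j₀).hom)).obj F).IsFiniteType :=
    Groth.Agent.Lib.SupportTensor.isFiniteType_pullback _ F
  haveI : (show ((D ⋙ XTfunctor f).obj j₀).Modules from
      (Scheme.Modules.pullback (pullback.fst f (D.obj j₀).hom)).obj G).IsFinitePresentation :=
    Groth.Agent.Lib.Fitting82.isFinitePresentation_pullback _ G
  have hLim : IsIso (uLim (D ⋙ XTfunctor f) ((XTfunctor f).mapCone c) j₀ (uT f u (D.obj j₀))) :=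
    isIso_map_of_natIso (pullbackXTmapIso f (c.π.app j₀)).symm u h0
  obtain ⟨i, hi⟩ := exists_uAt_isIso (D ⋙ XTfunctor f) ((XTfunctor f).mapCone c)
    (isLimitXT f D c hc) j₀ (uT f u (D.obj j₀)) hLim
  exact ⟨i.left, isIso_map_of_natIso (pullbackXTmapIso f (D.map i.hom)) u hi⟩

end Descent

section GenPSp

/-- A subfunctor of the final functor generated by a condition stable under base change which
descends along cofiltered limits of affine schemes is limit preserving. -/
theorem isLimitPreserving_genPSp (P : Over S → Prop)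
    (hstab : ∀ ⦃T T' : Over S⦄ (_ : T' ⟶ T), P T → P T')
    (hlim : ∀ {I : Type u} [SmallCategory I] [IsCofiltered I] (D : I ⥤ Over S) (c : Cone D),
      IsLimit ((Over.forget S).mapCone c) → (∀ i, IsAffine (D.obj i).left) → P c.pt →
        ∃ i, P (D.obj i)) :
    AlgSp.IsLimitPreserving (FlatFun.genPSp S P) := by
  intro I _ _ D c hc hD _
  refine ⟨Types.FilteredColimit.isColimitOf _ _ (fun x => ?_) (fun i j xi xj _ => ?_)⟩
  · obtain ⟨T₀, k, hk⟩ := x.down.down
    obtain ⟨i, hi⟩ := hlim D c hc hD (hstab k hk)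
    exact ⟨op i, ⟨⟨⟨D.obj i, 𝟙 _, hi⟩⟩⟩,
      @Subsingleton.elim _ (FlatFun.genPSp_subsingleton S P (op c.pt)) _ _⟩
  · obtain ⟨k, a, b, -⟩ := IsFilteredOrEmpty.cocone_objs i j
    exact ⟨k, a, b, @Subsingleton.elim _ (FlatFun.genPSp_subsingleton S P (op (D.obj k.unop))) _ _⟩

end GenPSp

end Groth.Agent.Lib.H72LimXT
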