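import Mathlib
import Groth.Agent.S4790
import Groth.Agent.Lib.FGSubalgLimitU
import Groth.Agent.Lib.H72LimXT
import Groth.Agent.Lib.H72FpqcDescent
import Groth.Agent.Lib.Fitting82U
import Groth.Agent.Lib.H72PullbackQCoh

/-!
# Descending isomorphisms of finitely presented modules from `X ⊗_k K` to a finitely generated
subalgebra / finite extension (helper72)

* `DO k K`, `cO k K`, `isLimitForget`: `Spec K = lim Spec A` over the finitely generated `k`-subalgebras `A ⊆ K`,
  as a diagram in `Over (Spec k)` (on top of `Lib/FGSubalgLimitU`);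
* `exists_fg_iso`: `X` of finite type over a field `k`, `F`, `G` f.p. quasi-coherent; an isomorphism of the
  pullbacks to `X ⊗_k K` descends to `X ⊗_k A` for a finitely generated subalgebra `A` (via S4790);
* `exists_finite_ext_iso`: for `K = Ω` a field, it descends to a finite extension `k'` of `k`.
-/

set_option autoImplicit false
set_option linter.style.haveILetI false
universe u
open CategoryTheory Limits AlgebraicGeometry Opposite

namespace Groth.Agent.Lib.H72FieldLim

open Groth.Agent.Lib.FGSubalgLimitU

variable (k : Type u) [Field k] (K : Type u) [CommRing K] [Algebra k K]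

/-- The diagram `A ↦ Spec A` of finitely generated subalgebras, over `Spec k`. -/
noncomputable def DO : (FGSub k K)ᵒᵖ ⥤ Over (Spec (CommRingCat.of k)) where
  obj A := Over.mk (Spec.map (CommRingCat.ofHom (algebraMap k A.unop.1)))
  map {A B} f := Over.homMk ((D k K).map f) (by
    change Spec.map (CommRingCat.ofHom (Subalgebra.inclusion (leOfHom f.unop)).toRingHom) ≫
      Spec.map (CommRingCat.ofHom (algebraMap k B.unop.1)) =
      Spec.map (CommRingCat.ofHom (algebraMap k A.unop.1))
    rw [← Spec.map_comp]
    rfl)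
  map_id A := Over.OverMorphism.ext ((D k K).map_id A)
  map_comp f g := Over.OverMorphism.ext ((D k K).map_comp f g)

/-- The cone with point `Spec K`. -/
noncomputable def cO : Cone (DO k K) where
  pt := Over.mk (Spec.map (CommRingCat.ofHom (algebraMap k K)))
  π :=
    { app := fun A => Over.homMk ((cone k K).π.app A) (by
        change Spec.map (CommRingCat.ofHom A.unop.1.val.toRingHom) ≫
          Spec.map (CommRingCat.ofHom (algebraMap k A.unop.1)) =
          Spec.map (CommRingCat.ofHom (algebraMap k K))
        rw [← Spec.map_comp]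
        rfl)
      naturality := fun A B f => Over.OverMorphism.ext ((cone k K).π.naturality f) }

noncomputable def isLimitForget : IsLimit ((Over.forget (Spec (CommRingCat.of k))).mapCone (cO k K)) :=
  isLimitCone k K

section Main

open Groth.Agent.Lib.H72LimXT Groth.Agent.Lib.H72FpqcDescent

variable {k K} {X : Scheme.{u}} (p : X ⟶ Spec (CommRingCat.of k)) [LocallyOfFiniteType p]
  [QuasiCompact p] (F G : X.Modules) [F.IsQuasicoherent] [G.IsQuasicoherent]
  [SheafOfModules.IsFinitePresentation (R := X.ringCatSheaf) F]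
  [SheafOfModules.IsFinitePresentation (R := X.ringCatSheaf) G]

/-- If the pullbacks of two finitely presented modules to `X ⊗_k K` are isomorphic, so are the
pullbacks to `X ⊗_k A` for a finitely generated `k`-subalgebra `A` of `K`. -/
theorem exists_fg_iso
    (e : (Scheme.Modules.pullback
        (pullback.fst p (Spec.map (CommRingCat.ofHom (algebraMap k K))))).obj F ≅
      (Scheme.Modules.pullback
        (pullback.fst p (Spec.map (CommRingCat.ofHom (algebraMap k K))))).obj G) :
    ∃ A : FGSub k K, Nonempty
      ((Scheme.Modules.pullback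
        (pullback.fst p (Spec.map (CommRingCat.ofHom (algebraMap k A.1))))).obj F ≅
      (Scheme.Modules.pullback
        (pullback.fst p (Spec.map (CommRingCat.ofHom (algebraMap k A.1))))).obj G) := by
  let E : (FGSub k K)ᵒᵖ ⥤ Scheme.{u} := DO k K ⋙ XTfunctor p
  let c : Cone E := (XTfunctor p).mapCone (cO k K)
  have hc : IsLimit c := isLimitXT p (DO k K) (cO k K) (isLimitForget k K)
  let i₀ : (FGSub k K)ᵒᵖ := op ⟨⊥, Subalgebra.fg_bot⟩
  haveI : ∀ (i j : (FGSub k K)ᵒᵖ) (f : i ⟶ j), IsAffineHom (E.map f) := fun i j f => by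
    haveI : IsAffineHom ((DO k K).map f).left :=
      inferInstanceAs (IsAffineHom ((D k K).map f))
    exact isAffineHom_XTmap p ((DO k K).map f)
  haveI : IsNoetherianRing (CommRingCat.of (i₀.unop.1 : Subalgebra k K)) := by
    have : Algebra.FiniteType k (i₀.unop.1 : Subalgebra k K) :=
      (Subalgebra.fg_iff_finiteType _).mp i₀.unop.2
    exact Algebra.FiniteType.isNoetherianRing k _
  haveI : IsLocallyNoetherian (E.obj i₀) :=
    inferInstanceAs (IsLocallyNoetherian (pullback p
      (Spec.map (CommRingCat.ofHom (algebraMap k (i₀.unop.1 : Subalgebra k K))))))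
  haveI : QuasiCompact (pullback.snd p
      (Spec.map (CommRingCat.ofHom (algebraMap k (i₀.unop.1 : Subalgebra k K))))) :=
    inferInstance
  have hcomp : CompactSpace ↥(pullback p
      (Spec.map (CommRingCat.ofHom (algebraMap k (i₀.unop.1 : Subalgebra k K))))) :=
    QuasiCompact.compactSpace_of_compactSpace (pullback.snd p
      (Spec.map (CommRingCat.ofHom (algebraMap k (i₀.unop.1 : Subalgebra k K)))))
  haveI : CompactSpace (E.obj i₀) := hcomp
  let fst₀ := pullback.fst p ((DO k K).obj i₀).hom
  haveI : SheafOfModules.IsFinitePresentation (R := (E.obj i₀).ringCatSheaf)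
      ((Scheme.Modules.pullback fst₀).obj F) :=
    Groth.Agent.Lib.Fitting82.isFinitePresentation_pullback fst₀ F
  haveI : SheafOfModules.IsFinitePresentation (R := (E.obj i₀).ringCatSheaf)
      ((Scheme.Modules.pullback fst₀).obj G) :=
    Groth.Agent.Lib.Fitting82.isFinitePresentation_pullback fst₀ G
  haveI : Coh.IsQCoh (X := E.obj i₀) ((Scheme.Modules.pullback fst₀).obj F) :=
    Groth.Agent.Lib.H72PullbackQCoh.isQuasicoherent_pullback fst₀ F
  haveI : Coh.IsQCoh (X := E.obj i₀) ((Scheme.Modules.pullback fst₀).obj G) :=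
    Groth.Agent.Lib.H72PullbackQCoh.isQuasicoherent_pullback fst₀ G
  have key := Groth.Agent.S4790.result E c hc i₀ ((Scheme.Modules.pullback fst₀).obj F)
    ((Scheme.Modules.pullback fst₀).obj G) inferInstance inferInstance
  obtain ⟨j, φ, ⟨ej⟩⟩ := key.mp
    ⟨(pullbackXTmapIso p ((cO k K).π.app i₀)).app F ≪≫ e ≪≫
      ((pullbackXTmapIso p ((cO k K).π.app i₀)).app G).symm⟩
  exact ⟨j.unop, ⟨((pullbackXTmapIso p ((DO k K).map φ)).app F).symm ≪≫ ej ≪≫
    (pullbackXTmapIso p ((DO k K).map φ)).app G⟩⟩

/-- If the pullbacks of two finitely presented modules to `X ⊗_k Ω` (`Ω` a field extension) are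
isomorphic, so are the pullbacks to `X ⊗_k k'` for a finite extension `k'` of `k`. -/
theorem exists_finite_ext_iso (Ω : Type u) [Field Ω] [Algebra k Ω]
    (e : (Scheme.Modules.pullback
        (pullback.fst p (Spec.map (CommRingCat.ofHom (algebraMap k Ω))))).obj F ≅
      (Scheme.Modules.pullback
        (pullback.fst p (Spec.map (CommRingCat.ofHom (algebraMap k Ω))))).obj G) :
    ∃ (k' : Type u) (_ : Field k') (_ : Algebra k k') (_ : Module.Finite k k'),
      Nonempty ((Scheme.Modules.pullback
          (pullback.fst p (Spec.map (CommRingCat.ofHom (algebraMap k k'))))).obj F ≅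
        (Scheme.Modules.pullback
          (pullback.fst p (Spec.map (CommRingCat.ofHom (algebraMap k k'))))).obj G) := by
  obtain ⟨A, ⟨eA⟩⟩ := exists_fg_iso (K := Ω) p F G e
  obtain ⟨m, hm⟩ := Ideal.exists_maximal A.1
  letI : Field (A.1 ⧸ m) := Ideal.Quotient.field m
  haveI : Algebra.FiniteType k A.1 := (Subalgebra.fg_iff_finiteType _).mp A.2
  haveI : Algebra.FiniteType k (A.1 ⧸ m) :=
    Algebra.FiniteType.of_surjective (Ideal.Quotient.mkₐ k m) (Ideal.Quotient.mkₐ_surjective k m)
  have hfin : Module.Finite k (A.1 ⧸ m) := finite_of_finite_type_of_isJacobsonRing k (A.1 ⧸ m)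
  refine ⟨A.1 ⧸ m, inferInstance, inferInstance, hfin, ?_⟩
  let T : Over (Spec (CommRingCat.of k)) :=
    Over.mk (Spec.map (CommRingCat.ofHom (algebraMap k A.1)))
  let T' : Over (Spec (CommRingCat.of k)) :=
    Over.mk (Spec.map (CommRingCat.ofHom (algebraMap k (A.1 ⧸ m))))
  let g : T' ⟶ T := Over.homMk (Spec.map (CommRingCat.ofHom (Ideal.Quotient.mk m))) (by
    change Spec.map (CommRingCat.ofHom (Ideal.Quotient.mk m)) ≫
      Spec.map (CommRingCat.ofHom (algebraMap k A.1)) =
      Spec.map (CommRingCat.ofHom (algebraMap k (A.1 ⧸ m)))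
    rw [← Spec.map_comp]
    rfl)
  exact ⟨((pullbackXTmapIso p g).app F).symm ≪≫
    (Scheme.Modules.pullback (PicF.XTmap p g)).mapIso eA ≪≫ (pullbackXTmapIso p g).app G⟩

end Main

end Groth.Agent.Lib.H72FieldLim
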