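import Mathlib
import Groth.Agent.Lib.H72FieldLim

/-!
# Quasi-compact opens of `X ⊗_k A` descend to a finitely generated subalgebra (helper72)
-/

set_option autoImplicit false
set_option linter.style.haveILetI false
universe u
open CategoryTheory Limits AlgebraicGeometry Opposite

namespace Groth.Agent.Lib.H72QcOpenFG

open Groth.Agent.Lib.FGSubalgLimitU Groth.Agent.Lib.H72FieldLim Groth.Agent.Lib.H72LimXT

variable (k : Type u) [Field k] {X : Scheme.{u}} (p : X ⟶ Spec (CommRingCat.of k))
  (A : Type u) [CommRing A] [Algebra k A]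

theorem exists_fg_preimage
    (V : Set ↥(pullback p (Spec.map (CommRingCat.ofHom (algebraMap k A))))) (hV : IsOpen V)
    (hVc : IsCompact V) :
    ∃ (A' : Subalgebra k A), A'.FG ∧
      ∃ (V' : Set ↥(pullback p (Spec.map (CommRingCat.ofHom (algebraMap k ↥A'))))),
        IsOpen V' ∧ IsCompact V' ∧
        ∀ π : pullback p (Spec.map (CommRingCat.ofHom (algebraMap k A))) ⟶
            pullback p (Spec.map (CommRingCat.ofHom (algebraMap k ↥A'))),
          π ≫ pullback.fst _ _ = pullback.fst _ _ →
          π ≫ pullback.snd _ _ =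
            pullback.snd _ _ ≫ Spec.map (CommRingCat.ofHom A'.val.toRingHom) →
            π.base ⁻¹' V' = V := by
  let E : (FGSub k A)ᵒᵖ ⥤ Scheme.{u} := DO k A ⋙ XTfunctor p
  let c : Cone E := (XTfunctor p).mapCone (cO k A)
  have hc : IsLimit c := isLimitXT p (DO k A) (cO k A) (isLimitForget k A)
  haveI : ∀ {i j : (FGSub k A)ᵒᵖ} (f : i ⟶ j), IsAffineHom (E.map f) := fun {i j} f => by
    haveI : IsAffineHom ((DO k A).map f).left :=
      inferInstanceAs (IsAffineHom ((D k A).map f))
    exact isAffineHom_XTmap p ((DO k A).map f)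
  obtain ⟨j, V', hV'c, hV'⟩ := exists_preimage_eq E c hc (⟨V, hV⟩ : c.pt.Opens) hVc
  let W : (pullback p (Spec.map (CommRingCat.ofHom (algebraMap k ↥j.unop.1)))).Opens := V'
  have hWc : IsCompact (W : Set ↥(pullback p
      (Spec.map (CommRingCat.ofHom (algebraMap k ↥j.unop.1))))) := hV'c
  refine ⟨j.unop.1, j.unop.2, (W : Set ↥(pullback p
      (Spec.map (CommRingCat.ofHom (algebraMap k ↥j.unop.1))))), W.2, hWc, fun π h1 h2 => ?_⟩
  have hπ : π = c.π.app j := by
    apply pullback.hom_ext
    · rw [h1]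
      change _ = PicF.XTmap p ((cO k A).π.app j) ≫ pullback.fst _ _
      simp only [PicF.XTmap, pullback.map, pullback.lift_fst, Category.comp_id]
      rfl
    · rw [h2]
      change _ = PicF.XTmap p ((cO k A).π.app j) ≫ pullback.snd _ _
      simp only [PicF.XTmap, pullback.map, pullback.lift_snd]
      rfl
  rw [hπ]
  exact congrArg (fun W : c.pt.Opens => (W : Set c.pt)) hV'

end Groth.Agent.Lib.H72QcOpenFG
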