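import Groth.Agent.Lib.GalAlgSp91a
import Groth.Agent.Lib.H72QcOpenFG

/-!
# Quasi-compact opens of `X_K` descend to finite levels, for algebraic spaces (helper91)
-/

set_option autoImplicit false
set_option maxHeartbeats 400000
universe u

open CategoryTheory CategoryTheory.Limits AlgebraicGeometry Opposite

namespace Groth.Agent.Lib.GalAlgSp91b

open AlgSp Groth.Agent.Lib.GeomRedBC91d Groth.Agent.Lib.GeomConn91b Groth.Agent.Lib.GalAct13
  Groth.Agent.Lib.H71FinSepConn

/-- An open compact subset of the image of an open continuous map from a scheme is the image of a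
quasi-compact open. -/
theorem exists_compact_open_image {A : Scheme.{u}} {B : Type*} [TopologicalSpace B] {f : ↥A → B}
    (hf : Continuous f) (ho : IsOpenMap f) (V : Set B) (hV : IsOpen V) (hVc : IsCompact V)
    (hsub : V ⊆ Set.range f) :
    ∃ W : A.Opens, IsCompact (W : Set ↥A) ∧ f '' (W : Set ↥A) = V := by
  have hpre : IsOpen (f ⁻¹' V) := hV.preimage hf
  obtain ⟨t, ht⟩ := hVc.elim_finite_subcover
    (fun O : {O : A.affineOpens // (O.1 : Set ↥A) ⊆ f ⁻¹' V} => f '' (O.1.1 : Set ↥A))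
    (fun O => ho _ O.1.1.isOpen) (by
      intro y hy
      obtain ⟨a, rfl⟩ := hsub hy
      obtain ⟨_, ⟨O, hO, rfl⟩, haO, hOV⟩ := (A.isBasis_affineOpens).exists_subset_of_mem_open
        (show a ∈ f ⁻¹' V from hy) hpre
      exact Set.mem_iUnion.2 ⟨⟨⟨O, hO⟩, hOV⟩, a, haO, rfl⟩)
  refine ⟨⨆ O ∈ t, (O : {O : A.affineOpens // (O.1 : Set ↥A) ⊆ f ⁻¹' V}).1.1, ?_, ?_⟩
  · have : ((⨆ O ∈ t, (O : {O : A.affineOpens // (O.1 : Set ↥A) ⊆ f ⁻¹' V}).1.1 : A.Opens) :
        Set ↥A) = ⋃ O ∈ t, ((O : {O : A.affineOpens // (O.1 : Set ↥A) ⊆ f ⁻¹' V}).1.1 : Set ↥A) := by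
      simp
    rw [this]
    exact t.finite_toSet.isCompact_biUnion fun O _ => O.1.2.isCompact
  · apply Set.Subset.antisymm
    · rintro _ ⟨a, ha, rfl⟩
      have ha' : a ∈ (⨆ O ∈ t, (O : {O : A.affineOpens // (O.1 : Set ↥A) ⊆ f ⁻¹' V}).1.1 :
          A.Opens) := ha
      simp only [TopologicalSpace.Opens.mem_iSup] at ha'
      obtain ⟨O, -, haO⟩ := ha'
      exact O.2 haO
    · intro y hy
      have := ht hy
      simp only [Set.mem_iUnion, Set.mem_image] at this
      obtain ⟨O, hO, a, haO, rfl⟩ := this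
      refine ⟨a, ?_, rfl⟩
      show a ∈ (⨆ O ∈ t, (O : {O : A.affineOpens // (O.1 : Set ↥A) ⊆ f ⁻¹' V}).1.1 : A.Opens)
      simp only [TopologicalSpace.Opens.mem_iSup]
      exact ⟨O, hO, haO⟩

section SchemeLevel

variable {k : Type u} [Field k] (K : Type u) [Field K] [Algebra k K]

/-- A quasi-compact open of `X_K` (`K/k` algebraic) is the preimage of a quasi-compact open of `X_L`
for some finite subextension `L`. -/
theorem exists_finite_level_qc [Algebra.IsAlgebraic k K] {X : Scheme.{u}}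
    (p : X ⟶ Spec (CommRingCat.of k))
    (V : Set ↥(pullback p (q (k := k) K))) (hV : IsOpen V) (hVc : IsCompact V) :
    ∃ (L : IntermediateField k K) (_ : FiniteDimensional k L)
      (V' : Set ↥(pullback p (q (k := k) L))), IsOpen V' ∧ IsCompact V' ∧
        ρ K L p ⁻¹' V' = V := by
  obtain ⟨A', ⟨s, hs⟩, V', hV'o, hV'c, hπ⟩ :=
    Groth.Agent.Lib.H72QcOpenFG.exists_fg_preimage k p K V hV hVc
  let L : IntermediateField k K := IntermediateField.adjoin k (s : Set K)
  have hL : FiniteDimensional k L :=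
    IntermediateField.finiteDimensional_adjoin (fun x _ => Algebra.IsIntegral.isIntegral x)
  have hle : ∀ a : A', (a : K) ∈ L := fun a => by
    have : (A' : Set K) ⊆ IntermediateField.adjoin k (s : Set K) := by
      rw [← hs]
      exact IntermediateField.algebra_adjoin_le_adjoin k (s : Set K)
    exact this a.2
  let ι : A' →+* L :=
    { toFun := fun a => ⟨a.1, hle a⟩
      map_one' := rfl
      map_mul' := fun _ _ => rfl
      map_zero' := rfl
      map_add' := fun _ _ => rfl }
  have hι1 : ι.comp (algebraMap k A') = algebraMap k L := by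
    ext x; rfl
  have hι2 : (algebraMap L K).comp ι = A'.val.toRingHom := by
    ext x; rfl
  let j : pullback p (q (k := k) L) ⟶ pullback p (Spec.map (CommRingCat.ofHom (algebraMap k ↥A'))) :=
    pullback.map p (q L) p (Spec.map (CommRingCat.ofHom (algebraMap k ↥A'))) (𝟙 X)
      (Spec.map (CommRingCat.ofHom ι)) (𝟙 _) (by simp)
      (by rw [Category.comp_id, ← Spec.map_comp, ← CommRingCat.ofHom_comp, hι1])
  have hj1 : j ≫ pullback.fst p _ = pullback.fst p _ := by
    simp only [j, pullback.map, pullback.lift_fst, Category.comp_id]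
  have hj2 : j ≫ pullback.snd p _ = pullback.snd p _ ≫ Spec.map (CommRingCat.ofHom ι) := by
    simp only [j, pullback.map, pullback.lift_snd]
  have hqc : QuasiCompact j := by
    have h1 : QuasiSeparated (pullback.fst p (Spec.map (CommRingCat.ofHom (algebraMap k ↥A')))) :=
      inferInstance
    have h2 : QuasiCompact (j ≫ pullback.fst p (Spec.map (CommRingCat.ofHom (algebraMap k ↥A')))) := by
      rw [hj1]; infer_instance
    exact MorphismProperty.of_postcomp (W := @QuasiCompact) (W' := @QuasiSeparated) j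
      (pullback.fst p (Spec.map (CommRingCat.ofHom (algebraMap k ↥A')))) h1 h2
  refine ⟨L, hL, j ⁻¹' V', hV'o.preimage j.continuous, ?_, ?_⟩
  · exact hqc.isCompact_preimage _ hV'o hV'c
  · have := hπ (ρ K L p ≫ j) (by rw [Category.assoc, hj1, ρ_fst])
      (by rw [Category.assoc, hj2, ρ_snd_assoc, ← Spec.map_comp, ← CommRingCat.ofHom_comp, hι2])
    rw [← this]
    rfl

end SchemeLevel

section SpLevel

variable {k : Type u} [Field k] (K : Type u) [Field K] [Algebra k K]

/-- A quasi-compact open of `|X_K|` (`K/k` algebraic, `X` an algebraic space) is the preimage of a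
quasi-compact open of `|X_L|` for some finite subextension `L`. -/
theorem exists_finite_level_qc_sp [Algebra.IsAlgebraic k K] {X : Sp (Spec (CommRingCat.of k))}
    (hX : IsAlgSpace X)
    (V : Set (Points (X ⨯ (yon (Spec (CommRingCat.of k))).obj (fobj K)))) (hV : IsOpen V)
    (hVc : IsCompact V) :
    ∃ (L : IntermediateField k K) (_ : FiniteDimensional k L)
      (V' : Set (Points (X ⨯ (yon (Spec (CommRingCat.of k))).obj (fobj (k := k) L)))),
      IsOpen V' ∧ IsCompact V' ∧
        Points.map (prod.map (𝟙 X) ((yon (Spec (CommRingCat.of k))).map (φL K L))) ⁻¹' V' = V := by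
  obtain ⟨U, a, hae, has⟩ := hX.atlas
  have hce := repWith_etale_prodChart a hae (fobj K)
  have hcs := repWith_surjective_prodChart a has (fobj K)
  obtain ⟨W, hWc, hWV⟩ := exists_compact_open_image (Points.continuous_ofPt (prodChart a (fobj K)))
    (Groth.Agent.Lib.AlgSpQC.isOpenMap_ofPt_of_repWith_etale hce) V hV hVc
    (fun y _ => Groth.Agent.Lib.AlgSpQC.surjective_ofPt_of_repWith_surjective hcs y)
  let e := Over.prodLeftIsoPullback U (fobj K)
  have hinv : ∀ w : ↥(U ⨯ fobj K).left, e.inv (e.hom w) = w := by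
    intro w
    rw [← Scheme.Hom.comp_apply, Iso.hom_inv_id]
    rfl
  have hW1o : IsOpen (e.inv ⁻¹' (W : Set ↥(U ⨯ fobj K).left)) := W.isOpen.preimage e.inv.continuous
  have hW1c : IsCompact (e.inv ⁻¹' (W : Set ↥(U ⨯ fobj K).left)) := by
    have : e.inv ⁻¹' (W : Set ↥(U ⨯ fobj K).left) = e.hom '' (W : Set ↥(U ⨯ fobj K).left) := by
      ext z
      constructor
      · intro hz
        refine ⟨e.inv z, hz, ?_⟩
        rw [← Scheme.Hom.comp_apply, Iso.inv_hom_id]
        rfl
      · rintro ⟨w, hw, rfl⟩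
        rw [Set.mem_preimage, hinv]
        exact hw
    rw [this]
    exact hWc.image e.hom.continuous
  obtain ⟨L, hL, W', hW'o, hW'c, hρ⟩ := exists_finite_level_qc K U.hom _ hW1o hW1c
  let eL := Over.prodLeftIsoPullback U (fobj (k := k) L)
  have hρw : ∀ w : ↥(U ⨯ fobj K).left, ρ K L U.hom (e.hom w) =
      eL.hom ((prod.map (𝟙 U) (φL K L)).left w) := by
    intro w
    rw [← Scheme.Hom.comp_apply, ← Scheme.Hom.comp_apply]
    exact congrArg (fun m : (U ⨯ fobj K).left ⟶ _ => m w) (prodIso_ρ U K L).symm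
  have hmem : ∀ w : ↥(U ⨯ fobj K).left,
      eL.hom ((prod.map (𝟙 U) (φL K L)).left w) ∈ W' ↔ w ∈ (W : Set ↥(U ⨯ fobj K).left) := by
    intro w
    rw [← hρw, ← Set.mem_preimage, hρ, Set.mem_preimage, hinv]
  have hW2o : IsOpen (eL.hom ⁻¹' W') := hW'o.preimage eL.hom.continuous
  have hW2c : IsCompact (eL.hom ⁻¹' W') := by
    have : eL.hom ⁻¹' W' = eL.inv '' W' := by
      ext z
      constructor
      · intro hz
        refine ⟨eL.hom z, hz, ?_⟩
        rw [← Scheme.Hom.comp_apply, Iso.hom_inv_id]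
        rfl
      · rintro ⟨w, hw, rfl⟩
        rw [Set.mem_preimage, ← Scheme.Hom.comp_apply, Iso.inv_hom_id]
        exact hw
    rw [this]
    exact hW'c.image eL.inv.continuous
  have hceL := repWith_etale_prodChart a hae (fobj (k := k) L)
  refine ⟨L, hL, Points.ofPt (prodChart a (fobj (k := k) L)) '' (eL.hom ⁻¹' W'),
    Groth.Agent.Lib.AlgSpQC.isOpenMap_ofPt_of_repWith_etale hceL _ hW2o,
    hW2c.image (Points.continuous_ofPt _), ?_⟩
  have sq := isPullback_prodChart_map a (φL K L)
  ext xb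
  constructor
  · rintro ⟨w', hw', hw'x⟩
    obtain ⟨wb, hwb1, hwb2⟩ :=
      Groth.Agent.Lib.AlgSpPoints.exists_of_isPullback_yon sq xb w' hw'x.symm
    rw [← hWV, ← hwb2]
    refine ⟨wb, ?_, rfl⟩
    rw [← hmem, hwb1]
    exact hw'
  · intro hx
    rw [← hWV] at hx
    obtain ⟨wb, hwb, rfl⟩ := hx
    refine ⟨(prod.map (𝟙 U) (φL K L)).left wb, (hmem wb).2 hwb, ?_⟩
    exact (Groth.Agent.Lib.GalAlgSp91a.ofPt_prodChart_map a (φL K L) wb).symm

end SpLevel

end Groth.Agent.Lib.GalAlgSp91b
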