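import Groth.Agent.Lib.GalAlgSp91b
import Mathlib.FieldTheory.KrullTopology

/-!
# Quasi-compact opens of `X_K` are stable under an open subgroup of the Galois group (helper91)
-/

set_option autoImplicit false
set_option maxHeartbeats 400000
universe u

open CategoryTheory CategoryTheory.Limits AlgebraicGeometry Opposite

namespace Groth.Agent.Lib.GalAlgSp91c

open AlgSp Groth.Agent.Lib.GeomRedBC91d Groth.Agent.Lib.GeomConn91b Groth.Agent.Lib.GalAct13
  Groth.Agent.Lib.H71FinSepConn Groth.Agent.Lib.GalAlgSp91a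

variable {k : Type u} [Field k] (K : Type u) [Field K] [Algebra k K]

theorem gσ_inv_comp (σ : K ≃ₐ[k] K) : gσ K σ⁻¹ ≫ gσ K σ = 𝟙 (fobj (k := k) K) := by
  apply Over.OverMorphism.ext
  change Spec.map (CommRingCat.ofHom ((σ⁻¹ : K ≃ₐ[k] K) : K →ₐ[k] K).toRingHom) ≫
    Spec.map (CommRingCat.ofHom (σ : K →ₐ[k] K).toRingHom) = 𝟙 _
  rw [← Spec.map_comp, ← CommRingCat.ofHom_comp]
  have : (((σ⁻¹ : K ≃ₐ[k] K) : K →ₐ[k] K).toRingHom).comp ((σ : K →ₐ[k] K).toRingHom) =
      RingHom.id K := by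
    ext x
    exact σ.symm_apply_apply x
  rw [this]
  exact Spec.map_id _

theorem gσ_comp_φL (L : IntermediateField k K) (σ : K ≃ₐ[k] K) (hσ : ∀ a ∈ L, σ a = a) :
    gσ K σ ≫ φL K L = φL K L := by
  apply Over.OverMorphism.ext
  change Spec.map (CommRingCat.ofHom (σ : K →ₐ[k] K).toRingHom) ≫
    Spec.map (CommRingCat.ofHom (algebraMap L K)) = Spec.map (CommRingCat.ofHom (algebraMap L K))
  rw [← Spec.map_comp, ← CommRingCat.ofHom_comp]
  congr 2
  ext x
  exact hσ x x.2

/-- A quasi-compact open of `|X_K|` is stable under an open subgroup of the Galois group. -/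
theorem exists_open_subgroup_stab [IsGalois k K] {X : Sp (Spec (CommRingCat.of k))}
    (hX : IsAlgSpace X)
    (V : Set (Points (X ⨯ (yon (Spec (CommRingCat.of k))).obj (fobj K)))) (hV : IsOpen V)
    (hVc : IsCompact V) :
    ∃ H : Subgroup (K ≃ₐ[k] K), IsOpen (H : Set (K ≃ₐ[k] K)) ∧ ∀ σ ∈ H,
      Points.map (prod.map (𝟙 X) ((yon (Spec (CommRingCat.of k))).map (gσ K σ))) '' V = V := by
  obtain ⟨L, hL, V', -, -, hpre⟩ :=
    Groth.Agent.Lib.GalAlgSp91b.exists_finite_level_qc_sp K hX V hV hVc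
  refine ⟨L.fixingSubgroup, IntermediateField.fixingSubgroup_isOpen L, ?_⟩
  have hπ : ∀ σ ∈ L.fixingSubgroup, ∀ x,
      Points.map (prod.map (𝟙 X) ((yon (Spec (CommRingCat.of k))).map (φL K L)))
        (Points.map (prod.map (𝟙 X) ((yon (Spec (CommRingCat.of k))).map (gσ K σ))) x) =
      Points.map (prod.map (𝟙 X) ((yon (Spec (CommRingCat.of k))).map (φL K L))) x := by
    intro σ hσ x
    have hσ' : ∀ a ∈ L, σ a = a := fun a ha =>
      (IntermediateField.mem_fixingSubgroup_iff L σ).1 hσ a ha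
    rw [← Points.map_comp, prod.map_map, Category.comp_id, ← Functor.map_comp,
      gσ_comp_φL K L σ hσ']
  intro σ hσ
  apply Set.Subset.antisymm
  · rintro _ ⟨x, hx, rfl⟩
    rw [← hpre, Set.mem_preimage, hπ σ hσ]
    rw [← hpre] at hx
    exact hx
  · intro y hy
    refine ⟨Points.map (prod.map (𝟙 X) ((yon (Spec (CommRingCat.of k))).map (gσ K σ⁻¹))) y, ?_, ?_⟩
    · rw [← hpre, Set.mem_preimage, hπ σ⁻¹ (inv_mem hσ)]
      rw [← hpre] at hy
      exact hy
    · rw [← Points.map_comp, prod.map_map, Category.comp_id, ← Functor.map_comp, gσ_inv_comp,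
        CategoryTheory.Functor.map_id, prod.map_id_id, Points.map_id]

end Groth.Agent.Lib.GalAlgSp91c
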