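import Mathlib.FieldTheory.Galois.Profinite
import Mathlib.FieldTheory.KrullTopology
import Mathlib.FieldTheory.IsSepClosed
import Mathlib.FieldTheory.Normal.Basic
import Mathlib.Topology.LocallyConstant.Basic
import Mathlib.FieldTheory.Galois.Basic
import Mathlib.RingTheory.Trace.Basic
import Mathlib.LinearAlgebra.LinearIndependent.Lemmas
import Mathlib.FieldTheory.Fixed

/-!
# Locally constant functions on an infinite Galois group factor through a finite level

and Hilbert 90 (multiplicative and additive) for locally constant cocycles.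
-/

open scoped Topology

namespace Groth.Agent.Lib.GalLC

variable {K L : Type*} [Field K] [Field L] [Algebra K L]

/-- a locally constant function on the Galois group of a Galois extension is right-invariant under
the fixing subgroup of a finite normal intermediate field -/
theorem exists_level [IsGalois K L] {X : Type*} (a : (L ≃ₐ[K] L) → X)
    (hlc : IsLocallyConstant a) :
    ∃ M : IntermediateField K L, FiniteDimensional K M ∧ Normal K M ∧
      ∀ (σ h : L ≃ₐ[K] L), h ∈ M.fixingSubgroup → a (σ * h) = a σ := by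
  classical
  have h1 : ∀ σ : L ≃ₐ[K] L, ∃ E : IntermediateField K L, FiniteDimensional K E ∧ Normal K E ∧
      ∀ h ∈ E.fixingSubgroup, a (σ * h) = a σ := by
    intro σ
    have hopen : IsOpen {x | a x = a σ} := hlc.isOpen_fiber _
    have hmem : (fun h => σ * h) ⁻¹' {x | a x = a σ} ∈ 𝓝 (1 : L ≃ₐ[K] L) := by
      apply (continuous_const_mul σ).continuousAt.preimage_mem_nhds
      rw [mul_one]
      exact hopen.mem_nhds rfl
    obtain ⟨E, hfin, hnorm, hE⟩ := (krullTopology_mem_nhds_one_iff_of_normal K L _).1 hmem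
    exact ⟨E, hfin, hnorm, fun h hh => hE hh⟩
  choose E hEfin hEnorm hE using h1
  have hcover : (Set.univ : Set (L ≃ₐ[K] L)) ⊆
      ⋃ σ, (fun g => σ⁻¹ * g) ⁻¹' ((E σ).fixingSubgroup : Set (L ≃ₐ[K] L)) := by
    intro g _
    refine Set.mem_iUnion.2 ⟨g, ?_⟩
    change g⁻¹ * g ∈ (E g).fixingSubgroup
    rw [inv_mul_cancel]
    exact one_mem _
  obtain ⟨t, ht⟩ := isCompact_univ.elim_finite_subcover
    (fun σ => (fun g => σ⁻¹ * g) ⁻¹' ((E σ).fixingSubgroup : Set (L ≃ₐ[K] L)))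
    (fun σ => ((E σ).fixingSubgroup_isOpen).preimage (continuous_const_mul _)) hcover
  have : ∀ i : t, FiniteDimensional K (E i.1) := fun i => hEfin i.1
  have : ∀ i : t, Normal K (E i.1) := fun i => hEnorm i.1
  refine ⟨⨆ i : t, E i.1, inferInstance, inferInstance, ?_⟩
  intro σ h hh
  obtain ⟨τ, hτt, hτ⟩ := Set.mem_iUnion₂.1 (ht (Set.mem_univ σ))
  have hτ' : τ⁻¹ * σ ∈ (E τ).fixingSubgroup := hτ
  have hle : (⨆ i : t, E i.1 : IntermediateField K L).fixingSubgroup ≤ (E τ).fixingSubgroup :=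
    IntermediateField.fixingSubgroup_antitone (le_iSup (fun i : t => E i.1) ⟨τ, hτt⟩)
  have h3 : σ * h = τ * (τ⁻¹ * σ * h) := by group
  have h4 : σ = τ * (τ⁻¹ * σ) := by group
  rw [h3, hE τ _ (mul_mem hτ' (hle hh))]
  conv_rhs => rw [h4]
  exact (hE τ _ hτ').symm

section Level

variable [IsGalois K L] (M : IntermediateField K L) [Normal K M]

/-- a set-theoretic section of the restriction map to a finite normal level -/
noncomputable def sec : (M ≃ₐ[K] M) → (L ≃ₐ[K] L) :=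
  Function.surjInv (AlgEquiv.restrictNormalHom_surjective (F := K) (K₁ := M) L)

lemma res_sec (τ : M ≃ₐ[K] M) : AlgEquiv.restrictNormalHom M (sec M τ) = τ :=
  Function.surjInv_eq (AlgEquiv.restrictNormalHom_surjective (F := K) (K₁ := M) L) τ

lemma apply_mul_sec {X : Type*} (a : (L ≃ₐ[K] L) → X)
    (ha : ∀ (σ h : L ≃ₐ[K] L), h ∈ M.fixingSubgroup → a (σ * h) = a σ)
    (σ : L ≃ₐ[K] L) (τ : M ≃ₐ[K] M) :
    a (σ * sec M τ) = a (sec M (AlgEquiv.restrictNormalHom M σ * τ)) := by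
  set ρ := sec M (AlgEquiv.restrictNormalHom M σ * τ) with hρ
  have hh : ρ⁻¹ * (σ * sec M τ) ∈ M.fixingSubgroup := by
    rw [← IntermediateField.restrictNormalHom_ker, MonoidHom.mem_ker, map_mul, map_inv, map_mul,
      hρ, res_sec, res_sec, inv_mul_cancel]
  have h1 : σ * sec M τ = ρ * (ρ⁻¹ * (σ * sec M τ)) := by group
  rw [h1, ha _ _ hh]

omit [IsGalois K L] in
lemma apply_coe (σ : L ≃ₐ[K] L) (τ : M ≃ₐ[K] M) (θ : M) :
    σ ((τ θ : M) : L) = (((AlgEquiv.restrictNormalHom M σ * τ) θ : M) : L) := by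
  rw [AlgEquiv.mul_apply]
  exact (AlgEquiv.restrictNormal_commutes σ M (τ θ)).symm

/-- the character `M →* L` attached to an automorphism of `M` -/
def chi (τ : M ≃ₐ[K] M) : M →* L :=
  ((algebraMap M L : M →+* L) : M →* L).comp ((τ : M →+* M) : M →* M)

omit [IsGalois K L] [Normal K M] in
lemma chi_apply (τ : M ≃ₐ[K] M) (θ : M) : chi M τ θ = ((τ θ : M) : L) := rfl

omit [IsGalois K L] [Normal K M] in
lemma chi_injective : Function.Injective (chi (K := K) (L := L) M) := by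
  intro τ τ' h
  ext θ
  have h1 := DFunLike.congr_fun h θ
  rw [chi_apply, chi_apply] at h1
  exact congrArg Subtype.val (Subtype.ext h1)

omit [IsGalois K L] [Normal K M] in
/-- Dedekind: a nontrivial combination of the characters is nonzero at some point -/
lemma exists_sum_ne_zero [FiniteDimensional K M] (A : (M ≃ₐ[K] M) → L) (hA : A 1 ≠ 0) :
    ∃ θ : M, ∑ τ : M ≃ₐ[K] M, A τ * ((τ θ : M) : L) ≠ 0 := by
  classical
  by_contra hcon
  push Not at hcon
  have hli : LinearIndependent L (fun τ : M ≃ₐ[K] M => (chi M τ : M → L)) :=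
    (linearIndependent_monoidHom M L).comp (chi M) (chi_injective M)
  have h0 : ∑ τ : M ≃ₐ[K] M, A τ • (chi M τ : M → L) = 0 := by
    funext θ
    rw [Finset.sum_apply]
    simpa [chi_apply] using hcon θ
  exact hA (Fintype.linearIndependent_iff.1 hli A h0 1)

end Level

section Hilbert90

variable [IsGalois K L]

/-- **Hilbert 90** for locally constant multiplicative cocycles of an infinite Galois extension -/
theorem hilbert90_units (a : (L ≃ₐ[K] L) → Lˣ)
    (ha : ∀ σ τ : L ≃ₐ[K] L, (a (σ * τ) : L) = (a σ : L) * σ (a τ : L))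
    (hlc : IsLocallyConstant a) :
    ∃ c : L, c ≠ 0 ∧ ∀ σ : L ≃ₐ[K] L, (a σ : L) * σ c = c := by
  classical
  obtain ⟨M, hfin, hnorm, hM⟩ := exists_level a hlc
  let A : (M ≃ₐ[K] M) → L := fun τ => (a (sec M τ) : L)
  obtain ⟨θ, hθ⟩ := exists_sum_ne_zero M A (a (sec M 1)).ne_zero
  refine ⟨∑ τ : M ≃ₐ[K] M, A τ * ((τ θ : M) : L), hθ, fun σ => ?_⟩
  have h6 : ∑ τ : M ≃ₐ[K] M, A (AlgEquiv.restrictNormalHom M σ * τ) *
      (((AlgEquiv.restrictNormalHom M σ * τ) θ : M) : L) =
      ∑ τ : M ≃ₐ[K] M, A τ * ((τ θ : M) : L) :=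
    Equiv.sum_comp (Equiv.mulLeft (AlgEquiv.restrictNormalHom M σ))
      (fun τ => A τ * ((τ θ : M) : L))
  rw [map_sum, Finset.mul_sum, ← h6]
  refine Finset.sum_congr rfl (fun τ _ => ?_)
  rw [map_mul, apply_coe, ← mul_assoc]
  congr 1
  change (a σ : L) * σ (a (sec M τ) : L) = (a (sec M (AlgEquiv.restrictNormalHom M σ * τ)) : L)
  rw [← ha, apply_mul_sec M a hM]

/-- additive **Hilbert 90** for locally constant cocycles of an infinite Galois extension -/
theorem hilbert90_add (a : (L ≃ₐ[K] L) → L)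
    (ha : ∀ σ τ : L ≃ₐ[K] L, a (σ * τ) = a σ + σ (a τ))
    (hlc : IsLocallyConstant a) :
    ∃ y : L, ∀ σ : L ≃ₐ[K] L, a σ = σ y - y := by
  classical
  obtain ⟨M, hfin, hnorm, hM⟩ := exists_level a hlc
  have : IsGalois K M := ⟨⟩
  obtain ⟨θ, hθ⟩ := Algebra.trace_surjective K M 1
  have htr : ∑ τ : M ≃ₐ[K] M, ((τ θ : M) : L) = 1 := by
    have h1 := trace_eq_sum_automorphisms (K := K) (L := M) θ
    rw [hθ, map_one] at h1
    have h2 := congrArg (algebraMap M L) h1
    rw [map_one, map_sum] at h2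
    exact h2.symm
  let A : (M ≃ₐ[K] M) → L := fun τ => a (sec M τ)
  refine ⟨-∑ τ : M ≃ₐ[K] M, A τ * ((τ θ : M) : L), fun σ => ?_⟩
  rw [map_neg, map_sum, neg_sub_neg]
  have h5 : ∑ τ : M ≃ₐ[K] M, (((AlgEquiv.restrictNormalHom M σ * τ) θ : M) : L) = 1 :=
    (Equiv.sum_comp (Equiv.mulLeft (AlgEquiv.restrictNormalHom M σ))
      (fun τ => ((τ θ : M) : L))).trans htr
  have h6 : ∑ τ : M ≃ₐ[K] M, A (AlgEquiv.restrictNormalHom M σ * τ) *
      (((AlgEquiv.restrictNormalHom M σ * τ) θ : M) : L) =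
      ∑ τ : M ≃ₐ[K] M, A τ * ((τ θ : M) : L) :=
    Equiv.sum_comp (Equiv.mulLeft (AlgEquiv.restrictNormalHom M σ))
      (fun τ => A τ * ((τ θ : M) : L))
  have h3 : ∑ τ : M ≃ₐ[K] M, σ (A τ * ((τ θ : M) : L)) =
      ∑ τ : M ≃ₐ[K] M, A τ * ((τ θ : M) : L) - a σ := by
    have h4 : a σ = ∑ τ : M ≃ₐ[K] M,
        a σ * (((AlgEquiv.restrictNormalHom M σ * τ) θ : M) : L) := by
      rw [← Finset.mul_sum, h5, mul_one]
    conv_rhs => rw [h4, ← h6]
    rw [← Finset.sum_sub_distrib]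
    refine Finset.sum_congr rfl (fun τ _ => ?_)
    rw [map_mul, apply_coe, ← sub_mul]
    congr 1
    change σ (a (sec M τ)) = a (sec M (AlgEquiv.restrictNormalHom M σ * τ)) - a σ
    rw [← apply_mul_sec M a hM, ha]
    ring
  rw [h3]
  ring

end Hilbert90

end Groth.Agent.Lib.GalLC
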