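import Mathlib

/-!
# Galois orbits on the primes of `A ⊗[k] K` (helper37)

* `exists_comap_smul_eq_of_finite_orbits`: a group `G` acting on `B` by ring automorphisms with
  finite orbits and invariant ring `A` acts transitively on the (finitely generated) primes of `B`
  over a given prime of `A`.
* `galAction k K A`: the action of `K ≃ₐ[k] K` on `A ⊗[k] K` through the second factor.
* `exists_comap_gal_eq`: for `K/k` Galois (possibly infinite) and `A` of finite type over `k`, two
  primes of `A ⊗[k] K` over the same prime of `A` are conjugate under `Gal(K/k)`.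
-/

set_option autoImplicit false
universe u

namespace Groth.Agent.Lib.GalOrbit37

open TensorProduct

section Abstract

variable {A B : Type*} [CommRing A] [CommRing B] [Algebra A B]
variable {G : Type*} [Group G] [MulSemiringAction G B]

theorem exists_comap_smul_eq_of_finite_orbits
    (hfix : ∀ (g : G) (a : A), g • algebraMap A B a = algebraMap A B a)
    (hinv : ∀ b : B, (∀ g : G, g • b = b) → b ∈ Set.range (algebraMap A B))
    (hfin : ∀ b : B, (MulAction.orbit G b).Finite) [Algebra.IsIntegral A B]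
    (P P' : Ideal B) [P.IsPrime] [P'.IsPrime] (hP : P.FG)
    (h : P.comap (algebraMap A B) = P'.comap (algebraMap A B)) :
    ∃ g : G, P' = P.comap (MulSemiringAction.toRingHom G B g) := by
  classical
  set Q : G → Ideal B := fun g ↦ P.comap (MulSemiringAction.toRingHom G B g) with hQ
  have hQmem : ∀ g b, b ∈ Q g ↔ g • b ∈ P := fun g b ↦ Iff.rfl
  have hQprime : ∀ g, (Q g).IsPrime := fun g ↦ Ideal.comap_isPrime _ _
  have hQA : ∀ g, (Q g).comap (algebraMap A B) = P.comap (algebraMap A B) := by
    intro g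
    ext a
    rw [Ideal.mem_comap, hQmem, hfix, Ideal.mem_comap]
  have hincomp : ∀ (I J : Ideal B) [I.IsPrime] [J.IsPrime], I ≤ J →
      I.comap (algebraMap A B) = J.comap (algebraMap A B) → I = J := by
    intro I J _ _ hIJ hc
    by_contra hne
    obtain ⟨x, hxJ, hxI⟩ := SetLike.exists_of_lt (lt_of_le_of_ne hIJ hne)
    exact (Ideal.comap_lt_comap_of_integral_mem_sdiff hIJ ⟨hxJ, hxI⟩
      (Algebra.IsIntegral.isIntegral x)).ne hc
  have hQfin : (Set.range Q).Finite := by
    obtain ⟨S, hS⟩ := hP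
    have hQspan : ∀ g, Q g = Ideal.span (Set.range fun s : S ↦ g⁻¹ • (s : B)) := by
      intro g
      have h1 : Q g = P.map (MulSemiringAction.toRingHom G B g⁻¹) := by
        apply le_antisymm
        · intro b hb
          have : b = MulSemiringAction.toRingHom G B g⁻¹ (g • b) := by
            simp [MulSemiringAction.toRingHom_apply]
          rw [this]
          exact Ideal.mem_map_of_mem _ ((hQmem g b).mp hb)
        · rw [Ideal.map_le_iff_le_comap]
          intro b hb
          change g • (g⁻¹ • b) ∈ P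
          rwa [smul_inv_smul]
      rw [h1, ← hS, Ideal.map_span]
      congr 1
      ext b
      simp [MulSemiringAction.toRingHom_apply]
    have hsub : Set.range Q ⊆ (fun t : S → B ↦ Ideal.span (Set.range t)) ''
        (Set.univ.pi fun s : S ↦ MulAction.orbit G (s : B)) := by
      rintro _ ⟨g, rfl⟩
      exact ⟨fun s ↦ g⁻¹ • (s : B), fun s _ ↦ ⟨g⁻¹, rfl⟩, (hQspan g).symm⟩
    exact ((Set.Finite.pi fun s : S ↦ hfin (s : B)).image _).subset hsub
  have hcover : (P' : Set B) ⊆ ⋃ I ∈ (hQfin.toFinset : Set (Ideal B)), (I : Set B) := by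
    intro b hb
    set O := (hfin b).toFinset with hO
    have hbO : b ∈ O := by
      rw [hO, Set.Finite.mem_toFinset]; exact MulAction.mem_orbit_self b
    have hN : ∀ g : G, g • (∏ b' ∈ O, b') = ∏ b' ∈ O, b' := by
      intro g
      rw [← MulSemiringAction.toRingHom_apply, map_prod]
      refine Finset.prod_nbij' (fun b' ↦ g • b') (fun b' ↦ g⁻¹ • b') ?_ ?_ ?_ ?_ ?_
      · intro a ha
        rw [hO, Set.Finite.mem_toFinset] at ha ⊢
        obtain ⟨g', rfl⟩ := ha
        exact ⟨g * g', mul_smul _ _ _⟩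
      · intro a ha
        rw [hO, Set.Finite.mem_toFinset] at ha ⊢
        obtain ⟨g', rfl⟩ := ha
        exact ⟨g⁻¹ * g', mul_smul _ _ _⟩
      · intro a _; exact inv_smul_smul g a
      · intro a _; exact smul_inv_smul g a
      · intro a _; rfl
    obtain ⟨a, ha⟩ := hinv _ hN
    have hNP' : ∏ b' ∈ O, b' ∈ P' := Ideal.prod_mem P' hbO hb
    have haP : a ∈ P'.comap (algebraMap A B) := by
      rw [Ideal.mem_comap, ha]; exact hNP'
    rw [← h, Ideal.mem_comap, ha] at haP
    obtain ⟨b', hb'O, hb'P⟩ := Ideal.IsPrime.prod_mem_iff.mp haP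
    rw [hO, Set.Finite.mem_toFinset] at hb'O
    obtain ⟨g, rfl⟩ := hb'O
    simp only [Set.mem_iUnion, SetLike.mem_coe, Set.Finite.coe_toFinset, Set.mem_range,
      exists_prop, exists_exists_eq_and]
    exact ⟨g, hb'P⟩
  obtain ⟨I, hI, hle⟩ := (Ideal.subset_union_prime (f := fun I : Ideal B ↦ I) ⊥ ⊥
    (fun I hI _ _ ↦ by
      obtain ⟨g, rfl⟩ := hQfin.mem_toFinset.mp hI
      exact hQprime g)).mp hcover
  obtain ⟨g, rfl⟩ := hQfin.mem_toFinset.mp hI
  have := hQprime g
  exact ⟨g, hincomp P' (Q g) hle (h.symm.trans (hQA g).symm)⟩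

end Abstract

section Tensor

variable (k : Type u) [Field k] (K : Type u) [Field K] [Algebra k K]
  (A : Type u) [CommRing A] [Algebra k A]

/-- `g ↦ id ⊗ g`. -/
noncomputable def galHom : (K ≃ₐ[k] K) →* (A ⊗[k] K →ₐ[k] A ⊗[k] K) where
  toFun g := Algebra.TensorProduct.map (AlgHom.id k A) (g : K →ₐ[k] K)
  map_one' := by
    apply Algebra.TensorProduct.ext'
    intro a c
    simp
  map_mul' g h := by
    apply Algebra.TensorProduct.ext'
    intro a c
    simp [AlgHom.mul_apply]

@[simp] lemma galHom_tmul (g : K ≃ₐ[k] K) (a : A) (c : K) :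
    galHom k K A g (a ⊗ₜ c) = a ⊗ₜ g c := by
  simp [galHom]

/-- `g ↦ id ⊗ g` as ring endomorphisms. -/
noncomputable def galHomRing : (K ≃ₐ[k] K) →* (A ⊗[k] K →+* A ⊗[k] K) where
  toFun g := (galHom k K A g).toRingHom
  map_one' := by rw [map_one]; rfl
  map_mul' g h := by rw [map_mul]; rfl

/-- The action of `Gal(K/k)` on `A ⊗[k] K` through the second factor. -/
noncomputable abbrev galAction : MulSemiringAction (K ≃ₐ[k] K) (A ⊗[k] K) :=
  MulSemiringAction.compHom (A ⊗[k] K) (galHomRing k K A)

attribute [local instance] galAction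

lemma gal_smul_def (g : K ≃ₐ[k] K) (b : A ⊗[k] K) : g • b = galHom k K A g b := rfl

lemma gal_orbit_finite [Algebra.IsAlgebraic k K] (b : A ⊗[k] K) :
    (MulAction.orbit (K ≃ₐ[k] K) b).Finite := by
  induction b using TensorProduct.induction_on with
  | zero =>
    refine (Set.finite_singleton (0 : A ⊗[k] K)).subset ?_
    rintro _ ⟨g, rfl⟩
    exact smul_zero g
  | tmul a c =>
    have hint : IsIntegral k c := Algebra.IsIntegral.isIntegral c
    refine ((Polynomial.rootSet_finite (minpoly k c) K).image (fun c' ↦ a ⊗ₜ[k] c')).subset ?_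
    rintro _ ⟨g, rfl⟩
    refine ⟨g c, ?_, ?_⟩
    · rw [Polynomial.mem_rootSet]
      refine ⟨minpoly.ne_zero hint, ?_⟩
      rw [show g c = (g : K →ₐ[k] K) c from rfl, Polynomial.aeval_algHom_apply, minpoly.aeval,
        map_zero]
    · change _ = galHom k K A g (a ⊗ₜ c)
      rw [galHom_tmul]
  | add x y hx hy =>
    refine (Set.Finite.image2 (· + ·) hx hy).subset ?_
    rintro _ ⟨g, rfl⟩
    exact ⟨g • x, ⟨g, rfl⟩, g • y, ⟨g, rfl⟩, (smul_add g x y).symm⟩

lemma mem_range_of_gal_fixed [IsGalois k K] (b : A ⊗[k] K)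
    (hb : ∀ g : K ≃ₐ[k] K, g • b = b) : b ∈ Set.range (algebraMap A (A ⊗[k] K)) := by
  classical
  let ℬ := Module.Free.chooseBasis k A
  let e := TensorProduct.equivFinsuppOfBasisLeft (N := K) ℬ
  have hkey : ∀ (g : K ≃ₐ[k] K) (x : A ⊗[k] K) i, e (galHom k K A g x) i = g (e x i) := by
    intro g x i
    induction x using TensorProduct.induction_on with
    | zero => simp
    | tmul a c =>
      rw [galHom_tmul, TensorProduct.equivFinsuppOfBasisLeft_apply_tmul_apply,
        TensorProduct.equivFinsuppOfBasisLeft_apply_tmul_apply, map_smul]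
    | add x y hx hy =>
      rw [map_add, map_add, Finsupp.add_apply, hx, hy, map_add, Finsupp.add_apply, map_add]
  have hfixed : ∀ i, e b i ∈ Set.range (algebraMap k K) := by
    intro i
    rw [InfiniteGalois.mem_range_algebraMap_iff_fixed]
    intro g
    rw [← hkey, ← gal_smul_def, hb]
  choose r hr using hfixed
  have hb' : b = (e b).sum fun i n ↦ ℬ i ⊗ₜ[k] n := by
    rw [← TensorProduct.equivFinsuppOfBasisLeft_symm_apply, LinearEquiv.symm_apply_apply]
  refine ⟨(e b).sum fun i _ ↦ r i • ℬ i, ?_⟩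
  conv_rhs => rw [hb']
  rw [Finsupp.sum, Finsupp.sum, map_sum]
  refine Finset.sum_congr rfl fun i _ ↦ ?_
  rw [Algebra.TensorProduct.algebraMap_apply, Algebra.algebraMap_self, RingHom.id_apply,
    TensorProduct.smul_tmul, ← hr i, Algebra.algebraMap_eq_smul_one]

/-- For `K/k` Galois and `A` of finite type over `k`, two primes of `A ⊗[k] K` over the same prime
of `A` are conjugate under `Gal(K/k)` acting through the second factor. -/
theorem exists_comap_gal_eq [IsGalois k K] [Algebra.FiniteType k A]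
    (P P' : Ideal (A ⊗[k] K)) [P.IsPrime] [P'.IsPrime]
    (h : P.comap (algebraMap A (A ⊗[k] K)) = P'.comap (algebraMap A (A ⊗[k] K))) :
    ∃ g : K ≃ₐ[k] K, P' = P.comap (galHom k K A g).toRingHom := by
  have hnoeth : IsNoetherianRing (A ⊗[k] K) := by
    have : IsNoetherianRing (K ⊗[k] A) := Algebra.FiniteType.isNoetherianRing K (K ⊗[k] A)
    exact isNoetherianRing_of_ringEquiv _ (Algebra.TensorProduct.comm k K A).toRingEquiv
  have : Algebra.IsAlgebraic k K := inferInstance
  obtain ⟨g, hg⟩ := exists_comap_smul_eq_of_finite_orbits (A := A) (G := K ≃ₐ[k] K)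
    (fun g a ↦ by
      rw [gal_smul_def, Algebra.TensorProduct.algebraMap_apply, galHom_tmul, map_one])
    (fun b hb ↦ mem_range_of_gal_fixed k K A b hb)
    (fun b ↦ gal_orbit_finite k K A b) P P'
    ((isNoetherianRing_iff_ideal_fg _).mp hnoeth P) h
  have hgg : MulSemiringAction.toRingHom (K ≃ₐ[k] K) (A ⊗[k] K) g = (galHom k K A g).toRingHom :=
    RingHom.ext fun b ↦ rfl
  rw [hgg] at hg
  exact ⟨g, hg⟩

end Tensor

end Groth.Agent.Lib.GalOrbit37
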