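/-
Galois descent for vector spaces (helper57).

Setting: `K/k` finite Galois, `M` a `K`-vector space with a semilinear action `ρ` of
`Γ = K ≃ₐ[k] K` given as a bare family of maps `ρ : Γ → M → M` (so that twisted actions
`x ↦ a σ (σ • x)` need no new instances).

Main results:
* `lift_surjective`: if every `ρ`-fixed vector is in the range of `ι : W →ₗ[k] M`, then
  `K ⊗[k] W → M`, `c ⊗ w ↦ c • ι w` is surjective.
* `lift_injective`: if `ι` is injective with `ρ`-fixed values, that map is injective.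
* `descentEquiv`: the resulting `K ⊗[k] W ≃ₗ[K] M`.
* `exists_eq_one_tmul_of_fixed`: Γ-fixed vectors of `K ⊗[k] W` are of the form `1 ⊗ w`.
* `one_tmul_injective`.
* `exists_linearEquiv_of_equivariant`: a Γ-equivariant `K`-linear iso `K ⊗ W ≃ K ⊗ W'` descends
  to a `k`-linear iso `W ≃ W'`.
-/
import Mathlib.RingTheory.Trace.Basic
import Mathlib.FieldTheory.Galois.Basic
import Mathlib.FieldTheory.Fixed
import Mathlib.RingTheory.TensorProduct.Basic
import Mathlib.RingTheory.Flat.Basic
import Mathlib.LinearAlgebra.BilinearForm.Properties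
import Mathlib.LinearAlgebra.Dual.Lemmas

set_option autoImplicit false
set_option linter.unusedSectionVars false
universe u v w x y

open scoped TensorProduct

namespace Groth.Agent.Lib.GaloisDescentVS

section Descent

variable {k : Type u} {K : Type v} [Field k] [Field K] [Algebra k K]
  [FiniteDimensional k K] [IsGalois k K]
variable {M : Type w} [AddCommGroup M] [Module K M] [Module k M] [IsScalarTower k K M]

/-- A semilinear action of the Galois group, as a bare family of maps. -/
structure IsSemiAction (ρ : (K ≃ₐ[k] K) → M → M) : Prop where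
  add : ∀ σ x y, ρ σ (x + y) = ρ σ x + ρ σ y
  one : ∀ x, ρ 1 x = x
  mul : ∀ σ τ x, ρ (σ * τ) x = ρ σ (ρ τ x)
  smul : ∀ σ (c : K) x, ρ σ (c • x) = σ c • ρ σ x

variable {ρ : (K ≃ₐ[k] K) → M → M}

namespace IsSemiAction

/-- `ρ σ` as an additive hom. -/
def hom (hρ : IsSemiAction ρ) (σ : K ≃ₐ[k] K) : M →+ M :=
  AddMonoidHom.mk' (ρ σ) (hρ.add σ)

@[simp] theorem hom_apply (hρ : IsSemiAction ρ) (σ : K ≃ₐ[k] K) (x : M) : hρ.hom σ x = ρ σ x := rfl

theorem map_zero (hρ : IsSemiAction ρ) (σ : K ≃ₐ[k] K) : ρ σ 0 = 0 := (hρ.hom σ).map_zero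

theorem map_sum (hρ : IsSemiAction ρ) (σ : K ≃ₐ[k] K) {ι : Type*} (s : Finset ι) (f : ι → M) :
    ρ σ (∑ i ∈ s, f i) = ∑ i ∈ s, ρ σ (f i) := _root_.map_sum (hρ.hom σ) f s

/-- The averaging operator `x ↦ ∑ σ, ρ σ (c • x)`. -/
noncomputable def avg (_hρ : IsSemiAction ρ) (c : K) (x : M) : M :=
  ∑ σ : K ≃ₐ[k] K, ρ σ (c • x)

theorem avg_fixed (hρ : IsSemiAction ρ) (c : K) (x : M) (τ : K ≃ₐ[k] K) :
    ρ τ (hρ.avg c x) = hρ.avg c x := by
  unfold avg
  rw [hρ.map_sum]
  simp only [← hρ.mul]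
  exact Fintype.sum_equiv (Equiv.mulLeft τ) _ _ (fun σ => rfl)

theorem avg_add (hρ : IsSemiAction ρ) (c : K) (x y : M) :
    hρ.avg c (x + y) = hρ.avg c x + hρ.avg c y := by
  unfold avg
  simp only [smul_add, hρ.add, Finset.sum_add_distrib]

theorem avg_zero (hρ : IsSemiAction ρ) (c : K) : hρ.avg c (0 : M) = 0 := by
  unfold avg
  simp only [smul_zero, hρ.map_zero, Finset.sum_const_zero]

/-- On a fixed vector the average is multiplication by the trace. -/
theorem avg_smul_of_fixed (hρ : IsSemiAction ρ) (c d : K) (x : M) (hx : ∀ σ, ρ σ x = x) :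
    hρ.avg c (d • x) = Algebra.trace k K (c * d) • x := by
  unfold avg
  simp only [smul_smul, hρ.smul, hx]
  rw [← Finset.sum_smul, ← trace_eq_sum_automorphisms, algebraMap_smul]

end IsSemiAction

variable {W : Type x} [AddCommGroup W] [Module k W]

/-- Surjectivity part of Galois descent. -/
theorem lift_surjective (hρ : IsSemiAction ρ) (ι : W →ₗ[k] M)
    (hrange : ∀ x : M, (∀ σ, ρ σ x = x) → x ∈ LinearMap.range ι) :
    Function.Surjective (ι.liftBaseChange K) := by
  rw [← LinearMap.range_eq_top]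
  by_contra hne
  obtain ⟨u, hu0, hu⟩ := Submodule.exists_le_ker_of_lt_top _ (lt_top_iff_ne_top.2 hne)
  apply hu0
  refine LinearMap.ext fun x => ?_
  -- for all `c`, `u (avg c x) = 0`
  have hzero : ∀ c : K, u (hρ.avg c x) = 0 := by
    intro c
    obtain ⟨w, hw⟩ := hrange _ (hρ.avg_fixed c x)
    apply hu
    exact ⟨1 ⊗ₜ w, by simp [hw]⟩
  have hli := linearIndependent_toLinearMap k K K
  have hli' : LinearIndependent K
      (fun σ : K ≃ₐ[k] K => ((σ : K →ₐ[k] K).toLinearMap : K →ₗ[k] K)) :=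
    hli.comp (fun σ : K ≃ₐ[k] K => (σ : K →ₐ[k] K))
      (fun σ τ h => AlgEquiv.coe_toAlgHom_injective h)
  rw [Fintype.linearIndependent_iff] at hli'
  have key := hli' (fun σ => u (ρ σ x)) (by
    ext c
    have h2 := hzero c
    simp only [IsSemiAction.avg, _root_.map_sum, hρ.smul, map_smul, smul_eq_mul] at h2
    simp only [LinearMap.coe_sum, Finset.sum_apply, LinearMap.smul_apply, LinearMap.zero_apply,
      AlgHom.toLinearMap_apply, AlgEquiv.coe_toAlgHom, smul_eq_mul]
    rw [← h2]
    exact Finset.sum_congr rfl (fun σ _ => mul_comm _ _)) 1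
  simpa [hρ.one] using key

/-- Injectivity part of Galois descent. -/
theorem lift_injective (hρ : IsSemiAction ρ) (ι : W →ₗ[k] M) (hι : Function.Injective ι)
    (hfix : ∀ w σ, ρ σ (ι w) = ι w) :
    Function.Injective (ι.liftBaseChange K) := by
  classical
  let n := Module.finrank k K
  let b : Module.Basis (Fin n) k K := Module.finBasis k K
  let B := Algebra.traceForm k K
  have hB : B.Nondegenerate := traceForm_nondegenerate k K
  let b' := B.dualBasis hB b
  -- coordinate maps
  let Φ : Fin n → (K ⊗[k] W →ₗ[k] W) := fun i =>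
    TensorProduct.lift ((LinearMap.lsmul k W).comp (B.flip (b i)))
  have hΦ : ∀ i (c : K) (w : W), Φ i (c ⊗ₜ w) = Algebra.trace k K (c * b i) • w := by
    intro i c w
    simp [Φ, B, Algebra.traceForm_apply]
  have key1 : ∀ i (z : K ⊗[k] W), ι (Φ i z) = hρ.avg (b i) (ι.liftBaseChange K z) := by
    intro i z
    induction z using TensorProduct.induction_on with
    | zero => simp [hρ.avg_zero]
    | tmul c w =>
      rw [hΦ, LinearMap.liftBaseChange_tmul, hρ.avg_smul_of_fixed _ _ _ (hfix w), map_smul,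
        mul_comm]
    | add z z' hz hz' => simp only [map_add, hz, hz', hρ.avg_add]
  have key2 : ∀ z : K ⊗[k] W, z = ∑ i, b' i ⊗ₜ[k] Φ i z := by
    intro z
    induction z using TensorProduct.induction_on with
    | zero => simp
    | tmul c w =>
      simp only [hΦ]
      have hc : c = ∑ i, Algebra.trace k K (c * b i) • b' i := by
        conv_lhs => rw [← b'.sum_repr c]
        refine Finset.sum_congr rfl fun i _ => ?_
        rw [LinearMap.BilinForm.dualBasis_repr_apply]
        rfl
      conv_lhs => rw [hc, TensorProduct.sum_tmul]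
      refine Finset.sum_congr rfl fun i _ => ?_
      rw [TensorProduct.smul_tmul]
    | add z z' hz hz' =>
      simp only [map_add, TensorProduct.tmul_add, Finset.sum_add_distrib]
      rw [← hz, ← hz']
  rw [injective_iff_map_eq_zero]
  intro z hz
  rw [key2 z]
  refine Finset.sum_eq_zero fun i _ => ?_
  have : Φ i z = 0 := by
    apply hι
    rw [key1, hz, hρ.avg_zero, map_zero]
  rw [this, TensorProduct.tmul_zero]

/-- Galois descent: `K ⊗[k] W ≃ₗ[K] M` when `ι : W → M` identifies `W` with the fixed vectors. -/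
noncomputable def descentEquiv (hρ : IsSemiAction ρ) (ι : W →ₗ[k] M) (hι : Function.Injective ι)
    (hW : ∀ x : M, x ∈ LinearMap.range ι ↔ ∀ σ, ρ σ x = x) : K ⊗[k] W ≃ₗ[K] M :=
  LinearEquiv.ofBijective (ι.liftBaseChange K)
    ⟨lift_injective hρ ι hι (fun w σ => (hW (ι w)).mp ⟨w, rfl⟩ σ),
      lift_surjective hρ ι (fun x hx => (hW x).mpr hx)⟩

@[simp] theorem descentEquiv_tmul (hρ : IsSemiAction ρ) (ι : W →ₗ[k] M) (hι : Function.Injective ι)
    (hW : ∀ x : M, x ∈ LinearMap.range ι ↔ ∀ σ, ρ σ x = x) (c : K) (w : W) :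
    descentEquiv hρ ι hι hW (c ⊗ₜ w) = c • ι w := rfl

theorem descentEquiv_apply (hρ : IsSemiAction ρ) (ι : W →ₗ[k] M) (hι : Function.Injective ι)
    (hW : ∀ x : M, x ∈ LinearMap.range ι ↔ ∀ σ, ρ σ x = x) (z : K ⊗[k] W) :
    descentEquiv hρ ι hι hW z = ι.liftBaseChange K z := rfl

end Descent

section Fixed

variable {k : Type u} {K : Type v} [Field k] [Field K] [Algebra k K]
  [FiniteDimensional k K] [IsGalois k K]
variable {W : Type x} [AddCommGroup W] [Module k W] {W' : Type y} [AddCommGroup W'] [Module k W']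

/-- Semilinearity of the action on the left factor. -/
theorem smul_smul_tensor (σ : K ≃ₐ[k] K) (c : K) (z : K ⊗[k] W) :
    σ • (c • z) = σ c • σ • z := by
  induction z using TensorProduct.induction_on with
  | zero => simp
  | tmul a w =>
    simp only [TensorProduct.smul_tmul', smul_eq_mul, AlgEquiv.smul_def, map_mul]
  | add z z' hz hz' => simp only [smul_add, hz, hz']

/-- The standard action on `K ⊗[k] W` is a semilinear action. -/
theorem isSemiAction_tensor :
    IsSemiAction (k := k) (K := K) (M := K ⊗[k] W) (fun σ z => σ • z) where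
  add σ x y := smul_add σ x y
  one x := one_smul _ x
  mul σ τ x := mul_smul σ τ x
  smul σ c x := smul_smul_tensor σ c x

theorem sum_smul_eq_one_tmul (z : K ⊗[k] W) :
    ∃ w : W, ∑ σ : K ≃ₐ[k] K, σ • z = 1 ⊗ₜ[k] w := by
  induction z using TensorProduct.induction_on with
  | zero => exact ⟨0, by simp⟩
  | tmul c w =>
    refine ⟨Algebra.trace k K c • w, ?_⟩
    simp only [TensorProduct.smul_tmul', AlgEquiv.smul_def]
    rw [← TensorProduct.sum_tmul, ← trace_eq_sum_automorphisms, Algebra.algebraMap_eq_smul_one,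
      TensorProduct.smul_tmul]
  | add z z' hz hz' =>
    obtain ⟨w, hw⟩ := hz
    obtain ⟨w', hw'⟩ := hz'
    exact ⟨w + w', by simp only [smul_add, Finset.sum_add_distrib, hw, hw', TensorProduct.tmul_add]⟩

/-- Galois-fixed vectors of `K ⊗[k] W` come from `W`. -/
theorem exists_eq_one_tmul_of_fixed (z : K ⊗[k] W) (hz : ∀ σ : K ≃ₐ[k] K, σ • z = z) :
    ∃ w : W, z = 1 ⊗ₜ[k] w := by
  obtain ⟨c₀, hc₀⟩ := Algebra.trace_surjective k K 1
  obtain ⟨w, hw⟩ := sum_smul_eq_one_tmul (k := k) (c₀ • z)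
  refine ⟨w, ?_⟩
  rw [← hw]
  simp only [smul_smul_tensor, hz]
  rw [← Finset.sum_smul, ← trace_eq_sum_automorphisms, hc₀, map_one, one_smul]

variable (k K W) in
theorem one_tmul_injective : Function.Injective (fun w : W => (1 : K) ⊗ₜ[k] w) :=
  Module.Flat.tensorProduct_mk_injective k W K

theorem smul_one_tmul (σ : K ≃ₐ[k] K) (w : W) : σ • ((1 : K) ⊗ₜ[k] w) = 1 ⊗ₜ[k] w := by
  rw [TensorProduct.smul_tmul', AlgEquiv.smul_def, map_one]

/-- A Galois-equivariant additive bijection `K ⊗ W → K ⊗ W'` preserving the subgroups `1 ⊗ -`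
descends.  Stated for `K`-linear equivalences. -/
theorem exists_linearEquiv_of_equivariant (h : K ⊗[k] W ≃ₗ[K] K ⊗[k] W')
    (hh : ∀ (σ : K ≃ₐ[k] K) z, h (σ • z) = σ • h z) :
    ∃ e : W ≃ₗ[k] W', ∀ w, h (1 ⊗ₜ[k] w) = 1 ⊗ₜ[k] e w := by
  have hh' : ∀ (σ : K ≃ₐ[k] K) z, h.symm (σ • z) = σ • h.symm z := by
    intro σ z
    apply h.injective
    rw [hh, h.apply_symm_apply, h.apply_symm_apply]
  have h1 : ∀ w : W, ∃ w' : W', h (1 ⊗ₜ[k] w) = 1 ⊗ₜ[k] w' := fun w =>
    exists_eq_one_tmul_of_fixed _ (fun σ => by rw [← hh, smul_one_tmul])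
  have h2 : ∀ w' : W', ∃ w : W, h.symm (1 ⊗ₜ[k] w') = 1 ⊗ₜ[k] w := fun w' =>
    exists_eq_one_tmul_of_fixed _ (fun σ => by rw [← hh', smul_one_tmul])
  choose f hf using h1
  choose g hg using h2
  have injW := one_tmul_injective k K W
  have injW' := one_tmul_injective k K W'
  refine ⟨{ toFun := f
            invFun := g
            map_add' := fun a b => injW' (by
              show (1 : K) ⊗ₜ[k] f (a + b) = 1 ⊗ₜ[k] (f a + f b)
              rw [← hf, TensorProduct.tmul_add, map_add, hf, hf, TensorProduct.tmul_add])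
            map_smul' := fun r a => injW' (by
              show (1 : K) ⊗ₜ[k] f (r • a) = 1 ⊗ₜ[k] ((RingHom.id k) r • f a)
              rw [← hf, RingHom.id_apply, TensorProduct.tmul_smul, TensorProduct.tmul_smul,
                ← algebraMap_smul K r ((1 : K) ⊗ₜ[k] a), map_smul, hf, algebraMap_smul])
            left_inv := fun a => injW (by
              show (1 : K) ⊗ₜ[k] g (f a) = 1 ⊗ₜ[k] a
              rw [← hg, ← hf, h.symm_apply_apply])
            right_inv := fun a => injW' (by
              show (1 : K) ⊗ₜ[k] f (g a) = 1 ⊗ₜ[k] a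
              rw [← hf, ← hg, h.apply_symm_apply]) }, fun w => hf w⟩

end Fixed

end Groth.Agent.Lib.GaloisDescentVS
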