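import Mathlib.CategoryTheory.Galois.Equivalence
import Mathlib.CategoryTheory.Galois.Full

/-!
# Essential surjectivity for Galois categories, elementwise

For a fibre functor `Φ` on a Galois category (any universes), every finite set with a continuous
action of `Aut Φ` is equivariantly in bijection with the fibre of an object.  Also: equivariant
bijections between fibres lift to isomorphisms.
-/

set_option autoImplicit false
universe u v w

open CategoryTheory PreGaloisCategory

namespace Groth.Agent.Lib.GaloisEssSurj

open scoped FintypeCatDiscrete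

variable {D : Type u} [Category.{v} D] [GaloisCategory D]
  (Φ : D ⥤ FintypeCat.{w}) [FiberFunctor Φ]

/-- Every finite `Aut Φ`-set with open stabilizers is the fibre of an object. -/
theorem exists_obj_equiv (S : FintypeCat.{w}) [MulAction (Aut Φ) S]
    (hopen : ∀ s : S, IsOpen (MulAction.stabilizer (Aut Φ) s : Set (Aut Φ))) :
    ∃ (X : D) (e : Φ.obj X ≃ S), ∀ (g : Aut Φ) (z : Φ.obj X), e (g • z) = g • e z := by
  have hcont : ContinuousSMul (Aut Φ) S := continuousSMul_iff_stabilizer_isOpen.mpr hopen
  let Y : ContAction FintypeCat.{w} (Aut Φ) :=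
    ⟨Action.FintypeCat.ofMulAction (Aut Φ) S, hcont⟩
  obtain ⟨X, ⟨i⟩⟩ : ∃ X : D, Nonempty ((functorToContAction Φ).obj X ≅ Y) :=
    ⟨(functorToContAction Φ).objPreimage Y, ⟨(functorToContAction Φ).objObjPreimageIso Y⟩⟩
  let f : Φ.obj X → S := fun z => i.hom.hom.hom z
  let f' : S → Φ.obj X := fun s => i.inv.hom.hom s
  have h1 : ∀ z, f' (f z) = z := fun z => by
    have := congrArg (fun ψ => ψ.hom.hom z) i.hom_inv_id
    exact this
  have h2 : ∀ s, f (f' s) = s := fun s => by
    have := congrArg (fun ψ => ψ.hom.hom s) i.inv_hom_id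
    exact this
  refine ⟨X, ⟨f, f', h1, h2⟩, fun g z => ?_⟩
  have := congrArg (fun ψ => ψ z) (i.hom.hom.comm g)
  exact this

/-- An equivariant bijection between fibres comes from an isomorphism. -/
theorem nonempty_iso_of_equivariant (X Y : D) (e : Φ.obj X ≃ Φ.obj Y)
    (he : ∀ (g : Aut Φ) (z : Φ.obj X), e (g • z) = g • e z) : Nonempty (X ≅ Y) := by
  let φ : (functorToAction Φ).obj X ⟶ (functorToAction Φ).obj Y :=
    { hom := FintypeCat.homMk e
      comm := fun g => by
        ext z
        exact he g z }
  obtain ⟨f, hf⟩ := (functorToAction Φ).map_surjective φ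
  have hf' : ∀ z, Φ.map f z = e z := fun z => by
    have := congrArg (fun ψ => ψ.hom z) hf
    exact this
  have hiso : IsIso (Φ.map f) := by
    apply (ConcreteCategory.isIso_iff_bijective (Φ.map f)).mpr
    constructor
    · intro z z' hz
      rw [hf', hf'] at hz
      exact e.injective hz
    · intro y
      exact ⟨e.symm y, by rw [hf', Equiv.apply_symm_apply]⟩
  have : IsIso f := isIso_of_reflects_iso f Φ
  exact ⟨asIso f⟩

end Groth.Agent.Lib.GaloisEssSurj
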