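import Mathlib

/-!
# Galois ring extensions with denominators (Chase–Harrison–Rosenberg) (helper89)

`G` a finite group acting on a commutative ring `A`, `B = A^G = FixedPoints.subring A G`.

* `jmap : A ⊗[B] A →ₐ[A] (G → A)`, `a ⊗ a' ↦ (a * τ • a')_τ`.
* `tr : A →ₗ[B] B`, the trace `a ↦ ∑ σ, σ • a`.
* `exists_chr` : if `f ∈ (σ • a - a : a ∈ A)` for every `σ ≠ 1`, there is `t ∈ A ⊗[B] A` with
  `jmap t = f ^ (|G| - 1) · δ_1`.
* `sum_tr_smul` : for such `t = ∑ x_l ⊗ y_l`: `∑_l tr (a * x_l) • y_l = f' * a`.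
-/

set_option autoImplicit false
set_option linter.style.haveILetI false

open TensorProduct

namespace Groth.Agent.Lib.GaloisRing89

variable {A : Type*} [CommRing A] {G : Type*} [Group G] [MulSemiringAction G A]

/-- the trace to the ring of invariants. -/
noncomputable def tr [Fintype G] : A →ₗ[FixedPoints.subring A G] (FixedPoints.subring A G) where
  toFun a := ⟨∑ σ : G, σ • a, fun g => by
    rw [Finset.smul_sum]
    exact Fintype.sum_equiv (Equiv.mulLeft g) _ _ (fun σ => by simp [mul_smul])⟩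
  map_add' a b := by
    apply Subtype.ext
    simp [Finset.sum_add_distrib]
  map_smul' b a := by
    apply Subtype.ext
    simp only [RingHom.id_apply, Subring.smul_def, smul_eq_mul, Subring.coe_mul]
    rw [Finset.mul_sum]
    refine Finset.sum_congr rfl fun σ _ => ?_
    rw [smul_mul', b.2 σ]

theorem coe_tr [Fintype G] (a : A) : ((tr (G := G) a : FixedPoints.subring A G) : A) = ∑ σ : G, σ • a := rfl

/-- the coordinate maps `a ⊗ a' ↦ a * τ • a'`. -/
noncomputable def jcoord (τ : G) : A ⊗[FixedPoints.subring A G] A →ₐ[A] A :=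
  Algebra.TensorProduct.productLeftAlgHom (AlgHom.id A A)
    (MulSemiringAction.toAlgHom (FixedPoints.subring A G) A τ)

theorem jcoord_tmul (τ : G) (a a' : A) : jcoord τ (a ⊗ₜ[FixedPoints.subring A G] a') = a * τ • a' := by
  simp [jcoord]

/-- the Galois map `A ⊗[B] A → ∏_G A`. -/
noncomputable def jmap : A ⊗[FixedPoints.subring A G] A →ₐ[A] (G → A) :=
  AlgHom.pi (fun τ => jcoord τ)

theorem jmap_apply (t : A ⊗[FixedPoints.subring A G] A) (τ : G) : jmap t τ = jcoord τ t := rfl

theorem jmap_tmul (a a' : A) (τ : G) :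
    jmap (a ⊗ₜ[FixedPoints.subring A G] a') τ = a * τ • a' := by
  rw [jmap_apply, jcoord_tmul]

/-- the ideal generated by the `σ • a - a`. -/
def fixIdeal (σ : G) : Ideal A := Ideal.span (Set.range fun a : A => σ • a - a)

theorem smul_sub_mem_fixIdeal (σ : G) (a : A) : σ • a - a ∈ fixIdeal σ :=
  Ideal.subset_span ⟨a, rfl⟩

/-- one-step element: `e` with `jmap e σ = 0` and `jmap e 1 = f`. -/
theorem exists_step (σ : G) (f : A) (hf : f ∈ fixIdeal σ) :
    ∃ e : A ⊗[FixedPoints.subring A G] A, jmap e σ = 0 ∧ jmap e 1 = f := by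
  classical
  rw [fixIdeal, Finsupp.mem_ideal_span_range_iff_exists_finsupp] at hf
  obtain ⟨c, hc⟩ := hf
  refine ⟨(c.sum fun a r => r * σ • a) ⊗ₜ 1 - c.sum (fun a r => r ⊗ₜ[FixedPoints.subring A G] a),
    ?_, ?_⟩
  · rw [map_sub, Pi.sub_apply, jmap_tmul, smul_one, mul_one, Finsupp.sum, Finsupp.sum, map_sum,
      Finset.sum_apply, sub_eq_zero]
    refine Finset.sum_congr rfl fun a _ => ?_
    rw [jmap_tmul]
  · rw [map_sub, Pi.sub_apply, jmap_tmul, smul_one, mul_one, Finsupp.sum, Finsupp.sum, map_sum,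
      Finset.sum_apply, ← hc, Finsupp.sum, ← Finset.sum_sub_distrib]
    refine Finset.sum_congr rfl fun a _ => ?_
    rw [jmap_tmul, one_smul, mul_sub]

/-- **Chase–Harrison–Rosenberg element** with denominator `f`. -/
theorem exists_chr [Fintype G] [DecidableEq G] (f : A) (hf : ∀ σ : G, σ ≠ 1 → f ∈ fixIdeal σ) :
    ∃ t : A ⊗[FixedPoints.subring A G] A,
      ∀ τ : G, jmap t τ = if τ = 1 then f ^ (Fintype.card G - 1) else 0 := by
  choose! e he0 he1 using fun σ (hσ : σ ≠ 1) => exists_step σ f (hf σ hσ)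
  refine ⟨∏ σ ∈ Finset.univ.erase (1 : G), e σ, fun τ => ?_⟩
  rw [map_prod, Finset.prod_apply]
  split_ifs with hτ
  · subst hτ
    rw [Finset.prod_congr rfl (fun σ hσ => he1 σ (Finset.ne_of_mem_erase hσ)), Finset.prod_const,
      Finset.card_erase_of_mem (Finset.mem_univ _), Finset.card_univ]
  · exact Finset.prod_eq_zero (Finset.mem_erase.mpr ⟨hτ, Finset.mem_univ _⟩) (he0 τ hτ)

theorem jmap_sum_tmul (S : Finset (A × A)) (τ : G) :
    jmap (∑ l ∈ S, l.1 ⊗ₜ[FixedPoints.subring A G] l.2) τ = ∑ l ∈ S, l.1 * τ • l.2 := by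
  rw [map_sum, Finset.sum_apply]
  exact Finset.sum_congr rfl fun l _ => jmap_tmul _ _ _

/-- the dual basis identity with denominator. -/
theorem sum_tr_mul [Fintype G] [DecidableEq G] (S : Finset (A × A)) (f' : A)
    (h : ∀ τ : G, ∑ l ∈ S, l.1 * τ • l.2 = if τ = 1 then f' else 0) (a : A) :
    ∑ l ∈ S, ((tr (G := G) (a * l.1) : FixedPoints.subring A G) : A) * l.2 = f' * a := by
  simp only [coe_tr]
  calc ∑ l ∈ S, (∑ σ : G, σ • (a * l.1)) * l.2
      = ∑ σ : G, σ • a * σ • (∑ l ∈ S, l.1 * σ⁻¹ • l.2) := by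
        simp_rw [Finset.sum_mul]
        rw [Finset.sum_comm]
        refine Finset.sum_congr rfl fun σ _ => ?_
        rw [Finset.smul_sum, Finset.mul_sum]
        refine Finset.sum_congr rfl fun l _ => ?_
        rw [smul_mul', smul_mul', smul_inv_smul]
        ring
    _ = ∑ σ : G, σ • a * σ • (if σ⁻¹ = 1 then f' else 0) := by simp_rw [h]
    _ = f' * a := by
        rw [Finset.sum_eq_single (1 : G)]
        · simp [mul_comm]
        · intro σ _ hσ
          rw [if_neg (by simpa using hσ), smul_zero, mul_zero]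
        · intro h1
          exact absurd (Finset.mem_univ _) h1

section flat

variable {R : Type*} [CommRing R] (M : Submonoid R) {N F N' : Type*} [AddCommGroup N] [Module R N]
  [AddCommGroup F] [Module R F] [AddCommGroup N'] [Module R N']

/-- If `f • id_N` factors through a flat module and `f ∈ M`, then `M⁻¹ N` is flat. -/
theorem flat_localized_of_factor [Module.Flat R F] (α : N →ₗ[R] F) (β : F →ₗ[R] N) (f : R)
    (hf : f ∈ M) (h : β ∘ₗ α = f • LinearMap.id) (g : N →ₗ[R] N') [IsLocalizedModule M g] :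
    Module.Flat R N' := by
  have hF : Module.Flat R (LocalizedModule M F) := by
    have h1 : Module.Flat R (Localization M) := IsLocalization.flat (Localization M) M
    exact Module.Flat.trans R (Localization M) (LocalizedModule M F)
  let α' : N' →ₗ[R] LocalizedModule M F :=
    IsLocalizedModule.map M g (LocalizedModule.mkLinearMap M F) α
  let β' : LocalizedModule M F →ₗ[R] N' :=
    IsLocalizedModule.map M (LocalizedModule.mkLinearMap M F) g β
  have hcomp : β' ∘ₗ α' = f • LinearMap.id := by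
    rw [← IsLocalizedModule.map_comp' M g (LocalizedModule.mkLinearMap M F) g, h, map_smul,
      IsLocalizedModule.map_id]
  have hu : IsUnit (algebraMap R (Module.End R N') f) :=
    IsLocalizedModule.map_units g ⟨f, hf⟩
  obtain ⟨u, hu⟩ := hu
  let v : N' →ₗ[R] N' := (↑u⁻¹ : Module.End R N')
  have hv : v ∘ₗ (f • LinearMap.id) = LinearMap.id := by
    have h1 : (f • LinearMap.id : N' →ₗ[R] N') = (u : Module.End R N') := by
      rw [hu]
      ext x
      simp
    rw [h1]
    exact Units.inv_mul u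
  refine Module.Flat.of_retract α' (v ∘ₗ β') ?_
  rw [LinearMap.comp_assoc, hcomp, hv]

end flat

section flatInv

variable [Fintype G]

/-- With a denominator `f ∈ A^G` lying in all the ideals `(σ a - a)`, `σ ≠ 1`, the ring `A` becomes
flat over `A^G` after inverting any submonoid of `A^G` containing `f`. -/
theorem flat_localization (M : Submonoid (FixedPoints.subring A G)) (f : FixedPoints.subring A G)
    (hf : f ∈ M) (hfix : ∀ σ : G, σ ≠ 1 → (f : A) ∈ fixIdeal σ)
    (A' : Type*) [CommRing A'] [Algebra A A'] [Algebra (FixedPoints.subring A G) A']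
    [IsScalarTower (FixedPoints.subring A G) A A']
    [IsLocalization (Algebra.algebraMapSubmonoid A M) A'] :
    Module.Flat (FixedPoints.subring A G) A' := by
  classical
  obtain ⟨t, ht⟩ := exists_chr (f : A) hfix
  obtain ⟨S, hS⟩ := TensorProduct.exists_finset t
  have hsum : ∀ τ : G, ∑ l ∈ S, l.1 * τ • l.2 =
      if τ = 1 then ((f ^ (Fintype.card G - 1) : FixedPoints.subring A G) : A) else 0 := by
    intro τ
    rw [← jmap_sum_tmul, ← hS, ht]
    rfl
  let α : A →ₗ[FixedPoints.subring A G] (S → FixedPoints.subring A G) :=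
    LinearMap.pi fun l => tr (G := G) ∘ₗ LinearMap.mulRight (FixedPoints.subring A G) (l.1.1 : A)
  let β : (S → FixedPoints.subring A G) →ₗ[FixedPoints.subring A G] A :=
    Fintype.linearCombination (FixedPoints.subring A G) (fun l : S => (l.1.2 : A))
  have hβα : β ∘ₗ α = (f ^ (Fintype.card G - 1)) • LinearMap.id := by
    ext a
    have := sum_tr_mul (G := G) S _ hsum a
    rw [LinearMap.comp_apply, Fintype.linearCombination_apply, LinearMap.smul_apply,
      LinearMap.id_apply, Subring.smul_def, smul_eq_mul, ← this, ← Finset.sum_coe_sort S]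
    refine Finset.sum_congr rfl fun l _ => ?_
    rw [Subring.smul_def, smul_eq_mul]
    rfl
  have hloc : IsLocalizedModule M
      (IsScalarTower.toAlgHom (FixedPoints.subring A G) A A').toLinearMap :=
    isLocalizedModule_iff_isLocalization.mpr inferInstance
  exact flat_localized_of_factor M α β _ (pow_mem hf _) hβα
    (IsScalarTower.toAlgHom (FixedPoints.subring A G) A A').toLinearMap

end flatInv

section denominators

instance : Algebra.IsInvariant (FixedPoints.subring A G) A G :=
  ⟨fun b hb => ⟨⟨b, hb⟩, rfl⟩⟩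

theorem isIntegral_fixedPoints [Finite G] : Algebra.IsIntegral (FixedPoints.subring A G) A :=
  Algebra.IsInvariant.isIntegral (FixedPoints.subring A G) A G

theorem mem_inertia_of_fixIdeal_le (σ : G) (Q : Ideal A) (h : fixIdeal σ ≤ Q) : σ ∈ Q.inertia G :=
  fun a => h (smul_sub_mem_fixIdeal σ a)

/-- If all primes of `A` over the prime `q` of `A^G` have trivial inertia, there is a common
denominator `f ∈ A^G ∖ q` lying in all the ideals `(σ a - a)`, `σ ≠ 1`. -/
theorem exists_denominator [Finite G] (q : Ideal (FixedPoints.subring A G)) [q.IsPrime]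
    (hq : ∀ Q : Ideal A, Q.IsPrime → Q.comap (algebraMap (FixedPoints.subring A G) A) = q →
      Q.inertia G = ⊥) :
    ∃ f : FixedPoints.subring A G, f ∉ q ∧ ∀ σ : G, σ ≠ 1 → (f : A) ∈ fixIdeal σ := by
  classical
  have := Fintype.ofFinite G
  have hint := isIntegral_fixedPoints (A := A) (G := G)
  have hex : ∀ σ : G, σ ≠ 1 → ∃ f : FixedPoints.subring A G, f ∉ q ∧ (f : A) ∈ fixIdeal σ := by
    intro σ hσ
    by_contra hcon
    have hle : (fixIdeal σ).comap (algebraMap (FixedPoints.subring A G) A) ≤ q := by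
      intro f hf
      by_contra hfq
      exact hcon ⟨f, hfq, hf⟩
    obtain ⟨Q, hQ, hQp, hQc⟩ := Ideal.exists_ideal_over_prime_of_isIntegral q (fixIdeal σ) hle
    have h1 := mem_inertia_of_fixIdeal_le σ Q hQ
    rw [hq Q hQp hQc, Subgroup.mem_bot] at h1
    exact hσ h1
  choose! g hg1 hg2 using hex
  refine ⟨∏ σ ∈ Finset.univ.erase (1 : G), g σ, ?_, fun σ hσ => ?_⟩
  · intro hmem
    rw [Ideal.IsPrime.prod_mem_iff] at hmem
    obtain ⟨σ, hσ, hσq⟩ := hmem
    exact hg1 σ (Finset.ne_of_mem_erase hσ) hσq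
  · have hσm : σ ∈ Finset.univ.erase (1 : G) := Finset.mem_erase.mpr ⟨hσ, Finset.mem_univ _⟩
    rw [← Finset.mul_prod_erase _ _ hσm, Subring.coe_mul]
    exact Ideal.mul_mem_right _ _ (hg2 σ hσ)

end denominators

end Groth.Agent.Lib.GaloisRing89
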