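import Mathlib

/-!
# Inertia in a quotient group (helper89)

`H` a finite group acting on a commutative `R`-algebra `A`, `K ≤ H` a normal subgroup,
`𝔸 = A^K = FixedPoints.subalgebra R A K` with its action of `H ⧸ K` (Mathlib instance).

* `exists_mul_mem_inertia`: if `g K` lies in the inertia group (in `H ⧸ K`) of a prime `Q` of `A^K`
  and `P` is a prime of `A` over `Q`, then `k * g` lies in the inertia group of `P` for some `k ∈ K`.
-/

set_option autoImplicit false
set_option linter.style.haveILetI false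
set_option linter.unusedSectionVars false

open scoped Pointwise

namespace Groth.Agent.Lib.GaloisSub89

variable {R A : Type*} [CommRing R] [CommRing A] [Algebra R A] {H : Type*} [Group H]
  [MulSemiringAction H A] [SMulCommClass H R A] (K : Subgroup H)

instance isInvariant_subalgebra : Algebra.IsInvariant (FixedPoints.subalgebra R A K) A K :=
  ⟨fun b hb => ⟨⟨b, hb⟩, rfl⟩⟩

variable [K.Normal]

theorem coe_mk_smul (g : H) (x : FixedPoints.subalgebra R A K) :
    (((g : H ⧸ K) • x : FixedPoints.subalgebra R A K) : A) = g • (x : A) := rfl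

theorem mem_inertia_quotient_iff (Q : Ideal (FixedPoints.subalgebra R A K)) (P : Ideal A)
    (hPQ : P.comap (algebraMap (FixedPoints.subalgebra R A K) A) = Q) (g : H) :
    (g : H ⧸ K) ∈ Q.inertia (H ⧸ K) ↔
      ∀ x : FixedPoints.subalgebra R A K, g • (x : A) - x ∈ P := by
  constructor
  · intro h x
    have h1 : (g : H ⧸ K) • x - x ∈ Q := h x
    rw [← hPQ] at h1
    exact h1
  · intro h x
    show (g : H ⧸ K) • x - x ∈ Q
    rw [← hPQ]
    exact h x

/-- **Inertia of a quotient**: the inertia group of `Q = P ∩ A^K` in `H ⧸ K` is the image of the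
inertia group of `P`. -/
theorem exists_mul_mem_inertia [Finite H] (Q : Ideal (FixedPoints.subalgebra R A K)) [Q.IsPrime]
    (P : Ideal A) [P.IsPrime]
    (hPQ : P.comap (algebraMap (FixedPoints.subalgebra R A K) A) = Q) (g : H)
    (hg : (g : H ⧸ K) ∈ Q.inertia (H ⧸ K)) :
    ∃ k ∈ K, k * g ∈ P.inertia H := by
  have hg1 := (mem_inertia_quotient_iff K Q P hPQ g).mp hg
  have hg2 := (mem_inertia_quotient_iff K Q P hPQ g⁻¹).mp (by
    have := (Q.inertia (H ⧸ K)).inv_mem hg
    simpa using this)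
  -- `g • P` lies over the same prime
  have hunder : P.under (FixedPoints.subalgebra R A K) =
      (g • P).under (FixedPoints.subalgebra R A K) := by
    ext x
    rw [Ideal.under_def, Ideal.under_def, Ideal.mem_comap, Ideal.mem_comap,
      Ideal.mem_pointwise_smul_iff_inv_smul_mem]
    have h1 := hg2 x
    constructor
    · intro hx
      have : g⁻¹ • (x : A) = (g⁻¹ • (x : A) - x) + x := by ring
      rw [show algebraMap (FixedPoints.subalgebra R A K) A x = (x : A) from rfl, this]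
      exact P.add_mem h1 hx
    · intro hx
      have : (x : A) = g⁻¹ • (x : A) - (g⁻¹ • (x : A) - x) := by ring
      rw [show algebraMap (FixedPoints.subalgebra R A K) A x = (x : A) from rfl, this]
      exact P.sub_mem hx h1
  obtain ⟨k, hk⟩ := Algebra.IsInvariant.exists_smul_of_under_eq
    (FixedPoints.subalgebra R A K) A K P (g • P) hunder
  -- `g' = k⁻¹ g` stabilizes `P`
  have hstab : ((k : H)⁻¹ * g) • P = P := by
    rw [mul_smul, hk]
    exact inv_smul_smul (k : H) P
  have hLO : P.LiesOver Q := ⟨hPQ.symm⟩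
  -- the induced automorphism of `A ⧸ P`
  let g' : MulAction.stabilizer H P := ⟨(k : H)⁻¹ * g, hstab⟩
  let σ0 := Ideal.Quotient.stabilizerHom P (P.under R) H g'
  have hσ0 : ∀ a : A, σ0 (Ideal.Quotient.mk P a) = Ideal.Quotient.mk P (((k : H)⁻¹ * g) • a) :=
    fun a => rfl
  have hcomm : ∀ x : FixedPoints.subalgebra R A K ⧸ Q,
      σ0.toRingEquiv (algebraMap _ (A ⧸ P) x) = algebraMap _ (A ⧸ P) x := by
    intro x
    obtain ⟨x, rfl⟩ := Ideal.Quotient.mk_surjective x
    show σ0 (Ideal.Quotient.mk P (x : A)) = Ideal.Quotient.mk P (x : A)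
    rw [hσ0, Ideal.Quotient.eq, mul_smul]
    have h2 : (k : H)⁻¹ • (g • (x : A)) = g • (x : A) := by
      have hmem : g • (x : A) ∈ FixedPoints.subalgebra R A K :=
        ((g : H ⧸ K) • x : FixedPoints.subalgebra R A K).2
      exact hmem (k⁻¹)
    rw [h2]
    exact hg1 x
  let σ : (A ⧸ P) ≃ₐ[FixedPoints.subalgebra R A K ⧸ Q] (A ⧸ P) :=
    AlgEquiv.ofRingEquiv (f := σ0.toRingEquiv) hcomm
  obtain ⟨k₂, hk₂⟩ := Ideal.Quotient.stabilizerHom_surjective K Q P σ
  have hk₂' : ∀ a : A, (k₂ : K) • a - ((k : H)⁻¹ * g) • a ∈ P := by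
    intro a
    have h3 : (Ideal.Quotient.stabilizerHom P Q K k₂) (Ideal.Quotient.mk P a) =
        σ (Ideal.Quotient.mk P a) := by rw [hk₂]
    rw [← Ideal.Quotient.eq]
    exact h3
  refine ⟨((k₂ : K) : H)⁻¹ * (k : H)⁻¹, K.mul_mem (K.inv_mem (k₂ : K).2) (K.inv_mem k.2), ?_⟩
  intro a
  show ((((k₂ : K) : H)⁻¹ * (k : H)⁻¹) * g) • a - a ∈ P
  have h4 : ((((k₂ : K) : H)⁻¹ * (k : H)⁻¹) * g) • a - a =
      ((k₂ : K) : H)⁻¹ • (((k : H)⁻¹ * g) • a - ((k₂ : K) : H) • a) := by
    rw [smul_sub, inv_smul_smul, mul_assoc, mul_smul]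
  rw [h4]
  have hk₂stab : ((k₂ : K) : H) • P = P := k₂.2
  have h5 : ((k : H)⁻¹ * g) • a - ((k₂ : K) : H) • a ∈ P := by
    have := hk₂' a
    rw [← neg_sub]
    exact P.neg_mem this
  have h6 : ((k₂ : K) : H)⁻¹ • (((k : H)⁻¹ * g) • a - ((k₂ : K) : H) • a) ∈
      ((k₂ : K) : H)⁻¹ • P := Ideal.smul_mem_pointwise_smul _ _ _ h5
  have h7 : ((k₂ : K) : H)⁻¹ • P = P := by
    rw [inv_smul_eq_iff]
    exact hk₂stab.symm
  rwa [h7] at h6

end Groth.Agent.Lib.GaloisSub89
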