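import Mathlib
import Groth.Agent.Lib.GaloisRing89
import Groth.Agent.Lib.GaloisSub89

/-!
# Chase–Harrison–Rosenberg pairs for the invariants of a normal subgroup (helper89)

`H` finite group acting on an `R`-algebra `A` with `A^H = R`, `K ≤ H` normal, `𝔸 = A^K`.

* `exists_pairs`: if all primes `P` of `A` over the prime `q` of `R` have inertia group inside `K`,
  there are `f ∈ R ∖ q` and pairs `(x_l, y_l)` in `𝔸` with `∑ x_l * h • y_l = f` for `h ∈ K` and
  `= 0` for `h ∉ K`.
* `trG G a = ∑_{g ∈ G} g • a`, `expand`: `f * a = ∑_l trG G (a * x_l) * y_l` if `G ⊓ K = ⊥`.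
* `exists_algebraMap_eq_trG`, `eq_zero_of_sum_mul_eq_zero` (a basis of `𝔸` over `R` is linearly
  independent over `A^G` when `G ⊓ K = ⊥`, `G ⊔ K = ⊤`).
-/

set_option autoImplicit false
set_option linter.style.haveILetI false
set_option linter.unusedSectionVars false

namespace Groth.Agent.Lib.GaloisPairs89

open Groth.Agent.Lib.GaloisRing89 Groth.Agent.Lib.GaloisSub89

variable {R A : Type*} [CommRing R] [CommRing A] [Algebra R A] {H : Type*} [Group H] [Finite H]
  [MulSemiringAction H A] [SMulCommClass H R A]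

/-- `(x_l, y_l)` are Chase–Harrison–Rosenberg pairs in `A^K` with denominator `f`. -/
def IsPairs (K : Subgroup H) (f : R)
    (S : Finset (FixedPoints.subalgebra R A K × FixedPoints.subalgebra R A K)) : Prop :=
  (∀ h ∈ K, ∑ l ∈ S, (l.1 : A) * h • (l.2 : A) = algebraMap R A f) ∧
    ∀ h : H, h ∉ K → ∑ l ∈ S, (l.1 : A) * h • (l.2 : A) = 0

section pairs

variable [Algebra.IsInvariant R A H] (hinj : Function.Injective (algebraMap R A))
  (K : Subgroup H) [K.Normal]

include hinj in
theorem exists_pairs (q : Ideal R) [q.IsPrime]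
    (hq : ∀ P : Ideal A, P.IsPrime → P.comap (algebraMap R A) = q → P.inertia H ≤ K) :
    ∃ (f : R) (S : Finset (FixedPoints.subalgebra R A K × FixedPoints.subalgebra R A K)),
      f ∉ q ∧ IsPairs K f S := by
  classical
  have hinvQ : Algebra.IsInvariant R (FixedPoints.subalgebra R A K) (H ⧸ K) := inferInstance
  -- the base ring as the ring of invariants of `H ⧸ K`
  let ρ : R →+* FixedPoints.subring (FixedPoints.subalgebra R A K) (H ⧸ K) :=
    (algebraMap R (FixedPoints.subalgebra R A K)).codRestrict _
      (fun r σ => smul_algebraMap σ r)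
  have hρ : ∀ r : R, (((ρ r : FixedPoints.subring (FixedPoints.subalgebra R A K) (H ⧸ K)) :
      FixedPoints.subalgebra R A K) : A) = algebraMap R A r := fun r => rfl
  have hρbij : Function.Bijective ρ := by
    constructor
    · intro x y hxy
      apply hinj
      rw [← hρ x, ← hρ y, hxy]
    · intro b
      obtain ⟨r, hr⟩ := Algebra.IsInvariant.isInvariant (A := R) (G := H ⧸ K) b.1 b.2
      exact ⟨r, Subtype.ext hr⟩
  let e : R ≃+* FixedPoints.subring (FixedPoints.subalgebra R A K) (H ⧸ K) :=
    RingEquiv.ofBijective ρ hρbij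
  have he : ∀ r : R, e r = ρ r := fun r => rfl
  have hq'p : (q.comap e.symm.toRingHom).IsPrime := Ideal.comap_isPrime _ _
  have hint : Algebra.IsIntegral (FixedPoints.subalgebra R A K) A :=
    Algebra.IsInvariant.isIntegral (FixedPoints.subalgebra R A K) A K
  have hinj' : Function.Injective (algebraMap (FixedPoints.subalgebra R A K) A) :=
    Subtype.val_injective
  have hq' : ∀ Q : Ideal (FixedPoints.subalgebra R A K), Q.IsPrime →
      Q.comap (algebraMap (FixedPoints.subring (FixedPoints.subalgebra R A K) (H ⧸ K))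
        (FixedPoints.subalgebra R A K)) = q.comap e.symm.toRingHom →
      Q.inertia (H ⧸ K) = ⊥ := by
    intro Q hQ hQq
    obtain ⟨P, -, hPp, hPQ⟩ := Ideal.exists_ideal_over_prime_of_isIntegral Q (⊥ : Ideal A) (by
      intro x hx
      have : algebraMap (FixedPoints.subalgebra R A K) A x = 0 := by simpa using hx
      rw [(map_eq_zero_iff _ hinj').mp this]
      exact zero_mem _)
    have hPq : P.comap (algebraMap R A) = q := by
      ext r
      rw [Ideal.mem_comap]
      have h1 : algebraMap R A r ∈ P ↔ ρ r ∈ Q.comap (algebraMap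
          (FixedPoints.subring (FixedPoints.subalgebra R A K) (H ⧸ K))
          (FixedPoints.subalgebra R A K)) := by
        rw [Ideal.mem_comap, ← hPQ, Ideal.mem_comap]
        rfl
      rw [h1, hQq, Ideal.mem_comap, ← he]
      show e.symm (e r) ∈ q ↔ r ∈ q
      rw [RingEquiv.symm_apply_apply]
    rw [Subgroup.eq_bot_iff_forall]
    intro σ hσ
    obtain ⟨g, rfl⟩ := QuotientGroup.mk_surjective σ
    obtain ⟨k, hk, hkg⟩ := exists_mul_mem_inertia K Q P hPQ g hσ
    have hgK : g ∈ K := (K.mul_mem_cancel_left hk).mp (hq P hPp hPq hkg)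
    exact (QuotientGroup.eq_one_iff g).mpr hgK
  obtain ⟨f', hf'q, hfix⟩ := exists_denominator
    (A := FixedPoints.subalgebra R A K) (G := H ⧸ K) (q.comap e.symm.toRingHom) hq'
  have := Fintype.ofFinite (H ⧸ K)
  obtain ⟨t, ht⟩ := exists_chr (f' : FixedPoints.subalgebra R A K) hfix
  obtain ⟨S, hS⟩ := TensorProduct.exists_finset t
  refine ⟨e.symm (f' ^ (Fintype.card (H ⧸ K) - 1)), S, ?_, ?_⟩
  · intro hmem
    have h1 : f' ^ (Fintype.card (H ⧸ K) - 1) ∈ q.comap e.symm.toRingHom := hmem
    exact hf'q (hq'p.mem_of_pow_mem _ h1)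
  · have hkey : ∀ h : H, ∑ l ∈ S, (l.1 : A) * h • (l.2 : A) =
        ((if (h : H ⧸ K) = 1 then
          ((f' : FixedPoints.subalgebra R A K) ^ (Fintype.card (H ⧸ K) - 1)) else 0 :
          FixedPoints.subalgebra R A K) : A) := by
      intro h
      have h1 := jmap_sum_tmul (G := H ⧸ K) S (h : H ⧸ K)
      rw [← hS, ht] at h1
      rw [h1, AddSubmonoidClass.coe_finsetSum]
      rfl
    have h3 : algebraMap R A (e.symm (f' ^ (Fintype.card (H ⧸ K) - 1))) =
        (((f' ^ (Fintype.card (H ⧸ K) - 1) : FixedPoints.subring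
          (FixedPoints.subalgebra R A K) (H ⧸ K)) : FixedPoints.subalgebra R A K) : A) := by
      rw [← hρ, ← he, RingEquiv.apply_symm_apply]
    constructor
    · intro h hK
      rw [hkey, if_pos ((QuotientGroup.eq_one_iff h).mpr hK), h3]
      rfl
    · intro h hK
      rw [hkey, if_neg (fun h1 => hK ((QuotientGroup.eq_one_iff h).mp h1))]
      rfl

end pairs

section trace

/-- the trace `∑_{g ∈ G} g • a`. -/
noncomputable def trG (G : Subgroup H) (a : A) : A :=
  letI := Fintype.ofFinite G
  ∑ g : G, (g : H) • a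

theorem trG_add (G : Subgroup H) (a b : A) : trG G (a + b) = trG G a + trG G b := by
  unfold trG
  simp only [smul_add, Finset.sum_add_distrib]

theorem trG_zero (G : Subgroup H) : trG G (0 : A) = 0 := by
  unfold trG
  simp

theorem trG_sum (G : Subgroup H) {ι : Type*} (s : Finset ι) (a : ι → A) :
    trG G (∑ i ∈ s, a i) = ∑ i ∈ s, trG G (a i) := by
  classical
  induction s using Finset.induction_on with
  | empty => simp [trG_zero]
  | insert i s hi ih => rw [Finset.sum_insert hi, Finset.sum_insert hi, trG_add, ih]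

theorem trG_mul_of_fixed (G : Subgroup H) (a b : A) (hb : ∀ g ∈ G, g • b = b) :
    trG G (a * b) = trG G a * b := by
  unfold trG
  letI := Fintype.ofFinite G
  rw [Finset.sum_mul]
  refine Finset.sum_congr rfl fun g _ => ?_
  rw [smul_mul', hb g g.2]

theorem trG_algebraMap_mul (G : Subgroup H) (r : R) (a : A) :
    trG G (algebraMap R A r * a) = algebraMap R A r * trG G a := by
  rw [mul_comm, trG_mul_of_fixed G a _ (fun g _ => smul_algebraMap g r), mul_comm]

theorem smul_trG_of_mem (G : Subgroup H) (a : A) (h : H) (hh : h ∈ G) :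
    h • trG G a = trG G a := by
  unfold trG
  letI := Fintype.ofFinite G
  rw [Finset.smul_sum]
  exact Fintype.sum_equiv (Equiv.mulLeft (⟨h, hh⟩ : G)) _ _ (fun g => by simp [mul_smul])

theorem smul_trG_comm (hcomm : ∀ a b : H, a * b = b * a) (G : Subgroup H) (a : A) (h : H) :
    h • trG G a = trG G (h • a) := by
  unfold trG
  letI := Fintype.ofFinite G
  rw [Finset.smul_sum]
  refine Finset.sum_congr rfl fun g _ => ?_
  rw [← mul_smul, ← mul_smul, hcomm]

variable (K : Subgroup H) [K.Normal]

/-- **Expansion**: `f * a = ∑_l tr_G (a * x_l) * y_l`. -/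
theorem expand (G : Subgroup H) (hGK : G ⊓ K = ⊥) (f : R)
    (S : Finset (FixedPoints.subalgebra R A K × FixedPoints.subalgebra R A K))
    (hS : IsPairs K f S) (a : A) :
    algebraMap R A f * a = ∑ l ∈ S, trG G (a * (l.1 : A)) * (l.2 : A) := by
  classical
  unfold trG
  letI := Fintype.ofFinite G
  symm
  calc ∑ l ∈ S, (∑ g : G, (g : H) • (a * (l.1 : A))) * (l.2 : A)
      = ∑ g : G, (g : H) • a * (g : H) • (∑ l ∈ S, (l.1 : A) * (g : H)⁻¹ • (l.2 : A)) := by
        simp_rw [Finset.sum_mul]
        rw [Finset.sum_comm]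
        refine Finset.sum_congr rfl fun g _ => ?_
        rw [Finset.smul_sum, Finset.mul_sum]
        refine Finset.sum_congr rfl fun l _ => ?_
        rw [smul_mul', smul_mul', smul_inv_smul]
        ring
    _ = algebraMap R A f * a := by
        rw [Finset.sum_eq_single (1 : G)]
        · have h1 := hS.1 ((1 : H)⁻¹) (K.inv_mem K.one_mem)
          simp only [Subgroup.coe_one, one_smul]
          rw [h1, mul_comm]
        · intro g _ hg
          have hgK : (g : H)⁻¹ ∉ K := by
            intro hmem
            apply hg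
            have h1 : (g : H) ∈ G ⊓ K := ⟨g.2, by simpa using K.inv_mem hmem⟩
            rw [hGK, Subgroup.mem_bot] at h1
            exact Subtype.ext h1
          rw [hS.2 _ hgK, smul_zero, mul_zero]
        · intro h1
          exact absurd (Finset.mem_univ _) h1

variable [Algebra.IsInvariant R A H]

/-- the trace of an element of `A^K` lies in `R` when `G ⊔ K = ⊤`. -/
theorem exists_algebraMap_eq_trG (hcomm : ∀ a b : H, a * b = b * a) (G : Subgroup H)
    (hsup : G ⊔ K = ⊤) (x : FixedPoints.subalgebra R A K) :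
    ∃ r : R, algebraMap R A r = trG G (x : A) := by
  apply Algebra.IsInvariant.isInvariant (A := R) (G := H)
  intro h
  have hh : h ∈ ((G ⊔ K : Subgroup H) : Set H) := by rw [hsup]; trivial
  rw [Subgroup.mul_normal] at hh
  obtain ⟨g, hg, k, hk, rfl⟩ := Set.mem_mul.mp hh
  have hkx : k • (x : A) = x := x.2 ⟨k, hk⟩
  rw [mul_smul, smul_trG_comm hcomm G _ k, hkx, smul_trG_of_mem G _ g hg]

/-- a basis of `A^K` over `R` is linearly independent over `A^G`. -/
theorem eq_zero_of_sum_mul_eq_zero [IsDomain A] (hinj : Function.Injective (algebraMap R A))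
    (hcomm : ∀ a b : H, a * b = b * a) (G : Subgroup H)
    (hGK : G ⊓ K = ⊥) (hsup : G ⊔ K = ⊤) {ι : Type*} [Fintype ι]
    (e : Module.Basis ι R (FixedPoints.subalgebra R A K)) (f : R) (hf : f ≠ 0)
    (S : Finset (FixedPoints.subalgebra R A K × FixedPoints.subalgebra R A K))
    (hS : IsPairs K f S) (b : ι → A) (hb : ∀ l, ∀ g ∈ G, g • b l = b l) (h0 : ∑ l, (e l : A) * b l = 0) (m : ι) :
    b m = 0 := by
  classical
  -- traces of `x_i * e_l` as elements of `R`
  choose r hr using fun (i : FixedPoints.subalgebra R A K × FixedPoints.subalgebra R A K)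
    (l : ι) => exists_algebraMap_eq_trG K hcomm G hsup (e l * i.1)
  -- `f • e_l = ∑_i r i l • y_i`
  have h1 : ∀ l, f • e l = ∑ i ∈ S, r i l • i.2 := by
    intro l
    apply Subtype.ext
    have h2 := expand K G hGK f S hS (e l : A)
    rw [Subalgebra.coe_smul, Algebra.smul_def, h2, AddSubmonoidClass.coe_finsetSum]
    refine Finset.sum_congr rfl fun i _ => ?_
    rw [Subalgebra.coe_smul, Algebra.smul_def, hr]
    rfl
  have h3 : ∀ l, f * (if l = m then 1 else 0) = ∑ i ∈ S, r i l * e.repr i.2 m := by
    intro l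
    have h4 := congrArg (fun x => e.repr x m) (h1 l)
    simp only [map_smul, Finsupp.smul_apply, smul_eq_mul, map_sum, Finsupp.coe_finsetSum,
      Finset.sum_apply, Module.Basis.repr_self, Finsupp.single_apply] at h4
    exact h4
  -- apply traces to the relation
  have h5 : ∀ i : FixedPoints.subalgebra R A K × FixedPoints.subalgebra R A K,
      ∑ l, algebraMap R A (r i l) * b l = 0 := by
    intro i
    have h6 : trG G ((i.1 : A) * ∑ l, (e l : A) * b l) = 0 := by rw [h0, mul_zero, trG_zero]
    rw [Finset.mul_sum, trG_sum] at h6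
    rw [← h6]
    refine Finset.sum_congr rfl fun l _ => ?_
    rw [hr, ← mul_assoc, trG_mul_of_fixed G _ _ (hb l)]
    congr 2
    exact mul_comm _ _
  have h7 : algebraMap R A f * b m = 0 := by
    calc algebraMap R A f * b m
        = ∑ l, algebraMap R A (f * (if l = m then 1 else 0)) * b l := by
          rw [Finset.sum_eq_single m]
          · simp
          · intro l _ hl
            rw [if_neg hl, mul_zero, map_zero, zero_mul]
          · intro h; exact absurd (Finset.mem_univ _) h
      _ = ∑ l, ∑ i ∈ S, algebraMap R A (e.repr i.2 m) * (algebraMap R A (r i l) * b l) := by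
          refine Finset.sum_congr rfl fun l _ => ?_
          rw [h3, map_sum, Finset.sum_mul]
          refine Finset.sum_congr rfl fun i _ => ?_
          rw [map_mul]
          ring
      _ = ∑ i ∈ S, algebraMap R A (e.repr i.2 m) * ∑ l, algebraMap R A (r i l) * b l := by
          rw [Finset.sum_comm]
          refine Finset.sum_congr rfl fun i _ => ?_
          rw [Finset.mul_sum]
      _ = 0 := by
          simp_rw [h5, mul_zero]
          exact Finset.sum_const_zero
  rcases mul_eq_zero.mp h7 with h8 | h8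
  · exact absurd ((map_eq_zero_iff _ hinj).mp h8) hf
  · exact h8

end trace

end Groth.Agent.Lib.GaloisPairs89
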