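import Mathlib

/-!
# Commutative groups generated by subgroups of prime order (helper89)

`H` a finite group with commuting elements, `G i` (`i : Fin n`) subgroups of order `p` generating
`H`, `|H| = p ^ n`. Then `G k ⊓ ⨆ j ≠ k, G j = ⊥`.
-/

set_option autoImplicit false

namespace Groth.Agent.Lib.GroupProd89

variable {H : Type*} [Group H] [Finite H]

theorem normal_of_comm (hcomm : ∀ a b : H, a * b = b * a) (K : Subgroup H) : K.Normal :=
  ⟨fun n hn g => by
    rw [hcomm g n, mul_assoc, mul_inv_cancel, mul_one]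
    exact hn⟩

theorem card_sup_le (hcomm : ∀ a b : H, a * b = b * a) (A B : Subgroup H) :
    Nat.card ↥(A ⊔ B) ≤ Nat.card A * Nat.card B := by
  have hB : B.Normal := normal_of_comm hcomm B
  rw [← Nat.card_prod]
  let φ : A × B → ↥(A ⊔ B) := fun x =>
    ⟨x.1 * x.2, mul_mem (Subgroup.mem_sup_left x.1.2) (Subgroup.mem_sup_right x.2.2)⟩
  refine Nat.card_le_card_of_surjective φ ?_
  rintro ⟨x, hx⟩
  have hx' : x ∈ ((A ⊔ B : Subgroup H) : Set H) := hx
  rw [Subgroup.mul_normal] at hx'
  obtain ⟨a, ha, b, hb, rfl⟩ := Set.mem_mul.mp hx'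
  exact ⟨(⟨a, ha⟩, ⟨b, hb⟩), rfl⟩

theorem card_biSup_le (hcomm : ∀ a b : H, a * b = b * a) {ι : Type*} [DecidableEq ι] (p : ℕ)
    (G : ι → Subgroup H) (hG : ∀ i, Nat.card (G i) = p) (S : Finset ι) :
    Nat.card ↥(⨆ j ∈ S, G j) ≤ p ^ S.card := by
  induction S using Finset.induction_on with
  | empty => simp
  | insert k S hk ih =>
    rw [Finset.iSup_insert, Finset.card_insert_of_notMem hk, pow_succ, mul_comm]
    refine (card_sup_le hcomm _ _).trans ?_
    rw [hG k]
    exact Nat.mul_le_mul_left p ih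

theorem inf_biSup_erase_eq_bot (hcomm : ∀ a b : H, a * b = b * a) (p : ℕ) [Fact p.Prime] (n : ℕ)
    (hcard : Nat.card H = p ^ n) (G : Fin n → Subgroup H) (hG : ∀ i, Nat.card (G i) = p)
    (hsup : (⨆ i, G i) = ⊤) (k : Fin n) :
    G k ⊓ (⨆ j ∈ (Finset.univ.erase k : Finset (Fin n)), G j) = ⊥ := by
  have hp : p.Prime := Fact.out
  have hdvd : Nat.card ↥(G k ⊓ (⨆ j ∈ (Finset.univ.erase k : Finset (Fin n)), G j)) ∣ p := by
    rw [← hG k]
    exact Subgroup.card_dvd_of_le inf_le_left
  rcases (Nat.dvd_prime hp).mp hdvd with h1 | h1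
  · exact Subgroup.card_eq_one.mp h1
  · exfalso
    have hle : G k ≤ ⨆ j ∈ (Finset.univ.erase k : Finset (Fin n)), G j := by
      have heq : G k ⊓ (⨆ j ∈ (Finset.univ.erase k : Finset (Fin n)), G j) = G k :=
        Subgroup.eq_of_le_of_card_ge inf_le_left (by rw [h1, hG k])
      rw [← heq]
      exact inf_le_right
    have htop : (⨆ j ∈ (Finset.univ.erase k : Finset (Fin n)), G j) = ⊤ := by
      rw [eq_top_iff, ← hsup]
      refine iSup_le fun j => ?_
      by_cases hjk : j = k
      · rw [hjk]; exact hle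
      · exact le_biSup G (Finset.mem_erase.mpr ⟨hjk, Finset.mem_univ j⟩)
    have h2 := card_biSup_le hcomm p G hG (Finset.univ.erase k : Finset (Fin n))
    rw [htop, Subgroup.card_top, hcard, Finset.card_erase_of_mem (Finset.mem_univ k),
      Finset.card_univ, Fintype.card_fin] at h2
    have hn : 0 < n := Fin.pos k
    have h3 : n ≤ n - 1 := (Nat.pow_le_pow_iff_right hp.one_lt).mp h2
    omega

end Groth.Agent.Lib.GroupProd89
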