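import Mathlib
import Groth.Agent.Lib.GaloisPairs89
import Groth.Agent.Lib.GroupProd89

/-!
# Decomposition of a multi-Galois extension as a product of its factors (helper89)

`H` finite commutative group acting on the domain `A` with `A^H = R` (a UFD), `G k` (`k : Fin n`)
subgroups with `G k ⊓ K k = ⊥`, `G k ⊔ K k = ⊤` where `K k = ⨆ j ≠ k, G j`; `𝔸_k = A^{K k}` free over
`R`. If locally at every prime element `π` of `R` all but at most one of the extensions
`𝔸_k / R` are unramified (in terms of inertia groups of primes of `A`), then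
`A = 𝔸_1 ⋯ 𝔸_n` (product of `R`-submodules).
-/

set_option autoImplicit false
set_option linter.style.haveILetI false
set_option linter.unusedSectionVars false

namespace Groth.Agent.Lib.GaloisProd89

open Groth.Agent.Lib.GaloisPairs89 Groth.Agent.Lib.GroupProd89

section ufd

theorem dvd_of_forall_prime {R : Type*} [CommRing R] [IsDomain R] [UniqueFactorizationMonoid R]
    (F : R) : F ≠ 0 → ∀ c : R,
    (∀ π : R, Prime π → π ∣ F → ∃ s : R, ¬ π ∣ s ∧ F ∣ s * c) → F ∣ c := by
  induction F using UniqueFactorizationMonoid.induction_on_prime with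
  | h₁ => intro h; exact absurd rfl h
  | h₂ x hx => intro _ c _; exact hx.dvd
  | h₃ a p ha hp ih =>
    intro _ c hyp
    obtain ⟨s, hs, hdvd⟩ := hyp p hp (dvd_mul_right p a)
    have hpc : p ∣ c := by
      have h1 : p ∣ s * c := (dvd_mul_right p a).trans hdvd
      rcases hp.dvd_or_dvd h1 with h2 | h2
      · exact absurd h2 hs
      · exact h2
    obtain ⟨c', rfl⟩ := hpc
    refine mul_dvd_mul_left p (ih ha c' ?_)
    intro π hπ hπa
    obtain ⟨s', hs', hdvd'⟩ := hyp π hπ (hπa.mul_left p)
    refine ⟨s', hs', ?_⟩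
    have h1 : p * a ∣ p * (s' * c') := by
      have : s' * (p * c') = p * (s' * c') := by ring
      rwa [this] at hdvd'
    exact (mul_dvd_mul_iff_left hp.ne_zero).mp h1

/-- **Gluing**: membership in a free submodule can be checked locally at the prime elements. -/
theorem mem_of_local {R A : Type*} [CommRing R] [IsDomain R] [UniqueFactorizationMonoid R]
    [CommRing A] [IsDomain A] [Algebra R A] (hinj : Function.Injective (algebraMap R A))
    {N : Submodule R A} {ι : Type*} [Fintype ι] (v : ι → A) (hli : LinearIndependent R v)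
    (hspan : Submodule.span R (Set.range v) = N) (a : A) (F : R) (hF : F ≠ 0)
    (hFa : F • a ∈ N) (hloc : ∀ π : R, Prime π → ∃ s : R, ¬ π ∣ s ∧ s • a ∈ N) : a ∈ N := by
  classical
  rw [← hspan] at hFa hloc ⊢
  obtain ⟨c, hc⟩ := (Submodule.mem_span_range_iff_exists_fun R).mp hFa
  have hdvd : ∀ i, F ∣ c i := by
    intro i
    refine dvd_of_forall_prime F hF (c i) ?_
    intro π hπ _
    obtain ⟨s, hs, hsa⟩ := hloc π hπ
    refine ⟨s, hs, ?_⟩
    obtain ⟨d, hd⟩ := (Submodule.mem_span_range_iff_exists_fun R).mp hsa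
    have h1 : ∑ j, (F * d j - s * c j) • v j = 0 := by
      simp_rw [sub_smul, mul_smul]
      rw [Finset.sum_sub_distrib, ← Finset.smul_sum, ← Finset.smul_sum, hd, hc, smul_comm,
        sub_self]
    have h2 := Fintype.linearIndependent_iff.mp hli _ h1 i
    exact ⟨d i, (sub_eq_zero.mp h2).symm⟩
  choose c' hc' using hdvd
  have h3 : F • a = F • ∑ i, c' i • v i := by
    rw [← hc, Finset.smul_sum]
    refine Finset.sum_congr rfl fun i _ => ?_
    rw [hc' i, mul_smul]
  have h4 : a = ∑ i, c' i • v i := by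
    rw [Algebra.smul_def, Algebra.smul_def] at h3
    exact mul_left_cancel₀ (fun h => hF ((map_eq_zero_iff _ hinj).mp h)) h3
  rw [h4]
  exact Submodule.sum_mem _ fun i _ => Submodule.smul_mem _ _ (Submodule.subset_span ⟨i, rfl⟩)

end ufd

variable {R A : Type*} [CommRing R] [CommRing A] [Algebra R A] {H : Type*} [Group H] [Finite H]
  [MulSemiringAction H A] [SMulCommClass H R A] {n : ℕ} (G : Fin n → Subgroup H)

/-- the subgroup generated by the `G j`, `j ≠ k`. -/
abbrev Kc (k : Fin n) : Subgroup H := ⨆ j ∈ (Finset.univ.erase k : Finset (Fin n)), G j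

/-- the subgroup generated by the `G j`, `j ∈ S`. -/
abbrev GS (S : Finset (Fin n)) : Subgroup H := ⨆ j ∈ S, G j

/-- the `R`-submodule `A^{K k}`. -/
abbrev Asub (k : Fin n) : Submodule R A :=
  Subalgebra.toSubmodule (FixedPoints.subalgebra R A (Kc G k))

theorem le_Kc_of_ne {j k : Fin n} (hjk : j ≠ k) : G j ≤ Kc G k :=
  le_biSup G (Finset.mem_erase.mpr ⟨hjk, Finset.mem_univ j⟩)

theorem GS_le_Kc {S : Finset (Fin n)} {k : Fin n} (hk : k ∉ S) : GS G S ≤ Kc G k := by
  refine iSup₂_le fun j hj => le_Kc_of_ne G ?_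
  rintro rfl
  exact hk hj

/-- **Iterated expansion**. -/
theorem smul_mem_prod_mul (hcomm : ∀ a b : H, a * b = b * a)
    (hdisj : ∀ k, G k ⊓ Kc G k = ⊥) (S : Finset (Fin n)) (f : Fin n → R)
    (pairs : ∀ k ∈ S, ∃ L, IsPairs (A := A) (Kc G k) (f k) L) (a : A) :
    (∏ k ∈ S, f k) • a ∈ (∏ k ∈ S, Asub (R := R) (A := A) G k) *
      Subalgebra.toSubmodule (FixedPoints.subalgebra R A (GS G S)) := by
  classical
  induction S using Finset.induction_on generalizing a with
  | empty =>
    rw [Finset.prod_empty, Finset.prod_empty, one_smul, one_mul]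
    intro g
    have hg : (g : H) = 1 := by
      have := g.2
      simpa [GS] using this
    show (g : H) • a = a
    rw [hg, one_smul]
  | insert k S hk ih =>
    have hKn : (Kc G k).Normal := normal_of_comm hcomm _
    obtain ⟨L, hL⟩ := pairs k (Finset.mem_insert_self k S)
    have ih' := ih (fun j hj => pairs j (Finset.mem_insert_of_mem hj)) a
    rw [Finset.prod_insert hk, Finset.prod_insert hk, mul_smul]
    -- key: `f k • y` for `y` in the product
    have key : ∀ y ∈ (∏ j ∈ S, Asub (R := R) (A := A) G j) *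
        Subalgebra.toSubmodule (FixedPoints.subalgebra R A (GS G S)),
        f k • y ∈ (Asub (R := R) (A := A) G k * ∏ j ∈ S, Asub (R := R) (A := A) G j) *
          Subalgebra.toSubmodule (FixedPoints.subalgebra R A (GS G (insert k S))) := by
      intro y hy
      induction hy using Submodule.mul_induction_on' with
      | mem_mul_mem m hm b hb =>
        have hb' : ∀ g ∈ GS G S, g • b = b := fun g hg => hb ⟨g, hg⟩
        have h1 : f k • (m * b) = ∑ l ∈ L, ((l.2 : A) * m) * trG (G k) (b * (l.1 : A)) := by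
          rw [Algebra.smul_def, ← mul_assoc, mul_comm _ m, mul_assoc,
            expand (Kc G k) (G k) (hdisj k) (f k) L hL b, Finset.mul_sum]
          refine Finset.sum_congr rfl fun l _ => ?_
          ring
        rw [h1]
        refine Submodule.sum_mem _ fun l _ => ?_
        refine Submodule.mul_mem_mul (Submodule.mul_mem_mul l.2.2 hm) ?_
        -- invariance of the trace
        have hstab : GS G (insert k S) ≤ MulAction.stabilizer H (trG (G k) (b * (l.1 : A))) := by
          refine iSup₂_le fun j hj => ?_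
          intro h hh
          rw [MulAction.mem_stabilizer_iff]
          rcases Finset.mem_insert.mp hj with rfl | hjS
          · exact smul_trG_of_mem _ _ h hh
          · rw [smul_trG_comm hcomm, smul_mul', hb' h (le_biSup G hjS hh)]
            have hjk : j ≠ k := by rintro rfl; exact hk hjS
            have hx : h • (l.1 : A) = l.1 := l.1.2 ⟨h, le_Kc_of_ne G hjk hh⟩
            rw [hx]
        intro g
        exact MulAction.mem_stabilizer_iff.mp (hstab g.2)
      | add x _ y _ hx hy =>
        rw [smul_add]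
        exact Submodule.add_mem _ hx hy
    exact key _ ih'

section basis

theorem span_range_basis (K : Subgroup H) {ι : Type*}
    (e : Module.Basis ι R (FixedPoints.subalgebra R A K)) :
    Submodule.span R (Set.range fun l => (e l : A)) =
      Subalgebra.toSubmodule (FixedPoints.subalgebra R A K) := by
  have h1 : Submodule.map (FixedPoints.subalgebra R A K).val.toLinearMap ⊤ =
      Subalgebra.toSubmodule (FixedPoints.subalgebra R A K) := by
    ext x
    simp
  rw [← h1, ← e.span_eq, Submodule.map_span, ← Set.range_comp]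
  rfl

variable [IsDomain A] [Algebra.IsInvariant R A H]

theorem fixed_top_eq_one :
    Subalgebra.toSubmodule (FixedPoints.subalgebra R A (⊤ : Subgroup H)) = 1 := by
  ext a
  rw [Submodule.mem_one]
  constructor
  · intro ha
    obtain ⟨r, hr⟩ := Algebra.IsInvariant.isInvariant (A := R) (G := H) a
      (fun h => ha ⟨h, trivial⟩)
    exact ⟨r, hr⟩
  · rintro ⟨r, rfl⟩ g
    exact smul_algebraMap _ r

/-- a common basis of the product of the `A^{K k}`, `k ∈ S`. -/
theorem exists_basis_prod (hinj : Function.Injective (algebraMap R A))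
    (hcomm : ∀ a b : H, a * b = b * a)
    (hdisj : ∀ k, G k ⊓ Kc G k = ⊥) (hsup : ∀ k, G k ⊔ Kc G k = ⊤)
    (rk : Fin n → ℕ)
    (e : ∀ k, Module.Basis (Fin (rk k)) R (FixedPoints.subalgebra R A (Kc G k)))
    (f : Fin n → R) (hf : ∀ k, f k ≠ 0) (pairs : ∀ k, ∃ L, IsPairs (A := A) (Kc G k) (f k) L)
    (S : Finset (Fin n)) :
    ∃ (ι : Type) (_ : Fintype ι) (v : ι → A), LinearIndependent R v ∧
      Submodule.span R (Set.range v) = ∏ k ∈ S, Asub (R := R) (A := A) G k ∧
      ∀ β, ∀ k, k ∉ S → ∀ g ∈ G k, g • v β = v β := by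
  classical
  induction S using Finset.induction_on with
  | empty =>
    refine ⟨PUnit, inferInstance, fun _ => 1, ?_, ?_, ?_⟩
    · rw [Fintype.linearIndependent_iff]
      intro c hc i
      have h1 : c PUnit.unit • (1 : A) = 0 := by simpa using hc
      rw [Algebra.smul_def, mul_one] at h1
      cases i
      exact (map_eq_zero_iff _ hinj).mp h1
    · rw [Finset.prod_empty, Set.range_const, Submodule.one_eq_span]
    · intro β k _ g _
      exact smul_one g
  | insert k S hk ih =>
    obtain ⟨ι, hι, v, hli, hspan, hfix⟩ := ih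
    obtain ⟨L, hL⟩ := pairs k
    haveI hKn : (Kc G k).Normal := normal_of_comm hcomm _
    refine ⟨Fin (rk k) × ι, inferInstance, fun x => (e k x.1 : A) * v x.2, ?_, ?_, ?_⟩
    · rw [Fintype.linearIndependent_iff]
      intro c hc x
      have h0 : ∑ l, (e k l : A) * (∑ β, c (l, β) • v β) = 0 := by
        rw [← hc, Fintype.sum_prod_type]
        refine Finset.sum_congr rfl fun l _ => ?_
        rw [Finset.mul_sum]
        refine Finset.sum_congr rfl fun β _ => ?_
        rw [mul_smul_comm]
      have hb : ∀ l, ∀ g ∈ G k, g • (∑ β, c (l, β) • v β) = ∑ β, c (l, β) • v β := by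
        intro l g hg
        rw [Finset.smul_sum]
        refine Finset.sum_congr rfl fun β _ => ?_
        rw [smul_comm, hfix β k hk g hg]
      have h1 := eq_zero_of_sum_mul_eq_zero (Kc G k) hinj hcomm (G k) (hdisj k) (hsup k) (e k)
        (f k) (hf k) L hL _ hb h0 x.1
      exact Fintype.linearIndependent_iff.mp hli (fun β => c (x.1, β)) h1 x.2
    · rw [Finset.prod_insert hk, ← hspan]
      show _ = Subalgebra.toSubmodule (FixedPoints.subalgebra R A (Kc G k)) * _
      rw [← span_range_basis (Kc G k) (e k), Submodule.span_mul_span]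
      congr 1
      ext y
      simp only [Set.mem_range, Set.mem_mul, Prod.exists]
      constructor
      · rintro ⟨l, β, rfl⟩
        exact ⟨_, ⟨l, rfl⟩, _, ⟨β, rfl⟩, rfl⟩
      · rintro ⟨_, ⟨l, rfl⟩, _, ⟨β, rfl⟩, rfl⟩
        exact ⟨l, β, rfl⟩
    · intro x j hj g hg
      have hjk : j ≠ k := fun h => hj (h ▸ Finset.mem_insert_self k S)
      have hjS : j ∉ S := fun h => hj (Finset.mem_insert_of_mem h)
      rw [smul_mul', hfix x.2 j hjS g hg]
      congr 1
      exact (e k x.1).2 ⟨g, le_Kc_of_ne G hjk hg⟩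

/-- **Product decomposition**: every element of `A` lies in the product of the `A^{K k}`. -/
theorem mem_prod_univ [IsDomain R] [UniqueFactorizationMonoid R]
    (hinj : Function.Injective (algebraMap R A)) (hcomm : ∀ a b : H, a * b = b * a)
    (hdisj : ∀ k, G k ⊓ Kc G k = ⊥) (hsup : (⨆ i, G i) = ⊤)
    (rk : Fin n → ℕ)
    (e : ∀ k, Module.Basis (Fin (rk k)) R (FixedPoints.subalgebra R A (Kc G k)))
    (hglob : ∀ k, ∃ (f : R) (L : _), f ≠ 0 ∧ IsPairs (A := A) (Kc G k) f L)
    (hloc : ∀ π : R, Prime π → ∃ S : Finset (Fin n),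
      (S = Finset.univ ∨ ∃ i, S = Finset.univ.erase i) ∧
        ∀ k ∈ S, ∃ (f : R) (L : _), ¬ π ∣ f ∧ IsPairs (A := A) (Kc G k) f L) (a : A) :
    a ∈ ∏ k, Asub (R := R) (A := A) G k := by
  classical
  choose f L hf hL using hglob
  have hsup' : ∀ k, G k ⊔ Kc G k = ⊤ := by
    intro k
    rw [eq_top_iff, ← hsup]
    refine iSup_le fun j => ?_
    by_cases hjk : j = k
    · rw [hjk]; exact le_sup_left
    · exact (le_Kc_of_ne G hjk).trans le_sup_right
  obtain ⟨ι, hι, v, hli, hspan, -⟩ := exists_basis_prod G hinj hcomm hdisj hsup' rk e f hf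
    (fun k => ⟨L k, hL k⟩) Finset.univ
  have hGSuniv : GS G Finset.univ = ⊤ := by
    rw [← hsup]
    simp [GS]
  have huniv : ∀ f' : Fin n → R, (∀ k, ∃ L, IsPairs (A := A) (Kc G k) (f' k) L) →
      (∏ k, f' k) • a ∈ ∏ k, Asub (R := R) (A := A) G k := by
    intro f' h'
    have h1 := smul_mem_prod_mul G hcomm hdisj Finset.univ f' (fun k _ => h' k) a
    rwa [hGSuniv, fixed_top_eq_one, mul_one] at h1
  refine mem_of_local hinj v hli hspan a (∏ k, f k)
    (Finset.prod_ne_zero_iff.mpr fun k _ => hf k) (huniv f fun k => ⟨L k, hL k⟩) ?_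
  intro π hπ
  obtain ⟨S, hS, hpairs⟩ := hloc π hπ
  choose! f' L' hf' hL' using hpairs
  refine ⟨∏ k ∈ S, f' k, ?_, ?_⟩
  · rw [Prime.dvd_finsetProd_iff hπ]
    rintro ⟨k, hk, hdvd⟩
    exact hf' k hk hdvd
  · have h1 := smul_mem_prod_mul G hcomm hdisj S f' (fun k hk => ⟨L' k, hL' k hk⟩) a
    rcases hS with rfl | ⟨i, rfl⟩
    · rwa [hGSuniv, fixed_top_eq_one, mul_one] at h1
    · rw [← Finset.prod_erase_mul Finset.univ _ (Finset.mem_univ i)]
      exact h1

theorem prod_le_iSup (S : Finset (Fin n)) :
    ∏ k ∈ S, Asub (R := R) (A := A) G k ≤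
      Subalgebra.toSubmodule (⨆ i, FixedPoints.subalgebra R A (Kc G i)) := by
  classical
  induction S using Finset.induction_on with
  | empty =>
    rw [Finset.prod_empty, Submodule.one_le]
    exact Subalgebra.one_mem _
  | insert k S hk ih =>
    rw [Finset.prod_insert hk]
    refine (mul_le_mul' ?_ ih).trans
      (le_of_eq (Subalgebra.isIdempotentElem_toSubmodule _).eq)
    intro x hx
    exact (le_iSup (fun i => FixedPoints.subalgebra R A (Kc G i)) k) hx

end basis

end Groth.Agent.Lib.GaloisProd89
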