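import Mathlib
import Groth.Agent.Lib.GaloisProd89

/-!
# Generation of a multi-Galois extension by its factors: inertia hypotheses (helper89)

Derives the Chase–Harrison–Rosenberg pairs needed in `GaloisProd89.mem_prod_univ` from hypotheses on
inertia groups of height-one primes, and concludes `⨆ k, A^{K k} = ⊤`.
-/

set_option autoImplicit false
set_option linter.style.haveILetI false
set_option linter.unusedSectionVars false

namespace Groth.Agent.Lib.GaloisProd89b

open Groth.Agent.Lib.GaloisPairs89 Groth.Agent.Lib.GroupProd89 Groth.Agent.Lib.GaloisProd89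
open scoped Pointwise

variable {R A : Type*} [CommRing R] [CommRing A] [Algebra R A] {H : Type*} [Group H] [Finite H]
  [MulSemiringAction H A] [SMulCommClass H R A]

/-- conjugate primes have the same inertia group when `H` is commutative. -/
theorem inertia_smul (hcomm : ∀ a b : H, a * b = b * a) (P : Ideal A) (h : H) :
    (h • P).inertia H = P.inertia H := by
  ext g
  constructor
  · intro hg x
    have h1 : g • (h • x) - h • x ∈ h • P := hg (h • x)
    rw [Ideal.mem_pointwise_smul_iff_inv_smul_mem, smul_sub, inv_smul_smul, ← mul_smul,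
      ← mul_smul, hcomm h⁻¹ g, mul_assoc, inv_mul_cancel, mul_one] at h1
    exact h1
  · intro hg x
    have h1 : g • (h⁻¹ • x) - h⁻¹ • x ∈ P := hg (h⁻¹ • x)
    show g • x - x ∈ h • P
    rw [Ideal.mem_pointwise_smul_iff_inv_smul_mem, smul_sub, ← mul_smul, hcomm h⁻¹ g, mul_smul]
    exact h1

/-- pairs with a nonzero denominator exist for every normal subgroup when the action is faithful. -/
theorem exists_global_pairs [IsDomain R] [IsDomain A] [FaithfulSMul H A]
    [Algebra.IsInvariant R A H] (hinj : Function.Injective (algebraMap R A))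
    (K : Subgroup H) [K.Normal] :
    ∃ (f : R) (L : _), f ≠ 0 ∧ IsPairs (A := A) K f L := by
  have hint : Algebra.IsIntegral R A := Algebra.IsInvariant.isIntegral R A H
  haveI : (⊥ : Ideal R).IsPrime := Ideal.isPrime_bot
  obtain ⟨f, L, hf, hL⟩ := exists_pairs hinj K (⊥ : Ideal R) (by
    intro P hP hPq
    have hPbot : P = ⊥ := Ideal.eq_bot_of_comap_eq_bot hPq
    intro g hg
    have h1 : g = 1 := by
      apply FaithfulSMul.eq_of_smul_eq_smul (α := A)
      intro x
      have h2 : g • x - x ∈ P := hg x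
      rw [hPbot, Ideal.mem_bot, sub_eq_zero] at h2
      rw [h2, one_smul]
    rw [h1]
    exact K.one_mem)
  exact ⟨f, L, fun h => hf (by rw [h]; exact zero_mem _), hL⟩

/-- a prime of `A` over a principal prime `(π)` of the UFD `R` has height one. -/
theorem height_eq_one_of_comap [IsDomain R] [UniqueFactorizationMonoid R] [IsDomain A]
    [Algebra.IsIntegral R A] (hinj : Function.Injective (algebraMap R A)) (π : R) (hπ : Prime π)
    (P : Ideal A) [P.IsPrime] (hP : P.comap (algebraMap R A) = Ideal.span {π}) :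
    P.height = 1 := by
  apply le_antisymm
  · rw [show (1 : ℕ∞) = ((1 : ℕ) : ℕ∞) from rfl, Ideal.height_le_iff]
    intro P' hP' hlt
    have h1 : P'.comap (algebraMap R A) < Ideal.span {π} :=
      hP ▸ Ideal.IsIntegral.comap_lt_comap hlt
    have h2 : P'.comap (algebraMap R A) = ⊥ := by
      by_contra hne
      obtain ⟨x, hx, hxp⟩ :=
        Ideal.IsPrime.exists_mem_prime_of_ne_bot (Ideal.comap_isPrime _ _) hne
      have hdvd : π ∣ x := Ideal.mem_span_singleton.mp (h1.le hx)
      obtain ⟨u, rfl⟩ := hdvd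
      rcases hxp.irreducible.isUnit_or_isUnit rfl with h3 | h3
      · exact hπ.not_isUnit h3
      · have hmem : π ∈ P'.comap (algebraMap R A) := by
          obtain ⟨u', rfl⟩ := h3
          have h4 := Ideal.mul_mem_right (↑u'⁻¹ : R) _ hx
          rwa [mul_assoc, Units.mul_inv, mul_one] at h4
        exact not_le_of_gt h1 ((Ideal.span_singleton_le_iff_mem _).mpr hmem)
    have h3 : P' = ⊥ := Ideal.eq_bot_of_comap_eq_bot h2
    rw [h3, Ideal.height_bot]
    norm_num
  · rw [Order.one_le_iff_pos, pos_iff_ne_zero]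
    intro h0
    rw [Ideal.height_eq_zero_iff_eq_bot] at h0
    have h1 : π ∈ P.comap (algebraMap R A) := hP ▸ Ideal.mem_span_singleton_self π
    rw [h0, Ideal.mem_comap, Ideal.mem_bot] at h1
    exact hπ.ne_zero ((map_eq_zero_iff _ hinj).mp h1)

/-- locally at a prime element, all but at most one of the factors admit pairs. -/
theorem exists_local_pairs [IsDomain R] [UniqueFactorizationMonoid R] [IsDomain A]
    [Algebra.IsInvariant R A H] (hinj : Function.Injective (algebraMap R A))
    (hcomm : ∀ a b : H, a * b = b * a) {n : ℕ} (G : Fin n → Subgroup H)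
    (hMR3 : ∀ P : Ideal A, P.IsPrime → P.height = 1 → P.inertia H ≠ ⊥ → ∃ i, P.inertia H = G i)
    (π : R) (hπ : Prime π) :
    ∃ S : Finset (Fin n), (S = Finset.univ ∨ ∃ i, S = Finset.univ.erase i) ∧
      ∀ k ∈ S, ∃ (f : R) (L : _), ¬ π ∣ f ∧ IsPairs (A := A) (Kc G k) f L := by
  classical
  have hint : Algebra.IsIntegral R A := Algebra.IsInvariant.isIntegral R A H
  haveI hqp : (Ideal.span {π}).IsPrime := (Ideal.span_singleton_prime hπ.ne_zero).mpr hπ
  by_cases hall : ∀ P : Ideal A, P.IsPrime → P.comap (algebraMap R A) = Ideal.span {π} →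
      P.inertia H = ⊥
  · refine ⟨Finset.univ, Or.inl rfl, fun k _ => ?_⟩
    haveI : (Kc G k).Normal := normal_of_comm hcomm _
    obtain ⟨f, L, hf, hL⟩ := exists_pairs hinj (Kc G k) (Ideal.span {π})
      (fun P hP hPq => by rw [hall P hP hPq]; exact bot_le)
    exact ⟨f, L, fun hd => hf (Ideal.mem_span_singleton.mpr hd), hL⟩
  · push Not at hall
    obtain ⟨P₀, hP₀, hP₀q, hne⟩ := hall
    obtain ⟨i, hi⟩ := hMR3 P₀ hP₀ (height_eq_one_of_comap hinj π hπ P₀ hP₀q) hne
    refine ⟨Finset.univ.erase i, Or.inr ⟨i, rfl⟩, fun k hk => ?_⟩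
    haveI : (Kc G k).Normal := normal_of_comm hcomm _
    have hki : i ≠ k := (Finset.mem_erase.mp hk).1.symm
    obtain ⟨f, L, hf, hL⟩ := exists_pairs hinj (Kc G k) (Ideal.span {π}) (fun P hP hPq => by
      obtain ⟨h, rfl⟩ := Algebra.IsInvariant.exists_smul_of_under_eq R A H P₀ P (by
        rw [Ideal.under_def, Ideal.under_def, hP₀q, hPq])
      rw [inertia_smul hcomm, hi]
      exact le_Kc_of_ne G hki)
    exact ⟨f, L, fun hd => hf (Ideal.mem_span_singleton.mpr hd), hL⟩

/-- **Generation of a multi-Galois extension by its factors.** -/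
theorem iSup_fixedPoints_eq_top (p : ℕ) [Fact p.Prime] [IsDomain R] [UniqueFactorizationMonoid R]
    [IsDomain A] [FaithfulSMul H A] [Algebra.IsInvariant R A H]
    (hinj : Function.Injective (algebraMap R A)) (hcomm : ∀ a b : H, a * b = b * a)
    (n : ℕ) (hcard : Nat.card H = p ^ n) (G : Fin n → Subgroup H)
    (hG : ∀ i, Nat.card (G i) = p) (hsup : (⨆ i, G i) = ⊤)
    (hMR3 : ∀ P : Ideal A, P.IsPrime → P.height = 1 → P.inertia H ≠ ⊥ → ∃ i, P.inertia H = G i)
    (hfree : ∀ i, Module.Free R (FixedPoints.subalgebra R A (Kc G i)))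
    (hfin : ∀ i, Module.Finite R (FixedPoints.subalgebra R A (Kc G i))) :
    (⨆ i, FixedPoints.subalgebra R A (Kc G i)) = ⊤ := by
  rw [eq_top_iff]
  intro a _
  have hdisj : ∀ k, G k ⊓ Kc G k = ⊥ := inf_biSup_erase_eq_bot hcomm p n hcard G hG hsup
  have hmem := mem_prod_univ G hinj hcomm hdisj hsup
    (fun k => Module.finrank R (FixedPoints.subalgebra R A (Kc G k)))
    (fun k => Module.finBasis R (FixedPoints.subalgebra R A (Kc G k)))
    (fun k => by
      haveI : (Kc G k).Normal := normal_of_comm hcomm _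
      exact exists_global_pairs hinj (Kc G k))
    (exists_local_pairs hinj hcomm G hMR3) a
  exact prod_le_iSup G Finset.univ hmem

end Groth.Agent.Lib.GaloisProd89b
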