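import Groth.Agent.Lib.H59ObsHR
import Mathlib.RingTheory.RegularLocalRing.Defs
import Mathlib.RingTheory.KrullDimension.NonZeroDivisors
import Mathlib.RingTheory.KrullDimension.Regular

/-!
# The power series ring `k[[t_1..t_d]]` is a regular local ring of dimension `d` (helper59)
-/

set_option autoImplicit false
set_option linter.unusedSectionVars false
universe u v
open CategoryTheory ArtFun ArtFun.Art IsLocalRing

namespace Groth.Agent.Lib.H59PowerSeriesDim

open Groth.Agent.Lib.H59PowerSeries Groth.Agent.Lib.H59PowerSeriesCRing Groth.Agent.Lib.H59BaseCRing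
  Groth.Agent.Lib.H59PowerSeriesLift Groth.Agent.Lib.H59T1Lift Groth.Agent.Lib.H59ObsHR

variable {k : Type u} [Field k]

/-- the base field as a coefficient ring. -/
noncomputable abbrev kC (k : Type u) [Field k] : CRing k k :=
  baseCRing (Λ := k) (k := k) Function.surjective_id

theorem maximalIdeal_psk (d : ℕ) :
    maximalIdeal (MvPowerSeries (Fin d) k) = Ideal.span (Set.range (psX (kC k) d)) := by
  have h := maximalIdeal_ps (kC k) d
  have hbot : (maximalIdeal (kC k).carrier).map
      (psC (kC k) d : (kC k).carrier →+* (ps (kC k) d).carrier) = ⊥ := by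
    have : maximalIdeal (kC k).carrier = ⊥ := IsLocalRing.maximalIdeal_eq_bot (R := k)
    rw [this, Ideal.map_bot]
  rw [hbot, sup_bot_eq] at h
  exact h

theorem exists_surjective_succ (d : ℕ) :
    ∃ f : MvPowerSeries (Fin (d + 1)) k →+* MvPowerSeries (Fin d) k, Function.Surjective f ∧
      f (MvPowerSeries.X (Fin.last d)) = 0 := by
  classical
  let x : Fin (d + 1) → (ps (kC k) d).carrier := Fin.lastCases 0 (fun i => psX (kC k) d i)
  have hx : ∀ i, x i ∈ maximalIdeal (ps (kC k) d).carrier := by
    intro i
    refine Fin.lastCases ?_ (fun j => ?_) i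
    · simp only [x, Fin.lastCases_last]
      exact Ideal.zero_mem _
    · simp only [x, Fin.lastCases_castSucc]
      exact psX_mem_maximalIdeal (kC k) d j
  obtain ⟨u, hu, huc, hux⟩ := exists_hom_complete (kC k) (d + 1) (ps (kC k) d) (psC (kC k) d)
    (res_comp_psC (kC k) d) x hx
  have hcomplP := (ps (kC k) (d + 1)).isAdicComplete
  have hcomplR := (ps (kC k) d).isAdicComplete
  have hures : ∀ p, (ps (kC k) d).res (u p) = (ps (kC k) (d + 1)).res p :=
    fun p => DFunLike.congr_fun hu p
  have hum : ∀ p, p ∈ maximalIdeal (ps (kC k) (d + 1)).carrier ↔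
      u p ∈ maximalIdeal (ps (kC k) d).carrier := by
    intro p
    rw [ArtFun.CRing.mem_maximalIdeal_iff, ArtFun.CRing.mem_maximalIdeal_iff, hures]
  have hmapm : (maximalIdeal (ps (kC k) (d + 1)).carrier).map
      (u : (ps (kC k) (d + 1)).carrier →+* (ps (kC k) d).carrier) ≤
      maximalIdeal (ps (kC k) d).carrier := by
    rw [Ideal.map_le_iff_le_comap]
    intro p hp
    exact (hum p).1 hp
  have husurj : Function.Surjective u := by
    apply ((Groth.Agent.Lib.ArtFunSurj.tfae_surjective (ps (kC k) (d + 1)).res (ps (kC k) d).res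
      (ps (kC k) (d + 1)).res_surjective (ps (kC k) d).res_surjective u hu).out 1 0).1
    apply le_antisymm
    · exact sup_le hmapm (Ideal.pow_le_self two_ne_zero)
    · refine le_trans ?_ le_sup_left
      have h1 : maximalIdeal (ps (kC k) d).carrier = Ideal.span (Set.range (psX (kC k) d)) :=
        maximalIdeal_psk (k := k) d
      rw [h1, Ideal.span_le]
      rintro _ ⟨i, rfl⟩
      have h2 : u (psX (kC k) (d + 1) (Fin.castSucc i)) = psX (kC k) d i := by
        rw [hux]
        simp only [x, Fin.lastCases_castSucc]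
      rw [← h2]
      exact Ideal.mem_map_of_mem _ (psX_mem_maximalIdeal (kC k) (d + 1) _)
  refine ⟨(u : (ps (kC k) (d + 1)).carrier →+* (ps (kC k) d).carrier), husurj, ?_⟩
  have h3 := hux (Fin.last d)
  simp only [x, Fin.lastCases_last] at h3
  exact h3

theorem le_ringKrullDim_psk (d : ℕ) : (d : WithBot ℕ∞) ≤ ringKrullDim (MvPowerSeries (Fin d) k) := by
  induction d with
  | zero =>
    rw [Nat.cast_zero]
    exact ringKrullDim_nonneg_of_nontrivial
  | succ d ih =>
    obtain ⟨f, hf, hf0⟩ := exists_surjective_succ (k := k) d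
    have h1 := ringKrullDim_succ_le_of_surjective f hf
      (MvPowerSeries.X_mem_nonzeroDivisors (i := Fin.last d)) hf0
    refine le_trans ?_ h1
    rw [Nat.cast_add, Nat.cast_one]
    exact add_le_add_left ih 1

theorem spanFinrank_maximalIdeal_psk_le (d : ℕ) :
    (maximalIdeal (MvPowerSeries (Fin d) k)).spanFinrank ≤ d := by
  rw [maximalIdeal_psk]
  refine (Submodule.spanFinrank_span_le_ncard_of_finite (Set.finite_range _)).trans ?_
  rw [← Set.image_univ]
  refine (Set.ncard_image_le Set.finite_univ).trans ?_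
  rw [Set.ncard_univ, Nat.card_eq_fintype_card, Fintype.card_fin]

instance isNoetherianRing_psk (d : ℕ) : IsNoetherianRing (MvPowerSeries (Fin d) k) :=
  (psk k d).isNoetherianRing

theorem ringKrullDim_psk (d : ℕ) : ringKrullDim (MvPowerSeries (Fin d) k) = d := by
  apply le_antisymm
  · refine (ringKrullDim_le_spanFinrank_maximalIdeal _).trans ?_
    exact_mod_cast spanFinrank_maximalIdeal_psk_le (k := k) d
  · exact le_ringKrullDim_psk d

theorem isRegularLocalRing_psk (d : ℕ) : IsRegularLocalRing (MvPowerSeries (Fin d) k) := by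
  apply IsRegularLocalRing.of_spanFinrank_maximalIdeal_le
  rw [ringKrullDim_psk]
  exact_mod_cast spanFinrank_maximalIdeal_psk_le (k := k) d

end Groth.Agent.Lib.H59PowerSeriesDim
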