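import Groth.Agent.Lib.TKfExt
import Groth.Agent.Lib.AdicPi
import Groth.Agent.Lib.AdicNoeth
import Mathlib.RingTheory.AdicCompletion.LocalRing
import Mathlib.RingTheory.AdicCompletion.Exactness
import Mathlib.RingTheory.TensorProduct.Finite

/-!
# Derived complete modules with finite reduction (helper25)

* `isAdicComplete_of_finite` (copy of helper13's lemma with light imports).
* `finite_adicCompletion_of_finite_quotient`: `M/IM` finite, `I` f.g. ⟹ `M^∧` finite over `A^∧`.
* `isAdicComplete_of_linearEquiv`, `isAdicComplete_tensor`.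
* `isAdicComplete_of_isSeqComplete`: over a Noetherian ring, a derived complete module with
  `M/IM` finite is `I`-adically complete (Stacks 09B9-type): `M` is a quotient of `(A^∧)^n` by an
  `A^∧`-submodule, using the unique extension property `TKfExt.existsUnique_extension`.
-/

set_option autoImplicit false
set_option linter.unusedSectionVars false
universe u

open TensorProduct

namespace Groth.Agent.Lib.TKfFin

open Groth.Agent.Lib.SeqComplete Groth.Agent.Lib.TKfExt

section classical

variable {A : Type u} [CommRing A] (I : Ideal A) (M : Type u) [AddCommGroup M] [Module A M]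

/-- A finite module over a Noetherian `I`-adically complete ring is `I`-adically complete
(copied from helper13's `FormalFn13` to avoid its imports). -/
theorem isAdicComplete_of_finite {R : Type*} [CommRing R] (I : Ideal R) (H : Type*)
    [AddCommGroup H] [Module R H] [IsNoetherianRing R] [IsAdicComplete I R] [Module.Finite R H] :
    IsAdicComplete I H := by
  have hjac : I ≤ (⊥ : Ideal R).jacobson := IsAdicComplete.le_jacobson_bot I
  have hH : IsHausdorff I H := by
    rw [isHausdorff_iff]
    intro x hx
    have h0 : x ∈ (⨅ n : ℕ, I ^ n • ⊤ : Submodule R H) := by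
      rw [Submodule.mem_iInf]
      intro n
      have := hx n
      rwa [SModEq.zero] at this
    rw [Ideal.iInf_pow_smul_eq_bot_of_le_jacobson I hjac] at h0
    exact h0
  have hP : IsPrecomplete I H := by
    obtain ⟨n, f, hf⟩ := Module.Finite.exists_fin' R H
    rw [← AdicCompletion.of_surjective_iff]
    have hpi : IsPrecomplete I (Fin n → R) := Groth.Agent.Lib.AdicPi.isPrecomplete_pi I (Fin n)
    intro y
    obtain ⟨z, hz⟩ := AdicCompletion.map_surjective I hf y
    obtain ⟨w, hw⟩ := AdicCompletion.of_surjective I (Fin n → R) z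
    refine ⟨f w, ?_⟩
    rw [← hz, ← hw, AdicCompletion.map_of]
  exact { toIsHausdorff := hH, toIsPrecomplete := hP }

/-- If `M/IM` is finite and `I` is finitely generated, `M^∧` is finite over `A^∧`. -/
theorem finite_adicCompletion_of_finite_quotient (hI : I.FG)
    (hf : Module.Finite A (M ⧸ I • (⊤ : Submodule A M))) :
    Module.Finite (AdicCompletion I A) (AdicCompletion I M) := by
  let R := AdicCompletion I A
  let Î : Ideal R := I.map (algebraMap A R)
  have hc : IsAdicComplete Î R := AdicCompletion.isAdicComplete_self I hI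
  have hpre : IsPrecomplete Î R := hc.toIsPrecomplete
  have hhaus : IsHausdorff Î (AdicCompletion I M) :=
    IsHausdorff.map_algebraMap_iff.mpr inferInstance
  apply Groth.Agent.Lib.AdicPi.finite_of_finite_quotient Î
  -- generators
  obtain ⟨T, hT⟩ := hf.fg_top
  have hlift : ∀ t : (M ⧸ I • (⊤ : Submodule A M)), ∃ m : M, Submodule.Quotient.mk m = t :=
    fun t => Submodule.Quotient.mk_surjective _ t
  choose lift hlift using hlift
  let S : Set (AdicCompletion I M) := (fun t => AdicCompletion.of I M (lift t)) '' (T : Set _)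
  have hSfin : S.Finite := (Finset.finite_toSet T).image _
  -- `I • ⊤ ≤ Î • ⊤`
  have hle : ∀ z ∈ (I • ⊤ : Submodule A (AdicCompletion I M)),
      z ∈ (Î • ⊤ : Submodule R (AdicCompletion I M)) := by
    intro z hz
    refine Submodule.smul_induction_on hz ?_ ?_
    · intro i hi w _
      rw [← algebraMap_smul R i w]
      exact Submodule.smul_mem_smul (Ideal.mem_map_of_mem _ hi) Submodule.mem_top
    · intro x y hx hy
      exact Submodule.add_mem _ hx hy
  -- every element of `M` lands in the span of `S` modulo `Î`
  have hM : ∀ m : M, AdicCompletion.of I M m ∈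
      (Submodule.span R S ⊔ Î • ⊤ : Submodule R (AdicCompletion I M)) := by
    intro m
    have h1 : (Submodule.Quotient.mk m : M ⧸ I • (⊤ : Submodule A M)) ∈
        Submodule.span A (T : Set (M ⧸ I • (⊤ : Submodule A M))) := by
      rw [hT]
      exact Submodule.mem_top
    -- the set of good classes
    let G : Submodule A M :=
      Submodule.comap (AdicCompletion.of I M)
        ((Submodule.span R S ⊔ Î • ⊤ : Submodule R (AdicCompletion I M)).restrictScalars A)
    change m ∈ G
    have hIG : (I • ⊤ : Submodule A M) ≤ G := by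
      rw [Submodule.smul_le]
      intro i hi w _
      rw [Submodule.mem_comap, map_smul]
      change _ ∈ (Submodule.span R S ⊔ Î • ⊤ : Submodule R (AdicCompletion I M))
      apply Submodule.mem_sup_right
      apply hle
      exact Submodule.smul_mem_smul hi Submodule.mem_top
    have hTG : ∀ t ∈ T, lift t ∈ G := by
      intro t ht
      rw [Submodule.mem_comap]
      change _ ∈ (Submodule.span R S ⊔ Î • ⊤ : Submodule R (AdicCompletion I M))
      apply Submodule.mem_sup_left
      apply Submodule.subset_span
      exact ⟨t, ht, rfl⟩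
    have hspan : Submodule.span A (T : Set (M ⧸ I • (⊤ : Submodule A M))) ≤
        Submodule.map (I • (⊤ : Submodule A M)).mkQ G := by
      rw [Submodule.span_le]
      intro t ht
      exact ⟨lift t, hTG t ht, hlift t⟩
    obtain ⟨m', hm'G, hm'⟩ := hspan h1
    have hd : m - m' ∈ (I • ⊤ : Submodule A M) := by
      rw [← Submodule.Quotient.mk_eq_zero, Submodule.Quotient.mk_sub, sub_eq_zero]
      exact hm'.symm
    have : m = m' + (m - m') := by abel
    rw [this]
    exact G.add_mem hm'G (hIG hd)
  have htop : (Submodule.span R S ⊔ Î • ⊤ : Submodule R (AdicCompletion I M)) = ⊤ := by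
    rw [eq_top_iff]
    intro y _
    obtain ⟨m, hm⟩ := Submodule.Quotient.mk_surjective _ (AdicCompletion.eval I M 1 y)
    have hker : y - AdicCompletion.of I M m ∈ LinearMap.ker (AdicCompletion.eval I M 1) := by
      rw [LinearMap.mem_ker, map_sub, AdicCompletion.eval_of, ← hm]
      exact sub_self _
    rw [← AdicCompletion.pow_smul_top_eq_ker_eval hI, pow_one] at hker
    have : y = AdicCompletion.of I M m + (y - AdicCompletion.of I M m) := by abel
    rw [this]
    exact Submodule.add_mem _ (hM m) (Submodule.mem_sup_right (hle _ hker))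
  -- conclude
  have hfg : (⊤ : Submodule R (AdicCompletion I M ⧸ (Î • ⊤ : Submodule R (AdicCompletion I M)))).FG := by
    have h1 : Submodule.map (Î • ⊤ : Submodule R (AdicCompletion I M)).mkQ
        (Submodule.span R S ⊔ Î • ⊤) = ⊤ := by
      rw [htop, Submodule.map_top, Submodule.range_mkQ]
    rw [Submodule.map_sup, Submodule.mkQ_map_self, sup_bot_eq, Submodule.map_span] at h1
    rw [← h1]
    exact Submodule.fg_span (hSfin.image _)
  exact ⟨hfg⟩

end classical

section transport

variable {A : Type u} [CommRing A] (I : Ideal A) {M N : Type u} [AddCommGroup M] [Module A M]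
  [AddCommGroup N] [Module A N]

theorem isAdicComplete_of_linearEquiv (e : M ≃ₗ[A] N) (h : IsAdicComplete I M) :
    IsAdicComplete I N := by
  rw [← AdicCompletion.of_bijective_iff] at h ⊢
  have h1 : (AdicCompletion.of I N : N → AdicCompletion I N) =
      (AdicCompletion.congr I e) ∘ (AdicCompletion.of I M) ∘ e.symm := by
    funext y
    change _ = (AdicCompletion.congr I e) (AdicCompletion.of I M (e.symm y))
    rw [AdicCompletion.congr_apply, AdicCompletion.map_of]
    simp
  rw [h1]
  exact (AdicCompletion.congr I e).bijective.comp (h.comp e.symm.bijective)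

end transport

section derived

variable {A : Type u} [CommRing A] [IsNoetherianRing A] (I : Ideal A)

theorem isAdicComplete_tensor (X : Type u) [AddCommGroup X] [Module A X] [Module.Finite A X] :
    IsAdicComplete I (AdicCompletion I A ⊗[A] X) := by
  have hfg : I.FG := IsNoetherian.noetherian I
  have h1 : IsAdicComplete I (AdicCompletion I X) := AdicCompletion.isAdicComplete hfg
  exact isAdicComplete_of_linearEquiv I
    ((AdicCompletion.ofTensorProductEquivOfFiniteNoetherian I X).restrictScalars A).symm h1

/-- a derived complete module with `M/IM` finite is `I`-adically complete. -/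
theorem isAdicComplete_of_isSeqComplete (M : Type u) [AddCommGroup M] [Module A M]
    (hM : ∀ f ∈ I, IsSeqComplete f M)
    (hf : Module.Finite A (M ⧸ I • (⊤ : Submodule A M))) : IsAdicComplete I M := by
  have hfg : I.FG := IsNoetherian.noetherian I
  obtain ⟨s', hs'⟩ := hfg
  let R := AdicCompletion I A
  obtain ⟨n, s, hs⟩ := Module.Finite.exists_fin (R := A) (M := M ⧸ I • (⊤ : Submodule A M))
  have hx : ∀ i, ∃ m : M, (Submodule.Quotient.mk m : M ⧸ I • (⊤ : Submodule A M)) = s i :=
    fun i => Submodule.Quotient.mk_surjective _ (s i)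
  choose x hx using hx
  let X := Fin n → A
  let φ : X →ₗ[A] M := Fintype.linearCombination A x
  let P := R ⊗[A] X
  have hPc : IsAdicComplete I P := isAdicComplete_tensor I X
  have hP : ∀ f ∈ I, IsSeqComplete f P := fun f hf => of_isAdicComplete I f hf
  obtain ⟨φh, hφh, -⟩ := existsUnique_extension I X M hM φ
  -- surjectivity
  have hsurj : Function.Surjective φh := by
    have hC : ∀ f ∈ s', IsSeqComplete f (M ⧸ LinearMap.range φh) := fun f hf =>
      quotient_range (hP f (hs' ▸ Ideal.subset_span hf)) (hM f (hs' ▸ Ideal.subset_span hf)) φh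
    have htop : Ideal.span (s' : Set A) • (⊤ : Submodule A (M ⧸ LinearMap.range φh)) = ⊤ := by
      rw [hs', eq_top_iff]
      intro c _
      obtain ⟨m, rfl⟩ := Submodule.Quotient.mk_surjective _ c
      have h1 : (Submodule.Quotient.mk m : M ⧸ I • (⊤ : Submodule A M)) ∈
          Submodule.span A (Set.range s) := by rw [hs]; exact Submodule.mem_top
      obtain ⟨a, ha⟩ := (Submodule.mem_span_range_iff_exists_fun A).mp h1
      have h2 : m - φ a ∈ (I • ⊤ : Submodule A M) := by
        rw [← Submodule.Quotient.mk_eq_zero, Submodule.Quotient.mk_sub, sub_eq_zero, ← ha]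
        change _ = (I • ⊤ : Submodule A M).mkQ (Fintype.linearCombination A x a)
        rw [Fintype.linearCombination_apply, map_sum]
        refine Finset.sum_congr rfl (fun i _ => ?_)
        rw [map_smul]
        change _ = a i • Submodule.Quotient.mk (x i)
        rw [hx]
      have h3 : φ a ∈ LinearMap.range φh := ⟨(1 : R) ⊗ₜ[A] a, by rw [← hφh]; rfl⟩
      have h4 : (Submodule.Quotient.mk m : M ⧸ LinearMap.range φh) =
          Submodule.Quotient.mk (m - φ a) := by
        rw [Submodule.Quotient.mk_sub, (Submodule.Quotient.mk_eq_zero _).mpr h3, sub_zero]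
      rw [h4]
      have h5 : Submodule.map (LinearMap.range φh).mkQ (I • ⊤ : Submodule A M) ≤
          I • (⊤ : Submodule A (M ⧸ LinearMap.range φh)) := by
        rw [Submodule.map_smul'']
        exact Submodule.smul_mono le_rfl le_top
      exact h5 ⟨_, h2, rfl⟩
    have hz := eq_zero_of_span_smul_top_eq_top s' (M ⧸ LinearMap.range φh) hC htop
    intro m
    have := hz (Submodule.Quotient.mk m)
    rw [Submodule.Quotient.mk_eq_zero] at this
    exact this
  -- the kernel is an `R`-submodule
  have hK : ∀ f ∈ I, IsSeqComplete f (LinearMap.ker φh) := fun f hf =>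
    Groth.Agent.Lib.SeqComplete.ker (hP f hf) (hM f hf) φh
  have hstable : ∀ (b : R) (k : P), k ∈ LinearMap.ker φh → b • k ∈ LinearMap.ker φh := by
    intro b k hk
    let ρ : A →ₗ[A] LinearMap.ker φh := LinearMap.toSpanSingleton A _ ⟨k, hk⟩
    obtain ⟨ρh, hρh, -⟩ := existsUnique_extension I A (LinearMap.ker φh) hK ρ
    let u₁ : R ⊗[A] A →ₗ[A] P := (LinearMap.ker φh).subtype ∘ₗ ρh
    let u₂ : R ⊗[A] A →ₗ[A] P :=
      ((LinearMap.toSpanSingleton R P k).restrictScalars A) ∘ₗ (TensorProduct.rid A R).toLinearMap
    let ρ' : A →ₗ[A] P := LinearMap.toSpanSingleton A P k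
    obtain ⟨u, -, huniq⟩ := existsUnique_extension I A P hP ρ'
    have e1 : u₁ = u := by
      apply huniq
      ext
      change ((ρh ∘ₗ (TensorProduct.mk A R A 1)) 1 : P) = _
      rw [hρh]
      simp [ρ, ρ']
    have e2 : u₂ = u := by
      apply huniq
      ext
      simp [u₂, ρ']
    have e3 : u₁ (b ⊗ₜ[A] (1 : A)) = u₂ (b ⊗ₜ[A] (1 : A)) := by rw [e1, e2]
    have e4 : u₂ (b ⊗ₜ[A] (1 : A)) = b • k := by simp [u₂]
    rw [← e4, ← e3]
    exact (ρh (b ⊗ₜ[A] (1 : A))).2
  let KR : Submodule R P :=
    { carrier := LinearMap.ker φh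
      add_mem' := fun ha hb => (LinearMap.ker φh).add_mem ha hb
      zero_mem' := (LinearMap.ker φh).zero_mem
      smul_mem' := fun b k hk => hstable b k hk }
  have hR : IsNoetherianRing R := Groth.Agent.Lib.AdicNoeth.isNoetherianRing_adicCompletion I
  have hRc : IsAdicComplete (I.map (algebraMap A R)) R :=
    AdicCompletion.isAdicComplete_self I ⟨s', hs'⟩
  have hY1 : IsAdicComplete (I.map (algebraMap A R)) (P ⧸ KR) :=
    isAdicComplete_of_finite (I.map (algebraMap A R)) (P ⧸ KR)
  have hY2 : IsAdicComplete I (P ⧸ KR) := (IsAdicComplete.map_algebraMap_iff I (P ⧸ KR)).mp hY1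
  have hker : KR.restrictScalars A = LinearMap.ker φh := rfl
  let e : (P ⧸ KR) ≃ₗ[A] M :=
    (Submodule.Quotient.restrictScalarsEquiv A KR).symm ≪≫ₗ
      Submodule.quotEquivOfEq _ _ hker ≪≫ₗ φh.quotKerEquivOfSurjective hsurj
  exact isAdicComplete_of_linearEquiv I e hY2

end derived

end Groth.Agent.Lib.TKfFin
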