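import Mathlib
import Groth.Agent.Lib.CohenStructure
import Groth.Agent.Lib.H59PowerSeriesDim
import Groth.Agent.Lib.TKfFin
import Groth.Agent.Lib.H14QFCompl
import Groth.Agent.Lib.GaloisRing89

/-!
# Finiteness of invariants of a finite group acting on a complete local ring (helper89)

`A` a complete Noetherian local ring with a coefficient field `k` (`k → A → A/m` onto), `G` a
finite group acting on `A` by `k`-automorphisms, `B = A^G = FixedPoints.subring A G`.

* `exists_powerSeries`: there is a finite `k`-algebra map `φ : k[[T_1..T_n]] → A` with image in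
  `B` (the `T`s go to the coefficients of the characteristic polynomials of generators of `m`).
* `main`: `B` is Noetherian, `A` is a finite `B`-module, `B` is complete for `m ∩ B`.
* `isLocalRing_fixedPoints`, `isIntegrallyClosed_fixedPoints`.
-/

set_option autoImplicit false
set_option linter.style.haveILetI false
set_option linter.unusedSectionVars false

namespace Groth.Agent.Lib.InvFinite89

open IsLocalRing

section basic

variable {A : Type*} [CommRing A] {G : Type*} [Group G] [MulSemiringAction G A]

theorem isUnit_fixedPoints_iff (b : FixedPoints.subring A G) : IsUnit b ↔ IsUnit (b : A) := by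
  constructor
  · intro h
    exact h.map (FixedPoints.subring A G).subtype
  · intro h
    obtain ⟨u, hu⟩ := h
    have hinv : ∀ σ : G, σ • (↑u⁻¹ : A) = ↑u⁻¹ := by
      intro σ
      have h1 : σ • (u : A) = u := by rw [hu]; exact b.2 σ
      have h2 : σ • ((u : A) * (↑u⁻¹ : A)) = 1 := by rw [Units.mul_inv, smul_one]
      rw [smul_mul', h1] at h2
      calc σ • (↑u⁻¹ : A) = (↑u⁻¹ * ↑u) * σ • (↑u⁻¹ : A) := by rw [Units.inv_mul, one_mul]
        _ = ↑u⁻¹ * (↑u * σ • (↑u⁻¹ : A)) := by ring
        _ = ↑u⁻¹ := by rw [h2, mul_one]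
    refine IsUnit.of_mul_eq_one (⟨(↑u⁻¹ : A), hinv⟩ : FixedPoints.subring A G) ?_
    apply Subtype.ext
    change (b : A) * ↑u⁻¹ = 1
    rw [← hu, Units.mul_inv]

theorem isLocalRing_fixedPoints [IsLocalRing A] : IsLocalRing (FixedPoints.subring A G) := by
  have : Nontrivial (FixedPoints.subring A G) := inferInstance
  refine IsLocalRing.of_nonunits_add ?_
  intro a b ha hb
  rw [mem_nonunits_iff, isUnit_fixedPoints_iff] at ha hb ⊢
  have := IsLocalRing.nonunits_add (R := A) ha hb
  exact this

theorem smul_mem_maximalIdeal [IsLocalRing A] (σ : G) {x : A} (hx : x ∈ maximalIdeal A) :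
    σ • x ∈ maximalIdeal A := by
  rw [mem_maximalIdeal, mem_nonunits_iff] at hx ⊢
  intro h
  apply hx
  have := h.map (MulSemiringAction.toRingHom G A σ⁻¹)
  rwa [MulSemiringAction.toRingHom_apply, inv_smul_smul] at this

theorem smul_mem_maximalIdeal_pow [IsLocalRing A] (σ : G) (n : ℕ) {x : A}
    (hx : x ∈ maximalIdeal A ^ n) : σ • x ∈ maximalIdeal A ^ n := by
  have h1 : (maximalIdeal A).map (MulSemiringAction.toRingHom G A σ) ≤ maximalIdeal A := by
    rw [Ideal.map_le_iff_le_comap]
    intro y hy
    exact smul_mem_maximalIdeal σ hy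
  have h2 : (maximalIdeal A ^ n).map (MulSemiringAction.toRingHom G A σ) ≤ maximalIdeal A ^ n := by
    rw [Ideal.map_pow]
    exact Ideal.pow_right_mono h1 n
  exact h2 (Ideal.mem_map_of_mem (MulSemiringAction.toRingHom G A σ) hx)

theorem isIntegrallyClosed_fixedPoints [IsDomain A] [IsIntegrallyClosed A] :
    IsIntegrallyClosed (FixedPoints.subring A G) := by
  let B := FixedPoints.subring A G
  let K := FractionRing A
  let L := FractionRing B
  have hinj : Function.Injective (algebraMap B K) :=
    (IsFractionRing.injective A K).comp Subtype.val_injective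
  rw [isIntegrallyClosed_iff L]
  intro x hx
  let ι : L →ₐ[B] K := IsFractionRing.liftAlgHom (R := B) (A := B) (K := L) (L := K)
    (g := Algebra.ofId B K) hinj
  have hιinj : Function.Injective ι := (ι : L →+* K).injective
  have hx' : IsIntegral A (ι x) := (hx.map ι).tower_top
  obtain ⟨a, ha⟩ := IsIntegrallyClosed.isIntegral_iff.mp hx'
  obtain ⟨b1, b2, hb2, hx12⟩ := IsFractionRing.div_surjective (A := B) x
  have hb2' : (b2 : A) ≠ 0 := by
    intro h0
    have : b2 = 0 := Subtype.ext h0
    exact (nonZeroDivisors.ne_zero hb2) this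
  have hb2L : algebraMap B L b2 ≠ 0 := by
    intro h0
    exact (nonZeroDivisors.ne_zero hb2) ((map_eq_zero_iff _ (IsFractionRing.injective B L)).mp h0)
  have hmul : a * (b2 : A) = (b1 : A) := by
    apply IsFractionRing.injective A K
    rw [map_mul, ha]
    have h1 : x * algebraMap B L b2 = algebraMap B L b1 := by
      rw [← hx12, div_mul_cancel₀ _ hb2L]
    have h2 := congrArg ι h1
    rw [map_mul, AlgHom.commutes, AlgHom.commutes] at h2
    exact h2
  have hfix : ∀ σ : G, σ • a = a := by
    intro σ
    have h1 : σ • (a * (b2 : A)) = σ • (b1 : A) := by rw [hmul]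
    rw [smul_mul', b2.2 σ, b1.2 σ, ← hmul] at h1
    exact mul_right_cancel₀ hb2' h1
  refine ⟨⟨a, hfix⟩, ?_⟩
  apply hιinj
  rw [AlgHom.commutes, ← ha]
  rfl

end basic

section charpoly

variable {A : Type*} [CommRing A] [IsLocalRing A] {G : Type*} [Group G] [Fintype G]
  [MulSemiringAction G A]

theorem coeff_charpoly_mem (y : A) (hy : y ∈ maximalIdeal A) (j : ℕ) (hj : j ≠ Fintype.card G) :
    (MulSemiringAction.charpoly G y).coeff j ∈ maximalIdeal A := by
  rw [← residue_eq_zero_iff, ← Polynomial.coeff_map]
  have h1 : (MulSemiringAction.charpoly G y).map (residue A) = Polynomial.X ^ Fintype.card G := by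
    rw [MulSemiringAction.charpoly_eq, Polynomial.map_prod]
    have h2 : ∀ g : G, residue A (g • y) = 0 := fun g =>
      (residue_eq_zero_iff _).mpr (smul_mem_maximalIdeal g hy)
    simp [h2]
  rw [h1, Polynomial.coeff_X_pow, if_neg hj]

theorem natDegree_charpoly (y : A) :
    (MulSemiringAction.charpoly G y).natDegree = Fintype.card G := by
  rw [MulSemiringAction.charpoly_eq, Polynomial.natDegree_prod_of_monic _ _
    (fun g _ => Polynomial.monic_X_sub_C _)]
  simp

theorem pow_card_mem (y : A) :
    y ^ Fintype.card G ∈ Ideal.span (Set.range fun j : Fin (Fintype.card G) =>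
      (MulSemiringAction.charpoly G y).coeff j) := by
  have h0 := MulSemiringAction.eval_charpoly G y
  rw [Polynomial.eval_eq_sum_range, natDegree_charpoly, Finset.sum_range_succ,
    ← natDegree_charpoly (G := G) y, (MulSemiringAction.monic_charpoly G y).coeff_natDegree,
    one_mul, natDegree_charpoly] at h0
  have h1 : y ^ Fintype.card G = - ∑ x ∈ Finset.range (Fintype.card G),
      (MulSemiringAction.charpoly G y).coeff x * y ^ x := by
    rw [eq_neg_iff_add_eq_zero, add_comm]
    exact h0
  rw [h1]
  refine Ideal.neg_mem_iff _ |>.mpr (Ideal.sum_mem _ fun j hj => ?_)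
  refine Ideal.mul_mem_right _ _ (Ideal.subset_span ⟨⟨j, Finset.mem_range.mp hj⟩, rfl⟩)

end charpoly

section main

variable {A : Type*} [CommRing A] [IsLocalRing A] [IsNoetherianRing A]
  [IsAdicComplete (maximalIdeal A) A] (k : Type*) [Field k] [Algebra k A]
  {G : Type*} [Group G] [Finite G] [MulSemiringAction G A]

theorem maximalIdeal_ps (n : ℕ) :
    maximalIdeal (MvPowerSeries (Fin n) k) =
      Ideal.span (Set.range (MvPowerSeries.X : Fin n → MvPowerSeries (Fin n) k)) := by
  rw [Groth.Agent.Lib.H59PowerSeries.maximalIdeal_eq_bigIdeal,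
    Groth.Agent.Lib.H59PowerSeries.bigIdeal, IsLocalRing.maximalIdeal_eq_bot (R := k),
    Ideal.map_bot, sup_bot_eq]

theorem isAdicComplete_ps (n : ℕ) : IsAdicComplete (maximalIdeal (MvPowerSeries (Fin n) k))
    (MvPowerSeries (Fin n) k) := by
  have := Groth.Agent.Lib.H59PowerSeries.isAdicComplete_bigIdeal (σ := Fin n) (⊥ : Ideal k)
  rw [Groth.Agent.Lib.H59PowerSeries.maximalIdeal_eq_bigIdeal,
    IsLocalRing.maximalIdeal_eq_bot (R := k)]
  exact this

/-- the finite power series subring of invariants. -/
theorem exists_powerSeries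
    (hk : Function.Surjective (residue A ∘ algebraMap k A))
    (hGk : ∀ (σ : G) (c : k), σ • algebraMap k A c = algebraMap k A c) :
    ∃ (n : ℕ) (φ : MvPowerSeries (Fin n) k →ₐ[k] A), φ.toRingHom.Finite ∧
      (∀ (σ : G) (F : MvPowerSeries (Fin n) k), σ • φ F = φ F) ∧
      (maximalIdeal (MvPowerSeries (Fin n) k)).map φ.toRingHom ≤ maximalIdeal A ∧
      maximalIdeal A ≤ ((maximalIdeal (MvPowerSeries (Fin n) k)).map φ.toRingHom).radical := by
  classical
  have := Fintype.ofFinite G
  -- generators of the maximal ideal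
  obtain ⟨d, y, hy⟩ := Submodule.fg_iff_exists_fin_generating_family.mp
    (IsNoetherian.noetherian (maximalIdeal A))
  have hym : ∀ i, y i ∈ maximalIdeal A := fun i => by
    rw [← hy]; exact Submodule.subset_span ⟨i, rfl⟩
  let N := Fintype.card G
  let z' : Fin d × Fin N → A := fun ij => (MulSemiringAction.charpoly G (y ij.1)).coeff ij.2
  let z : Fin (d * N) → A := z' ∘ finProdFinEquiv.symm
  have hrange : Set.range z = Set.range z' := by
    exact finProdFinEquiv.symm.surjective.range_comp z'
  have hzm : ∀ i, z i ∈ maximalIdeal A := by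
    intro i
    exact coeff_charpoly_mem _ (hym _) _ (Fin.is_lt _).ne
  have hzfix : ∀ (σ : G) i, σ • z i = z i := by
    intro σ i
    exact MulSemiringAction.smul_coeff_charpoly _ _ σ
  obtain ⟨φ, hφX, hφ⟩ := Groth.Agent.Lib.PowerSeriesLift50.exists_algHom (k := k)
    (maximalIdeal A) z hzm
  have hmap : (maximalIdeal (MvPowerSeries (Fin (d * N)) k)).map φ.toRingHom =
      Ideal.span (Set.range z) := by
    rw [maximalIdeal_ps, Ideal.map_span, ← Set.range_comp]
    congr 2
    ext i
    exact hφX i
  have hloc : Ideal.span (Set.range z) ≤ maximalIdeal A := by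
    rw [Ideal.span_le]
    rintro _ ⟨i, rfl⟩
    exact hzm i
  have hrad : maximalIdeal A ≤ (Ideal.span (Set.range z)).radical := by
    have : maximalIdeal A = Ideal.span (Set.range y) := hy.symm
    rw [this, Ideal.span_le]
    rintro _ ⟨i, rfl⟩
    refine ⟨N, ?_⟩
    have h1 := pow_card_mem (G := G) (y i)
    refine Ideal.span_mono ?_ h1
    rintro _ ⟨j, rfl⟩
    rw [hrange]
    exact ⟨(i, j), rfl⟩
  have hS : IsRegularLocalRing (MvPowerSeries (Fin (d * N)) k) :=
    Groth.Agent.Lib.H59PowerSeriesDim.isRegularLocalRing_psk (d * N)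
  have hcompl := isAdicComplete_ps k (d * N)
  refine ⟨d * N, φ, ?_, ?_, ?_, ?_⟩
  · refine Groth.Agent.Lib.CohenStructure.finite_of_primary φ.toRingHom ?_ ?_ ?_
    · rw [hmap]; exact hloc
    · rw [hmap]; exact hrad
    · intro x
      obtain ⟨c, hc⟩ := hk x
      refine ⟨algebraMap k _ c, ?_⟩
      rw [← hc]
      show IsLocalRing.residue A (φ (algebraMap k _ c)) = _
      rw [AlgHom.commutes]
      rfl
  · intro σ F
    -- `σ` as a `k`-algebra map
    let σ' : A →ₐ[k] A :=
      { MulSemiringAction.toRingHom G A σ with commutes' := fun c => hGk σ c }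
    have hpoly : ∀ q : MvPolynomial (Fin (d * N)) k,
        σ • MvPolynomial.aeval z q = MvPolynomial.aeval z q := by
      intro q
      have h1 : σ'.comp (MvPolynomial.aeval z) = MvPolynomial.aeval z := by
        apply MvPolynomial.algHom_ext
        intro i
        simp only [AlgHom.comp_apply, MvPolynomial.aeval_X]
        exact hzfix σ i
      exact congrArg (fun f => f q) h1
    have hall : ∀ n : ℕ, σ • φ F - φ F ∈ maximalIdeal A ^ n := by
      intro n
      have h1 := hφ F n
      have h2 := smul_mem_maximalIdeal_pow σ n h1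
      rw [smul_sub, hpoly] at h2
      have : σ • φ F - φ F = (σ • φ F - MvPolynomial.aeval z (MvPowerSeries.truncTotal n F)) -
          (φ F - MvPolynomial.aeval z (MvPowerSeries.truncTotal n F)) := by ring
      rw [this]
      exact Ideal.sub_mem _ h2 h1
    have h0 : σ • φ F - φ F = 0 := by
      apply IsHausdorff.haus' (I := maximalIdeal A) (σ • φ F - φ F)
      intro n
      rw [SModEq.zero]
      simpa using hall n
    exact sub_eq_zero.mp h0
  · rw [hmap]; exact hloc
  · rw [hmap]; exact hrad

end main

section consequences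

variable {A : Type*} [CommRing A] [IsLocalRing A] [IsNoetherianRing A]
  [IsAdicComplete (maximalIdeal A) A] (k : Type*) [Field k] [Algebra k A]
  {G : Type*} [Group G] [Finite G] [MulSemiringAction G A]

/-- `A^G` is Noetherian, `A` is finite over `A^G`, and `A^G` is complete for `m ∩ A^G`. -/
theorem main
    (hk : Function.Surjective (residue A ∘ algebraMap k A))
    (hGk : ∀ (σ : G) (c : k), σ • algebraMap k A c = algebraMap k A c) :
    IsNoetherianRing (FixedPoints.subring A G) ∧ Module.Finite (FixedPoints.subring A G) A ∧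
      IsAdicComplete (Ideal.comap (FixedPoints.subring A G).subtype (maximalIdeal A))
        (FixedPoints.subring A G) := by
  obtain ⟨n, φ, hfin, hinv, hloc, hrad⟩ := exists_powerSeries (G := G) k hk hGk
  have hS : IsRegularLocalRing (MvPowerSeries (Fin n) k) :=
    Groth.Agent.Lib.H59PowerSeriesDim.isRegularLocalRing_psk n
  have hcompl := isAdicComplete_ps k n
  let φB : MvPowerSeries (Fin n) k →+* FixedPoints.subring A G :=
    φ.toRingHom.codRestrict (FixedPoints.subring A G) (fun F σ => hinv σ F)
  letI algPA : Algebra (MvPowerSeries (Fin n) k) A := φ.toRingHom.toAlgebra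
  letI algPB : Algebra (MvPowerSeries (Fin n) k) (FixedPoints.subring A G) := φB.toAlgebra
  have tower : IsScalarTower (MvPowerSeries (Fin n) k) (FixedPoints.subring A G) A :=
    IsScalarTower.of_algebraMap_eq (fun x => rfl)
  have hfinA : Module.Finite (MvPowerSeries (Fin n) k) A := hfin
  have hfinB : Module.Finite (MvPowerSeries (Fin n) k) (FixedPoints.subring A G) :=
    Module.Finite.of_injective
      (IsScalarTower.toAlgHom (MvPowerSeries (Fin n) k) (FixedPoints.subring A G) A).toLinearMap
      Subtype.val_injective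
  have hNB : IsNoetherianRing (FixedPoints.subring A G) :=
    IsNoetherianRing.of_finite (MvPowerSeries (Fin n) k) (FixedPoints.subring A G)
  have hfinBA : Module.Finite (FixedPoints.subring A G) A :=
    Module.Finite.of_restrictScalars_finite (MvPowerSeries (Fin n) k) (FixedPoints.subring A G) A
  refine ⟨hNB, hfinBA, ?_⟩
  have h1 : IsAdicComplete (maximalIdeal (MvPowerSeries (Fin n) k)) (FixedPoints.subring A G) :=
    Groth.Agent.Lib.TKfFin.isAdicComplete_of_finite _ _
  have h2 : IsAdicComplete ((maximalIdeal (MvPowerSeries (Fin n) k)).map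
      (algebraMap (MvPowerSeries (Fin n) k) (FixedPoints.subring A G)))
      (FixedPoints.subring A G) := (IsAdicComplete.map_algebraMap_iff _ _).mpr h1
  have hle : (maximalIdeal (MvPowerSeries (Fin n) k)).map
      (algebraMap (MvPowerSeries (Fin n) k) (FixedPoints.subring A G)) ≤
      Ideal.comap (FixedPoints.subring A G).subtype (maximalIdeal A) := by
    rw [Ideal.map_le_iff_le_comap]
    intro x hx
    exact hloc (Ideal.mem_map_of_mem φ.toRingHom hx)
  have hrad' : Ideal.comap (FixedPoints.subring A G).subtype (maximalIdeal A) ≤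
      ((maximalIdeal (MvPowerSeries (Fin n) k)).map
      (algebraMap (MvPowerSeries (Fin n) k) (FixedPoints.subring A G))).radical := by
    rw [Ideal.radical_eq_sInf]
    refine le_sInf ?_
    rintro q ⟨hq, hqp⟩
    have hint : Algebra.IsIntegral (FixedPoints.subring A G) A :=
      Groth.Agent.Lib.GaloisRing89.isIntegral_fixedPoints
    have hinj : Function.Injective (algebraMap (FixedPoints.subring A G) A) :=
      Subtype.val_injective
    obtain ⟨Q, -, hQp, hQc⟩ := Ideal.exists_ideal_over_prime_of_isIntegral q (⊥ : Ideal A) (by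
      intro x hx
      have : algebraMap (FixedPoints.subring A G) A x = 0 := by simpa using hx
      rw [(map_eq_zero_iff _ hinj).mp this]
      exact zero_mem _)
    have hQ : (maximalIdeal (MvPowerSeries (Fin n) k)).map φ.toRingHom ≤ Q := by
      rw [Ideal.map_le_iff_le_comap]
      intro x hx
      have h3 : algebraMap (MvPowerSeries (Fin n) k) (FixedPoints.subring A G) x ∈ q :=
        hq (Ideal.mem_map_of_mem _ hx)
      rw [← hQc] at h3
      exact h3
    have hQm : maximalIdeal A ≤ Q := hrad.trans (hQp.radical_le_iff.mpr hQ)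
    have hQeq : maximalIdeal A = Q := (maximalIdeal.isMaximal A).eq_of_le hQp.ne_top hQm
    rw [← hQc, ← hQeq]
    exact le_rfl
  obtain ⟨N, hN⟩ := Ideal.exists_pow_le_of_le_radical_of_fg hrad' (IsNoetherian.noetherian _)
  exact Groth.Agent.Lib.H14QFCompl.isAdicComplete_of_le_of_pow_le _ _ _ hle N hN

end consequences

end Groth.Agent.Lib.InvFinite89
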