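import Mathlib
import Groth.Agent.Lib.GaloisRing89
import Groth.Agent.Lib.InvFinite89

/-!
# Purity for Galois covers in the finite free case (helper89)

`G` finite group acting on a ring `A`, `B = A^G`, `A` finite free over `B` with basis `e`.

* `traceMatrix e`, `det_traceMatrix_notMem`: the discriminant `det (tr (e i * e j))` lies outside
  every prime `q` of `B` all of whose primes above have trivial inertia.
* `isUnit_det_traceMatrix`: if `B` is Noetherian local of dimension `≥ 2` and all non-maximal
  primes of `A` have trivial inertia, the discriminant is a unit.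
* `surjective_of_free`: if moreover `A` is local with the same residue field as `B`, then `A = B`.
-/

set_option autoImplicit false
set_option linter.style.haveILetI false
set_option linter.unusedSectionVars false

namespace Groth.Agent.Lib.GaloisPurity89

open Groth.Agent.Lib.GaloisRing89 Groth.Agent.Lib.InvFinite89 IsLocalRing

variable {A : Type*} [CommRing A] {G : Type*} [Group G] [Fintype G] [MulSemiringAction G A]
  {ι : Type*} [Fintype ι] [DecidableEq ι]

/-- the matrix of the trace form. -/
noncomputable def traceMatrix (e : Module.Basis ι (FixedPoints.subring A G) A) :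
    Matrix ι ι (FixedPoints.subring A G) :=
  fun i j => tr (G := G) (e i * e j)

theorem traceMatrix_row (e : Module.Basis ι (FixedPoints.subring A G) A) (m : ι) (x : A) :
    ∑ i, traceMatrix e m i * e.repr x i = tr (G := G) (e m * x) := by
  conv_rhs => rw [← e.sum_repr x]
  rw [Finset.mul_sum, map_sum]
  refine Finset.sum_congr rfl fun i _ => ?_
  rw [mul_smul_comm, map_smul, smul_eq_mul, mul_comm]
  rfl

theorem traceMatrix_col (e : Module.Basis ι (FixedPoints.subring A G) A) (m : ι) (x : A) :
    ∑ i, e.repr x i * traceMatrix e i m = tr (G := G) (x * e m) := by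
  conv_rhs => rw [← e.sum_repr x]
  rw [Finset.sum_mul, map_sum]
  refine Finset.sum_congr rfl fun i _ => ?_
  rw [smul_mul_assoc, map_smul, smul_eq_mul]
  rfl

/-- the discriminant avoids every prime over which the action is free. -/
theorem det_traceMatrix_notMem (e : Module.Basis ι (FixedPoints.subring A G) A)
    (q : Ideal (FixedPoints.subring A G)) [q.IsPrime]
    (hq : ∀ Q : Ideal A, Q.IsPrime → Q.comap (algebraMap (FixedPoints.subring A G) A) = q →
      Q.inertia G = ⊥) :
    (traceMatrix e).det ∉ q := by
  classical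
  intro hDq
  obtain ⟨f, hfq, hfix⟩ := exists_denominator (A := A) (G := G) q hq
  obtain ⟨t, ht⟩ := exists_chr (f : A) hfix
  obtain ⟨S, hS⟩ := TensorProduct.exists_finset t
  have hsum : ∀ τ : G, ∑ l ∈ S, l.1 * τ • l.2 =
      if τ = 1 then ((f ^ (Fintype.card G - 1) : FixedPoints.subring A G) : A) else 0 := by
    intro τ
    rw [← jmap_sum_tmul, ← hS, ht]
    rfl
  let W : Matrix ι ι (FixedPoints.subring A G) :=
    fun i j => ∑ l ∈ S, e.repr l.1 i * e.repr l.2 j
  have hkey : ∀ m : ι,
      ∑ l ∈ S, (tr (G := G) (e m * l.1)) • l.2 = (f ^ (Fintype.card G - 1)) • e m := by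
    intro m
    have h1 := sum_tr_mul (G := G) S _ hsum (e m)
    rw [Subring.smul_def, smul_eq_mul, ← h1]
    refine Finset.sum_congr rfl fun l _ => ?_
    rw [Subring.smul_def, smul_eq_mul]
  have hTW : traceMatrix e * W = (f ^ (Fintype.card G - 1)) •
      (1 : Matrix ι ι (FixedPoints.subring A G)) := by
    apply Matrix.ext
    intro m j
    rw [Matrix.mul_apply, Matrix.smul_apply, Matrix.one_apply, smul_eq_mul]
    calc ∑ i, traceMatrix e m i * W i j
        = ∑ l ∈ S, (∑ i, traceMatrix e m i * e.repr l.1 i) * e.repr l.2 j := by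
          simp only [W, Finset.mul_sum, Finset.sum_mul]
          rw [Finset.sum_comm]
          refine Finset.sum_congr rfl fun l _ => Finset.sum_congr rfl fun i _ => ?_
          ring
      _ = ∑ l ∈ S, tr (G := G) (e m * l.1) * e.repr l.2 j := by
          refine Finset.sum_congr rfl fun l _ => ?_
          rw [traceMatrix_row]
      _ = e.repr (∑ l ∈ S, (tr (G := G) (e m * l.1)) • l.2) j := by
          rw [map_sum, Finsupp.coe_finsetSum, Finset.sum_apply]
          refine Finset.sum_congr rfl fun l _ => ?_
          rw [map_smul, Finsupp.smul_apply, smul_eq_mul]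
      _ = f ^ (Fintype.card G - 1) * if m = j then 1 else 0 := by
          rw [hkey, map_smul, Finsupp.smul_apply, smul_eq_mul, e.repr_self, Finsupp.single_apply]
  have hdet : (traceMatrix e).det * W.det = (f ^ (Fintype.card G - 1)) ^ Fintype.card ι := by
    rw [← Matrix.det_mul, hTW, Matrix.det_smul, Matrix.det_one, mul_one]
  have hmem : (f ^ (Fintype.card G - 1)) ^ Fintype.card ι ∈ q := by
    rw [← hdet]
    exact Ideal.mul_mem_right _ _ hDq
  have hqp : q.IsPrime := inferInstance
  exact hfq (hqp.mem_of_pow_mem _ (hqp.mem_of_pow_mem _ hmem))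

/-- **Purity**: if the action is free outside the closed point of a local base of dimension `≥ 2`,
the discriminant is a unit. -/
theorem isUnit_det_traceMatrix [IsLocalRing A] [IsNoetherianRing (FixedPoints.subring A G)]
    (e : Module.Basis ι (FixedPoints.subring A G) A)
    (hdim : 2 ≤ ringKrullDim (FixedPoints.subring A G))
    (hram : ∀ P : Ideal A, P.IsPrime → P ≠ maximalIdeal A → P.inertia G = ⊥) :
    IsUnit (traceMatrix e).det := by
  by_contra hDnu
  have hlocB : IsLocalRing (FixedPoints.subring A G) := isLocalRing_fixedPoints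
  have hint : Algebra.IsIntegral (FixedPoints.subring A G) A := isIntegral_fixedPoints
  have hspan : Ideal.span {(traceMatrix e).det} ≠ ⊤ := by
    rwa [Ne, Ideal.span_singleton_eq_top]
  obtain ⟨q, hq⟩ := Ideal.nonempty_minimalPrimes hspan
  have hqp : q.IsPrime := hq.1.1
  have hDq : (traceMatrix e).det ∈ q := hq.1.2 (Ideal.subset_span rfl)
  have hqh : q.height ≤ 1 :=
    Ideal.height_le_one_of_isPrincipal_of_mem_minimalPrimes (Ideal.span {(traceMatrix e).det}) q hq
  have hqmax : ¬ q.IsMaximal := by
    intro hmax
    have h1 : q = maximalIdeal (FixedPoints.subring A G) := IsLocalRing.eq_maximalIdeal hmax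
    have h2 := IsLocalRing.maximalIdeal_height_eq_ringKrullDim (R := FixedPoints.subring A G)
    rw [← h1] at h2
    have h3 : (2 : WithBot ℕ∞) ≤ ((1 : ℕ∞) : WithBot ℕ∞) := by
      calc (2 : WithBot ℕ∞) ≤ ringKrullDim (FixedPoints.subring A G) := hdim
        _ = (q.height : WithBot ℕ∞) := h2.symm
        _ ≤ ((1 : ℕ∞) : WithBot ℕ∞) := by exact_mod_cast hqh
    have h4 : ((2 : ℕ∞) : WithBot ℕ∞) ≤ ((1 : ℕ∞) : WithBot ℕ∞) := h3
    rw [WithBot.coe_le_coe] at h4
    exact absurd h4 (by decide)
  have hQne : ∀ Q : Ideal A, Q.IsPrime → Q.comap (algebraMap (FixedPoints.subring A G) A) = q →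
      Q ≠ maximalIdeal A := by
    intro Q _ hQc hQm
    apply hqmax
    rw [← hQc, hQm]
    exact Ideal.isMaximal_comap_of_isIntegral_of_isMaximal _
  exact det_traceMatrix_notMem e q (fun Q hQ hQc => hram Q hQ (hQne Q hQ hQc)) hDq

theorem mem_maximalIdeal_fixedPoints_iff [IsLocalRing A] (b : FixedPoints.subring A G) :
    haveI : IsLocalRing (FixedPoints.subring A G) := isLocalRing_fixedPoints
    b ∈ maximalIdeal (FixedPoints.subring A G) ↔ (b : A) ∈ maximalIdeal A := by
  haveI : IsLocalRing (FixedPoints.subring A G) := isLocalRing_fixedPoints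
  rw [mem_maximalIdeal, mem_maximalIdeal, mem_nonunits_iff, mem_nonunits_iff,
    isUnit_fixedPoints_iff]

/-- **Purity, Galois case**: `A` local, finite free over `B = A^G` Noetherian of dimension `≥ 2`,
same residue field, action free outside the closed point. Then `A = B`. -/
theorem surjective_of_free [IsLocalRing A] [IsNoetherianRing (FixedPoints.subring A G)]
    [Module.Finite (FixedPoints.subring A G) A] [Module.Free (FixedPoints.subring A G) A]
    (hdim : 2 ≤ ringKrullDim (FixedPoints.subring A G))
    (hres : ∀ a : A, ∃ b : FixedPoints.subring A G, a - b ∈ maximalIdeal A)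
    (hram : ∀ P : Ideal A, P.IsPrime → P ≠ maximalIdeal A → P.inertia G = ⊥) (a : A) :
    ∃ b : FixedPoints.subring A G, (b : A) = a := by
  classical
  haveI hlocB : IsLocalRing (FixedPoints.subring A G) := isLocalRing_fixedPoints
  let e := Module.Free.chooseBasis (FixedPoints.subring A G) A
  have hunit := isUnit_det_traceMatrix e hdim hram
  -- coordinates of elements of the maximal ideal
  have hcoord : ∀ x ∈ maximalIdeal A, ∀ j, e.repr x j ∈ maximalIdeal (FixedPoints.subring A G) := by
    intro x hx j
    have h1 : ∀ m, ∑ i, e.repr x i * traceMatrix e i m ∈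
        maximalIdeal (FixedPoints.subring A G) := by
      intro m
      rw [traceMatrix_col, mem_maximalIdeal_fixedPoints_iff, coe_tr]
      exact Ideal.sum_mem _ fun σ _ => smul_mem_maximalIdeal σ (Ideal.mul_mem_right _ _ hx)
    have h2 : (fun i => e.repr x i) =
        Matrix.vecMul (Matrix.vecMul (fun i => e.repr x i) (traceMatrix e)) (traceMatrix e)⁻¹ := by
      rw [Matrix.vecMul_vecMul, Matrix.mul_nonsing_inv _ hunit, Matrix.vecMul_one]
    have h3 := congrFun h2 j
    rw [h3]
    change ∑ i, _ ∈ _
    refine Ideal.sum_mem _ fun i _ => Ideal.mul_mem_right _ _ ?_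
    exact h1 i
  -- Nakayama
  have hle : (⊤ : Submodule (FixedPoints.subring A G) A) ≤
      Submodule.span (FixedPoints.subring A G) {(1 : A)} ⊔
        maximalIdeal (FixedPoints.subring A G) • ⊤ := by
    intro y _
    obtain ⟨b, hb⟩ := hres y
    have h1 : y = b • (1 : A) + (y - b) := by
      rw [Subring.smul_def, smul_eq_mul, mul_one]; ring
    rw [h1]
    refine Submodule.add_mem_sup (Submodule.smul_mem _ _ (Submodule.subset_span rfl)) ?_
    rw [← e.sum_repr (y - b)]
    exact Submodule.sum_mem _ fun i _ =>
      Submodule.smul_mem_smul (hcoord _ hb i) Submodule.mem_top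
  have htop := Submodule.le_of_le_smul_of_le_jacobson_bot
    (Module.Finite.fg_top (R := FixedPoints.subring A G) (M := A))
    (IsLocalRing.maximalIdeal_le_jacobson ⊥) hle
  obtain ⟨b, hb⟩ := Submodule.mem_span_singleton.mp (htop (Submodule.mem_top (x := a)))
  refine ⟨b, ?_⟩
  rw [← hb, Subring.smul_def, smul_eq_mul, mul_one]

end Groth.Agent.Lib.GaloisPurity89
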