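import Mathlib
import Groth.Agent.S1386
import Groth.Agent.S2599
import Groth.Agent.Lib.CMQF33i
import Groth.Agent.Lib.CritFibFib88
import Groth.Agent.Lib.FibreStalk33
import Groth.Agent.Lib.FibreDimAtFormula
import Groth.Agent.Lib.QFAt91

/-!
# Flatness of quasi-finite charts at Cohen–Macaulay points (helper83)

* `isRegularLocalRing_stalk_fiber_affineSpace`: the local rings of the fibres of `𝔸ⁿ_S → S` are regular.
* `exists_trdeg_eq`, `trdeg_comp`: finiteness and additivity of the transcendence degrees of residue
  field extensions along morphisms locally of finite type.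
* `ringKrullDim_stalk_fiber_eq`: for `g` quasi-finite at `x`, if the fibres of `g ≫ p` at `x` and of `p`
  at `g x` have the same local dimension, their local rings have the same Krull dimension.
* `flat_of_regular_of_cm_of_quasiFinite`: miracle flatness for quasi-finite local homomorphisms.
* `flat_stalkMap_of_quasiFiniteAt`: `g : U ⟶ A` over `S`, quasi-finite at `x`, `U/S` Cohen–Macaulay at
  `x`, the fibre of `A/S` regular of the same dimension: then `g` is flat at `x`
  (critère de platitude par fibres S1386 + miracle flatness S2599).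
-/

set_option autoImplicit false
set_option linter.style.haveILetI false
universe u
open CategoryTheory CategoryTheory.Limits AlgebraicGeometry IsLocalRing
open Groth.Agent.Lib.FibreStalk33 Groth.Agent.Lib.CritFibFib88

namespace Groth.Agent.Lib.GorChartFlat83

/-- Stalks of `Spec R` for a regular ring `R` are regular local rings. -/
theorem isRegularLocalRing_stalk_Spec (R : CommRingCat.{u}) [IsRegularRing R] (x : PrimeSpectrum R) :
    IsRegularLocalRing ((Spec R).presheaf.stalk x) := by
  letI k : Algebra ↑R ↑((Spec R).presheaf.stalk x) := StructureSheaf.stalkAlgebra (↑R) x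
  haveI : IsLocalization.AtPrime (↑((Spec R).presheaf.stalk x)) x.asIdeal :=
    StructureSheaf.IsLocalization.to_stalk R x
  haveI : IsRegularLocalRing (Localization.AtPrime x.asIdeal) :=
    IsRegularRing.isRegularLocalRing_localization x.asIdeal
  exact IsRegularLocalRing.of_ringEquiv (IsLocalization.algEquiv x.asIdeal.primeCompl
    (Localization.AtPrime x.asIdeal) ((Spec R).presheaf.stalk x)).toRingEquiv

/-- Regularity of stalks transfers along isomorphisms of schemes. -/
theorem isRegularLocalRing_stalk_of_iso {F T : Scheme.{u}} (e : F ≅ T) (z : F)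
    (h : IsRegularLocalRing (T.presheaf.stalk (e.hom z))) :
    IsRegularLocalRing (F.presheaf.stalk z) := by
  haveI := h
  exact IsRegularLocalRing.of_ringEquiv
    (asIso (e.hom.stalkMap z)).commRingCatIsoToRingEquiv

set_option backward.isDefEq.respectTransparency.types false in
/-- The stalks of the fibres of affine space over any base are regular local rings. -/
theorem isRegularLocalRing_stalk_fiber_affineSpace (n : Type u) [Finite n] (S : Scheme.{u}) (s : S)
    (z : ((𝔸(n; S) ↘ S).fiber s : Scheme.{u})) :
    IsRegularLocalRing (((𝔸(n; S) ↘ S).fiber s).presheaf.stalk z) := by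
  have sq := AffineSpace.isPullback_map (n := n) (S.fromSpecResidueField s)
  let e : (𝔸(n; S) ↘ S).fiber s ≅ Spec (.of (MvPolynomial n (S.residueField s))) :=
    sq.isoPullback.symm ≪≫ AffineSpace.SpecIso n (S.residueField s)
  apply isRegularLocalRing_stalk_of_iso e
  exact isRegularLocalRing_stalk_Spec _ _

/-- The transcendence degree of the residue field extension of a morphism locally of finite type
is finite. -/
theorem exists_trdeg_eq {X Y : Scheme.{u}} (f : X ⟶ Y) [LocallyOfFiniteType f] (x : X) :
    ∃ n : ℕ, (letI := (f.residueFieldMap x).hom.toAlgebra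
      Algebra.trdeg (Y.residueField (f x)) (X.residueField x)) = n := by
  letI := Groth.Agent.Lib.H30FibRes.fiberOver f (f x)
  haveI := Groth.Agent.Lib.H30FibRes.lft_fiber f (f x)
  have h1 := Groth.Agent.Lib.H30FibRes.trdeg_asFiber_eq f x
  have h2 := Groth.Agent.Lib.H30DimField.trdeg_lt_aleph0 (Y.residueField (f x)) (f.fiber (f x))
    (f.asFiber x)
  rw [h1] at h2
  exact Cardinal.lt_aleph0.mp h2

/-- tower formula for residue fields along a composition. -/
theorem trdeg_comp {U A S : Scheme.{u}} (g : U ⟶ A) (p : A ⟶ S) (x : U) :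
    @Algebra.trdeg (S.residueField (p (g x))) (A.residueField (g x)) _ _
      (p.residueFieldMap (g x)).hom.toAlgebra +
    @Algebra.trdeg (A.residueField (g x)) (U.residueField x) _ _
      (g.residueFieldMap x).hom.toAlgebra =
    @Algebra.trdeg (S.residueField ((g ≫ p) x)) (U.residueField x) _ _
      ((g ≫ p).residueFieldMap x).hom.toAlgebra := by
  letI a1 : Algebra (S.residueField (p (g x))) (A.residueField (g x)) :=
    (p.residueFieldMap (g x)).hom.toAlgebra
  letI a2 : Algebra (A.residueField (g x)) (U.residueField x) :=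
    (g.residueFieldMap x).hom.toAlgebra
  letI a3 : Algebra (S.residueField (p (g x))) (U.residueField x) :=
    ((g ≫ p).residueFieldMap x).hom.toAlgebra
  haveI : IsScalarTower (S.residueField (p (g x))) (A.residueField (g x)) (U.residueField x) :=
    IsScalarTower.of_algebraMap_eq (fun r => by
      change ((g ≫ p).residueFieldMap x).hom r = _
      rw [Scheme.residueFieldMap_comp]
      rfl)
  haveI : FaithfulSMul (S.residueField (p (g x))) (A.residueField (g x)) :=
    (faithfulSMul_iff_algebraMap_injective _ _).mpr (RingHom.injective _)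
  haveI : FaithfulSMul (A.residueField (g x)) (U.residueField x) :=
    (faithfulSMul_iff_algebraMap_injective _ _).mpr (RingHom.injective _)
  exact _root_.trdeg_add_eq (R := S.residueField (p (g x))) (S := A.residueField (g x))
    (A := U.residueField x)

theorem cancel_aux (a b : WithBot ℕ∞) (n d : ℕ) (ha : a + (n : WithBot ℕ∞) = d)
    (hb : b + (n : WithBot ℕ∞) = d) : a = b := by
  induction a using WithBot.recBotCoe with
  | bot => simp at ha
  | coe a =>
    induction b using WithBot.recBotCoe with
    | bot => simp at hb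
    | coe b =>
      induction a using ENat.recTopCoe with
      | top => 
        exfalso
        have : ((⊤ : ℕ∞) : WithBot ℕ∞) + (n : WithBot ℕ∞) = ((⊤ : ℕ∞) : WithBot ℕ∞) := by
          rw [show (n : WithBot ℕ∞) = ((n : ℕ∞) : WithBot ℕ∞) from rfl, ← WithBot.coe_add, top_add]
        rw [this] at ha
        have h2 : ((⊤ : ℕ∞) : WithBot ℕ∞) = (((d : ℕ∞)) : WithBot ℕ∞) := ha
        exact ENat.top_ne_natCast d (WithBot.coe_injective h2)
      | coe a =>
        induction b using ENat.recTopCoe with
        | top =>
          exfalso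
          have : ((⊤ : ℕ∞) : WithBot ℕ∞) + (n : WithBot ℕ∞) = ((⊤ : ℕ∞) : WithBot ℕ∞) := by
            rw [show (n : WithBot ℕ∞) = ((n : ℕ∞) : WithBot ℕ∞) from rfl, ← WithBot.coe_add, top_add]
          rw [this] at hb
          have h2 : ((⊤ : ℕ∞) : WithBot ℕ∞) = (((d : ℕ∞)) : WithBot ℕ∞) := hb
          exact ENat.top_ne_natCast d (WithBot.coe_injective h2)
        | coe b =>
          have h1 : a + n = d := by exact_mod_cast ha
          have h2 : b + n = d := by exact_mod_cast hb
          have : a = b := by omega
          rw [this]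

theorem zero_aux (a : WithBot ℕ∞) (n : ℕ) (ha : 0 ≤ a) (h : 0 = a + (n : WithBot ℕ∞)) : n = 0 := by
  have h1 : (n : WithBot ℕ∞) ≤ a + (n : WithBot ℕ∞) := le_add_of_nonneg_left ha
  rw [← h] at h1
  have : (n : WithBot ℕ∞) ≤ ((0 : ℕ) : WithBot ℕ∞) := h1
  have h2 : n ≤ 0 := by exact_mod_cast this
  omega

/-- If `g` is quasi-finite at `x` and the fibres of `g ≫ p` at `x` and of `p` at `g x` have the
same (finite) local dimension, then the local rings of these fibres have the same dimension. -/
theorem ringKrullDim_stalk_fiber_eq {U A S : Scheme.{u}} (g : U ⟶ A) (p : A ⟶ S)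
    [LocallyOfFiniteType g] [LocallyOfFiniteType p] (x : U) (d : ℕ)
    (h1 : FlatMor.fibreDimAt (g ≫ p) x = d) (h2 : FlatMor.fibreDimAt p (g x) = d)
    (hq : g.QuasiFiniteAt x) :
    ringKrullDim (((g ≫ p).fiber ((g ≫ p) x)).presheaf.stalk ((g ≫ p).asFiber x)) =
      ringKrullDim ((p.fiber (p (g x))).presheaf.stalk (p.asFiber (g x))) := by
  haveI : LocallyOfFiniteType (g ≫ p) := inferInstance
  obtain ⟨n1, hn1⟩ := exists_trdeg_eq (g ≫ p) x
  obtain ⟨n2, hn2⟩ := exists_trdeg_eq p (g x)
  obtain ⟨n3, hn3⟩ := exists_trdeg_eq g x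
  have e1 := FibreDimAtFormula.fibreDimAt_eq_add (g ≫ p) x n1 hn1
  have e2 := FibreDimAtFormula.fibreDimAt_eq_add p (g x) n2 hn2
  have e3 := FibreDimAtFormula.fibreDimAt_eq_add g x n3 hn3
  have h3 : FlatMor.fibreDimAt g x = 0 := (QFAt91.fibreDimAt_eq_zero_iff g x).mpr hq
  have ht := trdeg_comp g p x
  rw [hn1, hn2, hn3] at ht
  have ht' : n2 + n3 = n1 := by exact_mod_cast ht
  rw [h3] at e3
  have hn30 : n3 = 0 := zero_aux _ n3 ringKrullDim_nonneg_of_nontrivial e3
  have hn12 : n1 = n2 := by omega
  subst hn12
  rw [h1] at e1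
  rw [h2] at e2
  exact cancel_aux _ _ n1 d e1.symm e2.symm

/-- **Miracle flatness** for a quasi-finite local homomorphism: regular source, Cohen–Macaulay
target of the same dimension. -/
theorem flat_of_regular_of_cm_of_quasiFinite {B C : Type u} [CommRing B] [CommRing C]
    [IsRegularLocalRing B] [IsLocalRing C] (ψ : B →+* C) [IsLocalHom ψ]
    (hC : LocCoh.IsCohenMacaulayLocalRing C) (hqf : ψ.QuasiFinite)
    (hdim : ringKrullDim C = ringKrullDim B) : ψ.Flat := by
  algebraize [ψ]
  haveI : IsLocalHom (algebraMap B C) := ‹IsLocalHom ψ›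
  haveI : IsNoetherianRing C := inferInstance
  have hart : IsArtinianRing (C ⧸ (maximalIdeal B).map (algebraMap B C)) :=
    CMQF33.isArtinianRing_quotient_of_quasiFinite
  obtain ⟨hN, hK⟩ := isArtinianRing_iff_isNoetherianRing_krullDimLE_zero.mp hart
  have hnt : Nontrivial (C ⧸ (maximalIdeal B).map (algebraMap B C)) :=
    EGA4.mB_ne_top_nontrivial B C
  have hfib0 : ringKrullDim (C ⧸ (maximalIdeal B).map (algebraMap B C)) = 0 := by
    apply le_antisymm
    · have := Ring.krullDimLE_iff.mp hK
      simpa using this
    · exact ringKrullDim_nonneg_of_nontrivial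
  have hCMmod : LocCoh.IsCohenMacaulayModule C C := hC.supportDim_eq_depth
  have hdim' : Module.supportDim C C = ringKrullDim B +
      Module.supportDim C (EGA4.FibMod B C C) := by
    rw [Module.supportDim_self_eq_ringKrullDim]
    have h7 : Module.supportDim C (EGA4.FibMod B C C) = 0 := by
      unfold EGA4.FibMod EGA4.mB
      rw [show (Ideal.map (algebraMap B C) (maximalIdeal B) • (⊤ : Submodule C C)) =
          Ideal.map (algebraMap B C) (maximalIdeal B) from by simp]
      rw [Module.supportDim_quotient_eq_ringKrullDim]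
      exact hfib0
    rw [h7, add_zero]
    exact hdim
  exact Groth.Agent.S2599.result B C C hCMmod hdim'

set_option backward.isDefEq.respectTransparency.types false in
/-- Flatness of `g` at a point where it is quasi-finite, the composite `g ≫ p` is Cohen–Macaulay
and the fibre of `p` is regular of the same dimension as the fibre of `g ≫ p`. -/
theorem flat_stalkMap_of_quasiFiniteAt {U A S : Scheme.{u}} (g : U ⟶ A) (p : A ⟶ S)
    [LocallyOfFinitePresentation (g ≫ p)] [LocallyOfFiniteType p] (x : U) (d : ℕ)
    (hcm : MoreMor.IsCMAt (g ≫ p) x)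
    (hreg : IsRegularLocalRing ((p.fiber (p (g x))).presheaf.stalk (p.asFiber (g x))))
    (h1 : FlatMor.fibreDimAt (g ≫ p) x = d) (h2 : FlatMor.fibreDimAt p (g x) = d)
    (hq : g.QuasiFiniteAt x) : (g.stalkMap x).hom.Flat := by
  haveI : LocallyOfFiniteType g := locallyOfFiniteType_of_comp g p
  have hdim := ringKrullDim_stalk_fiber_eq g p x d h1 h2 hq
  let a := toFibreStalk p (g x)
  let b : U.presheaf.stalk x ⟶
      ((g ≫ p).fiber (p (g x))).presheaf.stalk ((g ≫ p).asFiber x) := toFibreStalk (g ≫ p) x
  let iso := ((p.fiber (p (g x))).presheaf.stalkCongr (.of_eq (fiberMap_asFiber g p x))).inv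
  let φs := (MoreMor.fiberMap g p (p (g x))).stalkMap ((g ≫ p).asFiber x)
  have CS : g.stalkMap x ≫ b = a ≫ iso ≫ φs := stalkMap_toFibreStalk g p x
  have hb : Function.Surjective b.hom := toFibreStalk_surjective (g ≫ p) x
  -- quasi-finiteness of the fibre stalk map
  have hqf1 : (b.hom.comp (g.stalkMap x).hom).QuasiFinite :=
    RingHom.QuasiFinite.comp (RingHom.QuasiFinite.of_finite (RingHom.Finite.of_surjective _ hb)) hq
  have hqf2 : ((iso ≫ φs).hom.comp a.hom).QuasiFinite := by
    have e : (iso ≫ φs).hom.comp a.hom = b.hom.comp (g.stalkMap x).hom := by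
      rw [← CommRingCat.hom_comp, ← CommRingCat.hom_comp, CS]
    rw [e]; exact hqf1
  have hqf3 : (iso ≫ φs).hom.QuasiFinite := RingHom.QuasiFinite.of_comp hqf2
  haveI := hreg
  haveI : IsLocalHom (iso ≫ φs).hom := inferInstance
  have hfl : (iso ≫ φs).hom.Flat :=
    flat_of_regular_of_cm_of_quasiFinite (iso ≫ φs).hom hcm.2 hqf3 hdim
  have hφs : φs.hom.Flat := (RingHom.Flat.respectsIso.cancel_left_isIso iso φs).mp hfl
  exact (((Groth.Agent.S1386.result g p).1 x).mp ⟨hcm.1, hφs⟩).2

end Groth.Agent.Lib.GorChartFlat83
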