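import Mathlib
import Groth.Agent.Lib.GaloisPurity89
import Groth.Agent.Lib.GorChartFlat83
import Groth.Agent.Lib.H14SerreNormal
import Groth.Agent.Lib.DepthRees
import Groth.Agent.Lib.FTDim

/-!
# Purity for Galois covers of a regular local ring of dimension two (helper89)

* `free_of_cm`: a finite injective extension `B → A` with `B` regular local and `A` Cohen–Macaulay
  local is free (miracle flatness).
* `isCM_of_normal_of_dim_two`: a normal Noetherian local domain of dimension `2` is Cohen–Macaulay.
* `surjective_of_normal_dim_two`: `A` normal local domain of dimension two, `G` finite group acting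
  with `B = A^G` regular, `A` finite over `B`, same residue field, action free outside the closed
  point ⟹ `A = B`.
-/

set_option autoImplicit false
set_option linter.style.haveILetI false
set_option linter.unusedSectionVars false

universe w

namespace Groth.Agent.Lib.GaloisPurity89

open IsLocalRing

theorem free_of_cm (B A : Type w) [CommRing B] [CommRing A]
    [IsRegularLocalRing B] [IsLocalRing A] [Algebra B A] [Module.Finite B A]
    (hinj : Function.Injective (algebraMap B A)) (hCM : LocCoh.IsCohenMacaulayLocalRing A) :
    Module.Free B A := by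
  have hint : (algebraMap B A).IsIntegral := Algebra.IsIntegral.isIntegral (R := B) (A := A)
  have : IsLocalHom (algebraMap B A) := hint.isLocalHom hinj
  have hqf : (algebraMap B A).QuasiFinite := by
    rw [RingHom.quasiFinite_algebraMap]
    infer_instance
  have hdim : ringKrullDim A = ringKrullDim B :=
    (Groth.Agent.Lib.FTDim.ringKrullDim_eq_of_isIntegral_of_injective hinj).symm
  have hflat := Groth.Agent.Lib.GorChartFlat83.flat_of_regular_of_cm_of_quasiFinite
    (algebraMap B A) hCM hqf hdim
  have : Module.Flat B A := by
    rwa [RingHom.flat_algebraMap_iff] at hflat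
  exact Module.free_of_flat_of_isLocalRing

theorem isCM_of_normal_of_dim_two (A : Type w) [CommRing A] [IsLocalRing A] [IsDomain A]
    [IsNoetherianRing A] [IsIntegrallyClosed A] (hdim : ringKrullDim A = 2) :
    LocCoh.IsCohenMacaulayLocalRing A := by
  refine { supportDim_eq_depth := ?_ }
  have h1 := Groth.Agent.Lib.H14SerreNormal.min_two_height_le_depth_of_normal A
  have h2 : (maximalIdeal A).height = 2 := by
    have := IsLocalRing.maximalIdeal_height_eq_ringKrullDim (R := A)
    rw [hdim] at this
    exact WithBot.coe_injective this
  rw [h2, min_self] at h1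
  have h3 := Groth.Agent.Lib.DepthRees.depth_le_supportDim (R := A) A
  rw [Module.supportDim_self_eq_ringKrullDim, hdim] at h3 ⊢
  refine le_antisymm ?_ h3
  have h4 : ((2 : ℕ∞) : WithBot ℕ∞) ≤ ((LocCoh.depth A A : ℕ∞) : WithBot ℕ∞) :=
    WithBot.coe_le_coe.mpr h1
  exact h4

theorem surjective_of_normal_dim_two (A : Type w) [CommRing A] [IsLocalRing A] [IsDomain A]
    [IsNoetherianRing A] [IsIntegrallyClosed A] (hdim : ringKrullDim A = 2)
    {G : Type*} [Group G] [Fintype G] [MulSemiringAction G A]
    [IsRegularLocalRing (FixedPoints.subring A G)] [Module.Finite (FixedPoints.subring A G) A]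
    (hres : ∀ a : A, ∃ b : FixedPoints.subring A G, a - b ∈ maximalIdeal A)
    (hram : ∀ P : Ideal A, P.IsPrime → P ≠ maximalIdeal A → P.inertia G = ⊥) (a : A) :
    ∃ b : FixedPoints.subring A G, (b : A) = a := by
  have hinj : Function.Injective (algebraMap (FixedPoints.subring A G) A) := Subtype.val_injective
  have hfree : Module.Free (FixedPoints.subring A G) A :=
    free_of_cm (FixedPoints.subring A G) A hinj (isCM_of_normal_of_dim_two A hdim)
  have hdimB : ringKrullDim (FixedPoints.subring A G) = ringKrullDim A :=
    Groth.Agent.Lib.FTDim.ringKrullDim_eq_of_isIntegral_of_injective hinj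
  refine surjective_of_free ?_ hres hram a
  rw [hdimB, hdim]

end Groth.Agent.Lib.GaloisPurity89
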