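import Mathlib.FieldTheory.Galois.Infinite
import Mathlib.LinearAlgebra.TensorProduct.Basis
import Mathlib.RingTheory.TensorProduct.Maps
import Mathlib.LinearAlgebra.Basis.VectorSpace

/-!
# Galois-fixed elements of `L ⊗[K] A`

For a Galois extension `L/K` (possibly infinite) and a `K`-algebra `A`, the elements of `L ⊗[K] A`
fixed by all `γ ⊗ id`, `γ ∈ Gal(L/K)`, are exactly the `1 ⊗ a`.
-/

set_option autoImplicit false
universe u v w
open scoped TensorProduct

namespace Groth.Agent.Lib.GaloisTensorFixed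

variable {K : Type u} {L : Type v} [Field K] [Field L] [Algebra K L]
  {A : Type w} [Ring A] [Algebra K A]

/-- The action of `γ` on `L ⊗[K] A` through the first factor. -/
noncomputable def act (γ : L ≃ₐ[K] L) : (L ⊗[K] A) ≃ₐ[K] (L ⊗[K] A) :=
  Algebra.TensorProduct.congr γ AlgEquiv.refl

@[simp] lemma act_tmul (γ : L ≃ₐ[K] L) (l : L) (a : A) : act γ (l ⊗ₜ[K] a) = γ l ⊗ₜ[K] a := rfl

lemma act_apply (γ : L ≃ₐ[K] L) (x : L ⊗[K] A) :
    act γ x = Algebra.TensorProduct.map (γ : L →ₐ[K] L) (AlgHom.id K A) x := rfl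

lemma act_symm_apply (γ : L ≃ₐ[K] L) (x : L ⊗[K] A) : (act γ).symm x = act γ.symm x := rfl

lemma act_act (γ γ' : L ≃ₐ[K] L) (x : L ⊗[K] A) : act γ (act γ' x) = act (γ'.trans γ) x := by
  induction x using TensorProduct.induction_on with
  | zero => simp
  | tmul l a => rfl
  | add x y hx hy => rw [map_add, map_add, map_add, hx, hy]

lemma act_symm_act (γ : L ≃ₐ[K] L) (x : L ⊗[K] A) : act γ.symm (act γ x) = x := by
  rw [← act_symm_apply]; exact (act γ).symm_apply_apply x

lemma act_act_symm (γ : L ≃ₐ[K] L) (x : L ⊗[K] A) : act γ (act γ.symm x) = x := by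
  rw [← act_symm_apply]; exact (act γ).apply_symm_apply x

theorem exists_eq_one_tmul_of_fixed [IsGalois K L] (x : L ⊗[K] A)
    (hx : ∀ γ : L ≃ₐ[K] L, act γ x = x) : ∃ a : A, x = (1 : L) ⊗ₜ[K] a := by
  classical
  let 𝒞 := Module.Basis.ofVectorSpace K A
  let E := TensorProduct.equivFinsuppOfBasisRight (R := K) (M := L) 𝒞
  have hE : ∀ (γ : L ≃ₐ[K] L) (y : L ⊗[K] A) i, E (act γ y) i = γ (E y i) := by
    intro γ y i
    induction y using TensorProduct.induction_on with
    | zero => simp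
    | tmul l a =>
      rw [act_tmul]
      change (TensorProduct.equivFinsuppOfBasisRight 𝒞) (γ l ⊗ₜ[K] a) i =
        γ ((TensorProduct.equivFinsuppOfBasisRight 𝒞) (l ⊗ₜ[K] a) i)
      rw [TensorProduct.equivFinsuppOfBasisRight_apply_tmul_apply,
        TensorProduct.equivFinsuppOfBasisRight_apply_tmul_apply, map_smul]
    | add y z hy hz =>
      rw [map_add, map_add, Finsupp.add_apply, hy, hz, map_add, Finsupp.add_apply, map_add]
  have hfix : ∀ i, E x i ∈ Set.range (algebraMap K L) := by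
    intro i
    rw [InfiniteGalois.mem_range_algebraMap_iff_fixed]
    intro γ
    rw [← hE, hx]
  choose c hc using hfix
  refine ⟨∑ i ∈ (E x).support, c i • 𝒞 i, ?_⟩
  have h1 : x = E.symm (E x) := (E.symm_apply_apply x).symm
  rw [TensorProduct.tmul_sum]
  conv_lhs => rw [h1]
  change (TensorProduct.equivFinsuppOfBasisRight 𝒞).symm (E x) = _
  rw [TensorProduct.equivFinsuppOfBasisRight_symm_apply, Finsupp.sum]
  refine Finset.sum_congr rfl fun i _ => ?_
  rw [← hc i, Algebra.algebraMap_eq_smul_one, TensorProduct.smul_tmul]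

end Groth.Agent.Lib.GaloisTensorFixed
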