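import Groth.Agent.Lib.SteinFin5
import Groth.Prelude.Def_CurvBase

/-!
# Global functions of a reduced connected proper scheme over a field form a finite field extension
(helper48; for S7639)

* `isField_of_trivial_idempotents` : reduced Artinian commutative ring with only trivial idempotents
  is a field.
* `finrank_dvd_of_isField` : tower law divisibility `[K : k] ∣ dim_k A` for `K` a ring that is a field.
* `int_dvd_finsum` : divisibility of a finitary sum.
* `idempotent_trivial` : idempotent global functions of a reduced connected scheme are `0` or `1`.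
* `finite_Γ` : `Γ(X, O_X)` is finite over `k` for `X` proper over `k` (from the finiteness hypothesis).
* `isField_Γ` : `Γ(X, O_X)` is a field for `X` proper, reduced, connected over `k`.
* `finrank_Γ_dvd_finrank_HH` : `[Γ(X,O_X) : k] ∣ dim_k H^i(X, M)` for every `O_X`-module `M`.
* `finrank_Γ_dvd_euler`, `finrank_Γ_dvd_deg`, `finrank_Γ_dvd_finrank_residueField`.
-/

set_option autoImplicit false
set_option linter.style.haveILetI false
universe u v w

open CategoryTheory CategoryTheory.Limits AlgebraicGeometry TopologicalSpace Opposite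

namespace Groth.Agent.Lib.GammaField48

theorem isField_of_trivial_idempotents (R : Type u) [CommRing R] [IsArtinianRing R] [IsReduced R]
    [Nontrivial R] (h : ∀ e : R, IsIdempotentElem e → e = 0 ∨ e = 1) : IsField R := by
  classical
  have hsub : ∀ m1 m2 : MaximalSpectrum R, m1 = m2 := by
    intro m1 m2
    by_contra hne
    let v : ∀ I : MaximalSpectrum R, R ⧸ I.asIdeal := Pi.single m1 1
    have hv : v * v = v := by
      funext I
      by_cases hI : I = m1
      · subst hI; simp [v]
      · simp [v, Pi.single_eq_of_ne hI]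
    let e := (IsArtinianRing.equivPi R).symm v
    have he : IsIdempotentElem e := by
      show e * e = e
      rw [← map_mul, hv]
    have hev : (IsArtinianRing.equivPi R) e = v := (IsArtinianRing.equivPi R).apply_symm_apply v
    haveI : Nontrivial (R ⧸ m1.asIdeal) := Ideal.Quotient.nontrivial_iff.mpr m1.isMaximal.ne_top
    haveI : Nontrivial (R ⧸ m2.asIdeal) := Ideal.Quotient.nontrivial_iff.mpr m2.isMaximal.ne_top
    rcases h e he with h0 | h1
    · have h2 : v = 0 := by rw [← hev, h0, map_zero]
      have h3 := congrFun h2 m1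
      simp [v] at h3
    · have h2 : v = 1 := by rw [← hev, h1, map_one]
      have h3 := congrFun h2 m2
      simp [v, Pi.single_eq_of_ne (Ne.symm hne)] at h3
  obtain ⟨m, hm⟩ := Ideal.exists_maximal R
  haveI : IsLocalRing R := IsLocalRing.of_unique_max_ideal ⟨m, hm, fun m' hm' =>
    congrArg MaximalSpectrum.asIdeal (hsub ⟨m', hm'⟩ ⟨m, hm⟩)⟩
  exact IsArtinianRing.isField_of_isReduced_of_isLocalRing R

theorem free_of_isField {K : Type u} {A : Type v} [CommRing K] (hK : IsField K) [AddCommGroup A]
    [Module K A] : Module.Free K A := by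
  letI := hK.toField
  exact Module.Free.of_divisionRing K A

theorem finrank_dvd_of_isField {k : Type u} {K : Type v} {A : Type w} [Field k] [CommRing K]
    (hK : IsField K) [Algebra k K] [AddCommGroup A] [Module K A] [Module k A]
    [IsScalarTower k K A] : Module.finrank k K ∣ Module.finrank k A := by
  haveI : Nontrivial K := hK.nontrivial
  haveI : Module.Free K A := free_of_isField hK
  exact Module.finrank_dvd_finrank_right k K A

theorem int_dvd_finsum {ι : Type*} (w : ℤ) (f : ι → ℤ) (h : ∀ i, w ∣ f i) : w ∣ ∑ᶠ i, f i := by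
  by_cases hfin : (Function.support f).Finite
  · rw [finsum_eq_sum_of_support_subset f (s := hfin.toFinset) (by simp)]
    exact Finset.dvd_sum (fun i _ => h i)
  · rw [finsum_of_infinite_support hfin]; exact dvd_zero _

/-- Idempotent global functions on a reduced connected scheme are trivial. -/
theorem idempotent_trivial (X : Scheme.{u}) [IsReduced X] [ConnectedSpace X] (e : Γ(X, ⊤))
    (he : IsIdempotentElem e) : e = 0 ∨ e = 1 := by
  have h1 : X.basicOpen e ⊓ X.basicOpen (1 - e) = ⊥ := by
    rw [← Scheme.basicOpen_mul, mul_sub, mul_one, he.eq, sub_self, Scheme.basicOpen_zero]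
  have h2 : ∀ x : X, x ∈ X.basicOpen e ∨ x ∈ X.basicOpen (1 - e) := by
    intro x
    rw [Scheme.mem_basicOpen _ _ x (Opens.mem_top x), Scheme.mem_basicOpen _ _ x (Opens.mem_top x)]
    have hsum : X.presheaf.germ ⊤ x (Opens.mem_top x) e + X.presheaf.germ ⊤ x (Opens.mem_top x) (1 - e)
        = 1 := by
      rw [← map_add, add_sub_cancel, map_one]
    exact IsLocalRing.isUnit_or_isUnit_of_add_one hsum
  have hcompl : ((X.basicOpen e : Set X))ᶜ = (X.basicOpen (1 - e) : Set X) := by
    ext x
    constructor
    · intro hx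
      rcases h2 x with h | h
      · exact absurd h hx
      · exact h
    · intro hx hx'
      have : x ∈ X.basicOpen e ⊓ X.basicOpen (1 - e) := ⟨hx', hx⟩
      rw [h1] at this
      exact this
  have hclopen : IsClopen (X.basicOpen e : Set X) :=
    ⟨by rw [← isOpen_compl_iff, hcompl]; exact (X.basicOpen (1 - e)).isOpen, (X.basicOpen e).isOpen⟩
  rcases isClopen_iff.mp hclopen with h | h
  · left
    have : X.basicOpen e = ⊥ := Opens.ext h
    exact (basicOpen_eq_bot_iff e).mp this
  · right
    have h3 : (X.basicOpen (1 - e) : Set X) = ∅ := by rw [← hcompl, h, Set.compl_univ]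
    have : X.basicOpen (1 - e) = ⊥ := Opens.ext h3
    have h4 := (basicOpen_eq_bot_iff (1 - e)).mp this
    exact (sub_eq_zero.mp h4).symm

variable (k : Type u) [Field k] (X : Scheme.{u}) [X.Over (Spec (CommRingCat.of k))]

/-- The `k`-algebra structure on global functions used in the statements. -/
noncomputable abbrev algΓ : Algebra k Γ(X, ⊤) :=
  ((X ↘ (Spec (CommRingCat.of k))).appTop.hom.comp
    (Scheme.ΓSpecIso (CommRingCat.of k)).inv.hom).toAlgebra

/-- `Γ(X, O_X)` is finite over `k` for `X` proper over `k`. -/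
theorem finite_Γ (H : Groth.Agent.Lib.ProperFinHyp.Hyp.{u}) [IsProper (X ↘ Spec (CommRingCat.of k))] :
    @Module.Finite k Γ(X, ⊤) _ _ (algΓ k X).toModule := by
  have h1 := Groth.Agent.Lib.SteinFin5.finite_appTop_of_hyp H k X (X ↘ Spec (CommRingCat.of k))
  have h2 : ((Scheme.ΓSpecIso (CommRingCat.of k)).inv.hom).Finite :=
    RingHom.Finite.of_surjective _
      ((ConcreteCategory.bijective_of_isIso (Scheme.ΓSpecIso (CommRingCat.of k)).inv).2)
  exact RingHom.Finite.comp h1 h2

/-- `Γ(X, O_X)` is a field for `X` proper, reduced and connected over `k`. -/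
theorem isField_Γ (H : Groth.Agent.Lib.ProperFinHyp.Hyp.{u}) [IsProper (X ↘ Spec (CommRingCat.of k))]
    [IsReduced X] [ConnectedSpace X] : IsField Γ(X, ⊤) := by
  letI := algΓ k X
  haveI := finite_Γ k X H
  haveI : IsArtinianRing Γ(X, ⊤) := IsArtinianRing.of_finite k Γ(X, ⊤)
  haveI : Nonempty (⊤ : X.Opens) := ⟨⟨Classical.arbitrary X, trivial⟩⟩
  exact isField_of_trivial_idempotents Γ(X, ⊤) (idempotent_trivial X)

/-- Cohomology as a module over `Γ(X, ⊤)` (same as `Coh.moduleΓtop`). -/
noncomputable abbrev modΓ (M : X.Modules) (i : ℕ) : Module Γ(X, ⊤) (Coh.HH X M i) :=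
  Coh.moduleΓtop M i

theorem isScalarTower_HH (M : X.Modules) (i : ℕ) :
    @IsScalarTower k Γ(X, ⊤) (Coh.HH X M i) (algΓ k X).toSMul (modΓ X M i).toSMul
      (Coh.moduleOver k X M i).toSMul := by
  letI := algΓ k X
  letI := modΓ X M i
  exact IsScalarTower.of_algebraMap_smul (fun r x => rfl)

/-- `[Γ(X,O_X) : k]` divides `dim_k H^i(X, M)` for every module `M`, if `Γ(X, O_X)` is a field. -/
theorem finrank_Γ_dvd_finrank_HH (hF : IsField Γ(X, ⊤)) (M : X.Modules) (i : ℕ) :
    @Module.finrank k Γ(X, ⊤) _ _ (algΓ k X).toModule ∣ Module.finrank k (Coh.HH X M i) := by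
  letI := algΓ k X
  letI := modΓ X M i
  haveI := isScalarTower_HH k X M i
  exact finrank_dvd_of_isField hF

theorem finrank_Γ_dvd_euler (hF : IsField Γ(X, ⊤)) (M : X.Modules) :
    ((@Module.finrank k Γ(X, ⊤) _ _ (algΓ k X).toModule : ℕ) : ℤ) ∣ Curv2.euler k X M := by
  unfold Curv2.euler
  refine int_dvd_finsum _ _ (fun i => Dvd.dvd.mul_left ?_ _)
  exact Int.natCast_dvd_natCast.mpr (finrank_Γ_dvd_finrank_HH k X hF M i)

theorem finrank_Γ_dvd_deg (hF : IsField Γ(X, ⊤)) (E : X.Modules) (n : ℕ) :
    ((@Module.finrank k Γ(X, ⊤) _ _ (algΓ k X).toModule : ℕ) : ℤ) ∣ Curv2.deg k X E n := by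
  unfold Curv2.deg
  exact dvd_sub (finrank_Γ_dvd_euler k X hF E) (Dvd.dvd.mul_left (finrank_Γ_dvd_euler k X hF _) _)

theorem finrank_Γ_dvd_finrank_residueField (hF : IsField Γ(X, ⊤)) (x : X) :
    @Module.finrank k Γ(X, ⊤) _ _ (algΓ k X).toModule ∣
      @Module.finrank k (X.residueField x) _ _ (Curv2.resAlgebra k X x).toModule := by
  letI := algΓ k X
  letI := Curv2.resAlgebra k X x
  letI : Algebra Γ(X, ⊤) (X.residueField x) :=
    ((X.residue x).hom.comp (X.presheaf.germ ⊤ x trivial).hom).toAlgebra
  haveI : IsScalarTower k Γ(X, ⊤) (X.residueField x) :=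
    IsScalarTower.of_algebraMap_eq (fun c => rfl)
  exact finrank_dvd_of_isField hF

end Groth.Agent.Lib.GammaField48
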