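import Mathlib

/-!
# Linear functionals on the divided power algebra `Γ_A(M)` attached to products of linear forms
(helper75)

`extend Φ lam : Γ_A(M) →ₐ[A] R[ε]` for an algebra map `Φ : Γ_A(M) → R` and a linear form
`lam : M → R`: `γ_n(m) ↦ Φ(γ_n m) + lam(m) Φ(γ_{n-1} m) ε`.
-/

set_option autoImplicit false
set_option linter.unusedSectionVars false
set_option linter.unusedVariables false
universe u v
open DividedPowerAlgebra

namespace Groth.Agent.Lib.GammaFunctional75

variable {A : Type u} [CommRing A] {M : Type v} [AddCommGroup M] [Module A M]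
  {R : Type u} [CommRing R] [Algebra A R]

/-- the shifted sequence `n ↦ [n ≥ 1] lam(m) Φ(γ_{n-1} m)` -/
noncomputable def shiftSeq (Φ : DividedPowerAlgebra A M →ₐ[A] R) (lam : M →ₗ[A] R) : ℕ → M → R
  | 0, _ => 0
  | n + 1, m => lam m * Φ (dp A n m)

/-- the extended sequence with values in the dual numbers -/
noncomputable def extSeq (Φ : DividedPowerAlgebra A M →ₐ[A] R) (lam : M →ₗ[A] R) :
    ℕ × M → TrivSqZeroExt R R :=
  fun nm => TrivSqZeroExt.inl (Φ (dp A nm.1 nm.2)) + TrivSqZeroExt.inr (shiftSeq Φ lam nm.1 nm.2)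

theorem fst_extSeq (Φ : DividedPowerAlgebra A M →ₐ[A] R) (lam : M →ₗ[A] R) (n : ℕ) (m : M) :
    (extSeq Φ lam (n, m)).fst = Φ (dp A n m) := by
  simp [extSeq]

theorem snd_extSeq (Φ : DividedPowerAlgebra A M →ₐ[A] R) (lam : M →ₗ[A] R) (n : ℕ) (m : M) :
    (extSeq Φ lam (n, m)).snd = shiftSeq Φ lam n m := by
  simp [extSeq]

theorem snd_mul' (x y : TrivSqZeroExt R R) : (x * y).snd = x.fst * y.snd + x.snd * y.fst := by
  rw [TrivSqZeroExt.snd_mul, smul_eq_mul, op_smul_eq_mul]

theorem extSeq_zero (Φ : DividedPowerAlgebra A M →ₐ[A] R) (lam : M →ₗ[A] R) (m : M) :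
    extSeq Φ lam (0, m) = 1 := by
  apply TrivSqZeroExt.ext
  · rw [fst_extSeq, dp_zero, map_one, TrivSqZeroExt.fst_one]
  · rw [snd_extSeq, TrivSqZeroExt.snd_one]
    rfl

theorem extSeq_smul (Φ : DividedPowerAlgebra A M →ₐ[A] R) (lam : M →ₗ[A] R) (n : ℕ) (r : A)
    (m : M) : extSeq Φ lam (n, r • m) = r ^ n • extSeq Φ lam (n, m) := by
  apply TrivSqZeroExt.ext
  · rw [fst_extSeq, TrivSqZeroExt.fst_smul, fst_extSeq, dp_smul, map_smul]
  · rw [snd_extSeq, TrivSqZeroExt.snd_smul, snd_extSeq]
    cases n with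
    | zero => simp [shiftSeq]
    | succ n =>
      simp only [shiftSeq]
      rw [dp_smul, map_smul, map_smul, Algebra.smul_def, Algebra.smul_def, Algebra.smul_def,
        map_pow, map_pow]
      ring

theorem extSeq_mul (Φ : DividedPowerAlgebra A M →ₐ[A] R) (lam : M →ₗ[A] R) (n p : ℕ) (m : M) :
    extSeq Φ lam (n, m) * extSeq Φ lam (p, m) = (n + p).choose n • extSeq Φ lam (n + p, m) := by
  apply TrivSqZeroExt.ext
  · rw [TrivSqZeroExt.fst_mul, fst_extSeq, fst_extSeq, TrivSqZeroExt.fst_smul, fst_extSeq,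
      ← map_mul, dp_mul, map_nsmul]
  · rw [snd_mul', fst_extSeq, fst_extSeq, snd_extSeq, snd_extSeq, TrivSqZeroExt.snd_smul,
      snd_extSeq]
    cases n with
    | zero =>
      cases p with
      | zero => simp [shiftSeq]
      | succ p =>
        simp only [shiftSeq, Nat.zero_add, Nat.choose_zero_right, one_smul, dp_zero, map_one,
          one_mul, zero_mul, add_zero, Nat.add_eq]
    | succ n =>
      cases p with
      | zero =>
        simp only [shiftSeq, Nat.add_zero, Nat.choose_self, one_smul, dp_zero, map_one,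
          mul_one, mul_zero, zero_add]
      | succ p =>
        have e : n + 1 + (p + 1) = (n + 1 + p) + 1 := by ring
        rw [e]
        simp only [shiftSeq]
        have h1 : Φ (dp A (n + 1) m) * (lam m * Φ (dp A p m)) =
            lam m * Φ (dp A (n + 1) m * dp A p m) := by rw [map_mul]; ring
        have h2 : lam m * Φ (dp A n m) * Φ (dp A (p + 1) m) =
            lam m * Φ (dp A n m * dp A (p + 1) m) := by rw [map_mul]; ring
        rw [h1, h2, dp_mul, dp_mul, map_nsmul, map_nsmul]
        have e2 : n + (p + 1) = n + 1 + p := by ring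
        rw [e2]
        have hP : (n + 1 + p + 1).choose (n + 1) = (n + 1 + p).choose n + (n + 1 + p).choose (n + 1) :=
          Nat.choose_succ_succ _ _
        rw [hP, add_smul, nsmul_eq_mul, nsmul_eq_mul, nsmul_eq_mul, nsmul_eq_mul]
        ring

theorem extSeq_add (Φ : DividedPowerAlgebra A M →ₐ[A] R) (lam : M →ₗ[A] R) (n : ℕ) (u v : M) :
    extSeq Φ lam (n, u + v) =
      (Finset.HasAntidiagonal.antidiagonal n).sum
        fun (k, l) ↦ extSeq Φ lam (k, u) * extSeq Φ lam (l, v) := by
  apply TrivSqZeroExt.ext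
  · rw [fst_extSeq, dp_add, map_sum]
    rw [← TrivSqZeroExt.fstHom_apply (S := A), map_sum]
    refine Finset.sum_congr rfl fun kl _ => ?_
    rw [TrivSqZeroExt.fstHom_apply, TrivSqZeroExt.fst_mul, fst_extSeq, fst_extSeq, map_mul]
  · rw [snd_extSeq]
    have hsnd : ∀ (s : Finset (ℕ × ℕ)) (g : ℕ × ℕ → TrivSqZeroExt R R),
        (∑ kl ∈ s, g kl).snd = ∑ kl ∈ s, (g kl).snd := by
      intro s g
      exact map_sum (TrivSqZeroExt.sndHom R R) g s
    rw [hsnd]
    simp only [snd_mul', fst_extSeq, snd_extSeq]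
    rw [Finset.sum_add_distrib]
    cases n with
    | zero => simp [shiftSeq]
    | succ n =>
      rw [Finset.Nat.sum_antidiagonal_succ' (f := fun kl => Φ (dp A kl.1 u) * shiftSeq Φ lam kl.2 v),
        Finset.Nat.sum_antidiagonal_succ (f := fun kl => shiftSeq Φ lam kl.1 u * Φ (dp A kl.2 v))]
      simp only [shiftSeq, mul_zero, zero_mul, zero_add]
      rw [dp_add, map_sum, map_add, add_mul, Finset.mul_sum, Finset.mul_sum, add_comm]
      congr 1
      · refine Finset.sum_congr rfl fun kl _ => ?_
        rw [map_mul]; ring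
      · refine Finset.sum_congr rfl fun kl _ => ?_
        rw [map_mul]; ring

/-- the one-step extension `Γ_A(M) → R[ε]` -/
noncomputable def extend (Φ : DividedPowerAlgebra A M →ₐ[A] R) (lam : M →ₗ[A] R) :
    DividedPowerAlgebra A M →ₐ[A] TrivSqZeroExt R R :=
  DividedPowerAlgebra.lift' (f := extSeq Φ lam) (extSeq_zero Φ lam) (extSeq_smul Φ lam)
    (extSeq_mul Φ lam) (extSeq_add Φ lam)

theorem extend_dp (Φ : DividedPowerAlgebra A M →ₐ[A] R) (lam : M →ₗ[A] R) (n : ℕ) (m : M) :
    extend Φ lam (dp A n m) = extSeq Φ lam (n, m) :=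
  DividedPowerAlgebra.lift'_apply_dp _ _ _ _ n m

theorem fst_extend (Φ : DividedPowerAlgebra A M →ₐ[A] R) (lam : M →ₗ[A] R)
    (w : DividedPowerAlgebra A M) : (extend Φ lam w).fst = Φ w := by
  have h : (TrivSqZeroExt.fstHom A R R).comp (extend Φ lam) = Φ := by
    apply DividedPowerAlgebra.algHom_ext
    intro n m
    rw [AlgHom.comp_apply, extend_dp, TrivSqZeroExt.fstHom_apply, fst_extSeq]
  have := congrArg (fun ψ => ψ w) h
  simpa using this

theorem snd_extend_dp_zero (Φ : DividedPowerAlgebra A M →ₐ[A] R) (lam : M →ₗ[A] R) (m : M) :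
    (extend Φ lam (dp A 0 m)).snd = 0 := by
  rw [extend_dp, snd_extSeq]; rfl

theorem snd_extend_dp_succ (Φ : DividedPowerAlgebra A M →ₐ[A] R) (lam : M →ₗ[A] R) (n : ℕ)
    (m : M) : (extend Φ lam (dp A (n + 1) m)).snd = lam m * Φ (dp A n m) := by
  rw [extend_dp, snd_extSeq]; rfl

theorem snd_extend_mul (Φ : DividedPowerAlgebra A M →ₐ[A] R) (lam : M →ₗ[A] R)
    (w w' : DividedPowerAlgebra A M) :
    (extend Φ lam (w * w')).snd =
      Φ w * (extend Φ lam w').snd + (extend Φ lam w).snd * Φ w' := by
  rw [map_mul, snd_mul', fst_extend, fst_extend]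

section Functional

variable {k : Type u} [CommRing k] [Algebra A k]

/-- the augmentation `Γ_A(M) → k` -/
noncomputable def augment : DividedPowerAlgebra A M →ₐ[A] k :=
  DividedPowerAlgebra.lift' (f := fun nm : ℕ × M => if nm.1 = 0 then (1 : k) else 0)
    (fun m => by simp)
    (fun n r m => by
      by_cases hn : n = 0
      · subst hn; simp
      · simp [hn])
    (fun n p m => by
      by_cases hn : n = 0
      · subst hn; simp
      · simp [hn])
    (fun n u v => by
      by_cases hn : n = 0
      · subst hn; simp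
      · simp only [hn, if_false]
        symm
        apply Finset.sum_eq_zero
        rintro ⟨i, j⟩ hij
        rw [Finset.HasAntidiagonal.mem_antidiagonal] at hij
        by_cases hi : i = 0
        · have hj : j ≠ 0 := by omega
          simp [hj]
        · simp [hi])

theorem augment_dp (n : ℕ) (m : M) :
    augment (k := k) (dp A n m) = if n = 0 then (1 : k) else 0 :=
  DividedPowerAlgebra.lift'_apply_dp _ _ _ _ n m

/-- for every list of linear forms `M → k` there is an algebra map `Φ : Γ_A(M) → R` and a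
`k`-linear functional `T` on `R` with `T (Φ (γ_n m)) = [n = |L|] ∏ λ(m)` -/
theorem exists_data (L : List (M →ₗ[A] k)) :
    ∃ (R : Type u) (_ : CommRing R) (_ : Algebra A R) (_ : Algebra k R)
      (_ : IsScalarTower A k R) (Φ : DividedPowerAlgebra A M →ₐ[A] R) (T : R →ₗ[k] k),
      ∀ (n : ℕ) (m : M), T (Φ (dp A n m)) =
        if n = L.length then (L.map (fun lam => lam m)).prod else 0 := by
  induction L with
  | nil =>
    refine ⟨k, inferInstance, inferInstance, inferInstance, inferInstance, augment,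
      LinearMap.id, ?_⟩
    intro n m
    rw [LinearMap.id_apply, augment_dp]
    simp
  | cons lam L ih =>
    obtain ⟨R, _, _, _, _, Φ, T, hT⟩ := ih
    let lam' : M →ₗ[A] R := ((Algebra.linearMap k R).restrictScalars A) ∘ₗ lam
    refine ⟨TrivSqZeroExt R R, inferInstance, inferInstance, inferInstance, inferInstance,
      extend Φ lam', T ∘ₗ ((TrivSqZeroExt.sndHom R R).restrictScalars k), ?_⟩
    intro n m
    rw [LinearMap.comp_apply, LinearMap.restrictScalars_apply, TrivSqZeroExt.sndHom_apply]
    cases n with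
    | zero =>
      rw [snd_extend_dp_zero, map_zero]
      simp
    | succ n =>
      rw [snd_extend_dp_succ]
      have e : lam' m * Φ (dp A n m) = (lam m) • Φ (dp A n m) := by
        rw [Algebra.smul_def]; rfl
      rw [e, map_smul, hT, smul_eq_mul]
      simp only [List.length_cons, add_left_inj, List.map_cons, List.prod_cons]
      split_ifs <;> simp

/-- the functional attached to linear forms `L` and one more form `y` -/
theorem exists_linear_functional (L : List (M →ₗ[A] k)) (y : M →ₗ[A] k) :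
    ∃ ℓ : DividedPowerAlgebra A M →ₗ[A] k,
      (∀ m, ℓ (dp A (L.length + 1) m) = y m * (L.map (fun lam => lam m)).prod) ∧
      (∀ m₁ m₂, y m₁ = 0 →
        ℓ (dp A L.length m₁ * dp A 1 m₂) = y m₂ * (L.map (fun lam => lam m₁)).prod) := by
  obtain ⟨R, _, _, _, _, Φ, T, hT⟩ := exists_data (A := A) (M := M) L
  let y' : M →ₗ[A] R := ((Algebra.linearMap k R).restrictScalars A) ∘ₗ y
  have hy' : ∀ m (r : R), y' m * r = (y m) • r := by
    intro m r
    rw [Algebra.smul_def]; rfl
  refine ⟨(T.restrictScalars A) ∘ₗ ((TrivSqZeroExt.sndHom R R).restrictScalars A) ∘ₗ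
    (extend Φ y').toLinearMap, ?_, ?_⟩
  · intro m
    simp only [LinearMap.comp_apply, LinearMap.restrictScalars_apply, AlgHom.toLinearMap_apply,
      TrivSqZeroExt.sndHom_apply]
    rw [snd_extend_dp_succ, hy', map_smul, hT, if_pos rfl, smul_eq_mul]
  · intro m₁ m₂ h0
    simp only [LinearMap.comp_apply, LinearMap.restrictScalars_apply, AlgHom.toLinearMap_apply,
      TrivSqZeroExt.sndHom_apply]
    rw [snd_extend_mul]
    have h1 : (extend Φ y' (dp A 1 m₂)).snd = y' m₂ := by
      rw [snd_extend_dp_succ Φ y' 0 m₂, dp_zero, map_one, mul_one]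
    have h2 : (extend Φ y' (dp A L.length m₁)).snd = 0 := by
      cases hL : L.length with
      | zero => exact snd_extend_dp_zero Φ y' m₁
      | succ n =>
        rw [snd_extend_dp_succ]
        have : y' m₁ = 0 := by
          show algebraMap k R (y m₁) = 0
          rw [h0, map_zero]
        rw [this, zero_mul]
    rw [h1, h2, zero_mul, add_zero, mul_comm, hy', map_smul, hT, if_pos rfl, smul_eq_mul]

end Functional

end Groth.Agent.Lib.GammaFunctional75
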