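import Groth.Agent.Lib.KerBC23
import Groth.Agent.Lib.PolLawExt23
import Groth.Prelude.Def_PolLaw2
import Mathlib.RingTheory.PolynomialLaw.Basic

/-!
# Membership in the kernel can be tested on polynomial rings; torsion (helper23)
-/

set_option autoImplicit false
universe u
open scoped TensorProduct

namespace Groth.Agent.Lib.KerPoly23

open Groth.Agent.Lib.PolLaw23 Groth.Agent.Lib.KerBC23

variable {A : Type u} [CommRing A] {B : Type u} [CommRing B] [Algebra A B]
  {C : Type u} [CommRing C] [Algebra A C]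

/-- A pair of elements of `S ⊗ B` lifts to a polynomial ring. -/
theorem exists_lift_pair {S : Type u} [CommRing S] [Algebra A S] (x w : S ⊗[A] B) :
    ∃ (n : ℕ) (ψ : MvPolynomial (Fin n) A →ₐ[A] S) (X W : MvPolynomial (Fin n) A ⊗[A] B),
      ψ.toLinearMap.rTensor B X = x ∧ ψ.toLinearMap.rTensor B W = w := by
  set t : S ⊗[A] (B × B) := (LinearMap.inl A B B).lTensor S x + (LinearMap.inr A B B).lTensor S w with ht
  obtain ⟨n, ψ, p, hp⟩ := PolynomialLaw.exists_lift t
  refine ⟨n, ψ, (LinearMap.fst A B B).lTensor _ p, (LinearMap.snd A B B).lTensor _ p, ?_, ?_⟩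
  · rw [← LinearMap.comp_apply, LinearMap.rTensor_comp_lTensor, ← LinearMap.lTensor_comp_rTensor,
      LinearMap.comp_apply, hp]
    simp only [ht, map_add, ← LinearMap.comp_apply, ← LinearMap.lTensor_comp]
    simp
  · rw [← LinearMap.comp_apply, LinearMap.rTensor_comp_lTensor, ← LinearMap.lTensor_comp_rTensor,
      LinearMap.comp_apply, hp]
    simp only [ht, map_add, ← LinearMap.comp_apply, ← LinearMap.lTensor_comp]
    simp

/-- Membership in the kernel can be tested on polynomial rings. -/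
theorem mem_ker_of_mvPolynomial (F : B →ₚₗ[A] C) (b : B)
    (h : ∀ (n : ℕ) (x w : MvPolynomial (Fin n) A ⊗[A] B),
      F.toFun' (MvPolynomial (Fin n) A) (x + w * ((1 : MvPolynomial (Fin n) A) ⊗ₜ[A] b)) =
        F.toFun' (MvPolynomial (Fin n) A) x) : b ∈ PolLaw.ker F := by
  rw [mem_ker_iff]
  intro S _ _ x w
  obtain ⟨n, ψ, X, W, rfl, rfl⟩ := exists_lift_pair x w
  have h1 : ψ.toLinearMap.rTensor B X + ψ.toLinearMap.rTensor B W * ((1 : S) ⊗ₜ[A] b) =
      ψ.toLinearMap.rTensor B (X + W * ((1 : MvPolynomial (Fin n) A) ⊗ₜ[A] b)) := by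
    rw [map_add, PolLaw.rTensor_algHom_apply ψ (W * _), map_mul, ← PolLaw.rTensor_algHom_apply,
      Algebra.TensorProduct.map_tmul, map_one]
    rfl
  rw [h1, ← PolynomialLaw.isCompat_apply', ← PolynomialLaw.isCompat_apply', h n X W]

/-- Over a domain, the quotient by the kernel of a homogeneous law to `A` is torsion-free. -/
theorem mem_ker_of_smul_mem [IsDomain A] {d : ℕ} (F : B →ₚₗ[A] A) (hF : PolLaw.IsHomog F d)
    {a : A} (ha : a ≠ 0) {b : B} (hab : a • b ∈ PolLaw.ker F) : b ∈ PolLaw.ker F := by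
  apply mem_ker_of_mvPolynomial
  intro n x w
  have h1 := hab (MvPolynomial (Fin n) A) ((algebraMap A (MvPolynomial (Fin n) A) a) • x) w
  have h2 : (algebraMap A (MvPolynomial (Fin n) A) a) • x +
      w * ((1 : MvPolynomial (Fin n) A) ⊗ₜ[A] (a • b)) =
      (algebraMap A (MvPolynomial (Fin n) A) a) • (x + w * ((1 : MvPolynomial (Fin n) A) ⊗ₜ[A] b)) := by
    rw [smul_add, TensorProduct.tmul_smul,
      ← algebraMap_smul (MvPolynomial (Fin n) A) a ((1 : MvPolynomial (Fin n) A) ⊗ₜ[A] b), mul_smul_comm]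
  rw [h2, hF, hF] at h1
  have h3 := congrArg (Algebra.TensorProduct.rid A (MvPolynomial (Fin n) A) (MvPolynomial (Fin n) A)) h1
  rw [map_smul, map_smul, smul_eq_mul, smul_eq_mul] at h3
  have h4 : (algebraMap A (MvPolynomial (Fin n) A) a) ^ d ≠ 0 := by
    apply pow_ne_zero
    rw [MvPolynomial.algebraMap_eq]
    exact fun h => ha (MvPolynomial.C_injective _ _ (h.trans MvPolynomial.C_0.symm))
  exact (Algebra.TensorProduct.rid A (MvPolynomial (Fin n) A) (MvPolynomial (Fin n) A)).injective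
    (mul_left_cancel₀ h4 h3)

end Groth.Agent.Lib.KerPoly23
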