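import Groth.Agent.Lib.PolLaw23
import Groth.Agent.Lib.KerBC23

/-!
# The law induced on a quotient by an ideal inside the kernel (helper23)
-/

set_option autoImplicit false
universe u
open scoped TensorProduct

namespace Groth.Agent.Lib.QuotLaw23

open Groth.Agent.Lib.PolLaw23 Groth.Agent.Lib.KerBC23

variable {A : Type u} [CommRing A] {B : Type u} [CommRing B] [Algebra A B]
  {C : Type u} [CommRing C] [Algebra A C]

theorem descOn_mk_ring (F : B →ₚₗ[A] C) (I : Ideal B) (hI : I ≤ PolLaw.ker F)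
    (S : Type u) [CommRing S] [Algebra A S] : DescOn F (Ideal.Quotient.mkₐ A I).toLinearMap S := by
  intro y y' hyy'
  set π : B →ₗ[A] B ⧸ I := (Ideal.Quotient.mkₐ A I).toLinearMap with hπ
  have hπs : Function.Surjective π := Ideal.Quotient.mkₐ_surjective A I
  set K := LinearMap.ker π with hK
  have hex : Function.Exact (K.subtype.lTensor S) (π.lTensor S) :=
    lTensor_exact S (LinearMap.exact_subtype_ker_map π) hπs
  have hmem : π.lTensor S (y' - y) = 0 := by rw [map_sub, hyy', sub_self]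
  obtain ⟨w, hw⟩ := (hex (y' - y)).1 hmem
  have key : ∀ (w : S ⊗[A] K) (y : S ⊗[A] B), F.toFun' S (y + K.subtype.lTensor S w) = F.toFun' S y := by
    intro w
    induction w using TensorProduct.induction_on with
    | zero => intro y; simp
    | tmul s k =>
      intro y
      have hk : (k : B) ∈ I := by
        have h0 : π (k : B) = 0 := LinearMap.mem_ker.1 k.2
        exact Ideal.Quotient.eq_zero_iff_mem.1 h0
      have h1 : K.subtype.lTensor S (s ⊗ₜ[A] k) = (s ⊗ₜ[A] (1 : B)) * ((1 : S) ⊗ₜ[A] (k : B)) := by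
        rw [LinearMap.lTensor_tmul, Algebra.TensorProduct.tmul_mul_tmul, mul_one, one_mul]
        rfl
      rw [h1]
      exact hI hk S y _
    | add w₁ w₂ h₁ h₂ =>
      intro y
      rw [map_add, ← add_assoc, h₂, h₁]
  have : y' = y + K.subtype.lTensor S w := by rw [hw]; abel
  rw [this, key]

theorem descOn_mk (F : B →ₚₗ[A] C) (I : Ideal B) (hI : I ≤ PolLaw.ker F)
    (S : Type u) [CommSemiring S] [Algebra A S] : DescOn F (Ideal.Quotient.mkₐ A I).toLinearMap S :=
  forall_semiring_of_forall_ring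
    (fun S instS instA => @DescOn A _ B (B ⧸ I) C _ _ _ _ _ _ F (Ideal.Quotient.mkₐ A I).toLinearMap S instS instA)
    (fun S _ _ => descOn_mk_ring F I hI S) S

variable {d : ℕ}

/-- The multiplicative law induced on `B ⧸ I` for `I ≤ ker F`. -/
noncomputable def quotMul (F : PolLaw.MulLaw A B C d) (I : Ideal B) (hI : I ≤ PolLaw.ker F.law) :
    PolLaw.MulLaw A (B ⧸ I) C d :=
  have hπ : Function.Surjective (Ideal.Quotient.mkₐ A I).toLinearMap := Ideal.Quotient.mkₐ_surjective A I
  have hG₀ : ∀ (S : Type u) [CommSemiring S] [Algebra A S] (y : S ⊗[A] B),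
      (descLaw F.law (Ideal.Quotient.mkₐ A I).toLinearMap hπ (fun S _ _ => descOn_mk F.law I hI S)).toFun' S
        ((Ideal.Quotient.mkₐ A I).toLinearMap.lTensor S y) = F.law.toFun' S y :=
    fun S _ _ y => descLaw_apply F.law _ hπ _ S y
  have hsurjS : ∀ (S : Type u) [CommSemiring S] [Algebra A S],
      Function.Surjective ((Ideal.Quotient.mkₐ A I).toLinearMap.lTensor S) :=
    fun S _ _ => LinearMap.lTensor_surjective S hπ
  { law := descLaw F.law (Ideal.Quotient.mkₐ A I).toLinearMap hπ (fun S _ _ => descOn_mk F.law I hI S)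
    homog := by
      intro S _ _ s x
      obtain ⟨y, rfl⟩ := hsurjS S x
      have : s • ((Ideal.Quotient.mkₐ A I).toLinearMap.lTensor S y) =
          (Ideal.Quotient.mkₐ A I).toLinearMap.lTensor S (s • y) := by
        rw [PolLaw.lTensor_algHom_apply, PolLaw.lTensor_algHom_apply, map_smul]
      rw [this, hG₀, hG₀, F.homog]
    mult := by
      intro S _ _
      refine ⟨?_, fun x x' => ?_⟩
      · have : (1 : S ⊗[A] (B ⧸ I)) = (Ideal.Quotient.mkₐ A I).toLinearMap.lTensor S 1 := by
          rw [PolLaw.lTensor_algHom_apply, map_one]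
        rw [this, hG₀, (F.mult S).1]
      · obtain ⟨y, rfl⟩ := hsurjS S x
        obtain ⟨y', rfl⟩ := hsurjS S x'
        have : (Ideal.Quotient.mkₐ A I).toLinearMap.lTensor S y *
            (Ideal.Quotient.mkₐ A I).toLinearMap.lTensor S y' =
            (Ideal.Quotient.mkₐ A I).toLinearMap.lTensor S (y * y') := by
          rw [PolLaw.lTensor_algHom_apply, PolLaw.lTensor_algHom_apply,
            PolLaw.lTensor_algHom_apply, map_mul]
        rw [this, hG₀, hG₀, hG₀, (F.mult S).2] }

theorem quotMul_apply (F : PolLaw.MulLaw A B C d) (I : Ideal B) (hI : I ≤ PolLaw.ker F.law)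
    (S : Type u) [CommSemiring S] [Algebra A S] (y : S ⊗[A] B) :
    (quotMul F I hI).law.toFun' S ((Ideal.Quotient.mkₐ A I).toLinearMap.lTensor S y) = F.law.toFun' S y :=
  descLaw_apply F.law _ (Ideal.Quotient.mkₐ_surjective A I) (fun S _ _ => descOn_mk F.law I hI S) S y

theorem quotMul_precomp (F : PolLaw.MulLaw A B C d) (I : Ideal B) (hI : I ≤ PolLaw.ker F.law) :
    ((quotMul F I hI).precomp (Ideal.Quotient.mkₐ A I)).law = F.law := by
  ext S _ _ y
  exact quotMul_apply F I hI S y

theorem mk_mem_ker_quotMul_iff (F : PolLaw.MulLaw A B C d) (I : Ideal B) (hI : I ≤ PolLaw.ker F.law) (b : B) :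
    Ideal.Quotient.mk I b ∈ PolLaw.ker (quotMul F I hI).law ↔ b ∈ PolLaw.ker F.law := by
  have hsurjS : ∀ (S : Type u) [CommSemiring S] [Algebra A S],
      Function.Surjective ((Ideal.Quotient.mkₐ A I).toLinearMap.lTensor S) :=
    fun S _ _ => LinearMap.lTensor_surjective S (Ideal.Quotient.mkₐ_surjective A I)
  have key : ∀ (S : Type u) [CommSemiring S] [Algebra A S] (x w : S ⊗[A] B),
      (Ideal.Quotient.mkₐ A I).toLinearMap.lTensor S x +
        (Ideal.Quotient.mkₐ A I).toLinearMap.lTensor S w * ((1 : S) ⊗ₜ[A] Ideal.Quotient.mk I b) =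
      (Ideal.Quotient.mkₐ A I).toLinearMap.lTensor S (x + w * ((1 : S) ⊗ₜ[A] b)) := by
    intro S _ _ x w
    rw [map_add, PolLaw.lTensor_algHom_apply _ _ (w * _), map_mul, ← PolLaw.lTensor_algHom_apply,
      Algebra.TensorProduct.map_tmul]
    rfl
  constructor
  · intro h S _ _ x w
    have := h S ((Ideal.Quotient.mkₐ A I).toLinearMap.lTensor S x)
      ((Ideal.Quotient.mkₐ A I).toLinearMap.lTensor S w)
    rwa [key, quotMul_apply, quotMul_apply] at this
  · intro h S _ _ x w
    obtain ⟨x, rfl⟩ := hsurjS S x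
    obtain ⟨w, rfl⟩ := hsurjS S w
    rw [key, quotMul_apply, quotMul_apply]
    exact h S x w

theorem ker_quotMul_self (F : PolLaw.MulLaw A B C d) :
    PolLaw.ker (quotMul F (PolLaw.ker F.law) le_rfl).law = ⊥ := by
  rw [eq_bot_iff]
  intro x hx
  obtain ⟨b, rfl⟩ := Ideal.Quotient.mk_surjective x
  rw [mk_mem_ker_quotMul_iff] at hx
  rw [Ideal.mem_bot]
  exact Ideal.Quotient.eq_zero_iff_mem.2 hx

end Groth.Agent.Lib.QuotLaw23
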