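import Groth.Agent.Lib.GammaUniq75
import Groth.Agent.Lib.QuotLaw23
import Groth.Agent.Lib.KerPoly23
import Groth.Agent.S13717

/-!
# The norm law `T^d_A(B) → Γ^d_A(B)` of degree `d!` (helper75)
-/

set_option autoImplicit false
universe u
open scoped TensorProduct
open MvPolynomial

namespace Groth.Agent.Lib.GammaNorm75

open Groth.Agent.Lib.PolLaw23 Groth.Agent.Lib.PolLawExt23 Groth.Agent.Lib.PolLawGen23
  Groth.Agent.Lib.PolLawSpan23 Groth.Agent.Lib.GammaTS75 Groth.Agent.Lib.GammaUniq75

section Perm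

variable (A : Type u) [CommRing A] (B : Type u) [CommRing B] [Algebra A B] (d : ℕ)

theorem perm_mul (σ ρ : Equiv.Perm (Fin d)) (t : ⨂[A] _ : Fin d, B) :
    SymTen.perm A B d (σ * ρ) t = SymTen.perm A B d σ (SymTen.perm A B d ρ t) := by
  induction t using PiTensorProduct.induction_on with
  | smul_tprod r f =>
    simp only [map_smul, SymTen.perm_tprod]
    rfl
  | add x y hx hy => simp only [map_add, hx, hy]

theorem map_perm_mul {S : Type u} [CommSemiring S] [Algebra A S] (σ ρ : Equiv.Perm (Fin d))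
    (x : S ⊗[A] (⨂[A] _ : Fin d, B)) :
    Algebra.TensorProduct.map (AlgHom.id S S) (SymTen.perm A B d σ)
      (Algebra.TensorProduct.map (AlgHom.id S S) (SymTen.perm A B d ρ) x) =
    Algebra.TensorProduct.map (AlgHom.id S S) (SymTen.perm A B d (σ * ρ)) x := by
  induction x using TensorProduct.induction_on with
  | zero => simp
  | tmul s t => simp only [Algebra.TensorProduct.map_tmul, perm_mul, AlgHom.id_apply]
  | add a b ha hb => simp only [map_add, ha, hb]

/-- the values of the symmetrization law are invariant -/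
theorem symmLaw_invariant {S : Type u} [CommSemiring S] [Algebra A S] (ρ : Equiv.Perm (Fin d))
    (x : S ⊗[A] (⨂[A] _ : Fin d, B)) :
    Algebra.TensorProduct.map (AlgHom.id S S) (SymTen.perm A B d ρ)
      ((SymTen.symmLaw A B d).law.toFun' S x) = (SymTen.symmLaw A B d).law.toFun' S x := by
  rw [SymTen.symmLaw, PolLaw.MulLaw.prodMap_toFun', map_prod]
  simp only [map_perm_mul]
  exact Fintype.prod_equiv (Equiv.mulLeft ρ) _ _ (fun σ => rfl)

/-- the values of the symmetrization law lie in the symmetric tensors -/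
theorem symmLaw_mem_range (n : ℕ) (x : MvPolynomial (Fin n) A ⊗[A] (⨂[A] _ : Fin d, B)) :
    (SymTen.symmLaw A B d).law.toFun' (MvPolynomial (Fin n) A) x ∈
      LinearMap.range ((SymTen.TS A B d).val.toLinearMap.lTensor (MvPolynomial (Fin n) A)) := by
  apply mem_range_lTensor_of_coords
  intro l
  rw [SymTen.mem_TS_iff]
  intro ρ
  rw [← SymTen.perm_apply]
  have h := evalFun_lTensor (SymTen.perm A B d ρ).toLinearMap l
    ((SymTen.symmLaw A B d).law.toFun' (MvPolynomial (Fin n) A) x)
  rw [PolLaw.lTensor_algHom_apply, symmLaw_invariant] at h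
  exact h.symm

/-- the norm law with values in the symmetric tensors -/
theorem exists_norm : ∃ N : PolLaw.MulLaw A (⨂[A] _ : Fin d, B) (SymTen.TS A B d) d.factorial,
    PolLaw.postcomp (SymTen.TS A B d).val.toLinearMap N.law = (SymTen.symmLaw A B d).law :=
  exists_cores (SymTen.symmLaw A B d) (SymTen.TS A B d) (symmLaw_mem_range A B d)

end Perm

section Natural

variable {A : Type u} [CommRing A] {B B' : Type u} [CommRing B] [Algebra A B] [CommRing B'] [Algebra A B']
  {d : ℕ}

theorem tmap_toLinearMap (ψ : B →ₐ[A] B') :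
    (SymTen.tmap A d ψ).toLinearMap = PiTensorProduct.map (fun _ : Fin d => ψ.toLinearMap) := by
  apply PiTensorProduct.ext
  ext g
  simp [PiTensorProduct.map_tprod]

theorem tmap_perm (ψ : B →ₐ[A] B') (σ : Equiv.Perm (Fin d)) (t : ⨂[A] _ : Fin d, B) :
    SymTen.tmap A d ψ (SymTen.perm A B d σ t) = SymTen.perm A B' d σ (SymTen.tmap A d ψ t) := by
  rw [SymTen.perm_apply, SymTen.perm_apply, SymTen.tmap_reindex]

theorem symmLaw_natural (ψ : B →ₐ[A] B') (S : Type u) [CommSemiring S] [Algebra A S]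
    (x : S ⊗[A] (⨂[A] _ : Fin d, B)) :
    (SymTen.tmap A d ψ).toLinearMap.lTensor S ((SymTen.symmLaw A B d).law.toFun' S x) =
      (SymTen.symmLaw A B' d).law.toFun' S ((SymTen.tmap A d ψ).toLinearMap.lTensor S x) := by
  rw [PolLaw.lTensor_algHom_apply, PolLaw.lTensor_algHom_apply, SymTen.symmLaw, SymTen.symmLaw,
    PolLaw.MulLaw.prodMap_toFun', PolLaw.MulLaw.prodMap_toFun', map_prod]
  refine Finset.prod_congr rfl fun σ _ => ?_
  induction x using TensorProduct.induction_on with
  | zero => simp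
  | tmul s t => simp only [Algebra.TensorProduct.map_tmul, tmap_perm]
  | add a b ha hb => simp only [map_add, ha, hb]

theorem val_TSmap (ψ : B →ₐ[A] B') :
    (SymTen.TS A B' d).val.toLinearMap ∘ₗ (SymTen.TSmap A d ψ).toLinearMap =
      (SymTen.tmap A d ψ).toLinearMap ∘ₗ (SymTen.TS A B d).val.toLinearMap := by
  ext y
  rfl

theorem postcomp_precomp {M M' N N' : Type u} [AddCommGroup M] [Module A M] [AddCommGroup M'] [Module A M']
    [AddCommGroup N] [Module A N] [AddCommGroup N'] [Module A N'] (g : N →ₗ[A] N') (F : M' →ₚₗ[A] N)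
    (h : M →ₗ[A] M') : PolLaw.postcomp g (PolLaw.precomp F h) = PolLaw.precomp (PolLaw.postcomp g F) h := by
  ext S _ _ x
  rfl

theorem precomp_comp {M M' M'' N : Type u} [AddCommGroup M] [Module A M] [AddCommGroup M'] [Module A M']
    [AddCommGroup M''] [Module A M''] [AddCommGroup N] [Module A N] (F : M'' →ₚₗ[A] N)
    (h' : M' →ₗ[A] M'') (h : M →ₗ[A] M') :
    PolLaw.precomp (PolLaw.precomp F h') h = PolLaw.precomp F (h' ∘ₗ h) := by
  ext S _ _ x
  rw [precomp_toFun', precomp_toFun', precomp_toFun', LinearMap.lTensor_comp, LinearMap.comp_apply]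

/-- laws with values in the symmetric tensors are determined by their composite with the inclusion -/
theorem law_ext_val {M : Type u} [AddCommGroup M] [Module A M] (F₁ F₂ : M →ₚₗ[A] SymTen.TS A B d)
    (h : PolLaw.postcomp (SymTen.TS A B d).val.toLinearMap F₁ =
      PolLaw.postcomp (SymTen.TS A B d).val.toLinearMap F₂) : F₁ = F₂ := by
  apply ext_of_poly
  intro n
  funext z
  apply lTensor_val_injective (SymTen.TS A B d) n
  rw [← postcomp_toFun', ← postcomp_toFun', h]

theorem tpowLaw_natural' (ψ : B →ₐ[A] B') :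
    PolLaw.postcomp (SymTen.tmap A d ψ).toLinearMap (SymTen.tpowLaw A B d).law =
      PolLaw.precomp (SymTen.tpowLaw A B' d).law ψ.toLinearMap := by
  ext S _ _ x
  rw [postcomp_toFun', precomp_toFun', tmap_toLinearMap]
  exact tpowLaw_natural ψ.toLinearMap S x

theorem symmLaw_natural' (ψ : B →ₐ[A] B') :
    PolLaw.postcomp (SymTen.tmap A d ψ).toLinearMap (SymTen.symmLaw A B d).law =
      PolLaw.precomp (SymTen.symmLaw A B' d).law (SymTen.tmap A d ψ).toLinearMap := by
  ext S _ _ x
  rw [postcomp_toFun', precomp_toFun']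
  exact symmLaw_natural ψ S x

theorem tau_natural (ψ : B →ₐ[A] B') (τ : PolLaw.MulLaw A B (SymTen.TS A B d) d)
    (hτ : PolLaw.postcomp (SymTen.TS A B d).val.toLinearMap τ.law = (SymTen.tpowLaw A B d).law)
    (τ' : PolLaw.MulLaw A B' (SymTen.TS A B' d) d)
    (hτ' : PolLaw.postcomp (SymTen.TS A B' d).val.toLinearMap τ'.law = (SymTen.tpowLaw A B' d).law) :
    PolLaw.postcomp (SymTen.TSmap A d ψ).toLinearMap τ.law = PolLaw.precomp τ'.law ψ.toLinearMap := by
  apply law_ext_val
  rw [← postcomp_comp, val_TSmap, postcomp_comp, hτ, postcomp_precomp, hτ', tpowLaw_natural']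

theorem norm_natural (ψ : B →ₐ[A] B')
    (N : PolLaw.MulLaw A (⨂[A] _ : Fin d, B) (SymTen.TS A B d) d.factorial)
    (hN : PolLaw.postcomp (SymTen.TS A B d).val.toLinearMap N.law = (SymTen.symmLaw A B d).law)
    (N' : PolLaw.MulLaw A (⨂[A] _ : Fin d, B') (SymTen.TS A B' d) d.factorial)
    (hN' : PolLaw.postcomp (SymTen.TS A B' d).val.toLinearMap N'.law = (SymTen.symmLaw A B' d).law) :
    PolLaw.postcomp (SymTen.TSmap A d ψ).toLinearMap N.law =
      PolLaw.precomp N'.law (SymTen.tmap A d ψ).toLinearMap := by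
  apply law_ext_val
  rw [← postcomp_comp, val_TSmap, postcomp_comp, hN, postcomp_precomp, hN', symmLaw_natural']

end Natural

section Tmap

variable {A : Type u} [CommRing A] {B B' B'' : Type u} [CommRing B] [Algebra A B] [CommRing B'] [Algebra A B']
  [CommRing B''] [Algebra A B''] {d : ℕ}

theorem tmap_comp_apply (ψ' : B' →ₐ[A] B'') (ψ : B →ₐ[A] B') (t : ⨂[A] _ : Fin d, B) :
    SymTen.tmap A d ψ' (SymTen.tmap A d ψ t) = SymTen.tmap A d (ψ'.comp ψ) t := by
  induction t using PiTensorProduct.induction_on with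
  | smul_tprod r f => simp only [map_smul, SymTen.tmap_tprod, AlgHom.comp_apply]
  | add x y hx hy => simp only [map_add, hx, hy]

theorem tmap_id_apply (t : ⨂[A] _ : Fin d, B) : SymTen.tmap A d (AlgHom.id A B) t = t := by
  induction t using PiTensorProduct.induction_on with
  | smul_tprod r f => simp only [map_smul, SymTen.tmap_tprod, AlgHom.id_apply]
  | add x y hx hy => simp only [map_add, hx, hy]

theorem tmap_single (ψ : B →ₐ[A] B') (k : Fin d) (b : B) :
    SymTen.tmap A d ψ (PiTensorProduct.singleAlgHom (R := A) (A := fun _ : Fin d => B) k b) =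
      PiTensorProduct.singleAlgHom (R := A) (A := fun _ : Fin d => B') k (ψ b) := by
  rw [PiTensorProduct.singleAlgHom_apply, PiTensorProduct.singleAlgHom_apply, SymTen.tmap_tprod]
  congr 1
  funext i
  exact Pi.apply_mulSingle (fun _ => ψ) (fun _ => map_one ψ) k b i

theorem lTensor_tmap_comp (ψ' : B' →ₐ[A] B'') (ψ : B →ₐ[A] B') (S : Type u) [CommSemiring S] [Algebra A S]
    (x : S ⊗[A] (⨂[A] _ : Fin d, B)) :
    (SymTen.tmap A d ψ').toLinearMap.lTensor S ((SymTen.tmap A d ψ).toLinearMap.lTensor S x) =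
      (SymTen.tmap A d (ψ'.comp ψ)).toLinearMap.lTensor S x := by
  induction x using TensorProduct.induction_on with
  | zero => simp
  | tmul s t => simp only [LinearMap.lTensor_tmul, AlgHom.toLinearMap_apply, tmap_comp_apply]
  | add a b ha hb => simp only [map_add, ha, hb]

theorem lTensor_tmap_id (S : Type u) [CommSemiring S] [Algebra A S]
    (x : S ⊗[A] (⨂[A] _ : Fin d, B)) :
    (SymTen.tmap A d (AlgHom.id A B)).toLinearMap.lTensor S x = x := by
  induction x using TensorProduct.induction_on with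
  | zero => simp
  | tmul s t => simp only [LinearMap.lTensor_tmul, AlgHom.toLinearMap_apply, tmap_id_apply]
  | add a b ha hb => simp only [map_add, ha, hb]

theorem lTensor_tmap_add_mul_single (ψ : B →ₐ[A] B') (S : Type u) [CommSemiring S] [Algebra A S]
    (x w : S ⊗[A] (⨂[A] _ : Fin d, B)) (k : Fin d) (b : B) :
    (SymTen.tmap A d ψ).toLinearMap.lTensor S
      (x + w * ((1 : S) ⊗ₜ[A] PiTensorProduct.singleAlgHom (R := A) (A := fun _ : Fin d => B) k b)) =
    (SymTen.tmap A d ψ).toLinearMap.lTensor S x + (SymTen.tmap A d ψ).toLinearMap.lTensor S w *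
      ((1 : S) ⊗ₜ[A] PiTensorProduct.singleAlgHom (R := A) (A := fun _ : Fin d => B') k (ψ b)) := by
  rw [PolLaw.lTensor_algHom_apply, PolLaw.lTensor_algHom_apply, PolLaw.lTensor_algHom_apply, map_add,
    map_mul, Algebra.TensorProduct.map_tmul, tmap_single, AlgHom.id_apply]

end Tmap

section Kernel

variable {A : Type u} [CommRing A] {B : Type u} [CommRing B] [Algebra A B] {C : Type u} [CommRing C]
  [Algebra A C] {d : ℕ}

/-- the polynomial cover of `B` -/
noncomputable def piP : MvPolynomial B A →ₐ[A] B := aeval id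

theorem piP_X (b : B) : piP (A := A) (X b) = b := by simp [piP]

theorem piP_surjective : Function.Surjective (piP (A := A) (B := B)) := fun b => ⟨X b, piP_X b⟩

theorem precomp_law {B' : Type u} [CommRing B'] [Algebra A B'] (γ : PolLaw.MulLaw A B C d) (ψ : B' →ₐ[A] B) :
    (γ.precomp ψ).law = PolLaw.precomp γ.law ψ.toLinearMap := rfl

theorem postcomp_law {C' : Type u} [CommRing C'] [Algebra A C'] (γ : PolLaw.MulLaw A B C d) (ψ : C →ₐ[A] C') :
    (γ.postcomp ψ).law = PolLaw.postcomp ψ.toLinearMap γ.law := rfl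

/-- key step: the generators of the kernel of `T^d(P) → T^d(B)` lie in the kernel of the law `f ∘ N` -/
theorem single_mem_ker (γ : PolLaw.MulLaw A B C d)
    (τP : PolLaw.MulLaw A (MvPolynomial B A) (SymTen.TS A (MvPolynomial B A) d) d)
    (hτP : PolLaw.postcomp (SymTen.TS A (MvPolynomial B A) d).val.toLinearMap τP.law =
      (SymTen.tpowLaw A (MvPolynomial B A) d).law)
    (f : SymTen.TS A (MvPolynomial B A) d →ₐ[A] C)
    (hf : PolLaw.postcomp f.toLinearMap τP.law = (γ.precomp piP).law)
    (NP : PolLaw.MulLaw A (⨂[A] _ : Fin d, MvPolynomial B A) (SymTen.TS A (MvPolynomial B A) d) d.factorial)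
    (hNP : PolLaw.postcomp (SymTen.TS A (MvPolynomial B A) d).val.toLinearMap NP.law =
      (SymTen.symmLaw A (MvPolynomial B A) d).law)
    (k : Fin d) (a : MvPolynomial B A) (ha : piP a = 0) :
    PiTensorProduct.singleAlgHom (R := A) (A := fun _ : Fin d => MvPolynomial B A) k a ∈
      PolLaw.ker (NP.postcomp f).law := by
  classical
  let j : MvPolynomial B A →ₐ[A] MvPolynomial (Option B) A := rename some
  let θ : MvPolynomial (Option B) A →ₐ[A] MvPolynomial B A := aeval (fun o => Option.elim o a X)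
  let ε : MvPolynomial (Option B) A →ₐ[A] MvPolynomial (Option B) A :=
    aeval (fun o => Option.elim o 0 (fun b => X (some b)))
  have hθj : θ.comp j = AlgHom.id A _ := by
    apply MvPolynomial.algHom_ext
    intro b
    simp [θ, j]
  have hεj : ε.comp j = j := by
    apply MvPolynomial.algHom_ext
    intro b
    simp [ε, j]
  have hθZ : θ (X none) = a := by simp [θ]
  have hεZ : ε (X none) = 0 := by simp [ε]
  have hρ : (piP.comp θ).comp ε = piP.comp θ := by
    apply MvPolynomial.algHom_ext
    intro o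
    cases o with
    | none => simp [θ, ε, ha]
    | some b => simp [θ, ε]
  obtain ⟨τQ, hτQ, hΓQ⟩ := main A (MvPolynomial (Option B) A) d (Or.inl inferInstance)
  obtain ⟨NQ, hNQ⟩ := exists_norm A (MvPolynomial (Option B) A) d
  set g : SymTen.TS A (MvPolynomial (Option B) A) d →ₐ[A] C := f.comp (SymTen.TSmap A d θ) with hgdef
  have hg : PolLaw.postcomp g.toLinearMap τQ.law = (γ.precomp (piP.comp θ)).law := by
    rw [hgdef, AlgHom.comp_toLinearMap, postcomp_comp, tau_natural θ τQ hτQ τP hτP, postcomp_precomp, hf,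
      precomp_law, precomp_law, precomp_comp, AlgHom.comp_toLinearMap]
  have hgε : g.comp (SymTen.TSmap A d ε) = g := by
    apply (hΓQ C (γ.precomp (piP.comp θ))).unique _ hg
    show PolLaw.postcomp (g.comp (SymTen.TSmap A d ε)).toLinearMap τQ.law = _
    rw [AlgHom.comp_toLinearMap, postcomp_comp, tau_natural ε τQ hτQ τQ hτQ, postcomp_precomp, hg,
      precomp_law, precomp_comp, ← AlgHom.comp_toLinearMap, hρ]
  apply Groth.Agent.Lib.KerPoly23.mem_ker_of_mvPolynomial
  intro n x w
  set S := MvPolynomial (Fin n) A with hS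
  set x' := (SymTen.tmap A d j).toLinearMap.lTensor S x with hx'
  set w' := (SymTen.tmap A d j).toLinearMap.lTensor S w with hw'
  set u := x' + w' * ((1 : S) ⊗ₜ[A] PiTensorProduct.singleAlgHom (R := A)
    (A := fun _ : Fin d => MvPolynomial (Option B) A) k (X none)) with hu
  have h3 : (SymTen.tmap A d θ).toLinearMap.lTensor S x' = x := by
    rw [hx', lTensor_tmap_comp, hθj, lTensor_tmap_id]
  have h3w : (SymTen.tmap A d θ).toLinearMap.lTensor S w' = w := by
    rw [hw', lTensor_tmap_comp, hθj, lTensor_tmap_id]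
  have h1 : (SymTen.tmap A d θ).toLinearMap.lTensor S u =
      x + w * ((1 : S) ⊗ₜ[A] PiTensorProduct.singleAlgHom (R := A)
        (A := fun _ : Fin d => MvPolynomial B A) k a) := by
    rw [hu, lTensor_tmap_add_mul_single, h3, h3w, hθZ]
  have h2 : (SymTen.tmap A d ε).toLinearMap.lTensor S u = x' := by
    rw [hu, lTensor_tmap_add_mul_single, hεZ, map_zero, TensorProduct.tmul_zero, mul_zero, add_zero, hx',
      lTensor_tmap_comp, hεj]
  have hG : ∀ v : S ⊗[A] (⨂[A] _ : Fin d, MvPolynomial (Option B) A),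
      (NP.postcomp f).law.toFun' S ((SymTen.tmap A d θ).toLinearMap.lTensor S v) =
        g.toLinearMap.lTensor S (NQ.law.toFun' S v) := by
    intro v
    have h := congrArg (fun F => F.toFun' S v) (norm_natural θ NQ hNQ NP hNP)
    simp only [postcomp_toFun', precomp_toFun'] at h
    rw [postcomp_law, postcomp_toFun', ← h, hgdef, AlgHom.comp_toLinearMap, LinearMap.lTensor_comp,
      LinearMap.comp_apply]
  have hNε : ∀ v : S ⊗[A] (⨂[A] _ : Fin d, MvPolynomial (Option B) A),
      (SymTen.TSmap A d ε).toLinearMap.lTensor S (NQ.law.toFun' S v) =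
        NQ.law.toFun' S ((SymTen.tmap A d ε).toLinearMap.lTensor S v) := by
    intro v
    have h := congrArg (fun F => F.toFun' S v) (norm_natural ε NQ hNQ NQ hNQ)
    simpa only [postcomp_toFun', precomp_toFun'] using h
  rw [← h1, hG u, ← h3, hG x']
  conv_lhs => rw [← hgε, AlgHom.comp_toLinearMap, LinearMap.lTensor_comp, LinearMap.comp_apply, hNε, h2]

end Kernel

section Descent

open Groth.Agent.Lib.QuotLaw23

variable {A : Type u} [CommRing A] {B : Type u} [CommRing B] [Algebra A B] {C : Type u} [CommRing C]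
  [Algebra A C] {d : ℕ} {P : Type u} [CommRing P] [Algebra A P] (π : P →ₐ[A] B)
  (hπ : Function.Surjective π)

/-- the ideal generated by the one-slot kernel elements -/
def K0 (d : ℕ) : Ideal (⨂[A] _ : Fin d, P) :=
  Ideal.span {t | ∃ (k : Fin d) (a : P), π a = 0 ∧
    t = PiTensorProduct.singleAlgHom (R := A) (A := fun _ : Fin d => P) k a}

include hπ in
theorem tmap_surjective : Function.Surjective (SymTen.tmap A d π) := by
  intro t
  induction t using PiTensorProduct.induction_on with
  | smul_tprod r g =>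
    choose p hp using fun i => hπ (g i)
    refine ⟨r • PiTensorProduct.tprod A p, ?_⟩
    rw [map_smul, SymTen.tmap_tprod]
    simp only [hp]
  | add x y hx hy =>
    obtain ⟨x', rfl⟩ := hx
    obtain ⟨y', rfl⟩ := hy
    exact ⟨x' + y', map_add _ _ _⟩

/-- the `k`-th slot map `B → T^d(P) ⧸ K0` -/
noncomputable def slot (k : Fin d) : B →ₐ[A] (⨂[A] _ : Fin d, P) ⧸ K0 π d :=
  AlgHom.liftOfSurjective π hπ ((Ideal.Quotient.mkₐ A (K0 π d)).comp
    (PiTensorProduct.singleAlgHom (R := A) (A := fun _ : Fin d => P) k)) (by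
    intro a ha
    rw [RingHom.mem_ker] at ha ⊢
    show Ideal.Quotient.mk (K0 π d) (PiTensorProduct.singleAlgHom (R := A) (A := fun _ : Fin d => P) k a) = 0
    rw [Ideal.Quotient.eq_zero_iff_mem]
    exact Ideal.subset_span ⟨k, a, ha, rfl⟩)

theorem slot_apply (k : Fin d) (p : P) :
    slot π hπ k (π p) = Ideal.Quotient.mk (K0 π d)
      (PiTensorProduct.singleAlgHom (R := A) (A := fun _ : Fin d => P) k p) :=
  AlgHom.liftOfSurjective_apply _ _ _ _ _

/-- the multilinear map `(b_k) ↦ ∏ slot_k (b_k)` -/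
noncomputable def muMulti : MultilinearMap A (fun _ : Fin d => B) ((⨂[A] _ : Fin d, P) ⧸ K0 π d) :=
  (MultilinearMap.mkPiAlgebra A (Fin d) ((⨂[A] _ : Fin d, P) ⧸ K0 π d)).compLinearMap
    (fun k => (slot π hπ k).toLinearMap)

theorem muMulti_apply (b : Fin d → B) : muMulti π hπ b = ∏ k, slot π hπ k (b k) := by
  rw [muMulti, MultilinearMap.compLinearMap_apply, MultilinearMap.mkPiAlgebra_apply]
  rfl

/-- the algebra map `T^d(B) → T^d(P) ⧸ K0` -/
noncomputable def muT : (⨂[A] _ : Fin d, B) →ₐ[A] (⨂[A] _ : Fin d, P) ⧸ K0 π d :=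
  PiTensorProduct.liftAlgHom (muMulti π hπ)
    (by rw [muMulti_apply]; simp)
    (by intro x y; simp only [muMulti_apply, Pi.mul_apply, map_mul, Finset.prod_mul_distrib])

theorem muT_tprod (b : Fin d → B) :
    muT π hπ (PiTensorProduct.tprod A b) = ∏ k, slot π hπ k (b k) := by
  rw [muT, PiTensorProduct.liftAlgHom_apply, PiTensorProduct.lift.tprod, muMulti_apply]

theorem muT_comp_tmap : (muT π hπ).comp (SymTen.tmap A d π) = Ideal.Quotient.mkₐ A (K0 π d) := by
  apply AlgHom.toLinearMap_injective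
  apply PiTensorProduct.ext
  ext p
  simp only [LinearMap.compMultilinearMap_apply, AlgHom.toLinearMap_apply, AlgHom.comp_apply,
    SymTen.tmap_tprod, muT_tprod, slot_apply]
  rw [← map_prod, Groth.Agent.Lib.NormAlt23.prod_single]
  rfl

/-- the law on `T^d(B)` induced by a law on `T^d(P)` whose kernel contains `K0` -/
noncomputable def descLawT {m : ℕ} (G : PolLaw.MulLaw A (⨂[A] _ : Fin d, P) C m)
    (hK : K0 π d ≤ PolLaw.ker G.law) : PolLaw.MulLaw A (⨂[A] _ : Fin d, B) C m :=
  (quotMul G (K0 π d) hK).precomp (muT π hπ)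

theorem descLawT_apply {m : ℕ} (G : PolLaw.MulLaw A (⨂[A] _ : Fin d, P) C m)
    (hK : K0 π d ≤ PolLaw.ker G.law) (S : Type u) [CommSemiring S] [Algebra A S]
    (z : S ⊗[A] (⨂[A] _ : Fin d, P)) :
    (descLawT π hπ G hK).law.toFun' S ((SymTen.tmap A d π).toLinearMap.lTensor S z) =
      G.law.toFun' S z := by
  rw [descLawT, precomp_law, precomp_toFun', ← LinearMap.comp_apply, ← LinearMap.lTensor_comp,
    ← AlgHom.comp_toLinearMap, muT_comp_tmap]
  exact quotMul_apply G _ hK S z

end Descent

section Final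

variable {A : Type u} [CommRing A] {B : Type u} [CommRing B] [Algebra A B] {C : Type u} [CommRing C]
  [Algebra A C] {d : ℕ}

theorem map_perm_val {S : Type u} [CommSemiring S] [Algebra A S] (σ : Equiv.Perm (Fin d))
    (y : S ⊗[A] SymTen.TS A B d) :
    Algebra.TensorProduct.map (AlgHom.id S S) (SymTen.perm A B d σ)
      ((SymTen.TS A B d).val.toLinearMap.lTensor S y) = (SymTen.TS A B d).val.toLinearMap.lTensor S y := by
  induction y using TensorProduct.induction_on with
  | zero => simp
  | tmul s t =>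
    rw [LinearMap.lTensor_tmul, Algebra.TensorProduct.map_tmul, AlgHom.id_apply, AlgHom.toLinearMap_apply,
      SymTen.perm_apply]
    congr 1
    exact t.2 σ
  | add a b ha hb => simp only [map_add, ha, hb]

/-- on symmetric tensors the symmetrization law is the `d!`-th power -/
theorem symmLaw_val {S : Type u} [CommSemiring S] [Algebra A S] (y : S ⊗[A] SymTen.TS A B d) :
    (SymTen.symmLaw A B d).law.toFun' S ((SymTen.TS A B d).val.toLinearMap.lTensor S y) =
      ((SymTen.TS A B d).val.toLinearMap.lTensor S y) ^ d.factorial := by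
  rw [SymTen.symmLaw, PolLaw.MulLaw.prodMap_toFun']
  simp only [map_perm_val]
  rw [Finset.prod_const, Finset.card_univ, Fintype.card_perm, Fintype.card_fin]

theorem symmLaw_val' :
    PolLaw.precomp (SymTen.symmLaw A B d).law (SymTen.TS A B d).val.toLinearMap =
      PolLaw.postcomp (SymTen.TS A B d).val.toLinearMap (PolLaw.powLaw d.factorial) := by
  ext S _ _ y
  rw [precomp_toFun', postcomp_toFun', symmLaw_val, PolLaw.lTensor_algHom_apply]
  show _ = (Algebra.TensorProduct.map (AlgHom.id S S) (SymTen.TS A B d).val) (y ^ d.factorial)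
  rw [map_pow]

/-- on symmetric tensors the norm law is the `d!`-th power -/
theorem norm_val (N : PolLaw.MulLaw A (⨂[A] _ : Fin d, B) (SymTen.TS A B d) d.factorial)
    (hN : PolLaw.postcomp (SymTen.TS A B d).val.toLinearMap N.law = (SymTen.symmLaw A B d).law) :
    PolLaw.precomp N.law (SymTen.TS A B d).val.toLinearMap = PolLaw.powLaw d.factorial := by
  apply law_ext_val
  rw [postcomp_precomp, hN, symmLaw_val']

theorem hφ_law (γ : PolLaw.MulLaw A B C d) (φ : C →ₐ[A] SymTen.TS A B d)
    (hφ : ∀ (S : Type u) [CommSemiring S] [Algebra A S] (n : ℕ) (s : Fin n → S) (b : Fin n → B),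
      ((SymTen.TS A B d).val.comp φ).toLinearMap.lTensor S (γ.law.toFun' S (∑ j, s j ⊗ₜ[A] b j)) =
        ∑ c : Fin d → Fin n, (∏ i, s (c i)) ⊗ₜ[A] PiTensorProduct.tprod A (fun i => b (c i))) :
    PolLaw.postcomp ((SymTen.TS A B d).val.comp φ).toLinearMap γ.law = (SymTen.tpowLaw A B d).law := by
  ext S _ _ x
  obtain ⟨n, s, b, rfl⟩ := Groth.Agent.Lib.SymPolar23.exists_fin_sum_tmul x
  rw [postcomp_toFun', hφ, Groth.Agent.Lib.NormAlt23.tpowLaw_sum]

/-- **the norm law** `T^d_A(B) → Γ^d_A(B)` of degree `d!` -/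
theorem exists_normLaw (γ : PolLaw.MulLaw A B C d) (hγ : PolLaw.IsGammaD γ) (φ : C →ₐ[A] SymTen.TS A B d)
    (hφ : PolLaw.postcomp ((SymTen.TS A B d).val.comp φ).toLinearMap γ.law = (SymTen.tpowLaw A B d).law) :
    ∃ F : PolLaw.MulLaw A (⨂[A] _ : Fin d, B) C d.factorial,
      PolLaw.postcomp ((SymTen.TS A B d).val.comp φ).toLinearMap F.law = (SymTen.symmLaw A B d).law ∧
      PolLaw.precomp F.law ((SymTen.TS A B d).val.comp φ).toLinearMap = PolLaw.powLaw d.factorial := by
  have hπ := piP_surjective (A := A) (B := B)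
  obtain ⟨τP, hτP, hΓP⟩ := main A (MvPolynomial B A) d (Or.inl inferInstance)
  obtain ⟨f, hf, -⟩ := hΓP C (γ.precomp piP)
  obtain ⟨NP, hNP⟩ := exists_norm A (MvPolynomial B A) d
  have hK : K0 (piP (A := A) (B := B)) d ≤ PolLaw.ker (NP.postcomp f).law := by
    refine Ideal.span_le.2 ?_
    rintro _ ⟨k, a, ha, rfl⟩
    exact single_mem_ker γ τP hτP f hf NP hNP k a ha
  have hFP := descLawT_apply piP hπ (NP.postcomp f) hK
  have hfsurj : Function.Surjective f := Groth.Agent.S13717.result τP hΓP γ hγ piP hπ f hf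
  -- the comparison of `val ∘ φ ∘ f` with `T^d(π) ∘ val`
  have E1 : ((SymTen.TS A B d).val.comp φ).toLinearMap ∘ₗ f.toLinearMap =
      (SymTen.tmap A d piP).toLinearMap ∘ₗ (SymTen.TS A (MvPolynomial B A) d).val.toLinearMap := by
    apply LinearMap.ext_on (span_coeffSet_eq_top τP hΓP)
    rintro c ⟨n, z, l, rfl⟩
    rw [← evalFun_lTensor, ← evalFun_lTensor, ← postcomp_toFun', ← postcomp_toFun', postcomp_comp, hf,
      precomp_law, postcomp_precomp, hφ, postcomp_comp, hτP, tpowLaw_natural']
  refine ⟨descLawT piP hπ (NP.postcomp f) hK, ?_, ?_⟩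
  · ext S _ _ x
    obtain ⟨w, rfl⟩ := LinearMap.lTensor_surjective S
      (show Function.Surjective (SymTen.tmap A d (piP (A := A) (B := B))).toLinearMap from
        tmap_surjective piP hπ) x
    rw [postcomp_toFun', hFP, postcomp_law, postcomp_toFun', ← LinearMap.comp_apply, ← LinearMap.lTensor_comp,
      E1, LinearMap.lTensor_comp, LinearMap.comp_apply, ← postcomp_toFun', hNP]
    exact symmLaw_natural piP S w
  · apply ext_of_poly
    intro n
    funext c
    obtain ⟨c', rfl⟩ := LinearMap.lTensor_surjective (MvPolynomial (Fin n) A)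
      (show Function.Surjective f.toLinearMap from hfsurj) c
    rw [precomp_toFun', ← LinearMap.comp_apply, ← LinearMap.lTensor_comp, E1, LinearMap.lTensor_comp,
      LinearMap.comp_apply, hFP, postcomp_law, postcomp_toFun', ← precomp_toFun', norm_val NP hNP]
    show f.toLinearMap.lTensor _ (c' ^ d.factorial) = (f.toLinearMap.lTensor _ c') ^ d.factorial
    rw [PolLaw.lTensor_algHom_apply, PolLaw.lTensor_algHom_apply, map_pow]

end Final

end Groth.Agent.Lib.GammaNorm75
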