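/-
helper66: an additive functor preserving the relevant coproducts commutes with the total complex
of a bicomplex.  `TotalData` : recognition principle for total complexes.
-/
import Mathlib.Algebra.Homology.TotalComplex
import Mathlib.Algebra.Homology.Bifunctor
import Mathlib.Algebra.Homology.Additive
import Mathlib.CategoryTheory.Linear.LinearFunctor
import Mathlib.CategoryTheory.Preadditive.AdditiveFunctor
import Mathlib.CategoryTheory.Limits.Preserves.Shapes.Products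

open CategoryTheory Limits HomologicalComplex₂

namespace Groth.Agent.Lib.TotalFunctor66

variable {C : Type*} [Category C] [Preadditive C]
  {I₁ I₂ I₁₂ : Type*} {c₁ : ComplexShape I₁} {c₂ : ComplexShape I₂}
  (B : HomologicalComplex₂ C c₁ c₂) (c₁₂ : ComplexShape I₁₂) [TotalComplexShape c₁ c₂ c₁₂]
  [DecidableEq I₁₂]

/-- extend a family of inclusions by zero -/
noncomputable def orZero {T : HomologicalComplex C c₁₂}
    (ι : ∀ (i₁ : I₁) (i₂ : I₂) (n : I₁₂), ComplexShape.π c₁ c₂ c₁₂ (i₁, i₂) = n → ((B.X i₁).X i₂ ⟶ T.X n))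
    (i₁ : I₁) (i₂ : I₂) (n : I₁₂) : (B.X i₁).X i₂ ⟶ T.X n :=
  if h : ComplexShape.π c₁ c₂ c₁₂ (i₁, i₂) = n then ι i₁ i₂ n h else 0

/-- Data exhibiting `T` as a total complex of `B`. -/
structure TotalData (T : HomologicalComplex C c₁₂) where
  ι : ∀ (i₁ : I₁) (i₂ : I₂) (n : I₁₂), ComplexShape.π c₁ c₂ c₁₂ (i₁, i₂) = n → ((B.X i₁).X i₂ ⟶ T.X n)
  isColimit : ∀ n : I₁₂, IsColimit (GradedObject.CofanMapObjFun.mk B.toGradedObject
    (ComplexShape.π c₁ c₂ c₁₂) n (T.X n) (fun i h => ι i.1 i.2 n h))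
  ι_d : ∀ (i₁ : I₁) (i₂ : I₂) (n n' : I₁₂) (h : ComplexShape.π c₁ c₂ c₁₂ (i₁, i₂) = n),
    ι i₁ i₂ n h ≫ T.d n n' =
      ComplexShape.ε₁ c₁ c₂ c₁₂ (i₁, i₂) • ((B.d i₁ (c₁.next i₁)).f i₂ ≫ orZero B c₁₂ ι (c₁.next i₁) i₂ n') +
      ComplexShape.ε₂ c₁ c₂ c₁₂ (i₁, i₂) • ((B.X i₁).d i₂ (c₂.next i₂) ≫ orZero B c₁₂ ι i₁ (c₂.next i₂) n')

variable {B c₁₂} [B.HasTotal c₁₂]

namespace TotalData

variable {T : HomologicalComplex C c₁₂} (D : TotalData B c₁₂ T)

/-- the degreewise iso -/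
noncomputable def isoX (n : I₁₂) : T.X n ≅ (B.total c₁₂).X n :=
  (D.isColimit n).coconePointUniqueUpToIso
    (B.toGradedObject.isColimitCofanMapObj (ComplexShape.π c₁ c₂ c₁₂) n)

@[reassoc (attr := simp)]
lemma ι_isoX_hom (i₁ : I₁) (i₂ : I₂) (n : I₁₂) (h : ComplexShape.π c₁ c₂ c₁₂ (i₁, i₂) = n) :
    D.ι i₁ i₂ n h ≫ (D.isoX n).hom = B.ιTotal c₁₂ i₁ i₂ n h :=
  (D.isColimit n).comp_coconePointUniqueUpToIso_hom
    (B.toGradedObject.isColimitCofanMapObj (ComplexShape.π c₁ c₂ c₁₂) n) ⟨⟨(i₁, i₂), h⟩⟩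

@[reassoc (attr := simp)]
lemma orZero_isoX_hom (i₁ : I₁) (i₂ : I₂) (n : I₁₂) :
    orZero B c₁₂ D.ι i₁ i₂ n ≫ (D.isoX n).hom = B.ιTotalOrZero c₁₂ i₁ i₂ n := by
  by_cases h : ComplexShape.π c₁ c₂ c₁₂ (i₁, i₂) = n
  · rw [B.ιTotalOrZero_eq c₁₂ i₁ i₂ n h]
    simp [orZero, h]
  · rw [B.ιTotalOrZero_eq_zero c₁₂ i₁ i₂ n h]
    simp [orZero, h]

lemma hom_ext {A : C} {n : I₁₂} {f g : T.X n ⟶ A}
    (h : ∀ (i₁ : I₁) (i₂ : I₂) (hi : ComplexShape.π c₁ c₂ c₁₂ (i₁, i₂) = n),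
      D.ι i₁ i₂ n hi ≫ f = D.ι i₁ i₂ n hi ≫ g) : f = g :=
  (D.isColimit n).hom_ext (fun ⟨⟨⟨i₁, i₂⟩, hi⟩⟩ => h i₁ i₂ hi)

/-- the iso with the total complex -/
noncomputable def iso : T ≅ B.total c₁₂ :=
  HomologicalComplex.Hom.isoOfComponents D.isoX (by
    intro n n' _
    apply D.hom_ext
    intro i₁ i₂ hi
    rw [ι_isoX_hom_assoc, reassoc_of% (D.ι_d i₁ i₂ n n' hi)]
    simp only [Preadditive.add_comp, Linear.units_smul_comp, Category.assoc, orZero_isoX_hom,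
      total_d, Preadditive.comp_add, ι_D₁, ι_D₂]
    rfl)

end TotalData

section Functor

variable {D : Type*} [Category D] [Preadditive D] (G : C ⥤ D) [G.Additive]

variable (B) in
/-- apply `G` to a bicomplex -/
abbrev mapBicomplex : HomologicalComplex₂ D c₁ c₂ :=
  ((G.mapHomologicalComplex c₂).mapHomologicalComplex c₁).obj B

variable (B c₁₂) in
/-- `G` preserves the coproducts defining the total complex of `B` -/
abbrev PreservesTotal : Prop :=
  ∀ n : I₁₂, PreservesColimit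
    (Discrete.functor (B.toGradedObject.mapObjFun (ComplexShape.π c₁ c₂ c₁₂) n)) G

variable [hG : PreservesTotal B c₁₂ G]

/-- the image cofan is colimit -/
noncomputable def isColimitMapCofan (n : I₁₂) :
    IsColimit (GradedObject.CofanMapObjFun.mk (mapBicomplex B G).toGradedObject
      (ComplexShape.π c₁ c₂ c₁₂) n (G.obj ((B.total c₁₂).X n))
      (fun i h => G.map (B.ιTotal c₁₂ i.1 i.2 n h))) :=
  isColimitMapCoconeCofanMkEquiv G _ _
    ((hG n).preserves (B.toGradedObject.isColimitCofanMapObj (ComplexShape.π c₁ c₂ c₁₂) n)).some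

include hG in
lemma hasTotal_mapBicomplex : (mapBicomplex B G).HasTotal c₁₂ :=
  GradedObject.CofanMapObjFun.hasMap _ _ _ (fun n => isColimitMapCofan G n)

lemma map_ιTotalOrZero (i₁ : I₁) (i₂ : I₂) (n : I₁₂) :
    G.map (B.ιTotalOrZero c₁₂ i₁ i₂ n) =
      orZero (mapBicomplex B G) c₁₂ (T := (G.mapHomologicalComplex c₁₂).obj (B.total c₁₂))
        (fun i₁ i₂ n h => G.map (B.ιTotal c₁₂ i₁ i₂ n h)) i₁ i₂ n := by
  by_cases h : ComplexShape.π c₁ c₂ c₁₂ (i₁, i₂) = n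
  · rw [B.ιTotalOrZero_eq c₁₂ i₁ i₂ n h]
    simp only [orZero, dif_pos h]
  · rw [B.ιTotalOrZero_eq_zero c₁₂ i₁ i₂ n h]
    simp only [orZero, dif_neg h, G.map_zero]
    rfl

/-- `G (Tot B)` is a total complex of `G B` -/
noncomputable def totalDataMap :
    TotalData (mapBicomplex B G) c₁₂ ((G.mapHomologicalComplex c₁₂).obj (B.total c₁₂)) where
  ι i₁ i₂ n h := G.map (B.ιTotal c₁₂ i₁ i₂ n h)
  isColimit n := isColimitMapCofan G n
  ι_d i₁ i₂ n n' h := by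
    have e1 := congrArg G.map (B.ι_D₁ c₁₂ n n' i₁ i₂ h)
    have e2 := congrArg G.map (B.ι_D₂ c₁₂ n n' i₁ i₂ h)
    rw [G.map_comp] at e1 e2
    change G.map _ ≫ G.map ((B.total c₁₂).d n n') = _
    rw [total_d, G.map_add, Preadditive.comp_add, e1, e2]
    rw [← map_ιTotalOrZero, ← map_ιTotalOrZero]
    simp only [HomologicalComplex₂.d₁, HomologicalComplex₂.d₂, Functor.map_units_smul, G.map_comp]
    rfl

/-- an additive functor preserving the relevant coproducts commutes with total complexes -/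
noncomputable def mapTotalIso :
    haveI := hasTotal_mapBicomplex (B := B) (c₁₂ := c₁₂) G
    (G.mapHomologicalComplex c₁₂).obj (B.total c₁₂) ≅ (mapBicomplex B G).total c₁₂ :=
  haveI := hasTotal_mapBicomplex (B := B) (c₁₂ := c₁₂) G
  (totalDataMap G).iso

end Functor

end Groth.Agent.Lib.TotalFunctor66
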