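/-
helper81: stalkFunctorIso (DerSch.stalkFunctor ≅ SkyMod81.stalkMod), stalkFunctorAdj (⊣ skyMod), IsLeftAdjoint / PreservesColimits instances,
stalkCx x, bicIso, stalkTensorCxIso x L E : stalkCx (tensorCx L E) ≅ stalkCx L ⊗ stalkCx E (uses helper66 TotalFunctor66.mapTotalIso).
-/
import Groth.Agent.Lib.StalkTensor81D
import Groth.Agent.Lib.TotalFunctor66
import Groth.Prelude.Def_KFlatSite
import Mathlib.Algebra.Homology.Monoidal

set_option autoImplicit false
universe u
open CategoryTheory CategoryTheory.Limits MonoidalCategory Opposite TopologicalSpace TensorProduct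
  AlgebraicGeometry

namespace Groth.Agent.Lib.StalkTensor81

open Groth.Agent.Lib.ModStalkLin Groth.Agent.Lib.TotalFunctor66

variable {X : Scheme.{u}} (x : X)

/-- the frozen stalk functor agrees with `SkyMod81.stalkMod` -/
noncomputable def stalkFunctorIso : DerSch.stalkFunctor X x ≅ Groth.Agent.Lib.SkyMod81.stalkMod x :=
  NatIso.ofComponents (fun _ => Iso.refl _) (fun φ => by
    rw [stalkFunctor_map]
    exact (Category.comp_id _).trans (Category.id_comp _).symm)

/-- the stalk functor is left adjoint to the skyscraper functor -/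
noncomputable def stalkFunctorAdj : DerSch.stalkFunctor X x ⊣ Groth.Agent.Lib.SkyMod81.skyMod x :=
  (Groth.Agent.Lib.SkyMod81.stalkSkyAdj x).ofNatIsoLeft (stalkFunctorIso x).symm

instance : (DerSch.stalkFunctor X x).IsLeftAdjoint := (stalkFunctorAdj x).isLeftAdjoint

instance : PreservesColimitsOfSize.{0, 0} (DerSch.stalkFunctor X x) :=
  (stalkFunctorAdj x).leftAdjoint_preservesColimits

end Groth.Agent.Lib.StalkTensor81

namespace Groth.Agent.Lib.StalkTensor81

open Groth.Agent.Lib.ModStalkLin Groth.Agent.Lib.TotalFunctor66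

variable {X : Scheme.{u}} (x : X)

/-- the stalk functor on complexes -/
noncomputable abbrev stalkCx : CochainComplex X.Modules ℤ ⥤
    CochainComplex (ModuleCat.{u} (X.presheaf.stalk x)) ℤ :=
  (DerSch.stalkFunctor X x).mapHomologicalComplex (ComplexShape.up ℤ)

/-- the bicomplex `L^p ⊗ E^q` -/
noncomputable abbrev tensorBicx (L E : CochainComplex X.Modules ℤ) :
    HomologicalComplex₂ X.Modules (ComplexShape.up ℤ) (ComplexShape.up ℤ) :=
  (((DCoh.tensorBi (X := X)).mapBifunctorHomologicalComplex
    (ComplexShape.up ℤ) (ComplexShape.up ℤ)).obj L).obj E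

/-- the bicomplex `(L^p ⊗ E^q)_x` -/
noncomputable abbrev B₁ (L E : CochainComplex X.Modules ℤ) :
    HomologicalComplex₂ (ModuleCat.{u} (X.presheaf.stalk x)) (ComplexShape.up ℤ) (ComplexShape.up ℤ) :=
  mapBicomplex (tensorBicx L E) (DerSch.stalkFunctor X x)

/-- the bicomplex `L_x^p ⊗ E_x^q` -/
noncomputable abbrev B₂ (L E : CochainComplex X.Modules ℤ) :
    HomologicalComplex₂ (ModuleCat.{u} (X.presheaf.stalk x)) (ComplexShape.up ℤ) (ComplexShape.up ℤ) :=
  (((curriedTensor (ModuleCat.{u} (X.presheaf.stalk x))).mapBifunctorHomologicalComplex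
    (ComplexShape.up ℤ) (ComplexShape.up ℤ)).obj ((stalkCx x).obj L)).obj ((stalkCx x).obj E)

/-- stalks of the tensor bicomplex -/
noncomputable def bicIso (L E : CochainComplex X.Modules ℤ) : B₁ x L E ≅ B₂ x L E :=
  HomologicalComplex.Hom.isoOfComponents
    (fun p => HomologicalComplex.Hom.isoOfComponents (fun q => stalkTensorIso x (L.X p) (E.X q))
      (by
        intro q q' _
        exact (stalkTensorIso_naturality_right x (L.X p) (E.d q q')).symm))
    (by
      intro p p' _
      refine HomologicalComplex.hom_ext _ _ (fun q => ?_)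
      exact (stalkTensorIso_naturality_left x (L.d p p') (E.X q)).symm)

instance preservesTotal (L E : CochainComplex X.Modules ℤ) :
    PreservesTotal (tensorBicx L E) (ComplexShape.up ℤ) (DerSch.stalkFunctor X x) := by
  intro n
  infer_instance

/-- the stalk of the tensor product of complexes is the tensor product of the complexes of stalks -/
noncomputable def stalkTensorCxIso (L E : CochainComplex X.Modules ℤ) :
    (stalkCx x).obj ((DCoh.tensorCx.obj L).obj E) ≅ (stalkCx x).obj L ⊗ (stalkCx x).obj E :=
  haveI := hasTotal_mapBicomplex (B := tensorBicx L E) (c₁₂ := ComplexShape.up ℤ)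
    (DerSch.stalkFunctor X x)
  mapTotalIso (DerSch.stalkFunctor X x) ≪≫
    HomologicalComplex₂.total.mapIso (bicIso x L E) (ComplexShape.up ℤ)

end Groth.Agent.Lib.StalkTensor81
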