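/-
helper81: DerSch.stalkFunctor is exact (PreservesFiniteLimits/Colimits, PreservesHomology); isZero_of_forall_isZero_stalkFunctor;
isZero_homology_iff_stalk (acyclicity is stalkwise); ev_bijective, isIso_counit, skyStalkIso (sky_x N)_x ≅ N; skyMod x exact (PreservesEpimorphisms,
PreservesFiniteColimits, PreservesHomology); preservesFiniteColimits_of_preservesEpimorphisms (general); isZero_homology_skyMod; stalkCxSkyIso.
-/
import Groth.Agent.Lib.StalkTensor81E
import Groth.Agent.Lib.PullbackStalk81
import Groth.Agent.Lib.ModPullback
import Groth.Agent.Lib.ModInjFlasque92c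

set_option autoImplicit false
universe u
open CategoryTheory CategoryTheory.Limits MonoidalCategory Opposite TopologicalSpace TensorProduct
  AlgebraicGeometry

namespace Groth.Agent.Lib.StalkTensor81

open Groth.Agent.Lib.ModStalkLin

variable {X : Scheme.{u}} (x : X)

instance : PreservesFiniteColimits (DerSch.stalkFunctor X x) :=
  ⟨fun _ _ _ => (stalkFunctorAdj x).leftAdjoint_preservesColimits.1⟩

instance : (DerSch.stalkFunctor X x).PreservesMonomorphisms where
  preserves {M N} φ hφ := by
    rw [stalkFunctor_map]
    exact (ModuleCat.mono_iff_injective (ModuleCat.ofHom (stalkLin φ x))).2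
      (stalkLin_injective_of_mono φ x)

instance : PreservesFiniteLimits (DerSch.stalkFunctor X x) :=
  Groth.Agent.Lib.PullbackStalk81.preservesFiniteLimits_of_preservesMonomorphisms _

instance : (DerSch.stalkFunctor X x).PreservesHomology := inferInstance

/-- a module all of whose stalks vanish is zero -/
theorem isZero_of_forall_isZero_stalkFunctor (A : X.Modules)
    (h : ∀ x : X, IsZero ((DerSch.stalkFunctor X x).obj A)) : IsZero A := by
  apply Groth.Agent.Lib.ModPullback.isZero_of_forall_subsingleton_stalk
  intro y
  exact ModuleCat.subsingleton_of_isZero (h y)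

/-- acyclicity of a complex of modules is checked on stalks -/
theorem isZero_homology_iff_stalk (K : CochainComplex X.Modules ℤ) (i : ℤ) :
    IsZero (K.homology i) ↔ ∀ x : X, IsZero (((stalkCx x).obj K).homology i) := by
  constructor
  · intro h x
    rw [← HomologicalComplex.exactAt_iff_isZero_homology] at h ⊢
    exact ShortComplex.Exact.map h (DerSch.stalkFunctor X x)
  · intro h
    apply isZero_of_forall_isZero_stalkFunctor
    intro x
    have h1 := h x
    rw [← HomologicalComplex.exactAt_iff_isZero_homology] at h1
    have h2 : ((K.sc i).map (DerSch.stalkFunctor X x)).Exact := h1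
    rw [ShortComplex.exact_iff_isZero_homology] at h2
    exact h2.of_iso ((K.sc i).mapHomologyIso (DerSch.stalkFunctor X x)).symm

end Groth.Agent.Lib.StalkTensor81

namespace Groth.Agent.Lib.StalkTensor81

open Groth.Agent.Lib.ModStalkLin Groth.Agent.Lib.SkyMod81

variable {X : Scheme.{u}} (x : X)

theorem ev_bijective (N : Type u) [AddCommGroup N] [Module (X.presheaf.stalk x) N] :
    Function.Bijective (ev x N) := by
  constructor
  · rw [injective_iff_map_eq_zero]
    intro m hm
    obtain ⟨U, hxU, s, rfl⟩ := TopCat.Presheaf.exists_germ_eq (skyObj x N).presheaf m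
    rw [ev_germ] at hm
    have hs : s = 0 := by
      change toFn x N U s = 0
      funext h
      exact hm
    rw [hs, map_zero]
  · intro n
    have hx : x ∈ (⊤ : Opens X) := trivial
    refine ⟨(skyObj x N).presheaf.germ ⊤ x hx (ofFn x N ⊤ (fun _ => n)), ?_⟩
    rw [ev_germ]
    rfl

/-- the counit of the stalk/skyscraper adjunction is an isomorphism -/
instance isIso_counit : IsIso (stalkSkyAdj x).counit := by
  have : ∀ N, IsIso ((stalkSkyAdj x).counit.app N) := fun N => by
    change IsIso (ModuleCat.ofHom (evLin x N))
    exact (ConcreteCategory.isIso_iff_bijective _).2 (ev_bijective x N)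
  exact NatIso.isIso_of_isIso_app _

/-- `(sky_x N)_x ≅ N` -/
noncomputable def skyStalkIso : skyMod x ⋙ DerSch.stalkFunctor X x ≅ 𝟭 _ :=
  Functor.isoWhiskerLeft (skyMod x) (stalkFunctorIso x) ≪≫ asIso (stalkSkyAdj x).counit

instance : (skyMod x).Additive := (stalkFunctorAdj x).right_adjoint_additive

instance : PreservesFiniteLimits (skyMod x) :=
  ⟨fun _ _ _ => (stalkSkyAdj x).rightAdjoint_preservesLimits.1⟩

instance : (skyMod x).PreservesEpimorphisms where
  preserves {N N'} g hg := by
    apply Groth.Agent.Lib.ModInjFlasque92.epi_of_surjective_app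
    intro U s
    have hsurj : Function.Surjective g.hom := (ModuleCat.epi_iff_surjective g).1 hg
    choose t ht using hsurj
    refine ⟨ofFn x N U (fun h => t (toFn x N' U s h)), ?_⟩
    change ofFn x N' U (fun h => g.hom (t (toFn x N' U s h))) = s
    simp only [ht]
    rfl

end Groth.Agent.Lib.StalkTensor81

namespace Groth.Agent.Lib.StalkTensor81

open Groth.Agent.Lib.ModStalkLin Groth.Agent.Lib.SkyMod81

/-- A left exact additive functor between abelian categories which preserves epimorphisms is exact. -/
theorem preservesFiniteColimits_of_preservesEpimorphisms {A B : Type*} [Category A] [Category B]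
    [Abelian A] [Abelian B] (F : A ⥤ B) [F.Additive]
    [PreservesFiniteLimits F] [F.PreservesEpimorphisms] : PreservesFiniteColimits F := by
  have h : ∀ (S : ShortComplex A), S.ShortExact → (S.map F).Exact ∧ Epi (F.map S.g) := by
    intro S hS
    refine ⟨?_, ?_⟩
    · have h0 : ∀ (S : ShortComplex A), S.ShortExact → (S.map F).Exact ∧ Mono (F.map S.f) :=
        ((Functor.preservesFiniteLimits_tfae F).out 3 0 rfl rfl).mp
          (inferInstance : PreservesFiniteLimits F)
      exact (h0 S hS).1
    · have := hS.epi_g
      infer_instance
  exact ((Functor.preservesFiniteColimits_tfae F).out 0 3 rfl rfl).mp h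

variable {X : Scheme.{u}} (x : X)

instance : PreservesFiniteColimits (skyMod x) := preservesFiniteColimits_of_preservesEpimorphisms _

instance : (skyMod x).PreservesHomology := inferInstance

/-- the skyscraper of an acyclic complex is acyclic -/
theorem isZero_homology_skyMod (M : CochainComplex (ModuleCat.{u} (X.presheaf.stalk x)) ℤ) (i : ℤ)
    (h : IsZero (M.homology i)) :
    IsZero ((((skyMod x).mapHomologicalComplex (ComplexShape.up ℤ)).obj M).homology i) := by
  rw [← HomologicalComplex.exactAt_iff_isZero_homology] at h ⊢
  exact ShortComplex.Exact.map h (skyMod x)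

/-- the stalk at `x` of the skyscraper complex is the original complex -/
noncomputable def stalkCxSkyIso (M : CochainComplex (ModuleCat.{u} (X.presheaf.stalk x)) ℤ) :
    (stalkCx x).obj (((skyMod x).mapHomologicalComplex (ComplexShape.up ℤ)).obj M) ≅ M :=
  HomologicalComplex.Hom.isoOfComponents (fun n => (skyStalkIso x).app (M.X n))
    (fun n n' _ => ((skyStalkIso x).hom.naturality (M.d n n')).symm)

end Groth.Agent.Lib.StalkTensor81
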