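import Groth.Agent.Lib.LpullKFlat35
import Groth.Agent.Lib.DTenBaseFlat35
import Groth.Agent.Lib.ProjFormula35
import Groth.Agent.Lib.StalkTensor81F
import Groth.Agent.S11132

/-!
# Stacks 06YB: pullback of K-flat complexes (helper35)

For ANY morphism of schemes `f : X ⟶ Y`:
* `stalkPullCxIso f x K : stalkCx x (f^* K) ≅ extCx (f.stalkMap x).hom (stalkCx (f x) K)`;
* `kflatHyp f : KFlatHyp f` : the termwise pullback of a K-flat complex is K-flat;
* `acycHyp f : AcycHyp f` : the termwise pullback of an acyclic K-flat complex is acyclic.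
-/

set_option autoImplicit false
universe u
open CategoryTheory Limits AlgebraicGeometry
attribute [local instance] HasDerivedCategory.standard

namespace Groth.Agent.Lib.LpullHyp35

open Groth.Agent.Lib.LpullKFlat35 Groth.Agent.Lib.StalkTensor81

variable {X Y : Scheme.{u}} (f : X ⟶ Y)

/-- stalk of the pullback, for the frozen stalk functor -/
noncomputable def stalkPullIso (x : X) :
    Scheme.Modules.pullback f ⋙ DerSch.stalkFunctor X x ≅
      DerSch.stalkFunctor Y (f x) ⋙ ModuleCat.extendScalars.{u, u, u} (f.stalkMap x).hom :=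
  Functor.isoWhiskerLeft _ (stalkFunctorIso x) ≪≫
    Groth.Agent.Lib.PullbackStalk81.pullbackStalkIso f x ≪≫
    Functor.isoWhiskerRight (stalkFunctorIso (f x)).symm _

/-- stalk of the termwise pullback of a complex -/
noncomputable def stalkPullCxIso (x : X) (K : CochainComplex Y.Modules ℤ) :
    (stalkCx x).obj ((pullCx f).obj K) ≅
      (DTen.extCx (f.stalkMap x).hom).obj ((stalkCx (f x)).obj K) :=
  HomologicalComplex.Hom.isoOfComponents (fun n => (stalkPullIso f x).app (K.X n))
    (fun n n' _ => ((stalkPullIso f x).hom.naturality (K.d n n')).symm)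

theorem isKFlat_stalk {K : CochainComplex Y.Modules ℤ} (hK : ModSite.IsKFlat (O := Y.sheaf) K)
    (y : Y) : Groth.Agent.Lib.KFlat35.IsKFlat ((stalkCx y).obj K) :=
  (Groth.Agent.Lib.KFlat35.isKFlat_iff _).2 ((Groth.Agent.S11132.result Y K).1 hK y)

/-- Stacks 06YB (first half): the termwise pullback of a K-flat complex is K-flat. -/
theorem kflatHyp : KFlatHyp f := by
  intro K hK
  refine (Groth.Agent.S11132.result X _).2 (fun x => ?_)
  have h1 := Groth.Agent.Lib.ProjFormula35.isKFlat_extCx (f.stalkMap x).hom
    ((stalkCx (f x)).obj K) (isKFlat_stalk hK (f x))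
  have h2 := (Groth.Agent.Lib.KFlat35.isKFlat_iff _).1 h1
  intro M hM i
  exact (h2 M hM i).of_iso ((HomologicalComplex.homologyFunctor _ _ i).mapIso
    (MonoidalCategory.whiskerLeftIso M (stalkPullCxIso f x K)))

/-- Stacks 06YB (second half): the termwise pullback of an acyclic K-flat complex is acyclic. -/
theorem acycHyp : AcycHyp f := by
  intro K hK hK0 i
  rw [isZero_homology_iff_stalk]
  intro x
  have h0 : ((stalkCx (f x)).obj K).Acyclic := by
    intro j
    rw [HomologicalComplex.exactAt_iff_isZero_homology]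
    exact (isZero_homology_iff_stalk K j).1 (hK0 j) (f x)
  have h1 := Groth.Agent.Lib.DTenBaseFlat35.acyclic_extCx_of_isKFlat_of_acyclic
    (f.stalkMap x).hom ((stalkCx (f x)).obj K) (isKFlat_stalk hK (f x)) h0
  have h2 := (HomologicalComplex.exactAt_iff_isZero_homology _ _).1 (h1 i)
  exact h2.of_iso ((HomologicalComplex.homologyFunctor _ _ i).mapIso (stalkPullCxIso f x K))

end Groth.Agent.Lib.LpullHyp35
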