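/-
helper11: keystone ModSiteTensor, part J (presheaf level).  Explicit extension by zero for presheaves of modules:
for `R : Cᵒᵖ ⥤ RingCat`, `X : C` and a presheaf of modules `M` over `R|_{C/X}`, the presheaf of `R`-modules
`V ↦ ⨁_{φ : V ⟶ X} M(φ)`.  It is left adjoint to restriction and preserves monomorphisms.
-/
import Mathlib.Algebra.Category.ModuleCat.Presheaf.Pullback
import Mathlib.Algebra.Category.ModuleCat.Presheaf.EpiMono
import Mathlib.Algebra.DirectSum.Module
import Mathlib.CategoryTheory.Comma.Over.Basic
import Mathlib.CategoryTheory.Adjunction.Unique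

universe u
open CategoryTheory Opposite DirectSum

attribute [local instance] Classical.propDecidable

namespace Groth.Agent.Lib.ModShriekPre

variable {C : Type u} [SmallCategory C] (R : Cᵒᵖ ⥤ RingCat.{u}) (X : C)

/-- the restriction of the presheaf of rings to `C/X` -/
abbrev RX : (Over X)ᵒᵖ ⥤ RingCat.{u} := (Over.forget X).op ⋙ R

variable {R X} (M : PresheafOfModules.{u} (RX R X))

/-- the summand of `j_! M (V)` indexed by `φ : V ⟶ X` -/
abbrev summand {V : C} (φ : V ⟶ X) : Type u := M.presheaf.obj (op (Over.mk φ))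

instance {V : C} (φ : V ⟶ X) : Module (R.obj (op V)) (summand M φ) :=
  inferInstanceAs (Module ((RX R X).obj (op (Over.mk φ))) (M.presheaf.obj (op (Over.mk φ))))

/-- sections of `j_! M` over `V` -/
abbrev carrier (V : C) : Type u := ⨁ φ : V ⟶ X, summand M φ

/-- restriction between summands -/
noncomputable def resS {V V' : C} (g : V' ⟶ V) {φ : V ⟶ X} {ψ : V' ⟶ X} (h : g ≫ φ = ψ) :
    summand M φ →+ summand M ψ :=
  (M.presheaf.map (Over.homMk (U := Over.mk ψ) (V := Over.mk φ) g h).op).hom

lemma resS_id {V : C} (φ : V ⟶ X) (x : summand M φ) :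
    resS M (𝟙 V) (Category.id_comp φ) x = x := by
  have : (Over.homMk (U := Over.mk φ) (V := Over.mk φ) (𝟙 V) (Category.id_comp φ)) = 𝟙 _ := rfl
  simp only [resS, this, op_id, M.presheaf.map_id]
  rfl

lemma resS_comp {V V' V'' : C} (g : V' ⟶ V) (g' : V'' ⟶ V') {φ : V ⟶ X} {ψ : V' ⟶ X}
    {χ : V'' ⟶ X} (h : g ≫ φ = ψ) (h' : g' ≫ ψ = χ) (hc : (g' ≫ g) ≫ φ = χ) (x : summand M φ) :
    resS M g' h' (resS M g h x) = resS M (g' ≫ g) hc x := by
  have : (Over.homMk (U := Over.mk χ) (V := Over.mk φ) (g' ≫ g) hc) =
      (Over.homMk (U := Over.mk χ) (V := Over.mk ψ) g' h') ≫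
        Over.homMk (U := Over.mk ψ) (V := Over.mk φ) g h := rfl
  simp only [resS, this, op_comp, M.presheaf.map_comp]
  rfl

/-- the restriction map of `j_! M` -/
noncomputable def resMap {V V' : C} (g : V' ⟶ V) : carrier M V →+ carrier M V' :=
  DirectSum.toAddMonoid fun φ =>
    (DirectSum.of (fun ψ : V' ⟶ X => summand M ψ) (g ≫ φ)).comp (resS M g rfl)

lemma resMap_of {V V' : C} (g : V' ⟶ V) (φ : V ⟶ X) (x : summand M φ) :
    resMap M g (DirectSum.of _ φ x) = DirectSum.of (fun ψ : V' ⟶ X => summand M ψ) (g ≫ φ) (resS M g rfl x) := by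
  exact DirectSum.toAddMonoid_of _ φ x

/-- the value is independent of the presentation of the index -/
lemma of_resS_eq {V V' : C} (g : V' ⟶ V) {φ : V ⟶ X} {ψ ψ' : V' ⟶ X} (h : g ≫ φ = ψ)
    (h' : g ≫ φ = ψ') (x : summand M φ) :
    DirectSum.of (fun ψ : V' ⟶ X => summand M ψ) ψ (resS M g h x) =
      DirectSum.of (fun ψ : V' ⟶ X => summand M ψ) ψ' (resS M g h' x) := by
  subst h
  subst h'
  rfl

lemma resMap_of' {V V' : C} (g : V' ⟶ V) {φ : V ⟶ X} {ψ : V' ⟶ X} (h : g ≫ φ = ψ)
    (x : summand M φ) :
    resMap M g (DirectSum.of _ φ x) = DirectSum.of (fun ψ : V' ⟶ X => summand M ψ) ψ (resS M g h x) := by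
  rw [resMap_of]
  exact of_resS_eq M g rfl h x

lemma resMap_id (V : C) : resMap M (𝟙 V) = AddMonoidHom.id _ := by
  apply DirectSum.addHom_ext
  intro φ x
  rw [resMap_of' M (𝟙 V) (Category.id_comp φ), resS_id]
  rfl

lemma resMap_comp {V V' V'' : C} (g : V' ⟶ V) (g' : V'' ⟶ V') :
    resMap M (g' ≫ g) = (resMap M g').comp (resMap M g) := by
  apply DirectSum.addHom_ext
  intro φ x
  rw [AddMonoidHom.comp_apply, resMap_of M g, resMap_of M g',
    resS_comp M g g' rfl rfl (Category.assoc g' g φ),
    resMap_of' M (g' ≫ g) (Category.assoc g' g φ)]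

/-- the underlying abelian presheaf of `j_! M` -/
noncomputable def shriekAb : Cᵒᵖ ⥤ Ab.{u} where
  obj V := AddCommGrpCat.of (carrier M V.unop)
  map g := AddCommGrpCat.ofHom (resMap M g.unop)
  map_id V := by
    apply AddCommGrpCat.hom_ext
    exact resMap_id M V.unop
  map_comp g g' := by
    apply AddCommGrpCat.hom_ext
    exact resMap_comp M g.unop g'.unop

noncomputable instance (V : Cᵒᵖ) : Module (R.obj V) ((shriekAb M).obj V) :=
  inferInstanceAs (Module (R.obj (op V.unop)) (⨁ φ : V.unop ⟶ X, summand M φ))

lemma resS_smul {V V' : C} (g : V' ⟶ V) {φ : V ⟶ X} {ψ : V' ⟶ X} (h : g ≫ φ = ψ)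
    (r : R.obj (op V)) (x : summand M φ) :
    resS M g h (r • x) = (R.map g.op r : R.obj (op V')) • resS M g h x :=
  M.map_smul (Over.homMk (U := Over.mk ψ) (V := Over.mk φ) g h).op r x

lemma resMap_smul {V V' : C} (g : V' ⟶ V) (r : R.obj (op V)) (m : carrier M V) :
    resMap M g (r • m) = (R.map g.op r : R.obj (op V')) • resMap M g m := by
  induction m using DirectSum.induction_on with
  | zero => simp
  | of φ x =>
    rw [← DirectSum.of_smul, resMap_of, resMap_of, resS_smul, DirectSum.of_smul]
  | add a b ha hb => rw [smul_add, map_add, ha, hb, map_add, smul_add]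

/-- extension by zero of a presheaf of modules on `C/X` -/
noncomputable def shriekObj : PresheafOfModules.{u} R :=
  PresheafOfModules.ofPresheaf (shriekAb M) (fun _ _ g r m => resMap_smul M g.unop r m)

lemma shriekObj_presheaf : (shriekObj M).presheaf = shriekAb M := rfl

variable {M} {N P : PresheafOfModules.{u} (RX R X)} (f : M ⟶ N)

/-- the action of a morphism on summands -/
noncomputable def mapS {V : C} (φ : V ⟶ X) : summand M φ →+ summand N φ :=
  (((PresheafOfModules.toPresheaf _).map f).app (op (Over.mk φ))).hom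

lemma mapS_apply {V : C} (φ : V ⟶ X) (x : summand M φ) :
    mapS f φ x = f.app (op (Over.mk φ)) x := rfl

lemma mapS_smul {V : C} (φ : V ⟶ X) (r : R.obj (op V)) (x : summand M φ) :
    mapS f φ (r • x) = r • mapS f φ x :=
  (f.app (op (Over.mk φ))).hom.map_smul r x

lemma mapS_resS {V V' : C} (g : V' ⟶ V) {φ : V ⟶ X} {ψ : V' ⟶ X} (h : g ≫ φ = ψ)
    (x : summand M φ) : mapS f ψ (resS M g h x) = resS N g h (mapS f φ x) :=
  PresheafOfModules.naturality_apply f (Over.homMk (U := Over.mk ψ) (V := Over.mk φ) g h).op x

/-- the action of a morphism on sections of `j_!` -/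
noncomputable def mapCarrier (V : C) : carrier M V →+ carrier N V :=
  DirectSum.map (fun φ => mapS f φ)

lemma mapCarrier_of {V : C} (φ : V ⟶ X) (x : summand M φ) :
    mapCarrier f V (DirectSum.of _ φ x) = DirectSum.of (fun ψ : V ⟶ X => summand N ψ) φ (mapS f φ x) :=
  DirectSum.map_of _ φ x

lemma mapCarrier_resMap {V V' : C} (g : V' ⟶ V) (m : carrier M V) :
    mapCarrier f V' (resMap M g m) = resMap N g (mapCarrier f V m) := by
  induction m using DirectSum.induction_on with
  | zero => simp
  | of φ x => rw [resMap_of, mapCarrier_of, mapCarrier_of, resMap_of, mapS_resS]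
  | add a b ha hb => rw [map_add, map_add, ha, hb, map_add, map_add]

lemma mapCarrier_smul {V : C} (r : R.obj (op V)) (m : carrier M V) :
    mapCarrier f V (r • m) = r • mapCarrier f V m := by
  induction m using DirectSum.induction_on with
  | zero => simp
  | of φ x => rw [← DirectSum.of_smul, mapCarrier_of, mapCarrier_of, mapS_smul, DirectSum.of_smul]
  | add a b ha hb => rw [smul_add, map_add, ha, hb, map_add, smul_add]

/-- extension by zero on morphisms -/
noncomputable def shriekMap : shriekObj M ⟶ shriekObj N :=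
  PresheafOfModules.homMk
    { app := fun V => AddCommGrpCat.ofHom (mapCarrier f V.unop)
      naturality := fun V V' g => by
        apply AddCommGrpCat.hom_ext
        apply AddMonoidHom.ext
        intro m
        exact (mapCarrier_resMap f g.unop m) }
    (fun V r m => mapCarrier_smul f r m)

lemma shriekMap_app_apply (V : C) (m : carrier M V) :
    (shriekMap f).app (op V) m = mapCarrier f V m := rfl

lemma mapCarrier_id (M : PresheafOfModules.{u} (RX R X)) (V : C) :
    mapCarrier (𝟙 M) V = AddMonoidHom.id _ := by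
  apply DirectSum.addHom_ext
  intro φ x
  rw [mapCarrier_of]
  rfl

lemma mapCarrier_comp (f : M ⟶ N) (g : N ⟶ P) (V : C) :
    mapCarrier (f ≫ g) V = (mapCarrier g V).comp (mapCarrier f V) := by
  apply DirectSum.addHom_ext
  intro φ x
  rw [AddMonoidHom.comp_apply, mapCarrier_of, mapCarrier_of, mapCarrier_of]
  rfl

variable (R X) in
/-- extension by zero `j_!` on presheaves of modules -/
noncomputable def shriek : PresheafOfModules.{u} (RX R X) ⥤ PresheafOfModules.{u} R where
  obj M := shriekObj M
  map f := shriekMap f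
  map_id M := by
    apply PresheafOfModules.hom_ext
    intro V
    apply ModuleCat.hom_ext
    apply LinearMap.ext
    intro m
    change mapCarrier (𝟙 M) V.unop m = m
    rw [mapCarrier_id]; rfl
  map_comp f g := by
    apply PresheafOfModules.hom_ext
    intro V
    apply ModuleCat.hom_ext
    apply LinearMap.ext
    intro m
    change mapCarrier (f ≫ g) V.unop m = mapCarrier g V.unop (mapCarrier f V.unop m)
    rw [mapCarrier_comp]; rfl

variable (R X) in
/-- restriction of presheaves of modules to `C/X` -/
noncomputable abbrev restr : PresheafOfModules.{u} R ⥤ PresheafOfModules.{u} (RX R X) :=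
  PresheafOfModules.pushforward.{u} (F := Over.forget X) (R := R) (S := RX R X) (𝟙 _)

section Adjunction

variable (M : PresheafOfModules.{u} (RX R X))

/-- the unit `M ⟶ (j_! M)|_X`, `x ∈ M(Y) ↦ x` in the summand `Y.hom` -/
noncomputable def unitApp : M ⟶ (restr R X).obj (shriekObj M) :=
  PresheafOfModules.homMk (M₂ := (restr R X).obj (shriekObj M))
    { app := fun Y => AddCommGrpCat.ofHom
        (DirectSum.of (fun ψ : Y.unop.left ⟶ X => summand M ψ) Y.unop.hom)
      naturality := fun Y Y' h => by
        apply AddCommGrpCat.hom_ext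
        apply AddMonoidHom.ext
        intro x
        change DirectSum.of (fun ψ : Y'.unop.left ⟶ X => summand M ψ) Y'.unop.hom
            (M.presheaf.map h x) =
          resMap M h.unop.left (DirectSum.of (fun ψ : Y.unop.left ⟶ X => summand M ψ) Y.unop.hom x)
        rw [resMap_of' M h.unop.left (Over.w h.unop)]
        rfl }
    (fun Y r x => by
      change DirectSum.of (fun ψ : Y.unop.left ⟶ X => summand M ψ) Y.unop.hom (r • x) = _
      exact DirectSum.of_smul (R.obj (op Y.unop.left)) (M := fun ψ : Y.unop.left ⟶ X => summand M ψ) Y.unop.hom r x)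

lemma unitApp_app_apply (Y : (Over X)ᵒᵖ) (x : M.obj Y) :
    (unitApp M).app Y x =
      DirectSum.of (fun ψ : Y.unop.left ⟶ X => summand M ψ) Y.unop.hom x := rfl



variable (N' : PresheafOfModules.{u} R)

/-- identification of a summand of `j_!(N|_X)(V)` with `N(V)` -/
noncomputable def toN {V : C} (φ : V ⟶ X) :
    summand ((restr R X).obj N') φ →+ N'.presheaf.obj (op V) :=
  AddMonoidHom.id (N'.presheaf.obj (op V))

lemma toN_apply {V : C} (φ : V ⟶ X) (x : summand ((restr R X).obj N') φ) : toN N' φ x = x := rfl

lemma toN_smul {V : C} (φ : V ⟶ X) (r : R.obj (op V)) (x : summand ((restr R X).obj N') φ) :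
    toN N' φ (r • x) = r • toN N' φ x := rfl

lemma toN_resS {V V' : C} (g : V' ⟶ V) {φ : V ⟶ X} {ψ : V' ⟶ X} (h : g ≫ φ = ψ)
    (x : summand ((restr R X).obj N') φ) :
    toN N' ψ (resS ((restr R X).obj N') g h x) = N'.presheaf.map g.op (toN N' φ x) := rfl

/-- the sum map `⨁_φ N(V) → N(V)` -/
noncomputable def sumMap (V : C) : carrier ((restr R X).obj N') V →+ N'.presheaf.obj (op V) :=
  DirectSum.toAddMonoid fun φ => toN N' φ

lemma sumMap_of {V : C} (φ : V ⟶ X) (x : summand ((restr R X).obj N') φ) :
    sumMap N' V (DirectSum.of (fun ψ : V ⟶ X => summand ((restr R X).obj N') ψ) φ x) = toN N' φ x :=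
  DirectSum.toAddMonoid_of _ φ x

lemma sumMap_resMap {V V' : C} (g : V' ⟶ V) (m : carrier ((restr R X).obj N') V) :
    sumMap N' V' (resMap ((restr R X).obj N') g m) = N'.presheaf.map g.op (sumMap N' V m) := by
  induction m using DirectSum.induction_on with
  | zero => rw [map_zero, map_zero, map_zero]; exact (map_zero (N'.presheaf.map g.op).hom).symm
  | of φ x => rw [resMap_of, sumMap_of, sumMap_of, toN_resS]
  | add a b ha hb => rw [map_add, map_add, ha, hb, map_add, map_add]

lemma sumMap_smul {V : C} (r : R.obj (op V)) (m : carrier ((restr R X).obj N') V) :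
    sumMap N' V (r • m) = r • sumMap N' V m := by
  induction m using DirectSum.induction_on with
  | zero => rw [smul_zero, map_zero, smul_zero]
  | of φ x => rw [← DirectSum.of_smul, sumMap_of, sumMap_of, toN_smul]
  | add a b ha hb => rw [smul_add, map_add, ha, hb, map_add, smul_add]

/-- the counit `j_! (N|_X) ⟶ N` -/
noncomputable def counitApp : shriekObj ((restr R X).obj N') ⟶ N' :=
  PresheafOfModules.homMk (M₁ := shriekObj ((restr R X).obj N'))
    { app := fun V => AddCommGrpCat.ofHom (sumMap N' V.unop)
      naturality := fun V V' g => by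
        apply AddCommGrpCat.hom_ext
        apply AddMonoidHom.ext
        intro m
        exact (sumMap_resMap N' g.unop m) }
    (fun V r m => sumMap_smul N' r m)

lemma counitApp_app_apply (V : C) (m : carrier ((restr R X).obj N') V) :
    (counitApp N').app (op V) m = sumMap N' V m := rfl

/-- elementwise extensionality for morphisms of presheaves of modules -/
lemma hom_ext_apply {S : Cᵒᵖ ⥤ RingCat.{u}} {A B : PresheafOfModules.{u} S} {f g : A ⟶ B}
    (h : ∀ (V : Cᵒᵖ) (x : A.obj V), f.app V x = g.app V x) : f = g := by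
  apply PresheafOfModules.hom_ext
  intro V
  apply ModuleCat.hom_ext
  apply LinearMap.ext
  exact h V

lemma hom_ext_apply' {S : (Over X)ᵒᵖ ⥤ RingCat.{u}} {A B : PresheafOfModules.{u} S} {f g : A ⟶ B}
    (h : ∀ (V : (Over X)ᵒᵖ) (x : A.obj V), f.app V x = g.app V x) : f = g := by
  apply PresheafOfModules.hom_ext
  intro V
  apply ModuleCat.hom_ext
  apply LinearMap.ext
  exact h V

variable (R X) in
/-- the unit of `j_! ⊣ j^*` on presheaves of modules -/
noncomputable def unitNat : 𝟭 (PresheafOfModules.{u} (RX R X)) ⟶ shriek R X ⋙ restr R X where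
  app M := unitApp M
  naturality M M' f := by
    apply hom_ext_apply'
    intro Y x
    change DirectSum.of (fun ψ : Y.unop.left ⟶ X => summand M' ψ) Y.unop.hom (f.app Y x) =
      mapCarrier f Y.unop.left (DirectSum.of (fun ψ : Y.unop.left ⟶ X => summand M ψ) Y.unop.hom x)
    exact (mapCarrier_of f Y.unop.hom x).symm

lemma sumMap_mapCarrier {N₁ N₂ : PresheafOfModules.{u} R} (f : N₁ ⟶ N₂) (V : C)
    (m : carrier ((restr R X).obj N₁) V) :
    sumMap N₂ V (mapCarrier ((restr R X).map f) V m) = f.app (op V) (sumMap N₁ V m) := by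
  induction m using DirectSum.induction_on with
  | zero => rw [map_zero, map_zero, map_zero]; exact (map_zero (f.app (op V)).hom).symm
  | of φ x => rw [mapCarrier_of, sumMap_of, sumMap_of]; rfl
  | add a b ha hb =>
    rw [map_add, map_add, ha, hb, map_add]
    exact (map_add (f.app (op V)).hom _ _).symm

variable (R X) in
/-- the counit of `j_! ⊣ j^*` on presheaves of modules -/
noncomputable def counitNat : restr R X ⋙ shriek R X ⟶ 𝟭 (PresheafOfModules.{u} R) where
  app N := counitApp N
  naturality N₁ N₂ f := by
    apply hom_ext_apply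
    intro V m
    exact sumMap_mapCarrier f V.unop m

variable (R X) in
/-- `j_! ⊣ j^*` on presheaves of modules -/
noncomputable def adj : shriek R X ⊣ restr R X where
  unit := unitNat R X
  counit := counitNat R X
  left_triangle_components M := by
    apply hom_ext_apply
    intro V m
    change sumMap (shriekObj M) V.unop (mapCarrier (unitApp M) V.unop m) = m
    induction m using DirectSum.induction_on with
    | zero => rw [map_zero, map_zero]; rfl
    | of φ x => rw [mapCarrier_of, sumMap_of]; rfl
    | add a b ha hb => rw [map_add, map_add, ha, hb]; rfl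
  right_triangle_components N := by
    apply hom_ext_apply'
    intro Y x
    change sumMap N Y.unop.left
      (DirectSum.of (fun ψ : Y.unop.left ⟶ X => summand ((restr R X).obj N) ψ) Y.unop.hom x) = x
    exact sumMap_of N Y.unop.hom x


end Adjunction

section Mono

variable {N : PresheafOfModules.{u} (RX R X)}

instance mono_shriekMap (f : M ⟶ N) [Mono f] : Mono ((shriek R X).map f) := by
  apply PresheafOfModules.mono_of_injective
  intro V
  have h : Function.Injective (mapCarrier f V.unop) :=
    (DirectSum.map_injective (fun φ => mapS f φ)).mpr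
      (fun φ => PresheafOfModules.injective_of_mono f (op (Over.mk φ)))
  exact h

instance : (shriek R X).PreservesMonomorphisms where
  preserves f _ := mono_shriekMap f

/-- Mathlib's abstract pullback along the localisation is the explicit extension by zero -/
noncomputable def pullbackIso :
    PresheafOfModules.pullback.{u} (F := Over.forget X) (R := R) (S := RX R X) (𝟙 _) ≅ shriek R X :=
  (PresheafOfModules.pullbackPushforwardAdjunction.{u} (F := Over.forget X) (R := R) (S := RX R X)
    (𝟙 _)).leftAdjointUniq (adj R X)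

end Mono

end Groth.Agent.Lib.ModShriekPre
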