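/-
helper11: keystone ModSiteTensor, part J (sheaf level).  Extension by zero for sheaves of modules on a small site:
any left adjoint of `SheafOfModules.overFunctor R X` (e.g. `ModSite.extZero O X`) is exact.
-/
import Groth.Agent.Lib.ModShriekPre
import Groth.Prelude.Def_ModSite
import Mathlib.Algebra.Category.ModuleCat.Sheaf.PullbackContinuous
import Mathlib.Algebra.Category.ModuleCat.Sheaf.Abelian
import Mathlib.Algebra.Homology.ShortComplex.ExactFunctor
import Mathlib.CategoryTheory.Adjunction.Additive

universe u
open CategoryTheory Opposite Limits

namespace Groth.Agent.Lib.ModShriek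

open Groth.Agent.Lib.ModShriekPre

section General

variable {A B : Type*} [Category A] [Category B] [Abelian A] [Abelian B]

/-- a right exact additive functor between abelian categories which preserves monomorphisms is exact -/
lemma preservesFiniteLimits_of_preservesMonomorphisms (F : A ⥤ B) [F.Additive]
    [PreservesFiniteColimits F] [F.PreservesMonomorphisms] : PreservesFiniteLimits F := by
  have h : ∀ (S : ShortComplex A), S.ShortExact → (S.map F).Exact ∧ Mono (F.map S.f) := by
    intro S hS
    refine ⟨?_, ?_⟩
    · have h0 : ∀ (S : ShortComplex A), S.ShortExact → (S.map F).Exact ∧ Epi (F.map S.g) :=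
        ((Functor.preservesFiniteColimits_tfae F).out 3 0 rfl rfl).mp
          (inferInstance : PreservesFiniteColimits F)
      exact (h0 S hS).1
    · have := hS.mono_f
      infer_instance
  exact ((Functor.preservesFiniteLimits_tfae F).out 0 3 rfl rfl).mp h

end General

variable {C : Type u} [SmallCategory C] (J : GrothendieckTopology C) (R : Sheaf J RingCat.{u}) (X : C)

/-- the explicit extension by zero on sheaves of modules -/
noncomputable def shriekSh : SheafOfModules.{u} (R.over X) ⥤ SheafOfModules.{u} R :=
  SheafOfModules.forget (R.over X) ⋙ shriek R.obj X ⋙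
    PresheafOfModules.sheafification.{u} (𝟙 R.obj)

/-- Mathlib's pullback along the localisation is the explicit extension by zero -/
noncomputable def pullbackIsoShriekSh :
    SheafOfModules.pullback.{u} (𝟙 (R.over X)) ≅ shriekSh J R X :=
  SheafOfModules.pullbackIso.{u} (𝟙 (R.over X)) ≪≫
    Functor.isoWhiskerLeft (SheafOfModules.forget (R.over X))
      (Functor.isoWhiskerRight (pullbackIso (R := R.obj) (X := X))
        (PresheafOfModules.sheafification.{u} (𝟙 R.obj)))

instance : (shriekSh J R X).PreservesMonomorphisms := by
  have h1 : (SheafOfModules.forget (R.over X)).PreservesMonomorphisms := by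
    have : PreservesFiniteLimits (SheafOfModules.forget.{u} (R.over X)) := inferInstance
    have : PreservesLimitsOfShape WalkingCospan (SheafOfModules.forget.{u} (R.over X)) := inferInstance
    exact preservesMonomorphisms_of_preservesLimitsOfShape _
  have h2 : (shriek R.obj X).PreservesMonomorphisms := inferInstance
  have h3 : (PresheafOfModules.sheafification.{u} (𝟙 R.obj)).PreservesMonomorphisms := by
    have : PreservesFiniteLimits (PresheafOfModules.sheafification.{u} (𝟙 R.obj)) := inferInstance
    have : PreservesLimitsOfShape WalkingCospan (PresheafOfModules.sheafification.{u} (𝟙 R.obj)) :=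
      inferInstance
    exact preservesMonomorphisms_of_preservesLimitsOfShape _
  have h4 : (shriek R.obj X ⋙ PresheafOfModules.sheafification.{u} (𝟙 R.obj)).PreservesMonomorphisms :=
    Functor.preservesMonomorphisms_comp _ _
  exact @Functor.preservesMonomorphisms_comp _ _ _ _ _ _ (SheafOfModules.forget (R.over X))
    (shriek R.obj X ⋙ PresheafOfModules.sheafification.{u} (𝟙 R.obj)) h1 h4

instance : (SheafOfModules.overFunctor.{u} R X).Additive where

/-- any left adjoint of restriction to `C/X` preserves monomorphisms -/
theorem preservesMonomorphisms_of_adjunction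
    (L : SheafOfModules.{u} (R.over X) ⥤ SheafOfModules.{u} R)
    (adj : L ⊣ SheafOfModules.overFunctor.{u} R X) : L.PreservesMonomorphisms := by
  have e : L ≅ shriekSh J R X :=
    adj.leftAdjointUniq (SheafOfModules.pullbackPushforwardAdjunction.{u} (𝟙 (R.over X))) ≪≫
      pullbackIsoShriekSh J R X
  exact Functor.PreservesMonomorphisms.of_iso e.symm

/-- any left adjoint of restriction to `C/X` is exact -/
theorem preservesFiniteLimits_of_adjunction
    (L : SheafOfModules.{u} (R.over X) ⥤ SheafOfModules.{u} R)
    (adj : L ⊣ SheafOfModules.overFunctor.{u} R X) : PreservesFiniteLimits L := by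
  have := preservesMonomorphisms_of_adjunction J R X L adj
  have : L.Additive := adj.left_adjoint_additive
  have : PreservesFiniteColimits L := ⟨fun K _ _ => adj.leftAdjoint_preservesColimits.1⟩
  exact preservesFiniteLimits_of_preservesMonomorphisms L

end Groth.Agent.Lib.ModShriek
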