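/-
helper11: keystone ModSiteTensor, part J3.  Extension by zero of sheaves of modules is faithful (so it reflects exactness).
-/
import Groth.Agent.Lib.ModShriek
import Mathlib.CategoryTheory.Sites.Whiskering
import Mathlib.CategoryTheory.Sites.LocallyBijective

universe u
open CategoryTheory Opposite Limits DirectSum

attribute [local instance] Classical.propDecidable

namespace Groth.Agent.Lib.ModShriek

open Groth.Agent.Lib.ModShriekPre

variable {C : Type u} [SmallCategory C] (J : GrothendieckTopology C) (R : Sheaf J RingCat.{u}) (X : C)

/-- if the sheafification of `j_!^{pre} f` vanishes then `f` vanishes -/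
theorem eq_zero_of_shriekSh_map_eq_zero {M N : SheafOfModules.{u} (R.over X)} (f : M ⟶ N)
    (hf : (shriekSh J R X).map f = 0) : f = 0 := by
  apply (SheafOfModules.fullyFaithfulForget _).map_injective
  apply hom_ext_apply'
  intro Y x
  change f.val.app Y x = 0
  -- the presheaf-level map and the sheafification unit
  let P := (shriek R.obj X).obj M.val
  let P' := (shriek R.obj X).obj N.val
  let h : P ⟶ P' := (shriek R.obj X).map f.val
  let η := (PresheafOfModules.sheafificationAdjunction.{u} (𝟙 R.obj)).unit
  have hnat : h ≫ η.app P' = 0 := by
    have := η.naturality h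
    simp only [Functor.id_map] at this
    rw [this]
    have h0 : (PresheafOfModules.sheafification.{u} (𝟙 R.obj)).map h = 0 := hf
    simp only [Functor.comp_map, h0, Functor.map_zero, Limits.comp_zero]
  -- the section `of Y.hom (f x)` of `P'` is killed by the unit
  let V := Y.unop.left
  let φ : V ⟶ X := Y.unop.hom
  let y : summand N.val φ := f.val.app Y x
  let m' : carrier N.val V := DirectSum.of (fun ψ : V ⟶ X => summand N.val ψ) φ y
  have hm' : (η.app P').app (op V) m' = 0 := by
    have e1 : h.app (op V) (DirectSum.of (fun ψ : V ⟶ X => summand M.val ψ) φ x) = m' :=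
      mapCarrier_of f.val φ x
    have e2 := congrArg (fun k => k.app (op V) (DirectSum.of (fun ψ : V ⟶ X => summand M.val ψ) φ x)) hnat
    simp only [PresheafOfModules.comp_app] at e2
    rw [← e1]
    exact e2
  have hli : Presheaf.IsLocallyInjective J
      ((PresheafOfModules.toPresheaf _).map (η.app P')) := by
    have : Presheaf.IsLocallyInjective J (CategoryTheory.toSheafify J P'.presheaf) := inferInstance
    exact this
  have hS := hli.equalizerSieve_mem (X := op V) (m' : P'.presheaf.obj (op V)) 0 (by
    change (η.app P').app (op V) m' = (η.app P').app (op V) 0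
    rw [hm', map_zero])
  -- use separatedness of `N`
  have hsep : Presheaf.IsSeparated (J.over X) N.val.presheaf :=
    Presheaf.IsSheaf.isSeparated N.isSheaf
  refine hsep Y.unop ((Sieve.overEquiv Y.unop).symm _) (J.overEquiv_symm_mem_over Y.unop _ hS) _ _ ?_
  intro Z g hg
  rw [Sieve.overEquiv_symm_iff] at hg
  have hg' : resMap N.val g.left m' = resMap N.val g.left 0 := hg
  rw [map_zero, resMap_of' N.val g.left (Over.w g)] at hg'
  have hz : resS N.val g.left (Over.w g) y = 0 := by
    apply DirectSum.of_injective (β := fun ψ : Z.left ⟶ X => summand N.val ψ) Z.hom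
    rw [map_zero]
    exact hg'
  refine Eq.trans ?_ (map_zero _).symm
  exact hz

instance : (shriekSh J R X).Additive := by
  have e : SheafOfModules.pullback.{u} (𝟙 (R.over X)) ≅ shriekSh J R X := pullbackIsoShriekSh J R X
  have : (SheafOfModules.pushforward.{u} (𝟙 (R.over X))).Additive :=
    inferInstanceAs (SheafOfModules.overFunctor.{u} R X).Additive
  have : (SheafOfModules.pullback.{u} (𝟙 (R.over X))).Additive :=
    (SheafOfModules.pullbackPushforwardAdjunction.{u} (𝟙 (R.over X))).left_adjoint_additive
  exact Functor.additive_of_iso e

instance : (shriekSh J R X).Faithful where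
  map_injective {M N} f g hfg := by
    have : (shriekSh J R X).map (f - g) = 0 := by
      rw [Functor.map_sub, hfg, sub_self]
    exact sub_eq_zero.1 (eq_zero_of_shriekSh_map_eq_zero J R X _ this)

/-- any left adjoint of restriction to `C/X` is faithful -/
theorem faithful_of_adjunction
    (L : SheafOfModules.{u} (R.over X) ⥤ SheafOfModules.{u} R)
    (adj : L ⊣ SheafOfModules.overFunctor.{u} R X) : L.Faithful := by
  have e : L ≅ shriekSh J R X :=
    adj.leftAdjointUniq (SheafOfModules.pullbackPushforwardAdjunction.{u} (𝟙 (R.over X))) ≪≫
      pullbackIsoShriekSh J R X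
  exact Functor.Faithful.of_iso e.symm

/-- an exact faithful additive functor between abelian categories reflects exactness -/
theorem exact_of_exact_map {A B : Type*} [Category A] [Category B] [Abelian A] [Abelian B]
    (F : A ⥤ B) [F.Additive] [PreservesFiniteLimits F] [PreservesFiniteColimits F] [F.Faithful]
    (S : ShortComplex A) (h : (S.map F).Exact) : S.Exact := by
  have : F.PreservesHomology := inferInstance
  exact (ShortComplex.exact_map_iff_of_faithful S F).1 h

end Groth.Agent.Lib.ModShriek
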