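import Groth.Agent.Lib.LanExact
import Mathlib.CategoryTheory.Sites.Over
import Mathlib.CategoryTheory.Sites.Pullback
import Mathlib.CategoryTheory.Sites.Abelian
import Mathlib.CategoryTheory.Sites.Limits
import Mathlib.CategoryTheory.Limits.Final
import Mathlib.Algebra.Category.Grp.AB
import Mathlib.Algebra.Category.Grp.Abelian
import Mathlib.Algebra.Homology.ShortComplex.ExactFunctor

/-!
# Extension by zero `j_!` along `Over U ⥤ C` for abelian sheaves (helper11)

For a small site `(C, J)` and `U : C`, the restriction functor
`j^* = J.overPullback AddCommGrpCat U : Sheaf J Ab ⥤ Sheaf (J.over U) Ab` has a left adjoint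
`shriek J U` (sheafified left Kan extension) which is *exact*.  The key input is that the category
of costructured arrows `CostructuredArrow (Over.forget U).op (op V)` admits a final functor from
the discrete category `V ⟶ U`, so the left Kan extension is computed by coproducts, which are
exact in `AddCommGrpCat`.
-/

set_option autoImplicit false
open CategoryTheory CategoryTheory.Limits Opposite
universe w v u

namespace Groth.Agent.Lib.OverShriek

section Final

variable {C : Type u} [Category.{v} C] (U : C)

/-- The functor from the discrete category of maps `V ⟶ U` to costructured arrows. -/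
def ιV (V : C) : Discrete (V ⟶ U) ⥤ CostructuredArrow (Over.forget U).op (op V) :=
  Discrete.functor (fun φ => CostructuredArrow.mk (Y := op (Over.mk φ)) (𝟙 (op V)))

/-- the structure map attached to a costructured arrow -/
def liftOf (V : C) (d : CostructuredArrow (Over.forget U).op (op V)) : V ⟶ U :=
  d.hom.unop ≫ d.left.unop.hom

/-- the map over `U` underlying `toLift` -/
def toLiftAux (V : C) (d : CostructuredArrow (Over.forget U).op (op V)) :
    Over.mk (liftOf U V d) ⟶ d.left.unop :=
  Over.homMk (U := Over.mk (liftOf U V d)) (V := d.left.unop) d.hom.unop rfl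

@[simp] theorem toLiftAux_left (V : C) (d : CostructuredArrow (Over.forget U).op (op V)) :
    (toLiftAux U V d).left = d.hom.unop := rfl

/-- the canonical map from a costructured arrow to the image of its lift -/
def toLift (V : C) (d : CostructuredArrow (Over.forget U).op (op V)) :
    d ⟶ (ιV U V).obj ⟨liftOf U V d⟩ :=
  CostructuredArrow.homMk (toLiftAux U V d).op
    (by
      apply Quiver.Hom.unop_inj
      change 𝟙 V ≫ d.hom.unop = d.hom.unop
      simp)

theorem left_eq_of_hom (V : C) (d : CostructuredArrow (Over.forget U).op (op V))
    (φ : V ⟶ U) (m : d ⟶ (ιV U V).obj ⟨φ⟩) :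
    m.left.unop.left = d.hom.unop := by
  have h := CostructuredArrow.w m
  have h' := congrArg (fun k => k.unop) h
  change 𝟙 V ≫ m.left.unop.left = d.hom.unop at h'
  exact (Category.id_comp _).symm.trans h'

theorem lift_eq_of_hom (V : C) (d : CostructuredArrow (Over.forget U).op (op V))
    (φ : V ⟶ U) (m : d ⟶ (ιV U V).obj ⟨φ⟩) : φ = liftOf U V d := by
  have h1 := left_eq_of_hom U V d φ m
  have h2 : m.left.unop.left ≫ d.left.unop.hom = φ := Over.w m.left.unop
  rw [h1] at h2
  exact h2.symm

theorem hom_eq_toLift (V : C) (d : CostructuredArrow (Over.forget U).op (op V))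
    (m : d ⟶ (ιV U V).obj ⟨liftOf U V d⟩) : m = toLift U V d := by
  apply CostructuredArrow.hom_ext
  apply Quiver.Hom.unop_inj
  apply Over.OverMorphism.ext
  exact left_eq_of_hom U V d _ m

instance final_ιV (V : C) : (ιV U V).Final := by
  constructor
  intro d
  have : Nonempty (StructuredArrow d (ιV U V)) := ⟨StructuredArrow.mk (toLift U V d)⟩
  apply zigzag_isConnected
  suffices ∀ a : StructuredArrow d (ιV U V), Zigzag (StructuredArrow.mk (toLift U V d)) a from
    fun a b => (this a).symm.trans (this b)
  rintro ⟨⟨⟩, ⟨φ⟩, m⟩
  obtain rfl : φ = liftOf U V d := lift_eq_of_hom U V d φ m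
  obtain rfl : m = toLift U V d := hom_eq_toLift U V d m
  exact Zigzag.refl _

end Final

section Lan

variable {C : Type u} [SmallCategory C] (U : C)

instance hasExact (V : Cᵒᵖ) :
    HasExactColimitsOfShape (CostructuredArrow (Over.forget U).op V) AddCommGrpCat.{u} :=
  hasExactColimitsOfShape_of_final _ (ιV U V.unop)

instance lanPres : PreservesFiniteLimits ((Over.forget U).op.lan :
    ((Over U)ᵒᵖ ⥤ AddCommGrpCat.{u}) ⥤ (Cᵒᵖ ⥤ AddCommGrpCat.{u})) :=
  Groth.Agent.Lib.LanExact.preservesFiniteLimits_lan _

end Lan

section Sheaf

variable {C : Type u} [SmallCategory C] (J : GrothendieckTopology C) (U : C)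

/-- Extension by zero `j_!` from abelian sheaves on `C/U` to abelian sheaves on `C`. -/
noncomputable def shriek : Sheaf (J.over U) AddCommGrpCat.{u} ⥤ Sheaf J AddCommGrpCat.{u} :=
  Functor.sheafPullbackConstruction.sheafPullback (Over.forget U) AddCommGrpCat.{u} (J.over U) J

/-- `j_! ⊣ j^*`. -/
noncomputable def shriekAdj : shriek J U ⊣ J.overPullback AddCommGrpCat.{u} U :=
  Functor.sheafPullbackConstruction.sheafAdjunctionContinuous _ _ _ _

instance preservesFiniteLimits_shriek : PreservesFiniteLimits (shriek J U) := by
  have h1 : PreservesFiniteLimits ((Over.forget U).op.lan ⋙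
      presheafToSheaf J AddCommGrpCat.{u}) :=
    comp_preservesFiniteLimits _ _
  unfold shriek Functor.sheafPullbackConstruction.sheafPullback
  apply comp_preservesFiniteLimits

instance preservesColimits_shriek : PreservesColimitsOfSize.{u, u} (shriek J U) :=
  (shriekAdj J U).leftAdjoint_preservesColimits

instance preservesFiniteColimits_shriek : PreservesFiniteColimits (shriek J U) :=
  PreservesColimitsOfSize.preservesFiniteColimits _

instance additive_shriek : (shriek J U).Additive :=
  Functor.additive_of_preserves_binary_products _

instance preservesLimits_overPullback :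
    PreservesLimitsOfSize.{u, u} (J.overPullback AddCommGrpCat.{u} U) :=
  (shriekAdj J U).rightAdjoint_preservesLimits

instance preservesFiniteLimits_overPullback :
    PreservesFiniteLimits (J.overPullback AddCommGrpCat.{u} U) :=
  PreservesLimitsOfSize.preservesFiniteLimits _

instance preservesColimits_overPullback :
    PreservesColimitsOfSize.{u, u} (J.overPullback AddCommGrpCat.{u} U) :=
  ((Over.forget U).sheafAdjunctionCocontinuous AddCommGrpCat.{u} (J.over U) J).leftAdjoint_preservesColimits

instance preservesFiniteColimits_overPullback :
    PreservesFiniteColimits (J.overPullback AddCommGrpCat.{u} U) :=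
  PreservesColimitsOfSize.preservesFiniteColimits _

instance additive_overPullback : (J.overPullback AddCommGrpCat.{u} U).Additive :=
  Functor.additive_of_preserves_binary_products _

end Sheaf

end Groth.Agent.Lib.OverShriek
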