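/-
helper11: keystone ModSiteTensor, part J2.  Restriction of sheaves of modules to `C/X` is exact, preserves injectives,
and `Ext^i(j_! A, N) ≃+ Ext^i(A, N|_X)`.
-/
import Groth.Agent.Lib.ModShriek
import Groth.Agent.Lib.ModToSheafColim
import Groth.Agent.Lib.OverShriek
import Groth.Agent.Lib.ExtAdjunction
import Groth.Agent.Lib.RightDerivedExact
import Groth.Agent.Lib.ExtChgUniv
import Groth.Agent.S0485

universe w w' u
open CategoryTheory Opposite Limits

namespace Groth.Agent.Lib.ModShriek

variable {C : Type u} [SmallCategory C] (J : GrothendieckTopology C) (R : Sheaf J RingCat.{u}) (X : C)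

/-- restriction of modules commutes with restriction of the underlying abelian sheaves -/
noncomputable def overFunctorCompToSheaf :
    SheafOfModules.overFunctor.{u} R X ⋙ SheafOfModules.toSheaf.{u} (R.over X) ≅
      SheafOfModules.toSheaf.{u} R ⋙ J.overPullback AddCommGrpCat.{u} X :=
  NatIso.ofComponents (fun _ => Iso.refl _) (by
    intro M N f
    simp only [Iso.refl_hom]
    exact (Category.comp_id _).trans (Category.id_comp _).symm)

instance : PreservesFiniteColimits (SheafOfModules.overFunctor.{u} R X) := by
  constructor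
  intro K _ _
  have h1 : PreservesColimitsOfShape K
      (SheafOfModules.toSheaf.{u} R ⋙ J.overPullback AddCommGrpCat.{u} X) := by
    have : PreservesColimitsOfShape K (J.overPullback AddCommGrpCat.{u} X) :=
      (Groth.Agent.Lib.OverShriek.preservesFiniteColimits_overPullback J X).preservesFiniteColimits K
    infer_instance
  have h2 : PreservesColimitsOfShape K
      (SheafOfModules.overFunctor.{u} R X ⋙ SheafOfModules.toSheaf.{u} (R.over X)) :=
    preservesColimitsOfShape_of_natIso (overFunctorCompToSheaf J R X).symm
  have h3 : ReflectsColimitsOfShape K (SheafOfModules.toSheaf.{u} (R.over X)) :=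
    reflectsColimitsOfShape_of_reflectsIsomorphisms
  exact preservesColimitsOfShape_of_reflects_of_preserves _ (SheafOfModules.toSheaf.{u} (R.over X))

instance : PreservesFiniteLimits (SheafOfModules.overFunctor.{u} R X) :=
  ⟨fun _ _ _ => (SheafOfModules.pullbackPushforwardAdjunction.{u}
    (𝟙 (R.over X))).rightAdjoint_preservesLimits.1⟩

/-- restriction to `C/X` preserves injective modules -/
theorem injective_over (I : SheafOfModules.{u} R) [Injective I] :
    Injective ((SheafOfModules.overFunctor.{u} R X).obj I) := by
  have := preservesMonomorphisms_of_adjunction J R X _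
    (SheafOfModules.pullbackPushforwardAdjunction.{u} (𝟙 (R.over X)))
  exact Injective.injective_of_adjoint
    (SheafOfModules.pullbackPushforwardAdjunction.{u} (𝟙 (R.over X))) I

/-- `Ext^i(L A, N) ≃+ Ext^i(A, N|_X)` for any left adjoint `L` of restriction (any Ext universes) -/
theorem nonempty_ext_addEquiv [HasExt.{w} (SheafOfModules.{u} R)]
    [HasExt.{w'} (SheafOfModules.{u} (R.over X))]
    (L : SheafOfModules.{u} (R.over X) ⥤ SheafOfModules.{u} R)
    (adj : L ⊣ SheafOfModules.overFunctor.{u} R X)
    (A : SheafOfModules.{u} (R.over X)) (N : SheafOfModules.{u} R) (i : ℕ) :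
    Nonempty (Abelian.Ext.{w} (L.obj A) N i ≃+
      Abelian.Ext.{w'} A ((SheafOfModules.overFunctor.{u} R X).obj N) i) := by
  have := Groth.Agent.S0485.result J R
  have : HasExt.{u + 1} (SheafOfModules.{u} R) := HasExt.standard _
  have : HasExt.{u + 1} (SheafOfModules.{u} (R.over X)) := HasExt.standard _
  have := preservesMonomorphisms_of_adjunction J R X L adj
  obtain ⟨e⟩ := Groth.Agent.Lib.ExtAdjunction.nonempty_extAddEquiv.{u + 1} adj N
    (fun q => Groth.Agent.Lib.RightDerivedExact.isZero_rightDerived_succ _ q N) A i
  exact ⟨(Groth.Agent.Lib.ExtChgUniv.chgUnivAddEquiv.{w, u + 1} _ _ _).trans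
    (e.trans (Groth.Agent.Lib.ExtChgUniv.chgUnivAddEquiv.{u + 1, w'} _ _ _))⟩

end Groth.Agent.Lib.ModShriek
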