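/-
helper11: keystone ModSiteTensor, part W.  Port of helper42's `Lib/OXModTensorW` from topological spaces to
ARBITRARY SITES: for presheaves of modules over a presheaf of commutative rings on a site `(C, J)`, a morphism
`f : P ⟶ P'` which is locally injective and locally surjective stays so after tensoring with any `Q`.
Hence sheafification of presheaves of modules inverts `f ▷ Q` whenever it inverts `f`.
(The algebra lemma `exists_vanishesTrivially_of_sum_tmul_eq_zero` is copied from helper42's file, to keep imports light.)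
-/
import Mathlib.Algebra.Category.ModuleCat.Presheaf.Monoidal
import Mathlib.Algebra.Category.ModuleCat.Sheaf.Localization
import Mathlib.CategoryTheory.Sites.LocallyBijective
import Mathlib.LinearAlgebra.TensorProduct.Vanishing
import Mathlib.RingTheory.TensorProduct.DirectLimitFG

universe v₁ u₁ u
open CategoryTheory MonoidalCategory Opposite TensorProduct

namespace Groth.Agent.Lib.ModSiteTensorW

section Algebra
variable {A : Type*} [CommRing A] {M N : Type*} [AddCommGroup M] [Module A M]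
  [AddCommGroup N] [Module A N]

/-- General equational criterion for vanishing (no spanning hypothesis): if `∑ m_i ⊗ n_i = 0`
then after adding finitely many auxiliary elements `g_l` of `M` (paired with `0`) the expression
vanishes trivially.  (helper42, Lib/OXModTensorW.) -/
theorem exists_vanishesTrivially_of_sum_tmul_eq_zero {ι : Type*} [Fintype ι] (m : ι → M) (n : ι → N)
    (h : ∑ i, m i ⊗ₜ[A] n i = 0) :
    ∃ (κ : Type) (_ : Fintype κ) (g : κ → M),
      VanishesTrivially A (Sum.elim m g) (Sum.elim n (fun _ => (0 : N))) := by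
  classical
  set P : Submodule A M := Submodule.span A (Set.range m) with hP
  have hPfg : P.FG := Submodule.fg_span (Set.finite_range m)
  let m₀ : ι → P := fun i => ⟨m i, Submodule.subset_span ⟨i, rfl⟩⟩
  let t : P ⊗[A] N := ∑ i, m₀ i ⊗ₜ[A] n i
  have ht : LinearMap.rTensor N P.subtype t = 0 := by
    simp only [t, map_sum, LinearMap.rTensor_tmul, Submodule.subtype_apply, m₀]
    exact h
  obtain ⟨Q, hPQ, hQfg, hQ⟩ := TensorProduct.eq_zero_of_fg_of_subtype_eq_zero hPfg ht
  obtain ⟨k, g, hg⟩ := Submodule.fg_iff_exists_fin_generating_family.mp hQfg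
  let g' : Fin k → Q := fun l => ⟨g l, by rw [← hg]; exact Submodule.subset_span ⟨l, rfl⟩⟩
  let mQ : ι ⊕ Fin k → Q := Sum.elim (fun i => Submodule.inclusion hPQ (m₀ i)) g'
  let nQ : ι ⊕ Fin k → N := Sum.elim n (fun _ => 0)
  have hspan : Submodule.span A (Set.range mQ) = ⊤ := by
    rw [eq_top_iff]
    rintro ⟨q, hq⟩ -
    have hq' := hq
    rw [← hg] at hq'
    induction hq' using Submodule.span_induction with
    | mem x hx =>
      obtain ⟨l, rfl⟩ := hx
      exact Submodule.subset_span ⟨Sum.inr l, rfl⟩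
    | zero => exact Submodule.zero_mem _
    | add x y hx hy ihx ihy =>
      have hxQ : x ∈ Q := by rw [← hg]; exact hx
      have hyQ : y ∈ Q := by rw [← hg]; exact hy
      have := Submodule.add_mem _ (ihx hxQ) (ihy hyQ)
      exact this
    | smul a x hx ihx =>
      have hxQ : x ∈ Q := by rw [← hg]; exact hx
      have := Submodule.smul_mem _ a (ihx hxQ)
      exact this
  have hsum : ∑ i, mQ i ⊗ₜ[A] nQ i = 0 := by
    rw [Fintype.sum_sum_type]
    simp only [mQ, nQ, Sum.elim_inl, Sum.elim_inr, tmul_zero, Finset.sum_const_zero, add_zero]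
    have : LinearMap.rTensor N (Submodule.inclusion hPQ) t = ∑ i, Submodule.inclusion hPQ (m₀ i) ⊗ₜ[A] n i := by
      simp only [t, map_sum, LinearMap.rTensor_tmul]
    rw [← this, hQ]
  obtain ⟨k', a, y, h₁, h₂⟩ := vanishesTrivially_of_sum_tmul_eq_zero A hspan hsum
  refine ⟨Fin k, inferInstance, g, k', a, y, ?_, ?_⟩
  · rintro (i | l)
    · simpa [nQ] using h₁ (Sum.inl i)
    · simpa [nQ] using h₁ (Sum.inr l)
  · intro j
    have := congrArg (Q.subtype) (h₂ j)
    simp only [map_sum, map_smul, map_zero] at this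
    rw [Fintype.sum_sum_type] at this ⊢
    simpa [mQ, m₀, g'] using this

end Algebra

variable {C : Type u₁} [Category.{v₁} C] (J : GrothendieckTopology C) {R : Cᵒᵖ ⥤ CommRingCat.{u}}

/-- finite intersections of covering sieves are covering -/
lemma iInf_mem_of_finite {κ : Type*} [Finite κ] {U : C} (S : κ → Sieve U) (h : ∀ l, S l ∈ J U) :
    ∃ T ∈ J U, ∀ l, T ≤ S l := by
  classical
  have := Fintype.ofFinite κ
  refine ⟨Finset.univ.inf S, ?_, fun l => Finset.inf_le (Finset.mem_univ l)⟩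
  have : ∀ s : Finset κ, s.inf S ∈ J U := by
    intro s
    induction s using Finset.induction_on with
    | empty => simpa using J.top_mem U
    | insert a s _ ih =>
      rw [Finset.inf_insert]
      exact J.intersection_covering (h a) ih
  exact this _

/-- presheaves of modules over a presheaf of commutative rings -/
abbrev PM (R : Cᵒᵖ ⥤ CommRingCat.{u}) := PresheafOfModules.{u} (R ⋙ forget₂ CommRingCat RingCat)

variable (P Q : PM R)

/-- restriction of sections -/
noncomputable def res {U V : C} (i : V ⟶ U) (s : P.obj (op U)) : P.obj (op V) :=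
  P.map i.op s

/-- restriction of functions -/
noncomputable def resR {U V : C} (i : V ⟶ U) (r : R.obj (op U)) : R.obj (op V) :=
  R.map i.op r

variable {P Q}

@[simp] lemma res_zero {U V : C} (i : V ⟶ U) : res P i 0 = 0 := map_zero _
lemma res_add {U V : C} (i : V ⟶ U) (s t : P.obj (op U)) : res P i (s + t) = res P i s + res P i t :=
  map_add _ _ _
lemma res_sub {U V : C} (i : V ⟶ U) (s t : P.obj (op U)) : res P i (s - t) = res P i s - res P i t :=
  map_sub _ _ _
lemma res_sum {ι : Type*} (S : Finset ι) {U V : C} (i : V ⟶ U) (s : ι → P.obj (op U)) :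
    res P i (∑ l ∈ S, s l) = ∑ l ∈ S, res P i (s l) := map_sum _ _ _
lemma res_smul {U V : C} (i : V ⟶ U) (r : R.obj (op U)) (s : P.obj (op U)) :
    res P i (r • s) = resR i r • res P i s := P.map_smul _ r s
lemma res_res {U V W : C} (i : V ⟶ U) (i' : W ⟶ V) (s : P.obj (op U)) :
    res P i' (res P i s) = res P (i' ≫ i) s := by
  have := P.map_comp i.op i'.op
  have h2 := congrArg (fun f => f s) this
  exact h2.symm
lemma res_tmul {U V : C} (i : V ⟶ U) (p : P.obj (op U)) (q : Q.obj (op U)) :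
    res (P ⊗ Q) i (p ⊗ₜ q) = res P i p ⊗ₜ res Q i q :=
  PresheafOfModules.Monoidal.tensorObj_map_tmul _ _ _
lemma app_res {P' : PM R} (f : P ⟶ P') {U V : C} (i : V ⟶ U) (s : P.obj (op U)) :
    f.app (op V) (res P i s) = res P' i (f.app (op U) s) :=
  PresheafOfModules.naturality_apply f _ s
lemma resR_resR {U V W : C} (i : V ⟶ U) (i' : W ⟶ V) (r : R.obj (op U)) :
    resR i' (resR i r) = resR (i' ≫ i) r := by
  have := R.map_comp i.op i'.op
  have h2 := congrArg (fun f => f r) this
  exact h2.symm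

/-- sectionwise local injectivity -/
def LocInj {P P' : PM R} (f : P ⟶ P') : Prop :=
  ∀ (U : C) (s : P.obj (op U)), f.app (op U) s = 0 →
    ∃ S ∈ J U, ∀ ⦃V : C⦄ (i : V ⟶ U), S i → res P i s = 0

/-- sectionwise local surjectivity -/
def LocSurj {P P' : PM R} (f : P ⟶ P') : Prop :=
  ∀ (U : C) (s' : P'.obj (op U)),
    ∃ S ∈ J U, ∀ ⦃V : C⦄ (i : V ⟶ U), S i → ∃ s : P.obj (op V), f.app (op V) s = res P' i s'

lemma whiskerRight_app_tmul {P P' : PM R} (f : P ⟶ P') (Q : PM R) (U : C)
    (p : P.obj (op U)) (q : Q.obj (op U)) :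
    (f ▷ Q).app (op U) (p ⊗ₜ q) = f.app (op U) p ⊗ₜ q := rfl

theorem locSurj_whiskerRight {P P' : PM R} (f : P ⟶ P') (Q : PM R) (hf : LocSurj J f) :
    LocSurj J (f ▷ Q) := by
  intro U t
  refine TensorProduct.induction_on
    (motive := fun (t : ↑((P' ⊗ Q).obj (op U))) => ∃ S ∈ J U, ∀ ⦃V : C⦄ (i : V ⟶ U), S i →
      ∃ s : (P ⊗ Q).obj (op V), (f ▷ Q).app (op V) s = res (P' ⊗ Q) i t) t ?_ ?_ ?_
  · refine ⟨⊤, J.top_mem U, fun V i _ => ⟨0, ?_⟩⟩
    rw [map_zero]
    exact (res_zero _).symm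
  · intro p' q
    obtain ⟨S, hS, h⟩ := hf U p'
    refine ⟨S, hS, fun V i hi => ?_⟩
    obtain ⟨p, hp⟩ := h i hi
    refine ⟨p ⊗ₜ res Q i q, ?_⟩
    rw [whiskerRight_app_tmul, hp]
    exact (res_tmul i p' q).symm
  · intro (t₁ : ↑((P' ⊗ Q).obj (op U))) (t₂ : ↑((P' ⊗ Q).obj (op U))) ih₁ ih₂
    obtain ⟨S₁, hS₁, h₁⟩ := ih₁
    obtain ⟨S₂, hS₂, h₂⟩ := ih₂
    refine ⟨S₁ ⊓ S₂, J.intersection_covering hS₁ hS₂, fun V i hi => ?_⟩
    obtain ⟨s₁, hs₁⟩ := h₁ i hi.1
    obtain ⟨s₂, hs₂⟩ := h₂ i hi.2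
    refine ⟨s₁ + s₂, ?_⟩
    rw [map_add, hs₁, hs₂]
    exact (res_add _ t₁ t₂).symm

lemma res_tsum {ι : Type*} [Fintype ι] {U V : C} (i : V ⟶ U) (p : ι → P.obj (op U))
    (q : ι → Q.obj (op U)) :
    res (P ⊗ Q) i (∑ l, p l ⊗ₜ q l) = ∑ l, res P i (p l) ⊗ₜ res Q i (q l) := by
  exact (res_sum (P := P ⊗ Q) Finset.univ i
    (fun l => (p l ⊗ₜ q l : ↑((P ⊗ Q).obj (op U))))).trans
      (Finset.sum_congr rfl fun l _ => res_tmul i (p l) (q l))

lemma whiskerRight_app_tsum {P P' : PM R} (f : P ⟶ P') (Q : PM R) {ι : Type*} [Fintype ι]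
    {U : C} (p : ι → P.obj (op U)) (q : ι → Q.obj (op U)) :
    (f ▷ Q).app (op U) (∑ l, p l ⊗ₜ q l) =
      (∑ l, f.app (op U) (p l) ⊗ₜ[↑(R.obj (op U))] q l :
        ↑(P'.obj (op U)) ⊗[↑(R.obj (op U))] ↑(Q.obj (op U))) :=
  (map_sum ((f ▷ Q).app (op U)).hom (fun l => (p l ⊗ₜ q l : ↑((P ⊗ Q).obj (op U)))) Finset.univ)

theorem locInj_whiskerRight {P P' : PM R} (f : P ⟶ P') (Q : PM R) (hi : LocInj J f)
    (hs : LocSurj J f) : LocInj J (f ▷ Q) := by
  classical
  intro U t ht
  obtain ⟨S, hS⟩ := TensorProduct.exists_finset (R := ↑(R.obj (op U))) (M := ↑(P.obj (op U)))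
    (N := ↑(Q.obj (op U))) t
  -- the finite family
  let p : S → P.obj (op U) := fun l => l.1.1
  let q : S → Q.obj (op U) := fun l => l.1.2
  have htsum : t = ∑ l : S, (p l ⊗ₜ q l : ↑((P ⊗ Q).obj (op U))) :=
    hS.trans (Finset.sum_coe_sort S (fun l => l.1 ⊗ₜ[↑(R.obj (op U))] l.2)).symm
  have h0 : (∑ l : S, (f.app (op U) (p l)) ⊗ₜ[↑(R.obj (op U))] q l :
      ↑(P'.obj (op U)) ⊗[↑(R.obj (op U))] ↑(Q.obj (op U))) = 0 :=
    (whiskerRight_app_tsum f Q p q).symm.trans
      ((congrArg (fun s => (f ▷ Q).app (op U) s) htsum.symm).trans ht)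
  obtain ⟨κ, _, g, k, a, y, h₁, h₂⟩ := exists_vanishesTrivially_of_sum_tmul_eq_zero
    (A := ↑(R.obj (op U))) (fun l => f.app (op U) (p l)) q h0
  -- lift the auxiliary elements locally
  choose S₁ hS₁ hlift using fun l : κ => hs U (g l)
  obtain ⟨T₁, hT₁, hT₁le⟩ := iInf_mem_of_finite J S₁ hS₁
  -- the sieve of arrows along which `t` restricts to zero
  let Z : Sieve U :=
    { arrows := fun V i => res (P ⊗ Q) i t = 0
      downward_closed := by
        intro V W i hi i'
        change res (P ⊗ Q) (i' ≫ i) t = 0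
        rw [← res_res, hi, res_zero] }
  refine ⟨Z, ?_, fun V i hi => hi⟩
  refine J.transitive hT₁ Z (fun V₀ i₀ hi₀ => ?_)
  -- lifts of the auxiliary elements over `V₀`
  choose pt hpt using fun l : κ => hlift l i₀ (hT₁le l _ hi₀)
  let m₀ : S ⊕ κ → P.obj (op V₀) := Sum.elim (fun l => res P i₀ (p l)) pt
  let z : Fin k → P.obj (op V₀) := fun j => ∑ l, resR i₀ (a l j) • m₀ l
  have hz : ∀ j, f.app (op V₀) (z j) = 0 := by
    intro j
    have h2 := congrArg (res P' i₀) (h₂ j)
    rw [res_zero, res_sum] at h2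
    rw [← h2, map_sum]
    refine Finset.sum_congr rfl fun l _ => ?_
    rw [map_smul, res_smul]
    congr 1
    rcases l with l | l
    · exact app_res f i₀ (p l)
    · exact hpt l
  choose S₂ hS₂ hzero using fun j : Fin k => hi V₀ (z j) (hz j)
  obtain ⟨T₂, hT₂, hT₂le⟩ := iInf_mem_of_finite J S₂ hS₂
  refine J.superset_covering ?_ hT₂
  intro W i₁ hi₁
  change res (P ⊗ Q) (i₁ ≫ i₀) t = 0
  -- on W everything vanishes trivially
  let mW : S ⊕ κ → P.obj (op W) := fun l => res P i₁ (m₀ l)
  let nW : S ⊕ κ → Q.obj (op W) :=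
    fun l => res Q (i₁ ≫ i₀) (Sum.elim q (fun _ => (0 : Q.obj (op U))) l)
  have hvan : VanishesTrivially (↑(R.obj (op W))) mW nW := by
    refine ⟨k, fun l j => resR (i₁ ≫ i₀) (a l j), fun j => res Q (i₁ ≫ i₀) (y j),
      fun l => ?_, fun j => ?_⟩
    · have := congrArg (res Q (i₁ ≫ i₀)) (h₁ l)
      rw [res_sum] at this
      refine this.trans ?_
      exact Finset.sum_congr rfl fun j _ => res_smul _ _ _
    · have hz0 := hzero j i₁ (hT₂le j _ hi₁)
      rw [← hz0]
      change _ = res P i₁ (∑ l, resR i₀ (a l j) • m₀ l)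
      rw [res_sum]
      refine Finset.sum_congr rfl fun l _ => ?_
      rw [res_smul, resR_resR]
  have hsum := sum_tmul_eq_zero_of_vanishesTrivially _ hvan
  rw [Fintype.sum_sum_type] at hsum
  have hκ : ∑ l : κ, mW (Sum.inr l) ⊗ₜ[↑(R.obj (op W))] nW (Sum.inr l) = 0 := by
    refine Finset.sum_eq_zero fun l _ => ?_
    change _ ⊗ₜ res Q _ 0 = _
    rw [res_zero, tmul_zero]
  rw [hκ, add_zero] at hsum
  rw [htsum]
  refine (res_tsum _ p q).trans (Eq.trans ?_ hsum)
  refine Finset.sum_congr rfl fun l _ => ?_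
  change _ = res P i₁ (res P i₀ (p l)) ⊗ₜ res Q _ (q l)
  rw [res_res]

section Bridge

variable {P P' : PM R} (f : P ⟶ P')

/-- the underlying map of presheaves of abelian groups -/
noncomputable abbrev ab : P.presheaf ⟶ P'.presheaf := (PresheafOfModules.toPresheaf _).map f

theorem isLocallyInjective_iff :
    Presheaf.IsLocallyInjective J (ab f) ↔ LocInj J f := by
  constructor
  · intro h U s hs
    have hmem := h.equalizerSieve_mem (X := op U) (s : P.presheaf.obj (op U)) 0
      (by
        change f.app (op U) s = f.app (op U) 0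
        rw [hs, map_zero])
    refine ⟨_, hmem, fun V i hi => ?_⟩
    have : P.presheaf.map i.op s = P.presheaf.map i.op 0 := hi
    rw [map_zero] at this
    exact this
  · intro h
    refine ⟨fun {X} s t hst => ?_⟩
    obtain ⟨U⟩ := X
    let s' : P.obj (op U) := s
    let t' : P.obj (op U) := t
    have h0 : f.app (op U) (s' - t') = 0 := by
      have : f.app (op U) s' = f.app (op U) t' := hst
      rw [map_sub, this, sub_self]
    obtain ⟨S, hS, hV⟩ := h U (s' - t') h0
    refine J.superset_covering ?_ hS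
    intro V i hi
    change res P i s' = res P i t'
    have h1 := hV i hi
    rw [res_sub, sub_eq_zero] at h1
    exact h1

theorem isLocallySurjective_iff :
    Presheaf.IsLocallySurjective J (ab f) ↔ LocSurj J f := by
  constructor
  · intro h U s'
    have hmem := h.imageSieve_mem (U := U) (s' : P'.presheaf.obj (op U))
    exact ⟨_, hmem, fun V i ⟨t, ht⟩ => ⟨t, ht⟩⟩
  · intro h
    refine ⟨fun {U} s' => ?_⟩
    obtain ⟨S, hS, hV⟩ := h U s'
    refine J.superset_covering ?_ hS
    intro V i hi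
    obtain ⟨t, ht⟩ := hV i hi
    exact ⟨t, ht⟩

end Bridge

section Sheafification

variable {J}
variable {S : Sheaf J RingCat.{u}} (α : (R ⋙ forget₂ CommRingCat RingCat) ⟶ S.obj)
  [Presheaf.IsLocallyInjective J α] [Presheaf.IsLocallySurjective J α]
  [J.WEqualsLocallyBijective AddCommGrpCat.{u}] [HasWeakSheafify J AddCommGrpCat.{u}]

theorem isIso_sheafification_map_iff {P P' : PM R} (f : P ⟶ P') :
    IsIso ((PresheafOfModules.sheafification.{u} α).map f) ↔ LocInj J f ∧ LocSurj J f := by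
  have h := PresheafOfModules.inverseImage_W_toPresheaf_eq_inverseImage_isomorphisms.{u} α
  have h1 : J.W (ab f) ↔ IsIso ((PresheafOfModules.sheafification.{u} α).map f) :=
    Iff.of_eq (congrFun (congrFun (congrFun h P) P') f)
  rw [← isLocallyInjective_iff, ← isLocallySurjective_iff, ← h1]
  exact GrothendieckTopology.WEqualsLocallyBijective.iff _

/-- KEY: sheafification of presheaves of modules inverts `f ▷ Q` whenever it inverts `f`. -/
theorem isIso_sheafification_map_whiskerRight {P P' : PM R} (f : P ⟶ P') (Q : PM R)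
    (hf : IsIso ((PresheafOfModules.sheafification.{u} α).map f)) :
    IsIso ((PresheafOfModules.sheafification.{u} α).map (f ▷ Q)) := by
  rw [isIso_sheafification_map_iff] at hf ⊢
  exact ⟨locInj_whiskerRight J f Q hf.1 hf.2, locSurj_whiskerRight J f Q hf.2⟩

end Sheafification

end Groth.Agent.Lib.ModSiteTensorW
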