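/-
helper11: keystone ModSiteTensor, part T.  `ModSite.tensorBi O` (sheafified tensor product of sheaves of modules on a
small ringed site) as an instance of helper42's abstract monoidal reflective localization `MonLoc.LocData`:
unit / symmetry / associativity isomorphisms, `a(P ⊗ Q) ≅ a P ⊗ a Q`, colimit preservation.
-/
import Groth.Prelude.Def_ModSite
import Groth.Agent.Lib.ModSiteTensorW
import Groth.Agent.Lib.MonLoc
import Groth.Agent.Lib.MonLocColim

universe u
open CategoryTheory MonoidalCategory Opposite Limits

namespace Groth.Agent.Lib.ModSiteTensor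

open Groth.Agent.Lib.ModSiteTensorW Groth.Agent.Lib.MonLoc

variable {C : Type u} [SmallCategory C] {J : GrothendieckTopology C} (O : Sheaf J CommRingCat.{u})

/-- presheaves of modules over the structure presheaf -/
abbrev PMod := PresheafOfModules.{u} (O.obj ⋙ forget₂ CommRingCat.{u} RingCat.{u})

/-- the forgetful functor from sheaves of modules to presheaves of modules -/
noncomputable def fg : ModSite.Mod O ⥤ PMod O := SheafOfModules.forget (ModSite.ringSh O)

/-- sheafification of presheaves of modules -/
noncomputable def sh : PMod O ⥤ ModSite.Mod O := ModSite.sheafify O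

/-- the sheafification adjunction -/
noncomputable def adj : sh O ⊣ fg O :=
  PresheafOfModules.sheafificationAdjunction.{u} (𝟙 (ModSite.ringSh O).obj)

instance : IsIso (adj O).counit :=
  inferInstanceAs (IsIso (PresheafOfModules.sheafificationAdjunction.{u}
    (𝟙 (ModSite.ringSh O).obj)).counit)

/-- the localization data for `O`-modules on a ringed site -/
noncomputable def locData : LocData (PMod O) (ModSite.Mod O) where
  a := sh O
  fg := fg O
  adj := adj O
  counit_iso := inferInstance
  whisker f Q hf := by
    let α : (O.obj ⋙ forget₂ CommRingCat.{u} RingCat.{u}) ⟶ (ModSite.ringSh O).obj :=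
      𝟙 (ModSite.ringSh O).obj
    have : Presheaf.IsLocallyInjective J α :=
      inferInstanceAs (Presheaf.IsLocallyInjective J (𝟙 (ModSite.ringSh O).obj))
    have : Presheaf.IsLocallySurjective J α :=
      inferInstanceAs (Presheaf.IsLocallySurjective J (𝟙 (ModSite.ringSh O).obj))
    exact isIso_sheafification_map_whiskerRight (R := O.obj) (S := ModSite.ringSh O) α f Q hf
  unit := ModSite.unit O
  unitIso := Iso.refl _

lemma tensorBi_obj_obj (M N : ModSite.Mod O) :
    ((ModSite.tensorBi O).obj M).obj N = (locData O).tens M N := rfl

end Groth.Agent.Lib.ModSiteTensor
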