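/-
helper11: keystone ModSiteTensor, part R.  Restriction `ModSite.restr O X` to the localised site `C/X` commutes with
sheafification of presheaves of modules and with the tensor product.
-/
import Groth.Agent.Lib.ModSiteTensor

universe u
open CategoryTheory MonoidalCategory Opposite Limits

namespace Groth.Agent.Lib.ModSiteTensor

open Groth.Agent.Lib.ModSiteTensorW Groth.Agent.Lib.MonLoc

variable {C : Type u} [SmallCategory C] {J : GrothendieckTopology C} (O : Sheaf J CommRingCat.{u})

theorem isIso_sh_map_iff {P P' : PMod O} (f : P ⟶ P') :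
    IsIso ((sh O).map f) ↔ LocInj J f ∧ LocSurj J f := by
  let α : (O.obj ⋙ forget₂ CommRingCat.{u} RingCat.{u}) ⟶ (ModSite.ringSh O).obj :=
    𝟙 (ModSite.ringSh O).obj
  have : Presheaf.IsLocallyInjective J α :=
    inferInstanceAs (Presheaf.IsLocallyInjective J (𝟙 (ModSite.ringSh O).obj))
  have : Presheaf.IsLocallySurjective J α :=
    inferInstanceAs (Presheaf.IsLocallySurjective J (𝟙 (ModSite.ringSh O).obj))
  exact isIso_sheafification_map_iff (R := O.obj) (S := ModSite.ringSh O) α f

lemma locInj_η (P : PMod O) : LocInj J ((locData O).η P) :=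
  ((isIso_sh_map_iff O _).mp ((locData O).isIso_map_η P)).1

lemma locSurj_η (P : PMod O) : LocSurj J ((locData O).η P) :=
  ((isIso_sh_map_iff O _).mp ((locData O).isIso_map_η P)).2

/-- a locally bijective map from a presheaf of modules to a sheaf of modules exhibits the latter as
the sheafification. -/
noncomputable def isoOfLocBij {P : PMod O} {F : ModSite.Mod O} (g : P ⟶ (fg O).obj F)
    (hi : LocInj J g) (hs : LocSurj J g) : (sh O).obj P ≅ F :=
  haveI : IsIso ((sh O).map g) := (isIso_sh_map_iff O g).mpr ⟨hi, hs⟩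
  asIso ((sh O).map g) ≪≫ (locData O).counitIso F

variable (X : C)

/-- restriction of presheaves of modules to `C/X` -/
noncomputable def resPre : PMod O ⥤ PMod (O.over X) :=
  PresheafOfModules.pushforward.{u} (F := Over.forget X)
    (R := O.obj ⋙ forget₂ CommRingCat.{u} RingCat.{u})
    (S := (O.over X).obj ⋙ forget₂ CommRingCat.{u} RingCat.{u}) (𝟙 _)

lemma fg_restr (F : ModSite.Mod O) :
    (fg (O.over X)).obj ((ModSite.restr O X).obj F) = (resPre O X).obj ((fg O).obj F) := rfl

lemma resPre_map_app {P P' : PMod O} (f : P ⟶ P') (Y : Over X) (s : P.obj (op Y.left)) :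
    ((resPre O X).map f).app (op Y) s = f.app (op Y.left) s := rfl

lemma locInj_resPre {P P' : PMod O} (f : P ⟶ P') (h : LocInj J f) :
    LocInj (J.over X) ((resPre O X).map f) := by
  intro Y s hs
  obtain ⟨S, hS, hV⟩ := h Y.left s hs
  refine ⟨(Sieve.overEquiv Y).symm S, J.overEquiv_symm_mem_over Y S hS, fun Z i hi => ?_⟩
  rw [Sieve.overEquiv_symm_iff] at hi
  exact hV i.left hi

lemma locSurj_resPre {P P' : PMod O} (f : P ⟶ P') (h : LocSurj J f) :
    LocSurj (J.over X) ((resPre O X).map f) := by
  intro Y s'
  obtain ⟨S, hS, hV⟩ := h Y.left s'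
  refine ⟨(Sieve.overEquiv Y).symm S, J.overEquiv_symm_mem_over Y S hS, fun Z i hi => ?_⟩
  rw [Sieve.overEquiv_symm_iff] at hi
  obtain ⟨t, ht⟩ := hV i.left hi
  exact ⟨t, ht⟩

/-- restriction commutes with sheafification of presheaves of modules -/
noncomputable def shResPreIso (P : PMod O) :
    (sh (O.over X)).obj ((resPre O X).obj P) ≅ (ModSite.restr O X).obj ((sh O).obj P) :=
  isoOfLocBij (O.over X) (F := (ModSite.restr O X).obj ((sh O).obj P))
    ((resPre O X).map ((locData O).η P))
    (locInj_resPre O X _ (locInj_η O P)) (locSurj_resPre O X _ (locSurj_η O P))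

/-- restriction of presheaves of modules is strictly compatible with the tensor product -/
noncomputable def resPreTensorIso (P Q : PMod O) :
    (resPre O X).obj (P ⊗ Q) ≅ (resPre O X).obj P ⊗ (resPre O X).obj Q :=
  PresheafOfModules.isoMk (fun _ => Iso.refl _) (by
    intro Y Z f
    rfl)

/-- S6154: restriction commutes with the tensor product of sheaves of modules -/
noncomputable def restrTensorIso (M N : ModSite.Mod O) :
    (ModSite.restr O X).obj (((ModSite.tensorBi O).obj M).obj N) ≅
      ((ModSite.tensorBi (O.over X)).obj ((ModSite.restr O X).obj M)).obj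
        ((ModSite.restr O X).obj N) :=
  (shResPreIso O X ((fg O).obj M ⊗ (fg O).obj N)).symm ≪≫
    (sh (O.over X)).mapIso (resPreTensorIso O X _ _)

end Groth.Agent.Lib.ModSiteTensor
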