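/-
helper11: keystone ModSiteTensor, part P1.  Projection formula at the level of presheaves of modules:
`j_!(P ⊗ N|_X) ≅ j_! P ⊗ N` for the explicit extension by zero `shriek`.
-/
import Groth.Agent.Lib.ModShriekPre
import Groth.Agent.Lib.ModSiteRestr

universe u
open CategoryTheory Opposite Limits DirectSum MonoidalCategory

attribute [local instance] Classical.propDecidable

namespace Groth.Agent.Lib.ModShriekProj

open Groth.Agent.Lib.ModShriekPre Groth.Agent.Lib.ModSiteTensor

variable {C : Type u} [SmallCategory C] {J : GrothendieckTopology C} (O : Sheaf J CommRingCat.{u}) (X : C)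

/-- extension by zero of presheaves of modules, in the `PMod` notation -/
noncomputable abbrev shr : PMod (O.over X) ⥤ PMod O :=
  shriek (O.obj ⋙ forget₂ CommRingCat.{u} RingCat.{u}) X

/-- `j_! ⊣ j^*` -/
noncomputable def shrAdj : shr O X ⊣ resPre O X :=
  adj (O.obj ⋙ forget₂ CommRingCat.{u} RingCat.{u}) X

variable {O X}

/-- the projection morphism `j_!(P ⊗ N|_X) ⟶ j_! P ⊗ N` -/
noncomputable def projHom (P : PMod (O.over X)) (N : PMod O) :
    (shr O X).obj (P ⊗ (resPre O X).obj N) ⟶ (shr O X).obj P ⊗ N :=
  ((shrAdj O X).homEquiv _ _).symm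
    (((shrAdj O X).unit.app P ▷ (resPre O X).obj N) ≫ (resPreTensorIso O X _ _).inv)

/-- the summand of `j_! Q (V)` indexed by `φ` -/
abbrev sm (Q : PMod (O.over X)) {V : C} (φ : V ⟶ X) : Type u :=
  summand (R := O.obj ⋙ forget₂ CommRingCat.{u} RingCat.{u}) (X := X) Q φ

lemma projHom_app_of (P : PMod (O.over X)) (N : PMod O) {V : C} (φ : V ⟶ X)
    (t : sm (P ⊗ (resPre O X).obj N) φ) :
    (projHom P N).app (op V) (DirectSum.of (fun ψ : V ⟶ X => sm (P ⊗ (resPre O X).obj N) ψ) φ t) =
      (((shrAdj O X).unit.app P ▷ (resPre O X).obj N) ≫ (resPreTensorIso O X _ _).inv).app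
        (op (Over.mk φ)) t := by
  unfold projHom
  rw [Adjunction.homEquiv_counit]
  set g := ((shrAdj O X).unit.app P ▷ (resPre O X).obj N) ≫ (resPreTensorIso O X _ _).inv with hg
  rw [PresheafOfModules.comp_app, ModuleCat.comp_apply]
  have e1 : ((shr O X).map g).app (op V)
      (DirectSum.of (fun ψ : V ⟶ X => sm (P ⊗ (resPre O X).obj N) ψ) φ t) =
      mapCarrier (R := O.obj ⋙ forget₂ CommRingCat.{u} RingCat.{u}) (X := X) g V
        (DirectSum.of (fun ψ : V ⟶ X => sm (P ⊗ (resPre O X).obj N) ψ) φ t) := rfl
  rw [e1]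
  refine (congrArg (fun m => ((shrAdj O X).counit.app ((shr O X).obj P ⊗ N)).app (op V) m)
    (mapCarrier_of (R := O.obj ⋙ forget₂ CommRingCat.{u} RingCat.{u}) (X := X) g φ t)).trans ?_
  exact sumMap_of (R := O.obj ⋙ forget₂ CommRingCat.{u} RingCat.{u}) (X := X) _ φ _

lemma projHom_app_of_tmul (P : PMod (O.over X)) (N : PMod O) {V : C} (φ : V ⟶ X)
    (p : P.obj (op (Over.mk φ))) (n : N.obj (op V)) :
    (projHom P N).app (op V) (DirectSum.of (fun ψ : V ⟶ X => sm (P ⊗ (resPre O X).obj N) ψ) φ
      (p ⊗ₜ n : ((P ⊗ (resPre O X).obj N).obj (op (Over.mk φ))))) =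
      ((DirectSum.of (fun ψ : V ⟶ X => sm P ψ) φ p : ((shr O X).obj P).obj (op V))
        ⊗ₜ n : ((shr O X).obj P ⊗ N).obj (op V)) := by
  rw [projHom_app_of]
  rfl

lemma projHom_app_bijective (P : PMod (O.over X)) (N : PMod O) (V : C) :
    Function.Bijective ((projHom P N).app (op V)) := by
  let _ : ∀ φ : V ⟶ X, Module (O.obj.obj (op V)) (P.obj (op (Over.mk φ))) :=
    fun φ => (P.obj (op (Over.mk φ))).isModule
  let e := TensorProduct.directSumLeft (O.obj.obj (op V)) (O.obj.obj (op V))
    (fun φ : V ⟶ X => P.obj (op (Over.mk φ))) (N.obj (op V))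
  have key : ∀ m, (projHom P N).app (op V) m = e.symm m := by
    intro m
    induction m using DirectSum.induction_on with
    | zero => exact (map_zero ((projHom P N).app (op V)).hom).trans (map_zero e.symm).symm
    | of φ t =>
      induction t using TensorProduct.induction_on with
      | zero =>
        refine (congrArg ((projHom P N).app (op V)).hom (map_zero
          (DirectSum.of (fun ψ : V ⟶ X => sm (P ⊗ (resPre O X).obj N) ψ) φ))).trans ?_
        refine (map_zero ((projHom P N).app (op V)).hom).trans ?_
        refine Eq.trans ?_ (congrArg e.symm (map_zero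
          (DirectSum.of (fun ψ : V ⟶ X => sm (P ⊗ (resPre O X).obj N) ψ) φ))).symm
        exact (map_zero e.symm).symm
      | tmul p n =>
        refine (projHom_app_of_tmul P N φ p n).trans ?_
        exact (TensorProduct.directSumLeft_symm_lof_tmul (O.obj.obj (op V)) (O.obj.obj (op V))
          (M₁ := fun φ : V ⟶ X => P.obj (op (Over.mk φ))) (M₂' := N.obj (op V)) φ p n).symm
      | add a b ha hb =>
        refine (congrArg ((projHom P N).app (op V)).hom (map_add
          (DirectSum.of (fun ψ : V ⟶ X => sm (P ⊗ (resPre O X).obj N) ψ) φ) a b)).trans ?_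
        refine (map_add ((projHom P N).app (op V)).hom _ _).trans ?_
        refine Eq.trans ?_ (congrArg e.symm (map_add
          (DirectSum.of (fun ψ : V ⟶ X => sm (P ⊗ (resPre O X).obj N) ψ) φ) a b)).symm
        refine Eq.trans ?_ (map_add e.symm _ _).symm
        exact congrArg₂ (· + ·) ha hb
    | add a b ha hb =>
      refine (map_add ((projHom P N).app (op V)).hom a b).trans ?_
      refine Eq.trans ?_ (map_add e.symm _ _).symm
      exact congrArg₂ (· + ·) ha hb
  have : ⇑((projHom P N).app (op V)) = ⇑e.symm := funext key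
  rw [this]
  exact e.symm.bijective

instance isIso_projHom (P : PMod (O.over X)) (N : PMod O) : IsIso (projHom P N) := by
  have h : ∀ V : Cᵒᵖ, IsIso ((projHom P N).app V) := fun V =>
    (ConcreteCategory.isIso_iff_bijective _).2 (projHom_app_bijective P N V.unop)
  let e : (shr O X).obj (P ⊗ (resPre O X).obj N) ≅ (shr O X).obj P ⊗ N :=
    PresheafOfModules.isoMk (fun V => asIso ((projHom P N).app V))
      (fun V W f => (projHom P N).naturality f)
  have he : e.hom = projHom P N := by
    apply PresheafOfModules.hom_ext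
    intro V
    rfl
  rw [← he]
  infer_instance

/-- the projection formula for presheaves of modules -/
noncomputable def projIso (P : PMod (O.over X)) (N : PMod O) :
    (shr O X).obj (P ⊗ (resPre O X).obj N) ≅ (shr O X).obj P ⊗ N :=
  asIso (projHom P N)

lemma resPreTensorIso_inv_naturality_right (A : PMod O) {N N' : PMod O} (f : N ⟶ N') :
    (resPreTensorIso O X A N).inv ≫ (resPre O X).map (A ◁ f) =
      ((resPre O X).obj A ◁ (resPre O X).map f) ≫ (resPreTensorIso O X A N').inv := by
  apply PresheafOfModules.hom_ext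
  intro Y
  rw [PresheafOfModules.comp_app, PresheafOfModules.comp_app]
  exact (Category.id_comp _).trans (Category.comp_id _).symm

lemma resPreTensorIso_inv_naturality_left {A A' : PMod O} (g : A ⟶ A') (N : PMod O) :
    (resPreTensorIso O X A N).inv ≫ (resPre O X).map (g ▷ N) =
      ((resPre O X).map g ▷ (resPre O X).obj N) ≫ (resPreTensorIso O X A' N).inv := by
  apply PresheafOfModules.hom_ext
  intro Y
  rw [PresheafOfModules.comp_app, PresheafOfModules.comp_app]
  exact (Category.id_comp _).trans (Category.comp_id _).symm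

lemma projHom_naturality_right (P : PMod (O.over X)) {N N' : PMod O} (f : N ⟶ N') :
    (shr O X).map (P ◁ (resPre O X).map f) ≫ projHom P N' =
      projHom P N ≫ ((shr O X).obj P ◁ f) := by
  unfold projHom
  rw [← Adjunction.homEquiv_naturality_left_symm, ← Adjunction.homEquiv_naturality_right_symm]
  congr 1
  rw [Category.assoc, resPreTensorIso_inv_naturality_right, ← Category.assoc, ← Category.assoc,
    whisker_exchange]
  rfl

lemma projHom_naturality_left {P P' : PMod (O.over X)} (g : P ⟶ P') (N : PMod O) :
    (shr O X).map (g ▷ (resPre O X).obj N) ≫ projHom P' N =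
      projHom P N ≫ ((shr O X).map g ▷ N) := by
  unfold projHom
  rw [← Adjunction.homEquiv_naturality_left_symm, ← Adjunction.homEquiv_naturality_right_symm]
  congr 1
  rw [Category.assoc, resPreTensorIso_inv_naturality_left, ← Category.assoc, ← Category.assoc,
    ← comp_whiskerRight, ← comp_whiskerRight]
  congr 2
  exact ((shrAdj O X).unit.naturality g)

end Groth.Agent.Lib.ModShriekProj
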