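/-
helper11: keystone ModSiteTensor, part H.  Existence of the internal hom `Hom_O(N, -)` of sheaves of modules on a small
ringed site: `M ↦ M ⊗_O N` preserves colimits (tensor on presheaves does, sheafification inverts the relevant maps), and
`Mod O` is cocomplete, well-copowered with a small separating family, so the special adjoint functor theorem applies.
-/
import Groth.Agent.Lib.ModSiteTensor
import Mathlib.CategoryTheory.Adjunction.AdjointFunctorTheorems
import Mathlib.CategoryTheory.Abelian.Subobject
import Mathlib.Algebra.Category.ModuleCat.Sheaf.Colimits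

universe u
open CategoryTheory MonoidalCategory Opposite Limits

namespace Groth.Agent.Lib.MonLoc

namespace LocData

universe v₁ v₂ u₁ u₂ w w'

variable {C : Type u₁} {D : Type u₂} [Category.{v₁} C] [Category.{v₂} D] [MonoidalCategory C]
    [SymmetricCategory C] (L : LocData C D)

/-- `- ⊗ N` as a functor on `D` -/
def tensRight (N : D) : D ⥤ D := L.fg ⋙ tensorRight (L.fg.obj N) ⋙ L.a

@[simp] lemma tensRight_obj (N M : D) : (L.tensRight N).obj M = L.tens M N := rfl

/-- `a ⋙ (- ⊗ N) ≅ (- ⊗ fg N) ⋙ a` -/
noncomputable def aTensRightIso (N : D) : tensorRight (L.fg.obj N) ⋙ L.a ≅ L.a ⋙ L.tensRight N :=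
  NatIso.ofComponents
    (fun P => @asIso _ _ _ _ (L.a.map (L.η P ▷ L.fg.obj N))
      (L.isIso_whiskerRight (L.η P) (L.fg.obj N)))
    (by
      intro P P' f
      dsimp [tensRight]
      rw [← L.a.map_comp, ← L.a.map_comp, ← comp_whiskerRight, ← comp_whiskerRight]
      congr 2
      exact L.adj.unit.naturality f)

variable {J : Type w} [Category.{w'} J]

lemma preservesColimitsOfShape_tensRight [HasColimitsOfShape J C]
    [∀ P : C, PreservesColimitsOfShape J (tensorRight P)] (N : D) :
    PreservesColimitsOfShape J (L.tensRight N) := by
  have : PreservesColimitsOfSize.{w', w} L.a := L.adj.leftAdjoint_preservesColimits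
  have : PreservesColimitsOfShape J (L.a ⋙ L.tensRight N) :=
    preservesColimitsOfShape_of_natIso (L.aTensRightIso N)
  exact preservesColimitsOfShape_of_reflective L.adj (L.tensRight N)

end LocData

end Groth.Agent.Lib.MonLoc

namespace Groth.Agent.Lib.ModSiteTensor

open Groth.Agent.Lib.MonLoc

/-- the image of a separating family under a left adjoint with faithful right adjoint is separating -/
lemma isSeparating_ofObj_map_of_adjunction {C D : Type*} [Category C] [Category D] {a : C ⥤ D}
    {fg : D ⥤ C} (adj : a ⊣ fg) [fg.Faithful] {ι : Type*} (G : ι → C)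
    (hG : (ObjectProperty.ofObj G).IsSeparating) :
    (ObjectProperty.ofObj (fun i => a.obj (G i))).IsSeparating := by
  intro M N f₁ f₂ h
  apply fg.map_injective
  apply hG
  rintro _ ⟨i⟩ g
  have := h _ ⟨i⟩ ((adj.homEquiv _ _).symm g)
  have h2 := congrArg (adj.homEquiv _ _) this
  simpa [Adjunction.homEquiv_naturality_right] using h2

variable {C : Type u} [SmallCategory C] {J : GrothendieckTopology C} (O : Sheaf J CommRingCat.{u})

/-- `(tensorBi O).flip.obj N` is `- ⊗ N` of the localization data. -/
noncomputable def flipObjIso (N : ModSite.Mod O) :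
    (ModSite.tensorBi O).flip.obj N ≅ (locData O).tensRight N :=
  NatIso.ofComponents (fun _ => Iso.refl _) (by
    intro M M' f
    simp only [Iso.refl_hom]
    exact (Category.comp_id _).trans (Category.id_comp _).symm)

instance (N : ModSite.Mod O) : PreservesColimitsOfSize.{u, u} ((ModSite.tensorBi O).flip.obj N) where
  preservesColimitsOfShape {K} _ := by
    have : PreservesColimitsOfShape K ((locData O).tensRight N) :=
      (locData O).preservesColimitsOfShape_tensRight (J := K) N
    exact preservesColimitsOfShape_of_natIso (flipObjIso O N).symm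

/-- the sheafified free modules on representables -/
noncomputable def gen (X : C) : ModSite.Mod O :=
  (sh O).obj ((yoneda ⋙ PresheafOfModules.free (O.obj ⋙ forget₂ CommRingCat.{u} RingCat.{u})).obj X)

lemma isSeparating_gen : (ObjectProperty.ofObj (gen O)).IsSeparating := by
  have : (fg O).Faithful := (SheafOfModules.fullyFaithfulForget _).faithful
  exact isSeparating_ofObj_map_of_adjunction (adj O) _
    (PresheafOfModules.freeYoneda.isSeparating (O.obj ⋙ forget₂ CommRingCat.{u} RingCat.{u}))

instance : ObjectProperty.Small.{u} (ObjectProperty.ofObj (gen O)) := by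
  infer_instance

instance : WellPowered.{u} (ModSite.Mod O) :=
  wellPowered_of_isDetecting (isSeparating_gen O).isDetecting

/-- S6165: every `O`-module has an internal hom functor. -/
theorem hasSheafHom (N : ModSite.Mod O) : ModSite.HasSheafHom N :=
  isLeftAdjoint_of_preservesColimits_of_isSeparating (isSeparating_gen O) _

end Groth.Agent.Lib.ModSiteTensor
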