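/-
helper11: keystone ModSiteTensor, part F.  Flatness (ModSite.IsFlat) and colimits: the tensor product of sheaves of
modules on a small ringed site commutes with colimits in each variable; hence a colimit of flat modules over a shape
with exact colimits (filtered categories, discrete categories) is flat.
-/
import Groth.Agent.Lib.ModSiteHom
import Mathlib.CategoryTheory.Abelian.GrothendieckAxioms.FunctorCategory
import Mathlib.Algebra.Category.Grp.AB
import Mathlib.Algebra.Category.ModuleCat.Presheaf.Limits
import Mathlib.Algebra.Category.ModuleCat.Presheaf.Colimits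
import Mathlib.Algebra.Category.ModuleCat.Presheaf.Sheafification

universe u
open CategoryTheory MonoidalCategory Opposite Limits

namespace Groth.Agent.Lib.ModSiteTensor

open Groth.Agent.Lib.MonLoc

variable {C : Type u} [SmallCategory C] {J : GrothendieckTopology C} (O : Sheaf J CommRingCat.{u})

/-- exactness of colimits of shape `K` in `Mod O` from that in abelian groups (helper15's argument for S9107) -/
theorem hasExactColimitsOfShape (K : Type u) [SmallCategory K]
    [HasExactColimitsOfShape K AddCommGrpCat.{u}] :
    HasExactColimitsOfShape K (ModSite.Mod O) := by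
  have : ReflectsFiniteLimits (PresheafOfModules.toPresheaf.{u} (ModSite.ringSh O).obj) :=
    ⟨fun K _ _ => reflectsLimitsOfShape_of_reflectsIsomorphisms⟩
  have : HasExactColimitsOfShape K (PresheafOfModules.{u} (ModSite.ringSh O).obj) :=
    HasExactColimitsOfShape.domain_of_functor K
      (PresheafOfModules.toPresheaf.{u} (ModSite.ringSh O).obj)
  exact (PresheafOfModules.sheafificationAdjunction
    (𝟙 (ModSite.ringSh O).obj)).hasExactColimitsOfShape K

/-- `(tensorBi O).obj H` is `H ⊗ -` of the localization data. -/
noncomputable def objIso (H : ModSite.Mod O) :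
    (ModSite.tensorBi O).obj H ≅ (locData O).tensLeft H :=
  NatIso.ofComponents (fun _ => Iso.refl _) (by
    intro M M' f
    simp only [Iso.refl_hom]
    exact (Category.comp_id _).trans (Category.id_comp _).symm)

instance (H : ModSite.Mod O) : PreservesColimitsOfSize.{u, u} ((ModSite.tensorBi O).obj H) where
  preservesColimitsOfShape {K} _ := by
    have : PreservesColimitsOfShape K ((locData O).tensLeft H) :=
      (locData O).preservesColimitsOfShape_tensLeft (J := K) H
    exact preservesColimitsOfShape_of_natIso (objIso O H).symm

/-- For modules, flatness is exactness on the left: `- ⊗ F` always preserves colimits. -/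
lemma isFlat_iff (F : ModSite.Mod O) :
    ModSite.IsFlat F ↔ PreservesFiniteLimits ((ModSite.tensorBi O).flip.obj F) :=
  ⟨fun h => h.1, fun h => ⟨h, ⟨fun K _ _ => inferInstance⟩⟩⟩

section Colim

variable {I : Type u} [SmallCategory I] (D : I ⥤ ModSite.Mod O)

/-- `H ↦ (i ↦ H ⊗ D i)` -/
noncomputable def tensDiagram : ModSite.Mod O ⥤ (I ⥤ ModSite.Mod O) :=
  ModSite.tensorBi O ⋙ (Functor.whiskeringLeft I (ModSite.Mod O) (ModSite.Mod O)).obj D

/-- `- ⊗ colim D ≅ colim (- ⊗ D i)` -/
noncomputable def flipColimIso (c : Cocone D) (hc : IsColimit c) :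
    tensDiagram O D ⋙ colim ≅ (ModSite.tensorBi O).flip.obj c.pt :=
  NatIso.ofComponents
    (fun H => (colimit.isColimit (D ⋙ (ModSite.tensorBi O).obj H)).coconePointUniqueUpToIso
      (isColimitOfPreserves ((ModSite.tensorBi O).obj H) hc))
    (by
      intro H H' f
      apply colimit.hom_ext
      intro i
      simp only [Functor.comp_obj, colim_obj, Functor.comp_map, colim_map, Functor.flip_obj_obj,
        Functor.flip_obj_map]
      rw [ι_colimMap_assoc]
      erw [IsColimit.comp_coconePointUniqueUpToIso_hom,
        IsColimit.comp_coconePointUniqueUpToIso_hom_assoc]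
      exact (((ModSite.tensorBi O).map f).naturality (c.ι.app i)).symm)

theorem isFlat_of_isColimit [HasExactColimitsOfShape I (ModSite.Mod O)]
    (hD : ∀ i, ModSite.IsFlat (D.obj i)) (c : Cocone D) (hc : IsColimit c) :
    ModSite.IsFlat c.pt := by
  rw [isFlat_iff]
  have h1 : PreservesFiniteLimits (tensDiagram O D) := by
    apply preservesFiniteLimits_of_evaluation
    intro i
    exact (hD i).1
  have h2 : PreservesFiniteLimits (colim (J := I) (C := ModSite.Mod O)) :=
    HasExactColimitsOfShape.preservesFiniteLimits
  have : PreservesFiniteLimits (tensDiagram O D ⋙ colim) := comp_preservesFiniteLimits _ _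
  exact preservesFiniteLimits_of_natIso (flipColimIso O D c hc)

end Colim

end Groth.Agent.Lib.ModSiteTensor
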