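/-
helper11: keystone ModSiteTensor, part P2.  Projection formula for sheaves of modules on a ringed site:
`j_!(P ⊗ N|_X) ≅ j_! P ⊗ N`, natural in both variables.
-/
import Groth.Agent.Lib.ModShriekProj
import Groth.Agent.Lib.ModShriek
import Groth.Agent.Lib.ModSiteHom
import Groth.Agent.Lib.ModSiteFlatColim

universe u
open CategoryTheory Opposite Limits MonoidalCategory

namespace Groth.Agent.Lib.ModSiteProj

open Groth.Agent.Lib.ModShriekPre Groth.Agent.Lib.ModSiteTensor Groth.Agent.Lib.ModShriekProj
  Groth.Agent.Lib.ModShriek Groth.Agent.Lib.MonLoc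

variable {C : Type u} [SmallCategory C] {J : GrothendieckTopology C} (O : Sheaf J CommRingCat.{u}) (X : C)

/-- sheafification commutes with extension by zero -/
noncomputable def shShr : sh (O.over X) ⋙ ModSite.extZero O X ≅ shr O X ⋙ sh O :=
  SheafOfModules.sheafificationCompPullback.{u} (𝟙 ((ModSite.ringSh O).over X)) ≪≫
    Functor.isoWhiskerRight (pullbackIso (R := (ModSite.ringSh O).obj) (X := X)) (sh O)

/-- extension by zero is the sheafification of the explicit presheaf extension by zero -/
noncomputable def extZeroIso : ModSite.extZero O X ≅ fg (O.over X) ⋙ shr O X ⋙ sh O :=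
  pullbackIsoShriekSh J (ModSite.ringSh O) X

variable {O X}

/-- the comparison `j_!^{pre}(P) ⟶ j_! P` on underlying presheaves -/
noncomputable def θ (P : ModSite.Mod (O.over X)) :
    (shr O X).obj ((fg (O.over X)).obj P) ⟶ (fg O).obj ((ModSite.extZero O X).obj P) :=
  (locData O).η ((shr O X).obj ((fg (O.over X)).obj P)) ≫ (fg O).map ((extZeroIso O X).inv.app P)

instance (P : ModSite.Mod (O.over X)) : IsIso ((sh O).map (θ P)) := by
  unfold θ
  rw [Functor.map_comp]
  have h1 : IsIso ((sh O).map ((locData O).η ((shr O X).obj ((fg (O.over X)).obj P)))) :=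
    (locData O).isIso_map_η _
  have h0 : IsIso ((extZeroIso O X).inv.app P) := inferInstance
  have h2 : IsIso ((sh O).map ((fg O).map ((extZeroIso O X).inv.app P))) :=
    Functor.map_isIso (sh O) ((fg O).map ((extZeroIso O X).inv.app P))
  exact @IsIso.comp_isIso _ _ _ _ _ _ _ h1 h2

lemma θ_naturality {P P' : ModSite.Mod (O.over X)} (g : P ⟶ P') :
    (shr O X).map ((fg (O.over X)).map g) ≫ θ P' = θ P ≫ (fg O).map ((ModSite.extZero O X).map g) := by
  have h1 : (shr O X).map ((fg (O.over X)).map g) ≫
      (locData O).η ((shr O X).obj ((fg (O.over X)).obj P')) =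
      (locData O).η ((shr O X).obj ((fg (O.over X)).obj P)) ≫
        (fg O).map ((sh O).map ((shr O X).map ((fg (O.over X)).map g))) :=
    (adj O).unit.naturality _
  have h2 : (sh O).map ((shr O X).map ((fg (O.over X)).map g)) ≫ (extZeroIso O X).inv.app P' =
      (extZeroIso O X).inv.app P ≫ (ModSite.extZero O X).map g :=
    (extZeroIso O X).inv.naturality g
  have h3 : (fg O).map ((sh O).map ((shr O X).map ((fg (O.over X)).map g))) ≫
      (fg O).map ((extZeroIso O X).inv.app P') =
      (fg O).map ((extZeroIso O X).inv.app P) ≫ (fg O).map ((ModSite.extZero O X).map g) := by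
    rw [← Functor.map_comp, h2, Functor.map_comp]
  exact (Category.assoc _ _ _).symm.trans ((congrArg (· ≫ (fg O).map ((extZeroIso O X).inv.app P')) h1).trans
    ((Category.assoc _ _ _).trans ((congrArg ((locData O).η ((shr O X).obj ((fg (O.over X)).obj P)) ≫ ·) h3).trans
      (Category.assoc _ _ _).symm)))

lemma isIso_sh_map_θ_whiskerRight (P : ModSite.Mod (O.over X)) (Q : PMod O) :
    IsIso ((sh O).map (θ P ▷ Q)) :=
  (locData O).isIso_whiskerRight (θ P) Q (hf := inferInstanceAs (IsIso ((sh O).map (θ P))))

/-- the projection formula for sheaves of modules (S6169) -/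
noncomputable def projSh (P : ModSite.Mod (O.over X)) (N : ModSite.Mod O) :
    (ModSite.extZero O X).obj (((ModSite.tensorBi (O.over X)).obj P).obj ((ModSite.restr O X).obj N)) ≅
      ((ModSite.tensorBi O).obj ((ModSite.extZero O X).obj P)).obj N :=
  (shShr O X).app ((fg (O.over X)).obj P ⊗ (resPre O X).obj ((fg O).obj N)) ≪≫
    (sh O).mapIso (projIso ((fg (O.over X)).obj P) ((fg O).obj N)) ≪≫
    @asIso _ _ _ _ ((sh O).map (θ P ▷ (fg O).obj N)) (isIso_sh_map_θ_whiskerRight P _)

end Groth.Agent.Lib.ModSiteProj
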