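/-
helper11: keystone ModSiteTensor, part P3.  Naturality of the projection formula
`j_!(P ⊗ N|_X) ≅ j_! P ⊗ N` in both variables, and consequences.
-/
import Groth.Agent.Lib.ModSiteProj

universe u
open CategoryTheory Opposite Limits MonoidalCategory

namespace Groth.Agent.Lib.ModSiteProj

open Groth.Agent.Lib.ModShriekPre Groth.Agent.Lib.ModSiteTensor Groth.Agent.Lib.ModShriekProj
  Groth.Agent.Lib.ModShriek Groth.Agent.Lib.MonLoc

variable {C : Type u} [SmallCategory C] {J : GrothendieckTopology C} {O : Sheaf J CommRingCat.{u}} {X : C}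

lemma three_squares {D : Type*} [Category D] {A₀ A₁ A₂ A₃ B₀ B₁ B₂ B₃ : D}
    {a : A₀ ⟶ B₀} {s' : B₀ ⟶ B₁} {p' : B₁ ⟶ B₂} {t' : B₂ ⟶ B₃}
    {s : A₀ ⟶ A₁} {p : A₁ ⟶ A₂} {t : A₂ ⟶ A₃} {b : A₁ ⟶ B₁} {c : A₂ ⟶ B₂} {d : A₃ ⟶ B₃}
    (ha : a ≫ s' = s ≫ b) (hb : b ≫ p' = p ≫ c) (hc : c ≫ t' = t ≫ d) :
    a ≫ s' ≫ p' ≫ t' = (s ≫ p ≫ t) ≫ d := by
  rw [← Category.assoc, ha, Category.assoc, ← Category.assoc b, hb, Category.assoc, hc]
  simp only [Category.assoc]

lemma tensorBi_obj_map (M : ModSite.Mod O) {N N' : ModSite.Mod O} (f : N ⟶ N') :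
    ((ModSite.tensorBi O).obj M).map f = (sh O).map ((fg O).obj M ◁ (fg O).map f) := rfl

lemma tensorBi_map_app {M M' : ModSite.Mod O} (g : M ⟶ M') (N : ModSite.Mod O) :
    ((ModSite.tensorBi O).map g).app N = (sh O).map ((fg O).map g ▷ (fg O).obj N) := rfl

lemma fg_map_restr_map {N N' : ModSite.Mod O} (f : N ⟶ N') :
    (fg (O.over X)).map ((ModSite.restr O X).map f) = (resPre O X).map ((fg O).map f) := rfl

lemma projSh_hom (P : ModSite.Mod (O.over X)) (N : ModSite.Mod O) :
    (projSh P N).hom =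
      (shShr O X).hom.app ((fg (O.over X)).obj P ⊗ (resPre O X).obj ((fg O).obj N)) ≫
        (sh O).map (projHom ((fg (O.over X)).obj P) ((fg O).obj N)) ≫
          (sh O).map (θ P ▷ (fg O).obj N) := rfl

/-- naturality of the projection formula in the second variable -/
lemma projSh_naturality_right (P : ModSite.Mod (O.over X)) {N N' : ModSite.Mod O} (f : N ⟶ N') :
    (ModSite.extZero O X).map (((ModSite.tensorBi (O.over X)).obj P).map ((ModSite.restr O X).map f)) ≫
        (projSh P N').hom =
      (projSh P N).hom ≫ ((ModSite.tensorBi O).obj ((ModSite.extZero O X).obj P)).map f := by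
  have ha := (shShr O X).hom.naturality
    ((fg (O.over X)).obj P ◁ (resPre O X).map ((fg O).map f))
  have hb := congrArg (sh O).map
    (projHom_naturality_right ((fg (O.over X)).obj P) ((fg O).map f))
  have hc := congrArg (sh O).map
    (whisker_exchange (θ P) ((fg O).map f))
  simp only [Functor.map_comp, Functor.comp_map] at ha hb hc
  exact three_squares ha hb hc

/-- naturality of the projection formula in the first variable -/
lemma projSh_naturality_left {P P' : ModSite.Mod (O.over X)} (g : P ⟶ P') (N : ModSite.Mod O) :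
    (ModSite.extZero O X).map (((ModSite.tensorBi (O.over X)).map g).app ((ModSite.restr O X).obj N)) ≫
        (projSh P' N).hom =
      (projSh P N).hom ≫ ((ModSite.tensorBi O).map ((ModSite.extZero O X).map g)).app N := by
  have ha := (shShr O X).hom.naturality
    ((fg (O.over X)).map g ▷ (resPre O X).obj ((fg O).obj N))
  have hb := congrArg (sh O).map
    (projHom_naturality_left ((fg (O.over X)).map g) ((fg O).obj N))
  have hc : (shr O X).map ((fg (O.over X)).map g) ▷ (fg O).obj N ≫ θ P' ▷ (fg O).obj N =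
      θ P ▷ (fg O).obj N ≫ (fg O).map ((ModSite.extZero O X).map g) ▷ (fg O).obj N := by
    rw [← comp_whiskerRight, θ_naturality, comp_whiskerRight]
  have hc' := congrArg (sh O).map hc
  simp only [Functor.map_comp, Functor.comp_map] at ha hb hc'
  exact three_squares ha hb hc'

end Groth.Agent.Lib.ModSiteProj
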