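/-
helper11: keystone ModSiteTensor, part F.  Flatness on ringed sites: criteria via monomorphisms, the unit is
flat, `j_!` preserves flatness, restriction preserves flatness, `O_U ⊗ M ≅ j_! j^* M`.
-/
import Groth.Agent.Lib.ModSiteProjNat
import Groth.Agent.Lib.ModShriekFaithful
import Groth.Agent.Lib.ModShriekRestr

universe u
open CategoryTheory Opposite Limits MonoidalCategory

namespace Groth.Agent.Lib.MonLoc.LocData

universe v₁ v₂ u₁ u₂
variable {C : Type u₁} {D : Type u₂} [Category.{v₁} C] [Category.{v₂} D] [MonoidalCategory C]
    [SymmetricCategory C] (L : LocData C D)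

lemma leftUnitor_hom_naturality {M M' : D} (f : M ⟶ M') :
    L.tensMap (𝟙 L.unit) f ≫ (L.leftUnitor M').hom = (L.leftUnitor M).hom ≫ f := by
  have h1 : (L.fg.map (𝟙 L.unit) ⊗ₘ L.fg.map f) ≫ (L.unitIso.hom ▷ L.fg.obj M' ≫ (λ_ (L.fg.obj M')).hom) =
      (L.unitIso.hom ▷ L.fg.obj M ≫ (λ_ (L.fg.obj M)).hom) ≫ L.fg.map f := by
    rw [CategoryTheory.Functor.map_id, id_tensorHom, ← Category.assoc, whisker_exchange, Category.assoc,
      MonoidalCategory.leftUnitor_naturality, Category.assoc]
  have h2 : L.a.map (L.fg.map f) ≫ L.adj.counit.app M' = L.adj.counit.app M ≫ f :=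
    L.adj.counit.naturality f
  simp only [leftUnitor, tensMap, counitIso, Iso.trans_hom, Functor.mapIso_hom, asIso_hom,
    whiskerRightIso_hom]
  rw [← Category.assoc, ← Functor.map_comp, h1, Functor.map_comp, Category.assoc, h2, Category.assoc]

end Groth.Agent.Lib.MonLoc.LocData

namespace Groth.Agent.Lib.ModSiteFlat

open Groth.Agent.Lib.ModSiteTensor Groth.Agent.Lib.ModShriek Groth.Agent.Lib.MonLoc
  Groth.Agent.Lib.ModSiteProj

variable {C : Type u} [SmallCategory C] {J : GrothendieckTopology C} (O : Sheaf J CommRingCat.{u})

/-- `F ⊗ - ≅ - ⊗ F` -/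
noncomputable def swapIso (F : ModSite.Mod O) :
    (ModSite.tensorBi O).obj F ≅ (ModSite.tensorBi O).flip.obj F :=
  objIso O F ≪≫
    Functor.isoWhiskerLeft (fg O) (Functor.isoWhiskerRight
      (BraidedCategory.tensorLeftIsoTensorRight ((fg O).obj F)) (sh O)) ≪≫
    (flipObjIso O F).symm

instance (F : ModSite.Mod O) : PreservesFiniteColimits ((ModSite.tensorBi O).obj F) :=
  ⟨fun K _ _ => inferInstance⟩

instance (F : ModSite.Mod O) : PreservesFiniteColimits ((ModSite.tensorBi O).flip.obj F) :=
  ⟨fun K _ _ => inferInstance⟩

instance (F : ModSite.Mod O) : ((ModSite.tensorBi O).obj F).PreservesZeroMorphisms := by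
  have : PreservesColimitsOfShape (Discrete PEmpty.{1}) ((ModSite.tensorBi O).obj F) := inferInstance
  have : PreservesColimit (Functor.empty.{0} _) ((ModSite.tensorBi O).obj F) := inferInstance
  exact Functor.preservesZeroMorphisms_of_preserves_initial_object

instance (F : ModSite.Mod O) : ((ModSite.tensorBi O).flip.obj F).PreservesZeroMorphisms := by
  have : PreservesColimitsOfShape (Discrete PEmpty.{1}) ((ModSite.tensorBi O).flip.obj F) :=
    inferInstance
  have : PreservesColimit (Functor.empty.{0} _) ((ModSite.tensorBi O).flip.obj F) := inferInstance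
  exact Functor.preservesZeroMorphisms_of_preserves_initial_object

attribute [local instance] preservesBinaryBiproducts_of_preservesBinaryCoproducts in
instance (F : ModSite.Mod O) : ((ModSite.tensorBi O).obj F).Additive :=
  Functor.additive_of_preservesBinaryBiproducts _

attribute [local instance] preservesBinaryBiproducts_of_preservesBinaryCoproducts in
instance (F : ModSite.Mod O) : ((ModSite.tensorBi O).flip.obj F).Additive :=
  Functor.additive_of_preservesBinaryBiproducts _

variable {O}

lemma isFlat_iff_preservesMono_flip (F : ModSite.Mod O) :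
    ModSite.IsFlat F ↔ ((ModSite.tensorBi O).flip.obj F).PreservesMonomorphisms := by
  rw [isFlat_iff]
  constructor
  · intro h
    have : PreservesLimitsOfShape WalkingCospan ((ModSite.tensorBi O).flip.obj F) := inferInstance
    exact preservesMonomorphisms_of_preservesLimitsOfShape _
  · intro h
    exact preservesFiniteLimits_of_preservesMonomorphisms _

lemma isFlat_iff_preservesMono (F : ModSite.Mod O) :
    ModSite.IsFlat F ↔ ((ModSite.tensorBi O).obj F).PreservesMonomorphisms := by
  rw [isFlat_iff_preservesMono_flip]
  constructor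
  · intro h
    exact Functor.PreservesMonomorphisms.of_iso (swapIso O F).symm
  · intro h
    exact Functor.PreservesMonomorphisms.of_iso (swapIso O F)

variable (O) in
/-- `O ⊗ - ≅ id` -/
noncomputable def unitTensIso : (ModSite.tensorBi O).obj (ModSite.unit O) ≅ 𝟭 (ModSite.Mod O) :=
  NatIso.ofComponents (fun M => (locData O).leftUnitor M) (by
    intro M M' f
    have h := (locData O).leftUnitor_hom_naturality f
    have e : ((ModSite.tensorBi O).obj (ModSite.unit O)).map f =
        (locData O).tensMap (𝟙 (locData O).unit) f := by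
      rw [tensorBi_obj_map]
      unfold LocData.tensMap
      rw [CategoryTheory.Functor.map_id, id_tensorHom]
      rfl
    rw [e]
    exact h)

variable (O) in
theorem isFlat_unit : ModSite.IsFlat (ModSite.unit O) := by
  rw [isFlat_iff_preservesMono]
  exact Functor.PreservesMonomorphisms.of_iso (unitTensIso O).symm

variable (X : C)

instance : (ModSite.extZero O X).PreservesMonomorphisms :=
  preservesMonomorphisms_of_adjunction J (ModSite.ringSh O) X _ (ModSite.extZeroAdj O X)

instance : (ModSite.extZero O X).Faithful :=
  faithful_of_adjunction J (ModSite.ringSh O) X _ (ModSite.extZeroAdj O X)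

instance : (ModSite.restr O X).PreservesMonomorphisms := by
  have : PreservesFiniteLimits (ModSite.restr O X) :=
    inferInstanceAs (PreservesFiniteLimits (SheafOfModules.overFunctor.{u} (ModSite.ringSh O) X))
  have : PreservesLimitsOfShape WalkingCospan (ModSite.restr O X) := inferInstance
  exact preservesMonomorphisms_of_preservesLimitsOfShape _

/-- extension by zero preserves flatness (S6146) -/
theorem isFlat_extZero (M : ModSite.Mod (O.over X)) (hM : ModSite.IsFlat M) :
    ModSite.IsFlat ((ModSite.extZero O X).obj M) := by
  rw [isFlat_iff_preservesMono] at hM ⊢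
  refine ⟨fun {N N'} f hf => ?_⟩
  have h1 : Mono ((ModSite.restr O X).map f) := inferInstance
  have h2 : Mono (((ModSite.tensorBi (O.over X)).obj M).map ((ModSite.restr O X).map f)) :=
    inferInstance
  have h3 : Mono ((ModSite.extZero O X).map
      (((ModSite.tensorBi (O.over X)).obj M).map ((ModSite.restr O X).map f))) := inferInstance
  have h := projSh_naturality_right M f
  have h4 : Mono ((projSh M N).hom ≫
      ((ModSite.tensorBi O).obj ((ModSite.extZero O X).obj M)).map f) := by
    rw [← h]
    infer_instance
  have e : ((ModSite.tensorBi O).obj ((ModSite.extZero O X).obj M)).map f =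
      (projSh M N).inv ≫ ((projSh M N).hom ≫
        ((ModSite.tensorBi O).obj ((ModSite.extZero O X).obj M)).map f) := by
    rw [Iso.inv_hom_id_assoc]
  rw [e]
  infer_instance

/-- the free module on an object is flat (S6146) -/
theorem isFlat_freeOn : ModSite.IsFlat (ModSite.freeOn O X) :=
  isFlat_extZero X _ (isFlat_unit (O.over X))

/-- restriction preserves flatness (S6147) -/
theorem isFlat_restr (M : ModSite.Mod O) (hM : ModSite.IsFlat M) :
    ModSite.IsFlat ((ModSite.restr O X).obj M) := by
  rw [isFlat_iff_preservesMono_flip] at hM ⊢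
  refine ⟨fun {P P'} g hg => ?_⟩
  change Mono (((ModSite.tensorBi (O.over X)).map g).app ((ModSite.restr O X).obj M))
  have h1 : Mono ((ModSite.extZero O X).map g) := inferInstance
  have h2 : Mono (((ModSite.tensorBi O).map ((ModSite.extZero O X).map g)).app M) :=
    inferInstanceAs (Mono (((ModSite.tensorBi O).flip.obj M).map ((ModSite.extZero O X).map g)))
  have h := projSh_naturality_left g M
  have h3 : Mono ((ModSite.extZero O X).map
      (((ModSite.tensorBi (O.over X)).map g).app ((ModSite.restr O X).obj M)) ≫
        (projSh P' M).hom) := by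
    rw [h]
    infer_instance
  have h4 : Mono ((ModSite.extZero O X).map
      (((ModSite.tensorBi (O.over X)).map g).app ((ModSite.restr O X).obj M))) :=
    mono_of_mono _ (projSh P' M).hom
  exact (ModSite.extZero O X).mono_of_mono_map h4

/-- `O_X ⊗ M ≅ j_! j^* M` (S6155) -/
noncomputable def freeOnTensorIso (M : ModSite.Mod O) :
    ((ModSite.tensorBi O).obj (ModSite.freeOn O X)).obj M ≅
      (ModSite.extZero O X).obj ((ModSite.restr O X).obj M) :=
  (projSh (ModSite.unit (O.over X)) M).symm ≪≫
    (ModSite.extZero O X).mapIso ((unitTensIso (O.over X)).app ((ModSite.restr O X).obj M))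

end Groth.Agent.Lib.ModSiteFlat
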