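import Mathlib.CategoryTheory.Abelian.GrothendieckAxioms.Colim
import Mathlib.CategoryTheory.Abelian.FunctorCategory
import Mathlib.Algebra.Homology.HomologicalComplexLimits
import Mathlib.Algebra.Homology.HomologicalComplexAbelian
import Mathlib.Algebra.Homology.ShortComplex.HomologicalComplex
import Mathlib.Algebra.Homology.ShortComplex.ExactFunctor
import Mathlib.Algebra.Homology.ShortComplex.Abelian

/-!
# Homology commutes with exact colimits (helper35)

If colimits of shape `J` are exact in the abelian category `C` (e.g. `J` filtered and `C` AB5),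
then the homology functors `HomologicalComplex C c ⥤ C` preserve colimits of shape `J`.

General tools: a functor which is pointwise the kernel (resp. cokernel) of a natural transformation
between functors preserving the colimit of `D : J ⥤ 𝒦` preserves this colimit as well.
-/

set_option autoImplicit false

universe v v' u u' w w'

open CategoryTheory Limits

namespace Groth.Agent.Lib.HomologyFilteredColim

variable {C : Type u} [Category.{v} C] [Abelian C] {J : Type u'} [Category.{v'} J]

/-- Exactness in a functor category can be checked pointwise. -/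
lemma exact_of_evaluation (S : ShortComplex (J ⥤ C))
    (h : ∀ j, (S.map ((evaluation J C).obj j)).Exact) : S.Exact := by
  rw [ShortComplex.exact_iff_isZero_homology, Functor.isZero_iff]
  intro j
  have e := S.mapHomologyIso ((evaluation J C).obj j)
  exact IsZero.of_iso ((ShortComplex.exact_iff_isZero_homology _).mp (h j)) e.symm

variable [HasColimitsOfShape J C] [HasExactColimitsOfShape J C]
  {𝒦 : Type w} [Category.{w'} 𝒦]

/-- A pointwise kernel of a natural transformation between functors preserving the colimit of `D`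
preserves the colimit of `D`, when colimits of shape `J` are exact. -/
theorem preservesColimit_of_kernel {Z A B : 𝒦 ⥤ C} (ι : Z ⟶ A) (β : A ⟶ B)
    (w : ∀ K, ι.app K ≫ β.app K = 0) (hex : ∀ K, (ShortComplex.mk _ _ (w K)).Exact)
    (hm : ∀ K, Mono (ι.app K)) (D : J ⥤ 𝒦) [PreservesColimit D A] [PreservesColimit D B] :
    PreservesColimit D Z := by
  constructor
  intro s hs
  let S : ShortComplex (J ⥤ C) :=
    ShortComplex.mk (Functor.whiskerLeft D ι) (Functor.whiskerLeft D β) (by
      ext j
      exact w (D.obj j))
  have hS : S.Exact := exact_of_evaluation S (fun j => hex (D.obj j))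
  have hc₁ := colimit.isColimit (D ⋙ Z)
  have hc₂ := isColimitOfPreserves A hs
  have hc₃ := isColimitOfPreserves B hs
  let f : (colimit.cocone (D ⋙ Z)).pt ⟶ (A.mapCocone s).pt :=
    hc₁.desc ((Cocone.precompose (Functor.whiskerLeft D ι)).obj (A.mapCocone s))
  have hf : ∀ j, (colimit.cocone (D ⋙ Z)).ι.app j ≫ f = S.f.app j ≫ (A.mapCocone s).ι.app j :=
    fun j => hc₁.fac _ j
  have hg : ∀ j, (A.mapCocone s).ι.app j ≫ β.app s.pt = S.g.app j ≫ (B.mapCocone s).ι.app j :=
    fun j => β.naturality (s.ι.app j)
  have hex' := colim.exact_mapShortComplex hS hc₁ hc₂ hc₃ f (β.app s.pt) hf hg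
  have : ∀ j, Mono (S.f.app j) := fun j => hm (D.obj j)
  have : Mono S.f := NatTrans.mono_of_mono_app _
  have hmono : Mono f := colim.map_mono' S.f hc₁ hc₂ f hf
  have hZ : (ShortComplex.mk (ι.app s.pt) (β.app s.pt) (w s.pt)).Exact := hex s.pt
  have : Mono (colim.mapShortComplex S hc₁ (A.mapCocone s) (B.mapCocone s) f (β.app s.pt)
      hf hg).f := hmono
  have : Mono (ShortComplex.mk (ι.app s.pt) (β.app s.pt) (w s.pt)).f := hm s.pt
  let θ : (colimit.cocone (D ⋙ Z)).pt ≅ Z.obj s.pt :=
    IsLimit.conePointUniqueUpToIso hex'.fIsKernel hZ.fIsKernel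
  have hθ : θ.hom ≫ ι.app s.pt = f :=
    IsLimit.conePointUniqueUpToIso_hom_comp hex'.fIsKernel hZ.fIsKernel WalkingParallelPair.zero
  refine ⟨IsColimit.ofIsoColimit hc₁ (Cocone.ext θ (fun j => ?_))⟩
  have := hm s.pt
  rw [← cancel_mono (ι.app s.pt), Category.assoc, hθ, hf j]
  exact (ι.naturality (s.ι.app j)).symm

/-- A pointwise cokernel of a natural transformation between functors preserving the colimit of
`D` preserves the colimit of `D`, when colimits of shape `J` are exact. -/
theorem preservesColimit_of_cokernel {A Z H : 𝒦 ⥤ C} (α : A ⟶ Z) (π : Z ⟶ H)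
    (w : ∀ K, α.app K ≫ π.app K = 0) (hex : ∀ K, (ShortComplex.mk _ _ (w K)).Exact)
    (he : ∀ K, Epi (π.app K)) (D : J ⥤ 𝒦) [PreservesColimit D A] [PreservesColimit D Z] :
    PreservesColimit D H := by
  constructor
  intro s hs
  let S : ShortComplex (J ⥤ C) :=
    ShortComplex.mk (Functor.whiskerLeft D α) (Functor.whiskerLeft D π) (by
      ext j
      exact w (D.obj j))
  have hS : S.Exact := exact_of_evaluation S (fun j => hex (D.obj j))
  have hc₁ := isColimitOfPreserves A hs
  have hc₂ := isColimitOfPreserves Z hs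
  have hc₃ := colimit.isColimit (D ⋙ H)
  let g : (Z.mapCocone s).pt ⟶ (colimit.cocone (D ⋙ H)).pt :=
    hc₂.desc ((Cocone.precompose (Functor.whiskerLeft D π)).obj (colimit.cocone (D ⋙ H)))
  have hg : ∀ j, (Z.mapCocone s).ι.app j ≫ g = S.g.app j ≫ (colimit.cocone (D ⋙ H)).ι.app j :=
    fun j => hc₂.fac _ j
  have hf : ∀ j, (A.mapCocone s).ι.app j ≫ α.app s.pt = S.f.app j ≫ (Z.mapCocone s).ι.app j :=
    fun j => α.naturality (s.ι.app j)
  have hex' := colim.exact_mapShortComplex hS hc₁ hc₂ hc₃ (α.app s.pt) g hf hg
  have : ∀ j, Epi (S.g.app j) := fun j => he (D.obj j)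
  have hepi : Epi g := colim.map_epi' S.g (Z.mapCocone s) hc₃ g hg
  have hH : (ShortComplex.mk (α.app s.pt) (π.app s.pt) (w s.pt)).Exact := hex s.pt
  have : Epi (colim.mapShortComplex S hc₁ (Z.mapCocone s) (colimit.cocone (D ⋙ H)) (α.app s.pt) g
      hf hg).g := hepi
  have : Epi (ShortComplex.mk (α.app s.pt) (π.app s.pt) (w s.pt)).g := he s.pt
  let θ : H.obj s.pt ≅ (colimit.cocone (D ⋙ H)).pt :=
    IsColimit.coconePointUniqueUpToIso hH.gIsCokernel hex'.gIsCokernel
  have hθ : π.app s.pt ≫ θ.hom = g :=
    IsColimit.comp_coconePointUniqueUpToIso_hom hH.gIsCokernel hex'.gIsCokernel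
      WalkingParallelPair.one
  refine ⟨IsColimit.ofIsoColimit hc₃ (Cocone.ext θ.symm (fun j => ?_))⟩
  have := he (D.obj j)
  rw [Iso.symm_hom, Iso.comp_inv_eq, ← cancel_epi (π.app (D.obj j))]
  have h1 : π.app (D.obj j) ≫ (H.mapCocone s).ι.app j ≫ θ.hom =
      (Z.mapCocone s).ι.app j ≫ g := by
    rw [← hθ, ← Category.assoc, ← Category.assoc]
    congr 1
    exact (π.naturality (s.ι.app j)).symm
  rw [h1, hg j]
  rfl

section homology

variable {ι : Type*} (c : ComplexShape ι) (i : ι)

/-- `K.pOpcycles i` as a natural transformation. -/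
noncomputable def natTransPOpcycles :
    HomologicalComplex.eval C c i ⟶ HomologicalComplex.opcyclesFunctor C c i where
  app K := K.pOpcycles i
  naturality _ _ φ := (HomologicalComplex.p_opcyclesMap φ i).symm

/-- `K.fromOpcycles i j` as a natural transformation. -/
noncomputable def natTransFromOpcycles (j : ι) :
    HomologicalComplex.opcyclesFunctor C c i ⟶ HomologicalComplex.eval C c j where
  app K := K.fromOpcycles i j
  naturality K L φ := by
    change HomologicalComplex.opcyclesMap φ i ≫ L.fromOpcycles i j =
      K.fromOpcycles i j ≫ φ.f j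
    rw [← cancel_epi (K.pOpcycles i), HomologicalComplex.p_opcyclesMap_assoc,
      HomologicalComplex.p_fromOpcycles, HomologicalComplex.p_fromOpcycles_assoc, φ.comm]

variable (D : J ⥤ HomologicalComplex C c)

instance preservesColimit_opcyclesFunctor :
    PreservesColimit D (HomologicalComplex.opcyclesFunctor C c i) :=
  preservesColimit_of_cokernel (HomologicalComplex.dNatTrans (V := C) (c := c) (c.prev i) i)
    (natTransPOpcycles c i) (fun K => K.d_pOpcycles _ _)
    (fun K => ShortComplex.exact_of_g_is_cokernel _ (K.opcyclesIsCokernel (c.prev i) i rfl))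
    (fun K => inferInstanceAs (Epi (K.pOpcycles i))) D

instance preservesColimit_homologyFunctor :
    PreservesColimit D (HomologicalComplex.homologyFunctor C c i) :=
  preservesColimit_of_kernel (HomologicalComplex.natTransHomologyι C c i)
    (natTransFromOpcycles c i (c.next i)) (fun K => K.homologyι_comp_fromOpcycles _ _)
    (fun K => ShortComplex.exact_of_f_is_kernel _ (K.homologyIsKernel i (c.next i) rfl))
    (fun K => inferInstanceAs (Mono (K.homologyι i))) D

instance preservesColimitsOfShape_homologyFunctor :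
    PreservesColimitsOfShape J (HomologicalComplex.homologyFunctor C c i) where

end homology

end Groth.Agent.Lib.HomologyFilteredColim
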