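/-
helper11: keystone ModSiteTensor, part F2.  Every module on a ringed site is a quotient of a direct sum of
modules `j_{U!} O_U`; such direct sums are flat, hence there are enough flat modules (S9094).
-/
import Groth.Agent.Lib.ModSiteFlat
import Groth.Agent.Lib.ModSiteFreeOn
import Mathlib.Algebra.Category.Grp.AB

universe u
open CategoryTheory Opposite Limits

namespace Groth.Agent.Lib.ModSiteFlat

open Groth.Agent.Lib.ModSiteTensor Groth.Agent.Lib.ModSiteFreeOn

variable {C : Type u} [SmallCategory C] {J : GrothendieckTopology C} (O : Sheaf J CommRingCat.{u})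

/-- coproducts of flat modules are flat -/
theorem isFlat_sigma {ι : Type u} (F : ι → ModSite.Mod O) (hF : ∀ i, ModSite.IsFlat (F i)) :
    ModSite.IsFlat (∐ F) := by
  have : HasExactColimitsOfShape (Discrete ι) AddCommGrpCat.{u} := inferInstance
  have : HasExactColimitsOfShape (Discrete ι) (ModSite.Mod O) := hasExactColimitsOfShape O (Discrete ι)
  exact isFlat_of_isColimit O (Discrete.functor F) (fun i => hF i.as) _
    (colimit.isColimit (Discrete.functor F))

/-- the canonical index set of sections of `F` -/
abbrev Sec (F : ModSite.Mod O) : Type u := Σ U : C, F.val.obj (op U)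

/-- the canonical cover of `F` by modules `j_{U!} O_U` -/
noncomputable def freeCover (F : ModSite.Mod O) : (∐ fun s : Sec O F => ModSite.freeOn O s.1) ⟶ F :=
  Sigma.desc fun s => (freeOnHomEquiv O s.1 F).symm s.2

instance (F : ModSite.Mod O) : Epi (freeCover O F) := by
  refine ⟨fun {Q} a b hab => ?_⟩
  apply (SheafOfModules.fullyFaithfulForget _).map_injective
  apply Groth.Agent.Lib.ModShriekPre.hom_ext_apply
  intro U x
  have h := congrArg (fun k => Sigma.ι (fun s : Sec O F => ModSite.freeOn O s.1) ⟨U.unop, x⟩ ≫ k) hab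
  simp only [freeCover, Sigma.ι_desc_assoc] at h
  have h2 := congrArg (freeOnHomEquiv O U.unop Q) h
  rw [freeOnHomEquiv_comp, freeOnHomEquiv_comp, Equiv.apply_symm_apply] at h2
  exact h2

theorem exists_epi_of_isFlat (F : ModSite.Mod O) :
    ∃ (G : ModSite.Mod O) (π : G ⟶ F), ModSite.IsFlat G ∧ Epi π :=
  ⟨_, freeCover O F, isFlat_sigma O _ (fun s => isFlat_freeOn s.1), inferInstance⟩

end Groth.Agent.Lib.ModSiteFlat
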