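/-
helper11: keystone ModSiteTensor, part F3.  Flatness and short exact sequences on ringed sites.
-/
import Groth.Agent.Lib.AbTensorFlat
import Groth.Agent.Lib.ModSiteEnoughFlat

universe u
open CategoryTheory Opposite Limits

namespace Groth.Agent.Lib.ModSiteFlat

open Groth.Agent.Lib.ModSiteTensor Groth.Agent.Lib.AbTensorFlat

variable {C : Type u} [SmallCategory C] {J : GrothendieckTopology C} (O : Sheaf J CommRingCat.{u})

theorem enoughFlats : EnoughFlats (ModSite.tensorBi O) := fun G => by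
  obtain ⟨P, π, hP, hπ⟩ := exists_epi_of_isFlat O G
  exact ⟨P, π, hπ, (isFlat_iff_preservesMono_flip P).1 hP⟩

variable {O}

/-- S9081 -/
theorem shortExact_map_flip_of_isFlat (S : ShortComplex (ModSite.Mod O)) (hS : S.ShortExact)
    (hF : ModSite.IsFlat S.X₃) (G : ModSite.Mod O) :
    (S.map ((ModSite.tensorBi O).flip.obj G)).ShortExact :=
  shortExact_map_flip (enoughFlats O) S hS ((isFlat_iff_preservesMono _).1 hF) G

/-- S9082 -/
theorem isFlat_X₂ (S : ShortComplex (ModSite.Mod O)) (hS : S.ShortExact)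
    (h₁ : ModSite.IsFlat S.X₁) (h₃ : ModSite.IsFlat S.X₃) : ModSite.IsFlat S.X₂ :=
  (isFlat_iff_preservesMono _).2 (preservesMono_X₂ (enoughFlats O) S hS
    ((isFlat_iff_preservesMono _).1 h₁) ((isFlat_iff_preservesMono _).1 h₃))

/-- S9083 -/
theorem isFlat_X₁ (S : ShortComplex (ModSite.Mod O)) (hS : S.ShortExact)
    (h₂ : ModSite.IsFlat S.X₂) (h₃ : ModSite.IsFlat S.X₃) : ModSite.IsFlat S.X₁ :=
  (isFlat_iff_preservesMono _).2 (preservesMono_X₁ (enoughFlats O) S hS
    ((isFlat_iff_preservesMono _).1 h₂) ((isFlat_iff_preservesMono _).1 h₃))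

end Groth.Agent.Lib.ModSiteFlat
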