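/-
helper66: on a ringed site, tensoring a short exact sequence of complexes with flat third terms
by any complex `F` stays short exact; K-flat two-out-of-three (S9057).
-/
import Groth.Prelude.Def_KFlatSite
import Groth.Agent.Lib.SESAcyclic66
import Groth.Agent.Lib.ModSiteFlatSES

universe u
open CategoryTheory Limits

namespace Groth.Agent.Lib.ModSiteKFlatSES66

open Groth.Agent.Lib.SESAcyclic66 Groth.Agent.Lib.ModSiteFlat

variable {C : Type u} [SmallCategory C] {J : GrothendieckTopology C} (O : Sheaf J CommRingCat.{u})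

/-- AB4 for coproducts indexed by types in universe 0 -/
theorem ab4 (I : Type) : HasExactColimitsOfShape (Discrete I) (ModSite.Mod O) := by
  have : HasExactColimitsOfShape (Discrete (ULift.{u} I)) AddCommGrpCat.{u} := inferInstance
  have := Groth.Agent.Lib.ModSiteTensor.hasExactColimitsOfShape O (Discrete (ULift.{u} I))
  exact HasExactColimitsOfShape.of_domain_equivalence (ModSite.Mod O)
    (Discrete.equivalence (Equiv.ulift.{u, 0} : ULift.{u} I ≃ I))

variable {O}

/-- left-tensor version of `shortExact_map_flip_of_isFlat` -/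
theorem shortExact_map_of_isFlat (S : ShortComplex (ModSite.Mod O)) (hS : S.ShortExact)
    (hF : ModSite.IsFlat S.X₃) (G : ModSite.Mod O) :
    (S.map ((ModSite.tensorBi O).obj G)).ShortExact :=
  ShortComplex.shortExact_of_iso (S.mapNatIso (swapIso O G).symm)
    (shortExact_map_flip_of_isFlat S hS hF G)

instance (F : CochainComplex (ModSite.Mod O) ℤ) :
    ((ModSite.tensorCx O).obj F).PreservesZeroMorphisms where
  map_zero K L := by
    refine HomologicalComplex.hom_ext _ _ (fun n => ?_)
    apply HomologicalComplex.mapBifunctor.hom_ext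
    intro p q h
    have := HomologicalComplex.ι_mapBifunctorMap (𝟙 F) (0 : K ⟶ L) (ModSite.tensorBi O)
      (ComplexShape.up ℤ) p q n h
    refine this.trans ?_
    simp only [HomologicalComplex.zero_f, Functor.map_zero, zero_comp, comp_zero]
    exact comp_zero.symm

theorem tensorCx_shortExact (F : CochainComplex (ModSite.Mod O) ℤ)
    (S : ShortComplex (CochainComplex (ModSite.Mod O) ℤ)) (hS : S.ShortExact)
    (h3 : ∀ n : ℤ, ModSite.IsFlat (S.X₃.X n)) :
    (S.map ((ModSite.tensorCx O).obj F)).ShortExact := by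
  apply HomologicalComplex.shortExact_of_degreewise_shortExact
  intro n
  have := ab4 O ((ComplexShape.π (ComplexShape.up ℤ) (ComplexShape.up ℤ) (ComplexShape.up ℤ)) ⁻¹' {n})
  have hq : ∀ q : ℤ, (S.map (HomologicalComplex.eval _ _ q)).ShortExact := fun q =>
    (HomologicalComplex.shortExact_iff_degreewise_shortExact S).1 hS q
  refine shortExact_of_cofans
    (ι := (ComplexShape.π (ComplexShape.up ℤ) (ComplexShape.up ℤ) (ComplexShape.up ℤ)) ⁻¹' {n})
    (X₁ := fun i => ((ModSite.tensorBi O).obj (F.X i.1.1)).obj (S.X₁.X i.1.2))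
    (X₂ := fun i => ((ModSite.tensorBi O).obj (F.X i.1.1)).obj (S.X₂.X i.1.2))
    (X₃ := fun i => ((ModSite.tensorBi O).obj (F.X i.1.1)).obj (S.X₃.X i.1.2))
    (fun i => ((ModSite.tensorBi O).obj (F.X i.1.1)).map (S.f.f i.1.2))
    (fun i => ((ModSite.tensorBi O).obj (F.X i.1.1)).map (S.g.f i.1.2))
    (fun i => ((S.map (HomologicalComplex.eval _ _ i.1.2)).map
      ((ModSite.tensorBi O).obj (F.X i.1.1))).zero)
    (fun i => shortExact_map_of_isFlat _ (hq i.1.2) (h3 i.1.2) (F.X i.1.1))
    (GradedObject.isColimitCofanMapObj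
      ((((ModSite.tensorBi O).mapBifunctorHomologicalComplex _ _).obj F).obj S.X₁).toGradedObject
      (ComplexShape.π (ComplexShape.up ℤ) (ComplexShape.up ℤ) (ComplexShape.up ℤ)) n)
    (GradedObject.isColimitCofanMapObj
      ((((ModSite.tensorBi O).mapBifunctorHomologicalComplex _ _).obj F).obj S.X₂).toGradedObject
      (ComplexShape.π (ComplexShape.up ℤ) (ComplexShape.up ℤ) (ComplexShape.up ℤ)) n)
    (GradedObject.isColimitCofanMapObj
      ((((ModSite.tensorBi O).mapBifunctorHomologicalComplex _ _).obj F).obj S.X₃).toGradedObject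
      (ComplexShape.π (ComplexShape.up ℤ) (ComplexShape.up ℤ) (ComplexShape.up ℤ)) n) _ _ ?_ ?_ _
  · rintro ⟨⟨p, q⟩, h⟩
    have h' : (ComplexShape.up ℤ).π (ComplexShape.up ℤ) (ComplexShape.up ℤ) (p, q) = n := h
    have := HomologicalComplex.ι_mapBifunctorMap (𝟙 F) S.f (ModSite.tensorBi O) (ComplexShape.up ℤ)
      p q n h'
    refine this.trans ?_
    rw [HomologicalComplex.id_f, CategoryTheory.Functor.map_id, NatTrans.id_app, Category.id_comp]
    rfl
  · rintro ⟨⟨p, q⟩, h⟩
    have h' : (ComplexShape.up ℤ).π (ComplexShape.up ℤ) (ComplexShape.up ℤ) (p, q) = n := h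
    have := HomologicalComplex.ι_mapBifunctorMap (𝟙 F) S.g (ModSite.tensorBi O) (ComplexShape.up ℤ)
      p q n h'
    refine this.trans ?_
    rw [HomologicalComplex.id_f, CategoryTheory.Functor.map_id, NatTrans.id_app, Category.id_comp]
    rfl

end Groth.Agent.Lib.ModSiteKFlatSES66
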