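/-
helper66: K-flatness on a ringed site: zero complexes, complexes concentrated in one degree with flat term,
iso-invariance, colimits along ℕ, and bounded above complexes of flat modules (S9058).
-/
import Groth.Agent.Lib.ModSiteKFlatSES66
import Groth.Agent.Lib.SigmaGE66
import Groth.Agent.Lib.BifunctorColim35
import Groth.Agent.Lib.HomologyFilteredColim
import Groth.Agent.Lib.BifunctorCone66

universe u
open CategoryTheory Limits HomologicalComplex

namespace Groth.Agent.Lib.ModSiteKFlatBdd66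

open Groth.Agent.Lib.SESAcyclic66 Groth.Agent.Lib.ModSiteFlat Groth.Agent.Lib.SigmaGE66
  Groth.Agent.Lib.ModSiteKFlatSES66

variable {C : Type u} [SmallCategory C] {J : GrothendieckTopology C} {O : Sheaf J CommRingCat.{u}}

abbrev Cx (O : Sheaf J CommRingCat.{u}) := CochainComplex (ModSite.Mod O) ℤ

/-- the total tensor complex -/
noncomputable abbrev T (F K : Cx O) : Cx O := ((ModSite.tensorCx O).obj F).obj K

lemma isZero_tensor_right (A : ModSite.Mod O) {B : ModSite.Mod O} (hB : IsZero B) :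
    IsZero (((ModSite.tensorBi O).obj A).obj B) :=
  Functor.map_isZero _ hB

/-- a degree of the total complex vanishes if all summands vanish -/
lemma isZero_T_X (F K : Cx O) (n : ℤ)
    (h : ∀ p q : ℤ, p + q = n → IsZero (((ModSite.tensorBi O).obj (F.X p)).obj (K.X q))) :
    IsZero ((T F K).X n) := by
  rw [IsZero.iff_id_eq_zero]
  apply HomologicalComplex.mapBifunctor.hom_ext
  intro p q hpq
  exact (h p q hpq).eq_of_src _ _

/-- a complex with zero terms is K-flat -/
theorem isKFlat_of_isZero_X (K : Cx O) (hK : ∀ n, IsZero (K.X n)) : ModSite.IsKFlat K := by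
  intro F _ i
  have hz : ∀ n, IsZero ((T F K).X n) := fun n =>
    isZero_T_X F K n (fun p q _ => isZero_tensor_right _ (hK q))
  rw [← HomologicalComplex.exactAt_iff_isZero_homology]
  exact ShortComplex.exact_of_isZero_X₂ _ (hz i)

/-- K-flatness is invariant under isomorphism -/
theorem isKFlat_of_iso {K K' : Cx O} (e : K ≅ K') (hK : ModSite.IsKFlat K) : ModSite.IsKFlat K' := by
  intro F hF i
  have e' : T F K ≅ T F K' := ((ModSite.tensorCx O).obj F).mapIso e
  exact IsZero.of_iso (hK F hF i)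
    ((HomologicalComplex.homologyFunctor _ _ i).mapIso e').symm


variable (O) in
/-- AB5 along `ℕ` in `Mod O` -/
theorem hasExactColimitsOfShape_nat : HasExactColimitsOfShape ℕ (ModSite.Mod O) := by
  let e : ℕ ≌ ULiftHom.{u} (ULift.{u} ℕ) := ULiftHomULiftCategory.equiv.{u, u} ℕ
  have : IsFiltered (ULiftHom.{u} (ULift.{u} ℕ)) := IsFiltered.of_equivalence e
  have : HasExactColimitsOfShape (ULiftHom.{u} (ULift.{u} ℕ)) AddCommGrpCat.{u} := inferInstance
  have := Groth.Agent.Lib.ModSiteTensor.hasExactColimitsOfShape O (ULiftHom.{u} (ULift.{u} ℕ))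
  exact HasExactColimitsOfShape.of_domain_equivalence (ModSite.Mod O) e.symm

instance (X : ModSite.Mod O) : PreservesColimitsOfShape ℕ ((ModSite.tensorBi O).obj X) := by
  have : PreservesColimitsOfSize.{0, 0} ((ModSite.tensorBi O).obj X) :=
    preservesColimitsOfSize_shrink.{0, u, 0, u} _
  infer_instance

lemma isZero_of_isColimit_of_isZero {J' A : Type*} [Category J'] [Category A] [HasZeroMorphisms A]
    {D : J' ⥤ A} {c : Cocone D} (hc : IsColimit c) (h : ∀ j, IsZero (D.obj j)) : IsZero c.pt := by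
  rw [IsZero.iff_id_eq_zero]
  apply hc.hom_ext
  intro j
  exact (h j).eq_of_src _ _

/-- a sequential colimit of K-flat complexes is K-flat -/
theorem isKFlat_of_isColimit_nat {D : ℕ ⥤ Cx O} {c : Cocone D} (hc : IsColimit c)
    (h : ∀ n, ModSite.IsKFlat (D.obj n)) : ModSite.IsKFlat c.pt := by
  intro F hF i
  have := hasExactColimitsOfShape_nat O
  haveI : PreservesColimitsOfShape ℕ ((ModSite.tensorCx O).obj F) :=
    Groth.Agent.Lib.BifunctorColim35.preservesColimitsOfShape_map₂ (ModSite.tensorBi O) ℕ F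
  have hc1 : IsColimit (((ModSite.tensorCx O).obj F).mapCocone c) :=
    isColimitOfPreserves _ hc
  have hc2 := isColimitOfPreserves
    (HomologicalComplex.homologyFunctor (ModSite.Mod O) (ComplexShape.up ℤ) i) hc1
  exact isZero_of_isColimit_of_isZero hc2 (fun n => h n F hF i)


/-- the inclusion of a summand is an isomorphism if all other summands vanish -/
lemma isIso_ιMapBifunctor (F K : Cx O) (p q n : ℤ) (h : p + q = n)
    (hz : ∀ p' q' : ℤ, p' + q' = n → ¬ (p' = p ∧ q' = q) →
      IsZero (((ModSite.tensorBi O).obj (F.X p')).obj (K.X q'))) :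
    IsIso (CochainComplex.ιMapBifunctor F K (ModSite.tensorBi O) p q n h) := by
  classical
  let r : (T F K).X n ⟶ ((ModSite.tensorBi O).obj (F.X p)).obj (K.X q) :=
    HomologicalComplex.mapBifunctorDesc (K₁ := F) (K₂ := K) (F := ModSite.tensorBi O)
      (c := ComplexShape.up ℤ) (j := n)
      (fun p' q' _ => if hh : p' = p ∧ q' = q then eqToHom (by rw [hh.1, hh.2]) else 0)
  refine ⟨r, ?_, ?_⟩
  · dsimp only [r]
    erw [HomologicalComplex.ι_mapBifunctorDesc]
    rw [dif_pos ⟨rfl, rfl⟩]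
    rfl
  · apply HomologicalComplex.mapBifunctor.hom_ext
    intro p' q' h'
    by_cases hh : p' = p ∧ q' = q
    · obtain ⟨rfl, rfl⟩ := hh
      dsimp only [r]
      erw [HomologicalComplex.ι_mapBifunctorDesc_assoc]
      rw [dif_pos ⟨rfl, rfl⟩]
      simp
    · exact (hz p' q' h' hh).eq_of_src _ _

/-- a complex concentrated in one degree, with flat term, is K-flat -/
theorem isKFlat_of_single_degree (Q : Cx O) (a : ℤ) (hQ : ∀ q, q ≠ a → IsZero (Q.X q))
    (hfl : ModSite.IsFlat (Q.X a)) : ModSite.IsKFlat Q := by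
  intro F hF n
  obtain ⟨p, rfl⟩ : ∃ p, n = p + 1 + a := ⟨n - 1 - a, by omega⟩
  rw [← HomologicalComplex.exactAt_iff_isZero_homology,
    HomologicalComplex.exactAt_iff' _ (p + a) (p + 1 + a) (p + 1 + 1 + a) (by simp; omega)
      (by simp; omega)]
  have := hfl.1
  have := hfl.2
  have hex : (F.sc' p (p + 1) (p + 1 + 1)).Exact :=
    (F.exactAt_iff' p (p + 1) (p + 1 + 1) (by simp) (by simp)).1
      ((HomologicalComplex.exactAt_iff_isZero_homology _ _).2 (hF (p + 1)))
  have hex' := hex.map ((ModSite.tensorBi O).flip.obj (Q.X a))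
  have hz : ∀ (p₀ n₀ : ℤ) (h₀ : p₀ + a = n₀) (p' q' : ℤ), p' + q' = n₀ → ¬ (p' = p₀ ∧ q' = a) →
      IsZero (((ModSite.tensorBi O).obj (F.X p')).obj (Q.X q')) := by
    intro p₀ n₀ h₀ p' q' h' hne
    refine isZero_tensor_right _ (hQ q' ?_)
    intro hq
    exact hne ⟨by omega, hq⟩
  have i₁ := isIso_ιMapBifunctor F Q p a (p + a) rfl (hz p (p + a) rfl)
  have i₂ := isIso_ιMapBifunctor F Q (p + 1) a (p + 1 + a) rfl (hz (p + 1) (p + 1 + a) rfl)
  have i₃ := isIso_ιMapBifunctor F Q (p + 1 + 1) a (p + 1 + 1 + a) rfl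
    (hz (p + 1 + 1) (p + 1 + 1 + a) rfl)
  have hd0 : Q.d a (a + 1) = 0 := (hQ (a + 1) (by omega)).eq_of_tgt _ _
  have c₁ := Groth.Agent.Lib.BifunctorCone66.ι_d (ModSite.tensorBi O) Q F p a (p + a) rfl
    (p + 1 + a) (by omega)
  have c₂ := Groth.Agent.Lib.BifunctorCone66.ι_d (ModSite.tensorBi O) Q F (p + 1) a (p + 1 + a) rfl
    (p + 1 + 1 + a) (by omega)
  rw [hd0, Functor.map_zero, zero_comp, smul_zero, add_zero] at c₁ c₂
  refine ShortComplex.exact_of_iso (ShortComplex.isoMk
    (@asIso _ _ _ _ _ i₁) (@asIso _ _ _ _ _ i₂) (@asIso _ _ _ _ _ i₃) ?_ ?_) hex'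
  · exact c₁
  · exact c₂


theorem isFlat_of_iso {F F' : ModSite.Mod O} (e : F ≅ F') (h : ModSite.IsFlat F) :
    ModSite.IsFlat F' := by
  rw [isFlat_iff_preservesMono_flip] at h ⊢
  exact Functor.PreservesMonomorphisms.of_iso ((ModSite.tensorBi O).flip.mapIso e)

theorem isFlat_of_isZero {Z : ModSite.Mod O} (hZ : IsZero Z) : ModSite.IsFlat Z := by
  rw [isFlat_iff_preservesMono_flip]
  constructor
  intro A B f _
  have hA : IsZero (((ModSite.tensorBi O).flip.obj Z).obj A) := isZero_tensor_right A hZ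
  exact ⟨fun g h _ => hA.eq_of_tgt _ _⟩

/-- 2-out-of-3, middle term -/
theorem isKFlat_X₂ (S : ShortComplex (Cx O)) (hS : S.ShortExact)
    (h3 : ∀ n : ℤ, ModSite.IsFlat (S.X₃.X n)) (h1 : ModSite.IsKFlat S.X₁)
    (h3' : ModSite.IsKFlat S.X₃) : ModSite.IsKFlat S.X₂ := fun F hF i =>
  acyclic_X₂ _ (tensorCx_shortExact F S hS h3) (h1 F hF) (h3' F hF) i


/-- the stupid truncations of a bounded above complex of flat modules are K-flat -/
theorem isKFlat_sg (K : Cx O) (b : ℤ) [K.IsStrictlyLE b] (hflat : ∀ n : ℤ, ModSite.IsFlat (K.X n))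
    (n : ℕ) : ModSite.IsKFlat (sg K (b + 1 - n)) := by
  induction n with
  | zero =>
    apply isKFlat_of_isZero_X
    intro m
    by_cases h : b + 1 - ((0 : ℕ) : ℤ) ≤ m
    · exact IsZero.of_iso (K.isZero_of_isStrictlyLE b m (by push_cast at h; omega)) (sgXIso K _ m h)
    · exact isZero_sg_X K _ m h
  | succ n ih =>
    obtain ⟨a, ha⟩ : ∃ a : ℤ, a = b + 1 - ((n + 1 : ℕ) : ℤ) := ⟨_, rfl⟩
    have ha' : a + 1 = b + 1 - (n : ℤ) := by push_cast at ha; omega
    rw [← ha]
    rw [← ha'] at ih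
    have hQfl : ∀ m : ℤ, ModSite.IsFlat ((sgQuot K a).X m) := by
      intro m
      by_cases hm : m = a
      · subst hm
        exact isFlat_of_iso (sgQuotXIsoSelf K m).symm (hflat m)
      · exact isFlat_of_isZero (isZero_sgQuot_X K a m hm)
    have hQ : ModSite.IsKFlat (sgQuot K a) :=
      isKFlat_of_single_degree (sgQuot K a) a (fun q hq => isZero_sgQuot_X K a q hq) (hQfl a)
    exact isKFlat_X₂ (sgSC K a) (sgSC_shortExact K a) hQfl ih hQ

/-- S9058: a bounded above complex of flat modules is K-flat -/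
theorem isKFlat_of_isStrictlyLE (K : Cx O) (b : ℤ) [K.IsStrictlyLE b]
    (hflat : ∀ n : ℤ, ModSite.IsFlat (K.X n)) : ModSite.IsKFlat K := by
  have h : ∀ n : ℕ, ModSite.IsKFlat ((sgSeq K (b + 1)).obj n) := fun n => isKFlat_sg K b hflat n
  have := isKFlat_of_isColimit_nat (isColimitSgCocone K (b + 1)) h
  exact this

end Groth.Agent.Lib.ModSiteKFlatBdd66
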