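import Groth.Agent.Lib.KInjComp31
import Mathlib.Algebra.Homology.DerivedCategory.ExactFunctor

/-!
# Criterion for right derived functors on unbounded `D(A)` (helper66)

With enough K-injectives, `(G, α : Φ ⟶ Qh ⋙ G)` is a right derived functor of `Φ : K(A) ⥤ H` as soon
as `α` is an isomorphism at K-injective complexes.  Hence two such pairs for isomorphic `Φ`'s have
isomorphic `G`'s.
-/

set_option autoImplicit false

open CategoryTheory Limits

namespace Groth.Agent.Lib.RDFCrit66

variable {A : Type*} [Category* A] [Abelian A] [HasDerivedCategory A] {H : Type*} [Category* H]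

/-- enough K-injectives -/
abbrev EnoughKInj (A : Type*) [Category* A] [Abelian A] : Prop :=
  ∀ K : CochainComplex A ℤ, ∃ (I : CochainComplex A ℤ) (f : K ⟶ I), I.IsKInjective ∧ QuasiIso f

lemma hasRightDerivedFunctor (hKinj : EnoughKInj A)
    (Φ : HomotopyCategory A (ComplexShape.up ℤ) ⥤ H) :
    Φ.HasRightDerivedFunctor (HomotopyCategory.quasiIso A (ComplexShape.up ℤ)) := by
  have hΦ := Groth.Agent.KInjDerived31.hasPointwiseRightDerivedFunctor Φ hKinj
  infer_instance

/-- **Criterion**: iso at K-injectives ⇒ right derived functor. -/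
theorem isRightDerivedFunctor_of_isIso_kinj (hKinj : EnoughKInj A)
    (Φ : HomotopyCategory A (ComplexShape.up ℤ) ⥤ H) (G : DerivedCategory A ⥤ H)
    (α : Φ ⟶ DerivedCategory.Qh ⋙ G)
    (h : ∀ (I : CochainComplex A ℤ), I.IsKInjective →
      IsIso (α.app ((HomotopyCategory.quotient A (.up ℤ)).obj I))) :
    G.IsRightDerivedFunctor α (HomotopyCategory.quasiIso A (ComplexShape.up ℤ)) := by
  have hΦ := Groth.Agent.KInjDerived31.hasPointwiseRightDerivedFunctor Φ hKinj
  have : Φ.HasRightDerivedFunctor (HomotopyCategory.quasiIso A (ComplexShape.up ℤ)) :=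
    inferInstance
  let RΦ := Φ.totalRightDerived DerivedCategory.Qh
    (HomotopyCategory.quasiIso A (ComplexShape.up ℤ))
  let u := Φ.totalRightDerivedUnit DerivedCategory.Qh
    (HomotopyCategory.quasiIso A (ComplexShape.up ℤ))
  rw [Functor.isRightDerivedFunctor_iff_isIso_rightDerivedDesc RΦ u
    (HomotopyCategory.quasiIso A (ComplexShape.up ℤ))]
  apply Groth.Agent.KInjComp31.isIso_natTrans_of_kinj hKinj
  intro I hI
  have h1 := RΦ.rightDerived_fac_app u (HomotopyCategory.quasiIso A (ComplexShape.up ℤ))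
    G α ((HomotopyCategory.quotient A (.up ℤ)).obj I)
  have h2 : IsIso (u.app ((HomotopyCategory.quotient A (.up ℤ)).obj I)) :=
    Groth.Agent.KInjDerived31.isIso_unit_app_of_isKInjective Φ RΦ u I
  have h4 := h I hI
  rw [← h1] at h4
  exact IsIso.of_isIso_comp_left (u.app ((HomotopyCategory.quotient A (.up ℤ)).obj I)) _

/-- Two functors on `D(A)` which both "compute `Φ` on K-injectives" are isomorphic. -/
theorem nonempty_iso_of_isIso_kinj (hKinj : EnoughKInj A)
    {Φ₁ Φ₂ : HomotopyCategory A (ComplexShape.up ℤ) ⥤ H} (e : Φ₁ ≅ Φ₂)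
    (G₁ G₂ : DerivedCategory A ⥤ H)
    (α₁ : Φ₁ ⟶ DerivedCategory.Qh ⋙ G₁) (α₂ : Φ₂ ⟶ DerivedCategory.Qh ⋙ G₂)
    (h₁ : ∀ (I : CochainComplex A ℤ), I.IsKInjective →
      IsIso (α₁.app ((HomotopyCategory.quotient A (.up ℤ)).obj I)))
    (h₂ : ∀ (I : CochainComplex A ℤ), I.IsKInjective →
      IsIso (α₂.app ((HomotopyCategory.quotient A (.up ℤ)).obj I))) :
    Nonempty (G₁ ≅ G₂) := by
  have i₁ := isRightDerivedFunctor_of_isIso_kinj hKinj Φ₁ G₁ α₁ h₁
  have i₂ := isRightDerivedFunctor_of_isIso_kinj hKinj Φ₂ G₂ α₂ h₂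
  exact ⟨Functor.rightDerivedNatIso G₁ G₂ α₁ α₂
    (HomotopyCategory.quasiIso A (ComplexShape.up ℤ)) e⟩


section Comp

variable {A B B' A'' : Type*} [Category* A] [Abelian A] [HasDerivedCategory A]
  [Category* B] [Abelian B] [HasDerivedCategory B]
  [Category* B'] [Abelian B'] [HasDerivedCategory B']
  [Category* A''] [Abelian A''] [HasDerivedCategory A'']

/-- `K(A) ⥤ D(B)` induced by an additive functor -/
noncomputable abbrev Kh (F : A ⥤ B) [F.Additive] :
    HomotopyCategory A (ComplexShape.up ℤ) ⥤ DerivedCategory B :=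
  F.mapHomotopyCategory (ComplexShape.up ℤ) ⋙ DerivedCategory.Qh

/-- the total right derived functor of an additive functor on unbounded derived categories -/
noncomputable abbrev RD (F : A ⥤ B) [F.Additive]
    [(Kh F).HasRightDerivedFunctor (HomotopyCategory.quasiIso A (ComplexShape.up ℤ))] :
    DerivedCategory A ⥤ DerivedCategory B :=
  (Kh F).totalRightDerived DerivedCategory.Qh (HomotopyCategory.quasiIso A (ComplexShape.up ℤ))

/-- its unit -/
noncomputable abbrev RDunit (F : A ⥤ B) [F.Additive]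
    [(Kh F).HasRightDerivedFunctor (HomotopyCategory.quasiIso A (ComplexShape.up ℤ))] :
    Kh F ⟶ DerivedCategory.Qh ⋙ RD F :=
  (Kh F).totalRightDerivedUnit DerivedCategory.Qh (HomotopyCategory.quasiIso A (ComplexShape.up ℤ))

/-- `Kh F ⋙ E.mapDerivedCategory ≅ Kh (F ⋙ E)` for `E` exact -/
noncomputable def khPostIso (F : A ⥤ B) [F.Additive] (E : B ⥤ B') [E.Additive]
    [PreservesFiniteLimits E] [PreservesFiniteColimits E] :
    Kh F ⋙ E.mapDerivedCategory ≅ Kh (F ⋙ E) :=
  Functor.associator _ _ _ ≪≫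
    Functor.isoWhiskerLeft _ E.mapDerivedCategoryFactorsh ≪≫
    (Functor.associator _ _ _).symm ≪≫
    Functor.isoWhiskerRight
      (Functor.mapHomotopyCategoryCompIso (Iso.refl (F ⋙ E)) (ComplexShape.up ℤ))
      DerivedCategory.Qh

/-- `P.mapHomotopyCategory ⋙ Kh F' ≅ Kh (P ⋙ F')` -/
noncomputable def khPreIso (P : A ⥤ A'') [P.Additive] (F' : A'' ⥤ B') [F'.Additive] :
    P.mapHomotopyCategory (ComplexShape.up ℤ) ⋙ Kh F' ≅ Kh (P ⋙ F') :=
  (Functor.associator _ _ _).symm ≪≫
    Functor.isoWhiskerRight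
      (Functor.mapHomotopyCategoryCompIso (Iso.refl (P ⋙ F')) (ComplexShape.up ℤ))
      DerivedCategory.Qh

/-- `Kh` of isomorphic functors -/
noncomputable def khCongr {F₁ F₂ : A ⥤ B'} [F₁.Additive] [F₂.Additive] (e : F₁ ≅ F₂) :
    Kh F₁ ≅ Kh F₂ :=
  Functor.isoWhiskerRight
    ((Functor.mapHomotopyCategoryCompIso (F := 𝟭 A) (Functor.leftUnitor F₁) (ComplexShape.up ℤ)).symm ≪≫
      Functor.mapHomotopyCategoryCompIso (F := 𝟭 A) (Functor.leftUnitor F₁ ≪≫ e) (ComplexShape.up ℤ))
    DerivedCategory.Qh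

/-- **Abstract base change for unbounded right derived functors**: if `F ⋙ E ≅ P ⋙ F'` with
`E`, `P` exact and `P` preserving K-injective complexes, then `RF ⋙ E ≅ P ⋙ RF'` on derived
categories. -/
theorem nonempty_RD_comp_iso (hKinj : EnoughKInj A)
    (F : A ⥤ B) [F.Additive] (E : B ⥤ B') [E.Additive]
    [PreservesFiniteLimits E] [PreservesFiniteColimits E]
    (P : A ⥤ A'') [P.Additive] [PreservesFiniteLimits P] [PreservesFiniteColimits P]
    (F' : A'' ⥤ B') [F'.Additive]
    (hP : ∀ I : CochainComplex A ℤ, I.IsKInjective →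
      CochainComplex.IsKInjective ((P.mapHomologicalComplex (ComplexShape.up ℤ)).obj I))
    (hKinj'' : EnoughKInj A'')
    [(Kh F).HasRightDerivedFunctor (HomotopyCategory.quasiIso A (ComplexShape.up ℤ))]
    [(Kh F').HasRightDerivedFunctor (HomotopyCategory.quasiIso A'' (ComplexShape.up ℤ))]
    (e : F ⋙ E ≅ P ⋙ F') :
    Nonempty (RD F ⋙ E.mapDerivedCategory ≅ P.mapDerivedCategory ⋙ RD F') := by
  let Φ₁ : HomotopyCategory A (ComplexShape.up ℤ) ⥤ DerivedCategory B' :=
    Kh F ⋙ E.mapDerivedCategory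
  let Φ₂ : HomotopyCategory A (ComplexShape.up ℤ) ⥤ DerivedCategory B' :=
    P.mapHomotopyCategory (ComplexShape.up ℤ) ⋙ Kh F'
  let eΦ : Φ₁ ≅ Φ₂ := khPostIso F E ≪≫ khCongr e ≪≫ (khPreIso P F').symm
  let α₁ : Φ₁ ⟶ DerivedCategory.Qh ⋙ (RD F ⋙ E.mapDerivedCategory) :=
    Functor.whiskerRight (RDunit F) E.mapDerivedCategory ≫ (Functor.associator _ _ _).hom
  let α₂ : Φ₂ ⟶ DerivedCategory.Qh ⋙ (P.mapDerivedCategory ⋙ RD F') :=
    Functor.whiskerLeft (P.mapHomotopyCategory (ComplexShape.up ℤ)) (RDunit F') ≫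
      (Functor.associator _ _ _).inv ≫
      Functor.whiskerRight P.mapDerivedCategoryFactorsh.inv (RD F') ≫
      (Functor.associator _ _ _).hom
  refine nonempty_iso_of_isIso_kinj hKinj eΦ _ _ α₁ α₂ (fun I hI => ?_) (fun I hI => ?_)
  · have h3 : IsIso ((RDunit F).app ((HomotopyCategory.quotient A (.up ℤ)).obj I)) :=
      Groth.Agent.KInjComp31.isIso_totalRightDerivedUnit_app hKinj _ I
    dsimp [α₁]
    infer_instance
  · have hPI := hP I hI
    have h3 : IsIso ((RDunit F').app ((HomotopyCategory.quotient A'' (.up ℤ)).obj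
        ((P.mapHomologicalComplex (ComplexShape.up ℤ)).obj I))) :=
      Groth.Agent.KInjComp31.isIso_totalRightDerivedUnit_app hKinj'' _ _
    have h4 : IsIso ((RDunit F').app ((P.mapHomotopyCategory (ComplexShape.up ℤ)).obj
        ((HomotopyCategory.quotient A (.up ℤ)).obj I))) := h3
    dsimp [α₂]
    infer_instance

/-- on a K-injective complex, `RD F` is computed termwise -/
noncomputable def RDObjIso (hKinj : EnoughKInj A) (F : A ⥤ B) [F.Additive]
    [(Kh F).HasRightDerivedFunctor (HomotopyCategory.quasiIso A (ComplexShape.up ℤ))]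
    (I : CochainComplex A ℤ) [I.IsKInjective] :
    (RD F).obj (DerivedCategory.Q.obj I) ≅
      DerivedCategory.Q.obj ((F.mapHomologicalComplex (ComplexShape.up ℤ)).obj I) :=
  haveI : IsIso ((RDunit F).app ((HomotopyCategory.quotient A (.up ℤ)).obj I)) :=
    Groth.Agent.KInjComp31.isIso_totalRightDerivedUnit_app hKinj _ I
  (RD F).mapIso ((DerivedCategory.quotientCompQhIso A).app I).symm ≪≫
    (asIso ((RDunit F).app ((HomotopyCategory.quotient A (.up ℤ)).obj I))).symm ≪≫
    DerivedCategory.Qh.mapIso ((F.mapHomotopyCategoryFactors (ComplexShape.up ℤ)).app I) ≪≫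
    (DerivedCategory.quotientCompQhIso B).app _

/-- **Composition of unbounded right derived functors**: if `F` sends K-injective complexes to
K-injective complexes then `RD F ⋙ RD G ≅ RD (F ⋙ G)`. -/
theorem nonempty_RD_comp (hKinj : EnoughKInj A) (hKinjB : EnoughKInj B)
    (F : A ⥤ B) [F.Additive] (G : B ⥤ B') [G.Additive]
    (hF : ∀ I : CochainComplex A ℤ, I.IsKInjective →
      CochainComplex.IsKInjective ((F.mapHomologicalComplex (ComplexShape.up ℤ)).obj I))
    [(Kh F).HasRightDerivedFunctor (HomotopyCategory.quasiIso A (ComplexShape.up ℤ))]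
    [(Kh G).HasRightDerivedFunctor (HomotopyCategory.quasiIso B (ComplexShape.up ℤ))]
    [(Kh (F ⋙ G)).HasRightDerivedFunctor (HomotopyCategory.quasiIso A (ComplexShape.up ℤ))] :
    Nonempty (RD F ⋙ RD G ≅ RD (F ⋙ G)) := by
  let Φ₁ : HomotopyCategory A (ComplexShape.up ℤ) ⥤ DerivedCategory B' :=
    F.mapHomotopyCategory (ComplexShape.up ℤ) ⋙ Kh G
  let α₁ : Φ₁ ⟶ DerivedCategory.Qh ⋙ (RD F ⋙ RD G) :=
    Functor.whiskerLeft (F.mapHomotopyCategory (ComplexShape.up ℤ)) (RDunit G) ≫
      (Functor.associator _ _ _).inv ≫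
      Functor.whiskerRight (RDunit F) (RD G) ≫ (Functor.associator _ _ _).hom
  refine nonempty_iso_of_isIso_kinj hKinj (khPreIso F G) _ _ α₁ (RDunit (F ⋙ G))
    (fun I hI => ?_) (fun I hI => ?_)
  · have hFI := hF I hI
    have h3 : IsIso ((RDunit G).app ((HomotopyCategory.quotient B (.up ℤ)).obj
        ((F.mapHomologicalComplex (ComplexShape.up ℤ)).obj I))) :=
      Groth.Agent.KInjComp31.isIso_totalRightDerivedUnit_app hKinjB _ _
    have h4 : IsIso ((RDunit G).app ((F.mapHomotopyCategory (ComplexShape.up ℤ)).obj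
        ((HomotopyCategory.quotient A (.up ℤ)).obj I))) := h3
    have h5 : IsIso ((RDunit F).app ((HomotopyCategory.quotient A (.up ℤ)).obj I)) :=
      Groth.Agent.KInjComp31.isIso_totalRightDerivedUnit_app hKinj _ I
    dsimp [α₁]
    infer_instance
  · exact Groth.Agent.KInjComp31.isIso_totalRightDerivedUnit_app hKinj _ I

end Comp

end Groth.Agent.Lib.RDFCrit66
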