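/-
helper11: keystone ModSiteTensor, part H2.  Internal hom and localisation on ringed sites:
`j^* Hom(M, N) ≅ Hom(j^* M, j^* N)` and `Hom(M, N)(X) ≃+ Hom(j^* M, j^* N)`.
-/
import Groth.Agent.Lib.ModSiteFlat
import Groth.Agent.Lib.ModSiteFreeOn

universe u
open CategoryTheory Opposite Limits

namespace Groth.Agent.Lib.ModSiteHomRestr

open Groth.Agent.Lib.ModSiteTensor Groth.Agent.Lib.ModSiteFreeOn Groth.Agent.Lib.ModSiteProj
  Groth.Agent.Lib.ModSiteFlat

variable {C : Type u} [SmallCategory C] {J : GrothendieckTopology C} (O : Sheaf J CommRingCat.{u}) (X : C)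

/-- the projection formula as an isomorphism of functors in the first variable -/
noncomputable def extZeroTensIso (M : ModSite.Mod O) :
    ModSite.extZero O X ⋙ (ModSite.tensorBi O).flip.obj M ≅
      (ModSite.tensorBi (O.over X)).flip.obj ((ModSite.restr O X).obj M) ⋙ ModSite.extZero O X :=
  (NatIso.ofComponents (fun P => projSh P M) (by
    intro P P' g
    exact projSh_naturality_left g M)).symm

/-- `j^* Hom(M, -) ≅ Hom(j^* M, j^* -)` (S6156) -/
noncomputable def restrSheafHomIso (M : ModSite.Mod O) [ModSite.HasSheafHom M]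
    [ModSite.HasSheafHom ((ModSite.restr O X).obj M)] :
    ModSite.sheafHom M ⋙ ModSite.restr O X ≅
      ModSite.restr O X ⋙ ModSite.sheafHom ((ModSite.restr O X).obj M) :=
  ((ModSite.extZeroAdj O X).comp (ModSite.sheafHomAdj M)).rightAdjointUniq
    (((ModSite.sheafHomAdj ((ModSite.restr O X).obj M)).comp (ModSite.extZeroAdj O X)).ofNatIsoLeft
      (extZeroTensIso O X M).symm)

/-- the universal section of `freeOn O X` -/
noncomputable def univSec : (ModSite.freeOn O X).val.obj (op X) :=
  freeOnHomEquiv O X _ (𝟙 _)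

lemma freeOnHomEquiv_eq {M : ModSite.Mod O} (g : ModSite.freeOn O X ⟶ M) :
    freeOnHomEquiv O X M g = g.val.app (op X) (univSec O X) := by
  have h := freeOnHomEquiv_comp O X (𝟙 _) g
  rwa [Category.id_comp] at h

/-- `(freeOn O X ⟶ M) ≃+ M(X)` -/
noncomputable def freeOnHomAddEquiv (M : ModSite.Mod O) :
    (ModSite.freeOn O X ⟶ M) ≃+ M.val.obj (op X) :=
  { freeOnHomEquiv O X M with
    map_add' := fun g g' => by
      change freeOnHomEquiv O X M (g + g') = freeOnHomEquiv O X M g + freeOnHomEquiv O X M g'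
      rw [freeOnHomEquiv_eq, freeOnHomEquiv_eq, freeOnHomEquiv_eq, SheafOfModules.add_val,
        PresheafOfModules.add_app]
      rfl }

/-- precomposition with an isomorphism, as an additive equivalence -/
def precompAddEquiv {A : Type*} [Category A] [Preadditive A] {U V : A} (e : U ≅ V) (Z : A) :
    (U ⟶ Z) ≃+ (V ⟶ Z) where
  toFun f := e.inv ≫ f
  invFun g := e.hom ≫ g
  left_inv f := by simp
  right_inv g := by simp
  map_add' f g := Preadditive.comp_add _ _ _ _ _ _

/-- `Hom(M, N)(X) ≃+ Hom(j^* M, j^* N)` (S6170) -/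
noncomputable def sectSheafHomAddEquiv (M N : ModSite.Mod O) [ModSite.HasSheafHom M] :
    ModSite.sect ((ModSite.sheafHom M).obj N) X ≃+
      ((ModSite.restr O X).obj M ⟶ (ModSite.restr O X).obj N) :=
  haveI : (ModSite.restr O X).Additive :=
    inferInstanceAs (SheafOfModules.overFunctor.{u} (ModSite.ringSh O) X).Additive
  haveI : (ModSite.extZero O X).Additive := (ModSite.extZeroAdj O X).left_adjoint_additive
  (freeOnHomAddEquiv O X ((ModSite.sheafHom M).obj N)).symm.trans
    (((ModSite.sheafHomAdj M).homAddEquiv (ModSite.freeOn O X) N).symm.trans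
      ((precompAddEquiv (freeOnTensorIso X M) N).trans
        ((ModSite.extZeroAdj O X).homAddEquiv _ _)))

end Groth.Agent.Lib.ModSiteHomRestr
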