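/-
helper11: keystone ModSiteTensor, part H3.  Local Ext sheaves commute with localisation (S12887).
-/
import Groth.Agent.Lib.ModSiteHomRestr
import Groth.Agent.Lib.RightDerivedPostComp
import Groth.Agent.Lib.DerivedCompExact
import Groth.Prelude.Def_ModSite2

universe u
open CategoryTheory Opposite Limits

namespace Groth.Agent.Lib.ModSiteHomRestr

open Groth.Agent.Lib.ModSiteTensor Groth.Agent.Lib.ModSiteFlat Groth.Agent.Lib.RightDerivedPostComp

variable {C : Type u} [SmallCategory C] {J : GrothendieckTopology C} (O : Sheaf J CommRingCat.{u}) (X : C)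

instance : (ModSite.restr O X).Additive :=
  inferInstanceAs (SheafOfModules.overFunctor.{u} (ModSite.ringSh O) X).Additive

instance : PreservesFiniteLimits (ModSite.restr O X) :=
  inferInstanceAs (PreservesFiniteLimits (SheafOfModules.overFunctor.{u} (ModSite.ringSh O) X))

instance : PreservesFiniteColimits (ModSite.restr O X) :=
  inferInstanceAs (PreservesFiniteColimits (SheafOfModules.overFunctor.{u} (ModSite.ringSh O) X))

/-- `ℰxt^q(M, -)|_X ≅ ℰxt^q(M|_X, (-)|_X)` (S12887) -/
noncomputable def extShRestrIso (M : ModSite.Mod O) [ModSite.HasSheafHom M]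
    [ModSite.HasSheafHom ((ModSite.restr O X).obj M)]
    [HasInjectiveResolutions (ModSite.Mod O)] [HasInjectiveResolutions (ModSite.Mod (O.over X))]
    (q : ℕ) :
    ModSite.extSh M q ⋙ ModSite.restr O X ≅
      ModSite.restr O X ⋙ ModSite.extSh ((ModSite.restr O X).obj M) q :=
  rightDerivedPostCompIso (ModSite.sheafHom M) (ModSite.restr O X) q ≪≫
    rightDerivedIsoOfIso (restrSheafHomIso O X M) q ≪≫
    Groth.Agent.Lib.DerivedCompExact.rightDerivedCompIso (ModSite.restr O X)
      (ModSite.sheafHom ((ModSite.restr O X).obj M)) (ModSite.extZeroAdj O X) q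

end Groth.Agent.Lib.ModSiteHomRestr
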