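/-
helper66: on a ringed site, j_!(Tot(L ⊗ K|_U)) ≅ Tot(j_!L ⊗ K) (projection formula for complexes, via helper11 projSh)
and K-flat complexes restrict to K-flat complexes on C/U (S9054).
-/
import Groth.Prelude.Def_KFlatSite
import Groth.Agent.Lib.TotalFunctor66
import Groth.Agent.Lib.ModSiteProjNat
import Groth.Agent.Lib.ModSiteFlat
import Groth.Agent.Lib.ModSiteExtShRestr
import Groth.Agent.Lib.ModShriek
import Groth.Agent.Lib.ModSiteKFlatBdd66

set_option autoImplicit false
universe u
open CategoryTheory CategoryTheory.Limits Opposite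
open ModSite

namespace Groth.Agent.Lib.ModSiteKFlatRestr66

open Groth.Agent.Lib.TotalFunctor66 Groth.Agent.Lib.ModSiteProj Groth.Agent.Lib.ModSiteKFlatBdd66
  Groth.Agent.Lib.ModSiteFlat

section
variable {C : Type u} [SmallCategory C] {J : GrothendieckTopology C} (O : Sheaf J CommRingCat.{u})
  (U : C)

instance additive_extZero : (ModSite.extZero O U).Additive :=
  (ModSite.extZeroAdj O U).left_adjoint_additive

/-- the bicomplex `j_!(L^p ⊗ K|_U^q)` -/
noncomputable abbrev B₁ (L : Cx (O.over U)) (K : Cx O) :
    HomologicalComplex₂ (ModSite.Mod O) (ComplexShape.up ℤ) (ComplexShape.up ℤ) :=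
  mapBicomplex ((((ModSite.tensorBi (O.over U)).mapBifunctorHomologicalComplex
    (ComplexShape.up ℤ) (ComplexShape.up ℤ)).obj L).obj
      (((ModSite.restr O U).mapHomologicalComplex (ComplexShape.up ℤ)).obj K)) (ModSite.extZero O U)

/-- the bicomplex `j_!L^p ⊗ K^q` -/
noncomputable abbrev B₂ (L : Cx (O.over U)) (K : Cx O) :
    HomologicalComplex₂ (ModSite.Mod O) (ComplexShape.up ℤ) (ComplexShape.up ℤ) :=
  (((ModSite.tensorBi O).mapBifunctorHomologicalComplex
    (ComplexShape.up ℤ) (ComplexShape.up ℤ)).obj
      (((ModSite.extZero O U).mapHomologicalComplex (ComplexShape.up ℤ)).obj L)).obj K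

/-- projection formula for bicomplexes -/
noncomputable def bicIso (L : Cx (O.over U)) (K : Cx O) : B₁ O U L K ≅ B₂ O U L K :=
  HomologicalComplex.Hom.isoOfComponents
    (fun p => HomologicalComplex.Hom.isoOfComponents (fun q => projSh (L.X p) (K.X q))
      (by
        intro q q' _
        exact (projSh_naturality_right (L.X p) (K.d q q')).symm))
    (by
      intro p p' _
      refine HomologicalComplex.hom_ext _ _ (fun q => ?_)
      exact (projSh_naturality_left (L.d p p') (K.X q)).symm)

instance preservesTotal (L : Cx (O.over U)) (K : Cx O) :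
    PreservesTotal ((((ModSite.tensorBi (O.over U)).mapBifunctorHomologicalComplex
      (ComplexShape.up ℤ) (ComplexShape.up ℤ)).obj L).obj
        (((ModSite.restr O U).mapHomologicalComplex (ComplexShape.up ℤ)).obj K))
      (ComplexShape.up ℤ) (ModSite.extZero O U) := by
  intro n
  have : PreservesColimitsOfSize.{0, 0} (ModSite.extZero O U) :=
    (ModSite.extZeroAdj O U).leftAdjoint_preservesColimits
  infer_instance

/-- `j_!(Tot(L ⊗ K|_U)) ≅ Tot(j_!L ⊗ K)` -/
noncomputable def shriekTensIso (L : Cx (O.over U)) (K : Cx O) :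
    ((ModSite.extZero O U).mapHomologicalComplex (ComplexShape.up ℤ)).obj
        (T L (((ModSite.restr O U).mapHomologicalComplex (ComplexShape.up ℤ)).obj K)) ≅
      T (((ModSite.extZero O U).mapHomologicalComplex (ComplexShape.up ℤ)).obj L) K :=
  haveI := hasTotal_mapBicomplex (B := (((ModSite.tensorBi (O.over U)).mapBifunctorHomologicalComplex
      (ComplexShape.up ℤ) (ComplexShape.up ℤ)).obj L).obj
        (((ModSite.restr O U).mapHomologicalComplex (ComplexShape.up ℤ)).obj K))
      (c₁₂ := ComplexShape.up ℤ) (ModSite.extZero O U)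
  mapTotalIso (ModSite.extZero O U) ≪≫
    HomologicalComplex₂.total.mapIso (bicIso O U L K) (ComplexShape.up ℤ)

instance : PreservesFiniteLimits (ModSite.extZero O U) :=
  Groth.Agent.Lib.ModShriek.preservesFiniteLimits_of_adjunction J (ringSh O) U _
    (ModSite.extZeroAdj O U)

instance : PreservesFiniteColimits (ModSite.extZero O U) :=
  ⟨fun _ _ _ => (ModSite.extZeroAdj O U).leftAdjoint_preservesColimits.1⟩

end

lemma isZero_homology_map_iff {A B : Type*} [Category A] [Category B] [Abelian A] [Abelian B]
    (F : A ⥤ B) [F.Additive] [F.PreservesHomology] [F.Faithful] (K : CochainComplex A ℤ) (i : ℤ) :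
    IsZero (((F.mapHomologicalComplex (ComplexShape.up ℤ)).obj K).homology i) ↔
      IsZero (K.homology i) := by
  rw [← HomologicalComplex.exactAt_iff_isZero_homology,
    ← HomologicalComplex.exactAt_iff_isZero_homology]
  exact ShortComplex.exact_map_iff_of_faithful (K.sc i) F

theorem main
    {C : Type u} [SmallCategory C] {J : GrothendieckTopology C} (O : Sheaf J CommRingCat.{u})
    (U : C) (K : CochainComplex (ModSite.Mod O) ℤ) (hK : ModSite.IsKFlat K) :
    ModSite.IsKFlat (((ModSite.restr O U).mapHomologicalComplex (ComplexShape.up ℤ)).obj K) := by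
  intro L hL i
  have h1 : ∀ i, IsZero ((((ModSite.extZero O U).mapHomologicalComplex
      (ComplexShape.up ℤ)).obj L).homology i) := fun i =>
    (isZero_homology_map_iff (ModSite.extZero O U) L i).2 (hL i)
  have h2 := hK _ h1 i
  have h3 : IsZero ((((ModSite.extZero O U).mapHomologicalComplex (ComplexShape.up ℤ)).obj
      (T L (((ModSite.restr O U).mapHomologicalComplex (ComplexShape.up ℤ)).obj K))).homology i) :=
    h2.of_iso ((HomologicalComplex.homologyFunctor _ _ i).mapIso (shriekTensIso O U L K))
  exact (isZero_homology_map_iff (ModSite.extZero O U) _ i).1 h3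

end Groth.Agent.Lib.ModSiteKFlatRestr66
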