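import Groth.Agent.Lib.RDFCrit66
import Groth.Agent.Lib.KInjMain31
import Groth.Agent.Lib.KInjAdj
import Groth.Agent.Lib.ModSiteKFlatRestr66
import Groth.Agent.S0484
import Groth.Prelude.Def_CxOX
import Groth.Prelude.Def_DCoh3

/-!
# K-injectives in `X.Modules` (helper66)

Enough K-injectives, restriction to opens preserves K-injectives, `j_!` exact.
-/

set_option autoImplicit false
universe u
open CategoryTheory Limits AlgebraicGeometry

namespace Groth.Agent.Lib.SchKInj66

/-- `X.Modules` is a Grothendieck abelian category. -/
theorem isGrothendieckAbelian_modules (X : Scheme.{u}) : IsGrothendieckAbelian.{u} X.Modules :=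
  Groth.Agent.S0484.result (Opens.grothendieckTopology X) X.ringCatSheaf

theorem enoughKInj (X : Scheme.{u}) : Groth.Agent.Lib.RDFCrit66.EnoughKInj X.Modules := by
  intro K
  have := isGrothendieckAbelian_modules X
  obtain ⟨I, f, h1, h2, -, -⟩ := Groth.Agent.KInjMain31.exists_kinjective_resolution K
  exact ⟨I, f, h1, h2⟩

instance preservesFiniteLimits_extZero {X : Scheme.{u}} (V : X.Opens) :
    PreservesFiniteLimits (CxOX.extZero V.ι) :=
  haveI h1 : PreservesFiniteLimits (ModSite.extZero X.sheaf V) := inferInstance
  haveI h2 : PreservesFiniteLimits (Scheme.Modules.overEquiv V).inverse := inferInstance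
  @preservesFiniteLimits_of_natIso _ _ _ _ _ _ (CxOX.extZeroIsoSite V).symm
    (@comp_preservesFiniteLimits _ _ _ _ _ _ _ _ h2 h1)

/-- restriction to an open subscheme preserves K-injective complexes -/
theorem isKInjective_restrict {X : Scheme.{u}} (V : X.Opens) (I : CochainComplex X.Modules ℤ)
    (hI : I.IsKInjective) :
    CochainComplex.IsKInjective
      (((Scheme.Modules.restrictFunctor V.ι).mapHomologicalComplex (ComplexShape.up ℤ)).obj I) :=
  Groth.Agent.Lib.KInjAdj.isKInjective_map (CxOX.extZeroAdj V.ι) I

end Groth.Agent.Lib.SchKInj66
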