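import Groth.Agent.Lib.TorAmp21
import Mathlib.Algebra.Homology.DerivedCategory.HomologySequence

/-!
# The derived tensor product and distinguished triangles (helper21)

* generic vanishing lemmas for the homology sequence of a distinguished triangle in `D(C)`;
* `exists_kflat_model`: every distinguished triangle of `D(O_X)` is isomorphic to the image of the standard
  triangle of a morphism `φ : P ⟶ N` between K-flat complexes;
* `exists_distinguished_lTensor`: for a distinguished triangle `T` and a module `G` there is a distinguished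
  triangle `T'` with `T'.obj_j ≅ T.obj_j ⊗^L G` (objectwise).
-/

set_option autoImplicit false
universe u v w
open CategoryTheory Limits AlgebraicGeometry Pretriangulated
attribute [local instance] HasDerivedCategory.standard

namespace Groth.Agent.Lib.TorAmpTri21

section generic

variable {C : Type u} [Category.{v} C] [Abelian C] [HasDerivedCategory.{w} C]
  (T : Triangle (DerivedCategory C)) (hT : T ∈ distTriang _)

include hT

theorem isZero_H_obj₃ (i : ℤ) (h₂ : IsZero ((DerivedCategory.homologyFunctor C i).obj T.obj₂))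
    (h₁ : IsZero ((DerivedCategory.homologyFunctor C (i + 1)).obj T.obj₁)) :
    IsZero ((DerivedCategory.homologyFunctor C i).obj T.obj₃) :=
  (DerivedCategory.HomologySequence.exact₃ T hT i (i + 1) rfl).isZero_X₂
    (h₂.eq_of_src _ _) (h₁.eq_of_tgt _ _)

theorem isZero_H_obj₂ (i : ℤ) (h₁ : IsZero ((DerivedCategory.homologyFunctor C i).obj T.obj₁))
    (h₃ : IsZero ((DerivedCategory.homologyFunctor C i).obj T.obj₃)) :
    IsZero ((DerivedCategory.homologyFunctor C i).obj T.obj₂) :=
  (DerivedCategory.HomologySequence.exact₂ T hT i).isZero_X₂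
    (h₁.eq_of_src _ _) (h₃.eq_of_tgt _ _)

theorem isZero_H_obj₁ (i j : ℤ) (hij : i + 1 = j)
    (h₃ : IsZero ((DerivedCategory.homologyFunctor C i).obj T.obj₃))
    (h₂ : IsZero ((DerivedCategory.homologyFunctor C j).obj T.obj₂)) :
    IsZero ((DerivedCategory.homologyFunctor C j).obj T.obj₁) :=
  (DerivedCategory.HomologySequence.exact₁ T hT i j hij).isZero_X₂
    (h₃.eq_of_src _ _) (h₂.eq_of_tgt _ _)

end generic

open Groth.Agent.Lib.ModSiteKFlatBdd66 Groth.Agent.Lib.LTensorMod21 Groth.Agent.Lib.TorAmp21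

variable {X : Scheme.{u}}

/-- K-flat resolutions, typed on `X.Modules` -/
theorem exists_resolution (K : CochainComplex X.Modules ℤ) :
    ∃ (P : CochainComplex X.Modules ℤ) (p : P ⟶ K), ModSite.IsKFlat (O := X.sheaf) P ∧
      (∀ n : ℤ, FlatMod.IsFlat (P.X n)) ∧ QuasiIso p := by
  obtain ⟨P, p, hP, hfl, hp, -⟩ :=
    Groth.Agent.Lib.ModSiteKFlatRes66.exists_isKFlat_resolution (O := X.sheaf) K
  exact ⟨P, p, hP,
    fun n => Groth.Agent.Lib.StalkFlatConverse66.isFlat_stalkwise_of_siteFlat _ (hfl n), hp⟩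

/-- factorization through a K-flat complex, typed on `X.Modules` -/
theorem exists_factor {K L : CochainComplex X.Modules ℤ} (a : K ⟶ L)
    (hK : ModSite.IsKFlat (O := X.sheaf) K) :
    ∃ (N : CochainComplex X.Modules ℤ) (b : K ⟶ N) (c : N ⟶ L), ModSite.IsKFlat (O := X.sheaf) N ∧
      QuasiIso c ∧ b ≫ c = a := by
  obtain ⟨N, b, c, hN, hc, hbc, -⟩ :=
    Groth.Agent.Lib.ModSiteKFlatRes66.exists_factor_isKFlat (O := X.sheaf) a hK
  exact ⟨N, b, c, hN, hc, hbc⟩

/-- the cone of a morphism of K-flat complexes is K-flat, typed on `X.Modules` -/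
theorem isKFlat_mappingCone {P N : CochainComplex X.Modules ℤ} (φ : P ⟶ N)
    (hP : ModSite.IsKFlat (O := X.sheaf) P) (hN : ModSite.IsKFlat (O := X.sheaf) N) :
    ModSite.IsKFlat (O := X.sheaf) (CochainComplex.mappingCone φ : CochainComplex X.Modules ℤ) :=
  (Groth.Agent.S9056.result X.sheaf φ).1 hP hN

/-- every distinguished triangle of `D(O_X)` comes from a morphism of K-flat complexes -/
theorem exists_kflat_model (T : Triangle (DCoh.D X)) (hT : T ∈ distTriang _) :
    ∃ (P N : CochainComplex X.Modules ℤ) (φ : P ⟶ N), ModSite.IsKFlat (O := X.sheaf) P ∧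
      ModSite.IsKFlat (O := X.sheaf) N ∧
      Nonempty (T ≅ DerivedCategory.Q.mapTriangle.obj (CochainComplex.mappingCone.triangle φ)) := by
  obtain ⟨K, L, ψ, ⟨e⟩⟩ := (DerivedCategory.mem_distTriang_iff T).1 hT
  obtain ⟨P, p, hP, -, hp⟩ := exists_resolution K
  obtain ⟨N, b, c, hN, hc, hbc⟩ := exists_factor (p ≫ ψ) hP
  have ip : IsIso (DerivedCategory.Q.map p) := inferInstance
  have ic : IsIso (DerivedCategory.Q.map c) := inferInstance
  have h₁ : DerivedCategory.Q.mapTriangle.obj (CochainComplex.mappingCone.triangle b) ∈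
      distTriang (DCoh.D X) := (DerivedCategory.mem_distTriang_iff _).2 ⟨_, _, b, ⟨Iso.refl _⟩⟩
  have h₂ : DerivedCategory.Q.mapTriangle.obj (CochainComplex.mappingCone.triangle ψ) ∈
      distTriang (DCoh.D X) := (DerivedCategory.mem_distTriang_iff _).2 ⟨_, _, ψ, ⟨Iso.refl _⟩⟩
  let e₁ : (DerivedCategory.Q.mapTriangle.obj (CochainComplex.mappingCone.triangle b)).obj₁ ≅
      (DerivedCategory.Q.mapTriangle.obj (CochainComplex.mappingCone.triangle ψ)).obj₁ :=
    @asIso _ _ _ _ (DerivedCategory.Q.map p) ip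
  let e₂ : (DerivedCategory.Q.mapTriangle.obj (CochainComplex.mappingCone.triangle b)).obj₂ ≅
      (DerivedCategory.Q.mapTriangle.obj (CochainComplex.mappingCone.triangle ψ)).obj₂ :=
    @asIso _ _ _ _ (DerivedCategory.Q.map c) ic
  have comm : (DerivedCategory.Q.mapTriangle.obj (CochainComplex.mappingCone.triangle b)).mor₁ ≫
      e₂.hom = e₁.hom ≫
      (DerivedCategory.Q.mapTriangle.obj (CochainComplex.mappingCone.triangle ψ)).mor₁ := by
    change DerivedCategory.Q.map b ≫ DerivedCategory.Q.map c =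
      DerivedCategory.Q.map p ≫ DerivedCategory.Q.map ψ
    rw [← Functor.map_comp, ← Functor.map_comp, hbc]
  exact ⟨P, N, b, hP, hN, ⟨e ≪≫ (isoTriangleOfIso₁₂ _ _ h₁ h₂ e₁ e₂ comm).symm⟩⟩

/-- the derived tensor product of a distinguished triangle with a module sits (objectwise) in a distinguished
triangle -/
theorem exists_distinguished_lTensor (T : Triangle (DCoh.D X)) (hT : T ∈ distTriang _)
    (G : X.Modules) [DCoh.HasLTensorMod G] :
    ∃ (T' : Triangle (DCoh.D X)), T' ∈ distTriang _ ∧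
      Nonempty ((DCoh.LTensorMod G).obj T.obj₁ ≅ T'.obj₁) ∧
      Nonempty ((DCoh.LTensorMod G).obj T.obj₂ ≅ T'.obj₂) ∧
      Nonempty ((DCoh.LTensorMod G).obj T.obj₃ ≅ T'.obj₃) := by
  obtain ⟨P, N, φ, hP, hN, ⟨e⟩⟩ := exists_kflat_model T hT
  have hC : ModSite.IsKFlat (O := X.sheaf)
      (CochainComplex.mappingCone φ : CochainComplex X.Modules ℤ) :=
    isKFlat_mappingCone φ hP hN
  refine ⟨DerivedCategory.Q.mapTriangle.obj
    (CochainComplex.mappingCone.triangle ((tensorCxMod G).map φ)),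
    (DerivedCategory.mem_distTriang_iff _).2 ⟨_, _, _, ⟨Iso.refl _⟩⟩, ⟨?_⟩, ⟨?_⟩, ⟨?_⟩⟩
  · exact (DCoh.LTensorMod G).mapIso (Triangle.π₁.mapIso e) ≪≫ lTensorModIso G P hP
  · exact (DCoh.LTensorMod G).mapIso (Triangle.π₂.mapIso e) ≪≫ lTensorModIso G N hN
  · exact (DCoh.LTensorMod G).mapIso (Triangle.π₃.mapIso e) ≪≫ lTensorModIso G _ hC ≪≫
      DerivedCategory.Q.mapIso
        (CochainComplex.mappingCone.mapHomologicalComplexIso φ (DCoh.tensorRightMod G))

end Groth.Agent.Lib.TorAmpTri21
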