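import Mathlib
import Groth.Agent.Lib.RDFCrit66
import Groth.Agent.Lib.SchKInj66
import Groth.Agent.Lib.DerivedAdj66
import Groth.Agent.Lib.LpullHyp35
import Groth.Agent.Lib.TorAmpTri21
import Groth.Agent.Lib.FreeModSch
import Groth.Agent.Lib.ConeQuasiIso
import Groth.Agent.Lib.ModSiteFlat
import Groth.Agent.Lib.ModSiteKFlatBdd66

/-!
# `f_* B` is acyclic for global sections when `B` is K-injective
-/

set_option autoImplicit false
universe u

open CategoryTheory CategoryTheory.Limits AlgebraicGeometry Opposite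

namespace Groth.Agent.Lib.GammaPush66

open Groth.Agent.Lib.FreeModSch

variable {Y : Scheme.{u}}

/-- the complex `O_Y[-n]` -/
noncomputable abbrev S (Y : Scheme.{u}) (n : ℤ) : CochainComplex Y.Modules ℤ :=
  (HomologicalComplex.single Y.Modules (ComplexShape.up ℤ) n).obj (Coh.structureModule Y)

theorem isKFlat_S (n : ℤ) : ModSite.IsKFlat (O := Y.sheaf) (S Y n) := by
  apply Groth.Agent.Lib.ModSiteKFlatBdd66.isKFlat_of_single_degree (O := Y.sheaf) (S Y n) n
  · intro q hq
    exact HomologicalComplex.isZero_single_obj_X _ _ _ _ hq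
  · exact Groth.Agent.Lib.ModSiteKFlatBdd66.isFlat_of_iso (O := Y.sheaf)
      (HomologicalComplex.singleObjXSelf (ComplexShape.up ℤ) n (Coh.structureModule Y)).symm
      (Groth.Agent.Lib.ModSiteFlat.isFlat_unit Y.sheaf)

lemma ofSection_comp {M N : Y.Modules} (z : Γ(M, ⊤)) (p : M ⟶ N) :
    ofSection M z ≫ p = ofSection N (p.app ⊤ z) := by
  apply unit_hom_ext
  rw [toSection_comp, toSection_ofSection, toSection_ofSection]

lemma ofSection_zero (M : Y.Modules) : ofSection M (0 : Γ(M, ⊤)) = 0 := by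
  apply unit_hom_ext
  rw [toSection_ofSection]
  rfl

/-- if every chain map `O_Y[-n] ⟶ C` is null-homotopic then `Γ(Y, C)` is acyclic -/
theorem acyclic_gamma_of_homotopy_zero (C : CochainComplex Y.Modules ℤ)
    (h : ∀ (n : ℤ) (φ : S Y n ⟶ C), Nonempty (Homotopy φ 0)) :
    (((DCoh.gammaAb Y).mapHomologicalComplex (ComplexShape.up ℤ)).obj C).Acyclic := by
  intro n
  rw [HomologicalComplex.exactAt_iff' _ (n - 1) n (n + 1) (by simp) (by simp),
    ShortComplex.ab_exact_iff]
  intro z hz
  have hz' : (C.d n (n + 1)).app ⊤ z = 0 := hz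
  let φ : S Y n ⟶ C := HomologicalComplex.mkHomFromSingle (ofSection (C.X n) z) (by
    intro k hk
    obtain rfl : n + 1 = k := hk
    rw [ofSection_comp, hz', ofSection_zero])
  obtain ⟨H⟩ := h n φ
  have hc := H.comm n
  rw [dNext_eq H.hom (show (ComplexShape.up ℤ).Rel n (n + 1) from rfl),
    prevD_eq H.hom (show (ComplexShape.up ℤ).Rel (n - 1) n by simp),
    HomologicalComplex.single_obj_d, zero_comp, zero_add, HomologicalComplex.zero_f, add_zero,
    HomologicalComplex.mkHomFromSingle_f] at hc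
  let e := HomologicalComplex.singleObjXSelf (ComplexShape.up ℤ) n (Coh.structureModule Y)
  refine ⟨toSection (e.inv ≫ H.hom n (n - 1)), ?_⟩
  have h1 : (C.d (n - 1) n).app ⊤ (toSection (e.inv ≫ H.hom n (n - 1))) =
      toSection ((e.inv ≫ H.hom n (n - 1)) ≫ C.d (n - 1) n) := (toSection_comp _ _).symm
  have h2 : (e.inv ≫ H.hom n (n - 1)) ≫ C.d (n - 1) n = ofSection (C.X n) z := by
    rw [Category.assoc, ← hc, Iso.inv_hom_id_assoc]
  rw [h2, toSection_ofSection] at h1
  exact h1

section Ortho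

variable {𝒜 : Type*} [Category* 𝒜] [Abelian 𝒜]

/-- maps in the homotopy category from an acyclic complex to a K-injective complex vanish -/
lemma hom_eq_zero_of_acyclic_of_isKInjective (M I : CochainComplex 𝒜 ℤ) [I.IsKInjective]
    (hM : M.Acyclic) (ψ : (HomotopyCategory.quotient 𝒜 (ComplexShape.up ℤ)).obj M ⟶
      (HomotopyCategory.quotient 𝒜 (ComplexShape.up ℤ)).obj I) : ψ = 0 := by
  obtain ⟨g, rfl⟩ := (HomotopyCategory.quotient 𝒜 (ComplexShape.up ℤ)).map_surjective ψ
  rw [← Functor.map_zero]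
  exact HomotopyCategory.eq_of_homotopy _ _ (CochainComplex.IsKInjective.homotopyZero g hM)

/-- the source of a quasi-isomorphism to an acyclic complex is acyclic -/
lemma acyclic_of_quasiIso {N C : CochainComplex 𝒜 ℤ} (c : N ⟶ C) (hc : QuasiIso c)
    (hC : C.Acyclic) : N.Acyclic := by
  intro i
  rw [HomologicalComplex.exactAt_iff_isZero_homology]
  have h := (HomologicalComplex.exactAt_iff_isZero_homology _ _).1 (hC i)
  exact h.of_iso (asIso (HomologicalComplex.homologyMap c i))

end Ortho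

section Push

variable {X Y : Scheme.{u}} (f : X ⟶ Y)

/-- termwise direct image of complexes -/
noncomputable abbrev pushCx : CochainComplex X.Modules ℤ ⥤ CochainComplex Y.Modules ℤ :=
  (Scheme.Modules.pushforward f).mapHomologicalComplex (ComplexShape.up ℤ)

local notation "q" => HomotopyCategory.quotient _ (ComplexShape.up ℤ)

/-- `Hom_K(N, f_* B) = 0` for `N` acyclic K-flat and `B` K-injective -/
theorem hom_eq_zero_push (B : CochainComplex X.Modules ℤ) [B.IsKInjective]
    (N : CochainComplex Y.Modules ℤ) (hN : ModSite.IsKFlat (O := Y.sheaf) N) (hNa : N.Acyclic)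
    (φ : (HomotopyCategory.quotient Y.Modules (ComplexShape.up ℤ)).obj N ⟶
      (HomotopyCategory.quotient Y.Modules (ComplexShape.up ℤ)).obj ((pushCx f).obj B)) :
    φ = 0 := by
  let adj := Groth.Agent.Lib.DerivedAdj66.adjH (Scheme.Modules.pullbackPushforwardAdjunction f)
    (ComplexShape.up ℤ)
  have hacyc : ((Groth.Agent.Lib.LpullKFlat35.pullCx f).obj N).Acyclic := by
    intro i
    rw [HomologicalComplex.exactAt_iff_isZero_homology]
    exact Groth.Agent.Lib.LpullHyp35.acycHyp f N hN
      (fun i => (HomologicalComplex.exactAt_iff_isZero_homology _ _).1 (hNa i)) i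
  let φ' : (HomotopyCategory.quotient Y.Modules (ComplexShape.up ℤ)).obj N ⟶
      ((Scheme.Modules.pushforward f).mapHomotopyCategory (ComplexShape.up ℤ)).obj
      ((HomotopyCategory.quotient X.Modules (ComplexShape.up ℤ)).obj B) := φ
  have h1 : (adj.homEquiv _ _).symm φ' = 0 :=
    hom_eq_zero_of_acyclic_of_isKInjective ((Groth.Agent.Lib.LpullKFlat35.pullCx f).obj N) B hacyc _
  have h2 : φ' = 0 := by
    apply (adj.homEquiv _ _).symm.injective
    rw [h1, Adjunction.homEquiv_counit, Functor.map_zero, zero_comp]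
  exact h2

open CategoryTheory.Pretriangulated in
/-- `Hom_K(N, (f_* B)[1]) = 0` for `N` acyclic K-flat and `B` K-injective -/
theorem hom_eq_zero_push_shift (B : CochainComplex X.Modules ℤ) [B.IsKInjective]
    (N : CochainComplex Y.Modules ℤ) (hN : ModSite.IsKFlat (O := Y.sheaf) N) (hNa : N.Acyclic)
    (φ : (HomotopyCategory.quotient Y.Modules (ComplexShape.up ℤ)).obj N ⟶
      ((HomotopyCategory.quotient Y.Modules (ComplexShape.up ℤ)).obj ((pushCx f).obj B))⟦(1 : ℤ)⟧) :
    φ = 0 := by
  let e : ((HomotopyCategory.quotient Y.Modules (ComplexShape.up ℤ)).obj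
      ((pushCx f).obj B))⟦(1 : ℤ)⟧ ≅
      (HomotopyCategory.quotient Y.Modules (ComplexShape.up ℤ)).obj ((pushCx f).obj (B⟦(1 : ℤ)⟧)) :=
    (((HomotopyCategory.quotient Y.Modules (ComplexShape.up ℤ)).commShiftIso (1 : ℤ)).app
      ((pushCx f).obj B)).symm ≪≫
    (HomotopyCategory.quotient Y.Modules (ComplexShape.up ℤ)).mapIso
      (((pushCx f).commShiftIso (1 : ℤ)).app B).symm
  have h := hom_eq_zero_push f (B⟦(1 : ℤ)⟧) N hN hNa (φ ≫ e.hom)
  rw [← cancel_mono e.hom, h, zero_comp]

open CategoryTheory.Pretriangulated in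
/-- `Hom_K(N, cone(s)) = 0` for `N` acyclic K-flat and `s : f_* B ⟶ I` with `B`, `I` K-injective -/
theorem hom_eq_zero_cone (B : CochainComplex X.Modules ℤ) [B.IsKInjective]
    (I : CochainComplex Y.Modules ℤ) [I.IsKInjective] (s : (pushCx f).obj B ⟶ I)
    (N : CochainComplex Y.Modules ℤ) (hN : ModSite.IsKFlat (O := Y.sheaf) N) (hNa : N.Acyclic)
    (ψ : (HomotopyCategory.quotient Y.Modules (ComplexShape.up ℤ)).obj N ⟶
      (HomotopyCategory.quotient Y.Modules (ComplexShape.up ℤ)).obj (CochainComplex.mappingCone s)) :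
    ψ = 0 := by
  let T := CochainComplex.mappingCone.triangleh s
  have hT : T ∈ distTriang _ := HomotopyCategory.mappingCone_triangleh_distinguished s
  have h1 : ψ ≫ T.mor₃ = 0 := hom_eq_zero_push_shift f B N hN hNa _
  obtain ⟨g, hg⟩ := Triangle.coyoneda_exact₃ T hT ψ h1
  have hg0 : g = 0 := hom_eq_zero_of_acyclic_of_isKInjective N I hNa g
  rw [hg, hg0]
  exact zero_comp

/-- chain maps from a K-flat complex to `cone(s)`, `s : f_* B ⟶ I` a quasi-isomorphism with `B`, `I`
K-injective, are null-homotopic -/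
theorem homotopy_zero_cone (B : CochainComplex X.Modules ℤ) [B.IsKInjective]
    (I : CochainComplex Y.Modules ℤ) [I.IsKInjective] (s : (pushCx f).obj B ⟶ I) (hs : QuasiIso s)
    (P : CochainComplex Y.Modules ℤ) (hP : ModSite.IsKFlat (O := Y.sheaf) P)
    (φ : P ⟶ CochainComplex.mappingCone s) : Nonempty (Homotopy φ 0) := by
  obtain ⟨N, b, c, hN, hc, hbc⟩ := Groth.Agent.Lib.TorAmpTri21.exists_factor φ hP
  have hcone : (CochainComplex.mappingCone s).Acyclic :=
    (Groth.Agent.Lib.ConeQuasiIso.quasiIso_iff_acyclic_mappingCone s).1 hs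
  have hNa : N.Acyclic := acyclic_of_quasiIso c hc hcone
  have h0 := hom_eq_zero_cone f B I s N hN hNa
    ((HomotopyCategory.quotient Y.Modules (ComplexShape.up ℤ)).map c)
  refine ⟨HomotopyCategory.homotopyOfEq _ _ ?_⟩
  rw [← hbc, Functor.map_comp, h0, comp_zero, Functor.map_zero]

/-- **Key**: `Γ(Y, -)` sends a K-injective resolution `f_* B ⟶ I` (with `B` K-injective) to a
quasi-isomorphism. -/
theorem quasiIso_gamma_map (B : CochainComplex X.Modules ℤ) [B.IsKInjective]
    (I : CochainComplex Y.Modules ℤ) [I.IsKInjective] (s : (pushCx f).obj B ⟶ I) (hs : QuasiIso s) :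
    QuasiIso (((DCoh.gammaAb Y).mapHomologicalComplex (ComplexShape.up ℤ)).map s) := by
  rw [Groth.Agent.Lib.ConeQuasiIso.quasiIso_iff_acyclic_mappingCone]
  have h := acyclic_gamma_of_homotopy_zero (CochainComplex.mappingCone s)
    (fun n φ => homotopy_zero_cone f B I s hs (S Y n) (isKFlat_S n) φ)
  intro i
  rw [HomologicalComplex.exactAt_iff_isZero_homology]
  exact ((HomologicalComplex.exactAt_iff_isZero_homology _ _).1 (h i)).of_iso
    ((HomologicalComplex.homologyFunctor _ _ i).mapIso
      (CochainComplex.mappingCone.mapHomologicalComplexIso s (DCoh.gammaAb Y)).symm)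

end Push

section Unit

open Groth.Agent.Lib.RDFCrit66

variable {𝒜 ℬ : Type*} [Category* 𝒜] [Abelian 𝒜] [Category* ℬ] [Abelian ℬ]
  [HasDerivedCategory 𝒜] [HasDerivedCategory ℬ]

/-- the unit of a total right derived functor `RD G` is an isomorphism at a complex `L` having a
K-injective resolution which `G` sends to a quasi-isomorphism -/
theorem isIso_RDunit_of_quasiIso (hKinj : EnoughKInj 𝒜) (G : 𝒜 ⥤ ℬ) [G.Additive]
    [(Kh G).HasRightDerivedFunctor (HomotopyCategory.quasiIso 𝒜 (ComplexShape.up ℤ))]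
    {L I : CochainComplex 𝒜 ℤ} [I.IsKInjective] (s : L ⟶ I) (hs : QuasiIso s)
    (hGs : QuasiIso ((G.mapHomologicalComplex (ComplexShape.up ℤ)).map s)) :
    IsIso ((RDunit G).app ((HomotopyCategory.quotient 𝒜 (ComplexShape.up ℤ)).obj L)) := by
  have nat := (RDunit G).naturality ((HomotopyCategory.quotient 𝒜 (ComplexShape.up ℤ)).map s)
  have h1 : IsIso ((Kh G).map ((HomotopyCategory.quotient 𝒜 (ComplexShape.up ℤ)).map s)) := by
    change IsIso (DerivedCategory.Q.map ((G.mapHomologicalComplex (ComplexShape.up ℤ)).map s))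
    infer_instance
  have h2 : IsIso ((RDunit G).app ((HomotopyCategory.quotient 𝒜 (ComplexShape.up ℤ)).obj I)) :=
    Groth.Agent.KInjComp31.isIso_totalRightDerivedUnit_app hKinj _ I
  have h3 : IsIso ((DerivedCategory.Qh ⋙ RD G).map
      ((HomotopyCategory.quotient 𝒜 (ComplexShape.up ℤ)).map s)) := by
    have : IsIso (DerivedCategory.Qh.map
        ((HomotopyCategory.quotient 𝒜 (ComplexShape.up ℤ)).map s)) := by
      change IsIso (DerivedCategory.Q.map s)
      infer_instance
    rw [Functor.comp_map]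
    infer_instance
  have h4 : IsIso ((RDunit G).app ((HomotopyCategory.quotient 𝒜 (ComplexShape.up ℤ)).obj L) ≫
      (DerivedCategory.Qh ⋙ RD G).map
        ((HomotopyCategory.quotient 𝒜 (ComplexShape.up ℤ)).map s)) := by
    rw [← nat]; infer_instance
  exact IsIso.of_isIso_comp_right _ ((DerivedCategory.Qh ⋙ RD G).map
    ((HomotopyCategory.quotient 𝒜 (ComplexShape.up ℤ)).map s))

end Unit

section Main

attribute [local instance] HasDerivedCategory.standard

open Groth.Agent.Lib.RDFCrit66

variable {X Y : Scheme.{u}} (f : X ⟶ Y)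

/-- **`f_* B` is `Γ(Y, -)`-acyclic for `B` K-injective**: the unit of `RΓ(Y, -)` is an isomorphism
at `f_* B`. -/
theorem isIso_RDunit_gamma_push (B : CochainComplex X.Modules ℤ) [B.IsKInjective]
    [(Kh (DCoh.gammaAb Y)).HasRightDerivedFunctor
      (HomotopyCategory.quasiIso Y.Modules (ComplexShape.up ℤ))] :
    IsIso ((RDunit (DCoh.gammaAb Y)).app
      ((HomotopyCategory.quotient Y.Modules (ComplexShape.up ℤ)).obj ((pushCx f).obj B))) := by
  obtain ⟨I, s, hI, hs⟩ := Groth.Agent.Lib.SchKInj66.enoughKInj Y ((pushCx f).obj B)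
  exact isIso_RDunit_of_quasiIso (Groth.Agent.Lib.SchKInj66.enoughKInj Y) (DCoh.gammaAb Y) s hs
    (quasiIso_gamma_map f B I s hs)

end Main

end Groth.Agent.Lib.GammaPush66
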