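import Groth.Agent.Lib.H90OXModExt
import Groth.Agent.Lib.ModStalkIso

/-!
# The Mayer–Vietoris short exact sequence of `O_X`-modules (helper66)

For opens `U V` of a scheme `X` with `U ⊔ V = ⊤` and every `O_X`-module `M`:
`0 → M → j_{U*}(M|_U) ⊕ j_{V*}(M|_V) → j_{V*}((j_{U*}(M|_U))|_V) → 0` is exact, functorially in `M`,
and `j_{V*}((j_{U*}(M|_U))|_V) ≅ j_{W*}(M|_W)` for `W = U ⊓ V`.
-/

set_option autoImplicit false
universe u

open CategoryTheory CategoryTheory.Limits AlgebraicGeometry TopologicalSpace Opposite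
open AlgebraicGeometry.Scheme AlgebraicGeometry.Scheme.Modules

namespace Groth.Agent.Lib.MVMod66

open Groth.Agent.Lib.QCohStalk Groth.Agent.Lib.H90OXModQcqs Groth.Agent.Lib.H90OXModExt

variable {X : Scheme.{u}}

/-! ### Sections criteria -/

instance : (Scheme.Modules.toPresheaf X).PreservesZeroMorphisms := ⟨fun _ _ => rfl⟩

/-- `h` is a kernel of `f` as soon as this holds on sections over every open. -/
noncomputable def isLimitKernelForkOfSections {Z M N : X.Modules} (h : Z ⟶ M) (f : M ⟶ N)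
    (w : h ≫ f = 0) (hinj : ∀ T : X.Opens, Function.Injective (h.app T))
    (hex : ∀ (T : X.Opens) (m : Γ(M, T)), f.app T m = 0 → ∃ z, h.app T z = m) :
    IsLimit (KernelFork.ofι h w) := by
  apply isLimitOfReflects (Scheme.Modules.toPresheaf X)
  apply evaluationJointlyReflectsLimits
  intro T
  let G := Scheme.Modules.toPresheaf X ⋙ (CategoryTheory.evaluation _ _).obj T
  haveI : G.PreservesZeroMorphisms := ⟨fun _ _ => rfl⟩
  refine (isLimitMapConeForkEquiv' G w).symm ?_
  let S : ShortComplex Ab := ShortComplex.mk (G.map h) (G.map f)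
    (by rw [← G.map_comp, w, G.map_zero])
  haveI : Mono S.f := (AddCommGrpCat.mono_iff_injective _).2 (hinj T.unop)
  have hS : S.Exact := by
    rw [ShortComplex.ab_exact_iff]
    intro x hx
    exact hex T.unop x hx
  exact hS.fIsKernel


/-- local surjectivity on sections implies epi -/
theorem epi_of_locally_surjective {M N : X.Modules} (φ : M ⟶ N)
    (h : ∀ (U : X.Opens) (s : Γ(N, U)) (x : X), x ∈ U →
      ∃ (V : X.Opens) (hVU : V ≤ U), x ∈ V ∧ ∃ t : Γ(M, V), φ.app V t = res N hVU s) : Epi φ := by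
  let ψ := (SheafOfModules.toSheaf X.ringCatSheaf).map φ
  have hls : Sheaf.IsLocallySurjective ψ := by
    refine ⟨fun {U} s x hx => ?_⟩
    obtain ⟨V, hVU, hxV, t, ht⟩ := h U s x hx
    exact ⟨V, homOfLE hVU, ⟨t, ht⟩, hxV⟩
  have hψ : Epi ψ := (Sheaf.isLocallySurjective_iff_epi' AddCommGrpCat.{u} ψ).mp hls
  have hfaith : (SheafOfModules.toSheaf.{u} X.ringCatSheaf).Faithful := inferInstance
  have hrefl : (SheafOfModules.toSheaf.{u} X.ringCatSheaf).ReflectsEpimorphisms :=
    Functor.reflectsEpimorphisms_of_faithful _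
  exact (SheafOfModules.toSheaf X.ringCatSheaf).epi_of_epi_map hψ

/-- short exactness from sections -/
theorem shortExact_of_sections (S : ShortComplex X.Modules)
    (hinj : ∀ T : X.Opens, Function.Injective (S.f.app T))
    (hex : ∀ (T : X.Opens) (m : Γ(S.X₂, T)), S.g.app T m = 0 → ∃ z, S.f.app T z = m)
    (hsurj : ∀ (U : X.Opens) (s : Γ(S.X₃, U)) (x : X), x ∈ U →
      ∃ (V : X.Opens) (hVU : V ≤ U), x ∈ V ∧ ∃ t : Γ(S.X₂, V), S.g.app V t = res S.X₃ hVU s) :
    S.ShortExact := by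
  have hk := isLimitKernelForkOfSections S.f S.g S.zero hinj hex
  have : Mono S.f := mono_of_isLimit_fork hk
  have : Epi S.g := epi_of_locally_surjective S.g hsurj
  exact ShortComplex.ShortExact.mk' (S.exact_of_f_is_kernel hk) inferInstance inferInstance


/-! ### Sections of biproducts -/

lemma biprod_total_app {A B : X.Modules} (T : X.Opens) (m : Γ(A ⊞ B, T)) :
    m = (biprod.inl : A ⟶ A ⊞ B).app T ((biprod.fst : A ⊞ B ⟶ A).app T m) +
      (biprod.inr : B ⟶ A ⊞ B).app T ((biprod.snd : A ⊞ B ⟶ B).app T m) := by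
  have h := congrArg (fun φ : A ⊞ B ⟶ A ⊞ B => φ.app T m) (biprod.total (X := A) (Y := B))
  exact h.symm

lemma biprod_ext_app {A B : X.Modules} (T : X.Opens) (m m' : Γ(A ⊞ B, T))
    (h1 : (biprod.fst : A ⊞ B ⟶ A).app T m = (biprod.fst : A ⊞ B ⟶ A).app T m')
    (h2 : (biprod.snd : A ⊞ B ⟶ B).app T m = (biprod.snd : A ⊞ B ⟶ B).app T m') : m = m' := by
  rw [biprod_total_app T m, biprod_total_app T m', h1, h2]

lemma biprod_lift_fst_app {A B Z : X.Modules} (f : Z ⟶ A) (g : Z ⟶ B) (T : X.Opens) (z : Γ(Z, T)) :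
    (biprod.fst : A ⊞ B ⟶ A).app T ((biprod.lift f g).app T z) = f.app T z :=
  congrArg (fun φ : Z ⟶ A => φ.app T z) (biprod.lift_fst f g)

lemma biprod_lift_snd_app {A B Z : X.Modules} (f : Z ⟶ A) (g : Z ⟶ B) (T : X.Opens) (z : Γ(Z, T)) :
    (biprod.snd : A ⊞ B ⟶ B).app T ((biprod.lift f g).app T z) = g.app T z :=
  congrArg (fun φ : Z ⟶ B => φ.app T z) (biprod.lift_snd f g)

lemma biprod_desc_app {A B Z : X.Modules} (f : A ⟶ Z) (g : B ⟶ Z) (T : X.Opens) (m : Γ(A ⊞ B, T)) :
    (biprod.desc f g).app T m = f.app T ((biprod.fst : A ⊞ B ⟶ A).app T m) +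
      g.app T ((biprod.snd : A ⊞ B ⟶ B).app T m) :=
  congrArg (fun φ : A ⊞ B ⟶ Z => φ.app T m) (biprod.desc_eq (f := f) (g := g))

lemma biprod_inl_fst_app {A B : X.Modules} (T : X.Opens) (a : Γ(A, T)) :
    (biprod.fst : A ⊞ B ⟶ A).app T ((biprod.inl : A ⟶ A ⊞ B).app T a) = a :=
  congrArg (fun φ : A ⟶ A => φ.app T a) (biprod.inl_fst (X := A) (Y := B))

lemma biprod_inl_snd_app {A B : X.Modules} (T : X.Opens) (a : Γ(A, T)) :
    (biprod.snd : A ⊞ B ⟶ B).app T ((biprod.inl : A ⟶ A ⊞ B).app T a) = 0 :=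
  congrArg (fun φ : A ⟶ B => φ.app T a) (biprod.inl_snd (X := A) (Y := B))

lemma biprod_inr_fst_app {A B : X.Modules} (T : X.Opens) (b : Γ(B, T)) :
    (biprod.fst : A ⊞ B ⟶ A).app T ((biprod.inr : B ⟶ A ⊞ B).app T b) = 0 :=
  congrArg (fun φ : B ⟶ A => φ.app T b) (biprod.inr_fst (X := A) (Y := B))

lemma biprod_inr_snd_app {A B : X.Modules} (T : X.Opens) (b : Γ(B, T)) :
    (biprod.snd : A ⊞ B ⟶ B).app T ((biprod.inr : B ⟶ A ⊞ B).app T b) = b :=
  congrArg (fun φ : B ⟶ B => φ.app T b) (biprod.inr_snd (X := A) (Y := B))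

/-! ### The functors `j_{U*} j_U^*` -/

/-- `j_{U*} j_U^*` -/
noncomputable abbrev G (U : X.Opens) : X.Modules ⥤ X.Modules :=
  Scheme.Modules.restrictFunctor U.ι ⋙ Scheme.Modules.pushforward U.ι

/-- the unit `M ⟶ j_{U*} j_U^* M` -/
noncomputable abbrev β (U : X.Opens) : 𝟭 X.Modules ⟶ G U :=
  (Scheme.Modules.restrictAdjunction U.ι).unit

/-- the open `U ∩ T`, in the form in which it appears in sections of `j_{U*} j_U^* M` -/
abbrev cap (U T : X.Opens) : X.Opens := U.ι ''ᵁ (U.ι ⁻¹ᵁ T)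

lemma cap_eq (U T : X.Opens) : cap U T = U ⊓ T := by
  rw [cap, Scheme.Hom.image_preimage_eq_opensRange_inf, Scheme.Opens.opensRange_ι]

lemma cap_le (U T : X.Opens) : cap U T ≤ T := U.ι.image_preimage_le T

lemma cap_le' (U T : X.Opens) : cap U T ≤ U := by rw [cap_eq]; exact inf_le_left

lemma cap_mono (U : X.Opens) {T' T : X.Opens} (h : T' ≤ T) : cap U T' ≤ cap U T := by
  rw [cap_eq, cap_eq]; exact inf_le_inf_left U h

lemma β_app (U T : X.Opens) (M : X.Modules) (s : Γ(M, T)) :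
    ((β U).app M).app T s = res M (cap_le U T) s := rfl

lemma G_map_app (U T : X.Opens) {M N : X.Modules} (φ : M ⟶ N) :
    ((G U).map φ).app T = φ.app (cap U T) := rfl

lemma G_res (U : X.Opens) {T' T : X.Opens} (h : T' ≤ T) (M : X.Modules) (s : Γ((G U).obj M, T)) :
    res ((G U).obj M) h s = res M (cap_mono U h) s := rfl


/-! ### The Mayer–Vietoris sequence -/

variable (U V : X.Opens)

/-- the functor `M ↦ j_{U*} j_U^* M ⊞ j_{V*} j_V^* M` -/
noncomputable def G₂ : X.Modules ⥤ X.Modules where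
  obj M := (G U).obj M ⊞ (G V).obj M
  map φ := biprod.map ((G U).map φ) ((G V).map φ)
  map_id M := by
    apply biprod.hom_ext <;> simp
  map_comp φ ψ := by
    apply biprod.hom_ext <;> simp

/-- `M ⟶ G_U M ⊞ G_V M` -/
noncomputable def aNat : 𝟭 X.Modules ⟶ G₂ U V where
  app M := biprod.lift ((β U).app M) ((β V).app M)
  naturality M N φ := by
    apply biprod.hom_ext
    · simp only [G₂, Category.assoc, biprod.lift_fst, biprod.map_fst, biprod.lift_fst_assoc]
      exact (β U).naturality φ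
    · simp only [G₂, Category.assoc, biprod.lift_snd, biprod.map_snd, biprod.lift_snd_assoc]
      exact (β V).naturality φ

/-- `G_U M ⊞ G_V M ⟶ G_V (G_U M)` -/
noncomputable def bNat : G₂ U V ⟶ G U ⋙ G V where
  app M := biprod.desc ((β V).app ((G U).obj M)) (-(G V).map ((β U).app M))
  naturality M N φ := by
    apply biprod.hom_ext'
    · simp only [G₂, biprod.inl_map_assoc, biprod.inl_desc, biprod.inl_desc_assoc]
      exact (β V).naturality ((G U).map φ)
    · simp only [G₂, biprod.inr_map_assoc, biprod.inr_desc, biprod.inr_desc_assoc,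
        Preadditive.comp_neg, Preadditive.neg_comp, neg_inj]
      change _ = (G V).map ((β U).app M) ≫ (G V).map ((G U).map φ)
      rw [← (G V).map_comp, ← (G V).map_comp]
      congr 1
      exact (β U).naturality φ

lemma aNat_bNat (M : X.Modules) : (aNat U V).app M ≫ (bNat U V).app M = 0 := by
  change biprod.lift ((β U).app M) ((β V).app M) ≫
    biprod.desc ((β V).app ((G U).obj M)) (-(G V).map ((β U).app M)) = 0
  rw [biprod.lift_desc, Preadditive.comp_neg, add_neg_eq_zero]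
  exact ((β V).naturality ((β U).app M))


lemma le_cap_sup (hUV : U ⊔ V = ⊤) (T : X.Opens) : T ≤ cap U T ⊔ cap V T := by
  rw [cap_eq, cap_eq, ← inf_sup_right, hUV, top_inf_eq]

lemma cap_cap_le_left (T : X.Opens) : cap U (cap V T) ≤ cap U T := cap_mono U (cap_le V T)

lemma cap_cap_le_right (T : X.Opens) : cap U (cap V T) ≤ cap V T := cap_le U (cap V T)

lemma inf_le_cap_cap (T : X.Opens) : cap U T ⊓ cap V T ≤ cap U (cap V T) := by
  simp only [cap_eq]
  exact le_inf (inf_le_left.trans inf_le_left) inf_le_right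

lemma cap_cap_comm_le (T : X.Opens) : cap V (cap U T) ≤ cap U (cap V T) := by
  simp only [cap_eq]
  exact le_inf (inf_le_right.trans inf_le_left) (le_inf inf_le_left (inf_le_right.trans inf_le_right))

lemma bNat_app_app (M : X.Modules) (T : X.Opens) (m : Γ((G U).obj M ⊞ (G V).obj M, T))
    (p : Γ(M, cap U T)) (q : Γ(M, cap V T))
    (hp : (biprod.fst : (G U).obj M ⊞ (G V).obj M ⟶ (G U).obj M).app T m = p)
    (hq : (biprod.snd : (G U).obj M ⊞ (G V).obj M ⟶ (G V).obj M).app T m = q) :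
    ((bNat U V).app M).app T m =
      (res M (cap_cap_le_left U V T) p - res M (cap_cap_le_right U V T) q :
        Γ(M, cap U (cap V T))) := by
  subst hp hq
  change (biprod.desc ((β V).app ((G U).obj M)) (-(G V).map ((β U).app M))).app T m = _
  rw [biprod_desc_app, sub_eq_add_neg]
  rfl

lemma G_G_res (M : X.Modules) {T' T : X.Opens} (h : T' ≤ T) (r : Γ(M, cap U (cap V T))) :
    res ((G U ⋙ G V).obj M) h r = res M (cap_mono U (cap_mono V h)) r := rfl

lemma surj_left (M : X.Modules) (T : X.Opens) (r : Γ(M, cap U (cap V T))) :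
    ((bNat U V).app M).app (cap U T)
      ((biprod.inr : (G V).obj M ⟶ (G U).obj M ⊞ (G V).obj M).app (cap U T)
        (-res M (cap_cap_comm_le U V T) r)) =
      res M (cap_mono U (cap_mono V (cap_le U T))) r := by
  refine (bNat_app_app U V M (cap U T) _ 0 (-res M (cap_cap_comm_le U V T) r)
    (biprod_inr_fst_app _ _) (biprod_inr_snd_app _ _)).trans ?_
  rw [res_zero, zero_sub, Groth.Agent.Lib.AffVanSections.res_neg, neg_neg, res_res]

lemma surj_right (M : X.Modules) (T : X.Opens) (r : Γ(M, cap U (cap V T))) :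
    ((bNat U V).app M).app (cap V T)
      ((biprod.inl : (G U).obj M ⟶ (G U).obj M ⊞ (G V).obj M).app (cap V T) r) =
      res M (cap_mono U (cap_mono V (cap_le V T))) r := by
  refine (bNat_app_app U V M (cap V T) _ r 0
    (biprod_inl_fst_app _ _) (biprod_inl_snd_app _ _)).trans ?_
  rw [res_zero, sub_zero]


lemma exact_mid (hUV : U ⊔ V = ⊤) (M : X.Modules) (T : X.Opens)
    (m : Γ((G U).obj M ⊞ (G V).obj M, T)) (hm : ((bNat U V).app M).app T m = 0) :
    ∃ z : Γ(M, T), ((aNat U V).app M).app T z = m := by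
  obtain ⟨p, hp⟩ : ∃ p : Γ(M, cap U T),
    (biprod.fst : (G U).obj M ⊞ (G V).obj M ⟶ (G U).obj M).app T m = p := ⟨_, rfl⟩
  obtain ⟨q, hq⟩ : ∃ q : Γ(M, cap V T),
    (biprod.snd : (G U).obj M ⊞ (G V).obj M ⟶ (G V).obj M).app T m = q := ⟨_, rfl⟩
  have hm' : (res M (cap_cap_le_left U V T) p - res M (cap_cap_le_right U V T) q :
      Γ(M, cap U (cap V T))) = 0 := (bNat_app_app U V M T m p q hp hq).symm.trans hm
  rw [sub_eq_zero] at hm'
  obtain ⟨z, hz1, hz2⟩ := exists_glue_two M T (cap U T) (cap V T) (cap_le U T) (cap_le V T)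
    (le_cap_sup U V hUV T) p q (by
      rw [← res_res M (inf_le_cap_cap U V T) (cap_cap_le_left U V T) p,
        ← res_res M (inf_le_cap_cap U V T) (cap_cap_le_right U V T) q, hm'])
  refine ⟨z, ?_⟩
  apply biprod_ext_app
  · exact (biprod_lift_fst_app _ _ T z).trans (hz1.trans hp.symm)
  · exact (biprod_lift_snd_app _ _ T z).trans (hz2.trans hq.symm)


lemma inj_left (hUV : U ⊔ V = ⊤) (M : X.Modules) (T : X.Opens) (z z' : Γ(M, T))
    (hz : ((aNat U V).app M).app T z = ((aNat U V).app M).app T z') : z = z' := by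
  have h1 := congrArg ((biprod.fst : (G U).obj M ⊞ (G V).obj M ⟶ (G U).obj M).app T) hz
  have h2 := congrArg ((biprod.snd : (G U).obj M ⊞ (G V).obj M ⟶ (G V).obj M).app T) hz
  have h1' := ((biprod_lift_fst_app _ _ T z).symm.trans h1).trans (biprod_lift_fst_app _ _ T z')
  have h2' := ((biprod_lift_snd_app _ _ T z).symm.trans h2).trans (biprod_lift_snd_app _ _ T z')
  exact res_ext_two M T (cap U T) (cap V T) (cap_le U T) (cap_le V T) (le_cap_sup U V hUV T)
    z z' h1' h2'

theorem shortExact_mv (hUV : U ⊔ V = ⊤) (M : X.Modules) :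
    (ShortComplex.mk ((aNat U V).app M) ((bNat U V).app M) (aNat_bNat U V M)).ShortExact := by
  apply shortExact_of_sections
  · intro T z z' hz
    exact inj_left U V hUV M T z z' hz
  · intro T m hm
    exact exact_mid U V hUV M T m hm
  · intro T r x hx
    have hxUV : x ∈ U ∨ x ∈ V := by
      have : x ∈ U ⊔ V := by rw [hUV]; trivial
      exact this
    rcases hxUV with hxU | hxV
    · refine ⟨cap U T, cap_le U T, ?_, ?_⟩
      · rw [cap_eq]; exact ⟨hxU, hx⟩
      · exact ⟨_, surj_left U V M T r⟩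
    · refine ⟨cap V T, cap_le V T, ?_, ?_⟩
      · rw [cap_eq]; exact ⟨hxV, hx⟩
      · exact ⟨_, surj_right U V M T r⟩


/-! ### `j_{W*} j_W^* ≅ j_{V*} j_V^* j_{U*} j_U^*` for `W = U ⊓ V` -/

lemma isIso_presheaf_map (M : X.Modules) {A B : X.Opens} (h : A ≤ B) (h' : B ≤ A) :
    IsIso (M.presheaf.map (homOfLE h).op) := by
  haveI : IsIso (homOfLE h) := ⟨homOfLE h', Subsingleton.elim _ _, Subsingleton.elim _ _⟩
  infer_instance

/-- `M ⟶ G_V (G_U M)` -/
noncomputable def κ : 𝟭 X.Modules ⟶ G U ⋙ G V where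
  app M := (β U).app M ≫ (β V).app ((G U).obj M)
  naturality M N φ := by
    have h1 := (β U).naturality φ
    have h2 := (β V).naturality ((G U).map φ)
    dsimp only [Functor.id_map, Functor.id_obj, Functor.comp_map] at h1 h2 ⊢
    rw [reassoc_of% h1, h2, Category.assoc]

lemma isIso_β_app_app (M : X.Modules) (T : X.Opens) (hT : T ≤ U) :
    IsIso (((β U).app M).app T) := by
  have h : T ≤ cap U T := by rw [cap_eq]; exact le_inf hT le_rfl
  exact isIso_presheaf_map M (cap_le U T) h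

lemma isIso_κ_app_app (M : X.Modules) (T : X.Opens) (hTU : T ≤ U) (hTV : T ≤ V) :
    IsIso (((κ U V).app M).app T) := by
  have h1 : IsIso (((β U).app M).app T) := isIso_β_app_app U M T hTU
  have h2 : IsIso (((β V).app ((G U).obj M)).app T) := by
    have h : cap U T ≤ cap U (cap V T) := by
      simp only [cap_eq]
      exact le_inf inf_le_left (le_inf (inf_le_right.trans hTV) inf_le_right)
    exact isIso_presheaf_map M (cap_mono U (cap_le V T)) h
  change IsIso (((β U).app M).app T ≫ ((β V).app ((G U).obj M)).app T)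
  infer_instance

/-- `G_{U ⊓ V} ≅ G_U ⋙ G_V` -/
noncomputable def gInfIso : G (U ⊓ V) ≅ G U ⋙ G V := by
  let τ₁ : G (U ⊓ V) ⟶ (G U ⋙ G V) ⋙ G (U ⊓ V) := Functor.whiskerRight (κ U V) (G (U ⊓ V))
  let τ₂ : G U ⋙ G V ⟶ (G U ⋙ G V) ⋙ G (U ⊓ V) := Functor.whiskerLeft (G U ⋙ G V) (β (U ⊓ V))
  haveI : IsIso τ₁ := by
    rw [NatTrans.isIso_iff_isIso_app]
    intro M
    rw [Scheme.Modules.Hom.isIso_iff_isIso_app]
    intro T
    exact isIso_κ_app_app U V M (cap (U ⊓ V) T) ((cap_le' (U ⊓ V) T).trans inf_le_left)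
      ((cap_le' (U ⊓ V) T).trans inf_le_right)
  haveI : IsIso τ₂ := by
    rw [NatTrans.isIso_iff_isIso_app]
    intro M
    rw [Scheme.Modules.Hom.isIso_iff_isIso_app]
    intro T
    have h : cap U (cap V T) ≤ cap U (cap V (cap (U ⊓ V) T)) := by
      simp only [cap_eq]
      exact le_inf inf_le_left (le_inf (inf_le_right.trans inf_le_left)
        (le_inf (le_inf inf_le_left (inf_le_right.trans inf_le_left))
          (inf_le_right.trans inf_le_right)))
    exact isIso_presheaf_map M (cap_mono U (cap_mono V (cap_le (U ⊓ V) T))) h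
  exact asIso τ₁ ≪≫ (asIso τ₂).symm

end Groth.Agent.Lib.MVMod66
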