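import Groth.Agent.Lib.RDFCrit66
import Groth.Agent.Lib.RFTriang31
import Groth.Agent.Lib.MVMod66
import Groth.Agent.Lib.SchKInj66
import Mathlib.Algebra.Homology.DerivedCategory.ShortExact
import Mathlib.Algebra.Homology.HomologicalComplexAbelian

/-!
# Mayer–Vietoris distinguished triangles in `D(O_X)` (helper66)

* `exists_distinguished_of_ses`: a termwise short exact sequence of additive functors gives a
  distinguished triangle on every complex.
* `exists_mv_triangle`: abstract Mayer–Vietoris triangle for unbounded right derived functors.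
* `exists_mv_triangle_scheme`: the case of a scheme `X = U ∪ V` and an additive functor `H` out of
  `X.Modules` (used for `H = 𝟭`, `f_*`, `Γ(X, -)`).
-/

set_option autoImplicit false

open CategoryTheory Limits Pretriangulated

namespace Groth.Agent.Lib.MVDer66

open Groth.Agent.Lib.RDFCrit66

section Abstract

variable {A B : Type*} [Category* A] [Abelian A] [Category* B] [Abelian B] [HasDerivedCategory B]

/-- a termwise short exact sequence of additive functors gives, on every complex, a distinguished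
triangle in the derived category -/
theorem exists_distinguished_of_ses {F₁ F₂ F₃ : A ⥤ B} [F₁.Additive] [F₂.Additive] [F₃.Additive]
    (a : F₁ ⟶ F₂) (b : F₂ ⟶ F₃) (w : ∀ M, a.app M ≫ b.app M = 0)
    (h : ∀ M, (ShortComplex.mk (a.app M) (b.app M) (w M)).ShortExact)
    (K : CochainComplex A ℤ) :
    ∃ c : DerivedCategory.Q.obj ((F₃.mapHomologicalComplex (ComplexShape.up ℤ)).obj K) ⟶
        (DerivedCategory.Q.obj ((F₁.mapHomologicalComplex (ComplexShape.up ℤ)).obj K))⟦(1 : ℤ)⟧,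
      Triangle.mk
        (DerivedCategory.Q.map ((NatTrans.mapHomologicalComplex a (ComplexShape.up ℤ)).app K))
        (DerivedCategory.Q.map ((NatTrans.mapHomologicalComplex b (ComplexShape.up ℤ)).app K)) c ∈
        distTriang (DerivedCategory B) := by
  let S : ShortComplex (CochainComplex B ℤ) :=
    ShortComplex.mk ((NatTrans.mapHomologicalComplex a (ComplexShape.up ℤ)).app K)
      ((NatTrans.mapHomologicalComplex b (ComplexShape.up ℤ)).app K)
      (by ext n; exact w _)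
  have hS : S.ShortExact :=
    HomologicalComplex.shortExact_of_degreewise_shortExact S (fun n => h (K.X n))
  exact ⟨DerivedCategory.triangleOfSESδ hS, DerivedCategory.triangleOfSES_distinguished hS⟩

/-- transport a distinguished triangle along isomorphisms of its three objects -/
theorem exists_triangle_of_isos {C : Type*} [Category* C] [Preadditive C] [HasZeroObject C]
    [HasShift C ℤ] [∀ n : ℤ, (shiftFunctor C n).Additive] [Pretriangulated C]
    (T : Triangle C) (hT : T ∈ distTriang C) {X₁ X₂ X₃ : C}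
    (e₁ : X₁ ≅ T.obj₁) (e₂ : X₂ ≅ T.obj₂) (e₃ : X₃ ≅ T.obj₃) :
    ∃ (a : X₁ ⟶ X₂) (b : X₂ ⟶ X₃) (c : X₃ ⟶ X₁⟦(1 : ℤ)⟧), Triangle.mk a b c ∈ distTriang C := by
  refine ⟨e₁.hom ≫ T.mor₁ ≫ e₂.inv, e₂.hom ≫ T.mor₂ ≫ e₃.inv, e₃.hom ≫ T.mor₃ ≫ e₁.inv⟦(1 : ℤ)⟧',
    isomorphic_distinguished _ hT _ (Triangle.isoMk _ _ e₁ e₂ e₃ ?_ ?_ ?_)⟩
  · change (e₁.hom ≫ T.mor₁ ≫ e₂.inv) ≫ e₂.hom = e₁.hom ≫ T.mor₁
    rw [Category.assoc, Category.assoc, Iso.inv_hom_id, Category.comp_id]
  · change (e₂.hom ≫ T.mor₂ ≫ e₃.inv) ≫ e₃.hom = e₂.hom ≫ T.mor₂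
    rw [Category.assoc, Category.assoc, Iso.inv_hom_id, Category.comp_id]
  · change (e₃.hom ≫ T.mor₃ ≫ e₁.inv⟦(1 : ℤ)⟧') ≫ e₁.hom⟦(1 : ℤ)⟧' = e₃.hom ≫ T.mor₃
    rw [Category.assoc, Category.assoc, ← Functor.map_comp, Iso.inv_hom_id, CategoryTheory.Functor.map_id,
      Category.comp_id]

end Abstract

section AbstractMV

variable {A A₁ A₂ A₃ B : Type*} [Category* A] [Abelian A] [HasDerivedCategory A]
  [Category* A₁] [Abelian A₁] [HasDerivedCategory A₁]
  [Category* A₂] [Abelian A₂] [HasDerivedCategory A₂]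
  [Category* A₃] [Abelian A₃] [HasDerivedCategory A₃]
  [Category* B] [Abelian B] [HasDerivedCategory B]

/-- isomorphic functors have isomorphic unbounded right derived functors -/
theorem nonempty_RD_congr (hKinj : EnoughKInj A) {F₁ F₂ : A ⥤ B} [F₁.Additive] [F₂.Additive]
    (e : F₁ ≅ F₂)
    [(Kh F₁).HasRightDerivedFunctor (HomotopyCategory.quasiIso A (ComplexShape.up ℤ))]
    [(Kh F₂).HasRightDerivedFunctor (HomotopyCategory.quasiIso A (ComplexShape.up ℤ))] :
    Nonempty (RD F₁ ≅ RD F₂) :=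
  nonempty_iso_of_isIso_kinj hKinj (khCongr e) _ _ (RDunit F₁) (RDunit F₂)
    (fun I _ => Groth.Agent.KInjComp31.isIso_totalRightDerivedUnit_app hKinj _ I)
    (fun I _ => Groth.Agent.KInjComp31.isIso_totalRightDerivedUnit_app hKinj _ I)

/-- `(RD H)(Q((P ⋙ J) I)) ≅ (RD (J ⋙ H))(P(Q I))` when `P I` and `J (P I)` are K-injective -/
noncomputable def RDcompObjIso (hKinj : EnoughKInj A) (hKinj₁ : EnoughKInj A₁)
    (P : A ⥤ A₁) [P.Additive] [PreservesFiniteLimits P] [PreservesFiniteColimits P]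
    (J : A₁ ⥤ A) [J.Additive] (H : A ⥤ B) [H.Additive]
    [(Kh H).HasRightDerivedFunctor (HomotopyCategory.quasiIso A (ComplexShape.up ℤ))]
    [(Kh (J ⋙ H)).HasRightDerivedFunctor (HomotopyCategory.quasiIso A₁ (ComplexShape.up ℤ))]
    (I : CochainComplex A ℤ)
    [CochainComplex.IsKInjective ((P.mapHomologicalComplex (ComplexShape.up ℤ)).obj I)]
    [CochainComplex.IsKInjective (((P ⋙ J).mapHomologicalComplex (ComplexShape.up ℤ)).obj I)] :
    (RD H).obj (DerivedCategory.Q.obj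
        (((P ⋙ J).mapHomologicalComplex (ComplexShape.up ℤ)).obj I)) ≅
      (RD (J ⋙ H)).obj (P.mapDerivedCategory.obj (DerivedCategory.Q.obj I)) :=
  RDObjIso hKinj H (((P ⋙ J).mapHomologicalComplex (ComplexShape.up ℤ)).obj I) ≪≫
    (RDObjIso hKinj₁ (J ⋙ H) ((P.mapHomologicalComplex (ComplexShape.up ℤ)).obj I)).symm ≪≫
    (RD (J ⋙ H)).mapIso ((P.mapDerivedCategoryFactors.app I).symm)

/-- the derived functor of the identity is the identity (objectwise) -/
theorem nonempty_RD_id_obj_iso (hKinj : EnoughKInj A)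
    [(Kh (𝟭 A)).HasRightDerivedFunctor (HomotopyCategory.quasiIso A (ComplexShape.up ℤ))]
    (E : DerivedCategory A) : Nonempty ((RD (𝟭 A)).obj E ≅ E) := by
  obtain ⟨I, f, hI, hf⟩ := hKinj (DerivedCategory.Q.objPreimage E)
  have := hI
  have : IsIso (DerivedCategory.Q.map f) := by
    rw [DerivedCategory.isIso_Q_map_iff_quasiIso]; exact hf
  let eE : E ≅ DerivedCategory.Q.obj I :=
    (DerivedCategory.Q.objObjPreimageIso E).symm ≪≫ asIso (DerivedCategory.Q.map f)
  exact ⟨(RD (𝟭 A)).mapIso eE ≪≫ RDObjIso hKinj (𝟭 A) I ≪≫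
    DerivedCategory.Q.mapIso ((Functor.mapHomologicalComplexIdIso A (ComplexShape.up ℤ)).app I) ≪≫
    eE.symm⟩

/-- a termwise biproduct of functors gives a biproduct in the derived category after applying
an additive functor -/
noncomputable def biprodObjIso {F₁ F₂ F₁₂ : A ⥤ A} [F₁.Additive] [F₂.Additive] [F₁₂.Additive]
    (fst : F₁₂ ⟶ F₁) (snd : F₁₂ ⟶ F₂) (inl : F₁ ⟶ F₁₂) (inr : F₂ ⟶ F₁₂)
    (h_inl_fst : ∀ M, inl.app M ≫ fst.app M = 𝟙 _) (h_inl_snd : ∀ M, inl.app M ≫ snd.app M = 0)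
    (h_inr_fst : ∀ M, inr.app M ≫ fst.app M = 0) (h_inr_snd : ∀ M, inr.app M ≫ snd.app M = 𝟙 _)
    (h_total : ∀ M, fst.app M ≫ inl.app M + snd.app M ≫ inr.app M = 𝟙 _)
    (R : DerivedCategory A ⥤ DerivedCategory B) [R.Additive] (K : CochainComplex A ℤ) :
    R.obj (DerivedCategory.Q.obj ((F₁₂.mapHomologicalComplex (ComplexShape.up ℤ)).obj K)) ≅
      R.obj (DerivedCategory.Q.obj ((F₁.mapHomologicalComplex (ComplexShape.up ℤ)).obj K)) ⊞
      R.obj (DerivedCategory.Q.obj ((F₂.mapHomologicalComplex (ComplexShape.up ℤ)).obj K)) := by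
  let c := ComplexShape.up ℤ
  let bc : BinaryBicone
      (R.obj (DerivedCategory.Q.obj ((F₁.mapHomologicalComplex c).obj K)))
      (R.obj (DerivedCategory.Q.obj ((F₂.mapHomologicalComplex c).obj K))) :=
    { pt := R.obj (DerivedCategory.Q.obj ((F₁₂.mapHomologicalComplex c).obj K))
      fst := R.map (DerivedCategory.Q.map ((NatTrans.mapHomologicalComplex fst c).app K))
      snd := R.map (DerivedCategory.Q.map ((NatTrans.mapHomologicalComplex snd c).app K))
      inl := R.map (DerivedCategory.Q.map ((NatTrans.mapHomologicalComplex inl c).app K))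
      inr := R.map (DerivedCategory.Q.map ((NatTrans.mapHomologicalComplex inr c).app K))
      inl_fst := by
        rw [← R.map_comp, ← DerivedCategory.Q.map_comp]
        have : (NatTrans.mapHomologicalComplex inl c).app K ≫
            (NatTrans.mapHomologicalComplex fst c).app K = 𝟙 _ := by
          ext n; exact h_inl_fst _
        rw [this, CategoryTheory.Functor.map_id, CategoryTheory.Functor.map_id]
      inl_snd := by
        rw [← R.map_comp, ← DerivedCategory.Q.map_comp]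
        have : (NatTrans.mapHomologicalComplex inl c).app K ≫
            (NatTrans.mapHomologicalComplex snd c).app K = 0 := by
          ext n; exact h_inl_snd _
        rw [this, Functor.map_zero, Functor.map_zero]
      inr_fst := by
        rw [← R.map_comp, ← DerivedCategory.Q.map_comp]
        have : (NatTrans.mapHomologicalComplex inr c).app K ≫
            (NatTrans.mapHomologicalComplex fst c).app K = 0 := by
          ext n; exact h_inr_fst _
        rw [this, Functor.map_zero, Functor.map_zero]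
      inr_snd := by
        rw [← R.map_comp, ← DerivedCategory.Q.map_comp]
        have : (NatTrans.mapHomologicalComplex inr c).app K ≫
            (NatTrans.mapHomologicalComplex snd c).app K = 𝟙 _ := by
          ext n; exact h_inr_snd _
        rw [this, CategoryTheory.Functor.map_id, CategoryTheory.Functor.map_id] }
  have total : bc.fst ≫ bc.inl + bc.snd ≫ bc.inr = 𝟙 bc.pt := by
    dsimp only [bc]
    rw [← R.map_comp, ← R.map_comp, ← DerivedCategory.Q.map_comp, ← DerivedCategory.Q.map_comp,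
      ← R.map_add, ← DerivedCategory.Q.map_add]
    have : (NatTrans.mapHomologicalComplex fst c).app K ≫
        (NatTrans.mapHomologicalComplex inl c).app K +
        (NatTrans.mapHomologicalComplex snd c).app K ≫
        (NatTrans.mapHomologicalComplex inr c).app K = 𝟙 _ := by
      ext n; exact h_total _
    rw [this, CategoryTheory.Functor.map_id, CategoryTheory.Functor.map_id]
  exact biprod.uniqueUpToIso _ _ (isBinaryBilimitOfTotal bc total)

/-- **Abstract Mayer–Vietoris triangle** for unbounded derived functors. -/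
theorem exists_mv_triangle (hKinj : EnoughKInj A) (hKinj₁ : EnoughKInj A₁)
    (hKinj₂ : EnoughKInj A₂) (hKinj₃ : EnoughKInj A₃)
    (P₁ : A ⥤ A₁) [P₁.Additive] [PreservesFiniteLimits P₁] [PreservesFiniteColimits P₁]
    (P₂ : A ⥤ A₂) [P₂.Additive] [PreservesFiniteLimits P₂] [PreservesFiniteColimits P₂]
    (P₃ : A ⥤ A₃) [P₃.Additive] [PreservesFiniteLimits P₃] [PreservesFiniteColimits P₃]
    (J₁ : A₁ ⥤ A) [J₁.Additive] (J₂ : A₂ ⥤ A) [J₂.Additive] (J₃ : A₃ ⥤ A) [J₃.Additive]
    (hP₁ : ∀ I : CochainComplex A ℤ, I.IsKInjective →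
      CochainComplex.IsKInjective ((P₁.mapHomologicalComplex (ComplexShape.up ℤ)).obj I))
    (hP₂ : ∀ I : CochainComplex A ℤ, I.IsKInjective →
      CochainComplex.IsKInjective ((P₂.mapHomologicalComplex (ComplexShape.up ℤ)).obj I))
    (hP₃ : ∀ I : CochainComplex A ℤ, I.IsKInjective →
      CochainComplex.IsKInjective ((P₃.mapHomologicalComplex (ComplexShape.up ℤ)).obj I))
    (hJ₁ : ∀ I : CochainComplex A₁ ℤ, I.IsKInjective →
      CochainComplex.IsKInjective ((J₁.mapHomologicalComplex (ComplexShape.up ℤ)).obj I))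
    (hJ₂ : ∀ I : CochainComplex A₂ ℤ, I.IsKInjective →
      CochainComplex.IsKInjective ((J₂.mapHomologicalComplex (ComplexShape.up ℤ)).obj I))
    (hJ₃ : ∀ I : CochainComplex A₃ ℤ, I.IsKInjective →
      CochainComplex.IsKInjective ((J₃.mapHomologicalComplex (ComplexShape.up ℤ)).obj I))
    (G₁₂ G₃ : A ⥤ A) [G₁₂.Additive] [G₃.Additive]
    (fst : G₁₂ ⟶ P₁ ⋙ J₁) (snd : G₁₂ ⟶ P₂ ⋙ J₂) (inl : P₁ ⋙ J₁ ⟶ G₁₂) (inr : P₂ ⋙ J₂ ⟶ G₁₂)
    (h_inl_fst : ∀ M, inl.app M ≫ fst.app M = 𝟙 _) (h_inl_snd : ∀ M, inl.app M ≫ snd.app M = 0)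
    (h_inr_fst : ∀ M, inr.app M ≫ fst.app M = 0) (h_inr_snd : ∀ M, inr.app M ≫ snd.app M = 𝟙 _)
    (h_total : ∀ M, fst.app M ≫ inl.app M + snd.app M ≫ inr.app M = 𝟙 _)
    (θ : P₃ ⋙ J₃ ≅ G₃)
    (a : 𝟭 A ⟶ G₁₂) (b : G₁₂ ⟶ G₃) (w : ∀ M, a.app M ≫ b.app M = 0)
    (hab : ∀ M, (ShortComplex.mk (a.app M) (b.app M) (w M)).ShortExact)
    (H : A ⥤ B) [H.Additive] (H₁ : A₁ ⥤ B) [H₁.Additive] (H₂ : A₂ ⥤ B) [H₂.Additive]
    (H₃ : A₃ ⥤ B) [H₃.Additive]
    (η₁ : J₁ ⋙ H ≅ H₁) (η₂ : J₂ ⋙ H ≅ H₂) (η₃ : J₃ ⋙ H ≅ H₃)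
    [(Kh H).HasRightDerivedFunctor (HomotopyCategory.quasiIso A (ComplexShape.up ℤ))]
    [(Kh H₁).HasRightDerivedFunctor (HomotopyCategory.quasiIso A₁ (ComplexShape.up ℤ))]
    [(Kh H₂).HasRightDerivedFunctor (HomotopyCategory.quasiIso A₂ (ComplexShape.up ℤ))]
    [(Kh H₃).HasRightDerivedFunctor (HomotopyCategory.quasiIso A₃ (ComplexShape.up ℤ))]
    (E : DerivedCategory A) :
    ∃ (a' : (RD H).obj E ⟶ (RD H₁).obj (P₁.mapDerivedCategory.obj E) ⊞
          (RD H₂).obj (P₂.mapDerivedCategory.obj E))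
      (b' : (RD H₁).obj (P₁.mapDerivedCategory.obj E) ⊞
          (RD H₂).obj (P₂.mapDerivedCategory.obj E) ⟶
          (RD H₃).obj (P₃.mapDerivedCategory.obj E))
      (c' : (RD H₃).obj (P₃.mapDerivedCategory.obj E) ⟶ ((RD H).obj E)⟦(1 : ℤ)⟧),
      Triangle.mk a' b' c' ∈ distTriang (DerivedCategory B) := by
  let c := ComplexShape.up ℤ
  -- derived functors of the composites
  have := hasRightDerivedFunctor hKinj₁ (Kh (J₁ ⋙ H))
  have := hasRightDerivedFunctor hKinj₂ (Kh (J₂ ⋙ H))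
  have := hasRightDerivedFunctor hKinj₃ (Kh (J₃ ⋙ H))
  obtain ⟨ρ₁⟩ := nonempty_RD_congr hKinj₁ η₁
  obtain ⟨ρ₂⟩ := nonempty_RD_congr hKinj₂ η₂
  obtain ⟨ρ₃⟩ := nonempty_RD_congr hKinj₃ η₃
  -- K-injective resolution
  obtain ⟨I, f, hI, hf⟩ := hKinj (DerivedCategory.Q.objPreimage E)
  have := hI
  have : IsIso (DerivedCategory.Q.map f) := by
    rw [DerivedCategory.isIso_Q_map_iff_quasiIso]; exact hf
  let eE : E ≅ DerivedCategory.Q.obj I :=
    (DerivedCategory.Q.objObjPreimageIso E).symm ≪≫ asIso (DerivedCategory.Q.map f)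
  have := hP₁ I hI
  have := hP₂ I hI
  have := hP₃ I hI
  have : CochainComplex.IsKInjective (((P₁ ⋙ J₁).mapHomologicalComplex c).obj I) :=
    hJ₁ _ (hP₁ I hI)
  have : CochainComplex.IsKInjective (((P₂ ⋙ J₂).mapHomologicalComplex c).obj I) :=
    hJ₂ _ (hP₂ I hI)
  have : CochainComplex.IsKInjective (((P₃ ⋙ J₃).mapHomologicalComplex c).obj I) :=
    hJ₃ _ (hP₃ I hI)
  -- the triangle in `D(A)` and its image under `RD H`
  obtain ⟨c₀, hT₀⟩ := exists_distinguished_of_ses a b w hab I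
  have : (RD H).Additive := Groth.Agent.RFTriang31.additive hKinj (Kh H) (RD H) (RDunit H)
  obtain ⟨δ, hT₁⟩ := Groth.Agent.RFTriang31.exists_distinguished hKinj (Kh H) (RD H) (RDunit H)
    _ hT₀
  -- identification of the three vertices
  let k₁ : (RD H₁).obj (P₁.mapDerivedCategory.obj E) ≅
      (RD H).obj (DerivedCategory.Q.obj (((P₁ ⋙ J₁).mapHomologicalComplex c).obj I)) :=
    (RD H₁).mapIso (P₁.mapDerivedCategory.mapIso eE) ≪≫ (ρ₁.app _).symm ≪≫
      (RDcompObjIso hKinj hKinj₁ P₁ J₁ H I).symm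
  let k₂ : (RD H₂).obj (P₂.mapDerivedCategory.obj E) ≅
      (RD H).obj (DerivedCategory.Q.obj (((P₂ ⋙ J₂).mapHomologicalComplex c).obj I)) :=
    (RD H₂).mapIso (P₂.mapDerivedCategory.mapIso eE) ≪≫ (ρ₂.app _).symm ≪≫
      (RDcompObjIso hKinj hKinj₂ P₂ J₂ H I).symm
  let k₃ : (RD H₃).obj (P₃.mapDerivedCategory.obj E) ≅
      (RD H).obj (DerivedCategory.Q.obj (((P₃ ⋙ J₃).mapHomologicalComplex c).obj I)) :=
    (RD H₃).mapIso (P₃.mapDerivedCategory.mapIso eE) ≪≫ (ρ₃.app _).symm ≪≫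
      (RDcompObjIso hKinj hKinj₃ P₃ J₃ H I).symm
  refine exists_triangle_of_isos _ hT₁ ?_ ?_ ?_
  · exact (RD H).mapIso (eE ≪≫ DerivedCategory.Q.mapIso
      ((Functor.mapHomologicalComplexIdIso A c).app I).symm)
  · exact biprod.mapIso k₁ k₂ ≪≫
      (biprodObjIso fst snd inl inr h_inl_fst h_inl_snd h_inr_fst h_inr_snd h_total (RD H) I).symm
  · exact k₃ ≪≫ (RD H).mapIso (DerivedCategory.Q.mapIso
      ((NatIso.mapHomologicalComplex θ c).app I))

end AbstractMV

section SchemeMV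

universe u

open AlgebraicGeometry Groth.Agent.Lib.MVMod66

attribute [local instance] HasDerivedCategory.standard

variable {X : Scheme.{u}} (U V : X.Opens)

instance additive_G₂ : (G₂ U V).Additive where
  map_add {M N φ ψ} := by
    change biprod.map ((G U).map (φ + ψ)) ((G V).map (φ + ψ)) =
      biprod.map ((G U).map φ) ((G V).map φ) + biprod.map ((G U).map ψ) ((G V).map ψ)
    apply biprod.hom_ext
    · simp only [biprod.map_fst, Preadditive.add_comp, Functor.map_add, Preadditive.comp_add]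
    · simp only [biprod.map_snd, Preadditive.add_comp, Functor.map_add, Preadditive.comp_add]

/-- first projection -/
noncomputable def fstNat : G₂ U V ⟶ G U where
  app _ := biprod.fst
  naturality _ _ _ := biprod.map_fst _ _

/-- second projection -/
noncomputable def sndNat : G₂ U V ⟶ G V where
  app _ := biprod.snd
  naturality _ _ _ := biprod.map_snd _ _

/-- first inclusion -/
noncomputable def inlNat : G U ⟶ G₂ U V where
  app _ := biprod.inl
  naturality _ _ _ := (biprod.inl_map _ _).symm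

/-- second inclusion -/
noncomputable def inrNat : G V ⟶ G₂ U V where
  app _ := biprod.inr
  naturality _ _ _ := (biprod.inr_map _ _).symm

/-- **Mayer–Vietoris triangle on a scheme** `X = U ∪ V`, for an additive functor `H` out of
`X.Modules` and functors `H₁ H₂ H₃` isomorphic to `j_* ⋙ H` for `j` the inclusion of `U`, `V`,
`U ⊓ V`. -/
theorem exists_mv_triangle_scheme (hUV : U ⊔ V = ⊤)
    [PreservesFiniteLimits (Scheme.Modules.restrictFunctor U.ι)]
    [PreservesFiniteLimits (Scheme.Modules.restrictFunctor V.ι)]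
    [PreservesFiniteLimits (Scheme.Modules.restrictFunctor (U ⊓ V).ι)]
    {B : Type*} [Category* B] [Abelian B] [HasDerivedCategory B]
    (H : X.Modules ⥤ B) [H.Additive]
    (H₁ : (U : Scheme.{u}).Modules ⥤ B) [H₁.Additive]
    (H₂ : (V : Scheme.{u}).Modules ⥤ B) [H₂.Additive]
    (H₃ : ((U ⊓ V : X.Opens) : Scheme.{u}).Modules ⥤ B) [H₃.Additive]
    (η₁ : Scheme.Modules.pushforward U.ι ⋙ H ≅ H₁)
    (η₂ : Scheme.Modules.pushforward V.ι ⋙ H ≅ H₂)
    (η₃ : Scheme.Modules.pushforward (U ⊓ V).ι ⋙ H ≅ H₃)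
    [(Kh H).HasRightDerivedFunctor (HomotopyCategory.quasiIso X.Modules (ComplexShape.up ℤ))]
    [(Kh H₁).HasRightDerivedFunctor
      (HomotopyCategory.quasiIso (U : Scheme.{u}).Modules (ComplexShape.up ℤ))]
    [(Kh H₂).HasRightDerivedFunctor
      (HomotopyCategory.quasiIso (V : Scheme.{u}).Modules (ComplexShape.up ℤ))]
    [(Kh H₃).HasRightDerivedFunctor
      (HomotopyCategory.quasiIso ((U ⊓ V : X.Opens) : Scheme.{u}).Modules (ComplexShape.up ℤ))]
    (E : DerivedCategory X.Modules) :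
    ∃ (a' : (RD H).obj E ⟶
          (RD H₁).obj ((Scheme.Modules.restrictFunctor U.ι).mapDerivedCategory.obj E) ⊞
          (RD H₂).obj ((Scheme.Modules.restrictFunctor V.ι).mapDerivedCategory.obj E))
      (b' : (RD H₁).obj ((Scheme.Modules.restrictFunctor U.ι).mapDerivedCategory.obj E) ⊞
          (RD H₂).obj ((Scheme.Modules.restrictFunctor V.ι).mapDerivedCategory.obj E) ⟶
          (RD H₃).obj ((Scheme.Modules.restrictFunctor (U ⊓ V).ι).mapDerivedCategory.obj E))
      (c' : (RD H₃).obj ((Scheme.Modules.restrictFunctor (U ⊓ V).ι).mapDerivedCategory.obj E) ⟶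
          ((RD H).obj E)⟦(1 : ℤ)⟧),
      Triangle.mk a' b' c' ∈ distTriang (DerivedCategory B) := by
  have hcU : PreservesFiniteColimits (Scheme.Modules.restrictFunctor U.ι) :=
    ⟨fun _ _ _ => (Scheme.Modules.restrictAdjunction U.ι).leftAdjoint_preservesColimits.1⟩
  have hcV : PreservesFiniteColimits (Scheme.Modules.restrictFunctor V.ι) :=
    ⟨fun _ _ _ => (Scheme.Modules.restrictAdjunction V.ι).leftAdjoint_preservesColimits.1⟩
  have hcW : PreservesFiniteColimits (Scheme.Modules.restrictFunctor (U ⊓ V).ι) :=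
    ⟨fun _ _ _ => (Scheme.Modules.restrictAdjunction (U ⊓ V).ι).leftAdjoint_preservesColimits.1⟩
  exact exists_mv_triangle (Groth.Agent.Lib.SchKInj66.enoughKInj X)
    (Groth.Agent.Lib.SchKInj66.enoughKInj _) (Groth.Agent.Lib.SchKInj66.enoughKInj _)
    (Groth.Agent.Lib.SchKInj66.enoughKInj _)
    (Scheme.Modules.restrictFunctor U.ι) (Scheme.Modules.restrictFunctor V.ι)
    (Scheme.Modules.restrictFunctor (U ⊓ V).ι)
    (Scheme.Modules.pushforward U.ι) (Scheme.Modules.pushforward V.ι)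
    (Scheme.Modules.pushforward (U ⊓ V).ι)
    (fun I hI => Groth.Agent.Lib.SchKInj66.isKInjective_restrict U I hI)
    (fun I hI => Groth.Agent.Lib.SchKInj66.isKInjective_restrict V I hI)
    (fun I hI => Groth.Agent.Lib.SchKInj66.isKInjective_restrict (U ⊓ V) I hI)
    (fun I hI => Groth.Agent.Lib.KInjAdj.isKInjective_map (Scheme.Modules.restrictAdjunction U.ι) I)
    (fun I hI => Groth.Agent.Lib.KInjAdj.isKInjective_map (Scheme.Modules.restrictAdjunction V.ι) I)
    (fun I hI => Groth.Agent.Lib.KInjAdj.isKInjective_map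
      (Scheme.Modules.restrictAdjunction (U ⊓ V).ι) I)
    (G₂ U V) (G U ⋙ G V) (fstNat U V) (sndNat U V) (inlNat U V) (inrNat U V)
    (fun _ => biprod.inl_fst) (fun _ => biprod.inl_snd) (fun _ => biprod.inr_fst)
    (fun _ => biprod.inr_snd) (fun _ => biprod.total)
    (gInfIso U V) (aNat U V) (bNat U V) (aNat_bNat U V) (shortExact_mv U V hUV)
    H H₁ H₂ H₃ η₁ η₂ η₃ E

end SchemeMV

end Groth.Agent.Lib.MVDer66
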