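import Groth.Agent.Lib.GammaPush66
import Groth.Agent.Lib.MVDer66
import Groth.Agent.Lib.PushRestrict
import Groth.Agent.S6508

/-!
# `RΓ(Y, Rf_* E) ≅ RΓ(X, E)` on unbounded derived categories
-/

set_option autoImplicit false
universe u

open CategoryTheory CategoryTheory.Limits AlgebraicGeometry Opposite

namespace Groth.Agent.Lib.GammaPushD66

open Groth.Agent.Lib.RDFCrit66 Groth.Agent.Lib.GammaPush66

section Comp

variable {A B B' : Type*} [Category* A] [Abelian A] [HasDerivedCategory A]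
  [Category* B] [Abelian B] [HasDerivedCategory B]
  [Category* B'] [Abelian B'] [HasDerivedCategory B']

/-- **Composition of unbounded right derived functors** (Grothendieck): if `F` sends K-injective
complexes to complexes at which the unit of `RD G` is an isomorphism (`G`-acyclic complexes),
then `RD F ⋙ RD G ≅ RD (F ⋙ G)`. -/
theorem nonempty_RD_comp_of_acyclic (hKinj : EnoughKInj A)
    (F : A ⥤ B) [F.Additive] (G : B ⥤ B') [G.Additive]
    [(Kh F).HasRightDerivedFunctor (HomotopyCategory.quasiIso A (ComplexShape.up ℤ))]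
    [(Kh G).HasRightDerivedFunctor (HomotopyCategory.quasiIso B (ComplexShape.up ℤ))]
    [(Kh (F ⋙ G)).HasRightDerivedFunctor (HomotopyCategory.quasiIso A (ComplexShape.up ℤ))]
    (hF : ∀ I : CochainComplex A ℤ, I.IsKInjective →
      IsIso ((RDunit G).app ((HomotopyCategory.quotient B (.up ℤ)).obj
        ((F.mapHomologicalComplex (ComplexShape.up ℤ)).obj I)))) :
    Nonempty (RD F ⋙ RD G ≅ RD (F ⋙ G)) := by
  let Φ₁ : HomotopyCategory A (ComplexShape.up ℤ) ⥤ DerivedCategory B' :=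
    F.mapHomotopyCategory (ComplexShape.up ℤ) ⋙ Kh G
  let α₁ : Φ₁ ⟶ DerivedCategory.Qh ⋙ (RD F ⋙ RD G) :=
    Functor.whiskerLeft (F.mapHomotopyCategory (ComplexShape.up ℤ)) (RDunit G) ≫
      (Functor.associator _ _ _).inv ≫
      Functor.whiskerRight (RDunit F) (RD G) ≫ (Functor.associator _ _ _).hom
  refine nonempty_iso_of_isIso_kinj hKinj (khPreIso F G) _ _ α₁ (RDunit (F ⋙ G))
    (fun I hI => ?_) (fun I hI => ?_)
  · have h3 := hF I hI
    have h4 : IsIso ((RDunit G).app ((F.mapHomotopyCategory (ComplexShape.up ℤ)).obj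
        ((HomotopyCategory.quotient A (.up ℤ)).obj I))) := h3
    have h5 : IsIso ((RDunit F).app ((HomotopyCategory.quotient A (.up ℤ)).obj I)) :=
      Groth.Agent.KInjComp31.isIso_totalRightDerivedUnit_app hKinj _ I
    dsimp [α₁]
    infer_instance
  · exact Groth.Agent.KInjComp31.isIso_totalRightDerivedUnit_app hKinj _ I

end Comp

section Main

attribute [local instance] HasDerivedCategory.standard

variable {X Y : Scheme.{u}} (f : X ⟶ Y)

/-- `Γ(Y, f_* -) = Γ(X, -)` -/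
noncomputable def pushGammaIso : Scheme.Modules.pushforward f ⋙ DCoh.gammaAb Y ≅ DCoh.gammaAb X :=
  Iso.refl _

/-- **`RΓ(Y, Rf_* E) ≅ RΓ(X, E)`** -/
theorem nonempty_Rpush_RΓ_iso [DCoh.HasRpush f] [DCoh.HasRΓ X] [DCoh.HasRΓ Y] :
    Nonempty (DCoh.Rpush f ⋙ DCoh.RΓ Y ≅ DCoh.RΓ X) := by
  have hX := Groth.Agent.Lib.SchKInj66.enoughKInj X
  have : (Kh (Scheme.Modules.pushforward f ⋙ DCoh.gammaAb Y)).HasRightDerivedFunctor
      (HomotopyCategory.quasiIso X.Modules (ComplexShape.up ℤ)) :=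
    hasRightDerivedFunctor hX _
  obtain ⟨e1⟩ := nonempty_RD_comp_of_acyclic hX (Scheme.Modules.pushforward f) (DCoh.gammaAb Y)
    (fun I hI => isIso_RDunit_gamma_push f I)
  obtain ⟨e2⟩ := Groth.Agent.Lib.MVDer66.nonempty_RD_congr hX (pushGammaIso f)
  exact ⟨e1 ≪≫ e2⟩

/-- **`RΓ(f⁻¹V, E|_{f⁻¹V}) ≅ RΓ(V, (Rf_* E)|_V)`** -/
theorem nonempty_restrict_RΓ_iso (V : Y.Opens) [DCoh.HasRpush f]
    [DCoh.HasRΓ (V : Scheme.{u})] [DCoh.HasRΓ (f ⁻¹ᵁ V : Scheme.{u})]
    [PreservesFiniteLimits (Scheme.Modules.restrictFunctor V.ι)]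
    [PreservesFiniteLimits (Scheme.Modules.restrictFunctor (f ⁻¹ᵁ V).ι)] :
    Nonempty (DCoh.restrictD (f ⁻¹ᵁ V).ι ⋙ DCoh.RΓ (f ⁻¹ᵁ V : Scheme.{u}) ≅
      DCoh.Rpush f ⋙ DCoh.restrictD V.ι ⋙ DCoh.RΓ (V : Scheme.{u})) := by
  have : DCoh.HasRpush (f ∣_ V) :=
    hasRightDerivedFunctor (Groth.Agent.Lib.SchKInj66.enoughKInj _) _
  obtain ⟨e1⟩ := Groth.Agent.S6508.result f V
  obtain ⟨e2⟩ := nonempty_Rpush_RΓ_iso (f ∣_ V)
  exact ⟨Functor.isoWhiskerLeft (DCoh.restrictD (f ⁻¹ᵁ V).ι) e2.symm ≪≫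
    (Functor.associator _ _ _).symm ≪≫
    Functor.isoWhiskerRight e1.symm (DCoh.RΓ (V : Scheme.{u})) ≪≫ Functor.associator _ _ _⟩

/-- **S11124**: `(f_* B)|_U` is acyclic for `Γ(U, -)` when `B` is K-injective -/
theorem isIso_RDunit_gamma_restrict_push (B : CochainComplex X.Modules ℤ) [B.IsKInjective]
    (U : Y.Opens) [DCoh.HasRΓ (U : Scheme.{u})] :
    IsIso (((DCoh.gammaKh (U : Scheme.{u})).totalRightDerivedUnit DerivedCategory.Qh
      (HomotopyCategory.quasiIso (U : Scheme.{u}).Modules (ComplexShape.up ℤ))).app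
      ((HomotopyCategory.quotient (U : Scheme.{u}).Modules (ComplexShape.up ℤ)).obj
        ((DCoh.restrictCx U).obj
          (((Scheme.Modules.pushforward f).mapHomologicalComplex (ComplexShape.up ℤ)).obj B)))) := by
  let B' := ((Scheme.Modules.restrictFunctor (f ⁻¹ᵁ U).ι).mapHomologicalComplex
    (ComplexShape.up ℤ)).obj B
  have hB' : CochainComplex.IsKInjective B' :=
    Groth.Agent.Lib.SchKInj66.isKInjective_restrict (f ⁻¹ᵁ U) B inferInstance
  let e : (DCoh.restrictCx U).obj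
      (((Scheme.Modules.pushforward f).mapHomologicalComplex (ComplexShape.up ℤ)).obj B) ≅
      (pushCx (f ∣_ U)).obj B' :=
    (NatIso.mapHomologicalComplex (Groth.Agent.Lib.PushRestrict.pushRestrictIso f U)
      (ComplexShape.up ℤ)).app B
  have h := isIso_RDunit_gamma_push (f ∣_ U) B'
  exact (NatTrans.isIso_app_iff_of_iso _
    ((HomotopyCategory.quotient (U : Scheme.{u}).Modules (ComplexShape.up ℤ)).mapIso e)).2 h

end Main

end Groth.Agent.Lib.GammaPushD66
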