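import Groth.Agent.Lib.GammaTS75

/-!
# Uniqueness of the degree-`d` divided power algebra (helper75)
-/

set_option autoImplicit false
universe u
open scoped TensorProduct

namespace Groth.Agent.Lib.GammaUniq75

open Groth.Agent.Lib.PolLawGen23

variable {A : Type u} [CommRing A]

theorem postcomp_comp {M N P Q : Type u} [AddCommGroup M] [Module A M] [AddCommGroup N] [Module A N]
    [AddCommGroup P] [Module A P] [AddCommGroup Q] [Module A Q] (g : P →ₗ[A] Q) (f : N →ₗ[A] P)
    (F : M →ₚₗ[A] N) : PolLaw.postcomp (g ∘ₗ f) F = PolLaw.postcomp g (PolLaw.postcomp f F) := by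
  ext S _ _ x
  rw [postcomp_toFun', postcomp_toFun', postcomp_toFun', LinearMap.lTensor_comp, LinearMap.comp_apply]

theorem postcomp_id {M N : Type u} [AddCommGroup M] [Module A M] [AddCommGroup N] [Module A N]
    (F : M →ₚₗ[A] N) : PolLaw.postcomp LinearMap.id F = F := by
  ext S _ _ x
  rw [postcomp_toFun', LinearMap.lTensor_id, LinearMap.id_apply]

variable {B C C' : Type u} [CommRing B] [Algebra A B] [CommRing C] [Algebra A C] [CommRing C'] [Algebra A C']
  {d : ℕ}

/-- two degree-`d` divided power algebras of `B` are canonically isomorphic -/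
theorem exists_algEquiv (γ : PolLaw.MulLaw A B C d) (hγ : PolLaw.IsGammaD γ)
    (γ' : PolLaw.MulLaw A B C' d) (hγ' : PolLaw.IsGammaD γ') :
    ∃ e : C ≃ₐ[A] C', PolLaw.postcomp e.toAlgHom.toLinearMap γ.law = γ'.law := by
  obtain ⟨f, hf, -⟩ := hγ C' γ'
  obtain ⟨g, hg, -⟩ := hγ' C γ
  have h1 : g.comp f = AlgHom.id A C := by
    apply (hγ C γ).unique
    · show PolLaw.postcomp (g.comp f).toLinearMap γ.law = γ.law
      rw [AlgHom.comp_toLinearMap, postcomp_comp, hf, hg]
    · show PolLaw.postcomp (AlgHom.id A C).toLinearMap γ.law = γ.law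
      exact postcomp_id γ.law
  have h2 : f.comp g = AlgHom.id A C' := by
    apply (hγ' C' γ').unique
    · show PolLaw.postcomp (f.comp g).toLinearMap γ'.law = γ'.law
      rw [AlgHom.comp_toLinearMap, postcomp_comp, hg, hf]
    · show PolLaw.postcomp (AlgHom.id A C').toLinearMap γ'.law = γ'.law
      exact postcomp_id γ'.law
  exact ⟨AlgEquiv.ofAlgHom f g h2 h1, hf⟩

/-- `Γ^d_A(B) ≃ TS^d_A(B)` when `B` is flat or `d!` is invertible -/
theorem exists_algEquiv_TS (γ : PolLaw.MulLaw A B C d) (hγ : PolLaw.IsGammaD γ)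
    (h : Module.Flat A B ∨ IsUnit ((d.factorial : ℕ) : A)) :
    ∃ e : C ≃ₐ[A] SymTen.TS A B d,
      PolLaw.postcomp ((SymTen.TS A B d).val.comp e.toAlgHom).toLinearMap γ.law =
        (SymTen.tpowLaw A B d).law := by
  obtain ⟨τ, hτ, hτγ⟩ := Groth.Agent.Lib.GammaTS75.main A B d h
  obtain ⟨e, he⟩ := exists_algEquiv γ hγ τ hτγ
  refine ⟨e, ?_⟩
  rw [AlgHom.comp_toLinearMap, postcomp_comp, he, hτ]

/-- the symmetric tensors as a submodule -/
theorem toSubmodule_TS : Subalgebra.toSubmodule (SymTen.TS A B d) =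
    Groth.Agent.Lib.SymTensorFlat.TS A B d := by
  ext y
  rw [Subalgebra.mem_toSubmodule, SymTen.mem_TS_iff, Groth.Agent.Lib.SymTensorFlat.mem_TS]

/-- `TS^d_A(B)` as a module is the module of symmetric tensors -/
noncomputable def linearEquivTS : SymTen.TS A B d ≃ₗ[A] Groth.Agent.Lib.SymTensorFlat.TS A B d :=
  (Subalgebra.toSubmoduleEquiv (SymTen.TS A B d)).symm.trans (LinearEquiv.ofEq _ _ toSubmodule_TS)

end Groth.Agent.Lib.GammaUniq75
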