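import Groth.Agent.Lib.SymTensorFlat

/-!
# Purity of symmetric tensors in the tensor power of a flat module (`Groth.Agent.Lib.SymTensorPure75`)

* `NatOp`, `IsSol`: finite systems of natural linear equations on tensor powers;
  `exists_sol_lift`, `exists_sol_lift_fp`: solutions lift to finite stages / finitely presented modules.
* `quot_flat`: `(⨂ M) ⧸ TS M` is flat for flat `M`.
* `lTensor_TS_injective`: `K ⊗ TS M → K ⊗ (⨂ M)` is injective for flat `M`.
-/

open scoped TensorProduct
open PiTensorProduct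

set_option linter.unusedSectionVars false
set_option autoImplicit false

namespace Groth.Agent.Lib.SymTensorPure75

open Groth.Agent.Lib.PiTensorDirLim Groth.Agent.Lib.SymTensorColim Groth.Agent.Lib.SymTensorFlat

universe u uι

section Sys

variable (A : Type u) [CommRing A] (n : ℕ)

/-- a natural linear operator on `n`-th tensor powers -/
structure NatOp where
  app : ∀ (P : Type u) [AddCommGroup P] [Module A P],
    (⨂[A] _ : Fin n, P) →ₗ[A] (⨂[A] _ : Fin n, P)
  nat : ∀ (P Q : Type u) [AddCommGroup P] [Module A P] [AddCommGroup Q] [Module A Q]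
    (g : P →ₗ[A] Q) (y : ⨂[A] _ : Fin n, P),
    PiTensorProduct.map (fun _ : Fin n => g) (app P y) =
      app Q (PiTensorProduct.map (fun _ : Fin n => g) y)

variable {A n}
variable {l : ℕ} {E : Type} [Finite E] (c : E → Fin l → NatOp A n)

/-- solutions of the system in `P` -/
def IsSol (P : Type u) [AddCommGroup P] [Module A P] (x : Fin l → ⨂[A] _ : Fin n, P) : Prop :=
  ∀ k : E, ∑ i, (c k i).app P (x i) = 0

theorem IsSol.map {P Q : Type u} [AddCommGroup P] [Module A P] [AddCommGroup Q] [Module A Q]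
    {x : Fin l → ⨂[A] _ : Fin n, P} (hx : IsSol c P x) (g : P →ₗ[A] Q) :
    IsSol c Q (fun i => PiTensorProduct.map (fun _ : Fin n => g) (x i)) := by
  intro k
  have := congrArg (PiTensorProduct.map (fun _ : Fin n => g)) (hx k)
  rw [map_sum, map_zero] at this
  simp only [NatOp.nat] at this
  exact this

variable {ι : Type uι} [Preorder ι] [IsDirected ι (fun i j => i ≤ j)] [Nonempty ι]
  {M : ι → Type u} [∀ i, AddCommGroup (M i)] [∀ i, Module A (M i)]
  {N : Type u} [AddCommGroup N] [Module A N]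
  {t : ∀ i j : ι, i ≤ j → (M i →ₗ[A] M j)} {φ : ∀ i, M i →ₗ[A] N}

theorem exists_sol_lift (H : IsColim t φ) (x : Fin l → ⨂[A] _ : Fin n, N) (hx : IsSol c N x) :
    ∃ (j : ι) (y : Fin l → ⨂[A] _ : Fin n, M j), IsSol c (M j) y ∧
      ∀ i, PiTensorProduct.map (fun _ : Fin n => φ j) (y i) = x i := by
  have h1 : ∀ i, ∃ (j : ι) (y : ⨂[A] _ : Fin n, M j),
      PiTensorProduct.map (fun _ : Fin n => φ j) y = x i := fun i => exists_map_eq H (x i)
  choose ji yi hyi using h1
  obtain ⟨j₀, hj₀⟩ := Finite.exists_le ji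
  let y0 : Fin l → ⨂[A] _ : Fin n, M j₀ :=
    fun i => PiTensorProduct.map (fun _ : Fin n => t (ji i) j₀ (hj₀ i)) (yi i)
  have hy0 : ∀ i, PiTensorProduct.map (fun _ : Fin n => φ j₀) (y0 i) = x i := by
    intro i
    simp only [y0]
    rw [H.map_φ_map_t, hyi i]
  have h2 : ∀ k : E, ∃ (j : ι) (h : j₀ ≤ j),
      PiTensorProduct.map (fun _ : Fin n => t j₀ j h) (∑ i, (c k i).app (M j₀) (y0 i)) = 0 := by
    intro k
    apply exists_map_eq_zero H
    rw [map_sum]
    simp only [NatOp.nat, hy0]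
    exact hx k
  choose jk hjk hk using h2
  obtain ⟨j₁, hj₁⟩ := Finite.exists_le jk
  obtain ⟨j, hj0, hj1⟩ := exists_ge_ge j₀ j₁
  refine ⟨j, fun i => PiTensorProduct.map (fun _ : Fin n => t j₀ j hj0) (y0 i), ?_, ?_⟩
  · intro k
    have h3 := H.map_map_t (κ := Fin n) j₀ (jk k) j (hjk k) ((hj₁ k).trans hj1)
      (∑ i, (c k i).app (M j₀) (y0 i))
    rw [hk k, map_zero, map_sum] at h3
    simp only [NatOp.nat] at h3
    exact h3.symm
  · intro i
    rw [H.map_φ_map_t, hy0 i]

end Sys

section fp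

variable {A : Type u} [CommRing A] {n : ℕ} {l : ℕ} {E : Type} [Finite E]
  (c : E → Fin l → NatOp A n) (N : Type u) [AddCommGroup N] [Module A N]

/-- solutions of a finite natural system lift to a finitely presented module -/
theorem exists_sol_lift_fp (x : Fin l → ⨂[A] _ : Fin n, N) (hx : IsSol c N x) :
    ∃ (Q : Type u) (_ : AddCommGroup Q) (_ : Module A Q) (_ : Module.FinitePresentation A Q)
      (g : Q →ₗ[A] N) (y : Fin l → ⨂[A] _ : Fin n, Q),
      IsSol c Q y ∧ ∀ i, PiTensorProduct.map (fun _ : Fin n => g) (y i) = x i := by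
  obtain ⟨P, y, hysol, hy⟩ := exists_sol_lift c (fgColim A N) x hx
  have : Module.Finite A P.1 := Module.Finite.iff_fg.2 P.2
  obtain ⟨m, π, hπ⟩ := Module.Finite.exists_fin' A P.1
  let K : Submodule A (Fin m → A) := LinearMap.ker π
  let e : ((Fin m → A) ⧸ K) ≃ₗ[A] P.1 := π.quotKerEquivOfSurjective hπ
  let y' : Fin l → ⨂[A] _ : Fin n, ((Fin m → A) ⧸ K) :=
    fun i => PiTensorProduct.map (fun _ : Fin n => e.symm.toLinearMap) (y i)
  have hy'sol : IsSol c ((Fin m → A) ⧸ K) y' := hysol.map c e.symm.toLinearMap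
  obtain ⟨K', y'', hy''sol, hy''⟩ := exists_sol_lift c (quotColim A (Fin m → A) K) y' hy'sol
  have : Module.FinitePresentation A ((Fin m → A) ⧸ K'.1) :=
    Module.finitePresentation_of_surjective K'.1.mkQ (Submodule.mkQ_surjective _)
      (by rw [Submodule.ker_mkQ]; exact K'.2.1)
  refine ⟨(Fin m → A) ⧸ K'.1, inferInstance, inferInstance, inferInstance,
    P.1.subtype ∘ₗ e.toLinearMap ∘ₗ Submodule.factor K'.2.2, y'', hy''sol, ?_⟩
  intro i
  rw [← hy i, ← map_map_const, ← map_map_const, hy'' i]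
  congr 1
  simp only [y']
  rw [map_map_const]
  have : (e.toLinearMap ∘ₗ e.symm.toLinearMap) = LinearMap.id := by
    ext x; simp
  rw [this, PiTensorProduct.map_id]
  rfl

end fp

section quot

variable {A : Type u} [CommRing A]

/-- the induced map on the quotients `(⨂ P) ⧸ TS P` -/
noncomputable def Qmap {P Q : Type u} [AddCommGroup P] [Module A P] [AddCommGroup Q] [Module A Q]
    (g : P →ₗ[A] Q) (n : ℕ) :
    ((⨂[A] _ : Fin n, P) ⧸ TS A P n) →ₗ[A] ((⨂[A] _ : Fin n, Q) ⧸ TS A Q n) :=
  Submodule.mapQ (TS A P n) (TS A Q n) (PiTensorProduct.map (fun _ : Fin n => g)) (by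
    intro v hv
    rw [Submodule.mem_comap]
    rw [mem_TS] at hv ⊢
    intro σ
    rw [← map_reindex_const, hv σ])

theorem Qmap_mk {P Q : Type u} [AddCommGroup P] [Module A P] [AddCommGroup Q] [Module A Q]
    (g : P →ₗ[A] Q) (n : ℕ) (v : ⨂[A] _ : Fin n, P) :
    Qmap g n (Submodule.Quotient.mk v) =
      Submodule.Quotient.mk (PiTensorProduct.map (fun _ : Fin n => g) v) := rfl

theorem quot_flat_of_basis {F : Type u} [AddCommGroup F] [Module A F] {κ : Type*} [Finite κ]
    (b : Module.Basis κ A F) (n : ℕ) : Module.Flat A ((⨂[A] _ : Fin n, F) ⧸ TS A F n) := by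
  have : Module.Free A (⨂[A] _ : Fin n, F) := Module.Free.of_basis (tbasis b n)
  let i : ((⨂[A] _ : Fin n, F) ⧸ TS A F n) →ₗ[A] (⨂[A] _ : Fin n, F) :=
    (TS A F n).liftQ (LinearMap.id - rho0 b n) (by
      intro v hv
      rw [LinearMap.mem_ker, LinearMap.sub_apply, LinearMap.id_apply, rho0_of_mem b n v hv,
        sub_self])
  refine Module.Flat.of_retract i (TS A F n).mkQ ?_
  apply Submodule.linearMap_qext
  apply LinearMap.ext
  intro v
  simp only [LinearMap.comp_apply, Submodule.mkQ_apply, LinearMap.id_apply, i,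
    Submodule.liftQ_apply, LinearMap.sub_apply]
  rw [Submodule.Quotient.mk_sub, sub_eq_self, Submodule.Quotient.mk_eq_zero]
  exact rho0_mem b n v

/-- the operator `f • (reindex σ - id)` -/
noncomputable def symOp (n : ℕ) (f : A) (σ : Equiv.Perm (Fin n)) : NatOp A n where
  app P _ _ := f • ((reindex A (fun _ : Fin n => P) σ).toLinearMap - LinearMap.id)
  nat P Q _ _ _ _ g y := by
    simp only [LinearMap.smul_apply, LinearMap.sub_apply, LinearEquiv.coe_coe, LinearMap.id_apply,
      map_smul, map_sub, map_reindex_const]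

theorem sum_symOp_apply {n l : ℕ} (f : Fin l → A) (σ : Equiv.Perm (Fin n)) (P : Type u)
    [AddCommGroup P] [Module A P] (x : Fin l → ⨂[A] _ : Fin n, P) :
    ∑ i, (symOp n (f i) σ).app P (x i) =
      reindex A (fun _ : Fin n => P) σ (∑ i, f i • x i) - ∑ i, f i • x i := by
  simp only [symOp, LinearMap.smul_apply, LinearMap.sub_apply, LinearEquiv.coe_coe,
    LinearMap.id_apply, smul_sub, Finset.sum_sub_distrib, map_sum, map_smul]

/-- the system expressing that `∑ f i • x i` is symmetric -/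
noncomputable def symSys (n : ℕ) {l : ℕ} (f : Fin l → A) : Equiv.Perm (Fin n) → Fin l → NatOp A n :=
  fun σ i => symOp n (f i) σ

theorem isSol_symSys_iff (n : ℕ) {l : ℕ} (f : Fin l → A) (P : Type u) [AddCommGroup P] [Module A P]
    (x : Fin l → ⨂[A] _ : Fin n, P) : IsSol (symSys n f) P x ↔ ∑ i, f i • x i ∈ TS A P n := by
  rw [mem_TS]
  unfold IsSol symSys
  simp only [sum_symOp_apply, sub_eq_zero]

/-- a relation in `(⨂ M) ⧸ TS M` coming from a finite free stage is trivial -/
theorem trivial_of_factor {M Q F : Type u} [AddCommGroup M] [Module A M] [AddCommGroup Q]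
    [Module A Q] [AddCommGroup F] [Module A F] {κ : Type*} [Finite κ] (b : Module.Basis κ A F)
    (h₂ : Q →ₗ[A] F) (h₃ : F →ₗ[A] M) (n : ℕ) {l : ℕ} (f : Fin l → A)
    (xbar : Fin l → (⨂[A] _ : Fin n, M) ⧸ TS A M n) (x : Fin l → ⨂[A] _ : Fin n, M)
    (hx : ∀ i, Submodule.Quotient.mk (x i) = xbar i) (y : Fin l → ⨂[A] _ : Fin n, Q)
    (hysol : IsSol (symSys n f) Q y)
    (hy : ∀ i, PiTensorProduct.map (fun _ : Fin n => h₃ ∘ₗ h₂) (y i) = x i) :
    Module.IsTrivialRelation f xbar := by
  let z : Fin l → ⨂[A] _ : Fin n, F :=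
    fun i => PiTensorProduct.map (fun _ : Fin n => h₂) (y i)
  have hzsol : IsSol (symSys n f) F z := hysol.map _ h₂
  have hzs : ∑ i, f i • z i ∈ TS A F n := (isSol_symSys_iff n f F z).1 hzsol
  have hzero : ∑ i, f i • ((TS A F n).mkQ (z i)) = 0 := by
    simp only [← map_smul]
    rw [← map_sum, Submodule.mkQ_apply, Submodule.Quotient.mk_eq_zero]
    exact hzs
  have := quot_flat_of_basis b n
  obtain ⟨k', a, w, hw, ha⟩ := Module.Flat.isTrivialRelation_of_sum_smul_eq_zero hzero
  refine ⟨k', a, fun j => Qmap h₃ n (w j), ?_, ha⟩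
  intro i
  have h0 : PiTensorProduct.map (fun _ : Fin n => h₃) (z i) = x i := by
    simp only [z]
    rw [map_map_const, hy i]
  have h1 : xbar i = Qmap h₃ n ((TS A F n).mkQ (z i)) := by
    rw [Submodule.mkQ_apply, Qmap_mk, h0, hx i]
  have hw' : (TS A F n).mkQ (z i) = ∑ j, a i j • w j := hw i
  rw [h1, hw', map_sum]
  simp only [map_smul]

/-- `(⨂ M) ⧸ TS M` is flat for flat `M` -/
theorem quot_flat (M : Type u) [AddCommGroup M] [Module A M] [Module.Flat A M] (n : ℕ) :
    Module.Flat A ((⨂[A] _ : Fin n, M) ⧸ TS A M n) := by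
  apply Module.Flat.of_forall_isTrivialRelation
  intro l f xbar hf
  choose x hx using fun i => Submodule.Quotient.mk_surjective (TS A M n) (xbar i)
  have hs : ∑ i, f i • x i ∈ TS A M n := by
    rw [← Submodule.Quotient.mk_eq_zero, ← Submodule.mkQ_apply, map_sum]
    simp only [map_smul, Submodule.mkQ_apply, hx]
    exact hf
  have hsol : IsSol (symSys n f) M x := (isSol_symSys_iff n f M x).2 hs
  obtain ⟨Q, _, _, _, g, y, hysol, hy⟩ := exists_sol_lift_fp (symSys n f) M x hsol
  obtain ⟨k, h₂, h₃, hg⟩ := Module.Flat.exists_factorization_of_finitePresentation g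
  exact trivial_of_factor (Finsupp.basisSingleOne (R := A) (ι := Fin k)) h₂ h₃ n f xbar x hx y
    hysol (by rw [← hg]; exact hy)

/-- symmetric tensors of a flat module form a pure submodule of the tensor power -/
theorem lTensor_TS_injective (M : Type u) [AddCommGroup M] [Module A M] [Module.Flat A M] (n : ℕ)
    (K : Type*) [AddCommGroup K] [Module A K] :
    Function.Injective ((TS A M n).subtype.lTensor K) := by
  have := quot_flat (A := A) M n
  exact LinearMap.lTensor_injective_of_exact_of_flat (TS A M n).mkQ (Submodule.mkQ_surjective _)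
    (TS A M n).subtype (Submodule.subtype_injective _)
    (LinearMap.exact_subtype_mkQ (TS A M n)) K

end quot

end Groth.Agent.Lib.SymTensorPure75
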