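import Mathlib
import Groth.Agent.Lib.CSATpow
import Groth.Agent.Lib.GeomReducedProd
import Groth.Agent.Lib.SymTensorPure75
import Groth.Agent.Lib.GammaUniq75

/-!
# Geometric reducedness of `Γ^d_A(B)` for flat `B` with geometrically reduced fibres
-/

set_option autoImplicit false
set_option linter.style.haveILetI false
universe u
open scoped TensorProduct

namespace Groth.Agent.Lib.GammaRed75

open Groth.Agent.Lib.CSATpow

section Tpow

variable {A : Type u} [CommRing A] {B : Type u} [CommRing B] [Algebra A B]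

/-- a field extension `K'` of `K` over `A`: `(K ⊗ B) ⊗[K] K'` is reduced when `K' ⊗ B` is -/
theorem isReduced_fieldExt (hred : ∀ (K : Type u) [Field K] [Algebra A K], IsReduced (K ⊗[A] B))
    (K : Type u) [Field K] [Algebra A K] (K' : Type u) [Field K'] [Algebra K K'] :
    IsReduced ((K ⊗[A] B) ⊗[K] K') := by
  letI : Algebra A K' := ((algebraMap K K').comp (algebraMap A K)).toAlgebra
  haveI : IsScalarTower A K K' := IsScalarTower.of_algebraMap_eq (fun _ => rfl)
  have h := hred K'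
  let e1 : (K ⊗[A] B) ⊗[K] K' ≃ₐ[K] K' ⊗[K] (K ⊗[A] B) := Algebra.TensorProduct.comm K _ _
  let e2 : K' ⊗[K] (K ⊗[A] B) ≃ₐ[K] K' ⊗[A] B := Algebra.TensorProduct.cancelBaseChange A K K K' B
  exact isReduced_of_injective (e1.trans e2).toRingEquiv.toRingHom (e1.trans e2).injective

theorem isReduced_tensor_tpow
    (hred : ∀ (K : Type u) [Field K] [Algebra A K], IsReduced (K ⊗[A] B)) (d : ℕ) :
    ∀ (K : Type u) [Field K] [Algebra A K], IsReduced (K ⊗[A] (⨂[A] _ : Fin d, B)) := by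
  induction d with
  | zero =>
    intro K _ _
    let e1 : K ⊗[A] (⨂[A] _ : Fin 0, B) ≃ₐ[K] K ⊗[A] A :=
      Algebra.TensorProduct.congr AlgEquiv.refl (tpowZeroEquiv A B)
    let e2 : K ⊗[A] A ≃ₐ[K] K := Algebra.TensorProduct.rid A K K
    exact isReduced_of_injective (e1.trans e2).toRingEquiv.toRingHom (e1.trans e2).injective
  | succ d ih =>
    intro K _ _
    have h1 := ih K
    have h2 : IsReduced ((K ⊗[A] B) ⊗[K] (K ⊗[A] (⨂[A] _ : Fin d, B))) :=
      GeomReducedProd.isReduced_tensorProduct (k := K) (A := K ⊗[A] B)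
        (B := K ⊗[A] (⨂[A] _ : Fin d, B)) (fun K' _ _ => isReduced_fieldExt hred K K')
    let e1 : K ⊗[A] (⨂[A] _ : Fin (d + 1), B) ≃ₐ[K] K ⊗[A] ((⨂[A] _ : Fin d, B) ⊗[A] B) :=
      Algebra.TensorProduct.congr AlgEquiv.refl (tpowSuccEquiv A B d)
    let e2 : (K ⊗[A] (⨂[A] _ : Fin d, B)) ⊗[A] B ≃ₐ[K] K ⊗[A] ((⨂[A] _ : Fin d, B) ⊗[A] B) :=
      Algebra.TensorProduct.assoc A A K K (⨂[A] _ : Fin d, B) B
    let e3 : (K ⊗[A] (⨂[A] _ : Fin d, B)) ⊗[K] (K ⊗[A] B) ≃ₐ[K]
        (K ⊗[A] (⨂[A] _ : Fin d, B)) ⊗[A] B :=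
      Algebra.TensorProduct.cancelBaseChange A K K (K ⊗[A] (⨂[A] _ : Fin d, B)) B
    let e4 : (K ⊗[A] (⨂[A] _ : Fin d, B)) ⊗[K] (K ⊗[A] B) ≃ₐ[K]
        (K ⊗[A] B) ⊗[K] (K ⊗[A] (⨂[A] _ : Fin d, B)) := Algebra.TensorProduct.comm K _ _
    let e := ((e1.trans e2.symm).trans e3.symm).trans e4
    exact isReduced_of_injective e.toRingEquiv.toRingHom e.injective

end Tpow

section Main

variable {A : Type u} [CommRing A] {B : Type u} [CommRing B] [Algebra A B]
  {C : Type u} [CommRing C] [Algebra A C] {d : ℕ}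

theorem isReduced_tensor_gamma (γ : PolLaw.MulLaw A B C d) (hγ : PolLaw.IsGammaD γ)
    [Module.Flat A B]
    (hred : ∀ (K : Type u) [Field K] [Algebra A K], IsReduced (K ⊗[A] B))
    (K : Type u) [Field K] [Algebra A K] : IsReduced (K ⊗[A] C) := by
  obtain ⟨e, -⟩ := GammaUniq75.exists_algEquiv_TS γ hγ (Or.inl inferInstance)
  let ψ : C →ₐ[A] (⨂[A] _ : Fin d, B) := (SymTen.TS A B d).val.comp e.toAlgHom
  let Ψ : K ⊗[A] C →ₐ[K] K ⊗[A] (⨂[A] _ : Fin d, B) :=
    Algebra.TensorProduct.map (AlgHom.id K K) ψ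
  -- the underlying linear map
  let ε : C ≃ₗ[A] Groth.Agent.Lib.SymTensorFlat.TS A B d :=
    e.toLinearEquiv.trans GammaUniq75.linearEquivTS
  have hψ : ψ.toLinearMap = (Groth.Agent.Lib.SymTensorFlat.TS A B d).subtype ∘ₗ ε.toLinearMap := by
    apply LinearMap.ext
    intro c
    rfl
  have hΨ : ∀ x, Ψ x = ψ.toLinearMap.lTensor K x := by
    intro x
    induction x using TensorProduct.induction_on with
    | zero => simp
    | tmul a b => simp [Ψ]
    | add a b ha hb => rw [map_add, map_add, ha, hb]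
  have hinj : Function.Injective Ψ := by
    intro x y hxy
    rw [hΨ, hΨ, hψ, LinearMap.lTensor_comp, LinearMap.comp_apply, LinearMap.comp_apply] at hxy
    have h1 := SymTensorPure75.lTensor_TS_injective (A := A) B d K hxy
    exact (ε.lTensor K).injective h1
  have := isReduced_tensor_tpow hred d K
  exact isReduced_of_injective Ψ.toRingHom hinj

end Main

end Groth.Agent.Lib.GammaRed75
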