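import Groth.Agent.Lib.FreeModStalk
import Mathlib.CategoryTheory.Idempotents.Basic
import Mathlib.Algebra.Module.Projective

/-!
# Global sections on retracts of finite free `O_X`-modules

* `Γfun X : X.Modules ⥤ ModuleCat Γ(X, ⊤)`, the global sections functor (additive).
* `basisΓ`: `Γ(O_X^n)` is free over `Γ(X, ⊤)` on the standard sections.
* `bijective_map_of_free`: `Hom(O_X^n, M) → Hom_R(Γ(O_X^n), Γ(M))` is bijective.
* `bijective_map_of_retract`: the same for retracts of `O_X^n`.
* `equivalence`: the category of retracts of finite free `O_X`-modules is equivalent to the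
  category of finite projective `Γ(X, ⊤)`-modules.
-/

set_option autoImplicit false
universe u

open CategoryTheory CategoryTheory.Limits AlgebraicGeometry TopologicalSpace Opposite

namespace Groth.Agent.Lib.GammaRetract

open Groth.Agent.Lib.FreeModSch Groth.Agent.Lib.FreeModStalk

variable {X : Scheme.{u}}

/-- The global sections functor with values in `Γ(X, ⊤)`-modules. -/
noncomputable def Γfun (X : Scheme.{u}) : X.Modules ⥤ ModuleCat.{u} Γ(X, ⊤) :=
  SheafOfModules.evaluation (R := X.ringCatSheaf) (op ⊤)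

instance : (Γfun X).Additive where
  map_add {M N f g} := by
    ext s
    rfl

theorem Γfun_map_apply {M N : X.Modules} (f : M ⟶ N) (s : (Γfun X).obj M) :
    ((Γfun X).map f).hom s = f.app ⊤ s := rfl

section General

variable {C D : Type*} [Category C] [Category D] (F : C ⥤ D)

/-- If `F` is bijective on `Hom(A, N)` and `M` is a retract of `A`, then `F` is bijective on
`Hom(M, N)`. -/
theorem bijective_map_of_retract' {A M N : C} (i : M ⟶ A) (r : A ⟶ M) (hir : i ≫ r = 𝟙 M)
    (hA : Function.Bijective (fun f : A ⟶ N => F.map f)) :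
    Function.Bijective (fun f : M ⟶ N => F.map f) := by
  constructor
  · intro f g hfg
    have h1 : F.map (r ≫ f) = F.map (r ≫ g) := by
      rw [F.map_comp, F.map_comp]
      exact congrArg _ hfg
    have h2 : r ≫ f = r ≫ g := hA.1 h1
    calc f = (i ≫ r) ≫ f := by rw [hir, Category.id_comp]
      _ = i ≫ r ≫ g := by rw [Category.assoc, h2]
      _ = g := by rw [← Category.assoc, hir, Category.id_comp]
  · intro h
    obtain ⟨φ, hφ⟩ := hA.2 (F.map r ≫ h)
    refine ⟨i ≫ φ, ?_⟩
    change F.map (i ≫ φ) = h
    have hφ' : F.map φ = F.map r ≫ h := hφ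
    rw [F.map_comp, hφ', ← Category.assoc, ← F.map_comp, hir, F.map_id, Category.id_comp]

end General

section Free

variable (X) (n : ℕ)

theorem ι_app_eq_smul_basisSec (i : Fin n) (a : Γ(X, ⊤)) :
    (Sigma.ι (fun _ : Fin n => Coh.structureModule X) i).app ⊤
      (show Γ(Coh.structureModule X, ⊤) from a) = a • basisSec X n i := by
  have ha : (show Γ(Coh.structureModule X, ⊤) from a) =
      a • (show Γ(Coh.structureModule X, ⊤) from (1 : Γ(X, ⊤))) := (mul_one a).symm
  calc (Sigma.ι (fun _ : Fin n => Coh.structureModule X) i).app ⊤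
        (show Γ(Coh.structureModule X, ⊤) from a)
      = (Sigma.ι (fun _ : Fin n => Coh.structureModule X) i).app ⊤
          (a • (show Γ(Coh.structureModule X, ⊤) from (1 : Γ(X, ⊤)))) := congrArg _ ha
    _ = a • (Sigma.ι (fun _ : Fin n => Coh.structureModule X) i).app ⊤
          (show Γ(Coh.structureModule X, ⊤) from (1 : Γ(X, ⊤))) :=
        Scheme.Modules.Hom.app_smul _ _ _
    _ = a • basisSec X n i := rfl

/-- Every global section of `O_X^n` is a combination of the standard sections. -/
theorem section_eq_sum (s : Γ(FlatMod.freeMod X n, ⊤)) :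
    s = ∑ i, (show Γ(X, ⊤) from (proj X n i).app ⊤ s) • basisSec X n i := by
  have h := congrArg (fun f => ((Γfun X).map f).hom s) (sum_proj_ι X n)
  simp only [Functor.map_sum, CategoryTheory.Functor.map_id] at h
  have h1 : ((∑ i, (Γfun X).map (proj X n i ≫
      Sigma.ι (fun _ : Fin n => Coh.structureModule X) i)).hom) s = s := h
  rw [ModuleCat.hom_sum, LinearMap.sum_apply] at h1
  conv_lhs => rw [← h1]
  refine Finset.sum_congr rfl (fun i _ => ?_)
  rw [Functor.map_comp]
  exact ι_app_eq_smul_basisSec X n i (show Γ(X, ⊤) from (proj X n i).app ⊤ s)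

theorem proj_app_basisSec (i j : Fin n) :
    (proj X n i).app ⊤ (basisSec X n j) =
      if j = i then toSection (𝟙 (Coh.structureModule X)) else 0 := by
  unfold basisSec
  rw [← toSection_comp, ι_proj]
  split_ifs
  · rfl
  · rfl

end Free

section Basis

variable (X) (n : ℕ)

/-- The standard sections, as elements of the module `Γ(O_X^n)`. -/
noncomputable def basisSecΓ (i : Fin n) : (Γfun X).obj (FlatMod.freeMod X n) := basisSec X n i

theorem map_proj_smul_basisSecΓ (c : Γ(X, ⊤)) (i j : Fin n) :
    ((Γfun X).map (proj X n j)).hom (c • basisSecΓ X n i) =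
      if i = j then (show (Γfun X).obj (Coh.structureModule X) from c) else 0 := by
  have h0 := proj_app_basisSec X n j i
  by_cases hij : i = j
  · rw [if_pos hij, map_smul]
    rw [if_pos hij] at h0
    have h : ((Γfun X).map (proj X n j)).hom (basisSecΓ X n i) =
        (show (Γfun X).obj (Coh.structureModule X) from
          toSection (𝟙 (Coh.structureModule X))) := h0
    rw [h]
    exact mul_one c
  · rw [if_neg hij, map_smul]
    rw [if_neg hij] at h0
    have h : ((Γfun X).map (proj X n j)).hom (basisSecΓ X n i) = 0 := h0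
    rw [h, smul_zero]

theorem linearIndependent_basisSecΓ : LinearIndependent Γ(X, ⊤) (basisSecΓ X n) := by
  rw [Fintype.linearIndependent_iff]
  intro c hc j
  have h1 : ((Γfun X).map (proj X n j)).hom (∑ i, c i • basisSecΓ X n i) = 0 := by
    rw [hc, map_zero]
  rw [map_sum] at h1
  simp only [map_proj_smul_basisSecΓ, Finset.sum_ite_eq', Finset.mem_univ, if_true] at h1
  exact h1

theorem span_basisSecΓ : Submodule.span Γ(X, ⊤) (Set.range (basisSecΓ X n)) = ⊤ := by
  rw [eq_top_iff]
  rintro s -
  have hs : s = ∑ i, (show Γ(X, ⊤) from (proj X n i).app ⊤ s) • basisSecΓ X n i :=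
    section_eq_sum X n s
  rw [hs]
  refine Submodule.sum_mem _ (fun i _ => ?_)
  exact Submodule.smul_mem _ _ (Submodule.subset_span ⟨i, rfl⟩)

/-- `Γ(O_X^n)` is free over `Γ(X, ⊤)` on the standard sections. -/
noncomputable def basisΓ :
    Module.Basis (Fin n) Γ(X, ⊤) ((Γfun X).obj (FlatMod.freeMod X n)) :=
  Module.Basis.mk (linearIndependent_basisSecΓ X n) (span_basisSecΓ X n).ge

theorem basisΓ_apply (i : Fin n) : basisΓ X n i = basisSec X n i := by
  unfold basisΓ
  rw [Module.Basis.mk_apply]
  rfl

instance : Module.Free Γ(X, ⊤) ((Γfun X).obj (FlatMod.freeMod X n)) :=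
  Module.Free.of_basis (basisΓ X n)

instance : Module.Finite Γ(X, ⊤) ((Γfun X).obj (FlatMod.freeMod X n)) :=
  Module.Finite.of_basis (basisΓ X n)

end Basis

section FullyFaithful

/-- `Γ` is bijective on morphisms out of a finite free module. -/
theorem bijective_map_of_free (M : X.Modules) (n : ℕ) :
    Function.Bijective (fun f : FlatMod.freeMod X n ⟶ M => (Γfun X).map f) := by
  constructor
  · intro f g hfg
    apply freeMod_hom_ext
    intro i
    rw [toSection_comp, toSection_comp]
    exact congrArg (fun h => h.hom (basisSec X n i)) hfg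
  · intro h
    refine ⟨ofSections M (fun i => h.hom (basisSec X n i)), ?_⟩
    apply ModuleCat.hom_ext
    apply (basisΓ X n).ext
    intro i
    rw [basisΓ_apply]
    change (ofSections M fun i => h.hom (basisSec X n i)).app ⊤ (basisSec X n i) = _
    unfold basisSec
    rw [← toSection_comp, ι_ofSections, toSection_ofSection]

/-- `Γ` is bijective on morphisms out of a retract of a finite free module. -/
theorem bijective_map_of_retract {M N : X.Modules} {n : ℕ} (i : M ⟶ FlatMod.freeMod X n)
    (r : FlatMod.freeMod X n ⟶ M) (hir : i ≫ r = 𝟙 M) :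
    Function.Bijective (fun f : M ⟶ N => (Γfun X).map f) :=
  bijective_map_of_retract' (Γfun X) i r hir (bijective_map_of_free N n)

end FullyFaithful

section Equivalence

variable (X)

/-- Retracts of finite free `O_X`-modules. -/
def IsRetractOfFree : ObjectProperty X.Modules := fun M : X.Modules =>
  ∃ (n : ℕ) (i : M ⟶ FlatMod.freeMod X n) (r : FlatMod.freeMod X n ⟶ M), i ≫ r = 𝟙 M

/-- Finite projective `Γ(X, ⊤)`-modules. -/
def IsFinProj : ObjectProperty (ModuleCat.{u} Γ(X, ⊤)) := fun N : ModuleCat.{u} (Γ(X, ⊤)) =>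
  Module.Finite (Γ(X, ⊤)) N ∧ Module.Projective (Γ(X, ⊤)) N

variable {X}

theorem isFinProj_Γ {M : X.Modules} (hM : IsRetractOfFree X M) :
    IsFinProj X ((Γfun X).obj M) := by
  obtain ⟨n, i, r, hir⟩ := hM
  have h : ((Γfun X).map r).hom ∘ₗ ((Γfun X).map i).hom = LinearMap.id := by
    have h1 : (Γfun X).map i ≫ (Γfun X).map r = 𝟙 _ := by
      rw [← Functor.map_comp, hir, CategoryTheory.Functor.map_id]
    exact congrArg ModuleCat.Hom.hom h1
  constructor
  · refine Module.Finite.of_surjective ((Γfun X).map r).hom (fun m => ?_)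
    exact ⟨((Γfun X).map i).hom m, LinearMap.congr_fun h m⟩
  · exact Module.Projective.of_split _ _ h

/-- The global sections functor from retracts of finite free modules to finite projective
modules. -/
noncomputable def functorΓ (X : Scheme.{u}) :
    (IsRetractOfFree X).FullSubcategory ⥤ (IsFinProj X).FullSubcategory :=
  (IsFinProj X).lift ((IsRetractOfFree X).ι ⋙ Γfun X) (fun M => isFinProj_Γ M.property)

instance : ((IsRetractOfFree X).ι ⋙ Γfun X).Faithful where
  map_injective {M N} f g hfg := by
    obtain ⟨n, i, r, hir⟩ := M.property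
    apply (IsRetractOfFree X).ι.map_injective
    exact (bijective_map_of_retract (N := N.obj) i r hir).1 hfg

instance : ((IsRetractOfFree X).ι ⋙ Γfun X).Full where
  map_surjective {M N} h := by
    obtain ⟨n, i, r, hir⟩ := M.property
    obtain ⟨f, hf⟩ := (bijective_map_of_retract (N := N.obj) i r hir).2 h
    exact ⟨(IsRetractOfFree X).ι.preimage f, by
      change (Γfun X).map ((IsRetractOfFree X).ι.map ((IsRetractOfFree X).ι.preimage f)) = h
      rw [Functor.map_preimage]
      exact hf⟩

instance : (functorΓ X).Faithful := by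
  unfold functorΓ
  infer_instance

instance : (functorΓ X).Full := by
  unfold functorΓ
  infer_instance

theorem exists_retract_iso (N : ModuleCat.{u} Γ(X, ⊤)) (hN : IsFinProj X N) :
    ∃ M : X.Modules, IsRetractOfFree X M ∧ Nonempty ((Γfun X).obj M ≅ N) := by
  obtain ⟨hfin, hproj⟩ := hN
  obtain ⟨n, s, hs⟩ := Module.Finite.exists_fin (R := Γ(X, ⊤)) (M := N)
  let π : (Γfun X).obj (FlatMod.freeMod X n) →ₗ[Γ(X, ⊤)] N := (basisΓ X n).constr Γ(X, ⊤) s
  have hπ : Function.Surjective π := by
    rw [← LinearMap.range_eq_top, eq_top_iff, ← hs, Submodule.span_le]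
    rintro _ ⟨i, rfl⟩
    exact ⟨basisΓ X n i, (basisΓ X n).constr_basis Γ(X, ⊤) s i⟩
  obtain ⟨σ, hσ⟩ := Module.projective_lifting_property π LinearMap.id hπ
  let P0 : ModuleCat.{u} Γ(X, ⊤) := (Γfun X).obj (FlatMod.freeMod X n)
  let eπ : P0 ⟶ N := ModuleCat.ofHom π
  let eσ : N ⟶ P0 := ModuleCat.ofHom σ
  have hσπ : eσ ≫ eπ = 𝟙 N := by
    change ModuleCat.ofHom σ ≫ ModuleCat.ofHom π = 𝟙 N
    rw [← ModuleCat.ofHom_comp, hσ]
    rfl
  obtain ⟨ε, hε⟩ := (bijective_map_of_free (FlatMod.freeMod X n) n).2 (eπ ≫ eσ)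
  have hε' : (Γfun X).map ε = eπ ≫ eσ := hε
  have hidem : ε ≫ ε = ε := by
    apply (bijective_map_of_free (FlatMod.freeMod X n) n).1
    change (Γfun X).map (ε ≫ ε) = (Γfun X).map ε
    rw [Functor.map_comp, hε', Category.assoc, ← Category.assoc eσ, hσπ, Category.id_comp]
  obtain ⟨M, i, r, hir, hri⟩ :=
    IsIdempotentComplete.idempotents_split (FlatMod.freeMod X n) ε hidem
  refine ⟨M, ⟨n, i, r, hir⟩, ⟨?_⟩⟩
  refine ⟨(Γfun X).map i ≫ eπ, eσ ≫ (Γfun X).map r, ?_, ?_⟩
  · rw [Category.assoc, ← Category.assoc eπ, ← hε', ← Functor.map_comp,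
      ← Functor.map_comp, ← hri, Category.assoc, hir, Category.comp_id, hir,
      CategoryTheory.Functor.map_id]
  · rw [Category.assoc, ← Category.assoc ((Γfun X).map r), ← Functor.map_comp, hri, hε',
      Category.assoc, hσπ, Category.comp_id, hσπ]

instance : (functorΓ X).EssSurj where
  mem_essImage N := by
    obtain ⟨M, hM, ⟨e⟩⟩ := exists_retract_iso N.obj N.property
    exact ⟨⟨M, hM⟩, ⟨ObjectProperty.isoMk _ e⟩⟩

instance : (functorΓ X).IsEquivalence where

/-- **The category of retracts of finite free `O_X`-modules is equivalent to the category of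
finite projective `Γ(X, ⊤)`-modules.** -/
theorem nonempty_equivalence (X : Scheme.{u}) :
    Nonempty ((IsRetractOfFree X).FullSubcategory ≌ (IsFinProj X).FullSubcategory) :=
  ⟨(functorΓ X).asEquivalence⟩

end Equivalence

end Groth.Agent.Lib.GammaRetract
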