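import Groth.Prelude.Def_PolLaw
import Groth.Agent.Lib.GammaFunctional75

/-!
# `Γ^d_A(M)` is not spanned by the `γ_d(m)` over small residue fields (helper75)
-/

set_option autoImplicit false
set_option linter.unusedSectionVars false
set_option linter.unusedVariables false
universe u
open DividedPowerAlgebra

namespace Groth.Agent.Lib.GammaSpan75

open Groth.Agent.Lib.GammaFunctional75

/-- two "independent" linear forms with values in a small finite field contradict spanning -/
theorem not_span_of_forms {A M : Type u} [CommRing A] [AddCommGroup M] [Module A M]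
    {k : Type u} [Field k] [Fintype k] [Algebra A k] (d : ℕ) (hd : Fintype.card k < d)
    (x y : M →ₗ[A] k) (m₁ m₂ : M) (hy1 : y m₁ = 0) (hx1 : x m₁ ≠ 0) (hy2 : y m₂ ≠ 0)
    (h : Submodule.span A (Set.range (dp A d : M → DividedPowerAlgebra A M)) =
      PolLaw.gammaPiece A M d) : False := by
  classical
  have hq : 0 < Fintype.card k := Fintype.card_pos
  obtain ⟨L, hLdef⟩ : ∃ L : List (M →ₗ[A] k), L =
      ((Finset.univ : Finset k).toList.map (fun c : k => x - c • y)) ++
        List.replicate (d - Fintype.card k - 1) x := ⟨_, rfl⟩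
  have hL : L.length = d - 1 := by
    rw [hLdef, List.length_append, List.length_map, Finset.length_toList, List.length_replicate,
      Finset.card_univ]
    omega
  obtain ⟨ℓ, h1, h2⟩ := exists_linear_functional L y
  have hd1 : L.length + 1 = d := by omega
  have hvan : ∀ m, ℓ (dp A d m) = 0 := by
    intro m
    have h3 := h1 m
    rw [hd1] at h3
    rw [h3]
    by_cases hym : y m = 0
    · rw [hym, zero_mul]
    · rw [List.prod_eq_zero, mul_zero]
      rw [List.mem_map]
      refine ⟨x - (x m / y m) • y, ?_, ?_⟩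
      · rw [hLdef]
        apply List.mem_append_left
        exact List.mem_map.mpr ⟨x m / y m, Finset.mem_toList.mpr (Finset.mem_univ _), rfl⟩
      · rw [LinearMap.sub_apply, LinearMap.smul_apply, smul_eq_mul, div_mul_cancel₀ _ hym,
          sub_self]
  have htest : ℓ (dp A (d - 1) m₁ * dp A 1 m₂) ≠ 0 := by
    rw [← hL, h2 m₁ m₂ hy1]
    apply mul_ne_zero hy2
    apply List.prod_ne_zero
    rw [List.mem_map]
    rintro ⟨lam, hlam, h0⟩
    rw [hLdef] at hlam
    rcases List.mem_append.mp hlam with h | h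
    · obtain ⟨c, -, rfl⟩ := List.mem_map.mp h
      rw [LinearMap.sub_apply, LinearMap.smul_apply, hy1, smul_zero, sub_zero] at h0
      exact hx1 h0
    · rw [List.eq_of_mem_replicate h] at h0
      exact hx1 h0
  have hmem : dp A (d - 1) m₁ * dp A 1 m₂ ∈ PolLaw.gammaPiece A M d := by
    apply Submodule.subset_span
    refine ⟨2, ![d - 1, 1], ![m₁, m₂], ?_, ?_⟩
    · rw [Fin.sum_univ_two]
      simp only [Matrix.cons_val_zero, Matrix.cons_val_one]
      omega
    · rw [Fin.prod_univ_two]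
      simp only [Matrix.cons_val_zero, Matrix.cons_val_one]
  rw [← h] at hmem
  have hker : Submodule.span A (Set.range (dp A d : M → DividedPowerAlgebra A M)) ≤
      LinearMap.ker ℓ := by
    rw [Submodule.span_le]
    rintro _ ⟨m, rfl⟩
    exact hvan m
  exact htest (hker hmem)

open scoped TensorProduct

/-- if the localisation `M_𝔭` is not cyclic, there are two "independent" linear forms
`M → κ(𝔭)` -/
theorem exists_forms_of_not_cyclic {A M : Type u} [CommRing A] [AddCommGroup M] [Module A M]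
    [Module.Finite A M] (𝔭 : Ideal A) [𝔭.IsPrime]
    (hnc : ¬ ∃ x : LocalizedModule 𝔭.primeCompl M,
      Submodule.span (Localization.AtPrime 𝔭) {x} = ⊤) :
    ∃ (x y : M →ₗ[A] 𝔭.ResidueField) (m₁ m₂ : M), y m₁ = 0 ∧ x m₁ ≠ 0 ∧ y m₂ ≠ 0 := by
  classical
  let Ap := Localization.AtPrime 𝔭
  let Mp := LocalizedModule 𝔭.primeCompl M
  let k := 𝔭.ResidueField
  have hsurj : Function.Surjective (TensorProduct.mk Ap k Mp 1) :=
    TensorProduct.mk_surjective Ap Mp k Ideal.Quotient.mk_surjective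
  have hfr : 1 < Module.finrank k (k ⊗[Ap] Mp) := by
    by_contra hle
    push Not at hle
    apply hnc
    obtain ⟨v, hv⟩ := finrank_le_one_iff.mp hle
    obtain ⟨x₀, rfl⟩ := hsurj v
    refine ⟨x₀, ?_⟩
    rw [← IsLocalRing.map_tensorProduct_mk_eq_top (R := Ap) (M := Mp), eq_top_iff]
    intro w _
    obtain ⟨c, rfl⟩ := hv w
    obtain ⟨c', rfl⟩ := Ideal.Quotient.mk_surjective c
    refine ⟨c' • x₀, Submodule.smul_mem _ _ (Submodule.mem_span_singleton_self x₀), ?_⟩
    rw [map_smul]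
    rfl
  -- two independent vectors
  obtain ⟨v₁, hv₁⟩ := Module.finrank_pos_iff_exists_ne_zero.mp (lt_trans zero_lt_one hfr)
  obtain ⟨v₂, hv₂⟩ := exists_linearIndependent_pair_of_one_lt_finrank hfr hv₁
  have hinj : LinearMap.ker (Fintype.linearCombination k ![v₁, v₂]) = ⊥ :=
    Fintype.linearIndependent_iff'.mp hv₂
  obtain ⟨g, hg⟩ := LinearMap.exists_leftInverse_of_injective _ hinj
  have hg1 : g v₁ = ![1, 0] := by
    have := LinearMap.congr_fun hg ![1, 0]
    simpa [Fintype.linearCombination_apply, Fin.sum_univ_two] using this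
  have hg2 : g v₂ = ![0, 1] := by
    have := LinearMap.congr_fun hg ![0, 1]
    simpa [Fintype.linearCombination_apply, Fin.sum_univ_two] using this
  -- the forms on `V`
  let x' : (k ⊗[Ap] Mp) →ₗ[k] k := (LinearMap.proj 0) ∘ₗ g
  let y' : (k ⊗[Ap] Mp) →ₗ[k] k := (LinearMap.proj 1) ∘ₗ g
  have hx'1 : x' v₁ = 1 := by simp [x', hg1]
  have hy'1 : y' v₁ = 0 := by simp [y', hg1]
  have hy'2 : y' v₂ = 1 := by simp [y', hg2]
  -- pull back to `M`
  let toM : (k ⊗[Ap] Mp →ₗ[k] k) → (M →ₗ[A] k) := fun f =>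
    (((f.restrictScalars Ap) ∘ₗ (TensorProduct.mk Ap k Mp 1)).restrictScalars A) ∘ₗ
      (LocalizedModule.mkLinearMap 𝔭.primeCompl M)
  have htoM : ∀ (f : k ⊗[Ap] Mp →ₗ[k] k) (m : M),
      toM f m = f ((1 : k) ⊗ₜ[Ap] (LocalizedModule.mk m 1 : Mp)) := fun f m => rfl
  -- representatives
  obtain ⟨ξ₁, rfl⟩ := hsurj v₁
  obtain ⟨ξ₂, rfl⟩ := hsurj v₂
  obtain ⟨⟨m₁, s₁⟩, rfl⟩ : ∃ ms : M × 𝔭.primeCompl, LocalizedModule.mk ms.1 ms.2 = ξ₁ := by
    induction ξ₁ using LocalizedModule.induction_on with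
    | h m s => exact ⟨⟨m, s⟩, rfl⟩
  obtain ⟨⟨m₂, s₂⟩, rfl⟩ : ∃ ms : M × 𝔭.primeCompl, LocalizedModule.mk ms.1 ms.2 = ξ₂ := by
    induction ξ₂ using LocalizedModule.induction_on with
    | h m s => exact ⟨⟨m, s⟩, rfl⟩
  have hkey : ∀ (f : k ⊗[Ap] Mp →ₗ[k] k) (m : M) (s : 𝔭.primeCompl),
      toM f m = algebraMap A k s * f (TensorProduct.mk Ap k Mp 1 (LocalizedModule.mk m s)) := by
    intro f m s
    rw [htoM]
    have e1 : (LocalizedModule.mk m 1 : Mp) = (s : A) • (LocalizedModule.mk m s : Mp) := by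
      rw [LocalizedModule.smul'_mk]
      exact (LocalizedModule.mk_cancel s m).symm
    have e2 : (1 : k) ⊗ₜ[Ap] ((s : A) • (LocalizedModule.mk m s : Mp)) =
        (algebraMap A k s) • ((1 : k) ⊗ₜ[Ap] (LocalizedModule.mk m s : Mp)) := by
      rw [← algebraMap_smul Ap (s : A) (LocalizedModule.mk m s : Mp), ← TensorProduct.smul_tmul,
        TensorProduct.smul_tmul', Algebra.smul_def, mul_one, smul_eq_mul, mul_one]
      rfl
    rw [e1, e2, map_smul, smul_eq_mul]
    rfl
  have hs : ∀ s : 𝔭.primeCompl, algebraMap A k s ≠ 0 := fun s h =>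
    s.2 (Ideal.algebraMap_residueField_eq_zero.mp h)
  refine ⟨toM x', toM y', m₁, m₂, ?_, ?_, ?_⟩
  · rw [hkey y' m₁ s₁, hy'1, mul_zero]
  · rw [hkey x' m₁ s₁, hx'1, mul_one]
    exact hs s₁
  · rw [hkey y' m₂ s₂, hy'2, mul_one]
    exact hs s₂

end Groth.Agent.Lib.GammaSpan75
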