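import Groth.Agent.Lib.SymPolar23
import Groth.Agent.Lib.KerBC23

/-!
# Polarization and kernels of polynomial laws when `d!` is invertible (helper23)

* `mu_perm`: the full polarization `mu F` is symmetric.
* `multilinear_eq_zero_of_span`: a multilinear map vanishing on a finite spanning family vanishes.
* `Kc F d b`: the linear "polar" conditions `mu F (…, b * mᵢ, …) = 0`; `mem_ker_of_Kc`: they imply `b ∈ ker F` when `d!` is a
  unit.
* `psi_tpow`: `ψ ∘ (x ↦ x ⊗ ⋯ ⊗ x) = d! • F`; `MS`, `muS`: the multilinear extensions of `tprod` and of the polarization to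
  `S ⊗ B`; `muS_diag`, `muS_update`.
* `sum_pairing`: an inclusion–exclusion sum of a function insensitive to one element vanishes.
* `polar_kerBC`: elements of `kerBC F A'` satisfy the `A'`-linear extensions of the polar conditions.
-/

set_option autoImplicit false
universe u
open scoped TensorProduct
open MvPolynomial

namespace Groth.Agent.Lib.PolarKer23

open Groth.Agent.Lib.PolLaw23 Groth.Agent.Lib.PolLawExt23 Groth.Agent.Lib.PolLawGen23
  Groth.Agent.Lib.PolLawSpan23 Groth.Agent.Lib.PolLawCoeff23 Groth.Agent.Lib.Polarize23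
  Groth.Agent.Lib.SymPolar23 Groth.Agent.Lib.KerBC23

section Perm

variable {A : Type u} [CommRing A] {M N : Type u} [AddCommGroup M] [Module A M] [AddCommGroup N] [Module A N]
  (F : M →ₚₗ[A] N) {d : ℕ}

/-- The full polarization is symmetric. -/
theorem mu_perm (m : Fin d → M) (σ : Equiv.Perm (Fin d)) : mu F (fun i => m (σ i)) = mu F m := by
  classical
  have h1 := cfs_subst F m (σ.symm : Fin d → Fin d) (fun _ => (1 : A)) (fun i => m (σ i)) (by
    intro j
    rw [Finset.sum_eq_single (σ j)]
    · simp
    · intro k _ hk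
      rw [if_neg]
      intro h
      apply hk
      rw [← h]
      simp
    · intro h
      exact absurd (Finset.mem_univ _) h) (ones d)
  rw [mu, h1, mu]
  have h2 : ∀ β : Fin d →₀ ℕ, Finsupp.mapDomain (σ.symm : Fin d → Fin d) β = ones d ↔ β = ones d := by
    intro β
    constructor
    · intro h
      ext j
      have := DFunLike.congr_fun h (σ.symm j)
      rw [Finsupp.mapDomain_equiv_apply, ones_apply] at this
      rw [ones_apply, ← this]
      simp
    · intro h
      ext j
      rw [Finsupp.mapDomain_equiv_apply, h, ones_apply, ones_apply]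
  by_cases h0 : ones d ∈ (cfs F m).support
  · rw [Finset.sum_eq_single (ones d)]
    · rw [if_pos ((h2 _).2 rfl)]
      simp [Finsupp.prod]
    · intro β _ hβ
      rw [if_neg (fun h => hβ ((h2 β).1 h)), zero_smul]
    · intro h
      exact absurd h0 h
  · rw [Finsupp.notMem_support_iff.1 h0]
    refine Finset.sum_eq_zero fun β hβ => ?_
    rw [if_neg, zero_smul]
    intro h
    apply h0
    rw [← (h2 β).1 h]
    exact hβ

end Perm

section Span

variable {A : Type u} [CommRing A] {M N : Type u} [AddCommGroup M] [Module A M] [AddCommGroup N] [Module A N]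
  {d : ℕ}

/-- A multilinear map vanishing on a spanning family vanishes. -/
theorem multilinear_eq_zero_of_span {n : ℕ} (e : Fin n → M) (he : Submodule.span A (Set.range e) = ⊤)
    (g : MultilinearMap A (fun _ : Fin d => M) N) (h : ∀ c : Fin d → Fin n, g (fun i => e (c i)) = 0)
    (m : Fin d → M) : g m = 0 := by
  classical
  have h1 : ∀ i, ∃ r : Fin n → A, ∑ l, r l • e l = m i := by
    intro i
    have : m i ∈ Submodule.span A (Set.range e) := by rw [he]; trivial
    exact (Submodule.mem_span_range_iff_exists_fun A).1 this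
  choose r hr using h1
  have h2 : m = fun i => ∑ l, r i l • e l := by
    funext i
    rw [hr]
  rw [h2, MultilinearMap.map_sum]
  refine Finset.sum_eq_zero fun c _ => ?_
  rw [MultilinearMap.map_smul_univ, h, smul_zero]

end Span

section Ker

variable {A : Type u} [CommRing A] {B : Type u} [CommRing B] [Algebra A B] (F : B →ₚₗ[A] A) {d : ℕ}

/-- The linear ("polar") conditions cutting out the kernel in characteristic zero. -/
def Kc (d : ℕ) (b : B) : Prop := ∀ (i0 : Fin d) (m : Fin d → B), mu F (Function.update m i0 (b * m i0)) = 0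

/-- If `d!` is invertible, the polar conditions imply membership in the kernel. -/
theorem mem_ker_of_Kc (hF : PolLaw.IsHomog F d) (hd : IsUnit ((d.factorial : ℕ) : A)) (b : B) (hb : Kc F d b) :
    b ∈ PolLaw.ker F := by
  classical
  rw [mem_ker_iff]
  intro S _ _ x w
  obtain ⟨n, s, xb, rfl⟩ := exists_fin_sum_tmul x
  obtain ⟨q, r, wb, rfl⟩ := exists_fin_sum_tmul w
  set β : Fin (n + q) → B := Fin.append xb (fun k => b * wb k) with hβ
  have e1 : (∑ j, s j ⊗ₜ[A] xb j) + (∑ k, r k ⊗ₜ[A] wb k) * ((1 : S) ⊗ₜ[A] b) =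
      ∑ j, (Fin.append s r) j ⊗ₜ[A] β j := by
    rw [Fin.sum_univ_add, Finset.sum_mul]
    simp only [hβ, Fin.append_left, Fin.append_right, Algebra.TensorProduct.tmul_mul_tmul, mul_one, mul_comm b]
  have e2 : (∑ j, s j ⊗ₜ[A] xb j) = ∑ j, (Fin.append s (fun _ => (0 : S))) j ⊗ₜ[A] β j := by
    rw [Fin.sum_univ_add]
    simp only [hβ, Fin.append_left, Fin.append_right, TensorProduct.zero_tmul, Finset.sum_const_zero, add_zero]
  have hinj : ∀ u v : S ⊗[A] A, d.factorial • u = d.factorial • v → u = v := by
    intro u v huv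
    obtain ⟨a, ha⟩ := hd.exists_left_inv
    have h1 : ∀ t : S ⊗[A] A, a • (d.factorial • t) = t := by
      intro t
      rw [← Nat.cast_smul_eq_nsmul A, smul_smul, ha, one_smul]
    rw [← h1 u, huv, h1 v]
  apply hinj
  rw [e1, ← key F hF S _ β, e2, ← key F hF S _ β]
  refine Finset.sum_congr rfl fun c _ => ?_
  by_cases hc : ∀ i, (c i).val < n
  · congr 1
    refine Finset.prod_congr rfl fun i _ => ?_
    have : c i = Fin.castAdd q ⟨(c i).val, hc i⟩ := by
      ext; rfl
    rw [this, Fin.append_left, Fin.append_left]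
  · push Not at hc
    obtain ⟨i0, hi0⟩ := hc
    have h3 : c i0 = Fin.natAdd n ⟨(c i0).val - n, by have := (c i0).isLt; omega⟩ := by
      ext
      simp only [Fin.natAdd_mk]
      omega
    have h4 : (fun i => β (c i)) = Function.update (fun i => if i = i0 then wb ⟨(c i0).val - n, by have := (c i0).isLt; omega⟩ else β (c i)) i0
        (b * (fun i => if i = i0 then wb ⟨(c i0).val - n, by have := (c i0).isLt; omega⟩ else β (c i)) i0) := by
      funext i
      by_cases hi : i = i0
      · subst hi
        rw [Function.update_self]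
        simp only [if_true]
        conv_lhs => rw [h3]
        rw [hβ, Fin.append_right]
      · rw [Function.update_of_ne hi, if_neg hi]
    rw [h4, hb, TensorProduct.tmul_zero, TensorProduct.tmul_zero]

end Ker

section Pair

/-- Inclusion–exclusion sums of a function insensitive to one element vanish. -/
theorem sum_pairing {d : ℕ} {E : Type*} [AddCommGroup E] (G : Finset (Fin d) → E) (i0 : Fin d)
    (h : ∀ U : Finset (Fin d), i0 ∉ U → G (insert i0 U) = G U) :
    ∑ U : Finset (Fin d), ((-1 : ℤ) ^ (Uᶜ).card) • G U = 0 := by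
  classical
  have h1 : (Finset.univ : Finset (Finset (Fin d))) = (insert i0 ((Finset.univ : Finset (Fin d)).erase i0)).powerset := by
    rw [Finset.insert_erase (Finset.mem_univ _), Finset.powerset_univ]
  rw [h1, Finset.sum_powerset_insert (Finset.notMem_erase _ _), ← Finset.sum_add_distrib]
  refine Finset.sum_eq_zero fun U hU => ?_
  have hU' : i0 ∉ U := by
    intro hi
    have := Finset.mem_powerset.1 hU hi
    exact Finset.notMem_erase _ _ this
  rw [h U hU', Finset.compl_insert]
  have h2 : (Uᶜ).card = ((Uᶜ).erase i0).card + 1 := by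
    rw [Finset.card_erase_of_mem (Finset.mem_compl.2 hU')]
    have : 0 < (Uᶜ).card := Finset.card_pos.2 ⟨i0, Finset.mem_compl.2 hU'⟩
    omega
  rw [h2, pow_succ, ← add_smul]
  simp

end Pair

section MuS

variable {A : Type u} [CommRing A] {B : Type u} [CommRing B] [Algebra A B] (F : B →ₚₗ[A] A) {d : ℕ}

/-- `ψ ∘ (x ↦ x ⊗ ⋯ ⊗ x) = d! • F`. -/
theorem psi_tpow (hF : PolLaw.IsHomog F d) (S : Type u) [CommRing S] [Algebra A S] (z : S ⊗[A] B) :
    (psi F d).lTensor S ((SymTen.tpowLaw A B d).law.toFun' S z) = d.factorial • F.toFun' S z := by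
  obtain ⟨n, s, b, rfl⟩ := exists_fin_sum_tmul z
  rw [Groth.Agent.Lib.NormAlt23.tpowLaw_sum, map_sum, ← key F hF S s b]
  refine Finset.sum_congr rfl fun c _ => ?_
  rw [LinearMap.lTensor_tmul, psi_tprod]

variable (A B) in
/-- The multilinear extension of `b ↦ b₁ ⊗ ⋯ ⊗ b_d` to `S ⊗ B`. -/
noncomputable def MS (S : Type u) [CommRing S] [Algebra A S] (d : ℕ) :
    MultilinearMap A (fun _ : Fin d => S ⊗[A] B) (S ⊗[A] (⨂[A] _ : Fin d, B)) :=
  (MultilinearMap.mkPiAlgebra A (Fin d) (S ⊗[A] (⨂[A] _ : Fin d, B))).compLinearMap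
    (fun j => (PiTensorProduct.singleAlgHom (R := A) (A := fun _ : Fin d => B) j).toLinearMap.lTensor S)

theorem MS_apply (S : Type u) [CommRing S] [Algebra A S] (z : Fin d → S ⊗[A] B) :
    MS A B S d z = ∏ j, (PiTensorProduct.singleAlgHom (R := A) (A := fun _ : Fin d => B) j).toLinearMap.lTensor S (z j) := by
  rw [MS, MultilinearMap.compLinearMap_apply, MultilinearMap.mkPiAlgebra_apply]

theorem MS_diag (S : Type u) [CommRing S] [Algebra A S] (z : S ⊗[A] B) :
    MS A B S d (fun _ => z) = (SymTen.tpowLaw A B d).law.toFun' S z := by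
  rw [MS_apply, SymTen.tpowLaw, PolLaw.MulLaw.prodMap_toFun']
  refine Finset.prod_congr rfl fun j _ => ?_
  rw [PolLaw.lTensor_algHom_apply]

theorem MS_tmul (S : Type u) [CommRing S] [Algebra A S] (s : Fin d → S) (m : Fin d → B) :
    MS A B S d (fun j => s j ⊗ₜ[A] m j) = (∏ j, s j) ⊗ₜ[A] PiTensorProduct.tprod A m := by
  rw [MS_apply]
  simp only [LinearMap.lTensor_tmul, AlgHom.toLinearMap_apply]
  rw [Groth.Agent.Lib.NormAlt23.prod_tmul, Groth.Agent.Lib.NormAlt23.prod_single]

/-- The multilinear extension of the polarization to `S ⊗ B`. -/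
noncomputable def muS (S : Type u) [CommRing S] [Algebra A S] (d : ℕ) :
    MultilinearMap A (fun _ : Fin d => S ⊗[A] B) (S ⊗[A] A) :=
  ((psi F d).lTensor S).compMultilinearMap (MS A B S d)

theorem muS_diag (hF : PolLaw.IsHomog F d) (S : Type u) [CommRing S] [Algebra A S] (z : S ⊗[A] B) :
    muS F S d (fun _ => z) = d.factorial • F.toFun' S z := by
  rw [muS, LinearMap.compMultilinearMap_apply, MS_diag, psi_tpow F hF]

theorem muS_update (S : Type u) [CommRing S] [Algebra A S] (m : Fin d → B) (i0 : Fin d) (y : S ⊗[A] B) :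
    muS F S d (Function.update (fun j => (1 : S) ⊗ₜ[A] m j) i0 y) =
      ((muMulti F d).toLinearMap m i0).lTensor S y := by
  classical
  induction y using TensorProduct.induction_on with
  | zero => rw [MultilinearMap.map_update_zero, map_zero]
  | tmul s b =>
    have h1 : Function.update (fun j => (1 : S) ⊗ₜ[A] m j) i0 (s ⊗ₜ[A] b) =
        fun j => (Function.update (fun _ => (1 : S)) i0 s j) ⊗ₜ[A] (Function.update m i0 b j) := by
      funext j
      by_cases hj : j = i0
      · subst hj
        simp
      · simp [Function.update_of_ne hj]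
    rw [h1, muS, LinearMap.compMultilinearMap_apply, MS_tmul, LinearMap.lTensor_tmul, psi_tprod,
      LinearMap.lTensor_tmul, MultilinearMap.toLinearMap_apply]
    congr 1
    rw [Finset.prod_update_of_mem (Finset.mem_univ _)]
    simp
  | add x y hx hy => rw [MultilinearMap.map_update_add, hx, hy, map_add]


/-- If `b'` lies in the kernel of the base change to `A'`, the `A'`-linear extensions of the polar conditions vanish on
the ideal generated by `b'` (`d!` invertible). -/
theorem polar_kerBC (hF : PolLaw.IsHomog F d) (hd : IsUnit ((d.factorial : ℕ) : A))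
    (A' : Type u) [CommRing A'] [Algebra A A'] (b' : A' ⊗[A] B) (hb' : b' ∈ PolLaw.kerBC F A')
    (i0 : Fin d) (m : Fin d → B) (w : A' ⊗[A] B) :
    ((muMulti F d).toLinearMap m i0).lTensor A' (w * b') = 0 := by
  classical
  set z : Fin d → A' ⊗[A] B := Function.update (fun j => (1 : A') ⊗ₜ[A] m j) i0 (w * b') with hz
  have hinj : ∀ u : A' ⊗[A] A, d.factorial • u = 0 → u = 0 := by
    intro u hu
    obtain ⟨a, ha⟩ := hd.exists_left_inv
    have h1 : a • (d.factorial • u) = u := by
      rw [← Nat.cast_smul_eq_nsmul A, smul_smul, ha, one_smul]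
    rw [← h1, hu, smul_zero]
  rw [← muS_update]
  apply hinj
  -- symmetry
  have hsym : ∀ σ : Equiv.Perm (Fin d), muS F A' d (fun i => z (σ i)) = muS F A' d z := by
    intro σ
    have h1 : (fun i => z (σ i)) =
        Function.update (fun j => (1 : A') ⊗ₜ[A] (fun i => m (σ i)) j) (σ.symm i0) (w * b') := by
      have := Function.update_comp_equiv (fun j => (1 : A') ⊗ₜ[A] m j) σ i0 (w * b')
      rw [← hz] at this
      exact this
    have h2 : (muMulti F d).toLinearMap (fun i => m (σ i)) (σ.symm i0) = (muMulti F d).toLinearMap m i0 := by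
      ext x
      rw [MultilinearMap.toLinearMap_apply, MultilinearMap.toLinearMap_apply]
      have h3 : Function.update (fun i => m (σ i)) (σ.symm i0) x = fun i => (Function.update m i0 x) (σ i) :=
        (Function.update_comp_equiv m σ i0 x).symm
      rw [h3]
      exact mu_perm F _ σ
    rw [h1, muS_update, h2, hz, muS_update]
  have h4 : d.factorial • muS F A' d z = ∑ σ : Equiv.Perm (Fin d), muS F A' d (fun i => z (σ i)) := by
    simp only [hsym, Finset.sum_const, Finset.card_univ, Fintype.card_perm, Fintype.card_fin]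
  rw [h4, polarization]
  simp only [muS_diag F hF]
  have h5 : ∀ U : Finset (Fin d), ((-1 : ℤ) ^ (Uᶜ).card) • (d.factorial • F.toFun' A' (∑ i ∈ U, z i)) =
      d.factorial • (((-1 : ℤ) ^ (Uᶜ).card) • F.toFun' A' (∑ i ∈ U, z i)) := by
    intro U
    rw [smul_comm]
  simp only [h5]
  rw [← Finset.smul_sum, sum_pairing (fun U => F.toFun' A' (∑ i ∈ U, z i)) i0, smul_zero]
  intro U hU
  show F.toFun' A' (∑ i ∈ insert i0 U, z i) = F.toFun' A' (∑ i ∈ U, z i)
  rw [Finset.sum_insert hU, add_comm]
  have h6 : z i0 = w * b' := by rw [hz, Function.update_self]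
  rw [h6]
  have h7 := (mem_kerBC_iff F A' b').1 hb' A' (AlgHom.id A A') (∑ i ∈ U, z i) w
  have h8 : bc (AlgHom.id A A') b' = b' := by
    rw [bc, Algebra.TensorProduct.map_id]
    rfl
  rw [h8] at h7
  exact h7

end MuS

end Groth.Agent.Lib.PolarKer23
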