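import Groth.Agent.Lib.SymTensorGen

/-!
# Types of colourings and class sums (`Groth.Agent.Lib.SymTensorType`)

* `etype c : I →₀ ℕ`: the exponent vector (number of slots of each colour) of a colouring `c : Fin n → I`.
* `prod_X_eq_monomial`: `∏ k, X (c k) = monomial (etype c) 1`.
* `coeff_sum_C_mul_prod_X`: coefficient extraction from `∑ c, C (b c) * ∏ k, X (c k)`.
* `sum_mem_of_class_sums`: a sum over a permutation-stable family of colourings lies in an additive
  submonoid as soon as all sums over full type classes do.
-/

open scoped TensorProduct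
open PiTensorProduct

set_option linter.unusedSectionVars false
set_option linter.unusedVariables false

namespace Groth.Agent.Lib.SymTensorType

open Groth.Agent.Lib.SymTensorGen

variable {I : Type*} [Fintype I] [DecidableEq I] {n : ℕ}

/-- exponent vector of a colouring -/
noncomputable def etype (c : Fin n → I) : I →₀ ℕ := ∑ k, Finsupp.single (c k) 1

theorem etype_apply (c : Fin n → I) (i : I) : etype c i = cnt i c := by
  unfold etype cnt
  rw [Finsupp.finsetSum_apply]
  simp only [Finsupp.single_apply]
  rw [Finset.card_filter]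

theorem etype_eq_iff (c c' : Fin n → I) : etype c = etype c' ↔ ∀ i, cnt i c = cnt i c' := by
  constructor
  · intro h i
    rw [← etype_apply, ← etype_apply, h]
  · intro h
    ext i
    rw [etype_apply, etype_apply, h]

theorem etype_comp_perm (c : Fin n → I) (σ : Equiv.Perm (Fin n)) : etype (c ∘ σ) = etype c := by
  rw [etype_eq_iff]
  intro i
  exact cnt_comp_perm i c σ

theorem prod_X_eq_monomial {R : Type*} [CommSemiring R] (c : Fin n → I) :
    (∏ k, MvPolynomial.X (c k) : MvPolynomial I R) = MvPolynomial.monomial (etype c) 1 := by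
  unfold etype
  rw [MvPolynomial.monomial_sum_one]
  rfl

theorem coeff_sum_C_mul_prod_X {R : Type*} [CommSemiring R] (b : (Fin n → I) → R) (ν : I →₀ ℕ) :
    MvPolynomial.coeff ν (∑ c : Fin n → I, MvPolynomial.C (b c) * ∏ k, MvPolynomial.X (c k)) =
      ∑ c ∈ Finset.univ.filter (fun c : Fin n → I => etype c = ν), b c := by
  classical
  rw [MvPolynomial.coeff_sum, Finset.sum_filter]
  apply Finset.sum_congr rfl
  intro c _
  rw [prod_X_eq_monomial, MvPolynomial.C_mul_monomial, mul_one, MvPolynomial.coeff_monomial]

/-- a sum over a stable family lies in `Z` as soon as all full class sums do -/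
theorem sum_mem_of_class_sums {W : Type*} [AddCommMonoid W] (Z : AddSubmonoid W)
    (g : (Fin n → I) → W) (P : Finset (Fin n → I)) (hP : Stable P)
    (hclass : ∀ ν : I →₀ ℕ, ∑ c ∈ Finset.univ.filter (fun c : Fin n → I => etype c = ν), g c ∈ Z) :
    ∑ c ∈ P, g c ∈ Z := by
  classical
  rw [← Finset.sum_fiberwise_of_maps_to (s := P) (t := P.image etype) (g := etype)
    (fun c hc => Finset.mem_image_of_mem _ hc)]
  apply AddSubmonoid.sum_mem
  intro ν hν
  obtain ⟨c₀, hc₀, rfl⟩ := Finset.mem_image.1 hν
  have : P.filter (fun c => etype c = etype c₀) =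
      Finset.univ.filter (fun c : Fin n → I => etype c = etype c₀) := by
    ext c
    simp only [Finset.mem_filter, Finset.mem_univ, true_and]
    constructor
    · exact fun h => h.2
    · intro h
      refine ⟨?_, h⟩
      obtain ⟨σ, hσ⟩ := exists_perm_of_cnt_eq c₀ c ((etype_eq_iff c c₀).1 h)
      rw [hσ]
      exact hP c₀ hc₀ σ
  rw [this]
  exact hclass _

end Groth.Agent.Lib.SymTensorType
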