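import Groth.Agent.Lib.RobyFree23
import Groth.Agent.Lib.PolarKer23
import Groth.Agent.Lib.SymTensorType

/-!
# Symmetric tensors as divided powers (helper75)

`TS^d_A(B)` with the law `x ↦ x ⊗ ⋯ ⊗ x` is `Γ^d_A(B)` when `B` is flat or `d!` is invertible.
-/

set_option autoImplicit false
universe u
open scoped TensorProduct
open MvPolynomial

namespace Groth.Agent.Lib.GammaTS75

open Groth.Agent.Lib.PolLaw23 Groth.Agent.Lib.PolLawExt23 Groth.Agent.Lib.PolLawGen23
  Groth.Agent.Lib.PolLawSpan23 Groth.Agent.Lib.PolLawCoeff23 Groth.Agent.Lib.Polarize23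
  Groth.Agent.Lib.SymPolar23 Groth.Agent.Lib.SymTensorGen Groth.Agent.Lib.SymTensorType

section PartA

variable (A : Type u) [CommRing A] (B : Type u) [CommRing B] [Algebra A B] (d : ℕ)

theorem prod_eq_etype {S : Type*} [CommMonoid S] {m : ℕ} (s : Fin m → S) (c : Fin d → Fin m) :
    ∏ k, s (c k) = (etype c).prod (fun i e => s i ^ e) :=
  Groth.Agent.Lib.RobyFree23.prod_eq_cont s c

theorem stable_etype_fibre {m : ℕ} (ν : Fin m →₀ ℕ) :
    Stable (Finset.univ.filter (fun c : Fin d → Fin m => etype c = ν)) := by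
  intro c hc σ
  simp only [Finset.mem_filter, Finset.mem_univ, true_and] at hc ⊢
  rw [etype_comp_perm, hc]

theorem Ssum_mem_TS' {m : ℕ} (b : Fin m → B) (P : Finset (Fin d → Fin m)) (hP : Stable P) :
    Ssum (R := A) b P ∈ SymTen.TS A B d := by
  rw [SymTen.mem_TS_iff]
  exact Groth.Agent.Lib.SymTensorFlat.mem_TS.1 (Ssum_mem_TS b P hP)

/-- the values of the tensor power law are symmetric tensors -/
theorem tpowLaw_mem_range (S : Type u) [CommSemiring S] [Algebra A S] (z : S ⊗[A] B) :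
    (SymTen.tpowLaw A B d).law.toFun' S z ∈
      LinearMap.range ((SymTen.TS A B d).val.toLinearMap.lTensor S) := by
  classical
  obtain ⟨m, s, b, rfl⟩ := exists_fin_sum_tmul z
  rw [Groth.Agent.Lib.NormAlt23.tpowLaw_sum]
  have h := sum_mem_of_class_sums
    (LinearMap.range ((SymTen.TS A B d).val.toLinearMap.lTensor S)).toAddSubmonoid
    (fun c : Fin d → Fin m => (∏ i, s (c i)) ⊗ₜ[A] PiTensorProduct.tprod A (fun i => b (c i)))
    Finset.univ (fun c _ σ => Finset.mem_univ _) ?_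
  · exact h
  · intro ν
    have h1 : ∑ c ∈ Finset.univ.filter (fun c : Fin d → Fin m => etype c = ν),
        (∏ i, s (c i)) ⊗ₜ[A] PiTensorProduct.tprod A (fun i => b (c i)) =
        (ν.prod fun i e => s i ^ e) ⊗ₜ[A]
          Ssum (R := A) b (Finset.univ.filter (fun c : Fin d → Fin m => etype c = ν)) := by
      rw [Ssum, TensorProduct.tmul_sum]
      refine Finset.sum_congr rfl fun c hc => ?_
      rw [prod_eq_etype, (Finset.mem_filter.1 hc).2]
    rw [h1]
    refine ⟨(ν.prod fun i e => s i ^ e) ⊗ₜ[A]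
      ⟨Ssum (R := A) b (Finset.univ.filter (fun c : Fin d → Fin m => etype c = ν)),
        Ssum_mem_TS' A B d b _ (stable_etype_fibre d ν)⟩, ?_⟩
    rw [LinearMap.lTensor_tmul]
    rfl

/-- the tensor power law with values in the symmetric tensors -/
theorem exists_tau : ∃ τ : PolLaw.MulLaw A B (SymTen.TS A B d) d,
    PolLaw.postcomp (SymTen.TS A B d).val.toLinearMap τ.law = (SymTen.tpowLaw A B d).law :=
  exists_cores (SymTen.tpowLaw A B d) (SymTen.TS A B d) (fun _ z => tpowLaw_mem_range A B d _ z)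

end PartA

section Coeff

variable (A : Type u) [CommRing A] (B : Type u) [CommRing B] [Algebra A B] (d : ℕ)

/-- class sums are coefficients of the tensor power law -/
theorem classSum_eq_coeff {k : ℕ} (a : Fin k → B) (ν : Fin k →₀ ℕ) :
    evalFun (⨂[A] _ : Fin d, B) ((basisMonomials (Fin k) A).coord ν)
      ((SymTen.tpowLaw A B d).law.toFun' (MvPolynomial (Fin k) A) (∑ j, X j ⊗ₜ[A] a j)) =
    ∑ c ∈ Finset.univ.filter (fun c : Fin d → Fin k => etype c = ν),
      PiTensorProduct.tprod A (fun i => a (c i)) := by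
  classical
  rw [Groth.Agent.Lib.NormAlt23.tpowLaw_sum, map_sum, Finset.sum_filter]
  refine Finset.sum_congr rfl fun c _ => ?_
  rw [evalFun_tmul, coord_apply, prod_X_eq_monomial, coeff_monomial]
  split_ifs <;> simp

theorem stableSum_mem_span {k : ℕ} (a : Fin k → B) (P : Finset (Fin d → Fin k)) (hP : Stable P) :
    Ssum (R := A) a P ∈ Submodule.span A (coeffSet (SymTen.tpowLaw A B d)) := by
  classical
  refine sum_mem_of_class_sums (Submodule.span A (coeffSet (SymTen.tpowLaw A B d))).toAddSubmonoid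
    (fun c : Fin d → Fin k => PiTensorProduct.tprod A (fun i => a (c i))) P hP ?_
  intro ν
  rw [← classSum_eq_coeff]
  exact Submodule.subset_span ⟨k, _, _, rfl⟩

end Coeff

section Span

variable {A : Type u} [CommRing A] {B : Type u} [CommRing B] [Algebra A B] {d : ℕ}
  (τ : PolLaw.MulLaw A B (SymTen.TS A B d) d)
  (hτ : PolLaw.postcomp (SymTen.TS A B d).val.toLinearMap τ.law = (SymTen.tpowLaw A B d).law)

include hτ in
theorem val_coeff {P : Type u} [CommRing P] [Algebra A P] (l : P →ₗ[A] A) (z : P ⊗[A] B) :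
    ((evalFun (SymTen.TS A B d) l (τ.law.toFun' P z) : SymTen.TS A B d) : ⨂[A] _ : Fin d, B) =
      evalFun (⨂[A] _ : Fin d, B) l ((SymTen.tpowLaw A B d).law.toFun' P z) := by
  have h := evalFun_lTensor (SymTen.TS A B d).val.toLinearMap l (τ.law.toFun' P z)
  rw [← postcomp_toFun', hτ] at h
  exact h.symm

include hτ in
theorem span_coeffSet_tau
    (h : ∀ y ∈ SymTen.TS A B d, y ∈ Submodule.span A (coeffSet (SymTen.tpowLaw A B d))) :
    Submodule.span A (coeffSet τ) = ⊤ := by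
  have himg : (SymTen.TS A B d).val.toLinearMap '' coeffSet τ = coeffSet (SymTen.tpowLaw A B d) := by
    ext c
    constructor
    · rintro ⟨c', ⟨n, z, l, rfl⟩, rfl⟩
      exact ⟨n, z, l, val_coeff τ hτ l z⟩
    · rintro ⟨n, z, l, rfl⟩
      exact ⟨_, ⟨n, z, l, rfl⟩, val_coeff τ hτ l z⟩
  rw [eq_top_iff]
  intro y _
  have h1 := h y.1 y.2
  rw [← himg, ← Submodule.map_span] at h1
  obtain ⟨y', hy', hyy'⟩ := h1
  have : y' = y := Subtype.ext hyy'
  rw [← this]
  exact hy'

end Span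

section SP

variable (A : Type u) [CommRing A] (B : Type u) [CommRing B] [Algebra A B] (d : ℕ)

theorem mem_span_of_flat [Module.Flat A B] (y : ⨂[A] _ : Fin d, B) (hy : y ∈ SymTen.TS A B d) :
    y ∈ Submodule.span A (coeffSet (SymTen.tpowLaw A B d)) := by
  have h1 := mem_span_Ssum_of_flat A B y (Groth.Agent.Lib.SymTensorFlat.mem_TS.2
    ((SymTen.mem_TS_iff A B d y).1 hy))
  refine Submodule.span_le.2 ?_ h1
  rintro t ⟨k, a, P, hP, rfl⟩
  exact stableSum_mem_span A B d a P hP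

theorem mem_span_of_isUnit (hd : IsUnit ((d.factorial : ℕ) : A)) (y : ⨂[A] _ : Fin d, B)
    (hy : y ∈ SymTen.TS A B d) :
    y ∈ Submodule.span A (coeffSet (SymTen.tpowLaw A B d)) := by
  obtain ⟨u, hu⟩ := hd
  have h1 := Sym_mem_span_coeffSet A B d y
  rw [Sym_of_mem A B d hy] at h1
  have h2 : y = (↑u⁻¹ : A) • (d.factorial • y) := by
    rw [← Nat.cast_smul_eq_nsmul A, ← hu, smul_smul, Units.inv_mul, one_smul]
  rw [h2]
  exact Submodule.smul_mem _ _ h1

end SP

section Pair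

variable {A : Type u} [CommRing A] {M N₁ N₂ : Type u} [AddCommGroup M] [Module A M]
  [AddCommGroup N₁] [Module A N₁] [AddCommGroup N₂] [Module A N₂]

theorem evalFun_comp_algHom {S S' : Type u} [CommRing S] [Algebra A S] [CommRing S'] [Algebra A S']
    (E : Type u) [AddCommGroup E] [Module A E] (φ : S →ₐ[A] S') (l : S' →ₗ[A] A) (w : S ⊗[A] E) :
    evalFun E (l ∘ₗ φ.toLinearMap) w = evalFun E l (φ.toLinearMap.rTensor E w) := by
  induction w using TensorProduct.induction_on with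
  | zero => simp
  | tmul p c => simp
  | add a b ha hb => simp only [map_add, ha, hb]

theorem evalFun_add_fun {S : Type u} [CommRing S] [Algebra A S]
    (E : Type u) [AddCommGroup E] [Module A E] (l l' : S →ₗ[A] A) (w : S ⊗[A] E) :
    evalFun E (l + l') w = evalFun E l w + evalFun E l' w := by
  simp [evalFun, LinearMap.rTensor_add]

theorem evalFun_smul_fun {S : Type u} [CommRing S] [Algebra A S]
    (E : Type u) [AddCommGroup E] [Module A E] (a : A) (l : S →ₗ[A] A) (w : S ⊗[A] E) :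
    evalFun E (a • l) w = a • evalFun E l w := by
  simp [evalFun, LinearMap.rTensor_smul]

theorem evalFun_zero_fun {S : Type u} [CommRing S] [Algebra A S]
    (E : Type u) [AddCommGroup E] [Module A E] (w : S ⊗[A] E) :
    evalFun E (0 : S →ₗ[A] A) w = 0 := by
  simp [evalFun]

/-- joint coefficients of two laws -/
def pairSet (G₁ : M →ₚₗ[A] N₁) (G₂ : M →ₚₗ[A] N₂) : Set (N₁ × N₂) :=
  {p | ∃ (S : Type u) (_ : CommRing S) (_ : Algebra A S) (z : S ⊗[A] M) (l : S →ₗ[A] A),
    p = (evalFun N₁ l (G₁.toFun' S z), evalFun N₂ l (G₂.toFun' S z))}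

theorem pair_fst {S S' : Type u} [CommRing S] [Algebra A S] [CommRing S'] [Algebra A S']
    {E : Type u} [AddCommGroup E] [Module A E] (G : M →ₚₗ[A] E) (z : S ⊗[A] M) (z' : S' ⊗[A] M)
    (l : S →ₗ[A] A) :
    evalFun E (l ∘ₗ (AlgHom.fst A S S').toLinearMap)
      (G.toFun' (S × S') ((LinearMap.inl A S S').rTensor M z + (LinearMap.inr A S S').rTensor M z')) =
    evalFun E l (G.toFun' S z) := by
  rw [evalFun_comp_algHom, PolynomialLaw.isCompat_apply', map_add, ← LinearMap.comp_apply,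
    ← LinearMap.comp_apply, ← LinearMap.rTensor_comp, ← LinearMap.rTensor_comp]
  have h1 : (AlgHom.fst A S S').toLinearMap ∘ₗ LinearMap.inl A S S' = LinearMap.id := by
    ext x; simp
  have h2 : (AlgHom.fst A S S').toLinearMap ∘ₗ LinearMap.inr A S S' = 0 := by
    ext x; simp
  rw [h1, h2]
  simp

theorem pair_snd {S S' : Type u} [CommRing S] [Algebra A S] [CommRing S'] [Algebra A S']
    {E : Type u} [AddCommGroup E] [Module A E] (G : M →ₚₗ[A] E) (z : S ⊗[A] M) (z' : S' ⊗[A] M)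
    (l' : S' →ₗ[A] A) :
    evalFun E (l' ∘ₗ (AlgHom.snd A S S').toLinearMap)
      (G.toFun' (S × S') ((LinearMap.inl A S S').rTensor M z + (LinearMap.inr A S S').rTensor M z')) =
    evalFun E l' (G.toFun' S' z') := by
  rw [evalFun_comp_algHom, PolynomialLaw.isCompat_apply', map_add, ← LinearMap.comp_apply,
    ← LinearMap.comp_apply, ← LinearMap.rTensor_comp, ← LinearMap.rTensor_comp]
  have h1 : (AlgHom.snd A S S').toLinearMap ∘ₗ LinearMap.inl A S S' = 0 := by
    ext x; simp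
  have h2 : (AlgHom.snd A S S').toLinearMap ∘ₗ LinearMap.inr A S S' = LinearMap.id := by
    ext x; simp
  rw [h1, h2]
  simp

/-- the joint coefficients form a submodule -/
def pairSub (G₁ : M →ₚₗ[A] N₁) (G₂ : M →ₚₗ[A] N₂) : Submodule A (N₁ × N₂) where
  carrier := pairSet G₁ G₂
  add_mem' := by
    rintro _ _ ⟨S, _, _, z, l, rfl⟩ ⟨S', _, _, z', l', rfl⟩
    refine ⟨S × S', inferInstance, inferInstance,
      (LinearMap.inl A S S').rTensor M z + (LinearMap.inr A S S').rTensor M z',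
      l ∘ₗ (AlgHom.fst A S S').toLinearMap + l' ∘ₗ (AlgHom.snd A S S').toLinearMap, ?_⟩
    rw [evalFun_add_fun, evalFun_add_fun, pair_fst, pair_snd, pair_fst, pair_snd]
    rfl
  zero_mem' := ⟨A, inferInstance, inferInstance, 0, 0, by
    rw [evalFun_zero_fun, evalFun_zero_fun]; rfl⟩
  smul_mem' := by
    rintro a _ ⟨S, _, _, z, l, rfl⟩
    refine ⟨S, inferInstance, inferInstance, z, a • l, ?_⟩
    rw [evalFun_smul_fun, evalFun_smul_fun]
    rfl

theorem mem_pairSub (G₁ : M →ₚₗ[A] N₁) (G₂ : M →ₚₗ[A] N₂) {S : Type u} [CommRing S] [Algebra A S]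
    (z : S ⊗[A] M) (l : S →ₗ[A] A) :
    (evalFun N₁ l (G₁.toFun' S z), evalFun N₂ l (G₂.toFun' S z)) ∈ pairSub G₁ G₂ :=
  ⟨S, inferInstance, inferInstance, z, l, rfl⟩

/-- a submodule of `X × Y` which is single valued and defined on `D` is the graph of a linear map on `D` -/
theorem exists_linearMap_of_graph {X Y : Type*} [AddCommGroup X] [Module A X] [AddCommGroup Y] [Module A Y]
    (Gr : Submodule A (X × Y)) (D : Submodule A X) (h1 : ∀ x ∈ D, ∃ y, (x, y) ∈ Gr)
    (h2 : ∀ y, ((0 : X), y) ∈ Gr → y = 0) :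
    ∃ f : D →ₗ[A] Y, ∀ x y, (x ∈ D) → ((x, y) ∈ Gr ↔ ∃ hx : x ∈ D, f ⟨x, hx⟩ = y) := by
  classical
  have huniq : ∀ x y y', (x, y) ∈ Gr → (x, y') ∈ Gr → y = y' := by
    intro x y y' h h'
    have h3 := Gr.sub_mem h h'
    rw [Prod.mk_sub_mk, sub_self] at h3
    exact sub_eq_zero.1 (h2 _ h3)
  choose! g hg using h1
  refine ⟨{ toFun := fun x => g x.1, map_add' := ?_, map_smul' := ?_ }, ?_⟩
  · intro x x'
    exact huniq _ _ _ (hg _ (D.add_mem x.2 x'.2)) (Gr.add_mem (hg _ x.2) (hg _ x'.2))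
  · intro a x
    exact huniq _ _ _ (hg _ (D.smul_mem a x.2)) (Gr.smul_mem a (hg _ x.2))
  · intro x y hx
    constructor
    · intro h
      exact ⟨hx, huniq _ _ _ (hg x hx) h⟩
    · rintro ⟨_, rfl⟩
      exact hg x hx

end Pair

section Assembly

variable {A : Type u} [CommRing A] {B : Type u} [CommRing B] [Algebra A B] {d : ℕ}
  (τ : PolLaw.MulLaw A B (SymTen.TS A B d) d)
  (hτ : PolLaw.postcomp (SymTen.TS A B d).val.toLinearMap τ.law = (SymTen.tpowLaw A B d).law)

theorem ext_of_evalFun {E : Type u} [AddCommGroup E] [Module A E] (n : ℕ)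
    (u u' : MvPolynomial (Fin n) A ⊗[A] E)
    (h : ∀ l : MvPolynomial (Fin n) A →ₗ[A] A, evalFun E l u = evalFun E l u') : u = u' := by
  classical
  let b := MvPolynomial.basisMonomials (Fin n) A
  apply (TensorProduct.equivFinsuppOfBasisLeft (N := E) b).injective
  ext β
  rw [TensorProduct.equivFinsuppOfBasisLeft_apply, TensorProduct.equivFinsuppOfBasisLeft_apply]
  exact h (b.coord β)

include hτ in
/-- the formal part: spanning + relations imply the universal property -/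
theorem isGammaD_of
    (hSP : ∀ y ∈ SymTen.TS A B d, y ∈ Submodule.span A (coeffSet (SymTen.tpowLaw A B d)))
    (hREL : ∀ (C' : Type u) [CommRing C'] [Algebra A C'] (F : PolLaw.MulLaw A B C' d)
      (S : Type u) [CommRing S] [Algebra A S] (z : S ⊗[A] B) (l : S →ₗ[A] A),
      evalFun (⨂[A] _ : Fin d, B) l ((SymTen.tpowLaw A B d).law.toFun' S z) = 0 →
        evalFun C' l (F.law.toFun' S z) = 0) :
    PolLaw.IsGammaD τ := by
  intro C' _ _ F
  have hspan := span_coeffSet_tau τ hτ hSP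
  set Gr := pairSub (SymTen.tpowLaw A B d).law F.law with hGr
  have h2 : ∀ y, ((0 : ⨂[A] _ : Fin d, B), y) ∈ Gr → y = 0 := by
    rintro y ⟨S, _, _, z, l, h⟩
    rw [Prod.mk.injEq] at h
    rw [h.2]
    exact hREL C' F S z l h.1.symm
  have h1' : ∀ x ∈ Submodule.span A (coeffSet (SymTen.tpowLaw A B d)), ∃ y, (x, y) ∈ Gr := by
    intro x hx
    induction hx using Submodule.span_induction with
    | mem c hc =>
      obtain ⟨n, z, l, rfl⟩ := hc
      exact ⟨_, mem_pairSub _ _ z l⟩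
    | zero => exact ⟨0, Gr.zero_mem⟩
    | add a b _ _ ha hb =>
      obtain ⟨y, hy⟩ := ha
      obtain ⟨y', hy'⟩ := hb
      exact ⟨y + y', Gr.add_mem hy hy'⟩
    | smul r a _ ha =>
      obtain ⟨y, hy⟩ := ha
      exact ⟨r • y, Gr.smul_mem r hy⟩
  have h1 : ∀ x ∈ Subalgebra.toSubmodule (SymTen.TS A B d), ∃ y, (x, y) ∈ Gr :=
    fun x hx => h1' x (hSP x hx)
  obtain ⟨f₀, hf₀⟩ := exists_linearMap_of_graph Gr (Subalgebra.toSubmodule (SymTen.TS A B d)) h1 h2
  set f₁ : SymTen.TS A B d →ₗ[A] C' :=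
    f₀ ∘ₗ (Subalgebra.toSubmoduleEquiv (SymTen.TS A B d)).symm.toLinearMap with hf₁
  have hf : ∀ (S : Type u) [CommRing S] [Algebra A S] (z : S ⊗[A] B) (l : S →ₗ[A] A),
      f₁ (evalFun (SymTen.TS A B d) l (τ.law.toFun' S z)) = evalFun C' l (F.law.toFun' S z) := by
    intro S _ _ z l
    have hm := mem_pairSub (SymTen.tpowLaw A B d).law F.law z l
    rw [← val_coeff τ hτ l z] at hm
    obtain ⟨hx, hh⟩ := (hf₀ _ _ (evalFun (SymTen.TS A B d) l (τ.law.toFun' S z)).2).1 hm
    exact hh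
  have hpost : PolLaw.postcomp f₁ τ.law = F.law := by
    apply ext_of_poly
    intro n
    funext z
    rw [postcomp_toFun']
    apply ext_of_evalFun
    intro l
    rw [evalFun_lTensor]
    exact hf _ z l
  have hmul : ∀ x y, f₁ (x * y) = f₁ x * f₁ y := fun x y =>
    Groth.Agent.Lib.PolLawMul23.map_mul_of_postcomp τ F f₁ hpost (by rw [hspan]; trivial)
      (by rw [hspan]; trivial)
  have hone : f₁ 1 = 1 := Groth.Agent.Lib.PolLawMul23.map_one_of_postcomp τ F f₁ hpost
  refine ⟨AlgHom.ofLinearMap f₁ hone hmul, ?_, ?_⟩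
  · show PolLaw.postcomp (AlgHom.ofLinearMap f₁ hone hmul).toLinearMap τ.law = F.law
    rw [AlgHom.toLinearMap_ofLinearMap]
    exact hpost
  · intro g hg
    apply AlgHom.toLinearMap_injective
    rw [AlgHom.toLinearMap_ofLinearMap]
    apply LinearMap.ext_on hspan
    rintro c ⟨n, z, l, rfl⟩
    rw [← evalFun_lTensor, ← evalFun_lTensor, ← postcomp_toFun', ← postcomp_toFun', hg, hpost]

end Assembly

section Zero

open Groth.Agent.Lib.PiTensorDirLim Groth.Agent.Lib.SymTensorColim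

variable {A : Type u} [CommRing A]

theorem map_congr_fun {P Q : Type*} [AddCommGroup P] [Module A P] [AddCommGroup Q] [Module A Q]
    {f g : P →ₗ[A] Q} (h : f = g) (n : ℕ) (y : ⨂[A] _ : Fin n, P) :
    PiTensorProduct.map (fun _ : Fin n => f) y = PiTensorProduct.map (fun _ : Fin n => g) y := by
  rw [h]

/-- a tensor over a finite projective module dying in `N` dies at a finitely presented stage -/
theorem exists_fp_stage_zero (N : Type u) [AddCommGroup N] [Module A N] {L₀ : Type u} [AddCommGroup L₀]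
    [Module A L₀] [Module.Projective A L₀] [Module.Finite A L₀] (h₀ : L₀ →ₗ[A] N) (n : ℕ)
    (ρ : ⨂[A] _ : Fin n, L₀) (hρ : PiTensorProduct.map (fun _ : Fin n => h₀) ρ = 0) :
    ∃ (Q : Type u) (_ : AddCommGroup Q) (_ : Module A Q) (_ : Module.FinitePresentation A Q)
      (v : L₀ →ₗ[A] Q) (g : Q →ₗ[A] N), g ∘ₗ v = h₀ ∧
        PiTensorProduct.map (fun _ : Fin n => v) ρ = 0 := by
  -- step 1: a f.g. submodule
  have hfg : (LinearMap.range h₀).FG := by
    rw [LinearMap.range_eq_map]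
    exact Submodule.FG.map _ Module.Finite.fg_top
  let i₀ : FGSub A N := ⟨LinearMap.range h₀, hfg⟩
  let h₀r : L₀ →ₗ[A] ↥i₀.1 := h₀.rangeRestrict
  have hsub : i₀.1.subtype ∘ₗ h₀r = h₀ := by ext x; rfl
  have hy₀ : PiTensorProduct.map (fun _ : Fin n => i₀.1.subtype)
      (PiTensorProduct.map (fun _ : Fin n => h₀r) ρ) = 0 := by
    rw [map_map_const, map_congr_fun hsub, hρ]
  obtain ⟨P, hP, hP0⟩ := exists_map_eq_zero (fgColim A N) i₀ _ hy₀
  let h₀' : L₀ →ₗ[A] ↥P.1 := Submodule.inclusion hP ∘ₗ h₀r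
  have hh₀' : PiTensorProduct.map (fun _ : Fin n => h₀') ρ = 0 := by
    rw [← map_map_const]; exact hP0
  have hsub' : P.1.subtype ∘ₗ h₀' = h₀ := by ext x; rfl
  -- step 2: a finitely presented stage
  have : Module.Finite A P.1 := Module.Finite.iff_fg.2 P.2
  obtain ⟨m, π, hπ⟩ := Module.Finite.exists_fin' A P.1
  let K : Submodule A (Fin m → A) := LinearMap.ker π
  let e : ((Fin m → A) ⧸ K) ≃ₗ[A] P.1 := π.quotKerEquivOfSurjective hπ
  obtain ⟨v₀, hv₀⟩ := Module.projective_lifting_property π h₀' hπ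
  have heK : e.toLinearMap ∘ₗ K.mkQ = π := by ext x; rfl
  have hKv : K.mkQ ∘ₗ v₀ = e.symm.toLinearMap ∘ₗ h₀' := by
    rw [← hv₀, ← heK]
    ext x
    simp
  let i₁ : FGBelow A (Fin m → A) K := ⟨⊥, Submodule.fg_bot, bot_le⟩
  have hy₁ : PiTensorProduct.map (fun _ : Fin n => Submodule.factor i₁.2.2)
      (PiTensorProduct.map (fun _ : Fin n => i₁.1.mkQ ∘ₗ v₀) ρ) = 0 := by
    rw [map_map_const]
    have h3 : Submodule.factor i₁.2.2 ∘ₗ i₁.1.mkQ ∘ₗ v₀ = e.symm.toLinearMap ∘ₗ h₀' := by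
      rw [← LinearMap.comp_assoc, Submodule.factor_comp_mk, hKv]
    rw [map_congr_fun h3, ← map_map_const, hh₀', map_zero]
  obtain ⟨K', hK', hK'0⟩ := exists_map_eq_zero (quotColim A (Fin m → A) K) i₁ _ hy₁
  have : Module.FinitePresentation A ((Fin m → A) ⧸ K'.1) :=
    Module.finitePresentation_of_surjective K'.1.mkQ (Submodule.mkQ_surjective _)
      (by rw [Submodule.ker_mkQ]; exact K'.2.1)
  refine ⟨(Fin m → A) ⧸ K'.1, inferInstance, inferInstance, inferInstance, K'.1.mkQ ∘ₗ v₀,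
    P.1.subtype ∘ₗ e.toLinearMap ∘ₗ Submodule.factor K'.2.2, ?_, ?_⟩
  · rw [← hsub', ← hv₀, ← heK]
    ext x
    rfl
  · rw [map_map_const] at hK'0
    have h4 : Submodule.factor hK' ∘ₗ i₁.1.mkQ ∘ₗ v₀ = K'.1.mkQ ∘ₗ v₀ := by
      rw [← LinearMap.comp_assoc, Submodule.factor_comp_mk]
    rw [← map_congr_fun h4]
    exact hK'0

/-- a tensor over a finite projective module dying in a flat module dies at a finite free stage -/
theorem exists_free_stage_zero (N : Type u) [AddCommGroup N] [Module A N] [Module.Flat A N]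
    {L₀ : Type u} [AddCommGroup L₀]
    [Module A L₀] [Module.Projective A L₀] [Module.Finite A L₀] (h₀ : L₀ →ₗ[A] N) (n : ℕ)
    (ρ : ⨂[A] _ : Fin n, L₀) (hρ : PiTensorProduct.map (fun _ : Fin n => h₀) ρ = 0) :
    ∃ (k : ℕ) (w : L₀ →ₗ[A] (Fin k → A)) (h₁ : (Fin k → A) →ₗ[A] N), h₁ ∘ₗ w = h₀ ∧
        PiTensorProduct.map (fun _ : Fin n => w) ρ = 0 := by
  obtain ⟨Q, _, _, _, v, g, hgv, hv⟩ := exists_fp_stage_zero N h₀ n ρ hρ
  obtain ⟨k, h₂, h₃, hg⟩ := Module.Flat.exists_factorization_of_finitePresentation g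
  let E := Finsupp.linearEquivFunOnFinite A A (Fin k)
  refine ⟨k, E.toLinearMap ∘ₗ h₂ ∘ₗ v, h₃ ∘ₗ E.symm.toLinearMap, ?_, ?_⟩
  · rw [← hgv, hg]
    ext x
    simp
  · rw [← map_map_const, ← map_map_const, hv, map_zero, map_zero]

end Zero

section Rel

variable {A : Type u} [CommRing A] {B : Type u} [CommRing B] [Algebra A B] {d : ℕ}

/-- naturality of the tensor power law under a linear map -/
theorem tpowLaw_natural {L L' : Type u} [CommRing L] [Algebra A L] [CommRing L'] [Algebra A L']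
    (h : L →ₗ[A] L') (S : Type u) [CommSemiring S] [Algebra A S] (x : S ⊗[A] L) :
    (PiTensorProduct.map (fun _ : Fin d => h)).lTensor S ((SymTen.tpowLaw A L d).law.toFun' S x) =
      (SymTen.tpowLaw A L' d).law.toFun' S (h.lTensor S x) := by
  obtain ⟨m, s, b, rfl⟩ := exists_fin_sum_tmul x
  rw [Groth.Agent.Lib.NormAlt23.tpowLaw_sum, map_sum, map_sum]
  simp only [LinearMap.lTensor_tmul]
  rw [Groth.Agent.Lib.NormAlt23.tpowLaw_sum]
  refine Finset.sum_congr rfl fun c _ => ?_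
  rw [PiTensorProduct.map_tprod]

theorem lTensor_smul' {M M' : Type u} [AddCommGroup M] [Module A M] [AddCommGroup M'] [Module A M']
    (g : M →ₗ[A] M') (S : Type u) [CommSemiring S] [Algebra A S] (s : S) (x : S ⊗[A] M) :
    g.lTensor S (s • x) = s • g.lTensor S x := by
  induction x using TensorProduct.induction_on with
  | zero => simp
  | tmul t m => rw [TensorProduct.smul_tmul', LinearMap.lTensor_tmul, LinearMap.lTensor_tmul,
      TensorProduct.smul_tmul']
  | add a b ha hb => rw [smul_add, map_add, ha, hb, map_add, smul_add]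

theorem isHomog_precomp {M M' N : Type u} [AddCommGroup M] [Module A M] [AddCommGroup M'] [Module A M']
    [AddCommGroup N] [Module A N] (F : M' →ₚₗ[A] N) (g : M →ₗ[A] M') (hF : PolLaw.IsHomog F d) :
    PolLaw.IsHomog (PolLaw.precomp F g) d := by
  intro S _ _ s x
  rw [precomp_toFun', precomp_toFun', lTensor_smul', hF]

/-- `ψ ∘ (x ↦ x ⊗ ⋯ ⊗ x) = d! • F`. -/
theorem psi_tpow' {N : Type u} [AddCommGroup N] [Module A N] (F : B →ₚₗ[A] N) (hF : PolLaw.IsHomog F d)
    (S : Type u) [CommRing S] [Algebra A S] (z : S ⊗[A] B) :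
    (psi F d).lTensor S ((SymTen.tpowLaw A B d).law.toFun' S z) = d.factorial • F.toFun' S z := by
  obtain ⟨n, s, b, rfl⟩ := exists_fin_sum_tmul z
  rw [Groth.Agent.Lib.NormAlt23.tpowLaw_sum, map_sum, ← key F hF S s b]
  refine Finset.sum_congr rfl fun c _ => ?_
  rw [LinearMap.lTensor_tmul, psi_tprod]

theorem rel_of_isUnit (hd : IsUnit ((d.factorial : ℕ) : A)) {C' : Type u} [AddCommGroup C'] [Module A C']
    (F : B →ₚₗ[A] C') (hF : PolLaw.IsHomog F d)
    (S : Type u) [CommRing S] [Algebra A S] (z : S ⊗[A] B) (l : S →ₗ[A] A)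
    (h0 : evalFun (⨂[A] _ : Fin d, B) l ((SymTen.tpowLaw A B d).law.toFun' S z) = 0) :
    evalFun C' l (F.toFun' S z) = 0 := by
  have h1 := congrArg (psi F d) h0
  rw [map_zero, ← evalFun_lTensor, psi_tpow' F hF, map_nsmul] at h1
  obtain ⟨u, hu⟩ := hd
  calc evalFun C' l (F.toFun' S z)
      = (↑u⁻¹ : A) • (d.factorial • evalFun C' l (F.toFun' S z)) := by
        rw [← Nat.cast_smul_eq_nsmul A, ← hu, smul_smul, Units.inv_mul, one_smul]
    _ = 0 := by rw [h1, smul_zero]

theorem rel_of_flat [Module.Flat A B] {C' : Type u} [AddCommGroup C'] [Module A C']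
    (F : B →ₚₗ[A] C') (hF : PolLaw.IsHomog F d)
    (S : Type u) [CommRing S] [Algebra A S] (z : S ⊗[A] B) (l : S →ₗ[A] A)
    (h0 : evalFun (⨂[A] _ : Fin d, B) l ((SymTen.tpowLaw A B d).law.toFun' S z) = 0) :
    evalFun C' l (F.toFun' S z) = 0 := by
  classical
  obtain ⟨q, s, b, rfl⟩ := exists_fin_sum_tmul z
  let h₀ : (Fin q → A) →ₗ[A] B := (Pi.basisFun A (Fin q)).constr A b
  let z₀ : S ⊗[A] (Fin q → A) := ∑ j, s j ⊗ₜ[A] (Pi.basisFun A (Fin q) j)
  have hz₀ : h₀.lTensor S z₀ = ∑ j, s j ⊗ₜ[A] b j := by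
    simp only [z₀, h₀, map_sum, LinearMap.lTensor_tmul, Module.Basis.constr_basis]
  let ρ := evalFun (⨂[A] _ : Fin d, (Fin q → A)) l ((SymTen.tpowLaw A (Fin q → A) d).law.toFun' S z₀)
  have hρ : PiTensorProduct.map (fun _ : Fin d => h₀) ρ = 0 := by
    simp only [ρ]
    rw [← evalFun_lTensor, tpowLaw_natural, hz₀]
    exact h0
  obtain ⟨k, w, h₁, hw, hwρ⟩ := exists_free_stage_zero B h₀ d ρ hρ
  let e : Module.Basis (ULift.{u} (Fin k)) A (Fin k → A) :=
    (Pi.basisFun A (Fin k)).reindex Equiv.ulift.symm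
  have hG : PolLaw.IsHomog (PolLaw.precomp F h₁) d := isHomog_precomp F h₁ hF
  have hft := Groth.Agent.Lib.RobyFree23.postcomp_ftil (PolLaw.precomp F h₁) e d hG
  have h5 : PiTensorProduct.map (fun _ : Fin d => w) ρ =
      evalFun _ l ((SymTen.tpowLaw A (Fin k → A) d).law.toFun' S (w.lTensor S z₀)) := by
    simp only [ρ]
    rw [← evalFun_lTensor, tpowLaw_natural]
  have h6 := congrArg (Groth.Agent.Lib.RobyFree23.ftil (PolLaw.precomp F h₁) e d) hwρ
  rw [h5, map_zero, ← evalFun_lTensor, ← postcomp_toFun', hft, precomp_toFun', ← LinearMap.comp_apply,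
    ← LinearMap.lTensor_comp, hw, hz₀] at h6
  exact h6

end Rel

section Main

variable (A : Type u) [CommRing A] (B : Type u) [CommRing B] [Algebra A B] (d : ℕ)

theorem main (h : Module.Flat A B ∨ IsUnit ((d.factorial : ℕ) : A)) :
    ∃ τ : PolLaw.MulLaw A B (SymTen.TS A B d) d,
      PolLaw.postcomp (SymTen.TS A B d).val.toLinearMap τ.law = (SymTen.tpowLaw A B d).law ∧
      PolLaw.IsGammaD τ := by
  obtain ⟨τ, hτ⟩ := exists_tau A B d
  refine ⟨τ, hτ, ?_⟩
  rcases h with h | h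
  · exact isGammaD_of τ hτ (mem_span_of_flat A B d)
      (fun C' _ _ F S _ _ z l h0 => rel_of_flat F.law F.homog S z l h0)
  · exact isGammaD_of τ hτ (mem_span_of_isUnit A B d h)
      (fun C' _ _ F S _ _ z l h0 => rel_of_isUnit h F.law F.homog S z l h0)

end Main

end Groth.Agent.Lib.GammaTS75
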