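import Groth.Agent.Lib.PolLawGen23
import Mathlib.RingTheory.TensorProduct.MvPolynomial
import Mathlib.LinearAlgebra.TensorProduct.Basis
import Mathlib.RingTheory.MvPolynomial.Basic

set_option autoImplicit false
universe u
open scoped TensorProduct
open MvPolynomial

namespace Groth.Agent.Lib.PolLawSpan23

open Groth.Agent.Lib.PolLaw23 Groth.Agent.Lib.PolLawExt23 Groth.Agent.Lib.PolLawGen23

variable {A : Type u} [CommRing A] {B C : Type u} [CommRing B] [Algebra A B] [CommRing C] [Algebra A C]

/-- Apply a linear functional on the left factor. -/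
noncomputable def evalFun {P : Type u} [CommRing P] [Algebra A P] (E : Type u) [AddCommGroup E] [Module A E]
    (l : P →ₗ[A] A) : P ⊗[A] E →ₗ[A] E :=
  (TensorProduct.lid A E).toLinearMap ∘ₗ l.rTensor E

@[simp]
theorem evalFun_tmul {P : Type u} [CommRing P] [Algebra A P] (E : Type u) [AddCommGroup E] [Module A E]
    (l : P →ₗ[A] A) (p : P) (c : E) : evalFun E l (p ⊗ₜ[A] c) = l p • c := by
  simp [evalFun]

theorem evalFun_lTensor {P : Type u} [CommRing P] [Algebra A P] {E E' : Type u} [AddCommGroup E] [Module A E]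
    [AddCommGroup E'] [Module A E'] (f : E →ₗ[A] E') (l : P →ₗ[A] A) (u : P ⊗[A] E) :
    evalFun E' l (f.lTensor P u) = f (evalFun E l u) := by
  induction u using TensorProduct.induction_on with
  | zero => simp
  | tmul p c => simp
  | add a b ha hb => simp only [map_add, ha, hb]

section Prod

variable (n n' : ℕ)

/-- `A[t_1..t_n] ⊗ A[t_1..t_n'] ≃ A[t_1..t_{n+n'}]` -/
noncomputable def polyTensorEquiv :
    (MvPolynomial (Fin n) A ⊗[A] MvPolynomial (Fin n') A) ≃ₐ[A] MvPolynomial (Fin (n + n')) A :=
  (MvPolynomial.tensorEquivSum A (Fin n) (Fin n') A).trans (MvPolynomial.renameEquiv A finSumFinEquiv)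

theorem polyTensorEquiv_tmul (g : MvPolynomial (Fin n) A) (g' : MvPolynomial (Fin n') A) :
    (polyTensorEquiv (A := A) n n') (g ⊗ₜ[A] g') =
      rename (Fin.castAdd n') g * rename (Fin.natAdd n) g' := by
  have h : (polyTensorEquiv (A := A) n n').toAlgHom =
      Algebra.TensorProduct.productMap (rename (Fin.castAdd n')) (rename (Fin.natAdd n)) := by
    apply Algebra.TensorProduct.ext
    · apply MvPolynomial.algHom_ext
      intro i
      simp [polyTensorEquiv]
    · apply MvPolynomial.algHom_ext
      intro i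
      simp [polyTensorEquiv]
  have := congrArg (fun f : _ →ₐ[A] _ => f (g ⊗ₜ[A] g')) h
  simpa using this

/-- The product functional. -/
noncomputable def prodFun (l : MvPolynomial (Fin n) A →ₗ[A] A) (l' : MvPolynomial (Fin n') A →ₗ[A] A) :
    MvPolynomial (Fin (n + n')) A →ₗ[A] A :=
  (TensorProduct.lid A A).toLinearMap ∘ₗ TensorProduct.map l l' ∘ₗ
    (polyTensorEquiv (A := A) n n').symm.toLinearMap

theorem prodFun_apply (l : MvPolynomial (Fin n) A →ₗ[A] A) (l' : MvPolynomial (Fin n') A →ₗ[A] A)
    (g : MvPolynomial (Fin n) A) (g' : MvPolynomial (Fin n') A) :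
    prodFun n n' l l' (rename (Fin.castAdd n') g * rename (Fin.natAdd n) g') = l g * l' g' := by
  rw [← polyTensorEquiv_tmul]
  simp [prodFun]

theorem evalFun_prodFun (l : MvPolynomial (Fin n) A →ₗ[A] A) (l' : MvPolynomial (Fin n') A →ₗ[A] A)
    (G : MvPolynomial (Fin n) A ⊗[A] C) (G' : MvPolynomial (Fin n') A ⊗[A] C) :
    evalFun C (prodFun n n' l l')
      ((rename (Fin.castAdd n') : MvPolynomial (Fin n) A →ₐ[A] _).toLinearMap.rTensor C G *
        (rename (Fin.natAdd n) : MvPolynomial (Fin n') A →ₐ[A] _).toLinearMap.rTensor C G') =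
      evalFun C l G * evalFun C l' G' := by
  induction G using TensorProduct.induction_on with
  | zero => simp
  | tmul g c =>
    induction G' using TensorProduct.induction_on with
    | zero => simp
    | tmul g' c' =>
      simp only [LinearMap.rTensor_tmul, AlgHom.toLinearMap_apply, Algebra.TensorProduct.tmul_mul_tmul,
        evalFun_tmul, prodFun_apply]
      rw [smul_mul_smul_comm]
    | add a b ha hb => simp only [map_add, mul_add, ha, hb]
  | add a b ha hb => simp only [map_add, add_mul, ha, hb]

end Prod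


section Span

variable {d : ℕ} (γ : PolLaw.MulLaw A B C d)

/-- The set of "coefficients" of the universal law over polynomial rings. -/
def coeffSet : Set C :=
  {c | ∃ (n : ℕ) (z : MvPolynomial (Fin n) A ⊗[A] B) (l : MvPolynomial (Fin n) A →ₗ[A] A),
    c = evalFun C l (γ.law.toFun' (MvPolynomial (Fin n) A) z)}

theorem one_mem_coeffSet : (1 : C) ∈ coeffSet γ := by
  refine ⟨0, 1, (MvPolynomial.aeval (fun _ => (0 : A)) : MvPolynomial (Fin 0) A →ₐ[A] A).toLinearMap, ?_⟩
  rw [(γ.mult _).1, Algebra.TensorProduct.one_def, evalFun_tmul]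
  simp

theorem mul_mem_coeffSet {c c' : C} (hc : c ∈ coeffSet γ) (hc' : c' ∈ coeffSet γ) :
    c * c' ∈ coeffSet γ := by
  obtain ⟨n, z, l, rfl⟩ := hc
  obtain ⟨n', z', l', rfl⟩ := hc'
  refine ⟨n + n', (rename (Fin.castAdd n') : MvPolynomial (Fin n) A →ₐ[A] _).toLinearMap.rTensor B z *
    (rename (Fin.natAdd n) : MvPolynomial (Fin n') A →ₐ[A] _).toLinearMap.rTensor B z',
    prodFun n n' l l', ?_⟩
  rw [(γ.mult _).2, ← PolynomialLaw.isCompat_apply', ← PolynomialLaw.isCompat_apply', evalFun_prodFun]

/-- The span of the coefficients, as a subalgebra. -/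
noncomputable def coeffSub : Subalgebra A C :=
  Submodule.toSubalgebra (Submodule.span A (coeffSet γ))
    (Submodule.subset_span (one_mem_coeffSet γ))
    (by
      intro x y hx hy
      induction hx using Submodule.span_induction with
      | mem x hx =>
        induction hy using Submodule.span_induction with
        | mem y hy => exact Submodule.subset_span (mul_mem_coeffSet γ hx hy)
        | zero => rw [mul_zero]; exact zero_mem _
        | add a b _ _ ha hb => rw [mul_add]; exact add_mem ha hb
        | smul r a _ ha => rw [mul_smul_comm]; exact Submodule.smul_mem _ _ ha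
      | zero => rw [zero_mul]; exact zero_mem _
      | add a b _ _ ha hb => rw [add_mul]; exact add_mem ha hb
      | smul r a _ ha => rw [smul_mul_assoc]; exact Submodule.smul_mem _ _ ha)

theorem mem_coeffSub (c : C) : c ∈ coeffSub γ ↔ c ∈ Submodule.span A (coeffSet γ) := Iff.rfl

/-- Every element of `P ⊗ C` whose coordinates lie in a subalgebra comes from `P ⊗ C₀`. -/
theorem mem_range_lTensor_of_coords (C₀ : Subalgebra A C) (n : ℕ)
    (u : MvPolynomial (Fin n) A ⊗[A] C)
    (h : ∀ l : MvPolynomial (Fin n) A →ₗ[A] A, evalFun C l u ∈ C₀) :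
    u ∈ LinearMap.range (C₀.val.toLinearMap.lTensor (MvPolynomial (Fin n) A)) := by
  classical
  let b := MvPolynomial.basisMonomials (Fin n) A
  let e := TensorProduct.equivFinsuppOfBasisLeft (N := C) b
  have hcoord : ∀ β, e u β ∈ C₀ := by
    intro β
    rw [TensorProduct.equivFinsuppOfBasisLeft_apply]
    exact h (b.coord β)
  have hu : u = (e u).sum fun β c => b β ⊗ₜ[A] c := by
    rw [← TensorProduct.equivFinsuppOfBasisLeft_symm_apply, LinearEquiv.symm_apply_apply]
  refine ⟨∑ β ∈ (e u).support, b β ⊗ₜ[A] (⟨e u β, hcoord β⟩ : C₀), ?_⟩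
  rw [map_sum]
  conv_rhs => rw [hu]
  rw [Finsupp.sum]
  refine Finset.sum_congr rfl fun β _ => ?_
  rw [LinearMap.lTensor_tmul]
  rfl

/-- **Spanning principle**: `Γ^d_A(B)` is spanned, as a module, by the coefficients of its universal law
over the polynomial rings. -/
theorem span_coeffSet_eq_top (hγ : PolLaw.IsGammaD γ) : Submodule.span A (coeffSet γ) = ⊤ := by
  have h : coeffSub γ = ⊤ := by
    apply subalgebra_eq_top_of_isGammaD γ hγ
    intro n z
    apply mem_range_lTensor_of_coords
    intro l
    exact Submodule.subset_span ⟨n, z, l, rfl⟩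
  rw [eq_top_iff]
  intro c _
  have : c ∈ coeffSub γ := by rw [h]; exact Algebra.mem_top
  exact this

/-- Linear maps out of `Γ^d_A(B)` are determined by their composite with the universal law. -/
theorem linearMap_ext_of_isGammaD (hγ : PolLaw.IsGammaD γ) {E : Type u} [AddCommGroup E] [Module A E]
    (f g : C →ₗ[A] E) (h : PolLaw.postcomp f γ.law = PolLaw.postcomp g γ.law) : f = g := by
  apply LinearMap.ext_on (span_coeffSet_eq_top γ hγ)
  rintro c ⟨n, z, l, rfl⟩
  rw [← evalFun_lTensor, ← evalFun_lTensor, ← postcomp_toFun', ← postcomp_toFun', h]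

end Span

end Groth.Agent.Lib.PolLawSpan23
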