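import Groth.Agent.Lib.PolLawGen23
import Groth.Agent.S17914
import Groth.Prelude.Def_W4c5normfunctorschNorm
import Groth.Prelude.Def_PolLaw2
import Mathlib.RingTheory.IsTensorProduct
import Mathlib.RingTheory.TensorProduct.Maps

/-!
# Restriction and base change of polynomial laws along `R → Q` (helper23)
-/

set_option autoImplicit false
universe u
open scoped TensorProduct

namespace Groth.Agent.Lib.NormicBC23

open Groth.Agent.Lib.PolLawGen23

section Bet

variable {R : Type u} [CommRing R] {Q : Type u} [CommRing Q] [Algebra R Q]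
  {X : Type u} [AddCommGroup X] [Module R X]
  {Y : Type u} [AddCommGroup Y] [Module R Y] [Module Q Y] [IsScalarTower R Q Y]

variable (Q) in
/-- `p ⊗ x ↦ p ⊗ g x` : `P ⊗[R] X → P ⊗[Q] Y` (semiring test algebra, `P`-linear). -/
noncomputable def bet (g : X →ₗ[R] Y) (P : Type u) [CommSemiring P] [Algebra R P] [Algebra Q P]
    [IsScalarTower R Q P] : P ⊗[R] X →ₗ[P] P ⊗[Q] Y :=
  (TensorProduct.AlgebraTensorModule.map (LinearMap.id : P →ₗ[P] P) (g.liftBaseChange Q)) ∘ₗ
    (TensorProduct.AlgebraTensorModule.cancelBaseChange R Q P P X).symm.toLinearMap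

@[simp]
theorem bet_tmul (g : X →ₗ[R] Y) (P : Type u) [CommSemiring P] [Algebra R P] [Algebra Q P]
    [IsScalarTower R Q P] (p : P) (x : X) : bet Q g P (p ⊗ₜ[R] x) = p ⊗ₜ[Q] g x := by
  simp [bet, LinearMap.liftBaseChange_tmul]

theorem bcAlong_eq_bet (g : X →ₗ[R] Y) (P : Type u) [CommRing P] [Algebra R P] [Algebra Q P]
    [IsScalarTower R Q P] (z : P ⊗[R] X) : PolLaw.bcAlong (Q := Q) g P z = bet Q g P z := by
  induction z using TensorProduct.induction_on with
  | zero => simp
  | tmul p x =>
    rw [bet_tmul]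
    unfold PolLaw.bcAlong
    simp [LinearMap.liftBaseChange_tmul]
  | add x y hx hy => simp only [map_add, hx, hy]

/-- `bet Q g P` as an equivalence, when `g` is a base change. -/
noncomputable def betEquiv {g : X →ₗ[R] Y} (hg : IsBaseChange Q g) (P : Type u) [CommSemiring P]
    [Algebra R P] [Algebra Q P] [IsScalarTower R Q P] : P ⊗[R] X ≃ₗ[P] P ⊗[Q] Y :=
  (TensorProduct.AlgebraTensorModule.cancelBaseChange R Q P P X).symm ≪≫ₗ
    TensorProduct.AlgebraTensorModule.congr (LinearEquiv.refl P P) hg.equiv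

theorem betEquiv_apply {g : X →ₗ[R] Y} (hg : IsBaseChange Q g) (P : Type u) [CommSemiring P]
    [Algebra R P] [Algebra Q P] [IsScalarTower R Q P] (z : P ⊗[R] X) :
    betEquiv hg P z = bet Q g P z := by
  induction z using TensorProduct.induction_on with
  | zero => simp
  | tmul p x =>
    rw [bet_tmul]
    simp [betEquiv, IsBaseChange.equiv_tmul]
  | add x y hx hy => simp only [map_add, hx, hy]

theorem bet_rTensor (g : X →ₗ[R] Y) {P P' : Type u} [CommSemiring P] [Algebra R P] [Algebra Q P]
    [IsScalarTower R Q P] [CommSemiring P'] [Algebra R P'] [Algebra Q P'] [IsScalarTower R Q P']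
    (φ : P →ₐ[Q] P') (z : P ⊗[R] X) :
    φ.toLinearMap.rTensor Y (bet Q g P z) = bet Q g P' ((φ.restrictScalars R).toLinearMap.rTensor X z) := by
  induction z using TensorProduct.induction_on with
  | zero => simp
  | tmul p x => simp
  | add x y hx hy => simp only [map_add, hx, hy]

theorem betEquiv_symm_rTensor {g : X →ₗ[R] Y} (hg : IsBaseChange Q g) {P P' : Type u}
    [CommSemiring P] [Algebra R P] [Algebra Q P]
    [IsScalarTower R Q P] [CommSemiring P'] [Algebra R P'] [Algebra Q P'] [IsScalarTower R Q P']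
    (φ : P →ₐ[Q] P') (y : P ⊗[Q] Y) :
    (betEquiv hg P').symm (φ.toLinearMap.rTensor Y y) =
      (φ.restrictScalars R).toLinearMap.rTensor X ((betEquiv hg P).symm y) := by
  rw [LinearEquiv.symm_apply_eq, betEquiv_apply, ← bet_rTensor, ← betEquiv_apply hg,
    LinearEquiv.apply_symm_apply]

end Bet


section Kap

variable {R : Type u} [CommRing R] (Q : Type u) [CommRing Q] [Algebra R Q]
  (E : Type u) [AddCommGroup E] [Module R E] [Module Q E] [IsScalarTower R Q E]
  (P : Type u) [CommSemiring P] [Algebra R P]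

/-- `(q ⊗ p) ⊗ e ↦ p ⊗ q • e`. -/
noncomputable def kap : (Q ⊗[R] P) ⊗[Q] E →ₗ[R] P ⊗[R] E :=
  (TensorProduct.comm R E P).toLinearMap ∘ₗ
    ((TensorProduct.AlgebraTensorModule.cancelBaseChange R Q Q E P).toLinearMap.restrictScalars R) ∘ₗ
    ((TensorProduct.comm Q (Q ⊗[R] P) E).toLinearMap.restrictScalars R)

variable {Q E P}

@[simp]
theorem kap_tmul (q : Q) (p : P) (e : E) :
    kap Q E P ((q ⊗ₜ[R] p) ⊗ₜ[Q] e) = p ⊗ₜ[R] (q • e) := by
  simp [kap]


theorem kap_rTensor {P' : Type u} [CommSemiring P'] [Algebra R P'] (φ : P →ₐ[R] P')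
    (w : (Q ⊗[R] P) ⊗[Q] E) :
    φ.toLinearMap.rTensor E (kap Q E P w) =
      kap Q E P' ((Algebra.TensorProduct.map (AlgHom.id Q Q) φ).toLinearMap.rTensor E w) := by
  induction w using TensorProduct.induction_on with
  | zero => simp
  | tmul t e =>
    induction t using TensorProduct.induction_on with
    | zero => simp
    | tmul q p => simp
    | add x y hx hy => simp only [TensorProduct.add_tmul, map_add, hx, hy]
  | add x y hx hy => simp only [map_add, hx, hy]

theorem kap_lTensor {E' : Type u} [AddCommGroup E'] [Module R E'] [Module Q E'] [IsScalarTower R Q E']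
    (φ : E →ₗ[Q] E') (w : (Q ⊗[R] P) ⊗[Q] E) :
    (φ.restrictScalars R).lTensor P (kap Q E P w) = kap Q E' P (φ.lTensor (Q ⊗[R] P) w) := by
  induction w using TensorProduct.induction_on with
  | zero => simp
  | tmul t e =>
    induction t using TensorProduct.induction_on with
    | zero => simp
    | tmul q p => simp
    | add x y hx hy => simp only [TensorProduct.add_tmul, map_add, hx, hy]
  | add x y hx hy => simp only [map_add, hx, hy]

end Kap

section Res

variable {R : Type u} [CommRing R] (Q : Type u) [CommRing Q] [Algebra R Q]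
  {X : Type u} [AddCommGroup X] [Module R X]
  {Y : Type u} [AddCommGroup Y] [Module R Y] [Module Q Y] [IsScalarTower R Q Y]
  {E : Type u} [AddCommGroup E] [Module R E] [Module Q E] [IsScalarTower R Q E]

/-- `p ⊗ x ↦ (1 ⊗ p) ⊗ g x`. -/
noncomputable def iot (g : X →ₗ[R] Y) (P : Type u) [CommSemiring P] [Algebra R P] :
    P ⊗[R] X →ₗ[R] (Q ⊗[R] P) ⊗[Q] Y :=
  ((bet Q g (Q ⊗[R] P)).restrictScalars R) ∘ₗ
    ((Algebra.TensorProduct.includeRight : P →ₐ[R] Q ⊗[R] P).toLinearMap.rTensor X)

@[simp]
theorem iot_tmul (g : X →ₗ[R] Y) (P : Type u) [CommSemiring P] [Algebra R P] (p : P) (x : X) :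
    iot Q g P (p ⊗ₜ[R] x) = ((1 : Q) ⊗ₜ[R] p) ⊗ₜ[Q] g x := by
  simp [iot]

theorem iot_rTensor (g : X →ₗ[R] Y) {P P' : Type u} [CommSemiring P] [Algebra R P]
    [CommSemiring P'] [Algebra R P'] (φ : P →ₐ[R] P') (m : P ⊗[R] X) :
    (Algebra.TensorProduct.map (AlgHom.id Q Q) φ).toLinearMap.rTensor Y (iot Q g P m) =
      iot Q g P' (φ.toLinearMap.rTensor X m) := by
  induction m using TensorProduct.induction_on with
  | zero => simp
  | tmul p x => simp
  | add x y hx hy => simp only [map_add, hx, hy]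

/-- Restriction of a polynomial law over `Q` along `g : X → Y` to a law over `R`. -/
noncomputable def res (g : X →ₗ[R] Y) (μ : Y →ₚₗ[Q] E) : X →ₚₗ[R] E where
  toFun' P _ _ := fun m => kap Q E P (μ.toFun' (Q ⊗[R] P) (iot Q g P m))
  isCompat' {P} _ _ {P'} _ _ φ := by
    funext m
    simp only [Function.comp_apply]
    rw [kap_rTensor, PolynomialLaw.isCompat_apply', iot_rTensor]

theorem res_toFun' (g : X →ₗ[R] Y) (μ : Y →ₚₗ[Q] E) (P : Type u) [CommSemiring P] [Algebra R P]
    (m : P ⊗[R] X) :
    (res Q g μ).toFun' P m = kap Q E P (μ.toFun' (Q ⊗[R] P) (iot Q g P m)) := rfl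

end Res

section BC

variable {R : Type u} [CommRing R] {Q : Type u} [CommRing Q] [Algebra R Q]
  {X : Type u} [AddCommGroup X] [Module R X]
  {Y : Type u} [AddCommGroup Y] [Module R Y] [Module Q Y] [IsScalarTower R Q Y]
  {E : Type u} [AddCommGroup E] [Module R E] [Module Q E] [IsScalarTower R Q E]

/-- Base change of a polynomial law `X → E` over `R` (`E` a `Q`-module) to a law `Y → E` over `Q`,
where `Y = Q ⊗ X` through `g`. -/
noncomputable def bc {g : X →ₗ[R] Y} (hg : IsBaseChange Q g) (lam : X →ₚₗ[R] E) : Y →ₚₗ[Q] E where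
  toFun' P _ _ :=
    letI : Algebra R P := Algebra.compHom P (algebraMap R Q)
    haveI : IsScalarTower R Q P := IsScalarTower.of_algebraMap_eq (fun _ => rfl)
    fun y => bet Q (LinearMap.id : E →ₗ[R] E) P (lam.toFun' P ((betEquiv hg P).symm y))
  isCompat' {P} _ _ {P'} _ _ φ := by
    let _ : Algebra R P := Algebra.compHom P (algebraMap R Q)
    have : IsScalarTower R Q P := IsScalarTower.of_algebraMap_eq (fun _ => rfl)
    let _ : Algebra R P' := Algebra.compHom P' (algebraMap R Q)
    have : IsScalarTower R Q P' := IsScalarTower.of_algebraMap_eq (fun _ => rfl)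
    funext y
    simp only [Function.comp_apply]
    rw [bet_rTensor, PolynomialLaw.isCompat_apply', betEquiv_symm_rTensor]

theorem bc_toFun' {g : X →ₗ[R] Y} (hg : IsBaseChange Q g) (lam : X →ₚₗ[R] E)
    (P : Type u) [CommSemiring P] [instRP : Algebra R P] [Algebra Q P] [IsScalarTower R Q P]
    (y : P ⊗[Q] Y) :
    (bc hg lam).toFun' P y =
      bet Q (LinearMap.id : E →ₗ[R] E) P (lam.toFun' P ((betEquiv hg P).symm y)) := by
  have h : instRP = Algebra.compHom P (algebraMap R Q) :=
    Algebra.algebra_ext _ _ (fun r => IsScalarTower.algebraMap_apply R Q P r)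
  subst h
  rfl


theorem kap_bet_incl (P : Type u) [CommSemiring P] [Algebra R P] (z : P ⊗[R] E) :
    kap Q E P (bet Q (LinearMap.id : E →ₗ[R] E) (Q ⊗[R] P)
      ((Algebra.TensorProduct.includeRight : P →ₐ[R] Q ⊗[R] P).toLinearMap.rTensor E z)) = z := by
  induction z using TensorProduct.induction_on with
  | zero => simp
  | tmul p e => simp
  | add x y hx hy => simp only [map_add, hx, hy]

theorem res_bc {g : X →ₗ[R] Y} (hg : IsBaseChange Q g) (lam : X →ₚₗ[R] E) :
    res Q g (bc hg lam) = lam := by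
  ext P _ _ m
  rw [res_toFun', bc_toFun']
  have h1 : (betEquiv hg (Q ⊗[R] P)).symm (iot Q g P m) =
      (Algebra.TensorProduct.includeRight : P →ₐ[R] Q ⊗[R] P).toLinearMap.rTensor X m := by
    rw [LinearEquiv.symm_apply_eq, betEquiv_apply]
    rfl
  rw [h1, ← PolynomialLaw.isCompat_apply']
  exact kap_bet_incl P _

/-- `q ⊗ p ↦ q • p`. -/
noncomputable def mult (P : Type u) [CommSemiring P] [Algebra R P] [Algebra Q P]
    [IsScalarTower R Q P] : Q ⊗[R] P →ₐ[Q] P :=
  Algebra.TensorProduct.lift (Algebra.ofId Q P) (AlgHom.id R P) (fun _ _ => Commute.all _ _)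

@[simp]
theorem mult_tmul (P : Type u) [CommSemiring P] [Algebra R P] [Algebra Q P]
    [IsScalarTower R Q P] (q : Q) (p : P) : mult (R := R) P (q ⊗ₜ[R] p) = algebraMap Q P q * p := by
  simp [mult, Algebra.ofId_apply]

theorem mult_rTensor_iot (g : X →ₗ[R] Y) (P : Type u) [CommSemiring P] [Algebra R P] [Algebra Q P]
    [IsScalarTower R Q P] (m : P ⊗[R] X) :
    (mult (R := R) (Q := Q) P).toLinearMap.rTensor Y (iot Q g P m) = bet Q g P m := by
  induction m using TensorProduct.induction_on with
  | zero => simp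
  | tmul p x => simp
  | add x y hx hy => simp only [map_add, hx, hy]

theorem mult_rTensor_eq (P : Type u) [CommSemiring P] [Algebra R P] [Algebra Q P]
    [IsScalarTower R Q P] (w : (Q ⊗[R] P) ⊗[Q] E) :
    (mult (R := R) (Q := Q) P).toLinearMap.rTensor E w =
      bet Q (LinearMap.id : E →ₗ[R] E) P (kap Q E P w) := by
  induction w using TensorProduct.induction_on with
  | zero => simp
  | tmul t e =>
    induction t using TensorProduct.induction_on with
    | zero => simp
    | tmul q p =>
      simp only [LinearMap.rTensor_tmul, AlgHom.toLinearMap_apply, mult_tmul, kap_tmul, bet_tmul,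
        LinearMap.id_coe, id_eq]
      rw [← Algebra.smul_def, TensorProduct.smul_tmul]
    | add x y hx hy => simp only [TensorProduct.add_tmul, map_add, hx, hy]
  | add x y hx hy => simp only [map_add, hx, hy]

/-- A law over `Q` on `Y` is determined by its restriction. -/
theorem toFun'_bet (g : X →ₗ[R] Y) (μ : Y →ₚₗ[Q] E) (P : Type u) [CommSemiring P] [Algebra R P]
    [Algebra Q P] [IsScalarTower R Q P] (m : P ⊗[R] X) :
    μ.toFun' P (bet Q g P m) =
      bet Q (LinearMap.id : E →ₗ[R] E) P ((res Q g μ).toFun' P m) := by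
  rw [res_toFun', ← mult_rTensor_eq, PolynomialLaw.isCompat_apply', mult_rTensor_iot]

theorem res_postcomp {E' : Type u} [AddCommGroup E'] [Module R E'] [Module Q E']
    [IsScalarTower R Q E'] (g : X →ₗ[R] Y) (φ : E →ₗ[Q] E') (μ : Y →ₚₗ[Q] E) :
    res Q g (PolLaw.postcomp φ μ) = PolLaw.postcomp (φ.restrictScalars R) (res Q g μ) := by
  ext P _ _ m
  rw [res_toFun', postcomp_toFun', postcomp_toFun', res_toFun', kap_lTensor]

theorem res_injective {g : X →ₗ[R] Y} (hg : IsBaseChange Q g) (μ μ' : Y →ₚₗ[Q] E)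
    (h : res Q g μ = res Q g μ') : μ = μ' := by
  ext P _ _ y
  let _ : Algebra R P := Algebra.compHom P (algebraMap R Q)
  have : IsScalarTower R Q P := IsScalarTower.of_algebraMap_eq (fun _ => rfl)
  obtain ⟨m, rfl⟩ := (betEquiv hg P).surjective y
  rw [betEquiv_apply, toFun'_bet, toFun'_bet, h]

end BC


section Normic

variable {R R' Q Q' : Type u} [CommRing R] [CommRing R'] [Algebra R R']
  [CommRing Q] [Algebra R Q] [CommRing Q'] [Algebra R Q'] [Algebra Q Q'] [Algebra R' Q']
  [IsScalarTower R Q Q'] [IsScalarTower R R' Q']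
  {M' : Type u} [AddCommGroup M'] [Module R M'] [Module R' M'] [IsScalarTower R R' M']
  {M'' : Type u} [AddCommGroup M''] [Module R M''] [Module R' M''] [Module Q M''] [Module Q' M'']
  [IsScalarTower R R' M''] [IsScalarTower R Q M''] [IsScalarTower R' Q' M''] [IsScalarTower Q Q' M'']
  (f : M' →ₗ[R'] M'')
  {E : Type u} [AddCommGroup E] [Module R E] [Module Q E] [IsScalarTower R Q E]

theorem bet_actEnd (P : Type u) [CommSemiring P] [Algebra R P] [Algebra Q P] [IsScalarTower R Q P]
    (x : P ⊗[R] R') (m : P ⊗[R] M') :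
    bet Q (f.restrictScalars R) P (PolLaw.actEnd M' P x m) =
      PolLaw.actEnd M'' P (bet Q (IsScalarTower.toAlgHom R R' Q').toLinearMap P x)
        (bet Q (f.restrictScalars R) P m) := by
  induction x using TensorProduct.induction_on with
  | zero => simp
  | tmul s r =>
    induction m using TensorProduct.induction_on with
    | zero => simp
    | tmul p m₀ =>
      simp only [PolLaw.actEnd_tmul_tmul, bet_tmul, LinearMap.restrictScalars_apply, map_smul,
        AlgHom.toLinearMap_apply, IsScalarTower.coe_toAlgHom', algebraMap_smul]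
    | add z z' hz hz' => simp only [map_add, hz, hz']
  | add x y hx hy => simp only [map_add, LinearMap.add_apply, hx, hy]

theorem iot_actEnd (P : Type u) [CommSemiring P] [Algebra R P]
    (x : P ⊗[R] R') (m : P ⊗[R] M') :
    iot Q (f.restrictScalars R) P (PolLaw.actEnd M' P x m) =
      PolLaw.actEnd M'' (Q ⊗[R] P) (iot Q (IsScalarTower.toAlgHom R R' Q').toLinearMap P x)
        (iot Q (f.restrictScalars R) P m) := by
  induction x using TensorProduct.induction_on with
  | zero => simp
  | tmul s r =>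
    induction m using TensorProduct.induction_on with
    | zero => simp
    | tmul p m₀ =>
      simp only [PolLaw.actEnd_tmul_tmul, iot_tmul, LinearMap.restrictScalars_apply, map_smul,
        AlgHom.toLinearMap_apply, IsScalarTower.coe_toAlgHom', algebraMap_smul,
        Algebra.TensorProduct.tmul_mul_tmul, mul_one]
    | add z z' hz hz' => simp only [map_add, hz, hz']
  | add x y hx hy => simp only [map_add, LinearMap.add_apply, hx, hy]

theorem kap_smul (P : Type u) [CommSemiring P] [Algebra R P] (s : P) (w : (Q ⊗[R] P) ⊗[Q] E) :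
    kap Q E P (((1 : Q) ⊗ₜ[R] s) • w) = s • kap Q E P w := by
  induction w using TensorProduct.induction_on with
  | zero => simp
  | tmul t e =>
    induction t using TensorProduct.induction_on with
    | zero => simp
    | tmul q p =>
      simp only [TensorProduct.smul_tmul', smul_eq_mul, Algebra.TensorProduct.tmul_mul_tmul, one_mul,
        kap_tmul]
    | add x y hx hy => simp only [TensorProduct.add_tmul, smul_add, map_add, hx, hy]
  | add x y hx hy => simp only [smul_add, map_add, hx, hy]


variable [Algebra.IsPushout R R' Q Q']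

theorem norm_bet (P : Type u) [CommRing P] [Algebra R P] [Algebra Q P] [IsScalarTower R Q P]
    (x : P ⊗[R] R') :
    Algebra.norm P (bet Q (IsScalarTower.toAlgHom R R' Q').toLinearMap P x) = Algebra.norm P x := by
  rw [← bcAlong_eq_bet]
  exact Groth.Agent.S17914.norm_bcAlong P x

theorem norm_iot [Module.Free R R'] [Module.Finite R R'] (P : Type u) [CommRing P] [Algebra R P]
    (x : P ⊗[R] R') :
    Algebra.norm (Q ⊗[R] P) (iot Q (IsScalarTower.toAlgHom R R' Q').toLinearMap P x) =
      (1 : Q) ⊗ₜ[R] Algebra.norm P x := by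
  have h1 : iot Q (IsScalarTower.toAlgHom R R' Q').toLinearMap P x =
      bet Q (IsScalarTower.toAlgHom R R' Q').toLinearMap (Q ⊗[R] P)
        (Algebra.TensorProduct.map (Algebra.TensorProduct.includeRight : P →ₐ[R] Q ⊗[R] P)
          (AlgHom.id R R') x) := by
    rw [← PolLaw.rTensor_algHom_apply]
    rfl
  rw [h1, norm_bet, ← PolLaw.detAct_self, PolLaw.detAct_map, PolLaw.detAct_self]
  rfl

theorem isNormic_res [Module.Free R R'] [Module.Finite R R'] (μ : M'' →ₚₗ[Q] E)
    (hμ : PolLaw.IsNormic Q' μ) : PolLaw.IsNormic R' (res Q (f.restrictScalars R) μ) := by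
  intro P _ _ x m
  rw [res_toFun', res_toFun', iot_actEnd (Q' := Q') f P x m,
    hμ (Q ⊗[R] P) (iot Q (IsScalarTower.toAlgHom R R' Q').toLinearMap P x)
      (iot Q (f.restrictScalars R) P m), norm_iot, kap_smul]

theorem isNormic_bc (hg : IsBaseChange Q (f.restrictScalars R)) (lam : M' →ₚₗ[R] E)
    (hlam : PolLaw.IsNormic R' lam) : PolLaw.IsNormic Q' (bc hg lam) := by
  intro P _ _ x y
  let _ : Algebra R P := Algebra.compHom P (algebraMap R Q)
  have : IsScalarTower R Q P := IsScalarTower.of_algebraMap_eq (fun _ => rfl)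
  have hpo : Algebra.IsPushout R Q R' Q' := Algebra.IsPushout.symm inferInstance
  have hb : IsBaseChange Q (IsScalarTower.toAlgHom R R' Q').toLinearMap := hpo.out
  obtain ⟨m, rfl⟩ := (betEquiv hg P).surjective y
  obtain ⟨x₀, rfl⟩ := (betEquiv hb P).surjective x
  rw [betEquiv_apply, betEquiv_apply, ← bet_actEnd (Q' := Q') f P x₀ m, bc_toFun', bc_toFun', ← betEquiv_apply hg,
    ← betEquiv_apply hg, LinearEquiv.symm_apply_apply, LinearEquiv.symm_apply_apply, hlam P x₀ m,
    map_smul, norm_bet]

end Normic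


section Main

theorem postcomp_comp {A : Type u} [CommRing A] {M N P₁ P₂ : Type u} [AddCommGroup M] [Module A M]
    [AddCommGroup N] [Module A N] [AddCommGroup P₁] [Module A P₁] [AddCommGroup P₂] [Module A P₂]
    (h : P₁ →ₗ[A] P₂) (g : N →ₗ[A] P₁) (F : M →ₚₗ[A] N) :
    PolLaw.postcomp (h ∘ₗ g) F = PolLaw.postcomp h (PolLaw.postcomp g F) := by
  ext S _ _ x
  rw [postcomp_toFun', postcomp_toFun', postcomp_toFun', LinearMap.lTensor_comp, LinearMap.comp_apply]

theorem isNormic_postcomp {R : Type u} [CommRing R] (R' : Type u) [CommRing R'] [Algebra R R']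
    {M' : Type u} [AddCommGroup M'] [Module R M'] [Module R' M'] [IsScalarTower R R' M']
    {N E : Type u} [AddCommGroup N] [Module R N] [AddCommGroup E] [Module R E]
    (g : N →ₗ[R] E) (ν : M' →ₚₗ[R] N) (hν : PolLaw.IsNormic R' ν) :
    PolLaw.IsNormic R' (PolLaw.postcomp g ν) := by
  intro P _ _ x m
  rw [postcomp_toFun', postcomp_toFun', hν P x m, ← LinearMap.baseChange_eq_ltensor, map_smul]

theorem bet_lTensor {R : Type u} [CommRing R] {Q : Type u} [CommRing Q] [Algebra R Q]
    {X : Type u} [AddCommGroup X] [Module R X]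
    {Y : Type u} [AddCommGroup Y] [Module R Y] [Module Q Y] [IsScalarTower R Q Y]
    (g : X →ₗ[R] Y) (P : Type u) [CommSemiring P] [Algebra R P] [Algebra Q P] [IsScalarTower R Q P]
    (z : P ⊗[R] X) :
    bet Q (LinearMap.id : Y →ₗ[R] Y) P (g.lTensor P z) = bet Q g P z := by
  induction z using TensorProduct.induction_on with
  | zero => simp
  | tmul p x => simp
  | add x y hx hy => simp only [map_add, hx, hy]

variable {R R' Q Q' : Type u} [CommRing R] [CommRing R'] [Algebra R R']
  [CommRing Q] [Algebra R Q] [CommRing Q'] [Algebra R Q'] [Algebra Q Q'] [Algebra R' Q']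
  [IsScalarTower R Q Q'] [IsScalarTower R R' Q'] [Algebra.IsPushout R R' Q Q']
  {M' : Type u} [AddCommGroup M'] [Module R M'] [Module R' M'] [IsScalarTower R R' M']
  {M'' : Type u} [AddCommGroup M''] [Module R M''] [Module R' M''] [Module Q M''] [Module Q' M'']
  [IsScalarTower R R' M''] [IsScalarTower R Q M''] [IsScalarTower R' Q' M''] [IsScalarTower Q Q' M'']

theorem isBaseChange_restrictScalars (f : M' →ₗ[R'] M'') (hf : IsBaseChange Q' f) :
    IsBaseChange Q (f.restrictScalars R) := by
  have hpo : Algebra.IsPushout R Q R' Q' := Algebra.IsPushout.symm inferInstance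
  refine IsBaseChange.of_equiv ((Algebra.IsPushout.cancelBaseChange R Q R' Q' M').symm ≪≫ₗ
    (hf.equiv.restrictScalars Q)) (fun x => ?_)
  simp [IsBaseChange.equiv_tmul]

theorem main [Module.Free R R'] [Module.Finite R R']
    (f : M' →ₗ[R'] M'') (hf : IsBaseChange Q' f)
    {N : Type u} [AddCommGroup N] [Module R N] (ν : M' →ₚₗ[R] N) (hν : PolLaw.IsUnivNormic R' ν)
    {N'' : Type u} [AddCommGroup N''] [Module R N''] [Module Q N''] [IsScalarTower R Q N'']
    (ν'' : M'' →ₚₗ[Q] N'') (hν'' : PolLaw.IsUnivNormic Q' ν'') :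
    ∃ u : N →ₗ[R] N'',
      (∀ (P : Type u) [CommRing P] [Algebra R P] [Algebra Q P] [IsScalarTower R Q P] (m : P ⊗[R] M'),
          ν''.toFun' P (PolLaw.bcAlong (f.restrictScalars R) P m) = PolLaw.bcAlong u P (ν.toFun' P m)) ∧
      IsBaseChange Q u := by
  have hg : IsBaseChange Q (f.restrictScalars R) := isBaseChange_restrictScalars f hf
  obtain ⟨u, hu, -⟩ := hν.2 N'' (res Q (f.restrictScalars R) ν'') (isNormic_res f ν'' hν''.1)
  have key : ∀ (E : Type u) [AddCommGroup E] [Module R E] [Module Q E] [IsScalarTower R Q E]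
      (g : N →ₗ[R] E), ∃! g' : N'' →ₗ[Q] E, (g'.restrictScalars R).comp u = g := by
    intro E _ _ _ _ g
    have hlam : PolLaw.IsNormic R' (PolLaw.postcomp g ν) := isNormic_postcomp R' g ν hν.1
    obtain ⟨g', hg', hg'uniq⟩ := hν''.2 E (bc hg (PolLaw.postcomp g ν)) (isNormic_bc f hg _ hlam)
    refine ⟨g', ?_, ?_⟩
    · obtain ⟨φ, -, hφuniq⟩ := hν.2 E (PolLaw.postcomp g ν) hlam
      have h1 : PolLaw.postcomp ((g'.restrictScalars R).comp u) ν = PolLaw.postcomp g ν := by
        rw [postcomp_comp, hu, ← res_postcomp, hg', res_bc]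
      exact (hφuniq _ h1).trans (hφuniq g rfl).symm
    · intro g'' hg''
      apply hg'uniq
      apply res_injective hg
      rw [res_postcomp, ← hu, ← postcomp_comp, hg'', res_bc]
  refine ⟨u, ?_, ?_⟩
  · intro P _ _ _ _ m
    rw [bcAlong_eq_bet, bcAlong_eq_bet, toFun'_bet, ← hu, postcomp_toFun', bet_lTensor]
  · apply IsBaseChange.of_lift_unique
    intro E _ _ _ _ g
    let _ : AddCommGroup E := Module.addCommMonoidToAddCommGroup Q
    exact key E g

end Main

end Groth.Agent.Lib.NormicBC23
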