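import Mathlib.RingTheory.Norm.Defs
import Mathlib.RingTheory.TensorProduct.Free
import Mathlib.LinearAlgebra.Determinant
import Mathlib.LinearAlgebra.Matrix.ToLin
import Mathlib.LinearAlgebra.PiTensorProduct.Basic
import Groth.Prelude.Def_W4c5normfunctorschNorm

set_option autoImplicit false
universe u
open scoped TensorProduct

namespace Groth.Agent.Lib.NormAlt23

section Star


variable {R P R' : Type*} [CommRing R] [CommRing P] [Algebra R P] [CommRing R'] [Algebra R R']
  {d : ℕ}

theorem leftMulMatrix_basis_tmul (e : Module.Basis (Fin d) R R') (a : P) (b : R') :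
    Algebra.leftMulMatrix (Algebra.TensorProduct.basis P e) (a ⊗ₜ[R] b) =
      a • (Algebra.leftMulMatrix e b).map (algebraMap R P) := by
  ext i j
  rw [Algebra.leftMulMatrix_eq_repr_mul, Algebra.TensorProduct.basis_apply,
    Algebra.TensorProduct.tmul_mul_tmul, mul_one, Algebra.TensorProduct.basis_repr_tmul]
  simp [Algebra.leftMulMatrix_eq_repr_mul]

theorem norm_sum_tmul (e : Module.Basis (Fin d) R R') (p : Fin d → P) :
    Algebra.norm P (∑ k, p k ⊗ₜ[R] e k : P ⊗[R] R') =
      Matrix.det (∑ k, p k • (Algebra.leftMulMatrix e (e k)).map (algebraMap R P)) := by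
  rw [Algebra.norm_eq_matrix_det (Algebra.TensorProduct.basis P e), map_sum]
  congr 1
  refine Finset.sum_congr rfl fun k _ => ?_
  exact leftMulMatrix_basis_tmul e (p k) (e k)

theorem leftMulMatrix_mul_toMatrix (e : Module.Basis (Fin d) R R') (b : R') (x : Fin d → R') :
    Algebra.leftMulMatrix e b * e.toMatrix x = e.toMatrix (fun j => b * x j) := by
  ext i j
  have := congrFun (Algebra.leftMulMatrix_mulVec_repr e b (x j)) i
  simpa [Matrix.mul_apply, Matrix.mulVec, dotProduct, Module.Basis.toMatrix_apply] using this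

theorem det_sum_smul_cols (Y : Fin d → Matrix (Fin d) (Fin d) P) (p : Fin d → P) :
    Matrix.det (∑ k, p k • Y k) =
      ∑ κ : Fin d → Fin d, (∏ j, p (κ j)) * Matrix.det (Matrix.of fun i j => Y (κ j) i j) := by
  rw [← Matrix.det_transpose]
  have h1 : (∑ k, p k • Y k).transpose =
      Matrix.of (fun j => ∑ k, p k • (fun i => Y k i j)) := by
    ext j i
    simp [Matrix.transpose_apply, Matrix.sum_apply, Finset.sum_apply]
  rw [h1]
  show Matrix.detRowAlternating (fun j => ∑ k, p k • (fun i => Y k i j)) = _
  rw [← AlternatingMap.coe_multilinearMap, MultilinearMap.map_sum]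
  refine Finset.sum_congr rfl fun κ _ => ?_
  rw [MultilinearMap.map_smul_univ, smul_eq_mul]
  congr 1
  rw [← Matrix.det_transpose]
  rfl

/-- The key determinant identity. -/
theorem star (e : Module.Basis (Fin d) R R') (p : Fin d → P) (x : Fin d → R') :
    ∑ κ : Fin d → Fin d, (∏ j, p (κ j)) * algebraMap R P (e.det (fun j => e (κ j) * x j)) =
      Algebra.norm P (∑ k, p k ⊗ₜ[R] e k : P ⊗[R] R') * algebraMap R P (e.det x) := by
  rw [norm_sum_tmul, Module.Basis.det_apply, RingHom.map_det, ← Matrix.det_mul, Finset.sum_mul]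
  have h1 : ∀ k, p k • (Algebra.leftMulMatrix e (e k)).map (algebraMap R P) *
      (algebraMap R P).mapMatrix (e.toMatrix x) =
      p k • (e.toMatrix (fun j => e k * x j)).map (algebraMap R P) := by
    intro k
    rw [Matrix.smul_mul, ← leftMulMatrix_mul_toMatrix, RingHom.mapMatrix_apply, Matrix.map_mul]
  rw [Finset.sum_congr rfl (fun k _ => h1 k), det_sum_smul_cols]
  refine Finset.sum_congr rfl fun κ _ => ?_
  congr 1
  rw [Module.Basis.det_apply, RingHom.map_det]
  congr 1


end Star

section Alt


/-- An alternating map in as many variables as the rank is the determinant times its value on a basis. -/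
theorem alt_eq_det_smul {R M Λ : Type*} [CommRing R] [AddCommGroup M] [Module R M]
    [AddCommGroup Λ] [Module R Λ] {ι : Type*} [Fintype ι] [DecidableEq ι]
    (e : Module.Basis ι R M) (w : M [⋀^ι]→ₗ[R] Λ) (v : ι → M) :
    w v = e.det v • w e := by
  have : w = (LinearMap.toSpanSingleton R Λ (w e)).compAlternatingMap e.det := by
    refine Module.Basis.ext_alternating e fun i h => ?_
    let σ : Equiv.Perm ι := Equiv.ofBijective i (Finite.injective_iff_bijective.1 h)
    change w (e ∘ σ) = ((LinearMap.toSpanSingleton R Λ (w e)).compAlternatingMap e.det) (e ∘ σ)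
    simp [AlternatingMap.map_perm, Module.Basis.det_self]
  conv_lhs => rw [this]
  simp

variable (R : Type u) [CommRing R] (P : Type u) [AddCommGroup P] [Module R P] (d : ℕ)

/-- The class of a pure tensor modulo `altSpan`, as an alternating map. -/
noncomputable def wAlt : P [⋀^Fin d]→ₗ[R] ((⨂[R] _ : Fin d, P) ⧸ SymTen.altSpan R P d) :=
  { (SymTen.altSpan R P d).mkQ.compMultilinearMap (PiTensorProduct.tprod R) with
    map_eq_zero_of_eq' := by
      intro v i j hv hij
      show (SymTen.altSpan R P d).mkQ (PiTensorProduct.tprod R v) = 0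
      rw [Submodule.mkQ_apply, Submodule.Quotient.mk_eq_zero]
      exact Submodule.subset_span ⟨v, i, j, hij, hv, rfl⟩ }

theorem wAlt_apply (v : Fin d → P) :
    wAlt R P d v = (SymTen.altSpan R P d).mkQ (PiTensorProduct.tprod R v) := rfl


end Alt

section Tp


theorem prod_tmul {A : Type u} [CommRing A] {S B : Type u} [CommSemiring S] [Algebra A S]
    [CommRing B] [Algebra A B] {ι : Type*} (t : Finset ι) (a : ι → S) (c : ι → B) :
    ∏ j ∈ t, (a j ⊗ₜ[A] c j) = (∏ j ∈ t, a j) ⊗ₜ[A] (∏ j ∈ t, c j) := by
  classical
  induction t using Finset.induction_on with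
  | empty => simp [Algebra.TensorProduct.one_def]
  | insert j s hj ih =>
    rw [Finset.prod_insert hj, Finset.prod_insert hj, Finset.prod_insert hj, ih,
      Algebra.TensorProduct.tmul_mul_tmul]

theorem prod_single {A : Type u} [CommRing A] {B : Type u} [CommRing B] [Algebra A B] (d : ℕ)
    (c : Fin d → B) :
    ∏ j, PiTensorProduct.singleAlgHom (R := A) (A := fun _ : Fin d => B) j (c j) =
      PiTensorProduct.tprod A c := by
  simp only [PiTensorProduct.singleAlgHom_apply, MonoidHom.mulSingle_apply]
  rw [← PiTensorProduct.tprod_prod]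
  exact congrArg _ (Finset.univ_prod_mulSingle c)

/-- The tensor-power law on a sum of pure tensors. -/
theorem tpowLaw_sum {A : Type u} [CommRing A] {B : Type u} [CommRing B] [Algebra A B] (d : ℕ)
    (S : Type u) [CommSemiring S] [Algebra A S] {n : ℕ} (s : Fin n → S) (b : Fin n → B) :
    (SymTen.tpowLaw A B d).law.toFun' S (∑ k, s k ⊗ₜ[A] b k) =
      ∑ κ : Fin d → Fin n, (∏ j, s (κ j)) ⊗ₜ[A] PiTensorProduct.tprod A (fun j => b (κ j)) := by
  rw [SymTen.tpowLaw, PolLaw.MulLaw.prodMap_toFun']
  simp only [map_sum, Algebra.TensorProduct.map_tmul, AlgHom.id_apply]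
  rw [Finset.prod_univ_sum]
  simp only [Fintype.piFinset_univ]
  refine Finset.sum_congr rfl fun κ _ => ?_
  rw [prod_tmul, prod_single]


end Tp

section Act

variable (R : Type u) [CommRing R] (A : Type u) [CommRing A] [Algebra R A]
  (P : Type u) [AddCommGroup P] [Module R P] [Module A P] [IsScalarTower R A P] (d : ℕ)

theorem tpowAct_tprod (a : Fin d → A) (v : Fin d → P) :
    SymTen.tpowAct R A P d (PiTensorProduct.tprod R a) (PiTensorProduct.tprod R v) =
      PiTensorProduct.tprod R (fun j => a j • v j) := by
  rw [SymTen.tpowAct, PiTensorProduct.lift.tprod]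
  simp [PiTensorProduct.mapMultilinear_apply, PiTensorProduct.map_tprod]

theorem tpowAct_one (x : ⨂[R] _ : Fin d, P) :
    SymTen.tpowAct R A P d 1 x = x := by
  have h1 : (1 : ⨂[R] _ : Fin d, A) = PiTensorProduct.tprod R (fun _ => (1 : A)) := rfl
  induction x using PiTensorProduct.induction_on with
  | smul_tprod r v => rw [map_smul, h1, tpowAct_tprod]; simp
  | add x y hx hy => rw [map_add, hx, hy]

theorem tpowAct_mul (a b : ⨂[R] _ : Fin d, A) (x : ⨂[R] _ : Fin d, P) :
    SymTen.tpowAct R A P d (a * b) x =
      SymTen.tpowAct R A P d a (SymTen.tpowAct R A P d b x) := by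
  induction a using PiTensorProduct.induction_on with
  | smul_tprod r a =>
    induction b using PiTensorProduct.induction_on with
    | smul_tprod s b =>
      induction x using PiTensorProduct.induction_on with
      | smul_tprod t v =>
        rw [smul_mul_smul_comm, PiTensorProduct.tprod_mul_tprod]
        simp only [map_smul, LinearMap.smul_apply, tpowAct_tprod]
        have : (fun j => (a * b) j • v j) = fun j => a j • b j • v j := by
          funext j
          simp [mul_smul]
        rw [this, mul_comm r s, mul_smul]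
      | add x y hx hy => simp only [map_add, hx, hy]
    | add b b' hb hb' => simp only [mul_add, map_add, LinearMap.add_apply, hb, hb']
  | add a a' ha ha' => simp only [add_mul, map_add, LinearMap.add_apply, ha, ha']

end Act

end Groth.Agent.Lib.NormAlt23
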