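import Groth.Agent.Lib.PolLawMul23
import Groth.Agent.Lib.NormAlt23
import Mathlib.Data.Nat.Choose.Sum

set_option autoImplicit false
universe u
open scoped TensorProduct
open MvPolynomial

namespace Groth.Agent.Lib.SymPolar23

open Groth.Agent.Lib.PolLaw23 Groth.Agent.Lib.PolLawExt23 Groth.Agent.Lib.PolLawGen23
  Groth.Agent.Lib.PolLawSpan23 Groth.Agent.Lib.PolLawCoeff23 Groth.Agent.Lib.Polarize23

section General

variable {A : Type u} [CommRing A] {M N : Type u} [AddCommGroup M] [Module A M] [AddCommGroup N] [Module A N]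
  {d : ℕ}

/-- The polarization of a law given by an explicit "multinomial" formula. -/
theorem mu_eq_sum_perm (F : M →ₚₗ[A] N) (g : (Fin d → M) → N) (b : Fin d → M)
    (h : F.toFun' (MvPolynomial (Fin d) A) (∑ j, X j ⊗ₜ[A] b j) =
      ∑ c : Fin d → Fin d, (∏ i, X (c i)) ⊗ₜ[A] g (fun i => b (c i))) :
    mu F b = ∑ σ : Equiv.Perm (Fin d), g (fun i => b (σ i)) := by
  classical
  have h2 : mu F b = evalFun N ((basisMonomials (Fin d) A).coord (ones d))
      (F.toFun' (MvPolynomial (Fin d) A) (∑ j, X j ⊗ₜ[A] b j)) := by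
    rw [mu, cfs_apply]
    rfl
  rw [h2, h, ← sum_bij_perm (fun c => g (fun i => b (c i))), map_sum]
  refine Finset.sum_congr rfl fun c _ => ?_
  rw [evalFun_tmul, coord_apply, coeff_ones_prod_X]
  split_ifs <;> simp

/-- **Polarization identity** for a multilinear map. -/
theorem polarization (f : MultilinearMap A (fun _ : Fin d => M) N) (b : Fin d → M) :
    ∑ σ : Equiv.Perm (Fin d), f (fun i => b (σ i)) =
      ∑ U : Finset (Fin d), ((-1 : ℤ) ^ (Uᶜ).card) • f (fun _ => ∑ i ∈ U, b i) := by
  classical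
  have h1 : ∀ U : Finset (Fin d), f (fun _ => ∑ i ∈ U, b i) =
      ∑ c : Fin d → Fin d, if (∀ i, c i ∈ U) then f (fun i => b (c i)) else 0 := by
    intro U
    rw [MultilinearMap.map_sum_finset f (fun _ i => b i) (fun _ => U)]
    rw [← Finset.sum_filter]
    refine Finset.sum_congr ?_ fun _ _ => rfl
    ext c
    simp [Fintype.mem_piFinset]
  simp only [h1, Finset.smul_sum]
  rw [Finset.sum_comm, ← sum_bij_perm (fun c => f (fun i => b (c i)))]
  refine Finset.sum_congr rfl fun c _ => ?_
  have h2 : ∀ U : Finset (Fin d), ((-1 : ℤ) ^ (Uᶜ).card) • (if (∀ i, c i ∈ U) then f (fun i => b (c i)) else 0) =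
      (if (∀ i, c i ∈ U) then ((-1 : ℤ) ^ (Uᶜ).card) else 0) • f (fun i => b (c i)) := by
    intro U
    split_ifs <;> simp
  simp only [h2]
  rw [← Finset.sum_smul]
  have h3 : (∑ U : Finset (Fin d), if (∀ i, c i ∈ U) then ((-1 : ℤ) ^ (Uᶜ).card) else 0) =
      if Function.Bijective c then 1 else 0 := by
    have e := (Equiv.sum_comp (Function.Involutive.toPerm (compl : Finset (Fin d) → Finset (Fin d))
      compl_involutive) (fun U : Finset (Fin d) => if (∀ i, c i ∈ U) then ((-1 : ℤ) ^ (Uᶜ).card) else 0)).symm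
    rw [e]
    simp only [Function.Involutive.coe_toPerm, compl_compl]
    have h4 : ∀ V : Finset (Fin d), (∀ i, c i ∈ Vᶜ) ↔ V ∈ ((Finset.univ.image c)ᶜ).powerset := by
      intro V
      rw [Finset.mem_powerset]
      constructor
      · intro h j hj
        rw [Finset.mem_compl, Finset.mem_image]
        rintro ⟨i, -, rfl⟩
        exact (Finset.mem_compl.1 (h i)) hj
      · intro h i
        rw [Finset.mem_compl]
        intro hi
        have := h hi
        rw [Finset.mem_compl] at this
        exact this (Finset.mem_image_of_mem c (Finset.mem_univ i))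
    simp only [h4]
    rw [← Finset.sum_filter]
    have h5 : (Finset.univ.filter fun V : Finset (Fin d) => V ∈ ((Finset.univ.image c)ᶜ).powerset) =
        ((Finset.univ.image c)ᶜ).powerset := by
      ext V; simp
    rw [h5, Finset.sum_powerset_neg_one_pow_card]
    congr 1
    apply propext
    rw [Finset.compl_eq_empty_iff]
    constructor
    · intro h
      apply Function.Surjective.bijective_of_finite
      intro j
      have : j ∈ Finset.univ.image c := by rw [h]; exact Finset.mem_univ _
      obtain ⟨i, -, hi⟩ := Finset.mem_image.1 this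
      exact ⟨i, hi⟩
    · intro h
      exact Finset.image_univ_of_surjective h.2
  rw [h3]
  split_ifs <;> simp


/-- Every tensor is a finite sum of pure tensors. -/
theorem exists_fin_sum_tmul {S : Type u} [CommSemiring S] [Algebra A S] (z : S ⊗[A] M) :
    ∃ (n : ℕ) (s : Fin n → S) (b : Fin n → M), z = ∑ j, s j ⊗ₜ[A] b j := by
  induction z using TensorProduct.induction_on with
  | zero => exact ⟨0, Fin.elim0, Fin.elim0, by simp⟩
  | tmul s b => exact ⟨1, fun _ => s, fun _ => b, by simp⟩
  | add x y hx hy =>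
    obtain ⟨n, s, b, rfl⟩ := hx
    obtain ⟨n', s', b', rfl⟩ := hy
    exact ⟨n + n', Fin.append s s', Fin.append b b', by rw [Fin.sum_univ_add]; simp⟩

end General

section Sym

variable (A : Type u) [CommRing A] (R : Type u) [CommRing R] [Algebra A R] (n : ℕ)

/-- The symmetrization operator `t ↦ ∑ σ, σ t` on the tensor power. -/
noncomputable def Sym : (⨂[A] _ : Fin n, R) →ₗ[A] (⨂[A] _ : Fin n, R) :=
  ∑ σ : Equiv.Perm (Fin n), (SymTen.perm A R n σ).toLinearMap

theorem Sym_apply (t : ⨂[A] _ : Fin n, R) : Sym A R n t = ∑ σ : Equiv.Perm (Fin n), SymTen.perm A R n σ t := by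
  simp [Sym]

theorem Sym_tprod (b : Fin n → R) :
    Sym A R n (PiTensorProduct.tprod A b) =
      ∑ σ : Equiv.Perm (Fin n), PiTensorProduct.tprod A (fun i => b (σ i)) := by
  rw [Sym_apply]
  simp only [SymTen.perm_tprod]
  exact Equiv.sum_comp (Equiv.inv (Equiv.Perm (Fin n)))
    (fun σ : Equiv.Perm (Fin n) => PiTensorProduct.tprod A (fun i => b (σ i)))

theorem Sym_of_mem {t : ⨂[A] _ : Fin n, R} (ht : t ∈ SymTen.TS A R n) :
    Sym A R n t = n.factorial • t := by
  rw [Sym_apply]
  have h2 : ∀ σ : Equiv.Perm (Fin n), SymTen.perm A R n σ t = t := by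
    intro σ
    rw [SymTen.perm_apply]
    exact ht σ
  simp only [h2, Finset.sum_const, Finset.card_univ, Fintype.card_perm, Fintype.card_fin]

theorem mu_tpowLaw (b : Fin n → R) :
    mu (SymTen.tpowLaw A R n).law b =
      ∑ σ : Equiv.Perm (Fin n), PiTensorProduct.tprod A (fun i => b (σ i)) :=
  mu_eq_sum_perm (SymTen.tpowLaw A R n).law (fun b' => PiTensorProduct.tprod A b') b
    (Groth.Agent.Lib.NormAlt23.tpowLaw_sum n (MvPolynomial (Fin n) A) X b)

/-- Symmetrizations lie in the span of the coefficients of the tensor-power law. -/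
theorem Sym_mem_span_coeffSet (t : ⨂[A] _ : Fin n, R) :
    Sym A R n t ∈ Submodule.span A (coeffSet (SymTen.tpowLaw A R n)) := by
  induction t using PiTensorProduct.induction_on with
  | smul_tprod r b =>
    rw [map_smul]
    refine Submodule.smul_mem _ _ (Submodule.subset_span ?_)
    rw [Sym_tprod, ← mu_tpowLaw, mu, cfs_apply]
    exact ⟨n, _, _, rfl⟩
  | add x y hx hy =>
    rw [map_add]
    exact add_mem hx hy

/-- Symmetrizations lie in the span of the pure powers `r ⊗ ⋯ ⊗ r`. -/
theorem Sym_mem_span_tpow (t : ⨂[A] _ : Fin n, R) :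
    ∃ w ∈ Submodule.span A (Set.range (SymTen.tpow A R n)), (SymTen.TS A R n).val w = Sym A R n t := by
  induction t using PiTensorProduct.induction_on with
  | smul_tprod r b =>
    refine ⟨r • ∑ U : Finset (Fin n), ((-1 : ℤ) ^ (Uᶜ).card) • SymTen.tpow A R n (∑ i ∈ U, b i), ?_, ?_⟩
    · refine Submodule.smul_mem _ _ (Submodule.sum_mem _ fun U _ => ?_)
      exact Submodule.smul_of_tower_mem _ _ (Submodule.subset_span ⟨_, rfl⟩)
    · rw [map_smul, map_smul, Sym_tprod, polarization (PiTensorProduct.tprod A) b, map_sum]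
      congr 1
  | add x y hx hy =>
    obtain ⟨w, hw, hw'⟩ := hx
    obtain ⟨w', hw2, hw2'⟩ := hy
    exact ⟨w + w', add_mem hw hw2, by rw [map_add, map_add, hw', hw2']⟩

end Sym

end Groth.Agent.Lib.SymPolar23
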