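import Groth.Agent.S13873
import Groth.Agent.Lib.NormicBC23
import Groth.Agent.Lib.GammaUniq75
import Groth.Agent.Lib.SymPolar23

/-!
# Lifting field-valued points from `Γ^d_A(B)` to `TS^d_A(B)` (helper34)
-/

set_option autoImplicit false
universe u
open scoped TensorProduct

namespace Groth.Agent.Lib.GammaTSLift34

open Groth.Agent.Lib.NormicBC23 Groth.Agent.Lib.PolLawGen23

section BetMul

variable {R : Type u} [CommRing R] {Q : Type u} [CommRing Q] [Algebra R Q]
  {X : Type u} [CommRing X] [Algebra R X]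
  {Y : Type u} [CommRing Y] [Algebra R Y] [Algebra Q Y] [IsScalarTower R Q Y]

theorem bet_one (g : X →ₐ[R] Y) (P : Type u) [CommSemiring P] [Algebra R P] [Algebra Q P]
    [IsScalarTower R Q P] : bet Q g.toLinearMap P (1 : P ⊗[R] X) = 1 := by
  rw [Algebra.TensorProduct.one_def, bet_tmul]
  simp [Algebra.TensorProduct.one_def]

theorem bet_mul (g : X →ₐ[R] Y) (P : Type u) [CommSemiring P] [Algebra R P] [Algebra Q P]
    [IsScalarTower R Q P] (z z' : P ⊗[R] X) :
    bet Q g.toLinearMap P (z * z') = bet Q g.toLinearMap P z * bet Q g.toLinearMap P z' := by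
  induction z using TensorProduct.induction_on with
  | zero => simp
  | tmul p x =>
    induction z' using TensorProduct.induction_on with
    | zero => simp
    | tmul p' x' =>
      rw [Algebra.TensorProduct.tmul_mul_tmul, bet_tmul, bet_tmul, bet_tmul,
        Algebra.TensorProduct.tmul_mul_tmul]
      simp
    | add a b ha hb => rw [mul_add, map_add, ha, hb, map_add, mul_add]
  | add a b ha hb => rw [add_mul, map_add, ha, hb, map_add, add_mul]

end BetMul

section BCMul

variable (A : Type u) [CommRing A] (B : Type u) [CommRing B] [Algebra A B]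
  (K : Type u) [CommRing K] [Algebra A K]

/-- `b ↦ 1 ⊗ b`. -/
noncomputable abbrev gB : B →ₐ[A] K ⊗[A] B := Algebra.TensorProduct.includeRight

theorem hgB : IsBaseChange K (gB A B K).toLinearMap := TensorProduct.isBaseChange A B K

variable {A B K} {d : ℕ}

/-- Base change of a multiplicative law `B → K` over `A` to a multiplicative law `K ⊗ B → K` over `K`. -/
noncomputable def bcMul (F : PolLaw.MulLaw A B K d) : PolLaw.MulLaw K (K ⊗[A] B) K d where
  law := bc (hgB A B K) F.law
  homog S _ _ s x := by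
    letI : Algebra A S := Algebra.compHom S (algebraMap A K)
    haveI : IsScalarTower A K S := IsScalarTower.of_algebraMap_eq (fun _ => rfl)
    rw [bc_toFun', bc_toFun', map_smul, F.homog S, map_smul]
  mult S _ _ := by
    letI : Algebra A S := Algebra.compHom S (algebraMap A K)
    haveI : IsScalarTower A K S := IsScalarTower.of_algebraMap_eq (fun _ => rfl)
    have hid : (LinearMap.id : K →ₗ[A] K) = (AlgHom.id A K).toLinearMap := rfl
    refine ⟨?_, fun x y => ?_⟩
    · rw [bc_toFun']
      have h1 : (betEquiv (hgB A B K) S).symm 1 = 1 := by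
        rw [LinearEquiv.symm_apply_eq, betEquiv_apply, bet_one]
      rw [h1, (F.mult S).1, hid, bet_one]
    · rw [bc_toFun', bc_toFun', bc_toFun']
      have h1 : (betEquiv (hgB A B K) S).symm (x * y) =
          (betEquiv (hgB A B K) S).symm x * (betEquiv (hgB A B K) S).symm y := by
        rw [LinearEquiv.symm_apply_eq, betEquiv_apply, bet_mul, ← betEquiv_apply (hgB A B K),
          ← betEquiv_apply (hgB A B K), LinearEquiv.apply_symm_apply, LinearEquiv.apply_symm_apply]
      rw [h1, (F.mult S).2, hid, bet_mul]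

theorem res_bcMul (F : PolLaw.MulLaw A B K d) :
    res K (gB A B K).toLinearMap (bcMul F).law = F.law :=
  res_bc (hgB A B K) F.law

end BCMul

section Iota

variable (A : Type u) [CommRing A] (B : Type u) [CommRing B] [Algebra A B]
  (K : Type u) [CommRing K] [Algebra A K] (d : ℕ)

/-- `b₁ ⊗ ⋯ ⊗ b_d ↦ (1 ⊗ b₁) ⊗ ⋯ ⊗ (1 ⊗ b_d)`. -/
noncomputable def iotaT : (⨂[A] _ : Fin d, B) →ₐ[A] (⨂[K] _ : Fin d, K ⊗[A] B) :=
  PiTensorProduct.liftAlgHom
    (((PiTensorProduct.tprod K).restrictScalars A).compLinearMap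
      (fun _ => (Algebra.TensorProduct.includeRight : B →ₐ[A] K ⊗[A] B).toLinearMap))
    (by
      simp [PiTensorProduct.one_def]
      rfl)
    (by
      intro x y
      simp only [MultilinearMap.compLinearMap_apply,
        AlgHom.toLinearMap_apply, Pi.mul_apply, map_mul]
      exact (PiTensorProduct.tprod_mul_tprod (R := K) _ _).symm)

@[simp]
theorem iotaT_tprod (b : Fin d → B) :
    iotaT A B K d (PiTensorProduct.tprod A b) =
      PiTensorProduct.tprod K (fun i => (1 : K) ⊗ₜ[A] b i) := by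
  simp [iotaT]

theorem iotaT_reindex (σ : Equiv.Perm (Fin d)) (t : ⨂[A] _ : Fin d, B) :
    PiTensorProduct.reindex K (fun _ : Fin d => K ⊗[A] B) σ (iotaT A B K d t) =
      iotaT A B K d (PiTensorProduct.reindex A (fun _ : Fin d => B) σ t) := by
  have h : ((PiTensorProduct.reindex K (fun _ : Fin d => K ⊗[A] B) σ).toLinearMap.restrictScalars A) ∘ₗ
      (iotaT A B K d).toLinearMap =
      (iotaT A B K d).toLinearMap ∘ₗ
        (PiTensorProduct.reindex A (fun _ : Fin d => B) σ).toLinearMap := by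
    apply PiTensorProduct.ext
    ext b
    simp [PiTensorProduct.reindex_tprod]
  exact congrArg (fun f => f t) h

/-- The induced map on symmetric tensors. -/
noncomputable def iotaTS : SymTen.TS A B d →ₐ[A] SymTen.TS K (K ⊗[A] B) d where
  toFun t := ⟨iotaT A B K d t.1, fun σ => by rw [iotaT_reindex, t.2 σ]⟩
  map_one' := Subtype.ext (map_one (iotaT A B K d))
  map_mul' x y := Subtype.ext (map_mul (iotaT A B K d) x.1 y.1)
  map_zero' := Subtype.ext (map_zero (iotaT A B K d))
  map_add' x y := Subtype.ext (map_add (iotaT A B K d) x.1 y.1)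
  commutes' a := Subtype.ext ((iotaT A B K d).commutes a)

theorem val_iotaTS (t : SymTen.TS A B d) :
    ((iotaTS A B K d t : SymTen.TS K (K ⊗[A] B) d) : ⨂[K] _ : Fin d, K ⊗[A] B) =
      iotaT A B K d t.1 := rfl

end Iota

section Main

variable {A : Type u} [CommRing A] {B : Type u} [CommRing B] [Algebra A B]
  {C : Type u} [CommRing C] [Algebra A C] {d : ℕ}
  (γ : PolLaw.MulLaw A B C d) (φ : C →ₐ[A] SymTen.TS A B d)
  (hφ : ∀ (S : Type u) [CommSemiring S] [Algebra A S] (n : ℕ) (s : Fin n → S) (b : Fin n → B),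
      ((SymTen.TS A B d).val.comp φ).toLinearMap.lTensor S (γ.law.toFun' S (∑ j, s j ⊗ₜ[A] b j)) =
        ∑ c : Fin d → Fin n, (∏ i, s (c i)) ⊗ₜ[A] PiTensorProduct.tprod A (fun i => b (c i)))
  (K : Type u) [Field K] [Algebra A K]
  (τ : PolLaw.MulLaw K (K ⊗[A] B) (SymTen.TS K (K ⊗[A] B) d) d)
  (hτ : ∀ (S : Type u) [CommSemiring S] [Algebra K S] (n : ℕ) (s : Fin n → S) (b : Fin n → K ⊗[A] B),
        (SymTen.TS K (K ⊗[A] B) d).val.toLinearMap.lTensor S (τ.law.toFun' S (∑ j, s j ⊗ₜ[K] b j)) =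
          ∑ c : Fin d → Fin n, (∏ i, s (c i)) ⊗ₜ[K] PiTensorProduct.tprod K (fun i => b (c i)))

/-- `val : TS_K → T^d_K` as a `K`-linear map. -/
noncomputable abbrev valK (A B K : Type u) [CommRing A] [CommRing B] [Algebra A B] [Field K] [Algebra A K]
    (d : ℕ) : SymTen.TS K (K ⊗[A] B) d →ₗ[K] (⨂[K] _ : Fin d, K ⊗[A] B) :=
  (SymTen.TS K (K ⊗[A] B) d).val.toLinearMap

theorem prod_one_tmul {P : Type u} [CommSemiring P] [Algebra A P] {ι : Type*} (t : Finset ι) (f : ι → P) :
    ∏ i ∈ t, ((1 : K) ⊗ₜ[A] f i) = (1 : K) ⊗ₜ[A] ∏ i ∈ t, f i := by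
  classical
  induction t using Finset.induction_on with
  | empty => simp [Algebra.TensorProduct.one_def]
  | insert a t ha ih =>
    rw [Finset.prod_insert ha, Finset.prod_insert ha, ih, Algebra.TensorProduct.tmul_mul_tmul, one_mul]

include hφ hτ in
theorem val_res_eq :
    PolLaw.postcomp ((valK A B K d).restrictScalars A) (res K (gB A B K).toLinearMap τ.law) =
    PolLaw.postcomp ((valK A B K d).restrictScalars A)
      (PolLaw.postcomp ((iotaTS A B K d).comp φ).toLinearMap γ.law) := by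
  ext P _ _ z
  obtain ⟨n, s, b, rfl⟩ := Groth.Agent.Lib.SymPolar23.exists_fin_sum_tmul (A := A) z
  rw [← res_postcomp, res_toFun', postcomp_toFun']
  have h1 : iot K (gB A B K).toLinearMap P (∑ j, s j ⊗ₜ[A] b j) =
      ∑ j, ((1 : K) ⊗ₜ[A] s j) ⊗ₜ[K] ((1 : K) ⊗ₜ[A] b j) := by
    rw [map_sum]
    simp
  rw [h1, hτ (K ⊗[A] P) n _ _, map_sum]
  rw [postcomp_toFun', postcomp_toFun', ← LinearMap.lTensor_comp_apply]
  have h2 : ((valK A B K d).restrictScalars A) ∘ₗ ((iotaTS A B K d).comp φ).toLinearMap =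
      (iotaT A B K d).toLinearMap ∘ₗ ((SymTen.TS A B d).val.comp φ).toLinearMap :=
    LinearMap.ext fun x => rfl
  rw [h2, LinearMap.lTensor_comp_apply, hφ P n s b, map_sum]
  refine Finset.sum_congr rfl fun c _ => ?_
  rw [prod_one_tmul, kap_tmul, one_smul, LinearMap.lTensor_tmul, AlgHom.toLinearMap_apply,
    iotaT_tprod]

include hφ hτ in
theorem res_tau_eq :
    res K (gB A B K).toLinearMap τ.law =
      PolLaw.postcomp ((iotaTS A B K d).comp φ).toLinearMap γ.law := by
  obtain ⟨r, hr⟩ := LinearMap.exists_leftInverse_of_injective (valK A B K d)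
    (by rw [LinearMap.ker_eq_bot]; exact Subtype.val_injective)
  have key := congrArg (PolLaw.postcomp (r.restrictScalars A)) (val_res_eq γ φ hφ K τ hτ)
  rw [← Groth.Agent.Lib.NormicBC23.postcomp_comp, ← Groth.Agent.Lib.NormicBC23.postcomp_comp] at key
  have h : (r.restrictScalars A) ∘ₗ ((valK A B K d).restrictScalars A) = LinearMap.id :=
    LinearMap.ext fun x => congrArg (fun f => f x) hr
  rwa [h, Groth.Agent.Lib.GammaUniq75.postcomp_id, Groth.Agent.Lib.GammaUniq75.postcomp_id] at key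

end Main

section Lift

variable {A : Type u} [CommRing A] {B : Type u} [CommRing B] [Algebra A B]
  {C : Type u} [CommRing C] [Algebra A C] {d : ℕ}
  (γ : PolLaw.MulLaw A B C d) (hγ : PolLaw.IsGammaD γ) (φ : C →ₐ[A] SymTen.TS A B d)
  (hφ : ∀ (S : Type u) [CommSemiring S] [Algebra A S] (n : ℕ) (s : Fin n → S) (b : Fin n → B),
      ((SymTen.TS A B d).val.comp φ).toLinearMap.lTensor S (γ.law.toFun' S (∑ j, s j ⊗ₜ[A] b j)) =
        ∑ c : Fin d → Fin n, (∏ i, s (c i)) ⊗ₜ[A] PiTensorProduct.tprod A (fun i => b (c i)))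

include hγ hφ in
/-- Every field-valued point of `Γ^d_A(B)` lifts to `TS^d_A(B)`. -/
theorem exists_lift (K : Type u) [Field K] (c : C →+* K) :
    ∃ χ : SymTen.TS A B d →+* K, χ.comp φ.toRingHom = c := by
  letI : Algebra A K := (c.comp (algebraMap A C)).toAlgebra
  let cA : C →ₐ[A] K := { c with commutes' := fun a => rfl }
  obtain ⟨τ, hτ, hτG⟩ := Groth.Agent.S13873.result (A := K) (B := K ⊗[A] B) d (Or.inl inferInstance)
  let F : PolLaw.MulLaw A B K d := PolLaw.MulLaw.postcomp cA γ
  obtain ⟨f, hf, -⟩ := hτG K (bcMul F)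
  have hf' : PolLaw.postcomp f.toLinearMap τ.law = (bcMul F).law := hf
  have h1 : F.law = PolLaw.postcomp (f.toLinearMap.restrictScalars A)
      (res K (gB A B K).toLinearMap τ.law) := by
    rw [← res_postcomp, hf', res_bcMul]
  rw [res_tau_eq γ φ hφ K τ hτ, ← Groth.Agent.Lib.NormicBC23.postcomp_comp] at h1
  let f' : C →ₐ[A] K := ((f.restrictScalars A).comp (iotaTS A B K d)).comp φ
  have h2 : PolLaw.postcomp f'.toLinearMap γ.law = F.law := h1.symm
  have h3 : PolLaw.postcomp cA.toLinearMap γ.law = F.law := rfl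
  obtain ⟨f0, -, huniq⟩ := hγ K F
  have h4 : f' = cA := (huniq f' h2).trans (huniq cA h3).symm
  refine ⟨((f.restrictScalars A).comp (iotaTS A B K d)).toRingHom, ?_⟩
  ext x
  exact congrArg (fun g : C →ₐ[A] K => g x) h4

end Lift

end Groth.Agent.Lib.GammaTSLift34
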