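import Groth.Agent.Lib.SpecResidueH52

/-!
# Ring maps with `y ^ n ∈ range` and liftable field points are universal homeomorphisms with trivial residue fields (helper34)
-/


set_option autoImplicit false
universe u
open Polynomial CategoryTheory AlgebraicGeometry

namespace Groth.Agent.Lib.GammaTSUH34

section Assemble

variable {C T : Type u} [CommRing C] [CommRing T] (φ : C →+* T) {n : ℕ}

theorem isIntegral_of_pow (hn : 0 < n) (hpow : ∀ y : T, y ^ n ∈ φ.range) : φ.IsIntegral := by
  intro y
  obtain ⟨c, hc⟩ := hpow y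
  refine ⟨X ^ n - Polynomial.C c, Polynomial.monic_X_pow_sub_C c hn.ne', ?_⟩
  simp [Polynomial.eval₂_sub, hc]

theorem comap_injective_of_pow (hn : 0 < n) (hpow : ∀ y : T, y ^ n ∈ φ.range) :
    Function.Injective (PrimeSpectrum.comap φ) := by
  have key : ∀ Q Q' : PrimeSpectrum T, PrimeSpectrum.comap φ Q = PrimeSpectrum.comap φ Q' →
      Q.asIdeal ≤ Q'.asIdeal := by
    intro Q Q' h y hy
    obtain ⟨c, hc⟩ := hpow y
    have h1 : c ∈ (PrimeSpectrum.comap φ Q).asIdeal := by
      show φ c ∈ Q.asIdeal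
      rw [hc]
      exact Ideal.pow_mem_of_mem _ hy n hn
    rw [h] at h1
    have h2 : φ c ∈ Q'.asIdeal := h1
    rw [hc] at h2
    exact Q'.isPrime.mem_of_pow_mem n h2
  intro Q Q' h
  exact PrimeSpectrum.ext (le_antisymm (key Q Q' h) (key Q' Q h.symm))

variable (hlift : ∀ (K : Type u) [Field K] (c : C →+* K), ∃ χ : T →+* K, χ.comp φ = c)

include hlift in
theorem comap_surjective_of_lift : Function.Surjective (PrimeSpectrum.comap φ) := by
  intro p
  obtain ⟨χ, hχ⟩ := hlift p.asIdeal.ResidueField (algebraMap C p.asIdeal.ResidueField)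
  refine ⟨⟨RingHom.ker χ, RingHom.ker_isPrime χ⟩, PrimeSpectrum.ext ?_⟩
  ext c
  show φ c ∈ RingHom.ker χ ↔ c ∈ p.asIdeal
  rw [RingHom.mem_ker, ← RingHom.comp_apply, hχ, Ideal.algebraMap_residueField_eq_zero]

include hlift in
theorem residue_bijective (hn : 0 < n) (hpow : ∀ y : T, y ^ n ∈ φ.range) (Q : PrimeSpectrum T) :
    Function.Bijective
      (Ideal.ResidueField.map (PrimeSpectrum.comap φ Q).asIdeal Q.asIdeal φ rfl) := by
  set p := PrimeSpectrum.comap φ Q with hp
  set m := Ideal.ResidueField.map p.asIdeal Q.asIdeal φ rfl with hm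
  refine ⟨m.injective, ?_⟩
  obtain ⟨χ, hχ⟩ := hlift p.asIdeal.ResidueField (algebraMap C p.asIdeal.ResidueField)
  -- the kernel of χ is Q
  have hker : RingHom.ker χ = Q.asIdeal := by
    have h1 : PrimeSpectrum.comap φ ⟨RingHom.ker χ, RingHom.ker_isPrime χ⟩ = p := by
      apply PrimeSpectrum.ext
      ext c
      show φ c ∈ RingHom.ker χ ↔ c ∈ p.asIdeal
      rw [RingHom.mem_ker, ← RingHom.comp_apply, hχ, Ideal.algebraMap_residueField_eq_zero]
    exact congrArg PrimeSpectrum.asIdeal (comap_injective_of_pow φ hn hpow h1)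
  let ℓ : Q.asIdeal.ResidueField →+* p.asIdeal.ResidueField :=
    Ideal.ResidueField.lift Q.asIdeal χ (by rw [hker]) (by
      intro y hy
      show IsUnit (χ y)
      rw [isUnit_iff_ne_zero]
      intro h0
      exact hy (by rw [← hker]; exact h0))
  have hℓm : ℓ.comp m = RingHom.id _ := by
    apply Ideal.ResidueField.ringHom_ext
    ext c
    simp only [RingHom.comp_apply, RingHom.id_apply]
    rw [hm, Ideal.ResidueField.map_algebraMap]
    show Ideal.ResidueField.lift Q.asIdeal χ _ _ (algebraMap T _ (φ c)) = _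
    rw [Ideal.ResidueField.lift_algebraMap]
    exact congrArg (fun g : C →+* p.asIdeal.ResidueField => g c) hχ
  intro z
  refine ⟨ℓ z, ℓ.injective ?_⟩
  exact congrArg (fun g : p.asIdeal.ResidueField →+* p.asIdeal.ResidueField => g (ℓ z)) hℓm

include hlift in
theorem isUnivHomeo_and_residue (hn : 0 < n) (hpow : ∀ y : T, y ^ n ∈ φ.range) :
    FlatMor.IsUnivHomeo (Spec.map (CommRingCat.ofHom φ)) ∧
      ∀ x : ↥(Spec (CommRingCat.of T)),
        Function.Surjective ((Spec.map (CommRingCat.ofHom φ)).residueFieldMap x).hom := by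
  refine ⟨Groth.Agent.Lib.SpecResidueH52.isUnivHomeo_of φ (isIntegral_of_pow φ hn hpow)
    ⟨comap_injective_of_pow φ hn hpow, comap_surjective_of_lift φ hlift⟩
    (residue_bijective φ hlift hn hpow), fun x => ?_⟩
  have h1 : IsIso ((Spec.map (CommRingCat.ofHom φ)).residueFieldMap x) :=
    (Groth.Agent.Lib.SpecResidueH52.isIso_residueFieldMap_iff (CommRingCat.ofHom φ) x).mpr
      (residue_bijective φ hlift hn hpow x)
  exact ((ConcreteCategory.isIso_iff_bijective _).mp h1).2

end Assemble

end Groth.Agent.Lib.GammaTSUH34
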