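import Groth.Agent.Lib.SectDerived

/-!
# Derived functors of `F ↦ Γ_Z(F)(V)` are `Ext^•(ℤ_V/ℤ_{V ∩ U}, -)`

For opens `U`, `V` of a space `X` (`Z = X ∖ U`): the right derived functors of
`sectSuppF U ⋙ Γ(V, -)` are the functors `Ext^q(ℤ_V/ℤ_{V ⊓ U}, -)`, i.e. `H^q_{Z ∩ V}(V, -)`
(`LocCohZ.HZ`).
-/

set_option autoImplicit false

universe u

open CategoryTheory CategoryTheory.Limits TopologicalSpace Opposite DeltaF Abelian

namespace Groth.Agent.Lib.HZPairDerived

variable {X : TopCat.{u}}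

open Groth.Agent.S19245 (η FG FG_le unit_zero_iff injective_of_mono res_res)
open Groth.Agent.S6023 (ιZ map_ιZ_apply ιZ_restrict_eq_zero exists_of_restrict_eq_zero)
open Groth.Agent.Lib.SectDerived (sect)
open Groth.Agent.Lib.ExtDelta (hF hF_map_apply)

local notation "JX" => Opens.grothendieckTopology X

lemma inf_le_FG (U V : Opens X) : V ⊓ U ≤ FG U V := by
  rintro x ⟨hxV, hxU⟩
  exact ⟨⟨x, hxU⟩, hxV, rfl⟩

lemma FG_le_inf (U V : Opens X) : FG U V ≤ V ⊓ U := by
  rintro x ⟨y, hy, rfl⟩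
  exact ⟨hy, y.2⟩

/-- the functor `F ↦ Γ_Z(F)(V)` -/
noncomputable abbrev gammaZV (U V : Opens X) : CohTop.Ab X ⥤ AddCommGrpCat.{u} :=
  LocCohZ.sectSuppF U ⋙ sect JX V

/-! ### the `Γ_Z` side -/

/-- inclusion of sections with support over `V` into sections over `V` -/
noncomputable def bHom (U V : Opens X) (F : CohTop.Ab X) :
    ((gammaZV U V).obj F : AddCommGrpCat.{u}) →+ ((sect JX V).obj F : AddCommGrpCat.{u}) :=
  ((ιZ U F).hom.app (op V)).hom

lemma bHom_injective (U V : Opens X) (F : CohTop.Ab X) : Function.Injective (bHom U V F) :=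
  injective_of_mono (ιZ U F) V

lemma bHom_range (U V : Opens X) (F : CohTop.Ab X) :
    (bHom U V F).range = LocCohZ.sectZ F (inf_le_left : V ⊓ U ≤ V) := by
  ext s
  constructor
  · rintro ⟨t, rfl⟩
    rw [AddMonoidHom.mem_ker]
    have h := ιZ_restrict_eq_zero U F V t
    have h2 := congrArg (fun z => F.obj.map (homOfLE (inf_le_FG U V)).op z) h
    simp only [map_zero] at h2
    rw [res_res] at h2
    exact h2
  · intro hs
    rw [AddMonoidHom.mem_ker] at hs
    have h2 : F.obj.map (homOfLE (FG_le U V)).op s = 0 := by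
      have h3 := congrArg (fun z => F.obj.map (homOfLE (FG_le_inf U V)).op z) hs
      simp only [map_zero] at h3
      change F.obj.map (homOfLE (FG_le_inf U V)).op
        (F.obj.map (homOfLE (inf_le_left : V ⊓ U ≤ V)).op s) = 0 at h3
      rw [res_res] at h3
      exact h3
    obtain ⟨t, ht⟩ := exists_of_restrict_eq_zero U F V s h2
    exact ⟨t, ht⟩

lemma bHom_natural (U V : Opens X) {F G : CohTop.Ab X} (φ : F ⟶ G)
    (t : ((gammaZV U V).obj F : AddCommGrpCat.{u})) :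
    bHom U V G ((gammaZV U V).map φ t) = (sect JX V).map φ (bHom U V F t) :=
  map_ιZ_apply U φ V t

/-! ### the `Ext` side -/

/-- evaluation of a class in `Ext^0(ℤ_V/ℤ_W, F)` on the canonical section -/
noncomputable def aHom {W V : Opens X} (h : W ≤ V) (F : CohTop.Ab X) :
    ((hF (LocCohZ.zq h) 0).obj F : AddCommGrpCat.{u}) →+ ((sect JX V).obj F : AddCommGrpCat.{u}) :=
  (LocCohZ.sectZ F h).subtype.comp (LocCohZ.sect0Equiv F h).toAddMonoidHom

lemma aHom_mk₀ {W V : Opens X} (h : W ≤ V) (F : CohTop.Ab X) (g : LocCohZ.zq h ⟶ F) :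
    aHom h F (Ext.mk₀ g) = CohFree.evalGen JX V F (cokernel.π _ ≫ g) := by
  change CohFree.evalGen JX V F (cokernel.π _ ≫ Ext.addEquiv₀ (Ext.mk₀ g)) = _
  rw [← Ext.addEquiv₀_symm_apply, AddEquiv.apply_symm_apply]

lemma aHom_injective {W V : Opens X} (h : W ≤ V) (F : CohTop.Ab X) :
    Function.Injective (aHom h F) :=
  (Subtype.val_injective).comp (LocCohZ.sect0Equiv F h).injective

lemma aHom_range {W V : Opens X} (h : W ≤ V) (F : CohTop.Ab X) :
    (aHom h F).range = LocCohZ.sectZ F h := by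
  ext s
  constructor
  · rintro ⟨x, rfl⟩
    exact (LocCohZ.sect0Equiv F h x).2
  · intro hs
    exact ⟨(LocCohZ.sect0Equiv F h).symm ⟨s, hs⟩, by
      change ((LocCohZ.sect0Equiv F h) ((LocCohZ.sect0Equiv F h).symm ⟨s, hs⟩)).1 = s
      rw [AddEquiv.apply_symm_apply]⟩

lemma aHom_natural {W V : Opens X} (h : W ≤ V) {F G : CohTop.Ab X} (φ : F ⟶ G)
    (x : ((hF (LocCohZ.zq h) 0).obj F : AddCommGrpCat.{u})) :
    aHom h G ((hF (LocCohZ.zq h) 0).map φ x) = (sect JX V).map φ (aHom h F x) := by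
  obtain ⟨g, rfl⟩ : ∃ g : LocCohZ.zq h ⟶ F, Ext.mk₀ g = x := ⟨_, Ext.mk₀_addEquiv₀_apply x⟩
  have e1 : (hF (LocCohZ.zq h) 0).map φ (Ext.mk₀ g) = Ext.mk₀ (g ≫ φ) := by
    refine (hF_map_apply (LocCohZ.zq h) 0 φ (Ext.mk₀ g)).trans ?_
    rw [Ext.mk₀_comp_mk₀]
  rw [e1, aHom_mk₀, aHom_mk₀, ← Category.assoc]
  rfl

/-- degree zero -/
theorem nonempty_iso_zero (U V : Opens X) :
    Nonempty (gammaZV U V ≅ hF (LocCohZ.zq (inf_le_left : V ⊓ U ≤ V)) 0) :=
  Groth.Agent.Lib.RHZExt.nonempty_iso_of_range_eq (gammaZV U V)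
    (hF (LocCohZ.zq (inf_le_left : V ⊓ U ≤ V)) 0) (sect JX V)
    (bHom U V) (aHom inf_le_left) (bHom_injective U V) (aHom_injective inf_le_left)
    (fun F => (bHom_range U V F).trans (aHom_range inf_le_left F).symm)
    (fun φ x => bHom_natural U V φ x) (fun φ x => aHom_natural inf_le_left φ x)

instance preservesFiniteLimits_gammaZV (U V : Opens X) :
    PreservesFiniteLimits (gammaZV U V) := by
  have := Groth.Agent.S6023.preservesFiniteLimits_sectSuppF U
  infer_instance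

/-- **The derived functors of `Γ_Z(-)(V)` are `Ext^•(ℤ_V/ℤ_{V ⊓ U}, -)`.** -/
theorem nonempty_rightDerived_iso (U V : Opens X) (q : ℕ) :
    Nonempty ((gammaZV U V).rightDerived q ≅ hF (LocCohZ.zq (inf_le_left : V ⊓ U ≤ V)) q) := by
  have h1 := Groth.Agent.Lib.CechDelta.derived_isUniversal (gammaZV U V)
  have h2 := DeltaUniv.isUniversal_of_isEffaceable _
    (Groth.Agent.Lib.RHZExt.extDelta_isEffaceable.{u} (LocCohZ.zq (inf_le_left : V ⊓ U ≤ V)))
  obtain ⟨e0⟩ := nonempty_iso_zero U V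
  exact DeltaIso.nonempty_natIso_of_isUniversal _ _ h1 h2
    ((Functor.rightDerivedZeroIsoSelf (gammaZV U V)) ≪≫ e0) q

/-- objectwise form -/
theorem nonempty_rightDerived_obj_iso (U V : Opens X) (F : CohTop.Ab X) (q : ℕ) :
    Nonempty (((gammaZV U V).rightDerived q).obj F ≅
      AddCommGrpCat.of (LocCohZ.HZ F q (inf_le_left : V ⊓ U ≤ V))) := by
  obtain ⟨e⟩ := nonempty_rightDerived_iso U V q
  exact ⟨e.app F⟩

end Groth.Agent.Lib.HZPairDerived
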