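import Groth.Agent.Lib.SuppLCMod92
import Groth.Agent.S6022

/-!
# Local cohomology sheaves with closed supports: `O_Y`-modules versus abelian sheaves

For an open `W` of a scheme `Y` (`Z = Y ∖ W`):
`toAb (R^n Γ_Z M) ≅ ℋ^n_Z (toAb M)` where the left side is computed in `Y.Modules`
(`DCoh.gammaZ W.ι`) and the right side in abelian sheaves (`LocCohZ.HZsh W n`).
-/

set_option autoImplicit false
universe u
open CategoryTheory CategoryTheory.Limits Opposite AlgebraicGeometry TopologicalSpace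

namespace Groth.Agent.Lib.GammaZDerivedAb92

open Groth.Agent.Lib.CohLES (toAbF)

/-- the local cohomology sheaves of a flasque sheaf vanish in positive degrees -/
theorem isZero_HZsh_of_isFlasque {X : TopCat.{u}} (U : Opens X)
    (F : CohTop.Ab X) [TopCat.Sheaf.IsFlasque F] (n : ℕ) :
    IsZero ((LocCohZ.HZsh U (n + 1)).obj F) :=
  Groth.Agent.S6022.backward F U (n + 1)
    (fun _ => Groth.Agent.S6023.part1 F _ _ _ (n + 1) (Nat.succ_pos n))

variable {Y : Scheme.{u}} (W : Y.Opens)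

section Delta

variable [HasInjectiveResolutions Y.Modules]

/-- the delta-functor `M ↦ toAb (R^n Γ_Z M)` -/
noncomputable abbrev T1 :
    DeltaF.CohDeltaFunctor Y.Modules (Sheaf (Opens.grothendieckTopology Y) AddCommGrpCat.{u}) ℕ :=
  Groth.Agent.Lib.DeltaPostcomp.postcomp
    (Groth.Agent.Lib.DerivedLES.derivedLES (DCoh.gammaZ W.ι)).toCohDeltaFunctor (toAbF Y)

/-- the delta-functor `M ↦ ℋ^n_Z (toAb M)` -/
noncomputable abbrev T2 :
    DeltaF.CohDeltaFunctor Y.Modules (Sheaf (Opens.grothendieckTopology Y) AddCommGrpCat.{u}) ℕ :=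
  have := Groth.Agent.S6023.preservesFiniteLimits_sectSuppF (X := Y.carrier) W
  Groth.Agent.Lib.ExtDelta.precomp (toAbF Y)
    (Groth.Agent.Lib.DerivedLES.derivedLES
      (LocCohZ.sectSuppF (X := Y.carrier) W)).toCohDeltaFunctor

theorem T1_eff : (T1 W).IsEffaceable := by
  intro n M
  let I := injectiveResolution M
  have hm : Mono (I.ι.f 0) := inferInstance
  refine ⟨I.cocomplex.X 0, I.ι.f 0, hm, ?_⟩
  change (toAbF Y).map (((DCoh.gammaZ W.ι).rightDerived (n + 1)).map (I.ι.f 0)) = 0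
  rw [(Functor.isZero_rightDerived_obj_injective_succ (DCoh.gammaZ W.ι) n (I.cocomplex.X 0)).eq_of_tgt
    (((DCoh.gammaZ W.ι).rightDerived (n + 1)).map (I.ι.f 0)) 0, Functor.map_zero]

theorem T2_eff : (T2 W).IsEffaceable := by
  intro n M
  let I := injectiveResolution M
  have hm : Mono (I.ι.f 0) := inferInstance
  refine ⟨I.cocomplex.X 0, I.ι.f 0, hm, ?_⟩
  have hfl : TopCat.Sheaf.IsFlasque (Coh.toAb (I.cocomplex.X 0)) :=
    Groth.Agent.Lib.ModInjFlasque92.isFlasque_of_injective (I.cocomplex.X 0)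
  have hz : IsZero ((LocCohZ.HZsh (X := Y.carrier) W (n + 1)).obj
      (Coh.toAb (I.cocomplex.X 0))) :=
    isZero_HZsh_of_isFlasque W _ n
  exact hz.eq_of_tgt _ _

/-- degree zero comparison -/
noncomputable def e0 : (T1 W).F 0 ≅ (T2 W).F 0 :=
  have := Groth.Agent.S6023.preservesFiniteLimits_sectSuppF (X := Y.carrier) W
  Functor.isoWhiskerRight (DCoh.gammaZ W.ι).rightDerivedZeroIsoSelf (toAbF Y) ≪≫
    Groth.Agent.Lib.GammaZModAb92.gammaZIso W ≪≫
    Functor.isoWhiskerLeft (toAbF Y)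
      (LocCohZ.sectSuppF (X := Y.carrier) W).rightDerivedZeroIsoSelf.symm

/-- **`toAb (R^n Γ_Z M) ≅ ℋ^n_Z (toAb M)`** -/
theorem nonempty_toAb_iso (M : Y.Modules) (n : ℕ) :
    Nonempty (Coh.toAb (((DCoh.gammaZ W.ι).rightDerived n).obj M) ≅
      (LocCohZ.HZsh (X := Y.carrier) W n).obj (Coh.toAb M)) := by
  obtain ⟨i⟩ := Groth.Agent.Lib.DeltaIso.nonempty_natIso_of_isUniversal (T1 W) (T2 W)
    (Groth.Agent.Lib.DeltaUniv.isUniversal_of_isEffaceable _ (T1_eff W))
    (Groth.Agent.Lib.DeltaUniv.isUniversal_of_isEffaceable _ (T2_eff W)) (e0 W) n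
  exact ⟨i.app M⟩

end Delta

end Groth.Agent.Lib.GammaZDerivedAb92
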