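import Groth.Agent.Lib.LocCohModShift92

/-!
# `Γ_Z` preserves injective `O_X`-modules

For an injective `O_X`-module `I` and an open immersion `j`, the unit `I ⟶ j_* j^* I` is a split
epimorphism, so its kernel `Γ_Z(I)` is a direct summand of `I`, hence injective.
-/

set_option autoImplicit false
universe u
open CategoryTheory CategoryTheory.Limits AlgebraicGeometry

namespace Groth.Agent.Lib.GammaZInj92

section Abstract

variable {𝒜 : Type*} [Category 𝒜] [Abelian 𝒜]

/-- the kernel of a split epimorphism is a retract of the source -/
noncomputable def retractKernel {A B : 𝒜} (f : A ⟶ B) (s : B ⟶ A) (hs : s ≫ f = 𝟙 B) :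
    Retract (kernel f) A where
  i := kernel.ι f
  r := kernel.lift f (𝟙 A - f ≫ s) (by
    rw [Preadditive.sub_comp, Category.id_comp, Category.assoc, hs, Category.comp_id, sub_self])
  retract := by
    apply (cancel_mono (kernel.ι f)).1
    rw [Category.assoc, kernel.lift_ι, Preadditive.comp_sub, Category.comp_id,
      kernel.condition_assoc, zero_comp, sub_zero, Category.id_comp]

end Abstract

variable {X : Scheme.{u}}

/-- `Γ_Z(I)` is injective for `I` injective (inclusion of an open subscheme) -/
theorem injective_gammaZ_ι (W : X.Opens) (I : X.Modules) [Injective I] :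
    Injective ((DCoh.gammaZ W.ι).obj I) := by
  obtain ⟨s, hs⟩ :=
    Groth.Agent.Lib.ModInjFlasque92.exists_section_unit_restrictAdjunction X W I
  have hI : Injective ((𝟭 X.Modules).obj I) := ‹Injective I›
  exact @Retract.injective _ _ _ _
    (retractKernel ((Scheme.Modules.restrictAdjunction W.ι).unit.app I) s hs) hI

/-- **`Γ_Z` preserves injective `O_X`-modules** (any open immersion) -/
theorem injective_gammaZ {U : Scheme.{u}} (j : U ⟶ X) [IsOpenImmersion j] (I : X.Modules)
    [Injective I] : Injective ((DCoh.gammaZ j).obj I) := by
  let W := j.opensRange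
  have hrange : j.opensRange = W.ι.opensRange := (Scheme.Opens.opensRange_ι W).symm
  let e0 := Groth.Agent.Lib.LocCohModShift92.gammaZIso j W.ι hrange
  have := injective_gammaZ_ι W I
  exact Injective.of_iso (e0.app I).symm this

end Groth.Agent.Lib.GammaZInj92
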