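import Groth.Prelude.Def_CohTop
import Mathlib.Topology.Sheaves.Flasque
import Mathlib.CategoryTheory.Sites.Limits
import Mathlib.CategoryTheory.Sites.Abelian
import Mathlib.CategoryTheory.Limits.HasLimits
import Mathlib.Algebra.Category.Grp.Limits
import Mathlib.Algebra.Category.Grp.AB
import Mathlib.Topology.Sheaves.Limits
import Mathlib.CategoryTheory.Limits.Types.Limits
import Mathlib.CategoryTheory.Sites.LocallySurjective

/-!
Sections of the limit of an `ℕᵒᵖ`-indexed tower of abelian sheaves on a space, and
sectionwise consequences of flasqueness.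
-/

set_option autoImplicit false
universe u

namespace Groth.Agent.Lib.TowerLimSections

open CategoryTheory CategoryTheory.Limits TopologicalSpace Opposite

variable {X : TopCat.{u}}

/-- sections over `U`, as a functor to types -/
noncomputable abbrev secF (U : Opens X) : CohTop.Ab X ⥤ Type u :=
  (sheafSections (Opens.grothendieckTopology X) AddCommGrpCat.{u}).obj (op U) ⋙
    forget AddCommGrpCat.{u}

noncomputable instance (U : Opens X) : PreservesLimitsOfShape ℕᵒᵖ (secF (X := X) U) := by
  unfold secF
  have : PreservesLimitsOfShape ℕᵒᵖ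
      ((sheafSections (Opens.grothendieckTopology X) AddCommGrpCat.{u}).obj (op U)) := by
    change PreservesLimitsOfShape ℕᵒᵖ
      (sheafToPresheaf (Opens.grothendieckTopology X) AddCommGrpCat.{u} ⋙
        (evaluation _ _).obj (op U))
    infer_instance
  infer_instance

/-- The transition map of a tower on sections. -/
noncomputable abbrev tr (M : ℕᵒᵖ ⥤ CohTop.Ab X) (n : ℕ) (U : Opens X) :
    (M.obj (op (n + 1))).obj.obj (op U) ⟶ (M.obj (op n)).obj.obj (op U) :=
  (M.map (homOfLE (Nat.le_succ n)).op).hom.app (op U)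

lemma map_le_eq (M : ℕᵒᵖ ⥤ CohTop.Ab X) (U : Opens X)
    (s : ∀ n, (M.obj (op n)).obj.obj (op U))
    (hs : ∀ n, tr M n U (s (n + 1)) = s n) (m n : ℕ) (h : m ≤ n) :
    (M.map (homOfLE h).op).hom.app (op U) (s n) = s m := by
  induction n, h using Nat.le_induction with
  | base =>
    have : (homOfLE (le_refl m)).op = 𝟙 (op m) := rfl
    rw [this, M.map_id]
    rfl
  | succ n h ih =>
    have : (homOfLE (h.trans (Nat.le_succ n))).op =
        (homOfLE (Nat.le_succ n)).op ≫ (homOfLE h).op := rfl
    rw [this, M.map_comp]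
    change (M.map (homOfLE h).op).hom.app (op U) (tr M n U (s (n + 1))) = s m
    rw [hs, ih]

lemma exists_section (M : ℕᵒᵖ ⥤ CohTop.Ab X) (U : Opens X)
    (s : ∀ n, (M.obj (op n)).obj.obj (op U))
    (hs : ∀ n, tr M n U (s (n + 1)) = s n) :
    ∃ t : (limit M).obj.obj (op U), ∀ n, (limit.π M (op n)).hom.app (op U) t = s n := by
  let hl := isLimitOfPreserves (secF U) (limit.isLimit M)
  let e := Types.isLimitEquivSections hl
  let sec : (M ⋙ secF U).sections :=
    ⟨fun j => s j.unop, by
      intro j j' f
      have h : j'.unop ≤ j.unop := leOfHom f.unop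
      have hf : f = (homOfLE h).op := Subsingleton.elim _ _
      rw [hf]
      exact map_le_eq M U s hs _ _ h⟩
  refine ⟨e.symm sec, fun n => ?_⟩
  exact Types.isLimitEquivSections_symm_apply hl sec (op n)

lemma section_ext (M : ℕᵒᵖ ⥤ CohTop.Ab X) (U : Opens X)
    (t t' : (limit M).obj.obj (op U))
    (h : ∀ n, (limit.π M (op n)).hom.app (op U) t = (limit.π M (op n)).hom.app (op U) t') :
    t = t' := by
  let hl := isLimitOfPreserves (secF U) (limit.isLimit M)
  apply (Types.isLimitEquivSections hl).injective
  apply Subtype.ext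
  funext j
  exact h j.unop

lemma π_compat (M : ℕᵒᵖ ⥤ CohTop.Ab X) (U : Opens X) (t : (limit M).obj.obj (op U)) (n : ℕ) :
    tr M n U ((limit.π M (op (n + 1))).hom.app (op U) t) =
      (limit.π M (op n)).hom.app (op U) t := by
  have h := limit.w M (homOfLE (Nat.le_succ n)).op
  rw [← h]
  rfl

lemma limMap_π_apply {M N : ℕᵒᵖ ⥤ CohTop.Ab X} (φ : M ⟶ N) (U : Opens X)
    (t : (limit M).obj.obj (op U)) (n : ℕ) :
    (limit.π N (op n)).hom.app (op U) ((limMap φ).hom.app (op U) t) =
      (φ.app (op n)).hom.app (op U) ((limit.π M (op n)).hom.app (op U) t) := by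
  have h := limMap_π φ (op n)
  have h2 := congrArg (fun ψ => ψ.hom.app (op U)) h
  exact ConcreteCategory.congr_hom h2 t

lemma π_restrict (M : ℕᵒᵖ ⥤ CohTop.Ab X) {U V : Opens X} (i : op U ⟶ op V)
    (t : (limit M).obj.obj (op U)) (n : ℕ) :
    (limit.π M (op n)).hom.app (op V) ((limit M).obj.map i t) =
      (M.obj (op n)).obj.map i ((limit.π M (op n)).hom.app (op U) t) :=
  ConcreteCategory.congr_hom ((limit.π M (op n)).hom.naturality i) t

/-- An epimorphism of abelian sheaves with flasque kernel is surjective on sections. -/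
lemma surjective_of_epi_of_flasque_kernel {F G : CohTop.Ab X} (f : F ⟶ G) [Epi f]
    (hK : TopCat.Sheaf.IsFlasque (kernel f : CohTop.Ab X)) (U : Opens X) :
    Function.Surjective (f.hom.app (op U)) := by
  let S : ShortComplex (TopCat.Sheaf AddCommGrpCat.{u} X) :=
    ShortComplex.mk (kernel.ι f) f (kernel.condition f)
  have hS : S.ShortExact :=
    { exact := ShortComplex.exact_of_f_is_kernel _ (kernelIsKernel f)
      mono_f := inferInstanceAs (Mono (kernel.ι f))
      epi_g := inferInstanceAs (Epi f) }
  have : TopCat.Sheaf.IsFlasque S.X₁ := hK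
  have := TopCat.Sheaf.IsFlasque.epi_of_shortExact (U := U) hS
  exact (AddCommGrpCat.epi_iff_surjective _).1 this

/-- sections of a kernel -/
lemma exists_kernel_section {F G : CohTop.Ab X} (f : F ⟶ G) (U : Opens X)
    (s : F.obj.obj (op U)) (h : f.hom.app (op U) s = 0) :
    ∃ k : (kernel f : CohTop.Ab X).obj.obj (op U), (kernel.ι f).hom.app (op U) k = s := by
  let S : ShortComplex (TopCat.Sheaf AddCommGrpCat.{u} X) :=
    ShortComplex.mk (kernel.ι f) f (kernel.condition f)
  have hS : S.Exact := ShortComplex.exact_of_f_is_kernel _ (kernelIsKernel f)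
  have hm : Mono S.f := inferInstanceAs (Mono (kernel.ι f))
  exact TopCat.Sheaf.sections_exact_of_left_exact (U := U) hS hm s h

lemma kernel_ι_comp_apply {F G : CohTop.Ab X} (f : F ⟶ G) (U : Opens X)
    (k : (kernel f : CohTop.Ab X).obj.obj (op U)) :
    f.hom.app (op U) ((kernel.ι f).hom.app (op U) k) = 0 := by
  have h := kernel.condition f
  have h2 := congrArg (fun ψ => ψ.hom.app (op U)) h
  exact ConcreteCategory.congr_hom h2 k

lemma restrict_surjective_of_flasque (F : CohTop.Ab X) (hF : TopCat.Sheaf.IsFlasque F)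
    {U V : Opens X} (i : op U ⟶ op V) : Function.Surjective (F.obj.map i) :=
  (AddCommGrpCat.epi_iff_surjective _).1 (hF.epi i)

/-- A sectionwise surjective morphism of abelian sheaves is an epimorphism. -/
lemma epi_of_sectionwise_surjective {F G : CohTop.Ab X} (f : F ⟶ G)
    (h : ∀ U : Opens X, Function.Surjective (f.hom.app (op U))) : Epi f := by
  rw [← Sheaf.isLocallySurjective_iff_epi']
  have : Presheaf.IsLocallySurjective (Opens.grothendieckTopology X) f.hom :=
    Presheaf.isLocallySurjective_of_surjective _ _ (fun U => h U.unop)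
  exact this

end Groth.Agent.Lib.TowerLimSections
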