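import Groth.Agent.Lib.LocCohModShift92
import Groth.Agent.Lib.CohLES
import Groth.Agent.S6023

/-!
# Sections with supports: `O_X`-modules versus abelian sheaves

For an open `W` of a scheme `X` (closed complement `Z`): the underlying abelian sheaf of the
module `Γ_Z(N)` (`DCoh.gammaZ W.ι`) is `Γ_Z` of the underlying abelian sheaf
(`LocCohZ.sectSuppF W`), naturally in `N`; restriction to `W` commutes with `toAb` (by `rfl`).
-/

set_option autoImplicit false
universe u
open CategoryTheory CategoryTheory.Limits Opposite AlgebraicGeometry TopologicalSpace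

namespace Groth.Agent.Lib.GammaZModAb92

open Groth.Agent.S19245 (η unit_zero_iff FG FG_le res_res)
open Groth.Agent.S6023 (ιZ map_ιZ ιZ_restrict_eq_zero)
open Groth.Agent.Lib.LocCohModShift92 (ιG gammaZ_map_ι)
open Groth.Agent.Lib.CohLES (toAbF)

variable {X : Scheme.{u}} (W : X.Opens)

/-- restriction to an open subscheme commutes with `toAb` -/
noncomputable def restrIso : toAbF X ⋙ CohTop.restrFunctor (X := X.carrier) W ≅
    Scheme.Modules.restrictFunctor W.ι ⋙ toAbF (W : Scheme.{u}) :=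
  NatIso.ofComponents (fun N => Iso.refl _) (by intro M N φ; rfl)

variable (N : X.Modules)

/-- the unit of modules, on underlying abelian sheaves -/
noncomputable def a : (toAbF X).obj N ⟶
    (toAbF X).obj ((Groth.Agent.Lib.LocCohModShift92.G W).obj N) :=
  (toAbF X).map ((Scheme.Modules.restrictAdjunction W.ι).unit.app N)

/-- the inclusion of the underlying abelian sheaf of `Γ_Z(N)` -/
noncomputable def ι₁ : (toAbF X).obj ((DCoh.gammaZ W.ι).obj N) ⟶ (toAbF X).obj N :=
  (toAbF X).map (ιG W.ι N)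

instance : Mono (ι₁ W N) := by
  unfold ι₁
  infer_instance

lemma ι₁_a : ι₁ W N ≫ a W N = 0 := by
  unfold ι₁ a
  rw [← Functor.map_comp]
  have : ιG W.ι N ≫ (Scheme.Modules.restrictAdjunction W.ι).unit.app N = 0 :=
    kernel.condition _
  rw [this, Functor.map_zero]

/-- `toAb Γ_Z(N)` is the kernel of the underlying map of the unit -/
noncomputable def isLimit₁ : IsLimit (KernelFork.ofι (ι₁ W N) (ι₁_a W N)) :=
  (KernelFork.mapIsLimit _ (kernelIsKernel ((Scheme.Modules.restrictAdjunction W.ι).unit.app N))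
    (toAbF X))

lemma FG_le_img (V : X.Opens) : FG (X := X.carrier) W V ≤ W.ι ''ᵁ (W.ι ⁻¹ᵁ V) := by
  rintro x ⟨y, hy, rfl⟩
  exact ⟨y, hy, rfl⟩

lemma img_le_FG (V : X.Opens) : W.ι ''ᵁ (W.ι ⁻¹ᵁ V) ≤ FG (X := X.carrier) W V := by
  rintro x ⟨y, hy, rfl⟩
  exact ⟨y, hy, rfl⟩

lemma a_app (V : X.Opens) (x : ((toAbF X).obj N).obj.obj (op V)) :
    (a W N).hom.app (op V) x =
      ((toAbF X).obj N).obj.map (homOfLE (W.ι.image_preimage_le V)).op x := rfl

lemma ι₁_app_res (V : X.Opens)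
    (s : ((toAbF X).obj ((DCoh.gammaZ W.ι).obj N)).obj.obj (op V)) :
    ((toAbF X).obj N).obj.map (homOfLE (W.ι.image_preimage_le V)).op
      ((ι₁ W N).hom.app (op V) s) = 0 := by
  have h := congrArg (fun ψ => ψ.hom.app (op V)) (ι₁_a W N)
  exact ConcreteCategory.congr_hom h s

/-- (C1) -/
lemma ι₁_η : ι₁ W N ≫ η (X := X.carrier) W ((toAbF X).obj N) =
    (0 : ((toAbF X).obj ((DCoh.gammaZ W.ι).obj N) : CohTop.Ab X.carrier) ⟶
      ((CohTop.pull (CohCx.incl W) ⋙ CohTop.push (CohCx.incl W)).obj ((toAbF X).obj N) :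
        CohTop.Ab X.carrier)) := by
  apply Sheaf.hom_ext
  ext V s
  obtain ⟨V⟩ := V
  change (η (X := X.carrier) W ((toAbF X).obj N)).hom.app (op V)
    ((ι₁ W N).hom.app (op V) s) = 0
  rw [unit_zero_iff]
  have h1 := ι₁_app_res W N V s
  have h2 := res_res ((toAbF X).obj N) (W.ι.image_preimage_le V) (FG_le_img W V)
    ((ι₁ W N).hom.app (op V) s)
  rw [h1, map_zero] at h2
  exact h2.symm

/-- (C2) -/
lemma ιZ_a : ιZ (X := X.carrier) W ((toAbF X).obj N) ≫ a W N = 0 := by
  apply Sheaf.hom_ext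
  ext V t
  obtain ⟨V⟩ := V
  change (a W N).hom.app (op V)
    ((ιZ (X := X.carrier) W ((toAbF X).obj N)).hom.app (op V) t) = 0
  rw [a_app]
  have h1 := ιZ_restrict_eq_zero (X := X.carrier) W ((toAbF X).obj N) V t
  have h2 := res_res ((toAbF X).obj N) (FG_le (X := X.carrier) W V) (img_le_FG W V)
    ((ιZ (X := X.carrier) W ((toAbF X).obj N)).hom.app (op V) t)
  rw [h1, map_zero] at h2
  exact h2.symm

/-- comparison maps -/
noncomputable def fwd : (toAbF X).obj ((DCoh.gammaZ W.ι).obj N) ⟶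
    (LocCohZ.sectSuppF (X := X.carrier) W).obj ((toAbF X).obj N) :=
  kernel.lift _ (ι₁ W N) (ι₁_η W N)

lemma fwd_ι : fwd W N ≫ ιZ (X := X.carrier) W ((toAbF X).obj N) = ι₁ W N :=
  kernel.lift_ι _ _ _

noncomputable def bwd : (LocCohZ.sectSuppF (X := X.carrier) W).obj ((toAbF X).obj N) ⟶
    (toAbF X).obj ((DCoh.gammaZ W.ι).obj N) :=
  (isLimit₁ W N).lift (KernelFork.ofι (ιZ (X := X.carrier) W ((toAbF X).obj N)) (ιZ_a W N))

lemma bwd_ι : bwd W N ≫ ι₁ W N = ιZ (X := X.carrier) W ((toAbF X).obj N) :=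
  (isLimit₁ W N).fac _ WalkingParallelPair.zero

/-- the comparison isomorphism -/
noncomputable def cmpIso : (toAbF X).obj ((DCoh.gammaZ W.ι).obj N) ≅
    (LocCohZ.sectSuppF (X := X.carrier) W).obj ((toAbF X).obj N) where
  hom := fwd W N
  inv := bwd W N
  hom_inv_id := by
    apply (cancel_mono (ι₁ W N)).1
    rw [Category.assoc, bwd_ι, fwd_ι, Category.id_comp]
  inv_hom_id := by
    apply (cancel_mono (ιZ (X := X.carrier) W ((toAbF X).obj N))).1
    rw [Category.assoc, fwd_ι, bwd_ι, Category.id_comp]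

/-- **`toAb ∘ Γ_Z ≅ Γ_Z ∘ toAb`** -/
noncomputable def gammaZIso : DCoh.gammaZ W.ι ⋙ toAbF X ≅
    toAbF X ⋙ LocCohZ.sectSuppF (X := X.carrier) W :=
  NatIso.ofComponents (fun N => cmpIso W N) (by
    intro M N φ
    apply (cancel_mono (ιZ (X := X.carrier) W ((toAbF X).obj N))).1
    change ((toAbF X).map ((DCoh.gammaZ W.ι).map φ) ≫ fwd W N) ≫ ιZ (X := X.carrier) W _ =
      (fwd W M ≫ (LocCohZ.sectSuppF (X := X.carrier) W).map ((toAbF X).map φ)) ≫
        ιZ (X := X.carrier) W _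
    rw [Category.assoc, fwd_ι, Category.assoc, map_ιZ, ← Category.assoc, fwd_ι]
    unfold ι₁
    rw [← Functor.map_comp, ← Functor.map_comp, gammaZ_map_ι])

end Groth.Agent.Lib.GammaZModAb92
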