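import Groth.Agent.Lib.UnivOpenConn5C

/-!
# Geometric connectedness from the generic fibres, for universally open proper morphisms (helper5)

* `eq_of_sections_of_connectedSpace`: two sections of a finite connected `K`-scheme agree.
* `universallyInjective_of_isOpenMap`: a finite open morphism `g` whose second projection
  `Y' ×_Y Y' ⟶ Y'` is open and whose geometric fibres over a "generically dense" set `E` are connected
  is universally injective.
* `connectedSpace_pullback_of_geometricallyConnected`: the fibre over any field-valued point with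
  the same image as a geometrically connected one is connected.
* `geometricallyConnected_of_universallyOpen_of_generic`: **Theorem A**: a proper universally open
  morphism to a locally Noetherian scheme whose geometric fibres over a generically dense set of
  points are connected has geometrically connected fibres.
-/

set_option autoImplicit false
universe u

open CategoryTheory CategoryTheory.Limits AlgebraicGeometry TopologicalSpace Opposite

namespace Groth.Agent.Lib.GenConn5

open Groth.Agent.Lib.ProperFinHyp Groth.Agent.Lib.ConnFib5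

section Alg

/-- Two `K`-algebra retractions of a finite `K`-algebra with connected spectrum agree. -/
theorem algHom_eq_of_connected (K R : Type u) [Field K] [CommRing R] [Algebra K R]
    [Module.Finite K R] [PreconnectedSpace (PrimeSpectrum R)] (φ ψ : R →ₐ[K] K) : φ = ψ := by
  haveI : IsArtinianRing R := IsArtinianRing.of_finite K R
  haveI : Subsingleton (PrimeSpectrum R) := PreconnectedSpace.trivial_of_discrete
  have hφ : (RingHom.ker φ.toRingHom).IsPrime := RingHom.ker_isPrime _
  have hψ : (RingHom.ker ψ.toRingHom).IsPrime := RingHom.ker_isPrime _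
  have hker : RingHom.ker φ.toRingHom = RingHom.ker ψ.toRingHom :=
    congrArg PrimeSpectrum.asIdeal
      (Subsingleton.elim (⟨_, hφ⟩ : PrimeSpectrum R) ⟨_, hψ⟩)
  ext r
  have h1 : r - algebraMap K R (φ r) ∈ RingHom.ker φ.toRingHom := by
    rw [RingHom.mem_ker]
    simp
  rw [hker, RingHom.mem_ker] at h1
  have h2 : ψ r - ψ (algebraMap K R (φ r)) = 0 := by
    simpa using h1
  rw [sub_eq_zero] at h2
  rw [h2]
  simp

end Alg

section Sections

/-- Two sections of a finite connected scheme over a field agree. -/
theorem eq_of_sections_of_connectedSpace (K : Type u) [Field K] {Z : Scheme.{u}}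
    (h : Z ⟶ Spec (CommRingCat.of K)) [IsFinite h] [ConnectedSpace ↥Z]
    (a b : Spec (CommRingCat.of K) ⟶ Z) (ha : a ≫ h = 𝟙 _) (hb : b ≫ h = 𝟙 _) : a = b := by
  haveI : IsAffine Z := isAffine_of_isAffineHom h
  -- the ring side
  let ι : CommRingCat.of K ⟶ Γ(Z, ⊤) := (Scheme.ΓSpecIso (CommRingCat.of K)).inv ≫ h.appTop
  have hh : Z.toSpecΓ ≫ Spec.map ι = h := by
    simp only [ι]
    rw [Spec.map_comp, ← Scheme.toSpecΓ_naturality_assoc, toSpecΓ_SpecMap_ΓSpecIso_inv,
      Category.comp_id]
  haveI : IsIso Z.toSpecΓ := by
    rw [← Scheme.isoSpec_hom]; infer_instance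
  letI : Algebra K Γ(Z, ⊤) := ι.hom.toAlgebra
  have hfin : ι.hom.Finite := by
    have h1 : IsFinite (Spec.map ι) := by
      have : Spec.map ι = inv Z.toSpecΓ ≫ h := by rw [← hh]; simp
      rw [this]; infer_instance
    exact (IsFinite.SpecMap_iff ι).mp h1
  haveI : Module.Finite K Γ(Z, ⊤) := RingHom.finite_algebraMap.mp hfin
  haveI : PreconnectedSpace (PrimeSpectrum Γ(Z, ⊤)) := by
    have : ConnectedSpace ↥(Spec Γ(Z, ⊤)) :=
      (asIso Z.toSpecΓ).schemeIsoToHomeo.connectedSpace_iff.mp inferInstance
    exact this.toPreconnectedSpace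
  -- the two sections as ring maps
  let a' : Γ(Z, ⊤) ⟶ CommRingCat.of K := Spec.preimage (a ≫ Z.toSpecΓ)
  let b' : Γ(Z, ⊤) ⟶ CommRingCat.of K := Spec.preimage (b ≫ Z.toSpecΓ)
  have ha' : Spec.map a' = a ≫ Z.toSpecΓ := Spec.map_preimage _
  have hb' : Spec.map b' = b ≫ Z.toSpecΓ := Spec.map_preimage _
  have haι : ι ≫ a' = 𝟙 _ := by
    apply Spec.map_injective
    rw [Spec.map_comp, ha', Category.assoc, hh, ha, Spec.map_id]
  have hbι : ι ≫ b' = 𝟙 _ := by
    apply Spec.map_injective
    rw [Spec.map_comp, hb', Category.assoc, hh, hb, Spec.map_id]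
  let φ : Γ(Z, ⊤) →ₐ[K] K :=
    { a'.hom with commutes' := fun r => congr($(haι).hom r) }
  let ψ : Γ(Z, ⊤) →ₐ[K] K :=
    { b'.hom with commutes' := fun r => congr($(hbι).hom r) }
  have hφψ : φ = ψ := algHom_eq_of_connected K Γ(Z, ⊤) φ ψ
  have hab : a' = b' := by
    ext r
    exact congr($hφψ r)
  have : a ≫ Z.toSpecΓ = b ≫ Z.toSpecΓ := by rw [← ha', ← hb', hab]
  exact (cancel_mono Z.toSpecΓ).mp this

end Sections

section UnivInj

variable {Y' Y : Scheme.{u}} (g : Y' ⟶ Y)

set_option backward.isDefEq.respectTransparency.types false in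
/-- A finite open morphism `g : Y' ⟶ Y` such that the second projection `Y' ×_Y Y' ⟶ Y'` is open and
such that the geometric fibres over a set `E` meeting every nonempty open of `Y` are connected is
universally injective. -/
theorem universallyInjective_of_isOpenMap [IsFinite g] (hg : IsOpenMap g.base)
    (h2 : IsOpenMap (pullback.snd g g).base) (E : Set Y)
    (hE : ∀ U : Set Y, IsOpen U → U.Nonempty → (U ∩ E).Nonempty)
    (hconn : ∀ (K : Type u) [Field K] (c : Spec (CommRingCat.of K) ⟶ Y),
      c.base (IsLocalRing.closedPoint K) ∈ E → ConnectedSpace ↥(pullback g c)) :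
    UniversallyInjective g := by
  rw [UniversallyInjective.iff_diagonal]
  have hclosed : IsClosed (Set.range (pullback.diagonal g).base) :=
    (pullback.diagonal g).isClosedEmbedding.isClosed_range
  by_contra hns
  have hW : ((Set.range (pullback.diagonal g).base)ᶜ).Nonempty := by
    by_contra hemp
    rw [Set.not_nonempty_iff_eq_empty, Set.compl_empty_iff] at hemp
    exact hns ⟨fun w => by rw [← Set.mem_range, hemp]; trivial⟩
  have hopen : IsOpen (g.base '' ((pullback.snd g g).base '' (Set.range (pullback.diagonal g).base)ᶜ)) :=
    hg _ (h2 _ hclosed.isOpen_compl)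
  obtain ⟨e, ⟨y', ⟨w, hwW, rfl⟩, rfl⟩, heE⟩ := hE _ hopen ((hW.image _).image _)
  apply hwW
  -- the two `κ(w)`-points of `Y'`
  let K : Type u := (pullback g g).residueField w
  let φ : Spec (CommRingCat.of K) ⟶ pullback g g := (pullback g g).fromSpecResidueField w
  have hφpt : φ.base (IsLocalRing.closedPoint K) = w := Scheme.fromSpecResidueField_apply _ _
  let a := φ ≫ pullback.fst g g
  let b := φ ≫ pullback.snd g g
  let c := b ≫ g
  have hac : a ≫ g = c := by
    simp only [a, b, c, Category.assoc, pullback.condition]
  have hcpt : c.base (IsLocalRing.closedPoint K) ∈ E := by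
    have : c.base (IsLocalRing.closedPoint K) = g.base ((pullback.snd g g).base w) := by
      change ((φ ≫ pullback.snd g g) ≫ g).base (IsLocalRing.closedPoint K) = _
      rw [Scheme.Hom.comp_apply, Scheme.Hom.comp_apply, hφpt]
    rw [this]
    exact heE
  haveI : ConnectedSpace ↥(pullback g c) := hconn K c hcpt
  let sa : Spec (CommRingCat.of K) ⟶ pullback g c := pullback.lift a (𝟙 _) (by rw [hac, Category.id_comp])
  let sb : Spec (CommRingCat.of K) ⟶ pullback g c := pullback.lift b (𝟙 _) (by rw [Category.id_comp])
  have hsab : sa = sb :=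
    eq_of_sections_of_connectedSpace K (pullback.snd g c) sa sb (pullback.lift_snd _ _ _)
      (pullback.lift_snd _ _ _)
  have hab : a = b := by
    have h1 : sa ≫ pullback.fst g c = a := pullback.lift_fst _ _ _
    have h2 : sb ≫ pullback.fst g c = b := pullback.lift_fst _ _ _
    rw [← h1, ← h2, hsab]
  have hφ2 : φ = a ≫ pullback.diagonal g := by
    apply pullback.hom_ext
    · simp [a]
    · simp only [Category.assoc, pullback.diagonal_snd, Category.comp_id]
      exact hab.symm
  refine ⟨a.base (IsLocalRing.closedPoint K), ?_⟩
  have : (a ≫ pullback.diagonal g).base (IsLocalRing.closedPoint K) = w := by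
    rw [← hφ2, hφpt]
  exact (Scheme.Hom.comp_apply a (pullback.diagonal g) (IsLocalRing.closedPoint K)).symm.trans this

end UnivInj

section ToolT

variable {X Y : Scheme.{u}} (f : X ⟶ Y)

instance surjective_of_field_target {T : Scheme.{u}} [Nonempty ↥T] (K : Type u) [Field K]
    (d : T ⟶ Spec (CommRingCat.of K)) : Surjective d := by
  refine ⟨fun x => ?_⟩
  obtain ⟨t⟩ := ‹Nonempty ↥T›
  exact ⟨t, Subsingleton.elim (α := PrimeSpectrum K) _ _⟩

set_option backward.isDefEq.respectTransparency.types false in
/-- If the fibre of `f` over one field-valued point `c₀` is geometrically connected, then the fibre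
over any other field-valued point `c` with the same image point is connected. -/
theorem connectedSpace_pullback_of_geometricallyConnected {K₀ K : Type u} [Field K₀] [Field K]
    (c₀ : Spec (CommRingCat.of K₀) ⟶ Y) (c : Spec (CommRingCat.of K) ⟶ Y)
    (hpt : c.base (IsLocalRing.closedPoint K) = c₀.base (IsLocalRing.closedPoint K₀))
    [GeometricallyConnected (pullback.snd f c₀)] : ConnectedSpace ↥(pullback f c) := by
  obtain ⟨z, hz1, hz2⟩ := Scheme.Pullback.exists_preimage_pullback
    (f := c) (g := c₀) (IsLocalRing.closedPoint K) (IsLocalRing.closedPoint K₀) hpt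
  let L : Type u := (pullback c c₀).residueField z
  let φ : Spec (CommRingCat.of L) ⟶ pullback c c₀ := (pullback c c₀).fromSpecResidueField z
  let d : Spec (CommRingCat.of L) ⟶ Spec (CommRingCat.of K) := φ ≫ pullback.fst c c₀
  let d₀ : Spec (CommRingCat.of L) ⟶ Spec (CommRingCat.of K₀) := φ ≫ pullback.snd c c₀
  have hd : d ≫ c = d₀ ≫ c₀ := by
    simp only [d, d₀, Category.assoc, pullback.condition]
  have h1 : ConnectedSpace ↥(pullback (pullback.snd f c₀) d₀) :=
    pullback_of_geometrically (P := fun X => ConnectedSpace X)
      (GeometricallyConnected.geometrically_connectedSpace (f := pullback.snd f c₀)) L d₀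
  have h2 : ConnectedSpace ↥(pullback f (d₀ ≫ c₀)) :=
    (pullbackLeftPullbackSndIso f c₀ d₀).hom.homeomorph.connectedSpace_iff.mp h1
  have h3 : ConnectedSpace ↥(pullback f (d ≫ c)) :=
    (pullback.congrHom (f₁ := f) rfl hd).hom.homeomorph.connectedSpace_iff.mpr h2
  have h4 : ConnectedSpace ↥(pullback (pullback.snd f c) d) :=
    (pullbackLeftPullbackSndIso f c d).hom.homeomorph.connectedSpace_iff.mpr h3
  haveI : Surjective d := surjective_of_field_target K d
  have hs : Surjective (pullback.fst (pullback.snd f c) d) := inferInstance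
  exact hs.surj.connectedSpace (pullback.fst (pullback.snd f c) d).continuous

end ToolT

section Main

/-- Factorised form of Theorem A. -/
theorem geometricallyConnected_comp_of_universallyOpen_of_generic {X Y' Y : Scheme.{u}}
    (π : X ⟶ Y') (g : Y' ⟶ Y) [IsFinite g] [Surjective g] [UniversallyClosed π]
    [GeometricallyConnected π] [UniversallyOpen (π ≫ g)] (E : Set Y)
    (hE : ∀ U : Set Y, IsOpen U → U.Nonempty → (U ∩ E).Nonempty)
    (hgen : ∀ (K : Type u) [Field K] (c : Spec (CommRingCat.of K) ⟶ Y),
      c.base (IsLocalRing.closedPoint K) ∈ E → ConnectedSpace ↥(pullback (π ≫ g) c)) :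
    GeometricallyConnected (π ≫ g) := by
  haveI : Surjective π := inferInstance
  -- `g` is open
  have hg : IsOpenMap g.base := by
    intro U hU
    have h1 : g.base '' U = (π ≫ g).base '' (π.base ⁻¹' U) := by
      rw [Scheme.Hom.comp_base, TopCat.coe_comp, Set.image_comp,
        Set.image_preimage_eq U π.surjective]
    rw [h1]
    exact (π ≫ g).isOpenMap _ (hU.preimage π.continuous)
  -- the second projection of `Y' ×_Y Y'` is open
  have h2 : IsOpenMap (pullback.snd g g).base := by
    let p : pullback (π ≫ g) g ⟶ pullback g g :=
      (pullbackRightPullbackFstIso g g π).inv ≫ pullback.snd π (pullback.fst g g)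
    have hp : p ≫ pullback.snd g g = pullback.snd (π ≫ g) g := by
      simp [p]
    have hpsurj : Function.Surjective p.base := by
      have : Surjective p := inferInstance
      exact this.surj
    intro U hU
    have h1 : (pullback.snd g g).base '' U =
        (pullback.snd (π ≫ g) g).base '' (p.base ⁻¹' U) := by
      rw [← hp, Scheme.Hom.comp_base, TopCat.coe_comp, Set.image_comp,
        Set.image_preimage_eq U hpsurj]
    rw [h1]
    exact (pullback.snd (π ≫ g) g).isOpenMap _ (hU.preimage p.continuous)
  -- connectedness of the geometric fibres of `g` over `E`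
  have hconn : ∀ (K : Type u) [Field K] (c : Spec (CommRingCat.of K) ⟶ Y),
      c.base (IsLocalRing.closedPoint K) ∈ E → ConnectedSpace ↥(pullback g c) := by
    intro K _ c hc
    haveI : ConnectedSpace ↥(pullback (π ≫ g) c) := hgen K c hc
    have : ConnectedSpace ↥(pullback π (pullback.fst g c)) :=
      (pullbackRightPullbackFstIso g c π).hom.homeomorph.connectedSpace_iff.mpr inferInstance
    have hs : Surjective (pullback.snd π (pullback.fst g c)) := inferInstance
    exact hs.surj.connectedSpace (pullback.snd π (pullback.fst g c)).continuous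
  haveI : UniversallyInjective g := universallyInjective_of_isOpenMap g hg h2 E hE hconn
  haveI : GeometricallyConnected g :=
    Groth.Agent.Lib.UnivOpenConn5.geometricallyConnected_of_universallyInjective_of_surjective g
  exact Groth.Agent.Lib.SteinField5.geometricallyConnected_comp_of_universallyClosed π g

/-- **Theorem A.** A proper universally open morphism to a locally Noetherian scheme whose geometric
fibres over a set `E` of points meeting every nonempty open subset are connected has geometrically
connected fibres. -/
theorem geometricallyConnected_of_universallyOpen_of_generic (H2 : Hyp.{u}) (H58 : Hyp58.{u})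
    {X Y : Scheme.{u}} [IsLocallyNoetherian Y] (f : X ⟶ Y) [IsProper f] [UniversallyOpen f]
    (E : Set Y) (hE : ∀ U : Set Y, IsOpen U → U.Nonempty → (U ∩ E).Nonempty)
    (hgen : ∀ (K : Type u) [Field K] (c : Spec (CommRingCat.of K) ⟶ Y),
      c.base (IsLocalRing.closedPoint K) ∈ E → ConnectedSpace ↥(pullback f c)) :
    GeometricallyConnected f := by
  -- `f` is surjective
  have hfsurj : Function.Surjective f.base := by
    have hcl : IsClosed (Set.range f.base) := f.isClosedMap.isClosed_range
    have hEsub : E ⊆ Set.range f.base := by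
      intro e he
      let c := Y.fromSpecResidueField e
      have hc : c.base (IsLocalRing.closedPoint (Y.residueField e)) = e :=
        Scheme.fromSpecResidueField_apply _ _
      haveI : ConnectedSpace ↥(pullback f c) := hgen (Y.residueField e) c (by rw [hc]; exact he)
      obtain ⟨t⟩ : Nonempty ↥(pullback f c) := inferInstance
      refine ⟨(pullback.fst f c).base t, ?_⟩
      rw [← Scheme.Hom.comp_apply, pullback.condition, Scheme.Hom.comp_apply]
      have : (pullback.snd f c).base t = IsLocalRing.closedPoint (Y.residueField e) :=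
        Subsingleton.elim (α := PrimeSpectrum (Y.residueField e)) _ _
      rw [this, hc]
    intro y
    by_contra hy
    have hopen : IsOpen (Set.range f.base)ᶜ := hcl.isOpen_compl
    obtain ⟨e, he1, he2⟩ := hE _ hopen ⟨y, hy⟩
    exact he1 (hEsub he2)
  obtain ⟨Y', π, g, hfac, hfin, hsurj, huc, hgc⟩ : ∃ (Y' : Scheme.{u}) (π : X ⟶ Y')
      (g : Y' ⟶ Y), π ≫ g = f ∧ IsFinite g ∧ Surjective g ∧ UniversallyClosed π ∧
        GeometricallyConnected π := by
    have hfac : f.toNormalization ≫ f.fromNormalization = f := f.toNormalization_fromNormalization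
    haveI hfin : IsFinite f.fromNormalization :=
      Groth.Agent.Lib.SteinFin5.isFinite_fromNormalization_of_hyp H2 f
    haveI hln : IsLocallyNoetherian f.normalization :=
      LocallyOfFiniteType.isLocallyNoetherian f.fromNormalization
    haveI : IsProper (f.toNormalization ≫ f.fromNormalization) := by rw [hfac]; infer_instance
    haveI hprop : IsProper f.toNormalization :=
      IsProper.of_comp f.toNormalization f.fromNormalization
    have hgc : GeometricallyConnected f.toNormalization :=
      geometricallyConnected_of_isIso_app f.toNormalization H2 H58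
        (Groth.Agent.Lib.SteinProp5.isIso_toNormalization_app f)
    refine ⟨f.normalization, f.toNormalization, f.fromNormalization, hfac, hfin, ⟨fun y => ?_⟩,
      inferInstance, hgc⟩
    obtain ⟨x, hx⟩ := hfsurj y
    refine ⟨f.toNormalization.base x, ?_⟩
    rw [← Scheme.Hom.comp_apply, hfac, hx]
  subst hfac
  exact geometricallyConnected_comp_of_universallyOpen_of_generic π g E hE hgen

end Main

end Groth.Agent.Lib.GenConn5
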