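import Mathlib

/-!
# Generation in degree one can be checked on algebraically closed points
(helper99; used for S13623)
-/

set_option autoImplicit false
universe u
open TensorProduct

namespace Groth.Agent.Lib.GenDegOne99

/-- a nonzero f.g. module has a nonzero linear map to an algebraically closed field -/
lemma exists_functional (A : Type u) [CommRing A] (C : Type u) [AddCommGroup C] [Module A C]
    [Module.Finite A C] [Nontrivial C] :
    ∃ (k : Type u) (_ : Field k) (_ : IsAlgClosed k) (_ : Algebra A k) (μ : C →ₗ[A] k), μ ≠ 0 := by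
  rcases IsCoatomic.eq_top_or_exists_le_coatom (⊥ : Submodule A C) with h | ⟨N, hN, -⟩
  · exact absurd h bot_ne_top
  have hs : IsSimpleModule A (C ⧸ N) := isSimpleModule_iff_isCoatom.mpr hN
  obtain ⟨I, hI, ⟨e⟩⟩ := isSimpleModule_iff_quot_maximal.mp hs
  let _ := Ideal.Quotient.field I
  have : Nontrivial (C ⧸ N) := IsSimpleModule.nontrivial A _
  refine ⟨AlgebraicClosure (A ⧸ I), inferInstance, inferInstance, inferInstance,
    ((Algebra.linearMap (A ⧸ I) (AlgebraicClosure (A ⧸ I))).restrictScalars A) ∘ₗ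
      e.toLinearMap ∘ₗ N.mkQ, ?_⟩
  intro h0
  obtain ⟨y, hy⟩ := exists_ne (0 : C ⧸ N)
  obtain ⟨x, rfl⟩ := N.mkQ_surjective y
  have h1 := LinearMap.congr_fun h0 x
  simp only [LinearMap.coe_comp, Function.comp_apply, LinearMap.coe_restrictScalars,
    Algebra.linearMap_apply, LinearMap.zero_apply, LinearEquiv.coe_coe] at h1
  rw [map_eq_zero_iff _ (algebraMap (A ⧸ I) (AlgebraicClosure (A ⧸ I))).injective] at h1
  exact hy (e.map_eq_zero_iff.mp h1)

variable (A : Type u) [CommRing A] (B : Type u) [CommRing B] [Algebra A B]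
  (𝒜 : ℕ → Submodule A B) [GradedAlgebra 𝒜]

lemma pow_le (j : ℕ) : (𝒜 1) ^ j ≤ 𝒜 j := by
  induction j with
  | zero =>
    rw [pow_zero, Submodule.one_le]
    exact SetLike.GradedOne.one_mem
  | succ j ih =>
    rw [pow_succ, Submodule.mul_le]
    intro x hx y hy
    exact SetLike.mul_mem_graded (ih hx) hy

/-- the projection to the `m`-th graded piece as a linear map -/
noncomputable def projL (m : ℕ) : B →ₗ[A] 𝒜 m :=
  (DirectSum.component A ℕ (fun i => 𝒜 i) m) ∘ₗ (DirectSum.decomposeLinearEquiv 𝒜).toLinearMap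

lemma projL_of_mem {m : ℕ} {b : B} (hb : b ∈ 𝒜 m) : projL A B 𝒜 m b = ⟨b, hb⟩ := by
  simp only [projL, LinearMap.coe_comp, Function.comp_apply, LinearEquiv.coe_coe,
    DirectSum.decomposeLinearEquiv_apply]
  apply Subtype.ext
  change ((DirectSum.decompose 𝒜 b) m : B) = b
  exact DirectSum.decompose_of_mem_same 𝒜 hb

lemma projL_of_mem_ne {m j : ℕ} {b : B} (hb : b ∈ 𝒜 j) (hne : j ≠ m) : projL A B 𝒜 m b = 0 := by
  apply Subtype.ext
  change ((DirectSum.decompose 𝒜 b) m : B) = 0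
  exact DirectSum.decompose_of_mem_ne 𝒜 hb hne

theorem pow_eq
    (hfin : ∀ m : ℕ, Module.Finite A (𝒜 m))
    (hgen : ∀ (k : Type u) [Field k] [IsAlgClosed k] [Algebra A k],
      Algebra.adjoin k ((Algebra.TensorProduct.includeRight : B →ₐ[A] k ⊗[A] B) '' (𝒜 1 : Set B)) = ⊤)
    (m : ℕ) : (𝒜 1) ^ m = 𝒜 m := by
  by_contra hne
  have hlt : ((𝒜 1) ^ m).comap (𝒜 m).subtype ≠ ⊤ := by
    intro htop
    apply hne
    apply le_antisymm (pow_le A B 𝒜 m)
    intro b hb
    have : (⟨b, hb⟩ : 𝒜 m) ∈ ((𝒜 1) ^ m).comap (𝒜 m).subtype := by rw [htop]; trivial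
    exact this
  set Q := ((𝒜 1) ^ m).comap (𝒜 m).subtype with hQ
  have := hfin m
  have : Nontrivial ((𝒜 m) ⧸ Q) := Submodule.Quotient.nontrivial_iff.mpr hlt
  obtain ⟨k, _, _, _, μ, hμ⟩ := exists_functional A ((𝒜 m) ⧸ Q)
  -- the functional on `B`
  let lam' : B →ₗ[A] k := μ ∘ₗ Q.mkQ ∘ₗ projL A B 𝒜 m
  let Λ : k ⊗[A] B →ₗ[k] k :=
    TensorProduct.AlgebraTensorModule.lift (LinearMap.toSpanSingleton k (B →ₗ[A] k) lam')
  have hΛ : ∀ (c : k) (b : B), Λ (c ⊗ₜ[A] b) = c • lam' b := by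
    intro c b
    simp [Λ]
  -- `lam'` vanishes on all powers of `𝒜 1`
  have hvan : ∀ (j : ℕ) (b : B), b ∈ (𝒜 1) ^ j → lam' b = 0 := by
    intro j b hb
    by_cases hj : j = m
    · subst hj
      have hb' : b ∈ 𝒜 j := pow_le A B 𝒜 j hb
      simp only [lam', LinearMap.coe_comp, Function.comp_apply]
      rw [projL_of_mem A B 𝒜 hb']
      have : Q.mkQ ⟨b, hb'⟩ = 0 := by
        rw [Submodule.mkQ_apply, Submodule.Quotient.mk_eq_zero]
        exact hb
      rw [this, map_zero]
    · simp only [lam', LinearMap.coe_comp, Function.comp_apply]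
      rw [projL_of_mem_ne A B 𝒜 (pow_le A B 𝒜 j hb) hj, map_zero, map_zero]
  -- hence `Λ` vanishes on the adjoin
  have hadj : ∀ z ∈ Algebra.adjoin k
      ((Algebra.TensorProduct.includeRight : B →ₐ[A] k ⊗[A] B) '' (𝒜 1 : Set B)), Λ z = 0 := by
    intro z hz
    rw [← Subalgebra.mem_toSubmodule, Algebra.adjoin_eq_span] at hz
    induction hz using Submodule.span_induction with
    | mem x hx =>
      have : ∃ (j : ℕ) (b : B), b ∈ (𝒜 1) ^ j ∧ x = (1 : k) ⊗ₜ[A] b := by
        induction hx using Submonoid.closure_induction with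
        | mem y hy =>
          obtain ⟨b, hb, rfl⟩ := hy
          exact ⟨1, b, by rw [pow_one]; exact hb, rfl⟩
        | one => exact ⟨0, 1, by rw [pow_zero]; exact Submodule.one_le.mp le_rfl, rfl⟩
        | mul y y' _ _ hy hy' =>
          obtain ⟨j, b, hb, rfl⟩ := hy
          obtain ⟨j', b', hb', rfl⟩ := hy'
          refine ⟨j + j', b * b', ?_, ?_⟩
          · rw [pow_add]; exact Submodule.mul_mem_mul hb hb'
          · rw [Algebra.TensorProduct.tmul_mul_tmul, one_mul]
      obtain ⟨j, b, hb, rfl⟩ := this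
      rw [hΛ, hvan j b hb, smul_zero]
    | zero => exact map_zero _
    | add x y _ _ hx hy => rw [map_add, hx, hy, add_zero]
    | smul c x _ hx => rw [map_smul, hx, smul_zero]
  -- but `Λ` is nonzero
  apply hμ
  refine LinearMap.ext fun y => ?_
  obtain ⟨⟨b, hb⟩, rfl⟩ := Q.mkQ_surjective y
  have h1 : Λ ((1 : k) ⊗ₜ[A] b) = 0 := hadj _ (by rw [hgen k]; trivial)
  rw [hΛ, one_smul] at h1
  simp only [lam', LinearMap.coe_comp, Function.comp_apply] at h1
  rw [projL_of_mem A B 𝒜 hb] at h1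
  simpa using h1

theorem adjoin_eq_top
    (hfin : ∀ m : ℕ, Module.Finite A (𝒜 m))
    (hgen : ∀ (k : Type u) [Field k] [IsAlgClosed k] [Algebra A k],
      Algebra.adjoin k ((Algebra.TensorProduct.includeRight : B →ₐ[A] k ⊗[A] B) '' (𝒜 1 : Set B)) = ⊤) :
    Algebra.adjoin A (𝒜 1 : Set B) = ⊤ := by
  classical
  have hpow : ∀ m : ℕ, (𝒜 1) ^ m ≤ Subalgebra.toSubmodule (Algebra.adjoin A (𝒜 1 : Set B)) := by
    intro m
    induction m with
    | zero =>
      rw [pow_zero, Submodule.one_le]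
      exact Subalgebra.one_mem _
    | succ j ih =>
      rw [pow_succ, Submodule.mul_le]
      intro x hx y hy
      exact Subalgebra.mul_mem _ (ih hx) (Algebra.subset_adjoin hy)
  rw [eq_top_iff]
  intro b _
  rw [← DirectSum.sum_support_decompose 𝒜 b]
  refine Subalgebra.sum_mem _ (fun i _ => ?_)
  apply hpow i
  rw [pow_eq A B 𝒜 hfin hgen i]
  exact SetLike.coe_mem _

end Groth.Agent.Lib.GenDegOne99
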