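import Mathlib

/-!
# Flat base change commutes with finite-character intersections of submodules

`C` a commutative ring, `E` a flat `C`-module, `K` a `C`-module.
* `mem_range_rTensor_inf`: `(M ⊗ E) ∩ (V ⊗ E) = (M ∩ V) ⊗ E` inside `K ⊗ E`.
* `mem_range_rTensor_of_forall`: if `B = ⋂ V i` with finite character (every `x : K` lies in all but
  finitely many `V i`), then `⋂ (V i ⊗ E) ⊆ B ⊗ E` inside `K ⊗ E`.
-/

set_option autoImplicit false
universe u

open TensorProduct

namespace Groth.Agent.Lib.Krull96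

variable {C : Type*} [CommRing C] {E : Type*} [AddCommGroup E] [Module C E] [Module.Flat C E]
  {K : Type*} [AddCommGroup K] [Module C K]

omit [Module.Flat C E] in
theorem range_rTensor_mono {M N : Submodule C K} (h : M ≤ N) :
    LinearMap.range (M.subtype.rTensor E) ≤ LinearMap.range (N.subtype.rTensor E) := by
  have : M.subtype = N.subtype ∘ₗ Submodule.inclusion h := by
    ext x; rfl
  rw [this, LinearMap.rTensor_comp]
  exact LinearMap.range_comp_le_range _ _

theorem mem_range_rTensor_inf (M V : Submodule C K) (t : K ⊗[C] E)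
    (hM : t ∈ LinearMap.range (M.subtype.rTensor E))
    (hV : t ∈ LinearMap.range (V.subtype.rTensor E)) :
    t ∈ LinearMap.range ((M ⊓ V).subtype.rTensor E) := by
  obtain ⟨tM, rfl⟩ := hM
  let inc : ↥(M ⊓ V) →ₗ[C] M := Submodule.inclusion inf_le_left
  let θ : M →ₗ[C] K ⧸ V := V.mkQ ∘ₗ M.subtype
  have hex : Function.Exact inc θ := by
    intro m
    constructor
    · intro hm
      have hmV : (m : K) ∈ V := by
        have : V.mkQ (m : K) = 0 := hm
        rwa [Submodule.mkQ_apply, Submodule.Quotient.mk_eq_zero] at this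
      exact ⟨⟨m, m.2, hmV⟩, rfl⟩
    · rintro ⟨x, rfl⟩
      show V.mkQ ((x : K)) = 0
      rw [Submodule.mkQ_apply, Submodule.Quotient.mk_eq_zero]
      exact x.2.2
  have hex' := Module.Flat.rTensor_exact E hex
  have hzero : (θ.rTensor E) tM = 0 := by
    obtain ⟨tV, htV⟩ := hV
    have h1 : (θ.rTensor E) tM = (V.mkQ.rTensor E) ((M.subtype.rTensor E) tM) := by
      rw [← LinearMap.comp_apply, ← LinearMap.rTensor_comp]
    rw [h1, ← htV, ← LinearMap.comp_apply, ← LinearMap.rTensor_comp]
    have : V.mkQ ∘ₗ V.subtype = 0 := by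
      ext x
      simp
    rw [this, LinearMap.rTensor_zero, LinearMap.zero_apply]
  obtain ⟨tI, rfl⟩ := (hex' tM).mp hzero
  refine ⟨tI, ?_⟩
  rw [← LinearMap.comp_apply, ← LinearMap.rTensor_comp]
  rfl

theorem mem_range_rTensor_of_forall {ι : Type*} (B : Submodule C K) (V : ι → Submodule C K)
    (hinter : ∀ x : K, (∀ i, x ∈ V i) → x ∈ B)
    (hfin : ∀ x : K, {i | x ∉ V i}.Finite)
    (t : K ⊗[C] E) (ht : ∀ i, t ∈ LinearMap.range ((V i).subtype.rTensor E)) :
    t ∈ LinearMap.range (B.subtype.rTensor E) := by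
  classical
  obtain ⟨N', hN', htN'⟩ := TensorProduct.exists_finite_submodule_left_of_setFinite
    ({t} : Set (K ⊗[C] E)) (Set.finite_singleton t)
  have htN : t ∈ LinearMap.range (N'.subtype.rTensor E) := htN' rfl
  obtain ⟨Y, hY⟩ := (Module.Finite.iff_fg.mp hN')
  -- finitely many bad indices
  have hF : {i | ¬ N' ≤ V i}.Finite := by
    have : {i | ¬ N' ≤ V i} ⊆ ⋃ y ∈ (Y : Set K), {i | y ∉ V i} := by
      intro i hi
      have hi : ¬ N' ≤ V i := hi
      rw [← hY, Submodule.span_le] at hi
      obtain ⟨y, hy, hyV⟩ := Set.not_subset.mp hi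
      exact Set.mem_biUnion hy hyV
    exact (Set.Finite.biUnion Y.finite_toSet (fun y _ => hfin y)).subset this
  -- induction over finite sets of indices
  have key : ∀ S : Finset ι,
      t ∈ LinearMap.range ((N' ⊓ ⨅ i ∈ S, V i).subtype.rTensor E) := by
    intro S
    induction S using Finset.induction_on with
    | empty =>
      refine range_rTensor_mono ?_ htN
      intro x hx
      exact ⟨hx, by simp⟩
    | insert a S _ ih =>
      have h1 := mem_range_rTensor_inf _ (V a) t ih (ht a)
      refine range_rTensor_mono ?_ h1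
      rw [Finset.iInf_insert]
      intro x hx
      have h2 : x ∈ ⨅ i ∈ S, V i := hx.1.2
      exact ⟨hx.1.1, hx.2, h2⟩
  refine range_rTensor_mono ?_ (key hF.toFinset)
  intro x hx
  apply hinter
  intro i
  by_cases hi : N' ≤ V i
  · exact hi hx.1
  · have : i ∈ hF.toFinset := hF.mem_toFinset.mpr hi
    have h2 : x ∈ ⨅ i ∈ hF.toFinset, V i := hx.2
    simp only [Submodule.mem_iInf] at h2
    exact h2 i this

end Groth.Agent.Lib.Krull96
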