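import Mathlib

/-!
# Integral closedness of `V ⊗ E` in `K ⊗ E` for a DVR-like subalgebra `V ⊆ K`

`V` a `C`-subalgebra of a field `K`, `π ∈ V` nonzero with `K = V[1/π]`, `E` a flat `C`-algebra with
`(V/π) ⊗ E` reduced.  Then every element of `K ⊗ E` which is integral over `V ⊗ E` lies in
(the image of) `V ⊗ E`.
-/

set_option autoImplicit false
universe u

open TensorProduct Polynomial

namespace Groth.Agent.Lib.Krull96

variable {C : Type*} [CommRing C] {E : Type*} [CommRing E] [Algebra C E] [Module.Flat C E]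
  {K : Type*} [Field K] [Algebra C K]

theorem map_val_injective (V : Subalgebra C K) :
    Function.Injective (Algebra.TensorProduct.map V.val (AlgHom.id C E)) := by
  have h := Module.Flat.rTensor_preserves_injective_linearMap (M := E) V.val.toLinearMap
    Subtype.val_injective
  have e : ∀ s, Algebra.TensorProduct.map V.val (AlgHom.id C E) s =
      (V.val.toLinearMap.rTensor E) s := by
    intro s
    induction s using TensorProduct.induction_on with
    | zero => simp
    | tmul x y => rfl
    | add a b ha hb => rw [map_add, map_add, ha, hb]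
  intro a b hab
  apply h
  rw [← e, ← e, hab]

theorem mem_range_of_isIntegralElem (V : Subalgebra C K) (π : V) (hπ0 : (π : K) ≠ 0)
    (hπK : ∀ x : K, ∃ n : ℕ, (π : K) ^ n * x ∈ V)
    {Q : Type*} [CommRing Q] [Algebra C Q] (q : V →ₐ[C] Q) (hq : Function.Surjective q)
    (hker : RingHom.ker q = Ideal.span {π})
    (hred : IsReduced (Q ⊗[C] E))
    (t : K ⊗[C] E)
    (ht : (Algebra.TensorProduct.map V.val (AlgHom.id C E)).toRingHom.IsIntegralElem t) :
    t ∈ Set.range (Algebra.TensorProduct.map V.val (AlgHom.id C E)) := by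
  set j := Algebra.TensorProduct.map V.val (AlgHom.id C E) with hj
  have hjinj : Function.Injective j := map_val_injective V
  set ϖ : V ⊗[C] E := π ⊗ₜ[C] (1 : E) with hϖ
  have hjϖ : j ϖ = (π : K) ⊗ₜ[C] (1 : E) := rfl
  have hunit : IsUnit (j ϖ) := by
    refine IsUnit.of_mul_eq_one ((π : K)⁻¹ ⊗ₜ[C] (1 : E)) ?_
    rw [hjϖ, Algebra.TensorProduct.tmul_mul_tmul, mul_inv_cancel₀ hπ0, mul_one]
    rfl
  -- Step A
  have stepA : ∀ t : K ⊗[C] E, ∃ n : ℕ, j ϖ ^ n * t ∈ Set.range j := by
    intro t
    induction t using TensorProduct.induction_on with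
    | zero => exact ⟨0, 0, by simp⟩
    | tmul x e =>
      obtain ⟨n, hn⟩ := hπK x
      refine ⟨n, (⟨(π : K) ^ n * x, hn⟩ : V) ⊗ₜ[C] e, ?_⟩
      rw [hjϖ, Algebra.TensorProduct.tmul_pow, one_pow, Algebra.TensorProduct.tmul_mul_tmul, one_mul]
      rfl
    | add a b ha hb =>
      obtain ⟨n, sa, hsa⟩ := ha
      obtain ⟨m, sb, hsb⟩ := hb
      refine ⟨n + m, ϖ ^ m * sa + ϖ ^ n * sb, ?_⟩
      rw [map_add, map_mul, map_mul, map_pow, map_pow, hsa, hsb]
      ring
  -- the quotient map
  let ρ := Algebra.TensorProduct.map q (AlgHom.id C E)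
  have hρker : RingHom.ker ρ = Ideal.span {ϖ} := by
    have h1 := Algebra.TensorProduct.rTensor_ker (R := C) (S := C) (C := E) q hq
    rw [h1, hker, Ideal.map_span, Set.image_singleton]
    rfl
  have hρϖ : ρ ϖ = 0 := by
    have : ϖ ∈ RingHom.ker ρ := by rw [hρker]; exact Ideal.subset_span rfl
    exact this
  -- Step B
  have stepB : ∀ u : K ⊗[C] E, j.toRingHom.IsIntegralElem u → j ϖ * u ∈ Set.range j →
      u ∈ Set.range j := by
    rintro u ⟨p, hp, hpu⟩ ⟨s, hs⟩
    have h1 : eval₂ j.toRingHom (j.toRingHom s) (p.scaleRoots ϖ) = 0 := by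
      have : j.toRingHom s = j.toRingHom ϖ * u := hs
      rw [this, scaleRoots_eval₂_mul, hpu, mul_zero]
    rw [eval₂_at_apply] at h1
    have h2 : eval s (p.scaleRoots ϖ) = 0 := hjinj (by rw [map_zero]; exact h1)
    have h3 : ρ s ^ p.natDegree = 0 := by
      have h4 := congrArg ρ h2
      rw [map_zero, eval_eq_sum_range, natDegree_scaleRoots, map_sum, Finset.sum_range_succ] at h4
      have hzero : ∀ i ∈ Finset.range p.natDegree,
          ρ ((p.scaleRoots ϖ).coeff i * s ^ i) = 0 := by
        intro i hi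
        rw [Finset.mem_range] at hi
        rw [coeff_scaleRoots, map_mul, map_mul, map_pow ρ ϖ, hρϖ,
          zero_pow (Nat.sub_ne_zero_of_lt hi), mul_zero, zero_mul]
      rw [Finset.sum_eq_zero hzero, zero_add] at h4
      have hlead : (p.scaleRoots ϖ).coeff p.natDegree = 1 := by
        have hm : (p.scaleRoots ϖ).Monic := (monic_scaleRoots_iff ϖ).mpr hp
        have := hm.coeff_natDegree
        rwa [natDegree_scaleRoots] at this
      rw [hlead, one_mul, map_pow] at h4
      exact h4
    have h5 : ρ s = 0 := IsReduced.eq_zero _ ⟨_, h3⟩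
    have h6 : s ∈ Ideal.span {ϖ} := by rw [← hρker]; exact h5
    obtain ⟨s', hs'⟩ := Ideal.mem_span_singleton'.mp h6
    refine ⟨s', ?_⟩
    have h7 : j ϖ * j s' = j ϖ * u := by
      rw [← hs, ← hs', map_mul]; ring
    exact hunit.mul_left_cancel h7
  -- Step C
  have stepC : ∀ (n : ℕ) (u : K ⊗[C] E), j.toRingHom.IsIntegralElem u →
      j ϖ ^ n * u ∈ Set.range j → u ∈ Set.range j := by
    intro n
    induction n with
    | zero =>
      intro u _ h
      simpa using h
    | succ n ih =>
      intro u hu h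
      apply stepB u hu
      apply ih (j ϖ * u) (RingHom.IsIntegralElem.mul _ (j.toRingHom.isIntegralElem_map) hu)
      rw [← mul_assoc, ← pow_succ]
      exact h
  obtain ⟨n, hn⟩ := stepA t
  exact stepC n t ht hn

/-- Variant with the quotient `V ⧸ (π)`: `hred` says that base change to `E` preserves
reducedness. -/
theorem mem_range_of_isIntegralElem' {C E K : Type u} [CommRing C] [CommRing E] [Algebra C E]
    [Module.Flat C E] [Field K] [Algebra C K] (V : Subalgebra C K) (π : V) (hπ0 : (π : K) ≠ 0)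
    (hπK : ∀ x : K, ∃ n : ℕ, (π : K) ^ n * x ∈ V)
    (hred : ∀ (Q : Type u) [CommRing Q] [Algebra C Q], IsReduced Q → IsReduced (Q ⊗[C] E))
    (hredV : IsReduced (V ⧸ Ideal.span {π}))
    (t : K ⊗[C] E)
    (ht : (Algebra.TensorProduct.map V.val (AlgHom.id C E)).toRingHom.IsIntegralElem t) :
    t ∈ Set.range (Algebra.TensorProduct.map V.val (AlgHom.id C E)) := by
  have hker : RingHom.ker (Ideal.Quotient.mkₐ C (Ideal.span {π})) = Ideal.span {π} := by
    ext x
    rw [RingHom.mem_ker, Ideal.Quotient.mkₐ_eq_mk, Ideal.Quotient.eq_zero_iff_mem]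
  exact mem_range_of_isIntegralElem V π hπ0 hπK (Ideal.Quotient.mkₐ C (Ideal.span {π}))
    (Ideal.Quotient.mkₐ_surjective C _) hker (hred _ hredV) t ht

end Groth.Agent.Lib.Krull96
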