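import Groth.Agent.Lib.H30NormalEq
import Groth.Agent.S2690
import Groth.Agent.Lib.H14NormalConn
import Mathlib

/-!
# Normality of tensor products over a field (non-Noetherian)

Main results:
* `exists_idem_of_noetherian_normal`: in a Noetherian normal ring annihilators of elements are
  generated by idempotents.
* `isNormalRing_of_integrallyClosedIn` (Lemma X), `mem_range_of_isIntegral_of_normal` (Lemma Y).
* `exists_idem_tensor_field`: same for `K ⊗[k] L`, `K/k` geometrically reduced field extension.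
* `isNormalRing_tensor_of_fractionRings`: `A ⊗ B` normal if `K ⊗ B`, `A ⊗ L`, `K ⊗ L` normal
  (`K = Frac A`, `L = Frac B`) + idempotent condition.
-/

set_option autoImplicit false
universe u
open TensorProduct Polynomial

namespace Groth.Agent.Lib.H30TensorNormal
open Groth.Agent.Lib.H30NormalEq


/-- In a ring all of whose localizations at maximal ideals are domains, two distinct minimal primes
are comaximal. -/
theorem sup_eq_top_of_minimalPrimes {N : Type u} [CommRing N]
    (hloc : ∀ (m : Ideal N) [m.IsMaximal], IsDomain (Localization.AtPrime m))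
    {p q : Ideal N} (hp : p ∈ minimalPrimes N) (hq : q ∈ minimalPrimes N) (hne : p ≠ q) :
    p ⊔ q = ⊤ := by
  by_contra htop
  obtain ⟨m, hm, hle⟩ := Ideal.exists_le_maximal _ htop
  haveI := hloc m
  let 𝔨 : Ideal N := RingHom.ker (algebraMap N (Localization.AtPrime m))
  have h𝔨prime : 𝔨.IsPrime := RingHom.ker_isPrime _
  have key : ∀ r : Ideal N, r ∈ minimalPrimes N → r ≤ m → r = 𝔨 := by
    intro r hr hrm
    have hr' : r.IsPrime := hr.1.1
    have h𝔨r : 𝔨 ≤ r := by
      intro x hx
      rw [RingHom.mem_ker, IsLocalization.map_eq_zero_iff m.primeCompl] at hx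
      obtain ⟨s, hs⟩ := hx
      have : (s : N) * x ∈ r := by rw [hs]; exact r.zero_mem
      rcases hr'.mem_or_mem this with h | h
      · exact absurd (hrm h) s.2
      · exact h
    exact le_antisymm (hr.2 ⟨h𝔨prime, bot_le⟩ h𝔨r) h𝔨r
  exact hne ((key p hp (le_sup_left.trans hle)).trans (key q hq (le_sup_right.trans hle)).symm)

/-- In a reduced ring with finitely many minimal primes, all of whose local rings are domains,
the annihilator of any element is generated by an idempotent. -/
theorem exists_idem_of_finite_minimalPrimes {N : Type u} [CommRing N] [IsReduced N]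
    (hfin : (minimalPrimes N).Finite)
    (hloc : ∀ (m : Ideal N) [m.IsMaximal], IsDomain (Localization.AtPrime m)) (b : N) :
    ∃ e : N, e * e = e ∧ e * b = 0 ∧ ∀ t, (b + e) * t = 0 → t = 0 := by
  classical
  haveI : Finite ↥(minimalPrimes N) := hfin.to_subtype
  have hcop : Pairwise (Function.onFun IsCoprime fun i : ↥(minimalPrimes N) => (i : Ideal N)) := by
    intro i j hij
    show IsCoprime (i : Ideal N) (j : Ideal N)
    rw [Ideal.isCoprime_iff_sup_eq]
    exact sup_eq_top_of_minimalPrimes hloc i.2 j.2 (fun h => hij (Subtype.ext h))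
  obtain ⟨e, he⟩ := Ideal.exists_forall_sub_mem_ideal hcop
    (fun i => if b ∈ (i : Ideal N) then 1 else 0)
  have hzero : ∀ x : N, (∀ i : ↥(minimalPrimes N), x ∈ (i : Ideal N)) → x = 0 := by
    intro x hx
    have h1 : x ∈ sInf (minimalPrimes N) := by
      rw [Ideal.mem_sInf]
      intro p hp
      exact hx ⟨p, hp⟩
    have h2 : sInf (minimalPrimes N) = (⊥ : Ideal N) := by
      rw [minimalPrimes, Ideal.sInf_minimalPrimes]
      exact nilradical_eq_zero N
    rw [h2] at h1
    exact h1
  have hprime : ∀ i : ↥(minimalPrimes N), (i : Ideal N).IsPrime := fun i => i.2.1.1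
  -- e ≡ 1 mod i if b ∈ i, e ≡ 0 otherwise
  have he1 : ∀ i : ↥(minimalPrimes N), b ∈ (i : Ideal N) → e - 1 ∈ (i : Ideal N) := by
    intro i hi
    have := he i
    rwa [if_pos hi] at this
  have he0 : ∀ i : ↥(minimalPrimes N), b ∉ (i : Ideal N) → e ∈ (i : Ideal N) := by
    intro i hi
    have := he i
    rwa [if_neg hi, sub_zero] at this
  refine ⟨e, ?_, ?_, ?_⟩
  · have : e * e - e = 0 := by
      apply hzero
      intro i
      by_cases hi : b ∈ (i : Ideal N)
      · have : e * e - e = e * (e - 1) := by ring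
        rw [this]
        exact Ideal.mul_mem_left _ _ (he1 i hi)
      · have : e * e - e = (e - 1) * e := by ring
        rw [this]
        exact Ideal.mul_mem_left _ _ (he0 i hi)
    exact sub_eq_zero.mp this
  · apply hzero
    intro i
    by_cases hi : b ∈ (i : Ideal N)
    · exact Ideal.mul_mem_left _ _ hi
    · exact Ideal.mul_mem_right _ _ (he0 i hi)
  · intro t ht
    apply hzero
    intro i
    haveI := hprime i
    by_cases hi : b ∈ (i : Ideal N)
    · -- b + e ≡ 1
      have h1 : (b + e) * t ∈ (i : Ideal N) := by rw [ht]; exact Ideal.zero_mem _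
      have h2 : (b + e) * t = t + (b + (e - 1)) * t := by ring
      rw [h2] at h1
      have h3 : (b + (e - 1)) * t ∈ (i : Ideal N) :=
        Ideal.mul_mem_right _ _ (Ideal.add_mem _ hi (he1 i hi))
      exact (Ideal.add_mem_iff_left _ h3).mp h1
    · have h1 : (b + e) * t ∈ (i : Ideal N) := by rw [ht]; exact Ideal.zero_mem _
      have h2 : (b + e) * t = b * t + e * t := by ring
      rw [h2] at h1
      have h3 : e * t ∈ (i : Ideal N) := Ideal.mul_mem_right _ _ (he0 i hi)
      have h4 : b * t ∈ (i : Ideal N) := (Ideal.add_mem_iff_left _ h3).mp h1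
      rcases (hprime i).mem_or_mem h4 with h | h
      · exact absurd h hi
      · exact h

theorem isReduced_of_isNormalRing {N : Type u} [CommRing N] (hN : EGA4.IsNormalRing N) :
    IsReduced N :=
  isReduced_ofLocalizationMaximal N (fun J hJ => by
    haveI := hJ
    haveI := (hN J).1
    infer_instance)

theorem exists_idem_of_noetherian_normal {N : Type u} [CommRing N] [IsNoetherianRing N]
    (hN : EGA4.IsNormalRing N) (b : N) :
    ∃ e : N, e * e = e ∧ e * b = 0 ∧ ∀ t, (b + e) * t = 0 → t = 0 := by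
  haveI := isReduced_of_isNormalRing hN
  exact exists_idem_of_finite_minimalPrimes (minimalPrimes.finite_of_isNoetherianRing N)
    (fun m _ => (hN m).1) b



/-- If `b t = 0 → e t = t` for all `t` (with `e` idempotent, `f = 1 - e`), then `b ^ n * t = 0`
implies `f * t = 0`. -/
theorem mul_eq_zero_of_pow_mul_eq_zero {T : Type*} [CommRing T] (b e : T) (he : e * e = e)
    (hann : ∀ t, b * t = 0 → e * t = t) (n : ℕ) (t : T) (h : b ^ n * t = 0) :
    (1 - e) * t = 0 := by
  induction n generalizing t with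
  | zero => rw [pow_zero, one_mul] at h; rw [h, mul_zero]
  | succ n ih =>
    have h1 : b * (b ^ n * t) = 0 := by rw [← mul_assoc, ← pow_succ']; exact h
    have h2 := hann _ h1
    have h3 : b ^ n * ((1 - e) * t) = 0 := by
      have : b ^ n * ((1 - e) * t) = b ^ n * t - e * (b ^ n * t) := by ring
      rw [this, h2, sub_self]
    have h4 := ih _ h3
    have h5 : (1 - e) * ((1 - e) * t) = (1 - e) * t := by
      have : (1 - e) * ((1 - e) * t) = (1 - e) * t - (e - e * e) * t := by ring
      rw [this, he, sub_self, zero_mul, sub_zero]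
    rw [← h5]; exact h4

/-- **Lemma X**: a subring `R` of a normal ring `T`, integrally closed in `T`, such that annihilators
in `T` of elements of `R` are generated by idempotents, is normal. -/
theorem isNormalRing_of_integrallyClosedIn {R T : Type u} [CommRing R] [CommRing T]
    (φ : R →+* T) (hφ : Function.Injective φ) (hT : EGA4.IsNormalRing T)
    (hint : ∀ (t : T) (p : R[X]), p.Monic → eval₂ φ t p = 0 → t ∈ Set.range φ)
    (hidem : ∀ b : R, ∃ e : T, e * e = e ∧ e * φ b = 0 ∧ ∀ t, φ b * t = 0 → e * t = t) :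
    EGA4.IsNormalRing R := by
  have hidemR : ∀ e : T, e * e = e → e ∈ Set.range φ := by
    intro e he
    apply hint e (X * (X - C 1)) (monic_X.mul (monic_X_sub_C 1))
    rw [eval₂_mul, eval₂_X, eval₂_sub, eval₂_X, eval₂_C, map_one, mul_sub, he, mul_one, sub_self]
  apply isNormalRing_of_eq
  · intro a b hab
    obtain ⟨e, he, heb, hann⟩ := hidem b
    obtain ⟨e₀, rfl⟩ := hidemR e he
    refine ⟨1 - e₀, e₀, ?_, ?_, by ring⟩
    · apply hφ
      have h1 : φ e₀ * φ a = φ a := hann _ (by rw [← map_mul, mul_comm, hab, map_zero])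
      rw [map_mul, map_sub, map_one, sub_mul, one_mul, h1, sub_self, map_zero]
    · apply hφ
      rw [map_mul, heb, map_zero]
  · intro p a b hp hE
    rcases subsingleton_or_nontrivial T with hs | hn
    · have : Subsingleton R := hφ.subsingleton
      exact ⟨0, 0, 0, Subsingleton.elim _ _, Subsingleton.elim _ _, Subsingleton.elim _ _⟩
    obtain ⟨e, he, heb, hann⟩ := hidem b
    obtain ⟨e₀, rfl⟩ := hidemR e he
    have hE' : eval (φ a) (scaleRoots (p.map φ) (φ b)) = 0 := by
      rw [← map_eval_scaleRoots φ p hp, hE, map_zero]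
    obtain ⟨u', w', y', hu', hw', huw'⟩ :=
      locIntClosedEq_of_isNormalRing T hT (p.map φ) (φ a) (φ b) (hp.map φ) hE'
    set f : T := 1 - φ e₀ with hf
    have hfu : f * u' = 0 := by
      have := hann u' (by rw [mul_comm]; exact hu')
      rw [hf, sub_mul, one_mul, this, sub_self]
    have hfw : f * w' = f := by
      have h1 : f * (u' + w') = f := by rw [huw', mul_one]
      rw [mul_add, hfu, zero_add] at h1
      exact h1
    have hfb : f * φ b = φ b := by rw [hf, sub_mul, one_mul, heb, sub_zero]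
    have hff : f * f = f := by
      rw [hf]
      have : (1 - φ e₀) * (1 - φ e₀) = 1 - φ e₀ - (φ e₀ - φ e₀ * φ e₀) := by ring
      rw [this, he, sub_self, sub_zero]
    set y : T := f * y' with hy
    have hby : φ b * y = f * φ a := by
      rw [hy, ← mul_assoc, mul_comm (φ b) f, mul_assoc, ← hw', ← mul_assoc, hfw]
    -- `y` is integral over `R`
    have hEy : φ b ^ (p.map φ).natDegree * eval y (p.map φ) = 0 := by
      rw [← scaleRoots_eval_mul, hby, ← hfb, eval_scaleRoots_mul_mul, hE', mul_zero]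
    have hfy : f * eval y (p.map φ) = 0 :=
      mul_eq_zero_of_pow_mul_eq_zero (φ b) (φ e₀) he hann _ _ hEy
    have hyint : eval₂ φ y (p * X) = 0 := by
      rw [eval₂_mul, eval₂_X, ← eval_map]
      calc eval y (p.map φ) * y = (f * eval y (p.map φ)) * y' := by rw [hy]; ring
        _ = 0 := by rw [hfy, zero_mul]
    obtain ⟨y₀, hy₀⟩ := hint y (p * X) (hp.mul monic_X) hyint
    refine ⟨e₀, 1 - e₀, y₀, ?_, ?_, by ring⟩
    · apply hφ
      rw [map_mul, heb, map_zero]
    · apply hφ
      rw [map_mul, map_mul, map_sub, map_one, hy₀, hby]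



/-- **Lemma Y**: a normal ring is integrally closed in any overring in which every element has a
"denominator" which is a nonzerodivisor. -/
theorem mem_range_of_isIntegral_of_normal {R T : Type u} [CommRing R] [CommRing T]
    (φ : R →+* T) (hφ : Function.Injective φ) (hR : EGA4.IsNormalRing R)
    (hden : ∀ t : T, ∃ s : R, (∀ t', φ s * t' = 0 → t' = 0) ∧ φ s * t ∈ Set.range φ)
    (t : T) (p : R[X]) (hp : p.Monic) (hpt : eval₂ φ t p = 0) : t ∈ Set.range φ := by
  obtain ⟨s, hs, a, ha⟩ := hden t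
  have hE : eval a (scaleRoots p s) = 0 := by
    apply hφ
    rw [map_zero, ← eval₂_at_apply, ha, scaleRoots_eval₂_mul, hpt, mul_zero]
  obtain ⟨u, w, y, hu, hw, huw⟩ := locIntClosedEq_of_isNormalRing R hR p a s hp hE
  have hu0 : u = 0 := by
    apply hφ
    rw [map_zero]
    apply hs
    rw [← map_mul, mul_comm, hu, map_zero]
  have hw1 : w = 1 := by rw [← huw, hu0, zero_add]
  rw [hw1, one_mul] at hw
  refine ⟨y, ?_⟩
  have h1 : φ s * (φ y - t) = 0 := by
    rw [mul_sub, ← map_mul, ← hw, ha, sub_self]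
  exact sub_eq_zero.mp (hs _ h1)



/-- `(K ⊗ B) ∩ (A ⊗ L) = A ⊗ B` inside `K ⊗ L`, over a field. -/
theorem mem_range_map_of_mem_range_lTensor_rTensor {k : Type*} [Field k]
    {A B K L : Type*} [AddCommGroup A] [AddCommGroup B] [AddCommGroup K] [AddCommGroup L]
    [Module k A] [Module k B] [Module k K] [Module k L]
    (i : A →ₗ[k] K) (hi : Function.Injective i) (j : B →ₗ[k] L)
    (t : K ⊗[k] L) (h1 : t ∈ LinearMap.range (LinearMap.lTensor K j))
    (h2 : t ∈ LinearMap.range (LinearMap.rTensor L i)) :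
    t ∈ LinearMap.range (TensorProduct.map i j) := by
  obtain ⟨π, hπ⟩ := LinearMap.exists_leftInverse_of_injective i (LinearMap.ker_eq_bot.mpr hi)
  obtain ⟨r₁, rfl⟩ := h1
  obtain ⟨r₂, hr₂⟩ := h2
  have h3 : LinearMap.rTensor L π (LinearMap.rTensor L i r₂) = r₂ := by
    rw [← LinearMap.rTensor_comp_apply, hπ, LinearMap.rTensor_id_apply]
  have h4 : LinearMap.rTensor L π (LinearMap.lTensor K j r₁) =
      LinearMap.lTensor A j (LinearMap.rTensor B π r₁) := by
    rw [← LinearMap.comp_apply, ← LinearMap.comp_apply, LinearMap.rTensor_comp_lTensor,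
      LinearMap.lTensor_comp_rTensor]
  refine ⟨LinearMap.rTensor B π r₁, ?_⟩
  have h5 : r₂ = LinearMap.lTensor A j (LinearMap.rTensor B π r₁) := by
    rw [← h3, hr₂, h4]
  rw [← hr₂, h5, ← LinearMap.rTensor_comp_lTensor, LinearMap.comp_apply]



/-- A nonzerodivisor of `C ⊗[k] L` stays a nonzerodivisor in `K ⊗[k] L` when `K` is flat over
`C`. -/
theorem nonZeroDivisor_map_of_flat (k C K L : Type*) [CommRing k] [CommRing C] [CommRing K]
    [CommRing L] [Algebra k C] [Algebra k K] [Algebra C K] [IsScalarTower k C K] [Algebra k L]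
    [Module.Flat C K] (x₀ : C ⊗[k] L) (hx₀ : ∀ n, x₀ * n = 0 → n = 0)
    (t : K ⊗[k] L)
    (ht : Algebra.TensorProduct.map (IsScalarTower.toAlgHom k C K) (AlgHom.id k L) x₀ * t = 0) :
    t = 0 := by
  let Φ := Algebra.TensorProduct.cancelBaseChange k C C K L
  have hA : ∀ n : C ⊗[k] L, Φ ((1 : K) ⊗ₜ[C] n) =
      Algebra.TensorProduct.map (IsScalarTower.toAlgHom k C K) (AlgHom.id k L) n := by
    intro n
    induction n using TensorProduct.induction_on with
    | zero => simp
    | tmul c l =>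
      rw [Algebra.TensorProduct.cancelBaseChange_tmul, Algebra.TensorProduct.map_tmul]
      simp [Algebra.smul_def]
    | add x y hx hy => rw [TensorProduct.tmul_add, map_add, hx, hy, map_add]
  have hinj : Function.Injective (LinearMap.lTensor K (LinearMap.mulLeft C x₀)) := by
    apply Module.Flat.lTensor_preserves_injective_linearMap
    intro a b hab
    have : x₀ * (a - b) = 0 := by
      rw [mul_sub]
      exact sub_eq_zero.mpr hab
    exact sub_eq_zero.mp (hx₀ _ this)
  have hB : ∀ y : K ⊗[C] (C ⊗[k] L), ((1 : K) ⊗ₜ[C] x₀) * y =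
      LinearMap.lTensor K (LinearMap.mulLeft C x₀) y := by
    intro y
    induction y using TensorProduct.induction_on with
    | zero => simp
    | tmul x n =>
      rw [Algebra.TensorProduct.tmul_mul_tmul, one_mul, LinearMap.lTensor_tmul,
        LinearMap.mulLeft_apply]
    | add x y hx hy => rw [mul_add, hx, hy, map_add]
  obtain ⟨y, rfl⟩ := Φ.surjective t
  rw [← hA, ← map_mul, hB] at ht
  have h0 : LinearMap.lTensor K (LinearMap.mulLeft C x₀) y = 0 :=
    Φ.injective (by rw [ht, map_zero])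
  have : y = 0 := hinj (by rw [h0, map_zero])
  rw [this, map_zero]



theorem isNormalRing_of_field (L : Type u) [Field L] : EGA4.IsNormalRing L :=
  Groth.Agent.Lib.H14NormalConn.isNormalRing_of_isIntegrallyClosed L

theorem flat_of_injective_to_field (C K : Type*) [CommRing C] [Field K] [Algebra C K]
    (h : Function.Injective (algebraMap C K)) : Module.Flat C K := by
  haveI : FaithfulSMul C K := (faithfulSMul_iff_algebraMap_injective _ _).mpr h
  haveI : IsDomain C := Function.Injective.isDomain (algebraMap C K) h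
  letI := FractionRing.liftAlgebra C K
  haveI : Module.Free (FractionRing C) K := Module.Free.of_divisionRing _ _
  haveI : Module.Flat (FractionRing C) K := Module.Flat.of_free
  exact Module.Flat.trans C (FractionRing C) K

theorem exists_idem_of_approx (k C K L : Type u) [Field k] [CommRing C] [Field K] [Field L]
    [Algebra k C] [Algebra k K] [Algebra k L] (ψ : C →ₐ[k] K) (hψ : Function.Injective ψ)
    [IsNoetherianRing (C ⊗[k] L)] (hN : EGA4.IsNormalRing (C ⊗[k] L)) (b₀ : C ⊗[k] L) :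
    ∃ e : K ⊗[k] L, e * e = e ∧ e * (Algebra.TensorProduct.map ψ (AlgHom.id k L) b₀) = 0 ∧
      ∀ t, (Algebra.TensorProduct.map ψ (AlgHom.id k L) b₀) * t = 0 → e * t = t := by
  obtain ⟨e₀, he₀, heb₀, hnzd⟩ := exists_idem_of_noetherian_normal hN b₀
  letI : Algebra C K := ψ.toRingHom.toAlgebra
  haveI : IsScalarTower k C K :=
    IsScalarTower.of_algebraMap_eq (fun x => (ψ.commutes x).symm)
  haveI : Module.Flat C K := flat_of_injective_to_field C K hψ
  have hψ' : IsScalarTower.toAlgHom k C K = ψ := by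
    ext x; rfl
  set Ψ := Algebra.TensorProduct.map ψ (AlgHom.id k L) with hΨ
  have he' : Ψ e₀ * Ψ e₀ = Ψ e₀ := by rw [← map_mul, he₀]
  have heb' : Ψ e₀ * Ψ b₀ = 0 := by rw [← map_mul, heb₀, map_zero]
  refine ⟨Ψ e₀, he', heb', ?_⟩
  intro t ht
  have h1 : Ψ (b₀ + e₀) * ((1 - Ψ e₀) * t) = 0 := by
    rw [map_add]
    calc (Ψ b₀ + Ψ e₀) * ((1 - Ψ e₀) * t)
        = (1 - Ψ e₀) * (Ψ b₀ * t) + (Ψ e₀ - Ψ e₀ * Ψ e₀) * t := by ring
      _ = 0 := by rw [ht, he', sub_self, mul_zero, zero_mul, add_zero]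
  rw [hΨ, ← hψ'] at h1
  have h2 := nonZeroDivisor_map_of_flat k C K L (b₀ + e₀) hnzd _ h1
  have h3 : t - Ψ e₀ * t = 0 := by
    rw [hΨ, ← hψ', ← h2]; ring
  exact (sub_eq_zero.mp h3).symm

open Groth.Agent.S2690 in
/-- For `K/k` geometrically reduced and any field `L/k`, annihilators of elements in `K ⊗[k] L`
are generated by idempotents. -/
theorem exists_idem_tensor_field (k K L : Type u) [Field k] [Field K] [Field L] [Algebra k K]
    [Algebra k L] [Algebra.IsGeometricallyReduced k K] (b : K ⊗[k] L) :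
    ∃ e : K ⊗[k] L, e * e = e ∧ e * b = 0 ∧ ∀ t, b * t = 0 → e * t = t := by
  classical
  obtain ⟨j, hj⟩ := exists_idx_range (k := k) (k' := K) L {b}
  obtain ⟨b₀, hb₀⟩ : b ∈ Set.range (j.φ L) := hj (by simp)
  have hsm := j.smooth
  have hfp : Algebra.FinitePresentation k (Localization.Away j.g) := hsm.2
  have hnoeth' : IsNoetherianRing (L ⊗[k] Localization.Away j.g) :=
    Algebra.FiniteType.isNoetherianRing L _
  have hnoeth : IsNoetherianRing (Localization.Away j.g ⊗[k] L) :=
    isNoetherianRing_of_ringEquiv _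
      (Algebra.TensorProduct.comm k L (Localization.Away j.g)).toRingEquiv
  obtain ⟨e, he, heb, hann⟩ := exists_idem_of_approx k (Localization.Away j.g) K L j.toField
    j.toField_injective (j.isNormalRing L (isNormalRing_of_field L)) b₀
  have : Algebra.TensorProduct.map j.toField (AlgHom.id k L) b₀ = b := hb₀
  rw [this] at heb hann
  exact ⟨e, he, heb, hann⟩



section den

variable (k K B L : Type*) [Field k] [CommRing K] [CommRing B] [Field L] [Algebra k K]
  [Algebra k B] [Algebra k L] [Algebra B L] [IsScalarTower k B L] [IsFractionRing B L]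

theorem exists_den_right (t : K ⊗[k] L) :
    ∃ s : B, s ≠ 0 ∧ ((1 : K) ⊗ₜ[k] algebraMap B L s) * t ∈
      (Algebra.TensorProduct.map (AlgHom.id k K) (IsScalarTower.toAlgHom k B L)).range := by
  haveI : IsDomain B := Function.Injective.isDomain (algebraMap B L) (IsFractionRing.injective B L)
  have hmem : ∀ (x : K) (b : B), x ⊗ₜ[k] algebraMap B L b ∈
      (Algebra.TensorProduct.map (AlgHom.id k K) (IsScalarTower.toAlgHom k B L)).range :=
    fun x b => ⟨x ⊗ₜ b, by simp⟩
  induction t using TensorProduct.induction_on with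
  | zero => exact ⟨1, one_ne_zero, by rw [mul_zero]; exact Subalgebra.zero_mem _⟩
  | tmul x l =>
    obtain ⟨⟨b, s⟩, h⟩ := IsLocalization.surj (nonZeroDivisors B) l
    refine ⟨s, nonZeroDivisors.ne_zero s.2, ?_⟩
    rw [Algebra.TensorProduct.tmul_mul_tmul, one_mul, mul_comm, h]
    exact hmem x b
  | add t₁ t₂ h₁ h₂ =>
    obtain ⟨s₁, hs₁, hm₁⟩ := h₁
    obtain ⟨s₂, hs₂, hm₂⟩ := h₂
    refine ⟨s₁ * s₂, mul_ne_zero hs₁ hs₂, ?_⟩
    have : ((1 : K) ⊗ₜ[k] algebraMap B L (s₁ * s₂)) * (t₁ + t₂) =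
        ((1 : K) ⊗ₜ[k] algebraMap B L s₂) * (((1 : K) ⊗ₜ[k] algebraMap B L s₁) * t₁) +
        ((1 : K) ⊗ₜ[k] algebraMap B L s₁) * (((1 : K) ⊗ₜ[k] algebraMap B L s₂) * t₂) := by
      have : (1 : K) ⊗ₜ[k] algebraMap B L (s₁ * s₂) =
          ((1 : K) ⊗ₜ[k] algebraMap B L s₁) * ((1 : K) ⊗ₜ[k] algebraMap B L s₂) := by
        rw [Algebra.TensorProduct.tmul_mul_tmul, one_mul, map_mul]
      rw [this]; ring
    rw [this]
    exact Subalgebra.add_mem _ (Subalgebra.mul_mem _ (hmem 1 s₂) hm₁)
      (Subalgebra.mul_mem _ (hmem 1 s₁) hm₂)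

omit [Algebra k B] [IsScalarTower k B L] in
theorem isUnit_one_tmul (s : B) (hs : s ≠ 0) : IsUnit ((1 : K) ⊗ₜ[k] algebraMap B L s) := by
  have h0 : algebraMap B L s ≠ 0 := by
    intro h
    exact hs ((map_eq_zero_iff _ (IsFractionRing.injective B L)).mp h)
  refine IsUnit.of_mul_eq_one ((1 : K) ⊗ₜ[k] (algebraMap B L s)⁻¹) ?_
  rw [Algebra.TensorProduct.tmul_mul_tmul, one_mul, mul_inv_cancel₀ h0]
  rfl

end den

section den2

variable (k A K L : Type*) [Field k] [CommRing A] [Field K] [CommRing L] [Algebra k A]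
  [Algebra k K] [Algebra k L] [Algebra A K] [IsScalarTower k A K] [IsFractionRing A K]

theorem exists_den_left (t : K ⊗[k] L) :
    ∃ s : A, s ≠ 0 ∧ (algebraMap A K s ⊗ₜ[k] (1 : L)) * t ∈
      (Algebra.TensorProduct.map (IsScalarTower.toAlgHom k A K) (AlgHom.id k L)).range := by
  haveI : IsDomain A := Function.Injective.isDomain (algebraMap A K) (IsFractionRing.injective A K)
  have hmem : ∀ (a : A) (l : L), algebraMap A K a ⊗ₜ[k] l ∈
      (Algebra.TensorProduct.map (IsScalarTower.toAlgHom k A K) (AlgHom.id k L)).range :=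
    fun a l => ⟨a ⊗ₜ l, by simp⟩
  induction t using TensorProduct.induction_on with
  | zero => exact ⟨1, one_ne_zero, by rw [mul_zero]; exact Subalgebra.zero_mem _⟩
  | tmul x l =>
    obtain ⟨⟨a, s⟩, h⟩ := IsLocalization.surj (nonZeroDivisors A) x
    refine ⟨s, nonZeroDivisors.ne_zero s.2, ?_⟩
    rw [Algebra.TensorProduct.tmul_mul_tmul, one_mul, mul_comm, h]
    exact hmem a l
  | add t₁ t₂ h₁ h₂ =>
    obtain ⟨s₁, hs₁, hm₁⟩ := h₁
    obtain ⟨s₂, hs₂, hm₂⟩ := h₂
    refine ⟨s₁ * s₂, mul_ne_zero hs₁ hs₂, ?_⟩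
    have : (algebraMap A K (s₁ * s₂) ⊗ₜ[k] (1 : L)) * (t₁ + t₂) =
        (algebraMap A K s₂ ⊗ₜ[k] (1 : L)) * ((algebraMap A K s₁ ⊗ₜ[k] (1 : L)) * t₁) +
        (algebraMap A K s₁ ⊗ₜ[k] (1 : L)) * ((algebraMap A K s₂ ⊗ₜ[k] (1 : L)) * t₂) := by
      have : algebraMap A K (s₁ * s₂) ⊗ₜ[k] (1 : L) =
          (algebraMap A K s₁ ⊗ₜ[k] (1 : L)) * (algebraMap A K s₂ ⊗ₜ[k] (1 : L)) := by
        rw [Algebra.TensorProduct.tmul_mul_tmul, one_mul, map_mul]
      rw [this]; ring
    rw [this]
    exact Subalgebra.add_mem _ (Subalgebra.mul_mem _ (hmem s₂ 1) hm₁)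
      (Subalgebra.mul_mem _ (hmem s₁ 1) hm₂)

omit [Algebra k A] [IsScalarTower k A K] in
theorem isUnit_tmul_one (s : A) (hs : s ≠ 0) : IsUnit (algebraMap A K s ⊗ₜ[k] (1 : L)) := by
  have h0 : algebraMap A K s ≠ 0 := by
    intro h
    exact hs ((map_eq_zero_iff _ (IsFractionRing.injective A K)).mp h)
  refine IsUnit.of_mul_eq_one ((algebraMap A K s)⁻¹ ⊗ₜ[k] (1 : L)) ?_
  rw [Algebra.TensorProduct.tmul_mul_tmul, one_mul, mul_inv_cancel₀ h0]
  rfl

end den2

section main

variable (k A B K L : Type u) [Field k] [CommRing A] [CommRing B] [Field K] [Field L]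
  [Algebra k A] [Algebra k B] [Algebra k K] [Algebra k L] [Algebra A K] [Algebra B L]
  [IsScalarTower k A K] [IsScalarTower k B L] [IsFractionRing A K] [IsFractionRing B L]

/-- **Main theorem**: `A ⊗ B` is normal as soon as `K ⊗ B`, `A ⊗ L`, `K ⊗ L` are, and annihilators
in `K ⊗ L` are generated by idempotents. -/
theorem isNormalRing_tensor_of_fractionRings
    (h1 : EGA4.IsNormalRing (K ⊗[k] B)) (h2 : EGA4.IsNormalRing (A ⊗[k] L))
    (hT : EGA4.IsNormalRing (K ⊗[k] L))
    (hidem : ∀ b : K ⊗[k] L, ∃ e : K ⊗[k] L, e * e = e ∧ e * b = 0 ∧ ∀ t, b * t = 0 → e * t = t) :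
    EGA4.IsNormalRing (A ⊗[k] B) := by
  let iA : A →ₐ[k] K := IsScalarTower.toAlgHom k A K
  let jB : B →ₐ[k] L := IsScalarTower.toAlgHom k B L
  have hiA : Function.Injective iA := IsFractionRing.injective A K
  have hjB : Function.Injective jB := IsFractionRing.injective B L
  let φ : A ⊗[k] B →ₐ[k] K ⊗[k] L := Algebra.TensorProduct.map iA jB
  let φ₁ : K ⊗[k] B →ₐ[k] K ⊗[k] L := Algebra.TensorProduct.map (AlgHom.id k K) jB
  let φ₂ : A ⊗[k] L →ₐ[k] K ⊗[k] L := Algebra.TensorProduct.map iA (AlgHom.id k L)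
  let ι₁ : A ⊗[k] B →ₐ[k] K ⊗[k] B := Algebra.TensorProduct.map iA (AlgHom.id k B)
  let ι₂ : A ⊗[k] B →ₐ[k] A ⊗[k] L := Algebra.TensorProduct.map (AlgHom.id k A) jB
  have hc₁ : φ₁.comp ι₁ = φ := by
    ext <;> simp [φ, φ₁, ι₁]
  have hc₂ : φ₂.comp ι₂ = φ := by
    ext <;> simp [φ, φ₂, ι₂]
  have hφ : Function.Injective φ :=
    TensorProduct.map_injective_of_flat_flat iA.toLinearMap jB.toLinearMap hiA hjB
  have hφ₁ : Function.Injective φ₁ :=
    Module.Flat.lTensor_preserves_injective_linearMap (M := K) jB.toLinearMap hjB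
  have hφ₂ : Function.Injective φ₂ :=
    Module.Flat.rTensor_preserves_injective_linearMap (M := L) iA.toLinearMap hiA
  refine isNormalRing_of_integrallyClosedIn φ.toRingHom hφ hT ?_ (fun b => hidem (φ b))
  intro t p hp hpt
  have ht₁ : t ∈ Set.range φ₁.toRingHom := by
    refine mem_range_of_isIntegral_of_normal φ₁.toRingHom hφ₁ h1 ?_ t (p.map ι₁.toRingHom)
      (hp.map _) ?_
    · intro t
      obtain ⟨s, hs, hm⟩ := exists_den_right k K B L t
      refine ⟨(1 : K) ⊗ₜ[k] s, ?_, ?_⟩
      · intro t' ht'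
        have hu : IsUnit (φ₁.toRingHom ((1 : K) ⊗ₜ[k] s)) := by
          have : φ₁.toRingHom ((1 : K) ⊗ₜ[k] s) = (1 : K) ⊗ₜ[k] algebraMap B L s := by
            simp [φ₁, jB]
          rw [this]
          exact isUnit_one_tmul k K B L s hs
        exact (hu.mul_right_eq_zero).mp ht'
      · have : φ₁.toRingHom ((1 : K) ⊗ₜ[k] s) = (1 : K) ⊗ₜ[k] algebraMap B L s := by
          simp [φ₁, jB]
        rw [this]
        exact hm
    · rw [eval₂_map]
      have : φ₁.toRingHom.comp ι₁.toRingHom = φ.toRingHom := by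
        rw [← hc₁]; rfl
      rw [this]; exact hpt
  have ht₂ : t ∈ Set.range φ₂.toRingHom := by
    refine mem_range_of_isIntegral_of_normal φ₂.toRingHom hφ₂ h2 ?_ t (p.map ι₂.toRingHom)
      (hp.map _) ?_
    · intro t
      obtain ⟨s, hs, hm⟩ := exists_den_left k A K L t
      refine ⟨s ⊗ₜ[k] (1 : L), ?_, ?_⟩
      · intro t' ht'
        have hu : IsUnit (φ₂.toRingHom (s ⊗ₜ[k] (1 : L))) := by
          have : φ₂.toRingHom (s ⊗ₜ[k] (1 : L)) = algebraMap A K s ⊗ₜ[k] (1 : L) := by
            simp [φ₂, iA]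
          rw [this]
          exact isUnit_tmul_one k A K L s hs
        exact (hu.mul_right_eq_zero).mp ht'
      · have : φ₂.toRingHom (s ⊗ₜ[k] (1 : L)) = algebraMap A K s ⊗ₜ[k] (1 : L) := by
          simp [φ₂, iA]
        rw [this]
        exact hm
    · rw [eval₂_map]
      have : φ₂.toRingHom.comp ι₂.toRingHom = φ.toRingHom := by
        rw [← hc₂]; rfl
      rw [this]; exact hpt
  obtain ⟨r₁, hr₁⟩ := ht₁
  obtain ⟨r₂, hr₂⟩ := ht₂
  obtain ⟨r, hr⟩ := mem_range_map_of_mem_range_lTensor_rTensor iA.toLinearMap hiA jB.toLinearMap t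
    ⟨r₁, hr₁⟩ ⟨r₂, hr₂⟩
  exact ⟨r, hr⟩

end main


end Groth.Agent.Lib.H30TensorNormal
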