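import Groth.Agent.S12124
import Groth.Agent.Lib.Krull96H
import Groth.Agent.Lib.Krull96I
import Groth.Agent.Lib.H30NormalHom
import Groth.Agent.Lib.H30TensorNormal

/-!
# EGA IV 6.14.1, core case

`C` a Noetherian local domain, `C → E` a normal homomorphism with `E` Noetherian, `C'` the
integral closure of `C` in its fraction field: then `C' ⊗_C E` is a normal ring.
-/

set_option autoImplicit false
set_option linter.style.haveILetI false
universe u

open TensorProduct Polynomial

namespace Groth.Agent.Lib.Krull96

theorem map_val_apply_eq_rTensor {C : Type*} [CommRing C] {E : Type*} [CommRing E] [Algebra C E]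
    {K : Type*} [CommRing K] [Algebra C K] (V : Subalgebra C K) (s : V ⊗[C] E) :
    Algebra.TensorProduct.map V.val (AlgHom.id C E) s =
      ((Subalgebra.toSubmodule V).subtype.rTensor E) s := by
  induction s using TensorProduct.induction_on with
  | zero => simp
  | tmul x y => rfl
  | add a b ha hb => rw [map_add, map_add, ha, hb]

/-- The identity ring isomorphism between a subalgebra with the carrier of a valuation subring and
that valuation subring. -/
def subalgEquiv {C K : Type*} [CommRing C] [Field K] [Algebra C K] (V : ValuationSubring K)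
    (W : Subalgebra C K) (h : ∀ x : K, x ∈ W ↔ x ∈ V) : W ≃+* V where
  toFun x := ⟨x.1, (h _).mp x.2⟩
  invFun x := ⟨x.1, (h _).mpr x.2⟩
  left_inv _ := rfl
  right_inv _ := rfl
  map_mul' _ _ := rfl
  map_add' _ _ := rfl

theorem isNormalRing_integralClosure_tensor
    {C E : Type u} [CommRing C] [IsDomain C] [IsNoetherianRing C] [IsLocalRing C]
    [CommRing E] [IsNoetherianRing E] [Algebra C E] (h : EGA4.IsNormalHom C E) :
    EGA4.IsNormalRing (integralClosure C (FractionRing C) ⊗[C] E) := by
  classical
  haveI hflat : Module.Flat C E := h.1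
  obtain ⟨C₁, hfin, ha, hb, hc⟩ := Groth.Agent.S12124.result (A := C)
  haveI := hfin
  haveI : Algebra.IsIntegral C C₁ := Algebra.IsIntegral.of_finite C C₁
  -- the family of valuation rings
  have ha' : ∀ i : {p : Ideal C₁ // p.IsPrime ∧ p.height = 1},
      ∃ V : ValuationSubring (FractionRing C), IsDiscreteValuationRing V ∧
        ∀ x : FractionRing C, x ∈ V ↔
          ∃ s : C₁, s ∉ i.1 ∧ IsIntegral C₁ ((s : FractionRing C) * x) := by
    intro i
    haveI := i.2.1
    exact ha i.1 i.2.2
  choose Vv hVdvr hVmem using ha'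
  have hmemV : ∀ i (x : FractionRing C), IsIntegral C x → x ∈ Vv i := by
    intro i x hx
    haveI := i.2.1
    refine (hVmem i x).mpr ⟨1, fun h1 => i.2.1.ne_top ((Ideal.eq_top_iff_one _).mpr h1), ?_⟩
    have : ((1 : C₁) : FractionRing C) * x = x := by simp
    rw [this]
    exact hx.tower_top
  let Vsub : {p : Ideal C₁ // p.IsPrime ∧ p.height = 1} → Subalgebra C (FractionRing C) := fun i =>
    { (Vv i).toSubring.toSubsemiring with
      algebraMap_mem' := fun c => hmemV i _ isIntegral_algebraMap }
  have hVsub : ∀ i (x : FractionRing C), x ∈ Vsub i ↔ x ∈ Vv i := fun i x => Iff.rfl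
  have hBV : ∀ i, integralClosure C (FractionRing C) ≤ Vsub i := fun i x hx => hmemV i x hx
  have hinter : ∀ x : FractionRing C, (∀ i, x ∈ Vsub i) → x ∈ integralClosure C (FractionRing C) := by
    intro x hx
    rw [hb]
    intro p hp hp1
    exact (hVmem ⟨p, hp, hp1⟩ x).mp (hx ⟨p, hp, hp1⟩)
  have hfinchar : ∀ x : FractionRing C, {i | x ∉ Vsub i}.Finite := by
    intro x
    refine Set.Finite.subset (Set.Finite.preimage (Subtype.val_injective.injOn) (hc x)) ?_
    intro i hi
    refine ⟨i.2.1, i.2.2, fun hex => hi ?_⟩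
    exact (hVmem i x).mpr hex
  -- uniformizers
  have huni : ∀ i, ∃ π : Vsub i, ((π : Vsub i) : FractionRing C) ≠ 0 ∧
      (∀ x : FractionRing C, ∃ n : ℕ, ((π : Vsub i) : FractionRing C) ^ n * x ∈ Vsub i) ∧
      IsReduced (Vsub i ⧸ Ideal.span {π}) := by
    intro i
    haveI := hVdvr i
    obtain ⟨ϖ, hϖ⟩ := IsDiscreteValuationRing.exists_irreducible (Vv i)
    have hϖ0 : (ϖ : FractionRing C) ≠ 0 := fun h0 => hϖ.ne_zero (Subtype.ext h0)
    refine ⟨⟨ϖ.1, ϖ.2⟩, hϖ0, ?_, ?_⟩
    · intro x
      show ∃ n : ℕ, (ϖ : FractionRing C) ^ n * x ∈ Vv i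
      by_cases hx0 : x = 0
      · exact ⟨0, by rw [hx0, mul_zero]; exact (Vv i).zero_mem⟩
      rcases (Vv i).mem_or_inv_mem x with hx | hx
      · exact ⟨0, by rw [pow_zero, one_mul]; exact hx⟩
      · have hne : (⟨x⁻¹, hx⟩ : Vv i) ≠ 0 := fun h0 =>
          inv_ne_zero hx0 (congrArg (fun t : Vv i => (t : FractionRing C)) h0)
        obtain ⟨n, u, hu⟩ := IsDiscreteValuationRing.eq_unit_mul_pow_irreducible hne hϖ
        refine ⟨n, ?_⟩
        have hu' : x⁻¹ = ((u : Vv i) : FractionRing C) * (ϖ : FractionRing C) ^ n :=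
          congrArg (fun t : Vv i => (t : FractionRing C)) hu
        have huinv : ((u : Vv i) : FractionRing C) * (((u⁻¹ : (Vv i)ˣ) : Vv i) : FractionRing C) = 1 :=
          congrArg (fun t : Vv i => (t : FractionRing C)) (Units.mul_inv u)
        have hu0 : ((u : Vv i) : FractionRing C) ≠ 0 := left_ne_zero_of_mul_eq_one huinv
        have : (ϖ : FractionRing C) ^ n * x = (((u⁻¹ : (Vv i)ˣ) : Vv i) : FractionRing C) := by
          have hx' : x = (((u : Vv i) : FractionRing C) * (ϖ : FractionRing C) ^ n)⁻¹ := by
            rw [← hu', inv_inv]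
          have hinvu : (((u⁻¹ : (Vv i)ˣ) : Vv i) : FractionRing C) = ((u : Vv i) : FractionRing C)⁻¹ :=
            eq_inv_of_mul_eq_one_right huinv
          rw [hx', mul_inv, hinvu]
          have hpn : (ϖ : FractionRing C) ^ n ≠ 0 := pow_ne_zero _ hϖ0
          field_simp
        rw [this]
        exact ((u⁻¹ : (Vv i)ˣ) : Vv i).2
    · -- reducedness of the quotient, then of the tensor product
      let e : Vsub i ≃+* Vv i := subalgEquiv (Vv i) (Vsub i) (hVsub i)
      have hmap : (Ideal.span {(⟨ϖ.1, ϖ.2⟩ : Vsub i)}).map (e : Vsub i →+* Vv i) = Ideal.span {ϖ} := by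
        rw [Ideal.map_span, Set.image_singleton]
        rfl
      have hmax : (Ideal.span {ϖ} : Ideal (Vv i)).IsMaximal := by
        rw [← hϖ.maximalIdeal_eq]
        exact IsLocalRing.maximalIdeal.isMaximal _
      let eq : (Vsub i ⧸ Ideal.span {(⟨ϖ.1, ϖ.2⟩ : Vsub i)}) ≃+* (Vv i ⧸ Ideal.span {ϖ}) :=
        Ideal.quotientEquiv _ _ e hmap.symm
      haveI : IsReduced (Vv i ⧸ Ideal.span {ϖ}) := by
        letI := Ideal.Quotient.field (Ideal.span {ϖ} : Ideal (Vv i))
        infer_instance
      exact isReduced_of_injective eq.toRingHom eq.injective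
  choose π hπ0 hπK hπred using huni
  let φ : integralClosure C (FractionRing C) ⊗[C] E →+* FractionRing C ⊗[C] E :=
    (Algebra.TensorProduct.map (integralClosure C (FractionRing C)).val (AlgHom.id C E)).toRingHom
  have hφinj : Function.Injective φ := map_val_injective _
  have hT : EGA4.IsNormalRing (FractionRing C ⊗[C] E) :=
    Groth.Agent.Lib.H30NormalHom.isNormalRing_field_tensor_of_isNormalHom C E h (FractionRing C)
  haveI : Algebra.EssFiniteType C (FractionRing C) :=
    Algebra.EssFiniteType.of_isLocalization _ (nonZeroDivisors C)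
  haveI hTnoeth : IsNoetherianRing (FractionRing C ⊗[C] E) := by
    haveI := Groth.Agent.Lib.H30NormalHom.isNoetherianRing_tensor_of_essFiniteType C E (FractionRing C)
    exact isNoetherianRing_of_ringEquiv _ (Algebra.TensorProduct.comm C E (FractionRing C)).toRingEquiv
  apply Groth.Agent.Lib.H30TensorNormal.isNormalRing_of_integrallyClosedIn φ hφinj hT
  · intro t p hp hpt
    have hti : ∀ i, t ∈ LinearMap.range ((Subalgebra.toSubmodule (Vsub i)).subtype.rTensor E) := by
      intro i
      have hint_i : RingHom.IsIntegralElem (R := Vsub i ⊗[C] E) (A := FractionRing C ⊗[C] E)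
          (Algebra.TensorProduct.map (Vsub i).val (AlgHom.id C E)).toRingHom t := by
        let inc : integralClosure C (FractionRing C) ⊗[C] E →ₐ[C] Vsub i ⊗[C] E :=
          Algebra.TensorProduct.map (Subalgebra.inclusion (hBV i)) (AlgHom.id C E)
        refine ⟨p.map inc.toRingHom, hp.map _, ?_⟩
        rw [Polynomial.eval₂_map]
        have hcomp : (Algebra.TensorProduct.map (Vsub i).val (AlgHom.id C E)).toRingHom.comp
            inc.toRingHom = φ := by
          apply RingHom.ext
          intro s
          induction s using TensorProduct.induction_on with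
          | zero => simp
          | tmul x y => rfl
          | add a b ha hb => rw [map_add, map_add, ha, hb]
        rw [hcomp]
        exact hpt
      have hredall : ∀ (Q : Type u) [CommRing Q] [Algebra C Q], IsReduced Q →
          IsReduced (Q ⊗[C] E) := by
        intro Q _ _ hQ
        haveI := hQ
        haveI := Groth.Agent.Lib.H30NormalHom.isReduced_tensor_of_isNormalHom C E Q h
        exact isReduced_of_injective (Algebra.TensorProduct.comm C Q E).toRingEquiv.toRingHom
          (Algebra.TensorProduct.comm C Q E).injective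
      obtain ⟨s, hs⟩ := mem_range_of_isIntegralElem' (Vsub i) (π i) (hπ0 i) (hπK i)
        hredall (hπred i) t hint_i
      exact ⟨s, by rw [← map_val_apply_eq_rTensor]; exact hs⟩
    obtain ⟨s, hs⟩ := mem_range_rTensor_of_forall
      (Subalgebra.toSubmodule (integralClosure C (FractionRing C)))
      (fun i => Subalgebra.toSubmodule (Vsub i)) hinter hfinchar t hti
    exact ⟨s, by rw [← hs]; exact map_val_apply_eq_rTensor _ s⟩
  · intro b
    obtain ⟨e, he, heb, hreg⟩ :=
      Groth.Agent.Lib.H30TensorNormal.exists_idem_of_noetherian_normal hT (φ b)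
    refine ⟨e, he, heb, fun t hbt => ?_⟩
    have h0 : (φ b + e) * ((1 - e) * t) = 0 := by
      have h1 : (φ b + e) * ((1 - e) * t) = (1 - e) * (φ b * t) + (e - e * e) * t := by ring
      rw [h1, hbt, he, sub_self, mul_zero, zero_mul, add_zero]
    have h2 := hreg _ h0
    linear_combination (-1 : FractionRing C ⊗[C] E) * h2

end Groth.Agent.Lib.Krull96
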