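import Mathlib

/-!
# Algebraic closure inside a finitely generated field extension is finite

`Groth.Agent.Lib.NagataNormFin96.finite_algebraicClosure`: if `K/F` is a finitely generated field
extension (`Algebra.EssFiniteType F K`) then the algebraic closure of `F` in `K` is finite over `F`.
-/

set_option autoImplicit false

namespace Groth.Agent.Lib.NagataNormFin96

open scoped IntermediateField.algebraAdjoinAdjoin in
/-- Elements of the algebraic closure of `F` in `K` which are linearly independent over `F` stay
linearly independent over a purely transcendental subextension `F(s)`. -/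
theorem linearIndependent_adjoin {F K : Type*} [Field F] [Field K] [Algebra F K] {ι : Type*}
    {s : ι → K} (hs : AlgebraicIndependent F s) {J : Type*} (b : J → algebraicClosure F K)
    (hb : LinearIndependent F b) :
    LinearIndependent (IntermediateField.adjoin F (Set.range s)) (fun j => (b j : K)) := by
  classical
  rw [← LinearIndependent.iff_fractionRing (Algebra.adjoin F (Set.range s))
    (IntermediateField.adjoin F (Set.range s))]
  rw [linearIndependent_iff']
  intro t g hg j hj
  have hex : ∀ j, ∃ p : MvPolynomial ι F, MvPolynomial.aeval s p = (g j : K) := by
    intro j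
    have h : (g j : K) ∈ (MvPolynomial.aeval s : MvPolynomial ι F →ₐ[F] K).range := by
      rw [← Algebra.adjoin_range_eq_range_aeval]
      exact (g j).2
    exact h
  choose p hp using hex
  have hsL : AlgebraicIndependent (algebraicClosure F K) s := hs.algebraicClosure
  let P : MvPolynomial ι (algebraicClosure F K) :=
    ∑ j ∈ t, MvPolynomial.C (b j) * MvPolynomial.map (algebraMap F (algebraicClosure F K)) (p j)
  have hP : MvPolynomial.aeval s P = 0 := by
    simp only [P, map_sum, map_mul, MvPolynomial.aeval_C, MvPolynomial.aeval_map_algebraMap, hp]
    rw [← hg]
    refine Finset.sum_congr rfl fun i _ => ?_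
    rw [mul_comm]
    rfl
  have hP0 : P = 0 := by
    have hinj := algebraicIndependent_iff_injective_aeval.mp hsL
    exact hinj (by rw [hP, map_zero])
  have hcoef : ∀ m, ∑ i ∈ t, MvPolynomial.coeff m (p i) • b i = 0 := by
    intro m
    have := congrArg (MvPolynomial.coeff m) hP0
    simp only [P, MvPolynomial.coeff_sum, MvPolynomial.coeff_C_mul, MvPolynomial.coeff_map,
      MvPolynomial.coeff_zero] at this
    rw [← this]
    refine Finset.sum_congr rfl fun i _ => ?_
    rw [Algebra.smul_def, mul_comm]
  have hpj : p j = 0 := by
    ext m
    rw [MvPolynomial.coeff_zero]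
    exact linearIndependent_iff'.mp hb t _ (hcoef m) j hj
  apply Subtype.ext
  rw [← hp j, hpj, map_zero]
  rfl

/-- The algebraic closure of `F` in a finitely generated field extension `K` is finite over `F`. -/
theorem finite_algebraicClosure (F K : Type*) [Field F] [Field K] [Algebra F K]
    [Algebra.EssFiniteType F K] : FiniteDimensional F (algebraicClosure F K) := by
  obtain ⟨s, hs⟩ := exists_finset_isTranscendenceBasis F K
  have halg : Algebra.IsAlgebraic (IntermediateField.adjoin F (Set.range ((↑) : s → K))) K :=
    hs.isAlgebraic_field
  have hess : Algebra.EssFiniteType (IntermediateField.adjoin F (Set.range ((↑) : s → K))) K :=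
    .of_comp F _ _
  have hfin : Module.Finite (IntermediateField.adjoin F (Set.range ((↑) : s → K))) K :=
    Algebra.finite_of_essFiniteType_of_isAlgebraic
  let b := Module.Basis.ofVectorSpace F (algebraicClosure F K)
  have hli := linearIndependent_adjoin hs.1 b b.linearIndependent
  have : Finite (Module.Basis.ofVectorSpaceIndex F (algebraicClosure F K)) :=
    hli.finite_of_isNoetherian
  exact Module.Finite.of_basis b

end Groth.Agent.Lib.NagataNormFin96
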