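import Groth.Prelude.Def_Found
import Groth.Agent.Lib.H87Japanese
import Groth.Agent.Lib.H87Japanese2
import Groth.Agent.Lib.NagataNormFin96A

/-!
# Integral closure of a Nagata ring in a finitely generated field extension of a residue field

`finite_integralClosure_field`: `R` Nagata, `R → F → K` with `F` a field "generated by `R`"
(every element a quotient of images of elements of `R`) and `K/F` finitely generated as a field:
the integral closure of `R` in `K` is a finite `R`-module.

`finite_integralClosure_of_injective_pi`: if an `R`-algebra `A` embeds into a finite product of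
`R`-algebras whose integral closures are finite and `R` is Noetherian, then the integral closure of
`R` in `A` is finite.
-/

set_option autoImplicit false
set_option linter.style.haveILetI false
universe u

namespace Groth.Agent.Lib.NagataNormFin96

theorem finite_integralClosure_field {R : Type u} [CommRing R] (hR : CAlg.IsNagata R)
    (F K : Type u) [Field F] [Field K] [Algebra R F] [Algebra F K] [Algebra R K]
    [IsScalarTower R F K]
    (hF : ∀ x : F, ∃ a b : R, algebraMap R F b ≠ 0 ∧ x * algebraMap R F b = algebraMap R F a)
    [Algebra.EssFiniteType F K] : Module.Finite R (integralClosure R K) := by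
  let p : Ideal R := RingHom.ker (algebraMap R F)
  haveI : p.IsPrime := RingHom.ker_isPrime _
  have hN2 : CAlg.IsN2 (R ⧸ p) := hR.2 p
  letI algF : Algebra (R ⧸ p) F :=
    (Ideal.Quotient.lift p (algebraMap R F) (fun a ha => ha)).toAlgebra
  haveI : IsScalarTower R (R ⧸ p) F := .of_algebraMap_eq (fun r => rfl)
  have hinj : Function.Injective (algebraMap (R ⧸ p) F) :=
    RingHom.lift_injective_of_ker_le_ideal p (fun a ha => ha) le_rfl
  haveI : IsFractionRing (R ⧸ p) F :=
    Groth.Agent.Lib.H87Japanese2.isFractionRing_of_forall_exists_div hinj (fun x => by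
      obtain ⟨a, b, hb, h⟩ := hF x
      refine ⟨Ideal.Quotient.mk p a, Ideal.Quotient.mk p b, ?_, h⟩
      intro h0
      apply hb
      have : algebraMap (R ⧸ p) F (Ideal.Quotient.mk p b) = 0 := by rw [h0, map_zero]
      exact this)
  haveI hfd : FiniteDimensional F (algebraicClosure F K) := finite_algebraicClosure F K
  letI algL : Algebra (R ⧸ p) (algebraicClosure F K) :=
    ((algebraMap F (algebraicClosure F K)).comp (algebraMap (R ⧸ p) F)).toAlgebra
  haveI : IsScalarTower (R ⧸ p) F (algebraicClosure F K) := .of_algebraMap_eq (fun r => rfl)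
  have h1 : Module.Finite (R ⧸ p) (integralClosure (R ⧸ p) (algebraicClosure F K)) :=
    Groth.Agent.Lib.H87Japanese.finite_of_isN2 (R ⧸ p) hN2 F (algebraicClosure F K) hfd
  letI algK : Algebra (R ⧸ p) K := ((algebraMap F K).comp (algebraMap (R ⧸ p) F)).toAlgebra
  haveI : IsScalarTower (R ⧸ p) F K := .of_algebraMap_eq (fun r => rfl)
  haveI : IsScalarTower (R ⧸ p) (algebraicClosure F K) K := .of_algebraMap_eq (fun r => rfl)
  haveI : IsScalarTower R (R ⧸ p) K := .of_algebraMap_eq (fun r => by
    rw [IsScalarTower.algebraMap_apply R F K]; rfl)
  have h2 : (Subalgebra.toSubmodule (integralClosure (R ⧸ p) K)).FG := by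
    have : integralClosure (R ⧸ p) K =
        (integralClosure (R ⧸ p) (algebraicClosure F K)).map
          (IsScalarTower.toAlgHom (R ⧸ p) (algebraicClosure F K) K) := by
      ext x
      constructor
      · intro hx
        have hxF : IsIntegral F x := IsIntegral.tower_top (A := F) hx
        have hxL : x ∈ algebraicClosure F K := (mem_algebraicClosure_iff).mpr hxF.isAlgebraic
        refine ⟨⟨x, hxL⟩, ?_, rfl⟩
        exact (isIntegral_algHom_iff (IsScalarTower.toAlgHom (R ⧸ p) (algebraicClosure F K) K)
          Subtype.val_injective).mp hx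
      · rintro ⟨y, hy, rfl⟩
        exact IsIntegral.map (IsScalarTower.toAlgHom (R ⧸ p) (algebraicClosure F K) K) hy
    rw [this, Subalgebra.map_toSubmodule]
    exact (Module.Finite.iff_fg.mp h1).map _
  have h3 : Subalgebra.toSubmodule (integralClosure R K) =
      (Subalgebra.toSubmodule (integralClosure (R ⧸ p) K)).restrictScalars R := by
    ext x
    show IsIntegral R x ↔ IsIntegral (R ⧸ p) x
    haveI : Algebra.IsIntegral R (R ⧸ p) :=
      Algebra.isIntegral_of_surjective Ideal.Quotient.mk_surjective
    exact ⟨fun h => h.tower_top, fun h => isIntegral_trans (A := R ⧸ p) x h⟩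
  show Module.Finite R (Subalgebra.toSubmodule (integralClosure R K))
  rw [Module.Finite.iff_fg, h3]
  exact h2.restrictScalars_of_surjective Ideal.Quotient.mk_surjective

theorem finite_integralClosure_of_injective_pi {R : Type*} [CommRing R] [IsNoetherianRing R]
    {A : Type*} [CommRing A] [Algebra R A] {ι : Type*} [Finite ι] (K : ι → Type*)
    [∀ i, CommRing (K i)] [∀ i, Algebra R (K i)] (φ : A →ₐ[R] (∀ i, K i))
    (hφ : Function.Injective φ) (h : ∀ i, Module.Finite R (integralClosure R (K i))) :
    Module.Finite R (integralClosure R A) := by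
  let ψ : integralClosure R A →ₗ[R] (∀ i, integralClosure R (K i)) :=
    LinearMap.pi (fun i => LinearMap.codRestrict (Subalgebra.toSubmodule (integralClosure R (K i)))
      ((LinearMap.proj i).comp (φ.toLinearMap.comp (integralClosure R A).val.toLinearMap))
      (fun a => IsIntegral.map ((Pi.evalAlgHom R K i).comp φ) a.2))
  have hψ : Function.Injective ψ := by
    intro a b hab
    apply Subtype.ext
    apply hφ
    funext i
    have := congrArg (fun f => ((f i : integralClosure R (K i)) : K i)) hab
    exact this
  haveI : Module.Finite R (∀ i, integralClosure R (K i)) := Module.Finite.pi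
  haveI : IsNoetherian R (∀ i, integralClosure R (K i)) :=
    isNoetherian_of_isNoetherianRing_of_finite R _
  exact Module.Finite.of_injective ψ hψ

end Groth.Agent.Lib.NagataNormFin96
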