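/-
helper96: integral closure of `R` in a field `K` essentially of finite type over `R` is finite as
soon as `R ⧸ ker (R → K)` is N-2 (no Nagata hypothesis on `R`).
-/
import Groth.Agent.Lib.NagataNormFin96B

set_option autoImplicit false
set_option linter.style.haveILetI false
universe u

namespace Groth.Agent.Lib.JapStab96

open Groth.Agent.Lib.NagataNormFin96

theorem finite_integralClosure_field_of_isN2_aux {R : Type u} [CommRing R]
    (F K : Type u) [Field F] [Field K] [Algebra R F] [Algebra F K] [Algebra R K]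
    [IsScalarTower R F K]
    (hN2' : haveI : (RingHom.ker (algebraMap R F)).IsPrime := RingHom.ker_isPrime _
      CAlg.IsN2 (R ⧸ RingHom.ker (algebraMap R F)))
    (hF : ∀ x : F, ∃ a b : R, algebraMap R F b ≠ 0 ∧ x * algebraMap R F b = algebraMap R F a)
    [Algebra.EssFiniteType F K] : Module.Finite R (integralClosure R K) := by
  let p : Ideal R := RingHom.ker (algebraMap R F)
  haveI : p.IsPrime := RingHom.ker_isPrime _
  have hN2 : CAlg.IsN2 (R ⧸ p) := hN2'
  letI algF : Algebra (R ⧸ p) F :=
    (Ideal.Quotient.lift p (algebraMap R F) (fun a ha => ha)).toAlgebra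
  haveI : IsScalarTower R (R ⧸ p) F := .of_algebraMap_eq (fun r => rfl)
  have hinj : Function.Injective (algebraMap (R ⧸ p) F) :=
    RingHom.lift_injective_of_ker_le_ideal p (fun a ha => ha) le_rfl
  haveI : IsFractionRing (R ⧸ p) F :=
    Groth.Agent.Lib.H87Japanese2.isFractionRing_of_forall_exists_div hinj (fun x => by
      obtain ⟨a, b, hb, h⟩ := hF x
      refine ⟨Ideal.Quotient.mk p a, Ideal.Quotient.mk p b, ?_, h⟩
      intro h0
      apply hb
      have : algebraMap (R ⧸ p) F (Ideal.Quotient.mk p b) = 0 := by rw [h0, map_zero]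
      exact this)
  haveI hfd : FiniteDimensional F (algebraicClosure F K) := finite_algebraicClosure F K
  letI algL : Algebra (R ⧸ p) (algebraicClosure F K) :=
    ((algebraMap F (algebraicClosure F K)).comp (algebraMap (R ⧸ p) F)).toAlgebra
  haveI : IsScalarTower (R ⧸ p) F (algebraicClosure F K) := .of_algebraMap_eq (fun r => rfl)
  have h1 : Module.Finite (R ⧸ p) (integralClosure (R ⧸ p) (algebraicClosure F K)) :=
    Groth.Agent.Lib.H87Japanese.finite_of_isN2 (R ⧸ p) hN2 F (algebraicClosure F K) hfd
  letI algK : Algebra (R ⧸ p) K := ((algebraMap F K).comp (algebraMap (R ⧸ p) F)).toAlgebra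
  haveI : IsScalarTower (R ⧸ p) F K := .of_algebraMap_eq (fun r => rfl)
  haveI : IsScalarTower (R ⧸ p) (algebraicClosure F K) K := .of_algebraMap_eq (fun r => rfl)
  haveI : IsScalarTower R (R ⧸ p) K := .of_algebraMap_eq (fun r => by
    rw [IsScalarTower.algebraMap_apply R F K]; rfl)
  have h2 : (Subalgebra.toSubmodule (integralClosure (R ⧸ p) K)).FG := by
    have : integralClosure (R ⧸ p) K =
        (integralClosure (R ⧸ p) (algebraicClosure F K)).map
          (IsScalarTower.toAlgHom (R ⧸ p) (algebraicClosure F K) K) := by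
      ext x
      constructor
      · intro hx
        have hxF : IsIntegral F x := IsIntegral.tower_top (A := F) hx
        have hxL : x ∈ algebraicClosure F K := (mem_algebraicClosure_iff).mpr hxF.isAlgebraic
        refine ⟨⟨x, hxL⟩, ?_, rfl⟩
        exact (isIntegral_algHom_iff (IsScalarTower.toAlgHom (R ⧸ p) (algebraicClosure F K) K)
          Subtype.val_injective).mp hx
      · rintro ⟨y, hy, rfl⟩
        exact IsIntegral.map (IsScalarTower.toAlgHom (R ⧸ p) (algebraicClosure F K) K) hy
    rw [this, Subalgebra.map_toSubmodule]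
    exact (Module.Finite.iff_fg.mp h1).map _
  have h3 : Subalgebra.toSubmodule (integralClosure R K) =
      (Subalgebra.toSubmodule (integralClosure (R ⧸ p) K)).restrictScalars R := by
    ext x
    show IsIntegral R x ↔ IsIntegral (R ⧸ p) x
    haveI : Algebra.IsIntegral R (R ⧸ p) :=
      Algebra.isIntegral_of_surjective Ideal.Quotient.mk_surjective
    exact ⟨fun h => h.tower_top, fun h => isIntegral_trans (A := R ⧸ p) x h⟩
  show Module.Finite R (Subalgebra.toSubmodule (integralClosure R K))
  rw [Module.Finite.iff_fg, h3]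
  exact h2.restrictScalars_of_surjective Ideal.Quotient.mk_surjective

/-- `K` a field essentially of finite type over `R` with `R ⧸ ker (R → K)` N-2: the integral
closure of `R` in `K` is a finite `R`-module. -/
theorem finite_integralClosure_field_of_isN2 {R : Type u} [CommRing R]
    (K : Type u) [Field K] [Algebra R K] [Algebra.EssFiniteType R K]
    (hN2 : haveI : (RingHom.ker (algebraMap R K)).IsPrime := RingHom.ker_isPrime _
      CAlg.IsN2 (R ⧸ RingHom.ker (algebraMap R K))) :
    Module.Finite R (integralClosure R K) := by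
  let p : Ideal R := RingHom.ker (algebraMap R K)
  haveI : p.IsPrime := RingHom.ker_isPrime _
  letI algK : Algebra (R ⧸ p) K :=
    (Ideal.Quotient.lift p (algebraMap R K) (fun a ha => ha)).toAlgebra
  haveI : IsScalarTower R (R ⧸ p) K := .of_algebraMap_eq (fun r => rfl)
  have hinj : Function.Injective (algebraMap (R ⧸ p) K) :=
    RingHom.lift_injective_of_ker_le_ideal p (fun a ha => ha) le_rfl
  haveI : FaithfulSMul (R ⧸ p) K := (faithfulSMul_iff_algebraMap_injective (R ⧸ p) K).mpr hinj
  letI algFK : Algebra (FractionRing (R ⧸ p)) K := FractionRing.liftAlgebra (R ⧸ p) K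
  haveI : IsScalarTower (R ⧸ p) (FractionRing (R ⧸ p)) K :=
    FractionRing.isScalarTower_liftAlgebra (R ⧸ p) K
  haveI : IsScalarTower R (FractionRing (R ⧸ p)) K := .of_algebraMap_eq (fun r => by
    rw [IsScalarTower.algebraMap_apply R (R ⧸ p) K,
      IsScalarTower.algebraMap_apply (R ⧸ p) (FractionRing (R ⧸ p)) K,
      ← IsScalarTower.algebraMap_apply R (R ⧸ p) (FractionRing (R ⧸ p))])
  haveI : Algebra.EssFiniteType (FractionRing (R ⧸ p)) K :=
    Algebra.EssFiniteType.of_comp R (FractionRing (R ⧸ p)) K
  have hker : RingHom.ker (algebraMap R (FractionRing (R ⧸ p))) = p := by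
    rw [IsScalarTower.algebraMap_eq R (R ⧸ p) (FractionRing (R ⧸ p)), ← RingHom.comap_ker,
      (RingHom.injective_iff_ker_eq_bot _).mp (IsFractionRing.injective (R ⧸ p) _),
      ← RingHom.ker_eq_comap_bot]
    exact Ideal.mk_ker
  refine finite_integralClosure_field_of_isN2_aux (FractionRing (R ⧸ p)) K ?_ (fun x => ?_)
  · have key : ∀ (q : Ideal R) (hq : q.IsPrime), q = p →
        (haveI := hq; CAlg.IsN2 (R ⧸ q)) := by
      intro q hq h
      subst h
      exact hN2
    exact key _ (RingHom.ker_isPrime _) hker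
  · obtain ⟨a', b', rfl⟩ := IsLocalization.exists_mk'_eq (nonZeroDivisors (R ⧸ p)) x
    obtain ⟨a, rfl⟩ := Ideal.Quotient.mk_surjective a'
    obtain ⟨b, hb⟩ := Ideal.Quotient.mk_surjective b'.1
    refine ⟨a, b, ?_, ?_⟩
    · rw [IsScalarTower.algebraMap_apply R (R ⧸ p) (FractionRing (R ⧸ p))]
      change algebraMap (R ⧸ p) (FractionRing (R ⧸ p)) (Ideal.Quotient.mk p b) ≠ 0
      rw [hb]
      exact IsFractionRing.to_map_ne_zero_of_mem_nonZeroDivisors b'.2
    · rw [IsScalarTower.algebraMap_apply R (R ⧸ p) (FractionRing (R ⧸ p)),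
        IsScalarTower.algebraMap_apply R (R ⧸ p) (FractionRing (R ⧸ p)) a]
      change _ * algebraMap (R ⧸ p) (FractionRing (R ⧸ p)) (Ideal.Quotient.mk p b) =
        algebraMap (R ⧸ p) (FractionRing (R ⧸ p)) (Ideal.Quotient.mk p a)
      rw [hb]
      exact IsLocalization.mk'_spec _ _ _

end Groth.Agent.Lib.JapStab96
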