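/-
helper96: stabilisation of integral subalgebras modulo nilpotents (EGA 0_IV 23.2.4, abstract form).
`B` Noetherian with `B ⧸ q` N-2 for all minimal primes `q`, `T` a Noetherian `B`-algebra
essentially of finite type with going down.  In any nonempty family of `B`-subalgebras of `T`
integral over `B` there is a member `S₀` such that every larger member equals `S₀` modulo
nilpotents.
-/
import Mathlib
import Groth.Agent.Lib.JapStab96A

set_option autoImplicit false
set_option linter.style.haveILetI false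
universe u

namespace Groth.Agent.Lib.JapStab96

open Groth.Agent.Lib.NagataNormFin96

theorem under_mem_minimalPrimes {B T : Type*} [CommRing B] [CommRing T] [Algebra B T]
    [Algebra.HasGoingDown B T] (P : Ideal T) (hP : P ∈ minimalPrimes T) :
    P.comap (algebraMap B T) ∈ minimalPrimes B := by
  haveI hPprime : P.IsPrime := hP.1.1
  haveI hqprime : (P.comap (algebraMap B T)).IsPrime := Ideal.comap_isPrime _ _
  refine ⟨⟨hqprime, bot_le⟩, fun p' hp' hle => ?_⟩
  haveI : p'.IsPrime := hp'.1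
  haveI : P.LiesOver (P.comap (algebraMap B T)) := ⟨rfl⟩
  obtain ⟨P', hP'le, hP'prime, hP'over⟩ :=
    Ideal.exists_ideal_le_liesOver_of_le (p := p') (q := P.comap (algebraMap B T)) P hle
  have hPP' : P ≤ P' := hP.2 ⟨hP'prime, bot_le⟩ hP'le
  have h1 : P' = P := le_antisymm hP'le hPP'
  have h2 : p' = P'.comap (algebraMap B T) := hP'over.over
  rw [h2, h1]

theorem exists_stable {B T : Type u} [CommRing B] [CommRing T] [Algebra B T]
    [IsNoetherianRing B] [IsNoetherianRing T] [Algebra.EssFiniteType B T]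
    [Algebra.HasGoingDown B T]
    (hJ : ∀ (q : Ideal B) [q.IsPrime], q ∈ minimalPrimes B → CAlg.IsN2 (B ⧸ q))
    (𝒮 : Set (Subalgebra B T)) (hne : 𝒮.Nonempty)
    (hint : ∀ S ∈ 𝒮, ∀ x ∈ S, IsIntegral B x) :
    ∃ S₀ ∈ 𝒮, ∀ S ∈ 𝒮, S₀ ≤ S → ∀ y ∈ S, ∃ x ∈ S₀, IsNilpotent (x - y) := by
  classical
  have hfin : (minimalPrimes T).Finite := minimalPrimes.finite_of_isNoetherianRing T
  haveI : Finite (minimalPrimes T) := hfin
  haveI : ∀ P : minimalPrimes T, P.1.IsPrime := fun P => P.2.1.1
  let Φ : T →ₐ[B] (∀ P : minimalPrimes T, FractionRing (T ⧸ P.1)) :=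
    AlgHom.pi (fun P => (IsScalarTower.toAlgHom B (T ⧸ P.1) (FractionRing (T ⧸ P.1))).comp
      (Ideal.Quotient.mkₐ B P.1))
  have hker : ∀ t : T, Φ t = 0 → IsNilpotent t := by
    intro t ht
    rw [← mem_nilradical, nilradical_eq_sInf, Ideal.mem_sInf]
    intro J hJ'
    haveI : J.IsPrime := hJ'
    obtain ⟨P, hP, hPJ⟩ := Ideal.exists_minimalPrimes_le (bot_le : ⊥ ≤ J)
    have h1 : algebraMap (T ⧸ P) (FractionRing (T ⧸ P)) (Ideal.Quotient.mk P t) = 0 :=
      congrFun ht ⟨P, hP⟩
    haveI : P.IsPrime := hP.1.1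
    have h2 : Ideal.Quotient.mk P t = 0 :=
      IsFractionRing.injective (T ⧸ P) (FractionRing (T ⧸ P)) (by rw [h1, map_zero])
    exact hPJ (Ideal.Quotient.eq_zero_iff_mem.mp h2)
  have hfinL : ∀ P : minimalPrimes T,
      Module.Finite B (integralClosure B (FractionRing (T ⧸ P.1))) := by
    intro P
    haveI : Algebra.EssFiniteType B (T ⧸ P.1) := inferInstance
    haveI : Algebra.EssFiniteType (T ⧸ P.1) (FractionRing (T ⧸ P.1)) :=
      Algebra.EssFiniteType.of_isLocalization _ (nonZeroDivisors (T ⧸ P.1))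
    haveI : Algebra.EssFiniteType B (FractionRing (T ⧸ P.1)) :=
      Algebra.EssFiniteType.comp B (T ⧸ P.1) (FractionRing (T ⧸ P.1))
    apply finite_integralClosure_field_of_isN2
    have hk : RingHom.ker (algebraMap B (FractionRing (T ⧸ P.1))) =
        P.1.comap (algebraMap B T) := by
      rw [IsScalarTower.algebraMap_eq B (T ⧸ P.1) (FractionRing (T ⧸ P.1)),
        ← RingHom.comap_ker,
        (RingHom.injective_iff_ker_eq_bot _).mp (IsFractionRing.injective (T ⧸ P.1) _),
        IsScalarTower.algebraMap_eq B T (T ⧸ P.1), ← Ideal.comap_comap,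
        ← RingHom.ker_eq_comap_bot]
      congr 1
      exact Ideal.mk_ker
    have hmin : P.1.comap (algebraMap B T) ∈ minimalPrimes B :=
      under_mem_minimalPrimes P.1 P.2
    have key : ∀ (q : Ideal B) (hq : q.IsPrime), q ∈ minimalPrimes B →
        (haveI := hq; CAlg.IsN2 (B ⧸ q)) := fun q hq hqm => hJ q hqm
    exact key _ (RingHom.ker_isPrime _) (hk ▸ hmin)
  haveI hMfin : Module.Finite B
      (integralClosure B (∀ P : minimalPrimes T, FractionRing (T ⧸ P.1))) :=
    finite_integralClosure_of_injective_pi (fun P : minimalPrimes T => FractionRing (T ⧸ P.1))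
      (AlgHom.id B _) Function.injective_id hfinL
  haveI hMnoeth : IsNoetherian B
      (integralClosure B (∀ P : minimalPrimes T, FractionRing (T ⧸ P.1))) :=
    isNoetherian_of_isNoetherianRing_of_finite B _
  let M := integralClosure B (∀ P : minimalPrimes T, FractionRing (T ⧸ P.1))
  let N : Subalgebra B T → Submodule B M := fun S =>
    Submodule.comap (Subalgebra.toSubmodule M).subtype
      (Submodule.map Φ.toLinearMap (Subalgebra.toSubmodule S))
  obtain ⟨_, ⟨S₀, hS₀, rfl⟩, hmax⟩ := WellFounded.has_min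
    (wellFounded_gt : WellFounded ((· > ·) : Submodule B M → Submodule B M → Prop))
    (N '' 𝒮) (hne.image N)
  refine ⟨S₀, hS₀, fun S hS hle y hy => ?_⟩
  have hmono : N S₀ ≤ N S := Submodule.comap_mono (Submodule.map_mono hle)
  have heq : N S = N S₀ := by
    by_contra hne'
    exact hmax (N S) ⟨S, hS, rfl⟩ (lt_of_le_of_ne hmono (Ne.symm hne'))
  have hy' : (⟨Φ y, (hint S hS y hy).map Φ⟩ : M) ∈ N S := ⟨y, hy, rfl⟩
  rw [heq] at hy'
  obtain ⟨x, hx, hxy⟩ := hy'
  refine ⟨x, hx, hker _ ?_⟩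
  rw [map_sub, sub_eq_zero]
  exact hxy

end Groth.Agent.Lib.JapStab96
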