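/-
helper96: EGA 0_IV 23.2.4 — for `A` a domain, `B` a Noetherian flat `A`-algebra with `B ⧸ q` N-2
for minimal primes `q`, `K'` a finite extension of `Frac A`: the rings `(C ⊗_A B)_red` for `C`
ranging over finite sub-`A`-algebras of `K'` with fraction field `K'` are eventually constant.
-/
import Mathlib
import Groth.Agent.Lib.JapStab96B

set_option autoImplicit false
set_option linter.style.haveILetI false
universe u

open TensorProduct

namespace Groth.Agent.Lib.JapStab96

section Family

variable {A K' : Type u} [CommRing A] [IsDomain A] [Field K'] [Algebra A K']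
  [Algebra (FractionRing A) K'] [IsScalarTower A (FractionRing A) K']
  [FiniteDimensional (FractionRing A) K']

/-- The family of finite sub-`A`-algebras of `K'` with fraction field `K'`. -/
def Fam (C : Subalgebra A K') : Prop :=
  Module.Finite A C ∧ ∀ x : K', ∃ a b : C, (b : K') ≠ 0 ∧ x * b = a

omit [IsDomain A] [Algebra (FractionRing A) K'] [IsScalarTower A (FractionRing A) K']
  [FiniteDimensional (FractionRing A) K'] in
theorem Fam.mono {C C' : Subalgebra A K'} (h : Fam C) (hle : C ≤ C') [Module.Finite A C'] :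
    Fam C' := by
  refine ⟨inferInstance, fun x => ?_⟩
  obtain ⟨a, b, hb, hab⟩ := h.2 x
  exact ⟨Subalgebra.inclusion hle a, Subalgebra.inclusion hle b, hb, hab⟩

omit [IsDomain A] [Algebra (FractionRing A) K'] [IsScalarTower A (FractionRing A) K']
  [FiniteDimensional (FractionRing A) K'] in
theorem frac_add (C : Subalgebra A K') {x y : K'}
    (hx : ∃ a b : C, (b : K') ≠ 0 ∧ x * b = a) (hy : ∃ a b : C, (b : K') ≠ 0 ∧ y * b = a) :
    ∃ a b : C, (b : K') ≠ 0 ∧ (x + y) * b = a := by
  obtain ⟨a, b, hb, hab⟩ := hx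
  obtain ⟨a', b', hb', hab'⟩ := hy
  refine ⟨a * b' + a' * b, b * b', ?_, ?_⟩
  · simpa using mul_ne_zero hb hb'
  · push_cast
    rw [← hab, ← hab']
    ring

omit [IsDomain A] [Algebra (FractionRing A) K'] [IsScalarTower A (FractionRing A) K']
  [FiniteDimensional (FractionRing A) K'] in
theorem frac_mul (C : Subalgebra A K') {x y : K'}
    (hx : ∃ a b : C, (b : K') ≠ 0 ∧ x * b = a) (hy : ∃ a b : C, (b : K') ≠ 0 ∧ y * b = a) :
    ∃ a b : C, (b : K') ≠ 0 ∧ (x * y) * b = a := by
  obtain ⟨a, b, hb, hab⟩ := hx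
  obtain ⟨a', b', hb', hab'⟩ := hy
  refine ⟨a * a', b * b', ?_, ?_⟩
  · simpa using mul_ne_zero hb hb'
  · push_cast
    rw [← hab, ← hab']
    ring

theorem exists_fam : ∃ C : Subalgebra A K', Fam C := by
  classical
  obtain ⟨s, b, hb⟩ := FiniteDimensional.exists_is_basis_integral A (FractionRing A) K'
  let C : Subalgebra A K' := Algebra.adjoin A (Set.range b)
  have hfin : Module.Finite A C := by
    have h1 := fg_adjoin_of_finite (R := A) (Set.finite_range b) (by
      rintro _ ⟨i, rfl⟩; exact hb i)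
    exact (Module.Finite.iff_fg (N := Subalgebra.toSubmodule C)).mpr h1
  refine ⟨C, hfin, fun x => ?_⟩
  have hinj : Function.Injective (algebraMap A K') := by
    rw [IsScalarTower.algebraMap_eq A (FractionRing A) K']
    exact (algebraMap (FractionRing A) K').injective.comp (IsFractionRing.injective A _)
  -- scalars from `Frac A`
  have hK : ∀ c : FractionRing A, ∃ a b : C, (b : K') ≠ 0 ∧ algebraMap (FractionRing A) K' c * b = a := by
    intro c
    obtain ⟨n, d, rfl⟩ := IsLocalization.exists_mk'_eq (nonZeroDivisors A) c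
    refine ⟨algebraMap A C n, algebraMap A C d.1, ?_, ?_⟩
    · show algebraMap A K' d.1 ≠ 0
      exact fun h0 => nonZeroDivisors.ne_zero d.2 (hinj (by rw [h0, map_zero]))
    · show _ * algebraMap A K' d.1 = algebraMap A K' n
      rw [IsScalarTower.algebraMap_apply A (FractionRing A) K' d.1,
        IsScalarTower.algebraMap_apply A (FractionRing A) K' n, ← map_mul,
        IsLocalization.mk'_spec]
  have hbi : ∀ i, ∃ a b' : C, (b' : K') ≠ 0 ∧ b i * b' = a := by
    intro i
    exact ⟨⟨b i, Algebra.subset_adjoin ⟨i, rfl⟩⟩, 1, by simp, by simp⟩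
  rw [← b.sum_repr x]
  refine Finset.sum_induction _ (fun y : K' => ∃ a b' : C, (b' : K') ≠ 0 ∧ y * (b' : K') = (a : K'))
    (fun _ _ => frac_add C) ⟨0, 1, by simp, by simp⟩ (fun i _ => ?_)
  rw [Algebra.smul_def]
  exact frac_mul C (hK _) (hbi i)

end Family

section Main

variable {A B K' : Type u} [CommRing A] [IsDomain A] [CommRing B] [Algebra A B]
  [IsNoetherianRing B] [Module.Flat A B] [Field K'] [Algebra A K']
  [Algebra (FractionRing A) K'] [IsScalarTower A (FractionRing A) K']
  [FiniteDimensional (FractionRing A) K']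

omit [FiniteDimensional (FractionRing A) K'] in
theorem flat_K' : Module.Flat A K' := by
  haveI : Module.Flat A (FractionRing A) := IsLocalization.flat (FractionRing A) (nonZeroDivisors A)
  exact Module.Flat.trans A (FractionRing A) K'

theorem essFiniteType_K' : Algebra.EssFiniteType A K' := by
  haveI : Algebra.EssFiniteType A (FractionRing A) :=
    Algebra.EssFiniteType.of_isLocalization (FractionRing A) (nonZeroDivisors A)
  exact Algebra.EssFiniteType.comp A (FractionRing A) K'

/-- The map `C ⊗_A B → B ⊗_A K'`. -/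
noncomputable def jj (C : Subalgebra A K') : ↥C ⊗[A] B →ₐ[A] B ⊗[A] K' :=
  (Algebra.TensorProduct.map (AlgHom.id A B) C.val).comp
    (Algebra.TensorProduct.comm A ↥C B).toAlgHom

omit [IsDomain A] [IsNoetherianRing B] [Module.Flat A B] [Algebra (FractionRing A) K']
  [IsScalarTower A (FractionRing A) K'] [FiniteDimensional (FractionRing A) K'] in
@[simp]
theorem jj_tmul (C : Subalgebra A K') (c : C) (b : B) :
    jj (B := B) C (c ⊗ₜ[A] b) = b ⊗ₜ[A] (c : K') := by
  simp [jj]

omit [IsDomain A] [IsNoetherianRing B] [Algebra (FractionRing A) K']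
  [IsScalarTower A (FractionRing A) K'] [FiniteDimensional (FractionRing A) K'] in
theorem jj_injective (C : Subalgebra A K') : Function.Injective (jj (B := B) C) := by
  have h1 : Function.Injective (C.val.toLinearMap.lTensor B) :=
    Module.Flat.lTensor_preserves_injective_linearMap _ Subtype.val_injective
  have h2 : ∀ x : B ⊗[A] ↥C,
      Algebra.TensorProduct.map (AlgHom.id A B) C.val x = C.val.toLinearMap.lTensor B x := by
    intro x
    induction x using TensorProduct.induction_on with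
    | zero => simp
    | tmul b c => simp
    | add x y hx hy => rw [map_add, map_add, hx, hy]
  intro x y hxy
  apply (Algebra.TensorProduct.comm A ↥C B).injective
  apply h1
  rw [← h2, ← h2]
  exact hxy

omit [IsDomain A] [IsNoetherianRing B] [Module.Flat A B] [Algebra (FractionRing A) K']
  [IsScalarTower A (FractionRing A) K'] [FiniteDimensional (FractionRing A) K'] in
theorem jj_comp {C C' : Subalgebra A K'} (hle : C ≤ C') (x : ↥C ⊗[A] B) :
    jj (B := B) C' (Algebra.TensorProduct.map (Subalgebra.inclusion hle) (AlgHom.id A B) x) =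
      jj C x := by
  induction x using TensorProduct.induction_on with
  | zero => simp
  | tmul c b => simp
  | add x y hx hy => rw [map_add, map_add, map_add, hx, hy]

/-- The `B`-subalgebra of `B ⊗_A K'` which is the image of `B ⊗_A C`. -/
noncomputable def SS (C : Subalgebra A K') : Subalgebra B (B ⊗[A] K') :=
  (Algebra.TensorProduct.map (AlgHom.id B B) C.val).range

omit [IsDomain A] [IsNoetherianRing B] [Module.Flat A B] [Algebra (FractionRing A) K']
  [IsScalarTower A (FractionRing A) K'] [FiniteDimensional (FractionRing A) K'] in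
theorem mem_SS_iff (C : Subalgebra A K') (t : B ⊗[A] K') :
    t ∈ SS (B := B) C ↔ ∃ x : ↥C ⊗[A] B, jj C x = t := by
  constructor
  · rintro ⟨z, rfl⟩
    refine ⟨(Algebra.TensorProduct.comm A ↥C B).symm z, ?_⟩
    induction z using TensorProduct.induction_on with
    | zero => simp
    | tmul b c => simp
    | add x y hx hy => rw [map_add, map_add, map_add, hx, hy]
  · rintro ⟨x, rfl⟩
    refine ⟨Algebra.TensorProduct.comm A ↥C B x, ?_⟩
    induction x using TensorProduct.induction_on with
    | zero => simp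
    | tmul c b => simp
    | add x y hx hy => rw [map_add, map_add, map_add, hx, hy]

omit [IsDomain A] [IsNoetherianRing B] [Module.Flat A B] [Algebra (FractionRing A) K']
  [IsScalarTower A (FractionRing A) K'] [FiniteDimensional (FractionRing A) K'] in
theorem SS_mono {C C' : Subalgebra A K'} (hle : C ≤ C') : SS (B := B) C ≤ SS C' := by
  intro t ht
  rw [mem_SS_iff] at ht ⊢
  obtain ⟨x, rfl⟩ := ht
  exact ⟨_, jj_comp hle x⟩

omit [IsDomain A] [IsNoetherianRing B] [Module.Flat A B] [Algebra (FractionRing A) K']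
  [IsScalarTower A (FractionRing A) K'] [FiniteDimensional (FractionRing A) K'] in
theorem isIntegral_of_mem_SS (C : Subalgebra A K') [Module.Finite A C] (t : B ⊗[A] K')
    (ht : t ∈ SS (B := B) C) : IsIntegral B t := by
  obtain ⟨z, rfl⟩ := ht
  haveI : Algebra.IsIntegral A C := inferInstance
  have hz : IsIntegral B z := Algebra.IsIntegral.isIntegral z
  exact hz.map (Algebra.TensorProduct.map (AlgHom.id B B) C.val)

/-- EGA 0_IV 23.2.4 (i). -/
theorem exists_stable_fam
    (hJ : ∀ (q : Ideal B) [q.IsPrime], q ∈ minimalPrimes B → CAlg.IsN2 (B ⧸ q)) :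
    ∃ Cα : Subalgebra A K', Fam Cα ∧
      ∀ C : Subalgebra A K', Fam C → ∀ hle : Cα ≤ C,
        (∀ x : ↥Cα ⊗[A] B, IsNilpotent (Algebra.TensorProduct.map (Subalgebra.inclusion hle)
          (AlgHom.id A B) x) → IsNilpotent x) ∧
        (∀ y : ↥C ⊗[A] B, ∃ x : ↥Cα ⊗[A] B,
          IsNilpotent (Algebra.TensorProduct.map (Subalgebra.inclusion hle)
            (AlgHom.id A B) x - y)) := by
  haveI : Module.Flat A K' := flat_K'
  haveI : Algebra.EssFiniteType A K' := essFiniteType_K'
  haveI : Module.Flat B (B ⊗[A] K') := inferInstance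
  haveI : Algebra.EssFiniteType B (B ⊗[A] K') := inferInstance
  haveI : IsNoetherianRing (B ⊗[A] K') := Algebra.EssFiniteType.isNoetherianRing B _
  haveI : Algebra.HasGoingDown B (B ⊗[A] K') := inferInstance
  obtain ⟨C₀, hC₀⟩ := exists_fam (A := A) (K' := K')
  obtain ⟨S₀, ⟨Cα, hCα, rfl⟩, hS₀⟩ := exists_stable (B := B) (T := B ⊗[A] K') hJ
    (SS '' {C : Subalgebra A K' | Fam C}) ⟨_, ⟨C₀, hC₀, rfl⟩⟩ (by
      rintro _ ⟨C, hC, rfl⟩ t ht
      haveI := hC.1
      exact isIntegral_of_mem_SS C t ht)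
  refine ⟨Cα, hCα, fun C hC hle => ⟨fun x hx => ?_, fun y => ?_⟩⟩
  · have h1 : IsNilpotent (jj (B := B) Cα x) := by
      rw [← jj_comp hle x]
      exact hx.map (jj C)
    obtain ⟨n, hn⟩ := h1
    refine ⟨n, jj_injective Cα ?_⟩
    rw [map_pow, hn, map_zero]
  · obtain ⟨t, ht, hnil⟩ := hS₀ (SS C) ⟨C, hC, rfl⟩ (SS_mono hle) (jj C y)
      ((mem_SS_iff C _).mpr ⟨y, rfl⟩)
    obtain ⟨x, rfl⟩ := (mem_SS_iff Cα t).mp ht
    refine ⟨x, ?_⟩
    obtain ⟨n, hn⟩ := hnil
    refine ⟨n, jj_injective C ?_⟩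
    rw [map_pow, map_sub, jj_comp hle x, hn, map_zero]

end Main

section Radicial

variable {A B K' : Type u} [CommRing A] [CommRing B] [Algebra A B] [Field K'] [Algebra A K']

/-- Ring form of EGA 0_IV 23.2.4 (ii): if `B` is faithfully flat over `A` and `(Cα ⊗ B)_red →
(C ⊗ B)_red` is surjective for all finite `C ⊇ Cα`, two maps from the integral closure of `A` in
`K'` to a field which agree on `Cα` are equal. -/
theorem ringHom_ext_of_stable [Module.FaithfullyFlat A B] (Cα : Subalgebra A K')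
    [Module.Finite A Cα]
    (hsurj : ∀ C : Subalgebra A K', Module.Finite A C → ∀ hle : Cα ≤ C,
      ∀ y : ↥C ⊗[A] B, ∃ x : ↥Cα ⊗[A] B,
        IsNilpotent (Algebra.TensorProduct.map (Subalgebra.inclusion hle) (AlgHom.id A B) x - y))
    (hint : Cα ≤ integralClosure A K') {k : Type u} [Field k]
    (χ₁ χ₂ : integralClosure A K' →+* k)
    (h12 : χ₁.comp (Subalgebra.inclusion hint).toRingHom =
      χ₂.comp (Subalgebra.inclusion hint).toRingHom) : χ₁ = χ₂ := by
  classical
  ext ⟨x, hx⟩
  -- the algebra `C = Cα[x]`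
  let C : Subalgebra A K' := Cα ⊔ Algebra.adjoin A {x}
  haveI : Module.Finite A (Algebra.adjoin A ({x} : Set K')) := by
    have h1 := fg_adjoin_of_finite (R := A) (Set.finite_singleton x) (by
      rintro _ rfl; exact hx)
    exact (Module.Finite.iff_fg (N := Subalgebra.toSubmodule (Algebra.adjoin A {x}))).mpr h1
  haveI hCfin : Module.Finite A C := Subalgebra.finite_sup _ _
  have hle : Cα ≤ C := le_sup_left
  have hCint : C ≤ integralClosure A K' := by
    refine sup_le hint (Algebra.adjoin_le ?_)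
    rintro _ rfl; exact hx
  have hxC : x ∈ C := (le_sup_right : Algebra.adjoin A {x} ≤ C) (Algebra.subset_adjoin rfl)
  -- `k` as an `A`-algebra
  letI algk : Algebra A k := (χ₁.comp (algebraMap A (integralClosure A K'))).toAlgebra
  -- a field `k'` over `k ⊗ B`
  haveI : Nontrivial (k ⊗[A] B) := inferInstance
  obtain ⟨m, hm⟩ := Ideal.exists_maximal (k ⊗[A] B)
  letI : Field ((k ⊗[A] B) ⧸ m) := Ideal.Quotient.field m
  let j : k →ₐ[A] (k ⊗[A] B) ⧸ m :=
    (Ideal.Quotient.mkₐ A m).comp Algebra.TensorProduct.includeLeft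
  let θ : B →ₐ[A] (k ⊗[A] B) ⧸ m :=
    (Ideal.Quotient.mkₐ A m).comp Algebra.TensorProduct.includeRight
  have hA : ∀ a : A, χ₂ (algebraMap A (integralClosure A K') a) =
      χ₁ (algebraMap A (integralClosure A K') a) := by
    intro a
    have := RingHom.congr_fun h12 (algebraMap A Cα a)
    exact this.symm
  let f₁ : ↥C →ₐ[A] k :=
    { toRingHom := χ₁.comp (Subalgebra.inclusion hCint).toRingHom
      commutes' := fun a => rfl }
  let f₂ : ↥C →ₐ[A] k :=
    { toRingHom := χ₂.comp (Subalgebra.inclusion hCint).toRingHom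
      commutes' := fun a => hA a }
  let Θ₁ : ↥C ⊗[A] B →ₐ[A] (k ⊗[A] B) ⧸ m := Algebra.TensorProduct.productMap (j.comp f₁) θ
  let Θ₂ : ↥C ⊗[A] B →ₐ[A] (k ⊗[A] B) ⧸ m := Algebra.TensorProduct.productMap (j.comp f₂) θ
  have hΘ : ∀ z : ↥Cα ⊗[A] B,
      Θ₁ (Algebra.TensorProduct.map (Subalgebra.inclusion hle) (AlgHom.id A B) z) =
      Θ₂ (Algebra.TensorProduct.map (Subalgebra.inclusion hle) (AlgHom.id A B) z) := by
    intro z
    induction z using TensorProduct.induction_on with
    | zero => simp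
    | tmul c b =>
      simp only [Algebra.TensorProduct.map_tmul, AlgHom.coe_id, id_eq, Θ₁, Θ₂,
        Algebra.TensorProduct.productMap_apply_tmul, AlgHom.comp_apply]
      congr 2
      exact RingHom.congr_fun h12 c
    | add x y hx hy => rw [map_add, map_add, map_add, hx, hy]
  obtain ⟨z, hz⟩ := hsurj C hCfin hle ((⟨x, hxC⟩ : C) ⊗ₜ[A] (1 : B))
  have h1 : ∀ Θ : ↥C ⊗[A] B →ₐ[A] (k ⊗[A] B) ⧸ m,
      Θ (Algebra.TensorProduct.map (Subalgebra.inclusion hle) (AlgHom.id A B) z) =
        Θ ((⟨x, hxC⟩ : C) ⊗ₜ[A] (1 : B)) := by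
    intro Θ
    have := (hz.map Θ).eq_zero
    rwa [map_sub, sub_eq_zero] at this
  have h2 : Θ₁ ((⟨x, hxC⟩ : C) ⊗ₜ[A] (1 : B)) = Θ₂ ((⟨x, hxC⟩ : C) ⊗ₜ[A] (1 : B)) := by
    rw [← h1 Θ₁, ← h1 Θ₂, hΘ]
  simp only [Θ₁, Θ₂, Algebra.TensorProduct.productMap_apply_tmul, map_one, mul_one,
    AlgHom.comp_apply] at h2
  exact j.toRingHom.injective h2

/-- Scheme form. -/
theorem universallyInjective_of_ringHom_ext {R S : Type u} [CommRing R] [CommRing S]
    (φ : R →+* S)
    (h : ∀ (k : Type u) [Field k] (χ₁ χ₂ : S →+* k), χ₁.comp φ = χ₂.comp φ → χ₁ = χ₂) :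
    AlgebraicGeometry.UniversallyInjective
      (AlgebraicGeometry.Spec.map (CommRingCat.ofHom φ)) := by
  have htfae := (AlgebraicGeometry.tfae_universallyInjective
    (AlgebraicGeometry.Spec.map (CommRingCat.ofHom φ))).out 0 1
  refine htfae.mpr ?_
  intro k _ g₁ g₂ hg
  obtain ⟨ψ₁, rfl⟩ := AlgebraicGeometry.Spec.map_surjective g₁
  obtain ⟨ψ₂, rfl⟩ := AlgebraicGeometry.Spec.map_surjective g₂
  simp only [← AlgebraicGeometry.Spec.map_comp] at hg
  have h1 := AlgebraicGeometry.Spec.map_injective hg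
  have h2 : ψ₁.hom.comp φ = ψ₂.hom.comp φ := congrArg CommRingCat.Hom.hom h1
  have h3 := h k ψ₁.hom ψ₂.hom h2
  congr 1
  exact CommRingCat.hom_ext h3

end Radicial

end Groth.Agent.Lib.JapStab96
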