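import Groth.Agent.Lib.AlgClosedGeom
import Groth.Agent.Lib.GeomDescent
import Mathlib.AlgebraicGeometry.Morphisms.UniversallyInjective
import Mathlib.AlgebraicGeometry.Morphisms.UniversallyClosed
import Mathlib.AlgebraicGeometry.Morphisms.Integral
import Mathlib.FieldTheory.PurelyInseparable.Basic
import Mathlib.FieldTheory.IsSepClosed

/-!
# Schemes over a separably closed field (helper71)

* base change along a purely inseparable field extension is a homeomorphism;
* over a separably closed field, irreducible (connected) schemes are geometrically irreducible
  (connected).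
-/

set_option autoImplicit false
universe u
open CategoryTheory AlgebraicGeometry CategoryTheory.Limits

namespace Groth.Agent.Lib.H71SepClosedGeom

section PurelyInsep

variable {k : Type u} [Field k] (K : Type u) [Field K] [Algebra k K]

theorem universallyInjective_SpecMap [IsPurelyInseparable k K] :
    UniversallyInjective (Spec.map (CommRingCat.ofHom (algebraMap k K))) := by
  refine ((tfae_universallyInjective (Spec.map (CommRingCat.ofHom (algebraMap k K)))).out 0 1).mpr ?_
  intro L _ g₁ g₂ hg
  obtain ⟨φ₁, rfl⟩ := Spec.map_surjective g₁
  obtain ⟨φ₂, rfl⟩ := Spec.map_surjective g₂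
  simp only [← Spec.map_comp] at hg
  have h1 := Spec.map_injective hg
  have h2 : φ₁.hom.comp (algebraMap k K) = φ₂.hom.comp (algebraMap k K) := by
    have := congrArg CommRingCat.Hom.hom h1
    simpa using this
  have h3 : φ₁.hom = φ₂.hom := IsPurelyInseparable.injective_comp_algebraMap k K L h2
  congr 1
  exact CommRingCat.hom_ext h3

theorem isIntegralHom_SpecMap [Algebra.IsAlgebraic k K] :
    IsIntegralHom (Spec.map (CommRingCat.ofHom (algebraMap k K))) := by
  rw [IsIntegralHom.SpecMap_iff]
  exact algebraMap_isIntegral_iff.mpr inferInstance

instance surjective_SpecMap : Surjective (Spec.map (CommRingCat.ofHom (algebraMap k K))) :=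
  Groth.Agent.Lib.GeomDescent.surjective_of_nonempty_of_field _

/-- Base change along a purely inseparable field extension is a homeomorphism. -/
theorem isHomeomorph_pullback_fst [IsPurelyInseparable k K] {X : Scheme.{u}}
    (f : X ⟶ Spec (CommRingCat.of k)) :
    IsHomeomorph (pullback.fst f (Spec.map (CommRingCat.ofHom (algebraMap k K)))).base := by
  have hi : UniversallyInjective (Spec.map (CommRingCat.ofHom (algebraMap k K))) :=
    universallyInjective_SpecMap K
  have hint : IsIntegralHom (Spec.map (CommRingCat.ofHom (algebraMap k K))) :=
    isIntegralHom_SpecMap K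
  have hc : UniversallyClosed (Spec.map (CommRingCat.ofHom (algebraMap k K))) := inferInstance
  have h1 : UniversallyInjective (pullback.fst f (Spec.map (CommRingCat.ofHom (algebraMap k K)))) :=
    MorphismProperty.pullback_fst _ _ hi
  have h2 : UniversallyClosed (pullback.fst f (Spec.map (CommRingCat.ofHom (algebraMap k K)))) :=
    MorphismProperty.pullback_fst _ _ hc
  have h3 : Surjective (pullback.fst f (Spec.map (CommRingCat.ofHom (algebraMap k K)))) :=
    MorphismProperty.pullback_fst _ _ (surjective_SpecMap K)
  rw [isHomeomorph_iff_continuous_isClosedMap_bijective]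
  exact ⟨(pullback.fst f _).continuous, (pullback.fst f _).isClosedMap,
    (pullback.fst f _).injective, (pullback.fst f _).surjective⟩

end PurelyInsep

section SepClosed

variable {k : Type u} [Field k] [IsSepClosed k]

/-- Over a separably closed field, every irreducible scheme is geometrically irreducible. -/
theorem geometricallyIrreducible_of_irreducibleSpace {X : Scheme.{u}}
    (f : X ⟶ Spec (CommRingCat.of k)) [IrreducibleSpace X] : GeometricallyIrreducible f := by
  let K := AlgebraicClosure k
  have hhomeo := isHomeomorph_pullback_fst K f
  have hirr : IrreducibleSpace ↥(pullback f (Spec.map (CommRingCat.ofHom (algebraMap k K)))) :=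
    (hhomeo.homeomorph).irreducibleSpace_iff.2 inferInstance
  have hgeo : GeometricallyIrreducible (pullback.snd f (Spec.map (CommRingCat.ofHom (algebraMap k K)))) :=
    Groth.Agent.Lib.AlgClosedGeom.geometricallyIrreducible_of_irreducibleSpace _
  refine ⟨?_⟩
  refine Groth.Agent.Lib.GeomDescent.geometrically_of_pullback_snd_of_surjective
    (fun X => IrreducibleSpace X) ?_ f (Spec.map (CommRingCat.ofHom (algebraMap k K)))
    hgeo.geometrically_irreducibleSpace
  intro W Z p hp hW
  have h : IsIrreducible (Set.univ : Set Z) := by
    rw [← Set.image_univ_of_surjective p.surjective]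
    exact (IrreducibleSpace.isIrreducible_univ W).image _ p.continuous.continuousOn
  exact (irreducibleSpace_def Z).2 h

/-- Over a separably closed field, every connected scheme is geometrically connected. -/
theorem geometricallyConnected_of_connectedSpace {X : Scheme.{u}}
    (f : X ⟶ Spec (CommRingCat.of k)) [ConnectedSpace X] : GeometricallyConnected f := by
  let K := AlgebraicClosure k
  have hhomeo := isHomeomorph_pullback_fst K f
  have hconn : ConnectedSpace ↥(pullback f (Spec.map (CommRingCat.ofHom (algebraMap k K)))) :=
    (hhomeo.homeomorph).symm.surjective.connectedSpace (hhomeo.homeomorph).symm.continuous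
  have hgeo : GeometricallyConnected (pullback.snd f (Spec.map (CommRingCat.ofHom (algebraMap k K)))) :=
    Groth.Agent.Lib.AlgClosedGeom.geometricallyConnected_of_connectedSpace _
  refine ⟨?_⟩
  refine Groth.Agent.Lib.GeomDescent.geometrically_of_pullback_snd_of_surjective
    (fun X => ConnectedSpace X) ?_ f (Spec.map (CommRingCat.ofHom (algebraMap k K)))
    hgeo.geometrically_connectedSpace
  intro W Z p hp hW
  exact p.surjective.connectedSpace p.continuous

end SepClosed

section Descent

variable {k : Type u} [Field k] (K : Type u) [Field K] [Algebra k K]

/-- If `X_K` is irreducible for a separably closed extension `K` of `k`, then `X` is geometrically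
irreducible. -/
theorem geometricallyIrreducible_of_irreducibleSpace_pullback [IsSepClosed K] {X : Scheme.{u}}
    (f : X ⟶ Spec (CommRingCat.of k))
    [IrreducibleSpace ↥(pullback f (Spec.map (CommRingCat.ofHom (algebraMap k K))))] :
    GeometricallyIrreducible f := by
  have hgeo : GeometricallyIrreducible (pullback.snd f (Spec.map (CommRingCat.ofHom (algebraMap k K)))) :=
    geometricallyIrreducible_of_irreducibleSpace _
  refine ⟨?_⟩
  refine Groth.Agent.Lib.GeomDescent.geometrically_of_pullback_snd_of_surjective
    (fun X => IrreducibleSpace X) ?_ f (Spec.map (CommRingCat.ofHom (algebraMap k K)))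
    hgeo.geometrically_irreducibleSpace
  intro W Z p hp hW
  have h : IsIrreducible (Set.univ : Set Z) := by
    rw [← Set.image_univ_of_surjective p.surjective]
    exact (IrreducibleSpace.isIrreducible_univ W).image _ p.continuous.continuousOn
  exact (irreducibleSpace_def Z).2 h

/-- If `X_K` is connected for a separably closed extension `K` of `k`, then `X` is geometrically
connected. -/
theorem geometricallyConnected_of_connectedSpace_pullback [IsSepClosed K] {X : Scheme.{u}}
    (f : X ⟶ Spec (CommRingCat.of k))
    [ConnectedSpace ↥(pullback f (Spec.map (CommRingCat.ofHom (algebraMap k K))))] :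
    GeometricallyConnected f := by
  have hgeo : GeometricallyConnected (pullback.snd f (Spec.map (CommRingCat.ofHom (algebraMap k K)))) :=
    geometricallyConnected_of_connectedSpace _
  refine ⟨?_⟩
  refine Groth.Agent.Lib.GeomDescent.geometrically_of_pullback_snd_of_surjective
    (fun X => ConnectedSpace X) ?_ f (Spec.map (CommRingCat.ofHom (algebraMap k K)))
    hgeo.geometrically_connectedSpace
  intro W Z p hp hW
  exact p.surjective.connectedSpace p.continuous

end Descent

end Groth.Agent.Lib.H71SepClosedGeom
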