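import Mathlib.RingTheory.QuasiFinite.Basic
import Mathlib.RingTheory.Localization.Integral
import Mathlib.RingTheory.KrullDimension.Zero

/-!
# Generic finiteness, algebra part (helper45)

`R → A` of finite type, `p` a minimal prime of `R` with only finitely many primes of `A` over it.
Then there is `s ∉ p` such that every `a : A` becomes integral over `R` after multiplying with a
power of `s` (so `R_s → A_s` is finite).  (Stacks 02ML-style.)
-/

set_option autoImplicit false

namespace Groth.Agent.Lib.GenFinAlg45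

open Polynomial TensorProduct

variable {R A : Type*} [CommRing R] [CommRing A]

/-- Elements of a minimal prime are nilpotent up to an element outside of the prime. -/
theorem exists_mul_pow_eq_zero_of_mem_minimalPrimes {p : Ideal R} (hp : p ∈ minimalPrimes R)
    {a : R} (ha : a ∈ p) : ∃ b ∉ p, ∃ n : ℕ, b * a ^ n = 0 := by
  have := hp.1.1
  have : Ring.KrullDimLE 0 (Localization.AtPrime p) := .of_isLocalization _ hp _
  have h1 : algebraMap R (Localization.AtPrime p) a ∈
      IsLocalRing.maximalIdeal (Localization.AtPrime p) := by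
    rw [← Localization.AtPrime.map_eq_maximalIdeal]
    exact Ideal.mem_map_of_mem _ ha
  rw [← Ring.KrullDimLE.nilradical_eq_maximalIdeal, mem_nilradical] at h1
  obtain ⟨n, hn⟩ := h1
  rw [← map_pow, IsLocalization.map_eq_zero_iff p.primeCompl] at hn
  obtain ⟨⟨b, hb⟩, hb'⟩ := hn
  exact ⟨b, hb, n, hb'⟩

variable [Algebra R A]

theorem finite_fiber_of_finite_preimage [Algebra.FiniteType R A] (p : Ideal R) [p.IsPrime]
    (hfin : (PrimeSpectrum.comap (algebraMap R A) ⁻¹' {⟨p, inferInstance⟩}).Finite) :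
    Module.Finite p.ResidueField (p.Fiber A) := by
  rw [Module.finite_iff_isArtinianRing, isArtinianRing_iff_isNoetherianRing_krullDimLE_zero]
  have : IsJacobsonRing (p.Fiber A) := isJacobsonRing_of_finiteType (A := p.ResidueField)
  have : Finite (PrimeSpectrum (p.Fiber A)) :=
    (PrimeSpectrum.preimageEquivFiber R A ⟨p, ‹_›⟩).finite_iff.mp hfin
  exact ⟨Algebra.FiniteType.isNoetherianRing p.ResidueField _,
    (PrimeSpectrum.discreteTopology_iff_finite_and_krullDimLE_zero.mp inferInstance).right⟩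

/-- If `1 ⊗ a = 0` in the fibre over a minimal prime `p`, then `v • a ^ N = 0` for some `v ∉ p`. -/
theorem exists_smul_pow_eq_zero_of_one_tmul_eq_zero (p : Ideal R) [p.IsPrime]
    (hp : p ∈ minimalPrimes R) (a : A) (ha : (1 : p.ResidueField) ⊗ₜ[R] a = 0) :
    ∃ v ∉ p, ∃ N : ℕ, v • a ^ N = 0 := by
  let _ : Algebra A (p.Fiber A) := Algebra.TensorProduct.rightAlgebra
  have : Ring.KrullDimLE 0 (Localization.AtPrime p) := .of_isLocalization _ hp _
  let e := Ideal.Fiber.algEquivQuotient p (S := A)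
  have h1 : e (algebraMap A (p.Fiber A) a) = 0 := by
    have : algebraMap A (p.Fiber A) a = (1 : p.ResidueField) ⊗ₜ[R] a := rfl
    rw [this, ha, map_zero]
  rw [e.commutes, IsScalarTower.algebraMap_apply A
    (Localization (Algebra.algebraMapSubmonoid A p.primeCompl)) _, Ideal.Quotient.algebraMap_eq,
    Ideal.Quotient.eq_zero_iff_mem] at h1
  have h2 : (IsLocalRing.maximalIdeal (Localization p.primeCompl)).map
      (algebraMap (Localization p.primeCompl)
        (Localization (Algebra.algebraMapSubmonoid A p.primeCompl))) ≤ nilradical _ := by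
    rw [Ideal.map_le_iff_le_comap, ← Ring.KrullDimLE.nilradical_eq_maximalIdeal]
    exact fun x hx ↦ IsNilpotent.map hx _
  obtain ⟨N, hN⟩ := mem_nilradical.mp (h2 h1)
  rw [← map_pow, IsLocalization.map_eq_zero_iff (Algebra.algebraMapSubmonoid A p.primeCompl)] at hN
  obtain ⟨⟨c, v, hv, rfl⟩, hc⟩ := hN
  exact ⟨v, hv, N, by rw [Algebra.smul_def]; exact hc⟩

theorem exists_smul_isIntegral_of_finite_fiber [Algebra.FiniteType R A] (p : Ideal R) [p.IsPrime]
    (hp : p ∈ minimalPrimes R)
    (hfin : (PrimeSpectrum.comap (algebraMap R A) ⁻¹' {⟨p, inferInstance⟩}).Finite) (x : A) :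
    ∃ s ∉ p, IsIntegral R (s • x) := by
  have hF := finite_fiber_of_finite_preimage p hfin
  have h2 : IsIntegral p.ResidueField ((1 : p.ResidueField) ⊗ₜ[R] x : p.Fiber A) :=
    Algebra.IsIntegral.isIntegral _
  have : Algebra.IsIntegral (Localization.AtPrime p) p.ResidueField :=
    Algebra.isIntegral_of_surjective IsLocalRing.residue_surjective
  have h3 : IsIntegral (Localization.AtPrime p) ((1 : p.ResidueField) ⊗ₜ[R] x : p.Fiber A) :=
    isIntegral_trans _ h2
  obtain ⟨m, hm⟩ := IsIntegral.exists_multiple_integral_of_isLocalization p.primeCompl _ h3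
  obtain ⟨Q, hQ, hQ0⟩ := hm
  have h4 : m • ((1 : p.ResidueField) ⊗ₜ[R] x : p.Fiber A) =
      (Algebra.TensorProduct.includeRight : A →ₐ[R] p.Fiber A) ((m : R) • x) := by
    rw [Algebra.TensorProduct.includeRight_apply, Submonoid.smul_def, TensorProduct.tmul_smul]
  rw [← aeval_def, h4, aeval_algHom_apply, Algebra.TensorProduct.includeRight_apply] at hQ0
  obtain ⟨v, hv, N, hvN⟩ := exists_smul_pow_eq_zero_of_one_tmul_eq_zero p hp _ hQ0
  refine ⟨v * m, p.primeCompl.mul_mem hv m.2, ?_⟩
  have h5 : aeval ((m : R) • x) (C v * Q ^ N) = 0 := by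
    rw [map_mul, aeval_C, map_pow, ← Algebra.smul_def, hvN]
  have h6 := isIntegral_leadingCoeff_smul (C v * Q ^ N) ((m : R) • x) h5
  rw [leadingCoeff_mul_monic (hQ.pow N), leadingCoeff_C, smul_smul] at h6
  exact h6

theorem exists_forall_isIntegral_pow_smul [Algebra.FiniteType R A] (p : Ideal R) [p.IsPrime]
    (hp : p ∈ minimalPrimes R)
    (hfin : (PrimeSpectrum.comap (algebraMap R A) ⁻¹' {⟨p, inferInstance⟩}).Finite) :
    ∃ s ∉ p, ∀ a : A, ∃ n : ℕ, IsIntegral R (s ^ n • a) := by
  classical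
  obtain ⟨G, hG⟩ := (Algebra.FiniteType.out : (⊤ : Subalgebra R A).FG)
  choose t ht ht' using fun x : A => exists_smul_isIntegral_of_finite_fiber p hp hfin x
  refine ⟨∏ x ∈ G, t x, ?_, ?_⟩
  · intro h
    obtain ⟨x, -, hx⟩ := (Ideal.IsPrime.prod_mem_iff).mp h
    exact ht x hx
  · set s := ∏ x ∈ G, t x with hs
    have hgen : ∀ x ∈ G, IsIntegral R (s • x) := by
      intro x hx
      rw [hs, ← Finset.mul_prod_erase G t hx, mul_comm, mul_smul]
      exact (ht' x).smul _
    intro a
    have ha : a ∈ Algebra.adjoin R (G : Set A) := by rw [hG]; trivial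
    induction ha using Algebra.adjoin_induction with
    | mem x hx => exact ⟨1, by simpa using hgen x hx⟩
    | algebraMap r => exact ⟨0, by simpa using isIntegral_algebraMap⟩
    | add x y _ _ hx hy =>
      obtain ⟨n₁, h₁⟩ := hx
      obtain ⟨n₂, h₂⟩ := hy
      refine ⟨n₁ + n₂, ?_⟩
      have : s ^ (n₁ + n₂) • (x + y) = s ^ n₂ • (s ^ n₁ • x) + s ^ n₁ • (s ^ n₂ • y) := by
        rw [smul_add, smul_smul, smul_smul, pow_add, mul_comm]
      rw [this]
      exact (h₁.smul _).add (h₂.smul _)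
    | mul x y _ _ hx hy =>
      obtain ⟨n₁, h₁⟩ := hx
      obtain ⟨n₂, h₂⟩ := hy
      refine ⟨n₁ + n₂, ?_⟩
      have : s ^ (n₁ + n₂) • (x * y) = (s ^ n₁ • x) * (s ^ n₂ • y) := by
        rw [smul_mul_smul_comm, pow_add]
      rw [this]
      exact h₁.mul h₂


/-- Ring hom version. -/
theorem exists_forall_isIntegralElem {R' A' : Type*} [CommRing R'] [CommRing A']
    (φ : R' →+* A') (hφ : φ.FiniteType) (p : Ideal R') [p.IsPrime]
    (hp : p ∈ minimalPrimes R')
    (hfin : (PrimeSpectrum.comap φ ⁻¹' {⟨p, inferInstance⟩}).Finite) :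
    ∃ s ∉ p, ∀ a : A', ∃ n : ℕ, φ.IsIntegralElem (φ s ^ n * a) := by
  algebraize [φ]
  obtain ⟨s, hs, h⟩ := exists_forall_isIntegral_pow_smul (A := A') p hp hfin
  refine ⟨s, hs, fun a => ?_⟩
  obtain ⟨n, hn⟩ := h a
  refine ⟨n, ?_⟩
  rw [Algebra.smul_def, map_pow] at hn
  exact hn

end Groth.Agent.Lib.GenFinAlg45
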