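import Groth.Agent.Lib.GenFinIrr45
import Mathlib.AlgebraicGeometry.FunctionField
import Mathlib.AlgebraicGeometry.ResidueField

/-!
# Generically finite dominant morphisms of integral schemes (helper45)

Pieces for the TFAE: (A) finite function field extension, (B) finite over some affine pieces,
(C) the generic fibre is a point, (D) finite over a nonempty affine open of the base.
-/

set_option autoImplicit false
universe u
open CategoryTheory AlgebraicGeometry TopologicalSpace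

namespace Groth.Agent.Lib.GenFinFF45

open Groth.Agent.Lib.GenFin45 Groth.Agent.Lib.GenFinMain45

/-- A quasi-finite local homomorphism of local rings induces a finite residue field extension. -/
theorem finite_residueField_of_quasiFinite {R S : Type*} [CommRing R] [CommRing S] [IsLocalRing R]
    [IsLocalRing S] (φ : R →+* S) [IsLocalHom φ] (h : φ.QuasiFinite) :
    let _ := (IsLocalRing.ResidueField.map φ).toAlgebra
    Module.Finite (IsLocalRing.ResidueField R) (IsLocalRing.ResidueField S) := by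
  let _ := (IsLocalRing.ResidueField.map φ).toAlgebra
  algebraize [φ]
  have hqf : Algebra.QuasiFinite R S := h
  let _ : Algebra R (IsLocalRing.ResidueField S) := ((IsLocalRing.residue S).comp φ).toAlgebra
  have : IsScalarTower R S (IsLocalRing.ResidueField S) :=
    IsScalarTower.of_algebraMap_eq (fun _ => rfl)
  have : IsScalarTower R (IsLocalRing.ResidueField R) (IsLocalRing.ResidueField S) :=
    IsScalarTower.of_algebraMap_eq (fun _ => rfl)
  have h1 : Algebra.QuasiFinite R (IsLocalRing.ResidueField S) :=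
    Algebra.QuasiFinite.of_surjective_algHom
      (IsScalarTower.toAlgHom R S (IsLocalRing.ResidueField S)) IsLocalRing.residue_surjective
  have h2 : Algebra.QuasiFinite (IsLocalRing.ResidueField R) (IsLocalRing.ResidueField S) :=
    Algebra.QuasiFinite.of_restrictScalars R _ _
  exact Module.Finite.of_quasiFinite

variable {X Y : Scheme.{u}}

/-- B ⟹ A. -/
theorem finite_residueField_of_isFinite_resLE (f : X ⟶ Y) {U : X.Opens} {V : Y.Opens}
    (e : U ≤ f ⁻¹ᵁ V) [IsFinite (f.resLE V U e)] (x : X) (hx : x ∈ U) :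
    let _ := (f.residueFieldMap x).hom.toAlgebra
    Module.Finite (Y.residueField (f x)) (X.residueField x) := by
  let x' : (U : Scheme.{u}) := ⟨x, hx⟩
  have h1 : (f.resLE V U e).QuasiFiniteAt x' := (f.resLE V U e).quasiFiniteAt x'
  rw [← Scheme.Hom.quasiFiniteAt_comp_iff (g := V.ι), Scheme.Hom.resLE_comp_ι,
    Scheme.Hom.quasiFiniteAt_comp_iff_of_isOpenImmersion] at h1
  exact finite_residueField_of_quasiFinite (f.stalkMap x).hom h1


theorem map_genericPoint (f : X ⟶ Y) [IsIntegral X] [IsIntegral Y] [IsDominant f] :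
    f (genericPoint X) = genericPoint Y := by
  apply ((genericPoint_spec Y).eq _).symm
  have h := (genericPoint_spec X).image f.continuous
  rwa [Set.image_univ, f.denseRange.closure_range] at h

theorem eq_genericPoint_of_specializes [IsIntegral Y] (y : Y) (h : y ⤳ genericPoint Y) :
    y = genericPoint Y :=
  (h.antisymm ((genericPoint_spec Y).specializes (Set.mem_univ y))).eq

/-- Every element of the residue field at `y ∈ V` (affine) is a fraction of sections over `V`. -/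
theorem exists_evaluation_mul_eq {V : Y.Opens} (hV : IsAffineOpen V) (y : Y) (hy : y ∈ V)
    (k : Y.residueField y) :
    ∃ r₁ r₂ : Γ(Y, V), Y.evaluation V y hy r₂ ≠ 0 ∧
      k * Y.evaluation V y hy r₂ = Y.evaluation V y hy r₁ := by
  obtain ⟨z, rfl⟩ := Y.residue_surjective y k
  let _ := Y.presheaf.algebra_section_stalk (⟨y, hy⟩ : V)
  have hloc := hV.isLocalization_stalk ⟨y, hy⟩
  obtain ⟨⟨r₁, r₂⟩, hz⟩ := IsLocalization.surj (hV.primeIdealOf ⟨y, hy⟩).asIdeal.primeCompl z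
  refine ⟨r₁, r₂.1, ?_, ?_⟩
  · rw [Scheme.evaluation_ne_zero_iff_mem_basicOpen, mem_basicOpen_iff hV _ y hy]
    exact r₂.2
  · have := congrArg (Y.residue y).hom hz
    rw [map_mul] at this
    exact this


theorem evaluation_appLE (f : X ⟶ Y) {U : X.Opens} {V : Y.Opens} (e : U ≤ f ⁻¹ᵁ V) (x : X)
    (hx : x ∈ U) (hfx : f x ∈ V) :
    Y.evaluation V (f x) hfx ≫ f.residueFieldMap x = f.appLE V U e ≫ X.evaluation U x hx := by
  rw [Scheme.evaluation_naturality f x hfx, Scheme.Hom.appLE, Category.assoc]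
  congr 1
  change X.presheaf.germ (f ⁻¹ᵁ V) x hfx ≫ X.residue x =
    X.presheaf.map (homOfLE e).op ≫ X.presheaf.germ U x hx ≫ X.residue x
  rw [← Category.assoc, X.presheaf.germ_res]

open Polynomial in
/-- KA: if the function field extension is finite then sections over charts are algebraic. -/
theorem isAlgebraic_appLE_of_finite_residueField (f : X ⟶ Y) [IsIntegral X] {U : X.Opens}
    {V : Y.Opens} (hV : IsAffineOpen V) (e : U ≤ f ⁻¹ᵁ V) (hξU : genericPoint X ∈ U)
    (hA : letI := (f.residueFieldMap (genericPoint X)).hom.toAlgebra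
      Module.Finite (Y.residueField (f (genericPoint X))) (X.residueField (genericPoint X)))
    (b : Γ(X, U)) :
    let _ := (f.appLE V U e).hom.toAlgebra
    IsAlgebraic Γ(Y, V) b := by
  let φ := (f.appLE V U e).hom
  let evB := (X.evaluation U (genericPoint X) hξU).hom
  let evR := (Y.evaluation V (f (genericPoint X)) (e hξU)).hom
  let ρ := (f.residueFieldMap (genericPoint X)).hom
  have hsq : ρ.comp evR = evB.comp φ := by
    have := evaluation_appLE f e (genericPoint X) hξU (e hξU)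
    exact congrArg CommRingCat.Hom.hom this
  let _ : Algebra Γ(Y, V) Γ(X, U) := φ.toAlgebra
  let _ : Algebra Γ(X, U) (X.residueField (genericPoint X)) := evB.toAlgebra
  let _ : Algebra (Y.residueField (f (genericPoint X))) (X.residueField (genericPoint X)) :=
    ρ.toAlgebra
  let _ : Algebra Γ(Y, V) (Y.residueField (f (genericPoint X))) := evR.toAlgebra
  let _ : Algebra Γ(Y, V) (X.residueField (genericPoint X)) := (evB.comp φ).toAlgebra
  have : IsScalarTower Γ(Y, V) Γ(X, U) (X.residueField (genericPoint X)) :=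
    .of_algebraMap_eq (fun _ => rfl)
  have : IsScalarTower Γ(Y, V) (Y.residueField (f (genericPoint X)))
      (X.residueField (genericPoint X)) :=
    .of_algebraMap_eq (fun r => (congrArg (fun k => k r) hsq).symm)
  have : Module.Finite (Y.residueField (f (genericPoint X))) (X.residueField (genericPoint X)) :=
    hA
  have : Algebra.IsAlgebraic (Y.residueField (f (genericPoint X)))
      (X.residueField (genericPoint X)) := Algebra.IsAlgebraic.of_finite _ _
  have : Algebra.IsAlgebraic Γ(Y, V) (Y.residueField (f (genericPoint X))) := ⟨fun k => by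
    obtain ⟨r₁, r₂, h2, h⟩ := exists_evaluation_mul_eq hV (f (genericPoint X)) (e hξU) k
    refine ⟨C r₂ * Polynomial.X - C r₁, ?_, ?_⟩
    · intro h0
      have h1 := congrArg (fun p => p.coeff 1) h0
      simp at h1
      exact h2 (by rw [h1, map_zero])
    · rw [map_sub, map_mul, aeval_C, aeval_C, aeval_X, sub_eq_zero, mul_comm]
      exact h⟩
  have : Algebra.IsAlgebraic Γ(Y, V) (X.residueField (genericPoint X)) :=
    Algebra.IsAlgebraic.trans Γ(Y, V) (Y.residueField (f (genericPoint X))) _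
  have hinj : Function.Injective (algebraMap Γ(X, U) (X.residueField (genericPoint X))) := by
    have h1 : Function.Injective (X.presheaf.germ U (genericPoint X) hξU) :=
      germ_injective_of_isIntegral X _ hξU
    have h2 : Function.Injective (X.residue (genericPoint X)).hom :=
      RingHom.injective (X.residue (genericPoint X)).hom
    exact h2.comp h1
  exact (isAlgebraic_algebraMap_iff hinj).mp (Algebra.IsAlgebraic.isAlgebraic _)


/-- A ⟹ C. -/
theorem eq_genericPoint_of_finite_residueField (f : X ⟶ Y) [IsIntegral X] [IsIntegral Y]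
    (hA : letI := (f.residueFieldMap (genericPoint X)).hom.toAlgebra
      Module.Finite (Y.residueField (f (genericPoint X))) (X.residueField (genericPoint X)))
    (x : X) (hx : f x = genericPoint Y) : x = genericPoint X := by
  obtain ⟨_, ⟨V, hV, rfl⟩, hfxV, -⟩ := Y.isBasis_affineOpens.exists_subset_of_mem_open
    (Set.mem_univ (f x)) isOpen_univ
  replace hV : IsAffineOpen V := hV
  obtain ⟨V, rfl⟩ : ∃ V' : Y.Opens, V' = V := ⟨V, rfl⟩
  have hxV : x ∈ f ⁻¹ᵁ V := hfxV
  obtain ⟨_, ⟨U, hU, rfl⟩, hxU, hUV⟩ := X.isBasis_affineOpens.exists_subset_of_mem_open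
    hxV (f ⁻¹ᵁ V).isOpen
  replace hU : IsAffineOpen U := hU
  obtain ⟨U, rfl⟩ : ∃ U' : X.Opens, U' = U := ⟨U, rfl⟩
  have e : U ≤ f ⁻¹ᵁ V := hUV
  have hneU : Nonempty U := ⟨⟨x, hxU⟩⟩
  have hneV : Nonempty V := ⟨⟨f x, hfxV⟩⟩
  have hξU : genericPoint X ∈ U :=
    ((genericPoint_spec X).mem_open_set_iff U.isOpen).mpr ⟨x, Set.mem_univ _, hxU⟩
  have hηV : genericPoint Y ∈ V := hx ▸ hfxV
  set φ := f.appLE V U e with hφ
  set 𝔮 : Spec Γ(X, U) := hU.primeIdealOf ⟨x, hxU⟩ with h𝔮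
  have h𝔮x : hU.fromSpec 𝔮 = x := hU.fromSpec_primeIdealOf ⟨x, hxU⟩
  -- the prime below 𝔮 is the generic point, i.e. ⊥
  have hcomap : Spec.map φ 𝔮 = (⊥ : PrimeSpectrum Γ(Y, V)) := by
    have h1 : hV.fromSpec (Spec.map φ 𝔮) = hV.fromSpec (hV.primeIdealOf ⟨genericPoint Y, hηV⟩) := by
      have h0 := map_fromSpec f hU hV e 𝔮
      rw [h𝔮x, hx] at h0
      rw [hV.fromSpec_primeIdealOf ⟨genericPoint Y, hηV⟩]
      exact h0.symm
    have h2 := hV.fromSpec.isOpenEmbedding.injective h1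
    rw [h2, hV.primeIdealOf_genericPoint, genericPoint_eq_bot_of_affine]
  have hq : 𝔮.asIdeal = ⊥ := by
    rw [eq_bot_iff]
    intro b hb
    rw [Ideal.mem_bot]
    by_contra hb0
    let _ := φ.hom.toAlgebra
    have halg : IsAlgebraic Γ(Y, V) b :=
      isAlgebraic_appLE_of_finite_residueField f hV e hξU hA b
    obtain ⟨r, hr, c, hc⟩ := halg.exists_nonzero_dvd (mem_nonZeroDivisors_of_ne_zero hb0)
    have h1 : φ.hom r ∈ 𝔮.asIdeal := by
      have : φ.hom r = b * c := hc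
      rw [this]
      exact Ideal.mul_mem_right _ _ hb
    have h2 : r ∈ (Spec.map φ 𝔮).asIdeal := h1
    rw [hcomap] at h2
    exact hr h2
  have h3 : 𝔮 = hU.primeIdealOf ⟨genericPoint X, hξU⟩ := by
    rw [hU.primeIdealOf_genericPoint, genericPoint_eq_bot_of_affine]
    exact PrimeSpectrum.ext hq
  have h4 := congrArg hU.fromSpec h3
  rwa [h𝔮x, hU.fromSpec_primeIdealOf ⟨genericPoint X, hξU⟩] at h4


set_option backward.isDefEq.respectTransparency.types false in
theorem isFinite_resLE_of_isIntegral (f : X ⟶ Y) [LocallyOfFiniteType f] {V : Y.Opens}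
    (hV : IsAffineOpen V) {W : X.Opens} (hW : IsAffineOpen W) (e : W ≤ f ⁻¹ᵁ V)
    (hint : (f.appLE V W e).hom.IsIntegral) : IsFinite (f.resLE V W e) := by
  rw [IsFinite.iff_isIntegralHom_and_locallyOfFiniteType]
  refine ⟨?_, inferInstance⟩
  have : IsAffine (V : Scheme.{u}) := hV
  rw [HasAffineProperty.iff_of_isAffine (P := @IsIntegralHom)]
  refine ⟨hW, ?_⟩
  exact (RingHom.isIntegral_respectsIso.arrow_mk_iso_iff (arrowResLEAppIso f V W e)).mpr hint

theorem basicOpen_appLE (f : X ⟶ Y) {U : X.Opens} {V : Y.Opens} (e : U ≤ f ⁻¹ᵁ V)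
    (t : Γ(Y, V)) :
    X.basicOpen ((f.appLE V U e).hom t) = U ⊓ f ⁻¹ᵁ Y.basicOpen t := by
  have h1 : (f.appLE V U e).hom t = (X.presheaf.map (homOfLE e).op).hom ((f.app V).hom t) := by
    rw [Scheme.Hom.appLE]
    rfl
  rw [h1, Scheme.basicOpen_res, ← Scheme.preimage_basicOpen]

/-- C ⟹ B. -/
theorem exists_isFinite_resLE_of_fibre (f : X ⟶ Y) [IsIntegral X] [IsIntegral Y] [IsDominant f]
    [LocallyOfFiniteType f] (hC : ∀ x : X, f x = genericPoint Y → x = genericPoint X) :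
    ∃ (U : X.Opens) (V : Y.Opens) (hUV : U ≤ f ⁻¹ᵁ V), IsAffineOpen U ∧ IsAffineOpen V ∧
      Nonempty ↥U ∧ IsFinite (f.resLE V U hUV) := by
  have hfξ : f (genericPoint X) = genericPoint Y := map_genericPoint f
  obtain ⟨_, ⟨V₀, hV₀, rfl⟩, hηV₀, -⟩ := Y.isBasis_affineOpens.exists_subset_of_mem_open
    (Set.mem_univ (genericPoint Y)) isOpen_univ
  replace hV₀ : IsAffineOpen V₀ := hV₀
  obtain ⟨V₀, rfl⟩ : ∃ V' : Y.Opens, V' = V₀ := ⟨V₀, rfl⟩
  have hξV : genericPoint X ∈ f ⁻¹ᵁ V₀ := by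
    change f (genericPoint X) ∈ V₀
    rw [hfξ]; exact hηV₀
  obtain ⟨_, ⟨U₀, hU₀, rfl⟩, hξU₀, hUV⟩ := X.isBasis_affineOpens.exists_subset_of_mem_open
    hξV (f ⁻¹ᵁ V₀).isOpen
  replace hU₀ : IsAffineOpen U₀ := hU₀
  obtain ⟨U₀, rfl⟩ : ∃ U' : X.Opens, U' = U₀ := ⟨U₀, rfl⟩
  have e : U₀ ≤ f ⁻¹ᵁ V₀ := hUV
  have hfin : (f ⁻¹' {genericPoint Y} ∩ (U₀ : Set X)).Finite :=
    (Set.finite_singleton (genericPoint X)).subset (fun x hx => hC x hx.1)
  obtain ⟨s, hs, hint⟩ := exists_forall_isIntegralElem f hU₀ hV₀ e (genericPoint Y) hηV₀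
    eq_genericPoint_of_specializes hfin
  have e' : X.basicOpen ((f.appLE V₀ U₀ e).hom (s * 1)) ≤ f ⁻¹ᵁ Y.basicOpen (s * 1) := by
    rw [basicOpen_appLE]; exact inf_le_right
  refine ⟨X.basicOpen ((f.appLE V₀ U₀ e).hom (s * 1)), Y.basicOpen (s * 1), e',
    hU₀.basicOpen _, hV₀.basicOpen _, ⟨⟨genericPoint X, ?_⟩⟩,
    isFinite_resLE_of_isIntegral f (hV₀.basicOpen _) (hU₀.basicOpen _) e'
      (isIntegral_appLE_basicOpen f hU₀ e s 1 hint e')⟩
  rw [basicOpen_appLE]
  refine ⟨hξU₀, ?_⟩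
  change f (genericPoint X) ∈ Y.basicOpen (s * 1)
  rw [hfξ, mul_one]
  exact hs

/-- D ⟹ B. -/
theorem exists_resLE_of_morphismRestrict (f : X ⟶ Y) [IsIntegral X] [IsIntegral Y] [IsDominant f]
    (V : Y.Opens) (hV : IsAffineOpen V) (hne : Nonempty ↥V) (hfin : IsFinite (f ∣_ V)) :
    ∃ (U : X.Opens) (V : Y.Opens) (hUV : U ≤ f ⁻¹ᵁ V), IsAffineOpen U ∧ IsAffineOpen V ∧
      Nonempty ↥U ∧ IsFinite (f.resLE V U hUV) := by
  have hfξ : f (genericPoint X) = genericPoint Y := map_genericPoint f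
  have : IsAffine (V : Scheme.{u}) := hV
  have hU : IsAffineOpen (f ⁻¹ᵁ V) := isAffine_of_isAffineHom (f ∣_ V)
  refine ⟨f ⁻¹ᵁ V, V, le_rfl, hU, hV, ⟨⟨genericPoint X, ?_⟩⟩, ?_⟩
  · change f (genericPoint X) ∈ V
    rw [hfξ]
    obtain ⟨y, hy⟩ := hne
    exact ((genericPoint_spec Y).mem_open_set_iff V.isOpen).mpr ⟨y, Set.mem_univ _, hy⟩
  · rw [Scheme.Hom.resLE_eq_morphismRestrict]
    exact hfin

/-- C + qc ⟹ D. -/
theorem exists_morphismRestrict_of_fibre_of_quasiCompact (f : X ⟶ Y) [IsIntegral X]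
    [IsIntegral Y] [IsDominant f] [LocallyOfFiniteType f] [QuasiCompact f]
    (hC : ∀ x : X, f x = genericPoint Y → x = genericPoint X) :
    ∃ V : Y.Opens, IsAffineOpen V ∧ Nonempty ↥V ∧ IsFinite (f ∣_ V) := by
  have hfξ : f (genericPoint X) = genericPoint Y := map_genericPoint f
  obtain ⟨_, ⟨V₀, hV₀, rfl⟩, hηV₀, -⟩ := Y.isBasis_affineOpens.exists_subset_of_mem_open
    (Set.mem_univ (genericPoint Y)) isOpen_univ
  replace hV₀ : IsAffineOpen V₀ := hV₀
  obtain ⟨V₀, rfl⟩ : ∃ V' : Y.Opens, V' = V₀ := ⟨V₀, rfl⟩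
  have hξV : genericPoint X ∈ f ⁻¹ᵁ V₀ := by
    change f (genericPoint X) ∈ V₀
    rw [hfξ]; exact hηV₀
  obtain ⟨_, ⟨U₀, hU₀, rfl⟩, hξU₀, hUV⟩ := X.isBasis_affineOpens.exists_subset_of_mem_open
    hξV (f ⁻¹ᵁ V₀).isOpen
  replace hU₀ : IsAffineOpen U₀ := hU₀
  obtain ⟨U₀, rfl⟩ : ∃ U' : X.Opens, U' = U₀ := ⟨U₀, rfl⟩
  have e : U₀ ≤ f ⁻¹ᵁ V₀ := hUV
  have hsub : f ⁻¹' {genericPoint Y} ⊆ {genericPoint X} := fun x hx => hC x hx
  obtain ⟨V, hV, hηV, -, hfinV⟩ := exists_isFinite_morphismRestrict_of_affine f (genericPoint Y)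
    eq_genericPoint_of_specializes hV₀ hηV₀ hU₀ e
    (fun x hx => by rw [hsub hx]; exact hξU₀) ((Set.finite_singleton _).subset hsub)
  exact ⟨V, hV, ⟨⟨genericPoint Y, hηV⟩⟩, hfinV⟩

/-- B + separated ⟹ D. -/
theorem exists_morphismRestrict_of_resLE_of_isSeparated (f : X ⟶ Y) [IsIntegral X]
    [IsIntegral Y] [IsDominant f] [IsSeparated f] (U : X.Opens) (V : Y.Opens)
    (e : U ≤ f ⁻¹ᵁ V) (hV : IsAffineOpen V) (hne : Nonempty ↥U)
    (hfin : IsFinite (f.resLE V U e)) :
    ∃ V : Y.Opens, IsAffineOpen V ∧ Nonempty ↥V ∧ IsFinite (f ∣_ V) := by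
  obtain ⟨u⟩ := hne
  have hneW : Nonempty ↥(f ⁻¹ᵁ V) := ⟨⟨u.1, e u.2⟩⟩
  have h1 : UniversallyClosed (X.homOfLE e ≫ f ∣_ V) := by
    have : IsFinite (X.homOfLE e ≫ f ∣_ V) := hfin
    infer_instance
  have h2 : UniversallyClosed (X.homOfLE e) := .of_comp_of_isSeparated _ (f ∣_ V)
  have hcl : IsClosed (Set.range (X.homOfLE e)) := (X.homOfLE e).isClosedMap.isClosed_range
  have hop : IsOpen (Set.range (X.homOfLE e)) := (X.homOfLE e).isOpenEmbedding.isOpen_range
  have hne' : Nonempty ((f ⁻¹ᵁ V : X.Opens) : Scheme.{u}) := hneW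
  have hint : IsIntegral (f ⁻¹ᵁ V : Scheme.{u}) := isIntegral_of_isOpenImmersion (f ⁻¹ᵁ V).ι
  have hpc : PreconnectedSpace ↥(f ⁻¹ᵁ V : Scheme.{u}) := inferInstance
  have huniv : Set.range (X.homOfLE e) = Set.univ :=
    IsClopen.eq_univ ⟨hcl, hop⟩ ⟨_, ⟨u, rfl⟩⟩
  have hUW : U = f ⁻¹ᵁ V := by
    apply le_antisymm e
    intro x hx
    have : (⟨x, hx⟩ : ↥(f ⁻¹ᵁ V)) ∈ Set.range (X.homOfLE e) := huniv ▸ Set.mem_univ _
    obtain ⟨u', hu'⟩ := this
    have h3 : (X.homOfLE e u').1 = x := congrArg Subtype.val hu'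
    have h4 : u'.1 = x := (Scheme.homOfLE_apply e u').symm.trans h3
    exact h4 ▸ u'.2
  subst hUW
  refine ⟨V, hV, ⟨⟨f u.1, u.2⟩⟩, ?_⟩
  rw [← Scheme.Hom.resLE_eq_morphismRestrict]
  exact hfin


end Groth.Agent.Lib.GenFinFF45
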