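import Groth.Agent.Lib.GenFlattenU64
import Groth.Agent.Lib.H77GenFreeMain
import Groth.Agent.Lib.FlatLimStage88
import Groth.Agent.Lib.FlatLimModel88

/-!
# Generic universal flattening (helper64)

* `exists_generic_flattening_noeth`: `k` Noetherian with prime nilradical, `S₀` a finite type
  `k`-algebra, `M₀` a finite `S₀`-module: there are a non-nilpotent `h₀` and an ideal `J₀ ≤ nil(k)`
  such that for every `k`-algebra `R'` in which `h₀` is invertible, `R' ⊗ M₀` is `R'`-flat iff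
  `J₀ R' = 0` (generic freeness modulo the nilradical, `H77GenFreeMain`, plus the universal flattening
  for nilpotent thickenings, `GenFlattenU64`).
* `exists_generic_flattening`: the same over any ring `A` with irreducible spectrum, for a finitely
  presented module over a finitely presented algebra (Noetherian model as in `FlatLimIntModel88`).
* `Good`, `Good.and`, `Good.finset`: finite conjunctions of such conditions.
-/

set_option autoImplicit false
set_option maxHeartbeats 400000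
set_option linter.style.haveILetI false
set_option linter.unusedSectionVars false

open TensorProduct Function
open Groth.Agent.Lib.FlatLimStage88 Groth.Agent.Lib.H77GenFree Groth.Agent.Lib.GenFlattenU64
open scoped Groth.Agent.Lib.FlatLimStage88

universe u

namespace Groth.Agent.Lib.GenFlatten64

section Noeth

variable {k M₀ : Type u} [CommRing k] [IsNoetherianRing k] [AddCommGroup M₀] [Module k M₀]

set_option synthInstance.maxHeartbeats 400000 in
/-- **Generic universal flattening over a Noetherian ring with irreducible spectrum.** -/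
theorem exists_generic_flattening_noeth (S₀ : Type u) [CommRing S₀] [Algebra k S₀]
    [Algebra.FiniteType k S₀] [Module S₀ M₀] [IsScalarTower k S₀ M₀] [Module.Finite S₀ M₀]
    (hprime : (nilradical k).IsPrime) :
    ∃ h₀ : k, ¬ IsNilpotent h₀ ∧ ∃ J₀ : Ideal k, J₀ ≤ nilradical k ∧
      ∀ (R' : Type u) [CommRing R'] [Algebra k R'], IsUnit (algebraMap k R' h₀) →
        (Module.Flat R' (R' ⊗[k] M₀) ↔ J₀.map (algebraMap k R') = ⊥) := by
  classical
  haveI := hprime
  set 𝔫 : Ideal k := nilradical k with h𝔫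
  haveI : IsDomain (k ⧸ 𝔫) := Ideal.Quotient.isDomain 𝔫
  -- generic freeness modulo the nilradical
  have hgf : GenFree (k ⧸ 𝔫) ((k ⧸ 𝔫) ⊗[k] M₀) :=
    Groth.Agent.Lib.H77GenFree.genFree_of_finiteType (R := k ⧸ 𝔫) ((k ⧸ 𝔫) ⊗[k] S₀)
      ((k ⧸ 𝔫) ⊗[k] M₀)
  obtain ⟨fb, hfb, s, hS⟩ := hgf
  obtain ⟨h₀, rfl⟩ := Ideal.Quotient.mk_surjective fb
  have hh₀ : h₀ ∉ 𝔫 := fun h => hfb (Ideal.Quotient.eq_zero_iff_mem.mpr h)
  refine ⟨h₀, fun h => hh₀ (mem_nilradical.mpr h), ?_⟩
  -- the localization and its reduction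
  let k' := Localization.Away h₀
  set 𝔫' : Ideal k' := 𝔫.map (algebraMap k k') with h𝔫'
  haveI hLloc : IsLocalization.Away (Ideal.Quotient.mk 𝔫 h₀) (k' ⧸ 𝔫') := by
    have h1 : IsLocalization (Algebra.algebraMapSubmonoid (k ⧸ 𝔫) (Submonoid.powers h₀))
        (k' ⧸ 𝔫') := inferInstance
    rw [Algebra.algebraMapSubmonoid_powers] at h1
    exact h1
  -- freeness of the localized reduction
  let g : (k ⧸ 𝔫) ⊗[k] M₀ →ₗ[k ⧸ 𝔫] (k' ⧸ 𝔫') ⊗[k ⧸ 𝔫] ((k ⧸ 𝔫) ⊗[k] M₀) :=
    TensorProduct.mk (k ⧸ 𝔫) (k' ⧸ 𝔫') ((k ⧸ 𝔫) ⊗[k] M₀) 1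
  haveI hg : IsLocalizedModule (Submonoid.powers (Ideal.Quotient.mk 𝔫 h₀)) g :=
    (isLocalizedModule_iff_isBaseChange (Submonoid.powers (Ideal.Quotient.mk 𝔫 h₀)) (k' ⧸ 𝔫') g).mpr
      (TensorProduct.isBaseChange (k ⧸ 𝔫) ((k ⧸ 𝔫) ⊗[k] M₀) (k' ⧸ 𝔫'))
  have hfree1 : Module.Free (k' ⧸ 𝔫') ((k' ⧸ 𝔫') ⊗[k ⧸ 𝔫] ((k ⧸ 𝔫) ⊗[k] M₀)) :=
    hS.free_of_isLocalizedModule (k' ⧸ 𝔫') g
  let e₁ : (k' ⧸ 𝔫') ⊗[k ⧸ 𝔫] ((k ⧸ 𝔫) ⊗[k] M₀) ≃ₗ[k' ⧸ 𝔫'] (k' ⧸ 𝔫') ⊗[k] M₀ :=
    AlgebraTensorModule.cancelBaseChange k (k ⧸ 𝔫) (k' ⧸ 𝔫') (k' ⧸ 𝔫') M₀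
  let e₂ : (k' ⧸ 𝔫') ⊗[k'] (k' ⊗[k] M₀) ≃ₗ[k' ⧸ 𝔫'] (k' ⧸ 𝔫') ⊗[k] M₀ :=
    AlgebraTensorModule.cancelBaseChange k k' (k' ⧸ 𝔫') (k' ⧸ 𝔫') M₀
  haveI hfree2 : Module.Free (k' ⧸ 𝔫') ((k' ⧸ 𝔫') ⊗[k'] (k' ⊗[k] M₀)) :=
    Module.Free.of_equiv (e₁ ≪≫ₗ e₂.symm)
  -- nilpotence
  have hnil' : IsNilpotent 𝔫' := by
    obtain ⟨N, hN⟩ := IsNoetherianRing.isNilpotent_nilradical k
    refine ⟨N, ?_⟩
    rw [h𝔫', ← Ideal.map_pow, h𝔫, hN, Ideal.zero_eq_bot, Ideal.map_bot]
    rfl
  obtain ⟨J, hJle, hJ⟩ := exists_flattening_ideal 𝔫' (M := k' ⊗[k] M₀) hnil'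
  refine ⟨J.comap (algebraMap k k'), ?_, ?_⟩
  · have hdisj : Disjoint (Submonoid.powers h₀ : Set k) (𝔫 : Set k) := by
      rw [Set.disjoint_left]
      rintro _ ⟨n, rfl⟩ hn
      exact hh₀ (hprime.mem_of_pow_mem n hn)
    calc J.comap (algebraMap k k') ≤ 𝔫'.comap (algebraMap k k') := Ideal.comap_mono hJle
      _ = 𝔫 := IsLocalization.under_map_of_isPrime_disjoint (Submonoid.powers h₀) k' hprime hdisj
  · intro R' _ _ hu
    letI algk'R' : Algebra k' R' := (IsLocalization.Away.lift h₀ hu).toAlgebra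
    haveI : IsScalarTower k k' R' := IsScalarTower.of_algebraMap_eq (fun x =>
      (IsLocalization.Away.lift_eq h₀ hu x).symm)
    let e₃ : R' ⊗[k'] (k' ⊗[k] M₀) ≃ₗ[R'] R' ⊗[k] M₀ :=
      AlgebraTensorModule.cancelBaseChange k k' R' R' M₀
    rw [← Module.Flat.equiv_iff e₃, hJ R']
    have h1 : (J.comap (algebraMap k k')).map (algebraMap k R') = J.map (algebraMap k' R') := by
      rw [IsScalarTower.algebraMap_eq k k' R', ← Ideal.map_map,
        IsLocalization.map_under (Submonoid.powers h₀) k' J]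
    rw [h1]

end Noeth

section General

open Groth.Agent.Lib.FlatLimModel88

variable {A M : Type u} [CommRing A] [AddCommGroup M] [Module A M]

set_option synthInstance.maxHeartbeats 400000 in
/-- **Generic universal flattening** for a finitely presented module over a finitely presented
algebra over a ring with irreducible spectrum (EGA IV 11.? generic flattening, ring form): there
are a non-nilpotent `h` and a finitely generated nil ideal `J` such that for every `A`-algebra `A'`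
in which `h` is invertible, `A' ⊗ M` is `A'`-flat iff `J A' = 0`. -/
theorem exists_generic_flattening (B : Type u) [CommRing B] [Algebra A B]
    [Algebra.FinitePresentation A B] [Module B M] [IsScalarTower A B M]
    [Module.FinitePresentation B M] (hA : (nilradical A).IsPrime) :
    ∃ h : A, ¬ IsNilpotent h ∧ ∃ J : Ideal A, J.FG ∧ J ≤ nilradical A ∧
      ∀ (A' : Type u) [CommRing A'] [Algebra A A'], IsUnit (algebraMap A A' h) →
        (Module.Flat A' (A' ⊗[A] M) ↔ J.map (algebraMap A A') = ⊥) := by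
  classical
  -- a Noetherian model, as in `FlatLimIntModel88.exists_finiteType_int_model`
  let P := Algebra.Presentation.ofFinitePresentation A B
  obtain ⟨n, m, f, g, hf, hex⟩ := Module.FinitePresentation.exists_fin' B M
  let u : Fin m → Fin n → B := fun j => g (Pi.single j 1)
  have hu : LinearMap.ker f = Submodule.span B (Set.range u) := by
    rw [(LinearMap.exact_iff).mp hex, LinearMap.range_eq_map, ← (Pi.basisFun B (Fin m)).span_eq,
      Submodule.map_span, ← Set.range_comp]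
    congr 2
    funext j
    simp [u, Pi.basisFun_apply]
  choose ut hut using fun (j : Fin m) (i : Fin n) => P.algebraMap_surjective (u j i)
  let s : Set A := ⋃ j, ⋃ i, ((ut j i).coeffs : Set A)
  have hs : s.Finite :=
    Set.finite_iUnion fun j => Set.finite_iUnion fun i => Finset.finite_toSet _
  let k := Algebra.adjoin P.Core s
  have : Algebra.FiniteType P.Core k := (Subalgebra.fg_iff_finiteType _).mp
    (Subalgebra.fg_def.mpr ⟨s, hs, rfl⟩)
  have : Algebra.FiniteType ℤ k := Algebra.FiniteType.trans (S := P.Core) inferInstance inferInstance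
  have : IsNoetherianRing k := Algebra.FiniteType.isNoetherianRing ℤ k
  have hv : ∀ j i, ∃ v : MvPolynomial _ k, MvPolynomial.map (algebraMap k A) v = ut j i := by
    intro j i
    have : ut j i ∈ Set.range (MvPolynomial.map (algebraMap k A)) := by
      rw [MvPolynomial.mem_range_map_iff_coeffs_subset]
      intro c hc
      have hcs : c ∈ s := Set.mem_iUnion.mpr ⟨j, Set.mem_iUnion.mpr ⟨i, hc⟩⟩
      exact ⟨⟨c, Algebra.subset_adjoin hcs⟩, rfl⟩
    exact this
  choose v hv using hv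
  let S₀ := P.ModelOfHasCoeffs k
  let e : A ⊗[k] S₀ ≃ₐ[A] B := P.tensorModelOfHasCoeffsEquiv k
  let ub : Fin m → Fin n → S₀ := fun j i => Ideal.Quotient.mk _ (v j i)
  have hub : ∀ j i, iota0 e (ub j i) = u j i := by
    intro j i
    rw [iota0_apply]
    change P.tensorModelOfHasCoeffsEquiv k ((1 : A) ⊗ₜ[k] Ideal.Quotient.mk _ (v j i)) = _
    rw [Algebra.Presentation.tensorModelOfHasCoeffsEquiv_tmul, map_one, one_mul,
      ← MvPolynomial.aeval_map_algebraMap A, hv, ← hut j i, Algebra.Generators.algebraMap_apply]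
  let ε : A ⊗[k] Model0 ub ≃ₗ[A] M := modelEquiv e f u hub hu hf
  -- the nilradical of the model is prime
  have hinj : Injective (algebraMap k A) := Subtype.val_injective
  have hnilk : nilradical k = (nilradical A).comap (algebraMap k A) := by
    ext x
    rw [Ideal.mem_comap, mem_nilradical, mem_nilradical]
    exact (IsNilpotent.map_iff hinj).symm
  have hprime : (nilradical k).IsPrime := by
    rw [hnilk]
    exact Ideal.comap_isPrime _ _
  obtain ⟨h₀, hh₀, J₀, hJ₀, hcrit⟩ :=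
    exists_generic_flattening_noeth (k := k) (M₀ := Model0 ub) S₀ hprime
  refine ⟨algebraMap k A h₀, fun h => hh₀ ((IsNilpotent.map_iff hinj).mp h),
    J₀.map (algebraMap k A), Ideal.FG.map ((isNoetherianRing_iff_ideal_fg k).mp inferInstance J₀) _,
    ?_, ?_⟩
  · rw [Ideal.map_le_iff_le_comap, ← hnilk]
    exact hJ₀
  · intro A' _ _ hu'
    haveI : IsScalarTower k A A' := IsScalarTower.of_algebraMap_eq (fun _ => rfl)
    have hcr := hcrit A' hu'
    let e₁ : A' ⊗[A] (A ⊗[k] Model0 ub) ≃ₗ[A'] A' ⊗[A] M := LinearEquiv.baseChange A A' _ _ ε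
    let e₂ : A' ⊗[A] (A ⊗[k] Model0 ub) ≃ₗ[A'] A' ⊗[k] Model0 ub :=
      AlgebraTensorModule.cancelBaseChange k A A' A' (Model0 ub)
    rw [← Module.Flat.equiv_iff e₁, Module.Flat.equiv_iff e₂, hcr, Ideal.map_map]
    rfl

end General

section Good

variable (A : Type u) [CommRing A]

/-- A property of `A`-algebras is "generically cut out by a finitely generated nil ideal". -/
def Good (P : ∀ (R' : Type u) [CommRing R'] [Algebra A R'], Prop) : Prop :=
  ∃ h : A, ¬ IsNilpotent h ∧ ∃ J : Ideal A, J.FG ∧ J ≤ nilradical A ∧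
    ∀ (R' : Type u) [CommRing R'] [Algebra A R'], IsUnit (algebraMap A R' h) →
      (P R' ↔ J.map (algebraMap A R') = ⊥)

variable {A}

theorem Good.true_ [Nontrivial A] : Good A (fun _ _ _ => True) :=
  ⟨1, fun h => by
      obtain ⟨n, hn⟩ := h
      rw [one_pow] at hn
      exact one_ne_zero hn, ⊥, Submodule.fg_bot, bot_le, fun R' _ _ _ => by
      rw [Ideal.map_bot]; exact ⟨fun _ => rfl, fun _ => trivial⟩⟩

theorem Good.and (hA : (nilradical A).IsPrime)
    {P Q : ∀ (R' : Type u) [CommRing R'] [Algebra A R'], Prop} (hP : Good A P) (hQ : Good A Q) :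
    Good A (fun R' _ _ => P R' ∧ Q R') := by
  obtain ⟨h₁, hh₁, J₁, hJ₁fg, hJ₁, hc₁⟩ := hP
  obtain ⟨h₂, hh₂, J₂, hJ₂fg, hJ₂, hc₂⟩ := hQ
  refine ⟨h₁ * h₂, ?_, J₁ ⊔ J₂, Submodule.FG.sup hJ₁fg hJ₂fg, sup_le hJ₁ hJ₂, ?_⟩
  · intro h
    rcases hA.mem_or_mem (mem_nilradical.mpr h) with h | h
    · exact hh₁ (mem_nilradical.mp h)
    · exact hh₂ (mem_nilradical.mp h)
  · intro R' _ _ hu
    rw [map_mul] at hu
    have hu₁ : IsUnit (algebraMap A R' h₁) := isUnit_of_mul_isUnit_left hu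
    have hu₂ : IsUnit (algebraMap A R' h₂) := isUnit_of_mul_isUnit_right hu
    change P R' ∧ Q R' ↔ _
    rw [hc₁ R' hu₁, hc₂ R' hu₂, Ideal.map_sup, sup_eq_bot_iff]

theorem Good.finset (hA : (nilradical A).IsPrime) {ι : Type*} (s : Finset ι)
    (P : ι → ∀ (R' : Type u) [CommRing R'] [Algebra A R'], Prop) (hP : ∀ i ∈ s, Good A (P i)) :
    Good A (fun R' _ _ => ∀ i ∈ s, P i R') := by
  classical
  haveI : Nontrivial A := by
    by_contra hne
    rw [not_nontrivial_iff_subsingleton] at hne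
    exact hA.ne_top (Ideal.eq_top_iff_one _ |>.mpr (by rw [Subsingleton.elim (1 : A) 0]; exact zero_mem _))
  induction s using Finset.induction_on with
  | empty =>
    obtain ⟨h, hh, J, hJfg, hJ, hc⟩ := Good.true_ (A := A)
    exact ⟨h, hh, J, hJfg, hJ, fun R' _ _ hu => by
      rw [← hc R' hu]
      change (∀ i ∈ (∅ : Finset ι), P i R') ↔ True
      simp⟩
  | insert a s ha ih =>
    have h1 := Good.and hA (hP a (Finset.mem_insert_self a s))
      (ih (fun i hi => hP i (Finset.mem_insert_of_mem hi)))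
    obtain ⟨h, hh, J, hJfg, hJ, hc⟩ := h1
    exact ⟨h, hh, J, hJfg, hJ, fun R' _ _ hu => by
      rw [← hc R' hu]
      change (∀ i ∈ insert a s, P i R') ↔ (P a R' ∧ ∀ i ∈ s, P i R')
      rw [Finset.forall_mem_insert]⟩

end Good

end Groth.Agent.Lib.GenFlatten64
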