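import Groth.Agent.Lib.GenFlatten64
import Groth.Agent.Lib.H72FlatModChart
import Groth.Agent.Lib.H90OXModFP

/-!
# Generic flattening stratification: scheme level (helper64)

For `f : X ⟶ Y` of finite presentation (quasi-compact, locally of finite presentation) over an
affine base `Y` whose ring of global sections has a prime nilradical, and a quasi-coherent
finitely presented `O_X`-module `F`, flatness of the pullback of `F` over an affine base change
`Y' ⟶ Y` is generically cut out by a finitely generated nil ideal of `Γ(Y, ⊤)`.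
-/

set_option autoImplicit false
set_option linter.style.haveILetI false
universe u

open CategoryTheory AlgebraicGeometry TopologicalSpace Opposite TensorProduct Limits

namespace Groth.Agent.Lib.GenFlattenSch64

open Groth.Agent.Lib.GenFlatten64

variable {X Y : Scheme.{u}}

/-- Flatness of the base change of the sections over one affine open is generically cut out
by a finitely generated nil ideal. -/
theorem good_sections (f : X ⟶ Y) [LocallyOfFinitePresentation f] (hY : IsAffineOpen (⊤ : Y.Opens))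
    (F : X.Modules) [F.IsQuasicoherent] (hF : CohB1.IsFP F)
    (hprime : (nilradical Γ(Y, ⊤)).IsPrime) (W : X.affineOpens) :
    Good Γ(Y, ⊤) (fun R' _ _ =>
      letI : Module Γ(Y, ⊤) Γ(F, W.1) := Module.compHom _ (f.appLE ⊤ W.1 le_top).hom
      Module.Flat R' (R' ⊗[Γ(Y, ⊤)] Γ(F, W.1))) := by
  letI : Module Γ(Y, ⊤) Γ(F, W.1) := Module.compHom _ (f.appLE ⊤ W.1 le_top).hom
  letI : Algebra Γ(Y, ⊤) Γ(X, W.1) := (f.appLE ⊤ W.1 le_top).hom.toAlgebra
  haveI : IsScalarTower Γ(Y, ⊤) Γ(X, W.1) Γ(F, W.1) := .of_algebraMap_smul fun _ _ => rfl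
  haveI : Algebra.FinitePresentation Γ(Y, ⊤) Γ(X, W.1) :=
    f.finitePresentation_appLE hY W.2 le_top
  haveI : SheafOfModules.IsFinitePresentation (R := X.ringCatSheaf) F := hF
  haveI : Module.FinitePresentation Γ(X, W.1) Γ(F, W.1) :=
    Groth.Agent.Lib.H90OXModFP.finitePresentation_sections F W.2
  exact exists_generic_flattening (A := Γ(Y, ⊤)) (M := Γ(F, W.1)) Γ(X, W.1) hprime

/-- A compact scheme has a finite cover by affine opens. -/
theorem exists_finset_affineOpens [CompactSpace X] :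
    ∃ s : Finset X.affineOpens, (⊤ : X.Opens) = ⨆ i ∈ s, (i : X.Opens) := by
  classical
  have hc : IsCompact (X := X) ((⊤ : X.Opens) : Set X) := by
    simpa using CompactSpace.isCompact_univ
  obtain ⟨s, hs, hcov⟩ := isCompact_iff_finite_and_eq_biUnion_affineOpens.mp hc
  refine ⟨hs.toFinset, ?_⟩
  rw [hcov]
  simp only [Set.Finite.mem_toFinset]

/-- Flatness of the pullback over an affine base change, tested on a finite affine cover. -/
theorem isFlatOver_pullback_iff {Y' : Scheme.{u}} (f : X ⟶ Y) (g : Y' ⟶ Y)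
    (hY : IsAffineOpen (⊤ : Y.Opens)) (hY' : IsAffineOpen (⊤ : Y'.Opens))
    (F : X.Modules) [F.IsQuasicoherent] (s : Finset X.affineOpens)
    (hs : (⊤ : X.Opens) = ⨆ i ∈ s, (i : X.Opens)) :
    letI : Algebra Γ(Y, ⊤) Γ(Y', ⊤) := (g.appLE ⊤ ⊤ le_top).hom.toAlgebra
    (FlatMod.IsFlatOver (pullback.snd f g) ((Scheme.Modules.pullback (pullback.fst f g)).obj F) ↔
      ∀ W ∈ s,
        letI : Module Γ(Y, ⊤) Γ(F, W.1) := Module.compHom _ (f.appLE ⊤ W.1 le_top).hom
        Module.Flat Γ(Y', ⊤) (Γ(Y', ⊤) ⊗[Γ(Y, ⊤)] Γ(F, W.1))) := by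
  letI : Algebra Γ(Y, ⊤) Γ(Y', ⊤) := (g.appLE ⊤ ⊤ le_top).hom.toAlgebra
  have H : IsPullback (pullback.fst f g) (pullback.snd f g) f g := IsPullback.of_hasPullback f g
  have key : ∀ W : X.affineOpens, _ :=
    fun W => Groth.Agent.Lib.H72FlatModChart.forall_isFlatOverAt_chart_iff H F hY W.2 hY'
      (le_top : W.1 ≤ f ⁻¹ᵁ ⊤) (le_top : (⊤ : Y'.Opens) ≤ g ⁻¹ᵁ ⊤)
  constructor
  · intro hfl W _
    exact (key W).mp fun x _ => hfl x
  · intro hfl x
    have hx : (pullback.fst f g).base x ∈ (⊤ : X.Opens) := trivial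
    rw [hs] at hx
    simp only [Opens.mem_iSup] at hx
    obtain ⟨W, hW, hxW⟩ := hx
    exact (key W).mpr (hfl W hW) x ⟨hxW, trivial⟩

/-- **Generic flattening stratification over an affine base with prime nilradical**, tested on
affine base changes `Spec A' ⟶ Spec A` inverting `h`. -/
theorem exists_flattening_ideal_generically {A : Type u} [CommRing A]
    (hA : (nilradical A).IsPrime)
    (f : X ⟶ Spec (CommRingCat.of A)) [LocallyOfFinitePresentation f] [QuasiCompact f]
    (F : X.Modules) [F.IsQuasicoherent] (hF : CohB1.IsFP F) :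
    ∃ (h : A) (_ : ¬ IsNilpotent h) (J : Ideal A) (_ : J.FG) (_ : J ≤ nilradical A),
      ∀ (A' : Type u) [CommRing A'] (ψ : A →+* A'), IsUnit (ψ h) →
        (FlatMod.IsFlatOver (pullback.snd f (Spec.map (CommRingCat.ofHom ψ)))
            ((Scheme.Modules.pullback
              (pullback.fst f (Spec.map (CommRingCat.ofHom ψ)))).obj F) ↔
          Ideal.map ψ J = ⊥) := by
  classical
  let φ : Γ(Spec (CommRingCat.of A), ⊤) ≃+* A :=
    (Scheme.ΓSpecIso (CommRingCat.of A)).commRingCatIsoToRingEquiv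
  have hnil : nilradical Γ(Spec (CommRingCat.of A), ⊤) =
      (nilradical A).comap (φ : Γ(Spec (CommRingCat.of A), ⊤) →+* A) := by
    ext x
    rw [Ideal.mem_comap, mem_nilradical, mem_nilradical]
    exact (IsNilpotent.map_iff φ.injective).symm
  have hprime : (nilradical Γ(Spec (CommRingCat.of A), ⊤)).IsPrime := by
    rw [hnil]
    exact Ideal.comap_isPrime _ _
  haveI : CompactSpace X := QuasiCompact.compactSpace_of_compactSpace f
  obtain ⟨s, hs⟩ := exists_finset_affineOpens (X := X)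
  have hY : IsAffineOpen (⊤ : (Spec (CommRingCat.of A)).Opens) := isAffineOpen_top _
  obtain ⟨h', hh', J', hJfg, hJnil, hcrit⟩ :=
    Good.finset hprime s
      (fun W R' _ _ =>
        letI : Module Γ(Spec (CommRingCat.of A), ⊤) Γ(F, W.1) :=
          Module.compHom _ (f.appLE ⊤ W.1 le_top).hom
        Module.Flat R' (R' ⊗[Γ(Spec (CommRingCat.of A), ⊤)] Γ(F, W.1)))
      (fun W _ => good_sections f hY F hF hprime W)
  refine ⟨φ h', ?_, J'.map (φ : Γ(Spec (CommRingCat.of A), ⊤) →+* A), hJfg.map _, ?_, ?_⟩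
  · intro hn
    exact hh' ((IsNilpotent.map_iff φ.injective).mp hn)
  · rw [Ideal.map_le_iff_le_comap, ← hnil]
    exact hJnil
  · intro A' _ ψ hu
    have hY' : IsAffineOpen (⊤ : (Spec (CommRingCat.of A')).Opens) := isAffineOpen_top _
    letI alg : Algebra Γ(Spec (CommRingCat.of A), ⊤) Γ(Spec (CommRingCat.of A'), ⊤) :=
      ((Spec.map (CommRingCat.ofHom ψ)).appLE ⊤ ⊤ le_top).hom.toAlgebra
    let φ' : Γ(Spec (CommRingCat.of A'), ⊤) ≃+* A' :=
      (Scheme.ΓSpecIso (CommRingCat.of A')).commRingCatIsoToRingEquiv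
    have happ : (Spec.map (CommRingCat.ofHom ψ)).appLE ⊤ ⊤ le_top =
        (Spec.map (CommRingCat.ofHom ψ)).appTop :=
      Scheme.Hom.appLE_eq_app _
    have hnat : ∀ a : Γ(Spec (CommRingCat.of A), ⊤),
        φ' (algebraMap Γ(Spec (CommRingCat.of A), ⊤) Γ(Spec (CommRingCat.of A'), ⊤) a) =
          ψ (φ a) := by
      intro a
      have h1 := Scheme.ΓSpecIso_naturality (CommRingCat.ofHom ψ)
      rw [← happ] at h1
      exact congr($(h1).hom a)
    rw [isFlatOver_pullback_iff f (Spec.map (CommRingCat.ofHom ψ)) hY hY' F s hs]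
    have hu' : IsUnit (algebraMap Γ(Spec (CommRingCat.of A), ⊤)
        Γ(Spec (CommRingCat.of A'), ⊤) h') := by
      have h2 : IsUnit (φ' (algebraMap Γ(Spec (CommRingCat.of A), ⊤)
          Γ(Spec (CommRingCat.of A'), ⊤) h')) := by
        rw [hnat]
        exact hu
      exact (isUnit_map_iff φ' _).mp h2
    refine (hcrit Γ(Spec (CommRingCat.of A'), ⊤) hu').trans ?_
    have hcomp : ψ.comp (φ : Γ(Spec (CommRingCat.of A), ⊤) →+* A) =
        (φ' : Γ(Spec (CommRingCat.of A'), ⊤) →+* A').comp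
          (algebraMap Γ(Spec (CommRingCat.of A), ⊤) Γ(Spec (CommRingCat.of A'), ⊤)) :=
      RingHom.ext fun a => (hnat a).symm
    rw [Ideal.map_map, hcomp, ← Ideal.map_map,
      Ideal.map_eq_bot_iff_of_injective (f := (φ' : Γ(Spec (CommRingCat.of A'), ⊤) →+* A'))
        φ'.injective]

end Groth.Agent.Lib.GenFlattenSch64
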