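import Groth.Agent.Lib.ColimTensor96
import Mathlib

/-!
# A localization as a weak filtered colimit of principal localizations (helper64)

`isWeakColimAlg_away W T`: for a submonoid `W` of `A` and a localization `T` of `A` at `W`, the
family `A_s → T` (`s ∈ W`) is a weak filtered colimit system of `A`-algebras (helper96's
`IsWeakColimAlg`).
-/

set_option autoImplicit false
universe u

namespace Groth.Agent.Lib.LocWeakColim64

open Groth.Agent.Lib.ColimTensor96

variable {A : Type u} [CommRing A] (W : Submonoid A) (T : Type u) [CommRing T] [Algebra A T]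
  [IsLocalization W T]

/-- The canonical map `A_s → T` for `s ∈ W`. -/
noncomputable def awayTo (s : W) : Localization.Away (s : A) →ₐ[A] T :=
  IsLocalization.Away.liftAlgHom (s : A) (f := Algebra.ofId A T) (IsLocalization.map_units T s)

/-- The transition map `A_s → A_{s'}` when `s ∣ s'`. -/
noncomputable def awayTrans {s s' : A} (h : s ∣ s') :
    Localization.Away s →ₐ[A] Localization.Away s' :=
  IsLocalization.Away.liftAlgHom s (f := Algebra.ofId A (Localization.Away s'))
    (isUnit_of_dvd_unit (map_dvd (algebraMap A (Localization.Away s')) h)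
      (IsLocalization.Away.algebraMap_isUnit s'))

theorem awayTo_comp_awayTrans {s s' : W} (h : (s : A) ∣ (s' : A)) :
    (awayTo W T s').comp (awayTrans h) = awayTo W T s :=
  (IsLocalization.algHom_subsingleton (Submonoid.powers (s : A))).elim _ _

theorem isWeakColimAlg_away :
    IsWeakColimAlg (R := A) (fun s : W => Localization.Away (s : A)) (awayTo W T) where
  nonempty := ⟨1⟩
  dir s s' :=
    ⟨s * s', awayTrans (Dvd.intro _ rfl), awayTrans (Dvd.intro_left _ rfl),
      awayTo_comp_awayTrans W T _, awayTo_comp_awayTrans W T _⟩
  lift a := by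
    obtain ⟨⟨x, s⟩, hx⟩ := IsLocalization.surj W a
    refine ⟨s, IsLocalization.mk' (Localization.Away (s : A)) x
      (⟨s, Submonoid.mem_powers _⟩ : Submonoid.powers (s : A)), ?_⟩
    have hu : IsUnit (algebraMap A T (s : A)) := IsLocalization.map_units T s
    apply hu.mul_left_injective
    simp only
    rw [hx, ← AlgHom.commutes (awayTo W T s) (s : A), ← map_mul, IsLocalization.mk'_spec,
      AlgHom.commutes]
  kill s x hx := by
    obtain ⟨⟨a, ⟨_, n, rfl⟩⟩, hx'⟩ := IsLocalization.surj (Submonoid.powers (s : A)) x
    simp only at hx'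
    -- `a` maps to zero in `T`
    have ha : algebraMap A T a = 0 := by
      have := congrArg (awayTo W T s) hx'
      rw [map_mul, hx, zero_mul, AlgHom.commutes] at this
      exact this.symm
    obtain ⟨w, hw⟩ := (IsLocalization.map_eq_zero_iff W T a).mp ha
    refine ⟨s * w, awayTrans (Dvd.intro _ rfl), awayTo_comp_awayTrans W T _, ?_⟩
    -- in `A_{sw}`, `a` is zero and `s^n` is a unit
    have hu : IsUnit (algebraMap A (Localization.Away ((s * w : W) : A)) ((s : A) ^ n)) := by
      rw [map_pow]
      refine IsUnit.pow n ?_
      exact isUnit_of_dvd_unit (map_dvd _ (Dvd.intro (w : A) rfl))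
        (IsLocalization.Away.algebraMap_isUnit ((s * w : W) : A))
    have hw' : IsUnit (algebraMap A (Localization.Away ((s * w : W) : A)) (w : A)) :=
      isUnit_of_dvd_unit (map_dvd _ (Dvd.intro_left (s : A) rfl))
        (IsLocalization.Away.algebraMap_isUnit ((s * w : W) : A))
    have ha' : algebraMap A (Localization.Away ((s * w : W) : A)) a = 0 := by
      have h := congrArg (algebraMap A (Localization.Away ((s * w : W) : A))) hw
      rw [map_mul, map_zero] at h
      exact (hw'.mul_right_eq_zero).mp h
    have h2 := congrArg (awayTrans (s := (s : A)) (s' := ((s * w : W) : A)) (Dvd.intro (w : A) rfl)) hx'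
    rw [map_mul, AlgHom.commutes, AlgHom.commutes, ha'] at h2
    exact (hu.mul_left_eq_zero).mp h2

end Groth.Agent.Lib.LocWeakColim64
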