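import Groth.Agent.Lib.GenFreeNil64
import Groth.Agent.Lib.LocWeakColim64
import Groth.Agent.Lib.LimDescentFlat64
import Groth.Agent.Lib.FlatLimDirected88

/-!
# EGA IV 8.9.5: generic freeness at the unique minimal prime (helper64)

`exists_free_away_of_flat_at_minimalPrime`: `A` with a unique minimal prime `p`, `B` a finitely
presented `A`-algebra, `M` a finitely presented `B`-module with `M_p` flat over `A_p`.  Then `M_s`
is free over `A_s` for some `s ∉ p`.
-/

set_option autoImplicit false
set_option maxHeartbeats 1000000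
set_option linter.style.haveILetI false

universe u

namespace Groth.Agent.Lib.GenFreeMinPrime64

open TensorProduct Function Groth.Agent.Lib.FlatLimStage88 Groth.Agent.Lib.FlatLimModel88
  Groth.Agent.Lib.FlatLimDirected88 Groth.Agent.Lib.ColimTensor96
open scoped Groth.Agent.Lib.FlatLimStage88

/-- In a ring with a unique minimal prime, the elements of that prime are nilpotent. -/
theorem isNilpotent_of_mem_of_minimalPrimes_eq {A : Type u} [CommRing A] (p : Ideal A)
    (hp : minimalPrimes A = {p}) {x : A} (hx : x ∈ p) : IsNilpotent x := by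
  rw [← mem_nilradical, nilradical_eq_sInf]
  have h1 : sInf (minimalPrimes A) = (⊥ : Ideal A).radical := Ideal.sInf_minimalPrimes
  rw [hp, sInf_singleton] at h1
  have h2 : (⊥ : Ideal A).radical = sInf {J : Ideal A | J.IsPrime} := by
    rw [← nilradical_eq_sInf]; rfl
  rw [← h2, ← h1]
  exact hx

set_option synthInstance.maxHeartbeats 400000 in
theorem exists_free_away_of_flat_at_minimalPrime {A B : Type u} [CommRing A] [CommRing B]
    [Algebra A B] [Algebra.FinitePresentation A B] (p : Ideal A) [p.IsPrime]
    (hp : minimalPrimes A = {p})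
    (M : Type u) [AddCommGroup M] [Module B M] [Module A M] [IsScalarTower A B M]
    [Module.FinitePresentation B M]
    (hflat : Module.Flat (Localization.AtPrime p) (LocalizedModule p.primeCompl M)) :
    ∃ t : A, t ∉ p ∧
      Module.Free (Localization.Away t) (LocalizedModule (Submonoid.powers t) M) := by
  classical
  have hnil : ∀ x ∈ p, IsNilpotent x := fun x hx => isNilpotent_of_mem_of_minimalPrimes_eq p hp hx
  -- presentation of the module and the Noetherian model
  obtain ⟨n, m, f, gg, hf, hex⟩ := Module.FinitePresentation.exists_fin' B M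
  let u : Fin m → Fin n → B := fun j => gg (Pi.single j 1)
  have hu : LinearMap.ker f = Submodule.span B (Set.range u) := by
    rw [(LinearMap.exact_iff).mp hex, LinearMap.range_eq_map, ← (Pi.basisFun B (Fin m)).span_eq,
      Submodule.map_span, ← Set.range_comp]
    congr 2
    funext j
    simp [u, Pi.basisFun_apply]
  obtain ⟨k, _, _, S₀, _, _, e, ub, hk, hS₀, hub⟩ := exists_model_data (R := A) (S := B) u
  haveI : IsNoetherianRing k := Algebra.FiniteType.isNoetherianRing ℤ k
  letI : Module k M := Module.compHom M (algebraMap k A)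
  haveI : IsScalarTower k A M := IsScalarTower.of_algebraMap_smul fun _ _ => rfl
  let ε : A ⊗[k] Model0 ub ≃ₗ[A] M := modelEquiv e f u hub hu hf
  -- transfer between `T ⊗[A] M` and `T ⊗[k] M₀`
  have key : ∀ (T : Type u) [CommRing T] [Algebra A T] [Algebra k T] [IsScalarTower k A T],
      Nonempty ((T ⊗[A] M) ≃ₗ[T] (T ⊗[k] Model0 ub)) := fun T _ _ _ _ =>
    ⟨(AlgebraTensorModule.congr (LinearEquiv.refl T T) ε.symm) ≪≫ₗ
      (AlgebraTensorModule.cancelBaseChange k A T T (Model0 ub))⟩
  -- flatness over the local ring `A_p`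
  let Tp := Localization.AtPrime p
  have hflatT : Module.Flat Tp (Tp ⊗[A] M) :=
    Module.Flat.of_linearEquiv
      ((IsLocalizedModule.isBaseChange p.primeCompl Tp
        (LocalizedModule.mkLinearMap p.primeCompl M)).equiv)
  obtain ⟨eT⟩ := key Tp
  haveI : Module.Flat Tp (Tp ⊗[k] Model0 ub) := Module.Flat.of_linearEquiv eT.symm
  -- a finitely generated stage
  obtain ⟨A', hA', hflat'⟩ :=
    Groth.Agent.Lib.FlatLimGlobal64.exists_fg_flat_global (k := k) (R := Tp) S₀
      (M₀ := Model0 ub)
  have hft : Algebra.FiniteType k A' := (Subalgebra.fg_iff_finiteType A').mp hA'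
  have hfp : Algebra.FinitePresentation k A' := Algebra.FinitePresentation.of_finiteType.mp hft
  haveI : IsNoetherianRing A' := Algebra.FiniteType.isNoetherianRing k A'
  have hflatA' : Module.Flat A' (A' ⊗[k] Model0 ub) := hflat' A' (AlgHom.id k A')
  -- the prime of nilpotent elements of `A'`
  let p' : Ideal A' := (IsLocalRing.maximalIdeal Tp).comap (algebraMap A' Tp)
  have hp'prime : p'.IsPrime := Ideal.comap_isPrime _ _
  have hnilT : ∀ x ∈ IsLocalRing.maximalIdeal Tp, IsNilpotent x := by
    intro x hx
    obtain ⟨a, s, rfl⟩ := IsLocalization.exists_mk'_eq p.primeCompl x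
    have ha : a ∈ p := by
      by_contra hna
      have : IsUnit (IsLocalization.mk' Tp a s) := by
        have h1 : IsUnit (algebraMap A Tp a) := IsLocalization.map_units Tp (⟨a, hna⟩ : p.primeCompl)
        have h2 : IsLocalization.mk' Tp a s * algebraMap A Tp (s : A) = algebraMap A Tp a :=
          IsLocalization.mk'_spec Tp a s
        exact isUnit_of_mul_isUnit_left (h2 ▸ h1)
      exact (IsLocalRing.mem_maximalIdeal _).mp hx this
    obtain ⟨r, hr⟩ := hnil a ha
    refine ⟨r, ?_⟩
    rw [← IsLocalization.mk'_pow, hr, IsLocalization.mk'_zero]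
  have hnil' : ∀ x ∈ p', IsNilpotent x := by
    intro x hx
    obtain ⟨r, hr⟩ := hnilT _ hx
    refine ⟨r, ?_⟩
    apply Subtype.val_injective
    rw [Subalgebra.coe_pow, Subalgebra.coe_zero]
    exact hr
  obtain ⟨t, ht, hfree⟩ := Groth.Agent.Lib.GenFreeNil64.exists_free_away p' (A' ⊗[k] S₀)
    (A' ⊗[k] Model0 ub) hnil'
  -- `t` is a unit in `A_p`
  have htu : IsUnit (algebraMap A' Tp t) := by
    by_contra h
    exact ht ((IsLocalRing.mem_maximalIdeal _).mpr h)
  let At := Localization.Away t
  let φ : At →ₐ[k] Tp :=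
    IsLocalization.Away.liftAlgHom t (f := A'.val) htu
  have hfpAt : Algebra.FinitePresentation k At :=
    Algebra.FinitePresentation.trans k A' At
  -- lift to a principal localization of `A`
  have hW := Groth.Agent.Lib.LimDescentFlat64.isWeakColimAlg_restrictScalars
    (Groth.Agent.Lib.LocWeakColim64.isWeakColimAlg_away p.primeCompl Tp) k
  obtain ⟨s, -, l, -, -⟩ := Groth.Agent.Lib.ColimSmooth96.exists_algHom_lift hW φ 1
  refine ⟨(s : A), s.2, ?_⟩
  let As := Localization.Away (s : A)
  -- freeness of `A_s ⊗[k] M₀`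
  letI algAt : Algebra At As := l.toRingHom.toAlgebra
  haveI : IsScalarTower k At As := IsScalarTower.of_algebraMap_eq fun c => (l.commutes c).symm
  letI algA' : Algebra A' As := ((algebraMap At As).comp (algebraMap A' At)).toAlgebra
  haveI : IsScalarTower A' At As := IsScalarTower.of_algebraMap_eq fun _ => rfl
  haveI : IsScalarTower k A' As := IsScalarTower.of_algebraMap_eq fun c => by
    change algebraMap k As c = algebraMap At As (algebraMap A' At (algebraMap k A' c))
    rw [← IsScalarTower.algebraMap_apply k A' At, ← IsScalarTower.algebraMap_apply k At As]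
  have h1 : Module.Free As (As ⊗[At] (At ⊗[A'] (A' ⊗[k] Model0 ub))) := inferInstance
  let e1 : As ⊗[At] (At ⊗[A'] (A' ⊗[k] Model0 ub)) ≃ₗ[As] As ⊗[A'] (A' ⊗[k] Model0 ub) :=
    AlgebraTensorModule.cancelBaseChange A' At As As (A' ⊗[k] Model0 ub)
  let e2 : As ⊗[A'] (A' ⊗[k] Model0 ub) ≃ₗ[As] As ⊗[k] Model0 ub :=
    AlgebraTensorModule.cancelBaseChange k A' As As (Model0 ub)
  obtain ⟨e3⟩ := key As
  let e4 : As ⊗[A] M ≃ₗ[As] LocalizedModule (Submonoid.powers (s : A)) M :=
    (IsLocalizedModule.isBaseChange (Submonoid.powers (s : A)) As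
      (LocalizedModule.mkLinearMap (Submonoid.powers (s : A)) M)).equiv
  exact Module.Free.of_equiv (e1 ≪≫ₗ e2 ≪≫ₗ e3.symm ≪≫ₗ e4)

end Groth.Agent.Lib.GenFreeMinPrime64
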