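import Groth.Agent.Lib.NilFree
import Groth.Agent.Lib.H77GenFreeMain
import Groth.Agent.Lib.FlatLimStage88
import Mathlib

/-!
# Generic freeness over a Noetherian ring with prime nilradical (helper64)

* `free_of_flat_of_free_quotient`: `J` nilpotent, `M` flat over `A` and `M/JM` free over `A/J`:
  then `M` is free over `A` (from helper89's `NilFree.exists_relIdeal`).
* `exists_free_away`: `R` Noetherian whose nilradical `p` is prime, `S` a finite type `R`-algebra,
  `N` a finite `S`-module flat over `R`: then `N_t` is free over `R_t` for some `t ∉ p`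
  (generic freeness over the domain `R/p`, helper77, plus nilpotent lifting).
-/

set_option autoImplicit false
set_option maxHeartbeats 400000
set_option linter.style.haveILetI false

universe u

namespace Groth.Agent.Lib.GenFreeNil64

open TensorProduct Function
open scoped Groth.Agent.Lib.FlatLimStage88

section Nil

variable {A : Type u} [CommRing A] (J : Ideal A) (M : Type u) [AddCommGroup M] [Module A M]

/-- Freeness lifts along a nilpotent ideal for flat modules. -/
theorem free_of_flat_of_free_quotient (hJ : IsNilpotent J) [Module.Flat A M]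
    [Module.Free (A ⧸ J) ((A ⧸ J) ⊗[A] M)] : Module.Free A M := by
  obtain ⟨R₀, h⟩ := Groth.Agent.Lib.NilFree.exists_relIdeal.{u, u, u} J (M := M) hJ
  obtain ⟨h1, h2⟩ := h A
  have hfl : Module.Flat A (A ⊗[A] M) := Module.Flat.of_linearEquiv (TensorProduct.lid A M)
  have := h1 (h2 hfl)
  exact Module.Free.of_equiv (TensorProduct.lid A M)

end Nil

section Noeth

open Groth.Agent.Lib.H77GenFree

set_option synthInstance.maxHeartbeats 400000 in
/-- Generic freeness over a Noetherian ring with prime nilradical, for flat modules. -/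
theorem exists_free_away {R : Type u} [CommRing R] [IsNoetherianRing R] (p : Ideal R) [p.IsPrime]
    (S : Type u) [CommRing S] [Algebra R S] [Algebra.FiniteType R S]
    (N : Type u) [AddCommGroup N] [Module R N] [Module S N] [IsScalarTower R S N]
    [Module.Finite S N] [Module.Flat R N] (hp : ∀ x ∈ p, IsNilpotent x) :
    ∃ t : R, t ∉ p ∧ Module.Free (Localization.Away t) (Localization.Away t ⊗[R] N) := by
  classical
  have hdom : IsDomain (R ⧸ p) := Ideal.Quotient.isDomain p
  obtain ⟨fb, hfb, s, hs⟩ :=
    genFree_of_finiteType (R := R ⧸ p) ((R ⧸ p) ⊗[R] S) ((R ⧸ p) ⊗[R] N)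
  obtain ⟨t, rfl⟩ := Ideal.Quotient.mk_surjective fb
  have ht : t ∉ p := fun h => hfb (Ideal.Quotient.eq_zero_iff_mem.mpr h)
  refine ⟨t, ht, ?_⟩
  -- `p` is nilpotent
  have hpnil : IsNilpotent p := by
    obtain ⟨n, hn⟩ := IsNoetherianRing.isNilpotent_nilradical R
    refine ⟨n, ?_⟩
    have hle : p ≤ nilradical R := fun x hx => (mem_nilradical).mpr (hp x hx)
    have := Ideal.pow_right_mono hle n
    rw [hn] at this
    exact le_bot_iff.mp this
  let I : Ideal (Localization.Away t) := p.map (algebraMap R (Localization.Away t))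
  have hI : IsNilpotent I := by
    obtain ⟨n, hn⟩ := hpnil
    refine ⟨n, ?_⟩
    change (p.map (algebraMap R (Localization.Away t))) ^ n = 0
    rw [← Ideal.map_pow, hn]
    exact Ideal.map_bot
  -- the quotient `R_t / p R_t` is the localization of `R/p` away from `t`
  have hloc : IsLocalization.Away (Ideal.Quotient.mk p t) (Localization.Away t ⧸ I) := by
    have h0 : IsLocalization (Algebra.algebraMapSubmonoid (R ⧸ p) (Submonoid.powers t))
        (Localization.Away t ⧸ I) := inferInstance
    have h1 : Algebra.algebraMapSubmonoid (R ⧸ p) (Submonoid.powers t) =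
        Submonoid.powers (Ideal.Quotient.mk p t) := by
      change Submonoid.map (algebraMap R (R ⧸ p)) (Submonoid.powers t) = _
      rw [Submonoid.map_powers]
      rfl
    rw [h1] at h0
    exact h0
  have hlm : IsLocalizedModule (Submonoid.powers (Ideal.Quotient.mk p t))
      (TensorProduct.mk (R ⧸ p) (Localization.Away t ⧸ I) ((R ⧸ p) ⊗[R] N) 1) :=
    (isLocalizedModule_iff_isBaseChange (Submonoid.powers (Ideal.Quotient.mk p t))
      (Localization.Away t ⧸ I) _).mpr (TensorProduct.isBaseChange (R ⧸ p) ((R ⧸ p) ⊗[R] N)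
        (Localization.Away t ⧸ I))
  have hfree : Module.Free (Localization.Away t ⧸ I)
      ((Localization.Away t ⧸ I) ⊗[R ⧸ p] ((R ⧸ p) ⊗[R] N)) :=
    hs.free_of_isLocalizedModule (Localization.Away t ⧸ I)
      (TensorProduct.mk (R ⧸ p) (Localization.Away t ⧸ I) ((R ⧸ p) ⊗[R] N) 1)
  let e1 : (Localization.Away t ⧸ I) ⊗[R ⧸ p] ((R ⧸ p) ⊗[R] N) ≃ₗ[Localization.Away t ⧸ I]
      (Localization.Away t ⧸ I) ⊗[R] N :=
    AlgebraTensorModule.cancelBaseChange R (R ⧸ p) (Localization.Away t ⧸ I)
      (Localization.Away t ⧸ I) N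
  let e2 : (Localization.Away t ⧸ I) ⊗[Localization.Away t] (Localization.Away t ⊗[R] N)
      ≃ₗ[Localization.Away t ⧸ I] (Localization.Away t ⧸ I) ⊗[R] N :=
    AlgebraTensorModule.cancelBaseChange R (Localization.Away t) (Localization.Away t ⧸ I)
      (Localization.Away t ⧸ I) N
  have hfree' : Module.Free (Localization.Away t ⧸ I)
      ((Localization.Away t ⧸ I) ⊗[Localization.Away t] (Localization.Away t ⊗[R] N)) :=
    Module.Free.of_equiv (e1.trans e2.symm)
  have hflat : Module.Flat (Localization.Away t) (Localization.Away t ⊗[R] N) := inferInstance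
  exact free_of_flat_of_free_quotient I (Localization.Away t ⊗[R] N) hI

end Noeth

end Groth.Agent.Lib.GenFreeNil64
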