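import Groth.Agent.Lib.H78PullSec
import Groth.Agent.Lib.ExtPowInv21

/-!
# A section generating an invertible module along a fibre generates it near the fibre (helper21)

`f : X ⟶ Y` a closed map, `N` invertible on `X`, `σ` a section of `N` over `f⁻¹U` (`U ∋ y`) whose pullback to the fibre
`X_y` is a free generator.  Then `σ` is a free generator over `f⁻¹U'` for some open `y ∈ U' ≤ U`
(`exists_nhd_isGen_of_isGen_pb`).
-/

set_option autoImplicit false
set_option linter.style.haveILetI false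
universe u

open CategoryTheory CategoryTheory.Limits AlgebraicGeometry Opposite TopologicalSpace

namespace Groth.Agent.Lib.GenNearFibre21

open Groth.Agent.Lib.H90Invertible Groth.Agent.Lib.H78SecCoord Groth.Agent.Lib.H78PullSec
  Groth.Agent.Lib.H78TensorGen Groth.Agent.Lib.StructureModule

variable {X Y : Scheme.{u}} (f : X ⟶ Y)

/-- the locus where a local section is a free generator -/
def genSet (N : X.Modules) {V : X.Opens} (σ : Γ(N, V)) : Set X :=
  {x | ∃ (W : X.Opens) (hW : W ≤ V), x ∈ W ∧ IsGen N W (rs N hW σ)}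

theorem isOpen_genSet (N : X.Modules) {V : X.Opens} (σ : Γ(N, V)) : IsOpen (genSet N σ) := by
  rw [isOpen_iff_forall_mem_open]
  rintro x ⟨W, hW, hxW, hg⟩
  exact ⟨W, fun z hz => ⟨W, hW, hz, hg⟩, W.2, hxW⟩

/-- the generating locus as an open -/
def genOpen (N : X.Modules) {V : X.Opens} (σ : Γ(N, V)) : X.Opens := ⟨genSet N σ, isOpen_genSet N σ⟩

theorem genOpen_le (N : X.Modules) {V : X.Opens} (σ : Γ(N, V)) : genOpen N σ ≤ V := by
  rintro x ⟨W, hW, hxW, -⟩
  exact hW hxW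

theorem isGen_genOpen (N : X.Modules) {V : X.Opens} (σ : Γ(N, V)) :
    IsGen N (genOpen N σ) (rs N (genOpen_le N σ) σ) := by
  refine Groth.Agent.Lib.ExtPowInv21.isGen_of_forall_exists _ (fun W hW x hx => ?_)
  obtain ⟨W₀, hW₀, hxW₀, hg⟩ := hW hx
  refine ⟨W ⊓ W₀, inf_le_left, ⟨hx, hxW₀⟩, ?_⟩
  have h1 := hg (W ⊓ W₀) inf_le_right
  have h2 : rs N (inf_le_right : W ⊓ W₀ ≤ W₀) (rs N hW₀ σ) =
      rs N ((inf_le_left : W ⊓ W₀ ≤ W).trans hW) (rs N (genOpen_le N σ) σ) := by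
    rw [rs_rs, rs_rs]
  rw [← h2]
  exact h1

/-- **Generating along the fibre ⇒ generating near the fibre.** -/
theorem exists_nhd_isGen_of_isGen_pb (hcl : IsClosedMap f) (y : Y) (N : X.Modules)
    (hN : PicF.IsInvertible N) {U : Y.Opens} (hyU : y ∈ U) (σ : Γ(N, f ⁻¹ᵁ U))
    (hgen : IsGen ((Scheme.Modules.pullback (f.fiberι y)).obj N) ((f.fiberι y) ⁻¹ᵁ (f ⁻¹ᵁ U))
      (pb (f.fiberι y) N σ)) :
    ∃ (U' : Y.Opens) (hU' : U' ≤ U), y ∈ U' ∧ IsGen N (f ⁻¹ᵁ U') (rs N (f.preimage_mono hU') σ) := by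
  set ι := f.fiberι y with hι
  -- the fibre lies in the generating locus
  have hfib : ∀ x : X, f x = y → x ∈ genOpen N σ := by
    intro x hx
    have hx' : x ∈ Set.range ι := by
      rw [hι, Scheme.Hom.range_fiberι]
      exact hx
    obtain ⟨w, rfl⟩ := hx'
    have hxU : ι w ∈ f ⁻¹ᵁ U := by
      change f (ι w) ∈ U
      rw [hx]
      exact hyU
    obtain ⟨W₁, hxW₁, e₁, he₁⟩ := (isInvertible_iff_exists_isGen N).mp hN (ι w)
    set W := W₁ ⊓ f ⁻¹ᵁ U with hW
    have hWU : W ≤ f ⁻¹ᵁ U := inf_le_right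
    have hxW : ι w ∈ W := ⟨hxW₁, hxU⟩
    have he : IsGen N W (rs N (inf_le_left : W ≤ W₁) e₁) := he₁.mono inf_le_left
    set e := rs N (inf_le_left : W ≤ W₁) e₁ with hedef
    set a := coord he le_rfl (rs N hWU σ) with ha
    have hspec : a • e = rs N hWU σ := by
      have := coord_spec he le_rfl (rs N hWU σ)
      rwa [rs_self] at this
    -- pull back to the fibre
    have h1 : pb ι N (rs N hWU σ) = ι.app W a • pb ι N e := by
      rw [← hspec, pb_smul]
    have h2 : IsGen ((Scheme.Modules.pullback ι).obj N) (ι ⁻¹ᵁ W) (pb ι N (rs N hWU σ)) := by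
      rw [pb_rs]
      exact hgen.mono (ι.preimage_mono hWU)
    rw [h1] at h2
    have hunit : IsUnit (ι.app W a) := (isGen_smul_iff (isGen_pb ι he) _).1 h2
    -- `ι w` lies in the basic open of `a`
    have hwD : w ∈ ι ⁻¹ᵁ X.basicOpen a := by
      rw [Scheme.preimage_basicOpen, Scheme.basicOpen_of_isUnit _ hunit]
      exact hxW
    have hxD : ι w ∈ X.basicOpen a := hwD
    have hDW : X.basicOpen a ≤ W := X.basicOpen_le a
    refine ⟨X.basicOpen a, hDW.trans hWU, hxD, ?_⟩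
    have hu : IsUnit (X.presheaf.map (homOfLE hDW).op a) :=
      X.toRingedSpace.isUnit_res_basicOpen a
    have h3 : rs N (hDW.trans hWU) σ = X.presheaf.map (homOfLE hDW).op a • rs N hDW e := by
      rw [← rs_rs N hWU hDW σ, ← hspec]
      exact N.map_smul (homOfLE hDW) _ _
    rw [h3]
    exact (isGen_smul_iff (he.mono hDW) _).2 hu
  -- the neighbourhood
  have hclosed : IsClosed (f '' ((genOpen N σ : X.Opens) : Set X)ᶜ) :=
    hcl _ (genOpen N σ).isOpen.isClosed_compl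
  let U₀ : Y.Opens := ⟨(f '' ((genOpen N σ : X.Opens) : Set X)ᶜ)ᶜ, hclosed.isOpen_compl⟩
  have hyU₀ : y ∈ U₀ := by
    rintro ⟨x, hx, hxy⟩
    exact hx (hfib x hxy)
  have hUG : f ⁻¹ᵁ (U₀ ⊓ U) ≤ genOpen N σ := by
    intro x hx
    by_contra hxG
    exact hx.1 ⟨x, hxG, rfl⟩
  refine ⟨U₀ ⊓ U, inf_le_right, ⟨hyU₀, hyU⟩, ?_⟩
  have h4 := (isGen_genOpen N σ).mono hUG
  have h5 : N.presheaf.map (homOfLE hUG).op (rs N (genOpen_le N σ) σ) =
      rs N (f.preimage_mono (inf_le_right : U₀ ⊓ U ≤ U)) σ := rs_rs N _ _ σ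
  rw [h5] at h4
  exact h4

end Groth.Agent.Lib.GenNearFibre21
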