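import Mathlib.RingTheory.Ideal.KrullsHeightTheorem
import Mathlib.RingTheory.Ideal.MinimalPrime.Noetherian
import Mathlib.RingTheory.Spectrum.Prime.Topology
import Mathlib.RingTheory.Spectrum.Maximal.Basic
import Mathlib.RingTheory.KrullDimension.Zero

/-!
# Noetherian domains whose generic point is open (helper45)

Core lemma: if `R` is a Noetherian domain and `f ≠ 0` lies in every nonzero prime, then every nonzero
prime is a minimal prime over `(f)`; hence `R` has finitely many primes and every nonzero prime is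
maximal (Krull's principal ideal theorem + prime avoidance).
-/

namespace Groth.Agent.Lib.GenOpen45

variable {R : Type*} [CommRing R]

/-- In a domain, a nonzero prime contained in a prime of height `≤ 1` equals it. -/
lemma eq_of_le_of_height_le_one [IsDomain R] {p q : Ideal R} [p.IsPrime] [q.IsPrime]
    (hp : p ≠ ⊥) (hpq : p ≤ q) (hq : q.height ≤ 1) : p = q := by
  by_contra hne
  have hlt : p < q := lt_of_le_of_ne hpq hne
  have : q.FiniteHeight := q.finiteHeight_iff.mpr (Or.inr (ne_top_of_le_ne_top (by simp) hq))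
  have h2 : p.height < q.height := Ideal.height_strict_mono_of_isPrime_of_isPrime hlt
  have : p.FiniteHeight := p.finiteHeight_iff.mpr (Or.inr (ne_top_of_lt h2))
  have h1 : (⊥ : Ideal R).height < p.height :=
    Ideal.height_strict_mono_of_isPrime_of_isPrime (bot_lt_iff_ne_bot.mpr hp)
  have h3 : (1 : ℕ∞) ≤ p.height := Order.one_le_iff_pos.mpr (lt_of_le_of_lt bot_le h1)
  exact absurd (h3.trans_lt h2) (not_lt.mpr hq)

/-- **Core lemma.** Noetherian domain, `f ≠ 0` in every nonzero prime: every nonzero prime is a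
minimal prime over `(f)`. -/
theorem mem_minimalPrimes_of_forall_mem [IsDomain R] [IsNoetherianRing R] {f : R} (hf0 : f ≠ 0)
    (hf : ∀ P : Ideal R, P.IsPrime → P ≠ ⊥ → f ∈ P) (q : Ideal R) [q.IsPrime] (hq : q ≠ ⊥) :
    q ∈ (Ideal.span {f}).minimalPrimes := by
  classical
  have hfin := Ideal.finite_minimalPrimes_of_isNoetherianRing R (Ideal.span {f})
  have hht : ∀ p ∈ (Ideal.span {f}).minimalPrimes, p.height ≤ 1 := fun p hp =>
    Ideal.height_le_one_of_isPrincipal_of_mem_minimalPrimes _ p hp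
  have hne : ∀ p ∈ (Ideal.span {f}).minimalPrimes, p ≠ ⊥ := by
    intro p hp h
    have : f ∈ p := hp.1.2 (Ideal.mem_span_singleton_self f)
    rw [h] at this
    exact hf0 (by simpa using this)
  -- every element of `q` lies in some minimal prime over `(f)`
  have hcover : (q : Set R) ⊆ ⋃ p ∈ (hfin.toFinset : Set (Ideal R)), (p : Set R) := by
    intro x hx
    by_cases hx0 : x = 0
    · obtain ⟨p, hp, -⟩ := Ideal.exists_minimalPrimes_le (I := Ideal.span {f}) (J := q)
        ((Ideal.span_singleton_le_iff_mem _).mpr (hf q inferInstance hq))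
      exact Set.mem_biUnion (by simpa using hp) (by rw [hx0]; exact p.zero_mem)
    · obtain ⟨P, hP, hPq⟩ := Ideal.exists_minimalPrimes_le (I := Ideal.span {x}) (J := q)
        ((Ideal.span_singleton_le_iff_mem _).mpr hx)
      have := hP.1.1
      have hxP : x ∈ P := hP.1.2 (Ideal.mem_span_singleton_self x)
      have hP0 : P ≠ ⊥ := by
        intro h; rw [h] at hxP; exact hx0 (by simpa using hxP)
      have hfP : f ∈ P := hf P inferInstance hP0
      obtain ⟨p, hp, hpP⟩ := Ideal.exists_minimalPrimes_le (I := Ideal.span {f}) (J := P)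
        ((Ideal.span_singleton_le_iff_mem _).mpr hfP)
      have := hp.1.1
      have hPht : P.height ≤ 1 :=
        Ideal.height_le_one_of_isPrincipal_of_mem_minimalPrimes _ P hP
      have : p = P := eq_of_le_of_height_le_one (hne p hp) hpP hPht
      exact Set.mem_biUnion (by simpa using hp) (by rw [this]; exact hxP)
  obtain ⟨p, hp, hqp⟩ := (Ideal.subset_union_prime (s := hfin.toFinset) (f := fun p => p) ⊥ ⊥
    (fun p hp _ _ => ((Set.Finite.mem_toFinset hfin).mp hp).1.1)).mp hcover
  have hp' : p ∈ (Ideal.span {f}).minimalPrimes := (Set.Finite.mem_toFinset hfin).mp hp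
  have := hp'.1.1
  have : q = p := eq_of_le_of_height_le_one hq hqp (hht p hp')
  rw [this]; exact hp'

/-- Same hypotheses: every nonzero prime is maximal. -/
theorem isMaximal_of_forall_mem [IsDomain R] [IsNoetherianRing R] {f : R} (hf0 : f ≠ 0)
    (hf : ∀ P : Ideal R, P.IsPrime → P ≠ ⊥ → f ∈ P) (q : Ideal R) [q.IsPrime] (hq : q ≠ ⊥) :
    q.IsMaximal := by
  obtain ⟨m, hm, hqm⟩ := Ideal.exists_le_maximal q (Ideal.IsPrime.ne_top inferInstance)
  have := hm.isPrime
  have hm0 : m ≠ ⊥ := fun h => hq (le_bot_iff.mp (h ▸ hqm))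
  have hmm := mem_minimalPrimes_of_forall_mem hf0 hf m hm0
  have : q = m := eq_of_le_of_height_le_one hq hqm
    (Ideal.height_le_one_of_isPrincipal_of_mem_minimalPrimes _ m hmm)
  rw [this]; exact hm

/-- Same hypotheses: finitely many primes. -/
theorem finite_setOf_isPrime_of_forall_mem [IsDomain R] [IsNoetherianRing R] {f : R} (hf0 : f ≠ 0)
    (hf : ∀ P : Ideal R, P.IsPrime → P ≠ ⊥ → f ∈ P) : {q : Ideal R | q.IsPrime}.Finite := by
  refine ((Ideal.finite_minimalPrimes_of_isNoetherianRing R (Ideal.span {f})).union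
    (Set.finite_singleton ⊥)).subset ?_
  intro q (hq : q.IsPrime)
  by_cases h : q = ⊥
  · exact Or.inr h
  · exact Or.inl (mem_minimalPrimes_of_forall_mem hf0 hf q h)

theorem finite_primeSpectrum_of_forall_mem [IsDomain R] [IsNoetherianRing R] {f : R} (hf0 : f ≠ 0)
    (hf : ∀ P : Ideal R, P.IsPrime → P ≠ ⊥ → f ∈ P) : Finite (PrimeSpectrum R) := by
  have := (finite_setOf_isPrime_of_forall_mem hf0 hf).to_subtype
  exact Finite.of_injective (fun p : PrimeSpectrum R => (⟨p.asIdeal, p.2⟩ : {q : Ideal R | q.IsPrime}))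
    (fun p q h => PrimeSpectrum.ext (congrArg Subtype.val h))

theorem ringKrullDim_le_one_of_forall_mem [IsDomain R] [IsNoetherianRing R] {f : R} (hf0 : f ≠ 0)
    (hf : ∀ P : Ideal R, P.IsPrime → P ≠ ⊥ → f ∈ P) : ringKrullDim R ≤ 1 := by
  have : Ring.KrullDimLE 1 R := Ring.krullDimLE_one_iff_of_noZeroDivisors.mpr
    fun I hI hIp => isMaximal_of_forall_mem hf0 hf I hI
  exact_mod_cast Ring.krullDimLE_iff.mp this

/-! ### Relative version: a prime `p` of a Noetherian ring `A` and `f ∉ p` such that `p` is the only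
prime containing `p` and avoiding `f`. -/

section Relative

variable {A : Type*} [CommRing A]

/-- The hypothesis of the relative lemmas transported to the quotient. -/
lemma forall_mem_quotient {p : Ideal A} [p.IsPrime] {f : A}
    (h : ∀ q : Ideal A, q.IsPrime → p ≤ q → f ∉ q → q = p) :
    ∀ P : Ideal (A ⧸ p), P.IsPrime → P ≠ ⊥ → Ideal.Quotient.mk p f ∈ P := by
  intro P hP hP0
  by_contra hfP
  have hq : (P.comap (Ideal.Quotient.mk p)).IsPrime := inferInstance
  have hle : p ≤ P.comap (Ideal.Quotient.mk p) := by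
    intro x hx
    have : Ideal.Quotient.mk p x = 0 := Ideal.Quotient.eq_zero_iff_mem.mpr hx
    simp [Ideal.mem_comap, this]
  have := h _ hq hle hfP
  apply hP0
  rw [← Ideal.map_comap_of_surjective _ Ideal.Quotient.mk_surjective P, this,
    Ideal.map_quotient_self]

theorem isMaximal_of_lt {p : Ideal A} [p.IsPrime] [IsNoetherianRing A] {f : A} (hf : f ∉ p)
    (h : ∀ q : Ideal A, q.IsPrime → p ≤ q → f ∉ q → q = p) (q : Ideal A) [q.IsPrime]
    (hpq : p < q) : q.IsMaximal := by
  have hf0 : Ideal.Quotient.mk p f ≠ 0 := fun h0 => hf (Ideal.Quotient.eq_zero_iff_mem.mp h0)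
  have hker : RingHom.ker (Ideal.Quotient.mk p) ≤ q := by rw [Ideal.mk_ker]; exact hpq.le
  have hP : (q.map (Ideal.Quotient.mk p)).IsPrime :=
    Ideal.map_isPrime_of_surjective Ideal.Quotient.mk_surjective hker
  have hcm : (q.map (Ideal.Quotient.mk p)).comap (Ideal.Quotient.mk p) = q := by
    rw [Ideal.comap_map_of_surjective _ Ideal.Quotient.mk_surjective, ← RingHom.ker_eq_comap_bot,
      sup_eq_left.mpr hker]
  have hP0 : q.map (Ideal.Quotient.mk p) ≠ ⊥ := by
    intro h0
    rw [h0, ← RingHom.ker_eq_comap_bot, Ideal.mk_ker] at hcm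
    exact hpq.ne hcm
  have hmax := isMaximal_of_forall_mem hf0 (forall_mem_quotient h) _ hP0
  rw [← hcm]
  exact Ideal.comap_isMaximal_of_surjective _ Ideal.Quotient.mk_surjective

theorem finite_setOf_isPrime_ge {p : Ideal A} [p.IsPrime] [IsNoetherianRing A] {f : A} (hf : f ∉ p)
    (h : ∀ q : Ideal A, q.IsPrime → p ≤ q → f ∉ q → q = p) :
    {q : Ideal A | q.IsPrime ∧ p ≤ q}.Finite := by
  have hf0 : Ideal.Quotient.mk p f ≠ 0 := fun h0 => hf (Ideal.Quotient.eq_zero_iff_mem.mp h0)
  have hfin := finite_setOf_isPrime_of_forall_mem hf0 (forall_mem_quotient h)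
  refine (hfin.image (Ideal.comap (Ideal.Quotient.mk p))).subset ?_
  rintro q ⟨hq, hpq⟩
  have hker : RingHom.ker (Ideal.Quotient.mk p) ≤ q := by rw [Ideal.mk_ker]; exact hpq
  refine ⟨q.map (Ideal.Quotient.mk p),
    Ideal.map_isPrime_of_surjective Ideal.Quotient.mk_surjective hker, ?_⟩
  rw [Ideal.comap_map_of_surjective _ Ideal.Quotient.mk_surjective, ← RingHom.ker_eq_comap_bot,
    sup_eq_left.mpr hker]

theorem finite_primeSpectrum_quotient {p : Ideal A} [p.IsPrime] [IsNoetherianRing A] {f : A}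
    (hf : f ∉ p) (h : ∀ q : Ideal A, q.IsPrime → p ≤ q → f ∉ q → q = p) :
    Finite (PrimeSpectrum (A ⧸ p)) :=
  finite_primeSpectrum_of_forall_mem
    (fun h0 => hf (Ideal.Quotient.eq_zero_iff_mem.mp h0)) (forall_mem_quotient h)

theorem finite_maximalSpectrum_quotient {p : Ideal A} [p.IsPrime] [IsNoetherianRing A] {f : A}
    (hf : f ∉ p) (h : ∀ q : Ideal A, q.IsPrime → p ≤ q → f ∉ q → q = p) :
    Finite (MaximalSpectrum (A ⧸ p)) := by
  have := finite_primeSpectrum_quotient hf h
  exact Finite.of_injective _ MaximalSpectrum.toPrimeSpectrum_injective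

theorem ringKrullDim_quotient_eq_one {p : Ideal A} [p.IsPrime] [IsNoetherianRing A] {f : A}
    (hf : f ∉ p) (h : ∀ q : Ideal A, q.IsPrime → p ≤ q → f ∉ q → q = p) (hnm : ¬ p.IsMaximal) :
    ringKrullDim (A ⧸ p) = 1 := by
  have h1 : ringKrullDim (A ⧸ p) ≤ 1 := ringKrullDim_le_one_of_forall_mem
    (fun h0 => hf (Ideal.Quotient.eq_zero_iff_mem.mp h0)) (forall_mem_quotient h)
  have h0 : ¬ ringKrullDim (A ⧸ p) ≤ 0 := fun h0 => by
    have : Ring.KrullDimLE 0 (A ⧸ p) := Ring.krullDimLE_iff.mpr (by exact_mod_cast h0)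
    exact hnm (Ideal.Quotient.maximal_of_isField p Ring.KrullDimLE.isField_of_isDomain)
  exact le_antisymm h1 (Order.succ_le_of_lt (lt_of_not_ge h0))

end Relative

/-! ### Topological version on `PrimeSpectrum` -/

section Top

variable {A : Type*} [CommRing A]

/-- A locally closed point of `Spec A` is cut out of its closure by a basic open. -/
theorem exists_notMem_of_isLocallyClosed (p : PrimeSpectrum A)
    (hp : IsLocallyClosed ({p} : Set (PrimeSpectrum A))) :
    ∃ f ∉ p.asIdeal, ∀ q : Ideal A, q.IsPrime → p.asIdeal ≤ q → f ∉ q → q = p.asIdeal := by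
  obtain ⟨U, Z, hU, hZ, hUZ⟩ := hp
  have hpU : p ∈ U := (hUZ ▸ Set.mem_singleton p : p ∈ U ∩ Z).1
  have hpZ : p ∈ Z := (hUZ ▸ Set.mem_singleton p : p ∈ U ∩ Z).2
  obtain ⟨_, ⟨f, rfl⟩, hpf, hfU⟩ :=
    PrimeSpectrum.isTopologicalBasis_basic_opens.exists_subset_of_mem_open hpU hU
  refine ⟨f, hpf, fun q hq hpq hfq => ?_⟩
  let q' : PrimeSpectrum A := ⟨q, hq⟩
  have hspec : p ⤳ q' := (PrimeSpectrum.le_iff_specializes p q').mp hpq
  have hqZ : q' ∈ Z := hspec.mem_closed hZ hpZ
  have hqU : q' ∈ U := hfU hfq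
  have : q' ∈ ({p} : Set (PrimeSpectrum A)) := hUZ ▸ ⟨hqU, hqZ⟩
  exact congrArg PrimeSpectrum.asIdeal (Set.mem_singleton_iff.mp this)

theorem isMaximal_of_isLocallyClosed_of_lt [IsNoetherianRing A] (p : PrimeSpectrum A)
    (hp : IsLocallyClosed ({p} : Set (PrimeSpectrum A))) (q : PrimeSpectrum A) (hpq : p < q) :
    q.asIdeal.IsMaximal := by
  obtain ⟨f, hf, h⟩ := exists_notMem_of_isLocallyClosed p hp
  exact isMaximal_of_lt hf h q.asIdeal hpq

theorem finite_Ici_of_isLocallyClosed [IsNoetherianRing A] (p : PrimeSpectrum A)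
    (hp : IsLocallyClosed ({p} : Set (PrimeSpectrum A))) : (Set.Ici p).Finite := by
  obtain ⟨f, hf, h⟩ := exists_notMem_of_isLocallyClosed p hp
  have hfin := finite_setOf_isPrime_ge hf h
  refine Set.Finite.of_finite_image (f := PrimeSpectrum.asIdeal) (hfin.subset ?_)
    (fun x _ y _ hxy => PrimeSpectrum.ext hxy)
  rintro _ ⟨q, hq, rfl⟩
  exact ⟨q.2, hq⟩

end Top

end Groth.Agent.Lib.GenOpen45
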