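import Groth.Agent.Lib.GenOpenTop45
import Mathlib.AlgebraicGeometry.Noetherian

/-!
# Locally closed points of locally Noetherian schemes (helper45)

* `isClosed_singleton_of_specializes`: if `{x}` is locally closed in a locally Noetherian scheme,
  every proper specialization of `x` is a closed point.
* `finite_closure_singleton`: on a quasi-compact locally Noetherian scheme, a locally closed point
  has finite closure.
* `exists_isLocallyClosed_singleton_scheme`: every nonempty locally closed subset contains a locally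
  closed point.
-/

universe u

open AlgebraicGeometry Topology

namespace Groth.Agent.Lib.GenOpen45

variable {X : Scheme.{u}}

/-- Transport to an affine chart: data of a point of an affine open in `Spec Γ(X, W)`. -/
lemma exists_prime_of_mem {W : X.Opens} (hW : IsAffineOpen W) {x : X} (hx : x ∈ W) :
    ∃ p : Spec Γ(X, W), hW.fromSpec p = x := by
  have : x ∈ Set.range hW.fromSpec := by rw [hW.range_fromSpec]; exact hx
  exact this

lemma isLocallyClosed_singleton_fromSpec {W : X.Opens} (hW : IsAffineOpen W) {x : X}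
    (hx : IsLocallyClosed ({x} : Set X)) (p : Spec Γ(X, W)) (hp : hW.fromSpec p = x) :
    IsLocallyClosed ({p} : Set (Spec Γ(X, W))) := by
  have h := hx.preimage hW.fromSpec.continuous
  have : hW.fromSpec ⁻¹' {x} = {p} := by
    ext q
    simp only [Set.mem_preimage, Set.mem_singleton_iff]
    constructor
    · intro hq
      exact hW.fromSpec.isOpenEmbedding.injective (hq.trans hp.symm)
    · rintro rfl; exact hp
  rwa [this] at h

theorem isClosed_singleton_of_specializes [IsLocallyNoetherian X] {x x' : X}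
    (hx : IsLocallyClosed ({x} : Set X)) (h : x ⤳ x') (hne : x ≠ x') :
    IsClosed ({x'} : Set X) := by
  rw [← closure_subset_iff_isClosed]
  intro x'' hx''
  have h' : x' ⤳ x'' := specializes_iff_mem_closure.mpr hx''
  obtain ⟨_, ⟨W, hW, rfl⟩, hxW, -⟩ :=
    X.isBasis_affineOpens.exists_subset_of_mem_open (Set.mem_univ x'') isOpen_univ
  replace hW : IsAffineOpen W := hW
  have : IsNoetherianRing Γ(X, W) := IsLocallyNoetherian.component_noetherian ⟨W, hW⟩
  have hx'W : x' ∈ W := h'.mem_open W.2 hxW
  have hxW' : x ∈ W := h.mem_open W.2 hx'W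
  obtain ⟨p, hp⟩ := exists_prime_of_mem hW hxW'
  obtain ⟨p', hp'⟩ := exists_prime_of_mem hW hx'W
  obtain ⟨p'', hp''⟩ := exists_prime_of_mem hW hxW
  have hind := hW.fromSpec.isOpenEmbedding.isInducing
  have h1 : p ⤳ p' := hind.specializes_iff.mp (by rw [hp, hp']; exact h)
  have h2 : p' ⤳ p'' := hind.specializes_iff.mp (by rw [hp', hp'']; exact h')
  have hpp' : p ≠ p' := fun e => hne (by rw [← hp, ← hp', e])
  have hlt : (show PrimeSpectrum Γ(X, W) from p) < (show PrimeSpectrum Γ(X, W) from p') :=
    lt_of_le_of_ne ((PrimeSpectrum.le_iff_specializes _ _).mpr h1) hpp'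
  have hmax := isMaximal_of_isLocallyClosed_of_lt (A := Γ(X, W)) p
    (isLocallyClosed_singleton_fromSpec hW hx p hp) p' hlt
  have hle : (show PrimeSpectrum Γ(X, W) from p') ≤ (show PrimeSpectrum Γ(X, W) from p'') :=
    (PrimeSpectrum.le_iff_specializes _ _).mpr h2
  have : p' = p'' := PrimeSpectrum.ext
    (hmax.eq_of_le (show PrimeSpectrum Γ(X, W) from p'').2.ne_top hle)
  rw [Set.mem_singleton_iff, ← hp'', ← this, hp']

theorem finite_closure_inter_affine [IsLocallyNoetherian X] {x : X}
    (hx : IsLocallyClosed ({x} : Set X)) {W : X.Opens} (hW : IsAffineOpen W) :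
    (closure ({x} : Set X) ∩ W).Finite := by
  have : IsNoetherianRing Γ(X, W) := IsLocallyNoetherian.component_noetherian ⟨W, hW⟩
  by_cases hxW : x ∈ W
  · obtain ⟨p, hp⟩ := exists_prime_of_mem hW hxW
    have hfin := finite_Ici_of_isLocallyClosed (A := Γ(X, W)) p
      (isLocallyClosed_singleton_fromSpec hW hx p hp)
    refine (hfin.image hW.fromSpec).subset ?_
    rintro x'' ⟨hcl, hx''W⟩
    obtain ⟨p'', hp''⟩ := exists_prime_of_mem hW hx''W
    refine ⟨p'', ?_, hp''⟩
    have h : x ⤳ x'' := specializes_iff_mem_closure.mpr hcl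
    have h1 : p ⤳ p'' := hW.fromSpec.isOpenEmbedding.isInducing.specializes_iff.mp
      (by rw [hp, hp'']; exact h)
    exact (PrimeSpectrum.le_iff_specializes _ _).mpr h1
  · convert Set.finite_empty
    rw [Set.eq_empty_iff_forall_notMem]
    rintro x'' ⟨hcl, hx''W⟩
    exact hxW ((specializes_iff_mem_closure.mpr hcl).mem_open W.2 hx''W)

theorem finite_closure_singleton [IsLocallyNoetherian X] [CompactSpace X] {x : X}
    (hx : IsLocallyClosed ({x} : Set X)) : (closure ({x} : Set X)).Finite := by
  obtain ⟨s, hs, hsU⟩ := (isCompact_and_isOpen_iff_finite_and_eq_biUnion_affineOpens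
    (U := (Set.univ : Set X))).mp ⟨isCompact_univ, isOpen_univ⟩
  have : closure ({x} : Set X) = ⋃ i ∈ s, closure ({x} : Set X) ∩ ((i : X.Opens) : Set X) := by
    rw [← Set.inter_iUnion₂, ← hsU, Set.inter_univ]
  rw [this]
  exact hs.biUnion fun i _ => finite_closure_inter_affine hx i.2

theorem exists_isLocallyClosed_singleton_scheme [IsLocallyNoetherian X] {Z : Set X}
    (hZ : IsLocallyClosed Z) (hne : Z.Nonempty) : ∃ x ∈ Z, IsLocallyClosed ({x} : Set X) := by
  obtain ⟨z, hz⟩ := hne
  obtain ⟨_, ⟨W, hW, rfl⟩, hzW, -⟩ :=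
    X.isBasis_affineOpens.exists_subset_of_mem_open (Set.mem_univ z) isOpen_univ
  replace hW : IsAffineOpen W := hW
  have : IsNoetherianRing Γ(X, W) := IsLocallyNoetherian.component_noetherian ⟨W, hW⟩
  have hN : TopologicalSpace.NoetherianSpace W := noetherianSpace_of_isAffineOpen W hW
  have hc : IsCompact (Z ∩ W) := by
    have h1 : IsCompact ((Subtype.val : ↥(W : Set X) → X) ⁻¹' Z) :=
      @TopologicalSpace.NoetherianSpace.isCompact _ _ hN _
    have h2 := h1.image continuous_subtype_val
    rwa [Subtype.image_preimage_coe, Set.inter_comm] at h2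
  obtain ⟨x, hxZ, hx⟩ := exists_isLocallyClosed_singleton (hZ.inter W.2.isLocallyClosed) hc
    ⟨z, hz, hzW⟩
  exact ⟨x, hxZ.1, hx⟩

end Groth.Agent.Lib.GenOpen45
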