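import Groth.Agent.Lib.GenOpen45
import Mathlib.Topology.JacobsonSpace
import Mathlib.Topology.NoetherianSpace
import Mathlib.RingTheory.Spectrum.Prime.Noetherian
import Mathlib.RingTheory.Jacobson.Ideal

/-!
# Topological helpers for the "locally closed points" cluster (helper45)
-/

namespace Groth.Agent.Lib.GenOpen45

open Topology

section Top

variable {X : Type*} [TopologicalSpace X]

/-- A nonempty quasi-compact locally closed subset of a T0 space contains a locally closed point. -/
theorem exists_isLocallyClosed_singleton [T0Space X] {Z : Set X} (hZ : IsLocallyClosed Z)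
    (hc : IsCompact Z) (hne : Z.Nonempty) : ∃ x ∈ Z, IsLocallyClosed ({x} : Set X) := by
  have : CompactSpace Z := isCompact_iff_compactSpace.mp hc
  have : Nonempty Z := hne.to_subtype
  obtain ⟨x, -, hx⟩ := IsClosed.exists_closed_singleton (X := Z) isClosed_univ Set.univ_nonempty
  obtain ⟨C, hC, hCx⟩ := isClosed_induced_iff.mp hx
  refine ⟨x.1, x.2, ?_⟩
  have : ({x.1} : Set X) = Z ∩ C := by
    ext y
    constructor
    · rintro rfl
      exact ⟨x.2, by
        have : x ∈ Subtype.val ⁻¹' C := hCx ▸ Set.mem_singleton x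
        exact this⟩
    · rintro ⟨hyZ, hyC⟩
      have : (⟨y, hyZ⟩ : Z) ∈ ({x} : Set Z) := hCx ▸ (show (⟨y, hyZ⟩ : Z) ∈ Subtype.val ⁻¹' C from hyC)
      exact congrArg Subtype.val (Set.mem_singleton_iff.mp this)
  rw [this]
  exact hZ.inter hC.isLocallyClosed

/-- A point `x` of a subspace `U` is closed in `U` as soon as `closure {x} ∩ U ⊆ {x}`. -/
theorem isClosed_singleton_subtype {U : Set X} (x : U) (h : closure {x.1} ∩ U ⊆ {x.1}) :
    IsClosed ({x} : Set U) := by
  have : ({x} : Set U) = Subtype.val ⁻¹' closure {x.1} := by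
    ext y
    constructor
    · rintro rfl; exact subset_closure rfl
    · intro hy
      exact Subtype.ext (h ⟨hy, y.2⟩)
  rw [this]
  exact isClosed_closure.preimage continuous_subtype_val

/-- Criterion for an open subspace to be Jacobson. -/
theorem jacobsonSpace_subtype_of_forall {U : Set X} (hU : IsOpen U)
    (hloc : ∀ Z ⊆ U, IsLocallyClosed Z → Z.Nonempty → ∃ x ∈ Z, IsLocallyClosed ({x} : Set X))
    (hcl : ∀ x ∈ U, IsLocallyClosed ({x} : Set X) → closure {x} ∩ U ⊆ {x}) : JacobsonSpace U := by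
  rw [jacobsonSpace_iff_locallyClosed]
  intro Z hne hZ
  have hZ' : IsLocallyClosed (Subtype.val '' Z) :=
    hZ.image IsInducing.subtypeVal (by rw [Subtype.range_coe]; exact hU.isLocallyClosed)
  obtain ⟨x, ⟨z, hzZ, rfl⟩, hx⟩ := hloc _ (by rintro _ ⟨z, -, rfl⟩; exact z.2) hZ' (hne.image _)
  exact ⟨z, hzZ, isClosed_singleton_subtype z (hcl z.1 z.2 hx)⟩

end Top

section Spec

variable {R : Type*} [CommRing R] [IsNoetherianRing R]

/-- `Spec R ∖ V(I)` is Jacobson for `R` Noetherian and `I` in the Jacobson radical. -/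
theorem jacobsonSpace_compl_zeroLocus (I : Ideal R) (hI : I ≤ (⊥ : Ideal R).jacobson) :
    JacobsonSpace ↥((PrimeSpectrum.zeroLocus (I : Set R))ᶜ) := by
  refine jacobsonSpace_subtype_of_forall (PrimeSpectrum.isClosed_zeroLocus _).isOpen_compl ?_ ?_
  · intro Z _ hZ hne
    exact exists_isLocallyClosed_singleton hZ (TopologicalSpace.NoetherianSpace.isCompact Z) hne
  · rintro p hpU hp q ⟨hq, hqU⟩
    by_contra hne
    have hpq : p ≤ q := (PrimeSpectrum.le_iff_specializes p q).mpr
      (specializes_iff_mem_closure.mpr hq)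
    have hlt : p < q := lt_of_le_of_ne hpq (fun h => hne (h ▸ rfl))
    have hmax := isMaximal_of_isLocallyClosed_of_lt p hp q hlt
    apply hqU
    rw [PrimeSpectrum.mem_zeroLocus]
    have : (⊥ : Ideal R).jacobson ≤ q.asIdeal := sInf_le ⟨bot_le, hmax⟩
    exact hI.trans this

end Spec

end Groth.Agent.Lib.GenOpen45
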