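import Groth.Agent.Lib.GenFin45

/-!
# Separating finitely many generic points by affine opens (helper45)

* `exists_pairwise_disjoint_basicOpen`: in an affine open, finitely many distinct points without
  proper generizations have pairwise disjoint basic open neighbourhoods.
* `exists_isAffineOpen_of_finite_disjoint`: in a quasi-separated scheme, finitely many points
  without proper generizations lying outside a compact open `K` lie in an affine open disjoint
  from `K`.
-/

set_option autoImplicit false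
universe u
open CategoryTheory AlgebraicGeometry TopologicalSpace

namespace Groth.Agent.Lib.GenPts45

open Groth.Agent.Lib.GenFin45

variable {X : Scheme.{u}}

/-- In an affine open, a point `ξ` that is not a specialization of `ζ` has a basic open
neighbourhood missing `ζ`. -/
theorem exists_basicOpen_not_mem {U : X.Opens} (hU : IsAffineOpen U) (ξ ζ : X) (hξU : ξ ∈ U)
    (h : ¬ ζ ⤳ ξ) : ∃ b : Γ(X, U), ξ ∈ X.basicOpen b ∧ ζ ∉ X.basicOpen b := by
  let V : X.Opens := ⟨(closure {ζ})ᶜ, isClosed_closure.isOpen_compl⟩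
  have hξV : ξ ∈ V := fun hmem => h (specializes_iff_mem_closure.mpr hmem)
  obtain ⟨b, hbV, hb⟩ := hU.exists_basicOpen_le ⟨ξ, hξV⟩ hξU
  exact ⟨b, hb, fun hζ => hbV hζ (subset_closure rfl)⟩

/-- In an affine open, finitely many distinct points without proper generizations have pairwise
disjoint basic open neighbourhoods. -/
theorem exists_pairwise_disjoint_basicOpen {U : X.Opens} (hU : IsAffineOpen U) {ι : Type*}
    [Finite ι] (η : ι → X) (hηU : ∀ i, η i ∈ U) (hgen : ∀ i, ∀ x : X, x ⤳ η i → x = η i)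
    (hinj : Function.Injective η) :
    ∃ a : ι → Γ(X, U), (∀ i, η i ∈ X.basicOpen (a i)) ∧
      ∀ i j, i ≠ j → Disjoint (X.basicOpen (a i)) (X.basicOpen (a j)) := by
  classical
  cases nonempty_fintype ι
  have hb : ∀ i j, ∃ b : Γ(X, U), i ≠ j → (η i ∈ X.basicOpen b ∧ η j ∉ X.basicOpen b) := by
    intro i j
    by_cases hij : i = j
    · exact ⟨0, fun h => absurd hij h⟩
    · have hns : ¬ η j ⤳ η i := fun hs => hij (hinj (hgen i _ hs)).symm
      obtain ⟨b, h1, h2⟩ := exists_basicOpen_not_mem hU (η i) (η j) (hηU i) hns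
      exact ⟨b, fun _ => ⟨h1, h2⟩⟩
  choose b hb using hb
  have ha : ∀ i j, ∃ a : Γ(X, U), i ≠ j →
      (η i ∈ X.basicOpen a ∧ Disjoint (X.basicOpen a) (X.basicOpen (b j i))) := by
    intro i j
    by_cases hij : i = j
    · exact ⟨0, fun h => absurd hij h⟩
    · obtain ⟨a, h1, h2⟩ := exists_basicOpen_disjoint_of_isAffineOpen hU (hU.basicOpen (b j i))
        (X.basicOpen_le _) (η i) (hηU i) (hgen i) (hb j i (Ne.symm hij)).2
      exact ⟨a, fun _ => ⟨h1, h2⟩⟩
  choose a ha using ha
  refine ⟨fun i => ∏ j ∈ Finset.univ.erase i, (a i j * b i j), ?_, ?_⟩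
  · intro i
    rw [mem_basicOpen_iff hU _ (η i) (hηU i)]
    intro hmem
    obtain ⟨j, hj, hmem'⟩ := (Ideal.IsPrime.prod_mem_iff).mp hmem
    have hji : j ≠ i := (Finset.mem_erase.mp hj).1
    have h1 := (mem_basicOpen_iff hU _ (η i) (hηU i)).mp (ha i j hji.symm).1
    have h2 := (mem_basicOpen_iff hU _ (η i) (hηU i)).mp (hb i j hji.symm).1
    rcases (Ideal.IsPrime.mem_or_mem (hU.primeIdealOf ⟨η i, hηU i⟩).isPrime hmem') with h | h
    · exact h1 h
    · exact h2 h
  · intro i j hij
    have hle1 : X.basicOpen (∏ k ∈ Finset.univ.erase i, (a i k * b i k)) ≤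
        X.basicOpen (a i j) := by
      have hj : j ∈ Finset.univ.erase i := Finset.mem_erase.mpr ⟨Ne.symm hij, Finset.mem_univ _⟩
      rw [← Finset.mul_prod_erase _ _ hj, Scheme.basicOpen_mul, Scheme.basicOpen_mul]
      exact inf_le_left.trans inf_le_left
    have hle2 : X.basicOpen (∏ k ∈ Finset.univ.erase j, (a j k * b j k)) ≤
        X.basicOpen (b j i) := by
      have hi : i ∈ Finset.univ.erase j := Finset.mem_erase.mpr ⟨hij, Finset.mem_univ _⟩
      rw [← Finset.mul_prod_erase _ _ hi, Scheme.basicOpen_mul, Scheme.basicOpen_mul]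
      exact inf_le_left.trans inf_le_right
    exact (ha i j hij).2.mono hle1 hle2

/-- In a quasi-separated open `W`, finitely many points without proper generizations which lie
outside a compact open `K ≤ W` lie in a common affine open `V ≤ W` disjoint from `K`. -/
theorem exists_isAffineOpen_of_finite_disjoint (W : X.Opens) (hW : IsQuasiSeparated (W : Set X))
    (K : X.Opens) (hKW : K ≤ W) (hK : IsCompact (K : Set X))
    (F : Set X) (hF : F.Finite) (hFW : F ⊆ W) (hFK : ∀ ξ ∈ F, ξ ∉ K)
    (hgen : ∀ ξ ∈ F, ∀ x : X, x ⤳ ξ → x = ξ) :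
    ∃ V : X.Opens, IsAffineOpen V ∧ V ≤ W ∧ F ⊆ V ∧ Disjoint V K := by
  induction F, hF using Set.Finite.induction_on with
  | empty => exact ⟨⊥, isAffineOpen_bot X, bot_le, Set.empty_subset _, disjoint_bot_left⟩
  | @insert ξ F' hξF' hF' ih =>
    obtain ⟨V, hV, hVW, hF'V, hVK⟩ := ih (fun x hx => hFW (Set.mem_insert_of_mem _ hx))
      (fun ξ' hξ' => hFK ξ' (Set.mem_insert_of_mem _ hξ'))
      (fun ξ' hξ' => hgen ξ' (Set.mem_insert_of_mem _ hξ'))
    by_cases hξV : ξ ∈ V
    · exact ⟨V, hV, hVW, Set.insert_subset hξV hF'V, hVK⟩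
    · have hξW : ξ ∈ W := hFW (Set.mem_insert _ _)
      obtain ⟨_, ⟨N, hN, rfl⟩, hξN, hNW⟩ := X.isBasis_affineOpens.exists_subset_of_mem_open
        hξW W.isOpen
      replace hN : IsAffineOpen N := hN
      obtain ⟨N, rfl⟩ : ∃ N' : X.Opens, N' = N := ⟨N, rfl⟩
      have hKV : IsCompact ((K ⊔ V : X.Opens) : Set X) := by
        rw [Opens.coe_sup]
        exact hK.union hV.isCompact
      have hKN : IsCompact (((K ⊔ V) ⊓ N : X.Opens) : Set X) :=
        hW (K ⊔ V) N (sup_le hKW hVW) (K ⊔ V).isOpen hKV hNW N.isOpen hN.isCompact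
      have hξKV : ξ ∉ K ⊔ V := by
        rintro (h | h)
        · exact hFK ξ (Set.mem_insert _ _) h
        · exact hξV h
      obtain ⟨a, ha, hdisj⟩ := exists_basicOpen_disjoint_of_isCompact hN ξ hξN
        (hgen ξ (Set.mem_insert _ _)) (K ⊔ V) hKN hξKV
      refine ⟨V ⊔ X.basicOpen a, hV.sup_of_disjoint (hN.basicOpen a)
          (hdisj.mono_right le_sup_right).symm,
        sup_le hVW ((X.basicOpen_le a).trans hNW), ?_, ?_⟩
      · apply Set.insert_subset
        · exact Or.inr ha
        · exact fun x hx => Or.inl (hF'V hx)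
      · rw [disjoint_sup_left]
        exact ⟨hVK, hdisj.mono_right le_sup_left⟩

end Groth.Agent.Lib.GenPts45
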