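import Mathlib
import Groth.Agent.Lib.DepthRees
import Groth.Agent.Lib.DepthFlat33

/-!
# Minimal generators with a regular prefix (Noetherian local rings)

* `idealDepth_quotient_ofList_add_length`: Rees, `depth_I(M/(rs)M) + |rs| = depth_I M`.
* `exists_exchange`: Steinitz exchange for generators of an ideal in a local ring.
* `exists_next`: choose the next element (prime avoidance): regular modulo the previous ones and
  outside `mJ + (previous)`.
* `exists_generators_regular_prefix`: grade `J ≤ μ(J)` and `J` has a minimal generating sequence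
  whose first `grade J` terms form a regular sequence.
-/

set_option autoImplicit false
set_option linter.style.haveILetI false
universe u v
open RingTheory.Sequence IsLocalRing

namespace Groth.Agent.Lib.GenRegPrefix

section depth

variable {R : Type u} [CommRing R] [IsNoetherianRing R]

/-- Rees: the `I`-depth drops by the length of a weakly regular sequence in `I`. -/
theorem idealDepth_quotient_ofList_add_length [Small.{v} R] (I : Ideal R) (rs : List R) :
    ∀ (M : Type v) [AddCommGroup M] [Module R M] [Module.Finite R M],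
      I • (⊤ : Submodule R M) ≠ ⊤ → (∀ r ∈ rs, r ∈ I) → IsWeaklyRegular M rs →
      LocCoh.idealDepth I (M ⧸ (Ideal.ofList rs • ⊤ : Submodule R M)) + rs.length =
        LocCoh.idealDepth I M := by
  induction rs with
  | nil =>
    intro M _ _ _ _ _ _
    have e := Submodule.quotEquivOfEqBot (Ideal.ofList ([] : List R) • (⊤ : Submodule R M))
      (by rw [Ideal.ofList_nil, Submodule.bot_smul])
    rw [Groth.Agent.Lib.DepthFlat33.idealDepth_congr e I]
    simp
  | cons x xs ih =>
    intro M _ _ _ hI hmem hreg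
    rw [isWeaklyRegular_cons_iff] at hreg
    have hx : x ∈ I := hmem x List.mem_cons_self
    have hxs : ∀ r ∈ xs, r ∈ I := fun r hr => hmem r (List.mem_cons_of_mem _ hr)
    have hIQ := Groth.Agent.Lib.DepthRees.smul_top_quotSMulTop_ne_top hx hI
    have h1 := ih (QuotSMulTop x M) hIQ hxs hreg.2
    have h2 := Groth.Agent.Lib.DepthRees.idealDepth_quotSMulTop_add_one I M hI hx hreg.1
    rw [Groth.Agent.Lib.DepthFlat33.idealDepth_congr
      (Submodule.quotOfListConsSMulTopEquivQuotSMulTopInner M x xs) I, ← h2, ← h1,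
      List.length_cons]
    push_cast
    rw [add_assoc]

end depth

section exchange

variable {T : Type u} [CommRing T] [IsLocalRing T]

/-- Steinitz-type exchange for generators of an ideal in a local ring. -/
theorem exists_exchange [DecidableEq T] (J : Ideal T) (ts : List T) (S : Finset T)
    (hgen : Ideal.ofList ts ⊔ Ideal.span (S : Set T) = J) {t : T} (htJ : t ∈ J)
    (ht : t ∉ maximalIdeal T * J ⊔ Ideal.ofList ts) :
    ∃ u ∈ S, Ideal.ofList (ts ++ [t]) ⊔ Ideal.span ((S.erase u : Finset T) : Set T) = J := by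
  have hSJ : ∀ u ∈ S, u ∈ J := fun u hu => hgen ▸ Ideal.mem_sup_right (Ideal.subset_span hu)
  have htsJ : Ideal.ofList ts ≤ J := hgen ▸ le_sup_left
  rw [← hgen] at htJ
  obtain ⟨a, ha, b, hb, hab⟩ := Submodule.mem_sup.mp htJ
  obtain ⟨f, -, hf⟩ := Submodule.mem_span_finset.mp hb
  have hex : ∃ u ∈ S, f u ∉ maximalIdeal T := by
    by_contra hcon
    push Not at hcon
    apply ht
    rw [← hab, ← hf]
    refine Ideal.add_mem _ (Ideal.mem_sup_right ha) (Ideal.mem_sup_left ?_)
    refine Ideal.sum_mem _ fun u hu => ?_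
    exact Ideal.mul_mem_mul (hcon u hu) (hSJ u hu)
  obtain ⟨u, hu, hfu⟩ := hex
  have hunit : IsUnit (f u) := by
    by_contra h
    exact hfu ((IsLocalRing.mem_maximalIdeal _).mpr h)
  refine ⟨u, hu, ?_⟩
  set K := Ideal.ofList (ts ++ [t]) ⊔ Ideal.span ((S.erase u : Finset T) : Set T) with hK
  have htsK : Ideal.ofList ts ≤ K := by
    rw [hK, Ideal.ofList_append]
    exact le_sup_of_le_left le_sup_left
  have htK : t ∈ K := by
    rw [hK, Ideal.ofList_append, Ideal.ofList_singleton]
    exact Ideal.mem_sup_left (Ideal.mem_sup_right (Ideal.mem_span_singleton_self t))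
  have hSK : ∀ u' ∈ S.erase u, u' ∈ K := fun u' hu' =>
    Ideal.mem_sup_right (Ideal.subset_span hu')
  have huK : u ∈ K := by
    have h1 : f u • u = t - a - ∑ u' ∈ S.erase u, f u' • u' := by
      rw [← hab, ← hf, ← Finset.add_sum_erase S _ hu]
      abel
    have h2 : f u • u ∈ K := by
      rw [h1]
      refine K.sub_mem (K.sub_mem htK (htsK ha)) (K.sum_mem fun u' hu' => ?_)
      exact K.mul_mem_left _ (hSK u' hu')
    obtain ⟨g, hg⟩ := hunit.exists_left_inv
    have : u = g * (f u • u) := by
      rw [smul_eq_mul, ← mul_assoc, hg, one_mul]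
    rw [this]
    exact K.mul_mem_left _ h2
  apply le_antisymm
  · rw [hK, Ideal.ofList_append, Ideal.ofList_singleton]
    refine sup_le (sup_le htsJ ?_) ?_
    · rw [Ideal.span_le, Set.singleton_subset_iff]
      exact hgen ▸ htJ
    · rw [Ideal.span_le]
      intro u' hu'
      exact hSJ u' (Finset.mem_of_mem_erase hu')
  · rw [← hgen]
    refine sup_le htsK ?_
    rw [Ideal.span_le]
    intro u' hu'
    by_cases h : u' = u
    · rw [h]; exact huK
    · exact hSK u' (Finset.mem_erase.mpr ⟨h, hu'⟩)

end exchange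

section select

variable {T : Type u} [CommRing T] [IsLocalRing T] [IsNoetherianRing T]

theorem exists_next (J : Ideal T) (hJ : J ≠ ⊤) (ts : List T)
    (hts : ∀ t ∈ ts, t ∈ J) (hreg : IsWeaklyRegular T ts)
    (hlt : (ts.length : ℕ∞) < LocCoh.idealDepth J T) :
    ∃ t ∈ J, t ∉ maximalIdeal T * J ⊔ Ideal.ofList ts ∧
      IsSMulRegular (T ⧸ (Ideal.ofList ts • ⊤ : Submodule T T)) t := by
  classical
  have hJT : J • (⊤ : Submodule T T) ≠ ⊤ := by
    rw [smul_eq_mul, Ideal.mul_top]; exact hJ
  have hJm : J ≤ maximalIdeal T := le_maximalIdeal hJ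
  have htsJ : Ideal.ofList ts ≤ J := by
    rw [Ideal.ofList, Ideal.span_le]; exact fun t ht => hts t ht
  have hN : (Ideal.ofList ts • ⊤ : Submodule T T) = Ideal.ofList ts := by
    rw [smul_eq_mul, Ideal.mul_top]
  have hNne : (Ideal.ofList ts • ⊤ : Submodule T T) ≠ ⊤ := by
    rw [hN]; exact fun h => hJ (top_le_iff.mp (h ▸ htsJ))
  haveI : Nontrivial (T ⧸ (Ideal.ofList ts • ⊤ : Submodule T T)) :=
    Submodule.Quotient.nontrivial_iff.mpr hNne
  have hJM : J • (⊤ : Submodule T (T ⧸ (Ideal.ofList ts • ⊤ : Submodule T T))) ≠ ⊤ := by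
    intro h
    apply Groth.Agent.Lib.DepthRees.maximalIdeal_smul_top_ne_top (R := T)
      (T ⧸ (Ideal.ofList ts • ⊤ : Submodule T T))
    have hle : J • (⊤ : Submodule T (T ⧸ (Ideal.ofList ts • ⊤ : Submodule T T))) ≤
        maximalIdeal T • ⊤ := Submodule.smul_mono_left hJm
    rw [h] at hle
    exact top_le_iff.mp hle
  have hdrop := idealDepth_quotient_ofList_add_length J ts T hJT hts hreg
  have h1 : (1 : ℕ∞) ≤ LocCoh.idealDepth J (T ⧸ (Ideal.ofList ts • ⊤ : Submodule T T)) := by
    rw [Order.one_le_iff_ne_zero]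
    intro h0
    rw [h0, zero_add] at hdrop
    rw [hdrop] at hlt
    exact lt_irrefl _ hlt
  obtain ⟨rs, hlen, hmem, hrs⟩ :=
    (Groth.Agent.Lib.DepthRees.natCast_le_idealDepth_iff J _ hJM 1).mp (by exact_mod_cast h1)
  obtain ⟨x, rfl⟩ := List.length_eq_one_iff.mp hlen
  have hxJ : x ∈ J := hmem x (List.mem_singleton_self x)
  have hxreg : IsSMulRegular (T ⧸ (Ideal.ofList ts • ⊤ : Submodule T T)) x :=
    ((isWeaklyRegular_cons_iff _ x []).mp hrs).1
  -- prime avoidance
  by_contra hcon
  push Not at hcon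
  set I₀ := maximalIdeal T * J ⊔ Ideal.ofList ts with hI₀
  have hfin := associatedPrimes.finite T (T ⧸ (Ideal.ofList ts • ⊤ : Submodule T T))
  set s : Finset (Ideal T) := insert I₀ hfin.toFinset with hs
  have hsub : (J : Set T) ⊆ ⋃ i ∈ (s : Set (Ideal T)), (id i : Ideal T) := by
    intro t ht
    by_cases htI : t ∈ I₀
    · exact Set.mem_biUnion (Finset.mem_coe.mpr (Finset.mem_insert_self _ _)) htI
    · have hnr := hcon t ht htI
      rw [isSMulRegular_iff_right_eq_zero_of_smul] at hnr
      push Not at hnr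
      obtain ⟨y, hy0, hy⟩ := hnr
      have : t ∈ ⋃ p ∈ associatedPrimes T (T ⧸ (Ideal.ofList ts • ⊤ : Submodule T T)),
          (p : Set T) := by
        rw [biUnion_associatedPrimes_eq_zero_divisors]
        exact ⟨y, hy, hy0⟩
      obtain ⟨P, hP, htP⟩ := Set.mem_iUnion₂.mp this
      exact Set.mem_biUnion (Finset.mem_coe.mpr (Finset.mem_insert_of_mem
        ((Set.Finite.mem_toFinset hfin).mpr hP))) htP
  obtain ⟨i, his, hJi⟩ := (Ideal.subset_union_prime (f := id) I₀ I₀ (fun i hi hne _ => by
    have : i ∈ hfin.toFinset := by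
      rcases Finset.mem_insert.mp hi with h | h
      · exact absurd h hne
      · exact h
    exact ((Set.Finite.mem_toFinset hfin).mp this).isPrime)).mp hsub
  rcases Finset.mem_insert.mp his with h | h
  · -- J ≤ I₀ : Nakayama
    rw [h] at hJi
    have hjac : maximalIdeal T ≤ Ideal.jacobson ⊥ := by
      rw [IsLocalRing.jacobson_eq_maximalIdeal ⊥ bot_ne_top]
    have hle : J ≤ Ideal.ofList ts := by
      apply Submodule.le_of_le_smul_of_le_jacobson_bot (I := maximalIdeal T)
        (IsNoetherian.noetherian J) hjac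
      rw [sup_comm, smul_eq_mul]
      exact hJi
    have hx0 : x • (Submodule.Quotient.mk (1 : T) :
        T ⧸ (Ideal.ofList ts • ⊤ : Submodule T T)) = 0 := by
      rw [← Submodule.Quotient.mk_smul, Submodule.Quotient.mk_eq_zero, hN, smul_eq_mul, mul_one]
      exact hle hxJ
    have h10 := (isSMulRegular_iff_right_eq_zero_of_smul.mp hxreg) _ hx0
    rw [Submodule.Quotient.mk_eq_zero, hN] at h10
    exact hJ ((Ideal.eq_top_iff_one _).mpr (htsJ h10))
  · -- J ≤ P associated prime
    have hP := (Set.Finite.mem_toFinset hfin).mp h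
    have : x ∈ ⋃ p ∈ associatedPrimes T (T ⧸ (Ideal.ofList ts • ⊤ : Submodule T T)),
        (p : Set T) := Set.mem_biUnion hP (hJi hxJ)
    rw [biUnion_associatedPrimes_eq_zero_divisors] at this
    obtain ⟨y, hy0, hy⟩ := this
    exact hy0 ((isSMulRegular_iff_right_eq_zero_of_smul.mp hxreg) y hy)

end select

section main

variable {T : Type u} [CommRing T] [IsLocalRing T] [IsNoetherianRing T]

theorem exists_partial (J : Ideal T) (hJ : J ≠ ⊤) (j : ℕ)
    (hj : LocCoh.idealDepth J T = j) :
    ∀ i ≤ j, ∃ (ts : List T) (S : Finset T), ts.length = i ∧ (∀ t ∈ ts, t ∈ J) ∧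
      IsWeaklyRegular T ts ∧ Ideal.ofList ts ⊔ Ideal.span (S : Set T) = J ∧
      ts.length + S.card = J.spanFinrank := by
  classical
  intro i
  induction i with
  | zero =>
    intro _
    obtain ⟨S, hS1, hS2⟩ := Submodule.FG.exists_span_finset_card_eq_spanFinrank
      (p := J) (IsNoetherian.noetherian J)
    refine ⟨[], S, rfl, by simp, IsWeaklyRegular.nil T T, ?_, by simpa using hS1⟩
    rw [Ideal.ofList_nil, bot_sup_eq]
    exact hS2
  | succ i ih =>
    intro hi
    obtain ⟨ts, S, hlen, hts, hreg, hgen, hcard⟩ := ih (by omega)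
    have hlt : (ts.length : ℕ∞) < LocCoh.idealDepth J T := by
      rw [hj, hlen]; exact_mod_cast hi
    obtain ⟨t, htJ, htI, htreg⟩ := exists_next J hJ ts hts hreg hlt
    obtain ⟨u, hu, hgen'⟩ := exists_exchange J ts S hgen htJ htI
    refine ⟨ts ++ [t], S.erase u, by simp [hlen], ?_, ?_, hgen', ?_⟩
    · intro t' ht'
      rcases List.mem_append.mp ht' with h | h
      · exact hts t' h
      · rw [List.mem_singleton.mp h]; exact htJ
    · rw [isWeaklyRegular_append_iff]
      exact ⟨hreg, (isWeaklyRegular_cons_iff _ t []).mpr ⟨htreg, IsWeaklyRegular.nil _ _⟩⟩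
    · rw [List.length_append, List.length_singleton, Finset.card_erase_of_mem hu, ← hcard]
      have : 0 < S.card := Finset.card_pos.mpr ⟨u, hu⟩
      omega

/-- In a Noetherian local ring, the grade of a proper ideal `J` is at most its minimal number of
generators, and `J` has a minimal generating sequence whose first `grade J` terms are regular. -/
theorem exists_generators_regular_prefix (J : Ideal T) (hJ : J ≠ ⊤) (j : ℕ)
    (hj : LocCoh.idealDepth J T = j) :
    j ≤ Submodule.spanFinrank J ∧
      ∃ ts : List T, ts.length = Submodule.spanFinrank J ∧ Ideal.ofList ts = J ∧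
        IsRegular T (ts.take j) := by
  classical
  obtain ⟨ts, S, hlen, hts, hreg, hgen, hcard⟩ := exists_partial J hJ j hj j le_rfl
  have hJT : J • (⊤ : Submodule T T) ≠ ⊤ := by
    rw [smul_eq_mul, Ideal.mul_top]; exact hJ
  refine ⟨by omega, ts ++ S.toList, ?_, ?_, ?_⟩
  · rw [List.length_append, Finset.length_toList, hcard]
  · rw [Ideal.ofList_append, ← hgen]
    congr 1
    rw [Ideal.ofList]
    congr 1
    ext x
    simp
  · rw [List.take_left' hlen]
    exact Groth.Agent.Lib.DepthRees.isRegular_of_isWeaklyRegular_of_mem hJT hts hreg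

end main

end Groth.Agent.Lib.GenRegPrefix
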