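import Groth.Agent.Lib.KerBCPoly23
import Groth.Agent.Lib.CayleyHam23
import Groth.Agent.S13696

/-!
# Relative Cayley–Hamilton and the generic element (helper23)
-/

set_option autoImplicit false
universe u
open scoped TensorProduct

namespace Groth.Agent.Lib.GenericCH23

open Groth.Agent.Lib.PolLaw23 Groth.Agent.Lib.KerBC23 Groth.Agent.Lib.KerBCFin23 Groth.Agent.Lib.BCLaw23
  Groth.Agent.Lib.KerBCPoly23 Groth.Agent.Lib.CayleyHam23

variable {A : Type u} [CommRing A] {B : Type u} [CommRing B] [Algebra A B] {d : ℕ}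

/-- Relative Cayley–Hamilton: the characteristic polynomial of `z ∈ A' ⊗ B` kills `z` modulo the kernel
of the base change. -/
theorem rel_cayley_hamilton (F : PolLaw.MulLaw A B A d) (A' : Type u) [CommRing A'] [Algebra A A']
    (z : A' ⊗[A] B) (χ : Polynomial A')
    (hχ : F.law.toFun' (Polynomial A') (bc (IsScalarTower.toAlgHom A A' (Polynomial A')) z -
      Polynomial.X ⊗ₜ[A] (1 : B)) = χ ⊗ₜ[A] (1 : A)) :
    Polynomial.aeval z χ ∈ PolLaw.kerBC F.law A' := by
  rw [← ker_bcMul]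
  apply cayley_hamilton (bcMul F A') z χ
  apply bcMul_toFun'_eq_tmul
  rw [map_sub, cb_one_tmul, Algebra.TensorProduct.one_def, cb_tmul, one_smul]
  exact hχ

/-- The characteristic polynomial of `z ∈ A' ⊗ B` with respect to `F`. -/
noncomputable def charpoly (F : PolLaw.MulLaw A B A d) (A' : Type u) [CommRing A'] [Algebra A A']
    (z : A' ⊗[A] B) : Polynomial A' :=
  TensorProduct.rid A (Polynomial A') (F.law.toFun' (Polynomial A')
    (bc (IsScalarTower.toAlgHom A A' (Polynomial A')) z - Polynomial.X ⊗ₜ[A] (1 : B)))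

theorem charpoly_spec (F : PolLaw.MulLaw A B A d) (A' : Type u) [CommRing A'] [Algebra A A']
    (z : A' ⊗[A] B) :
    F.law.toFun' (Polynomial A') (bc (IsScalarTower.toAlgHom A A' (Polynomial A')) z -
      Polynomial.X ⊗ₜ[A] (1 : B)) = charpoly F A' z ⊗ₜ[A] (1 : A) :=
  Groth.Agent.S13696.eq_rid_tmul _

theorem aeval_charpoly_mem (F : PolLaw.MulLaw A B A d) (A' : Type u) [CommRing A'] [Algebra A A']
    (z : A' ⊗[A] B) : Polynomial.aeval z (charpoly F A' z) ∈ PolLaw.kerBC F.law A' :=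
  rel_cayley_hamilton F A' z _ (charpoly_spec F A' z)

/-- The characteristic polynomial commutes with base change. -/
theorem charpoly_map (F : PolLaw.MulLaw A B A d) {A₁ A₂ : Type u} [CommRing A₁] [Algebra A A₁]
    [CommRing A₂] [Algebra A A₂] (ψ : A₁ →ₐ[A] A₂) (z : A₁ ⊗[A] B) :
    (charpoly F A₁ z).map (ψ : A₁ →+* A₂) = charpoly F A₂ (bc ψ z) := by
  have h1 : (Polynomial.mapAlgHom ψ).comp (IsScalarTower.toAlgHom A A₁ (Polynomial A₁)) =
      (IsScalarTower.toAlgHom A A₂ (Polynomial A₂)).comp ψ := by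
    ext a
    simp
  unfold charpoly
  have h2 := rid_rTensor (Polynomial.mapAlgHom ψ) (F.law.toFun' (Polynomial A₁)
    (bc (IsScalarTower.toAlgHom A A₁ (Polynomial A₁)) z - Polynomial.X ⊗ₜ[A] (1 : B)))
  rw [PolynomialLaw.isCompat_apply', map_sub, bc_comp, LinearMap.rTensor_tmul, AlgHom.toLinearMap_apply,
    h1, ← bc_bc] at h2
  have h3 : (Polynomial.mapAlgHom ψ) (Polynomial.X : Polynomial A₁) = Polynomial.X := by simp
  rw [h3] at h2
  rw [h2]
  rfl

/-- The characteristic polynomial of an element of the kernel is `(-X)^d`. -/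
theorem charpoly_of_mem_kerBC (F : PolLaw.MulLaw A B A d) (A' : Type u) [CommRing A'] [Algebra A A']
    {z : A' ⊗[A] B} (hz : z ∈ PolLaw.kerBC F.law A') : charpoly F A' z = (-Polynomial.X) ^ d := by
  have h1 := hz (Polynomial A') (-(Polynomial.X ⊗ₜ[A] (1 : B))) 1
  rw [one_mul] at h1
  have h2 : (-(Polynomial.X ⊗ₜ[A] (1 : B)) : Polynomial A' ⊗[A] B) =
      (-Polynomial.X : Polynomial A') • (1 : Polynomial A' ⊗[A] B) := by
    rw [Algebra.TensorProduct.one_def, TensorProduct.smul_tmul', smul_eq_mul, mul_one, TensorProduct.neg_tmul]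
  unfold charpoly
  rw [sub_eq_add_neg, add_comm]
  show TensorProduct.rid A (Polynomial A') (F.law.toFun' (Polynomial A')
    (-(Polynomial.X ⊗ₜ[A] (1 : B)) + Algebra.TensorProduct.map (IsScalarTower.toAlgHom A A' (Polynomial A'))
      (AlgHom.id A B) z)) = _
  rw [h1, h2, F.homog, (F.mult _).1, Algebra.TensorProduct.one_def, TensorProduct.smul_tmul', smul_eq_mul, mul_one]
  simp


theorem bc_aeval {A₁ A₂ : Type u} [CommRing A₁] [Algebra A A₁]
    [CommRing A₂] [Algebra A A₂] (ψ : A₁ →ₐ[A] A₂) (z : A₁ ⊗[A] B) (χ : Polynomial A₁) :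
    bc ψ (Polynomial.aeval z χ) = Polynomial.aeval (bc ψ z) (χ.map (ψ : A₁ →+* A₂)) := by
  have h : ((bc (B := B) ψ : A₁ ⊗[A] B →+* A₂ ⊗[A] B)).comp (algebraMap A₁ (A₁ ⊗[A] B)) =
      (algebraMap A₂ (A₂ ⊗[A] B)).comp (ψ : A₁ →+* A₂) := by
    ext a
    simp [Algebra.TensorProduct.algebraMap_apply, bc_tmul]
  rw [Polynomial.aeval_def, Polynomial.aeval_def, Polynomial.eval₂_map, ← h]
  exact Polynomial.hom_eval₂ χ _ (bc (B := B) ψ : A₁ ⊗[A] B →+* A₂ ⊗[A] B) z

/-- The generic Cayley–Hamilton element: for `e : Fin q → B` there is an element `c` of the extension of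
`ker F` to `A[X_1..X_q] ⊗ B` which specialises to `(-b')^d` for every `b' = ∑ a'_l ⊗ e_l` in the kernel of
a base change. -/
theorem generic (F : PolLaw.MulLaw A B A d) (q : ℕ) (e : Fin q → B) :
    ∃ c ∈ (PolLaw.ker F.law).map
        (Algebra.TensorProduct.includeRight : B →ₐ[A] MvPolynomial (Fin q) A ⊗[A] B),
      ∀ (A' : Type u) [CommRing A'] [Algebra A A'] (a' : Fin q → A'),
        (∑ l, a' l ⊗ₜ[A] e l) ∈ PolLaw.kerBC F.law A' →
          bc (MvPolynomial.aeval a') c = (-(∑ l, a' l ⊗ₜ[A] e l)) ^ d := by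
  set z : MvPolynomial (Fin q) A ⊗[A] B := ∑ l, (MvPolynomial.X l : MvPolynomial (Fin q) A) ⊗ₜ[A] e l with hz
  refine ⟨Polynomial.aeval z (charpoly F (MvPolynomial (Fin q) A) z),
    kerBC_mvPolynomial_le F q (aeval_charpoly_mem F _ z), ?_⟩
  intro A' _ _ a' hb'
  have h1 : bc (MvPolynomial.aeval a' : MvPolynomial (Fin q) A →ₐ[A] A') z = ∑ l, a' l ⊗ₜ[A] e l := by
    rw [hz, map_sum]
    refine Finset.sum_congr rfl fun l _ => ?_
    rw [bc_tmul, MvPolynomial.aeval_X]
  rw [bc_aeval, charpoly_map, h1, charpoly_of_mem_kerBC F A' hb']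
  simp

end Groth.Agent.Lib.GenericCH23
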