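import Groth.Agent.Lib.DimIneqScheme
import Groth.Agent.S2680
import Mathlib.RingTheory.RingHom.FiniteType

/-!
# Points of the fibre of maximal local dimension, and heights under closed maps (helper63)

* `exists_prime_height_eq`: for a finite type extension of domains `R ⊆ B` of transcendence degree
  `n` there is a prime `q` of `B` with `q ∩ R = 0` and `ht q = n` (a closed point of the generic
  fibre).
* `exists_prime_over`: for a finite type `R`-algebra `B` and a prime `P` of `B` with
  `trdeg (R / P ∩ R) (B / P) = n` there is a prime `Q ⊇ P` with `Q ∩ R = P ∩ R` and `n ≤ ht Q`.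
* `exists_point_stalk_dim_ge`: scheme version.
* `height_le_height_of_isClosedMap`: closed continuous maps do not decrease the height in the
  specialization order.
-/

set_option autoImplicit false
universe u

namespace Groth.Agent.Lib.GenericFibrePoint

open Cardinal Groth.Agent.Lib.TrdegTransfer Groth.Agent.Lib.DimIneqCore
  Groth.Agent.Lib.DimIneqScheme

section Alg

theorem exists_prime_height_eq {R B : Type u} [CommRing R] [CommRing B] [IsDomain R] [IsDomain B]
    [Algebra R B] [FaithfulSMul R B] [Algebra.FiniteType R B] (n : ℕ)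
    (hn : Algebra.trdeg R B = n) :
    ∃ q : Ideal B, q.IsPrime ∧ q.under R = ⊥ ∧ q.height = n := by
  let M := nonZeroDivisors R
  let K := Localization M
  let D := Localization (Algebra.algebraMapSubmonoid B M)
  have hM : Algebra.algebraMapSubmonoid B M ≤ nonZeroDivisors B :=
    map_le_nonZeroDivisors_of_injective _ (FaithfulSMul.algebraMap_injective R B) le_rfl
  haveI : IsDomain D := IsLocalization.isDomain_localization hM
  letI : Field K := inferInstanceAs (Field (FractionRing R))
  haveI : Algebra.FiniteType K D := by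
    have h0 : (algebraMap R B).FiniteType := RingHom.finiteType_algebraMap.mpr inferInstance
    haveI : IsLocalization (Submonoid.map (algebraMap R B) M) D :=
      inferInstanceAs (IsLocalization (Algebra.algebraMapSubmonoid B M) D)
    have := RingHom.finiteType_localizationPreserves (algebraMap R B) M K D h0
    exact RingHom.finiteType_algebraMap.mp this
  obtain ⟨n', h1, h2, h3⟩ := Groth.Agent.S2680.result K D
  obtain ⟨m, hm⟩ := Ideal.exists_maximal D
  have h4 : ringKrullDim (Localization.AtPrime m) = n' := h3 m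
  rw [IsLocalization.AtPrime.ringKrullDim_eq_height m] at h4
  have h5 : m.height = n' := by exact_mod_cast h4
  -- the transcendence degrees agree
  have h6 : Algebra.trdeg K (FractionRing D) = Algebra.trdeg R B := by
    haveI : Algebra.IsAlgebraic R K := IsLocalization.isAlgebraic K M
    haveI : Algebra.IsAlgebraic B D := IsLocalization.isAlgebraic D (Algebra.algebraMapSubmonoid B M)
    haveI : Algebra.IsAlgebraic D (FractionRing D) :=
      IsLocalization.isAlgebraic (FractionRing D) (nonZeroDivisors D)
    haveI : Algebra.IsAlgebraic B (FractionRing D) := Algebra.IsAlgebraic.trans B D (FractionRing D)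
    haveI : FaithfulSMul B D :=
      (faithfulSMul_iff_algebraMap_injective _ _).mpr (IsLocalization.injective D hM)
    haveI : FaithfulSMul B (FractionRing D) := FaithfulSMul.trans B D (FractionRing D)
    haveI : FaithfulSMul K (FractionRing D) :=
      (faithfulSMul_iff_algebraMap_injective _ _).mpr (algebraMap K (FractionRing D)).injective
    exact trdeg_eq_of_isAlgebraic_square (A := R) (B := B) (K := K) (L := FractionRing D)
  have h7 : n' = n := by
    have : (n' : Cardinal.{u}) = n := by rw [← h1, h6, hn]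
    exact_mod_cast this
  refine ⟨m.under B, inferInstance, ?_, ?_⟩
  · rw [eq_bot_iff]
    intro r hr
    by_contra hr0
    have hr0' : r ≠ 0 := hr0
    have hrM : r ∈ M := mem_nonZeroDivisors_of_ne_zero hr0'
    have h8 : algebraMap B D (algebraMap R B r) ∈ m := hr
    have h9 : IsUnit (algebraMap B D (algebraMap R B r)) :=
      IsLocalization.map_units D ⟨algebraMap R B r, Algebra.mem_algebraMapSubmonoid_of_mem ⟨r, hrM⟩⟩
    exact hm.ne_top (Ideal.eq_top_of_isUnit_mem _ h8 h9)
  · rw [IsLocalization.height_under (Algebra.algebraMapSubmonoid B M) m, h5, h7]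

theorem exists_prime_over {R B : Type u} [CommRing R] [CommRing B] [Algebra R B]
    [Algebra.FiniteType R B] (P : Ideal B) [P.IsPrime] (n : ℕ)
    (hn : Algebra.trdeg (R ⧸ P.under R) (B ⧸ P) = n) :
    ∃ Q : Ideal B, Q.IsPrime ∧ P ≤ Q ∧ Q.under R = P.under R ∧ (n : ℕ∞) ≤ Q.height := by
  haveI : Algebra.FiniteType R (B ⧸ P) :=
    Algebra.FiniteType.of_surjective (Ideal.Quotient.mkₐ R P) Ideal.Quotient.mk_surjective
  haveI : Algebra.FiniteType (R ⧸ P.under R) (B ⧸ P) :=
    Algebra.FiniteType.of_restrictScalars_finiteType R (R ⧸ P.under R) (B ⧸ P)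
  obtain ⟨q, hq, hq0, hqh⟩ := exists_prime_height_eq (R := R ⧸ P.under R) (B := B ⧸ P) n hn
  have hPle : P ≤ q.comap (Ideal.Quotient.mk P) := by
    intro b hb
    rw [Ideal.mem_comap, Ideal.Quotient.eq_zero_iff_mem.mpr hb]
    exact zero_mem _
  refine ⟨q.comap (Ideal.Quotient.mk P), inferInstance, hPle, ?_, ?_⟩
  · ext r
    have h1 : r ∈ (q.comap (Ideal.Quotient.mk P)).under R ↔
        Ideal.Quotient.mk (P.under R) r ∈ q.under (R ⧸ P.under R) := Iff.rfl
    rw [h1, hq0, Ideal.mem_bot, Ideal.Quotient.eq_zero_iff_mem]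
  · have h1 := height_map_mk_le P (q.comap (Ideal.Quotient.mk P)) hPle
    rw [Ideal.map_comap_of_surjective _ Ideal.Quotient.mk_surjective] at h1
    rw [← hqh]
    exact h1

end Alg

section Sch

open AlgebraicGeometry

variable {X S : Scheme.{u}} (f : X ⟶ S)

/-- For `f` locally of finite type and `x : X` with `trdeg κ(x)/κ(f x) = n` there is a
specialization `z` of `x` in the same fibre with `dim O_{X,z} ≥ n`. -/
theorem exists_point_stalk_dim_ge [LocallyOfFiniteType f] (x : X) (n : ℕ)
    (hn : letI := (f.residueFieldMap x).hom.toAlgebra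
      Algebra.trdeg (S.residueField (f x)) (X.residueField x) = n) :
    ∃ z : X, x ⤳ z ∧ f z = f x ∧ (n : WithBot ℕ∞) ≤ ringKrullDim (X.presheaf.stalk z) := by
  obtain ⟨V, hV, hfxV⟩ : ∃ V : S.Opens, IsAffineOpen V ∧ f x ∈ V := by
    obtain ⟨_, ⟨V, hV, rfl⟩, hxV, -⟩ := S.isBasis_affineOpens.exists_subset_of_mem_open
      (Set.mem_univ (f x)) isOpen_univ
    exact ⟨V, hV, hxV⟩
  obtain ⟨U, hU, hx, e⟩ : ∃ U : X.Opens, IsAffineOpen U ∧ x ∈ U ∧ U ≤ f ⁻¹ᵁ V := by
    obtain ⟨_, ⟨U, hU, rfl⟩, hxU, hUV⟩ := X.isBasis_affineOpens.exists_subset_of_mem_open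
      (show x ∈ ((f ⁻¹ᵁ V : X.Opens) : Set X) from hfxV) (f ⁻¹ᵁ V).isOpen
    exact ⟨U, hU, hxU, hUV⟩
  letI alg := (f.appLE V U e).hom.toAlgebra
  haveI : Algebra.FiniteType Γ(S, V) Γ(X, U) := f.finiteType_appLE hV hU e
  have hn' := hn
  rw [trdeg_residueField_eq f hU hV e x hx] at hn'
  obtain ⟨Q, hQ, hPQ, hund, hht⟩ := exists_prime_over (hU.primeIdealOf ⟨x, hx⟩).asIdeal n hn'
  let P : Spec Γ(X, U) := ⟨Q, hQ⟩
  have hzU : hU.fromSpec P ∈ U := by
    have : hU.fromSpec P ∈ Set.range hU.fromSpec := Set.mem_range_self P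
    rwa [hU.range_fromSpec] at this
  have hP : hU.primeIdealOf ⟨hU.fromSpec P, hzU⟩ = P :=
    hU.fromSpec.isOpenEmbedding.injective (hU.fromSpec_primeIdealOf ⟨_, hzU⟩)
  refine ⟨hU.fromSpec P, ?_, ?_, ?_⟩
  · have h1 : hU.primeIdealOf ⟨x, hx⟩ ⤳ P := (PrimeSpectrum.le_iff_specializes _ P).mp hPQ
    have h2 := h1.map hU.fromSpec.continuous
    rwa [hU.fromSpec_primeIdealOf ⟨x, hx⟩] at h2
  · have h1 : (hU.primeIdealOf ⟨x, hx⟩).asIdeal.under Γ(S, V) =
        (hV.primeIdealOf ⟨f x, e hx⟩).asIdeal :=
      congrArg PrimeSpectrum.asIdeal (IsAffineOpen.comap_primeIdealOf_appLE V hV U hU e hx)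
    have h2 : (hU.primeIdealOf ⟨hU.fromSpec P, hzU⟩).asIdeal.under Γ(S, V) =
        (hV.primeIdealOf ⟨f (hU.fromSpec P), e hzU⟩).asIdeal :=
      congrArg PrimeSpectrum.asIdeal (IsAffineOpen.comap_primeIdealOf_appLE V hV U hU e hzU)
    rw [hP] at h2
    have h3 : hV.primeIdealOf ⟨f (hU.fromSpec P), e hzU⟩ = hV.primeIdealOf ⟨f x, e hx⟩ := by
      apply PrimeSpectrum.ext
      rw [← h2, ← h1]
      exact hund
    have h4 := congrArg hV.fromSpec h3
    rwa [hV.fromSpec_primeIdealOf ⟨_, e hzU⟩, hV.fromSpec_primeIdealOf ⟨_, e hx⟩] at h4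
  · have hdimX : ringKrullDim (X.presheaf.stalk (hU.fromSpec P)) = Q.height := by
      letI := X.presheaf.algebra_section_stalk ⟨hU.fromSpec P, hzU⟩
      haveI := hU.isLocalization_stalk ⟨hU.fromSpec P, hzU⟩
      rw [hP] at this
      exact IsLocalization.AtPrime.ringKrullDim_eq_height Q _
    rw [hdimX]
    exact_mod_cast hht

end Sch

section Top

variable {A B : Type*} [TopologicalSpace A] [TopologicalSpace B]

attribute [local instance] specializationPreorder

/-- A closed continuous map does not decrease heights in the specialization order: chains of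
specializations ending at `φ z` lift to chains ending at `z`. -/
theorem height_le_height_of_isClosedMap (φ : A → B) (hc : Continuous φ) (hcl : IsClosedMap φ)
    (z : A) : Order.height (φ z) ≤ Order.height z := by
  have key : ∀ m : ℕ, ∀ z : A, (m : ℕ∞) ≤ Order.height (φ z) → (m : ℕ∞) ≤ Order.height z := by
    intro m
    induction m with
    | zero => intro z _; exact bot_le
    | succ m ih =>
      intro z hz
      obtain ⟨p, hlast, hlen⟩ := Order.exists_series_of_le_height (φ z) hz
      let i : Fin (p.length + 1) := ⟨m, by omega⟩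
      have hi : i < Fin.last p.length := by
        rw [Fin.lt_def]
        change m < p.length
        omega
      have hy_lt : p i < φ z := by
        rw [← hlast]
        exact p.strictMono hi
      have hy_ht : (m : ℕ∞) ≤ Order.height (p i) := Order.index_le_height p i
      have h1 : p i ∈ closure {φ z} := specializes_iff_mem_closure.mp (le_of_lt hy_lt)
      have h2 : p i ∈ φ '' closure {z} := by
        apply hcl.closure_image_subset {z}
        rwa [Set.image_singleton]
      obtain ⟨z', hz', hfz'⟩ := h2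
      have hz'_le : z' ≤ z := specializes_iff_mem_closure.mpr hz'
      have hz'_lt : z' < z := by
        refine lt_of_le_not_ge hz'_le (fun h => ?_)
        have h3 : φ z ≤ φ z' := Specializes.map h hc
        rw [hfz'] at h3
        exact (not_le_of_gt hy_lt) h3
      have h4 : (m : ℕ∞) ≤ Order.height z' := ih z' (by rw [hfz']; exact hy_ht)
      calc ((m + 1 : ℕ) : ℕ∞) = (m : ℕ∞) + 1 := by push_cast; rfl
        _ ≤ Order.height z' + 1 := by gcongr
        _ ≤ Order.height z := Order.height_add_one_le hz'_lt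
  exact ENat.forall_natCast_le_iff_le.mp (fun m hm => key m z hm)

end Top

end Groth.Agent.Lib.GenericFibrePoint
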