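import Groth.Agent.Lib.H72PullbackStalk
import Mathlib.AlgebraicGeometry.FunctionField
import Mathlib.AlgebraicGeometry.Morphisms.UnderlyingMap
import Mathlib.LinearAlgebra.Dimension.Constructions

/-!
# Rank of a pullback at the generic point
-/

set_option autoImplicit false
universe u

open CategoryTheory CategoryTheory.Limits AlgebraicGeometry TopologicalSpace Opposite

namespace Groth.Agent.Lib.GenericRankPullback

open Groth.Agent.Lib.H72PullbackStalk

variable {X Y : Scheme.{u}}

/-- A dominant morphism of irreducible schemes sends the generic point to the generic point. -/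
theorem map_genericPoint_of_isDominant [IrreducibleSpace X] [IrreducibleSpace Y] (f : X ⟶ Y)
    [IsDominant f] : f (genericPoint X) = genericPoint Y := by
  have h := (genericPoint_spec X).image f.continuous
  rw [Set.image_univ, f.denseRange.closure_range] at h
  exact h.eq (genericPoint_spec Y)

/-- Rank of the stalk of a pullback, when the stalk downstairs is free. -/
theorem rank_stalk_pullback (f : X ⟶ Y) (G : Y.Modules) [G.IsQuasicoherent] (x : X)
    [Module.Free (Y.presheaf.stalk (f x)) (G.presheaf.stalk (f x))] :
    Module.rank (X.presheaf.stalk x) (((Scheme.Modules.pullback f).obj G).presheaf.stalk x) =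
      Module.rank (Y.presheaf.stalk (f x)) (G.presheaf.stalk (f x)) := by
  letI : Algebra (Y.presheaf.stalk (f x)) (X.presheaf.stalk x) := (f.stalkMap x).hom.toAlgebra
  letI : Module (Y.presheaf.stalk (f x))
      (((Scheme.Modules.pullback f).obj G).presheaf.stalk x) :=
    Module.compHom _ (f.stalkMap x).hom
  haveI : IsScalarTower (Y.presheaf.stalk (f x)) (X.presheaf.stalk x)
      (((Scheme.Modules.pullback f).obj G).presheaf.stalk x) :=
    .of_algebraMap_smul fun _ _ => rfl
  obtain ⟨τ, hτ⟩ := exists_isBaseChange_stalk_pullback f G x
  rw [← hτ.equiv.rank_eq, Module.rank_baseChange, Cardinal.lift_id]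

theorem rank_eq_of_eq (G : Y.Modules) {y y' : Y} (h : y = y') :
    Module.rank (Y.presheaf.stalk y) (G.presheaf.stalk y) =
      Module.rank (Y.presheaf.stalk y') (G.presheaf.stalk y') := by
  subst h; rfl

theorem free_of_eq (G : Y.Modules) {y y' : Y} (h : y = y')
    (hf : Module.Free (Y.presheaf.stalk y') (G.presheaf.stalk y')) :
    Module.Free (Y.presheaf.stalk y) (G.presheaf.stalk y) := by
  subst h; exact hf

/-- The generic rank of the pullback of a quasi-coherent module along a dominant morphism of
integral schemes is the generic rank of the module. -/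
theorem rank_genericPoint_pullback [IsIntegral X] [IsIntegral Y] (f : X ⟶ Y) [IsDominant f]
    (G : Y.Modules) [G.IsQuasicoherent] :
    Module.rank ↑(X.presheaf.stalk (genericPoint ↥X))
        ↑(((Scheme.Modules.pullback f).obj G).presheaf.stalk (genericPoint ↥X)) =
      Module.rank ↑(Y.presheaf.stalk (genericPoint ↥Y)) ↑(G.presheaf.stalk (genericPoint ↥Y)) := by
  have hη := map_genericPoint_of_isDominant f
  let _ : Field (Y.presheaf.stalk (genericPoint Y)) := inferInstanceAs (Field Y.functionField)
  have hfree : Module.Free (Y.presheaf.stalk (genericPoint Y))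
      (G.presheaf.stalk (genericPoint Y)) := Module.Free.of_divisionRing _ _
  have := free_of_eq G hη hfree
  rw [rank_stalk_pullback f G (genericPoint X)]
  exact rank_eq_of_eq G hη

end Groth.Agent.Lib.GenericRankPullback
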