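import Groth.Agent.Lib.H71GeomRedAt
import Mathlib.AlgebraicGeometry.Geometrically.Reduced

/-!
# Geometric reducedness at points, II (helper71)

* `geometricallyReduced_of_forall_isGeomReducedAt` / `isGeomReducedAt_of_geometricallyReduced`:
  `X ⟶ Spec k` is geometrically reduced iff `X` is geometrically reduced at every point.
* `isReduced_stalk_tensor_of_isReduced_bc`: if `X_{k'}` is reduced then `𝒪_{X,x} ⊗[k] k'` is reduced.
-/

set_option autoImplicit false
universe u

open CategoryTheory CategoryTheory.Limits AlgebraicGeometry TensorProduct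

namespace Groth.Agent.Lib.H71GeomRedAt

section

variable (k : Type u) [Field k] (X : Scheme.{u}) [X.Over (Spec (CommRingCat.of k))]

attribute [local instance] Curv2.stalkAlgebra

theorem geometricallyReduced_of_forall_isGeomReducedAt
    (h : ∀ x : X, Curv2.IsGeomReducedAt k X x) :
    GeometricallyReduced (X ↘ Spec (CommRingCat.of k)) := by
  refine ⟨(geometrically_iff_of_commRing_of_isClosedUnderIsomorphisms ..).mpr fun K _ _ => ?_⟩
  have : ∀ x' : ↥(Curv2.bc k X K), _root_.IsReduced ((Curv2.bc k X K).presheaf.stalk x') :=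
    fun x' => h (Curv2.bcFst k X K x') K x' rfl
  exact isReduced_of_isReduced_stalk (Curv2.bc k X K)

theorem isGeomReducedAt_of_geometricallyReduced
    [hf : GeometricallyReduced (X ↘ Spec (CommRingCat.of k))] (x : X) :
    Curv2.IsGeomReducedAt k X x := by
  intro k' _ _ x' _
  have h1 := (geometrically_iff_of_commRing_of_isClosedUnderIsomorphisms ..).mp
    hf.geometrically_isReduced k'
  have : IsReduced (Curv2.bc k X k') := h1
  infer_instance

/-- If `X_{k'}` is reduced then so is `𝒪_{X,x} ⊗[k] k'`. -/
theorem isReduced_stalk_tensor_of_isReduced_bc (x : X) (k' : Type u) [Field k'] [Algebra k k']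
    [IsReduced (Curv2.bc k X k')] : _root_.IsReduced (X.presheaf.stalk x ⊗[k] k') := by
  have : ∀ w : ↥(pullback (X.fromSpecStalk x) (Curv2.bcFst k X k')),
      _root_.IsReduced ((pullback (X.fromSpecStalk x) (Curv2.bcFst k X k')).presheaf.stalk w) := by
    intro w
    have hbij := bijective_stalkMap_snd (X.fromSpecStalk x) (Curv2.bcFst k X k') w
    exact isReduced_of_injective (RingEquiv.ofBijective _ hbij).symm.toRingHom
      (RingEquiv.ofBijective _ hbij).symm.injective
  have h1 : IsReduced (pullback (X.fromSpecStalk x) (Curv2.bcFst k X k')) :=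
    isReduced_of_isReduced_stalk _
  have h2 : IsReduced (Spec (CommRingCat.of (X.presheaf.stalk x ⊗[k] k'))) :=
    isReduced_of_isOpenImmersion (isoSpecTensor k X x k').inv
  exact (affine_isReduced_iff _).mp h2

/-- If the local ring at `x` is geometrically reduced, `X` is geometrically reduced at every generisation of `x`. -/
theorem isGeomReducedAt_of_specializes (x x' : X) (hsp : x' ⤳ x)
    [Algebra.IsGeometricallyReduced k (X.presheaf.stalk x)] : Curv2.IsGeomReducedAt k X x' := by
  intro k' _ _ y' hy'
  have h1 : IsReduced (k' ⊗[k] X.presheaf.stalk x) :=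
    Groth.Agent.Lib.GeomReducedFibres.isReduced_tensorProduct_of_isGeometricallyReduced k _ k'
  have h2 : IsReduced (X.presheaf.stalk x ⊗[k] k') :=
    isReduced_of_injective (Algebra.TensorProduct.comm k (X.presheaf.stalk x) k').toRingHom
      (Algebra.TensorProduct.comm k (X.presheaf.stalk x) k').injective
  haveI : _root_.IsReduced (CommRingCat.of (X.presheaf.stalk x ⊗[k] k')) := h2
  haveI : IsReduced (pullback (X.fromSpecStalk x) (Curv2.bcFst k X k')) :=
    isReduced_of_isOpenImmersion (isoSpecTensor k X x k').hom
  have hmem : x' ∈ Set.range (X.fromSpecStalk x) := by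
    rw [Scheme.range_fromSpecStalk]
    exact hsp
  obtain ⟨p, hp⟩ := hmem
  obtain ⟨w, hw1, hw2⟩ := Scheme.Pullback.exists_preimage_pullback
    (f := X.fromSpecStalk x) (g := Curv2.bcFst k X k') p y' (by rw [hp, hy'])
  subst hw2
  exact isReduced_of_injective _ (bijective_stalkMap_snd _ _ w).1

end

end Groth.Agent.Lib.H71GeomRedAt
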