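import Groth.Agent.Lib.MacLane4H44
import Groth.Agent.Lib.H71GeomRedAt2
import Groth.Agent.Lib.FibreStalk33
import Groth.Agent.Lib.GenericSmooth45

/-!
# Generic smoothness from a geometrically reduced generic fibre (helper45)

Uses helper44's MacLane criterion (formally smooth ↔ geometrically reduced for field extensions),
helper71's pointwise geometric reducedness and helper33's description of the stalks of a fibre.
-/

set_option autoImplicit false
universe u
open CategoryTheory CategoryTheory.Limits AlgebraicGeometry

namespace Groth.Agent.Lib.GenericSmoothSep45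

open Groth.Agent.Lib.FibreStalk33

variable {X Y : Scheme.{u}} (f : X ⟶ Y)

/-- If the fibre over `y` is geometrically reduced and its local ring at `z` is a field, then the
structure map `κ(y) ⟶ 𝒪_{X_y,z}` is formally smooth. -/
theorem resToStalk_formallySmooth (y : Y) (z : f.fiber y)
    (hsep : GeometricallyReduced (f.fiberToSpecResidueField y))
    (hfld : IsField ((f.fiber y).presheaf.stalk z)) :
    (resToStalk f y z).hom.FormallySmooth := by
  let _ : (f.fiber y).Over (Spec (CommRingCat.of (Y.residueField y))) :=
    ⟨f.fiberToSpecResidueField y⟩
  have hgr : GeometricallyReduced ((f.fiber y) ↘ Spec (CommRingCat.of (Y.residueField y))) := hsep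
  have h1 := Groth.Agent.Lib.H71GeomRedAt.isGeomReducedAt_of_geometricallyReduced
    (Y.residueField y) (f.fiber y) z
  have h2 := Groth.Agent.Lib.H71GeomRedAt.isGeometricallyReduced_of_isGeomReducedAt
    (Y.residueField y) (f.fiber y) z h1
  let _ := hfld.toField
  let _ := Curv2.stalkAlgebra (Y.residueField y) (f.fiber y) z
  have h3 : Algebra.FormallySmooth (Y.residueField y) ((f.fiber y).presheaf.stalk z) :=
    (Groth.Agent.Lib.MacLane4H44.formallySmooth_iff_isGeometricallyReduced
      (Y.residueField y) ((f.fiber y).presheaf.stalk z)).mpr h2
  have key : resToStalk f y z =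
      CommRingCat.ofHom (Curv2.stalkMap (Y.residueField y) (f.fiber y) z) := by
    apply Spec.map_injective
    rw [SpecMap_resToStalk, ← Groth.Agent.Lib.H71GeomRedAt.fromSpecStalk_comp]
    rfl
  rw [key]
  exact h3

/-- For a dominant morphism of integral schemes, locally of finite presentation, whose generic
fibre is geometrically reduced, the generic point of the source lies in the smooth locus. -/
theorem genericPoint_mem_smoothLocus [IsIntegral X] [IsIntegral Y] [IsDominant f]
    [LocallyOfFinitePresentation f]
    (hsep : GeometricallyReduced (f.fiberToSpecResidueField (f (genericPoint X)))) :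
    genericPoint X ∈ f.smoothLocus := by
  have hy : f (genericPoint X) = genericPoint Y :=
    Groth.Agent.Lib.GenericSmooth45.map_genericPoint_of_denseRange f f.denseRange
  have hz : f.fiberι (f (genericPoint X)) (f.asFiber (genericPoint X)) = genericPoint X :=
    f.fiberι_asFiber (genericPoint X)
  -- the relevant local rings are fields
  have hX : IsField (X.presheaf.stalk
      (f.fiberι (f (genericPoint X)) (f.asFiber (genericPoint X)))) := by
    rw [hz]
    exact Field.toIsField X.functionField
  have hY : IsField (Y.presheaf.stalk (f (genericPoint X))) := by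
    rw [hy]
    exact Field.toIsField Y.functionField
  have hbij : Function.Bijective
      ((f.fiberι (f (genericPoint X))).stalkMap (f.asFiber (genericPoint X))).hom := by
    refine ⟨?_, (f.fiberι (f (genericPoint X))).stalkMap_surjective _⟩
    let _ := hX.toField
    exact RingHom.injective _
  have hF : IsField ((f.fiber (f (genericPoint X))).presheaf.stalk
      (f.asFiber (genericPoint X))) :=
    (RingEquiv.ofBijective _ hbij).symm.toMulEquiv.isField hX
  have hres := resToStalk_formallySmooth f (f (genericPoint X)) (f.asFiber (genericPoint X))
    hsep hF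
  obtain ⟨h, e⟩ := exists_stalkMap_eq f (f (genericPoint X)) (f.asFiber (genericPoint X))
  have hiso1 : IsIso ((f.fiberι (f (genericPoint X))).stalkMap (f.asFiber (genericPoint X))) :=
    (ConcreteCategory.isIso_iff_bijective _).mpr hbij
  have hiso2 : IsIso (Y.residue (f (genericPoint X))) := by
    rw [ConcreteCategory.isIso_iff_bijective]
    refine ⟨?_, IsLocalRing.residue_surjective⟩
    let _ := hY.toField
    exact RingHom.injective (IsLocalRing.residue (Y.presheaf.stalk (f (genericPoint X))))
  have h4 : (f.stalkMap (f.fiberι (f (genericPoint X)) (f.asFiber (genericPoint X))) ≫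
      (f.fiberι (f (genericPoint X))).stalkMap (f.asFiber (genericPoint X))).hom.FormallySmooth := by
    rw [e, ← Category.assoc]
    exact (RingHom.FormallySmooth.respectsIso.cancel_left_isIso _ _).mpr hres
  have h5 : (f.stalkMap (f.fiberι (f (genericPoint X))
      (f.asFiber (genericPoint X)))).hom.FormallySmooth :=
    (RingHom.FormallySmooth.respectsIso.cancel_right_isIso _
      ((f.fiberι (f (genericPoint X))).stalkMap (f.asFiber (genericPoint X)))).mp h4
  have h6 : f.fiberι (f (genericPoint X)) (f.asFiber (genericPoint X)) ∈ f.smoothLocus :=
    Scheme.Hom.mem_smoothLocus.mpr h5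
  rwa [hz] at h6

/-- The smooth locus is dense. -/
theorem dense_smoothLocus [IsIntegral X] [IsIntegral Y] [IsDominant f]
    [LocallyOfFinitePresentation f]
    (hsep : GeometricallyReduced (f.fiberToSpecResidueField (f (genericPoint X)))) :
    Dense (f.smoothLocus : Set X) :=
  f.smoothLocus.isOpen.dense ⟨_, genericPoint_mem_smoothLocus f hsep⟩

end Groth.Agent.Lib.GenericSmoothSep45
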