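import Mathlib.AlgebraicGeometry.Noetherian
import Mathlib.AlgebraicGeometry.Stalk
import Mathlib.AlgebraicGeometry.Morphisms.Flat
import Mathlib.AlgebraicGeometry.Morphisms.UniversallyOpen
import Mathlib.AlgebraicGeometry.Morphisms.Preimmersion
import Mathlib.RingTheory.HopkinsLevitzki
import Mathlib.RingTheory.KrullDimension.Basic

/-!
# Stalks at generic points of irreducible Noetherian schemes (helper45)
-/

set_option autoImplicit false
universe u

namespace Groth.Agent.Lib.GenericStalk45

open AlgebraicGeometry CategoryTheory

/-- The spectrum of the local ring at the generic point of an irreducible scheme is a point. -/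
theorem eq_of_stalk_genericPoint (X : Scheme.{u}) [IrreducibleSpace ↥X]
    (p q : Spec (X.presheaf.stalk (genericPoint X))) : p = q := by
  apply (X.fromSpecStalk (genericPoint X)).isEmbedding.injective
  have hp : X.fromSpecStalk (genericPoint X) p ⤳ genericPoint X := by
    have := Set.mem_range_self (f := X.fromSpecStalk (genericPoint X)) p
    rwa [Scheme.range_fromSpecStalk] at this
  have hq : X.fromSpecStalk (genericPoint X) q ⤳ genericPoint X := by
    have := Set.mem_range_self (f := X.fromSpecStalk (genericPoint X)) q
    rwa [Scheme.range_fromSpecStalk] at this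
  exact ((hp.antisymm (genericPoint_specializes _)).trans
    (hq.antisymm (genericPoint_specializes _)).symm).eq

/-- The local ring at the generic point of an irreducible scheme has Krull dimension `0`. -/
theorem krullDimLE_zero_stalk_genericPoint (X : Scheme.{u}) [IrreducibleSpace ↥X] :
    Ring.KrullDimLE 0 (X.presheaf.stalk (genericPoint X)) := by
  rw [Ring.krullDimLE_zero_iff]
  intro I hI
  obtain ⟨M, hM, hIM⟩ := Ideal.exists_le_maximal I hI.ne_top
  have := eq_of_stalk_genericPoint X ⟨I, hI⟩ ⟨M, hM.isPrime⟩
  have hIM' : I = M := congrArg PrimeSpectrum.asIdeal this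
  rw [hIM']
  exact hM

/-- The local ring at the generic point of an irreducible locally Noetherian scheme is Artinian. -/
theorem isArtinianRing_stalk_genericPoint (X : Scheme.{u}) [IrreducibleSpace ↥X]
    [IsLocallyNoetherian X] : IsArtinianRing (X.presheaf.stalk (genericPoint X)) := by
  have := krullDimLE_zero_stalk_genericPoint X
  exact isArtinianRing_iff_krullDimLE_zero.mpr this

/-- A flat morphism of irreducible schemes maps the generic point to the generic point. -/
theorem map_genericPoint_of_flat {X Y : Scheme.{u}} (f : X ⟶ Y) [IrreducibleSpace ↥X]
    [IrreducibleSpace ↥Y] [Flat f] : f (genericPoint X) = genericPoint Y := by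
  obtain ⟨x', hx', hfx'⟩ := Flat.generalizingMap f (genericPoint_specializes (f (genericPoint X)))
  have : x' = genericPoint X := (hx'.antisymm (genericPoint_specializes _)).eq
  rw [← hfx', this]

end Groth.Agent.Lib.GenericStalk45
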