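import Groth.Agent.Lib.DescendMor45
import Groth.Prelude.Def_W4bk4git07Quot
import Mathlib.AlgebraicGeometry.PullbackCarrier

/-!
# A geometric quotient is a categorical quotient (helper45)

Mumford GIT Prop. 0.1, in the vocabulary of `Def_W4bk4git07Quot`.
-/

set_option autoImplicit false
universe u
open CategoryTheory CategoryTheory.Limits MonoidalCategory CartesianMonoidalCategory MonObj GrpObj
  AlgebraicGeometry Topology

namespace Groth.Agent.Lib.GeomCatQuot45

variable {S : Scheme.{u}} {G X Y : Over S} [GrpObj G] {a : AlgGrp.Action G X} {φ : X ⟶ Y}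

lemma appLE_congr_hom {X Y : Scheme.{u}} {f f' : X ⟶ Y} (h : f = f') (U : Y.Opens) (V : X.Opens)
    (e : V ≤ f ⁻¹ᵁ U) : f.appLE U V e = f'.appLE U V (h ▸ e) := by
  subst h; rfl

lemma isQuotientMap (h : GIT.IsGeomQuot a φ) : IsQuotientMap φ.left :=
  h.subm (𝟙 _) (𝟙 _) φ.left (IsPullback.of_id_snd)

lemma surjective (h : GIT.IsGeomQuot a φ) : Surjective φ.left := ⟨h.surj⟩

lemma epi_left (h : GIT.IsGeomQuot a φ) : Epi φ.left := by
  have := surjective h
  exact Groth.Agent.S2913.result φ.left (fun U => (h.sections U).1)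

/-- Points with the same image under a geometric quotient are identified by every invariant
morphism. -/
lemma eq_of_invariant (h : GIT.IsGeomQuot a φ) {Z : Over S} (ψ : X ⟶ Z)
    (hψ : GIT.IsInvariant a ψ) (x x' : X.left) (hx : φ.left x = φ.left x') :
    ψ.left x = ψ.left x' := by
  obtain ⟨w, hw1, hw2⟩ := Scheme.Pullback.exists_preimage_pullback (f := φ.left) (g := φ.left)
    x x' hx
  obtain ⟨p, hp⟩ := h.orbit w
  have h1 : a.act.left p = x := by
    rw [← hw1, ← hp]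
    change _ = (GIT.PsiY a φ h.inv ≫ pullback.fst φ.left φ.left) p
    rw [GIT.PsiY, pullback.lift_fst]
  have h2 : (snd G X).left p = x' := by
    rw [← hw2, ← hp]
    change _ = (GIT.PsiY a φ h.inv ≫ pullback.snd φ.left φ.left) p
    rw [GIT.PsiY, pullback.lift_snd]
  have h3 : (a.act.left ≫ ψ.left) p = ((snd G X).left ≫ ψ.left) p := by rw [hψ.left]
  rw [← h1, ← h2]
  exact h3

theorem isCatQuot_of_isGeomQuot (h : GIT.IsGeomQuot a φ) : GIT.IsCatQuot a φ := by
  refine ⟨h.inv, fun Z ψ hψ => ?_⟩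
  have hepi := epi_left h
  obtain ⟨χ, hχ⟩ := Groth.Agent.Lib.DescendMor45.exists_descend φ.left ψ.left (isQuotientMap h)
    (fun U => (h.sections U).1) (eq_of_invariant h ψ hψ) (by
      intro U W e s
      have hr := (h.sections U).2
      have : (ψ.left.appLE W (φ.left ⁻¹ᵁ U) e).hom s ∈ {f | GIT.IsInvSection a φ U f} := by
        change GIT.IsInvSection a φ U _
        unfold GIT.IsInvSection
        have e1 : a.act.left ⁻¹ᵁ (φ.left ⁻¹ᵁ U) ⊓ (snd G X).left ⁻¹ᵁ (φ.left ⁻¹ᵁ U) ≤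
            (a.act.left ≫ ψ.left) ⁻¹ᵁ W := by
          intro p hp
          exact e hp.1
        have e2 : a.act.left ⁻¹ᵁ (φ.left ⁻¹ᵁ U) ⊓ (snd G X).left ⁻¹ᵁ (φ.left ⁻¹ᵁ U) ≤
            ((snd G X).left ≫ ψ.left) ⁻¹ᵁ W := by
          intro p hp
          exact e hp.2
        have c1 : ψ.left.appLE W (φ.left ⁻¹ᵁ U) e ≫ a.act.left.appLE (φ.left ⁻¹ᵁ U)
            (a.act.left ⁻¹ᵁ (φ.left ⁻¹ᵁ U) ⊓ (snd G X).left ⁻¹ᵁ (φ.left ⁻¹ᵁ U)) inf_le_left =
            (a.act.left ≫ ψ.left).appLE W _ e1 := Scheme.Hom.appLE_comp_appLE _ _ _ _ _ _ _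
        have c2 : ψ.left.appLE W (φ.left ⁻¹ᵁ U) e ≫ (snd G X).left.appLE (φ.left ⁻¹ᵁ U)
            (a.act.left ⁻¹ᵁ (φ.left ⁻¹ᵁ U) ⊓ (snd G X).left ⁻¹ᵁ (φ.left ⁻¹ᵁ U)) inf_le_right =
            ((snd G X).left ≫ ψ.left).appLE W _ e2 := Scheme.Hom.appLE_comp_appLE _ _ _ _ _ _ _
        have c3 := appLE_congr_hom hψ.left W _ e1
        have l1 := congrArg (fun m => m.hom s) c1
        have l2 := congrArg (fun m => m.hom s) c2
        have l3 := congrArg (fun m => m.hom s) c3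
        simp only [CommRingCat.hom_comp, RingHom.comp_apply] at l1 l2 l3
        rw [l1, l2, l3]
      rw [← hr] at this
      exact this)
  have hχ' : χ ≫ Z.hom = Y.hom := by
    rw [← cancel_epi φ.left, ← Category.assoc, hχ, Over.w, Over.w]
  refine ⟨Over.homMk χ hχ', Over.OverMorphism.ext hχ, fun χ' hχ'' => ?_⟩
  apply Over.OverMorphism.ext
  rw [← cancel_epi φ.left]
  change φ.left ≫ χ'.left = φ.left ≫ χ
  rw [hχ, ← Over.comp_left, hχ'']

theorem isUnivCatQuot_of_isUnivGeomQuot (h : GIT.IsUnivGeomQuot a φ) : GIT.IsUnivCatQuot a φ :=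
  ⟨isCatQuot_of_isGeomQuot h.1, fun _ _ pr φ' g hg hpb a' ha' hinv =>
    isCatQuot_of_isGeomQuot (h.2 pr φ' g hg hpb a' ha' hinv)⟩

end Groth.Agent.Lib.GeomCatQuot45
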