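import Groth.Agent.Lib.GenConn5A
import Groth.Prelude.Def_EGA43
import Groth.Prelude.Def_MoreMor

/-!
# Lower semicontinuity of the geometric number of connected components (helper5), part A

`DistinctPts h z n`: there are `n` pairwise distinct points of `T` with values in a common field
lying over one field-valued point of `Y` with image `z`.

`exists_nhds_distinctPts`: if `h : T ⟶ Y` is separated and universally open at all points over `y`,
then `DistinctPts h y n` spreads to a neighbourhood of `y` (induction on `n` through
`(T ×_Y T) ∖ Δ ⟶ T`).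
-/

set_option autoImplicit false
universe u

open CategoryTheory CategoryTheory.Limits AlgebraicGeometry TopologicalSpace Opposite

namespace Groth.Agent.Lib.GeomCompLSC5

section OpenAt

variable {α β γ : Type*} [TopologicalSpace α] [TopologicalSpace β] [TopologicalSpace γ]

theorem isOpenAt_comp {f : α → β} {g : β → γ} {x : α} (hf : EGA43.IsOpenAt f x)
    (hg : EGA43.IsOpenAt g (f x)) : EGA43.IsOpenAt (g ∘ f) x := by
  intro U hU
  rw [Set.image_comp]
  exact hg _ (hf U hU)

theorem isOpenAt_of_isOpenMap {f : α → β} (hf : IsOpenMap f) (x : α) : EGA43.IsOpenAt f x :=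
  fun U hU => hf.image_mem_nhds hU

end OpenAt

section UnivOpenAt

variable {T Y : Scheme.{u}} (h : T ⟶ Y)

/-- A morphism universally open at `x` is open at `x`. -/
theorem isOpenAt_of_isUnivOpenAt {x : T} (hx : EGA43.IsUnivOpenAt h x) :
    EGA43.IsOpenAt h.base x := by
  -- base change along the identity
  have hiso : IsIso (pullback.fst h (𝟙 Y)) := inferInstance
  obtain ⟨x', hx'⟩ : ∃ x' : ↥(pullback h (𝟙 Y)), (pullback.fst h (𝟙 Y)).base x' = x :=
    ⟨(inv (pullback.fst h (𝟙 Y))).base x, by
      rw [← Scheme.Hom.comp_apply, IsIso.inv_hom_id]; rfl⟩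
  have h1 := hx Y (𝟙 Y) x' hx'
  intro U hU
  have hU' : (pullback.fst h (𝟙 Y)).base ⁻¹' U ∈ nhds x' :=
    (pullback.fst h (𝟙 Y)).continuous.continuousAt.preimage_mem_nhds (by rw [hx']; exact hU)
  have h2 := h1 _ hU'
  have hcond : (pullback.snd h (𝟙 Y)).base = h.base ∘ (pullback.fst h (𝟙 Y)).base := by
    have := pullback.condition (f := h) (g := 𝟙 Y)
    rw [Category.comp_id] at this
    rw [← this]
    rfl
  rw [hcond] at h2
  rw [Function.comp_apply, hx', Set.image_comp] at h2
  refine Filter.mem_of_superset h2 ?_
  exact Set.image_mono (Set.image_preimage_subset _ _)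

/-- Universal openness at a point passes to base changes. -/
theorem isUnivOpenAt_snd {Y₁ : Scheme.{u}} (g : Y₁ ⟶ Y) (x' : ↥(pullback h g))
    (hx : EGA43.IsUnivOpenAt h ((pullback.fst h g).base x')) :
    EGA43.IsUnivOpenAt (pullback.snd h g) x' := by
  intro Y₂ g₂ x'' hx''
  let e := pullbackLeftPullbackSndIso h g g₂
  have he1 : e.hom ≫ pullback.snd h (g₂ ≫ g) = pullback.snd (pullback.snd h g) g₂ :=
    pullbackLeftPullbackSndIso_hom_snd h g g₂
  have he2 : e.hom ≫ pullback.fst h (g₂ ≫ g) =
      pullback.fst (pullback.snd h g) g₂ ≫ pullback.fst h g :=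
    pullbackLeftPullbackSndIso_hom_fst h g g₂
  have h1 : (pullback.fst h (g₂ ≫ g)).base (e.hom.base x'') = (pullback.fst h g).base x' := by
    rw [← Scheme.Hom.comp_apply, he2, Scheme.Hom.comp_apply, hx'']
  have h2 := hx Y₂ (g₂ ≫ g) (e.hom.base x'') h1
  have h3 : EGA43.IsOpenAt e.hom.base x'' :=
    isOpenAt_of_isOpenMap e.hom.homeomorph.isOpenMap x''
  have h4 := isOpenAt_comp h3 h2
  have h5 : (pullback.snd (pullback.snd h g) g₂).base =
      (pullback.snd h (g₂ ≫ g)).base ∘ e.hom.base := by
    rw [← he1]; rfl
  rw [h5]
  exact h4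

/-- Universal openness at a point passes to open subschemes of the source. -/
theorem isUnivOpenAt_comp_of_isOpenImmersion {T' : Scheme.{u}} (j : T' ⟶ T) [IsOpenImmersion j]
    (t' : T') (hx : EGA43.IsUnivOpenAt h (j.base t')) : EGA43.IsUnivOpenAt (j ≫ h) t' := by
  intro Y₂ g₂ x'' hx''
  let e := pullbackRightPullbackFstIso h g₂ j
  have he1 : e.inv ≫ pullback.snd j (pullback.fst h g₂) ≫ pullback.snd h g₂ =
      pullback.snd (j ≫ h) g₂ := by
    rw [Iso.inv_comp_eq]
    simp [e]
  have he2 : e.inv ≫ pullback.snd j (pullback.fst h g₂) ≫ pullback.fst h g₂ =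
      pullback.fst (j ≫ h) g₂ ≫ j := by
    rw [← pullback.condition, Iso.inv_comp_eq]
    simp [e]
  let q : pullback (j ≫ h) g₂ ⟶ pullback h g₂ := e.inv ≫ pullback.snd j (pullback.fst h g₂)
  haveI : IsOpenImmersion q := inferInstance
  have h1 : (pullback.fst h g₂).base (q.base x'') = j.base t' := by
    rw [← Scheme.Hom.comp_apply]
    change ((e.inv ≫ pullback.snd j (pullback.fst h g₂)) ≫ pullback.fst h g₂).base x'' = _
    rw [Category.assoc, he2, Scheme.Hom.comp_apply, hx'']
  have h2 := hx Y₂ g₂ (q.base x'') h1
  have h3 : EGA43.IsOpenAt q.base x'' := isOpenAt_of_isOpenMap q.isOpenEmbedding.isOpenMap x''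
  have h4 := isOpenAt_comp h3 h2
  have h5 : (pullback.snd (j ≫ h) g₂).base = (pullback.snd h g₂).base ∘ q.base := by
    rw [← he1]; rfl
  rw [h5]
  exact h4

end UnivOpenAt

section Diag

variable {T Y : Scheme.{u}} (h : T ⟶ Y)

set_option backward.isDefEq.respectTransparency.types false in
/-- Two field-valued points of `T` with the same image in `Y` agree as soon as the induced point
of `T ×_Y T` lies on the diagonal. -/
theorem eq_of_lift_mem_range_diagonal [IsSeparated h] (L : Type u) [Field L]
    (a b : Spec (CommRingCat.of L) ⟶ T) (hab : a ≫ h = b ≫ h)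
    (hmem : (pullback.lift a b hab).base (IsLocalRing.closedPoint L) ∈
      Set.range (pullback.diagonal h).base) : a = b := by
  set w := pullback.lift a b hab with hw
  obtain ⟨t₀, ht₀⟩ := hmem
  obtain ⟨e, -, -⟩ := Scheme.Pullback.exists_preimage_pullback
    (f := pullback.diagonal h) (g := w) t₀ (IsLocalRing.closedPoint L) ht₀
  haveI : Nonempty ↥(pullback (pullback.diagonal h) w) := ⟨e⟩
  haveI : Surjective (pullback.snd (pullback.diagonal h) w) :=
    Groth.Agent.Lib.GenConn5.surjective_of_field_target L _
  haveI : IsIso (pullback.snd (pullback.diagonal h) w) :=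
    isIso_of_isClosedImmersion_of_surjective _
  have h1 : w = inv (pullback.snd (pullback.diagonal h) w) ≫
      pullback.fst (pullback.diagonal h) w ≫ pullback.diagonal h := by
    rw [pullback.condition, IsIso.inv_hom_id_assoc]
  have ha : a = w ≫ pullback.fst h h := (pullback.lift_fst _ _ _).symm
  have hb : b = w ≫ pullback.snd h h := (pullback.lift_snd _ _ _).symm
  rw [ha, hb, h1]
  simp only [Category.assoc, pullback.diagonal_fst, pullback.diagonal_snd]

/-- The complement of the diagonal in `T ×_Y T`. -/
noncomputable def offDiag [IsSeparated h] : (pullback h h).Opens :=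
  ⟨(Set.range (pullback.diagonal h).base)ᶜ,
    (pullback.diagonal h).isClosedEmbedding.isClosed_range.isOpen_compl⟩

end Diag

section Distinct

/-- There are `n` pairwise distinct points of `T` with values in a common field `L`, lying over one
`L`-valued point of `Y` with image `z`. -/
def DistinctPts {T Y : Scheme.{u}} (h : T ⟶ Y) (z : Y) (n : ℕ) : Prop :=
  ∃ (L : Type u) (_ : Field L) (c : Spec (CommRingCat.of L) ⟶ Y),
    c.base (IsLocalRing.closedPoint L) = z ∧
    ∃ s : Fin n → (Spec (CommRingCat.of L) ⟶ T), (∀ i, s i ≫ h = c) ∧ Function.Injective s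

theorem distinctPts_zero {T Y : Scheme.{u}} (h : T ⟶ Y) (z : Y) : DistinctPts h z 0 :=
  ⟨Y.residueField z, inferInstance, Y.fromSpecResidueField z,
    Scheme.fromSpecResidueField_apply _ _, Fin.elim0, fun i => i.elim0, fun i => i.elim0⟩

set_option backward.isDefEq.respectTransparency.types false in
/-- **Spreading out distinct points.** If `h` is separated and universally open at all points over
`y`, then `n` distinct geometric points over `y` spread out to a neighbourhood of `y`. -/
theorem exists_nhds_distinctPts (n : ℕ) : ∀ {T Y : Scheme.{u}} (h : T ⟶ Y) [IsSeparated h] (y : Y),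
    (∀ t : T, h.base t = y → EGA43.IsUnivOpenAt h t) → DistinctPts h y n →
    ∃ V ∈ nhds y, ∀ z ∈ V, DistinctPts h z n := by
  induction n with
  | zero =>
    intro T Y h _ y _ _
    exact ⟨Set.univ, Filter.univ_mem, fun z _ => distinctPts_zero h z⟩
  | succ n ih =>
    intro T Y h _ y hopen hd
    obtain ⟨L, _, c, hc, s, hs, hinj⟩ := hd
    set t : T := (s 0).base (IsLocalRing.closedPoint L) with ht
    have hty : h.base t = y := by
      rw [ht, ← Scheme.Hom.comp_apply, hs 0, hc]
    -- the off-diagonal part of `T ×_Y T`, over `T` via the second projection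
    let W := offDiag h
    let h' : W.toScheme ⟶ T := W.ι ≫ pullback.snd h h
    -- the points `(s (i+1), s 0)`
    let w : Fin n → (Spec (CommRingCat.of L) ⟶ pullback h h) := fun i =>
      pullback.lift (s i.succ) (s 0) (by rw [hs, hs])
    have hwW : ∀ i, Set.range (w i).base ⊆ Set.range W.ι.base := by
      intro i
      rintro _ ⟨pt, rfl⟩
      have hpt : pt = IsLocalRing.closedPoint L := Subsingleton.elim (α := PrimeSpectrum L) _ _
      rw [Scheme.Opens.range_ι]
      change (w i).base pt ∈ (Set.range (pullback.diagonal h).base)ᶜ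
      intro hmem
      rw [hpt] at hmem
      have := eq_of_lift_mem_range_diagonal h L (s i.succ) (s 0) (by rw [hs, hs]) hmem
      exact Fin.succ_ne_zero i (hinj this)
    let s' : Fin n → (Spec (CommRingCat.of L) ⟶ W.toScheme) := fun i =>
      IsOpenImmersion.lift W.ι (w i) (hwW i)
    have hs'ι : ∀ i, s' i ≫ W.ι = w i := fun i => IsOpenImmersion.lift_fac _ _ _
    have hd' : DistinctPts h' t n := by
      refine ⟨L, inferInstance, s 0, rfl, s', fun i => ?_, fun i j hij => ?_⟩
      · change s' i ≫ W.ι ≫ pullback.snd h h = s 0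
        rw [← Category.assoc, hs'ι]
        exact pullback.lift_snd _ _ _
      · have h1 : w i = w j := by rw [← hs'ι, ← hs'ι, hij]
        have h2 : s i.succ = s j.succ := by
          have h3 : w i ≫ pullback.fst h h = s i.succ := pullback.lift_fst _ _ _
          have h4 : w j ≫ pullback.fst h h = s j.succ := pullback.lift_fst _ _ _
          rw [← h3, ← h4, h1]
        exact Fin.succ_injective _ (hinj h2)
    have hopen' : ∀ t' : W.toScheme, h'.base t' = t → EGA43.IsUnivOpenAt h' t' := by
      intro t' ht'
      apply isUnivOpenAt_comp_of_isOpenImmersion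
      apply isUnivOpenAt_snd
      apply hopen
      rw [← Scheme.Hom.comp_apply, pullback.condition, Scheme.Hom.comp_apply]
      have : (pullback.snd h h).base (W.ι.base t') = t := by
        rw [← ht']; rfl
      rw [this, hty]
    obtain ⟨V', hV', hV'd⟩ := ih h' t hopen' hd'
    refine ⟨h.base '' V', ?_, ?_⟩
    · have := isOpenAt_of_isUnivOpenAt h (hopen t hty) V' hV'
      rwa [hty] at this
    · rintro _ ⟨t'', ht'', rfl⟩
      obtain ⟨L', _, c'', hc'', s'', hs'', hinj''⟩ := hV'd t'' ht''
      refine ⟨L', inferInstance, c'' ≫ h, by rw [Scheme.Hom.comp_apply, hc''],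
        Fin.cons c'' (fun i => s'' i ≫ W.ι ≫ pullback.fst h h), ?_, ?_⟩
      · intro i
        refine Fin.cases ?_ (fun i => ?_) i
        · rfl
        · rw [Fin.cons_succ, Category.assoc, Category.assoc, pullback.condition]
          have : s'' i ≫ W.ι ≫ pullback.snd h h = c'' := hs'' i
          rw [← Category.assoc, ← Category.assoc, Category.assoc (s'' i), this]
      · rw [Fin.cons_injective_iff]
        constructor
        · rintro ⟨i, hi⟩
          -- then the point `s'' i` lies on the diagonal
          have hsnd : s'' i ≫ W.ι ≫ pullback.snd h h = c'' := hs'' i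
          have h1 : s'' i ≫ W.ι = c'' ≫ pullback.diagonal h := by
            apply pullback.hom_ext
            · simp only [Category.assoc, pullback.diagonal_fst, Category.comp_id]
              exact hi
            · simp only [Category.assoc, pullback.diagonal_snd, Category.comp_id]
              exact hsnd
          have h2 : W.ι.base ((s'' i).base (IsLocalRing.closedPoint L')) ∈
              Set.range (pullback.diagonal h).base := by
            rw [← Scheme.Hom.comp_apply, h1, Scheme.Hom.comp_apply]
            exact ⟨_, rfl⟩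
          have h3 : W.ι.base ((s'' i).base (IsLocalRing.closedPoint L')) ∈ (W : Set ↥(pullback h h)) := by
            rw [← Scheme.Opens.range_ι]
            exact ⟨_, rfl⟩
          exact h3 h2
        · intro i j hij
          apply hinj''
          rw [← cancel_mono W.ι]
          apply pullback.hom_ext
          · simpa only [Category.assoc] using hij
          · have hi : s'' i ≫ W.ι ≫ pullback.snd h h = c'' := hs'' i
            have hj : s'' j ≫ W.ι ≫ pullback.snd h h = c'' := hs'' j
            simp only [Category.assoc]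
            rw [hi, hj]

end Distinct

end Groth.Agent.Lib.GeomCompLSC5
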