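import Groth.Agent.Lib.GeomCompLSC5A
import Groth.Agent.Lib.NormBranchesH96
import Groth.Agent.Lib.H59GeomPoints

/-!
# Lower semicontinuity of the geometric number of connected components (helper5), part B

Finite schemes over a separably closed field: field-valued points over a fixed point of the base are
determined by their image point.
-/

set_option autoImplicit false
universe u

open CategoryTheory CategoryTheory.Limits AlgebraicGeometry TopologicalSpace Opposite

namespace Groth.Agent.Lib.GeomCompLSC5

section SepClosed

theorem isSepClosed_of_ringEquiv (k k' : Type*) [Field k] [Field k'] [IsSepClosed k]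
    (e : k ≃+* k') : IsSepClosed k' := by
  refine ⟨fun p hp => ?_⟩
  have h1 : (p.map (e.symm : k' →+* k)).Separable := hp.map
  have h2 := IsSepClosed.splits_of_separable _ h1
  have h3 := h2.map (e : k →+* k')
  rw [Polynomial.map_map] at h3
  have : (e : k →+* k').comp (e.symm : k' →+* k) = RingHom.id k' := by
    ext x; simp
  rw [this, Polynomial.map_id] at h3
  exact h3

/-- The residue fields of the spectrum of a separably closed field are separably closed. -/
theorem isSepClosed_residueField_spec (k : Type u) [Field k] [IsSepClosed k]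
    (q : ↥(Spec (CommRingCat.of k))) :
    IsSepClosed ((Spec (CommRingCat.of k)).residueField q) := by
  haveI : q.asIdeal.IsPrime := q.isPrime
  let e1 : k ≃+* q.asIdeal.ResidueField := (Ideal.algEquivResidueFieldOfField q.asIdeal).toRingEquiv
  let e2 : q.asIdeal.ResidueField ≃+* (Spec (CommRingCat.of k)).residueField q :=
    (Scheme.Spec.residueFieldIso (CommRingCat.of k) q).symm.commRingCatIsoToRingEquiv
  exact isSepClosed_of_ringEquiv k _ (e1.trans e2)

end SepClosed

section FiniteOverSepClosed

variable (K : Type u) [Field K] [IsSepClosed K] {Z : Scheme.{u}} (γ : Z ⟶ Spec (CommRingCat.of K))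
  [IsFinite γ]

/-- On a finite scheme over a separably closed field, the residue field extensions are purely
inseparable. -/
theorem isPurelyInseparable_residueFieldMap_of_isSepClosed (p : Z) :
    (γ.residueFieldMap p).hom.IsPurelyInseparable := by
  letI := (γ.residueFieldMap p).hom.toAlgebra
  haveI : IsSepClosed ((Spec (CommRingCat.of K)).residueField (γ.base p)) :=
    isSepClosed_residueField_spec K _
  haveI : Algebra.IsAlgebraic ((Spec (CommRingCat.of K)).residueField (γ.base p))
      (Z.residueField p) :=
    Groth.Agent.Lib.NormBranches96.isAlgebraic_residueFieldMap γ p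
  change IsPurelyInseparable ((Spec (CommRingCat.of K)).residueField (γ.base p)) (Z.residueField p)
  infer_instance

/-- Field-valued points of a finite scheme over a separably closed field, over a fixed point of
the base, are determined by their image point. -/
theorem eq_of_base_eq_of_isSepClosed (M : Type u) [Field M]
    (τ₁ τ₂ : Spec (CommRingCat.of M) ⟶ Z) (hcomp : τ₁ ≫ γ = τ₂ ≫ γ)
    (hpt : τ₁.base (IsLocalRing.closedPoint M) = τ₂.base (IsLocalRing.closedPoint M)) :
    τ₁ = τ₂ :=
  Groth.Agent.Lib.UnivOpenConn5.eq_of_comp_eq_of_isPurelyInseparable γ M τ₁ τ₂ hcomp hpt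
    (isPurelyInseparable_residueFieldMap_of_isSepClosed K γ _)

include γ in
omit [IsSepClosed K] in
theorem discreteTopology_of_isFinite_field : DiscreteTopology ↥Z := by
  rw [← isDiscrete_univ_iff]
  have h := γ.isDiscrete_preimage_singleton (IsLocalRing.closedPoint K)
  convert h using 1
  ext x
  simp only [Set.mem_preimage, Set.mem_univ, true_iff]
  exact Subsingleton.elim (α := PrimeSpectrum K) _ _

end FiniteOverSepClosed

section Count

variable {Y' Y : Scheme.{u}} (g : Y' ⟶ Y) [IsFinite g] (K : Type u) [Field K] [IsSepClosed K]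
  (c₁ : Spec (CommRingCat.of K) ⟶ Y)

set_option backward.isDefEq.respectTransparency.types false in
/-- **(2a)** `n` distinct geometric points over `z` give `n` points of the geometric fibre. -/
theorem le_card_of_distinctPts (n : ℕ)
    (hd : DistinctPts g (c₁.base (IsLocalRing.closedPoint K)) n) :
    (n : ℕ∞) ≤ ENat.card ↥(pullback g c₁) := by
  obtain ⟨L, _, c, hc, s, hs, hinj⟩ := hd
  -- a common extension of `L` and `K`
  obtain ⟨z', -, -⟩ := Scheme.Pullback.exists_preimage_pullback
    (f := c) (g := c₁) (IsLocalRing.closedPoint L) (IsLocalRing.closedPoint K) hc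
  let M : Type u := (pullback c c₁).residueField z'
  let φ : Spec (CommRingCat.of M) ⟶ pullback c c₁ := (pullback c c₁).fromSpecResidueField z'
  let d : Spec (CommRingCat.of M) ⟶ Spec (CommRingCat.of L) := φ ≫ pullback.fst c c₁
  let d₁ : Spec (CommRingCat.of M) ⟶ Spec (CommRingCat.of K) := φ ≫ pullback.snd c c₁
  have hd : d ≫ c = d₁ ≫ c₁ := by
    simp only [d, d₁, Category.assoc, pullback.condition]
  haveI : Surjective d := Groth.Agent.Lib.GenConn5.surjective_of_field_target L d
  haveI : Epi d := Flat.epi_of_flat_of_surjective d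
  let σ : Fin n → (Spec (CommRingCat.of M) ⟶ pullback g c₁) := fun i =>
    pullback.lift (d ≫ s i) d₁ (by rw [Category.assoc, hs, hd])
  have hσ : Function.Injective fun i => (σ i).base (IsLocalRing.closedPoint M) := by
    intro i j hij
    have h1 : σ i = σ j :=
      eq_of_base_eq_of_isSepClosed K (pullback.snd g c₁) M (σ i) (σ j)
        (by rw [pullback.lift_snd, pullback.lift_snd]) hij
    have h2 : d ≫ s i = d ≫ s j := by
      have hi : σ i ≫ pullback.fst g c₁ = d ≫ s i := pullback.lift_fst _ _ _
      have hj : σ j ≫ pullback.fst g c₁ = d ≫ s j := pullback.lift_fst _ _ _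
      rw [← hi, ← hj, h1]
    exact hinj ((cancel_epi d).mp h2)
  have := ENat.card_le_card_of_injective hσ
  rwa [ENat.card_eq_coe_fintype_card, Fintype.card_fin] at this

open Groth.Agent.Lib.H59GeomPoints in
set_option backward.isDefEq.respectTransparency.types false in
/-- Every point of a finite scheme over a field `K` is the image of a point with values in the
algebraic closure of `K`, over the canonical point of `Spec K`. -/
theorem exists_lift_algebraicClosure {Z : Scheme.{u}} (γ : Z ⟶ Spec (CommRingCat.of K)) [IsFinite γ]
    (p : Z) :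
    ∃ τ : Spec (CommRingCat.of (AlgebraicClosure K)) ⟶ Z,
      τ ≫ γ = Spec.map (CommRingCat.ofHom (algebraMap K (AlgebraicClosure K))) ∧
      τ.base (IsLocalRing.closedPoint (AlgebraicClosure K)) = p := by
  let δ : Spec (CommRingCat.of (AlgebraicClosure K)) ⟶ Spec (CommRingCat.of K) :=
    Spec.map (CommRingCat.ofHom (algebraMap K (AlgebraicClosure K)))
  let u : {u : Z // γ u = δ (IsLocalRing.closedPoint (AlgebraicClosure K))} :=
    ⟨p, Subsingleton.elim (α := PrimeSpectrum K) _ _⟩
  obtain ⟨ψ⟩ := nonempty_emb γ δ u (finite_residueFieldMap γ p)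
  let τ := (liftsEquiv γ δ).symm ⟨u, ψ⟩
  refine ⟨τ.1, τ.2, ?_⟩
  have h1 := liftsEquiv_fst γ δ τ
  rw [← h1]
  simp only [τ, Equiv.apply_symm_apply]
  rfl

set_option backward.isDefEq.respectTransparency.types false in
/-- **(2b)** `n` points of the geometric fibre give `n` distinct geometric points. -/
theorem distinctPts_of_le_card (n : ℕ) (h : (n : ℕ∞) ≤ ENat.card ↥(pullback g c₁)) :
    DistinctPts g (c₁.base (IsLocalRing.closedPoint K)) n := by
  -- `n` distinct points of the geometric fibre
  obtain ⟨e⟩ : Nonempty (Fin n ↪ ↥(pullback g c₁)) := by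
    rw [ENat.card, Cardinal.natCast_le_toENat] at h
    rw [← Cardinal.lift_mk_le', Cardinal.mk_fin, Cardinal.lift_natCast]
    simpa using h
  let Ω : Type u := AlgebraicClosure K
  let δ : Spec (CommRingCat.of Ω) ⟶ Spec (CommRingCat.of K) :=
    Spec.map (CommRingCat.ofHom (algebraMap K Ω))
  choose τ hτ1 hτ2 using fun i : Fin n => exists_lift_algebraicClosure K (pullback.snd g c₁) (e i)
  refine ⟨Ω, inferInstance, δ ≫ c₁, ?_, fun i => τ i ≫ pullback.fst g c₁, fun i => ?_, ?_⟩
  · rw [Scheme.Hom.comp_apply]
    congr 1
    exact Subsingleton.elim (α := PrimeSpectrum K) _ _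
  · rw [Category.assoc, pullback.condition, ← Category.assoc, hτ1]
  · intro i j hij
    have h1 : τ i = τ j := by
      apply pullback.hom_ext
      · exact hij
      · rw [hτ1, hτ1]
    apply e.injective
    rw [← hτ2 i, ← hτ2 j, h1]

end Count

end Groth.Agent.Lib.GeomCompLSC5
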