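import Groth.Agent.Lib.GeomCompLSC5B

/-!
# Lower semicontinuity of the geometric number of connected components (helper5), part C

Assembly: Stein factorisation, transfer of universal openness at points, and the theorem (S3415 in
hypothesis form).
-/

set_option autoImplicit false
universe u

open CategoryTheory CategoryTheory.Limits AlgebraicGeometry TopologicalSpace Opposite

namespace Groth.Agent.Lib.GeomCompLSC5

open Groth.Agent.Lib.ProperFinHyp Groth.Agent.Lib.ConnFib5

section Top

variable {A B : Type*} [TopologicalSpace A] [TopologicalSpace B]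

theorem card_connectedComponents_of_homeomorph (h : A ≃ₜ B) :
    ENat.card (ConnectedComponents A) = ENat.card (ConnectedComponents B) := by
  refine ENat.card_congr
    (h.isQuotientMap.isCoinducing.connectedComponentsHomeomorph fun y => ?_).toEquiv
  have : h ⁻¹' {y} = {h.symm y} := by
    ext a
    simp only [Set.mem_preimage, Set.mem_singleton_iff]
    exact ⟨fun ha => by rw [← ha, h.symm_apply_apply], fun ha => by rw [ha, h.apply_symm_apply]⟩
  rw [this]
  exact isConnected_singleton

theorem card_connectedComponents_of_discrete [DiscreteTopology A] :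
    ENat.card (ConnectedComponents A) = ENat.card A := by
  symm
  refine ENat.card_congr (Equiv.ofBijective ConnectedComponents.mk
    ⟨fun a b hab => ?_, ConnectedComponents.surjective_coe⟩)
  rw [ConnectedComponents.coe_eq_coe'] at hab
  rw [connectedComponent_eq_singleton] at hab
  exact hab

end Top

section Stein

variable {X Y' Y : Scheme.{u}} (π : X ⟶ Y') (g : Y' ⟶ Y)

/-- The geometric fibres of `π ≫ g` and of `g` have the same number of connected components, when
`π` is universally closed with geometrically connected fibres. -/
theorem card_connectedComponents_pullback_comp [UniversallyClosed π] [GeometricallyConnected π]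
    (K : Type u) [Field K] (c₁ : Spec (CommRingCat.of K) ⟶ Y) :
    ENat.card (_root_.ConnectedComponents ↥(pullback (π ≫ g) c₁)) =
      ENat.card (_root_.ConnectedComponents ↥(pullback g c₁)) := by
  rw [← card_connectedComponents_of_homeomorph (pullbackRightPullbackFstIso g c₁ π).hom.homeomorph]
  let π' := pullback.snd π (pullback.fst g c₁)
  haveI : Surjective π' := inferInstance
  have hq : Topology.IsQuotientMap π'.base :=
    π'.isClosedMap.isQuotientMap π'.continuous π'.surjective
  exact ENat.card_congr
    (hq.isCoinducing.connectedComponentsHomeomorph π'.isConnected_preimage_singleton).toEquiv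

/-- Universal openness at the points of a fibre passes from `π ≫ g` to `g` when `π` is
surjective. -/
theorem isUnivOpenAt_of_comp [Surjective π] (y' : Y')
    (h : ∀ x : X, π.base x = y' → EGA43.IsUnivOpenAt (π ≫ g) x) : EGA43.IsUnivOpenAt g y' := by
  intro T t w hw
  let e := pullbackRightPullbackFstIso g t π
  let q : pullback (π ≫ g) t ⟶ pullback g t := e.inv ≫ pullback.snd π (pullback.fst g t)
  have hq1 : q ≫ pullback.snd g t = pullback.snd (π ≫ g) t := by
    simp only [q, Category.assoc]
    rw [Iso.inv_comp_eq]
    simp [e]
  have hq2 : q ≫ pullback.fst g t = pullback.fst (π ≫ g) t ≫ π := by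
    simp only [q, Category.assoc]
    rw [← pullback.condition, Iso.inv_comp_eq]
    simp [e]
  have hqs : Function.Surjective q.base := by
    have : Surjective q := inferInstance
    exact this.surj
  obtain ⟨x', hx'⟩ := hqs w
  have hx : π.base ((pullback.fst (π ≫ g) t).base x') = y' := by
    rw [← Scheme.Hom.comp_apply, ← hq2, Scheme.Hom.comp_apply, hx', hw]
  have h1 := h _ hx T t x' rfl
  intro N hN
  have hN' : q.base ⁻¹' N ∈ nhds x' :=
    q.continuous.continuousAt.preimage_mem_nhds (by rw [hx']; exact hN)
  have h2 := h1 _ hN'
  have h3 : (pullback.snd (π ≫ g) t).base = (pullback.snd g t).base ∘ q.base := by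
    rw [← hq1]; rfl
  rw [h3, Function.comp_apply, hx', Set.image_comp] at h2
  exact Filter.mem_of_superset h2 (Set.image_mono (Set.image_preimage_subset _ _))

end Stein

section GeomPt

variable {X Y : Scheme.{u}}

/-- The canonical separably closed geometric point over `z`. -/
noncomputable def geomPt (z : Y) :
    Spec (CommRingCat.of (SeparableClosure (Y.residueField z))) ⟶ Y :=
  Spec.map (CommRingCat.ofHom (algebraMap (Y.residueField z)
    (SeparableClosure (Y.residueField z)))) ≫ Y.fromSpecResidueField z

theorem geomPt_apply (z : Y) :
    (geomPt z).base (IsLocalRing.closedPoint (SeparableClosure (Y.residueField z))) = z := by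
  have h := Scheme.Hom.comp_apply (Spec.map (CommRingCat.ofHom (algebraMap (Y.residueField z)
    (SeparableClosure (Y.residueField z))))) (Y.fromSpecResidueField z)
    (IsLocalRing.closedPoint (SeparableClosure (Y.residueField z)))
  exact h.trans (Scheme.fromSpecResidueField_apply _ _)

theorem nGeomConnComp_eq (f : X ⟶ Y) (z : Y) :
    MoreMor.nGeomConnComp f z = ENat.card (_root_.ConnectedComponents ↥(pullback f (geomPt z))) := by
  unfold MoreMor.nGeomConnComp MoreMor.geomFiber
  exact card_connectedComponents_of_homeomorph
    (pullbackLeftPullbackSndIso f (Y.fromSpecResidueField z) _).hom.homeomorph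

end GeomPt

section Main

set_option backward.isDefEq.respectTransparency.types false in
/-- Factorised form. -/
theorem exists_nhds_nGeomConnComp_le_comp {X Y' Y : Scheme.{u}} (π : X ⟶ Y') (g : Y' ⟶ Y)
    [IsFinite g] [UniversallyClosed π] [GeometricallyConnected π] (y : Y)
    (h : ∀ x : X, (π ≫ g).base x = y → EGA43.IsUnivOpenAt (π ≫ g) x) :
    ∃ V ∈ nhds y, ∀ z ∈ V,
      MoreMor.nGeomConnComp (π ≫ g) y ≤ MoreMor.nGeomConnComp (π ≫ g) z := by
  haveI : Surjective π := inferInstance
  have key : ∀ z : Y, MoreMor.nGeomConnComp (π ≫ g) z = ENat.card ↥(pullback g (geomPt z)) := by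
    intro z
    rw [nGeomConnComp_eq, card_connectedComponents_pullback_comp]
    haveI := discreteTopology_of_isFinite_field _ (pullback.snd g (geomPt z))
    exact card_connectedComponents_of_discrete
  -- the geometric fibre over `y` is finite
  haveI : DiscreteTopology ↥(pullback g (geomPt y)) :=
    discreteTopology_of_isFinite_field _ (pullback.snd g (geomPt y))
  haveI : IsAffine (pullback g (geomPt y)) := isAffine_of_isAffineHom (pullback.snd g (geomPt y))
  haveI : Finite ↥(pullback g (geomPt y)) := finite_of_compact_of_discrete
  set n := Nat.card ↥(pullback g (geomPt y)) with hn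
  have hcard : ENat.card ↥(pullback g (geomPt y)) = n := ENat.card_eq_coe_natCard _
  have hd : DistinctPts g y n := by
    have := distinctPts_of_le_card g _ (geomPt y) n hcard.ge
    rwa [geomPt_apply] at this
  have hopen : ∀ y' : Y', g.base y' = y → EGA43.IsUnivOpenAt g y' := by
    intro y' hy'
    refine isUnivOpenAt_of_comp π g y' fun x hx => h x ?_
    rw [Scheme.Hom.comp_apply, hx, hy']
  obtain ⟨V, hV, hVd⟩ := exists_nhds_distinctPts n g y hopen hd
  refine ⟨V, hV, fun z hz => ?_⟩
  rw [key y, key z, hcard]
  apply le_card_of_distinctPts g _ (geomPt z) n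
  rw [geomPt_apply]
  exact hVd z hz

/-- **S3415 (hypothesis form).** Lower semicontinuity of the geometric number of connected
components of the fibres of a proper morphism at a point `y` such that `f` is universally open at
all points of the fibre over `y`. -/
theorem exists_nhds_nGeomConnComp_le (H2 : Hyp.{u}) (H58 : Hyp58.{u}) {X Y : Scheme.{u}}
    [IsLocallyNoetherian Y] (f : X ⟶ Y) [IsProper f] (y : Y)
    (h : ∀ x : X, f.base x = y → EGA43.IsUnivOpenAt f x) :
    ∃ V ∈ nhds y, ∀ z ∈ V, MoreMor.nGeomConnComp f y ≤ MoreMor.nGeomConnComp f z := by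
  obtain ⟨Y', π, g, hfac, hfin, huc, hgc⟩ : ∃ (Y' : Scheme.{u}) (π : X ⟶ Y')
      (g : Y' ⟶ Y), π ≫ g = f ∧ IsFinite g ∧ UniversallyClosed π ∧
        GeometricallyConnected π := by
    have hfac : f.toNormalization ≫ f.fromNormalization = f := f.toNormalization_fromNormalization
    haveI hfin : IsFinite f.fromNormalization :=
      Groth.Agent.Lib.SteinFin5.isFinite_fromNormalization_of_hyp H2 f
    haveI hln : IsLocallyNoetherian f.normalization :=
      LocallyOfFiniteType.isLocallyNoetherian f.fromNormalization
    haveI : IsProper (f.toNormalization ≫ f.fromNormalization) := by rw [hfac]; infer_instance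
    haveI hprop : IsProper f.toNormalization :=
      IsProper.of_comp f.toNormalization f.fromNormalization
    have hgc : GeometricallyConnected f.toNormalization :=
      geometricallyConnected_of_isIso_app f.toNormalization H2 H58
        (Groth.Agent.Lib.SteinProp5.isIso_toNormalization_app f)
    exact ⟨f.normalization, f.toNormalization, f.fromNormalization, hfac, hfin,
      inferInstance, hgc⟩
  subst hfac
  exact exists_nhds_nGeomConnComp_le_comp π g y h

end Main

end Groth.Agent.Lib.GeomCompLSC5
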