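import Groth.Agent.Lib.GeomRedBC91d
import Groth.Agent.Lib.AlgSpGrpFlat91
import Groth.Agent.Lib.H71SepClosedGeom
import Groth.Agent.Lib.AlgSpQC
import Groth.Agent.Lib.AlgSpFibre
import Groth.Agent.Lib.GeomFieldExt
import Groth.Agent.Lib.AlgStLocQ8
import Mathlib.AlgebraicGeometry.Geometrically.Connected

/-!
# Connected components and base field extension for algebraic spaces over a field (helper91)
-/

set_option autoImplicit false
set_option maxHeartbeats 400000
universe u

open CategoryTheory CategoryTheory.Limits AlgebraicGeometry Opposite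

namespace Groth.Agent.Lib.GeomConn91a

open AlgSp

/-! ### Topology -/

/-- A continuous open map with connected fibres induces a bijection on connected components. -/
theorem bijective_connectedComponentsMap {A B : Type*} [TopologicalSpace A] [TopologicalSpace B]
    {f : A → B} (hf : Continuous f) (ho : IsOpenMap f) (hfib : ∀ y, IsConnected (f ⁻¹' {y})) :
    Function.Bijective hf.connectedComponentsMap := by
  have hsurj : Function.Surjective f := fun y => by
    obtain ⟨x, hx⟩ := (hfib y).nonempty
    exact ⟨x, hx⟩
  have hq : Topology.IsQuotientMap f := ho.isQuotientMap hf hsurj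
  constructor
  · intro a a'
    obtain ⟨x, rfl⟩ := ConnectedComponents.surjective_coe a
    obtain ⟨x', rfl⟩ := ConnectedComponents.surjective_coe a'
    intro h
    change (f x : ConnectedComponents B) = (f x' : ConnectedComponents B) at h
    rw [ConnectedComponents.coe_eq_coe] at h
    rw [ConnectedComponents.coe_eq_coe]
    have h1 := hq.preimage_connectedComponent hfib x
    have h2 := hq.preimage_connectedComponent hfib x'
    rw [← h1, ← h2, h]
  · intro b
    obtain ⟨y, rfl⟩ := ConnectedComponents.surjective_coe b
    obtain ⟨x, rfl⟩ := hsurj y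
    exact ⟨(x : ConnectedComponents A), rfl⟩

/-- If `f` induces an injection on connected components and the target is connected, then the
source is connected as soon as it is nonempty. -/
theorem connectedSpace_of_injective {A B : Type*} [TopologicalSpace A] [TopologicalSpace B]
    {f : A → B} (hf : Continuous f) (hb : Function.Injective hf.connectedComponentsMap)
    [PreconnectedSpace B] [Nonempty A] : ConnectedSpace A := by
  have hpre : PreconnectedSpace A := by
    rw [preconnectedSpace_iff_connectedComponent]
    intro x
    ext y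
    simp only [Set.mem_univ, iff_true]
    rw [← connectedComponent_eq_iff_mem, ← ConnectedComponents.coe_eq_coe]
    exact hb (Subsingleton.elim _ _)
  exact ConnectedSpace.mk inferInstance

theorem connectedSpace_of_bijective {A B : Type*} [TopologicalSpace A] [TopologicalSpace B]
    {f : A → B} (hf : Continuous f) (hb : Function.Bijective hf.connectedComponentsMap)
    [ConnectedSpace B] : ConnectedSpace A := by
  have hne : Nonempty A := by
    obtain ⟨b⟩ := (inferInstance : Nonempty B)
    obtain ⟨a, -⟩ := hb.2 (b : ConnectedComponents B)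
    exact ConnectedComponents.nonempty_iff_nonempty.1 ⟨a⟩
  exact connectedSpace_of_injective hf hb.1

/-! ### Fibres of maps on points -/

variable {S : Scheme.{u}}

/-- In a pullback square over a chart from a one-point scheme, the fibre of `|f|` over the point is
the image of the points of the fibre product. -/
theorem fibre_eq_range {P X Y : Sp S} {T : Over S} [Subsingleton ↥T.left] {a : P ⟶ X}
    {b : P ⟶ (yon S).obj T} {f : X ⟶ Y} {g : (yon S).obj T ⟶ Y} (sq : IsPullback a b f g)
    (t : ↥T.left) : Points.map f ⁻¹' {Points.ofPt g t} = Set.range (Points.map a) := by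
  ext x
  simp only [Set.mem_preimage, Set.mem_singleton_iff, Set.mem_range]
  constructor
  · intro hx
    rw [Points.ofPt_eq_map_ofScheme] at hx
    obtain ⟨p, hp, -⟩ := Groth.Agent.Lib.AlgSpPoints.exists_point_of_isPullback sq x _ hx
    exact ⟨p, hp⟩
  · rintro ⟨p, rfl⟩
    rw [← Points.map_comp, sq.w, Points.map_comp, Points.ofPt_eq_map_ofScheme]
    congr 1
    apply (Points.schemeEquiv T).symm.injective
    exact Subsingleton.elim _ _

/-- If the fibre product is connected, so is the fibre. -/
theorem isConnected_fibre {P X Y : Sp S} {T : Over S} [Subsingleton ↥T.left] {a : P ⟶ X}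
    {b : P ⟶ (yon S).obj T} {f : X ⟶ Y} {g : (yon S).obj T ⟶ Y} (sq : IsPullback a b f g)
    (t : ↥T.left) [ConnectedSpace (Points P)] :
    IsConnected (Points.map f ⁻¹' {Points.ofPt g t}) := by
  rw [fibre_eq_range sq t]
  exact isConnected_range (Points.continuous_map a)

/-- Criterion: a morphism which is open on points and whose base changes to field points are
connected induces a bijection on connected components. -/
theorem bijective_of_fibres {X Y : Sp S} (f : X ⟶ Y) (ho : IsOpenMap (Points.map f))
    (h : ∀ p : FieldPt Y, ∃ (P : Sp S) (a : P ⟶ X) (b : P ⟶ (yon S).obj p.pt),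
      IsPullback a b f p.toHom ∧ ConnectedSpace (Points P)) :
    Function.Bijective (Points.continuous_map f).connectedComponentsMap := by
  refine bijective_connectedComponentsMap _ ho ?_
  intro y
  induction y using Points.ind with
  | h p =>
    obtain ⟨P, a, b, sq, hP⟩ := h p
    have hS : Subsingleton ↥p.pt.left := by
      change Subsingleton ↥(Spec (CommRingCat.of p.K)); infer_instance
    have := isConnected_fibre sq (IsLocalRing.closedPoint p.K)
    rwa [show Points.ofPt p.toHom (IsLocalRing.closedPoint p.K) = Points.mk p from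
      Groth.Agent.Lib.AlgSpPoints.ofPt_fieldPtHom p _] at this

/-! ### Base change along a geometrically connected morphism to the spectrum of a field -/

/-- Let `φ : L' ⟶ Spec K` be a geometrically connected morphism to the spectrum of a field and `Z` an
algebraic space over `Spec K`.  Then `Z ×_K L' ⟶ Z` induces a bijection on connected components. -/
theorem bijective_of_isPullback_field {K : Type u} [Field K] (σ : Spec (CommRingCat.of K) ⟶ S)
    {L' : Over S} (φ : L' ⟶ Over.mk σ) [GeometricallyConnected φ.left]
    {Z Z' : Sp S} (hZ : IsAlgSpace Z) {q : Z ⟶ (yon S).obj (Over.mk σ)}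
    {q' : Z' ⟶ (yon S).obj L'} {π : Z' ⟶ Z} (sq : IsPullback q' π ((yon S).map φ) q) :
    Function.Bijective (Points.continuous_map π).connectedComponentsMap := by
  have ho : IsOpenMap (Points.map π) :=
    (Groth.Agent.Lib.AlgSpGrpFlat91.flat_univOpen_to_field (IsAlgSpace.yon_obj L') σ
      ((yon S).map φ)).2 hZ q q' π sq
  refine bijective_of_fibres π ho ?_
  intro p
  obtain ⟨ψ, hψ⟩ := (yon S).map_surjective (p.toHom ≫ q)
  have sqW : IsPullback ((yon S).map (pullback.fst φ ψ)) ((yon S).map (pullback.snd φ ψ))
      ((yon S).map φ) ((yon S).map ψ) := (IsPullback.of_hasPullback φ ψ).map (yon S)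
  have hw : (yon S).map (pullback.fst φ ψ) ≫ (yon S).map φ =
      ((yon S).map (pullback.snd φ ψ) ≫ p.toHom) ≫ q := by
    rw [sqW.w, hψ, Category.assoc]
  have left : IsPullback (sq.lift _ _ hw) ((yon S).map (pullback.snd φ ψ)) π p.toHom := by
    refine IsPullback.of_right ?_ (sq.lift_snd _ _ hw) sq
    rw [sq.lift_fst, ← hψ]
    exact sqW
  refine ⟨_, _, _, left, ?_⟩
  have sqL : IsPullback (pullback.fst φ ψ).left (pullback.snd φ ψ).left φ.left ψ.left :=
    (IsPullback.of_hasPullback φ ψ).map (Over.forget S)
  have hc : ConnectedSpace ↥(pullback φ ψ).left :=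
    GeometricallyConnected.geometrically_connectedSpace (f := φ.left) (K := p.K) ψ.left _ _ sqL
  exact (Points.schemeHomeo (pullback φ ψ)).surjective.connectedSpace
    (Points.schemeHomeo (pullback φ ψ)).continuous

/-! ### Over a field -/

section Field

variable {k : Type u} [Field k]

/-- Geometric connectedness, phrased with arbitrary structure morphisms of field spectra. -/
theorem connectedSpace_of_geomConn (X : Sp (Spec (CommRingCat.of k)))
    (hX : ∀ (K : Type u) [Field K] [Algebra k K], ConnectedSpace (Points
      (X ⨯ (yon (Spec (CommRingCat.of k))).obj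
        (Over.mk (Spec.map (CommRingCat.ofHom (algebraMap k K)))))))
    {K : Type u} [Field K] (σ : Spec (CommRingCat.of K) ⟶ Spec (CommRingCat.of k)) :
    ConnectedSpace (Points (X ⨯ (yon (Spec (CommRingCat.of k))).obj (Over.mk σ))) := by
  letI : Algebra k K := (Spec.preimage σ).hom.toAlgebra
  have h : Spec.map (CommRingCat.ofHom (algebraMap k K)) = σ := by
    change Spec.map (CommRingCat.ofHom (Spec.preimage σ).hom) = σ
    rw [CommRingCat.ofHom_hom, Spec.map_preimage]
  have := hX K
  rwa [h] at this

/-- The projection `X ⨯ Y ⟶ Y` is open on points, for algebraic spaces over a field. -/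
theorem isOpenMap_prod_snd {X Y : Sp (Spec (CommRingCat.of k))} (hX : IsAlgSpace X)
    (hY : IsAlgSpace Y) : IsOpenMap (Points.map (prod.snd : X ⨯ Y ⟶ Y)) := by
  have t := Groth.Agent.Lib.H86Coprod.isTerminalYonOne (Spec (CommRingCat.of k))
  have sq : IsPullback (prod.fst : X ⨯ Y ⟶ X) prod.snd (t.from X) (t.from Y) :=
    IsPullback.of_is_product (limit.isLimit _) t
  exact (Groth.Agent.Lib.AlgSpGrpFlat91.flat_univOpen_to_field hX (𝟙 _) (t.from X)).2 hY _ _ _ sq

/-- If `X` is geometrically connected, `X ⨯ Y ⟶ Y` induces a bijection on connected components. -/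
theorem bijective_prod_snd {X Y : Sp (Spec (CommRingCat.of k))} (hX : IsAlgSpace X)
    (hY : IsAlgSpace Y)
    (hc : ∀ (K : Type u) [Field K] [Algebra k K], ConnectedSpace (Points
      (X ⨯ (yon (Spec (CommRingCat.of k))).obj
        (Over.mk (Spec.map (CommRingCat.ofHom (algebraMap k K))))))) :
    Function.Bijective (Points.continuous_map (prod.snd : X ⨯ Y ⟶ Y)).connectedComponentsMap := by
  refine bijective_of_fibres _ (isOpenMap_prod_snd hX hY) ?_
  intro p
  exact ⟨_, _, _, Groth.Agent.Lib.RepBySp91.isPullback_prod_map_right p.toHom X,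
    connectedSpace_of_geomConn X hc p.str⟩

/-- Over a separably closed field, `X_K ⟶ X` induces a bijection on connected components. -/
theorem bijective_prod_fst [IsSepClosed k] {X : Sp (Spec (CommRingCat.of k))} (hX : IsAlgSpace X)
    (K : Type u) [Field K] [Algebra k K] :
    Function.Bijective (Points.continuous_map (prod.fst : X ⨯ (yon (Spec (CommRingCat.of k))).obj
      (Over.mk (Spec.map (CommRingCat.ofHom (algebraMap k K)))) ⟶ X)).connectedComponentsMap := by
  let φ : Over.mk (Spec.map (CommRingCat.ofHom (algebraMap k K))) ⟶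
      Over.mk (𝟙 (Spec (CommRingCat.of k))) :=
    Over.homMk (Spec.map (CommRingCat.ofHom (algebraMap k K))) (Category.comp_id _)
  have hg : GeometricallyConnected φ.left :=
    Groth.Agent.Lib.H71SepClosedGeom.geometricallyConnected_of_connectedSpace
      (Spec.map (CommRingCat.ofHom (algebraMap k K)))
  have t := Groth.Agent.Lib.H86Coprod.isTerminalYonOne (Spec (CommRingCat.of k))
  have sq : IsPullback (prod.snd : X ⨯ (yon (Spec (CommRingCat.of k))).obj
      (Over.mk (Spec.map (CommRingCat.ofHom (algebraMap k K)))) ⟶ _) prod.fst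
      ((yon (Spec (CommRingCat.of k))).map φ) (t.from X) := by
    have h := IsPullback.of_is_product (limit.isLimit (pair X ((yon (Spec (CommRingCat.of k))).obj
      (Over.mk (Spec.map (CommRingCat.ofHom (algebraMap k K))))))) t
    have e : (yon (Spec (CommRingCat.of k))).map φ = t.from _ := t.hom_ext _ _
    rw [e]
    exact h.flip
  exact bijective_of_isPullback_field (𝟙 _) φ hX sq

/-- Over a separably closed field, geometrically connected = connected. -/
theorem geomConn_iff_of_sepClosed [IsSepClosed k] {X : Sp (Spec (CommRingCat.of k))}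
    (hX : IsAlgSpace X) :
    (∀ (K : Type u) [Field K] [Algebra k K], ConnectedSpace (Points
      (X ⨯ (yon (Spec (CommRingCat.of k))).obj
        (Over.mk (Spec.map (CommRingCat.ofHom (algebraMap k K))))))) ↔
      ConnectedSpace (Points X) := by
  constructor
  · intro h
    have := h k
    exact (Groth.Agent.Lib.GeomRedBC91d.surjective_map_prod_fst k X).connectedSpace
      (Points.continuous_map _)
  · intro h K _ _
    exact connectedSpace_of_bijective _ (bijective_prod_fst hX K)

/-- Products of algebraic spaces are algebraic spaces. -/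
theorem isAlgSpace_prod {S : Scheme.{u}} {X Y : Sp S} (hX : IsAlgSpace X) (hY : IsAlgSpace Y) :
    IsAlgSpace (X ⨯ Y) := by
  have t := Groth.Agent.Lib.H86Coprod.isTerminalYonOne S
  have sq : IsPullback (prod.fst : X ⨯ Y ⟶ X) prod.snd (t.from X) (t.from Y) :=
    IsPullback.of_is_product (limit.isLimit _) t
  exact Groth.Agent.Lib.AlgSpFibre.isAlgSpace_of_isPullback (IsAlgSpace.yon_obj _).diag hX hY sq

/-- `X_L ⟶ X_K` is surjective on points for a morphism of spectra of fields `Spec L ⟶ Spec K`. -/
theorem surjective_map_prod_map {S : Scheme.{u}} (X : Sp S) {K L : Type u} [Field K] [Field L]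
    (σ : Spec (CommRingCat.of K) ⟶ S) (τ : Spec (CommRingCat.of L) ⟶ S)
    (φ : Over.mk τ ⟶ Over.mk σ) :
    Function.Surjective (Points.map (prod.map (𝟙 X) ((yon S).map φ))) := by
  have hs : Function.Surjective φ.left := by
    intro y
    have : Nonempty ↥(Spec (CommRingCat.of L)) := inferInstance
    obtain ⟨x⟩ := this
    exact ⟨x, Subsingleton.elim (α := ↥(Spec (CommRingCat.of K))) _ _⟩
  exact Groth.Agent.Lib.AlgSpPoints.isSurjectiveMor_of_isPullback
    (Groth.Agent.Lib.RepBySp91.isPullback_prod_map_right ((yon S).map φ) X).flip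
    (Groth.Agent.Lib.AlgStLocQ.isSurjectiveMor_yon_map φ hs)

/-- `X` is geometrically connected iff `X_{k̄}` is connected, `k̄` a separable closure of `k`. -/
theorem geomConn_iff_sepClosure {X : Sp (Spec (CommRingCat.of k))} (hX : IsAlgSpace X)
    (kbar : Type u) [Field kbar] [Algebra k kbar] [IsSepClosure k kbar] :
    (∀ (K : Type u) [Field K] [Algebra k K], ConnectedSpace (Points
      (X ⨯ (yon (Spec (CommRingCat.of k))).obj
        (Over.mk (Spec.map (CommRingCat.ofHom (algebraMap k K))))))) ↔
      ConnectedSpace (Points (X ⨯ (yon (Spec (CommRingCat.of k))).obj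
        (Over.mk (Spec.map (CommRingCat.ofHom (algebraMap k kbar)))))) := by
  constructor
  · intro h
    exact h kbar
  · intro h K _ _
    obtain ⟨Ω, _, φK, φL, hφ⟩ := Groth.Agent.Lib.GeomFieldExt.exists_common_field k K kbar
    have hφ' : Spec.map (CommRingCat.ofHom φK) ≫ Spec.map (CommRingCat.ofHom (algebraMap k K)) =
        Spec.map (CommRingCat.ofHom φL) ≫ Spec.map (CommRingCat.ofHom (algebraMap k kbar)) := by
      rw [← Spec.map_comp, ← Spec.map_comp, ← CommRingCat.ofHom_comp, ← CommRingCat.ofHom_comp, hφ]
    let φ1 : Over.mk (Spec.map (CommRingCat.ofHom φL) ≫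
        Spec.map (CommRingCat.ofHom (algebraMap k kbar))) ⟶
        Over.mk (Spec.map (CommRingCat.ofHom (algebraMap k kbar))) :=
      Over.homMk (Spec.map (CommRingCat.ofHom φL)) rfl
    let φ2 : Over.mk (Spec.map (CommRingCat.ofHom φL) ≫
        Spec.map (CommRingCat.ofHom (algebraMap k kbar))) ⟶
        Over.mk (Spec.map (CommRingCat.ofHom (algebraMap k K))) :=
      Over.homMk (Spec.map (CommRingCat.ofHom φK)) hφ'
    have hsc : IsSepClosed kbar := IsSepClosure.sep_closed k
    have hg : GeometricallyConnected φ1.left :=
      Groth.Agent.Lib.H71SepClosedGeom.geometricallyConnected_of_connectedSpace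
        (Spec.map (CommRingCat.ofHom φL))
    have hb := bijective_of_isPullback_field (Spec.map (CommRingCat.ofHom (algebraMap k kbar))) φ1
      (isAlgSpace_prod hX (IsAlgSpace.yon_obj _))
      (Groth.Agent.Lib.RepBySp91.isPullback_prod_map_right
        ((yon (Spec (CommRingCat.of k))).map φ1) X).flip
    have hΩ := connectedSpace_of_bijective _ hb
    exact (surjective_map_prod_map X _ _ φ2).connectedSpace (Points.continuous_map _)

end Field

end Groth.Agent.Lib.GeomConn91a
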