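import Groth.Agent.Lib.GeomConn91a
import Groth.Agent.Lib.H71FinSepConn
import Groth.Agent.Lib.AlgSpDescent

/-!
# Geometric connectedness of algebraic spaces via finite separable extensions (helper91)
-/

set_option autoImplicit false
set_option maxHeartbeats 400000
universe u

open CategoryTheory CategoryTheory.Limits AlgebraicGeometry Opposite

namespace Groth.Agent.Lib.GeomConn91b

open AlgSp Groth.Agent.Lib.GeomRedBC91d

section General

variable {S : Scheme.{u}}

/-- The charts `h_{U ⨯ K'} ⟶ X ⨯ h_{K'}` are compatible with change of `K'`, and the squares are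
cartesian. -/
theorem isPullback_prodChart_map {X : Sp S} {U : Over S} (a : (yon S).obj U ⟶ X) {K' L' : Over S}
    (φ : K' ⟶ L') :
    IsPullback (prodChart a K') ((yon S).map (prod.map (𝟙 U) φ))
      (prod.map (𝟙 X) ((yon S).map φ)) (prodChart a L') := by
  refine IsPullback.of_bot ?_ ?_ (isPullback_prodChart a L')
  · have h := isPullback_prodChart a K'
    rw [← Functor.map_comp, prod.map_fst, Category.comp_id, prod.map_fst, Category.comp_id]
    exact h
  · apply Limits.prod.hom_ext
    · rw [Category.assoc, prod.map_fst, Category.comp_id, prodChart_fst, Category.assoc,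
        prodChart_fst, ← Functor.map_comp_assoc, prod.map_fst, Category.comp_id]
    · rw [Category.assoc, prod.map_snd, ← Category.assoc, prodChart_snd, Category.assoc,
        prodChart_snd, ← Functor.map_comp, ← Functor.map_comp, prod.map_snd]

end General

section Field

variable {k : Type u} [Field k]

open Groth.Agent.Lib.H71FinSepConn

/-- `Spec K` as an object over `Spec k`. -/
noncomputable abbrev fobj (K : Type u) [Field K] [Algebra k K] : Over (Spec (CommRingCat.of k)) :=
  Over.mk (Spec.map (CommRingCat.ofHom (algebraMap k K)))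

/-- `Spec K ⟶ Spec L` over `Spec k`, for an intermediate field `L`. -/
noncomputable def φL (K : Type u) [Field K] [Algebra k K] (L : IntermediateField k K) :
    fobj K ⟶ fobj (k := k) L :=
  Over.homMk (r K L) (r_q K L)

theorem prodIso_ρ (U : Over (Spec (CommRingCat.of k))) (K : Type u) [Field K] [Algebra k K]
    (L : IntermediateField k K) :
    (prod.map (𝟙 U) (φL K L)).left ≫ (Over.prodLeftIsoPullback U (fobj (k := k) L)).hom =
      (Over.prodLeftIsoPullback U (fobj K)).hom ≫ ρ K L U.hom := by
  have h1 : ρ K L U.hom ≫ pullback.fst U.hom (fobj (k := k) L).hom = pullback.fst U.hom (fobj K).hom :=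
    ρ_fst K L U.hom
  have h2 : ρ K L U.hom ≫ pullback.snd U.hom (fobj (k := k) L).hom =
      pullback.snd U.hom (fobj K).hom ≫ (φL K L).left := ρ_snd K L U.hom
  apply pullback.hom_ext
  · rw [Category.assoc, Over.prodLeftIsoPullback_hom_fst, Category.assoc, h1,
      Over.prodLeftIsoPullback_hom_fst, ← Over.comp_left, prod.map_fst, Category.comp_id]
  · rw [Category.assoc, Over.prodLeftIsoPullback_hom_snd, Category.assoc, h2,
      Over.prodLeftIsoPullback_hom_snd_assoc, ← Over.comp_left, prod.map_snd, Over.comp_left]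

theorem prodMap_left_eq (U : Over (Spec (CommRingCat.of k))) (K : Type u) [Field K] [Algebra k K]
    (L : IntermediateField k K) :
    (prod.map (𝟙 U) (φL K L)).left =
      (Over.prodLeftIsoPullback U (fobj K)).hom ≫ ρ K L U.hom ≫
        (Over.prodLeftIsoPullback U (fobj (k := k) L)).inv := by
  rw [← Category.assoc, ← prodIso_ρ, Category.assoc, Iso.hom_inv_id, Category.comp_id]

theorem prodMap_fst_apply (U : Over (Spec (CommRingCat.of k))) {K' L' : Over (Spec (CommRingCat.of k))}
    (φ : K' ⟶ L') (u : ↥(U ⨯ K').left) :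
    (prod.fst : U ⨯ L' ⟶ U).left ((prod.map (𝟙 U) φ).left u) = (prod.fst : U ⨯ K' ⟶ U).left u := by
  rw [← Scheme.Hom.comp_apply, ← Over.comp_left, prod.map_fst, Category.comp_id]

/-- A clopen subset of `U_K` is, over a given point of `U`, saturated for `U_K ⟶ U_L` with `L/k`
finite. -/
theorem exists_finite_level_prod (K : Type u) [Field K] [Algebra k K] [Algebra.IsAlgebraic k K]
    (U : Over (Spec (CommRingCat.of k))) (x : ↥U.left) (s : Set ↥(U ⨯ fobj K).left)
    (hs : IsClopen s) :
    ∃ (L : IntermediateField k K) (_ : FiniteDimensional k L), ∀ u v : ↥(U ⨯ fobj K).left,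
      (prod.fst : U ⨯ fobj K ⟶ U).left u = x → (prod.fst : U ⨯ fobj K ⟶ U).left v = x →
      (prod.map (𝟙 U) (φL K L)).left u = (prod.map (𝟙 U) (φL K L)).left v → u ∈ s → v ∈ s := by
  let e := Over.prodLeftIsoPullback U (fobj K)
  have hs' : IsClopen (e.inv ⁻¹' s) := hs.preimage e.inv.continuous
  obtain ⟨φ, hφ⟩ := Spec.map_surjective (U.left.fromSpecResidueField x ≫ U.hom)
  letI : Algebra k (U.left.residueField x) := φ.hom.toAlgebra
  have hf' : U.left.fromSpecResidueField x ≫ U.hom = q (k := k) (U.left.residueField x) := hφ.symm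
  obtain ⟨L, hL, hkey⟩ := exists_finite_level K U.hom x (U.left.residueField x)
    (U.left.fromSpecResidueField x) (IsLocalRing.closedPoint _)
    (Scheme.fromSpecResidueField_apply _ _) hf' (e.inv ⁻¹' s) hs'
  refine ⟨L, hL, fun u v hu hv huv hus => ?_⟩
  have hfst : ∀ w : ↥(U ⨯ fobj K).left, pullback.fst U.hom (q K) (e.hom w) =
      (prod.fst : U ⨯ fobj K ⟶ U).left w := by
    intro w
    rw [← Scheme.Hom.comp_apply]
    exact congrArg (fun m : (U ⨯ fobj K).left ⟶ U.left => m w)
      (Over.prodLeftIsoPullback_hom_fst U (fobj K))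
  have hρ : ∀ w : ↥(U ⨯ fobj K).left, ρ K L U.hom (e.hom w) =
      (Over.prodLeftIsoPullback U (fobj (k := k) L)).hom ((prod.map (𝟙 U) (φL K L)).left w) := by
    intro w
    rw [← Scheme.Hom.comp_apply, ← Scheme.Hom.comp_apply]
    exact congrArg (fun m : (U ⨯ fobj K).left ⟶ _ => m w) (prodIso_ρ U K L).symm
  have hinv : ∀ w : ↥(U ⨯ fobj K).left, e.inv (e.hom w) = w := by
    intro w
    rw [← Scheme.Hom.comp_apply, Iso.hom_inv_id]
    rfl
  have := hkey (e.hom u) (e.hom v) ((hfst u).trans hu) ((hfst v).trans hv)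
    (by rw [hρ, hρ, huv]) (by rw [Set.mem_preimage, hinv]; exact hus)
  rw [Set.mem_preimage, hinv] at this
  exact this

section Props

variable (K : Type u) [Field K] [Algebra k K] [Algebra.IsAlgebraic k K] (L : IntermediateField k K)

theorem isClosedMap_prodMap_left (U : Over (Spec (CommRingCat.of k))) :
    IsClosedMap (prod.map (𝟙 U) (φL K L)).left := by
  rw [prodMap_left_eq]
  have h1 : IsClosedMap (Over.prodLeftIsoPullback U (fobj K)).hom :=
    (Scheme.homeoOfIso (Over.prodLeftIsoPullback U (fobj K))).isClosedMap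
  have h2 : IsClosedMap (Over.prodLeftIsoPullback U (fobj (k := k) L)).inv :=
    (Scheme.homeoOfIso (Over.prodLeftIsoPullback U (fobj (k := k) L)).symm).isClosedMap
  exact (h2.comp (ρ_isClosedMap K L U.hom)).comp h1

theorem isOpenMap_prodMap_left (U : Over (Spec (CommRingCat.of k))) :
    IsOpenMap (prod.map (𝟙 U) (φL K L)).left := by
  rw [prodMap_left_eq]
  have h1 : IsOpenMap (Over.prodLeftIsoPullback U (fobj K)).hom :=
    (Scheme.homeoOfIso (Over.prodLeftIsoPullback U (fobj K))).isOpenMap
  have h2 : IsOpenMap (Over.prodLeftIsoPullback U (fobj (k := k) L)).inv :=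
    (Scheme.homeoOfIso (Over.prodLeftIsoPullback U (fobj (k := k) L)).symm).isOpenMap
  exact (h2.comp (ρ_isOpenMap K L U.hom)).comp h1

theorem isClosedMap_map_prodMap {X : Sp (Spec (CommRingCat.of k))} (hX : IsAlgSpace X) :
    IsClosedMap (Points.map (prod.map (𝟙 X) ((yon (Spec (CommRingCat.of k))).map (φL K L)))) := by
  obtain ⟨U, a, hae, has⟩ := hX.atlas
  exact Groth.Agent.Lib.AlgSpPoints.isClosedMap_of_isPullback_of_isQuotientMap
    (isPullback_prodChart_map a (φL K L))
    (Groth.Agent.Lib.AlgSpDescent.isQuotientMap_map_of_etale_surjective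
      (repWith_etale_prodChart a hae _) (repWith_surjective_prodChart a has _))
    ((Groth.Agent.Lib.AlgSpPoints.isClosedMap_map_yon_map_iff _).2 (isClosedMap_prodMap_left K L U))

theorem isOpenMap_map_prodMap {X : Sp (Spec (CommRingCat.of k))} (hX : IsAlgSpace X) :
    IsOpenMap (Points.map (prod.map (𝟙 X) ((yon (Spec (CommRingCat.of k))).map (φL K L)))) := by
  obtain ⟨U, a, hae, has⟩ := hX.atlas
  exact Groth.Agent.Lib.AlgSpPoints.isOpenMap_of_isPullback_of_isQuotientMap
    (isPullback_prodChart_map a (φL K L))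
    (Groth.Agent.Lib.AlgSpDescent.isQuotientMap_map_of_etale_surjective
      (repWith_etale_prodChart a hae _) (repWith_surjective_prodChart a has _))
    ((Groth.Agent.Lib.AlgSpPoints.isOpenMap_map_yon_map_iff _).2 (isOpenMap_prodMap_left K L U))

end Props

/-- If `X_L` is connected for all finite subextensions `L` of an algebraic extension `K/k`, then
`X_K` is connected (algebraic spaces). -/
theorem connectedSpace_of_forall_finiteDimensional (K : Type u) [Field K] [Algebra k K]
    [Algebra.IsAlgebraic k K] {X : Sp (Spec (CommRingCat.of k))} (hX : IsAlgSpace X)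
    (h : ∀ L : IntermediateField k K, FiniteDimensional k L →
      ConnectedSpace (Points (X ⨯ (yon (Spec (CommRingCat.of k))).obj (fobj (k := k) L)))) :
    ConnectedSpace (Points (X ⨯ (yon (Spec (CommRingCat.of k))).obj (fobj K))) := by
  rw [connectedSpace_iff_clopen]
  constructor
  · have h0 := h ⊥ inferInstance
    obtain ⟨t⟩ := h0.toNonempty
    obtain ⟨v, -⟩ := Groth.Agent.Lib.GeomConn91a.surjective_map_prod_map X _ _ (φL K ⊥) t
    exact ⟨v⟩
  · intro s hs
    by_contra hcon
    rw [not_or] at hcon
    obtain ⟨hne, hnu⟩ := hcon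
    obtain ⟨xb, hxb⟩ : s.Nonempty := Set.nonempty_iff_ne_empty.mpr hne
    have hsc_ne : sᶜ.Nonempty := Set.nonempty_compl.mpr hnu
    obtain ⟨U, a, hae, has⟩ := hX.atlas
    obtain ⟨ub, hub⟩ := Groth.Agent.Lib.AlgSpQC.surjective_ofPt_of_repWith_surjective
      (repWith_surjective_prodChart a has (fobj K)) xb
    have hs0 : IsClopen (Points.ofPt (prodChart a (fobj K)) ⁻¹' s) :=
      hs.preimage (Points.continuous_ofPt _)
    obtain ⟨L, hL, hkey⟩ := exists_finite_level_prod K U
      ((prod.fst : U ⨯ fobj K ⟶ U).left ub) _ hs0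
    have hXL := h L hL
    have h2 : Points.map (prod.map (𝟙 X) ((yon (Spec (CommRingCat.of k))).map (φL K L))) '' sᶜ =
        Set.univ :=
      (isClopen_iff.mp ⟨isClosedMap_map_prodMap K L hX _ hs.compl.1,
        isOpenMap_map_prodMap K L hX _ hs.compl.2⟩).resolve_left (hsc_ne.image _).ne_empty
    obtain ⟨yb, hyb, hyx⟩ : Points.map (prod.map (𝟙 X)
        ((yon (Spec (CommRingCat.of k))).map (φL K L))) xb ∈
        Points.map (prod.map (𝟙 X) ((yon (Spec (CommRingCat.of k))).map (φL K L))) '' sᶜ :=
      h2 ▸ Set.mem_univ _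
    have sq := isPullback_prodChart_map a (φL K L)
    have hyx' : Points.map (prod.map (𝟙 X) ((yon (Spec (CommRingCat.of k))).map (φL K L))) yb =
        Points.ofPt (prodChart a (fobj (k := k) L)) ((prod.map (𝟙 U) (φL K L)).left ub) := by
      rw [hyx, ← hub, Points.map_ofPt, sq.w,
        Groth.Agent.Lib.AlgSpPoints.ofPt_yon_map_comp]
    obtain ⟨vb, hvb1, hvb2⟩ := Groth.Agent.Lib.AlgSpPoints.exists_of_isPullback_yon sq yb _ hyx'
    have hfst : (prod.fst : U ⨯ fobj K ⟶ U).left vb = (prod.fst : U ⨯ fobj K ⟶ U).left ub := by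
      rw [← prodMap_fst_apply U (φL K L) vb, hvb1, prodMap_fst_apply]
    have := hkey ub vb rfl hfst hvb1.symm (by rw [Set.mem_preimage, hub]; exact hxb)
    rw [Set.mem_preimage, hvb2] at this
    exact hyb this

/-- `X` is geometrically connected iff `X_{k'}` is connected for every finite separable `k'/k`. -/
theorem geomConn_iff_finite_separable {X : Sp (Spec (CommRingCat.of k))} (hX : IsAlgSpace X) :
    (∀ (K : Type u) [Field K] [Algebra k K], ConnectedSpace (Points
      (X ⨯ (yon (Spec (CommRingCat.of k))).obj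
        (Over.mk (Spec.map (CommRingCat.ofHom (algebraMap k K))))))) ↔
      ∀ (k' : Type u) [Field k'] [Algebra k k'], Module.Finite k k' → Algebra.IsSeparable k k' →
        ConnectedSpace (Points (X ⨯ (yon (Spec (CommRingCat.of k))).obj
          (Over.mk (Spec.map (CommRingCat.ofHom (algebraMap k k')))))) := by
  constructor
  · intro h k' _ _ _ _
    exact h k'
  · intro h
    rw [Groth.Agent.Lib.GeomConn91a.geomConn_iff_sepClosure hX (SeparableClosure k)]
    apply connectedSpace_of_forall_finiteDimensional (SeparableClosure k) hX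
    intro L hL
    have : Algebra.IsSeparable k L :=
      Algebra.isSeparable_tower_bot_of_isSeparable k L (SeparableClosure k)
    exact h L hL this

end Field

end Groth.Agent.Lib.GeomConn91b
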