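import Groth.Agent.Lib.GeomConn91a
import Groth.Agent.Lib.H80DecentPt

/-!
# Connected components of geometric fibres of morphisms of algebraic spaces (helper91)
-/

set_option autoImplicit false
set_option maxHeartbeats 400000
universe u

open CategoryTheory CategoryTheory.Limits AlgebraicGeometry Opposite

namespace Groth.Agent.Lib.GeomConnFibre91

open AlgSp Groth.Agent.Lib.GeomConn91a

variable {S : Scheme.{u}}

/-- For a separably closed field point `k` of `Y` and a field extension `Ω` of it, the fibre `X_Ω`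
has as many connected components as the fibre `X_k`. -/
theorem bijective_fibre_ext {X Y : Sp S} (hX : IsAlgSpace X) (hY : IsAlgSpace Y) (f : X ⟶ Y)
    (k : FieldPt Y) [IsSepClosed k.K]
    {Xk : Sp S} {a : Xk ⟶ X} {b : Xk ⟶ (yon S).obj k.pt} (h : IsPullback a b f k.toHom)
    {Ω : Type u} [Field Ω] (w : Spec (CommRingCat.of Ω) ⟶ S) (c : Over.mk w ⟶ k.pt)
    {XΩ : Sp S} {aΩ : XΩ ⟶ X} {bΩ : XΩ ⟶ (yon S).obj (Over.mk w)}
    (hΩ : IsPullback aΩ bΩ f ((yon S).map c ≫ k.toHom)) :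
    ∃ π : XΩ ⟶ Xk, π ≫ a = aΩ ∧ π ≫ b = bΩ ≫ (yon S).map c ∧
      Function.Bijective (Points.continuous_map π).connectedComponentsMap := by
  have hw : aΩ ≫ f = (bΩ ≫ (yon S).map c) ≫ k.toHom := by
    rw [hΩ.w, Category.assoc]
  refine ⟨h.lift _ _ hw, h.lift_fst _ _ hw, h.lift_snd _ _ hw, ?_⟩
  have left : IsPullback (h.lift _ _ hw) bΩ b ((yon S).map c) := by
    refine IsPullback.of_right ?_ (h.lift_snd _ _ hw) h
    rw [h.lift_fst]
    exact hΩ
  have hZ : IsAlgSpace Xk :=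
    Groth.Agent.Lib.AlgSpFibre.isAlgSpace_of_isPullback hY.diag hX (IsAlgSpace.yon_obj _) h
  have hcs : ConnectedSpace ↥(Over.mk w).left := by
    change ConnectedSpace ↥(Spec (CommRingCat.of Ω)); infer_instance
  have hg : GeometricallyConnected c.left :=
    Groth.Agent.Lib.H71SepClosedGeom.geometricallyConnected_of_connectedSpace (k := k.K) c.left
  exact bijective_of_isPullback_field k.str c hZ left.flip

theorem card_cc_fibre_ext {X Y : Sp S} (hX : IsAlgSpace X) (hY : IsAlgSpace Y) (f : X ⟶ Y)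
    (k : FieldPt Y) [IsSepClosed k.K]
    {Xk : Sp S} {a : Xk ⟶ X} {b : Xk ⟶ (yon S).obj k.pt} (h : IsPullback a b f k.toHom)
    {Ω : Type u} [Field Ω] (w : Spec (CommRingCat.of Ω) ⟶ S) (c : Over.mk w ⟶ k.pt)
    {XΩ : Sp S} {aΩ : XΩ ⟶ X} {bΩ : XΩ ⟶ (yon S).obj (Over.mk w)}
    (hΩ : IsPullback aΩ bΩ f ((yon S).map c ≫ k.toHom)) :
    ENat.card (ConnectedComponents (Points XΩ)) = ENat.card (ConnectedComponents (Points Xk)) := by
  obtain ⟨π, -, -, hb⟩ := bijective_fibre_ext hX hY f k h w c hΩ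
  exact ENat.card_congr (Equiv.ofBijective _ hb)

/-- The number of connected components of a geometric fibre is invariant under base change. -/
theorem card_cc_fibre_bc {X Y X' Y' : Sp S} (hX : IsAlgSpace X) (hY : IsAlgSpace Y)
    (hX' : IsAlgSpace X') (hY' : IsAlgSpace Y') (f : X ⟶ Y) (g : Y' ⟶ Y) (gX : X' ⟶ X)
    (f' : X' ⟶ Y') (hsq : IsPullback gX f' f g)
    (k' : FieldPt Y') [IsSepClosed k'.K] (k : FieldPt Y) [IsSepClosed k.K]
    (hkk : Points.mk k = Points.map g (Points.mk k'))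
    (Xk' : Sp S) (a' : Xk' ⟶ X') (b' : Xk' ⟶ (yon S).obj k'.pt)
    (h' : IsPullback a' b' f' k'.toHom)
    (Xk : Sp S) (a : Xk ⟶ X) (b : Xk ⟶ (yon S).obj k.pt) (h : IsPullback a b f k.toHom) :
    ENat.card (ConnectedComponents (Points Xk')) = ENat.card (ConnectedComponents (Points Xk)) := by
  rw [Points.map_mk, Points.mk_eq_mk_iff, Groth.Agent.Lib.H80DecentPt.rel_iff_toHom] at hkk
  obtain ⟨Ω, _, w, α, β, hαβ⟩ := hkk
  rw [FieldPt.toHom_map] at hαβ
  have β' : Over.mk w ⟶ k'.pt := β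
  have hαβ' : (yon S).map α ≫ k.toHom = ((yon S).map β ≫ k'.toHom) ≫ g := by
    rw [Category.assoc]; exact hαβ
  have sq1 := IsPullback.of_hasPullback f' ((yon S).map β ≫ k'.toHom)
  have sq2 : IsPullback (pullback.fst f' ((yon S).map β ≫ k'.toHom) ≫ gX)
      (pullback.snd f' ((yon S).map β ≫ k'.toHom)) f ((yon S).map α ≫ k.toHom) := by
    rw [hαβ']
    exact sq1.paste_horiz hsq
  have e1 := card_cc_fibre_ext hX' hY' f' k' h' w β sq1
  have e2 := card_cc_fibre_ext hX hY f k h w α sq2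
  rw [← e1, e2]

end Groth.Agent.Lib.GeomConnFibre91
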