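import Groth.Agent.Lib.H86AlgSpOpen
import Groth.Prelude.Def_AlgSpDec
import Mathlib.AlgebraicGeometry.Sites.EtalePoint

/-!
# helper86: lifting geometric points along representable etale maps from schemes

* `exists_lift_of_isGeometric`: for a geometric point `p` of a sheaf `X`, a representable etale
  `a : h_V ⟶ X` and a point `v` of `V` over the class of `p`, there is a lift `Spec K ⟶ V` of `p`
  through `v`.
-/

set_option autoImplicit false
set_option linter.style.haveILetI false
universe u
open CategoryTheory CategoryTheory.Limits AlgebraicGeometry Opposite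

namespace Groth.Agent.Lib.H86GeomPt

open AlgSp Groth.Agent.Lib.H86AlgSpPoints Groth.Agent.Lib.H86AlgSpSub Groth.Agent.Lib.H86AlgSpOpen

variable {S : Scheme.{u}}

/-- Lifting a geometric point through a representable etale map from a scheme, through a prescribed
point. -/
theorem exists_lift_of_isGeometric {X : Sp S} (p : FieldPt X) (hp : p.IsGeometric) {V : Over S}
    (a : (yon S).obj V ⟶ X) (ha : RepWith @Etale a) (v : ↥V.left)
    (hv : Points.ofPt a v = Points.mk p) :
    ∃ ubar : p.pt ⟶ V, (yon S).map ubar ≫ a = p.toHom ∧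
      ubar.left (IsLocalRing.closedPoint p.K : PrimeSpectrum p.K) = v := by
  haveI : IsAlgClosed p.K := hp
  obtain ⟨T, snd, fst, hpb⟩ := ha.1 p.toHom
  haveI hse : Etale snd.left := ha.2 _ fst snd hpb
  obtain ⟨fst', rfl⟩ := (yon S).map_surjective fst
  obtain ⟨w, hw1, hw2⟩ := exists_of_isPullback_rep hpb (Points.ofScheme V v)
    (IsLocalRing.closedPoint p.K : PrimeSpectrum p.K)
    (by rw [← Points.ofPt_eq_map_ofScheme, hv, Points.ofPt_toHom])
  have hw1' : fst'.left w = v := by
    rw [ofPt_yon_map] at hw1
    exact (Points.schemeEquiv V).injective hw1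
  obtain ⟨l, hl1, hl2⟩ := Scheme.exists_fac_of_etale_of_isSepClosed (Ω := p.K) snd.left
    (𝟙 (Spec (.of p.K))) w (by
      rw [hw2]
      exact Subsingleton.elim (α := PrimeSpectrum p.K) _ _)
  have hlT : l ≫ T.hom = p.pt.hom := by
    rw [← Over.w snd, ← Category.assoc, hl1]
    exact Category.id_comp _
  let lT : p.pt ⟶ T := Over.homMk l hlT
  have hlTs : lT ≫ snd = 𝟙 p.pt := by
    apply Over.OverMorphism.ext
    exact hl1
  refine ⟨lT ≫ fst', ?_, ?_⟩
  · rw [Functor.map_comp, Category.assoc, hpb.w, ← Category.assoc, ← Functor.map_comp, hlTs,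
      CategoryTheory.Functor.map_id, Category.id_comp]
  · show fst'.left (l _) = v
    have : l (IsLocalRing.closedPoint p.K : PrimeSpectrum p.K) = w := by
      rw [← hl2]
      exact congrArg l (Subsingleton.elim (α := PrimeSpectrum p.K) _ _)
    rw [this, hw1']

end Groth.Agent.Lib.H86GeomPt
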