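import Groth.Agent.Lib.GeomConnRel91b
import Groth.Agent.Lib.H86GeomPt
import Groth.Agent.Lib.H80EtaleResidue

/-!
# Connectedness of a geometric fibre versus fibres over etale neighbourhoods (helper91)
-/

set_option autoImplicit false
set_option maxHeartbeats 400000
universe u

open CategoryTheory CategoryTheory.Limits AlgebraicGeometry Opposite

namespace Groth.Agent.Lib.GeomConnNbhd91

open AlgSp Groth.Agent.Lib.H71FinSepConn Groth.Agent.Lib.GeomConn91a
  Groth.Agent.Lib.GeomConnRel91

variable {S : Scheme.{u}}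

/-- The residue field point of `V` at `v`, as an object over `S`. -/
noncomputable abbrev resObj (V : Over S) (v : ↥V.left) : Over S :=
  Over.mk (V.left.fromSpecResidueField v ≫ V.hom)

/-- `Spec κ(v) ⟶ V` over `S`. -/
noncomputable abbrev resHom (V : Over S) (v : ↥V.left) : resObj V v ⟶ V :=
  Over.homMk (V.left.fromSpecResidueField v) rfl

/-- A morphism from the spectrum of a field factors through the residue field of its image point. -/
theorem exists_factor_resHom' {K : Type u} [Field K] {τ : Spec (CommRingCat.of K) ⟶ S} {V : Over S}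
    (m : Spec (CommRingCat.of K) ⟶ V.left) (hm : m ≫ V.hom = τ) :
    ∃ d : Over.mk τ ⟶ resObj V (m (IsLocalRing.closedPoint K)),
      d ≫ resHom V (m (IsLocalRing.closedPoint K)) = Over.homMk m hm := by
  have key := Scheme.descResidueField_stalkClosedPointTo_fromSpecResidueField K V.left m
  refine ⟨Over.homMk (Spec.map (V.left.descResidueField (K := K)
    (Scheme.stalkClosedPointTo m))) ?_, ?_⟩
  · change _ ≫ V.left.fromSpecResidueField _ ≫ V.hom = τ
    rw [← Category.assoc, key]
    exact hm
  · apply Over.OverMorphism.ext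
    exact key

theorem exists_factor_resHom {K : Type u} [Field K] {τ : Spec (CommRingCat.of K) ⟶ S} {V : Over S}
    (c : Over.mk τ ⟶ V) :
    ∃ d : Over.mk τ ⟶ resObj V (c.left (IsLocalRing.closedPoint K)),
      d ≫ resHom V (c.left (IsLocalRing.closedPoint K)) = c :=
  exists_factor_resHom' (τ := τ) c.left (Over.w c)

/-- If the geometric fibre is connected, so is the fibre over any etale neighbourhood. -/
theorem connectedSpace_fibre_of_geometric {X Y : Sp S} (f : X ⟶ Y) (yb : FieldPt Y)
    {Xyb : Sp S} {fst : Xyb ⟶ X} {snd : Xyb ⟶ (yon S).obj yb.pt}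
    (h : IsPullback fst snd f yb.toHom) (hconn : ConnectedSpace (Points Xyb))
    {V : Over S} (a : (yon S).obj V ⟶ Y) (c : yb.pt ⟶ V) (hc : (yon S).map c ≫ a = yb.toHom)
    {Xv : Sp S} {fst' : Xv ⟶ X}
    {snd' : Xv ⟶ (yon S).obj (resObj V (c.left (IsLocalRing.closedPoint yb.K)))}
    (h' : IsPullback fst' snd' f
      ((yon S).map (resHom V (c.left (IsLocalRing.closedPoint yb.K))) ≫ a)) :
    ConnectedSpace (Points Xv) := by
  obtain ⟨d, hd⟩ := exists_factor_resHom (τ := yb.str) c
  have hw : fst ≫ f = (snd ≫ (yon S).map d) ≫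
      ((yon S).map (resHom V (c.left (IsLocalRing.closedPoint yb.K))) ≫ a) := by
    rw [h.w, Category.assoc, ← Category.assoc ((yon S).map d), ← Functor.map_comp, hd, hc]
  have left : IsPullback (h'.lift _ _ hw) snd snd' ((yon S).map d) := by
    refine IsPullback.of_right ?_ (h'.lift_snd _ _ hw) h'
    rw [h'.lift_fst, ← Category.assoc, ← Functor.map_comp, hd, hc]
    exact h
  have hs : Function.Surjective d.left := by
    intro y
    have : Nonempty ↥(Spec (CommRingCat.of yb.K)) := inferInstance
    obtain ⟨x⟩ := this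
    exact ⟨x, Subsingleton.elim (α := ↥(Spec (V.left.residueField _))) _ _⟩
  have hsurj : Function.Surjective (Points.map (h'.lift _ _ hw)) :=
    Groth.Agent.Lib.AlgSpPoints.isSurjectiveMor_of_isPullback left.flip
      (Groth.Agent.Lib.AlgStLocQ.isSurjectiveMor_yon_map d hs)
  exact hsurj.connectedSpace (Points.continuous_map _)

/-- Abstract form of the converse: `σ : Spec k ⟶ S` a field point through which the geometric point
`yb` factors; if all finite separable base changes of the fibre over `Spec k` are connected, the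
geometric fibre is connected. -/
theorem connectedSpace_geometric_of_finite_levels {X Y : Sp S} (hX : IsAlgSpace X)
    (hY : IsAlgSpace Y) (f : X ⟶ Y) (yb : FieldPt Y) [IsSepClosed yb.K]
    {Xyb : Sp S} {fst : Xyb ⟶ X} {snd : Xyb ⟶ (yon S).obj yb.pt}
    (h : IsPullback fst snd f yb.toHom)
    {k : Type u} [Field k] (σ : Spec (CommRingCat.of k) ⟶ S) (m : (yon S).obj (Over.mk σ) ⟶ Y)
    (d₀ : yb.pt ⟶ Over.mk σ) (hd₀ : (yon S).map d₀ ≫ m = yb.toHom)
    (HL : ∀ (L : Type u) [Field L] [Algebra k L], Module.Finite k L → Algebra.IsSeparable k L →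
      ConnectedSpace (Points (bc (σ := σ) (pullback.snd f m) L))) :
    ConnectedSpace (Points Xyb) := by
  letI : Algebra k yb.K := (Spec.preimage d₀.left).hom.toAlgebra
  have hq : q (k := k) yb.K = d₀.left := by
    change Spec.map (CommRingCat.ofHom (Spec.preimage d₀.left).hom) = d₀.left
    rw [CommRingCat.ofHom_hom, Spec.map_preimage]
  have hZ : IsAlgSpace (pullback f m) :=
    Groth.Agent.Lib.AlgSpFibre.isAlgSpace_of_isPullback hY.diag hX (IsAlgSpace.yon_obj _)
      (IsPullback.of_hasPullback f m)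
  have hK := connectedSpace_bc_of_sepClosed (σ := σ) (pullback.snd f m) hZ yb.K HL
  -- the comparison morphism `Spec K ⟶ Spec K` over `S`
  have hε : 𝟙 (Spec (CommRingCat.of yb.K)) ≫ yb.pt.hom = (robj σ yb.K).hom := by
    rw [Category.id_comp]
    change yb.str = q (k := k) yb.K ≫ σ
    rw [hq]
    exact (Over.w d₀).symm
  let ε : robj σ yb.K ⟶ yb.pt := Over.homMk (𝟙 _) hε
  have hεd : ε ≫ d₀ = φk σ yb.K := by
    apply Over.OverMorphism.ext
    change 𝟙 _ ≫ d₀.left = q (k := k) yb.K
    rw [Category.id_comp, hq]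
  have sqbc := IsPullback.of_hasPullback (pullback.snd f m) ((yon S).map (φk σ yb.K))
  have sqZ := IsPullback.of_hasPullback f m
  have outer := sqbc.paste_horiz sqZ
  have hw : (pullback.fst (pullback.snd f m) ((yon S).map (φk σ yb.K)) ≫ pullback.fst f m) ≫ f =
      (pullback.snd (pullback.snd f m) ((yon S).map (φk σ yb.K)) ≫ (yon S).map ε) ≫ yb.toHom := by
    rw [outer.w, Category.assoc, ← hd₀, ← Category.assoc ((yon S).map ε), ← Functor.map_comp, hεd]
  have left : IsPullback (h.lift _ _ hw)
      (pullback.snd (pullback.snd f m) ((yon S).map (φk σ yb.K))) snd ((yon S).map ε) := by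
    refine IsPullback.of_right ?_ (h.lift_snd _ _ hw) h
    rw [h.lift_fst, ← hd₀, ← Category.assoc, ← Functor.map_comp, hεd]
    exact outer
  have hs : Function.Surjective ε.left := by
    intro y
    exact ⟨y, rfl⟩
  have hsurj : Function.Surjective (Points.map (h.lift _ _ hw)) :=
    Groth.Agent.Lib.AlgSpPoints.isSurjectiveMor_of_isPullback left.flip
      (Groth.Agent.Lib.AlgStLocQ.isSurjectiveMor_yon_map ε hs)
  exact hsurj.connectedSpace (Points.continuous_map _)

/-- Naturality of residue field points along a morphism `g` with `g u = s`. -/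
theorem specMap_residue_comp {U V : Scheme.{u}} (g : U ⟶ V) (u' : ↥U) (s : ↥V) (hu : g u' = s) :
    Spec.map ((V.residueFieldCongr hu).inv ≫ g.residueFieldMap u') ≫ V.fromSpecResidueField s =
      U.fromSpecResidueField u' ≫ g := by
  rw [Spec.map_comp, Category.assoc, Scheme.residueFieldCongr_inv,
    Scheme.residueFieldCongr_fromSpecResidueField,
    Scheme.Hom.SpecMap_residueFieldMap_fromSpecResidueField]

set_option maxHeartbeats 1600000 in
/-- The fibres over finite separable extensions of a residue field `κ(v₀)` are fibres over etale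
neighbourhoods. -/
theorem connectedSpace_bc_of_nbhds {X Y : Sp S} (f : X ⟶ Y) (yb : FieldPt Y) [IsAlgClosed yb.K]
    {V₀ : Over S} (v₀ : ↥V₀.left) (a₀ : (yon S).obj V₀ ⟶ Y) (ha₀ : RepWith @Etale a₀)
    (d₀ : yb.pt ⟶ resObj V₀ v₀)
    (hd₀ : (yon S).map d₀ ≫ ((yon S).map (resHom V₀ v₀) ≫ a₀) = yb.toHom)
    (H : ∀ (V : Over S) (a : (yon S).obj V ⟶ Y), RepWith @Etale a →
      ∀ (v : ↥V.left) (c : yb.pt ⟶ V), (yon S).map c ≫ a = yb.toHom →
        c.left (IsLocalRing.closedPoint yb.K) = v →
        ∀ (Xv : Sp S) (fst' : Xv ⟶ X) (snd' : Xv ⟶ (yon S).obj (resObj V v)),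
          IsPullback fst' snd' f ((yon S).map (resHom V v) ≫ a) → ConnectedSpace (Points Xv))
    (L : Type u) [Field L] [Algebra (V₀.left.residueField v₀) L]
    [FiniteDimensional (V₀.left.residueField v₀) L]
    [Algebra.IsSeparable (V₀.left.residueField v₀) L] :
    ConnectedSpace (Points (bc (k := V₀.left.residueField v₀)
      (σ := (V₀.left.fromSpecResidueField v₀ ≫ V₀.hom :
        Spec (CommRingCat.of (V₀.left.residueField v₀)) ⟶ S))
      (pullback.snd f ((yon S).map (resHom V₀ v₀) ≫ a₀)) L)) := by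
  obtain ⟨U', g, u', hu', hget, hε⟩ :=
    Groth.Agent.Lib.H80EtaleResidue.exists_etale_nbhd_residueField V₀.left v₀ L
  letI algU : Algebra (V₀.left.residueField v₀) (U'.residueField u') :=
    ((V₀.left.residueFieldCongr hu').inv ≫ g.residueFieldMap u').hom.toAlgebra
  obtain ⟨ε⟩ := hε
  -- the algebra structure on `yb.K`
  letI algK : Algebra (V₀.left.residueField v₀) yb.K := (Spec.preimage d₀.left).hom.toAlgebra
  have hq : q (k := V₀.left.residueField v₀) yb.K = d₀.left := by
    change Spec.map (CommRingCat.ofHom (Spec.preimage d₀.left).hom) = d₀.left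
    rw [CommRingCat.ofHom_hom, Spec.map_preimage]
  have E0 : q (k := V₀.left.residueField v₀) (U'.residueField u') ≫
      V₀.left.fromSpecResidueField v₀ = U'.fromSpecResidueField u' ≫ g :=
    specMap_residue_comp g u' v₀ hu'
  -- embedding of `L` into `yb.K`
  let ι : L →ₐ[V₀.left.residueField v₀] yb.K := IsAlgClosed.lift
  let j : U'.residueField u' →+* yb.K := ι.toRingHom.comp ε.symm.toAlgHom.toRingHom
  have hj : j.comp (algebraMap (V₀.left.residueField v₀) (U'.residueField u')) =
      algebraMap (V₀.left.residueField v₀) yb.K := by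
    ext x
    change ι (ε.symm (algebraMap _ _ x)) = _
    rw [ε.symm.commutes, ι.commutes]
  have hεc : ε.toAlgHom.toRingHom.comp (algebraMap (V₀.left.residueField v₀) L) =
      algebraMap (V₀.left.residueField v₀) (U'.residueField u') := by
    ext x
    exact ε.commutes x
  -- the etale neighbourhood
  let V' : Over S := Over.mk (g ≫ V₀.hom)
  let g' : V' ⟶ V₀ := Over.homMk g rfl
  have ha' : RepWith @Etale ((yon S).map g' ≫ a₀) :=
    (RepWith (S := S) @Etale).comp_mem _ _ ((repWith_yon_map_iff @Etale g').2 hget) ha₀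
  have hcg : (Spec.map (CommRingCat.ofHom j) ≫ U'.fromSpecResidueField u') ≫ g =
      d₀.left ≫ V₀.left.fromSpecResidueField v₀ := by
    rw [Category.assoc, ← E0, ← hq, ← Category.assoc]
    congr 1
    change Spec.map (CommRingCat.ofHom j) ≫ Spec.map (CommRingCat.ofHom (algebraMap _ _)) =
      Spec.map (CommRingCat.ofHom (algebraMap _ _))
    rw [← Spec.map_comp, ← CommRingCat.ofHom_comp, hj]
  have hc'w : (Spec.map (CommRingCat.ofHom j) ≫ U'.fromSpecResidueField u') ≫ V'.hom =
      yb.pt.hom := by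
    change _ ≫ g ≫ V₀.hom = _
    rw [← Category.assoc, hcg, Category.assoc]
    exact Over.w d₀
  let c' : yb.pt ⟶ V' := Over.homMk (Spec.map (CommRingCat.ofHom j) ≫ U'.fromSpecResidueField u') hc'w
  have hc'g : c' ≫ g' = d₀ ≫ resHom V₀ v₀ := by
    apply Over.OverMorphism.ext
    exact hcg
  have hc' : (yon S).map c' ≫ ((yon S).map g' ≫ a₀) = yb.toHom := by
    rw [← Category.assoc, ← Functor.map_comp, hc'g, Functor.map_comp, Category.assoc, hd₀]
  have hpt : c'.left (IsLocalRing.closedPoint yb.K) = u' := by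
    change (Spec.map (CommRingCat.ofHom j) ≫ U'.fromSpecResidueField u') _ = u'
    rw [Scheme.Hom.comp_apply, Scheme.fromSpecResidueField_apply]
  have hconn := H V' ((yon S).map g' ≫ a₀) ha' u' c' hc' hpt _ _ _
    (IsPullback.of_hasPullback f ((yon S).map (resHom V' u') ≫ ((yon S).map g' ≫ a₀)))
  -- comparison `Spec κ(u') ⟶ Spec L` over `S`
  have hθq : Spec.map (CommRingCat.ofHom ε.toAlgHom.toRingHom) ≫
      q (k := V₀.left.residueField v₀) L = q (k := V₀.left.residueField v₀) (U'.residueField u') := by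
    change Spec.map _ ≫ Spec.map (CommRingCat.ofHom (algebraMap _ _)) =
      Spec.map (CommRingCat.ofHom (algebraMap _ _))
    rw [← Spec.map_comp, ← CommRingCat.ofHom_comp, hεc]
  have hθw : Spec.map (CommRingCat.ofHom ε.toAlgHom.toRingHom) ≫
      (robj (k := V₀.left.residueField v₀) (V₀.left.fromSpecResidueField v₀ ≫ V₀.hom) L).hom =
      (resObj V' u').hom := by
    change Spec.map _ ≫ q (k := V₀.left.residueField v₀) L ≫
      V₀.left.fromSpecResidueField v₀ ≫ V₀.hom = U'.fromSpecResidueField u' ≫ g ≫ V₀.hom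
    rw [← Category.assoc, hθq, ← Category.assoc, E0, Category.assoc]
  let θ : resObj V' u' ⟶
      robj (k := V₀.left.residueField v₀) (V₀.left.fromSpecResidueField v₀ ≫ V₀.hom) L :=
    Over.homMk (Spec.map (CommRingCat.ofHom ε.toAlgHom.toRingHom)) hθw
  have hθ : θ ≫ φk (k := V₀.left.residueField v₀) (V₀.left.fromSpecResidueField v₀ ≫ V₀.hom) L ≫
      resHom V₀ v₀ = resHom V' u' ≫ g' := by
    apply Over.OverMorphism.ext
    change Spec.map _ ≫ q (k := V₀.left.residueField v₀) L ≫ V₀.left.fromSpecResidueField v₀ =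
      U'.fromSpecResidueField u' ≫ g
    have h1 := congrArg (fun t => t ≫ V₀.left.fromSpecResidueField v₀) hθq
    rw [← Category.assoc]
    exact h1.trans E0
  -- the fibre over `L` as a pullback of `f`
  have sqbc := IsPullback.of_hasPullback (pullback.snd f ((yon S).map (resHom V₀ v₀) ≫ a₀))
    ((yon S).map (φk (k := V₀.left.residueField v₀) (V₀.left.fromSpecResidueField v₀ ≫ V₀.hom) L))
  have sqZ := IsPullback.of_hasPullback f ((yon S).map (resHom V₀ v₀) ≫ a₀)
  have outer := sqbc.paste_horiz sqZ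
  have sqv := IsPullback.of_hasPullback f ((yon S).map (resHom V' u') ≫ ((yon S).map g' ≫ a₀))
  have hbot : (yon S).map θ ≫ ((yon S).map (φk (k := V₀.left.residueField v₀)
      (V₀.left.fromSpecResidueField v₀ ≫ V₀.hom) L) ≫ ((yon S).map (resHom V₀ v₀) ≫ a₀)) =
      (yon S).map (resHom V' u') ≫ ((yon S).map g' ≫ a₀) := by
    rw [← Category.assoc, ← Category.assoc, ← Functor.map_comp, ← Functor.map_comp,
      Category.assoc, hθ, Functor.map_comp, Category.assoc]
  have hw : pullback.fst f ((yon S).map (resHom V' u') ≫ ((yon S).map g' ≫ a₀)) ≫ f =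
      (pullback.snd f ((yon S).map (resHom V' u') ≫ ((yon S).map g' ≫ a₀)) ≫ (yon S).map θ) ≫
        ((yon S).map (φk (k := V₀.left.residueField v₀)
          (V₀.left.fromSpecResidueField v₀ ≫ V₀.hom) L) ≫ ((yon S).map (resHom V₀ v₀) ≫ a₀)) := by
    rw [Category.assoc, hbot]
    exact sqv.w
  have left : IsPullback (outer.lift _ _ hw)
      (pullback.snd f ((yon S).map (resHom V' u') ≫ ((yon S).map g' ≫ a₀)))
      (pullback.snd (pullback.snd f ((yon S).map (resHom V₀ v₀) ≫ a₀))
        ((yon S).map (φk (k := V₀.left.residueField v₀)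
          (V₀.left.fromSpecResidueField v₀ ≫ V₀.hom) L))) ((yon S).map θ) := by
    refine IsPullback.of_right ?_ (outer.lift_snd _ _ hw) outer
    rw [outer.lift_fst, hbot]
    exact sqv
  have hs : Function.Surjective θ.left := by
    intro y
    have : Nonempty ↥(Spec (U'.residueField u')) := inferInstance
    obtain ⟨x⟩ := this
    exact ⟨x, Subsingleton.elim (α := ↥(Spec (CommRingCat.of L))) _ _⟩
  have hsurj : Function.Surjective (Points.map (outer.lift _ _ hw)) :=
    Groth.Agent.Lib.AlgSpPoints.isSurjectiveMor_of_isPullback left.flip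
      (Groth.Agent.Lib.AlgStLocQ.isSurjectiveMor_yon_map θ hs)
  exact hsurj.connectedSpace (Points.continuous_map _)

/-- If the fibres over all etale neighbourhoods of a geometric point are connected, so is the
geometric fibre. -/
theorem connectedSpace_geometric_of_nbhds {X Y : Sp S} (hX : IsAlgSpace X) (hY : IsAlgSpace Y)
    (f : X ⟶ Y) (yb : FieldPt Y) (hyb : yb.IsGeometric)
    {Xyb : Sp S} {fst : Xyb ⟶ X} {snd : Xyb ⟶ (yon S).obj yb.pt}
    (h : IsPullback fst snd f yb.toHom)
    (H : ∀ (V : Over S) (a : (yon S).obj V ⟶ Y), RepWith @Etale a →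
      ∀ (v : ↥V.left) (c : yb.pt ⟶ V), (yon S).map c ≫ a = yb.toHom →
        c.left (IsLocalRing.closedPoint yb.K) = v →
        ∀ (Xv : Sp S) (fst' : Xv ⟶ X) (snd' : Xv ⟶ (yon S).obj (resObj V v)),
          IsPullback fst' snd' f ((yon S).map (resHom V v) ≫ a) → ConnectedSpace (Points Xv)) :
    ConnectedSpace (Points Xyb) := by
  haveI : IsAlgClosed yb.K := hyb
  obtain ⟨V₀, a₀, hae, has⟩ := hY.atlas
  obtain ⟨v₀', hv₀⟩ := Groth.Agent.Lib.AlgSpQC.surjective_ofPt_of_repWith_surjective has
    (Points.mk yb)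
  obtain ⟨c₀, hc₀, -⟩ :=
    Groth.Agent.Lib.H86GeomPt.exists_lift_of_isGeometric yb hyb a₀ hae v₀' hv₀
  obtain ⟨d₀, hd₀⟩ := exists_factor_resHom (τ := yb.str) c₀
  have hd₀' : (yon S).map d₀ ≫ ((yon S).map
      (resHom V₀ (c₀.left (IsLocalRing.closedPoint yb.K))) ≫ a₀) = yb.toHom := by
    rw [← Category.assoc, ← Functor.map_comp, hd₀, hc₀]
  refine connectedSpace_geometric_of_finite_levels hX hY f yb h
    (k := V₀.left.residueField (c₀.left (IsLocalRing.closedPoint yb.K)))
    (V₀.left.fromSpecResidueField (c₀.left (IsLocalRing.closedPoint yb.K)) ≫ V₀.hom)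
    ((yon S).map (resHom V₀ (c₀.left (IsLocalRing.closedPoint yb.K))) ≫ a₀) d₀ hd₀' ?_
  intro L _ _ hfin hsep
  exact connectedSpace_bc_of_nbhds f yb _ a₀ hae d₀ hd₀' H L

end Groth.Agent.Lib.GeomConnNbhd91
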