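import Groth.Agent.Lib.GeomConn91b
import Groth.Agent.Lib.GeomConnFibre91

/-!
# Relative version: base change of an algebraic space over `Spec k ⟶ S` along field extensions
(helper91)
-/

set_option autoImplicit false
set_option maxHeartbeats 400000
universe u

open CategoryTheory CategoryTheory.Limits AlgebraicGeometry Opposite

namespace Groth.Agent.Lib.GeomConnRel91

open AlgSp Groth.Agent.Lib.H71FinSepConn

variable {S : Scheme.{u}} {k : Type u} [Field k] (σ : Spec (CommRingCat.of k) ⟶ S)

/-- `Spec L` over `S` through `Spec k`. -/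
noncomputable abbrev robj (L : Type u) [Field L] [Algebra k L] : Over S :=
  Over.mk (q (k := k) L ≫ σ)

/-- `Spec L ⟶ Spec k` over `S`. -/
noncomputable def φk (L : Type u) [Field L] [Algebra k L] : robj σ L ⟶ Over.mk σ :=
  Over.homMk (q L) rfl

/-- `Spec K ⟶ Spec L` over `S`. -/
noncomputable def ψ (K : Type u) [Field K] [Algebra k K] (L : IntermediateField k K) :
    robj σ K ⟶ robj (k := k) σ L :=
  Over.homMk (r K L) (by
    change r K L ≫ q (k := k) L ≫ σ = q K ≫ σ
    rw [← Category.assoc, r_q])

theorem ψ_φk (K : Type u) [Field K] [Algebra k K] (L : IntermediateField k K) :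
    ψ σ K L ≫ φk (k := k) σ L = φk σ K := by
  apply Over.OverMorphism.ext
  exact r_q K L

section Charts

variable {σ}
variable {U : Over S} (u : U ⟶ Over.mk σ)

/-- The scheme `U_L = U ×_k L` over `S`. -/
noncomputable abbrev wobj (L : Type u) [Field L] [Algebra k L] : Over S :=
  Over.mk (pullback.snd u.left (q (k := k) L) ≫ q L ≫ σ)

noncomputable def wfst (L : Type u) [Field L] [Algebra k L] : wobj u L ⟶ U :=
  Over.homMk (pullback.fst u.left (q (k := k) L)) (by
    have hu : u.left ≫ σ = U.hom := Over.w u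
    change pullback.fst u.left (q (k := k) L) ≫ U.hom = pullback.snd u.left (q L) ≫ q L ≫ σ
    rw [← hu, ← Category.assoc, pullback.condition, Category.assoc])

noncomputable def wsnd (L : Type u) [Field L] [Algebra k L] : wobj u L ⟶ robj σ L :=
  Over.homMk (pullback.snd u.left (q (k := k) L)) rfl

theorem isPullback_w (L : Type u) [Field L] [Algebra k L] :
    IsPullback (wfst u L) (wsnd u L) u (φk σ L) := by
  apply IsPullback.of_map_of_faithful (Over.forget S)
  exact IsPullback.of_hasPullback u.left (q (k := k) L)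

/-- `U_K ⟶ U_L` over `S`. -/
noncomputable def wρ (K : Type u) [Field K] [Algebra k K] (L : IntermediateField k K) :
    wobj u K ⟶ wobj (k := k) u L :=
  Over.homMk (ρ K L u.left) (by
    change ρ K L u.left ≫ pullback.snd u.left (q (k := k) L) ≫ q L ≫ σ =
      pullback.snd u.left (q K) ≫ q K ≫ σ
    rw [← Category.assoc, ρ_snd, Category.assoc, ← Category.assoc (r K L), r_q])

theorem wρ_wfst (K : Type u) [Field K] [Algebra k K] (L : IntermediateField k K) :
    wρ u K L ≫ wfst (k := k) u L = wfst u K := by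
  apply Over.OverMorphism.ext
  exact ρ_fst K L u.left

theorem wρ_wsnd (K : Type u) [Field K] [Algebra k K] (L : IntermediateField k K) :
    wρ u K L ≫ wsnd (k := k) u L = wsnd u K ≫ ψ σ K L := by
  apply Over.OverMorphism.ext
  exact ρ_snd K L u.left

end Charts

section Sheaf

variable {σ}
variable {Z : Sp S} (q₀ : Z ⟶ (yon S).obj (Over.mk σ))

/-- The base change `Z_L = Z ×_k L`. -/
noncomputable abbrev bc (L : Type u) [Field L] [Algebra k L] : Sp S :=
  pullback q₀ ((yon S).map (φk σ L))

/-- `Z_K ⟶ Z_L`. -/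
noncomputable def bcMap (K : Type u) [Field K] [Algebra k K] (L : IntermediateField k K) :
    bc q₀ K ⟶ bc (k := k) q₀ L :=
  pullback.lift (pullback.fst _ _) (pullback.snd _ _ ≫ (yon S).map (ψ σ K L)) (by
    rw [Category.assoc, ← Functor.map_comp, ψ_φk, pullback.condition])

theorem bcMap_fst (K : Type u) [Field K] [Algebra k K] (L : IntermediateField k K) :
    bcMap q₀ K L ≫ pullback.fst q₀ ((yon S).map (φk (k := k) σ L)) =
      pullback.fst q₀ ((yon S).map (φk σ K)) :=
  pullback.lift_fst _ _ _

theorem bcMap_snd (K : Type u) [Field K] [Algebra k K] (L : IntermediateField k K) :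
    bcMap q₀ K L ≫ pullback.snd q₀ ((yon S).map (φk (k := k) σ L)) =
      pullback.snd q₀ ((yon S).map (φk σ K)) ≫ (yon S).map (ψ σ K L) :=
  pullback.lift_snd _ _ _

theorem isPullback_bcMap (K : Type u) [Field K] [Algebra k K] (L : IntermediateField k K) :
    IsPullback (pullback.snd q₀ ((yon S).map (φk σ K))) (bcMap q₀ K L)
      ((yon S).map (ψ σ K L)) (pullback.snd q₀ ((yon S).map (φk (k := k) σ L))) := by
  have right := IsPullback.of_hasPullback q₀ ((yon S).map (φk (k := k) σ L))
  have outer : IsPullback (bcMap q₀ K L ≫ pullback.fst q₀ ((yon S).map (φk (k := k) σ L)))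
      (pullback.snd q₀ ((yon S).map (φk σ K))) q₀
      ((yon S).map (ψ σ K L) ≫ (yon S).map (φk (k := k) σ L)) := by
    rw [bcMap_fst, ← Functor.map_comp, ψ_φk]
    exact IsPullback.of_hasPullback q₀ ((yon S).map (φk σ K))
  exact (IsPullback.of_right outer (bcMap_snd q₀ K L) right).flip

variable {U : Over S} (a : (yon S).obj U ⟶ Z) (u : U ⟶ Over.mk σ)
  (hu : a ≫ q₀ = (yon S).map u)

/-- The chart `h_{U_L} ⟶ Z_L`. -/
noncomputable def chart (L : Type u) [Field L] [Algebra k L] :
    (yon S).obj (wobj u L) ⟶ bc q₀ L :=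
  pullback.lift ((yon S).map (wfst u L) ≫ a) ((yon S).map (wsnd u L)) (by
    rw [Category.assoc, hu, ← Functor.map_comp, ← Functor.map_comp, (isPullback_w u L).w])

theorem chart_fst (L : Type u) [Field L] [Algebra k L] :
    chart q₀ a u hu L ≫ pullback.fst q₀ ((yon S).map (φk σ L)) = (yon S).map (wfst u L) ≫ a :=
  pullback.lift_fst _ _ _

theorem chart_snd (L : Type u) [Field L] [Algebra k L] :
    chart q₀ a u hu L ≫ pullback.snd q₀ ((yon S).map (φk σ L)) = (yon S).map (wsnd u L) :=
  pullback.lift_snd _ _ _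

theorem isPullback_chart (L : Type u) [Field L] [Algebra k L] :
    IsPullback (chart q₀ a u hu L) ((yon S).map (wfst u L))
      (pullback.fst q₀ ((yon S).map (φk σ L))) a := by
  have right := (IsPullback.of_hasPullback q₀ ((yon S).map (φk (k := k) σ L))).flip
  have outer : IsPullback (chart q₀ a u hu L ≫ pullback.snd q₀ ((yon S).map (φk σ L)))
      ((yon S).map (wfst u L)) ((yon S).map (φk σ L)) (a ≫ q₀) := by
    rw [chart_snd, hu]
    exact ((isPullback_w u L).map (yon S)).flip
  exact IsPullback.of_right outer (chart_fst q₀ a u hu L) right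

theorem isPullback_chart_map (K : Type u) [Field K] [Algebra k K] (L : IntermediateField k K) :
    IsPullback (chart q₀ a u hu K) ((yon S).map (wρ u K L)) (bcMap q₀ K L)
      (chart (k := k) q₀ a u hu L) := by
  refine IsPullback.of_bot ?_ ?_ (isPullback_chart q₀ a u hu L)
  · rw [← Functor.map_comp, wρ_wfst, bcMap_fst]
    exact isPullback_chart q₀ a u hu K
  · apply pullback.hom_ext
    · rw [Category.assoc, bcMap_fst, chart_fst, Category.assoc, chart_fst,
        ← Functor.map_comp_assoc, wρ_wfst]
    · rw [Category.assoc, bcMap_snd, ← Category.assoc, chart_snd, Category.assoc, chart_snd,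
        ← Functor.map_comp, ← Functor.map_comp, wρ_wsnd]

theorem repWith_etale_chart (ha : RepWith @Etale a) (L : Type u) [Field L] [Algebra k L] :
    RepWith @Etale (chart q₀ a u hu L) :=
  (RepWith (S := S) @Etale).of_isPullback (isPullback_chart q₀ a u hu L).flip ha

theorem repWith_surjective_chart (ha : RepWith @Surjective a) (L : Type u) [Field L]
    [Algebra k L] : RepWith @Surjective (chart q₀ a u hu L) :=
  (RepWith (S := S) @Surjective).of_isPullback (isPullback_chart q₀ a u hu L).flip ha

end Sheaf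

section Main

variable {σ}
variable {Z : Sp S} (q₀ : Z ⟶ (yon S).obj (Over.mk σ))
variable (K : Type u) [Field K] [Algebra k K]

theorem surjective_map_bcMap (L : IntermediateField k K) :
    Function.Surjective (Points.map (bcMap q₀ K L)) := by
  have hs : Function.Surjective (ψ σ K L).left := by
    intro y
    have : Nonempty ↥(Spec (CommRingCat.of K)) := inferInstance
    obtain ⟨x⟩ := this
    exact ⟨x, Subsingleton.elim (α := ↥(Spec (CommRingCat.of L))) _ _⟩
  exact Groth.Agent.Lib.AlgSpPoints.isSurjectiveMor_of_isPullback (isPullback_bcMap q₀ K L)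
    (Groth.Agent.Lib.AlgStLocQ.isSurjectiveMor_yon_map (ψ σ K L) hs)

variable [Algebra.IsAlgebraic k K]

theorem isClosedMap_map_bcMap (hZ : IsAlgSpace Z) (L : IntermediateField k K) :
    IsClosedMap (Points.map (bcMap q₀ K L)) := by
  obtain ⟨U, a, hae, has⟩ := hZ.atlas
  obtain ⟨u, hu⟩ := (yon S).map_surjective (a ≫ q₀)
  exact Groth.Agent.Lib.AlgSpPoints.isClosedMap_of_isPullback_of_isQuotientMap
    (isPullback_chart_map q₀ a u hu.symm K L)
    (Groth.Agent.Lib.AlgSpDescent.isQuotientMap_map_of_etale_surjective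
      (repWith_etale_chart q₀ a u hu.symm hae _) (repWith_surjective_chart q₀ a u hu.symm has _))
    ((Groth.Agent.Lib.AlgSpPoints.isClosedMap_map_yon_map_iff _).2 (ρ_isClosedMap K L u.left))

theorem isOpenMap_map_bcMap (hZ : IsAlgSpace Z) (L : IntermediateField k K) :
    IsOpenMap (Points.map (bcMap q₀ K L)) := by
  obtain ⟨U, a, hae, has⟩ := hZ.atlas
  obtain ⟨u, hu⟩ := (yon S).map_surjective (a ≫ q₀)
  exact Groth.Agent.Lib.AlgSpPoints.isOpenMap_of_isPullback_of_isQuotientMap
    (isPullback_chart_map q₀ a u hu.symm K L)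
    (Groth.Agent.Lib.AlgSpDescent.isQuotientMap_map_of_etale_surjective
      (repWith_etale_chart q₀ a u hu.symm hae _) (repWith_surjective_chart q₀ a u hu.symm has _))
    ((Groth.Agent.Lib.AlgSpPoints.isOpenMap_map_yon_map_iff _).2 (ρ_isOpenMap K L u.left))

/-- If `Z_L` is connected for all finite subextensions `L` of an algebraic extension `K/k`, then
`Z_K` is connected (relative version). -/
theorem connectedSpace_of_forall_finiteDimensional (hZ : IsAlgSpace Z)
    (h : ∀ L : IntermediateField k K, FiniteDimensional k L →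
      ConnectedSpace (Points (bc (k := k) q₀ L))) :
    ConnectedSpace (Points (bc q₀ K)) := by
  rw [connectedSpace_iff_clopen]
  constructor
  · have h0 := h ⊥ inferInstance
    obtain ⟨t⟩ := h0.toNonempty
    obtain ⟨v, -⟩ := surjective_map_bcMap q₀ K ⊥ t
    exact ⟨v⟩
  · intro s hs
    by_contra hcon
    rw [not_or] at hcon
    obtain ⟨hne, hnu⟩ := hcon
    obtain ⟨xb, hxb⟩ : s.Nonempty := Set.nonempty_iff_ne_empty.mpr hne
    have hsc_ne : sᶜ.Nonempty := Set.nonempty_compl.mpr hnu
    obtain ⟨U, a, hae, has⟩ := hZ.atlas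
    obtain ⟨u, hu0⟩ := (yon S).map_surjective (a ≫ q₀)
    have hu := hu0.symm
    obtain ⟨ub, hub⟩ := Groth.Agent.Lib.AlgSpQC.surjective_ofPt_of_repWith_surjective
      (repWith_surjective_chart q₀ a u hu has K) xb
    have hs0 : IsClopen (Points.ofPt (chart q₀ a u hu K) ⁻¹' s) :=
      hs.preimage (Points.continuous_ofPt _)
    obtain ⟨φ, hφ⟩ := Spec.map_surjective
      (U.left.fromSpecResidueField (pullback.fst u.left (q (k := k) K) ub) ≫ u.left)
    letI : Algebra k (U.left.residueField (pullback.fst u.left (q (k := k) K) ub)) :=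
      φ.hom.toAlgebra
    have hf' : U.left.fromSpecResidueField (pullback.fst u.left (q (k := k) K) ub) ≫ u.left =
        q (k := k) (U.left.residueField (pullback.fst u.left (q (k := k) K) ub)) := hφ.symm
    obtain ⟨L, hL, hkey⟩ := exists_finite_level K u.left (pullback.fst u.left (q (k := k) K) ub)
      (U.left.residueField (pullback.fst u.left (q (k := k) K) ub))
      (U.left.fromSpecResidueField (pullback.fst u.left (q (k := k) K) ub))
      (IsLocalRing.closedPoint _) (Scheme.fromSpecResidueField_apply _ _) hf' _ hs0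
    have hXL := h L hL
    have h2 : Points.map (bcMap q₀ K L) '' sᶜ = Set.univ :=
      (isClopen_iff.mp ⟨isClosedMap_map_bcMap q₀ K hZ L _ hs.compl.1,
        isOpenMap_map_bcMap q₀ K hZ L _ hs.compl.2⟩).resolve_left (hsc_ne.image _).ne_empty
    obtain ⟨yb, hyb, hyx⟩ : Points.map (bcMap q₀ K L) xb ∈ Points.map (bcMap q₀ K L) '' sᶜ :=
      h2 ▸ Set.mem_univ _
    have sq := isPullback_chart_map q₀ a u hu K L
    have hyx' : Points.map (bcMap q₀ K L) yb =
        Points.ofPt (chart (k := k) q₀ a u hu L) ((wρ u K L).left ub) := by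
      rw [hyx, ← hub, Points.map_ofPt, sq.w, Groth.Agent.Lib.AlgSpPoints.ofPt_yon_map_comp]
    obtain ⟨vb, hvb1, hvb2⟩ := Groth.Agent.Lib.AlgSpPoints.exists_of_isPullback_yon sq yb _ hyx'
    have hfst : pullback.fst u.left (q (k := k) K) vb = pullback.fst u.left (q (k := k) K) ub := by
      have e1 := congrArg (fun m => m.base vb) (ρ_fst K L u.left)
      have e2 := congrArg (fun m => m.base ub) (ρ_fst K L u.left)
      simp only [Scheme.Hom.comp_base, TopCat.hom_comp, ContinuousMap.comp_apply] at e1 e2
      erw [← e1, ← e2]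
      exact congrArg _ hvb1
    have := hkey ub vb rfl hfst hvb1.symm (by rw [Set.mem_preimage, hub]; exact hxb)
    rw [Set.mem_preimage, hvb2] at this
    exact hyb this

end Main

end Groth.Agent.Lib.GeomConnRel91
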