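import Groth.Agent.Lib.GeomConnRel91a
import Mathlib.FieldTheory.IsSepClosed

/-!
# Relative version, II: base change to a separably closed field (helper91)
-/

set_option autoImplicit false
set_option maxHeartbeats 400000
universe u

open CategoryTheory CategoryTheory.Limits AlgebraicGeometry Opposite

namespace Groth.Agent.Lib.GeomConnRel91

open AlgSp Groth.Agent.Lib.H71FinSepConn Groth.Agent.Lib.GeomConn91a

variable {S : Scheme.{u}} {k : Type u} [Field k] {σ : Spec (CommRingCat.of k) ⟶ S}
variable {Z : Sp S} (q₀ : Z ⟶ (yon S).obj (Over.mk σ))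

/-- If `Z_L` is connected for all finite separable `L/k`, then `Z_K` is connected for every
separably closed extension `K` of `k`. -/
theorem connectedSpace_bc_of_sepClosed (hZ : IsAlgSpace Z) (K : Type u) [Field K] [Algebra k K]
    [IsSepClosed K]
    (h : ∀ (L : Type u) [Field L] [Algebra k L], Module.Finite k L → Algebra.IsSeparable k L →
      ConnectedSpace (Points (bc q₀ L))) :
    ConnectedSpace (Points (bc q₀ K)) := by
  let K₁ : IntermediateField k K := separableClosure k K
  have hsc : IsSepClosed K₁ := (separableClosure.isSepClosure (F := k) (E := K)).sep_closed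
  have hK₁ : ConnectedSpace (Points (bc (k := k) q₀ K₁)) := by
    apply connectedSpace_of_forall_finiteDimensional q₀ K₁ hZ
    intro L hL
    have : Algebra.IsSeparable k L := Algebra.isSeparable_tower_bot_of_isSeparable k L K₁
    exact h L hL this
  have hZ₁ : IsAlgSpace (bc (k := k) q₀ K₁) :=
    Groth.Agent.Lib.AlgSpFibre.isAlgSpace_of_isPullback (IsAlgSpace.yon_obj _).diag hZ
      (IsAlgSpace.yon_obj _) (IsPullback.of_hasPullback _ _)
  have hcs : ConnectedSpace ↥(robj σ K).left := by
    change ConnectedSpace ↥(Spec (CommRingCat.of K)); infer_instance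
  have hg : GeometricallyConnected (ψ σ K K₁).left :=
    Groth.Agent.Lib.H71SepClosedGeom.geometricallyConnected_of_connectedSpace (k := K₁)
      (ψ σ K K₁).left
  have hb := bijective_of_isPullback_field (q (k := k) K₁ ≫ σ) (ψ σ K K₁) hZ₁
    (isPullback_bcMap q₀ K K₁)
  exact connectedSpace_of_bijective _ hb

end Groth.Agent.Lib.GeomConnRel91
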