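import Mathlib.AlgebraicGeometry.Fiber
import Mathlib.AlgebraicGeometry.Geometrically.Basic
import Mathlib.AlgebraicGeometry.Morphisms.UnderlyingMap
import Mathlib.AlgebraicGeometry.PullbackCarrier
import Mathlib.RingTheory.TensorProduct.Basic
import Mathlib.RingTheory.Ideal.Quotient.Basic

/-!
# Descent of geometric properties along field extensions

If `P` is a property of schemes which passes to images under surjective morphisms (for example,
irreducibility or connectedness of the underlying space), and if a base change of `f : X ⟶ Spec k`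
to an extension field `k'` is geometrically `P`, then `f` itself is geometrically `P`.
-/

set_option autoImplicit false
universe u

open CategoryTheory CategoryTheory.Limits AlgebraicGeometry

namespace Groth.Agent.Lib.GeomDescentH7

/-- Two field extensions of a field admit a common field extension. -/
theorem exists_compositum {k K k' : Type u} [Field k] [Field K] [Field k'] (ψ : k →+* K)
    (φ : k →+* k') :
    ∃ (L : Type u) (_ : Field L) (a : K →+* L) (b : k' →+* L), a.comp ψ = b.comp φ := by
  algebraize [ψ, φ]
  obtain ⟨𝔫, h𝔫⟩ := Ideal.exists_maximal (TensorProduct k K k')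
  let _ : Field (TensorProduct k K k' ⧸ 𝔫) := Ideal.Quotient.field 𝔫
  refine ⟨TensorProduct k K k' ⧸ 𝔫, inferInstance,
    (Ideal.Quotient.mk 𝔫).comp Algebra.TensorProduct.includeLeftRingHom,
    (Ideal.Quotient.mk 𝔫).comp (Algebra.TensorProduct.includeRight : k' →ₐ[k] _).toRingHom, ?_⟩
  ext x
  simp only [RingHom.comp_apply]
  congr 1
  have h1 : ψ x = algebraMap k K x := rfl
  have h2 : φ x = algebraMap k k' x := rfl
  rw [h1, h2]
  simp [Algebra.TensorProduct.includeLeftRingHom, Algebra.algebraMap_eq_smul_one]

/-- Descent of `geometrically P` along a field extension, for properties `P` that pass to images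
under surjective morphisms. -/
theorem geometrically_of_isPullback (P : ObjectProperty Scheme.{u})
    (hP : ∀ {Z W : Scheme.{u}} (h : Z ⟶ W), Surjective h → P Z → P W)
    {X X' : Scheme.{u}} {k k' : Type u} [Field k] [Field k']
    {f : X ⟶ Spec (.of k)} {f' : X' ⟶ Spec (.of k')} {φ : k →+* k'} {p : X' ⟶ X}
    (h : IsPullback p f' f (Spec.map (CommRingCat.ofHom φ))) (hf' : geometrically P f') :
    geometrically P f := by
  intro K _ y Z fst snd hZ
  obtain ⟨ψ, rfl⟩ := Spec.map_surjective y
  obtain ⟨L, _, a, b, hab⟩ := exists_compositum ψ.hom φ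
  have hab' : Spec.map (CommRingCat.ofHom b) ≫ Spec.map (CommRingCat.ofHom φ) =
      Spec.map (CommRingCat.ofHom a) ≫ Spec.map ψ := by
    rw [← Spec.map_comp, ← Spec.map_comp]
    congr 1
    ext x
    exact (RingHom.congr_fun hab x).symm
  have hW : P (pullback f' (Spec.map (CommRingCat.ofHom b))) :=
    pullback_of_geometrically hf' L (Spec.map (CommRingCat.ofHom b))
  -- the big rectangle
  have hbig : IsPullback (pullback.fst f' (Spec.map (CommRingCat.ofHom b)) ≫ p)
      (pullback.snd f' (Spec.map (CommRingCat.ofHom b))) f
      (Spec.map (CommRingCat.ofHom a) ≫ Spec.map ψ) := by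
    rw [← hab']
    exact (IsPullback.of_hasPullback f' (Spec.map (CommRingCat.ofHom b))).paste_horiz h
  let q : pullback f' (Spec.map (CommRingCat.ofHom b)) ⟶ Z :=
    hZ.lift (pullback.fst _ _ ≫ p) (pullback.snd _ _ ≫ Spec.map (CommRingCat.ofHom a))
      (by rw [Category.assoc, Category.assoc]; exact hbig.w)
  have hq : IsPullback q (pullback.snd f' (Spec.map (CommRingCat.ofHom b))) snd
      (Spec.map (CommRingCat.ofHom a)) := by
    refine IsPullback.of_right ?_ (hZ.lift_snd _ _ _) hZ
    rw [hZ.lift_fst]
    exact hbig
  have hsurj : Surjective (Spec.map (CommRingCat.ofHom a)) := inferInstance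
  have hqs : Surjective q :=
    MorphismProperty.of_isPullback (P := @Surjective) hq.flip hsurj
  exact hP q hqs hW

end Groth.Agent.Lib.GeomDescentH7
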