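import Groth.Prelude.Def_MoreMor
import Groth.Agent.Lib.H71SepClosedGeom
import Mathlib.AlgebraicGeometry.Geometrically.Irreducible
import Mathlib.AlgebraicGeometry.Geometrically.Connected
import Mathlib.AlgebraicGeometry.Fiber

/-!
# Geometric fibres and base change (helper13)

For a cartesian square `X' = X ×_Y Y'` and `y' : Y'`, the geometric fibre `MoreMor.geomFiber f' y'`
is the base change of `MoreMor.geomFiber f (g y')` along an extension of separably closed fields
(`exists_isPullback_geomFiber`).  Consequently the two geometric fibres have the same number of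
irreducible components and of connected components.
-/

set_option autoImplicit false
universe u

open CategoryTheory CategoryTheory.Limits AlgebraicGeometry

namespace Groth.Agent.Lib.GeomFibBC13

theorem isPullback_congr {C : Type*} [Category C] {P A B D : C} {a a' : P ⟶ A} {b : P ⟶ B}
    {c : A ⟶ D} {d d' : B ⟶ D} (e : a' = a) (e' : d' = d) (h : IsPullback a b c d) :
    IsPullback a' b c d' := by
  subst e e'; exact h

variable {X Y X' Y' : Scheme.{u}}

/-- The geometric fibre of a base change is the base change of the geometric fibre along an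
extension of separable closures of the residue fields. -/
theorem exists_isPullback_geomFiber {f : X ⟶ Y} {f' : X' ⟶ Y'} {g' : X' ⟶ X} {g : Y' ⟶ Y}
    (hc : IsPullback g' f' f g) (y' : Y') :
    ∃ (φ : SeparableClosure (Y.residueField (g y')) →+* SeparableClosure (Y'.residueField y'))
      (p : MoreMor.geomFiber f' y' ⟶ MoreMor.geomFiber f (g y')),
      IsPullback p
        (pullback.snd (f'.fiberToSpecResidueField y') (Spec.map (CommRingCat.ofHom
          (algebraMap (Y'.residueField y') (SeparableClosure (Y'.residueField y'))))))
        (pullback.snd (f.fiberToSpecResidueField (g y')) (Spec.map (CommRingCat.ofHom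
          (algebraMap (Y.residueField (g y')) (SeparableClosure (Y.residueField (g y')))))))
        (Spec.map (CommRingCat.ofHom φ)) := by
  let κ₁ := Y.residueField (g y')
  let κ₂ := Y'.residueField y'
  let k₁ := SeparableClosure κ₁
  let k₂ := SeparableClosure κ₂
  let r : κ₁ →+* κ₂ := (g.residueFieldMap y').hom
  let _ : Algebra κ₁ k₂ := ((algebraMap κ₂ k₂).comp r).toAlgebra
  let φ' : k₁ →ₐ[κ₁] k₂ := IsSepClosed.lift
  let φ : k₁ →+* k₂ := φ'.toRingHom
  have hφ : φ.comp (algebraMap κ₁ k₁) = (algebraMap κ₂ k₂).comp r :=
    RingHom.ext fun x => φ'.commutes x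
  -- the three squares
  have hB := isPullback_fiberToSpecResidueField_of_isPullback hc y'
  have hA := IsPullback.of_hasPullback (f'.fiberToSpecResidueField y')
    (Spec.map (CommRingCat.ofHom (algebraMap κ₂ k₂)))
  have hC := IsPullback.of_hasPullback (f.fiberToSpecResidueField (g y'))
    (Spec.map (CommRingCat.ofHom (algebraMap κ₁ k₁)))
  have hAB := hA.paste_horiz hB
  have hbot : Spec.map (CommRingCat.ofHom (algebraMap κ₂ k₂)) ≫ Spec.map (g.residueFieldMap y') =
      Spec.map (CommRingCat.ofHom φ) ≫ Spec.map (CommRingCat.ofHom (algebraMap κ₁ k₁)) := by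
    rw [← Spec.map_comp, ← Spec.map_comp]
    congr 1
    exact CommRingCat.hom_ext hφ.symm
  have hAB' : IsPullback (pullback.fst (f'.fiberToSpecResidueField y')
        (Spec.map (CommRingCat.ofHom (algebraMap κ₂ k₂))) ≫
        pullback.map f' (Y'.fromSpecResidueField y') f (Y.fromSpecResidueField (g y')) g'
          (Spec.map (g.residueFieldMap y')) g hc.w.symm (by simp))
      (pullback.snd (f'.fiberToSpecResidueField y')
        (Spec.map (CommRingCat.ofHom (algebraMap κ₂ k₂))))
      (f.fiberToSpecResidueField (g y'))
      (Spec.map (CommRingCat.ofHom φ) ≫ Spec.map (CommRingCat.ofHom (algebraMap κ₁ k₁))) := by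
    exact isPullback_congr rfl hbot.symm hAB
  have hw := hAB'.w.trans (Category.assoc _ _ _).symm
  refine ⟨φ, hC.lift _ _ hw, ?_⟩
  refine IsPullback.of_right ?_ (hC.lift_snd _ _ hw) hC
  exact isPullback_congr (hC.lift_fst _ _ hw) rfl hAB'

variable {f : X ⟶ Y} {f' : X' ⟶ Y'} {g' : X' ⟶ X} {g : Y' ⟶ Y}

/-- The number of irreducible components of the geometric fibres is compatible with base
change. -/
theorem nGeomIrredComp_eq (hc : IsPullback g' f' f g) (y' : Y') :
    MoreMor.nGeomIrredComp f' y' = MoreMor.nGeomIrredComp f (g y') := by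
  obtain ⟨φ, p, hp⟩ := exists_isPullback_geomFiber hc y'
  have h1 : GeometricallyIrreducible (Spec.map (CommRingCat.ofHom φ)) :=
    Groth.Agent.Lib.H71SepClosedGeom.geometricallyIrreducible_of_irreducibleSpace _
  have h2 : GeometricallyIrreducible p := MorphismProperty.of_isPullback hp.flip h1
  have h3 : UniversallyOpen (Spec.map (CommRingCat.ofHom φ)) := inferInstance
  have h4 : UniversallyOpen p := MorphismProperty.of_isPullback hp.flip h3
  exact Set.encard_congr (p.irreducibleComponentsEquiv p.isOpenMap)

/-- The number of connected components of the geometric fibres is compatible with base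
change. -/
theorem nGeomConnComp_eq (hc : IsPullback g' f' f g) (y' : Y') :
    MoreMor.nGeomConnComp f' y' = MoreMor.nGeomConnComp f (g y') := by
  obtain ⟨φ, p, hp⟩ := exists_isPullback_geomFiber hc y'
  have h1 : GeometricallyConnected (Spec.map (CommRingCat.ofHom φ)) :=
    Groth.Agent.Lib.H71SepClosedGeom.geometricallyConnected_of_connectedSpace _
  have h2 : GeometricallyConnected p := MorphismProperty.of_isPullback hp.flip h1
  have h3 : UniversallyOpen (Spec.map (CommRingCat.ofHom φ)) := inferInstance
  have h4 : UniversallyOpen p := MorphismProperty.of_isPullback hp.flip h3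
  exact ENat.card_congr (p.connectedComponentsHomeomorph p.isOpenMap).toEquiv

end Groth.Agent.Lib.GeomFibBC13
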