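import Mathlib.RingTheory.LocalRing.ResidueField.Fiber
import Mathlib.RingTheory.Spectrum.Prime.Chevalley
import Mathlib.RingTheory.TensorProduct.Maps
import Mathlib.Topology.Irreducible
import Mathlib.Topology.Connected.Basic

/-!
# Fibres of `Spec (R ⊗[k] S) → Spec R` for `k` a field

For a field `k`, `k`-algebras `R`, `S` and a prime `p` of `R`, the fibre of
`Spec (R ⊗[k] S) → Spec R` over `p` is homeomorphic to `Spec (κ(p) ⊗[k] S)`.
Consequently, if `S` is geometrically irreducible (resp. geometrically connected) over `k`,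
all fibres are irreducible (resp. connected); the map is also open and surjective.
-/

set_option autoImplicit false
universe u

namespace Groth.Agent.Lib.GeomFiber

open TensorProduct

variable {k R S : Type u} [Field k] [CommRing R] [CommRing S] [Algebra k R] [Algebra k S]

/-- The fibre ring `κ(p) ⊗[R] (R ⊗[k] S)` is `κ(p) ⊗[k] S`. -/
noncomputable def fiberRingEquiv (p : PrimeSpectrum R) :
    p.asIdeal.Fiber (R ⊗[k] S) ≃+* p.asIdeal.ResidueField ⊗[k] S :=
  (Algebra.TensorProduct.cancelBaseChange k R R p.asIdeal.ResidueField S).toRingEquiv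

/-- The fibre of `Spec (R ⊗[k] S) → Spec R` over `p` is homeomorphic to `Spec (κ(p) ⊗[k] S)`. -/
noncomputable def fiberHomeomorph (p : PrimeSpectrum R) :
    (PrimeSpectrum.comap (algebraMap R (R ⊗[k] S)) ⁻¹' {p}) ≃ₜ
      PrimeSpectrum (p.asIdeal.ResidueField ⊗[k] S) :=
  (PrimeSpectrum.preimageHomeomorphFiber R (R ⊗[k] S) p).trans
    (PrimeSpectrum.homeomorphOfRingEquiv (fiberRingEquiv (k := k) (S := S) p))

theorem isOpenMap_comap :
    IsOpenMap (PrimeSpectrum.comap (algebraMap R (R ⊗[k] S))) :=
  PrimeSpectrum.isOpenMap_comap_algebraMap_tensorProduct_of_field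

theorem isIrreducible_fiber
    (hS : ∀ (k' : Type u) [Field k'] [Algebra k k'], IrreducibleSpace (PrimeSpectrum (k' ⊗[k] S)))
    (p : PrimeSpectrum R) :
    IsIrreducible (PrimeSpectrum.comap (algebraMap R (R ⊗[k] S)) ⁻¹' {p}) := by
  rw [isIrreducible_iff_irreducibleSpace]
  have := hS p.asIdeal.ResidueField
  exact (fiberHomeomorph (k := k) (S := S) p).irreducibleSpace_iff.mpr this

theorem isConnected_fiber
    (hS : ∀ (k' : Type u) [Field k'] [Algebra k k'], ConnectedSpace (PrimeSpectrum (k' ⊗[k] S)))
    (p : PrimeSpectrum R) :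
    IsConnected (PrimeSpectrum.comap (algebraMap R (R ⊗[k] S)) ⁻¹' {p}) := by
  rw [isConnected_iff_connectedSpace]
  have := hS p.asIdeal.ResidueField
  exact (fiberHomeomorph (k := k) (S := S) p).symm.surjective.connectedSpace
    (fiberHomeomorph (k := k) (S := S) p).symm.continuous

theorem comap_surjective_of_nonempty
    (hS : ∀ (k' : Type u) [Field k'] [Algebra k k'], Nonempty (PrimeSpectrum (k' ⊗[k] S))) :
    Function.Surjective (PrimeSpectrum.comap (algebraMap R (R ⊗[k] S))) := by
  intro p
  have := hS p.asIdeal.ResidueField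
  obtain ⟨q⟩ := this
  exact ⟨((fiberHomeomorph (k := k) (S := S) p).symm q).1,
    ((fiberHomeomorph (k := k) (S := S) p).symm q).2⟩

theorem comap_surjective_of_irreducible
    (hS : ∀ (k' : Type u) [Field k'] [Algebra k k'], IrreducibleSpace (PrimeSpectrum (k' ⊗[k] S))) :
    Function.Surjective (PrimeSpectrum.comap (algebraMap R (R ⊗[k] S))) :=
  comap_surjective_of_nonempty fun k' _ _ => (hS k').toNonempty

theorem comap_surjective_of_connected
    (hS : ∀ (k' : Type u) [Field k'] [Algebra k k'], ConnectedSpace (PrimeSpectrum (k' ⊗[k] S))) :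
    Function.Surjective (PrimeSpectrum.comap (algebraMap R (R ⊗[k] S))) :=
  comap_surjective_of_nonempty fun k' _ _ => (hS k').toNonempty

/-- If `S` is geometrically irreducible over `k` and `Spec R` is irreducible,
then `Spec (R ⊗[k] S)` is irreducible. -/
theorem irreducibleSpace_tensor
    (hS : ∀ (k' : Type u) [Field k'] [Algebra k k'], IrreducibleSpace (PrimeSpectrum (k' ⊗[k] S)))
    [IrreducibleSpace (PrimeSpectrum R)] :
    IrreducibleSpace (PrimeSpectrum (R ⊗[k] S)) := by
  have h1 : IsIrreducible (Set.univ : Set (PrimeSpectrum R)) :=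
    IrreducibleSpace.isIrreducible_univ _
  have h2 := h1.preimage_of_isPreirreducible_fiber
    (PrimeSpectrum.comap (algebraMap R (R ⊗[k] S))) isOpenMap_comap
    (fun p => (isIrreducible_fiber hS p).isPreirreducible)
    (by
      rw [Set.univ_inter]
      exact Set.range_nonempty_iff_nonempty.mpr
        ((comap_surjective_of_irreducible (R := R) hS).nonempty))
  rw [Set.preimage_univ] at h2
  exact (irreducibleSpace_def _).mpr h2

end Groth.Agent.Lib.GeomFiber
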