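/-
helper67: graded (homogeneous) prime avoidance for ℕ-graded commutative rings.
`gpa`: if for each prime `p` in a finite set there is a homogeneous element of positive degree of `J`
outside `p`, then there is one outside all of them simultaneously.  (The primes need not be homogeneous.)
-/
import Mathlib.RingTheory.GradedAlgebra.Homogeneous.Ideal
import Mathlib.RingTheory.Ideal.Operations

set_option autoImplicit false

namespace Groth.Agent.Lib.GradedAvoid

open DirectSum

variable {R A : Type*} [CommRing R] [CommRing A] [Algebra R A] (𝒜 : ℕ → Submodule R A) [GradedRing 𝒜]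

/-- Graded prime avoidance. -/
theorem gpa (J : Ideal A) : ∀ (n : ℕ) (P : Finset (Ideal A)), P.card = n →
    (∀ p ∈ P, p.IsPrime ∧ ∃ (z : A) (d : ℕ), 0 < d ∧ z ∈ 𝒜 d ∧ z ∈ J ∧ z ∉ p) →
    ∃ (z : A) (d : ℕ), 0 < d ∧ z ∈ 𝒜 d ∧ z ∈ J ∧ ∀ p ∈ P, z ∉ p := by
  intro n
  induction n using Nat.strong_induction_on with
  | _ n IH =>
    intro P hcard hP
    classical
    rcases Nat.lt_or_ge n 2 with hn | hn
    · obtain rfl | rfl : n = 0 ∨ n = 1 := by omega
      · rw [Finset.card_eq_zero] at hcard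
        subst hcard
        exact ⟨0, 1, one_pos, Submodule.zero_mem _, J.zero_mem, by simp⟩
      · obtain ⟨p, rfl⟩ := Finset.card_eq_one.1 hcard
        obtain ⟨_, z, d, hd, hz, hzJ, hzp⟩ := hP p (Finset.mem_singleton_self p)
        exact ⟨z, d, hd, hz, hzJ, by simpa using hzp⟩
    · have IH' : ∀ i ∈ P, ∃ (z : A) (d : ℕ), 0 < d ∧ z ∈ 𝒜 d ∧ z ∈ J ∧ ∀ p ∈ P.erase i, z ∉ p := by
        intro i hi
        refine IH (n - 1) (by omega) (P.erase i) (by rw [Finset.card_erase_of_mem hi, hcard]) ?_
        intro p hp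
        exact hP p (Finset.mem_of_mem_erase hp)
      choose! z d hd hz hzJ hzp using IH'
      by_cases hex : ∃ i ∈ P, z i ∉ i
      · obtain ⟨i, hi, hzi⟩ := hex
        refine ⟨z i, d i, hd i hi, hz i hi, hzJ i hi, ?_⟩
        intro p hp
        by_cases hpi : p = i
        · subst hpi; exact hzi
        · exact hzp i hi p (Finset.mem_erase.2 ⟨hpi, hp⟩)
      · push Not at hex
        have hDpos : 0 < ∏ l ∈ P, d l := Finset.prod_pos (fun l hl => hd l hl)
        have hepos : ∀ j, 0 < ∏ l ∈ P.erase j, d l :=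
          fun j => Finset.prod_pos (fun l hl => hd l (Finset.mem_of_mem_erase hl))
        have hde : ∀ j ∈ P, (∏ l ∈ P.erase j, d l) * d j = ∏ l ∈ P, d l := fun j hj => by
          rw [mul_comm]; exact Finset.mul_prod_erase P d hj
        have hy : ∀ j ∈ P, z j ^ (∏ l ∈ P.erase j, d l) ∈ 𝒜 (∏ l ∈ P, d l) := fun j hj => by
          have := SetLike.pow_mem_graded (∏ l ∈ P.erase j, d l) (hz j hj)
          rwa [smul_eq_mul, hde j hj] at this
        have hyJ : ∀ j ∈ P, z j ^ (∏ l ∈ P.erase j, d l) ∈ J :=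
          fun j hj => J.pow_mem_of_mem (hzJ j hj) _ (hepos j)
        have hyj : ∀ j ∈ P, z j ^ (∏ l ∈ P.erase j, d l) ∈ j :=
          fun j hj => Ideal.pow_mem_of_mem j (hex j hj) _ (hepos j)
        have hyi : ∀ j ∈ P, ∀ i ∈ P, i ≠ j → z j ^ (∏ l ∈ P.erase j, d l) ∉ i :=
          fun j hj i hi hij h =>
            hzp j hj i (Finset.mem_erase.2 ⟨hij, hi⟩) ((hP i hi).1.mem_of_pow_mem _ h)
        refine ⟨∑ i ∈ P, ∏ j ∈ P.erase i, z j ^ (∏ l ∈ P.erase j, d l), (n - 1) * ∏ l ∈ P, d l,
          Nat.mul_pos (by omega) hDpos, ?_, ?_, ?_⟩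
        · refine Submodule.sum_mem _ (fun i hi => ?_)
          have := SetLike.prod_mem_graded 𝒜 (fun _ => ∏ l ∈ P, d l)
            (fun j => z j ^ (∏ l ∈ P.erase j, d l)) (F := P.erase i)
            (fun j hj => hy j (Finset.mem_of_mem_erase hj))
          rwa [Finset.sum_const, Finset.card_erase_of_mem hi, hcard, smul_eq_mul] at this
        · refine J.sum_mem (fun i hi => ?_)
          have hne : (P.erase i).Nonempty := by
            rw [← Finset.card_pos, Finset.card_erase_of_mem hi, hcard]; omega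
          obtain ⟨j, hj⟩ := hne
          exact Ideal.mem_of_dvd J
            (Finset.dvd_prod_of_mem (fun j => z j ^ (∏ l ∈ P.erase j, d l)) hj)
            (hyJ j (Finset.mem_of_mem_erase hj))
        · intro i hi hmem
          have hprime := (hP i hi).1
          rw [← Finset.add_sum_erase P _ hi] at hmem
          have h2 : ∑ i' ∈ P.erase i, ∏ j ∈ P.erase i', z j ^ (∏ l ∈ P.erase j, d l) ∈ i := by
            refine i.sum_mem (fun i' hi' => ?_)
            have hii' : i ∈ P.erase i' :=
              Finset.mem_erase.2 ⟨(Finset.ne_of_mem_erase hi').symm, hi⟩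
            exact Ideal.mem_of_dvd i
              (Finset.dvd_prod_of_mem (fun j => z j ^ (∏ l ∈ P.erase j, d l)) hii') (hyj i hi)
          have h1 : ∏ j ∈ P.erase i, z j ^ (∏ l ∈ P.erase j, d l) ∈ i := by
            have := i.sub_mem hmem h2
            simpa using this
          obtain ⟨j, hj, hji⟩ := (Ideal.IsPrime.prod_mem_iff (hp := hprime)).1 h1
          exact hyi j (Finset.mem_of_mem_erase hj) i hi (Finset.ne_of_mem_erase hj).symm hji

/-- A homogeneous ideal not contained in a prime `p` has a homogeneous element outside `p`. -/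
theorem exists_homogeneous_notMem (J : Ideal A) (hJ : J.IsHomogeneous 𝒜) (p : Ideal A) (h : ¬ J ≤ p) :
    ∃ (x : A) (i : ℕ), x ∈ 𝒜 i ∧ x ∈ J ∧ x ∉ p := by
  classical
  obtain ⟨x, hxJ, hxp⟩ := SetLike.not_le_iff_exists.1 h
  by_contra hcon
  push Not at hcon
  apply hxp
  rw [← DirectSum.sum_support_decompose 𝒜 x]
  refine p.sum_mem (fun i _ => ?_)
  exact hcon _ i (SetLike.coe_mem _) (hJ i hxJ)

/-- A homogeneous element of degree `0` in the irrelevant ideal is zero. -/
theorem pos_of_mem_irrelevant {x : A} {i : ℕ} (hx : x ∈ 𝒜 i)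
    (hirr : x ∈ (HomogeneousIdeal.irrelevant 𝒜).toIdeal) (hx0 : x ≠ 0) : 0 < i := by
  classical
  by_contra h0
  have hi : i = 0 := by omega
  subst hi
  apply hx0
  have := (HomogeneousIdeal.mem_irrelevant_iff 𝒜 x).1 hirr
  rwa [GradedRing.proj_apply, DirectSum.decompose_of_mem_same 𝒜 hx] at this

end Groth.Agent.Lib.GradedAvoid
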