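/-
helper7: Lib/GeomHeight7 — homogeneous localization `J_(f)` (`W4c2ratsingkovacs.locIdeal`) vs homogeneous
primes of an ℕ-graded ring (uses Mathlib `ProjIsoSpecTopComponent.toSpec_surjective`):
`locIdeal_mono`, `mk_mem_locIdeal_of_mem`, `mk_mem_locIdeal_iff` (P prime, f ∉ P),
`isPrime_locIdeal`, `le_of_locIdeal_le` (I homogeneous, P prime ∌ f, deg f > 0: I_(f) ≤ P_(f) → I ≤ P),
`exists_prime_locIdeal_eq` (every prime of A_(f) is P_(f), P homogeneous prime ∌ f),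
`locIdeal_lt`, `height_locIdeal_le` (ht P_(f) ≤ ht P).
-/
import Mathlib
import Groth.Prelude.Def_W4c2ratsingkovacsGH
import Groth.Agent.Lib.GradedAvoid

set_option autoImplicit false
set_option linter.unusedSectionVars false

namespace Groth.Agent.Lib.GeomHeight7

open W4c2ratsingkovacs HomogeneousLocalization AlgebraicGeometry

variable {R A : Type*} [CommRing R] [CommRing A] [Algebra R A] (𝒜 : ℕ → Submodule R A) [GradedRing 𝒜]

theorem locIdeal_mono {I J : Ideal A} (h : I ≤ J) (f : A) : locIdeal 𝒜 I f ≤ locIdeal 𝒜 J f :=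
  Ideal.comap_mono (Ideal.map_mono h)

theorem mk_mem_locIdeal_of_mem (I : Ideal A) {f : A} (z : NumDenSameDeg 𝒜 (.powers f))
    (h : z.num.1 ∈ I) : HomogeneousLocalization.mk z ∈ locIdeal 𝒜 I f := by
  rw [locIdeal, Ideal.mem_comap, HomogeneousLocalization.algebraMap_apply,
    HomogeneousLocalization.val_mk, Localization.mk_eq_mk', IsLocalization.mk'_eq_mul_mk'_one]
  exact Ideal.mul_mem_right _ _ (Ideal.mem_map_of_mem _ h)

theorem mk_mem_locIdeal_iff (P : Ideal A) [P.IsPrime] {f : A} (hf : f ∉ P)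
    (z : NumDenSameDeg 𝒜 (.powers f)) :
    HomogeneousLocalization.mk z ∈ locIdeal 𝒜 P f ↔ z.num.1 ∈ P := by
  rw [locIdeal, Ideal.mem_comap, HomogeneousLocalization.algebraMap_apply,
    HomogeneousLocalization.val_mk, Localization.mk_eq_mk', IsLocalization.mk'_eq_mul_mk'_one,
    mul_comm, Ideal.unit_mul_mem_iff_mem, ← Ideal.mem_under,
    IsLocalization.under_map_of_isPrime_disjoint (.powers f)]
  · infer_instance
  · exact (Ideal.disjoint_powers_iff_notMem_of_isPrime _).mpr hf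
  · exact isUnit_of_invertible _

theorem isPrime_locIdeal (P : Ideal A) [P.IsPrime] {f : A} (hf : f ∉ P) :
    (locIdeal 𝒜 P f).IsPrime := by
  refine Ideal.IsPrime.comap _ (hK := ?_)
  exact IsLocalization.isPrime_of_isPrime_disjoint
    (Submonoid.powers f) _ _ inferInstance
    ((Ideal.disjoint_powers_iff_notMem_of_isPrime _).mpr hf)

/-- `I_(f) ⊆ P_(f)` iff `I ⊆ P` for `I` homogeneous, `P` prime not containing `f`, `deg f > 0`. -/
theorem le_of_locIdeal_le {I P : Ideal A} (hI : I.IsHomogeneous 𝒜) [P.IsPrime] {f : A} {m : ℕ}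
    (hm : 0 < m) (hfm : f ∈ 𝒜 m) (hf : f ∉ P) (h : locIdeal 𝒜 I f ≤ locIdeal 𝒜 P f) : I ≤ P := by
  classical
  intro a ha
  rw [← DirectSum.sum_support_decompose 𝒜 a]
  refine P.sum_mem (fun i _ => ?_)
  have hai : (DirectSum.decompose 𝒜 a i : A) ∈ I := hI i ha
  set b : A := (DirectSum.decompose 𝒜 a i : A) with hb
  have hbi : b ∈ 𝒜 i := SetLike.coe_mem _
  let z : NumDenSameDeg 𝒜 (.powers f) :=
    { deg := m • i
      num := ⟨b ^ m, SetLike.pow_mem_graded m hbi⟩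
      den := ⟨f ^ i, by
        have := SetLike.pow_mem_graded i hfm
        rwa [smul_eq_mul, mul_comm, ← smul_eq_mul] at this⟩
      den_mem := ⟨i, rfl⟩ }
  have h1 : HomogeneousLocalization.mk z ∈ locIdeal 𝒜 I f :=
    mk_mem_locIdeal_of_mem 𝒜 I z (Ideal.pow_mem_of_mem I hai m hm)
  have h2 := (mk_mem_locIdeal_iff 𝒜 P hf z).mp (h h1)
  exact Ideal.IsPrime.mem_of_pow_mem inferInstance m h2

/-- every prime of `A_(f)` is `P_(f)` for a homogeneous prime `P` not containing `f` -/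
theorem exists_prime_locIdeal_eq {f : A} {m : ℕ} (hm : 0 < m) (hfm : f ∈ 𝒜 m)
    (q : Ideal (HomogeneousLocalization.Away 𝒜 f)) [hq : q.IsPrime] :
    ∃ P : Ideal A, P.IsPrime ∧ P.IsHomogeneous 𝒜 ∧ f ∉ P ∧ locIdeal 𝒜 P f = q := by
  obtain ⟨x, hx⟩ := ProjIsoSpecTopComponent.toSpec_surjective 𝒜 hfm hm ⟨q, hq⟩
  refine ⟨x.1.asHomogeneousIdeal.toIdeal, x.1.isPrime, x.1.asHomogeneousIdeal.isHomogeneous,
    x.2, ?_⟩
  exact congrArg PrimeSpectrum.asIdeal hx


theorem locIdeal_lt {P P' : Ideal A} [P.IsPrime] [P'.IsPrime] (hP : P.IsHomogeneous 𝒜)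
    {f : A} {m : ℕ} (hm : 0 < m) (hfm : f ∈ 𝒜 m) (hf : f ∉ P) (hf' : f ∉ P')
    (hP' : P'.IsHomogeneous 𝒜) (h : P < P') : locIdeal 𝒜 P f < locIdeal 𝒜 P' f := by
  refine lt_of_le_of_ne (locIdeal_mono 𝒜 h.le f) (fun heq => ?_)
  exact h.not_ge (le_of_locIdeal_le 𝒜 hP' hm hfm hf heq.ge)

/-- `ht P_(f) ≤ ht P` -/
theorem height_locIdeal_le {P : Ideal A} [hPp : P.IsPrime] (hP : P.IsHomogeneous 𝒜)
    {f : A} {m : ℕ} (hm : 0 < m) (hfm : f ∈ 𝒜 m) (hf : f ∉ P) :
    (locIdeal 𝒜 P f).height ≤ P.height := by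
  classical
  have hex : ∀ q : PrimeSpectrum (HomogeneousLocalization.Away 𝒜 f), ∃ P : Ideal A,
      P.IsPrime ∧ P.IsHomogeneous 𝒜 ∧ f ∉ P ∧ locIdeal 𝒜 P f = q.asIdeal := fun q =>
    exists_prime_locIdeal_eq 𝒜 hm hfm q.asIdeal
  choose g hg1 hg2 hg3 hg4 using hex
  let G : PrimeSpectrum (HomogeneousLocalization.Away 𝒜 f) → PrimeSpectrum A :=
    fun q => ⟨g q, hg1 q⟩
  have hG : StrictMono G := by
    intro q q' hqq'
    have hle : g q ≤ g q' := by
      haveI := hg1 q'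
      apply le_of_locIdeal_le 𝒜 (hg2 q) hm hfm (hg3 q')
      rw [hg4 q, hg4 q']
      exact hqq'.le
    refine lt_of_le_of_ne hle (fun heq => ?_)
    have h1 : g q = g q' := congrArg PrimeSpectrum.asIdeal heq
    have h2 : q.asIdeal = q'.asIdeal := by rw [← hg4 q, ← hg4 q', h1]
    exact hqq'.ne (PrimeSpectrum.ext h2)
  haveI hq0 := isPrime_locIdeal 𝒜 P hf
  set q0 : PrimeSpectrum (HomogeneousLocalization.Away 𝒜 f) := ⟨locIdeal 𝒜 P f, hq0⟩ with hq0def
  have h3 : g q0 = P := by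
    haveI := hg1 q0
    apply le_antisymm
    · apply le_of_locIdeal_le 𝒜 (hg2 q0) hm hfm hf
      rw [hg4 q0]
    · apply le_of_locIdeal_le 𝒜 hP hm hfm (hg3 q0)
      rw [hg4 q0]
  have h4 := Order.height_le_height_apply_of_strictMono G hG q0
  rw [← PrimeSpectrum.height_eq_orderHeight, ← PrimeSpectrum.height_eq_orderHeight] at h4
  have h5 : (G q0).asIdeal = P := h3
  rw [h5] at h4
  exact h4

end Groth.Agent.Lib.GeomHeight7
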