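import Mathlib

/-!
Topological layer for "nowhere dense in the fibres" statements.

`FibND f Z y`: the complement of `Z` is dense in the topological fibre `f⁻¹{y}`.
-/

namespace Groth.Agent.Lib.H77FibND

open Topology Set

variable {X Y : Type*} [TopologicalSpace X]

/-- The complement of `Z` is dense in the (topological) fibre `f⁻¹{y}`. -/
def FibND (f : X → Y) (Z : Set X) (y : Y) : Prop :=
  ∀ W : Set X, IsOpen W → (W ∩ f ⁻¹' {y}).Nonempty → ((W ∩ f ⁻¹' {y}) \ Z).Nonempty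

/-- Comparison with `IsNowhereDense` on a space `F` identified with the fibre. -/
theorem isNowhereDense_preimage_iff {F : Type*} [TopologicalSpace F] (f : X → Y) (y : Y)
    (ι : F → X) (hι : IsInducing ι) (hr : range ι = f ⁻¹' {y}) (Z : Set X) (hZ : IsClosed Z) :
    IsNowhereDense (ι ⁻¹' Z) ↔ FibND f Z y := by
  have hcl : IsClosed (ι ⁻¹' Z) := hZ.preimage hι.continuous
  rw [IsNowhereDense, hcl.closure_eq]
  constructor
  · intro h W hW ⟨x, hxW, hxy⟩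
    have hx : x ∈ range ι := hr ▸ hxy
    obtain ⟨t, rfl⟩ := hx
    have hne : ¬ ι ⁻¹' W ⊆ ι ⁻¹' Z := by
      intro hsub
      have : t ∈ interior (ι ⁻¹' Z) :=
        interior_maximal hsub (hW.preimage hι.continuous) hxW
      rw [h] at this
      exact this
    obtain ⟨t', ht'W, ht'Z⟩ := Set.not_subset.mp hne
    refine ⟨ι t', ⟨ht'W, ?_⟩, ht'Z⟩
    rw [← hr]
    exact mem_range_self t'
  · intro h
    rw [Set.eq_empty_iff_forall_notMem]
    intro t ht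
    obtain ⟨W, hW, hWeq⟩ := hι.isOpen_iff.mp (isOpen_interior (s := ι ⁻¹' Z))
    have htW : ι t ∈ W := by
      have : t ∈ ι ⁻¹' W := hWeq ▸ ht
      exact this
    have hty : ι t ∈ f ⁻¹' {y} := hr ▸ mem_range_self t
    obtain ⟨x, ⟨hxW, hxy⟩, hxZ⟩ := h W hW ⟨ι t, htW, hty⟩
    have hx : x ∈ range ι := hr ▸ hxy
    obtain ⟨t', rfl⟩ := hx
    have : t' ∈ interior (ι ⁻¹' Z) := by
      rw [← hWeq]
      exact hxW
    have h2 : t' ∈ ι ⁻¹' Z := interior_subset this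
    exact hxZ h2

/-- Transport of `FibND` along a "cartesian" square of inducing maps. -/
theorem fibND_iff_of_isInducing {X' Y' : Type*} [TopologicalSpace X']
    (f' : X' → Y') (f : X → Y) (hX : X' → X) (hY : Y' → Y) (hind : IsInducing hX)
    (hcomm : ∀ x', f (hX x') = hY (f' x')) (hYinj : Function.Injective hY)
    (hrange : f ⁻¹' (range hY) ⊆ range hX) (Z : Set X) (y' : Y') :
    FibND f' (hX ⁻¹' Z) y' ↔ FibND f Z (hY y') := by
  constructor
  · intro h W hW ⟨x, hxW, hxy⟩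
    have hx : x ∈ range hX := hrange (by
      rw [mem_preimage, mem_singleton_iff.mp hxy]
      exact mem_range_self y')
    obtain ⟨x', rfl⟩ := hx
    have hx'y : f' x' = y' := hYinj ((hcomm x').symm.trans hxy)
    obtain ⟨x'', ⟨hx''W, hx''y⟩, hx''Z⟩ :=
      h (hX ⁻¹' W) (hW.preimage hind.continuous) ⟨x', hxW, hx'y⟩
    refine ⟨hX x'', ⟨hx''W, ?_⟩, hx''Z⟩
    rw [mem_preimage, mem_singleton_iff, hcomm, mem_singleton_iff.mp hx''y]
  · intro h W' hW' ⟨x', hx'W, hx'y⟩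
    obtain ⟨W, hW, rfl⟩ := hind.isOpen_iff.mp hW'
    have h1 : hX x' ∈ W ∩ f ⁻¹' {hY y'} := by
      refine ⟨hx'W, ?_⟩
      rw [mem_preimage, mem_singleton_iff, hcomm, mem_singleton_iff.mp hx'y]
    obtain ⟨x, ⟨hxW, hxy⟩, hxZ⟩ := h W hW ⟨hX x', h1⟩
    have hx : x ∈ range hX := hrange (by
      rw [mem_preimage, mem_singleton_iff.mp hxy]
      exact mem_range_self y')
    obtain ⟨x'', rfl⟩ := hx
    have hx''y : f' x'' = y' := hYinj ((hcomm x'').symm.trans hxy)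
    exact ⟨x'', ⟨hxW, hx''y⟩, hxZ⟩

/-- `FibND` can be checked on a cover of the source by continuous maps. -/
theorem fibND_of_cover {ι : Type*} {U : ι → Type*} [∀ i, TopologicalSpace (U i)]
    (u : ∀ i, U i → X) (hu : ∀ i, Continuous (u i)) (hcov : ∀ x, ∃ i, x ∈ range (u i))
    (f : X → Y) (Z : Set X) (y : Y) (h : ∀ i, FibND (f ∘ u i) (u i ⁻¹' Z) y) : FibND f Z y := by
  intro W hW ⟨x, hxW, hxy⟩
  obtain ⟨i, t, rfl⟩ := hcov x
  obtain ⟨t', ⟨ht'W, ht'y⟩, ht'Z⟩ := h i (u i ⁻¹' W) (hW.preimage (hu i)) ⟨t, hxW, hxy⟩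
  exact ⟨u i t', ⟨ht'W, ht'y⟩, ht'Z⟩

/-- `FibND` restricts along open maps. -/
theorem FibND.comp_isOpenMap {U : Type*} [TopologicalSpace U] {f : X → Y} {Z : Set X} {y : Y}
    (h : FibND f Z y) (u : U → X) (hu : IsOpenMap u) : FibND (f ∘ u) (u ⁻¹' Z) y := by
  intro W' hW' ⟨t, htW, hty⟩
  obtain ⟨x, ⟨⟨t', ht'W, rfl⟩, hxy⟩, hxZ⟩ := h (u '' W') (hu W' hW') ⟨u t, ⟨t, htW, rfl⟩, hty⟩
  exact ⟨t', ⟨ht'W, hxy⟩, hxZ⟩

end Groth.Agent.Lib.H77FibND
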