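import Mathlib

/-!
Plumbing for statements of the form "a property of the generic fibre spreads to the fibres over a
nonempty open": reduction to an affine base, and the open cover of a fibre coming from an open
cover of the source.
-/

namespace Groth.Agent.Lib.H77FibreLocal

open AlgebraicGeometry CategoryTheory Limits

universe u

set_option linter.style.haveILetI false

/-- The source of an open immersion into an irreducible scheme is irreducible when nonempty. -/
theorem irreducibleSpace_of_isOpenImmersion {U Y : Scheme.{u}} (j : U ⟶ Y) [IsOpenImmersion j]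
    [IrreducibleSpace Y] [Nonempty U] : IrreducibleSpace U := by
  have h1 : IsPreirreducible (Set.univ : Set U) := by
    have := (PreirreducibleSpace.isPreirreducible_univ (X := Y)).preimage j.isOpenEmbedding
    simpa using this
  haveI : PreirreducibleSpace U := ⟨h1⟩
  exact ⟨inferInstance⟩

/-- Fibres of the base change of `f` along an open immersion `j` are the fibres of `f`. -/
noncomputable def fiberIsoOfIsOpenImmersion {X Y Y' : Scheme.{u}} (f : X ⟶ Y) (j : Y' ⟶ Y)
    [IsOpenImmersion j] (y' : Y') : (pullback.snd f j).fiber y' ≅ f.fiber (j y') := by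
  have h₁ : f ≫ 𝟙 Y = 𝟙 X ≫ f := by simp
  have h₂ : (Y'.fromSpecResidueField y' ≫ j) ≫ 𝟙 Y =
      Spec.map (j.residueFieldMap y') ≫ Y.fromSpecResidueField (j y') := by simp
  have hiso : IsIso (pullback.map f (Y'.fromSpecResidueField y' ≫ j) f
      (Y.fromSpecResidueField (j y')) (𝟙 X) (Spec.map (j.residueFieldMap y')) (𝟙 Y) h₁ h₂) :=
    pullback.map_isIso _ _ _ _ _ _ _ _ _
  exact pullbackLeftPullbackSndIso f j (Y'.fromSpecResidueField y') ≪≫
    @asIso _ _ _ _ (pullback.map f (Y'.fromSpecResidueField y' ≫ j) f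
      (Y.fromSpecResidueField (j y')) (𝟙 X) (Spec.map (j.residueFieldMap y')) (𝟙 Y) h₁ h₂) hiso

/-- **Reduction to an affine base** for spreading-out statements from the generic fibre. -/
theorem exists_opens_of_affine_base (Q : Scheme.{u} → Prop)
    (hQ : ∀ {Z W : Scheme.{u}}, (Z ≅ W) → Q Z → Q W)
    (H : ∀ (R : CommRingCat.{u}) [IrreducibleSpace (Spec R)] {X : Scheme.{u}} (f : X ⟶ Spec R)
      [LocallyOfFiniteType f] [QuasiCompact f], Q (f.fiber (genericPoint (Spec R))) →
        ∃ V : (Spec R).Opens, (V : Set (Spec R)).Nonempty ∧ ∀ y ∈ V, Q (f.fiber y))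
    {X Y : Scheme.{u}} (f : X ⟶ Y) [IrreducibleSpace Y] [LocallyOfFiniteType f] [QuasiCompact f]
    (h : Q (f.fiber (genericPoint Y))) :
    ∃ V : Y.Opens, (V : Set Y).Nonempty ∧ ∀ y ∈ V, Q (f.fiber y) := by
  obtain ⟨i, η', hη'⟩ := Y.affineOpenCover.openCover.exists_eq (genericPoint Y)
  let R : CommRingCat.{u} := Y.affineOpenCover.X i
  let j : Spec R ⟶ Y := Y.affineOpenCover.f i
  haveI : IsOpenImmersion j := Y.affineOpenCover.openCover.map_prop i
  haveI : Nonempty (Spec R) := ⟨η'⟩
  haveI : IrreducibleSpace (Spec R) := irreducibleSpace_of_isOpenImmersion j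
  have hgen : j (genericPoint (Spec R)) = genericPoint Y :=
    genericPoint_eq_of_isOpenImmersion j
  let f' := pullback.snd f j
  have h' : Q (f'.fiber (genericPoint (Spec R))) := by
    refine hQ (fiberIsoOfIsOpenImmersion f j _).symm ?_
    rw [hgen]
    exact h
  obtain ⟨V', hV'ne, hV'⟩ := H R f' h'
  refine ⟨j ''ᵁ V', ?_, ?_⟩
  · obtain ⟨y', hy'⟩ := hV'ne
    exact ⟨j y', y', hy', rfl⟩
  · rintro y ⟨y', hy', rfl⟩
    exact hQ (fiberIsoOfIsOpenImmersion f j y') (hV' y' hy')


/-- The open cover of a fibre induced by an open cover of the source; the `i`-th piece is the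
fibre of `𝒰.f i ≫ f`. -/
noncomputable def fiberOpenCover {X Y : Scheme.{u}} (f : X ⟶ Y) (𝒰 : X.OpenCover) (y : Y) :
    (f.fiber y).OpenCover :=
  Scheme.Pullback.openCoverOfLeft 𝒰 f (Y.fromSpecResidueField y)

lemma fiberOpenCover_X {X Y : Scheme.{u}} (f : X ⟶ Y) (𝒰 : X.OpenCover) (y : Y) (i : 𝒰.I₀) :
    (fiberOpenCover f 𝒰 y).X i = (𝒰.f i ≫ f).fiber y := rfl

/-- The fibre of `Spec S ⟶ Spec R` at `p` is the spectrum of the fibre ring. -/
noncomputable def specFiberIso {R S : CommRingCat.{u}} (φ : R ⟶ S) (p : PrimeSpectrum R) :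
    letI := φ.hom.toAlgebra
    (Spec.map φ).fiber p ≅ Spec (.of (p.asIdeal.Fiber S)) := by
  letI := φ.hom.toAlgebra
  exact Arrow.leftFunc.mapIso (Spec.fiberToSpecResidueFieldIso R S p)

/-- In an irreducible spectrum the generic point is contained in every prime. -/
lemma genericPoint_asIdeal_le (R : CommRingCat.{u}) [IrreducibleSpace (Spec R)]
    (y : PrimeSpectrum R) :
    (genericPoint (Spec R) : PrimeSpectrum R).asIdeal ≤ y.asIdeal := by
  have h1 : y ∈ closure {(genericPoint (Spec R) : PrimeSpectrum R)} := by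
    have := (genericPoint_spec (Spec R)).def
    rw [this]
    trivial
  exact (PrimeSpectrum.le_iff_specializes _ _).mpr (specializes_iff_mem_closure.mpr h1)

end Groth.Agent.Lib.H77FibreLocal
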