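import Mathlib
import Groth.Agent.Lib.H77FibND
import Groth.Agent.Lib.H77FibNDAlg
import Groth.Agent.Lib.H77FibreLocal

/-!
Scheme layer for "nowhere dense closed subsets of the generic fibre spread out".
-/

namespace Groth.Agent.Lib.H77FibNDSch

open Groth.Agent.Lib.H77FibND Groth.Agent.Lib.H77FibNDAlg

universe u

set_option linter.style.haveILetI false

section Spectrum

variable {R A : Type u} [CommRing R] [CommRing A] [Algebra R A]

/-- `FibND` for `Spec A → Spec R` in terms of prime ideals. -/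
theorem fibND_comap_iff (J : Ideal A) (q : PrimeSpectrum R) :
    FibND (PrimeSpectrum.comap (algebraMap R A)) (PrimeSpectrum.zeroLocus (J : Set A)) q ↔
      PrimeND R J q := by
  constructor
  · intro h a P haP hP
    obtain ⟨x, ⟨hxa, hxq⟩, hxZ⟩ := h (PrimeSpectrum.basicOpen a : Set (PrimeSpectrum A))
      (PrimeSpectrum.basicOpen a).isOpen ⟨P, haP, hP⟩
    exact ⟨x, hxa, hxq, fun hJ => hxZ ((PrimeSpectrum.mem_zeroLocus _ _).mpr hJ)⟩
  · intro h W hW ⟨x, hxW, hxq⟩
    obtain ⟨_, ⟨a, rfl⟩, hxa, haW⟩ :=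
      PrimeSpectrum.isTopologicalBasis_basic_opens.exists_subset_of_mem_open hxW hW
    obtain ⟨P', h1, h2, h3⟩ := h a x hxa hxq
    exact ⟨P', ⟨haW h1, h2⟩, fun hZ => h3 ((PrimeSpectrum.mem_zeroLocus _ _).mp hZ)⟩

/-- Affine source and target, base a domain. -/
theorem exists_forall_fibND_comap [IsDomain R] [Algebra.FiniteType R A]
    (Z : Set (PrimeSpectrum A)) (hZ : IsClosed Z)
    (h : FibND (PrimeSpectrum.comap (algebraMap R A)) Z ⟨⊥, Ideal.isPrime_bot⟩) :
    ∃ g : R, g ≠ 0 ∧ ∀ q : PrimeSpectrum R, g ∉ q.asIdeal →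
      FibND (PrimeSpectrum.comap (algebraMap R A)) Z q := by
  have hZeq : Z = PrimeSpectrum.zeroLocus (PrimeSpectrum.vanishingIdeal Z : Set A) := by
    rw [PrimeSpectrum.zeroLocus_vanishingIdeal_eq_closure, hZ.closure_eq]
  rw [hZeq] at h ⊢
  rw [fibND_comap_iff] at h
  obtain ⟨g, hg, hgq⟩ := exists_forall_primeND _ h
  exact ⟨g, hg, fun q hq => (fibND_comap_iff _ q).mpr (hgq q hq)⟩

end Spectrum


section Scheme

open AlgebraicGeometry CategoryTheory Limits Groth.Agent.Lib.H77FibreLocal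

/-- affine source and target, base a domain -/
theorem exists_spec_domain {R A : CommRingCat.{u}} [IsDomain R] (φ : R ⟶ A)
    (hφ : φ.hom.FiniteType) (Z : Set (Spec A)) (hZ : IsClosed Z)
    (h : FibND (Spec.map φ) Z (⟨⊥, Ideal.isPrime_bot⟩ : PrimeSpectrum R)) :
    ∃ g : R, g ≠ 0 ∧ ∀ y : Spec R, y ∈ PrimeSpectrum.basicOpen g → FibND (Spec.map φ) Z y := by
  letI := φ.hom.toAlgebra
  haveI : Algebra.FiniteType R A := hφ
  obtain ⟨g, hg, hgq⟩ := exists_forall_fibND_comap (R := R) (A := A) Z hZ h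
  exact ⟨g, hg, fun y hy => hgq y hy⟩

/-- affine target, a domain -/
theorem exists_affine_base_domain (R : CommRingCat.{u}) [IsDomain R] {X : Scheme.{u}}
    (f : X ⟶ Spec R) [LocallyOfFiniteType f] [QuasiCompact f] (Z : Set X) (hZ : IsClosed Z)
    (h : FibND f Z (⟨⊥, Ideal.isPrime_bot⟩ : PrimeSpectrum R)) :
    ∃ g : R, g ≠ 0 ∧ ∀ y : Spec R, y ∈ PrimeSpectrum.basicOpen g → FibND f Z y := by
  classical
  have hcomp : ∀ i : X.affineOpenCover.I₀,
      (⇑(X.affineOpenCover.f i ≫ f) : _ → _) = ⇑f ∘ ⇑(X.affineOpenCover.f i) := by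
    intro i
    funext x
    exact Scheme.Hom.comp_apply _ _ x
  have key : ∀ i : X.affineOpenCover.I₀, ∃ g : R, g ≠ 0 ∧
      ∀ y : Spec R, y ∈ PrimeSpectrum.basicOpen g →
        FibND (⇑f ∘ ⇑(X.affineOpenCover.f i)) (X.affineOpenCover.f i ⁻¹' Z) y := by
    intro i
    haveI : IsOpenImmersion (X.affineOpenCover.f i) := X.affineOpenCover.openCover.map_prop i
    haveI : LocallyOfFiniteType (X.affineOpenCover.f i ≫ f) := inferInstance
    obtain ⟨φ, hφ⟩ := Spec.map_surjective (X.affineOpenCover.f i ≫ f)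
    have hft : φ.hom.FiniteType := by
      rw [← HasRingHomProperty.Spec_iff (P := @LocallyOfFiniteType), hφ]
      infer_instance
    have h1 : FibND (⇑f ∘ ⇑(X.affineOpenCover.f i)) (X.affineOpenCover.f i ⁻¹' Z)
        (⟨⊥, Ideal.isPrime_bot⟩ : PrimeSpectrum R) :=
      h.comp_isOpenMap _ (X.affineOpenCover.f i).isOpenEmbedding.isOpenMap
    rw [← hcomp, ← hφ] at h1 ⊢
    exact exists_spec_domain φ hft _ (hZ.preimage (X.affineOpenCover.f i).continuous) h1
  choose g hg1 hg2 using key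
  haveI : CompactSpace X := QuasiCompact.compactSpace_of_compactSpace f
  obtain ⟨t, ht⟩ := isCompact_univ.elim_finite_subcover
    (fun i : X.affineOpenCover.I₀ => Set.range (X.affineOpenCover.f i))
    (fun i => (X.affineOpenCover.openCover.map_prop i).base_open.isOpen_range)
    (fun x _ => by
      obtain ⟨i, y, hy⟩ := X.affineOpenCover.openCover.exists_eq x
      exact Set.mem_iUnion.mpr ⟨i, y, hy⟩)
  refine ⟨∏ i ∈ t, g i, Finset.prod_ne_zero_iff.mpr fun i _ => hg1 i, fun y hy => ?_⟩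
  apply fibND_of_cover (ι := t) (U := fun i => Spec (X.affineOpenCover.X i.1))
    (fun i => ⇑(X.affineOpenCover.f i.1)) (fun i => (X.affineOpenCover.f i.1).continuous)
  · intro x
    have hxt := ht (Set.mem_univ x)
    simp only [Set.mem_iUnion] at hxt
    obtain ⟨i, hit, hx⟩ := hxt
    exact ⟨⟨i, hit⟩, hx⟩
  · rintro ⟨i, hit⟩
    apply hg2 i y
    obtain ⟨P, hP⟩ : ∃ P : PrimeSpectrum R, P = y := ⟨_, rfl⟩
    rw [← hP] at hy ⊢
    intro hmem
    exact hy ((Ideal.IsPrime.prod_mem_iff).mpr ⟨i, hit, hmem⟩)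

/-- affine target with irreducible spectrum -/
theorem exists_affine_base (R : CommRingCat.{u}) [IrreducibleSpace (Spec R)] {X : Scheme.{u}}
    (f : X ⟶ Spec R) [LocallyOfFiniteType f] [QuasiCompact f] (Z : Set X) (hZ : IsClosed Z)
    (h : FibND f Z (genericPoint (Spec R))) :
    ∃ g : R, g ∉ (genericPoint (Spec R) : PrimeSpectrum R).asIdeal ∧
      ∀ y : Spec R, y ∈ PrimeSpectrum.basicOpen g → FibND f Z y := by
  set η : PrimeSpectrum R := genericPoint (Spec R) with hη
  let 𝔭 : Ideal R := η.asIdeal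
  let R' : CommRingCat.{u} := CommRingCat.of (R ⧸ 𝔭)
  let ψ : R ⟶ R' := CommRingCat.ofHom (Ideal.Quotient.mk 𝔭)
  haveI : IsDomain R' := Ideal.Quotient.isDomain 𝔭
  let c : Spec R' ⟶ Spec R := Spec.map ψ
  haveI : IsClosedImmersion c :=
    IsClosedImmersion.spec_of_surjective ψ Ideal.Quotient.mk_surjective
  have hcsurj : Function.Surjective c := by
    intro y
    obtain ⟨y₀, hy₀⟩ : ∃ y₀ : PrimeSpectrum R, y₀ = y := ⟨y, rfl⟩
    have : y₀ ∈ Set.range (PrimeSpectrum.comap (Ideal.Quotient.mk 𝔭)) := by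
      rw [_root_.range_comap_of_surjective _ _ Ideal.Quotient.mk_surjective]
      rw [PrimeSpectrum.mem_zeroLocus]
      intro x hx
      have hx' : x ∈ 𝔭 := by
        have : x ∈ RingHom.ker (Ideal.Quotient.mk 𝔭) := hx
        rwa [Ideal.mk_ker] at this
      exact genericPoint_asIdeal_le R y₀ hx'
    obtain ⟨y', hy'⟩ := this
    exact ⟨y', hy'.trans hy₀⟩
  let f' := pullback.snd f c
  let c' := pullback.fst f c
  have hcomm : ∀ z, f (c' z) = c (f' z) := fun z => by
    have := pullback.condition (f := f) (g := c)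
    exact congr($(this) z)
  have hiff : ∀ y' : Spec R', FibND f' (c' ⁻¹' Z) y' ↔ FibND f Z (c y') := fun y' =>
    fibND_iff_of_isInducing f' f c' c c'.isEmbedding.isInducing hcomm c.isEmbedding.injective
      (by rw [Scheme.Pullback.range_fst]) Z y'
  have hbot : c (⟨⊥, Ideal.isPrime_bot⟩ : PrimeSpectrum R') = η := by
    apply PrimeSpectrum.ext
    change Ideal.comap (Ideal.Quotient.mk 𝔭) ⊥ = 𝔭
    rw [← RingHom.ker_eq_comap_bot, Ideal.mk_ker]
  obtain ⟨g', hg', hgy⟩ := exists_affine_base_domain R' f' (c' ⁻¹' Z)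
    (hZ.preimage c'.continuous) ((hiff _).mpr (hbot ▸ h))
  obtain ⟨g, rfl⟩ := Ideal.Quotient.mk_surjective g'
  refine ⟨g, fun hmem => hg' (Ideal.Quotient.eq_zero_iff_mem.mpr hmem), fun y hy => ?_⟩
  obtain ⟨y', rfl⟩ := hcsurj y
  exact (hiff y').mp (hgy y' hy)

/-- **Nowhere dense closed subsets of the generic fibre spread out** (topological form). -/
theorem exists_opens_forall_fibND {X Y : Scheme.{u}} (f : X ⟶ Y) [IrreducibleSpace Y]
    [LocallyOfFiniteType f] [QuasiCompact f] (Z : Set X) (hZ : IsClosed Z)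
    (h : FibND f Z (genericPoint Y)) :
    ∃ V : Y.Opens, genericPoint Y ∈ V ∧ ∀ y ∈ V, FibND f Z y := by
  obtain ⟨i, η', hη'⟩ := Y.affineOpenCover.openCover.exists_eq (genericPoint Y)
  let R : CommRingCat.{u} := Y.affineOpenCover.X i
  let j : Spec R ⟶ Y := Y.affineOpenCover.f i
  haveI : IsOpenImmersion j := Y.affineOpenCover.openCover.map_prop i
  haveI : Nonempty (Spec R) := ⟨η'⟩
  haveI : IrreducibleSpace (Spec R) := irreducibleSpace_of_isOpenImmersion j
  have hgen : j (genericPoint (Spec R)) = genericPoint Y :=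
    genericPoint_eq_of_isOpenImmersion j
  let f' := pullback.snd f j
  let j' := pullback.fst f j
  have hcomm : ∀ z, f (j' z) = j (f' z) := fun z => by
    have := pullback.condition (f := f) (g := j)
    exact congr($(this) z)
  have hiff : ∀ y' : Spec R, FibND f' (j' ⁻¹' Z) y' ↔ FibND f Z (j y') := fun y' =>
    fibND_iff_of_isInducing f' f j' j j'.isOpenEmbedding.isInducing hcomm
      j.isOpenEmbedding.injective (by rw [Scheme.Pullback.range_fst]) Z y'
  obtain ⟨g, hg, hgy⟩ := exists_affine_base R f' (j' ⁻¹' Z) (hZ.preimage j'.continuous)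
    ((hiff _).mpr (hgen ▸ h))
  refine ⟨j ''ᵁ PrimeSpectrum.basicOpen g, ⟨genericPoint (Spec R), hg, hgen⟩, ?_⟩
  rintro y ⟨y', hy', rfl⟩
  exact (hiff y').mp (hgy y' hy')

/-- **Nowhere dense closed subsets of the generic fibre spread out.** -/
theorem exists_opens_forall_isNowhereDense {X Y : Scheme.{u}} (f : X ⟶ Y) [IrreducibleSpace Y]
    [LocallyOfFiniteType f] [QuasiCompact f] (Z : Set X) (hZ : IsClosed Z)
    (h : IsNowhereDense ((f.fiberι (genericPoint Y)) ⁻¹' Z)) :
    ∃ V : Y.Opens, genericPoint Y ∈ V ∧ ∀ y ∈ V, IsNowhereDense ((f.fiberι y) ⁻¹' Z) := by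
  have hiff : ∀ y : Y, IsNowhereDense ((f.fiberι y) ⁻¹' Z) ↔ FibND f Z y := fun y =>
    isNowhereDense_preimage_iff f y (f.fiberι y) (f.fiberι y).isEmbedding.isInducing
      (Scheme.Hom.range_fiberι f y) Z hZ
  obtain ⟨V, hηV, hV⟩ := exists_opens_forall_fibND f Z hZ ((hiff _).mp h)
  exact ⟨V, hηV, fun y hy => (hiff y).mpr (hV y hy)⟩

end Scheme

end Groth.Agent.Lib.H77FibNDSch
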