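import Groth.Agent.Lib.H77FibreLocal

/-!
# Spreading out a property of fibres: reduction to an integral affine base (helper77)

`exists_opens_of_domain_core`: let `Q f y` be a property of a morphism `f : X ⟶ Y` and a point `y`
of `Y` which is invariant under arbitrary base change (`Q f' y' ↔ Q f (g y')` for a cartesian
square).  To prove "if `Q` holds at the generic point of the irreducible `Y` then it holds on an
open neighbourhood of it" for all morphisms of finite type, it suffices to do so when `Y = Spec R`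
for a domain `R` (with a principal open as neighbourhood).
-/

set_option autoImplicit false
set_option linter.style.haveILetI false
universe u
open CategoryTheory Limits AlgebraicGeometry

namespace Groth.Agent.Lib.H77FibrePropLocal

open Groth.Agent.Lib.H77FibreLocal

variable (Q : ∀ ⦃X Y : Scheme.{u}⦄, (X ⟶ Y) → Y → Prop)
  (hbc : ∀ ⦃X Y X' Y' : Scheme.{u}⦄ (f : X ⟶ Y) (g : Y' ⟶ Y) (f' : X' ⟶ Y') (g' : X' ⟶ X),
      IsPullback g' f' f g → ∀ y' : Y', Q f' y' ↔ Q f (g y'))
  (core : ∀ (R : CommRingCat.{u}) [IsDomain R] {X : Scheme.{u}} (f : X ⟶ Spec R)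
      [LocallyOfFiniteType f] [QuasiCompact f],
      Q f (⟨⊥, Ideal.isPrime_bot⟩ : PrimeSpectrum R) →
      ∃ g : R, g ≠ 0 ∧ ∀ y : Spec R, y ∈ PrimeSpectrum.basicOpen g → Q f y)

include hbc core in
/-- affine target with irreducible spectrum -/
theorem exists_affine_base (R : CommRingCat.{u}) [IrreducibleSpace (Spec R)] {X : Scheme.{u}}
    (f : X ⟶ Spec R) [LocallyOfFiniteType f] [QuasiCompact f]
    (h : Q f (genericPoint (Spec R))) :
    ∃ g : R, g ∉ (genericPoint (Spec R) : PrimeSpectrum R).asIdeal ∧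
      ∀ y : Spec R, y ∈ PrimeSpectrum.basicOpen g → Q f y := by
  set η : PrimeSpectrum R := genericPoint (Spec R) with hη
  let 𝔭 : Ideal R := η.asIdeal
  let R' : CommRingCat.{u} := CommRingCat.of (R ⧸ 𝔭)
  let ψ : R ⟶ R' := CommRingCat.ofHom (Ideal.Quotient.mk 𝔭)
  haveI : IsDomain R' := Ideal.Quotient.isDomain 𝔭
  let c : Spec R' ⟶ Spec R := Spec.map ψ
  haveI : IsClosedImmersion c :=
    IsClosedImmersion.spec_of_surjective ψ Ideal.Quotient.mk_surjective
  have hcsurj : Function.Surjective c := by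
    intro y
    obtain ⟨y₀, hy₀⟩ : ∃ y₀ : PrimeSpectrum R, y₀ = y := ⟨y, rfl⟩
    have : y₀ ∈ Set.range (PrimeSpectrum.comap (Ideal.Quotient.mk 𝔭)) := by
      rw [_root_.range_comap_of_surjective _ _ Ideal.Quotient.mk_surjective]
      rw [PrimeSpectrum.mem_zeroLocus]
      intro x hx
      have hx' : x ∈ 𝔭 := by
        have : x ∈ RingHom.ker (Ideal.Quotient.mk 𝔭) := hx
        rwa [Ideal.mk_ker] at this
      exact genericPoint_asIdeal_le R y₀ hx'
    obtain ⟨y', hy'⟩ := this
    exact ⟨y', hy'.trans hy₀⟩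
  let f' := pullback.snd f c
  let c' := pullback.fst f c
  have hiff : ∀ y' : Spec R', Q f' y' ↔ Q f (c y') := fun y' =>
    hbc f c f' c' (IsPullback.of_hasPullback f c) y'
  have hbot : c (⟨⊥, Ideal.isPrime_bot⟩ : PrimeSpectrum R') = η := by
    apply PrimeSpectrum.ext
    change Ideal.comap (Ideal.Quotient.mk 𝔭) ⊥ = 𝔭
    rw [← RingHom.ker_eq_comap_bot, Ideal.mk_ker]
  obtain ⟨g', hg', hgy⟩ := core R' f' ((hiff _).mpr (hbot ▸ h))
  obtain ⟨g, rfl⟩ := Ideal.Quotient.mk_surjective g'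
  refine ⟨g, fun hmem => hg' (Ideal.Quotient.eq_zero_iff_mem.mpr hmem), fun y hy => ?_⟩
  obtain ⟨y', rfl⟩ := hcsurj y
  exact (hiff y').mp (hgy y' hy)

include hbc core in
theorem exists_opens_of_domain_core {X Y : Scheme.{u}} (f : X ⟶ Y) [IrreducibleSpace Y]
    [LocallyOfFiniteType f] [QuasiCompact f] (h : Q f (genericPoint Y)) :
    ∃ V : Y.Opens, genericPoint Y ∈ V ∧ ∀ y ∈ V, Q f y := by
  obtain ⟨i, η', hη'⟩ := Y.affineOpenCover.openCover.exists_eq (genericPoint Y)
  let R : CommRingCat.{u} := Y.affineOpenCover.X i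
  let j : Spec R ⟶ Y := Y.affineOpenCover.f i
  haveI : IsOpenImmersion j := Y.affineOpenCover.openCover.map_prop i
  haveI : Nonempty (Spec R) := ⟨η'⟩
  haveI : IrreducibleSpace (Spec R) := irreducibleSpace_of_isOpenImmersion j
  have hgen : j (genericPoint (Spec R)) = genericPoint Y :=
    genericPoint_eq_of_isOpenImmersion j
  let f' := pullback.snd f j
  let j' := pullback.fst f j
  have hiff : ∀ y' : Spec R, Q f' y' ↔ Q f (j y') := fun y' =>
    hbc f j f' j' (IsPullback.of_hasPullback f j) y'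
  obtain ⟨g, hg, hgy⟩ := exists_affine_base Q hbc core R f' ((hiff _).mpr (hgen ▸ h))
  refine ⟨j ''ᵁ PrimeSpectrum.basicOpen g, ⟨genericPoint (Spec R), hg, hgen⟩, ?_⟩
  rintro y ⟨y', hy', rfl⟩
  exact (hiff y').mp (hgy y' hy')

end Groth.Agent.Lib.H77FibrePropLocal
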