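import Groth.Agent.Lib.H77GeomIrrAlg
import Groth.Agent.Lib.H77FibrePropLocal
import Groth.Agent.Lib.H77FibNDSch
import Groth.Agent.S9764

/-!
# Geometric irreducibility of fibres: scheme/ring dictionary (helper77)

* `GIF f y`: the fibre of `f` at `y` is geometrically irreducible.
* `geometricallyIrreducible_SpecMap_iff`: `Spec C ⟶ Spec k` is geometrically irreducible iff
  `Spec (L ⊗[k] C)` is irreducible for all fields `L/k`.
* `geomIrrFiber_spec_iff`: the fibre of `Spec A ⟶ Spec R` at `y` is geometrically irreducible iff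
  `Spec (L ⊗[R] A)` is irreducible for all fields `L` over `R` with `ker (R → L) = y`.
* `geomIrrFiber_iff_of_isPullback`: invariance under base change (helper7's S9764).
* `geomIrrFiber_of_dense`: if an open `U ⊆ X` is dense in the fibre `X_y` and `U_y` is geometrically
  irreducible, so is `X_y`.
* `exists_opens_forall_geomIrrFiber`: for `f : X ⟶ Y` of finite type, `Y` irreducible, with
  geometrically irreducible generic fibre, the fibres over a neighbourhood of the generic point are
  geometrically irreducible (EGA IV 9.7.7, Stacks 0559).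
-/

set_option autoImplicit false
set_option linter.style.haveILetI false
universe u
open CategoryTheory Limits AlgebraicGeometry TensorProduct

namespace Groth.Agent.Lib.H77GeomIrrSch

open Groth.Agent.Lib.H77IrrRing Groth.Agent.Lib.H77FibND

/-- The fibre of `f` at `y` is geometrically irreducible. -/
abbrev GIF {X Y : Scheme.{u}} (f : X ⟶ Y) (y : Y) : Prop :=
  GeometricallyIrreducible (f.fiberToSpecResidueField y)

theorem irrRing_congr {S S' : Type u} [CommRing S] [CommRing S'] (e : S ≃+* S') :
    IrrRing S ↔ IrrRing S' :=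
  ⟨fun h => IrrRing.of_injective e.symm.toRingHom e.symm.injective h,
    fun h => IrrRing.of_injective e.toRingHom e.injective h⟩

theorem irreducibleSpace_Spec_iff (S : CommRingCat.{u}) :
    IrreducibleSpace (Spec S) ↔ IrrRing S :=
  (irrRing_iff_irreducibleSpace S).symm

theorem geometricallyIrreducible_SpecMap_iff (k C : Type u) [Field k] [CommRing C] [Algebra k C] :
    GeometricallyIrreducible (Spec.map (CommRingCat.ofHom (algebraMap k C))) ↔
      ∀ (L : Type u) [Field L] [Algebra k L], IrrRing (L ⊗[k] C) := by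
  rw [geometricallyIrreducible_iff, geometrically_iff_of_commRing_of_isClosedUnderIsomorphisms]
  refine forall_congr' fun L => forall_congr' fun _ => forall_congr' fun _ => ?_
  rw [← (pullbackSpecIso k C L).inv.homeomorph.irreducibleSpace_iff]
  rw [irreducibleSpace_Spec_iff]
  exact irrRing_congr (Algebra.TensorProduct.comm k C L).toRingEquiv

theorem geomIrrFiber_spec_iff' {R A : CommRingCat.{u}} (φ : R ⟶ A) (y : PrimeSpectrum R) :
    letI := φ.hom.toAlgebra
    GIF (Spec.map φ) y ↔
      ∀ (L : Type u) [Field L] [Algebra y.asIdeal.ResidueField L],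
        IrrRing (L ⊗[y.asIdeal.ResidueField] (y.asIdeal.Fiber A)) := by
  letI := φ.hom.toAlgebra
  haveI : MorphismProperty.RespectsIso @GeometricallyIrreducible.{u} :=
    MorphismProperty.IsStableUnderBaseChange.respectsIso
  rw [← geometricallyIrreducible_SpecMap_iff]
  exact MorphismProperty.arrow_mk_iso_iff (P := @GeometricallyIrreducible)
    (Spec.fiberToSpecResidueFieldIso R A y)

/-- The fibre of `Spec A ⟶ Spec R` at `y` is geometrically irreducible iff `Spec (L ⊗[R] A)` is
irreducible for all fields `L` over `R` with `ker (R → L) = y`. -/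
theorem geomIrrFiber_spec_iff {R A : CommRingCat.{u}} (φ : R ⟶ A) (y : PrimeSpectrum R) :
    letI := φ.hom.toAlgebra
    GIF (Spec.map φ) y ↔
      ∀ (L : Type u) [Field L] [Algebra R L], RingHom.ker (algebraMap R L) = y.asIdeal →
        IrrRing (L ⊗[R] A) := by
  letI := φ.hom.toAlgebra
  rw [geomIrrFiber_spec_iff']
  let κ := y.asIdeal.ResidueField
  constructor
  · intro H L _ _ hker
    let ψ : κ →ₐ[R] L := Ideal.ResidueField.liftₐ y.asIdeal (Algebra.ofId R L)
      (by
        intro x hx
        rw [← hker] at hx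
        exact hx)
      (by
        intro x hx
        have hx' : x ∉ RingHom.ker (algebraMap R L) := by rw [hker]; exact hx
        have : algebraMap R L x ≠ 0 := hx'
        exact isUnit_iff_ne_zero.2 this)
    letI : Algebra κ L := ψ.toRingHom.toAlgebra
    haveI : IsScalarTower R κ L := IsScalarTower.of_algebraMap_eq (fun r => (ψ.commutes r).symm)
    exact (irrRing_congr (Algebra.TensorProduct.cancelBaseChange R κ L L A).toRingEquiv).mp (H L)
  · intro H L _ _
    letI : Algebra R L := ((algebraMap κ L).comp (algebraMap R κ)).toAlgebra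
    haveI : IsScalarTower R κ L := IsScalarTower.of_algebraMap_eq (fun r => rfl)
    have hker : RingHom.ker (algebraMap R L) = y.asIdeal := by
      ext x
      rw [RingHom.mem_ker, IsScalarTower.algebraMap_apply R κ L,
        (algebraMap κ L).injective.eq_iff' (map_zero _), Ideal.algebraMap_residueField_eq_zero]
    exact (irrRing_congr (Algebra.TensorProduct.cancelBaseChange R κ L L A).toRingEquiv).mpr
      (H L hker)

theorem geomIrrFiber_iff_of_isPullback {X Y X' Y' : Scheme.{u}} (f : X ⟶ Y) (g : Y' ⟶ Y)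
    (f' : X' ⟶ Y') (g' : X' ⟶ X) (hc : IsPullback g' f' f g) (y' : Y') :
    GIF f' y' ↔ GIF f (g y') := by
  have := Groth.Agent.S9764.result f g f' g' hc
  exact Set.ext_iff.mp this y'

theorem irreducibleSpace_of_denseRange {T T' : Type*} [TopologicalSpace T] [TopologicalSpace T']
    [IrreducibleSpace T'] (i : T' → T) (hi : Continuous i) (hd : DenseRange i) :
    IrreducibleSpace T := by
  rw [irreducibleSpace_def]
  have h1 : IsIrreducible (Set.range i) := by
    rw [← Set.image_univ]
    exact (IrreducibleSpace.isIrreducible_univ T').image i hi.continuousOn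
  have h2 := h1.closure
  rwa [hd.closure_range] at h2

/-- the open immersion of fibres induced by `j : U ⟶ X`. -/
noncomputable def fiberMap {U X Y : Scheme.{u}} (j : U ⟶ X) (f : X ⟶ Y) (y : Y) :
    (j ≫ f).fiber y ⟶ f.fiber y :=
  pullback.map (j ≫ f) (Y.fromSpecResidueField y) f (Y.fromSpecResidueField y) j (𝟙 _) (𝟙 _)
    (by simp) (by simp)

instance {U X Y : Scheme.{u}} (j : U ⟶ X) (f : X ⟶ Y) (y : Y) [IsOpenImmersion j] :
    IsOpenImmersion (fiberMap j f y) :=
  Scheme.pullback_map_isOpenImmersion (j ≫ f) (Y.fromSpecResidueField y) f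
    (Y.fromSpecResidueField y) j (𝟙 _) (𝟙 _) (by simp) (by simp)

theorem fiberMap_toSpec {U X Y : Scheme.{u}} (j : U ⟶ X) (f : X ⟶ Y) (y : Y) :
    fiberMap j f y ≫ f.fiberToSpecResidueField y = (j ≫ f).fiberToSpecResidueField y :=
  (pullback.lift_snd _ _ _).trans (Category.comp_id _)

theorem fiberMap_fiberι {U X Y : Scheme.{u}} (j : U ⟶ X) (f : X ⟶ Y) (y : Y) :
    fiberMap j f y ≫ f.fiberι y = (j ≫ f).fiberι y ≫ j :=
  pullback.lift_fst _ _ _

theorem range_fiberMap {U X Y : Scheme.{u}} (j : U ⟶ X) (f : X ⟶ Y) (y : Y) :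
    Set.range (fiberMap j f y) = (f.fiberι y) ⁻¹' Set.range j := by
  have := Scheme.Pullback.range_map (j ≫ f) (Y.fromSpecResidueField y) f
    (Y.fromSpecResidueField y) j (𝟙 _) (𝟙 _) (by simp) (by simp)
  have h2 : Set.range ⇑(𝟙 (Spec (Y.residueField y)) : Spec (Y.residueField y) ⟶ _) = Set.univ := by
    ext z; simp
  rw [h2, Set.preimage_univ, Set.inter_univ] at this
  exact this

/-- If the open `U` is dense in the fibre of `f` at `y` and the fibre of `U` is geometrically
irreducible, so is the fibre of `f`. -/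
theorem geomIrrFiber_of_dense {U X Y : Scheme.{u}} (j : U ⟶ X) [IsOpenImmersion j] (f : X ⟶ Y)
    (y : Y) (hd : Dense ((f.fiberι y) ⁻¹' Set.range j)) (h : GIF (j ≫ f) y) : GIF f y := by
  refine ⟨geometrically_iff_of_isClosedUnderIsomorphisms.mpr fun K _ x ↦ ?_⟩
  let i : pullback ((j ≫ f).fiberToSpecResidueField y) x ⟶
      pullback (f.fiberToSpecResidueField y) x :=
    pullback.map _ _ _ _ (fiberMap j f y) (𝟙 _) (𝟙 _)
      (by rw [Category.comp_id, fiberMap_toSpec]) (by simp)
  haveI : IrreducibleSpace ↥(pullback ((j ≫ f).fiberToSpecResidueField y) x) :=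
    pullback_of_geometrically (h.geometrically_irreducibleSpace) K x
  have hr : Set.range i = (pullback.fst (f.fiberToSpecResidueField y) x) ⁻¹'
      Set.range (fiberMap j f y) := by
    rw [Scheme.Pullback.range_map]
    have h2 : Set.range ⇑(𝟙 (Spec (CommRingCat.of K)) : Spec (CommRingCat.of K) ⟶ _) =
        Set.univ := by
      ext z; simp
    rw [h2, Set.preimage_univ, Set.inter_univ]
  have hopen : IsOpenMap (pullback.fst (f.fiberToSpecResidueField y) x) :=
    (pullback.fst (f.fiberToSpecResidueField y) x).isOpenMap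
  refine irreducibleSpace_of_denseRange i i.continuous ?_
  rw [DenseRange, hr, range_fiberMap]
  exact hd.preimage hopen

/-- density of an open in a fibre, in terms of `FibND` -/
theorem dense_preimage_iff_fibND {X Y : Scheme.{u}} (f : X ⟶ Y) (y : Y) (W : Set X)
    (hW : IsOpen W) : Dense ((f.fiberι y) ⁻¹' W) ↔ FibND f Wᶜ y := by
  rw [← isNowhereDense_preimage_iff f y (f.fiberι y) (f.fiberι y).isEmbedding.isInducing
    (Scheme.Hom.range_fiberι f y) Wᶜ hW.isClosed_compl]
  have hcl : IsClosed ((f.fiberι y) ⁻¹' Wᶜ) := hW.isClosed_compl.preimage (f.fiberι y).continuous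
  have h1 := isClosed_isNowhereDense_iff_compl (s := (f.fiberι y) ⁻¹' Wᶜ)
  rw [Set.preimage_compl, compl_compl] at h1
  constructor
  · intro hd
    rw [Set.preimage_compl]
    exact (h1.mpr ⟨hW.preimage (f.fiberι y).continuous, hd⟩).2
  · intro hnd
    rw [Set.preimage_compl] at hnd hcl
    exact (h1.mp ⟨hcl, hnd⟩).2

/-- affine source, integral affine base -/
theorem core_affine {R A : CommRingCat.{u}} [IsDomain R] (φ : R ⟶ A) (hφ : φ.hom.FiniteType)
    (h : GIF (Spec.map φ) (⟨⊥, Ideal.isPrime_bot⟩ : PrimeSpectrum R)) :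
    ∃ g : R, g ≠ 0 ∧ ∀ y : PrimeSpectrum R, g ∉ y.asIdeal → GIF (Spec.map φ) y := by
  letI := φ.hom.toAlgebra
  haveI : Algebra.FiniteType R A := hφ
  have H : ∀ (L : Type u) [Field L] [Algebra R L], Function.Injective (algebraMap R L) →
      IrrRing (L ⊗[R] A) := by
    intro L _ _ hinj
    exact (geomIrrFiber_spec_iff φ _).mp h L ((RingHom.injective_iff_ker_eq_bot _).mp hinj)
  obtain ⟨g, hg, hgL⟩ := Groth.Agent.Lib.H77GeomIrrAlg.exists_forall_irrRing H
  refine ⟨g, hg, fun y hy => (geomIrrFiber_spec_iff φ y).mpr fun L _ _ hker => hgL L ?_⟩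
  intro h0
  apply hy
  rw [← hker]
  exact h0

/-- integral affine base -/
theorem core (R : CommRingCat.{u}) [IsDomain R] {X : Scheme.{u}} (f : X ⟶ Spec R)
    [LocallyOfFiniteType f] [QuasiCompact f]
    (h : GIF f (⟨⊥, Ideal.isPrime_bot⟩ : PrimeSpectrum R)) :
    ∃ g : R, g ≠ 0 ∧ ∀ y : Spec R, y ∈ PrimeSpectrum.basicOpen g → GIF f y := by
  let η : Spec R := (⟨⊥, Ideal.isPrime_bot⟩ : PrimeSpectrum R)
  haveI : GeometricallyIrreducible (f.fiberToSpecResidueField η) := h
  haveI hirr : IrreducibleSpace (f.fiber η) :=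
    GeometricallyIrreducible.irreducibleSpace_of_subsingleton (f.fiberToSpecResidueField η)
  obtain ⟨x₀⟩ : Nonempty (f.fiber η) := inferInstance
  obtain ⟨i, t, ht⟩ := X.affineOpenCover.openCover.exists_eq (f.fiberι η x₀)
  let A : CommRingCat.{u} := X.affineOpenCover.X i
  let j : Spec A ⟶ X := X.affineOpenCover.f i
  haveI : IsOpenImmersion j := X.affineOpenCover.openCover.map_prop i
  obtain ⟨t, ht⟩ : ∃ t' : Spec A, j t' = f.fiberι η x₀ := ⟨t, ht⟩
  have hx₀ : f (f.fiberι η x₀) = η := by
    have : f.fiberι η x₀ ∈ Set.range (f.fiberι η) := ⟨x₀, rfl⟩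
    rw [Scheme.Hom.range_fiberι] at this
    exact this
  -- the fibre of `U` over `η` is nonempty
  have hne : Nonempty ((j ≫ f).fiber η) := by
    rw [((j ≫ f).fiberHomeo η).nonempty_congr, Set.nonempty_coe_sort]
    refine ⟨t, ?_⟩
    change (j ≫ f) t = η
    rw [Scheme.Hom.comp_apply, ht]
    exact hx₀
  have hU : GIF (j ≫ f) η := by
    haveI : Surjective (fiberMap j f η ≫ f.fiberToSpecResidueField η) := by
      rw [fiberMap_toSpec]
      refine ⟨fun z => ?_⟩
      obtain ⟨w⟩ := hne
      exact ⟨w, Subsingleton.elim _ _⟩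
    have : GeometricallyIrreducible (fiberMap j f η ≫ f.fiberToSpecResidueField η) :=
      inferInstance
    rwa [fiberMap_toSpec] at this
  -- spreading out for the affine open
  obtain ⟨φ, hφ⟩ := Spec.map_surjective (j ≫ f)
  have hft : φ.hom.FiniteType := by
    rw [← HasRingHomProperty.Spec_iff (P := @LocallyOfFiniteType), hφ]
    exact (inferInstance : LocallyOfFiniteType (j ≫ f))
  obtain ⟨g₁, hg₁, hgy₁⟩ := core_affine φ hft (hφ ▸ hU)
  -- density
  have hW : IsOpen (Set.range j) := j.isOpenEmbedding.isOpen_range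
  have hND : FibND f (Set.range j)ᶜ η := by
    rw [← dense_preimage_iff_fibND f η _ hW]
    refine (hW.preimage (f.fiberι η).continuous).dense ⟨x₀, t, ht⟩
  obtain ⟨g₂, hg₂, hgy₂⟩ := Groth.Agent.Lib.H77FibNDSch.exists_affine_base_domain R f
    (Set.range j)ᶜ hW.isClosed_compl hND
  refine ⟨g₁ * g₂, mul_ne_zero hg₁ hg₂, fun y hy => ?_⟩
  obtain ⟨P, hP⟩ : ∃ P : PrimeSpectrum R, P = y := ⟨_, rfl⟩
  rw [← hP] at hy ⊢
  have hy₁ : g₁ ∉ P.asIdeal := fun hh => hy (P.asIdeal.mul_mem_right _ hh)
  have hy₂ : g₂ ∉ P.asIdeal := fun hh => hy (P.asIdeal.mul_mem_left _ hh)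
  apply geomIrrFiber_of_dense j f P
  · rw [dense_preimage_iff_fibND f P _ hW]
    exact hgy₂ P hy₂
  · have := hgy₁ P hy₁
    rwa [hφ] at this

/-- **Geometrically irreducible generic fibre spreads out** (EGA IV 9.7.7, Stacks 0559). -/
theorem exists_opens_forall_geomIrrFiber {X Y : Scheme.{u}} (f : X ⟶ Y) [IrreducibleSpace Y]
    [LocallyOfFiniteType f] [QuasiCompact f] (h : GIF f (genericPoint Y)) :
    ∃ V : Y.Opens, genericPoint Y ∈ V ∧ ∀ y ∈ V, GIF f y :=
  Groth.Agent.Lib.H77FibrePropLocal.exists_opens_of_domain_core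
    (fun _ _ f y => GIF f y)
    (fun _ _ _ _ f g f' g' hc y' => geomIrrFiber_iff_of_isPullback f g f' g' hc y')
    (fun R _ _ f _ _ h => core R f h) f h

end Groth.Agent.Lib.H77GeomIrrSch
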