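import Groth.Agent.Lib.GeomRedOpen5C
import Groth.Agent.Lib.H77GeomIrrSch
import Groth.Agent.Lib.H71SepClosedGeom

/-!
# Openness of the geometrically integral locus, part A (helper5): finite extensions suffice

* `irrRing_tensor_of_forall_finite`: for an algebraic extension `K/k`, `Spec (B ⊗[k] K)` is
  irreducible as soon as `Spec (B ⊗[k] N)` is irreducible for all finite subextensions `N`;
* `geometricallyIrreducible_of_forall_finite`: a scheme over a field `k` which stays irreducible
  after every finite extension of `k` is geometrically irreducible (EGA IV 4.5.9).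
-/

set_option autoImplicit false
set_option linter.style.haveILetI false
set_option linter.unusedSectionVars false
universe u

open CategoryTheory CategoryTheory.Limits AlgebraicGeometry TopologicalSpace Opposite IsLocalRing
  Topology TensorProduct

namespace Groth.Agent.Lib.GeomIntOpen5

open Groth.Agent.Lib.H77IrrRing Groth.Agent.Lib.H77GeomIrrSch

section Ring

variable (k K B : Type u) [Field k] [Field K] [Algebra k K] [CommRing B] [Algebra k B]

/-- The comparison map `B ⊗[k] N → B ⊗[k] K` for an intermediate field `N`. -/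
noncomputable def tensorIncl (N : IntermediateField k K) : B ⊗[k] N →ₐ[k] B ⊗[k] K :=
  Algebra.TensorProduct.map (AlgHom.id k B) N.val

theorem tensorIncl_injective (N : IntermediateField k K) :
    Function.Injective (tensorIncl k K B N) := by
  have h := Module.Flat.lTensor_preserves_injective_linearMap (M := B) N.val.toLinearMap
    N.val.injective
  exact h

theorem tensorIncl_tmul (N : IntermediateField k K) (b : B) (c : N) :
    tensorIncl k K B N (b ⊗ₜ c) = b ⊗ₜ (c : K) := rfl

theorem range_tensorIncl_mono {N N' : IntermediateField k K} (h : N ≤ N') :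
    Set.range (tensorIncl k K B N) ⊆ Set.range (tensorIncl k K B N') := by
  rintro _ ⟨z, rfl⟩
  refine ⟨Algebra.TensorProduct.map (AlgHom.id k B) (IntermediateField.inclusion h) z, ?_⟩
  induction z with
  | zero => simp
  | tmul b c => rfl
  | add x y hx hy => rw [map_add, map_add, map_add, hx, hy]

theorem exists_mem_range_tensorIncl [Algebra.IsAlgebraic k K] (z : B ⊗[k] K) :
    ∃ N : IntermediateField k K, FiniteDimensional k N ∧ z ∈ Set.range (tensorIncl k K B N) := by
  induction z with
  | zero => exact ⟨⊥, inferInstance, 0, map_zero _⟩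
  | tmul b c =>
    refine ⟨IntermediateField.adjoin k {c},
      IntermediateField.adjoin.finiteDimensional (Algebra.IsIntegral.isIntegral c),
      b ⊗ₜ ⟨c, IntermediateField.mem_adjoin_simple_self k c⟩, rfl⟩
  | add x y hx hy =>
    obtain ⟨N₁, h₁, hx⟩ := hx
    obtain ⟨N₂, h₂, hy⟩ := hy
    refine ⟨N₁ ⊔ N₂, IntermediateField.finiteDimensional_sup N₁ N₂, ?_⟩
    obtain ⟨x', rfl⟩ := range_tensorIncl_mono k K B (le_sup_left : N₁ ≤ N₁ ⊔ N₂) hx
    obtain ⟨y', rfl⟩ := range_tensorIncl_mono k K B (le_sup_right : N₂ ≤ N₁ ⊔ N₂) hy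
    exact ⟨x' + y', map_add _ _ _⟩

/-- For an algebraic extension `K/k`, the spectrum of `B ⊗[k] K` is irreducible as soon as that
of `B ⊗[k] N` is, for all finite subextensions `N`. -/
theorem irrRing_tensor_of_forall_finite [Algebra.IsAlgebraic k K]
    (h : ∀ N : IntermediateField k K, FiniteDimensional k N → IrrRing (B ⊗[k] N)) :
    IrrRing (B ⊗[k] K) := by
  rw [irrRing_iff]
  constructor
  · have h0 := (h ⊥ inferInstance).nontrivial
    exact (tensorIncl_injective k K B ⊥).nontrivial
  · intro a b hab
    obtain ⟨N₁, h₁, ha⟩ := exists_mem_range_tensorIncl k K B a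
    obtain ⟨N₂, h₂, hb⟩ := exists_mem_range_tensorIncl k K B b
    haveI : FiniteDimensional k ↥(N₁ ⊔ N₂) := IntermediateField.finiteDimensional_sup N₁ N₂
    obtain ⟨a', rfl⟩ := range_tensorIncl_mono k K B (le_sup_left : N₁ ≤ N₁ ⊔ N₂) ha
    obtain ⟨b', rfl⟩ := range_tensorIncl_mono k K B (le_sup_right : N₂ ≤ N₁ ⊔ N₂) hb
    have hN := (irrRing_iff _).mp (h (N₁ ⊔ N₂) inferInstance)
    have hinj := tensorIncl_injective k K B (N₁ ⊔ N₂)
    rw [← map_mul] at hab
    have hab' : IsNilpotent (a' * b') :=
      (IsNilpotent.map_iff (f := (tensorIncl k K B (N₁ ⊔ N₂)).toRingHom) hinj).mp hab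
    rcases hN.2 a' b' hab' with h' | h'
    · exact Or.inl (h'.map (tensorIncl k K B (N₁ ⊔ N₂)).toRingHom)
    · exact Or.inr (h'.map (tensorIncl k K B (N₁ ⊔ N₂)).toRingHom)

end Ring

section Scheme

theorem irreducibleSpace_of_isOpenEmbedding {T T' : Type*} [TopologicalSpace T]
    [TopologicalSpace T'] [IrreducibleSpace T] [Nonempty T'] (i : T' → T)
    (hi : IsOpenEmbedding i) : IrreducibleSpace T' := by
  rw [irreducibleSpace_def]
  refine ⟨Set.univ_nonempty, ?_⟩
  have := (IrreducibleSpace.isIrreducible_univ T).2.preimage hi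
  rwa [Set.preimage_univ] at this

theorem irreducibleSpace_of_surjective {T T' : Type*} [TopologicalSpace T] [TopologicalSpace T']
    [IrreducibleSpace T'] (i : T' → T) (hi : Continuous i) (hs : Function.Surjective i) :
    IrreducibleSpace T :=
  irreducibleSpace_of_denseRange i hi hs.denseRange

/-- A scheme over a field `k` which stays irreducible after every finite extension of `k` is
geometrically irreducible. -/
theorem geometricallyIrreducible_of_forall_finite (k : Type u) [Field k] {Z : Scheme.{u}}
    (q : Z ⟶ Spec (CommRingCat.of k))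
    (h : ∀ (N : Type u) [Field N] [Algebra k N] [FiniteDimensional k N],
      IrreducibleSpace ↥(pullback q (Spec.map (CommRingCat.ofHom (algebraMap k N))))) :
    GeometricallyIrreducible q := by
  -- `Z` is irreducible
  haveI hZ : IrreducibleSpace Z := by
    haveI := h k
    exact irreducibleSpace_of_surjective
      (pullback.fst q (Spec.map (CommRingCat.ofHom (algebraMap k k))))
      (pullback.fst q (Spec.map (CommRingCat.ofHom (algebraMap k k)))).continuous
      (pullback.fst q (Spec.map (CommRingCat.ofHom (algebraMap k k)))).surjective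
  obtain ⟨x⟩ : Nonempty Z := inferInstance
  obtain ⟨R, j, hjo, x₀, hx₀⟩ : ∃ (R : CommRingCat.{u}) (j : Spec R ⟶ Z),
      IsOpenImmersion j ∧ ∃ x₀, j.base x₀ = x :=
    ⟨_, Z.affineCover.f (Z.affineCover.idx x), Z.affineCover.map_prop _, Z.affineCover.covers x⟩
  haveI : Nonempty (Spec R) := ⟨x₀⟩
  let m : Spec R ⟶ Spec (CommRingCat.of k) := j ≫ q
  let ψ : CommRingCat.of k ⟶ R := Spec.preimage m
  have hψ : Spec.map ψ = m := Spec.map_preimage m
  letI : Algebra k R := ψ.hom.toAlgebra
  have hm : m = Spec.map (CommRingCat.ofHom (algebraMap k R)) := hψ.symm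
  -- the base changes of the affine open
  have hirr : ∀ (N : Type u) [Field N] [Algebra k N],
      IrreducibleSpace ↥(pullback q (Spec.map (CommRingCat.ofHom (algebraMap k N)))) →
        IrrRing (R ⊗[k] N) := by
    intro N _ _ hN
    let a : Spec (CommRingCat.of N) ⟶ Spec (CommRingCat.of k) :=
      Spec.map (CommRingCat.ofHom (algebraMap k N))
    let i : pullback m a ⟶ pullback q a :=
      pullback.map m a q a j (𝟙 _) (𝟙 _) (by simp [m]) (by simp)
    haveI : IsOpenImmersion i :=
      Scheme.pullback_map_isOpenImmersion m a q a j (𝟙 _) (𝟙 _) (by simp [m]) (by simp)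
    haveI : Nonempty ↥(pullback m a) :=
      ⟨((pullback.fst m a).surjective x₀).choose⟩
    have h1 : IrreducibleSpace ↥(pullback m a) :=
      irreducibleSpace_of_isOpenEmbedding i i.isOpenEmbedding
    rw [hm] at h1
    have h2 : IrreducibleSpace ↥(Spec (CommRingCat.of (R ⊗[k] N))) :=
      (pullbackSpecIso k R N).inv.homeomorph.irreducibleSpace_iff.mpr h1
    exact (irreducibleSpace_Spec_iff _).mp h2
  let K := SeparableClosure k
  have hK : IrrRing (R ⊗[k] K) := by
    apply irrRing_tensor_of_forall_finite
    intro N hN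
    exact hirr N (h N)
  let a : Spec (CommRingCat.of K) ⟶ Spec (CommRingCat.of k) :=
    Spec.map (CommRingCat.ofHom (algebraMap k K))
  have h2 : IrreducibleSpace ↥(Spec (CommRingCat.of (R ⊗[k] K))) :=
    (irreducibleSpace_Spec_iff _).mpr hK
  have h1 : IrreducibleSpace ↥(pullback (Spec.map (CommRingCat.ofHom (algebraMap k R))) a) :=
    (pullbackSpecIso k R K).inv.homeomorph.irreducibleSpace_iff.mp h2
  rw [← hm] at h1
  let i : pullback m a ⟶ pullback q a :=
    pullback.map m a q a j (𝟙 _) (𝟙 _) (by simp [m]) (by simp)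
  have hr : Set.range i = (pullback.fst q a) ⁻¹' Set.range j := by
    rw [Scheme.Pullback.range_map]
    have h2 : Set.range ⇑(𝟙 (Spec (CommRingCat.of K)) : Spec (CommRingCat.of K) ⟶ _) =
        Set.univ := by
      ext z; simp
    rw [h2, Set.preimage_univ, Set.inter_univ]
  have hd : Dense (Set.range j) := j.isOpenEmbedding.isOpen_range.dense ⟨x, x₀, hx₀⟩
  have hopen : IsOpenMap (pullback.fst q a) := (pullback.fst q a).isOpenMap
  haveI : IrreducibleSpace ↥(pullback q a) := by
    refine irreducibleSpace_of_denseRange i i.continuous ?_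
    rw [DenseRange, hr]
    exact hd.preimage hopen
  exact Groth.Agent.Lib.H71SepClosedGeom.geometricallyIrreducible_of_irreducibleSpace_pullback K q

end Scheme

end Groth.Agent.Lib.GeomIntOpen5
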