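import Groth.Agent.Lib.GeomIntOpen5A

/-!
# Openness of the geometrically integral locus, part B (helper5): integrality over a DVR

* `isDomain_of_isPrime_span`: a Noetherian local ring with a regular element `π` of the maximal
  ideal such that `(π)` is prime is a domain;
* `isDomain_stalk_of_closedFibre`: local rings of a flat scheme over a DVR at points of an integral
  closed fibre are domains;
* `genPt`, `genPt_specializes`, `eq_genPt_of_specializes`, `genPt_eq_of_specializes`: the generic
  point of the unique irreducible component through a point whose local ring is a domain;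
* `isIntegral_of_isIntegral_closedFibre`: a flat scheme locally of finite type over a discrete
  valuation ring, whose structure map is closed and whose closed fibre is integral, is integral.
-/

set_option autoImplicit false
set_option linter.style.haveILetI false
set_option linter.unusedSectionVars false
universe u

open CategoryTheory CategoryTheory.Limits AlgebraicGeometry TopologicalSpace Opposite IsLocalRing
  Topology TensorProduct

namespace Groth.Agent.Lib.GeomIntOpen5

open Groth.Agent.Lib.H47DvrFibre Groth.Agent.Lib.GeomRedOpen5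

section Ring

/-- A Noetherian local ring with a regular element `π` of the maximal ideal such that `(π)` is
prime is a domain. -/
theorem isDomain_of_isPrime_span (R : Type*) [CommRing R] [IsLocalRing R] [IsNoetherianRing R]
    (π : R) (hnu : ¬ IsUnit π) (hreg : ∀ a : R, π * a = 0 → a = 0)
    (hp : (Ideal.span {π}).IsPrime) : IsDomain R := by
  have hI : Ideal.span {π} ≠ ⊤ := by
    rw [Ne, Ideal.span_singleton_eq_top]
    exact hnu
  have hK := Ideal.iInf_pow_eq_bot_of_isLocalRing (Ideal.span {π}) hI
  have hregpow : ∀ (n : ℕ) (a : R), π ^ n * a = 0 → a = 0 := by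
    intro n
    induction n with
    | zero => intro a h; simpa using h
    | succ n ih =>
      intro a h
      apply ih
      apply hreg
      rw [← mul_assoc, ← pow_succ']
      exact h
  -- every nonzero element is `π ^ n * c` with `c ∉ (π)`
  have hfact : ∀ a : R, a ≠ 0 → ∃ (n : ℕ) (c : R), a = π ^ n * c ∧ c ∉ Ideal.span {π} := by
    intro a ha
    have hex : ∃ n : ℕ, a ∉ Ideal.span {π} ^ n := by
      by_contra hcon
      push Not at hcon
      apply ha
      have hmem : a ∈ ⨅ i, Ideal.span {π} ^ i := by
        rw [Ideal.mem_iInf]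
        exact hcon
      rw [hK] at hmem
      exact hmem
    classical
    let n := Nat.find hex
    have hn : a ∉ Ideal.span {π} ^ n := Nat.find_spec hex
    have hn0 : n ≠ 0 := by
      intro h0
      rw [h0, pow_zero, Ideal.one_eq_top] at hn
      exact hn trivial
    obtain ⟨m, hm⟩ := Nat.exists_eq_succ_of_ne_zero hn0
    have hmem : a ∈ Ideal.span {π} ^ m := by
      by_contra hcon
      exact Nat.find_min hex (by omega : m < n) hcon
    rw [Ideal.span_singleton_pow, Ideal.mem_span_singleton'] at hmem
    obtain ⟨c, hc⟩ := hmem
    refine ⟨m, c, by rw [← hc, mul_comm], ?_⟩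
    intro hcmem
    apply hn
    rw [hm, Ideal.span_singleton_pow, Ideal.mem_span_singleton']
    obtain ⟨d, hd⟩ := Ideal.mem_span_singleton'.mp hcmem
    refine ⟨d, ?_⟩
    rw [← hc, ← hd, pow_succ]
    ring
  haveI : NoZeroDivisors R := by
    constructor
    intro a b hab
    by_contra hcon
    push Not at hcon
    obtain ⟨n, c, rfl, hc⟩ := hfact a hcon.1
    obtain ⟨m, d, rfl, hd⟩ := hfact b hcon.2
    have h1 : π ^ (n + m) * (c * d) = 0 := by
      rw [← hab, pow_add]; ring
    have h2 : c * d = 0 := hregpow _ _ h1
    have h3 : c * d ∈ Ideal.span {π} := by rw [h2]; exact Ideal.zero_mem _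
    rcases hp.mem_or_mem h3 with h | h
    · exact hc h
    · exact hd h
  exact NoZeroDivisors.to_isDomain R

end Ring

section GenPt

variable {X : Scheme.{u}}

/-- The generic point of the spectrum of the local ring, when this is a domain. -/
noncomputable def botPt (x : X) [IsDomain (X.presheaf.stalk x)] : ↥(Spec (X.presheaf.stalk x)) :=
  (⟨⊥, Ideal.isPrime_bot⟩ : PrimeSpectrum (X.presheaf.stalk x))

theorem botPt_specializes (x : X) [IsDomain (X.presheaf.stalk x)]
    (t : ↥(Spec (X.presheaf.stalk x))) : botPt x ⤳ t :=
  (PrimeSpectrum.le_iff_specializes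
    (⟨⊥, Ideal.isPrime_bot⟩ : PrimeSpectrum (X.presheaf.stalk x)) t).mp
      (bot_le (a := PrimeSpectrum.asIdeal t))

theorem eq_botPt_of_specializes (x : X) [IsDomain (X.presheaf.stalk x)]
    (t : ↥(Spec (X.presheaf.stalk x))) (h : t ⤳ botPt x) : t = botPt x := by
  have h1 : PrimeSpectrum.asIdeal t ≤ ⊥ :=
    (PrimeSpectrum.le_iff_specializes t
      (⟨⊥, Ideal.isPrime_bot⟩ : PrimeSpectrum (X.presheaf.stalk x))).mpr h
  exact PrimeSpectrum.ext (le_antisymm h1 bot_le)

/-- The generic point of the unique irreducible component through a point whose local ring is a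
domain. -/
noncomputable def genPt (x : X) [IsDomain (X.presheaf.stalk x)] : X :=
  X.fromSpecStalk x (botPt x)

theorem genPt_specializes (x : X) [IsDomain (X.presheaf.stalk x)] {y : X} (hy : y ⤳ x) :
    genPt x ⤳ y := by
  have hmem : y ∈ Set.range (X.fromSpecStalk x) := by
    rw [Scheme.range_fromSpecStalk]
    exact hy
  obtain ⟨t, rfl⟩ := hmem
  exact (botPt_specializes x t).map (X.fromSpecStalk x).continuous

theorem eq_genPt_of_specializes (x : X) [IsDomain (X.presheaf.stalk x)] {z : X}
    (hz : z ⤳ genPt x) : z = genPt x := by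
  have h0 : genPt x ⤳ x := genPt_specializes x specializes_rfl
  have hmem : z ∈ Set.range (X.fromSpecStalk x) := by
    rw [Scheme.range_fromSpecStalk]
    exact hz.trans h0
  obtain ⟨t, rfl⟩ := hmem
  have h1 : t ⤳ botPt x :=
    ((X.fromSpecStalk x).isEmbedding.isInducing.specializes_iff).mp hz
  rw [eq_botPt_of_specializes x t h1]
  rfl

theorem genPt_eq_of_specializes (x ξ : X) [IsDomain (X.presheaf.stalk x)]
    [IsDomain (X.presheaf.stalk ξ)] (h : ξ ⤳ x) : genPt ξ = genPt x := by
  have h1 : genPt x ⤳ ξ := genPt_specializes x h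
  have h2 : genPt ξ ⤳ genPt x := genPt_specializes ξ h1
  exact eq_genPt_of_specializes x h2

end GenPt

section DVR

variable (A : Type u) [CommRing A] [IsDomain A] [IsDiscreteValuationRing A]
  {X : Scheme.{u}} (p : X ⟶ Spec (CommRingCat.of A))

/-- At a point of the closed fibre of a flat scheme locally of finite type over a DVR with
integral closed fibre, the local ring is a domain. -/
theorem isDomain_stalk_of_closedFibre [Flat p] [LocallyOfFiniteType p]
    (hint : IsIntegral (p.fiber (closedPoint A))) (x : X) (hx : p x = closedPoint A) :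
    IsDomain (X.presheaf.stalk x) := by
  haveI : IsLocallyNoetherian X := LocallyOfFiniteType.isLocallyNoetherian p
  obtain ⟨ϖ, hϖ⟩ := IsDiscreteValuationRing.exists_irreducible A
  have hmax : maximalIdeal A = Ideal.span {ϖ} := hϖ.maximalIdeal_eq
  set t := toStalkX p x ϖ with ht
  -- `t` is regular
  have hreg : ∀ a : X.presheaf.stalk x, t * a = 0 → a = 0 := by
    letI : Algebra A (X.presheaf.stalk x) := (toStalkX p x).toAlgebra
    haveI : Module.Flat A (X.presheaf.stalk x) := flat_toStalkX A p x
    have h1 : IsSMulRegular A ϖ := fun a b hab => mul_left_cancel₀ hϖ.ne_zero hab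
    have h2 : IsSMulRegular (X.presheaf.stalk x) (algebraMap A (X.presheaf.stalk x) ϖ) :=
      IsSMulRegular.of_flat h1
    intro a ha
    apply h2
    simp only [smul_eq_mul, mul_zero]
    exact ha
  -- `t` is not a unit
  have hnu : ¬ IsUnit t := by
    intro hu
    have h1 : x ∈ X.basicOpen (toΓ p ϖ) := (Scheme.mem_basicOpen_top X _ x).mpr hu
    rw [← preimage_Dπ_eq] at h1
    have h2 : ϖ ∉ (p x).asIdeal := (mem_Dπ ϖ (p x)).mp h1
    apply h2
    rw [hx]
    change ϖ ∈ maximalIdeal A
    rw [hmax]
    exact Ideal.mem_span_singleton_self ϖ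
  -- `(t)` is prime
  have hint' : IsIntegral (p.fiber (p x)) := by rw [hx]; exact hint
  have hI : Ideal.map (p.stalkMap x).hom
      (maximalIdeal ((Spec (CommRingCat.of A)).presheaf.stalk (p x))) = Ideal.span {t} := by
    rw [fibreIdeal_eq, hx]
    change Ideal.map (toStalkX p x) (maximalIdeal A) = _
    rw [hmax, Ideal.map_span, Set.image_singleton]
  have hdom : IsDomain (X.presheaf.stalk x ⧸ Ideal.map (p.stalkMap x).hom
      (maximalIdeal ((Spec (CommRingCat.of A)).presheaf.stalk (p x)))) :=
    MulEquiv.isDomain _ (Groth.Agent.Lib.FibreStalk33.fibreStalkEquiv p x).toMulEquiv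
  have hprime : (Ideal.span {t}).IsPrime := by
    rw [← hI]
    exact (Ideal.Quotient.isDomain_iff_prime (I := Ideal.map (p.stalkMap x).hom (maximalIdeal ((Spec (CommRingCat.of A)).presheaf.stalk (p x))))).mp hdom
  exact isDomain_of_isPrime_span _ t hnu hreg hprime

/-- **Integrality from the closed fibre.** A flat scheme locally of finite type over a discrete
valuation ring, whose structure morphism is closed and whose closed fibre is integral, is
integral. -/
theorem isIntegral_of_isIntegral_closedFibre [Flat p] [LocallyOfFiniteType p]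
    (hcl : IsClosedMap p) (hint : IsIntegral (p.fiber (closedPoint A))) : IsIntegral X := by
  haveI : IsReduced (p.fiber (closedPoint A)) := inferInstance
  haveI : IsReduced X := isReduced_of_isReduced_closedFibre A p hcl inferInstance
  let c : Spec (CommRingCat.of A) := closedPoint A
  -- the generic point of the closed fibre
  let ξ : X := p.fiberι c (genericPoint (p.fiber c))
  have hξ : p ξ = c := by
    have : ξ ∈ Set.range (p.fiberι c) := ⟨_, rfl⟩
    rw [p.range_fiberι c] at this
    exact this
  have hξs : ∀ x₀ : X, p x₀ = c → ξ ⤳ x₀ := by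
    intro x₀ hx₀
    have : x₀ ∈ Set.range (p.fiberι c) := by
      rw [p.range_fiberι c]
      exact hx₀
    obtain ⟨z, rfl⟩ := this
    exact (genericPoint_specializes z).map (p.fiberι c).continuous
  haveI hdξ : IsDomain (X.presheaf.stalk ξ) := isDomain_stalk_of_closedFibre A p hint ξ hξ
  let η : X := genPt ξ
  have hη : ∀ x : X, η ⤳ x := by
    intro x
    have hs : p x ⤳ closedPoint A := IsLocalRing.specializes_closedPoint (p x)
    have h1 : closedPoint A ∈ closure {p x} := specializes_iff_mem_closure.mp hs
    have h2 : closure {p x} ⊆ p '' closure {x} := by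
      have := hcl.closure_image_subset {x}
      rwa [Set.image_singleton] at this
    obtain ⟨x₀, hx₀, hpx₀⟩ := h2 h1
    have hsp : x ⤳ x₀ := specializes_iff_mem_closure.mpr hx₀
    haveI : IsDomain (X.presheaf.stalk x₀) := isDomain_stalk_of_closedFibre A p hint x₀ hpx₀
    have h3 : genPt ξ = genPt x₀ := genPt_eq_of_specializes x₀ ξ (hξs x₀ hpx₀)
    change genPt ξ ⤳ x
    rw [h3]
    exact genPt_specializes x₀ hsp
  haveI : IrreducibleSpace X := by
    rw [irreducibleSpace_def]
    have h1 : IsIrreducible (closure ({η} : Set X)) := isIrreducible_singleton.closure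
    have h2 : closure ({η} : Set X) = ⊤ := by
      ext x
      simp only [Set.top_eq_univ, Set.mem_univ, iff_true]
      exact specializes_iff_mem_closure.mp (hη x)
    rwa [h2] at h1
  exact isIntegral_of_irreducibleSpace_of_isReduced X

end DVR

end Groth.Agent.Lib.GeomIntOpen5
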