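import Groth.Agent.Lib.H77GeomCount

/-!
# Constancy of the number of geometric components of fibres near the generic point (helper77)

For `f : X ⟶ Y` of finite type with `Y` irreducible (EGA IV 9.7.8, Stacks 055A/055H):

* `exists_opens_nGeomIrredComp_eq`: `MoreMor.nGeomIrredComp f` is constant on a neighbourhood of the
  generic point;
* `exists_opens_forall_geomConnFiber`: if the generic fibre is geometrically connected, so are the
  fibres over a neighbourhood of the generic point;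
* `exists_opens_nGeomConnComp_eq`: `MoreMor.nGeomConnComp f` is constant on a neighbourhood of the
  generic point.
-/

set_option autoImplicit false
set_option linter.style.haveILetI false
universe u
open CategoryTheory Limits AlgebraicGeometry TopologicalSpace

namespace Groth.Agent.Lib.H77GeomCountMain

open Groth.Agent.Lib.H77GeomIrrSch Groth.Agent.Lib.H77GeomFiberMap Groth.Agent.Lib.H77TopDecomp
  Groth.Agent.Lib.H77GeomDecomp Groth.Agent.Lib.H69RedInduced Groth.Agent.Lib.H77GeomCount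
  Groth.Agent.Lib.H77SepClosedBase

theorem geomConnFiber_of_geomIrrFiber {X Y : Scheme.{u}} (g : X ⟶ Y) (y : Y) (h : GIF g y) :
    GCF g y := by
  rw [geomConnFiber_iff_connectedSpace_geomFiber]
  haveI := (geomIrrFiber_iff_irreducibleSpace_geomFiber g y).mp h
  infer_instance

/-- an open neighbourhood of the generic point of the spectrum of a domain contains a nonempty
principal open -/
theorem exists_basicOpen_of_opens (R : CommRingCat.{u}) [IsDomain R] (V : (Spec R).Opens)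
    (hV : (⟨⊥, Ideal.isPrime_bot⟩ : PrimeSpectrum R) ∈ (V : Set (Spec R))) :
    ∃ g : R, g ≠ 0 ∧ ∀ y : Spec R, y ∈ PrimeSpectrum.basicOpen g → y ∈ V := by
  obtain ⟨_, ⟨g, rfl⟩, hηg, hsub⟩ :=
    PrimeSpectrum.isTopologicalBasis_basic_opens.exists_subset_of_mem_open hV V.isOpen
  refine ⟨g, fun h0 => hηg ?_, fun y hy => hsub hy⟩
  rw [h0]
  exact Ideal.zero_mem _

section SepClosed

variable {X Y : Scheme.{u}} (f : X ⟶ Y) [LocallyOfFiniteType f] [QuasiCompact f]
  [IrreducibleSpace Y] [IsSepClosed (Y.residueField (genericPoint Y))]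

theorem exists_opens_nGeomIrredComp_eq_of_isSepClosed :
    ∃ V : Y.Opens, genericPoint Y ∈ V ∧
      ∀ y ∈ V, MoreMor.nGeomIrredComp f y = MoreMor.nGeomIrredComp f (genericPoint Y) := by
  obtain ⟨n, T, hcov, hirr, hne, -⟩ := exists_irrDecomp_fiber f (genericPoint Y)
  let i : ∀ k, redSub (T k) ⟶ X := fun k => redSubι (T k)
  have hr : ∀ k, Set.range (i k) = (T k : Set X) := fun k => range_redSubι (T k)
  have hcl : ∀ k, IsClosed (Set.range (i k)) := fun k => by rw [hr]; exact (T k).isClosed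
  have hGIFη : ∀ k, GIF (i k ≫ f) (genericPoint Y) := fun k =>
    geomIrrFiber_of_isIrreducible (i k) f (genericPoint Y) (by rw [hr]; exact hirr k)
  have hη : MoreMor.nGeomIrredComp f (genericPoint Y) = n :=
    nGeomIrredComp_eq_of_decomp i f (genericPoint Y) hcl (by simpa only [hr] using hcov) hGIFη
      (by simpa only [hr] using hne)
  obtain ⟨V1, hηV1, hV1⟩ := exists_opens_cover f T hcov
  obtain ⟨V2, hηV2, hV2⟩ := exists_opens_forall_finite (genericPoint Y)
    (fun k y => GIF (i k ≫ f) y)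
    (fun k => exists_opens_forall_geomIrrFiber (i k ≫ f) (hGIFη k))
  obtain ⟨V3, hηV3, hV3⟩ := exists_opens_forall_finite (genericPoint Y)
    (fun (p : Fin n × Fin n) y => p.1 ≠ p.2 →
      ¬ ((T p.1 : Set X) ∩ f ⁻¹' {y} ⊆ (T p.2 : Set X)))
    (fun p => by
      by_cases hp : p.1 = p.2
      · exact ⟨⊤, trivial, fun y _ h => absurd hp h⟩
      · have h1 := hne p.1 p.2 hp
        obtain ⟨x, ⟨hx1, hxη⟩, hx2⟩ := Set.not_subset.mp h1
        obtain ⟨V, hηV, hV⟩ := exists_opens_forall_nonempty_diff f (T p.1) (T p.2)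
          ⟨x, ⟨hx1, hx2⟩, hxη⟩
        refine ⟨V, hηV, fun y hy _ hsub => ?_⟩
        obtain ⟨x', ⟨hx'1, hx'2⟩, hx'y⟩ := hV y hy
        exact hx'2 (hsub ⟨hx'1, hx'y⟩))
  refine ⟨V1 ⊓ V2 ⊓ V3, ⟨⟨hηV1, hηV2⟩, hηV3⟩, fun y hy => ?_⟩
  obtain ⟨⟨hy1, hy2⟩, hy3⟩ := hy
  rw [hη]
  refine nGeomIrredComp_eq_of_decomp i f y hcl ?_ (hV2 y hy2) ?_
  · simpa only [hr] using hV1 y hy1
  · intro k l hkl
    have := hV3 y hy3 (k, l) hkl
    simpa only [hr] using this

theorem exists_opens_forall_geomConnFiber_of_isSepClosed (h : GCF f (genericPoint Y)) :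
    ∃ V : Y.Opens, genericPoint Y ∈ V ∧ ∀ y ∈ V, GCF f y := by
  haveI : GeometricallyConnected (f.fiberToSpecResidueField (genericPoint Y)) := h
  haveI hconnη : ConnectedSpace (f.fiber (genericPoint Y)) :=
    GeometricallyConnected.connectedSpace_of_subsingleton
      (f.fiberToSpecResidueField (genericPoint Y))
  obtain ⟨n, T, hcov, hirr, -, hconn⟩ := exists_irrDecomp_fiber f (genericPoint Y)
  obtain ⟨hn, hcut⟩ := hconn hconnη
  let i : ∀ k, redSub (T k) ⟶ X := fun k => redSubι (T k)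
  have hr : ∀ k, Set.range (i k) = (T k : Set X) := fun k => range_redSubι (T k)
  have hGIFη : ∀ k, GIF (i k ≫ f) (genericPoint Y) := fun k =>
    geomIrrFiber_of_isIrreducible (i k) f (genericPoint Y) (by rw [hr]; exact hirr k)
  obtain ⟨V1, hηV1, hV1⟩ := exists_opens_cover f T hcov
  obtain ⟨V2, hηV2, hV2⟩ := exists_opens_forall_finite (genericPoint Y)
    (fun k y => GIF (i k ≫ f) y)
    (fun k => exists_opens_forall_geomIrrFiber (i k ≫ f) (hGIFη k))
  obtain ⟨V3, hηV3, hV3⟩ := exists_opens_forall_finite (genericPoint Y)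
    (fun (p : Fin n × Fin n) y =>
      ((T p.1 : Set X) ∩ (T p.2 : Set X) ∩ f ⁻¹' {genericPoint Y}).Nonempty →
      ((T p.1 : Set X) ∩ (T p.2 : Set X) ∩ f ⁻¹' {y}).Nonempty)
    (fun p => by
      by_cases hp : ((T p.1 : Set X) ∩ (T p.2 : Set X) ∩ f ⁻¹' {genericPoint Y}).Nonempty
      · obtain ⟨x, hx12, hxη⟩ := hp
        obtain ⟨V, hηV, hV⟩ := exists_opens_forall_nonempty_diff f (T p.1 ⊓ T p.2) ⊥
          ⟨x, ⟨hx12, fun hh => hh⟩, hxη⟩
        refine ⟨V, hηV, fun y hy _ => ?_⟩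
        obtain ⟨x', ⟨hx'12, -⟩, hx'y⟩ := hV y hy
        exact ⟨x', hx'12, hx'y⟩
      · exact ⟨⊤, trivial, fun y _ h => absurd h hp⟩)
  refine ⟨V1 ⊓ V2 ⊓ V3, ⟨⟨hηV1, hηV2⟩, hηV3⟩, fun y hy => ?_⟩
  obtain ⟨⟨hy1, hy2⟩, hy3⟩ := hy
  refine geomConnFiber_of_decomp i f y hn ?_
    (fun k => geomConnFiber_of_geomIrrFiber _ y (hV2 y hy2 k)) ?_
  · simpa only [hr] using hV1 y hy1
  · intro A hA hA'
    obtain ⟨k, hk, l, hl, hkl⟩ := hcut A hA hA'
    refine ⟨k, hk, l, hl, ?_⟩
    have := hV3 y hy3 (k, l) hkl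
    simpa only [hr] using this

end SepClosed

section General

variable {X Y : Scheme.{u}} (f : X ⟶ Y) [LocallyOfFiniteType f] [QuasiCompact f]
  [IrreducibleSpace Y]

/-- **Geometrically connected generic fibre spreads out** (EGA IV 9.7.7, Stacks 055H). -/
theorem exists_opens_forall_geomConnFiber (h : GCF f (genericPoint Y)) :
    ∃ V : Y.Opens, genericPoint Y ∈ V ∧ ∀ y ∈ V, GCF f y := by
  have hbc : ∀ ⦃X Y X' Y' : Scheme.{u}⦄ (f : X ⟶ Y) (g : Y' ⟶ Y) (f' : X' ⟶ Y') (g' : X' ⟶ X),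
      IsPullback g' f' f g → ∀ y' : Y', GCF f' y' ↔ GCF f (g y') :=
    fun _ _ _ _ f g f' g' hc y' => geomConnFiber_iff_of_isPullback f g f' g' hc y'
  refine Groth.Agent.Lib.H77FibrePropLocal.exists_opens_of_domain_core
    (fun _ _ f y => GCF f y) hbc
    (fun R _ _ f _ _ h => core_of_coreSC (fun _ _ f y => GCF f y) hbc ?_ R f h) f h
  intro R _ X f _ _ η hη hsc hQ
  have hgen : genericPoint (Spec R) = η := (genericPoint_spec_of_isDomain R).trans hη.symm
  haveI : IsSepClosed ((Spec R).residueField (genericPoint (Spec R))) := hgen ▸ hsc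
  obtain ⟨V, hηV, hV⟩ := exists_opens_forall_geomConnFiber_of_isSepClosed f (hgen ▸ hQ)
  obtain ⟨g, hg, hgV⟩ := exists_basicOpen_of_opens R V
    ((genericPoint_spec_of_isDomain R) ▸ hηV)
  exact ⟨g, hg, fun y hy => hV y (hgV y hy)⟩

/-- **The number of geometric irreducible components of the fibres is constant near the generic
point** (EGA IV 9.7.8). -/
theorem exists_opens_nGeomIrredComp_eq :
    ∃ V : Y.Opens, genericPoint Y ∈ V ∧
      ∀ y ∈ V, MoreMor.nGeomIrredComp f y = MoreMor.nGeomIrredComp f (genericPoint Y) := by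
  set N := MoreMor.nGeomIrredComp f (genericPoint Y) with hN
  have hbc : ∀ ⦃X Y X' Y' : Scheme.{u}⦄ (f : X ⟶ Y) (g : Y' ⟶ Y) (f' : X' ⟶ Y') (g' : X' ⟶ X),
      IsPullback g' f' f g → ∀ y' : Y',
        MoreMor.nGeomIrredComp f' y' = N ↔ MoreMor.nGeomIrredComp f (g y') = N :=
    fun _ _ _ _ f g f' g' hc y' => by
      rw [Groth.Agent.Lib.GeomFibBC13.nGeomIrredComp_eq hc y']
  refine Groth.Agent.Lib.H77FibrePropLocal.exists_opens_of_domain_core
    (fun _ _ f y => MoreMor.nGeomIrredComp f y = N) hbc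
    (fun R _ _ f _ _ h => core_of_coreSC (fun _ _ f y => MoreMor.nGeomIrredComp f y = N) hbc ?_
      R f h) f rfl
  intro R _ X f _ _ η hη hsc hQ
  have hgen : genericPoint (Spec R) = η := (genericPoint_spec_of_isDomain R).trans hη.symm
  haveI : IsSepClosed ((Spec R).residueField (genericPoint (Spec R))) := hgen ▸ hsc
  obtain ⟨V, hηV, hV⟩ := exists_opens_nGeomIrredComp_eq_of_isSepClosed f
  obtain ⟨g, hg, hgV⟩ := exists_basicOpen_of_opens R V
    ((genericPoint_spec_of_isDomain R) ▸ hηV)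
  refine ⟨g, hg, fun y hy => ?_⟩
  rw [hV y (hgV y hy), hgen]
  exact hQ

end General

section ConnCount

variable {X Y : Scheme.{u}} (f : X ⟶ Y) [LocallyOfFiniteType f] [QuasiCompact f]
  [IrreducibleSpace Y]

theorem exists_opens_nGeomConnComp_eq_of_isSepClosed
    [IsSepClosed (Y.residueField (genericPoint Y))] :
    ∃ V : Y.Opens, genericPoint Y ∈ V ∧
      ∀ y ∈ V, MoreMor.nGeomConnComp f y = MoreMor.nGeomConnComp f (genericPoint Y) := by
  obtain ⟨m, S, hcov, hconn, hdisj⟩ := exists_connDecomp_fiber f (genericPoint Y)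
  let i : ∀ a, redSub (S a) ⟶ X := fun a => redSubι (S a)
  have hr : ∀ a, Set.range (i a) = (S a : Set X) := fun a => range_redSubι (S a)
  have hcl : ∀ a, IsClosed (Set.range (i a)) := fun a => by rw [hr]; exact (S a).isClosed
  have hGCFη : ∀ a, GCF (i a ≫ f) (genericPoint Y) := fun a =>
    geomConnFiber_of_isConnected (i a) f (genericPoint Y) (by rw [hr]; exact hconn a)
  have hη : MoreMor.nGeomConnComp f (genericPoint Y) = m :=
    nGeomConnComp_eq_of_decomp i f (genericPoint Y) hcl (by simpa only [hr] using hcov) hGCFη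
      (by simpa only [hr] using hdisj)
  obtain ⟨V1, hηV1, hV1⟩ := exists_opens_cover f S hcov
  obtain ⟨V2, hηV2, hV2⟩ := exists_opens_forall_finite (genericPoint Y)
    (fun a y => GCF (i a ≫ f) y)
    (fun a => exists_opens_forall_geomConnFiber (i a ≫ f) (hGCFη a))
  obtain ⟨V3, hηV3, hV3⟩ := exists_opens_forall_finite (genericPoint Y)
    (fun (p : Fin m × Fin m) y => p.1 ≠ p.2 →
      (S p.1 : Set X) ∩ (S p.2 : Set X) ∩ f ⁻¹' {y} = ∅)
    (fun p => by
      by_cases hp : p.1 = p.2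
      · exact ⟨⊤, trivial, fun y _ h => absurd hp h⟩
      · obtain ⟨V, hηV, hV⟩ := exists_opens_forall_inter_eq_empty f (S p.1 ⊓ S p.2)
          (hdisj p.1 p.2 hp)
        exact ⟨V, hηV, fun y hy _ => hV y hy⟩)
  refine ⟨V1 ⊓ V2 ⊓ V3, ⟨⟨hηV1, hηV2⟩, hηV3⟩, fun y hy => ?_⟩
  obtain ⟨⟨hy1, hy2⟩, hy3⟩ := hy
  rw [hη]
  refine nGeomConnComp_eq_of_decomp i f y hcl ?_ (hV2 y hy2) ?_
  · simpa only [hr] using hV1 y hy1
  · intro a b hab
    have := hV3 y hy3 (a, b) hab
    simpa only [hr] using this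

/-- **The number of geometric connected components of the fibres is constant near the generic
point** (EGA IV 9.7.8). -/
theorem exists_opens_nGeomConnComp_eq :
    ∃ V : Y.Opens, genericPoint Y ∈ V ∧
      ∀ y ∈ V, MoreMor.nGeomConnComp f y = MoreMor.nGeomConnComp f (genericPoint Y) := by
  set N := MoreMor.nGeomConnComp f (genericPoint Y) with hN
  have hbc : ∀ ⦃X Y X' Y' : Scheme.{u}⦄ (f : X ⟶ Y) (g : Y' ⟶ Y) (f' : X' ⟶ Y') (g' : X' ⟶ X),
      IsPullback g' f' f g → ∀ y' : Y',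
        MoreMor.nGeomConnComp f' y' = N ↔ MoreMor.nGeomConnComp f (g y') = N :=
    fun _ _ _ _ f g f' g' hc y' => by
      rw [Groth.Agent.Lib.GeomFibBC13.nGeomConnComp_eq hc y']
  refine Groth.Agent.Lib.H77FibrePropLocal.exists_opens_of_domain_core
    (fun _ _ f y => MoreMor.nGeomConnComp f y = N) hbc
    (fun R _ _ f _ _ h => core_of_coreSC (fun _ _ f y => MoreMor.nGeomConnComp f y = N) hbc ?_
      R f h) f rfl
  intro R _ X f _ _ η hη hsc hQ
  have hgen : genericPoint (Spec R) = η := (genericPoint_spec_of_isDomain R).trans hη.symm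
  haveI : IsSepClosed ((Spec R).residueField (genericPoint (Spec R))) := hgen ▸ hsc
  obtain ⟨V, hηV, hV⟩ := exists_opens_nGeomConnComp_eq_of_isSepClosed f
  obtain ⟨g, hg, hgV⟩ := exists_basicOpen_of_opens R V
    ((genericPoint_spec_of_isDomain R) ▸ hηV)
  refine ⟨g, hg, fun y hy => ?_⟩
  rw [hV y (hgV y hy), hgen]
  exact hQ

end ConnCount

end Groth.Agent.Lib.H77GeomCountMain
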