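import Groth.Prelude.Def_EGA4Misc
import Groth.Agent.Lib.H77GeomCountMain
import Groth.Agent.Lib.ConsLocusMorMain

/-!
# Level sets of the number of geometric components of the fibres are locally constructible (helper77)

EGA IV 9.7.9: for `f` of finite presentation the sets `{y | nGeomIrredComp f y = n}` and
`{y | nGeomConnComp f y = n}` are locally constructible.
-/

set_option autoImplicit false
set_option linter.style.haveILetI false
universe u
open CategoryTheory Limits AlgebraicGeometry Topology

namespace Groth.Agent.Lib.H77GeomCountCons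

open Groth.Agent.Lib.H77GeomCountMain

theorem nGeomIrredComp_fiberToSpecResidueField {Y S : Scheme.{u}} (g : Y ⟶ S) (s : S)
    (t : Spec (S.residueField s)) :
    MoreMor.nGeomIrredComp (g.fiberToSpecResidueField s) t = MoreMor.nGeomIrredComp g s := by
  have h := Groth.Agent.Lib.GeomFibBC13.nGeomIrredComp_eq
    (IsPullback.of_hasPullback g (S.fromSpecResidueField s)) t
  rw [Scheme.fromSpecResidueField_apply] at h
  exact h

theorem nGeomConnComp_fiberToSpecResidueField {Y S : Scheme.{u}} (g : Y ⟶ S) (s : S)
    (t : Spec (S.residueField s)) :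
    MoreMor.nGeomConnComp (g.fiberToSpecResidueField s) t = MoreMor.nGeomConnComp g s := by
  have h := Groth.Agent.Lib.GeomFibBC13.nGeomConnComp_eq
    (IsPullback.of_hasPullback g (S.fromSpecResidueField s)) t
  rw [Scheme.fromSpecResidueField_apply] at h
  exact h

/-- abstract version: a base-change-compatible invariant which is constant near generic points has
locally constructible level sets -/
theorem isConsMor_of_invariant {α : Type*} (F : ∀ ⦃X Y : Scheme.{u}⦄, (X ⟶ Y) → Y → α)
    (hbc : ∀ ⦃X Y X' Y' : Scheme.{u}⦄ (f : X ⟶ Y) (g : Y' ⟶ Y) (f' : X' ⟶ Y') (g' : X' ⟶ X),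
      IsPullback g' f' f g → ∀ y' : Y', F f' y' = F f (g y'))
    (main : ∀ ⦃X Y : Scheme.{u}⦄ (f : X ⟶ Y) [IrreducibleSpace Y] [LocallyOfFiniteType f]
      [QuasiCompact f], ∃ V : Y.Opens, genericPoint Y ∈ V ∧ ∀ y ∈ V, F f y = F f (genericPoint Y))
    (n : α) :
    ConsProp.IsConsMor (fun (_ Y T : Scheme.{u}) (_ : _ ⟶ Y) (g : Y ⟶ T) => ∀ t : T, F g t = n) := by
  refine ⟨?_, ?_⟩
  · intro X X' Y Y' T T' f g f' g' eX eY h _ _ _ _ _ _ _ _ hY _
    obtain ⟨t'⟩ : Nonempty T' := inferInstance
    constructor
    · intro H t''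
      rw [hbc g h g' eY hY t'']
      exact H _
    · intro H t
      rw [Subsingleton.elim t (h t'), ← hbc g h g' eY hY t']
      exact H _
  · intro X Y S f g _ _ _ _ _ _
    have hloc : ∀ s : S, s ∈ ConsProp.locusMor
        (fun (_ Y T : Scheme.{u}) (_ : _ ⟶ Y) (g : Y ⟶ T) => ∀ t : T, F g t = n) f g ↔
        F g s = n := by
      intro s
      have key : ∀ t : Spec (S.residueField s), F (g.fiberToSpecResidueField s) t = F g s := by
        intro t
        have h := hbc g (S.fromSpecResidueField s) (g.fiberToSpecResidueField s) (g.fiberι s)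
          (IsPullback.of_hasPullback g (S.fromSpecResidueField s)) t
        rw [Scheme.fromSpecResidueField_apply] at h
        exact h
      constructor
      · intro H
        obtain ⟨t⟩ : Nonempty (Spec (S.residueField s)) := inferInstance
        rw [← key t]
        exact H t
      · intro H t
        rw [key t]
        exact H
    obtain ⟨V, hηV, hV⟩ := main g
    by_cases hd : F g (genericPoint S) = n
    · left
      refine ⟨genericPoint S, mem_interior.mpr ⟨V, ?_, V.isOpen, hηV⟩⟩
      intro s hs
      rw [hloc, hV s hs]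
      exact hd
    · right
      refine ⟨genericPoint S, mem_interior.mpr ⟨V, ?_, V.isOpen, hηV⟩⟩
      intro s hs
      rw [Set.mem_compl_iff, hloc, hV s hs]
      exact hd

theorem isLocallyConstructible_of_invariant {α : Type*}
    (F : ∀ ⦃X Y : Scheme.{u}⦄, (X ⟶ Y) → Y → α)
    (hbc : ∀ ⦃X Y X' Y' : Scheme.{u}⦄ (f : X ⟶ Y) (g : Y' ⟶ Y) (f' : X' ⟶ Y') (g' : X' ⟶ X),
      IsPullback g' f' f g → ∀ y' : Y', F f' y' = F f (g y'))
    (main : ∀ ⦃X Y : Scheme.{u}⦄ (f : X ⟶ Y) [IrreducibleSpace Y] [LocallyOfFiniteType f]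
      [QuasiCompact f], ∃ V : Y.Opens, genericPoint Y ∈ V ∧ ∀ y ∈ V, F f y = F f (genericPoint Y))
    {X Y : Scheme.{u}} (f : X ⟶ Y) [LocallyOfFinitePresentation f] [QuasiCompact f]
    [QuasiSeparated f] (n : α) :
    IsLocallyConstructible {y : Y | F f y = n} := by
  have hP := isConsMor_of_invariant F hbc main n
  have h := Groth.Agent.Lib.ConsLocusMor.isLocallyConstructible_locusMor hP (𝟙 X) f
  convert h using 1
  ext y
  have key : ∀ t : Spec (Y.residueField y), F (f.fiberToSpecResidueField y) t = F f y := by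
    intro t
    have h := hbc f (Y.fromSpecResidueField y) (f.fiberToSpecResidueField y) (f.fiberι y)
      (IsPullback.of_hasPullback f (Y.fromSpecResidueField y)) t
    rw [Scheme.fromSpecResidueField_apply] at h
    exact h
  change F f y = n ↔ ∀ t : Spec (Y.residueField y), F (f.fiberToSpecResidueField y) t = n
  constructor
  · intro H t
    rw [key t]
    exact H
  · intro H
    obtain ⟨t⟩ : Nonempty (Spec (Y.residueField y)) := inferInstance
    rw [← key t]
    exact H t

end Groth.Agent.Lib.H77GeomCountCons
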