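import Groth.Agent.Lib.GeomIntOpen5B
import Groth.Agent.Lib.H77GeomCountCons

/-!
# Openness of the geometrically integral locus, part C (helper5): generization and the theorem

* `geomIntFiber_of_specializes`: for `f` flat, locally of finite type and universally closed over a
  locally Noetherian base, the set of points with geometrically integral fibre is stable under
  generization;
* `isOpen_geomIntFiber`: for `f` proper, flat and of finite presentation, the set of points with
  geometrically integral fibre is open (EGA IV 12.2.4 (viii), S2553).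
-/

set_option autoImplicit false
set_option linter.style.haveILetI false
set_option linter.unusedSectionVars false
universe u

open CategoryTheory CategoryTheory.Limits AlgebraicGeometry TopologicalSpace Opposite IsLocalRing
  Topology TensorProduct

namespace Groth.Agent.Lib.GeomIntOpen5

open Groth.Agent.Lib.H47DvrFibre Groth.Agent.Lib.GeomRedOpen5 Groth.Agent.Lib.H77GeomRedSch
  Groth.Agent.Lib.H77GeomIrrSch

/-- The fibre of `f` at `y` is geometrically integral. -/
abbrev GIntF {X Y : Scheme.{u}} (f : X ⟶ Y) (y : Y) : Prop :=
  GeometricallyIntegral (f.fiberToSpecResidueField y)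

theorem geomIntFiber_iff {X Y : Scheme.{u}} (f : X ⟶ Y) (y : Y) :
    GIntF f y ↔ GRF f y ∧ GIF f y := by
  constructor
  · intro h
    haveI : GeometricallyIntegral (f.fiberToSpecResidueField y) := h
    exact ⟨inferInstance, inferInstance⟩
  · rintro ⟨h1, h2⟩
    haveI : GeometricallyReduced (f.fiberToSpecResidueField y) := h1
    haveI : GeometricallyIrreducible (f.fiberToSpecResidueField y) := h2
    exact GeometricallyIntegral.of_geometricallyReduced_of_geometricallyIrreducible _

theorem geomIntFiber_iff_of_isPullback {X Y X' Y' : Scheme.{u}} (f : X ⟶ Y) (g : Y' ⟶ Y)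
    (f' : X' ⟶ Y') (g' : X' ⟶ X) (hc : IsPullback g' f' f g) (y' : Y') :
    GIntF f' y' ↔ GIntF f (g y') := by
  rw [geomIntFiber_iff, geomIntFiber_iff, geomRedFiber_iff_of_isPullback f g f' g' hc,
    geomIrrFiber_iff_of_isPullback f g f' g' hc]

/-- The source of a geometrically integral fibre is integral. -/
theorem isIntegral_fiber_of_GIntF {X Y : Scheme.{u}} (f : X ⟶ Y) (y : Y) (h : GIntF f y) :
    IsIntegral (f.fiber y) := by
  have h1 : geometrically IsIntegral (f.fiberToSpecResidueField y) := h.geometrically_isIntegral
  exact self_of_isIntegral_of_geometrically h1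

section DVR

variable (A : Type u) [CommRing A] [IsDomain A] [IsDiscreteValuationRing A]
  {X : Scheme.{u}} (p : X ⟶ Spec (CommRingCat.of A))

/-- The generic fibre of an irreducible flat scheme over a DVR is irreducible. -/
theorem irreducibleSpace_genericFibre [Flat p] [IrreducibleSpace X] :
    IrreducibleSpace ↥(pullback p ((Spec (CommRingCat.of A)).fromSpecResidueField
      (genericPoint (Spec (CommRingCat.of A))))) := by
  obtain ⟨ϖ, hϖ⟩ := IsDiscreteValuationRing.exists_irreducible A
  have hmax : maximalIdeal A = Ideal.span {ϖ} := hϖ.maximalIdeal_eq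
  let η : Spec (CommRingCat.of A) := genericPoint (Spec (CommRingCat.of A))
  have hη : η = (⟨⊥, Ideal.isPrime_bot⟩ : PrimeSpectrum A) :=
    genericPoint_eq_bot_of_affine (CommRingCat.of A)
  have hpre : p ⁻¹' {η} = ((p ⁻¹ᵁ Dπ ϖ : X.Opens) : Set X) := by
    rw [hη]
    exact preimage_generic_eq p ϖ hmax hϖ.ne_zero
  have hne : (p ⁻¹' {η}).Nonempty := by
    rw [hpre]
    by_contra hcon
    rw [Set.not_nonempty_iff_eq_empty] at hcon
    have h1 : (⊤ : X.Opens) ⊓ p ⁻¹ᵁ Dπ ϖ = ⊥ := by
      rw [top_inf_eq]
      exact Opens.ext hcon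
    have h2 := dense_preimage_Dπ p ϖ hϖ.ne_zero ⊤ h1
    obtain ⟨x⟩ : Nonempty X := inferInstance
    have : x ∈ (⊥ : X.Opens) := h2 ▸ (trivial : x ∈ (⊤ : X.Opens))
    exact this
  have hemb : IsOpenEmbedding (p.fiberι η) := by
    refine ⟨(p.fiberι η).isEmbedding, ?_⟩
    rw [p.range_fiberι η, hpre]
    exact (p ⁻¹ᵁ Dπ ϖ).isOpen
  haveI : Nonempty ↥(p.fiber η) := by
    obtain ⟨x, hx⟩ := hne
    rw [← p.range_fiberι η] at hx
    obtain ⟨z, -⟩ := hx
    exact ⟨z⟩
  exact hemb.irreducibleSpace

end DVR

section Generization

/-- **Generization.**  For `f` flat, locally of finite type and universally closed over a locally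
Noetherian base, the set of points with geometrically integral fibre is stable under
generization. -/
theorem geomIntFiber_of_specializes {X Y : Scheme.{u}} [IsLocallyNoetherian Y] (f : X ⟶ Y)
    [Flat f] [LocallyOfFiniteType f] [UniversallyClosed f] {y y' : Y} (hgen : y' ⤳ y)
    (hy : GIntF f y) : GIntF f y' := by
  by_cases hne : y' = y
  · rw [hne]; exact hy
  rw [geomIntFiber_iff]
  refine ⟨geomRedFiber_of_specializes f hgen ((geomIntFiber_iff f y).mp hy).1, ?_⟩
  apply geometricallyIrreducible_of_forall_finite (Y.residueField y')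
    (f.fiberToSpecResidueField y')
  intro N _ _ _
  obtain ⟨A, _, _, _, g, hgc, -, τ, hτ⟩ :=
    Groth.Agent.Lib.H80DvrGeom.exists_dvr_map y y' hne hgen N
  let pA : pullback f g ⟶ Spec (CommRingCat.of A) := pullback.snd f g
  have hclosed : IsClosedMap pA := (pullback.snd f g).isClosedMap
  have hGI : GIntF pA (closedPoint A) := by
    have h0 := geomIntFiber_iff_of_isPullback f g pA (pullback.fst f g)
      (IsPullback.of_hasPullback f g) (closedPoint A)
    rw [hgc] at h0
    exact h0.mpr hy
  have hint : IsIntegral (pA.fiber (closedPoint A)) := isIntegral_fiber_of_GIntF pA _ hGI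
  haveI : IsIntegral (pullback f g) := isIntegral_of_isIntegral_closedFibre A pA hclosed hint
  -- the generic fibre of `pA` is irreducible
  let η : Spec (CommRingCat.of A) := genericPoint (Spec (CommRingCat.of A))
  let jη := (Spec (CommRingCat.of A)).fromSpecResidueField η
  have hgenirr : IrreducibleSpace ↥(pullback pA jη) := irreducibleSpace_genericFibre A pA
  -- rewrite this fibre as a base change of the fibre of `f` over `y'`
  let q := f.fiberToSpecResidueField y'
  let a : Spec (CommRingCat.of N) ⟶ Spec (Y.residueField y') :=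
    Spec.map (CommRingCat.ofHom (algebraMap (Y.residueField y') N))
  let t : Spec ((Spec (CommRingCat.of A)).residueField η) ⟶ Spec (CommRingCat.of N) :=
    Spec.map (CommRingCat.ofHom τ)
  have hta : jη ≫ g = (t ≫ a) ≫ Y.fromSpecResidueField y' := by
    rw [hτ]
    congr 1
    exact Spec.map_comp (CommRingCat.ofHom (algebraMap (Y.residueField y') N))
      (CommRingCat.ofHom τ)
  have h1 : IrreducibleSpace ↥(pullback f (jη ≫ g)) :=
    (pullbackLeftPullbackSndIso f g jη).hom.homeomorph.irreducibleSpace_iff.mp hgenirr
  rw [hta] at h1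
  have h2 : IrreducibleSpace ↥(pullback q (t ≫ a)) := by
    let e := pullbackLeftPullbackSndIso f (Y.fromSpecResidueField y') (t ≫ a)
    have h2' : IrreducibleSpace
        ↥(pullback (pullback.snd f (Y.fromSpecResidueField y')) (t ≫ a)) :=
      e.hom.homeomorph.irreducibleSpace_iff.mpr h1
    exact h2'
  have h3 : IrreducibleSpace ↥(pullback (pullback.snd q a) t) :=
    (pullbackLeftPullbackSndIso q a t).hom.homeomorph.irreducibleSpace_iff.mpr h2
  haveI : Surjective t := by
    constructor
    intro z
    obtain ⟨w⟩ : Nonempty (Spec ((Spec (CommRingCat.of A)).residueField η)) := inferInstance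
    exact ⟨w, Subsingleton.elim _ _⟩
  haveI : Surjective (pullback.fst (pullback.snd q a) t) := inferInstance
  have h4 : IrreducibleSpace ↥(pullback q a) :=
    (pullback.fst (pullback.snd q a) t).surjective.irreducibleSpace
      (pullback.fst (pullback.snd q a) t).continuous
  exact h4

end Generization

end Groth.Agent.Lib.GeomIntOpen5
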