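import Groth.Agent.Lib.GeomIntOpen5C

/-!
# Openness of the geometrically integral locus, part D (helper5): the theorem

* `geomIrrFiber_iff_nGeomIrredComp`: the fibre is geometrically irreducible iff the number of
  geometric irreducible components is `1`;
* `isLocallyConstructible_geomIntFiber` (EGA IV 9.7.7);
* `isOpen_geomIntFiber`: for `f` proper, flat and of finite presentation, the set of points with
  geometrically integral fibre is open (EGA IV 12.2.4 (viii), S2553).
-/

set_option autoImplicit false
set_option linter.style.haveILetI false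
set_option linter.unusedSectionVars false
universe u

open CategoryTheory CategoryTheory.Limits AlgebraicGeometry TopologicalSpace Opposite IsLocalRing
  Topology TensorProduct

namespace Groth.Agent.Lib.GeomIntOpen5

open Groth.Agent.Lib.GeomRedOpen5 Groth.Agent.Lib.H77GeomRedSch Groth.Agent.Lib.H77GeomIrrSch

theorem encard_irreducibleComponents_eq_one_iff (T : Type*) [TopologicalSpace T] :
    (irreducibleComponents T).encard = 1 ↔ IrreducibleSpace T := by
  constructor
  · intro h
    obtain ⟨Z, hZ⟩ := Set.encard_eq_one.mp h
    have h1 : Z ∈ irreducibleComponents T := by rw [hZ]; exact Set.mem_singleton Z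
    have h2 : ⋃₀ irreducibleComponents T = Set.univ := sUnion_irreducibleComponents
    rw [hZ, Set.sUnion_singleton] at h2
    rw [irreducibleSpace_def, Set.top_eq_univ, ← h2]
    exact h1.1
  · intro h
    rw [irreducibleComponents_eq_singleton, Set.encard_singleton]

/-- The fibre is geometrically irreducible iff the number of geometric irreducible components
is `1`. -/
theorem geomIrrFiber_iff_nGeomIrredComp {X Y : Scheme.{u}} (f : X ⟶ Y) (y : Y) :
    GIF f y ↔ MoreMor.nGeomIrredComp f y = 1 := by
  unfold MoreMor.nGeomIrredComp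
  rw [encard_irreducibleComponents_eq_one_iff]
  constructor
  · intro h
    exact pullback_of_geometrically (h.geometrically_irreducibleSpace) _ _
  · intro h
    exact @Groth.Agent.Lib.H71SepClosedGeom.geometricallyIrreducible_of_irreducibleSpace_pullback
      (Y.residueField y) _ (SeparableClosure (Y.residueField y)) _ _ _ _
      (f.fiberToSpecResidueField y) h

/-- **EGA IV 9.7.7 (integrality).** -/
theorem isLocallyConstructible_geomIntFiber {X Y : Scheme.{u}} (f : X ⟶ Y) [QuasiCompact f]
    [QuasiSeparated f] [LocallyOfFinitePresentation f] :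
    IsLocallyConstructible {y : Y | GIntF f y} := by
  have h1 : IsLocallyConstructible {y : Y | GRF f y} :=
    Groth.Agent.Lib.H77GeomRedCons.isLocallyConstructible_geomRedFiber f
  have h2 : IsLocallyConstructible {y : Y | MoreMor.nGeomIrredComp f y = 1} :=
    Groth.Agent.Lib.H77GeomCountCons.isLocallyConstructible_of_invariant
      (fun _ _ f y => MoreMor.nGeomIrredComp f y)
      (fun _ _ _ _ _ _ _ _ hc y' => Groth.Agent.Lib.GeomFibBC13.nGeomIrredComp_eq hc y')
      (fun _ _ f _ _ _ => Groth.Agent.Lib.H77GeomCountMain.exists_opens_nGeomIrredComp_eq f) f 1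
  have e : {y : Y | GIntF f y} =
      {y : Y | GRF f y} ∩ {y : Y | MoreMor.nGeomIrredComp f y = 1} := by
    ext y
    simp only [Set.mem_ofPred_eq, Set.mem_inter_iff]
    rw [geomIntFiber_iff, geomIrrFiber_iff_nGeomIrredComp]
  rw [e]
  exact h1.inter h2

/-- Over a locally Noetherian base, the locus of geometrically integral fibres of a proper flat
morphism of finite presentation is open. -/
theorem isOpen_geomIntFiber_of_isLocallyNoetherian {X Y : Scheme.{u}} [IsLocallyNoetherian Y]
    (f : X ⟶ Y) [IsProper f] [Flat f] [LocallyOfFinitePresentation f] :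
    IsOpen {y : Y | GIntF f y} := by
  rw [isOpen_iff_mem_nhds]
  intro y hy
  exact Groth.Agent.Lib.LocConst5.mem_nhds_of_forall_specializes
    (isLocallyConstructible_geomIntFiber f) y
    (fun z hz => geomIntFiber_of_specializes f hz hy)

/-- The affine case of `isOpen_geomIntFiber`, by Noetherian approximation. -/
theorem isOpen_geomIntFiber_affine (A : Type u) [CommRing A] {X : Scheme.{u}}
    (f : X ⟶ Spec (CommRingCat.of A)) [IsProper f] [Flat f] [LocallyOfFinitePresentation f] :
    IsOpen {y : Spec (CommRingCat.of A) | GIntF f y} := by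
  obtain ⟨A₀, _, _, φ, X₀, f₀, g, h1, h2, h3, sq⟩ :=
    Groth.Agent.Lib.LocConst5.exists_noetherian_model A f
  haveI : IsLocallyNoetherian (Spec (CommRingCat.of A₀)) := inferInstance
  have h0 := isOpen_geomIntFiber_of_isLocallyNoetherian f₀
  have e : {y : Spec (CommRingCat.of A) | GIntF f y} =
      (Spec.map (CommRingCat.ofHom φ)).base ⁻¹' {y | GIntF f₀ y} := by
    ext y
    exact geomIntFiber_iff_of_isPullback f₀ (Spec.map (CommRingCat.ofHom φ)) f g sq y
  rw [e]
  exact h0.preimage (Spec.map (CommRingCat.ofHom φ)).continuous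

/-- **EGA IV 12.2.4 (viii) (S2553).**  For a proper flat morphism of finite presentation, the points
of the target whose fibre is geometrically integral form an open subset. -/
theorem isOpen_geomIntFiber {X Y : Scheme.{u}} (f : X ⟶ Y) [IsProper f] [Flat f]
    [LocallyOfFinitePresentation f] : IsOpen {y : Y | GIntF f y} := by
  rw [isOpen_iff_mem_nhds]
  intro s hs
  obtain ⟨R, j, hjo, s₀, rfl⟩ : ∃ (R : CommRingCat.{u}) (j : Spec R ⟶ Y),
      IsOpenImmersion j ∧ ∃ s₀, j.base s₀ = s :=
    ⟨_, Y.affineCover.f (Y.affineCover.idx s), Y.affineCover.map_prop _, Y.affineCover.covers s⟩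
  have hc : IsPullback (pullback.fst f j) (pullback.snd f j) f j := IsPullback.of_hasPullback f j
  have e := fun z => geomIntFiber_iff_of_isPullback f j (pullback.snd f j) (pullback.fst f j) hc z
  have h0 : IsOpen {z : Spec R | GIntF (pullback.snd f j) z} :=
    isOpen_geomIntFiber_affine ↑R (pullback.snd f j)
  have hs₀ : s₀ ∈ {z : Spec R | GIntF (pullback.snd f j) z} := (e s₀).mpr hs
  refine Filter.mem_of_superset (j.isOpenEmbedding.isOpenMap.image_mem_nhds (h0.mem_nhds hs₀)) ?_
  rintro _ ⟨z, hz, rfl⟩
  exact (e z).mp hz

end Groth.Agent.Lib.GeomIntOpen5
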