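import Mathlib

/-!
# Geometrically irreducible polynomials (EGA IV 9.7.?; for S4824)

* `irreducible_map_of_isAlgClosed`: an irreducible multivariate polynomial over an algebraically
  closed field stays irreducible over every field extension (Nullstellensatz specialisation).
* `irreducible_of_irreducible_map`: irreducibility descends along field extensions.
* `exists_common_extension`: a common field extension of two extensions of `k` (same universe).
* `isDomain_tensor_iff`: `(k[T]/(F)) ⊗_k K` is a domain iff `F_K` is irreducible.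
* `geometricallyIntegral_SpecMap_iff`: `Spec A → Spec k` is geometrically integral iff all
  `A ⊗_k K` are domains.
* `main`: statement S4824.
-/

namespace Groth.Agent.Lib.GeomIrredPoly

open MvPolynomial

universe u

section A

theorem coeff_eq_zero_of_isUnit {Ω σ : Type*} [Field Ω] {p : MvPolynomial σ Ω} (hp : IsUnit p)
    {u : σ →₀ ℕ} (hu : u ≠ 0) : coeff u p = 0 := by
  classical
  obtain ⟨r, _, rfl⟩ := MvPolynomial.isUnit_iff_eq_C_of_isReduced.mp hp
  rw [coeff_C, if_neg (Ne.symm hu)]

theorem exists_coeff_ne_zero_of_not_isUnit {Ω σ : Type*} [Field Ω] {p : MvPolynomial σ Ω}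
    (hp : ¬ IsUnit p) (hp0 : p ≠ 0) : ∃ u : σ →₀ ℕ, u ≠ 0 ∧ coeff u p ≠ 0 := by
  classical
  by_contra h
  push Not at h
  have h1 : p = C (coeff 0 p) := by
    ext u
    by_cases hu : u = 0
    · subst hu; simp
    · rw [h u hu, coeff_C, if_neg (Ne.symm hu)]
  apply hp
  rw [h1]
  refine IsUnit.map C (isUnit_iff_ne_zero.mpr fun h0 => hp0 ?_)
  rw [h1, h0, map_zero]

theorem irreducible_map_of_isAlgClosed {Ω L σ : Type*} [Field Ω] [IsAlgClosed Ω] [Field L]
    [Algebra Ω L] (F : MvPolynomial σ Ω) (hF : Irreducible F) :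
    Irreducible (MvPolynomial.map (algebraMap Ω L) F) := by
  classical
  have hinjL : Function.Injective (algebraMap Ω L) := (algebraMap Ω L).injective
  have hF0 : F ≠ 0 := hF.ne_zero
  have hmF0 : MvPolynomial.map (algebraMap Ω L) F ≠ 0 := fun h =>
    hF0 (map_injective _ hinjL (by rw [h, map_zero]))
  obtain ⟨u₀, hu₀, hcu₀⟩ := exists_coeff_ne_zero_of_not_isUnit hF.not_isUnit hF0
  refine ⟨fun hunit => ?_, fun G H hGH => ?_⟩
  · have := coeff_eq_zero_of_isUnit hunit hu₀
    rw [coeff_map] at this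
    exact hcu₀ (hinjL (by rw [this, map_zero]))
  by_contra hcon
  push Not at hcon
  obtain ⟨hGu, hHu⟩ := hcon
  have hG0 : G ≠ 0 := fun h => hmF0 (by rw [hGH, h, zero_mul])
  have hH0 : H ≠ 0 := fun h => hmF0 (by rw [hGH, h, mul_zero])
  obtain ⟨u, hu, hcu⟩ := exists_coeff_ne_zero_of_not_isUnit hGu hG0
  obtain ⟨w, hw, hcw⟩ := exists_coeff_ne_zero_of_not_isUnit hHu hH0
  -- the finitely generated subalgebra of coefficients
  set R : Subalgebra Ω L := Algebra.adjoin Ω ((G.coeffs ∪ H.coeffs : Finset L) : Set L) with hR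
  haveI : Algebra.FiniteType Ω R := by
    rw [← Subalgebra.fg_iff_finiteType]
    exact Subalgebra.fg_adjoin_finset _
  have hGr : G ∈ Set.range (MvPolynomial.map (algebraMap R L)) := by
    rw [mem_range_map_iff_coeffs_subset]
    intro c hc
    exact ⟨⟨c, Algebra.subset_adjoin (by simp [Finset.mem_coe.mp hc])⟩, rfl⟩
  have hHr : H ∈ Set.range (MvPolynomial.map (algebraMap R L)) := by
    rw [mem_range_map_iff_coeffs_subset]
    intro c hc
    exact ⟨⟨c, Algebra.subset_adjoin (by simp [Finset.mem_coe.mp hc])⟩, rfl⟩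
  obtain ⟨G₀, hG₀⟩ := hGr
  obtain ⟨H₀, hH₀⟩ := hHr
  have hinjR : Function.Injective (algebraMap R L) := Subtype.val_injective
  have hprod : MvPolynomial.map (algebraMap Ω R) F = G₀ * H₀ := by
    apply map_injective _ hinjR
    rw [map_map, ← IsScalarTower.algebraMap_eq, hGH, map_mul, hG₀, hH₀]
  rw [← hG₀, coeff_map] at hcu
  rw [← hH₀, coeff_map] at hcw
  have hg : coeff u G₀ ≠ 0 := fun h => hcu (by rw [h, map_zero])
  have hh : coeff w H₀ ≠ 0 := fun h => hcw (by rw [h, map_zero])
  have hgh : coeff u G₀ * coeff w H₀ ≠ 0 := mul_ne_zero hg hh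
  -- a maximal ideal avoiding `g * h`
  have hjac : (⊥ : Ideal R).jacobson = ⊥ := by
    have hJ : IsJacobsonRing R := isJacobsonRing_of_finiteType (A := Ω)
    exact hJ.out Ideal.isRadical_bot_of_noZeroDivisors
  obtain ⟨M, hM, hghM⟩ : ∃ M : Ideal R, M.IsMaximal ∧ coeff u G₀ * coeff w H₀ ∉ M := by
    by_contra hcon
    push Not at hcon
    apply hgh
    rw [← Ideal.mem_bot, ← hjac, Ideal.jacobson, Ideal.mem_sInf]
    rintro M ⟨_, hM⟩
    exact hcon M hM
  letI : Field (R ⧸ M) := Ideal.Quotient.field M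
  haveI : Module.Finite Ω (R ⧸ M) := finite_of_finite_type_of_isJacobsonRing Ω (R ⧸ M)
  have hbij : Function.Bijective (algebraMap Ω (R ⧸ M)) :=
    IsAlgClosed.algebraMap_bijective_of_isIntegral
  let ψ : (R ⧸ M) ≃ₐ[Ω] Ω := (AlgEquiv.ofBijective (Algebra.ofId Ω (R ⧸ M)) hbij).symm
  let φ : R →ₐ[Ω] Ω := ψ.toAlgHom.comp (Ideal.Quotient.mkₐ Ω M)
  have hφgh : φ (coeff u G₀ * coeff w H₀) ≠ 0 := by
    intro h
    apply hghM
    have h1 : ψ (Ideal.Quotient.mk M (coeff u G₀ * coeff w H₀)) = 0 := h
    rw [map_eq_zero_iff _ ψ.injective, Ideal.Quotient.eq_zero_iff_mem] at h1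
    exact h1
  have hFprod : F = MvPolynomial.map (φ : R →+* Ω) G₀ * MvPolynomial.map (φ : R →+* Ω) H₀ := by
    rw [← map_mul, ← hprod, map_map]
    have : (φ : R →+* Ω).comp (algebraMap Ω R) = RingHom.id Ω := by
      ext c
      exact φ.commutes c
    rw [this, MvPolynomial.map_id]
  rcases hF.isUnit_or_isUnit hFprod with h | h
  · have := coeff_eq_zero_of_isUnit h hu
    rw [coeff_map] at this
    apply hφgh
    rw [map_mul]
    have h2 : φ (coeff u G₀) = 0 := this
    rw [h2, zero_mul]
  · have := coeff_eq_zero_of_isUnit h hw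
    rw [coeff_map] at this
    apply hφgh
    rw [map_mul]
    have h2 : φ (coeff w H₀) = 0 := this
    rw [h2, mul_zero]

theorem irreducible_of_irreducible_map {K L σ : Type*} [Field K] [Field L] [Algebra K L]
    (F : MvPolynomial σ K) (h : Irreducible (MvPolynomial.map (algebraMap K L) F)) :
    Irreducible F := by
  have hinj : Function.Injective (algebraMap K L) := (algebraMap K L).injective
  have hF0 : F ≠ 0 := fun h0 => h.ne_zero (by rw [h0, map_zero])
  have key : ∀ G : MvPolynomial σ K, G ≠ 0 → IsUnit (MvPolynomial.map (algebraMap K L) G) →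
      IsUnit G := by
    intro G hG0 hu
    by_contra hnu
    obtain ⟨u, hu0, hcu⟩ := exists_coeff_ne_zero_of_not_isUnit hnu hG0
    have := coeff_eq_zero_of_isUnit hu hu0
    rw [coeff_map] at this
    exact hcu (hinj (by rw [this, map_zero]))
  refine ⟨fun hu => h.not_isUnit (hu.map _), fun G H hGH => ?_⟩
  have hG0 : G ≠ 0 := fun h0 => hF0 (by rw [hGH, h0, zero_mul])
  have hH0 : H ≠ 0 := fun h0 => hF0 (by rw [hGH, h0, mul_zero])
  have h1 : MvPolynomial.map (algebraMap K L) F =
      MvPolynomial.map (algebraMap K L) G * MvPolynomial.map (algebraMap K L) H := by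
    rw [hGH, map_mul]
  rcases h.isUnit_or_isUnit h1 with h2 | h2
  · exact Or.inl (key G hG0 h2)
  · exact Or.inr (key H hH0 h2)

/-- A common field extension of two field extensions of `k`. -/
theorem exists_common_extension (k K Ω : Type u) [Field k] [Field K] [Field Ω] [Algebra k K]
    [Algebra k Ω] : ∃ (L : Type u) (_ : Field L) (_ : Algebra k L) (_ : Algebra K L)
      (_ : Algebra Ω L), IsScalarTower k K L ∧ IsScalarTower k Ω L := by
  obtain ⟨M, hM⟩ := Ideal.exists_maximal (TensorProduct k K Ω)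
  letI : Field (TensorProduct k K Ω ⧸ M) := Ideal.Quotient.field M
  let fK : K →ₐ[k] (TensorProduct k K Ω ⧸ M) :=
    (Ideal.Quotient.mkₐ k M).comp Algebra.TensorProduct.includeLeft
  let fΩ : Ω →ₐ[k] (TensorProduct k K Ω ⧸ M) :=
    (Ideal.Quotient.mkₐ k M).comp Algebra.TensorProduct.includeRight
  refine ⟨TensorProduct k K Ω ⧸ M, inferInstance, inferInstance, fK.toRingHom.toAlgebra,
    fΩ.toRingHom.toAlgebra, ?_, ?_⟩
  · letI := fK.toRingHom.toAlgebra
    exact IsScalarTower.of_algebraMap_eq fun c => (fK.commutes c).symm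
  · letI := fΩ.toRingHom.toAlgebra
    exact IsScalarTower.of_algebraMap_eq fun c => (fΩ.commutes c).symm

theorem irreducible_map_of_irreducible_map_isAlgClosed {k K Ω : Type u} [Field k] [Field K] [Field Ω]
    [Algebra k K] [Algebra k Ω] [IsAlgClosed Ω] {σ : Type*} (F : MvPolynomial σ k)
    (h : Irreducible (MvPolynomial.map (algebraMap k Ω) F)) :
    Irreducible (MvPolynomial.map (algebraMap k K) F) := by
  obtain ⟨L, _, _, _, _, _, _⟩ := exists_common_extension k K Ω
  apply irreducible_of_irreducible_map (L := L)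
  have h1 := irreducible_map_of_isAlgClosed (L := L) _ h
  rw [map_map, ← IsScalarTower.algebraMap_eq] at h1 ⊢
  exact h1

open TensorProduct in
theorem isDomain_tensor_iff {k K : Type u} [Field k] [Field K] [Algebra k K] {n : ℕ}
    (F : MvPolynomial (Fin n) k) (hF : F ≠ 0) :
    IsDomain ((MvPolynomial (Fin n) k ⧸ Ideal.span ({F} : Set (MvPolynomial (Fin n) k))) ⊗[k] K) ↔
      Irreducible (MvPolynomial.map (algebraMap k K) F) := by
  have hmF : MvPolynomial.map (algebraMap k K) F ≠ 0 := fun h =>
    hF (map_injective _ (algebraMap k K).injective (by rw [h, map_zero]))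
  set I : Ideal (MvPolynomial (Fin n) k) := Ideal.span {F} with hI
  let e1 : (MvPolynomial (Fin n) k ⧸ I) ⊗[k] K ≃+* K ⊗[k] (MvPolynomial (Fin n) k ⧸ I) :=
    (Algebra.TensorProduct.comm k _ _).toRingEquiv
  let e2 : K ⊗[k] (MvPolynomial (Fin n) k ⧸ I) ≃+*
      (K ⊗[k] MvPolynomial (Fin n) k) ⧸ I.map (Algebra.TensorProduct.includeRight (A := K) (R := k)) :=
    (Algebra.TensorProduct.tensorQuotientEquiv (R := k) K (MvPolynomial (Fin n) k) K I).toRingEquiv
  have hJ : Ideal.span ({MvPolynomial.map (algebraMap k K) F} : Set (MvPolynomial (Fin n) K)) =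
      (I.map (Algebra.TensorProduct.includeRight (A := K) (R := k))).map
        ((MvPolynomial.algebraTensorAlgEquiv k K (σ := Fin n)).toRingEquiv :
          K ⊗[k] MvPolynomial (Fin n) k →+* MvPolynomial (Fin n) K) := by
    rw [hI, Ideal.map_span, Ideal.map_span, Set.image_singleton, Set.image_singleton]
    congr 2
    change _ = MvPolynomial.algebraTensorAlgEquiv k K ((1 : K) ⊗ₜ[k] F)
    rw [MvPolynomial.algebraTensorAlgEquiv_tmul, one_smul]
  let e3 := Ideal.quotientEquiv _ _ (MvPolynomial.algebraTensorAlgEquiv k K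
    (σ := Fin n)).toRingEquiv hJ
  let e := (e1.trans e2).trans e3
  rw [e.toMulEquiv.isDomain_iff, Ideal.Quotient.isDomain_iff_prime,
    Ideal.span_singleton_prime hmF, irreducible_iff_prime]

end A

section Sch

open CategoryTheory AlgebraicGeometry TensorProduct

theorem geometricallyIntegral_SpecMap_iff {k : Type u} [Field k] {A : Type u} [CommRing A]
    [Algebra k A] :
    GeometricallyIntegral (Spec.map (CommRingCat.ofHom (algebraMap k A))) ↔
      ∀ (K : Type u) [Field K] [Algebra k K], IsDomain (A ⊗[k] K) := by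
  rw [geometricallyIntegral_iff, geometrically_iff_of_commRing]
  constructor
  · intro h K _ _
    have h1 := h _ _ (isPullback_SpecMap_of_isPushout _ _ _ _
      (CommRingCat.isPushout_tensorProduct k A K))
    exact (affine_isIntegral_iff _).mp h1
  · intro h K _ _ Y fst snd hpb
    have hpb' := isPullback_SpecMap_of_isPushout _ _ _ _
      (CommRingCat.isPushout_tensorProduct k A K)
    let iso := hpb.isoIsPullback _ _ hpb'
    haveI : IsDomain (CommRingCat.of (A ⊗[k] K)) := h K
    haveI : IsIntegral (Spec (CommRingCat.of (A ⊗[k] K))) := (affine_isIntegral_iff _).mpr (h K)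
    haveI : Nonempty Y := ⟨iso.inv (Classical.arbitrary _)⟩
    exact isIntegral_of_isOpenImmersion iso.hom

theorem main {k : Type u} [Field k] (Ω : Type u) [Field Ω] [Algebra k Ω]
    [IsAlgClosed Ω] {n : ℕ} (F : MvPolynomial (Fin n) k) (hF : 0 < F.totalDegree) :
    List.TFAE [
      GeometricallyIntegral (Spec.map (CommRingCat.ofHom
        (algebraMap k (MvPolynomial (Fin n) k ⧸ Ideal.span ({F} : Set (MvPolynomial (Fin n) k)))))),
      ∀ (K : Type u) [Field K] [Algebra k K], Irreducible (MvPolynomial.map (algebraMap k K) F),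
      Irreducible (MvPolynomial.map (algebraMap k Ω) F)] := by
  have hF0 : F ≠ 0 := by
    intro h
    rw [h, totalDegree_zero] at hF
    exact lt_irrefl _ hF
  tfae_have 1 ↔ 2 := by
    rw [geometricallyIntegral_SpecMap_iff]
    exact forall_congr' fun K => forall_congr' fun _ => forall_congr' fun _ =>
      isDomain_tensor_iff F hF0
  tfae_have 2 → 3 := fun h => h Ω
  tfae_have 3 → 2 := fun h K _ _ => irreducible_map_of_irreducible_map_isAlgClosed F h
  tfae_finish

end Sch

end Groth.Agent.Lib.GeomIrredPoly
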