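import Mathlib
import Groth.Agent.Lib.FGSubalgLimitU
import Groth.Agent.S4795

/-!
# Geometrically isomorphic schemes of finite type over a field are isomorphic over a finite extension
(helper62)
-/

set_option autoImplicit false
universe u

open CategoryTheory Limits AlgebraicGeometry

namespace Groth.Agent.Lib.GeomIsoFinExt

/-- An isomorphism over a stage induces an isomorphism after any further base change. -/
theorem exists_iso_of_stage {S₀ Sj T X₀ Y₀ Xj Yj XT YT : Scheme.{u}} (a₀ : X₀ ⟶ S₀) (b₀ : Y₀ ⟶ S₀)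
    (φ : Sj ⟶ S₀) (t : T ⟶ Sj) {aj : Xj ⟶ Sj} {bj : Yj ⟶ Sj} {pX : Xj ⟶ X₀} {pY : Yj ⟶ Y₀}
    (hXj : IsPullback pX aj a₀ φ) (hYj : IsPullback pY bj b₀ φ) (e : Xj ≅ Yj)
    (he : e.hom ≫ bj = aj)
    {aT : XT ⟶ T} {bT : YT ⟶ T} {rX : XT ⟶ X₀} {rY : YT ⟶ Y₀}
    (hXT : IsPullback rX aT a₀ (t ≫ φ)) (hYT : IsPullback rY bT b₀ (t ≫ φ)) :
    ∃ e' : XT ≅ YT, e'.hom ≫ bT = aT := by
  have sqX := IsPullback.of_right' hXT hXj
  have sqY := IsPullback.of_right' hYT hYj
  have sqX' : IsPullback (hXj.lift rX (aT ≫ t) (by rw [hXT.w, Category.assoc]) ≫ e.hom) aT bj t :=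
    sqX.of_iso (Iso.refl _) e (Iso.refl _) (Iso.refl _) (by simp) (by simp) (by simp [he]) (by simp)
  exact ⟨sqX'.isoIsPullback _ _ sqY, IsPullback.isoIsPullback_hom_snd _ _ sqX' sqY⟩

open Groth.Agent.Lib.FGSubalgLimitU Opposite in
/-- Geometrically isomorphic finite type schemes over a field become isomorphic over a finite
extension. -/
theorem exists_finite_ext_iso {k : Type u} [Field k] {X Y : Scheme.{u}}
    (p : X ⟶ Spec (CommRingCat.of k)) (q : Y ⟶ Spec (CommRingCat.of k))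
    [LocallyOfFiniteType p] [QuasiCompact p] [LocallyOfFiniteType q] [QuasiCompact q]
    (K : Type u) [Field K] [Algebra k K]
    (e : pullback p (Spec.map (CommRingCat.ofHom (algebraMap k K))) ≅ pullback q (Spec.map (CommRingCat.ofHom (algebraMap k K))))
    (he : e.hom ≫ pullback.snd q (Spec.map (CommRingCat.ofHom (algebraMap k K))) = pullback.snd p (Spec.map (CommRingCat.ofHom (algebraMap k K)))) :
    ∃ (k' : Type u) (_ : Field k') (_ : Algebra k k') (_ : Module.Finite k k')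
      (e' : pullback p (Spec.map (CommRingCat.ofHom (algebraMap k k'))) ≅ pullback q (Spec.map (CommRingCat.ofHom (algebraMap k k')))),
      e'.hom ≫ pullback.snd q (Spec.map (CommRingCat.ofHom (algebraMap k k'))) = pullback.snd p (Spec.map (CommRingCat.ofHom (algebraMap k k'))) := by
  let i₀ : (FGSub k K)ᵒᵖ := op ⟨⊥, Subalgebra.fg_bot⟩
  let γr : CommRingCat.of k ⟶ CommRingCat.of (⊥ : Subalgebra k K) :=
    CommRingCat.ofHom (algebraMap k (⊥ : Subalgebra k K))
  haveI : IsIso γr := by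
    rw [ConcreteCategory.isIso_iff_bijective]
    refine ⟨(algebraMap k (⊥ : Subalgebra k K)).injective, fun ⟨y, hy⟩ => ?_⟩
    obtain ⟨x, rfl⟩ := Algebra.mem_bot.mp hy
    exact ⟨x, rfl⟩
  let γ : (D k K).obj i₀ ⟶ Spec (CommRingCat.of k) := Spec.map γr
  haveI : IsIso γ := inferInstanceAs (IsIso (Spec.map γr))
  let a₀ : X ⟶ (D k K).obj i₀ := p ≫ inv γ
  let b₀ : Y ⟶ (D k K).obj i₀ := q ≫ inv γ
  haveI : IsNoetherian ((D k K).obj i₀) := inferInstance
  haveI : LocallyOfFiniteType a₀ := inferInstanceAs (LocallyOfFiniteType (p ≫ inv γ))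
  haveI : LocallyOfFiniteType b₀ := inferInstanceAs (LocallyOfFiniteType (q ≫ inv γ))
  haveI : QuasiCompact a₀ := inferInstanceAs (QuasiCompact (p ≫ inv γ))
  haveI : QuasiCompact b₀ := inferInstanceAs (QuasiCompact (q ≫ inv γ))
  haveI : LocallyOfFinitePresentation a₀ := inferInstance
  haveI : LocallyOfFinitePresentation b₀ := inferInstance
  haveI : IsLocallyNoetherian X := LocallyOfFiniteType.isLocallyNoetherian a₀
  haveI : IsLocallyNoetherian Y := LocallyOfFiniteType.isLocallyNoetherian b₀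
  haveI : QuasiSeparated a₀ := inferInstance
  haveI : QuasiSeparated b₀ := inferInstance
  let σ : Spec (CommRingCat.of K) ⟶ Spec (CommRingCat.of k) :=
    Spec.map (CommRingCat.ofHom (algebraMap k K))
  let π₀ : Spec (CommRingCat.of K) ⟶ (D k K).obj i₀ := (cone k K).π.app i₀
  have hσ : π₀ ≫ γ = σ := by
    change Spec.map (CommRingCat.ofHom (⊥ : Subalgebra k K).val.toRingHom) ≫ Spec.map γr =
      Spec.map (CommRingCat.ofHom (algebraMap k K))
    rw [← Spec.map_comp]
    rfl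
  have hσ' : π₀ = σ ≫ inv γ := by
    rw [← hσ, Category.assoc, IsIso.hom_inv_id, Category.comp_id]
  have hX : IsPullback (pullback.fst p σ) (pullback.snd p σ) a₀ π₀ := by
    rw [hσ']
    exact (IsPullback.of_hasPullback p σ).of_iso (Iso.refl _) (Iso.refl _) (Iso.refl _)
      (asIso (inv γ)) (by simp) (by simp) (by simp [a₀]) (by simp)
  have hY : IsPullback (pullback.fst q σ) (pullback.snd q σ) b₀ π₀ := by
    rw [hσ']
    exact (IsPullback.of_hasPullback q σ).of_iso (Iso.refl _) (Iso.refl _) (Iso.refl _)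
      (asIso (inv γ)) (by simp) (by simp) (by simp [b₀]) (by simp)
  obtain ⟨j, φ, Xj, Yj, aj, bj, pX, pY, hXj, hYj, ej, hej⟩ :=
    (Groth.Agent.S4795.result (D k K) (cone k K) (isLimitCone k K) i₀ a₀ b₀
      (pullback.snd p σ) (pullback.snd q σ) (pullback.fst p σ) (pullback.fst q σ) hX hY).mp ⟨e, he⟩
  let A : Subalgebra k K := j.unop.1
  haveI : Algebra.FiniteType k A := (Subalgebra.fg_iff_finiteType _).mp j.unop.2
  obtain ⟨m, hm⟩ := Ideal.exists_maximal A
  let _ : Field (A ⧸ m) := Ideal.Quotient.field m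
  haveI : Algebra.FiniteType k (A ⧸ m) :=
    Algebra.FiniteType.of_surjective (Ideal.Quotient.mkₐ k m) (Ideal.Quotient.mkₐ_surjective k m)
  haveI : Module.Finite k (A ⧸ m) := finite_of_finite_type_of_isJacobsonRing k (A ⧸ m)
  let t : Spec (CommRingCat.of (A ⧸ m)) ⟶ (D k K).obj j :=
    Spec.map (CommRingCat.ofHom (Ideal.Quotient.mk m))
  let σ' : Spec (CommRingCat.of (A ⧸ m)) ⟶ Spec (CommRingCat.of k) :=
    Spec.map (CommRingCat.ofHom (algebraMap k (A ⧸ m)))
  let ψ : (D k K).obj j ⟶ (D k K).obj i₀ := (D k K).map φ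
  have hT : (t ≫ ψ) ≫ γ = σ' := by
    change (Spec.map (CommRingCat.ofHom (Ideal.Quotient.mk m)) ≫
      Spec.map (CommRingCat.ofHom (Subalgebra.inclusion (leOfHom φ.unop)).toRingHom)) ≫
      Spec.map γr = Spec.map (CommRingCat.ofHom (algebraMap k (A ⧸ m)))
    rw [← Spec.map_comp, ← Spec.map_comp]
    rfl
  have hT' : t ≫ ψ = σ' ≫ inv γ := by
    rw [← hT, Category.assoc, IsIso.hom_inv_id, Category.comp_id]
  have hXT : IsPullback (pullback.fst p σ') (pullback.snd p σ') a₀ (t ≫ ψ) := by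
    rw [hT']
    exact (IsPullback.of_hasPullback p σ').of_iso (Iso.refl _) (Iso.refl _) (Iso.refl _)
      (asIso (inv γ)) (by simp) (by simp) (by simp [a₀]) (by simp)
  have hYT : IsPullback (pullback.fst q σ') (pullback.snd q σ') b₀ (t ≫ ψ) := by
    rw [hT']
    exact (IsPullback.of_hasPullback q σ').of_iso (Iso.refl _) (Iso.refl _) (Iso.refl _)
      (asIso (inv γ)) (by simp) (by simp) (by simp [b₀]) (by simp)
  obtain ⟨e', he'⟩ := exists_iso_of_stage a₀ b₀ ψ t hXj hYj ej hej hXT hYT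
  exact ⟨A ⧸ m, inferInstance, inferInstance, inferInstance, e', he'⟩

end Groth.Agent.Lib.GeomIsoFinExt
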