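import Mathlib
import Groth.Prelude.Def_W4bk4git07Quot
import Groth.Agent.Lib.FpqcCovDesc18
import Groth.Agent.Lib.FpqcCovMore18
import Groth.Agent.Lib.FlatSurj18
import Groth.Agent.Lib.GammaFpqc

/-!
# fpqc torsor-like quotients are geometric quotients (helper18)

For an action `a` of `G` on `X` in `Over S` and an invariant `φ : X ⟶ Y` which is flat, surjective
and quasi-compact and such that `G ×_S X ⟶ X ×_Y X` is an isomorphism (stated as a cartesian square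
on underlying schemes):

* `isUnivSubmersive_of_fpqc` : fpqc morphisms are universally submersive;
* `sections_of_fpqc` : over every open `U` of `Y`, functions on `U` are the invariant functions on
  `φ⁻¹ U`;
* `isGeomQuot_of_fpqc` : `φ` is a geometric quotient (`GIT.IsGeomQuot`).
-/

set_option autoImplicit false
set_option maxHeartbeats 400000
universe u
open CategoryTheory CategoryTheory.Limits MonoidalCategory CartesianMonoidalCategory MonObj
  AlgebraicGeometry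

namespace Groth.Agent.Lib.GeomQuotFpqc18

open Groth.Agent.Lib.FpqcCov18 Groth.Agent.Lib.GammaFpqc

lemma isUnivSubmersive_of_fpqc {X Y : Scheme.{u}} (f : X ⟶ Y) [Flat f] [Surjective f]
    [QuasiCompact f] : GIT.IsUnivSubmersive f := by
  intro X' Y' i₁ i₂ f' sq
  have h1 : Flat f' := MorphismProperty.of_isPullback (P := @Flat) sq.flip inferInstance
  have h2 : Surjective f' := MorphismProperty.of_isPullback (P := @Surjective) sq.flip inferInstance
  have h3 : QuasiCompact f' :=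
    MorphismProperty.of_isPullback (P := @QuasiCompact) sq.flip inferInstance
  exact Flat.isQuotientMap_of_surjective f'

lemma appLE_congr_hom {A B : Scheme.{u}} {f g : A ⟶ B} (h : f = g) (U : B.Opens) (W : A.Opens)
    (e : W ≤ f ⁻¹ᵁ U) (e' : W ≤ g ⁻¹ᵁ U) : f.appLE U W e = g.appLE U W e' := by
  subst h; rfl

lemma resLE_appTop_apply {A B : Scheme.{u}} (f : A ⟶ B) (V : B.Opens) (W : A.Opens)
    (e : W ≤ f ⁻¹ᵁ V) (s : Γ(B, V)) :
    (f.resLE V W e).appTop.hom (V.topIso.inv.hom s) = W.topIso.inv.hom ((f.appLE V W e).hom s) := by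
  have h1 : (f.resLE V W e).appTop = V.topIso.hom ≫ f.appLE V W e ≫ W.topIso.inv :=
    Scheme.Hom.resLE_app_top f e
  rw [h1]
  simp only [CommRingCat.hom_comp, RingHom.comp_apply]
  have h4 : V.topIso.hom.hom (V.topIso.inv.hom s) = s :=
    Iso.inv_hom_id_apply (C := CommRingCat) _ _
  rw [h4]

lemma resLE_comp_fn_eq {A B : Scheme.{u}} (f₁ f₂ : A ⟶ B) (V : B.Opens) (W : A.Opens)
    (e₁ : W ≤ f₁ ⁻¹ᵁ V) (e₂ : W ≤ f₂ ⁻¹ᵁ V) (s : Γ(B, V))
    (hs : (f₁.appLE V W e₁).hom s = (f₂.appLE V W e₂).hom s) :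
    f₁.resLE V W e₁ ≫ (fnEquiv V.toScheme).symm (V.topIso.inv.hom s) =
      f₂.resLE V W e₂ ≫ (fnEquiv V.toScheme).symm (V.topIso.inv.hom s) := by
  rw [fnEquiv_symm_comp, fnEquiv_symm_comp, resLE_appTop_apply, resLE_appTop_apply, hs]

variable {S : Scheme.{u}} {G X Y : Over S} [GrpObj G] (a : AlgGrp.Action G X) (φ : X ⟶ Y)
  (hinv : GIT.IsInvariant a φ)

include hinv in
lemma isInvSection_app (U : Y.left.Opens) (s : Γ(Y.left, U)) :
    GIT.IsInvSection a φ U (φ.left.app U s) := by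
  unfold GIT.IsInvSection
  have h1 := Scheme.Hom.comp_appLE a.act.left φ.left U
    (a.act.left ⁻¹ᵁ (φ.left ⁻¹ᵁ U) ⊓ (snd G X).left ⁻¹ᵁ (φ.left ⁻¹ᵁ U)) inf_le_left
  have h2 := Scheme.Hom.comp_appLE (snd G X).left φ.left U
    (a.act.left ⁻¹ᵁ (φ.left ⁻¹ᵁ U) ⊓ (snd G X).left ⁻¹ᵁ (φ.left ⁻¹ᵁ U)) inf_le_right
  have h3 := appLE_congr_hom hinv.left U
    (a.act.left ⁻¹ᵁ (φ.left ⁻¹ᵁ U) ⊓ (snd G X).left ⁻¹ᵁ (φ.left ⁻¹ᵁ U)) inf_le_left inf_le_right
  have := congrArg (fun m => m.hom s) (h1.symm.trans (h3.trans h2))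
  exact this

variable [Flat φ.left] [Surjective φ.left] [QuasiCompact φ.left]
  (hsq : IsPullback a.act.left (snd G X).left φ.left φ.left)

include hsq in
lemma mem_range_of_isInvSection (U : Y.left.Opens) (f : Γ(X.left, φ.left ⁻¹ᵁ U))
    (hf : GIT.IsInvSection a φ U f) : f ∈ Set.range (φ.left.app U) := by
  have cov : IsFpqcCov (φ.left ∣_ U) :=
    (isFpqcCov_of_fpqc φ.left).of_isPullback (isPullback_morphismRestrict φ.left U).flip
  have key : ∀ {A : Scheme.{u}} (g₁ g₂ : A ⟶ (φ.left ⁻¹ᵁ U).toScheme),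
      g₁ ≫ (φ.left ∣_ U) = g₂ ≫ (φ.left ∣_ U) →
      g₁ ≫ (fnEquiv _).symm ((φ.left ⁻¹ᵁ U).topIso.inv f) =
        g₂ ≫ (fnEquiv _).symm ((φ.left ⁻¹ᵁ U).topIso.inv f) := by
    intro A g₁ g₂ hg
    have hg' : (g₁ ≫ (φ.left ⁻¹ᵁ U).ι) ≫ φ.left = (g₂ ≫ (φ.left ⁻¹ᵁ U).ι) ≫ φ.left := by
      rw [Category.assoc, Category.assoc, ← morphismRestrict_ι, ← Category.assoc, hg,
        Category.assoc]
    have ht1 := hsq.lift_fst _ _ hg'
    have ht2 := hsq.lift_snd _ _ hg'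
    have hrange : Set.range (hsq.lift _ _ hg') ⊆ Set.range
        (a.act.left ⁻¹ᵁ (φ.left ⁻¹ᵁ U) ⊓ (snd G X).left ⁻¹ᵁ (φ.left ⁻¹ᵁ U)).ι := by
      rw [Scheme.Opens.range_ι]
      rintro _ ⟨p, rfl⟩
      constructor
      · show a.act.left (hsq.lift _ _ hg' p) ∈ φ.left ⁻¹ᵁ U
        rw [← Scheme.Hom.comp_apply, ht1, Scheme.Hom.comp_apply]
        exact (g₁ p).2
      · show (snd G X).left (hsq.lift _ _ hg' p) ∈ φ.left ⁻¹ᵁ U
        rw [← Scheme.Hom.comp_apply, ht2, Scheme.Hom.comp_apply]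
        exact (g₂ p).2
    obtain ⟨tW, htW⟩ : ∃ tW : A ⟶ (a.act.left ⁻¹ᵁ (φ.left ⁻¹ᵁ U) ⊓
        (snd G X).left ⁻¹ᵁ (φ.left ⁻¹ᵁ U)).toScheme,
        tW ≫ (a.act.left ⁻¹ᵁ (φ.left ⁻¹ᵁ U) ⊓ (snd G X).left ⁻¹ᵁ (φ.left ⁻¹ᵁ U)).ι =
          hsq.lift _ _ hg' :=
      ⟨IsOpenImmersion.lift _ _ hrange, IsOpenImmersion.lift_fac _ _ hrange⟩
    have e1 : g₁ = tW ≫ a.act.left.resLE (φ.left ⁻¹ᵁ U) _ inf_le_left := by
      rw [← cancel_mono (φ.left ⁻¹ᵁ U).ι, Category.assoc, Scheme.Hom.resLE_comp_ι,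
        ← Category.assoc, htW, ht1]
    have e2 : g₂ = tW ≫ (snd G X).left.resLE (φ.left ⁻¹ᵁ U) _ inf_le_right := by
      rw [← cancel_mono (φ.left ⁻¹ᵁ U).ι, Category.assoc, Scheme.Hom.resLE_comp_ι,
        ← Category.assoc, htW, ht2]
    have e3 : a.act.left.resLE (φ.left ⁻¹ᵁ U)
          (a.act.left ⁻¹ᵁ (φ.left ⁻¹ᵁ U) ⊓ (snd G X).left ⁻¹ᵁ (φ.left ⁻¹ᵁ U)) inf_le_left ≫
          (fnEquiv _).symm ((φ.left ⁻¹ᵁ U).topIso.inv f) =
        (snd G X).left.resLE (φ.left ⁻¹ᵁ U)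
          (a.act.left ⁻¹ᵁ (φ.left ⁻¹ᵁ U) ⊓ (snd G X).left ⁻¹ᵁ (φ.left ⁻¹ᵁ U)) inf_le_right ≫
          (fnEquiv _).symm ((φ.left ⁻¹ᵁ U).topIso.inv f) :=
      resLE_comp_fn_eq _ _ _ _ _ _ f hf
    rw [e1, e2, Category.assoc, Category.assoc, e3]
  obtain ⟨ψ, hψ⟩ := cov.exists_desc _ key
  refine ⟨U.topIso.hom.hom (fnEquiv _ ψ), ?_⟩
  have hinj : Function.Injective ((φ.left ⁻¹ᵁ U).topIso.inv.hom) := by
    intro s t hst
    have := congrArg ((φ.left ⁻¹ᵁ U).topIso.hom.hom) hst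
    rwa [Iso.inv_hom_id_apply (C := CommRingCat), Iso.inv_hom_id_apply (C := CommRingCat)] at this
  apply hinj
  have h1 := fnEquiv_comp (φ.left ∣_ U) ψ
  rw [hψ, Equiv.apply_symm_apply] at h1
  rw [h1]
  have h2 := resLE_appTop_apply φ.left U (φ.left ⁻¹ᵁ U) le_rfl (U.topIso.hom.hom (fnEquiv _ ψ))
  rw [Scheme.Hom.resLE_eq_morphismRestrict, Scheme.Hom.appLE_eq_app] at h2
  have h4 : U.topIso.inv.hom (U.topIso.hom.hom (fnEquiv _ ψ)) = fnEquiv _ ψ :=
    Iso.hom_inv_id_apply (C := CommRingCat) _ _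
  rw [h4] at h2
  exact h2.symm

include hinv hsq in
/-- A flat, surjective, quasi-compact invariant morphism whose kernel pair is `G × X` is a
geometric quotient. -/
theorem isGeomQuot_of_fpqc : GIT.IsGeomQuot a φ where
  inv := hinv
  surj := φ.left.surjective
  orbit := by
    have h : GIT.PsiY a φ hinv = hsq.isoPullback.hom := by
      apply pullback.hom_ext
      · rw [IsPullback.isoPullback_hom_fst]; exact pullback.lift_fst _ _ _
      · rw [IsPullback.isoPullback_hom_snd]; exact pullback.lift_snd _ _ _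
    rw [h]
    exact (hsq.isoPullback.hom).surjective
  subm := isUnivSubmersive_of_fpqc φ.left
  sections := fun U => ⟨Groth.Agent.Lib.FlatSurj18.app_injective_of_flat_of_surjective φ.left U,
    Set.Subset.antisymm (by rintro _ ⟨s, rfl⟩; exact isInvSection_app a φ hinv U s)
      (fun f hf => mem_range_of_isInvSection a φ hsq U f hf)⟩

end Groth.Agent.Lib.GeomQuotFpqc18
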