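import Groth.Agent.Lib.QuotBC45
import Groth.Agent.Lib.GeomQuotFpqc18

/-!
# fpqc descent of geometric quotients (helper45)

`a` an action of `G` on `X`, `φ : X ⟶ Y` invariant, `α : Y' ⟶ Y` flat, surjective and quasi-compact,
`X' = X ×_Y Y'` with the induced action `a'`.  If `φ'` is a geometric quotient for `a'` and the
second base change `X'' ⟶ Y'' = Y' ×_Y Y'` is injective on sections over all opens, then `φ` is a
geometric quotient (`isGeomQuot_of_fpqc_baseChange`).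
-/

set_option autoImplicit false
universe u
open CategoryTheory CategoryTheory.Limits MonoidalCategory CartesianMonoidalCategory MonObj
  AlgebraicGeometry Topology

namespace Groth.Agent.Lib.GeomQuotDesc45

open Groth.Agent.Lib.QuotBC45 Groth.Agent.Lib.FpqcCov18 Groth.Agent.Lib.GammaFpqc
  Groth.Agent.Lib.GeomQuotFpqc18

section sch

variable {X Y X' Y' : Scheme.{u}} {φ : X ⟶ Y} {α : Y' ⟶ Y} {pr : X' ⟶ X} {φ' : X' ⟶ Y'}

lemma surjective_of_isPullback_surjective (hpb : IsPullback pr φ' φ α) [Surjective α]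
    (h : Function.Surjective φ'.base) : Function.Surjective φ.base := by
  intro y
  obtain ⟨y', rfl⟩ := α.surjective y
  obtain ⟨x', rfl⟩ := h y'
  exact ⟨pr x', by rw [← Scheme.Hom.comp_apply, hpb.w, Scheme.Hom.comp_apply]⟩

/-- Universal submersiveness descends along fpqc base change. -/
lemma isUnivSubmersive_of_isPullback_fpqc [Flat α] [Surjective α] [QuasiCompact α]
    (hpb : IsPullback pr φ' φ α) (h : GIT.IsUnivSubmersive φ') : GIT.IsUnivSubmersive φ := by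
  intro X₁ Y₁ i₁ i₂ φ₁ sq
  -- `sq : IsPullback φ₁ i₁ i₂ φ`
  have hc : (pullback.fst φ₁ (pullback.fst i₂ α) ≫ i₁) ≫ φ =
      (pullback.snd φ₁ (pullback.fst i₂ α) ≫ pullback.snd i₂ α) ≫ α := by
    rw [Category.assoc, ← sq.w, ← Category.assoc, pullback.condition, Category.assoc,
      Category.assoc, pullback.condition]
  have hbig : IsPullback (pullback.fst φ₁ (pullback.fst i₂ α) ≫ i₁)
      (pullback.snd φ₁ (pullback.fst i₂ α)) φ (pullback.fst i₂ α ≫ i₂) :=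
    (IsPullback.of_hasPullback φ₁ (pullback.fst i₂ α)).paste_horiz sq.flip
  have hleft : IsPullback (hpb.lift _ _ hc) (pullback.snd φ₁ (pullback.fst i₂ α)) φ'
      (pullback.snd i₂ α) := by
    refine IsPullback.of_right ?_ (hpb.lift_snd _ _ hc) hpb
    rw [hpb.lift_fst, ← pullback.condition]
    exact hbig
  have hq1 : IsQuotientMap (pullback.snd φ₁ (pullback.fst i₂ α)) :=
    h (hpb.lift _ _ hc) (pullback.snd i₂ α) _ hleft.flip
  have hq2 : IsQuotientMap (pullback.fst i₂ α) := Flat.isQuotientMap_of_surjective _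
  have hq3 : IsQuotientMap (pullback.snd φ₁ (pullback.fst i₂ α) ≫ pullback.fst i₂ α) :=
    hq2.comp hq1
  rw [← pullback.condition] at hq3
  exact IsQuotientMap.of_comp (pullback.fst φ₁ (pullback.fst i₂ α)).continuous φ₁.continuous hq3

lemma appLE_appLE_apply {A B C : Scheme.{u}} (f : A ⟶ B) (g : B ⟶ C) (U : C.Opens) (V : B.Opens)
    (W : A.Opens) (e₁ : V ≤ g ⁻¹ᵁ U) (e₂ : W ≤ f ⁻¹ᵁ V) (s : Γ(C, U)) :
    (f.appLE V W e₂).hom ((g.appLE U V e₁).hom s) =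
      ((f ≫ g).appLE U W (e₂.trans (f.preimage_mono e₁))).hom s := by
  rw [← Scheme.Hom.appLE_comp_appLE]
  rfl

/-- Pulling back a section along the two sides of a commutative square. -/
lemma appLE_sq {A B₁ B₂ C : Scheme.{u}} (f₁ : A ⟶ B₁) (g₁ : B₁ ⟶ C) (f₂ : A ⟶ B₂) (g₂ : B₂ ⟶ C)
    (h : f₁ ≫ g₁ = f₂ ≫ g₂) (U : C.Opens) (V₁ : B₁.Opens) (V₂ : B₂.Opens) (W : A.Opens)
    (e₁ : V₁ ≤ g₁ ⁻¹ᵁ U) (e₁' : W ≤ f₁ ⁻¹ᵁ V₁) (e₂ : V₂ ≤ g₂ ⁻¹ᵁ U) (e₂' : W ≤ f₂ ⁻¹ᵁ V₂)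
    (s : Γ(C, U)) :
    (f₁.appLE V₁ W e₁').hom ((g₁.appLE U V₁ e₁).hom s) =
      (f₂.appLE V₂ W e₂').hom ((g₂.appLE U V₂ e₂).hom s) := by
  rw [appLE_appLE_apply, appLE_appLE_apply]
  exact congrArg (fun m => m.hom s) (appLE_congr_hom h U W _ _)

lemma appLE_injective_of_flat_of_surjective {A B : Scheme.{u}} (f : A ⟶ B) [Flat f] [Surjective f]
    (V : B.Opens) (W : A.Opens) (e : W ≤ f ⁻¹ᵁ V) (e' : f ⁻¹ᵁ V ≤ W) :
    Function.Injective (f.appLE V W e).hom := by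
  intro u v huv
  have h1 := congrArg (A.presheaf.map (homOfLE e').op).hom huv
  have h2 : ∀ t : Γ(B, V), (A.presheaf.map (homOfLE e').op).hom ((f.appLE V W e).hom t) =
      (f.app V).hom t := by
    intro t
    have := Scheme.Hom.appLE_map f e (homOfLE e').op
    rw [Scheme.Hom.app_eq_appLE]
    exact congrArg (fun m => m.hom t) this
  rw [h2, h2] at h1
  exact Groth.Agent.Lib.FlatSurj18.app_injective_of_flat_of_surjective f V h1

end sch

section overS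

variable {S : Scheme.{u}} {G X Y X' Y' : Over S} [GrpObj G]
  (a : AlgGrp.Action G X) (φ : X ⟶ Y) (hinv : GIT.IsInvariant a φ)
  (α : Y' ⟶ Y) (pr : X' ⟶ X) (φ' : X' ⟶ Y')
  (hpb : IsPullback pr.left φ'.left φ.left α.left)
  (a' : AlgGrp.Action G X') (heq : a'.act ≫ pr = (G ◁ pr) ≫ a.act)
  (hinv' : GIT.IsInvariant a' φ')

include hpb heq in
lemma orbit_of_isPullback [Surjective α.left]
    (horb' : Function.Surjective (GIT.PsiY a' φ' hinv').base) :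
    Function.Surjective (GIT.PsiY a φ hinv).base := by
  have hw : a'.act.left ≫ pr.left = (G ◁ pr).left ≫ a.act.left := by
    rw [← Over.comp_left, heq, Over.comp_left]
  have hsq := isPullback_lift_kernelPair hpb (σ := a.act.left) (p := (snd G X).left)
    (σ' := a'.act.left) (p' := (snd G X').left) (w := (G ◁ pr).left) hinv.left hinv'.left hw
    (Groth.Agent.Lib.ActOpen18.isPullback_whiskerLeft_snd G pr)
  have hmap := (isPullback_kernelPair_snd hpb).paste_vert hpb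
  have hms : Surjective (pullback.map φ'.left φ'.left φ.left φ.left pr.left pr.left α.left
      hpb.w.symm hpb.w.symm) := MorphismProperty.of_isPullback hmap.flip ‹Surjective α.left›
  intro z
  obtain ⟨z', rfl⟩ := hms.surj z
  obtain ⟨v', rfl⟩ := horb' z'
  refine ⟨(G ◁ pr).left v', ?_⟩
  have h1 : (G ◁ pr).left ≫ GIT.PsiY a φ hinv = GIT.PsiY a' φ' hinv' ≫
      pullback.map φ'.left φ'.left φ.left φ.left pr.left pr.left α.left hpb.w.symm hpb.w.symm :=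
    hsq.w.symm
  rw [← Scheme.Hom.comp_apply, ← Scheme.Hom.comp_apply, h1]

include heq in
/-- The pullback of an invariant section is invariant. -/
lemma isInvSection_pullback (U : Y.left.Opens) (f : Γ(X.left, φ.left ⁻¹ᵁ U))
    (hf : GIT.IsInvSection a φ U f)
    (e : φ'.left ⁻¹ᵁ (α.left ⁻¹ᵁ U) ≤ pr.left ⁻¹ᵁ (φ.left ⁻¹ᵁ U)) :
    GIT.IsInvSection a' φ' (α.left ⁻¹ᵁ U)
      ((pr.left.appLE (φ.left ⁻¹ᵁ U) (φ'.left ⁻¹ᵁ (α.left ⁻¹ᵁ U)) e).hom f) := by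
  have hw : a'.act.left ≫ pr.left = (G ◁ pr).left ≫ a.act.left := by
    rw [← Over.comp_left, heq, Over.comp_left]
  have hw2 : (snd G X').left ≫ pr.left = (G ◁ pr).left ≫ (snd G X).left := by
    rw [← Over.comp_left, ← Over.comp_left, whiskerLeft_snd]
  unfold GIT.IsInvSection at hf ⊢
  have eW : a'.act.left ⁻¹ᵁ (φ'.left ⁻¹ᵁ (α.left ⁻¹ᵁ U)) ⊓
      (snd G X').left ⁻¹ᵁ (φ'.left ⁻¹ᵁ (α.left ⁻¹ᵁ U)) ≤
      (G ◁ pr).left ⁻¹ᵁ (a.act.left ⁻¹ᵁ (φ.left ⁻¹ᵁ U) ⊓ (snd G X).left ⁻¹ᵁ (φ.left ⁻¹ᵁ U)) := by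
    intro v hv
    constructor
    · show a.act.left ((G ◁ pr).left v) ∈ φ.left ⁻¹ᵁ U
      rw [← Scheme.Hom.comp_apply, ← hw, Scheme.Hom.comp_apply]
      exact e hv.1
    · show (snd G X).left ((G ◁ pr).left v) ∈ φ.left ⁻¹ᵁ U
      rw [← Scheme.Hom.comp_apply, ← hw2, Scheme.Hom.comp_apply]
      exact e hv.2
  rw [appLE_sq a'.act.left pr.left (G ◁ pr).left a.act.left hw (φ.left ⁻¹ᵁ U) _ _ _ e inf_le_left
    inf_le_left eW f, hf]
  exact appLE_sq (G ◁ pr).left (snd G X).left (snd G X').left pr.left hw2.symm (φ.left ⁻¹ᵁ U) _ _ _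
    inf_le_right eW e inf_le_right f

section main

variable [Flat α.left] [Surjective α.left] [QuasiCompact α.left]
  {Y'' X'' : Scheme.{u}} (p1 p2 : Y'' ⟶ Y'.left) (hY'' : IsPullback p1 p2 α.left α.left)
  (q1 : X'' ⟶ X'.left) (φ'' : X'' ⟶ Y'') (hX'' : IsPullback q1 φ'' φ'.left p1)
  (hinj'' : ∀ U'' : Y''.Opens, Function.Injective (φ''.app U''))
  (h : GIT.IsGeomQuot a' φ')

omit [Flat α.left] [Surjective α.left] [QuasiCompact α.left] in
include hpb in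
lemma preimage_le (U : Y.left.Opens) :
    φ'.left ⁻¹ᵁ (α.left ⁻¹ᵁ U) ≤ pr.left ⁻¹ᵁ (φ.left ⁻¹ᵁ U) := by
  intro x hx
  show φ.left (pr.left x) ∈ U
  rw [← Scheme.Hom.comp_apply, hpb.w, Scheme.Hom.comp_apply]
  exact hx

omit [Flat α.left] [Surjective α.left] [QuasiCompact α.left] in
include hpb in
lemma le_preimage (U : Y.left.Opens) :
    pr.left ⁻¹ᵁ (φ.left ⁻¹ᵁ U) ≤ φ'.left ⁻¹ᵁ (α.left ⁻¹ᵁ U) := by
  intro x hx
  show α.left (φ'.left x) ∈ U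
  rw [← Scheme.Hom.comp_apply, ← hpb.w, Scheme.Hom.comp_apply]
  exact hx

omit [QuasiCompact α.left] in
include hpb h in
lemma app_injective_of_isPullback (U : Y.left.Opens) : Function.Injective (φ.left.app U) := by
  intro s t hst
  have hfl : Flat pr.left := MorphismProperty.of_isPullback hpb.flip ‹Flat α.left›
  apply Groth.Agent.Lib.FlatSurj18.app_injective_of_flat_of_surjective α.left U
  apply (h.sections (α.left ⁻¹ᵁ U)).1
  have h1 := fun r : Γ(Y.left, U) => appLE_sq pr.left φ.left φ'.left α.left hpb.w U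
    (φ.left ⁻¹ᵁ U) (α.left ⁻¹ᵁ U) (φ'.left ⁻¹ᵁ (α.left ⁻¹ᵁ U)) le_rfl
    (preimage_le φ α pr φ' hpb U) le_rfl le_rfl r
  simp only [Scheme.Hom.appLE_eq_app] at h1
  change (φ'.left.app (α.left ⁻¹ᵁ U)).hom ((α.left.app U).hom s) =
    (φ'.left.app (α.left ⁻¹ᵁ U)).hom ((α.left.app U).hom t)
  rw [← h1, ← h1]
  exact congrArg _ hst

include hpb heq hY'' hX'' hinj'' h in
lemma mem_range_of_isPullback (U : Y.left.Opens) (f : Γ(X.left, φ.left ⁻¹ᵁ U))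
    (hf : GIT.IsInvSection a φ U f) : f ∈ Set.range (φ.left.app U) := by
  have hfl : Flat pr.left := MorphismProperty.of_isPullback hpb.flip ‹Flat α.left›
  have hsj : Surjective pr.left := MorphismProperty.of_isPullback hpb.flip ‹Surjective α.left›
  have e := preimage_le φ α pr φ' hpb U
  have e' := le_preimage φ α pr φ' hpb U
  -- the section downstairs on `Y'`
  have hf' := isInvSection_pullback a φ α pr φ' a' heq U f hf e
  obtain ⟨s', hs'⟩ : (pr.left.appLE (φ.left ⁻¹ᵁ U) (φ'.left ⁻¹ᵁ (α.left ⁻¹ᵁ U)) e).hom f ∈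
      Set.range (φ'.left.app (α.left ⁻¹ᵁ U)) := by
    rw [(h.sections (α.left ⁻¹ᵁ U)).2]; exact hf'
  -- the second lift `q2`
  have hc : (q1 ≫ pr.left) ≫ φ.left = (φ'' ≫ p2) ≫ α.left := by
    rw [Category.assoc, hpb.w, ← Category.assoc, hX''.w, Category.assoc, hY''.w, Category.assoc]
  have hq2a : hpb.lift _ _ hc ≫ pr.left = q1 ≫ pr.left := hpb.lift_fst _ _ hc
  have hq2b : hpb.lift _ _ hc ≫ φ'.left = φ'' ≫ p2 := hpb.lift_snd _ _ hc
  -- `p1^* s' = p2^* s'`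
  have eZ1 : φ'' ⁻¹ᵁ (p1 ⁻¹ᵁ (α.left ⁻¹ᵁ U) ⊓ p2 ⁻¹ᵁ (α.left ⁻¹ᵁ U)) ≤
      q1 ⁻¹ᵁ (φ'.left ⁻¹ᵁ (α.left ⁻¹ᵁ U)) := by
    intro z hz
    show φ'.left (q1 z) ∈ α.left ⁻¹ᵁ U
    rw [← Scheme.Hom.comp_apply, hX''.w, Scheme.Hom.comp_apply]
    exact hz.1
  have eZ2 : φ'' ⁻¹ᵁ (p1 ⁻¹ᵁ (α.left ⁻¹ᵁ U) ⊓ p2 ⁻¹ᵁ (α.left ⁻¹ᵁ U)) ≤
      hpb.lift _ _ hc ⁻¹ᵁ (φ'.left ⁻¹ᵁ (α.left ⁻¹ᵁ U)) := by
    intro z hz
    show φ'.left (hpb.lift _ _ hc z) ∈ α.left ⁻¹ᵁ U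
    rw [← Scheme.Hom.comp_apply, hq2b, Scheme.Hom.comp_apply]
    exact hz.2
  have ht : (p1.appLE (α.left ⁻¹ᵁ U) (p1 ⁻¹ᵁ (α.left ⁻¹ᵁ U) ⊓ p2 ⁻¹ᵁ (α.left ⁻¹ᵁ U))
        inf_le_left).hom s' =
      (p2.appLE (α.left ⁻¹ᵁ U) (p1 ⁻¹ᵁ (α.left ⁻¹ᵁ U) ⊓ p2 ⁻¹ᵁ (α.left ⁻¹ᵁ U))
        inf_le_right).hom s' := by
    apply hinj''
    rw [Scheme.Hom.app_eq_appLE]
    have hs'' : (φ'.left.appLE (α.left ⁻¹ᵁ U) (φ'.left ⁻¹ᵁ (α.left ⁻¹ᵁ U)) le_rfl).hom s' =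
        (pr.left.appLE (φ.left ⁻¹ᵁ U) (φ'.left ⁻¹ᵁ (α.left ⁻¹ᵁ U)) e).hom f := by
      rw [Scheme.Hom.appLE_eq_app]; exact hs'
    rw [appLE_sq φ'' p1 q1 φ'.left hX''.w.symm (α.left ⁻¹ᵁ U) _ _ _ inf_le_left le_rfl le_rfl eZ1 s',
      hs'', appLE_sq q1 pr.left (hpb.lift _ _ hc) pr.left hq2a.symm (φ.left ⁻¹ᵁ U) _ _ _ e eZ1 e eZ2
        f, ← hs'']
    exact appLE_sq (hpb.lift _ _ hc) φ'.left φ'' p2 hq2b (α.left ⁻¹ᵁ U) _ _ _ le_rfl eZ2
      inf_le_right le_rfl s'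
  -- descend along `α ∣_ U`
  have cov : IsFpqcCov (α.left ∣_ U) :=
    (isFpqcCov_of_fpqc α.left).of_isPullback (isPullback_morphismRestrict α.left U).flip
  have key : ∀ {A : Scheme.{u}} (g₁ g₂ : A ⟶ (α.left ⁻¹ᵁ U).toScheme),
      g₁ ≫ (α.left ∣_ U) = g₂ ≫ (α.left ∣_ U) →
      g₁ ≫ (fnEquiv _).symm ((α.left ⁻¹ᵁ U).topIso.inv s') =
        g₂ ≫ (fnEquiv _).symm ((α.left ⁻¹ᵁ U).topIso.inv s') := by
    intro A g₁ g₂ hg
    have hg' : (g₁ ≫ (α.left ⁻¹ᵁ U).ι) ≫ α.left = (g₂ ≫ (α.left ⁻¹ᵁ U).ι) ≫ α.left := by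
      rw [Category.assoc, Category.assoc, ← morphismRestrict_ι, ← Category.assoc, hg,
        Category.assoc]
    have ht1 := hY''.lift_fst _ _ hg'
    have ht2 := hY''.lift_snd _ _ hg'
    have hrange : Set.range (hY''.lift _ _ hg') ⊆ Set.range
        (p1 ⁻¹ᵁ (α.left ⁻¹ᵁ U) ⊓ p2 ⁻¹ᵁ (α.left ⁻¹ᵁ U)).ι := by
      rw [Scheme.Opens.range_ι]
      rintro _ ⟨p, rfl⟩
      constructor
      · show p1 (hY''.lift _ _ hg' p) ∈ α.left ⁻¹ᵁ U
        rw [← Scheme.Hom.comp_apply, ht1, Scheme.Hom.comp_apply]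
        exact (g₁ p).2
      · show p2 (hY''.lift _ _ hg' p) ∈ α.left ⁻¹ᵁ U
        rw [← Scheme.Hom.comp_apply, ht2, Scheme.Hom.comp_apply]
        exact (g₂ p).2
    obtain ⟨tW, htW⟩ : ∃ tW : A ⟶ (p1 ⁻¹ᵁ (α.left ⁻¹ᵁ U) ⊓ p2 ⁻¹ᵁ (α.left ⁻¹ᵁ U)).toScheme,
        tW ≫ (p1 ⁻¹ᵁ (α.left ⁻¹ᵁ U) ⊓ p2 ⁻¹ᵁ (α.left ⁻¹ᵁ U)).ι = hY''.lift _ _ hg' :=
      ⟨IsOpenImmersion.lift _ _ hrange, IsOpenImmersion.lift_fac _ _ hrange⟩
    have e1 : g₁ = tW ≫ p1.resLE (α.left ⁻¹ᵁ U) _ inf_le_left := by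
      rw [← cancel_mono (α.left ⁻¹ᵁ U).ι, Category.assoc, Scheme.Hom.resLE_comp_ι,
        ← Category.assoc, htW, ht1]
    have e2 : g₂ = tW ≫ p2.resLE (α.left ⁻¹ᵁ U) _ inf_le_right := by
      rw [← cancel_mono (α.left ⁻¹ᵁ U).ι, Category.assoc, Scheme.Hom.resLE_comp_ι,
        ← Category.assoc, htW, ht2]
    have e3 := resLE_comp_fn_eq p1 p2 (α.left ⁻¹ᵁ U)
      (p1 ⁻¹ᵁ (α.left ⁻¹ᵁ U) ⊓ p2 ⁻¹ᵁ (α.left ⁻¹ᵁ U)) inf_le_left inf_le_right s' ht
    rw [e1, e2, Category.assoc, Category.assoc, e3]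
  obtain ⟨ψ, hψ⟩ := cov.exists_desc _ key
  refine ⟨U.topIso.hom.hom (fnEquiv _ ψ), ?_⟩
  -- `α^* s = s'`
  have hαs : (α.left.app U).hom (U.topIso.hom.hom (fnEquiv _ ψ)) = s' := by
    have hinj : Function.Injective ((α.left ⁻¹ᵁ U).topIso.inv.hom) := by
      intro s t hst
      have := congrArg ((α.left ⁻¹ᵁ U).topIso.hom.hom) hst
      rwa [Iso.inv_hom_id_apply (C := CommRingCat), Iso.inv_hom_id_apply (C := CommRingCat)]
        at this
    apply hinj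
    have h1 := fnEquiv_comp (α.left ∣_ U) ψ
    rw [hψ, Equiv.apply_symm_apply] at h1
    rw [h1]
    have h2 := resLE_appTop_apply α.left U (α.left ⁻¹ᵁ U) le_rfl (U.topIso.hom.hom (fnEquiv _ ψ))
    rw [Scheme.Hom.resLE_eq_morphismRestrict, Scheme.Hom.appLE_eq_app] at h2
    have h4 : U.topIso.inv.hom (U.topIso.hom.hom (fnEquiv _ ψ)) = fnEquiv _ ψ :=
      Iso.hom_inv_id_apply (C := CommRingCat) _ _
    rw [h4] at h2
    exact h2.symm
  apply appLE_injective_of_flat_of_surjective pr.left (φ.left ⁻¹ᵁ U)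
    (φ'.left ⁻¹ᵁ (α.left ⁻¹ᵁ U)) e e'
  have h1 := appLE_sq pr.left φ.left φ'.left α.left hpb.w U
    (φ.left ⁻¹ᵁ U) (α.left ⁻¹ᵁ U) (φ'.left ⁻¹ᵁ (α.left ⁻¹ᵁ U)) le_rfl e le_rfl le_rfl
    (U.topIso.hom.hom (fnEquiv _ ψ))
  simp only [Scheme.Hom.appLE_eq_app] at h1
  change (pr.left.appLE (φ.left ⁻¹ᵁ U) (φ'.left ⁻¹ᵁ (α.left ⁻¹ᵁ U)) e).hom
    ((φ.left.app U).hom (U.topIso.hom.hom (fnEquiv _ ψ))) = _
  rw [h1, hαs]
  exact hs'

include hinv hpb heq hinv' hY'' hX'' hinj'' h in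
/-- fpqc descent of geometric quotients. -/
theorem isGeomQuot_of_fpqc_baseChange : GIT.IsGeomQuot a φ where
  inv := hinv
  surj := surjective_of_isPullback_surjective hpb h.surj
  orbit := orbit_of_isPullback a φ hinv α pr φ' hpb a' heq hinv' h.orbit
  subm := isUnivSubmersive_of_isPullback_fpqc hpb h.subm
  sections := fun U => ⟨app_injective_of_isPullback φ α pr φ' hpb a' h U,
    Set.Subset.antisymm (by rintro _ ⟨s, rfl⟩; exact isInvSection_app a φ hinv U s)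
      (fun f hf => mem_range_of_isPullback a φ α pr φ' hpb a' heq p1 p2 hY'' q1 φ'' hX'' hinj'' h
        U f hf)⟩

end main

/-- A morphism that is injective on sections over all (affine) opens is scheme-theoretically
dominant. -/
lemma isSchemeTheoreticallyDominant_of_app_injective {A B : Scheme.{u}} (f : A ⟶ B)
    (hf : ∀ U : B.Opens, Function.Injective (f.app U)) : IsSchemeTheoreticallyDominant f := by
  refine ⟨Scheme.IdealSheafData.ext ?_⟩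
  funext U
  refine le_bot_iff.mp ((Scheme.Hom.ideal_ker_le f U).trans ?_)
  rw [(RingHom.injective_iff_ker_eq_bot _).mp (hf U.1)]

include hinv hpb heq hinv' in
/-- fpqc descent of geometric quotients when `φ` is quasi-compact. -/
theorem isGeomQuot_of_fpqc_baseChange_of_quasiCompact [Flat α.left] [Surjective α.left]
    [QuasiCompact α.left] [QuasiCompact φ.left] (h : GIT.IsGeomQuot a' φ') :
    GIT.IsGeomQuot a φ := by
  have hqc : QuasiCompact φ'.left := MorphismProperty.of_isPullback hpb ‹QuasiCompact φ.left›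
  have hsd : IsSchemeTheoreticallyDominant φ'.left :=
    isSchemeTheoreticallyDominant_of_app_injective _ fun U => (h.sections U).1
  have hsd' : IsSchemeTheoreticallyDominant
      (pullback.snd φ'.left (pullback.fst α.left α.left)) := inferInstance
  exact isGeomQuot_of_fpqc_baseChange a φ hinv α pr φ' hpb a' heq hinv'
    (pullback.fst α.left α.left) (pullback.snd α.left α.left) (IsPullback.of_hasPullback _ _)
    (pullback.fst φ'.left (pullback.fst α.left α.left))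
    (pullback.snd φ'.left (pullback.fst α.left α.left)) (IsPullback.of_hasPullback _ _)
    (fun U'' => Scheme.Hom.app_injective _ U'') h

end overS

end Groth.Agent.Lib.GeomQuotDesc45
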