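import Groth.Agent.Lib.GeomQuotFpqc18
import Groth.Agent.Lib.FpqcCovSubm18

/-!
# Sections of quotients with local sections (helper18)

* `app_injective_of_isFpqcCov` : sections inject along a morphism with fpqc-local sections;
* `fn_eq_of_conj` : an invariant function takes the same value at conjugate points;
* `mem_range_of_key` : an invariant function which is constant on the fibres (on points) descends.
-/

set_option autoImplicit false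
set_option maxHeartbeats 400000
universe u
open CategoryTheory CategoryTheory.Limits MonoidalCategory CartesianMonoidalCategory MonObj
  AlgebraicGeometry

namespace Groth.Agent.Lib.GeomQuotFpqc18

open Groth.Agent.Lib.FpqcCov18 Groth.Agent.Lib.GammaFpqc

lemma app_injective_of_isFpqcCov {X Y : Scheme.{u}} (p : X ⟶ Y) (hp : IsFpqcCov p) (U : Y.Opens) :
    Function.Injective (p.app U) := by
  intro s t hst
  have cov : IsFpqcCov (p ∣_ U) := hp.of_isPullback (isPullback_morphismRestrict p U).flip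
  have hepi : Epi (p ∣_ U) := cov.epi
  have hinjU : Function.Injective U.topIso.inv.hom := by
    intro s t hst
    have := congrArg (U.topIso.hom.hom) hst
    rwa [Iso.inv_hom_id_apply (C := CommRingCat), Iso.inv_hom_id_apply (C := CommRingCat)] at this
  apply hinjU
  apply (fnEquiv U.toScheme).symm.injective
  rw [← cancel_epi (p ∣_ U), fnEquiv_symm_comp, fnEquiv_symm_comp]
  congr 1
  have h2s := resLE_appTop_apply p U (p ⁻¹ᵁ U) le_rfl s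
  have h2t := resLE_appTop_apply p U (p ⁻¹ᵁ U) le_rfl t
  rw [Scheme.Hom.resLE_eq_morphismRestrict, Scheme.Hom.appLE_eq_app] at h2s h2t
  rw [h2s, h2t, hst]

variable {S : Scheme.{u}} {G X Y : Over S} [GrpObj G] (a : AlgGrp.Action G X) (φ : X ⟶ Y)

lemma fn_eq_of_conj (U : Y.left.Opens) (f : Γ(X.left, φ.left ⁻¹ᵁ U))
    (hf : GIT.IsInvSection a φ U f) {A : Scheme.{u}} (g₁ g₂ : A ⟶ (φ.left ⁻¹ᵁ U).toScheme)
    (l : A ⟶ (G ⊗ X).left) (h1 : l ≫ a.act.left = g₁ ≫ (φ.left ⁻¹ᵁ U).ι)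
    (h2 : l ≫ (snd G X).left = g₂ ≫ (φ.left ⁻¹ᵁ U).ι) :
    g₁ ≫ (fnEquiv _).symm ((φ.left ⁻¹ᵁ U).topIso.inv f) =
      g₂ ≫ (fnEquiv _).symm ((φ.left ⁻¹ᵁ U).topIso.inv f) := by
  have hrange : Set.range l ⊆ Set.range
      (a.act.left ⁻¹ᵁ (φ.left ⁻¹ᵁ U) ⊓ (snd G X).left ⁻¹ᵁ (φ.left ⁻¹ᵁ U)).ι := by
    rw [Scheme.Opens.range_ι]
    rintro _ ⟨p, rfl⟩
    constructor
    · show a.act.left (l p) ∈ φ.left ⁻¹ᵁ U
      rw [← Scheme.Hom.comp_apply, h1, Scheme.Hom.comp_apply]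
      exact (g₁ p).2
    · show (snd G X).left (l p) ∈ φ.left ⁻¹ᵁ U
      rw [← Scheme.Hom.comp_apply, h2, Scheme.Hom.comp_apply]
      exact (g₂ p).2
  obtain ⟨tW, htW⟩ : ∃ tW : A ⟶ (a.act.left ⁻¹ᵁ (φ.left ⁻¹ᵁ U) ⊓
      (snd G X).left ⁻¹ᵁ (φ.left ⁻¹ᵁ U)).toScheme,
      tW ≫ (a.act.left ⁻¹ᵁ (φ.left ⁻¹ᵁ U) ⊓ (snd G X).left ⁻¹ᵁ (φ.left ⁻¹ᵁ U)).ι = l :=
    ⟨IsOpenImmersion.lift _ _ hrange, IsOpenImmersion.lift_fac _ _ hrange⟩
  have e1 : g₁ = tW ≫ a.act.left.resLE (φ.left ⁻¹ᵁ U) _ inf_le_left := by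
    rw [← cancel_mono (φ.left ⁻¹ᵁ U).ι, Category.assoc, Scheme.Hom.resLE_comp_ι,
      ← Category.assoc, htW, h1]
  have e2 : g₂ = tW ≫ (snd G X).left.resLE (φ.left ⁻¹ᵁ U) _ inf_le_right := by
    rw [← cancel_mono (φ.left ⁻¹ᵁ U).ι, Category.assoc, Scheme.Hom.resLE_comp_ι,
      ← Category.assoc, htW, h2]
  have e3 : a.act.left.resLE (φ.left ⁻¹ᵁ U)
        (a.act.left ⁻¹ᵁ (φ.left ⁻¹ᵁ U) ⊓ (snd G X).left ⁻¹ᵁ (φ.left ⁻¹ᵁ U)) inf_le_left ≫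
        (fnEquiv _).symm ((φ.left ⁻¹ᵁ U).topIso.inv f) =
      (snd G X).left.resLE (φ.left ⁻¹ᵁ U)
        (a.act.left ⁻¹ᵁ (φ.left ⁻¹ᵁ U) ⊓ (snd G X).left ⁻¹ᵁ (φ.left ⁻¹ᵁ U)) inf_le_right ≫
        (fnEquiv _).symm ((φ.left ⁻¹ᵁ U).topIso.inv f) :=
    resLE_comp_fn_eq _ _ _ _ _ _ f hf
  rw [e1, e2, Category.assoc, Category.assoc, e3]

lemma mem_range_of_key (U : Y.left.Opens) (f : Γ(X.left, φ.left ⁻¹ᵁ U))
    (cov : IsFpqcCov (φ.left ∣_ U))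
    (key : ∀ {A : Scheme.{u}} (g₁ g₂ : A ⟶ (φ.left ⁻¹ᵁ U).toScheme),
      g₁ ≫ (φ.left ∣_ U) = g₂ ≫ (φ.left ∣_ U) →
      g₁ ≫ (fnEquiv _).symm ((φ.left ⁻¹ᵁ U).topIso.inv f) =
        g₂ ≫ (fnEquiv _).symm ((φ.left ⁻¹ᵁ U).topIso.inv f)) :
    f ∈ Set.range (φ.left.app U) := by
  obtain ⟨ψ, hψ⟩ := cov.exists_desc _ key
  refine ⟨U.topIso.hom.hom (fnEquiv _ ψ), ?_⟩
  have hinj : Function.Injective ((φ.left ⁻¹ᵁ U).topIso.inv.hom) := by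
    intro s t hst
    have := congrArg ((φ.left ⁻¹ᵁ U).topIso.hom.hom) hst
    rwa [Iso.inv_hom_id_apply (C := CommRingCat), Iso.inv_hom_id_apply (C := CommRingCat)] at this
  apply hinj
  have h1 := fnEquiv_comp (φ.left ∣_ U) ψ
  rw [hψ, Equiv.apply_symm_apply] at h1
  rw [h1]
  have h2 := resLE_appTop_apply φ.left U (φ.left ⁻¹ᵁ U) le_rfl (U.topIso.hom.hom (fnEquiv _ ψ))
  rw [Scheme.Hom.resLE_eq_morphismRestrict, Scheme.Hom.appLE_eq_app] at h2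
  have h4 : U.topIso.inv.hom (U.topIso.hom.hom (fnEquiv _ ψ)) = fnEquiv _ ψ :=
    Iso.hom_inv_id_apply (C := CommRingCat) _ _
  rw [h4] at h2
  exact h2.symm

end Groth.Agent.Lib.GeomQuotFpqc18
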