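import Groth.Agent.Lib.MacLane5H44
import Groth.Agent.Lib.GeomFieldExt
import Groth.Agent.Lib.GeomReducedProd

/-!
# Reducedness of `K ⊗[k] A` from reducedness over a perfect extension (helper91)
-/

set_option autoImplicit false
set_option maxHeartbeats 400000
universe u

open TensorProduct

namespace Groth.Agent.Lib.GeomRedBC91a

/-- If `k₁ ⊗[k] A` is reduced for some perfect extension field `k₁` of `k`, then `K ⊗[k] A` is reduced
for every extension field `K` of `k`. -/
theorem isReduced_tensor_of_perfect_ext (k k₁ K A : Type u) [Field k] [Field k₁] [Field K]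
    [CommRing A] [Algebra k A] [Algebra k k₁] [Algebra k K] [PerfectField k₁]
    (h : IsReduced (k₁ ⊗[k] A)) : IsReduced (K ⊗[k] A) := by
  obtain ⟨Ω, hΩ, φK, φ₁, hcomp⟩ := Groth.Agent.Lib.GeomFieldExt.exists_common_field k K k₁
  letI : Algebra k₁ Ω := φ₁.toAlgebra
  letI : Algebra k Ω := (φ₁.comp (algebraMap k k₁)).toAlgebra
  haveI : IsScalarTower k k₁ Ω := IsScalarTower.of_algebraMap_eq (fun x => rfl)
  have hΩred : IsReduced (Ω ⊗[k] A) :=
    Groth.Agent.Lib.MacLane5H44.isReduced_tensor_of_tower_perfect k k₁ Ω A h
  let ψ : K →ₐ[k] Ω :=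
    { φK with
      commutes' := fun x => by
        have := congrArg (fun r => r x) hcomp
        exact this }
  exact isReduced_of_injective (Algebra.TensorProduct.map ψ (AlgHom.id k A))
    (Module.Flat.rTensor_preserves_injective_linearMap _ ψ.injective)

/-- If `k' ⊗[k] A` is reduced for every finite purely inseparable extension `k'` of `k`, then
`P ⊗[k] A` is reduced for the perfect closure `P` of `k` inside an algebraic extension `E`. -/
theorem isReduced_tensor_perfectClosure (k A E : Type u) [Field k] [CommRing A] [Algebra k A]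
    [Field E] [Algebra k E] [Algebra.IsAlgebraic k E]
    (h : ∀ (k' : Type u) [Field k'] [Algebra k k'], Module.Finite k k' → IsPurelyInseparable k k' →
      IsReduced (k' ⊗[k] A)) :
    IsReduced ((perfectClosure k E) ⊗[k] A) := by
  classical
  refine ⟨fun z hz => ?_⟩
  obtain ⟨S, hS⟩ := TensorProduct.exists_finset z
  let t : Set (perfectClosure k E) := ((S.image Prod.fst : Finset (perfectClosure k E)) : Set _)
  let L : IntermediateField k (perfectClosure k E) := IntermediateField.adjoin k t
  have hfin : FiniteDimensional k L :=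
    IntermediateField.finiteDimensional_adjoin (fun x _ => Algebra.IsIntegral.isIntegral x)
  have hpi : IsPurelyInseparable k L := IsPurelyInseparable.tower_bot k L (perfectClosure k E)
  have hred : IsReduced (L ⊗[k] A) := h L hfin hpi
  let F : L ⊗[k] A →ₐ[k] (perfectClosure k E) ⊗[k] A :=
    Algebra.TensorProduct.map L.val (AlgHom.id k A)
  have hF : Function.Injective F :=
    Module.Flat.rTensor_preserves_injective_linearMap _ L.val.injective
  have hmem : ∀ i ∈ S, i.1 ∈ L := fun i hi =>
    IntermediateField.subset_adjoin k t (Finset.mem_coe.2 (Finset.mem_image_of_mem Prod.fst hi))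
  have hz' : ∃ z', F z' = z := by
    refine ⟨∑ i ∈ S.attach, (⟨i.1.1, hmem i.1 i.2⟩ : L) ⊗ₜ[k] i.1.2, ?_⟩
    rw [map_sum, hS, ← Finset.sum_attach S]
    refine Finset.sum_congr rfl fun i _ => ?_
    simp [F]
  obtain ⟨z', rfl⟩ := hz'
  have hnil : IsNilpotent z' := by
    obtain ⟨n, hn⟩ := hz
    refine ⟨n, hF ?_⟩
    have h1 : F (z' ^ n) = F z' ^ n := F.toRingHom.map_pow z' n
    have h2 : F 0 = 0 := F.toRingHom.map_zero
    rw [h1, hn, h2]
  have h2 : F 0 = 0 := F.toRingHom.map_zero
  rw [hnil.eq_zero, h2]

/-- If `k' ⊗[k] A` is reduced for every finite purely inseparable extension `k'` of `k`, then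
`K ⊗[k] A` is reduced for every extension field `K` of `k`. -/
theorem isReduced_tensor_of_finite_purelyInseparable (k K A : Type u) [Field k] [Field K]
    [CommRing A] [Algebra k A] [Algebra k K]
    (h : ∀ (k' : Type u) [Field k'] [Algebra k k'], Module.Finite k k' → IsPurelyInseparable k k' →
      IsReduced (k' ⊗[k] A)) :
    IsReduced (K ⊗[k] A) :=
  isReduced_tensor_of_perfect_ext k (perfectClosure k (AlgebraicClosure k)) K A
    (isReduced_tensor_perfectClosure k A (AlgebraicClosure k) h)

open AlgebraicGeometry CategoryTheory Limits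

/-- Reducedness of a fibre product passes to an open of the first factor. -/
theorem isReduced_pullback_of_isOpenImmersion {V U B B' : Scheme.{u}} (j : V ⟶ U)
    [IsOpenImmersion j] (f : U ⟶ B) (g : B' ⟶ B) (h : IsReduced (pullback f g)) :
    IsReduced (pullback (j ≫ f) g) := by
  have h2 : IsReduced (pullback j (pullback.fst f g)) :=
    isReduced_of_isOpenImmersion (pullback.snd j (pullback.fst f g))
  exact isReduced_of_isOpenImmersion (pullbackRightPullbackFstIso f g j).inv

/-- Reducedness of a fibre product is local on the first factor. -/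
theorem isReduced_pullback_of_openCover {U B B' : Scheme.{u}} (𝒰 : U.OpenCover) (f : U ⟶ B)
    (g : B' ⟶ B) (h : ∀ j, IsReduced (pullback (𝒰.f j ≫ f) g)) : IsReduced (pullback f g) := by
  have : ∀ j, IsReduced ((Scheme.Pullback.openCoverOfLeft 𝒰 f g).X j) := fun j => h j
  exact IsReduced.of_openCover _ (Scheme.Pullback.openCoverOfLeft 𝒰 f g)

variable {k : Type u} [Field k]

/-- Translation for an affine first factor. -/
theorem isReduced_pullback_Spec_iff (A : CommRingCat.{u}) (ψ : CommRingCat.of k ⟶ A)
    (K : Type u) [Field K] [Algebra k K] :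
    letI := ψ.hom.toAlgebra
    IsReduced (pullback (Spec.map ψ) (Spec.map (CommRingCat.ofHom (algebraMap k K)))) ↔
      _root_.IsReduced (K ⊗[k] A) := by
  algebraize [ψ.hom]
  have e : A ⊗[k] K ≃ₐ[k] K ⊗[k] A := Algebra.TensorProduct.comm k A K
  constructor
  · intro h
    have h1 : IsReduced (Spec (CommRingCat.of (A ⊗[k] K))) :=
      isReduced_of_isOpenImmersion (pullbackSpecIso k A K).inv
    have h2 : _root_.IsReduced (A ⊗[k] K) := (affine_isReduced_iff _).mp h1
    exact isReduced_of_injective e.symm.toRingHom e.symm.injective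
  · intro h
    have h2 : _root_.IsReduced (A ⊗[k] K) := isReduced_of_injective e.toRingHom e.injective
    have h1 : IsReduced (Spec (CommRingCat.of (A ⊗[k] K))) := inferInstance
    exact isReduced_of_isOpenImmersion (pullbackSpecIso k A K).hom

theorem isReduced_pullback_Spec_of_perfect (A : CommRingCat.{u})
    (φ : Spec A ⟶ Spec (CommRingCat.of k))
    (k₁ K : Type u) [Field k₁] [Field K] [Algebra k k₁] [Algebra k K] [PerfectField k₁]
    (h : IsReduced (pullback φ (Spec.map (CommRingCat.ofHom (algebraMap k k₁))))) :
    IsReduced (pullback φ (Spec.map (CommRingCat.ofHom (algebraMap k K)))) := by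
  obtain ⟨ψ, rfl⟩ := Spec.map_surjective φ
  rw [isReduced_pullback_Spec_iff] at h ⊢
  letI := ψ.hom.toAlgebra
  exact isReduced_tensor_of_perfect_ext k k₁ K _ h

theorem isReduced_pullback_Spec_of_finite_purelyInseparable (A : CommRingCat.{u})
    (φ : Spec A ⟶ Spec (CommRingCat.of k)) (K : Type u) [Field K] [Algebra k K]
    (h : ∀ (k' : Type u) [Field k'] [Algebra k k'], Module.Finite k k' → IsPurelyInseparable k k' →
      IsReduced (pullback φ (Spec.map (CommRingCat.ofHom (algebraMap k k'))))) :
    IsReduced (pullback φ (Spec.map (CommRingCat.ofHom (algebraMap k K)))) := by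
  obtain ⟨ψ, rfl⟩ := Spec.map_surjective φ
  rw [isReduced_pullback_Spec_iff]
  letI := ψ.hom.toAlgebra
  refine isReduced_tensor_of_finite_purelyInseparable k K _ (fun k' _ _ h1 h2 => ?_)
  exact (isReduced_pullback_Spec_iff _ ψ k').1 (h k' h1 h2)

/-- If `U_{k₁}` is reduced for a perfect extension field `k₁` of `k`, then `U_K` is reduced for every
extension field `K`. -/
theorem isReduced_pullback_of_perfect {U : Scheme.{u}} (f : U ⟶ Spec (CommRingCat.of k))
    (k₁ K : Type u) [Field k₁] [Field K] [Algebra k k₁] [Algebra k K] [PerfectField k₁]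
    (h : IsReduced (pullback f (Spec.map (CommRingCat.ofHom (algebraMap k k₁))))) :
    IsReduced (pullback f (Spec.map (CommRingCat.ofHom (algebraMap k K)))) := by
  refine isReduced_pullback_of_openCover U.affineOpenCover.openCover f _ (fun j => ?_)
  have hj := isReduced_pullback_of_isOpenImmersion (U.affineOpenCover.openCover.f j) f _ h
  exact isReduced_pullback_Spec_of_perfect (U.affineOpenCover.X j)
    (U.affineOpenCover.openCover.f j ≫ f) k₁ K hj

/-- If `U_{k'}` is reduced for every finite purely inseparable extension `k'` of `k`, then `U_K` is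
reduced for every extension field `K`. -/
theorem isReduced_pullback_of_finite_purelyInseparable {U : Scheme.{u}}
    (f : U ⟶ Spec (CommRingCat.of k)) (K : Type u) [Field K] [Algebra k K]
    (h : ∀ (k' : Type u) [Field k'] [Algebra k k'], Module.Finite k k' → IsPurelyInseparable k k' →
      IsReduced (pullback f (Spec.map (CommRingCat.ofHom (algebraMap k k'))))) :
    IsReduced (pullback f (Spec.map (CommRingCat.ofHom (algebraMap k K)))) := by
  refine isReduced_pullback_of_openCover U.affineOpenCover.openCover f _ (fun j => ?_)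
  exact isReduced_pullback_Spec_of_finite_purelyInseparable (U.affineOpenCover.X j)
    (U.affineOpenCover.openCover.f j ≫ f) K (fun k' _ _ h1 h2 =>
      isReduced_pullback_of_isOpenImmersion (U.affineOpenCover.openCover.f j) f _ (h k' h1 h2))

end Groth.Agent.Lib.GeomRedBC91a
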