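import Groth.Agent.Lib.RepBySpC
import Groth.Agent.Lib.H69AlgSp
import Groth.Agent.Lib.AlgSpFibre

/-!
# More on maps of presheaves representable by algebraic spaces (helper91)
-/

set_option autoImplicit false
set_option maxHeartbeats 400000
universe u

namespace Groth.Agent.Lib.RepBySp91

open CategoryTheory CategoryTheory.Limits AlgebraicGeometry Opposite AlgSp
open Groth.Agent.Lib.H69AlgSp Groth.Agent.Lib.RepBySpC

section Generic

variable {D : Type*} [Category D] [HasBinaryProducts D]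

attribute [local simp] prod.lift_fst prod.lift_snd prod.lift_fst_assoc prod.lift_snd_assoc

theorem isPullback_prod_map_left {X Y : D} (a : X ⟶ Y) (Z : D) :
    IsPullback (prod.map a (𝟙 Z)) (prod.fst : X ⨯ Z ⟶ X) (prod.fst : Y ⨯ Z ⟶ Y) a := by
  refine isPullback_of_lift (by simp) ?_ ?_
  · intro W x y hxy
    refine ⟨prod.lift y (x ≫ prod.snd), ?_, by simp⟩
    apply Limits.prod.hom_ext
    · simp [hxy]
    · simp
  · intro W l l' h1 h2
    apply Limits.prod.hom_ext
    · exact h2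
    · have := h1 =≫ (prod.snd : Y ⨯ Z ⟶ Z)
      simpa using this

theorem isPullback_prod_map_right {X Y : D} (a : X ⟶ Y) (Z : D) :
    IsPullback (prod.map (𝟙 Z) a) (prod.snd : Z ⨯ X ⟶ X) (prod.snd : Z ⨯ Y ⟶ Y) a := by
  refine isPullback_of_lift (by simp) ?_ ?_
  · intro W x y hxy
    refine ⟨prod.lift (x ≫ prod.fst) y, ?_, by simp⟩
    apply Limits.prod.hom_ext
    · simp
    · simp [hxy]
  · intro W l l' h1 h2
    apply Limits.prod.hom_ext
    · have := h1 =≫ (prod.fst : Z ⨯ Y ⟶ Z)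
      simpa using this
    · exact h2

/-- The pullback of the diagonal of `F` along `ζ : A ⟶ F ⨯ F` is the pullback of the diagonal of `A` along
`A ×_F A ⟶ A ⨯ A`. -/
theorem exists_isPullback_diag_of_isPullback_diag {F A P E : D} {fst : P ⟶ F} {snd : P ⟶ A}
    {ζ : A ⟶ F ⨯ F} (sq : IsPullback fst snd (Limits.diag F) ζ) {e₁ e₂ : E ⟶ A}
    (sqE : IsPullback e₁ e₂ (ζ ≫ prod.fst) (ζ ≫ prod.snd)) :
    ∃ k : P ⟶ E, IsPullback k snd (prod.lift e₁ e₂) (Limits.diag A) := by
  have hf1 : fst = snd ≫ ζ ≫ prod.fst := by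
    have := sq.w =≫ (prod.fst : F ⨯ F ⟶ F)
    simpa using this
  have hf2 : fst = snd ≫ ζ ≫ prod.snd := by
    have := sq.w =≫ (prod.snd : F ⨯ F ⟶ F)
    simpa using this
  let k : P ⟶ E := sqE.lift snd snd (by rw [← hf1, ← hf2])
  have hk1 : k ≫ e₁ = snd := sqE.lift_fst _ _ _
  have hk2 : k ≫ e₂ = snd := sqE.lift_snd _ _ _
  refine ⟨k, isPullback_of_lift ?_ ?_ ?_⟩
  · apply Limits.prod.hom_ext
    · simp [hk1]
    · simp [hk2]
  · intro W x y hxy
    have h1 : x ≫ e₁ = y := by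
      have := hxy =≫ (prod.fst : A ⨯ A ⟶ A)
      simpa using this
    have h2 : x ≫ e₂ = y := by
      have := hxy =≫ (prod.snd : A ⨯ A ⟶ A)
      simpa using this
    have hy : y ≫ ζ ≫ prod.fst = y ≫ ζ ≫ prod.snd := by
      have := x ≫= sqE.w
      rw [← Category.assoc, h1, ← Category.assoc x, h2] at this
      exact this
    have hw : (y ≫ ζ ≫ prod.fst) ≫ Limits.diag F = y ≫ ζ := by
      apply Limits.prod.hom_ext
      · simp
      · simp [hy]
    refine ⟨sq.lift _ _ hw, ?_, sq.lift_snd _ _ _⟩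
    apply sqE.hom_ext
    · rw [Category.assoc, hk1, sq.lift_snd, h1]
    · rw [Category.assoc, hk2, sq.lift_snd, h2]
  · intro W l l' h1 h2
    apply sq.hom_ext
    · rw [hf1, ← Category.assoc, h2, Category.assoc]
    · exact h2

end Generic

section Generic2

variable {D : Type*} [Category D] [HasPullbacks D]

/-- The pullback of the relative diagonal of `a : F ⟶ G` along `ζ : A ⟶ F ×_G F` is the fibre product of the two
sections of `F ×_G A ⟶ A` determined by `ζ`. -/
theorem exists_isPullback_sections_of_isPullback_diagonal {F G A P : D} {a : F ⟶ G} {fst : P ⟶ F}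
    {snd : P ⟶ A} {ζ : A ⟶ pullback a a} (sq : IsPullback fst snd (pullback.diagonal a) ζ) :
    ∃ (σ₁ σ₂ : A ⟶ pullback a (ζ ≫ pullback.fst a a ≫ a)), IsPullback snd snd σ₁ σ₂ := by
  have hf1 : fst = snd ≫ ζ ≫ pullback.fst a a := by
    have := sq.w =≫ pullback.fst a a
    simpa using this
  have hf2 : fst = snd ≫ ζ ≫ pullback.snd a a := by
    have := sq.w =≫ pullback.snd a a
    simpa using this
  let σ₁ : A ⟶ pullback a (ζ ≫ pullback.fst a a ≫ a) :=
    pullback.lift (ζ ≫ pullback.fst a a) (𝟙 A) (by simp)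
  let σ₂ : A ⟶ pullback a (ζ ≫ pullback.fst a a ≫ a) :=
    pullback.lift (ζ ≫ pullback.snd a a) (𝟙 A) (by simp [pullback.condition])
  have hσ11 : σ₁ ≫ pullback.fst _ _ = ζ ≫ pullback.fst a a := pullback.lift_fst _ _ _
  have hσ12 : σ₁ ≫ pullback.snd _ _ = 𝟙 A := pullback.lift_snd _ _ _
  have hσ21 : σ₂ ≫ pullback.fst _ _ = ζ ≫ pullback.snd a a := pullback.lift_fst _ _ _
  have hσ22 : σ₂ ≫ pullback.snd _ _ = 𝟙 A := pullback.lift_snd _ _ _
  refine ⟨σ₁, σ₂, isPullback_of_lift ?_ ?_ ?_⟩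
  · apply pullback.hom_ext
    · rw [Category.assoc, Category.assoc, hσ11, hσ21, ← hf1, ← hf2]
    · rw [Category.assoc, Category.assoc, hσ12, hσ22]
  · intro W x y hxy
    have h1 : x = y := by
      have := hxy =≫ pullback.snd _ _
      rwa [Category.assoc, Category.assoc, hσ12, hσ22, Category.comp_id, Category.comp_id] at this
    have h2 : x ≫ ζ ≫ pullback.fst a a = y ≫ ζ ≫ pullback.snd a a := by
      have := hxy =≫ pullback.fst _ _
      rwa [Category.assoc, Category.assoc, hσ11, hσ21] at this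
    subst h1
    have hw : (x ≫ ζ ≫ pullback.fst a a) ≫ pullback.diagonal a = x ≫ ζ := by
      apply pullback.hom_ext
      · simp
      · simp [h2]
    exact ⟨sq.lift _ _ hw, sq.lift_snd _ _ _, sq.lift_snd _ _ _⟩
  · intro W l l' h1 h2
    apply sq.hom_ext
    · rw [hf1, ← Category.assoc, h1, Category.assoc]
    · exact h1

end Generic2

variable {S : Scheme.{u}}

/-- A product of two maps representable by algebraic spaces is representable by algebraic spaces. -/
theorem repBySp_prod_map {F₁ G₁ F₂ G₂ : PSp S} (a₁ : F₁ ⟶ G₁) (a₂ : F₂ ⟶ G₂)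
    (h₁ : RepBySp a₁) (h₂ : RepBySp a₂) : RepBySp (prod.map a₁ a₂) := by
  have e : prod.map a₁ a₂ = prod.map a₁ (𝟙 F₂) ≫ prod.map (𝟙 G₁) a₂ := by
    rw [prod.map_map, Category.comp_id, Category.id_comp]
  rw [e]
  exact repBySp_comp (repBySp_of_isPullback h₁ (isPullback_prod_map_left a₁ F₂))
    (repBySp_of_isPullback h₂ (isPullback_prod_map_right a₂ G₁))

/-- A fibre product of presheaves which are algebraic spaces is an algebraic space. -/
theorem isAlgSpaceP_of_isPullback_spaces {X Y H P : PSp S} (hX : IsAlgSpaceP X) (hY : IsAlgSpaceP Y)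
    (hH : IsAlgSpaceP H) {f : X ⟶ H} {g : Y ⟶ H} {fst : P ⟶ X} {snd : P ⟶ Y}
    (sq : IsPullback fst snd f g) : IsAlgSpaceP P := by
  obtain ⟨hx, hXa⟩ := hX
  obtain ⟨hy, hYa⟩ := hY
  obtain ⟨hh, hHa⟩ := hH
  have hp : Presheaf.IsSheaf (J S) P :=
    isSheaf_of_isPullback (F := ⟨X, hx⟩) (G := ⟨H, hh⟩) (H := ⟨Y, hy⟩) sq
  refine ⟨hp, ?_⟩
  have sqS : IsPullback (ObjectProperty.homMk fst : (⟨P, hp⟩ : Sp S) ⟶ ⟨X, hx⟩)
      (ObjectProperty.homMk snd : (⟨P, hp⟩ : Sp S) ⟶ ⟨Y, hy⟩)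
      (ObjectProperty.homMk f : (⟨X, hx⟩ : Sp S) ⟶ ⟨H, hh⟩) (ObjectProperty.homMk g) :=
    IsPullback.of_map_of_faithful (sheafToPresheaf (J S) (Type (u + 1))) sq
  exact Groth.Agent.Lib.AlgSpFibre.isAlgSpace_of_isPullback hHa.diag hXa hYa sqS

theorem isAlgSpaceP_pyon (U : Over S) : IsAlgSpaceP ((pyon S).obj U) :=
  (isAlgSpaceP_obj_iff ((yon S).obj U)).2 (IsAlgSpace.yon_obj U)

theorem isAlgSpaceP_pyon_prod (T U : Over S) : IsAlgSpaceP ((pyon S).obj T ⨯ (pyon S).obj U) :=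
  (isAlgSpaceP_pyon (T ⨯ U)).of_iso (PreservesLimitPair.iso (pyon S) T U)

/-- The diagonal of `F` is representable by algebraic spaces iff every map from a scheme to `F` is. -/
theorem repBySp_diag_iff {F : PSp S} :
    RepBySp (Limits.diag F) ↔ ∀ (T : Over S) (ξ : (pyon S).obj T ⟶ F), RepBySp ξ := by
  constructor
  · intro hΔ T ξ U ζ F' fst snd sq
    exact isAlgSpaceP_of_isPullback hΔ (isAlgSpaceP_pyon_prod T U) (isPullback_diag_prod_map sq).flip
  · intro h U ζ F' fst snd sq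
    have sqE := IsPullback.of_hasPullback (ζ ≫ prod.fst) (ζ ≫ prod.snd)
    have hE : IsAlgSpaceP (pullback (ζ ≫ prod.fst) (ζ ≫ prod.snd)) :=
      h U (ζ ≫ prod.fst) (ζ ≫ prod.snd) _ _ sqE
    obtain ⟨k, hk⟩ := exists_isPullback_diag_of_isPullback_diag sq sqE
    exact isAlgSpaceP_of_isPullback_spaces hE (isAlgSpaceP_pyon U) (isAlgSpaceP_pyon_prod U U) hk

/-- The relative diagonal of a map representable by algebraic spaces is representable by algebraic spaces. -/
theorem repBySp_diagonal {F G : PSp S} (a : F ⟶ G) (ha : RepBySp a) :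
    RepBySp (pullback.diagonal a) := by
  intro U ζ F' fst snd sq
  obtain ⟨σ₁, σ₂, hσ⟩ := exists_isPullback_sections_of_isPullback_diagonal sq
  have hE : IsAlgSpaceP (pullback a (ζ ≫ pullback.fst a a ≫ a)) :=
    ha _ _ _ (IsPullback.of_hasPullback _ _)
  exact isAlgSpaceP_of_isPullback_spaces (isAlgSpaceP_pyon U) (isAlgSpaceP_pyon U) hE hσ

end Groth.Agent.Lib.RepBySp91
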