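import Groth.Agent.Lib.GeomRedBC91a
import Groth.Agent.Lib.H69AlgSpReduced
import Groth.Agent.Lib.H69AlgSpLocST2
import Groth.Agent.Lib.AlgSpBasic
import Groth.Agent.Lib.RepBySp91

/-!
# Reducedness of base changes `X × h_K` of an algebraic space (helper91)

* `isReduced_of_isReducedSp_of_etale`: an etale chart of a reduced sheaf is a reduced scheme.
* `exists_atlas_prod`: atlas of `X ⨯ h_K` from an atlas of `X`.
* `isReducedSp_prod_iff`: `X ⨯ h_K` is reduced iff `U ×_S K` is, for an atlas `U` of `X`.
* `isReducedSp_bc_of_perfect`, `isReducedSp_bc_of_finite_purelyInseparable`: over a field.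
-/

set_option autoImplicit false
set_option maxHeartbeats 400000
universe u

open CategoryTheory CategoryTheory.Limits AlgebraicGeometry Opposite

namespace Groth.Agent.Lib.GeomRedBC91b

open AlgSp Groth.Agent.Lib.GeomRedBC91a

variable {S : Scheme.{u}}

/-- An etale chart of a reduced sheaf is a reduced scheme. -/
theorem isReduced_of_isReducedSp_of_etale {F : Sp S} (hF : IsReducedSp F) {V : Over S}
    (a : (yon S).obj V ⟶ F) (ha : RepWith @Etale a) : IsReduced V.left := by
  have hV : IsAlgSpace ((yon S).obj V) := IsAlgSpace.yon_obj V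
  have hloc : LocP @Etale a :=
    Groth.Agent.Lib.AlgSpBasic.locP_of_repWith @Etale
      (fun _ _ _ l w hl hw => by
        have : Etale l := hl
        have : Etale w := hw
        exact (inferInstance : Etale (l ≫ w)))
      (fun _ c => hV.representable_from_yon c) ha
  have hsm : LocP @Smooth a :=
    Groth.Agent.Lib.H69AlgSpLocST2.locP_mono
      (fun _ _ l hl => by have : Etale l := hl; infer_instance) hloc
  obtain ⟨W, q, hqe, hqs, hW⟩ :=
    Groth.Agent.Lib.H69AlgSpReduced.isReducedSp_of_smooth hV a hsm hF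
  obtain ⟨m, rfl⟩ := (yon S).map_surjective q
  have h1 : Etale m.left := (repWith_yon_map_iff _ m).1 hqe
  have h2 : Surjective m.left := (repWith_yon_map_iff _ m).1 hqs
  haveI : IsReduced W.left := hW
  exact Groth.Agent.Lib.GeomFieldExt.isReduced_of_flat_of_surjective m.left

/-- An atlas of `X ⨯ h_K` from an atlas of `X`. -/
theorem exists_atlas_prod {X : Sp S} {U : Over S} (p : (yon S).obj U ⟶ X) (hpe : RepWith @Etale p)
    (hps : RepWith @Surjective p) (K : Over S) :
    ∃ a : (yon S).obj (U ⨯ K) ⟶ X ⨯ (yon S).obj K, RepWith @Etale a ∧ RepWith @Surjective a := by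
  have sq := Groth.Agent.Lib.RepBySp91.isPullback_prod_map_left p ((yon S).obj K)
  have h1 : RepWith @Etale (prod.map p (𝟙 ((yon S).obj K))) :=
    (RepWith (S := S) @Etale).of_isPullback sq.flip hpe
  have h2 : RepWith @Surjective (prod.map p (𝟙 ((yon S).obj K))) :=
    (RepWith (S := S) @Surjective).of_isPullback sq.flip hps
  refine ⟨prodComparison (yon S) U K ≫ prod.map p (𝟙 _), ?_, ?_⟩
  · exact (MorphismProperty.cancel_left_of_respectsIso (RepWith (S := S) @Etale) _ _).2 h1
  · exact (MorphismProperty.cancel_left_of_respectsIso (RepWith (S := S) @Surjective) _ _).2 h2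

/-- `X ⨯ h_K` is reduced iff `U ×_S K` is reduced, for an atlas `U` of `X`. -/
theorem isReducedSp_prod_iff {X : Sp S} {U : Over S} (p : (yon S).obj U ⟶ X)
    (hpe : RepWith @Etale p) (hps : RepWith @Surjective p) (K : Over S) :
    IsReducedSp (X ⨯ (yon S).obj K) ↔ IsReduced (pullback U.hom K.hom) := by
  obtain ⟨a, hae, has⟩ := exists_atlas_prod p hpe hps K
  constructor
  · intro h
    have h1 : IsReduced (U ⨯ K).left := isReduced_of_isReducedSp_of_etale h a hae
    exact isReduced_of_isOpenImmersion (Over.prodLeftIsoPullback U K).inv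
  · intro h
    refine ⟨U ⨯ K, a, hae, has, ?_⟩
    exact isReduced_of_isOpenImmersion (Over.prodLeftIsoPullback U K).hom

variable {k : Type u} [Field k]

/-- If `X_{k₁}` is reduced for a perfect extension field `k₁` of `k`, then `X_K` is reduced for every
extension field `K`. -/
theorem isReducedSp_bc_of_perfect {X : Sp (Spec (CommRingCat.of k))} (hX : IsAlgSpace X)
    (k₁ K : Type u) [Field k₁] [Field K] [Algebra k k₁] [Algebra k K] [PerfectField k₁]
    (h : IsReducedSp (X ⨯ (yon (Spec (CommRingCat.of k))).obj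
      (Over.mk (Spec.map (CommRingCat.ofHom (algebraMap k k₁)))))) :
    IsReducedSp (X ⨯ (yon (Spec (CommRingCat.of k))).obj
      (Over.mk (Spec.map (CommRingCat.ofHom (algebraMap k K))))) := by
  obtain ⟨U, p, hpe, hps⟩ := hX.atlas
  rw [isReducedSp_prod_iff p hpe hps] at h ⊢
  exact isReduced_pullback_of_perfect U.hom k₁ K h

/-- If `X_{k'}` is reduced for every finite purely inseparable extension `k'` of `k`, then `X_K` is
reduced for every extension field `K`. -/
theorem isReducedSp_bc_of_finite_purelyInseparable {X : Sp (Spec (CommRingCat.of k))}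
    (hX : IsAlgSpace X) (K : Type u) [Field K] [Algebra k K]
    (h : ∀ (k' : Type u) [Field k'] [Algebra k k'], Module.Finite k k' → IsPurelyInseparable k k' →
      IsReducedSp (X ⨯ (yon (Spec (CommRingCat.of k))).obj
        (Over.mk (Spec.map (CommRingCat.ofHom (algebraMap k k')))))) :
    IsReducedSp (X ⨯ (yon (Spec (CommRingCat.of k))).obj
      (Over.mk (Spec.map (CommRingCat.ofHom (algebraMap k K))))) := by
  obtain ⟨U, p, hpe, hps⟩ := hX.atlas
  rw [isReducedSp_prod_iff p hpe hps]
  refine isReduced_pullback_of_finite_purelyInseparable U.hom K (fun k' _ _ h1 h2 => ?_)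
  exact (isReducedSp_prod_iff p hpe hps _).1 (h k' h1 h2)

end Groth.Agent.Lib.GeomRedBC91b
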