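import Groth.Agent.Lib.H69SchReduced
import Groth.Agent.Lib.H71GeomRedAt
import Groth.Agent.Lib.H86DimAt
import Groth.Prelude.Def_FDesc

/-!
# Reducedness and geometric reducedness at a point are etale local (owner: helper86)
-/

set_option autoImplicit false
set_option linter.style.haveILetI false
universe u
open CategoryTheory CategoryTheory.Limits AlgebraicGeometry TopologicalSpace
open AlgSp

namespace Groth.Agent.Lib.H86ReducedAt

/-- Reducedness of the local ring at a point is invariant under etale morphisms of schemes. -/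
theorem isReduced_stalk_iff_of_etale {W U : Scheme.{u}} (s : W ⟶ U) [Etale s] (w : ↥W) :
    _root_.IsReduced ↥(W.presheaf.stalk w) ↔ _root_.IsReduced ↥(U.presheaf.stalk (s w)) := by
  constructor
  · intro h
    have hinj : Function.Injective (s.stalkMap w).hom := by
      algebraize [(s.stalkMap w).hom]
      have : Module.FaithfullyFlat (U.presheaf.stalk (s w)) (W.presheaf.stalk w) :=
        @Module.FaithfullyFlat.of_flat_of_isLocalHom _ _ _ _ _ _ _
          (Flat.stalkMap s w) (s.toLRSHom.prop w)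
      exact ‹RingHom.FaithfullyFlat _›.injective
    exact isReduced_of_injective _ hinj
  · intro h
    haveI : IsReduced (Spec (U.presheaf.stalk (s w))) := inferInstance
    haveI : Etale (pullback.fst (U.fromSpecStalk (s w)) s) := inferInstance
    haveI : IsReduced (pullback (U.fromSpecStalk (s w)) s) :=
      Groth.Agent.Lib.H69SchReduced.isReduced_of_smooth (pullback.fst (U.fromSpecStalk (s w)) s)
    obtain ⟨p, -, hp2⟩ := Scheme.Pullback.exists_preimage_pullback
      (f := U.fromSpecStalk (s w)) (g := s) (IsLocalRing.closedPoint _) w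
      (Scheme.fromSpecStalk_closedPoint)
    have hb := Groth.Agent.Lib.H71GeomRedAt.bijective_stalkMap_snd (U.fromSpecStalk (s w)) s p
    rw [← hp2]
    exact isReduced_of_injective _ hb.injective

/-- Geometric reducedness at a point is invariant under etale morphisms of schemes over a field. -/
theorem isGeomReducedAt_iff_of_etale {k : Type u} [Field k] {W U : Scheme.{u}}
    (fU : U ⟶ Spec (CommRingCat.of k)) (s : W ⟶ U) [Etale s] (w : ↥W) :
    FBase.IsGeomReducedAt (s ≫ fU) w ↔ FBase.IsGeomReducedAt fU (s w) := by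
  have key : ∀ (K : Type u) [Field K] [Algebra k K],
      ∃ sK : FBase.bc (s ≫ fU) K ⟶ FBase.bc fU K,
        IsPullback (FBase.bcπ (s ≫ fU) K) sK s (FBase.bcπ fU K) := by
    intro K _ _
    let φ := Spec.map (CommRingCat.ofHom (algebraMap k K))
    have big : IsPullback (pullback.fst (s ≫ fU) φ) (pullback.snd (s ≫ fU) φ) (s ≫ fU) φ :=
      IsPullback.of_hasPullback _ _
    have right : IsPullback (pullback.fst fU φ) (pullback.snd fU φ) fU φ :=
      IsPullback.of_hasPullback _ _
    let sK : pullback (s ≫ fU) φ ⟶ pullback fU φ :=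
      pullback.lift (pullback.fst (s ≫ fU) φ ≫ s) (pullback.snd (s ≫ fU) φ)
        (by rw [Category.assoc, pullback.condition])
    have h1 : sK ≫ pullback.fst fU φ = pullback.fst (s ≫ fU) φ ≫ s := pullback.lift_fst _ _ _
    have h2 : sK ≫ pullback.snd fU φ = pullback.snd (s ≫ fU) φ := pullback.lift_snd _ _ _
    refine ⟨sK, ?_⟩
    have := IsPullback.of_right (h₁₁ := sK) (h₁₂ := pullback.snd fU φ) (h₂₁ := s) (h₂₂ := fU)
      (v₁₁ := pullback.fst (s ≫ fU) φ) (v₁₂ := pullback.fst fU φ) (v₁₃ := φ)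
      (by rw [h2]; exact big.flip) h1 right.flip
    exact this.flip
  constructor
  · intro h K _ _ u' hu'
    obtain ⟨sK, sq⟩ := key K
    haveI : Etale sK := MorphismProperty.of_isPullback (P := @Etale) sq inferInstance
    obtain ⟨z, hz1, hz2⟩ := Scheme.Pullback.exists_preimage_pullback (f := s)
      (g := FBase.bcπ fU K) w u' hu'.symm
    have e1 : FBase.bcπ (s ≫ fU) K (sq.isoPullback.inv z) = w := by
      rw [← Scheme.Hom.comp_apply, IsPullback.isoPullback_inv_fst]; exact hz1
    have e2 : sK (sq.isoPullback.inv z) = u' := by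
      rw [← Scheme.Hom.comp_apply, IsPullback.isoPullback_inv_snd]; exact hz2
    have := h K (sq.isoPullback.inv z) e1
    rw [← e2]
    exact (isReduced_stalk_iff_of_etale sK _).1 this
  · intro h K _ _ w' hw'
    obtain ⟨sK, sq⟩ := key K
    haveI : Etale sK := MorphismProperty.of_isPullback (P := @Etale) sq inferInstance
    have e : (FBase.bcπ fU K) (sK w') = s w := by
      rw [← Scheme.Hom.comp_apply, ← sq.w, Scheme.Hom.comp_apply]
      exact congrArg _ hw'
    exact (isReduced_stalk_iff_of_etale sK w').2 (h K (sK w') e)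

variable {S : Scheme.{u}}

set_option backward.isDefEq.respectTransparency false in
/-- Chart independence for properties of pointed schemes over `S` that are invariant under etale morphisms over `S`. -/
theorem chart_indep_over {Q : ∀ U : Over S, ↥U.left → Prop}
    (hQ : ∀ {W U : Over S} (s : W ⟶ U), Etale s.left → ∀ w : ↥W.left, Q W w ↔ Q U (s.left w))
    {X : Sp S} {U₁ U₂ : Over S} (a₁ : (yon S).obj U₁ ⟶ X) (a₂ : (yon S).obj U₂ ⟶ X)
    (h₁ : RepWith @Etale a₁) (h₂ : RepWith @Etale a₂) (u₁ : ↥U₁.left) (u₂ : ↥U₂.left)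
    (h : Points.ofPt a₁ u₁ = Points.ofPt a₂ u₂) : Q U₁ u₁ ↔ Q U₂ u₂ := by
  have sq := h₁.rep.isPullback' a₂
  obtain ⟨w, hw1, hw2⟩ :=
    Groth.Agent.Lib.H86CartierChart2.exists_scheme_point_of_isPullback sq u₁ u₂ h
  have e2 : Etale (h₁.rep.snd a₂).left := h₁.property_snd a₂
  have h3 : RepWith @Etale ((yon S).map (h₁.rep.fst' a₂)) :=
    Groth.Agent.Lib.AlgSpBasic.repWith_fst_of_isPullback @Etale sq h₂
  have e1 : Etale (h₁.rep.fst' a₂).left := (repWith_yon_map_iff _ _).1 h3
  rw [← hw1, ← hw2, ← hQ (h₁.rep.fst' a₂) e1 w, ← hQ (h₁.rep.snd a₂) e2 w]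

/-- "Some chart" is "every chart" for etale-invariant properties of pointed schemes over `S`. -/
theorem exists_chart_iff_forall_chart {Q : ∀ U : Over S, ↥U.left → Prop}
    (hQ : ∀ {W U : Over S} (s : W ⟶ U), Etale s.left → ∀ w : ↥W.left, Q W w ↔ Q U (s.left w))
    {X : Sp S} (hX : IsAlgSpace X) (x : Points X) :
    (∃ (U : Over S) (a : (yon S).obj U ⟶ X) (u : ↥U.left),
      RepWith @Etale a ∧ Points.ofPt a u = x ∧ Q U u) ↔
    ∀ (U : Over S) (a : (yon S).obj U ⟶ X) (u : ↥U.left),
      RepWith @Etale a → Points.ofPt a u = x → Q U u := by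
  constructor
  · rintro ⟨U₀, a₀, u₀, ha₀, hu₀, hQ₀⟩ U a u ha hu
    exact (chart_indep_over hQ a₀ a ha₀ ha u₀ u (hu₀.trans hu.symm)).1 hQ₀
  · intro h
    obtain ⟨V, b, hbe, hbs⟩ := hX.atlas
    obtain ⟨v, hv⟩ := Groth.Agent.Lib.AlgSpQC.surjective_ofPt_of_repWith_surjective hbs x
    exact ⟨V, b, v, hbe, hv, h V b v hbe hv⟩

/-- Etale morphisms preserve and reflect etale-invariant properties at points (chart form). -/
theorem exists_chart_iff_of_isEtaleMor {Q : ∀ U : Over S, ↥U.left → Prop}
    (hQ : ∀ {W U : Over S} (s : W ⟶ U), Etale s.left → ∀ w : ↥W.left, Q W w ↔ Q U (s.left w))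
    {X Y : Sp S} (hX : IsAlgSpace X) (f : X ⟶ Y) (hf : IsEtaleMor f) (x : Points X) :
    (∃ (U : Over S) (a : (yon S).obj U ⟶ X) (u : ↥U.left),
      RepWith @Etale a ∧ Points.ofPt a u = x ∧ Q U u) ↔
    (∃ (U : Over S) (a : (yon S).obj U ⟶ Y) (u : ↥U.left),
      RepWith @Etale a ∧ Points.ofPt a u = Points.map f x ∧ Q U u) := by
  constructor
  · rintro ⟨U, a, u, ha, hu, hQu⟩
    exact ⟨U, a ≫ f, u, hf a ha, by rw [← hu, Points.map_ofPt], hQu⟩
  · rintro ⟨V, b, v, hb, hv, hQv⟩
    obtain ⟨U, a, hae, has⟩ := hX.atlas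
    obtain ⟨u, hu⟩ := Groth.Agent.Lib.AlgSpQC.surjective_ofPt_of_repWith_surjective has x
    refine ⟨U, a, u, hae, hu, ?_⟩
    refine (chart_indep_over hQ (a ≫ f) b (hf a hae) hb u v ?_).2 hQv
    rw [hv, ← hu, Points.map_ofPt]

/-- Geometric reducedness at a point, as an etale-invariant property of pointed schemes over `Spec k`. -/
theorem isGeomReducedAt_over_iff {k : Type u} [Field k] {W U : Over (Spec (CommRingCat.of k))}
    (s : W ⟶ U) (hs : Etale s.left) (w : ↥W.left) :
    FBase.IsGeomReducedAt W.hom w ↔ FBase.IsGeomReducedAt U.hom (s.left w) := by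
  haveI := hs
  have := isGeomReducedAt_iff_of_etale U.hom s.left w
  rwa [Over.w s] at this

end Groth.Agent.Lib.H86ReducedAt
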