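import Groth.Agent.Lib.GeomRedBC91b
import Groth.Agent.Lib.H86ReducedAt
import Groth.Agent.Lib.AlgSpQC

/-!
# Geometric reducedness of algebraic spaces over a field via base changes (helper91)
-/

set_option autoImplicit false
set_option maxHeartbeats 400000
universe u

open CategoryTheory CategoryTheory.Limits AlgebraicGeometry Opposite

namespace Groth.Agent.Lib.GeomRedBC91c

open AlgSp Groth.Agent.Lib.GeomRedBC91a Groth.Agent.Lib.GeomRedBC91b

variable {k : Type u} [Field k]

/-- A `k`-scheme is geometrically reduced at all its points iff all its base changes to extension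
fields are reduced. -/
theorem forall_isGeomReducedAt_iff {U : Scheme.{u}} (f : U ⟶ Spec (CommRingCat.of k)) :
    (∀ u : U, FBase.IsGeomReducedAt f u) ↔
      ∀ (K : Type u) [Field K] [Algebra k K],
        IsReduced (pullback f (Spec.map (CommRingCat.ofHom (algebraMap k K)))) := by
  constructor
  · intro h K _ _
    have : ∀ x' : ↥(FBase.bc f K), _root_.IsReduced ((FBase.bc f K).presheaf.stalk x') :=
      fun x' => h _ K x' rfl
    exact isReduced_of_isReduced_stalk (X := FBase.bc f K)
  · intro h u K _ _ x' _
    haveI : IsReduced (FBase.bc f K) := h K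
    infer_instance

/-- `X` is geometrically reduced (at every point, on etale charts) iff every base change `X_K` is
reduced. -/
theorem geomReduced_iff_forall_bc {X : Sp (Spec (CommRingCat.of k))} (hX : IsAlgSpace X) :
    (∀ x : Points X, ∃ (U : Over (Spec (CommRingCat.of k)))
      (a : (yon (Spec (CommRingCat.of k))).obj U ⟶ X) (u : ↥U.left),
      RepWith @Etale a ∧ Points.ofPt a u = x ∧ FBase.IsGeomReducedAt U.hom u) ↔
    ∀ (K : Type u) [Field K] [Algebra k K], IsReducedSp (X ⨯ (yon (Spec (CommRingCat.of k))).obj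
      (Over.mk (Spec.map (CommRingCat.ofHom (algebraMap k K))))) := by
  obtain ⟨U, p, hpe, hps⟩ := hX.atlas
  have hQ : ∀ {W U : Over (Spec (CommRingCat.of k))} (s : W ⟶ U), Etale s.left → ∀ w : ↥W.left,
      FBase.IsGeomReducedAt W.hom w ↔ FBase.IsGeomReducedAt U.hom (s.left w) :=
    fun s hs w => Groth.Agent.Lib.H86ReducedAt.isGeomReducedAt_over_iff s hs w
  constructor
  · intro h K _ _
    rw [isReducedSp_prod_iff p hpe hps]
    refine (forall_isGeomReducedAt_iff U.hom).1 (fun u => ?_) K
    exact (Groth.Agent.Lib.H86ReducedAt.exists_chart_iff_forall_chart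
      (Q := fun U u => FBase.IsGeomReducedAt U.hom u) hQ hX (Points.ofPt p u)).1
      (h _) U p u hpe rfl
  · intro h x
    obtain ⟨u, hu⟩ := Groth.Agent.Lib.AlgSpQC.surjective_ofPt_of_repWith_surjective hps x
    refine ⟨U, p, u, hpe, hu, ?_⟩
    refine (forall_isGeomReducedAt_iff U.hom).2 (fun K _ _ => ?_) u
    exact (isReducedSp_prod_iff p hpe hps _).1 (h K)

end Groth.Agent.Lib.GeomRedBC91c
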