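import Groth.Agent.Lib.GeomRedBC91c
import Groth.Agent.Lib.H71GeomRedAt5
import Groth.Agent.Lib.AlgSpPoints
import Groth.Agent.Lib.H86AlgSpPoints
import Groth.Agent.Lib.H86CartierChart2
import Groth.Agent.Lib.H86Coprod

/-!
# Geometric reducedness at a point and base field extension, for algebraic spaces (helper91)
-/

set_option autoImplicit false
set_option maxHeartbeats 400000
universe u

open CategoryTheory CategoryTheory.Limits AlgebraicGeometry Opposite

namespace Groth.Agent.Lib.GeomRedBC91d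

open AlgSp

variable {S : Scheme.{u}}

/-- The chart `h_{U ⨯ K} ⟶ X ⨯ h_K` induced by a chart `a : h_U ⟶ X`. -/
noncomputable def prodChart {X : Sp S} {U : Over S} (a : (yon S).obj U ⟶ X) (K : Over S) :
    (yon S).obj (U ⨯ K) ⟶ X ⨯ (yon S).obj K :=
  prodComparison (yon S) U K ≫ prod.map a (𝟙 _)

theorem prodChart_fst {X : Sp S} {U : Over S} (a : (yon S).obj U ⟶ X) (K : Over S) :
    prodChart a K ≫ prod.fst = (yon S).map prod.fst ≫ a := by
  simp [prodChart, prodComparison_fst_assoc]

theorem prodChart_snd {X : Sp S} {U : Over S} (a : (yon S).obj U ⟶ X) (K : Over S) :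
    prodChart a K ≫ prod.snd = (yon S).map prod.snd := by
  simp [prodChart, prodComparison_snd]

theorem isPullback_prodChart {X : Sp S} {U : Over S} (a : (yon S).obj U ⟶ X) (K : Over S) :
    IsPullback (prodChart a K) ((yon S).map prod.fst) (prod.fst : X ⨯ (yon S).obj K ⟶ X) a := by
  have sq := Groth.Agent.Lib.RepBySp91.isPullback_prod_map_left a ((yon S).obj K)
  have h : IsPullback (prodComparison (yon S) U K) ((yon S).map prod.fst)
      (prod.fst : (yon S).obj U ⨯ (yon S).obj K ⟶ (yon S).obj U) (𝟙 _) :=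
    IsPullback.of_horiz_isIso ⟨by rw [prodComparison_fst, Category.comp_id]⟩
  have := h.paste_horiz sq
  rwa [Category.id_comp] at this

theorem repWith_etale_prodChart {X : Sp S} {U : Over S} (a : (yon S).obj U ⟶ X)
    (ha : RepWith @Etale a) (K : Over S) : RepWith @Etale (prodChart a K) :=
  (RepWith (S := S) @Etale).of_isPullback (isPullback_prodChart a K).flip ha

theorem repWith_surjective_prodChart {X : Sp S} {U : Over S} (a : (yon S).obj U ⟶ X)
    (ha : RepWith @Surjective a) (K : Over S) : RepWith @Surjective (prodChart a K) :=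
  (RepWith (S := S) @Surjective).of_isPullback (isPullback_prodChart a K).flip ha

/-- Lifting a point of `X ⨯ h_K` and a compatible point of a chart `U` to the chart `U ⨯ K`. -/
theorem exists_point_prodChart {X : Sp S} {U : Over S} (a : (yon S).obj U ⟶ X) (K : Over S)
    (u : ↥U.left) (x' : Points (X ⨯ (yon S).obj K))
    (h : Points.map (prod.fst : X ⨯ (yon S).obj K ⟶ X) x' = Points.ofPt a u) :
    ∃ u' : ↥(U ⨯ K).left, Points.ofPt (prodChart a K) u' = x' ∧
      (prod.fst : U ⨯ K ⟶ U).left u' = u := by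
  rw [Points.ofPt_eq_map_ofScheme] at h
  obtain ⟨P, hP1, hP2⟩ := Groth.Agent.Lib.AlgSpPoints.exists_point_of_isPullback
    (isPullback_prodChart a K) x' (Points.ofScheme U u) h
  refine ⟨Points.toScheme (U ⨯ K) P, ?_, ?_⟩
  · rw [Points.ofPt_eq_map_ofScheme, Points.ofScheme_toScheme, hP1]
  · apply (Points.schemeEquiv U).injective
    change Points.ofScheme U _ = Points.ofScheme U u
    rw [← hP2, ← Groth.Agent.Lib.H86AlgSpPoints.ofPt_yon_map, Points.ofPt_eq_map_ofScheme,
      Points.ofScheme_toScheme]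

/-! ### Scheme level -/

section SchemeLevel

variable {k : Type u} [Field k]

theorem isGeomReducedAt_snd_of {U₀ : Scheme.{u}} (f : U₀ ⟶ Spec (CommRingCat.of k))
    (K : Type u) [Field K] [Algebra k K] (u : U₀)
    (u' : ↥(pullback f (Spec.map (CommRingCat.ofHom (algebraMap k K)))))
    (hu : pullback.fst f (Spec.map (CommRingCat.ofHom (algebraMap k K))) u' = u)
    (h : FBase.IsGeomReducedAt f u) :
    FBase.IsGeomReducedAt (pullback.snd f (Spec.map (CommRingCat.ofHom (algebraMap k K)))) u' := by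
  letI : U₀.Over (Spec (CommRingCat.of k)) := ⟨f⟩
  exact Groth.Agent.Lib.H71GeomRedAt.isGeomReducedAt_bc_of_isGeomReducedAt k U₀ K u u' hu h

theorem isGeomReducedAt_of_snd {U₀ : Scheme.{u}} (f : U₀ ⟶ Spec (CommRingCat.of k))
    (K : Type u) [Field K] [Algebra k K] (u : U₀)
    (u' : ↥(pullback f (Spec.map (CommRingCat.ofHom (algebraMap k K)))))
    (hu : pullback.fst f (Spec.map (CommRingCat.ofHom (algebraMap k K))) u' = u)
    (h : FBase.IsGeomReducedAt
      (pullback.snd f (Spec.map (CommRingCat.ofHom (algebraMap k K)))) u') :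
    FBase.IsGeomReducedAt f u := by
  letI : U₀.Over (Spec (CommRingCat.of k)) := ⟨f⟩
  exact Groth.Agent.Lib.H71GeomRedAt.isGeomReducedAt_of_isGeomReducedAt_bc k U₀ K u u' hu h

/-- On the chart `U ⨯ K`: geometric reducedness over `K` at `u'` iff geometric reducedness of `U` over
`k` at the image of `u'`. -/
theorem isGeomReducedAt_prod_snd_iff (K : Type u) [Field K] [Algebra k K]
    (U : Over (Spec (CommRingCat.of k)))
    (u' : ↥(U ⨯ Over.mk (Spec.map (CommRingCat.ofHom (algebraMap k K)))).left) :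
    FBase.IsGeomReducedAt
        (prod.snd : U ⨯ Over.mk (Spec.map (CommRingCat.ofHom (algebraMap k K))) ⟶ _).left u' ↔
      FBase.IsGeomReducedAt U.hom
        ((prod.fst : U ⨯ Over.mk (Spec.map (CommRingCat.ofHom (algebraMap k K))) ⟶ U).left u') := by
  let Kobj : Over (Spec (CommRingCat.of k)) :=
    Over.mk (Spec.map (CommRingCat.ofHom (algebraMap k K)))
  let e := Over.prodLeftIsoPullback U Kobj
  have h1 : (prod.snd : U ⨯ Kobj ⟶ Kobj).left = e.hom ≫ pullback.snd U.hom Kobj.hom :=
    (Over.prodLeftIsoPullback_hom_snd U Kobj).symm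
  have h2 : (prod.fst : U ⨯ Kobj ⟶ U).left = e.hom ≫ pullback.fst U.hom Kobj.hom :=
    (Over.prodLeftIsoPullback_hom_fst U Kobj).symm
  have hfst : pullback.fst U.hom Kobj.hom (e.hom u') = (prod.fst : U ⨯ Kobj ⟶ U).left u' := by
    rw [h2, Scheme.Hom.comp_apply]
  have step : FBase.IsGeomReducedAt (prod.snd : U ⨯ Kobj ⟶ Kobj).left u' ↔
      FBase.IsGeomReducedAt (pullback.snd U.hom Kobj.hom) (e.hom u') := by
    rw [h1]
    exact Groth.Agent.Lib.H86ReducedAt.isGeomReducedAt_iff_of_etale
      (pullback.snd U.hom Kobj.hom) e.hom u'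
  rw [step]
  exact ⟨fun h => isGeomReducedAt_of_snd U.hom K _ (e.hom u') hfst h,
    fun h => isGeomReducedAt_snd_of U.hom K _ (e.hom u') hfst h⟩

end SchemeLevel

/-! ### Chart independence relative to `K` -/

section Rel

variable {k : Type u} [Field k]

set_option backward.isDefEq.respectTransparency false in
theorem chart_indep_rel (K : Type u) [Field K] [Algebra k K]
    {X' : Sp (Spec (CommRingCat.of k))}
    (π : X' ⟶ (yon (Spec (CommRingCat.of k))).obj
      (Over.mk (Spec.map (CommRingCat.ofHom (algebraMap k K)))))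
    {U₁ U₂ : Over (Spec (CommRingCat.of k))}
    (a₁ : (yon _).obj U₁ ⟶ X') (a₂ : (yon _).obj U₂ ⟶ X')
    (q₁ : U₁ ⟶ Over.mk (Spec.map (CommRingCat.ofHom (algebraMap k K))))
    (q₂ : U₂ ⟶ Over.mk (Spec.map (CommRingCat.ofHom (algebraMap k K))))
    (hq₁ : a₁ ≫ π = (yon _).map q₁) (hq₂ : a₂ ≫ π = (yon _).map q₂)
    (h₁ : RepWith @Etale a₁) (h₂ : RepWith @Etale a₂) (u₁ : ↥U₁.left) (u₂ : ↥U₂.left)
    (h : Points.ofPt a₁ u₁ = Points.ofPt a₂ u₂) :
    FBase.IsGeomReducedAt q₁.left u₁ ↔ FBase.IsGeomReducedAt q₂.left u₂ := by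
  have sq := h₁.rep.isPullback' a₂
  obtain ⟨w, hw1, hw2⟩ :=
    Groth.Agent.Lib.H86CartierChart2.exists_scheme_point_of_isPullback sq u₁ u₂ h
  have e2 : Etale (h₁.rep.snd a₂).left := h₁.property_snd a₂
  have h3 : RepWith @Etale ((yon _).map (h₁.rep.fst' a₂)) :=
    Groth.Agent.Lib.AlgSpBasic.repWith_fst_of_isPullback @Etale sq h₂
  have e1 : Etale (h₁.rep.fst' a₂).left := (repWith_yon_map_iff _ _).1 h3
  have hq : h₁.rep.fst' a₂ ≫ q₁ = h₁.rep.snd a₂ ≫ q₂ := by
    apply (yon (Spec (CommRingCat.of k))).map_injective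
    rw [Functor.map_comp, Functor.map_comp, ← hq₁, ← hq₂, ← Category.assoc, ← Category.assoc, sq.w]
  have hql : (h₁.rep.fst' a₂).left ≫ q₁.left = (h₁.rep.snd a₂).left ≫ q₂.left := by
    rw [← Over.comp_left, ← Over.comp_left, hq]
  rw [← hw1, ← hw2,
    ← Groth.Agent.Lib.H86ReducedAt.isGeomReducedAt_iff_of_etale q₁.left (h₁.rep.fst' a₂).left w,
    ← Groth.Agent.Lib.H86ReducedAt.isGeomReducedAt_iff_of_etale q₂.left (h₁.rep.snd a₂).left w,
    hql]

/-- **Geometric reducedness at a point is invariant under extension of the base field** (algebraic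
spaces over a field). -/
theorem geomReducedAt_iff_bc (K : Type u) [Field K] [Algebra k K]
    {X : Sp (Spec (CommRingCat.of k))} (hX : IsAlgSpace X) (x : Points X)
    (x' : Points (X ⨯ (yon (Spec (CommRingCat.of k))).obj
      (Over.mk (Spec.map (CommRingCat.ofHom (algebraMap k K))))))
    (hx' : Points.map (prod.fst : X ⨯ (yon (Spec (CommRingCat.of k))).obj
      (Over.mk (Spec.map (CommRingCat.ofHom (algebraMap k K)))) ⟶ X) x' = x) :
    (∃ (U : Over (Spec (CommRingCat.of k))) (a : (yon (Spec (CommRingCat.of k))).obj U ⟶ X)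
      (u : ↥U.left), RepWith @Etale a ∧ Points.ofPt a u = x ∧ FBase.IsGeomReducedAt U.hom u) ↔
    ∃ (U' : Over (Spec (CommRingCat.of k)))
      (a' : (yon (Spec (CommRingCat.of k))).obj U' ⟶ X ⨯ (yon (Spec (CommRingCat.of k))).obj
        (Over.mk (Spec.map (CommRingCat.ofHom (algebraMap k K)))))
      (q : U' ⟶ Over.mk (Spec.map (CommRingCat.ofHom (algebraMap k K)))) (u' : ↥U'.left),
      RepWith @Etale a' ∧ a' ≫ prod.snd = (yon (Spec (CommRingCat.of k))).map q ∧
        Points.ofPt a' u' = x' ∧ FBase.IsGeomReducedAt q.left u' := by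
  constructor
  · rintro ⟨U, a, u, hae, hu, hred⟩
    obtain ⟨u', hu'1, hu'2⟩ := exists_point_prodChart a
      (Over.mk (Spec.map (CommRingCat.ofHom (algebraMap k K)))) u x' (by rw [hx', hu])
    refine ⟨U ⨯ Over.mk (Spec.map (CommRingCat.ofHom (algebraMap k K))), prodChart a _, prod.snd,
      u', repWith_etale_prodChart a hae _, prodChart_snd a _, hu'1, ?_⟩
    refine (isGeomReducedAt_prod_snd_iff K U u').2 ?_
    rw [hu'2]
    exact hred
  · rintro ⟨U', a', q, u', hae', hq, hu', hred'⟩
    obtain ⟨U, p, hpe, hps⟩ := hX.atlas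
    obtain ⟨u, hu⟩ := Groth.Agent.Lib.AlgSpQC.surjective_ofPt_of_repWith_surjective hps x
    obtain ⟨u'', h1, h2⟩ := exists_point_prodChart p
      (Over.mk (Spec.map (CommRingCat.ofHom (algebraMap k K)))) u x' (by rw [hx', hu])
    have hci := chart_indep_rel K prod.snd a' (prodChart p _) q prod.snd hq (prodChart_snd p _)
      hae' (repWith_etale_prodChart p hpe _) u' u'' (hu'.trans h1.symm)
    have h3 := (isGeomReducedAt_prod_snd_iff K U u'').1 (hci.1 hred')
    rw [h2] at h3
    exact ⟨U, p, u, hpe, hu, h3⟩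

/-- `|X_K| ⟶ |X|` is surjective. -/
theorem surjective_map_prod_fst (K : Type u) [Field K] [Algebra k K]
    (X : Sp (Spec (CommRingCat.of k))) :
    Function.Surjective (Points.map (prod.fst : X ⨯ (yon (Spec (CommRingCat.of k))).obj
      (Over.mk (Spec.map (CommRingCat.ofHom (algebraMap k K)))) ⟶ X)) := by
  intro x
  have t := Groth.Agent.Lib.H86Coprod.isTerminalYonOne (Spec (CommRingCat.of k))
  have sq : IsPullback (prod.fst : X ⨯ (yon (Spec (CommRingCat.of k))).obj
      (Over.mk (Spec.map (CommRingCat.ofHom (algebraMap k K)))) ⟶ X) prod.snd (t.from X)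
      (t.from _) := IsPullback.of_is_product (limit.isLimit _) t
  let z : Points ((yon (Spec (CommRingCat.of k))).obj
      (Over.mk (Spec.map (CommRingCat.ofHom (algebraMap k K))))) :=
    Points.ofScheme _ (IsLocalRing.closedPoint K)
  have hcompat : Points.map (t.from X) x = Points.map (t.from _) z := by
    apply (Points.schemeEquiv (Groth.Agent.Lib.H86Coprod.one (Spec (CommRingCat.of k)))).symm.injective
    exact Subsingleton.elim (α := ↥(Spec (CommRingCat.of k))) _ _
  obtain ⟨P, hP1, -⟩ :=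
    Groth.Agent.Lib.AlgSpPoints.exists_point_of_isPullback sq x z hcompat
  exact ⟨P, hP1⟩

/-- `X` is geometrically reduced over `k` iff `X_K` is geometrically reduced over `K`. -/
theorem geomReduced_iff_bc (K : Type u) [Field K] [Algebra k K]
    {X : Sp (Spec (CommRingCat.of k))} (hX : IsAlgSpace X) :
    (∀ x : Points X, ∃ (U : Over (Spec (CommRingCat.of k)))
      (a : (yon (Spec (CommRingCat.of k))).obj U ⟶ X)
      (u : ↥U.left), RepWith @Etale a ∧ Points.ofPt a u = x ∧ FBase.IsGeomReducedAt U.hom u) ↔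
    ∀ x' : Points (X ⨯ (yon (Spec (CommRingCat.of k))).obj
      (Over.mk (Spec.map (CommRingCat.ofHom (algebraMap k K))))),
      ∃ (U' : Over (Spec (CommRingCat.of k)))
      (a' : (yon (Spec (CommRingCat.of k))).obj U' ⟶ X ⨯ (yon (Spec (CommRingCat.of k))).obj
        (Over.mk (Spec.map (CommRingCat.ofHom (algebraMap k K)))))
      (q : U' ⟶ Over.mk (Spec.map (CommRingCat.ofHom (algebraMap k K)))) (u' : ↥U'.left),
      RepWith @Etale a' ∧ a' ≫ prod.snd = (yon (Spec (CommRingCat.of k))).map q ∧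
        Points.ofPt a' u' = x' ∧ FBase.IsGeomReducedAt q.left u' := by
  constructor
  · intro h x'
    exact (geomReducedAt_iff_bc K hX _ x' rfl).1 (h _)
  · intro h x
    obtain ⟨x', hx'⟩ := surjective_map_prod_fst K X x
    exact (geomReducedAt_iff_bc K hX x x' hx').2 (h x')

end Rel

end Groth.Agent.Lib.GeomRedBC91d
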