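import Groth.Agent.Lib.H69AlgSpReduced
import Groth.Agent.Lib.AlgSpBasic
import Groth.Agent.Lib.AlgSpFibre
import Groth.Agent.Lib.AlgSpPoints
import Groth.Agent.Lib.AlgStLocQ8
import Groth.Agent.Lib.H80DecentPt

/-!
# Geometric reducedness of a fibre of a morphism of algebraic spaces does not depend on the
representative of the point (helper91)
-/

set_option autoImplicit false
set_option maxHeartbeats 400000
universe u

open CategoryTheory CategoryTheory.Limits AlgebraicGeometry Opposite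

namespace Groth.Agent.Lib.GeomRedFibre91

open AlgSp Groth.Agent.Lib.H80DecentPt

variable {S : Scheme.{u}}

/-- Reducedness of the fibre descends along a flat surjective change of the test scheme. -/
theorem isReducedSp_fibre_of_flat_surjective {X Y : Sp S} (hX : IsAlgSpace X) (hY : IsAlgSpace Y)
    (f : X ⟶ Y) {T₁ T₂ : Over S} (m : T₂ ⟶ T₁) (hfl : Flat m.left) (hsu : Surjective m.left)
    (g₁ : (yon S).obj T₁ ⟶ Y) {P₁ P₂ : Sp S} {a₁ : P₁ ⟶ X} {b₁ : P₁ ⟶ (yon S).obj T₁}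
    (sq₁ : IsPullback a₁ b₁ f g₁) {a₂ : P₂ ⟶ X} {b₂ : P₂ ⟶ (yon S).obj T₂}
    (sq₂ : IsPullback a₂ b₂ f ((yon S).map m ≫ g₁)) (h : IsReducedSp P₂) : IsReducedSp P₁ := by
  obtain ⟨c, hc1, hc2⟩ : ∃ c : P₂ ⟶ P₁, c ≫ a₁ = a₂ ∧ c ≫ b₁ = b₂ ≫ (yon S).map m :=
    ⟨sq₁.lift a₂ (b₂ ≫ (yon S).map m) (by rw [sq₂.w, Category.assoc]), sq₁.lift_fst _ _ _,
      sq₁.lift_snd _ _ _⟩
  have left : IsPullback c b₂ b₁ ((yon S).map m) := by
    refine IsPullback.of_right ?_ hc2 sq₁
    rw [hc1]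
    exact sq₂
  have hP₁ : IsAlgSpace P₁ :=
    Groth.Agent.Lib.AlgSpFibre.isAlgSpace_of_isPullback hY.diag hX (IsAlgSpace.yon_obj T₁) sq₁
  have hP₂ : IsAlgSpace P₂ :=
    Groth.Agent.Lib.AlgSpFibre.isAlgSpace_of_isPullback hY.diag hX (IsAlgSpace.yon_obj T₂) sq₂
  have hrep : RepWith @Flat c :=
    (RepWith (S := S) @Flat).of_isPullback left.flip ((repWith_yon_map_iff _ m).2 hfl)
  have hloc : LocP @Flat c :=
    Groth.Agent.Lib.AlgSpBasic.locP_of_repWith @Flat
      (fun _ _ _ l w hl hw => by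
        have : Etale l := hl
        have : Flat w := hw
        exact (inferInstance : Flat (l ≫ w)))
      (fun _ a => hP₂.representable_from_yon a) hrep
  have hsurj : IsSurjectiveMor c :=
    Groth.Agent.Lib.AlgSpPoints.isSurjectiveMor_of_isPullback left.flip
      (Groth.Agent.Lib.AlgStLocQ.isSurjectiveMor_yon_map m hsu.surj)
  exact Groth.Agent.Lib.H69AlgSpReduced.isReducedSp_of_flat_surjective hP₁ c hloc hsurj h

/-- `Spec` of a homomorphism of fields is flat and surjective. -/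
theorem flat_surjective_specMap_field {K L : Type u} [Field K] [Field L] (i : K →+* L) :
    Flat (Spec.map (CommRingCat.ofHom i)) ∧ Surjective (Spec.map (CommRingCat.ofHom i)) := by
  refine (AlgebraicGeometry.flat_and_surjective_SpecMap_iff (CommRingCat.ofHom i)).2 ?_
  letI := i.toAlgebra
  have : (CommRingCat.ofHom i).hom = algebraMap K L := rfl
  rw [this, RingHom.faithfullyFlat_algebraMap_iff]
  infer_instance

/-- The fibre of `f` over the field point `k` is geometrically reduced. -/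
def GR {X Y : Sp S} (f : X ⟶ Y) (k : FieldPt Y) : Prop :=
  ∀ (k' : Type u) [Field k'] (φ : k.K →+* k') (Xk' : Sp S) (a : Xk' ⟶ X)
    (b : Xk' ⟶ (yon S).obj (Over.mk (Spec.map (CommRingCat.ofHom φ) ≫ k.str))),
    IsPullback a b f ((yon S).map (Over.homMk (Spec.map (CommRingCat.ofHom φ)) rfl :
      Over.mk (Spec.map (CommRingCat.ofHom φ) ≫ k.str) ⟶ k.pt) ≫ k.toHom) →
    EtaleLocally (fun U => IsReduced U) Xk'

/-- The fibre of `f` over the field point `k` is reduced. -/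
def R {X Y : Sp S} (f : X ⟶ Y) (k : FieldPt Y) : Prop :=
  ∀ (Xk : Sp S) (a : Xk ⟶ X) (b : Xk ⟶ (yon S).obj k.pt), IsPullback a b f k.toHom →
    EtaleLocally (fun U => IsReduced U) Xk

theorem r_of_gr {X Y : Sp S} (hX : IsAlgSpace X) (hY : IsAlgSpace Y) (f : X ⟶ Y) (k : FieldPt Y)
    (h : GR f k) : R f k := by
  intro Xk a b sq
  obtain ⟨hfl, hsu⟩ := flat_surjective_specMap_field (RingHom.id k.K)
  let m : Over.mk (Spec.map (CommRingCat.ofHom (RingHom.id k.K)) ≫ k.str) ⟶ k.pt :=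
    Over.homMk (Spec.map (CommRingCat.ofHom (RingHom.id k.K))) rfl
  have h2 := h k.K (RingHom.id k.K) (pullback f ((yon S).map m ≫ k.toHom)) (pullback.fst _ _)
    (pullback.snd _ _) (IsPullback.of_hasPullback _ _)
  exact isReducedSp_fibre_of_flat_surjective hX hY f m hfl hsu k.toHom sq
    (IsPullback.of_hasPullback _ _) h2

theorem gr_of_forall_r {X Y : Sp S} (f : X ⟶ Y) (y : Points Y)
    (h : ∀ k : FieldPt Y, Points.mk k = y → R f k) (k : FieldPt Y) (hk : Points.mk k = y) :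
    GR f k := by
  intro k' _ φ Xk' a b sq
  let m : Over.mk (Spec.map (CommRingCat.ofHom φ) ≫ k.str) ⟶ k.pt :=
    Over.homMk (Spec.map (CommRingCat.ofHom φ)) rfl
  let k'' : FieldPt Y := ofHom (Spec.map (CommRingCat.ofHom φ) ≫ k.str) ((yon S).map m ≫ k.toHom)
  have ht : k''.toHom = (yon S).map m ≫ k.toHom := toHom_ofHom _ _
  have hk'' : Points.mk k'' = y := by
    rw [← hk]
    exact mk_eq_of_toHom_eq k k'' m ht
  refine h k'' hk'' Xk' a b ?_
  rw [ht]
  exact sq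

theorem gr_of_mk_eq {X Y : Sp S} (hX : IsAlgSpace X) (hY : IsAlgSpace Y) (f : X ⟶ Y)
    (k₁ k₂ : FieldPt Y) (h : Points.mk k₁ = Points.mk k₂) (h₁ : GR f k₁) : GR f k₂ := by
  intro k' _ φ Xk' a b sq
  obtain ⟨Ω, _, w, α, β, hαβ⟩ := (rel_iff_toHom k₁ k₂).1 (Points.mk_eq_mk_iff.1 h)
  obtain ⟨Ω', _, i₁, i₂, hi⟩ :=
    FieldPt.exists_amalgamation (Spec.preimage β.left).hom φ
  -- the extension of `k₁.K`
  let φ₁ : k₁.K →+* Ω' := i₁.comp (Spec.preimage α.left).hom
  have hα : Spec.map (CommRingCat.ofHom φ₁) = Spec.map (CommRingCat.ofHom i₁) ≫ α.left := by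
    conv_rhs => rw [← Spec.map_preimage α.left]
    rw [← Spec.map_comp]
    rfl
  have hβ : Spec.map (CommRingCat.ofHom i₂) ≫ Spec.map (CommRingCat.ofHom φ) =
      Spec.map (CommRingCat.ofHom i₁) ≫ β.left := by
    conv_rhs => rw [← Spec.map_preimage β.left]
    rw [← Spec.map_comp, ← Spec.map_comp]
    congr 1
    exact CommRingCat.hom_ext hi.symm
  have hwα : α.left ≫ k₁.str = w := Over.w α
  have hwβ : β.left ≫ k₂.str = w := Over.w β
  -- the Over-morphisms
  let d : Over.mk (Spec.map (CommRingCat.ofHom φ₁) ≫ k₁.str) ⟶ Over.mk w :=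
    Over.homMk (Spec.map (CommRingCat.ofHom i₁)) (by
      change Spec.map (CommRingCat.ofHom i₁) ≫ w = Spec.map (CommRingCat.ofHom φ₁) ≫ k₁.str
      rw [hα, Category.assoc, hwα])
  let n : Over.mk (Spec.map (CommRingCat.ofHom φ₁) ≫ k₁.str) ⟶
      Over.mk (Spec.map (CommRingCat.ofHom φ) ≫ k₂.str) :=
    Over.homMk (Spec.map (CommRingCat.ofHom i₂)) (by
      change Spec.map (CommRingCat.ofHom i₂) ≫ Spec.map (CommRingCat.ofHom φ) ≫ k₂.str =
        Spec.map (CommRingCat.ofHom φ₁) ≫ k₁.str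
      rw [← Category.assoc, hβ, Category.assoc, hwβ, hα, Category.assoc, hwα])
  let m₁ : Over.mk (Spec.map (CommRingCat.ofHom φ₁) ≫ k₁.str) ⟶ k₁.pt :=
    Over.homMk (Spec.map (CommRingCat.ofHom φ₁)) rfl
  let m₂ : Over.mk (Spec.map (CommRingCat.ofHom φ) ≫ k₂.str) ⟶ k₂.pt :=
    Over.homMk (Spec.map (CommRingCat.ofHom φ)) rfl
  have e1 : m₁ = d ≫ α := Over.OverMorphism.ext (by simpa [m₁, d] using hα)
  have e2 : n ≫ m₂ = d ≫ β := Over.OverMorphism.ext (by simpa [n, m₂, d] using hβ)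
  have hg : (yon S).map n ≫ ((yon S).map m₂ ≫ k₂.toHom) = (yon S).map m₁ ≫ k₁.toHom := by
    rw [← Category.assoc, ← Functor.map_comp, e2, e1, Functor.map_comp, Functor.map_comp,
      Category.assoc, Category.assoc, hαβ]
  have h2 := h₁ Ω' φ₁ (pullback f ((yon S).map m₁ ≫ k₁.toHom)) (pullback.fst _ _)
    (pullback.snd _ _) (IsPullback.of_hasPullback _ _)
  obtain ⟨hfl, hsu⟩ := flat_surjective_specMap_field i₂
  have sq₂ : IsPullback (pullback.fst f ((yon S).map m₁ ≫ k₁.toHom))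
      (pullback.snd f ((yon S).map m₁ ≫ k₁.toHom)) f
      ((yon S).map n ≫ ((yon S).map m₂ ≫ k₂.toHom)) := by
    rw [hg]
    exact IsPullback.of_hasPullback _ _
  exact isReducedSp_fibre_of_flat_surjective hX hY f n hfl hsu ((yon S).map m₂ ≫ k₂.toHom) sq sq₂ h2

end Groth.Agent.Lib.GeomRedFibre91
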