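import Groth.Agent.Lib.LocConst5E

/-!
# Openness of the geometrically reduced locus, part A (helper5): reducedness over a DVR

* `isReduced_atPrime_of_le`: reducedness passes from `B_{q₀}` to `B_q` for `q ≤ q₀`;
* `isReduced_stalk_of_specializes`: reducedness of stalks of a scheme generizes;
* `isReduced_of_isReduced_closedFibre`: a flat scheme locally of finite type over a discrete
  valuation ring whose structure map is closed (e.g. proper) and whose closed fibre is reduced, is
  reduced.
-/

set_option autoImplicit false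
set_option linter.style.haveILetI false
set_option linter.unusedSectionVars false
universe u

open CategoryTheory CategoryTheory.Limits AlgebraicGeometry TopologicalSpace Opposite IsLocalRing
  Topology

namespace Groth.Agent.Lib.GeomRedOpen5

open Groth.Agent.Lib.H47DvrFibre Groth.Agent.Lib.H80DvrOpenFlat

section Algebra

/-- Reducedness passes from the localization at a prime `q₀` to the localization at a smaller
prime `q`. -/
theorem isReduced_atPrime_of_le {B : Type*} [CommRing B] (q q₀ : Ideal B) [q.IsPrime]
    [q₀.IsPrime] (hle : q ≤ q₀) (S S₀ : Type*) [CommRing S] [Algebra B S]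
    [IsLocalization.AtPrime S q] [CommRing S₀] [Algebra B S₀] [IsLocalization.AtPrime S₀ q₀]
    [_root_.IsReduced S₀] : _root_.IsReduced S := by
  constructor
  intro a ha
  obtain ⟨b, s, rfl⟩ := IsLocalization.exists_mk'_eq q.primeCompl a
  have hb : IsNilpotent (algebraMap B S b) := by
    rw [← IsLocalization.mk'_spec S b s]
    exact Commute.isNilpotent_mul_right (Commute.all _ _) ha
  obtain ⟨n, hn⟩ := hb
  rw [← map_pow, IsLocalization.map_eq_zero_iff q.primeCompl] at hn
  obtain ⟨u, hu⟩ := hn
  have h0 : IsNilpotent (algebraMap B S₀ ((u : B) * b)) := by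
    refine ⟨n + 1, ?_⟩
    rw [← map_pow]
    have : ((u : B) * b) ^ (n + 1) = (u : B) ^ n * b * ((u : B) * b ^ n) := by ring
    rw [this, hu, mul_zero, map_zero]
  have h1 : algebraMap B S₀ ((u : B) * b) = 0 := IsReduced.eq_zero _ h0
  rw [IsLocalization.map_eq_zero_iff q₀.primeCompl] at h1
  obtain ⟨v, hv⟩ := h1
  have hvq : (v : B) ∈ q.primeCompl := fun hmem => v.2 (hle hmem)
  have hunit : IsUnit (algebraMap B S ((v : B) * (u : B))) := by
    rw [map_mul]
    exact (IsLocalization.map_units S (⟨v, hvq⟩ : q.primeCompl)).mul (IsLocalization.map_units S u)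
  have hzero : algebraMap B S ((v : B) * (u : B)) * algebraMap B S b = 0 := by
    rw [← map_mul, mul_assoc, hv, map_zero]
  have hb0 : algebraMap B S b = 0 := (hunit.mul_right_eq_zero).mp hzero
  rw [← IsLocalization.mk'_spec S b s, ] at hb0
  exact ((IsLocalization.map_units S s).mul_left_eq_zero).mp hb0

end Algebra

section Stalk

variable {X : Scheme.{u}}

theorem mem_primeIdealOf_iff {U : X.Opens} (hU : IsAffineOpen U) (x : U) (b : Γ(X, U)) :
    b ∈ (hU.primeIdealOf x).asIdeal ↔ (x : X) ∉ X.basicOpen b := by
  rw [hU.primeIdealOf_eq_map_closedPoint, Scheme.mem_basicOpen X b x.1 x.2]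
  change X.presheaf.germ U x.1 x.2 b ∈ maximalIdeal _ ↔ _
  rw [IsLocalRing.mem_maximalIdeal, mem_nonunits_iff]

/-- Reducedness of the local rings of a scheme passes to generizations. -/
theorem isReduced_stalk_of_specializes {x x₀ : X} (h : x ⤳ x₀)
    (hr : _root_.IsReduced (X.presheaf.stalk x₀)) : _root_.IsReduced (X.presheaf.stalk x) := by
  obtain ⟨_, ⟨U, hU', rfl⟩, hx₀U, -⟩ :=
    X.isBasis_affineOpens.exists_subset_of_mem_open (Set.mem_univ x₀) isOpen_univ
  have hU : IsAffineOpen U := hU'
  have hxU : x ∈ U := h.mem_open U.2 hx₀U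
  letI a1 : Algebra Γ(X, U) (X.presheaf.stalk x) :=
    TopCat.Presheaf.algebra_section_stalk X.presheaf (⟨x, hxU⟩ : U)
  letI a2 : Algebra Γ(X, U) (X.presheaf.stalk x₀) :=
    TopCat.Presheaf.algebra_section_stalk X.presheaf (⟨x₀, hx₀U⟩ : U)
  haveI i1 : IsLocalization.AtPrime (X.presheaf.stalk x) (hU.primeIdealOf ⟨x, hxU⟩).asIdeal :=
    hU.isLocalization_stalk ⟨x, hxU⟩
  haveI i2 : IsLocalization.AtPrime (X.presheaf.stalk x₀) (hU.primeIdealOf ⟨x₀, hx₀U⟩).asIdeal :=
    hU.isLocalization_stalk ⟨x₀, hx₀U⟩
  refine isReduced_atPrime_of_le (hU.primeIdealOf ⟨x, hxU⟩).asIdeal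
    (hU.primeIdealOf ⟨x₀, hx₀U⟩).asIdeal ?_ (X.presheaf.stalk x) (X.presheaf.stalk x₀)
  intro b hb
  have hb' := (mem_primeIdealOf_iff hU ⟨x, hxU⟩ b).mp hb
  refine (mem_primeIdealOf_iff hU ⟨x₀, hx₀U⟩ b).mpr ?_
  intro hmem
  exact hb' (h.mem_open (X.basicOpen b).2 hmem)

end Stalk

section DVR

variable (A : Type u) [CommRing A] [IsDomain A] [IsDiscreteValuationRing A]
  {X : Scheme.{u}} (p : X ⟶ Spec (CommRingCat.of A))

theorem flat_toStalkX [Flat p] (x : X) : (toStalkX p x).Flat := by
  letI : Algebra A ((Spec (CommRingCat.of A)).presheaf.stalk (p x)) :=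
    StructureSheaf.stalkAlgebra A (p x)
  haveI : (p x).asIdeal.IsPrime := (p x).isPrime
  haveI hloc : IsLocalization.AtPrime ((Spec (CommRingCat.of A)).presheaf.stalk (p x))
      (p x).asIdeal := StructureSheaf.IsLocalization.to_stalk A (p x)
  rw [toStalkX_eq_comp]
  refine RingHom.Flat.comp ?_ (Flat.stalkMap p x)
  rw [RingHom.flat_algebraMap_iff]
  exact IsLocalization.flat _ (p x).asIdeal.primeCompl

/-- At a point of the closed fibre of a flat scheme locally of finite type over a DVR with reduced
closed fibre, the local ring is reduced. -/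
theorem isReduced_stalk_of_closedFibre [Flat p] [LocallyOfFiniteType p]
    (hred : IsReduced (p.fiber (closedPoint A))) (x : X) (hx : p x = closedPoint A) :
    _root_.IsReduced (X.presheaf.stalk x) := by
  haveI : IsLocallyNoetherian X := LocallyOfFiniteType.isLocallyNoetherian p
  obtain ⟨ϖ, hϖ⟩ := IsDiscreteValuationRing.exists_irreducible A
  have hmax : maximalIdeal A = Ideal.span {ϖ} := hϖ.maximalIdeal_eq
  set t := toStalkX p x ϖ with ht
  -- `t` is regular
  have hreg : ∀ a : X.presheaf.stalk x, t * a = 0 → a = 0 := by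
    letI : Algebra A (X.presheaf.stalk x) := (toStalkX p x).toAlgebra
    haveI : Module.Flat A (X.presheaf.stalk x) := flat_toStalkX A p x
    have h1 : IsSMulRegular A ϖ := fun a b hab => mul_left_cancel₀ hϖ.ne_zero hab
    have h2 : IsSMulRegular (X.presheaf.stalk x) (algebraMap A (X.presheaf.stalk x) ϖ) :=
      IsSMulRegular.of_flat h1
    intro a ha
    apply h2
    simp only [smul_eq_mul, mul_zero]
    exact ha
  -- `t` is not a unit
  have hnu : ¬ IsUnit t := by
    intro hu
    have h1 : x ∈ X.basicOpen (toΓ p ϖ) := (Scheme.mem_basicOpen_top X _ x).mpr hu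
    rw [← preimage_Dπ_eq] at h1
    have h2 : ϖ ∉ (p x).asIdeal := (mem_Dπ ϖ (p x)).mp h1
    apply h2
    rw [hx]
    change ϖ ∈ maximalIdeal A
    rw [hmax]
    exact Ideal.mem_span_singleton_self ϖ
  -- nilpotents are divisible by `t`
  have hdiv : ∀ a : X.presheaf.stalk x, IsNilpotent a → a ∈ Ideal.span {t} := by
    intro a ⟨n, hn⟩
    induction n using Nat.strong_induction_on generalizing a with
    | _ n ih =>
      by_cases hn1 : n ≤ 1
      · interval_cases n
        · rw [pow_zero] at hn
          have : a = 0 := by rw [← mul_one a, hn, mul_zero]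
          rw [this]; exact Ideal.zero_mem _
        · rw [pow_one] at hn
          rw [hn]; exact Ideal.zero_mem _
      · push Not at hn1
        -- `(a * a) ^ (n - 1) = 0`
        have h2 : (a * a) ^ (n - 1) = 0 := by
          rw [← pow_two, ← pow_mul]
          have : n ≤ 2 * (n - 1) := by omega
          exact pow_eq_zero_of_le this hn
        have h3 : a * a ∈ Ideal.span {t} := ih (n - 1) (by omega) (a * a) h2
        exact mem_span_of_sq_mem_stalk p ϖ hmax hred x hx a h3
  have hregpow : ∀ (k : ℕ) (a : X.presheaf.stalk x), t ^ k * a = 0 → a = 0 := by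
    intro k
    induction k with
    | zero => intro a h; simpa using h
    | succ k ihk =>
      intro a h
      apply ihk
      apply hreg
      rw [← mul_assoc, ← pow_succ']
      exact h
  -- nilpotents are infinitely divisible by `t`
  have hpow : ∀ (n : ℕ) (a : X.presheaf.stalk x), IsNilpotent a → a ∈ Ideal.span {t} ^ n := by
    intro n
    induction n with
    | zero => intro a _; rw [pow_zero, Ideal.one_eq_top]; trivial
    | succ n ih =>
      intro a ha
      obtain ⟨b, rfl⟩ := Ideal.mem_span_singleton'.mp (hdiv a ha)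
      have hb : IsNilpotent b := by
        obtain ⟨m, hm⟩ := ha
        refine ⟨m, hregpow m _ ?_⟩
        rw [mul_pow, mul_comm] at hm
        exact hm
      rw [pow_succ]
      exact Ideal.mul_mem_mul (ih b hb) (Ideal.mem_span_singleton_self t)
  constructor
  intro a ha
  have hI : Ideal.span {t} ≠ ⊤ := by
    rw [Ne, Ideal.span_singleton_eq_top]
    exact hnu
  have hK := Ideal.iInf_pow_eq_bot_of_isLocalRing (Ideal.span {t}) hI
  have hmem : a ∈ ⨅ i, Ideal.span {t} ^ i := by
    rw [Ideal.mem_iInf]
    intro n
    exact hpow n a ha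
  rw [hK] at hmem
  exact hmem

/-- **Reducedness from the closed fibre.** A flat scheme locally of finite type over a discrete
valuation ring, whose structure morphism is closed and whose closed fibre is reduced, is reduced. -/
theorem isReduced_of_isReduced_closedFibre [Flat p] [LocallyOfFiniteType p]
    (hcl : IsClosedMap p) (hred : IsReduced (p.fiber (closedPoint A))) : IsReduced X := by
  haveI : ∀ x : X, _root_.IsReduced (X.presheaf.stalk x) := by
    intro x
    have hs : p x ⤳ closedPoint A := IsLocalRing.specializes_closedPoint (p x)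
    have h1 : closedPoint A ∈ closure {p x} := specializes_iff_mem_closure.mp hs
    have h2 : closure {p x} ⊆ p '' closure {x} := by
      have := hcl.closure_image_subset {x}
      rwa [Set.image_singleton] at this
    obtain ⟨x₀, hx₀, hpx₀⟩ := h2 h1
    have hsp : x ⤳ x₀ := specializes_iff_mem_closure.mpr hx₀
    exact isReduced_stalk_of_specializes hsp (isReduced_stalk_of_closedFibre A p hred x₀ hpx₀)
  exact isReduced_of_isReduced_stalk X

end DVR

end Groth.Agent.Lib.GeomRedOpen5
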