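import Groth.Agent.Lib.H80ShDvr
import Groth.Agent.Lib.DvrDominating
import Mathlib.AlgebraicGeometry.ValuativeCriterion
import Mathlib.AlgebraicGeometry.FunctionField
import Mathlib.AlgebraicGeometry.Noetherian
import Mathlib.RingTheory.RingHom.EssFiniteType

/-!
# Strictly henselian discrete valuation rings through a specialization, with large fraction field
(helper80)
-/

set_option autoImplicit false
universe u
open CategoryTheory CategoryTheory.Limits AlgebraicGeometry

namespace Groth.Agent.Lib.H80DvrGeom

/-- The evaluation map `A → κ(ξ)` at a point of `Spec A`. -/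
noncomputable def ev (A : CommRingCat.{u}) (ξ : Spec A) : A ⟶ (Spec A).residueField ξ :=
  (Scheme.ΓSpecIso A).inv ≫ (Spec A).presheaf.germ ⊤ ξ trivial ≫ (Spec A).residue ξ

theorem fromSpecResidueField_eq (A : CommRingCat.{u}) (ξ : Spec A) :
    (Spec A).fromSpecResidueField ξ = Spec.map (ev A ξ) := by
  rw [Scheme.fromSpecResidueField, Spec.fromSpecStalk_eq, ← Spec.map_comp]
  rfl

theorem ker_ev (A : CommRingCat.{u}) (ξ : Spec A) :
    RingHom.ker (ev A ξ).hom = ξ.asIdeal := by
  obtain ⟨p⟩ : Nonempty (Spec ((Spec A).residueField ξ)) := inferInstance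
  have h1 : Spec.map (ev A ξ) p = ξ := by
    rw [← fromSpecResidueField_eq]
    exact Scheme.fromSpecResidueField_apply ξ p
  have h2 : p.asIdeal = ⊥ :=
    (eq_bot_or_eq_top p.asIdeal).resolve_right p.2.ne_top
  rw [Spec.map_apply] at h1
  have h3 := congrArg PrimeSpectrum.asIdeal h1
  rw [PrimeSpectrum.comap_asIdeal, h2] at h3
  exact h3


/-- **A strictly henselian trait through a specialization with prescribed fraction field.**
Let `Y` be locally Noetherian, `y'` a proper generization of `y` and `N` a finite extension of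
`κ(y')`. There are a discrete valuation ring `A` with separably closed residue field and
`g : Spec A ⟶ Y` mapping the closed point to `y`, such that the residue field of the generic point
of `Spec A` receives `N` compatibly with `Spec κ(y') ⟶ Y` (in particular the generic point maps to
`y'`). -/
theorem exists_dvr_map {Y : Scheme.{u}} [IsLocallyNoetherian Y] (y y' : Y) (hne : y' ≠ y)
    (hgen : y' ⤳ y) (N : Type u) [Field N] [Algebra (Y.residueField y') N]
    [FiniteDimensional (Y.residueField y') N] :
    ∃ (A : Type u) (_ : CommRing A) (_ : IsDomain A) (_ : IsDiscreteValuationRing A)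
      (g : Spec (CommRingCat.of A) ⟶ Y),
      g (IsLocalRing.closedPoint A) = y ∧ IsSepClosed (IsLocalRing.ResidueField A) ∧
      ∃ τ : N →+* (Spec (CommRingCat.of A)).residueField (genericPoint (Spec (CommRingCat.of A))),
        (Spec (CommRingCat.of A)).fromSpecResidueField (genericPoint (Spec (CommRingCat.of A))) ≫ g =
          Spec.map (CommRingCat.ofHom (τ.comp (algebraMap (Y.residueField y') N))) ≫
            Y.fromSpecResidueField y' := by
  -- the specialization map on stalks is not local, since `y' ≠ y`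
  have hnotlocal : ¬ IsLocalHom (Y.presheaf.stalkSpecializes hgen).hom := by
    intro hloc
    apply hne
    have h1 : Spec.map (Y.presheaf.stalkSpecializes hgen) ≫ Y.fromSpecStalk y =
        Y.fromSpecStalk y' := Scheme.SpecMap_stalkSpecializes_fromSpecStalk hgen
    have h2 : Spec.map (Y.presheaf.stalkSpecializes hgen)
        (IsLocalRing.closedPoint (Y.presheaf.stalk y')) =
        IsLocalRing.closedPoint (Y.presheaf.stalk y) :=
      IsLocalRing.comap_closedPoint (Y.presheaf.stalkSpecializes hgen).hom
    have h3 := congrArg (fun g => g.base (IsLocalRing.closedPoint (Y.presheaf.stalk y'))) h1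
    simp only [Scheme.Hom.comp_base, TopCat.coe_comp, Function.comp_apply] at h3
    rw [h2, Y.fromSpecStalk_closedPoint, Y.fromSpecStalk_closedPoint] at h3
    exact h3.symm
  obtain ⟨t, ht_unit, ht_nonunit⟩ : ∃ t : Y.presheaf.stalk y,
      IsUnit ((Y.presheaf.stalkSpecializes hgen).hom t) ∧ ¬ IsUnit t := by
    by_contra hcon
    push Not at hcon
    exact hnotlocal ⟨fun a ha => hcon a ha⟩
  let φ : Y.presheaf.stalk y ⟶ CommRingCat.of N :=
    Y.presheaf.stalkSpecializes hgen ≫ Y.residue y' ≫
      CommRingCat.ofHom (algebraMap (Y.residueField y') N)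
  -- `φ` is essentially of finite type
  have hφ : φ.hom.EssFiniteType := by
    have h1 : (Y.presheaf.stalkSpecializes hgen).hom.EssFiniteType := by
      obtain ⟨_, ⟨U, hU, rfl⟩, hyU, -⟩ :=
        Y.isBasis_affineOpens.exists_subset_of_mem_open (Set.mem_univ y) isOpen_univ
      have hxU : y' ∈ U := hgen.mem_open U.2 hyU
      refine RingHom.EssFiniteType.of_comp (Y.presheaf.germ U y hyU).hom ?_
      have hcomp : (Y.presheaf.stalkSpecializes hgen).hom.comp (Y.presheaf.germ U y hyU).hom =
          (Y.presheaf.germ U y' hxU).hom := by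
        rw [← CommRingCat.hom_comp, TopCat.Presheaf.germ_stalkSpecializes]
      rw [hcomp]
      let _ := Y.presheaf.algebra_section_stalk ⟨y', hxU⟩
      have hloc := hU.isLocalization_stalk ⟨y', hxU⟩
      exact Algebra.EssFiniteType.of_isLocalization _ (hU.primeIdealOf ⟨y', hxU⟩).asIdeal.primeCompl
    have h3 : (Y.residue y').hom.EssFiniteType :=
      (RingHom.FiniteType.of_surjective _ (Y.residue_surjective y')).essFiniteType
    have h4 : (algebraMap (Y.residueField y') N).EssFiniteType :=
      (RingHom.Finite.finiteType (RingHom.finite_algebraMap.mpr inferInstance)).essFiniteType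
    exact (h1.comp h3).comp h4
  let _ : Algebra (Y.presheaf.stalk y) N := φ.hom.toAlgebra
  have hess : Algebra.EssFiniteType (Y.presheaf.stalk y) N := hφ
  have hφt_unit : IsUnit (φ.hom t) := by
    have : φ.hom t = (Y.residue y' ≫ CommRingCat.ofHom (algebraMap (Y.residueField y') N)).hom
        ((Y.presheaf.stalkSpecializes hgen).hom t) := rfl
    rw [this]
    exact ht_unit.map _
  have hR : ∃ t ∈ IsLocalRing.maximalIdeal (Y.presheaf.stalk y),
      algebraMap (Y.presheaf.stalk y) N t ≠ 0 :=
    ⟨t, (IsLocalRing.mem_maximalIdeal t).mpr ht_nonunit, hφt_unit.ne_zero⟩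
  obtain ⟨V, hVdvr, hV, hV_local⟩ := Groth.Agent.Lib.DvrDominating.exists_dvr_dominating
    (Y.presheaf.stalk y) N hR
  obtain ⟨A, hAring, hAdom, hAdvr, hAalg, hAloc, hAinj, hAsc⟩ :=
    Groth.Agent.Lib.H80ShDvr.exists_sh_dvr V
  let ψ : Y.presheaf.stalk y →+* V := φ.hom.codRestrict _ hV
  have hψloc : IsLocalHom ψ := hV_local
  let γ : Y.presheaf.stalk y →+* A := (algebraMap V A).comp ψ
  have hγloc : IsLocalHom γ := RingHom.isLocalHom_comp _ _
  refine ⟨A, hAring, hAdom, hAdvr, Spec.map (CommRingCat.ofHom γ) ≫ Y.fromSpecStalk y, ?_, hAsc, ?_⟩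
  · simp only [Scheme.Hom.comp_base, TopCat.coe_comp, Function.comp_apply]
    have : Spec.map (CommRingCat.ofHom γ) (IsLocalRing.closedPoint A) =
        IsLocalRing.closedPoint (Y.presheaf.stalk y) :=
      @IsLocalRing.comap_closedPoint _ _ _ _ _ _ γ hγloc
    rw [this, Y.fromSpecStalk_closedPoint]
  · obtain ⟨ξ, hξ⟩ : ∃ ξ, ξ = genericPoint (Spec (CommRingCat.of A)) := ⟨_, rfl⟩
    rw [← hξ]
    have hξbot : ξ.asIdeal = ⊥ := by
      rw [hξ, genericPoint_eq_bot_of_affine (CommRingCat.of A)]
      rfl
    have hevinj : Function.Injective (ev (CommRingCat.of A) ξ).hom := by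
      rw [RingHom.injective_iff_ker_eq_bot, ker_ev, hξbot]
    have hinj : Function.Injective ((ev (CommRingCat.of A) ξ).hom.comp (algebraMap V A)) :=
      hevinj.comp hAinj
    let τ : N →+* (Spec (CommRingCat.of A)).residueField ξ := IsFractionRing.lift hinj
    have hτ : ∀ v : V, τ (algebraMap V N v) = (ev (CommRingCat.of A) ξ).hom (algebraMap V A v) :=
      fun v => IsFractionRing.lift_algebraMap hinj v
    refine ⟨τ, ?_⟩
    rw [fromSpecResidueField_eq, ← Category.assoc, ← Spec.map_comp, Scheme.fromSpecResidueField,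
      ← Scheme.SpecMap_stalkSpecializes_fromSpecStalk hgen, ← Category.assoc, ← Category.assoc,
      ← Spec.map_comp, ← Spec.map_comp]
    congr 1
    apply congrArg Spec.map
    ext r
    change (ev (CommRingCat.of A) ξ).hom (algebraMap V A (ψ r)) = τ (φ.hom r)
    rw [← hτ]
    rfl

end Groth.Agent.Lib.H80DvrGeom
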