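import Mathlib.AlgebraicGeometry.AffineTransitionLimit
import Mathlib.AlgebraicGeometry.Properties
import Mathlib.AlgebraicGeometry.Morphisms.Flat
import Mathlib.RingTheory.Flat.FaithfullyFlat.Algebra

set_option autoImplicit false
universe u

open CategoryTheory Limits AlgebraicGeometry Opposite

namespace Groth.Agent.Lib.LimReduced

/-- In a cofiltered limit of affine schemes, if the limit is not reduced, then eventually
no stage is reduced. -/
theorem exists_not_isReduced_of_isAffine {J : Type u} [Category.{u} J] [IsCofiltered J]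
    (D : J ⥤ Scheme.{u}) (c : Cone D) (hc : IsLimit c) [∀ j, IsAffine (D.obj j)]
    (h : ¬ IsReduced c.pt) : ∃ j₀ : J, ∀ (j : J) (_ : j ⟶ j₀), ¬ IsReduced (D.obj j) := by
  have hcaff : IsAffine c.pt := Scheme.isAffine_of_isLimit c hc
  have h1 : ¬ _root_.IsReduced Γ(c.pt, ⊤) := fun h' => h (isReduced_of_isAffine_isReduced c.pt)
  rw [isReduced_iff] at h1
  push Not at h1
  obtain ⟨s, ⟨n, hn⟩, hs⟩ := h1
  obtain ⟨j, t, ht⟩ := exists_appTop_π_eq_of_isAffine_of_isLimit D c hc s
  have h2 : (c.π.app j).appTop (t ^ n) = 0 := by rw [map_pow, ht, hn]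
  obtain ⟨k, f, hk⟩ := exists_appTop_map_eq_zero_of_isAffine_of_isLimit D c hc j (t ^ n) h2
  refine ⟨k, fun l ψ hred => hs ?_⟩
  have h3 : ((D.map ψ).appTop ((D.map f).appTop t)) ^ n = 0 := by
    rw [← map_pow, ← map_pow, hk, map_zero]
  have h4 : (D.map ψ).appTop ((D.map f).appTop t) = 0 :=
    (hred.component_reduced ⊤).eq_zero _ ⟨n, h3⟩
  have e : c.π.app l ≫ D.map ψ ≫ D.map f = c.π.app j := by
    rw [← D.map_comp, c.w]
  have h5 : (c.π.app l).appTop ((D.map ψ).appTop ((D.map f).appTop t)) = s := by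
    rw [← ht, ← e, Scheme.Hom.comp_appTop, Scheme.Hom.comp_appTop]
    rfl
  rw [← h5, h4, map_zero]

/-- If the limit of a cofiltered diagram of schemes with affine transition maps is not reduced,
then eventually no stage is reduced. -/
theorem exists_not_isReduced {I : Type u} [Category.{u} I] [IsCofiltered I]
    (D : I ⥤ Scheme.{u}) (c : Cone D) (hc : IsLimit c)
    [∀ {i j : I} (f : i ⟶ j), IsAffineHom (D.map f)] (h : ¬ IsReduced c.pt) :
    ∃ (i : I), ∀ (j : I) (_ : j ⟶ i), ¬ IsReduced (D.obj j) := by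
  obtain ⟨i₀⟩ := IsCofiltered.nonempty (C := I)
  have hcov : TopologicalSpace.IsOpenCover
      (fun V : (D.obj i₀).affineOpens => c.π.app i₀ ⁻¹ᵁ V.1) := by
    have := (TopologicalSpace.IsOpenCover.mk (iSup_affineOpens_eq_top (D.obj i₀))).comap
      (c.π.app i₀).base.hom
    exact this
  have h1 : ∃ V : (D.obj i₀).affineOpens, ¬ IsReduced (c.π.app i₀ ⁻¹ᵁ V.1).toScheme := by
    by_contra hcon
    push Not at hcon
    have : ∀ V, IsReduced ((c.pt.openCoverOfIsOpenCover _ hcov).X V) := hcon
    exact h (IsReduced.of_openCover _ (c.pt.openCoverOfIsOpenCover _ hcov))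
  obtain ⟨V, hV⟩ := h1
  have haff : ∀ j : Over i₀, IsAffine ((opensDiagram D i₀ V.1).obj j) := by
    intro j
    exact V.2.preimage (D.map j.hom)
  obtain ⟨j₀, hj₀⟩ := exists_not_isReduced_of_isAffine (opensDiagram D i₀ V.1)
    (opensCone D c i₀ V.1) (isLimitOpensCone D c hc i₀ V.1) hV
  refine ⟨j₀.left, fun l ψ hred => ?_⟩
  have := hj₀ (Over.mk (ψ ≫ j₀.hom)) (Over.homMk ψ rfl)
  apply this
  dsimp [opensDiagram]
  infer_instance

/-- Reducedness descends along flat surjective morphisms. -/
theorem isReduced_of_flat_of_surjective {X Y : Scheme.{u}} (f : X ⟶ Y) [Flat f] [Surjective f]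
    [IsReduced X] : IsReduced Y := by
  have : ∀ y : Y, _root_.IsReduced (Y.presheaf.stalk y) := by
    intro y
    obtain ⟨x, rfl⟩ := f.surjective y
    have hflat : (f.stalkMap x).hom.Flat := Flat.stalkMap f x
    algebraize [(f.stalkMap x).hom]
    have : IsLocalHom (algebraMap (Y.presheaf.stalk (f x)) (X.presheaf.stalk x)) := by
      rw [RingHom.algebraMap_toAlgebra]
      infer_instance
    have hff : Module.FaithfullyFlat (Y.presheaf.stalk (f x)) (X.presheaf.stalk x) :=
      Module.FaithfullyFlat.of_flat_of_isLocalHom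
    exact isReduced_of_injective _
      (FaithfulSMul.algebraMap_injective (Y.presheaf.stalk (f x)) (X.presheaf.stalk x))
  exact isReduced_of_isReduced_stalk Y

end Groth.Agent.Lib.LimReduced
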