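import Groth.Agent.Lib.GeomRedOpen5A
import Groth.Agent.Lib.H80DvrGeom
import Groth.Agent.Lib.MacLane5H44
import Groth.Agent.Lib.LimReduced
import Groth.Agent.Lib.H71GeomRedAt

/-!
# Openness of the geometrically reduced locus, part B (helper5): generization

* `geometricallyReduced_of_forall_finite`: a scheme over a field `k` which stays reduced after
  every finite purely inseparable extension of `k` is geometrically reduced;
* `isReduced_pullback_fromSpecResidueField`: the fibre of a reduced scheme over a point whose local
  ring is a field is reduced;
* `geomRedFiber_of_specializes`: for `f` proper and flat over a locally Noetherian base, the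
  set of points with geometrically reduced fibre is stable under generization.
-/

set_option autoImplicit false
set_option linter.style.haveILetI false
set_option linter.unusedSectionVars false
universe u

open CategoryTheory CategoryTheory.Limits AlgebraicGeometry TopologicalSpace Opposite IsLocalRing
  Topology TensorProduct

namespace Groth.Agent.Lib.GeomRedOpen5

open Groth.Agent.Lib.H77GeomRedSch

section Finite

/-- A scheme over a field `k` which stays reduced after every finite purely inseparable extension
of `k` is geometrically reduced. -/
theorem geometricallyReduced_of_forall_finite (k : Type u) [Field k] {Z : Scheme.{u}}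
    (q : Z ⟶ Spec (CommRingCat.of k))
    (h : ∀ (k' : Type u) [Field k'] [Algebra k k'] [Module.Finite k k'] [IsPurelyInseparable k k'],
      IsReduced (pullback q (Spec.map (CommRingCat.ofHom (algebraMap k k'))))) :
    GeometricallyReduced q := by
  apply geometricallyReduced_of_openCover Z.affineOpenCover.openCover q
  intro i
  let R : CommRingCat.{u} := Z.affineOpenCover.X i
  let m : Spec R ⟶ Spec (CommRingCat.of k) := Z.affineOpenCover.openCover.f i ≫ q
  let ψ : CommRingCat.of k ⟶ R := Spec.preimage m
  have hψ : Spec.map ψ = m := Spec.map_preimage m
  letI : Algebra k R := ψ.hom.toAlgebra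
  have hm : m = Spec.map (CommRingCat.ofHom (algebraMap k R)) := hψ.symm
  change GeometricallyReduced m
  rw [hm, geometricallyReduced_SpecMap_iff]
  apply Groth.Agent.Lib.MacLane5H44.isGeometricallyReduced_of_forall_finite_purelyInseparable
  intro k' _ _ _ _
  have h0 := h k'
  let a : Spec (CommRingCat.of k') ⟶ Spec (CommRingCat.of k) :=
    Spec.map (CommRingCat.ofHom (algebraMap k k'))
  let 𝒱 := Scheme.Pullback.openCoverOfLeft Z.affineOpenCover.openCover q a
  have h1' : IsReduced (𝒱.X i) := by
    haveI : IsOpenImmersion (𝒱.f i) := 𝒱.map_prop i
    exact isReduced_of_isOpenImmersion (𝒱.f i)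
  have h1 : IsReduced (pullback m a) := h1'
  rw [hm] at h1
  have h2 : IsReduced (Spec (CommRingCat.of (R ⊗[k] k'))) :=
    isReduced_of_isOpenImmersion (pullbackSpecIso k R k').inv
  have h3 : _root_.IsReduced (R ⊗[k] k') := (affine_isReduced_iff _).mp h2
  exact isReduced_of_injective (Algebra.TensorProduct.comm k k' R).toRingHom
    (Algebra.TensorProduct.comm k k' R).injective

end Finite

section GenericFibre

open Groth.Agent.Lib.H71GeomRedAt

/-- The fibre of a reduced scheme over a point whose local ring is a field is reduced. -/
theorem isReduced_pullback_fromSpecResidueField {X Y : Scheme.{u}} (p : X ⟶ Y) [IsReduced X]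
    (η : Y) (hη : IsField (Y.presheaf.stalk η)) :
    IsReduced (pullback p (Y.fromSpecResidueField η)) := by
  let j := Y.fromSpecResidueField η
  have hbij : Function.Bijective (Y.residue η).hom := by
    letI := hη.toField
    exact ⟨RingHom.injective _, IsLocalRing.residue_surjective⟩
  haveI : IsIso (Y.residue η) := (ConcreteCategory.isIso_iff_bijective _).mpr hbij
  haveI : Flat j := by
    change Flat (Spec.map (Y.residue η) ≫ Y.fromSpecStalk η)
    infer_instance
  haveI : IsReduced (pullback j p) := by
    haveI : ∀ w : ↥(pullback j p), _root_.IsReduced ((pullback j p).presheaf.stalk w) := by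
      intro w
      let e := RingEquiv.ofBijective _ (bijective_stalkMap_snd j p w)
      exact isReduced_of_injective e.symm.toRingHom e.symm.injective
    exact isReduced_of_isReduced_stalk _
  exact isReduced_of_isOpenImmersion (pullbackSymmetry p j).hom

end GenericFibre

section Generization

/-- The source of a geometrically reduced fibre is reduced. -/
theorem isReduced_fiber_of_GRF {X Y : Scheme.{u}} (f : X ⟶ Y) (y : Y) (h : GRF f y) :
    IsReduced (f.fiber y) := by
  have h1 : geometrically IsReduced (f.fiberToSpecResidueField y) := h.geometrically_isReduced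
  exact self_of_isIntegral_of_geometrically h1

/-- **Generization.**  For `f` flat, locally of finite type and universally closed over a locally
Noetherian base, the set of points with geometrically reduced fibre is stable under
generization. -/
theorem geomRedFiber_of_specializes {X Y : Scheme.{u}} [IsLocallyNoetherian Y] (f : X ⟶ Y)
    [Flat f] [LocallyOfFiniteType f] [UniversallyClosed f] {y y' : Y} (hgen : y' ⤳ y)
    (hy : GRF f y) : GRF f y' := by
  by_cases hne : y' = y
  · rw [hne]; exact hy
  apply geometricallyReduced_of_forall_finite (Y.residueField y') (f.fiberToSpecResidueField y')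
  intro N _ _ _ _
  obtain ⟨A, _, _, _, g, hgc, -, τ, hτ⟩ :=
    Groth.Agent.Lib.H80DvrGeom.exists_dvr_map y y' hne hgen N
  let pA : pullback f g ⟶ Spec (CommRingCat.of A) := pullback.snd f g
  have hclosed : IsClosedMap pA := (pullback.snd f g).isClosedMap
  have hGRF : GRF pA (closedPoint A) := by
    have h0 := geomRedFiber_iff_of_isPullback f g pA (pullback.fst f g)
      (IsPullback.of_hasPullback f g) (closedPoint A)
    rw [hgc] at h0
    exact h0.mpr hy
  have hred : IsReduced (pA.fiber (closedPoint A)) := isReduced_fiber_of_GRF pA _ hGRF
  haveI : IsReduced (pullback f g) := isReduced_of_isReduced_closedFibre A pA hclosed hred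
  -- the generic fibre of `pA` is reduced
  let η : Spec (CommRingCat.of A) := genericPoint (Spec (CommRingCat.of A))
  have hη : IsField ((Spec (CommRingCat.of A)).presheaf.stalk η) :=
    Field.toIsField ((Spec (CommRingCat.of A)).functionField)
  let jη := (Spec (CommRingCat.of A)).fromSpecResidueField η
  have hgenred : IsReduced (pullback pA jη) := isReduced_pullback_fromSpecResidueField pA η hη
  -- rewrite this fibre as a base change of the fibre of `f` over `y'`
  let q := f.fiberToSpecResidueField y'
  let a : Spec (CommRingCat.of N) ⟶ Spec (Y.residueField y') :=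
    Spec.map (CommRingCat.ofHom (algebraMap (Y.residueField y') N))
  let t : Spec ((Spec (CommRingCat.of A)).residueField η) ⟶ Spec (CommRingCat.of N) :=
    Spec.map (CommRingCat.ofHom τ)
  have hta : jη ≫ g = (t ≫ a) ≫ Y.fromSpecResidueField y' := by
    rw [hτ]
    congr 1
    exact Spec.map_comp (CommRingCat.ofHom (algebraMap (Y.residueField y') N))
      (CommRingCat.ofHom τ)
  have h1 : IsReduced (pullback f (jη ≫ g)) :=
    isReduced_of_isOpenImmersion (pullbackLeftPullbackSndIso f g jη).inv
  rw [hta] at h1
  have h2 : IsReduced (pullback q (t ≫ a)) := by
    let e := pullbackLeftPullbackSndIso f (Y.fromSpecResidueField y') (t ≫ a)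
    have h2' : IsReduced (pullback (pullback.snd f (Y.fromSpecResidueField y')) (t ≫ a)) :=
      isReduced_of_isOpenImmersion e.hom
    exact h2'
  have h3 : IsReduced (pullback (pullback.snd q a) t) :=
    isReduced_of_isOpenImmersion (pullbackLeftPullbackSndIso q a t).hom
  haveI : Flat t := by
    change Flat (Spec.map (CommRingCat.ofHom τ))
    rw [Flat.SpecMap_iff]
    algebraize [τ]
    change Module.Flat N _
    infer_instance
  haveI : Surjective t := by
    constructor
    intro z
    obtain ⟨w⟩ : Nonempty (Spec ((Spec (CommRingCat.of A)).residueField η)) := inferInstance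
    exact ⟨w, Subsingleton.elim _ _⟩
  haveI : Flat (pullback.fst (pullback.snd q a) t) := inferInstance
  haveI : Surjective (pullback.fst (pullback.snd q a) t) := inferInstance
  have h4 : IsReduced (pullback q a) :=
    Groth.Agent.Lib.LimReduced.isReduced_of_flat_of_surjective
      (pullback.fst (pullback.snd q a) t)
  exact h4

end Generization

end Groth.Agent.Lib.GeomRedOpen5
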