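import Groth.Agent.Lib.H77GenFreeMain
import Mathlib.RingTheory.MvPolynomial.Localization
import Mathlib.RingTheory.Polynomial.Basic
import Mathlib.RingTheory.Localization.FractionRing
import Mathlib.RingTheory.Localization.Ideal
import Mathlib.RingTheory.FinitePresentation
import Mathlib.RingTheory.FiniteStability
import Mathlib.LinearAlgebra.TensorProduct.RightExactness

/-!
Generic finite presentation (Stacks 051T): a finite type algebra over a domain becomes finitely
presented after inverting one nonzero element of the base.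
-/

namespace Groth.Agent.Lib.H77GenFree

open Function MvPolynomial TensorProduct

universe u w v

variable {R : Type u} [CommRing R] [IsDomain R]

section Basic

variable {M : Type*} [AddCommGroup M] [Module R M]

/-- In a generically free module, torsion elements are killed by a power of `f`. -/
lemma IsGenBasis.exists_pow_smul_eq_zero {f : R} {ι : Type*} {b : ι → M}
    (h : IsGenBasis R M f b) {r : R} (hr : r ≠ 0) {x : M} (hx : r • x = 0) :
    ∃ k : ℕ, f ^ k • x = 0 := by
  obtain ⟨k, hk⟩ := h.span x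
  obtain ⟨l, hl⟩ := Finsupp.mem_span_range_iff_exists_finsupp.mp hk
  rw [← Finsupp.linearCombination_apply] at hl
  have h1 : Finsupp.linearCombination R b (r • l) = 0 := by
    rw [map_smul, hl, smul_comm, hx, smul_zero]
  have h2 := h.indep (r • l) ⟨0, by simpa using h1⟩
  have h3 : l = 0 := by
    ext i
    have := DFunLike.congr_fun h2 i
    simpa [hr] using this
  exact ⟨k, by rw [← hl, h3, map_zero]⟩

/-- A generic basis for `f` is a generic basis for `f * g`. -/
lemma IsGenBasis.mul_right {f : R} {ι : Type*} {b : ι → M} (h : IsGenBasis R M f b) {g : R}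
    (hg : g ≠ 0) : IsGenBasis R M (f * g) b where
  span m := by
    obtain ⟨k, hk⟩ := h.span m
    refine ⟨k, ?_⟩
    rw [mul_pow, mul_comm, mul_smul]
    exact Submodule.smul_mem _ _ hk
  indep l := by
    rintro ⟨k, hk⟩
    have h1 : f ^ k • Finsupp.linearCombination R b (g ^ k • l) = 0 := by
      rw [map_smul, smul_smul, ← mul_pow]
      exact hk
    have h2 := h.indep _ ⟨k, h1⟩
    ext i
    have := DFunLike.congr_fun h2 i
    simpa [hg] using this

end Basic

section GFG

attribute [local instance] MvPolynomial.algebraMvPolynomial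

/-- Ideals of a polynomial ring over a domain are generically finitely generated. -/
theorem exists_finset_forall_smul_mem_span {n : ℕ} (I : Ideal (MvPolynomial (Fin n) R)) :
    ∃ G : Finset (MvPolynomial (Fin n) R), (G : Set (MvPolynomial (Fin n) R)) ⊆ I ∧
      ∀ i ∈ I, ∃ r : R, r ≠ 0 ∧ r • i ∈ Ideal.span (G : Set (MvPolynomial (Fin n) R)) := by
  classical
  let K := FractionRing R
  let P := MvPolynomial (Fin n) R
  let PK := MvPolynomial (Fin n) K
  have hinj : Injective (algebraMap P PK) := by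
    change Injective (MvPolynomial.map (algebraMap R K))
    exact MvPolynomial.map_injective _ (IsFractionRing.injective R K)
  have hfg : (Ideal.map (algebraMap P PK) I).FG := (isNoetherianRing_iff_ideal_fg PK).mp inferInstance _
  obtain ⟨t, htI, hspan⟩ := (Submodule.fg_span_iff_fg_span_finset_subset _).mp hfg
  obtain ⟨G, hGI, rfl⟩ := Finset.subset_set_image_iff.mp htI
  refine ⟨G, hGI, fun i hi => ?_⟩
  have h1 : algebraMap P PK i ∈ Ideal.map (algebraMap P PK) (Ideal.span (G : Set P)) := by
    rw [Ideal.map_span]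
    have : algebraMap P PK i ∈ Ideal.map (algebraMap P PK) I := Ideal.mem_map_of_mem _ hi
    rw [Ideal.map, Ideal.span, hspan] at this
    simpa using this
  obtain ⟨⟨⟨x, hx⟩, ⟨m, hm⟩⟩, hxm⟩ :=
    (IsLocalization.mem_map_algebraMap_iff ((nonZeroDivisors R).map (C (σ := Fin n))) PK).mp h1
  obtain ⟨r, hr, rfl⟩ := hm
  refine ⟨r, nonZeroDivisors.ne_zero hr, ?_⟩
  have h2 : i * C r = x := by
    apply hinj
    rw [map_mul]
    exact hxm
  rw [MvPolynomial.smul_eq_C_mul, mul_comm, h2]
  exact hx

end GFG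

section Pres

variable {S : Type w} [CommRing S] [Algebra R S] {n : ℕ}

/-- `π : R[X_1..X_n] → S` is surjective and its kernel is, up to powers of `f`, generated by the
finite set `G`. -/
structure IsGenPres (π : MvPolynomial (Fin n) R →ₐ[R] S) (G : Finset (MvPolynomial (Fin n) R))
    (f : R) : Prop where
  surj : Surjective π
  le : (G : Set (MvPolynomial (Fin n) R)) ⊆ RingHom.ker π
  pow : ∀ i ∈ RingHom.ker π, ∃ k : ℕ, f ^ k • i ∈ Ideal.span (G : Set (MvPolynomial (Fin n) R))

omit [IsDomain R] in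
lemma IsGenPres.mul_right {π : MvPolynomial (Fin n) R →ₐ[R] S}
    {G : Finset (MvPolynomial (Fin n) R)} {f : R} (h : IsGenPres π G f) (g : R) :
    IsGenPres π G (f * g) where
  surj := h.surj
  le := h.le
  pow i hi := by
    obtain ⟨k, hk⟩ := h.pow i hi
    refine ⟨k, ?_⟩
    rw [mul_pow, mul_comm, mul_smul]
    exact Submodule.smul_of_tower_mem _ _ hk

/-- A finite type algebra over a domain is generically finitely presented. -/
theorem exists_isGenPres (S : Type w) [CommRing S] [Algebra R S] [Algebra.FiniteType R S] :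
    ∃ (n : ℕ) (π : MvPolynomial (Fin n) R →ₐ[R] S) (G : Finset (MvPolynomial (Fin n) R)) (f : R),
      f ≠ 0 ∧ IsGenPres π G f := by
  obtain ⟨n, π, hπ⟩ := Algebra.FiniteType.iff_quotient_mvPolynomial''.mp
    (inferInstance : Algebra.FiniteType R S)
  obtain ⟨G, hGI, hG⟩ := exists_finset_forall_smul_mem_span (RingHom.ker π.toRingHom)
  let J : Ideal (MvPolynomial (Fin n) R) := Ideal.span (G : Set (MvPolynomial (Fin n) R))
  obtain ⟨f, hf, s, hs⟩ := genFree_of_finiteType (R := R) (MvPolynomial (Fin n) R ⧸ J)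
    (MvPolynomial (Fin n) R ⧸ J)
  refine ⟨n, π, G, f, hf, hπ, hGI, fun i hi => ?_⟩
  obtain ⟨r, hr, hri⟩ := hG i hi
  have hsm : ∀ (a : R) (x : MvPolynomial (Fin n) R),
      Ideal.Quotient.mk J (a • x) = a • Ideal.Quotient.mk J x := fun a x => by
    rw [← Ideal.Quotient.mkₐ_eq_mk R, map_smul]
  have h1 : r • (Ideal.Quotient.mk J i) = 0 := by
    rw [← hsm]
    exact Ideal.Quotient.eq_zero_iff_mem.mpr hri
  obtain ⟨k, hk⟩ := hs.exists_pow_smul_eq_zero hr h1
  refine ⟨k, ?_⟩
  rw [← Ideal.Quotient.eq_zero_iff_mem, hsm]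
  exact hk

omit [IsDomain R] in
/-- A generic presentation gives a finite presentation of the base change to `R_f`. -/
theorem IsGenPres.finitePresentation_tensor {π : MvPolynomial (Fin n) R →ₐ[R] S}
    {G : Finset (MvPolynomial (Fin n) R)} {f : R} (h : IsGenPres π G f)
    (Rf : Type*) [CommRing Rf] [Algebra R Rf] [IsLocalization.Away f Rf] :
    Algebra.FinitePresentation Rf (Rf ⊗[R] S) := by
  let J : Ideal (MvPolynomial (Fin n) R) := Ideal.span (G : Set (MvPolynomial (Fin n) R))
  have hJ : J ≤ RingHom.ker π := Ideal.span_le.mpr h.le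
  let q : (MvPolynomial (Fin n) R ⧸ J) →ₐ[R] S := Ideal.Quotient.liftₐ J π (fun a ha => hJ ha)
  have hqmk : ∀ p, q (Ideal.Quotient.mk J p) = π p := fun p => rfl
  have hq : Surjective q := by
    intro y
    obtain ⟨p, rfl⟩ := h.surj y
    exact ⟨Ideal.Quotient.mk J p, rfl⟩
  have hfp : Algebra.FinitePresentation R (MvPolynomial (Fin n) R ⧸ J) :=
    Algebra.FinitePresentation.quotient ⟨G, rfl⟩
  let Φ : Rf ⊗[R] (MvPolynomial (Fin n) R ⧸ J) →ₐ[Rf] Rf ⊗[R] S :=
    Algebra.TensorProduct.map (AlgHom.id Rf Rf) q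
  have hΦs : Surjective Φ := Algebra.TensorProduct.map_surjective _ _ surjective_id hq
  have hker : (RingHom.ker q).map
      (Algebra.TensorProduct.includeRight : (MvPolynomial (Fin n) R ⧸ J) →ₐ[R]
        Rf ⊗[R] (MvPolynomial (Fin n) R ⧸ J)) = ⊥ := by
    rw [eq_bot_iff, Ideal.map_le_iff_le_comap]
    intro x hx
    obtain ⟨p, rfl⟩ := Ideal.Quotient.mk_surjective x
    have hp : p ∈ RingHom.ker π := by
      rw [RingHom.mem_ker] at hx ⊢
      exact hx
    obtain ⟨k, hk⟩ := h.pow p hp
    have h0 : f ^ k • (Ideal.Quotient.mk J p) = 0 := by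
      rw [← Ideal.Quotient.mkₐ_eq_mk R, ← map_smul, Ideal.Quotient.mkₐ_eq_mk]
      exact Ideal.Quotient.eq_zero_iff_mem.mpr hk
    have hu : IsUnit (algebraMap R Rf (f ^ k)) := by
      rw [map_pow]
      exact (IsLocalization.Away.algebraMap_isUnit f).pow k
    have h1 : (algebraMap R Rf (f ^ k)) ⊗ₜ[R] (Ideal.Quotient.mk J p) =
        (0 : Rf ⊗[R] (MvPolynomial (Fin n) R ⧸ J)) := by
      rw [Algebra.algebraMap_eq_smul_one, TensorProduct.smul_tmul, h0, TensorProduct.tmul_zero]
    have h2 : (1 : Rf) ⊗ₜ[R] (Ideal.Quotient.mk J p) =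
        (↑hu.unit⁻¹ : Rf) • ((algebraMap R Rf (f ^ k)) ⊗ₜ[R] (Ideal.Quotient.mk J p)) := by
      rw [TensorProduct.smul_tmul', smul_eq_mul, IsUnit.val_inv_mul]
    simp only [Ideal.mem_comap, Algebra.TensorProduct.includeRight_apply, Ideal.mem_bot]
    rw [h2, h1, smul_zero]
  have hΦi : Injective Φ := by
    rw [injective_iff_map_eq_zero]
    intro z hz
    have hz' : z ∈ RingHom.ker (Algebra.TensorProduct.map (AlgHom.id R Rf) q) := hz
    rw [Algebra.TensorProduct.lTensor_ker _ hq, hker] at hz'
    exact hz'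
  have hfp' : Algebra.FinitePresentation Rf (Rf ⊗[R] (MvPolynomial (Fin n) R ⧸ J)) :=
    inferInstance
  exact Algebra.FinitePresentation.equiv (A := Rf ⊗[R] (MvPolynomial (Fin n) R ⧸ J))
    (B := Rf ⊗[R] S)
    { toEquiv := Equiv.ofBijective Φ ⟨hΦi, hΦs⟩
      map_mul' := map_mul Φ
      map_add' := map_add Φ
      commutes' := Φ.commutes }

end Pres

end Groth.Agent.Lib.H77GenFree
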