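import Mathlib
import Groth.Agent.Lib.H77GenFP

/-!
# Spreading out smoothness from the generic fibre (helper77)

* `smoothLocus_comap_of_isLocalization'`: the smooth locus is compatible with arbitrary
  localizations (Mathlib has the case of `Localization.Away`).
* `exists_finitePresentation_away`: a finite type algebra over a domain becomes finitely presented
  after inverting a nonzero element of the base.
* `exists_smooth_away_of_generic`: if `B` is of finite type over the domain `R` and the generic
  fibre `Frac R ⊗ B` is formally smooth over `Frac R`, then `B[1/g]` is smooth over `R` for some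
  nonzero `g : R`.
-/

set_option autoImplicit false
set_option linter.style.haveILetI false
universe u
open TensorProduct

namespace Groth.Agent.Lib.H77SpreadSmooth

theorem smoothLocus_comap_of_isLocalization' {R A Af : Type*} [CommRing R] [CommRing A]
    [Algebra R A] [CommRing Af] [Algebra A Af] [Algebra R Af] [IsScalarTower R A Af]
    (M : Submonoid A) [IsLocalization M Af] :
    PrimeSpectrum.comap (algebraMap A Af) ⁻¹' Algebra.smoothLocus R A =
      Algebra.smoothLocus R Af := by
  ext p
  let q := PrimeSpectrum.comap (algebraMap A Af) p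
  have : IsLocalization.AtPrime (Localization.AtPrime p.asIdeal) q.asIdeal :=
    IsLocalization.isLocalization_isLocalization_atPrime_isLocalization M _ p.asIdeal
  refine Algebra.FormallySmooth.iff_of_equiv ?_
  exact (IsLocalization.algEquiv q.asIdeal.primeCompl _ _).restrictScalars R

variable {R : Type u} [CommRing R] [IsDomain R]

theorem exists_finitePresentation_away (S : Type u) [CommRing S] [Algebra R S]
    [Algebra.FiniteType R S] :
    ∃ f : R, f ≠ 0 ∧ Algebra.FinitePresentation R (Localization.Away (algebraMap R S f)) := by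
  obtain ⟨n, π, G, f, hf, hp⟩ := Groth.Agent.Lib.H77GenFree.exists_isGenPres (R := R) S
  refine ⟨f, hf, ?_⟩
  let Rf := Localization.Away f
  let Sf := Localization.Away (algebraMap R S f)
  letI : Algebra Rf Sf := (IsLocalization.Away.map Rf Sf (algebraMap R S) f).toAlgebra
  haveI : IsScalarTower R Rf Sf := IsScalarTower.of_algebraMap_eq (fun x => by
    change _ = IsLocalization.Away.map Rf Sf (algebraMap R S) f (algebraMap R Rf x)
    rw [IsLocalization.Away.map, IsLocalization.map_eq]
    rfl)
  haveI : IsLocalization (Algebra.algebraMapSubmonoid S (Submonoid.powers f)) Sf := by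
    rw [Algebra.algebraMapSubmonoid_powers]
    infer_instance
  have hpo : Algebra.IsPushout R Rf S Sf :=
    (Algebra.isPushout_of_isLocalization (Submonoid.powers f) Rf S Sf).symm
  have hfp : Algebra.FinitePresentation Rf (Rf ⊗[R] S) := hp.finitePresentation_tensor Rf
  haveI hfp2 : Algebra.FinitePresentation Rf Sf :=
    Algebra.FinitePresentation.equiv (Algebra.IsPushout.equiv R Rf S Sf)
  haveI hfp1 : Algebra.FinitePresentation R Rf := IsLocalization.Away.finitePresentation f
  exact Algebra.FinitePresentation.trans R Rf Sf

/-- **Smoothness spreads out from the generic fibre.** -/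
theorem exists_smooth_away_of_generic (B : Type u) [CommRing B] [Algebra R B]
    [Algebra.FiniteType R B]
    (hB : Algebra.FormallySmooth (FractionRing R) (FractionRing R ⊗[R] B)) :
    ∃ g : R, g ≠ 0 ∧ Algebra.Smooth R (Localization.Away (algebraMap R B g)) := by
  classical
  obtain ⟨f, hf, hfp⟩ := exists_finitePresentation_away (R := R) B
  let K := FractionRing R
  let x : B := algebraMap R B f
  let B₁ := Localization.Away x
  haveI : Algebra.FinitePresentation R B₁ := hfp
  let T := K ⊗[R] B
  letI : Algebra B T := Algebra.TensorProduct.rightAlgebra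
  -- the submonoid of nonzero scalars
  let N : Submonoid B := Algebra.algebraMapSubmonoid B (nonZeroDivisors R)
  haveI hNT : IsLocalization N T := IsLocalization.tensorRight K (nonZeroDivisors R)
  -- `T` is a `B₁`-algebra
  have hxu : IsUnit (algebraMap B T x) := by
    have : x ∈ N := ⟨f, mem_nonZeroDivisors_of_ne_zero hf, rfl⟩
    exact IsLocalization.map_units T ⟨x, this⟩
  letI : Algebra B₁ T := (IsLocalization.Away.lift x hxu).toAlgebra
  haveI : IsScalarTower B B₁ T := IsScalarTower.of_algebraMap_eq (fun b => by
    change _ = IsLocalization.Away.lift x hxu (algebraMap B B₁ b)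
    rw [IsLocalization.Away.lift_eq])
  haveI : IsScalarTower R B₁ T := IsScalarTower.of_algebraMap_eq (fun r => by
    rw [IsScalarTower.algebraMap_apply R B B₁, ← IsScalarTower.algebraMap_apply B B₁ T,
      ← IsScalarTower.algebraMap_apply R B T])
  have hle : Submonoid.powers x ≤ N := by
    rw [Submonoid.powers_le]
    exact ⟨f, mem_nonZeroDivisors_of_ne_zero hf, rfl⟩
  let N₁ : Submonoid B₁ := N.map (algebraMap B B₁)
  haveI hN₁T : IsLocalization N₁ T :=
    IsLocalization.isLocalization_of_submonoid_le B₁ T (Submonoid.powers x) N hle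
  -- `T` is formally smooth over `R`
  haveI : Algebra.FormallySmooth R K := Algebra.FormallySmooth.of_isLocalization (nonZeroDivisors R)
  haveI : Algebra.FormallySmooth K T := hB
  haveI hRT : Algebra.FormallySmooth R T := Algebra.FormallySmooth.comp R K T
  have hTall : Algebra.smoothLocus R T = Set.univ := by
    rw [Set.eq_univ_iff_forall]
    intro P
    change Algebra.FormallySmooth R (Localization.AtPrime P.asIdeal)
    haveI : Algebra.FormallySmooth T (Localization.AtPrime P.asIdeal) :=
      Algebra.FormallySmooth.of_isLocalization P.asIdeal.primeCompl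
    exact Algebra.FormallySmooth.comp R T (Localization.AtPrime P.asIdeal)
  have hcomap := smoothLocus_comap_of_isLocalization' (R := R) (A := B₁) (Af := T) N₁
  -- primes over the generic point are smooth points
  have hgen : ∀ P : PrimeSpectrum B₁, Disjoint (P.asIdeal : Set B₁) (N₁ : Set B₁) →
      P ∈ Algebra.smoothLocus R B₁ := by
    intro P hdisj
    have hdisj' : Disjoint (N₁ : Set B₁) (P.asIdeal : Set B₁) := hdisj.symm
    have hprime : (Ideal.map (algebraMap B₁ T) P.asIdeal).IsPrime :=
      IsLocalization.isPrime_of_isPrime_disjoint N₁ T P.asIdeal P.isPrime hdisj'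
    let P' : PrimeSpectrum T := ⟨Ideal.map (algebraMap B₁ T) P.asIdeal, hprime⟩
    have hP' : PrimeSpectrum.comap (algebraMap B₁ T) P' = P := by
      apply PrimeSpectrum.ext
      exact IsLocalization.under_map_of_isPrime_disjoint N₁ T P.isPrime hdisj'
    have : P' ∈ PrimeSpectrum.comap (algebraMap B₁ T) ⁻¹' Algebra.smoothLocus R B₁ := by
      rw [hcomap, hTall]; trivial
    rw [Set.mem_preimage, hP'] at this
    exact this
  -- the non-smooth locus
  let Z : Set (PrimeSpectrum B₁) := (Algebra.smoothLocus R B₁)ᶜ
  have hZc : IsClosed Z := Algebra.isOpen_smoothLocus.isClosed_compl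
  let J : Ideal B₁ := PrimeSpectrum.vanishingIdeal Z
  have hJZ : PrimeSpectrum.zeroLocus (J : Set B₁) = Z := by
    rw [PrimeSpectrum.zeroLocus_vanishingIdeal_eq_closure, hZc.closure_eq]
  have hex : ∃ r : R, r ≠ 0 ∧ algebraMap B B₁ (algebraMap R B r) ∈ J := by
    by_contra hcon
    push Not at hcon
    have hdisj : Disjoint (J : Set B₁) (N₁ : Set B₁) := by
      rw [Set.disjoint_left]
      rintro _ hJ ⟨_, ⟨r, hr, rfl⟩, rfl⟩
      exact hcon r (nonZeroDivisors.ne_zero hr) hJ
    obtain ⟨P, hP, hJP, hPd⟩ := Ideal.exists_le_prime_disjoint J N₁ hdisj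
    have h1 : (⟨P, hP⟩ : PrimeSpectrum B₁) ∈ Algebra.smoothLocus R B₁ := hgen ⟨P, hP⟩ hPd
    have h2 : (⟨P, hP⟩ : PrimeSpectrum B₁) ∈ Z := by
      rw [← hJZ, PrimeSpectrum.mem_zeroLocus]
      exact hJP
    exact h2 h1
  obtain ⟨r, hr, hrJ⟩ := hex
  let y : B := algebraMap R B r
  let B₂ := Localization.Away (algebraMap B B₁ y)
  have hsm : Algebra.Smooth R B₂ := by
    rw [← Algebra.basicOpen_subset_smoothLocus_iff_smooth]
    intro Q hQ
    by_contra hcon
    have : Q ∈ Z := hcon
    rw [← hJZ, PrimeSpectrum.mem_zeroLocus] at this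
    exact hQ (this hrJ)
  refine ⟨f * r, mul_ne_zero hf hr, ?_⟩
  haveI : IsLocalization.Away (x * y) B₂ := inferInstance
  have hxy : algebraMap R B (f * r) = x * y := map_mul _ _ _
  rw [hxy]
  let e : B₂ ≃ₐ[B] Localization.Away (x * y) :=
    IsLocalization.algEquiv (Submonoid.powers (x * y)) B₂ (Localization.Away (x * y))
  exact Algebra.Smooth.of_equiv (e.restrictScalars R)

end Groth.Agent.Lib.H77SpreadSmooth
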