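import Groth.Agent.Lib.H77GeomRedSmooth
import Groth.Agent.Lib.H77SpreadSmooth
import Groth.Agent.Lib.H77FibNDAlg

/-!
# Geometric reducedness of the generic fibre spreads out (ring level) (helper77)

`exists_forall_isGeometricallyReduced_fiber`: `R` a domain, `A` an `R`-algebra of finite type whose
generic fibre `Frac R ⊗ A` is geometrically reduced over `Frac R`.  Then there is `g ≠ 0` in `R`
such that `κ(q) ⊗ A` is geometrically reduced over `κ(q)` for every prime `q ∌ g`.

Method: find `a : A` with `1 ⊗ a` a nonzerodivisor of the generic fibre and `Frac R ⊗ A[1/a]` smooth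
(generic smoothness, helper71), spread out "nonzerodivisor on fibres" (`H77FibNDAlg`) and
"smooth" (`H77SpreadSmooth`), and embed `κ(q) ⊗ A` into the smooth `κ(q)`-algebra `κ(q) ⊗ A[1/ag]`.
-/

set_option autoImplicit false
set_option linter.style.haveILetI false
universe u
open TensorProduct

namespace Groth.Agent.Lib.H77GeomRedFibre

open Groth.Agent.Lib.H77FibreExact

section Away

variable {R : Type u} [CommRing R] (κ : Type u) [CommRing κ] [Algebra R κ]
  (A : Type u) [CommRing A] [Algebra R A] (x : A)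
  (A' : Type u) [CommRing A'] [Algebra A A'] [Algebra R A'] [IsScalarTower R A A']
  [IsLocalization.Away x A']

/-- Base change of a localization away from `x` is injective as soon as `1 ⊗ x` is a
nonzerodivisor. -/
theorem tensor_map_injective_of_away
    (hx : ∀ z : κ ⊗[R] A, ((1 : κ) ⊗ₜ[R] x) * z = 0 → z = 0) :
    Function.Injective
      (Algebra.TensorProduct.map (AlgHom.id κ κ) (IsScalarTower.toAlgHom R A A')) := by
  let φ : κ ⊗[R] A →ₐ[κ] κ ⊗[R] A' :=
    Algebra.TensorProduct.map (AlgHom.id κ κ) (IsScalarTower.toAlgHom R A A')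
  letI : Algebra (κ ⊗[R] A) (κ ⊗[R] A') := φ.toRingHom.toAlgebra
  haveI : IsScalarTower κ (κ ⊗[R] A) (κ ⊗[R] A') :=
    IsScalarTower.of_algebraMap_eq (fun c => (φ.commutes c).symm)
  have H : (algebraMap (κ ⊗[R] A) (κ ⊗[R] A')).comp
      (Algebra.TensorProduct.includeRight (R := R) (A := κ) (B := A)).toRingHom =
      (Algebra.TensorProduct.includeRight (R := R) (A := κ) (B := A')).toRingHom.comp
        (algebraMap A A') := by
    ext a
    change φ ((1 : κ) ⊗ₜ[R] a) = (1 : κ) ⊗ₜ[R] (algebraMap A A' a)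
    simp [φ]
  haveI hloc : IsLocalization ((Submonoid.powers x).map
      (Algebra.TensorProduct.includeRight (R := R) (A := κ) (B := A))) (κ ⊗[R] A') :=
    IsLocalization.tensorProduct_tensorProduct_right (R := R) (S := κ) (A := A)
      (Submonoid.powers x) A' H
  have hle : (Submonoid.powers x).map
      (Algebra.TensorProduct.includeRight (R := R) (A := κ) (B := A)) ≤
      nonZeroDivisors (κ ⊗[R] A) := by
    rintro _ ⟨_, ⟨n, rfl⟩, rfl⟩
    have h1 : ((1 : κ) ⊗ₜ[R] x) ∈ nonZeroDivisors (κ ⊗[R] A) := by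
      rw [mem_nonZeroDivisors_iff_right]
      intro z hz
      exact hx z (by rw [mul_comm]; exact hz)
    have h2 := pow_mem h1 n
    rw [Algebra.TensorProduct.tmul_pow, one_pow] at h2
    exact h2
  exact IsLocalization.injective (κ ⊗[R] A') hle

end Away

section Main

variable {R A : Type u} [CommRing R] [IsDomain R] [CommRing A] [Algebra R A]
  [Algebra.FiniteType R A]

/-- **Geometric reducedness of the generic fibre spreads out.** -/
theorem exists_forall_isGeometricallyReduced_fiber
    (h : Algebra.IsGeometricallyReduced (FractionRing R) (FractionRing R ⊗[R] A)) :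
    ∃ g : R, g ≠ 0 ∧ ∀ q : PrimeSpectrum R, g ∉ q.asIdeal →
      Algebra.IsGeometricallyReduced q.asIdeal.ResidueField (q.asIdeal.Fiber A) := by
  classical
  let K := FractionRing R
  let AK := K ⊗[R] A
  haveI : Algebra.FiniteType K AK := inferInstance
  haveI : Algebra.FinitePresentation K AK :=
    Algebra.FinitePresentation.of_finiteType.mp inferInstance
  obtain ⟨h₀, hh₀, hsm⟩ := Groth.Agent.Lib.H77GeomRedSmooth.exists_nzd_smooth_away K AK
  obtain ⟨s, hs, a, ha⟩ := exists_smul_eq_one_tmul_fractionRing (R := R) (M := A) h₀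
  have hsK : ∀ z : AK, s • z = 0 → z = 0 := by
    intro z hz
    rw [← algebraMap_smul K s z] at hz
    have hunit : IsUnit (algebraMap R K s) :=
      IsUnit.mk0 _ (fun h0 => hs ((IsFractionRing.injective R K) (h0.trans (map_zero _).symm)))
    exact hunit.smul_eq_zero.mp hz
  -- `1 ⊗ a` is a nonzerodivisor on the generic fibre
  have hnzdK : ∀ z : AK, ((1 : K) ⊗ₜ[R] a) * z = 0 → z = 0 := by
    intro z hz
    rw [← ha, smul_mul_assoc] at hz
    have h1 := hsK _ hz
    rw [mul_comm] at h1
    exact (mem_nonZeroDivisors_iff_right.mp hh₀) z h1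
  -- `D(1 ⊗ a)` lies in the smooth locus
  have hsm' : Algebra.Smooth K (Localization.Away ((1 : K) ⊗ₜ[R] a : AK)) := by
    rw [← Algebra.basicOpen_subset_smoothLocus_iff_smooth]
    have h1 : ↑(PrimeSpectrum.basicOpen h₀) ⊆ Algebra.smoothLocus K AK :=
      Algebra.basicOpen_subset_smoothLocus_iff_smooth.mpr hsm
    intro P hP
    apply h1
    intro hcon
    apply hP
    change (1 : K) ⊗ₜ[R] a ∈ P.asIdeal
    rw [← ha]
    exact Submodule.smul_of_tower_mem _ s hcon
  -- the localization `B = A[1/a]`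
  let B := Localization.Away a
  haveI : Algebra.FiniteType A B := IsLocalization.finiteType_of_monoid_fg (Submonoid.powers a) B
  haveI : Algebra.FiniteType R B := Algebra.FiniteType.trans (S := A) inferInstance inferInstance
  -- `K ⊗ B` is smooth over `K`
  have hBK : Algebra.FormallySmooth K (K ⊗[R] B) := by
    let φ : K ⊗[R] A →ₐ[K] K ⊗[R] B :=
      Algebra.TensorProduct.map (AlgHom.id K K) (IsScalarTower.toAlgHom R A B)
    letI : Algebra (K ⊗[R] A) (K ⊗[R] B) := φ.toRingHom.toAlgebra
    haveI : IsScalarTower K (K ⊗[R] A) (K ⊗[R] B) :=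
      IsScalarTower.of_algebraMap_eq (fun c => (φ.commutes c).symm)
    have H : (algebraMap (K ⊗[R] A) (K ⊗[R] B)).comp
        (Algebra.TensorProduct.includeRight (R := R) (A := K) (B := A)).toRingHom =
        (Algebra.TensorProduct.includeRight (R := R) (A := K) (B := B)).toRingHom.comp
          (algebraMap A B) := by
      ext a'
      change φ ((1 : K) ⊗ₜ[R] a') = (1 : K) ⊗ₜ[R] (algebraMap A B a')
      simp [φ]
    have hloc : IsLocalization ((Submonoid.powers a).map
        (Algebra.TensorProduct.includeRight (R := R) (A := K) (B := A))) (K ⊗[R] B) :=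
      IsLocalization.tensorProduct_tensorProduct_right (R := R) (S := K) (A := A)
        (Submonoid.powers a) B H
    rw [Submonoid.map_powers] at hloc
    haveI : IsLocalization.Away ((1 : K) ⊗ₜ[R] a : AK) (K ⊗[R] B) := hloc
    let e : Localization.Away ((1 : K) ⊗ₜ[R] a : AK) ≃ₐ[AK] K ⊗[R] B :=
      IsLocalization.algEquiv (Submonoid.powers ((1 : K) ⊗ₜ[R] a : AK)) _ _
    haveI : Algebra.Smooth K (K ⊗[R] B) := Algebra.Smooth.of_equiv (e.restrictScalars K)
    infer_instance
  -- nonzerodivisor spreads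
  have hb : ∀ x : A, a * x = 0 → ∃ r : R, r ≠ 0 ∧ r • x = 0 := by
    intro x hx
    have h1 : ((1 : K) ⊗ₜ[R] a) * ((1 : K) ⊗ₜ[R] x) = 0 := by
      rw [Algebra.TensorProduct.tmul_mul_tmul, hx, TensorProduct.tmul_zero]
    exact exists_smul_eq_zero_of_one_tmul_eq_zero x (hnzdK _ h1)
  obtain ⟨g₁, hg₁, hnzd⟩ := Groth.Agent.Lib.H77FibNDAlg.exists_forall_fibre_nzd a hb
  -- smoothness spreads
  obtain ⟨g₂, hg₂, hsm₂⟩ :=
    Groth.Agent.Lib.H77SpreadSmooth.exists_smooth_away_of_generic (R := R) B hBK
  let B' := Localization.Away (algebraMap R B g₂)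
  refine ⟨g₁ * g₂, mul_ne_zero hg₁ hg₂, fun q hq => ?_⟩
  have hq₁ : g₁ ∉ q.asIdeal := fun hh => hq (q.asIdeal.mul_mem_right _ hh)
  have hq₂ : g₂ ∉ q.asIdeal := fun hh => hq (q.asIdeal.mul_mem_left _ hh)
  let κ := q.asIdeal.ResidueField
  have inj1 : Function.Injective
      (Algebra.TensorProduct.map (AlgHom.id κ κ) (IsScalarTower.toAlgHom R A B)) :=
    tensor_map_injective_of_away κ A a B (hnzd q hq₁)
  have hunit : IsUnit (algebraMap R κ g₂) :=
    IsUnit.mk0 _ (fun h0 => hq₂ (Ideal.algebraMap_residueField_eq_zero.mp h0))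
  have inj2 : Function.Injective
      (Algebra.TensorProduct.map (AlgHom.id κ κ) (IsScalarTower.toAlgHom R B B')) := by
    apply tensor_map_injective_of_away κ B (algebraMap R B g₂) B'
    intro z hz
    have h1 : ((1 : κ) ⊗ₜ[R] (algebraMap R B g₂) : κ ⊗[R] B) =
        algebraMap R κ g₂ • (1 : κ ⊗[R] B) := by
      rw [Algebra.TensorProduct.one_def, TensorProduct.smul_tmul', smul_eq_mul, mul_one,
        Algebra.algebraMap_eq_smul_one, Algebra.algebraMap_eq_smul_one,
        TensorProduct.smul_tmul]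
    rw [h1, smul_mul_assoc, one_mul] at hz
    exact hunit.smul_eq_zero.mp hz
  haveI : Algebra.Smooth κ (κ ⊗[R] B') := inferInstance
  haveI h3 : Algebra.IsGeometricallyReduced κ (κ ⊗[R] B') :=
    Groth.Agent.Lib.H71GenericSmoothRing.isGeometricallyReduced_of_smooth κ (κ ⊗[R] B')
  haveI h2 : Algebra.IsGeometricallyReduced κ (κ ⊗[R] B) :=
    Algebra.IsGeometricallyReduced.of_injective _ inj2
  exact Algebra.IsGeometricallyReduced.of_injective _ inj1

end Main

end Groth.Agent.Lib.H77GeomRedFibre
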