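import Groth.Agent.Lib.H77FibreRed
import Groth.Agent.Lib.H77GenImage
import Groth.Agent.Lib.GeomReducedFibres

/-!
# Failure of geometric reducedness of the generic fibre spreads out (ring level) (helper77)

`exists_forall_not_isGeometricallyReduced_fiber`: `R` a domain, `A` an `R`-algebra of finite type,
`L` a field containing `R` such that `L ⊗[R] A` is not reduced.  Then there is `g ≠ 0` in `R` such
that `κ(q) ⊗ A` is not geometrically reduced over `κ(q)` for every prime `q ∌ g`.
-/

set_option autoImplicit false
set_option linter.style.haveILetI false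
universe u
open TensorProduct

namespace Groth.Agent.Lib.H77GeomRedNeg

section Single

variable {R : Type u} [CommRing R] (A : Type u) [CommRing A] [Algebra R A]

/-- If the fibre of `A` at `q` is geometrically reduced then `L ⊗[R] A` is reduced for every field
`L` over `R` with kernel `q`. -/
theorem isReduced_tensorProduct_of_ker_eq (q : Ideal R) [q.IsPrime] (L : Type u) [Field L]
    [Algebra R L] (hker : RingHom.ker (algebraMap R L) = q)
    [hgr : Algebra.IsGeometricallyReduced q.ResidueField (q.Fiber A)] :
    IsReduced (L ⊗[R] A) := by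
  subst hker
  let q : Ideal R := RingHom.ker (algebraMap R L)
  let g : q.ResidueField →+* L := Ideal.ResidueField.lift q (algebraMap R L) le_rfl (by
    intro x hx
    have hx' : algebraMap R L x ≠ 0 := fun h0 => hx h0
    exact (isUnit_iff_ne_zero.2 hx'))
  letI : Algebra q.ResidueField L := g.toAlgebra
  haveI : IsScalarTower R q.ResidueField L := IsScalarTower.of_algebraMap_eq (fun x => by
    rw [RingHom.algebraMap_toAlgebra]
    exact (Ideal.ResidueField.lift_algebraMap q (algebraMap R L) _ _ x).symm)
  have h1 : IsReduced (L ⊗[q.ResidueField] (q.Fiber A)) :=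
    Groth.Agent.Lib.GeomReducedFibres.isReduced_tensorProduct_of_isGeometricallyReduced
      q.ResidueField (q.Fiber A) L
  exact isReduced_of_injective
    (Algebra.TensorProduct.cancelBaseChange R q.ResidueField L L A).symm
    (Algebra.TensorProduct.cancelBaseChange R q.ResidueField L L A).symm.injective

end Single

section Descent

variable {R : Type u} [CommRing R] (L : Type u) [CommRing L] [Algebra R L]
  (A : Type u) [CommRing A] [Algebra R A]

/-- Every element of `L ⊗[R] A` comes from `C ⊗[R] A` for a finitely generated subalgebra `C` of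
`L`. -/
theorem exists_fg_subalgebra_tmul (z : L ⊗[R] A) :
    ∃ C : Subalgebra R L, C.FG ∧ ∃ b : C ⊗[R] A,
      Algebra.TensorProduct.map C.val (AlgHom.id R A) b = z := by
  obtain ⟨C, hC, y, hy⟩ := exists_fg_and_mem_baseChange (Algebra.TensorProduct.comm R L A z)
  refine ⟨C, hC, Algebra.TensorProduct.comm R A C y, ?_⟩
  have key : ∀ y : A ⊗[R] C, Algebra.TensorProduct.map C.val (AlgHom.id R A)
      (Algebra.TensorProduct.comm R A C y) =
      (Algebra.TensorProduct.comm R L A).symm
        (Algebra.TensorProduct.map (AlgHom.id A A) C.val y) := by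
    intro y
    induction y with
    | zero => simp
    | tmul a c => simp
    | add x y hx hy => simp only [map_add, hx, hy]
  rw [key]
  have hy' : Algebra.TensorProduct.map (AlgHom.id A A) C.val y =
      Algebra.TensorProduct.comm R L A z := hy
  rw [hy', AlgEquiv.symm_apply_apply]

end Descent

section Main

variable {R A : Type u} [CommRing R] [IsDomain R] [CommRing A] [Algebra R A]
  [Algebra.FiniteType R A]

set_option maxHeartbeats 1600000 in
/-- **Non-geometrically-reduced generic fibre spreads out.** -/
theorem exists_forall_not_isGeometricallyReduced_fiber (L : Type u) [Field L] [Algebra R L]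
    (hinj : Function.Injective (algebraMap R L)) (hL : ¬ IsReduced (L ⊗[R] A)) :
    ∃ g : R, g ≠ 0 ∧ ∀ q : PrimeSpectrum R, g ∉ q.asIdeal →
      ¬ Algebra.IsGeometricallyReduced q.asIdeal.ResidueField (q.asIdeal.Fiber A) := by
  classical
  rw [isReduced_iff] at hL
  push Not at hL
  obtain ⟨z, ⟨n, hn⟩, hz⟩ := hL
  obtain ⟨C, hCfg, b, hb⟩ := exists_fg_subalgebra_tmul L A z
  haveI : Algebra.FiniteType R C := (Subalgebra.fg_iff_finiteType C).mp hCfg
  haveI : IsDomain C := inferInstance
  let B := C ⊗[R] A
  let e := Algebra.TensorProduct.cancelBaseChange R C L L A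
  have he : ∀ b : C ⊗[R] A, e ((1 : L) ⊗ₜ[C] b) =
      Algebra.TensorProduct.map C.val (AlgHom.id R A) b := by
    intro b
    induction b using TensorProduct.induction_on with
    | zero => simp
    | tmul c a =>
      simp only [e, Algebra.TensorProduct.cancelBaseChange_tmul, Algebra.TensorProduct.map_tmul,
        AlgHom.coe_id, id_eq, Subalgebra.coe_val]
      congr 1
      rw [Algebra.smul_def, mul_one]
      rfl
    | add x y hx hy => rw [TensorProduct.tmul_add, map_add, map_add, hx, hy]
  have hw0 : ((1 : L) ⊗ₜ[C] b : L ⊗[C] B) ≠ 0 := by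
    intro h0
    apply hz
    rw [← hb, ← he, h0, map_zero]
  have hwn : ((1 : L) ⊗ₜ[C] (b ^ n) : L ⊗[C] B) = 0 := by
    apply e.injective
    rw [he, map_pow, hb, hn, map_zero]
  -- the generic residue field of `C`
  let F := (⊥ : Ideal C).ResidueField
  let ι : F →+* L := Ideal.ResidueField.lift ⊥ (algebraMap C L) bot_le (by
    intro x hx
    have hx0 : x ≠ 0 := fun h0 => hx (by rw [h0]; exact Ideal.zero_mem _)
    have : algebraMap C L x ≠ 0 := fun h0 => hx0 (Subtype.ext (by simpa using h0))
    exact isUnit_iff_ne_zero.2 this)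
  letI : Algebra F L := ι.toAlgebra
  haveI : IsScalarTower C F L := IsScalarTower.of_algebraMap_eq (fun x => by
    rw [RingHom.algebraMap_toAlgebra]
    exact (Ideal.ResidueField.lift_algebraMap ⊥ (algebraMap C L) _ _ x).symm)
  obtain ⟨ρ, hρ⟩ := LinearMap.exists_leftInverse_of_injective (Algebra.linearMap F L)
    (LinearMap.ker_eq_bot.mpr (algebraMap F L).injective)
  let ιC : F →ₗ[C] L := (Algebra.linearMap F L).restrictScalars C
  let ρC : L →ₗ[C] F := ρ.restrictScalars C
  have hρC : ρC ∘ₗ ιC = LinearMap.id := by
    ext x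
    exact LinearMap.congr_fun hρ x
  have hinjT : Function.Injective (ιC.rTensor B) := by
    apply Function.LeftInverse.injective (g := ρC.rTensor B)
    intro x
    rw [← LinearMap.comp_apply, ← LinearMap.rTensor_comp, hρC, LinearMap.rTensor_id,
      LinearMap.id_apply]
  have hι1 : ιC 1 = 1 := map_one (algebraMap F L)
  have hFib : ¬ IsReduced ((⊥ : Ideal C).Fiber B) := by
    intro hred
    have h1 : ((1 : F) ⊗ₜ[C] b : F ⊗[C] B) = 0 := by
      apply hred.eq_zero
      refine ⟨n, ?_⟩
      rw [Algebra.TensorProduct.tmul_pow, one_pow]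
      apply hinjT
      rw [LinearMap.rTensor_tmul, LinearMap.map_zero, hι1, hwn]
    apply hw0
    have := congrArg (ιC.rTensor B) h1
    rw [LinearMap.rTensor_tmul, LinearMap.map_zero, hι1] at this
    exact this
  obtain ⟨g', hg', hgq'⟩ :=
    Groth.Agent.Lib.H77FibreRed.exists_notMem_forall_not_isReduced_fiber (R := C) (A := B) ⊥ hFib
  have hg'0 : g' ≠ 0 := fun h => hg' (by rw [h]; exact Ideal.zero_mem _)
  let Cg := Localization.Away g'
  haveI : Algebra.FiniteType C Cg :=
    IsLocalization.finiteType_of_monoid_fg (Submonoid.powers g') Cg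
  haveI : Algebra.FiniteType R Cg := Algebra.FiniteType.trans (S := C) inferInstance inferInstance
  haveI : IsDomain Cg := IsLocalization.isDomain_localization
    (powers_le_nonZeroDivisors_of_noZeroDivisors hg'0)
  have hRC : Function.Injective (algebraMap R C) := by
    intro x y hxy
    apply hinj
    have := congrArg (algebraMap C L) hxy
    rwa [← IsScalarTower.algebraMap_apply, ← IsScalarTower.algebraMap_apply] at this
  have hCCg : Function.Injective (algebraMap C Cg) :=
    IsLocalization.injective Cg (powers_le_nonZeroDivisors_of_noZeroDivisors hg'0)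
  have hRCg : Function.Injective (algebraMap R Cg) := by
    rw [IsScalarTower.algebraMap_eq R C Cg]
    exact hCCg.comp hRC
  obtain ⟨g, hg, hgP⟩ := Groth.Agent.Lib.H77GenImage.exists_basicOpen_subset_range (R := R)
    (A := Cg) ⟨⊥, Ideal.isPrime_bot⟩ (by
      change Ideal.comap (algebraMap R Cg) ⊥ = ⊥
      rw [← RingHom.ker_eq_comap_bot]
      exact (RingHom.injective_iff_ker_eq_bot _).mp hRCg)
  refine ⟨g, hg, fun P hP hgr => ?_⟩
  obtain ⟨Q, hQ⟩ := hgP P hP
  let q' : PrimeSpectrum C := PrimeSpectrum.comap (algebraMap C Cg) Q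
  have hq'g : g' ∉ q'.asIdeal := fun hh => Q.isPrime.ne_top
    (Ideal.eq_top_of_isUnit_mem _ hh (IsLocalization.Away.algebraMap_isUnit g'))
  have hq'P : q'.asIdeal.comap (algebraMap R C) = P.asIdeal := by
    have h1 := congrArg PrimeSpectrum.asIdeal hQ
    rw [← h1]
    change Ideal.comap (algebraMap R C) (Ideal.comap (algebraMap C Cg) Q.asIdeal) =
      Ideal.comap (algebraMap R Cg) Q.asIdeal
    rw [Ideal.comap_comap, ← IsScalarTower.algebraMap_eq]
  have hnr : ¬ IsReduced (q'.asIdeal.Fiber B) := hgq' q'.asIdeal bot_le hq'g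
  apply hnr
  let κ' := q'.asIdeal.ResidueField
  have hker : RingHom.ker (algebraMap R κ') = P.asIdeal := by
    rw [IsScalarTower.algebraMap_eq R C κ', ← RingHom.comap_ker, Ideal.ker_algebraMap_residueField,
      hq'P]
  haveI := hgr
  have h2 : IsReduced (κ' ⊗[R] A) := isReduced_tensorProduct_of_ker_eq A P.asIdeal κ' hker
  exact isReduced_of_injective (Algebra.TensorProduct.cancelBaseChange R C κ' κ' A)
    (AlgEquiv.injective _)

end Main

end Groth.Agent.Lib.H77GeomRedNeg
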