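import Groth.Agent.Lib.H77GeomRedSch
import Groth.Agent.Lib.H77GeomRedFibre
import Groth.Agent.Lib.H77GeomRedNeg
import Groth.Agent.Lib.H77FibrePropLocal

/-!
# Geometric reducedness of fibres near the generic point (helper77)

For `f : X ⟶ Y` of finite type with `Y` irreducible:

* `exists_opens_forall_geomRedFiber`: if the generic fibre is geometrically reduced, so are the
  fibres over an open neighbourhood of the generic point (EGA IV 9.7.7, Stacks 0578);
* `exists_opens_forall_not_geomRedFiber`: if the generic fibre is not geometrically reduced, neither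
  are the fibres over an open neighbourhood of the generic point.
-/

set_option autoImplicit false
set_option linter.style.haveILetI false
universe u
open CategoryTheory Limits AlgebraicGeometry TensorProduct

namespace Groth.Agent.Lib.H77GeomRedMain

open Groth.Agent.Lib.H77GeomRedSch Groth.Agent.Lib.H77FibreLocal

/-- affine source, integral affine base: positive case -/
theorem core_pos_affine {R A : CommRingCat.{u}} [IsDomain R] (φ : R ⟶ A) (hφ : φ.hom.FiniteType)
    (h : GRF (Spec.map φ) (⟨⊥, Ideal.isPrime_bot⟩ : PrimeSpectrum R)) :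
    ∃ g : R, g ≠ 0 ∧ ∀ y : PrimeSpectrum R, g ∉ y.asIdeal → GRF (Spec.map φ) y := by
  letI := φ.hom.toAlgebra
  haveI : Algebra.FiniteType R A := hφ
  let y₀ : PrimeSpectrum R := ⟨⊥, Ideal.isPrime_bot⟩
  have h1 : Algebra.IsGeometricallyReduced y₀.asIdeal.ResidueField (y₀.asIdeal.Fiber A) :=
    (geomRedFiber_spec_iff φ y₀).mp h
  -- transfer to the fraction field
  let ψ : y₀.asIdeal.ResidueField →ₐ[R] FractionRing R :=
    Ideal.ResidueField.liftₐ y₀.asIdeal (Algebra.ofId R (FractionRing R))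
      (by
        intro x hx
        have hx0 : x = 0 := hx
        rw [hx0]
        exact (RingHom.ker _).zero_mem)
      (by
        intro x hx
        have hx0 : x ≠ 0 := fun h0 => hx (by rw [h0]; exact Ideal.zero_mem _)
        have : algebraMap R (FractionRing R) x ≠ 0 := fun h0 =>
          hx0 ((IsFractionRing.injective R (FractionRing R)) (h0.trans (map_zero _).symm))
        exact isUnit_iff_ne_zero.2 this)
  haveI := h1
  have h2 : Algebra.IsGeometricallyReduced (FractionRing R) (FractionRing R ⊗[R] A) :=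
    isGeometricallyReduced_of_algHom y₀.asIdeal.ResidueField (FractionRing R) A ψ
  obtain ⟨g, hg, hgq⟩ :=
    Groth.Agent.Lib.H77GeomRedFibre.exists_forall_isGeometricallyReduced_fiber h2
  exact ⟨g, hg, fun y hy => (geomRedFiber_spec_iff φ y).mpr (hgq y hy)⟩

/-- affine source, integral affine base: negative case -/
theorem core_neg_affine {R A : CommRingCat.{u}} [IsDomain R] (φ : R ⟶ A) (hφ : φ.hom.FiniteType)
    (h : ¬ GRF (Spec.map φ) (⟨⊥, Ideal.isPrime_bot⟩ : PrimeSpectrum R)) :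
    ∃ g : R, g ≠ 0 ∧ ∀ y : PrimeSpectrum R, g ∉ y.asIdeal → ¬ GRF (Spec.map φ) y := by
  letI := φ.hom.toAlgebra
  haveI : Algebra.FiniteType R A := hφ
  let y₀ : PrimeSpectrum R := ⟨⊥, Ideal.isPrime_bot⟩
  let κ := y₀.asIdeal.ResidueField
  have h1 : ¬ Algebra.IsGeometricallyReduced κ (y₀.asIdeal.Fiber A) :=
    fun hh => h ((geomRedFiber_spec_iff φ y₀).mpr hh)
  rw [Algebra.isGeometricallyReduced_field_iff] at h1
  let L := AlgebraicClosure κ
  have h2 : ¬ IsReduced (L ⊗[R] A) := by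
    intro hh
    apply h1
    exact isReduced_of_injective (Algebra.TensorProduct.cancelBaseChange R κ L L A)
      (Algebra.TensorProduct.cancelBaseChange R κ L L A).injective
  have hinj : Function.Injective (algebraMap R L) := by
    rw [IsScalarTower.algebraMap_eq R κ L]
    refine (algebraMap κ L).injective.comp ?_
    rw [RingHom.injective_iff_ker_eq_bot, Ideal.ker_algebraMap_residueField]
  obtain ⟨g, hg, hgq⟩ :=
    Groth.Agent.Lib.H77GeomRedNeg.exists_forall_not_isGeometricallyReduced_fiber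
      (R := R) (A := A) L hinj h2
  exact ⟨g, hg, fun y hy hh => hgq y hy ((geomRedFiber_spec_iff φ y).mp hh)⟩

/-- integral affine base: positive case -/
theorem core_pos (R : CommRingCat.{u}) [IsDomain R] {X : Scheme.{u}} (f : X ⟶ Spec R)
    [LocallyOfFiniteType f] [QuasiCompact f]
    (h : GRF f (⟨⊥, Ideal.isPrime_bot⟩ : PrimeSpectrum R)) :
    ∃ g : R, g ≠ 0 ∧ ∀ y : Spec R, y ∈ PrimeSpectrum.basicOpen g → GRF f y := by
  classical
  haveI : CompactSpace X := QuasiCompact.compactSpace_of_compactSpace f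
  let 𝒱 := X.affineOpenCover.openCover.finiteSubcover
  have key : ∀ k : 𝒱.I₀, ∃ g : R, g ≠ 0 ∧
      ∀ y : PrimeSpectrum R, g ∉ y.asIdeal → GRF (𝒱.f k ≫ f) y := by
    intro k
    haveI : IsOpenImmersion (𝒱.f k) := 𝒱.map_prop k
    haveI : LocallyOfFiniteType (𝒱.f k ≫ f) := inferInstance
    let A : CommRingCat.{u} := X.affineOpenCover.X (X.affineOpenCover.openCover.idx k.1)
    let gk : Spec A ⟶ Spec R := 𝒱.f k ≫ f
    obtain ⟨φ, hφ⟩ := Spec.map_surjective gk
    have hft : φ.hom.FiniteType := by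
      rw [← HasRingHomProperty.Spec_iff (P := @LocallyOfFiniteType), hφ]
      exact (inferInstance : LocallyOfFiniteType (𝒱.f k ≫ f))
    have h0 : GRF (Spec.map φ) (⟨⊥, Ideal.isPrime_bot⟩ : PrimeSpectrum R) := by
      rw [hφ]
      exact (geomRedFiber_iff_of_openCover 𝒱 f _).mp h k
    obtain ⟨g, hg, hgy⟩ := core_pos_affine φ hft h0
    refine ⟨g, hg, fun y hy => ?_⟩
    have := hgy y hy
    rwa [hφ] at this
  choose g hg hgy using key
  refine ⟨∏ k, g k, Finset.prod_ne_zero_iff.mpr (fun k _ => hg k), fun y hy => ?_⟩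
  rw [geomRedFiber_iff_of_openCover 𝒱 f y]
  intro k
  obtain ⟨P, hP⟩ : ∃ P : PrimeSpectrum R, P = y := ⟨_, rfl⟩
  rw [← hP] at hy ⊢
  apply hgy k P
  intro hmem
  exact hy ((Ideal.IsPrime.prod_mem_iff).mpr ⟨k, Finset.mem_univ k, hmem⟩)

/-- integral affine base: negative case -/
theorem core_neg (R : CommRingCat.{u}) [IsDomain R] {X : Scheme.{u}} (f : X ⟶ Spec R)
    [LocallyOfFiniteType f] [QuasiCompact f]
    (h : ¬ GRF f (⟨⊥, Ideal.isPrime_bot⟩ : PrimeSpectrum R)) :
    ∃ g : R, g ≠ 0 ∧ ∀ y : Spec R, y ∈ PrimeSpectrum.basicOpen g → ¬ GRF f y := by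
  let 𝒰 := X.affineOpenCover.openCover
  have h' : ¬ ∀ i, GRF (𝒰.f i ≫ f) (⟨⊥, Ideal.isPrime_bot⟩ : PrimeSpectrum R) :=
    fun hh => h ((geomRedFiber_iff_of_openCover 𝒰 f _).mpr hh)
  push Not at h'
  obtain ⟨i, hi⟩ := h'
  haveI : IsOpenImmersion (𝒰.f i) := 𝒰.map_prop i
  haveI : LocallyOfFiniteType (𝒰.f i ≫ f) := inferInstance
  let A : CommRingCat.{u} := X.affineOpenCover.X i
  let gi : Spec A ⟶ Spec R := 𝒰.f i ≫ f
  obtain ⟨φ, hφ⟩ := Spec.map_surjective gi
  have hft : φ.hom.FiniteType := by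
    rw [← HasRingHomProperty.Spec_iff (P := @LocallyOfFiniteType), hφ]
    exact (inferInstance : LocallyOfFiniteType (𝒰.f i ≫ f))
  have h0 : ¬ GRF (Spec.map φ) (⟨⊥, Ideal.isPrime_bot⟩ : PrimeSpectrum R) := by
    rw [hφ]
    exact hi
  obtain ⟨g, hg, hgy⟩ := core_neg_affine φ hft h0
  refine ⟨g, hg, fun y hy hh => ?_⟩
  obtain ⟨P, hP⟩ : ∃ P : PrimeSpectrum R, P = y := ⟨_, rfl⟩
  rw [← hP] at hy hh
  have h1 := (geomRedFiber_iff_of_openCover 𝒰 f P).mp hh i
  have h2 := hgy P hy
  rw [hφ] at h2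
  exact h2 h1

/-- **Geometrically reduced generic fibre spreads out.** -/
theorem exists_opens_forall_geomRedFiber {X Y : Scheme.{u}} (f : X ⟶ Y) [IrreducibleSpace Y]
    [LocallyOfFiniteType f] [QuasiCompact f] (h : GRF f (genericPoint Y)) :
    ∃ V : Y.Opens, genericPoint Y ∈ V ∧ ∀ y ∈ V, GRF f y :=
  Groth.Agent.Lib.H77FibrePropLocal.exists_opens_of_domain_core
    (fun _ _ f y => GRF f y)
    (fun _ _ _ _ f g f' g' hc y' => geomRedFiber_iff_of_isPullback f g f' g' hc y')
    (fun R _ _ f _ _ h => core_pos R f h) f h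

/-- **Non-geometrically-reduced generic fibre spreads out.** -/
theorem exists_opens_forall_not_geomRedFiber {X Y : Scheme.{u}} (f : X ⟶ Y) [IrreducibleSpace Y]
    [LocallyOfFiniteType f] [QuasiCompact f] (h : ¬ GRF f (genericPoint Y)) :
    ∃ V : Y.Opens, genericPoint Y ∈ V ∧ ∀ y ∈ V, ¬ GRF f y :=
  Groth.Agent.Lib.H77FibrePropLocal.exists_opens_of_domain_core
    (fun _ _ f y => ¬ GRF f y)
    (fun _ _ _ _ f g f' g' hc y' => not_congr (geomRedFiber_iff_of_isPullback f g f' g' hc y'))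
    (fun R _ _ f _ _ h => core_neg R f h) f h

end Groth.Agent.Lib.H77GeomRedMain
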