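import Groth.Prelude.Def_EGA4Misc
import Groth.Agent.Lib.H77GeomRedMain
import Groth.Agent.Lib.ConsLocusMorMain

/-!
# "Geometrically reduced" is a constructible property of algebraic schemes (helper77)

* `geomRedProp`: the relation on composable pairs `X ⟶ Y ⟶ T` saying that `Y ⟶ T` is geometrically
  reduced; `isConsMor_geomRedProp`, `isIndConsMor_geomRedProp`.
* `isLocallyConstructible_geomRedFiber`: for `f` quasi-compact and locally of finite presentation the
  set of points with geometrically reduced fibre is locally constructible (EGA IV 9.7.7).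
-/

set_option autoImplicit false
set_option linter.style.haveILetI false
universe u
open CategoryTheory Limits AlgebraicGeometry Topology

namespace Groth.Agent.Lib.H77GeomRedCons

open Groth.Agent.Lib.H77GeomRedSch Groth.Agent.Lib.H77GeomRedMain

/-- `Y ⟶ T` is geometrically reduced. -/
def geomRedProp : ∀ ⦃X Y T : Scheme.{u}⦄, (X ⟶ Y) → (Y ⟶ T) → Prop :=
  fun _ _ _ _ g => GeometricallyReduced g

theorem geometricallyReduced_iff_geomRedFiber_of_subsingleton {Y T : Scheme.{u}} (g : Y ⟶ T)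
    [Subsingleton T] (t : T) : GeometricallyReduced g ↔ GRF g t := by
  rw [geometricallyReduced_iff, geometrically_iff_forall_fiberToSpecResidueField]
  constructor
  · intro h
    exact ⟨h t⟩
  · intro h t'
    rw [Subsingleton.elim t' t]
    exact h.geometrically_isReduced

theorem mem_locusMor_geomRedProp_iff {X Y S : Scheme.{u}} (f : X ⟶ Y) (g : Y ⟶ S) (s : S) :
    s ∈ ConsProp.locusMor geomRedProp f g ↔ GRF g s := Iff.rfl

theorem isFieldStableMor_geomRedProp : ConsProp.IsFieldStableMor geomRedProp.{u} := by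
  intro X X' Y Y' T T' f g f' g' eX eY h _ _ _ _ _ _ _ _ hY _
  change GeometricallyReduced g ↔ GeometricallyReduced g'
  obtain ⟨t'⟩ : Nonempty T' := inferInstance
  rw [geometricallyReduced_iff_geomRedFiber_of_subsingleton g (h t'),
    geometricallyReduced_iff_geomRedFiber_of_subsingleton g' t']
  exact (geomRedFiber_iff_of_isPullback g h g' eY hY t').symm

theorem isConsMor_geomRedProp : ConsProp.IsConsMor geomRedProp.{u} := by
  refine ⟨isFieldStableMor_geomRedProp, ?_⟩
  intro X Y S f g _ _ _ _ _ _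
  by_cases hd : GRF g (genericPoint S)
  · left
    obtain ⟨V, hηV, hV⟩ := exists_opens_forall_geomRedFiber g hd
    exact ⟨genericPoint S, mem_interior.mpr ⟨V, fun s hs => hV s hs, V.isOpen, hηV⟩⟩
  · right
    obtain ⟨V, hηV, hV⟩ := exists_opens_forall_not_geomRedFiber g hd
    exact ⟨genericPoint S, mem_interior.mpr ⟨V, fun s hs => hV s hs, V.isOpen, hηV⟩⟩

theorem isIndConsMor_geomRedProp : ConsProp.IsIndConsMor geomRedProp.{u} := by
  refine ⟨isFieldStableMor_geomRedProp, ?_⟩
  intro X Y S f g _ _ _ _ _ _ hgen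
  obtain ⟨V, hηV, hV⟩ := exists_opens_forall_geomRedFiber g hgen
  exact ⟨genericPoint S, mem_interior.mpr ⟨V, fun s hs => hV s hs, V.isOpen, hηV⟩⟩

/-- **EGA IV 9.7.7 (reducedness)**: the locus of geometrically reduced fibres is locally
constructible. -/
theorem isLocallyConstructible_geomRedFiber {X Y : Scheme.{u}} (f : X ⟶ Y) [QuasiCompact f]
    [LocallyOfFinitePresentation f] :
    IsLocallyConstructible {y : Y | GRF f y} := by
  refine Groth.Agent.Lib.ConsLocusGen.isLocallyConstructible_of_affine _ (fun U hU => ?_)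
  haveI : IsAffine U.toScheme := hU
  have h1 : U.ι ⁻¹' {y : Y | GRF f y} = {u : U.toScheme | GRF (f ∣_ U) u} := by
    ext u
    exact (geomRedFiber_iff_of_isPullback f U.ι (f ∣_ U) (f ⁻¹ᵁ U).ι
      (isPullback_morphismRestrict f U).flip u).symm
  rw [h1]
  haveI : CompactSpace (f ⁻¹ᵁ U).toScheme := QuasiCompact.compactSpace_of_compactSpace (f ∣_ U)
  let 𝒱 := (f ⁻¹ᵁ U).toScheme.affineOpenCover.openCover.finiteSubcover
  have h2 : {u : U.toScheme | GRF (f ∣_ U) u} =
      ⋂ k : 𝒱.I₀, {u : U.toScheme | GRF (𝒱.f k ≫ f ∣_ U) u} := by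
    ext u
    simp only [Set.mem_iInter, Set.mem_ofPred_eq]
    exact geomRedFiber_iff_of_openCover 𝒱 (f ∣_ U) u
  rw [h2]
  refine IsConstructible.iInter (fun k => ?_)
  haveI : IsOpenImmersion (𝒱.f k) := 𝒱.map_prop k
  haveI : IsAffine (𝒱.X k) := by
    change IsAffine (Spec _)
    infer_instance
  haveI : LocallyOfFinitePresentation (𝒱.f k ≫ f ∣_ U) := inferInstance
  haveI : IsAffineHom (𝒱.f k ≫ f ∣_ U) := inferInstance
  haveI : QuasiCompact (𝒱.f k ≫ f ∣_ U) := inferInstance
  haveI : QuasiSeparated (𝒱.f k ≫ f ∣_ U) := inferInstance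
  haveI : LocallyOfFinitePresentation (𝟙 (𝒱.X k) ≫ 𝒱.f k ≫ f ∣_ U) := inferInstance
  haveI : QuasiCompact (𝟙 (𝒱.X k) ≫ 𝒱.f k ≫ f ∣_ U) := inferInstance
  haveI : QuasiSeparated (𝟙 (𝒱.X k) ≫ 𝒱.f k ≫ f ∣_ U) := inferInstance
  exact Groth.Agent.Lib.ConsLocusMor.isConstructible_locusMor_of_isAffine isConsMor_geomRedProp
    (𝟙 (𝒱.X k)) (𝒱.f k ≫ f ∣_ U)

end Groth.Agent.Lib.H77GeomRedCons
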