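import Groth.Agent.Lib.H72FlatDescent
import Groth.Agent.Lib.LimDescentSmooth96
import Groth.Agent.Lib.DescFPSpread

/-!
# Flatness of finitely presented morphisms descends along cofiltered limits (helper72)

`descends_flat : DescendsAlongLimit @Flat` (EGA IV 11.2.6 for the structure sheaf), in helper62's
`SpreadPair.DescendsAlongLimit` framework, via helper96's generic affine reduction and the ring-level
`H72FlatDescent.exists_flat_stage` (built on helper88's `exists_fg_flat_global`).
-/

set_option autoImplicit false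
universe u

open CategoryTheory Limits AlgebraicGeometry TensorProduct

namespace Groth.Agent.Lib.H72FlatDescentSch

open Groth.Agent.Lib.LimPullback Groth.Agent.Lib.LimDescent Groth.Agent.Lib.SpreadPair
  Groth.Agent.Lib.ColimTensor96

attribute [local instance] Groth.Agent.Lib.LimDescent.stageAlg Groth.Agent.Lib.LimDescent.limAlg

variable {I : Type u} [Category.{u} I] (D : I ⥤ Scheme.{u}) (c : Cone D) [IsCofiltered I]
variable {i₀ : I} {X₀ Y₀ : Scheme.{u}} (f₀ : X₀ ⟶ Y₀) (g₀ : Y₀ ⟶ D.obj i₀)
variable (hc : IsLimit c) [∀ {i j} (f : i ⟶ j), IsAffineHom (D.map f)]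

include hc in
/-- Affine case of the descent of flatness. -/
theorem exists_flat_stage_of_isAffine [IsAffine Y₀] [IsAffine X₀] [LocallyOfFinitePresentation f₀]
    (h : Flat (bcMap f₀ g₀ (c.π.app i₀))) : ∃ j : Over i₀, Flat (bcMap f₀ g₀ (D.map j.hom)) := by
  refine exists_stage_of_isAffine_of_ringDescent D c g₀ hc f₀ @Flat RingHom.Flat ?_ h
  let _ : Algebra Γ(Y₀, ⊤) Γ(X₀, ⊤) := f₀.appTop.hom.toAlgebra
  intro hW hQ
  have hfp : Algebra.FinitePresentation Γ(Y₀, ⊤) Γ(X₀, ⊤) :=
    (HasRingHomProperty.iff_of_isAffine (P := @LocallyOfFinitePresentation)).mp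
      (inferInstance : LocallyOfFinitePresentation f₀)
  rw [RingHom.flat_algebraMap_iff] at hQ
  obtain ⟨j, hj⟩ := Groth.Agent.Lib.H72FlatDescent.exists_flat_stage hW (B₀ := Γ(X₀, ⊤)) Γ(X₀, ⊤) hQ
  refine ⟨j, ?_⟩
  rw [RingHom.flat_algebraMap_iff]
  exact hj

include hc in
/-- Descent of flatness with only `X₀` quasi-compact. -/
theorem exists_flat_stage_of_compactSpace [CompactSpace X₀]
    [LocallyOfFinitePresentation f₀] (h : Flat (bcMap f₀ g₀ (c.π.app i₀))) :
    ∃ j : Over i₀, Flat (bcMap f₀ g₀ (D.map j.hom)) := by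
  have : IsZariskiLocalAtSource @Flat.{u} := HasRingHomProperty.instIsZariskiLocalAtSource
  refine exists_stage_of_compactSpace D c f₀ g₀ @Flat (fun ι _ => inferInstance)
    (fun U V hU hV e h' => ?_) h
  have : IsAffine U := hU
  have : IsAffine V := hV
  exact exists_flat_stage_of_isAffine D c _ _ hc h'

/-- **Flatness descends along cofiltered limits** (for finitely presented morphisms). -/
theorem descends_flat : DescendsAlongLimit @Flat.{u} := by
  intro I _ _ D c hc _ i₀ X₀ Y₀ f₀ g₀ _ _ _ _ _ _ _ h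
  exact exists_flat_stage_of_compactSpace D c f₀ g₀ hc h

end Groth.Agent.Lib.H72FlatDescentSch
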