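import Mathlib

/-!
Counting connected components via finite partitions into closed sets.
-/

namespace Groth.Agent.Lib.H77ConnCompCount

open Topology

/-- A partition of a space into `n` nonempty closed subsets shows there are at least `n`
connected components. -/
theorem le_card_connectedComponents {W : Type*} [TopologicalSpace W] (n : ℕ)
    (S : Fin n → Set W) (hcl : ∀ k, IsClosed (S k)) (hne : ∀ k, (S k).Nonempty)
    (hdisj : ∀ k l, k ≠ l → Disjoint (S k) (S l)) (hcov : ⋃ k, S k = Set.univ) :
    (n : ℕ∞) ≤ ENat.card (ConnectedComponents W) := by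
  classical
  have hex : ∀ x : W, ∃ k, x ∈ S k := fun x => by
    have : x ∈ ⋃ k, S k := hcov ▸ Set.mem_univ x
    exact Set.mem_iUnion.mp this
  choose φ hφ using hex
  have hφeq : ∀ x k, x ∈ S k → φ x = k := fun x k hx => by
    by_contra hne'
    exact Set.disjoint_left.mp (hdisj _ _ hne') (hφ x) hx
  have hpre : ∀ k, φ ⁻¹' {k} = S k := fun k => by
    ext x
    constructor
    · rintro rfl
      exact hφ x
    · exact hφeq x k
  have hopen : ∀ k, IsOpen (S k) := fun k => by
    have h1 : S k = (⋃ l ∈ (Finset.univ.erase k : Finset (Fin n)), S l)ᶜ := by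
      ext x
      simp only [Finset.mem_erase, Finset.mem_univ, and_true, Set.mem_compl_iff, Set.mem_iUnion,
        exists_prop, not_exists, not_and]
      constructor
      · intro hx l hl hxl
        exact Set.disjoint_left.mp (hdisj _ _ hl) hxl hx
      · intro hx
        by_contra hxk
        exact hx (φ x) (fun h => hxk (h ▸ hφ x)) (hφ x)
    rw [h1, isOpen_compl_iff]
    exact Set.Finite.isClosed_biUnion (Finset.finite_toSet _) fun l _ => hcl l
  have hcont : Continuous φ := by
    rw [continuous_discrete_rng]
    intro k
    rw [hpre]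
    exact hopen k
  have hsurj : Function.Surjective hcont.connectedComponentsLift := by
    intro k
    obtain ⟨x, hx⟩ := hne k
    exact ⟨(x : ConnectedComponents W), by
      rw [Continuous.connectedComponentsLift_apply_coe]; exact hφeq x k hx⟩
  have h2 : ENat.card (Fin n) ≤ ENat.card (ConnectedComponents W) :=
    ENat.card_le_card_of_injective (Function.injective_surjInv hsurj)
  simpa using h2

/-- A space with exactly `n` connected components is partitioned into `n` nonempty closed
subsets. -/
theorem exists_closed_partition {W : Type*} [TopologicalSpace W] (n : ℕ)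
    (h : ENat.card (ConnectedComponents W) = n) :
    ∃ C : Fin n → Set W, (∀ k, IsClosed (C k)) ∧ (∀ k, (C k).Nonempty) ∧
      (∀ k l, k ≠ l → Disjoint (C k) (C l)) ∧ ⋃ k, C k = Set.univ := by
  have hfin : Finite (ConnectedComponents W) := by
    by_contra hinf
    rw [not_finite_iff_infinite] at hinf
    rw [ENat.card_eq_top_of_infinite] at h
    exact ENat.top_ne_natCast n h
  have hcard : Nat.card (ConnectedComponents W) = n := by
    have := ENat.card_eq_coe_natCard (ConnectedComponents W)
    rw [this] at h
    exact_mod_cast h
  obtain ⟨e⟩ : Nonempty (ConnectedComponents W ≃ Fin n) := by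
    have := Fintype.ofFinite (ConnectedComponents W)
    rw [Nat.card_eq_fintype_card] at hcard
    exact ⟨Fintype.equivFinOfCardEq hcard⟩
  refine ⟨fun k => ConnectedComponents.mk ⁻¹' {e.symm k}, fun k => ?_, fun k => ?_,
    fun k l hkl => ?_, ?_⟩
  · obtain ⟨x, hx⟩ := ConnectedComponents.surjective_coe (e.symm k)
    change IsClosed (ConnectedComponents.mk ⁻¹' {e.symm k})
    rw [← hx, connectedComponents_preimage_singleton]
    exact isClosed_connectedComponent
  · obtain ⟨x, hx⟩ := ConnectedComponents.surjective_coe (e.symm k)
    exact ⟨x, hx⟩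
  · rw [Set.disjoint_left]
    intro x hx hx'
    rw [Set.mem_preimage, Set.mem_singleton_iff] at hx hx'
    exact hkl (e.symm.injective (hx.symm.trans hx'))
  · rw [Set.eq_univ_iff_forall]
    intro x
    exact Set.mem_iUnion.mpr ⟨e (ConnectedComponents.mk x), by simp⟩

end Groth.Agent.Lib.H77ConnCompCount
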