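import Mathlib
import Groth.Agent.Lib.H77ConnCompCount

/-!
# Topological lemmas on finite closed covers (helper77)

* `isPreirreducible_of_image`: preirreducibility can be checked after an inducing map;
* `encard_irreducibleComponents_eq`: a space which is the union of `n` closed irreducible subsets, none
  contained in another, has exactly `n` irreducible components;
* `connectedSpace_of_cover`, `cut_of_connectedSpace`: connectedness of a finite union of connected
  closed subsets in terms of the "cut condition" on the intersection graph;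
* `card_connectedComponents_eq`: a partition into `m` connected closed subsets gives `m` connected
  components.
-/

set_option autoImplicit false
set_option linter.style.haveILetI false

namespace Groth.Agent.Lib.H77TopDecomp

open Topology Set

theorem isPreirreducible_of_image {T X : Type*} [TopologicalSpace T] [TopologicalSpace X]
    {i : T → X} (hi : IsInducing i) {S : Set T} (h : IsPreirreducible (i '' S)) :
    IsPreirreducible S := by
  intro U V hU hV ⟨a, haS, haU⟩ ⟨b, hbS, hbV⟩
  obtain ⟨U', hU', rfl⟩ := hi.isOpen_iff.mp hU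
  obtain ⟨V', hV', rfl⟩ := hi.isOpen_iff.mp hV
  obtain ⟨z, ⟨c, hcS, rfl⟩, hzU, hzV⟩ :=
    h U' V' hU' hV' ⟨i a, ⟨a, haS, rfl⟩, haU⟩ ⟨i b, ⟨b, hbS, rfl⟩, hbV⟩
  exact ⟨c, hcS, hzU, hzV⟩

theorem isIrreducible_of_image {T X : Type*} [TopologicalSpace T] [TopologicalSpace X]
    {i : T → X} (hi : IsInducing i) {S : Set T} (h : IsIrreducible (i '' S)) :
    IsIrreducible S :=
  ⟨(Set.image_nonempty.mp h.1), isPreirreducible_of_image hi h.2⟩

variable {G : Type*} [TopologicalSpace G]

section Irreducible

variable {n : ℕ} (C : Fin n → Set G) (hcl : ∀ k, IsClosed (C k))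
  (hirr : ∀ k, IsIrreducible (C k)) (hcov : ⋃ k, C k = univ)

include hcl hcov in
theorem exists_subset_of_isIrreducible {S : Set G} (hS : IsIrreducible S) : ∃ k, S ⊆ C k := by
  classical
  have h := isIrreducible_iff_sUnion_isClosed.mp hS (Finset.univ.image C)
    (fun z hz => by
      obtain ⟨k, -, rfl⟩ := Finset.mem_image.mp hz
      exact hcl k)
    (by
      intro x _
      have hx : x ∈ ⋃ k, C k := hcov ▸ mem_univ x
      obtain ⟨k, hk⟩ := mem_iUnion.mp hx
      exact mem_sUnion.mpr ⟨C k, by simp, hk⟩)
  obtain ⟨z, hz, hSz⟩ := h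
  obtain ⟨k, -, rfl⟩ := Finset.mem_image.mp hz
  exact ⟨k, hSz⟩

include hcl hirr hcov in
theorem irreducibleComponents_eq_range (hne : ∀ k l, k ≠ l → ¬ C k ⊆ C l) :
    irreducibleComponents G = range C := by
  apply Subset.antisymm
  · intro S hS
    obtain ⟨k, hk⟩ := exists_subset_of_isIrreducible C hcl hcov hS.1
    have h2 : C k ⊆ S := hS.2 (hirr k) hk
    exact ⟨k, Subset.antisymm h2 hk⟩
  · rintro _ ⟨k, rfl⟩
    refine ⟨hirr k, fun t ht hkt => ?_⟩
    obtain ⟨l, hl⟩ := exists_subset_of_isIrreducible C hcl hcov ht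
    have hkl : k = l := by
      by_contra hkl
      exact hne k l hkl (hkt.trans hl)
    subst hkl
    exact hl

include hcl hirr hcov in
/-- A union of `n` closed irreducible subsets, none contained in another, has exactly `n` irreducible
components. -/
theorem encard_irreducibleComponents_eq (hne : ∀ k l, k ≠ l → ¬ C k ⊆ C l) :
    (irreducibleComponents G).encard = n := by
  rw [irreducibleComponents_eq_range C hcl hirr hcov hne]
  have hinj : Function.Injective C := by
    intro k l hkl
    by_contra hne'
    exact hne k l hne' (hkl ▸ Subset.rfl)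
  rw [← image_univ, hinj.encard_image, encard_univ]
  simp

end Irreducible

section Connected

variable {n : ℕ} (C : Fin n → Set G)

/-- A finite union of connected subsets whose intersection graph satisfies the cut condition is
connected. -/
theorem connectedSpace_of_cover (hn : 0 < n) (hconn : ∀ k, IsConnected (C k))
    (hcov : ⋃ k, C k = univ)
    (hcut : ∀ A : Set (Fin n), A.Nonempty → Aᶜ.Nonempty →
      ∃ k ∈ A, ∃ l ∈ Aᶜ, (C k ∩ C l).Nonempty) : ConnectedSpace G := by
  have : Nonempty G := (hconn ⟨0, hn⟩).nonempty.to_type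
  have : PreconnectedSpace G := by
    rw [preconnectedSpace_iff_clopen]
    intro s hs
    let A : Set (Fin n) := {k | C k ⊆ s}
    have hA : ∀ k, (C k ∩ s).Nonempty → k ∈ A := fun k hk =>
      (hconn k).isPreconnected.subset_isClopen hs hk
    by_cases hA1 : A.Nonempty
    · by_cases hA2 : Aᶜ.Nonempty
      · exfalso
        obtain ⟨k, hk, l, hl, z, hzk, hzl⟩ := hcut A hA1 hA2
        exact hl (hA l ⟨z, hzl, hk hzk⟩)
      · right
        rw [not_nonempty_iff_eq_empty, compl_empty_iff] at hA2
        rw [eq_univ_iff_forall]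
        intro x
        have hx : x ∈ ⋃ k, C k := hcov ▸ mem_univ x
        obtain ⟨k, hk⟩ := mem_iUnion.mp hx
        have hkA : k ∈ A := hA2 ▸ mem_univ k
        exact hkA hk
    · left
      rw [not_nonempty_iff_eq_empty] at hA1
      rw [eq_empty_iff_forall_notMem]
      intro x hxs
      have hx : x ∈ ⋃ k, C k := hcov ▸ mem_univ x
      obtain ⟨k, hk⟩ := mem_iUnion.mp hx
      have hkA : k ∈ A := hA k ⟨x, hk, hxs⟩
      rw [hA1] at hkA
      exact hkA
  exact ⟨‹_›⟩

/-- In a connected space covered by finitely many nonempty closed subsets, the intersection graph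
satisfies the cut condition. -/
theorem cut_of_connectedSpace [ConnectedSpace G] (hcl : ∀ k, IsClosed (C k))
    (hne : ∀ k, (C k).Nonempty) (hcov : ⋃ k, C k = univ) (A : Set (Fin n)) (hA : A.Nonempty)
    (hA' : Aᶜ.Nonempty) : ∃ k ∈ A, ∃ l ∈ Aᶜ, (C k ∩ C l).Nonempty := by
  by_contra hcon
  push Not at hcon
  let U : Set G := ⋃ k ∈ A, C k
  let V : Set G := ⋃ l ∈ Aᶜ, C l
  have hU : IsClosed U := (Set.toFinite A).isClosed_biUnion fun k _ => hcl k
  have hV : IsClosed V := (Set.toFinite Aᶜ).isClosed_biUnion fun k _ => hcl k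
  have hUV : U ∩ V = ∅ := by
    rw [eq_empty_iff_forall_notMem]
    rintro x ⟨hxU, hxV⟩
    simp only [U, V, mem_iUnion, exists_prop] at hxU hxV
    obtain ⟨k, hk, hxk⟩ := hxU
    obtain ⟨l, hl, hxl⟩ := hxV
    have h0 := hcon k hk l hl
    have : x ∈ C k ∩ C l := ⟨hxk, hxl⟩
    rw [h0] at this
    exact this
  have hcovUV : U ∪ V = univ := by
    rw [eq_univ_iff_forall]
    intro x
    have hx : x ∈ ⋃ k, C k := hcov ▸ mem_univ x
    obtain ⟨k, hk⟩ := mem_iUnion.mp hx
    by_cases hkA : k ∈ A
    · left
      exact mem_biUnion hkA hk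
    · right
      exact mem_biUnion (show k ∈ Aᶜ from hkA) hk
  have hUc : U = Vᶜ := by
    ext x
    constructor
    · intro hxU hxV
      have : x ∈ U ∩ V := ⟨hxU, hxV⟩
      rw [hUV] at this
      exact this
    · intro hxV
      have : x ∈ U ∪ V := hcovUV ▸ mem_univ x
      exact this.resolve_right hxV
  have hclopen : IsClopen U := ⟨hU, hUc ▸ hV.isOpen_compl⟩
  obtain ⟨k, hk⟩ := hA
  obtain ⟨l, hl⟩ := hA'
  obtain ⟨x, hx⟩ := hne k
  obtain ⟨z, hz⟩ := hne l
  rcases isClopen_iff.mp hclopen with h | h
  · have : x ∈ U := mem_biUnion hk hx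
    rw [h] at this
    exact this
  · have hzV : z ∈ V := mem_biUnion hl hz
    have hzU : z ∈ U := h ▸ mem_univ z
    have : z ∈ U ∩ V := ⟨hzU, hzV⟩
    rw [hUV] at this
    exact this

end Connected

section Count

/-- A partition into `m` connected closed subsets gives exactly `m` connected components. -/
theorem card_connectedComponents_eq {m : ℕ} (S : Fin m → Set G) (hcl : ∀ j, IsClosed (S j))
    (hconn : ∀ j, IsConnected (S j)) (hdisj : ∀ j j', j ≠ j' → Disjoint (S j) (S j'))
    (hcov : ⋃ j, S j = univ) : ENat.card (ConnectedComponents G) = m := by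
  apply le_antisymm
  · choose x hx using fun j => (hconn j).nonempty
    let φ : Fin m → ConnectedComponents G := fun j => ConnectedComponents.mk (x j)
    have hsurj : Function.Surjective φ := by
      intro c
      obtain ⟨z, rfl⟩ := ConnectedComponents.surjective_coe c
      have hz : z ∈ ⋃ j, S j := hcov ▸ mem_univ z
      obtain ⟨j, hj⟩ := mem_iUnion.mp hz
      refine ⟨j, ?_⟩
      change ConnectedComponents.mk (x j) = ConnectedComponents.mk z
      rw [ConnectedComponents.coe_eq_coe']
      exact ((hconn j).isPreconnected.subset_connectedComponent hj) (hx j)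
    have h2 : ENat.card (ConnectedComponents G) ≤ ENat.card (Fin m) :=
      ENat.card_le_card_of_injective (Function.injective_surjInv hsurj)
    simpa using h2
  · exact Groth.Agent.Lib.H77ConnCompCount.le_card_connectedComponents m S hcl
      (fun j => (hconn j).nonempty) hdisj hcov

end Count

section Noetherian

open TopologicalSpace

variable (W : Type*) [TopologicalSpace W] [NoetherianSpace W]

/-- The irreducible components of a Noetherian space, as an indexed family. -/
theorem exists_irreducible_cover :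
    ∃ (n : ℕ) (Z : Fin n → Set W), (∀ k, IsClosed (Z k)) ∧ (∀ k, IsIrreducible (Z k)) ∧
      ⋃ k, Z k = univ ∧ ∀ k l, k ≠ l → ¬ Z k ⊆ Z l := by
  classical
  haveI : Finite (irreducibleComponents W) :=
    NoetherianSpace.finite_irreducibleComponents.to_subtype
  let _ : Fintype (irreducibleComponents W) := Fintype.ofFinite _
  let e : irreducibleComponents W ≃ Fin (Fintype.card (irreducibleComponents W)) :=
    Fintype.equivFin _
  refine ⟨Fintype.card (irreducibleComponents W), fun k => (e.symm k : Set W),
    fun k => isClosed_of_mem_irreducibleComponents _ (e.symm k).2, fun k => (e.symm k).2.1, ?_, ?_⟩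
  · rw [eq_univ_iff_forall]
    intro x
    have hx : x ∈ ⋃₀ irreducibleComponents W := by
      rw [sUnion_irreducibleComponents]; exact mem_univ x
    obtain ⟨Z, hZ, hxZ⟩ := hx
    refine mem_iUnion.mpr ⟨e ⟨Z, hZ⟩, ?_⟩
    simpa using hxZ
  · intro k l hkl hsub
    have h2 : (e.symm l : Set W) ⊆ (e.symm k : Set W) := (e.symm k).2.2 (e.symm l).2.1 hsub
    have h3 : e.symm k = e.symm l := Subtype.ext (Subset.antisymm hsub h2)
    exact hkl (e.symm.injective h3)

/-- A Noetherian space has finitely many connected components. -/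
theorem finite_connectedComponents : Finite (ConnectedComponents W) := by
  haveI : Finite (irreducibleComponents W) :=
    NoetherianSpace.finite_irreducibleComponents.to_subtype
  choose p hp using fun Z : irreducibleComponents W => Z.2.1.nonempty
  refine Finite.of_surjective
    (fun Z : irreducibleComponents W => (ConnectedComponents.mk (p Z) : ConnectedComponents W)) ?_
  intro c
  obtain ⟨x, rfl⟩ := ConnectedComponents.surjective_coe c
  refine ⟨⟨irreducibleComponent x, irreducibleComponent_mem_irreducibleComponents x⟩, ?_⟩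
  change ConnectedComponents.mk _ = ConnectedComponents.mk x
  rw [ConnectedComponents.coe_eq_coe']
  exact (isIrreducible_irreducibleComponent.isConnected.isPreconnected.subset_connectedComponent
    mem_irreducibleComponent)
    (hp ⟨irreducibleComponent x, irreducibleComponent_mem_irreducibleComponents x⟩)

/-- The connected components of a Noetherian space, as an indexed family. -/
theorem exists_connected_partition :
    ∃ (m : ℕ) (C : Fin m → Set W), (∀ a, IsClosed (C a)) ∧ (∀ a, IsConnected (C a)) ∧
      ⋃ a, C a = univ ∧ ∀ a b, a ≠ b → Disjoint (C a) (C b) := by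
  classical
  haveI := finite_connectedComponents W
  let _ : Fintype (ConnectedComponents W) := Fintype.ofFinite _
  let e : ConnectedComponents W ≃ Fin (Fintype.card (ConnectedComponents W)) := Fintype.equivFin _
  have hC : ∀ a, ∃ x : W, ConnectedComponents.mk ⁻¹' {e.symm a} = connectedComponent x := by
    intro a
    obtain ⟨x, hx⟩ := ConnectedComponents.surjective_coe (e.symm a)
    exact ⟨x, by rw [← hx, connectedComponents_preimage_singleton]⟩
  refine ⟨Fintype.card (ConnectedComponents W), fun a => ConnectedComponents.mk ⁻¹' {e.symm a},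
    fun a => ?_, fun a => ?_, ?_, fun a b hab => ?_⟩
  · obtain ⟨x, hx⟩ := hC a
    change IsClosed (ConnectedComponents.mk ⁻¹' {e.symm a})
    rw [hx]
    exact isClosed_connectedComponent
  · obtain ⟨x, hx⟩ := hC a
    change IsConnected (ConnectedComponents.mk ⁻¹' {e.symm a})
    rw [hx]
    exact isConnected_connectedComponent
  · rw [eq_univ_iff_forall]
    intro x
    exact mem_iUnion.mpr ⟨e (ConnectedComponents.mk x), by simp⟩
  · rw [Set.disjoint_left]
    intro x hx hx'
    rw [mem_preimage, mem_singleton_iff] at hx hx'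
    exact hab (e.symm.injective (hx.symm.trans hx'))

end Noetherian

section Embedding

open TopologicalSpace

variable {W X : Type*} [TopologicalSpace W] [TopologicalSpace X] [NoetherianSpace W]
  (ι : W → X) (hι : IsEmbedding ι)

omit [NoetherianSpace W] in
include hι in
theorem closure_image_inter_range {Z : Set W} (hZ : IsClosed Z) :
    closure (ι '' Z) ∩ range ι = ι '' Z := by
  apply Subset.antisymm
  · rintro _ ⟨hx, ⟨w, rfl⟩⟩
    refine ⟨w, ?_, rfl⟩
    have := hι.isInducing.closure_eq_preimage_closure_image Z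
    rw [hZ.closure_eq] at this
    rw [this]
    exact hx
  · rintro _ ⟨w, hw, rfl⟩
    exact ⟨subset_closure ⟨w, hw, rfl⟩, mem_range_self w⟩

include hι in
/-- Decomposition of `X` near the embedded Noetherian subspace `ι W` adapted to the irreducible
components of `W`. -/
theorem exists_irrDecomp :
    ∃ (n : ℕ) (T : Fin n → Set X), (∀ k, IsClosed (T k)) ∧ range ι ⊆ ⋃ k, T k ∧
      (∀ k, IsIrreducible (T k ∩ range ι)) ∧ (∀ k l, k ≠ l → ¬ (T k ∩ range ι ⊆ T l)) ∧
      (ConnectedSpace W → 0 < n ∧ ∀ A : Set (Fin n), A.Nonempty → Aᶜ.Nonempty →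
        ∃ k ∈ A, ∃ l ∈ Aᶜ, (T k ∩ T l ∩ range ι).Nonempty) := by
  obtain ⟨n, Z, hcl, hirr, hcov, hne⟩ := exists_irreducible_cover W
  have hT : ∀ k, closure (ι '' Z k) ∩ range ι = ι '' Z k := fun k =>
    closure_image_inter_range ι hι (hcl k)
  refine ⟨n, fun k => closure (ι '' Z k), fun k => isClosed_closure, ?_, ?_, ?_, ?_⟩
  · rintro _ ⟨w, rfl⟩
    have hw : w ∈ ⋃ k, Z k := hcov ▸ mem_univ w
    obtain ⟨k, hk⟩ := mem_iUnion.mp hw
    exact mem_iUnion.mpr ⟨k, subset_closure ⟨w, hk, rfl⟩⟩
  · intro k
    rw [hT k]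
    exact (hirr k).image ι hι.continuous.continuousOn
  · intro k l hkl hsub
    apply hne k l hkl
    intro w hw
    have h1 : ι w ∈ closure (ι '' Z k) ∩ range ι := by
      rw [hT k]; exact ⟨w, hw, rfl⟩
    have h2 : ι w ∈ closure (ι '' Z l) ∩ range ι := ⟨hsub h1, mem_range_self w⟩
    rw [hT l] at h2
    obtain ⟨w', hw', hww'⟩ := h2
    rw [hι.injective hww'] at hw'
    exact hw'
  · intro hconn
    constructor
    · by_contra hn
      have hn0 : n = 0 := by omega
      subst hn0
      obtain ⟨w⟩ : Nonempty W := inferInstance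
      have hw : w ∈ ⋃ k, Z k := hcov ▸ mem_univ w
      obtain ⟨k, -⟩ := mem_iUnion.mp hw
      exact k.elim0
    · intro A hA hA'
      obtain ⟨k, hk, l, hl, w, hwk, hwl⟩ :=
        cut_of_connectedSpace Z hcl (fun k => (hirr k).nonempty) hcov A hA hA'
      exact ⟨k, hk, l, hl, ι w, ⟨subset_closure ⟨w, hwk, rfl⟩, subset_closure ⟨w, hwl, rfl⟩⟩,
        mem_range_self w⟩

include hι in
/-- Decomposition of `X` near the embedded Noetherian subspace `ι W` adapted to the connected
components of `W`. -/
theorem exists_connDecomp :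
    ∃ (m : ℕ) (S : Fin m → Set X), (∀ a, IsClosed (S a)) ∧ range ι ⊆ ⋃ a, S a ∧
      (∀ a, IsConnected (S a ∩ range ι)) ∧ (∀ a b, a ≠ b → S a ∩ S b ∩ range ι = ∅) := by
  obtain ⟨m, C, hcl, hconn, hcov, hdisj⟩ := exists_connected_partition W
  have hS : ∀ a, closure (ι '' C a) ∩ range ι = ι '' C a := fun a =>
    closure_image_inter_range ι hι (hcl a)
  refine ⟨m, fun a => closure (ι '' C a), fun a => isClosed_closure, ?_, ?_, ?_⟩
  · rintro _ ⟨w, rfl⟩
    have hw : w ∈ ⋃ a, C a := hcov ▸ mem_univ w
    obtain ⟨a, ha⟩ := mem_iUnion.mp hw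
    exact mem_iUnion.mpr ⟨a, subset_closure ⟨w, ha, rfl⟩⟩
  · intro a
    rw [hS a]
    exact (hconn a).image ι hι.continuous.continuousOn
  · intro a b hab
    rw [eq_empty_iff_forall_notMem]
    rintro x ⟨⟨hxa, hxb⟩, hxr⟩
    have h1 : x ∈ closure (ι '' C a) ∩ range ι := ⟨hxa, hxr⟩
    have h2 : x ∈ closure (ι '' C b) ∩ range ι := ⟨hxb, hxr⟩
    rw [hS a] at h1
    rw [hS b] at h2
    obtain ⟨w, hw, rfl⟩ := h1
    obtain ⟨w', hw', hww'⟩ := h2
    rw [hι.injective hww'] at hw'
    exact Set.disjoint_left.mp (hdisj a b hab) hw hw'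

end Embedding

end Groth.Agent.Lib.H77TopDecomp
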