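import Groth.Agent.Lib.H77GenImageOpen
import Groth.Agent.Lib.H69RedInduced
import Groth.Agent.Lib.H77TopDecomp
import Groth.Agent.Lib.ConsMorInst
import Groth.Agent.Lib.ConstrTop
import Groth.Prelude.Def_EGA4Misc

/-!
# Tools for proving that a property of morphisms is constructible (`ConsProp.IsConsMor`) (helper77)

* `Dich E`: the dichotomy "`E` or its complement contains a nonempty open".
* `dich_iff`, `Dich.inter`, `Dich.compl`, `dich_of_isLocallyConstructible`.
* `dich_of_baseChange`: the dichotomy for a family can be checked after a dominant base change of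
  finite type from an integral scheme.
* `exists_integral_model`: if `Q` descends along limits and `Q` holds for the generic fibre map then
  `Q` holds after a dominant finite type base change from an integral scheme.
* `descendsAlongLimit_inf`.
-/

set_option autoImplicit false
set_option linter.style.haveILetI false
universe u
open CategoryTheory Limits AlgebraicGeometry TopologicalSpace Topology

namespace Groth.Agent.Lib.H77ConsMorTools

open Groth.Agent.Lib.LimDescent Groth.Agent.Lib.SpreadPair Groth.Agent.Lib.ConsLocusMor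
  Groth.Agent.Lib.H69RedInduced

/-- The dichotomy: `E` or its complement contains a nonempty open subset. -/
def Dich {S : Type*} [TopologicalSpace S] (E : Set S) : Prop :=
  (interior E).Nonempty ∨ (interior Eᶜ).Nonempty

section Top

variable {S : Type*} [TopologicalSpace S] [IrreducibleSpace S] [QuasiSober S]

theorem nonempty_interior_iff (E : Set S) :
    (interior E).Nonempty ↔ genericPoint S ∈ interior E := by
  constructor
  · rintro ⟨x, hx⟩
    exact (genericPoint_specializes x).mem_open isOpen_interior hx
  · intro h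
    exact ⟨_, h⟩

theorem dich_iff (E : Set S) :
    Dich E ↔ genericPoint S ∈ interior E ∨ genericPoint S ∈ interior Eᶜ := by
  rw [Dich, nonempty_interior_iff, nonempty_interior_iff]

omit [IrreducibleSpace S] [QuasiSober S] in
theorem Dich.compl {E : Set S} (h : Dich E) : Dich Eᶜ := by
  rcases h with h | h
  · right; rwa [compl_compl]
  · left; exact h

theorem Dich.inter {E₁ E₂ : Set S} (h₁ : Dich E₁) (h₂ : Dich E₂) : Dich (E₁ ∩ E₂) := by
  rw [dich_iff] at h₁ h₂ ⊢
  rcases h₁ with h₁ | h₁
  · rcases h₂ with h₂ | h₂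
    · left
      rw [interior_inter]
      exact ⟨h₁, h₂⟩
    · right
      exact interior_mono (Set.compl_subset_compl.mpr Set.inter_subset_right) h₂
  · right
    exact interior_mono (Set.compl_subset_compl.mpr Set.inter_subset_left) h₁

theorem Dich.of_subset_of_compl {E E' : Set S} (h : genericPoint S ∈ interior E'ᶜ) (hsub : E ⊆ E') :
    Dich E := by
  rw [dich_iff]
  right
  exact interior_mono (Set.compl_subset_compl.mpr hsub) h

omit [QuasiSober S] in
theorem dich_of_isConstructible {E : Set S} (hE : IsConstructible E) : Dich E := by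
  rcases Groth.Agent.Lib.ConstrTop.dichotomy hE (IrreducibleSpace.isIrreducible_univ S) with
    ⟨U, hU, ⟨x, hxU, -⟩, hUE⟩ | ⟨U, hU, ⟨x, hxU, -⟩, hUE⟩
  · left
    refine ⟨x, mem_interior.mpr ⟨U, ?_, hU, hxU⟩⟩
    rwa [Set.inter_univ] at hUE
  · right
    refine ⟨x, mem_interior.mpr ⟨U, ?_, hU, hxU⟩⟩
    rwa [Set.inter_univ] at hUE

end Top

theorem dich_of_isLocallyConstructible {S : Scheme.{u}} [IsIntegral S] [IsNoetherian S] {E : Set S}
    (hE : IsLocallyConstructible E) : Dich E :=
  dich_of_isConstructible hE.isConstructible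

variable {P : ∀ ⦃X Y T : Scheme.{u}⦄, (X ⟶ Y) → (Y ⟶ T) → Prop}

/-- The dichotomy for `(f, g)` over `S` follows from the dichotomy for a base change along a
morphism locally of finite type `q : W ⟶ S` from an irreducible scheme sending generic point to
generic point. -/
theorem dich_of_baseChange (hP : ConsProp.IsFieldStableMor P)
    {X X' Y Y' S W : Scheme.{u}} {f : X ⟶ Y} {g : Y ⟶ S} {f' : X' ⟶ Y'} {g' : Y' ⟶ W}
    {eX : X' ⟶ X} {eY : Y' ⟶ Y} {q : W ⟶ S} [IrreducibleSpace S] [IrreducibleSpace W]
    [LocallyOfFiniteType q] (hq : q (genericPoint W) = genericPoint S)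
    [LocallyOfFiniteType g] [QuasiCompact g]
    [LocallyOfFiniteType (f ≫ g)] [QuasiCompact (f ≫ g)]
    (hY : IsPullback eY g' g q) (hX : IsPullback eX f' f eY)
    (H : Dich (ConsProp.locusMor P f' g')) : Dich (ConsProp.locusMor P f g) := by
  have he : ConsProp.locusMor P f' g' = q ⁻¹' ConsProp.locusMor P f g :=
    locusMor_eq_preimage hP hY hX
  have key : ∀ E : Set S, genericPoint W ∈ interior (q ⁻¹' E) → genericPoint S ∈ interior E := by
    intro E hE
    let U : W.Opens := ⟨interior (q ⁻¹' E), isOpen_interior⟩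
    have h0 : genericPoint S ∈ q '' (U : Set W) := ⟨genericPoint W, hE, hq⟩
    obtain ⟨V, hηV, hV⟩ := Groth.Agent.Lib.H77GenImageOpen.exists_opens_subset_image_open q U h0
    refine mem_interior.mpr ⟨V, ?_, V.isOpen, hηV⟩
    intro s hs
    obtain ⟨w, hw, rfl⟩ := hV hs
    exact (interior_subset (s := q ⁻¹' E)) hw
  rw [dich_iff] at H ⊢
  rw [he] at H
  rcases H with H | H
  · exact Or.inl (key _ H)
  · exact Or.inr (key _ (by rwa [Set.preimage_compl]))

/-- The reduced induced closed subscheme on the closure of a point is integral, and its generic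
point maps to the given point. -/
theorem exists_integral_closure_point {W : Scheme.{u}} (w : W) :
    ∃ (W' : Scheme.{u}) (i : W' ⟶ W) (_ : IsIntegral W'), IsClosedImmersion i ∧
      i (genericPoint W') = w := by
  let A : Closeds W := ⟨closure {w}, isClosed_closure⟩
  let i := redSubι A
  have hr : Set.range i = closure {w} := range_redSubι A
  have hirr : IsIrreducible (closure ({w} : Set W)) := isIrreducible_singleton.closure
  haveI : IrreducibleSpace (redSub A) := by
    have h1 : IsIrreducible (Set.univ : Set (redSub A)) := by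
      apply Groth.Agent.Lib.H77TopDecomp.isIrreducible_of_image i.isEmbedding.isInducing
      rw [Set.image_univ, hr]
      exact hirr
    exact irreducibleSpace_def _ |>.mpr h1
  haveI : IsIntegral (redSub A) := isIntegral_of_irreducibleSpace_of_isReduced _
  refine ⟨redSub A, i, inferInstance, inferInstance, ?_⟩
  have hg : IsGenericPoint (i (genericPoint (redSub A))) (closure {w}) := by
    have h2 : closure ({genericPoint (redSub A)} : Set (redSub A)) = Set.univ :=
      (genericPoint_spec (redSub A)).def
    rw [IsGenericPoint, ← Set.image_singleton, i.isClosedEmbedding.closure_image_eq, h2,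
      Set.image_univ, hr]
  exact hg.eq isGenericPoint_closure

/-- If `Q` descends along limits and holds for the map of generic fibres, then it holds after a base
change along a morphism of finite type from an integral scheme which maps the generic point to the
generic point. -/
theorem exists_integral_model (Q : MorphismProperty Scheme.{u}) [Q.RespectsIso]
    [Q.IsStableUnderBaseChange] (hQ : DescendsAlongLimit Q) {X Y S : Scheme.{u}} [IsIntegral S]
    [IsNoetherian S] (f : X ⟶ Y) (g : Y ⟶ S) [LocallyOfFiniteType g] [QuasiCompact g]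
    [LocallyOfFiniteType (f ≫ g)] [QuasiCompact (f ≫ g)]
    (hη : Q (bcMap f g (S.fromSpecResidueField (genericPoint S)))) :
    ∃ (W : Scheme.{u}) (_ : IsIntegral W) (q : W ⟶ S), LocallyOfFiniteType q ∧ QuasiCompact q ∧
      q (genericPoint W) = genericPoint S ∧ Q (bcMap f g q) := by
  obtain ⟨W₀, q₀, b', hqft, hqqc, hbq, hQW⟩ :=
    Groth.Agent.Lib.ConsMorInst.exists_finiteType_model_mor Q hQ f g
      (S.fromSpecResidueField (genericPoint S)) hη
  obtain ⟨pt⟩ := (inferInstance : Nonempty ↥(Spec (S.residueField (genericPoint S))))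
  obtain ⟨W, i, hint, hci, hiw⟩ := exists_integral_closure_point (b' pt)
  refine ⟨W, hint, i ≫ q₀, inferInstance, inferInstance, ?_, ?_⟩
  · rw [Scheme.Hom.comp_apply, hiw]
    have h1 : q₀ (b' pt) = (S.fromSpecResidueField (genericPoint S)) pt := by rw [← hbq]; rfl
    have h2 : (S.fromSpecResidueField (genericPoint S)) pt ∈
        Set.range (S.fromSpecResidueField (genericPoint S)) := ⟨pt, rfl⟩
    rw [Scheme.range_fromSpecResidueField] at h2
    rw [h1]; exact h2
  · obtain ⟨pY, gY, pX, hY, hX⟩ := Groth.Agent.Lib.ConsMorInst.isBC_of_comp q₀ i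
      (isBC_bcMap f g (i ≫ q₀))
    exact MorphismProperty.of_isPullback hX hQW

/-- The conjunction of two properties descending along limits descends along limits. -/
theorem descendsAlongLimit_inf {P₁ P₂ : MorphismProperty Scheme.{u}}
    [P₁.IsStableUnderBaseChange] [P₂.IsStableUnderBaseChange]
    (h₁ : DescendsAlongLimit P₁) (h₂ : DescendsAlongLimit P₂) : DescendsAlongLimit (P₁ ⊓ P₂) := by
  intro I _ _ D c hc _ i₀ X₀ Y₀ f₀ g₀ _ _ _ _ _ _ _ h
  obtain ⟨j₁, hj₁⟩ := h₁ D c hc f₀ g₀ h.1
  obtain ⟨j₂, hj₂⟩ := h₂ D c hc f₀ g₀ h.2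
  have key : ∀ (j j' : Over i₀) (a : j ⟶ j') (P : MorphismProperty Scheme.{u})
      [P.IsStableUnderBaseChange], P (bcMap f₀ g₀ (D.map j'.hom)) →
      P (bcMap f₀ g₀ (D.map j.hom)) := by
    intro j j' a P _ hP
    have e : D.map a.left ≫ D.map j'.hom = D.map j.hom := by rw [← D.map_comp, Over.w a]
    have H : IsBC f₀ g₀ (D.map a.left ≫ D.map j'.hom) (bcMap f₀ g₀ (D.map j.hom)) := by
      rw [e]; exact isBC_bcMap _ _ _
    obtain ⟨pY, gY, pX, hY, hX⟩ :=
      Groth.Agent.Lib.ConsMorInst.isBC_of_comp (D.map j'.hom) (D.map a.left) H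
    exact MorphismProperty.of_isPullback hX hP
  exact ⟨IsCofiltered.min j₁ j₂, key _ _ (IsCofiltered.minToLeft j₁ j₂) P₁ hj₁,
    key _ _ (IsCofiltered.minToRight j₁ j₂) P₂ hj₂⟩

end Groth.Agent.Lib.H77ConsMorTools
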