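import Groth.Agent.Lib.LocConst5E
import Groth.Agent.Lib.DescFPSpread
import Groth.Agent.Lib.H77ProperLim
import Groth.Agent.Lib.H72FlatDescentSch
import Groth.Agent.Lib.H77ConsMorTools

/-!
# Local constancy of the number of geometric components, part F (helper5): non-Noetherian bases

For `f` proper, flat and of finite presentation over an arbitrary base, by Noetherian approximation
(helper62 `DescFP.exists_model_over_fg`, helper77 `descends_isProper`, helper72 `descends_flat`):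
* `exists_nhds_nGeomConnComp_le_of_flat`: `n` is lower semicontinuous (S1363);
* `exists_nhds_nGeomConnComp_eq_of_flat`: `n` is constant near a point with geometrically reduced
  fibre (S1364).
-/

set_option autoImplicit false
universe u

open CategoryTheory CategoryTheory.Limits AlgebraicGeometry TopologicalSpace Opposite Topology

namespace Groth.Agent.Lib.LocConst5

open Groth.Agent.Lib.GeomCompLSC5 Groth.Agent.Lib.H77GeomRedSch
  Groth.Agent.Lib.ProperFinHyp Groth.Agent.Lib.ConnFib5 Groth.Agent.Lib.SpreadPair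

theorem isUnivOpenAt_of_universallyOpen {X Y : Scheme.{u}} (f : X ⟶ Y) [UniversallyOpen f]
    (x : X) : EGA43.IsUnivOpenAt f x :=
  fun _ g x' _ => isOpenAt_of_isOpenMap (pullback.snd f g).isOpenMap x'

/-- Noetherian approximation of a proper flat finitely presented morphism over an affine base. -/
theorem exists_noetherian_model (A : Type u) [CommRing A] {X : Scheme.{u}}
    (f : X ⟶ Spec (CommRingCat.of A)) [IsProper f] [Flat f] [LocallyOfFinitePresentation f] :
    ∃ (A₀ : Type u) (_ : CommRing A₀) (_ : IsNoetherianRing A₀) (φ : A₀ →+* A) (X₀ : Scheme.{u})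
      (f₀ : X₀ ⟶ Spec (CommRingCat.of A₀)) (g : X ⟶ X₀),
      IsProper f₀ ∧ Flat f₀ ∧ LocallyOfFinitePresentation f₀ ∧
        IsPullback g f f₀ (Spec.map (CommRingCat.ofHom φ)) := by
  haveI : MorphismProperty.RespectsIso @Flat.{u} :=
    MorphismProperty.IsStableUnderBaseChange.respectsIso
  haveI : MorphismProperty.RespectsIso @IsProper.{u} :=
    MorphismProperty.IsStableUnderBaseChange.respectsIso
  haveI : (@IsProper.{u} ⊓ @Flat.{u} : MorphismProperty Scheme.{u}).RespectsIso :=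
    MorphismProperty.RespectsIso.inf _ _
  obtain ⟨A₀, hA₀, X₀, f₀, g, ⟨h1, h2⟩, h3, -, -, sq⟩ :=
    Groth.Agent.Lib.DescFP.exists_model_over_fg (@IsProper.{u} ⊓ @Flat.{u})
      (Groth.Agent.Lib.H77ConsMorTools.descendsAlongLimit_inf
        Groth.Agent.Lib.H77ProperLim.descends_isProper
        Groth.Agent.Lib.H72FlatDescentSch.descends_flat) A f ⟨‹_›, ‹_›⟩
  haveI : Algebra.FiniteType ℤ ↥A₀ := (Subalgebra.fg_iff_finiteType A₀).mp hA₀
  haveI : IsNoetherianRing ↥A₀ := Algebra.FiniteType.isNoetherianRing ℤ ↥A₀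
  exact ⟨↥A₀, inferInstance, inferInstance, algebraMap ↥A₀ A, X₀, f₀, g, h1, h2, h3, sq⟩

section Affine

variable (H2 : Hyp.{u}) (H58 : Hyp58.{u}) (A : Type u) [CommRing A] {X : Scheme.{u}}
  (f : X ⟶ Spec (CommRingCat.of A)) [IsProper f] [Flat f] [LocallyOfFinitePresentation f]

include H2 H58

theorem exists_nhds_nGeomConnComp_le_affine (s : Spec (CommRingCat.of A)) :
    ∃ V ∈ nhds s, ∀ z ∈ V, MoreMor.nGeomConnComp f s ≤ MoreMor.nGeomConnComp f z := by
  obtain ⟨A₀, _, _, φ, X₀, f₀, g, h1, h2, h3, sq⟩ := exists_noetherian_model A f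
  have e := fun z => Groth.Agent.Lib.GeomFibBC13.nGeomConnComp_eq sq z
  obtain ⟨V₀, hV₀, hV₀'⟩ := exists_nhds_nGeomConnComp_le H2 H58 f₀
    ((Spec.map (CommRingCat.ofHom φ)).base s) (fun x _ => isUnivOpenAt_of_universallyOpen f₀ x)
  refine ⟨(Spec.map (CommRingCat.ofHom φ)).base ⁻¹' V₀,
    (Spec.map (CommRingCat.ofHom φ)).continuous.continuousAt.preimage_mem_nhds hV₀, fun z hz => ?_⟩
  rw [e s, e z]
  exact hV₀' _ hz

theorem exists_nhds_nGeomConnComp_eq_affine (s : Spec (CommRingCat.of A)) (hs : GRF f s) :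
    ∃ V ∈ nhds s, ∀ z ∈ V, MoreMor.nGeomConnComp f z = MoreMor.nGeomConnComp f s := by
  obtain ⟨A₀, _, _, φ, X₀, f₀, g, h1, h2, h3, sq⟩ := exists_noetherian_model A f
  have e := fun z => Groth.Agent.Lib.GeomFibBC13.nGeomConnComp_eq sq z
  have hs₀ : GRF f₀ ((Spec.map (CommRingCat.ofHom φ)).base s) :=
    (geomRedFiber_iff_of_isPullback f₀ (Spec.map (CommRingCat.ofHom φ)) f g sq s).mp hs
  obtain ⟨V₀, hV₀, hV₀'⟩ := exists_nhds_nGeomConnComp_eq H2 H58 f₀
    ((Spec.map (CommRingCat.ofHom φ)).base s) (fun x _ => isUnivOpenAt_of_universallyOpen f₀ x) hs₀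
  refine ⟨(Spec.map (CommRingCat.ofHom φ)).base ⁻¹' V₀,
    (Spec.map (CommRingCat.ofHom φ)).continuous.continuousAt.preimage_mem_nhds hV₀, fun z hz => ?_⟩
  rw [e s, e z]
  exact hV₀' _ hz

end Affine

section General

variable (H2 : Hyp.{u}) (H58 : Hyp58.{u}) {X S : Scheme.{u}}
  (f : X ⟶ S) [IsProper f] [Flat f] [LocallyOfFinitePresentation f]

include H2 H58

/-- **S1363 (hypothesis form).** -/
theorem exists_nhds_nGeomConnComp_le_of_flat (s : S) :
    ∃ V ∈ nhds s, ∀ z ∈ V, MoreMor.nGeomConnComp f s ≤ MoreMor.nGeomConnComp f z := by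
  obtain ⟨R, j, hjo, s₀, rfl⟩ : ∃ (R : CommRingCat.{u}) (j : Spec R ⟶ S),
      IsOpenImmersion j ∧ ∃ s₀, j.base s₀ = s :=
    ⟨_, S.affineCover.f (S.affineCover.idx s), S.affineCover.map_prop _, S.affineCover.covers s⟩
  have hc : IsPullback (pullback.fst f j) (pullback.snd f j) f j := IsPullback.of_hasPullback f j
  have e := fun z => Groth.Agent.Lib.GeomFibBC13.nGeomConnComp_eq hc z
  obtain ⟨V₀, hV₀, hV₀'⟩ := exists_nhds_nGeomConnComp_le_affine H2 H58 ↑R (pullback.snd f j) s₀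
  refine ⟨j.base '' V₀, j.isOpenEmbedding.isOpenMap.image_mem_nhds hV₀, ?_⟩
  rintro _ ⟨z, hz, rfl⟩
  rw [← e, ← e]
  exact hV₀' z hz

/-- **S1364 (pointwise hypothesis form).** -/
theorem exists_nhds_nGeomConnComp_eq_of_flat (s : S) (hs : GRF f s) :
    ∃ V ∈ nhds s, ∀ z ∈ V, MoreMor.nGeomConnComp f z = MoreMor.nGeomConnComp f s := by
  obtain ⟨R, j, hjo, s₀, rfl⟩ : ∃ (R : CommRingCat.{u}) (j : Spec R ⟶ S),
      IsOpenImmersion j ∧ ∃ s₀, j.base s₀ = s :=
    ⟨_, S.affineCover.f (S.affineCover.idx s), S.affineCover.map_prop _, S.affineCover.covers s⟩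
  have hc : IsPullback (pullback.fst f j) (pullback.snd f j) f j := IsPullback.of_hasPullback f j
  have e := fun z => Groth.Agent.Lib.GeomFibBC13.nGeomConnComp_eq hc z
  have hs₀ : GRF (pullback.snd f j) s₀ :=
    (geomRedFiber_iff_of_isPullback f j (pullback.snd f j) (pullback.fst f j) hc s₀).mpr hs
  obtain ⟨V₀, hV₀, hV₀'⟩ :=
    exists_nhds_nGeomConnComp_eq_affine H2 H58 ↑R (pullback.snd f j) s₀ hs₀
  refine ⟨j.base '' V₀, j.isOpenEmbedding.isOpenMap.image_mem_nhds hV₀, ?_⟩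
  rintro _ ⟨z, hz, rfl⟩
  rw [← e, ← e]
  exact hV₀' z hz

theorem lowerSemicontinuous_nGeomConnComp :
    LowerSemicontinuous (fun s : S => MoreMor.nGeomConnComp f s) := by
  intro s c hc
  obtain ⟨V, hV, hV'⟩ := exists_nhds_nGeomConnComp_le_of_flat H2 H58 f s
  exact Filter.mem_of_superset hV fun z hz => lt_of_lt_of_le hc (hV' z hz)

theorem isLocallyConstant_nGeomConnComp [GeometricallyReduced f] :
    IsLocallyConstant (fun s : S => MoreMor.nGeomConnComp f s) := by
  rw [IsLocallyConstant.iff_exists_open]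
  intro s
  obtain ⟨V, hV, hV'⟩ := exists_nhds_nGeomConnComp_eq_of_flat H2 H58 f s inferInstance
  obtain ⟨O, hOV, hO, hsO⟩ := mem_nhds_iff.mp hV
  exact ⟨O, hO, hsO, fun z hz => hV' z (hOV hz)⟩

end General

end Groth.Agent.Lib.LocConst5
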