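import Groth.Agent.Lib.GeomRedOpen5B
import Groth.Agent.Lib.H77GeomRedCons
import Groth.Agent.Lib.LocConst5F

/-!
# Openness of the geometrically reduced locus, part C (helper5): the theorem

* `isOpen_geomRedFiber_of_isLocallyNoetherian`: for `f` proper, flat, of finite presentation over a
  locally Noetherian base, the locus of geometrically reduced fibres is open (constructibility,
  helper77, plus stability under generization, part B);
* `isOpen_geomRedFiber`: the same over an arbitrary base, by Noetherian approximation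
  (EGA IV 12.2.4 (v), S0435);
* `isOpen_geomRedFiber_inter_nGeomConnComp_eq`: S5935 in hypothesis form.
-/

set_option autoImplicit false
set_option linter.style.haveILetI false
set_option linter.unusedSectionVars false
universe u

open CategoryTheory CategoryTheory.Limits AlgebraicGeometry TopologicalSpace Opposite IsLocalRing
  Topology TensorProduct

namespace Groth.Agent.Lib.GeomRedOpen5

open Groth.Agent.Lib.H77GeomRedSch Groth.Agent.Lib.ProperFinHyp Groth.Agent.Lib.ConnFib5

/-- Over a locally Noetherian base, the locus of geometrically reduced fibres of a proper flat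
morphism of finite presentation is open. -/
theorem isOpen_geomRedFiber_of_isLocallyNoetherian {X Y : Scheme.{u}} [IsLocallyNoetherian Y]
    (f : X ⟶ Y) [IsProper f] [Flat f] [LocallyOfFinitePresentation f] :
    IsOpen {y : Y | GRF f y} := by
  rw [isOpen_iff_mem_nhds]
  intro y hy
  exact Groth.Agent.Lib.LocConst5.mem_nhds_of_forall_specializes
    (Groth.Agent.Lib.H77GeomRedCons.isLocallyConstructible_geomRedFiber f) y
    (fun z hz => geomRedFiber_of_specializes f hz hy)

/-- The affine case of `isOpen_geomRedFiber`, by Noetherian approximation. -/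
theorem isOpen_geomRedFiber_affine (A : Type u) [CommRing A] {X : Scheme.{u}}
    (f : X ⟶ Spec (CommRingCat.of A)) [IsProper f] [Flat f] [LocallyOfFinitePresentation f] :
    IsOpen {y : Spec (CommRingCat.of A) | GRF f y} := by
  obtain ⟨A₀, _, _, φ, X₀, f₀, g, h1, h2, h3, sq⟩ :=
    Groth.Agent.Lib.LocConst5.exists_noetherian_model A f
  haveI : IsLocallyNoetherian (Spec (CommRingCat.of A₀)) := inferInstance
  have h0 := isOpen_geomRedFiber_of_isLocallyNoetherian f₀
  have e : {y : Spec (CommRingCat.of A) | GRF f y} =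
      (Spec.map (CommRingCat.ofHom φ)).base ⁻¹' {y | GRF f₀ y} := by
    ext y
    exact geomRedFiber_iff_of_isPullback f₀ (Spec.map (CommRingCat.ofHom φ)) f g sq y
  rw [e]
  exact h0.preimage (Spec.map (CommRingCat.ofHom φ)).continuous

/-- **EGA IV 12.2.4 (v) (S0435).**  For a flat proper morphism of finite presentation, the points
of the target whose fibre is geometrically reduced form an open subset. -/
theorem isOpen_geomRedFiber {X Y : Scheme.{u}} (f : X ⟶ Y) [IsProper f] [Flat f]
    [LocallyOfFinitePresentation f] : IsOpen {y : Y | GRF f y} := by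
  rw [isOpen_iff_mem_nhds]
  intro s hs
  obtain ⟨R, j, hjo, s₀, rfl⟩ : ∃ (R : CommRingCat.{u}) (j : Spec R ⟶ Y),
      IsOpenImmersion j ∧ ∃ s₀, j.base s₀ = s :=
    ⟨_, Y.affineCover.f (Y.affineCover.idx s), Y.affineCover.map_prop _, Y.affineCover.covers s⟩
  have hc : IsPullback (pullback.fst f j) (pullback.snd f j) f j := IsPullback.of_hasPullback f j
  have e := fun z => geomRedFiber_iff_of_isPullback f j (pullback.snd f j) (pullback.fst f j) hc z
  have h0 : IsOpen {z : Spec R | GRF (pullback.snd f j) z} :=
    isOpen_geomRedFiber_affine ↑R (pullback.snd f j)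
  have hs₀ : s₀ ∈ {z : Spec R | GRF (pullback.snd f j) z} := (e s₀).mpr hs
  refine Filter.mem_of_superset (j.isOpenEmbedding.isOpenMap.image_mem_nhds (h0.mem_nhds hs₀)) ?_
  rintro _ ⟨z, hz, rfl⟩
  exact (e z).mp hz

/-- **S5935 (hypothesis form).** -/
theorem isOpen_geomRedFiber_inter_nGeomConnComp_eq (H2 : Hyp.{u}) (H58 : Hyp58.{u})
    {X Y : Scheme.{u}} (f : X ⟶ Y) [IsProper f] [Flat f] [LocallyOfFinitePresentation f] (k : ℕ) :
    IsOpen {y : Y | GRF f y ∧ MoreMor.nGeomConnComp f y = k} := by
  rw [isOpen_iff_mem_nhds]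
  rintro s ⟨hs, hk⟩
  obtain ⟨V, hV, hV'⟩ := Groth.Agent.Lib.LocConst5.exists_nhds_nGeomConnComp_eq_of_flat H2 H58 f s hs
  have h1 : {y : Y | GRF f y} ∈ nhds s := (isOpen_geomRedFiber f).mem_nhds hs
  refine Filter.mem_of_superset (Filter.inter_mem h1 hV) ?_
  rintro z ⟨hz1, hz2⟩
  exact ⟨hz1, (hV' z hz2).trans hk⟩

end Groth.Agent.Lib.GeomRedOpen5
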