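import Mathlib
import Groth.Agent.Lib.ShBaseChange61
import Groth.Agent.Lib.DiagFlat
import Groth.Agent.Lib.HznWeaklyEtale96
import Groth.Agent.Lib.StrictHenselizationMax
import Groth.Agent.Lib.StrictHenselizationProps
import Groth.Agent.S2135

/-!
# Geometric unibranchness descends along flat local homomorphisms (helper61)

* `hasUniqueMinimalPrime_of_faithfullyFlat`: a ring over which a ring with a unique minimal prime
  is faithfully flat has a unique minimal prime.
* `flat_sh_of_flat`: for a flat local homomorphism `A → B` of local rings, any compatible map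
  `A^sh → B^sh` is a flat local homomorphism.
* `isGeomUnibranch_of_flat_local`: if `A → B` is a flat local homomorphism of local rings and `B`
  is geometrically unibranch then so is `A`.
-/

set_option autoImplicit false
universe u

namespace Groth.Agent.Lib.GeomUnibranchFlatDescent61

open IsLocalRing

theorem hasUniqueMinimalPrime_of_faithfullyFlat (A B : Type u) [CommRing A] [CommRing B]
    [Algebra A B] [Module.FaithfullyFlat A B] (h : CAlgX.HasUniqueMinimalPrime B) :
    CAlgX.HasUniqueMinimalPrime A := by
  obtain ⟨q₀, hq₀, hq₀uniq⟩ := h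
  have hq₀p : q₀.IsPrime := hq₀.1.1
  have key : ∀ p : Ideal A, p ∈ minimalPrimes A → p = q₀.comap (algebraMap A B) := by
    intro p hp
    have hpp : p.IsPrime := hp.1.1
    obtain ⟨Q, hQ⟩ := PrimeSpectrum.comap_surjective_of_faithfullyFlat (A := A) (B := B) ⟨p, hpp⟩
    obtain ⟨q, hqmin, hqle⟩ := Ideal.exists_minimalPrimes_le (bot_le : ⊥ ≤ Q.asIdeal)
    have hq : q = q₀ := hq₀uniq q hqmin
    have h1 : q₀.comap (algebraMap A B) ≤ p := by
      have h2 : Q.asIdeal.comap (algebraMap A B) = p := congrArg PrimeSpectrum.asIdeal hQ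
      rw [← h2, ← hq]
      exact Ideal.comap_mono hqle
    have hcp : (q₀.comap (algebraMap A B)).IsPrime := Ideal.comap_isPrime _ _
    exact le_antisymm (hp.2 ⟨hcp, bot_le⟩ h1) h1
  have hnt : Nontrivial A := by
    have : Nontrivial B := ⟨⟨0, 1, fun h01 => hq₀p.ne_top ((Ideal.eq_top_iff_one _).mpr
      (h01 ▸ q₀.zero_mem))⟩⟩
    exact (algebraMap A B).domain_nontrivial
  obtain ⟨p, hp⟩ := Ideal.nonempty_minimalPrimes (I := (⊥ : Ideal A)) (by simp)
  exact ⟨p, hp, fun p' hp' => (key p' hp').trans (key p hp).symm⟩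

theorem isGeomUnibranch_of_flat_local (A B : Type u) [CommRing A] [IsLocalRing A] [CommRing B]
    [IsLocalRing B] [Algebra A B] [IsLocalHom (algebraMap A B)] [Module.Flat A B]
    (h : CAlg2.IsGeomUnibranch B) : CAlg2.IsGeomUnibranch A := by
  let SA := Groth.Agent.Lib.StrictHenselization.Sh A
  let SB := Groth.Agent.Lib.StrictHenselization.Sh B
  obtain ⟨ρ, hρ⟩ := Groth.Agent.Lib.ShBaseChange61.exists_lift' A SA B SB
  let _ : Algebra SA SB := ρ.toAlgebra
  let _ : Algebra A SB := ((algebraMap B SB).comp (algebraMap A B)).toAlgebra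
  have htower : IsScalarTower A B SB := .of_algebraMap_eq fun _ => rfl
  have htower' : IsScalarTower A SA SB := .of_algebraMap_eq fun a =>
    (congrArg (fun k : A →+* SB => k a) hρ).symm
  have hflB : Module.Flat B SB := inferInstance
  have hflA : Module.Flat A SB := Module.Flat.trans A B SB
  have hWE : Algebra.WeaklyEtale A SA := inferInstance
  have hfl : Module.Flat SA SB :=
    Groth.Agent.Lib.DiagFlat.flat_of_flat_lmul' (Algebra.WeaklyEtale.flat_lmul' A SA) SB
  have hlocA : IsLocalHom (algebraMap A SB) :=
    RingHom.isLocalHom_comp (algebraMap B SB) (algebraMap A B)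
  have hloc : IsLocalHom (algebraMap SA SB) := by
    refine ⟨fun x hx => ?_⟩
    by_contra hx'
    have h1 : x ∈ maximalIdeal SA := hx'
    rw [← Groth.Agent.Lib.StrictHenselizationMax.map_maximalIdeal_eq A SA] at h1
    have h2 : Ideal.map (algebraMap A SA) (maximalIdeal A) ≤
        (maximalIdeal SB).comap (algebraMap SA SB) := by
      rw [Ideal.map_le_iff_le_comap]
      intro a ha
      rw [Ideal.mem_comap, Ideal.mem_comap, ← IsScalarTower.algebraMap_apply A SA SB]
      exact map_nonunit (algebraMap A SB) a ha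
    exact (h2 h1) hx
  have hff : Module.FaithfullyFlat SA SB := Module.FaithfullyFlat.of_flat_of_isLocalHom
  rw [Groth.Agent.S2135.result (A := A) (Ash := SA)]
  rw [Groth.Agent.S2135.result (A := B) (Ash := SB)] at h
  exact hasUniqueMinimalPrime_of_faithfullyFlat SA SB h

end Groth.Agent.Lib.GeomUnibranchFlatDescent61
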