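import Mathlib
import Groth.Agent.Lib.WeaklyEtaleStalk61
import Groth.Agent.Lib.WeaklyEtaleStrictHens61
import Groth.Agent.Lib.HenselizationDim
import Groth.Agent.Lib.WEtaleNormalLocal22
import Groth.Agent.S2135

/-!
# Geometric unibranchness is local for weakly étale morphisms (helper61)

* `isGeomUnibranch_stalk_iff_of_weaklyEtale`: for a weakly étale morphism `f : X ⟶ Y` and `x : X`,
  `𝒪_{Y, f x}` is geometrically unibranch iff `𝒪_{X, x}` is (both have the same strict
  henselization).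
* `ringKrullDim_stalk_le_of_weaklyEtale`: `dim 𝒪_{Y, f x} ≤ dim 𝒪_{X, x}`.
* `weaklyEtale_fromSpecStalk`: `Spec 𝒪_{X,x} ⟶ X` is weakly étale.
-/

set_option autoImplicit false
universe u
open CategoryTheory CategoryTheory.Limits AlgebraicGeometry

namespace Groth.Agent.Lib.GeomUnibranchWeaklyEtale61

open Groth.Agent.Lib.WeaklyEtaleStalk61

theorem isGeomUnibranch_stalk_iff_of_weaklyEtale {X Y : Scheme.{u}} (f : X ⟶ Y)
    (hf : WeaklyEtale f) (x : X) :
    CAlg2.IsGeomUnibranch ↑(Y.presheaf.stalk (f x)) ↔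
      CAlg2.IsGeomUnibranch ↑(X.presheaf.stalk x) := by
  let T := Groth.Agent.Lib.StrictHenselization.Sh ↑(X.presheaf.stalk x)
  let _ : Algebra ↑(Y.presheaf.stalk (f x)) ↑(X.presheaf.stalk x) := (f.stalkMap x).hom.toAlgebra
  let _ : Algebra ↑(Y.presheaf.stalk (f x)) T :=
    ((algebraMap ↑(X.presheaf.stalk x) T).comp (f.stalkMap x).hom).toAlgebra
  have htower : IsScalarTower ↑(Y.presheaf.stalk (f x)) ↑(X.presheaf.stalk x) T :=
    .of_algebraMap_eq fun _ => rfl
  have hloc : IsLocalHom (algebraMap ↑(Y.presheaf.stalk (f x)) T) :=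
    RingHom.isLocalHom_comp (algebraMap ↑(X.presheaf.stalk x) T) (f.stalkMap x).hom
  have hWE : Algebra.WeaklyEtale ↑(Y.presheaf.stalk (f x)) ↑(X.presheaf.stalk x) :=
    WE_stalkMap f hf x
  have hsh : Hensel.IsStrictHenselization ↑(Y.presheaf.stalk (f x)) T :=
    Groth.Agent.Lib.WeaklyEtaleStrictHens61.isStrictHenselization_of_weaklyEtale
      ↑(Y.presheaf.stalk (f x)) ↑(X.presheaf.stalk x) T
  rw [Groth.Agent.S2135.result (A := ↑(Y.presheaf.stalk (f x))) (Ash := T),
    Groth.Agent.S2135.result (A := ↑(X.presheaf.stalk x)) (Ash := T)]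

theorem ringKrullDim_stalk_le_of_weaklyEtale {X Y : Scheme.{u}} (f : X ⟶ Y)
    (hf : WeaklyEtale f) (x : X) :
    ringKrullDim ↑(Y.presheaf.stalk (f x)) ≤ ringKrullDim ↑(X.presheaf.stalk x) := by
  let _ : Algebra ↑(Y.presheaf.stalk (f x)) ↑(X.presheaf.stalk x) := (f.stalkMap x).hom.toAlgebra
  have hWE : Algebra.WeaklyEtale ↑(Y.presheaf.stalk (f x)) ↑(X.presheaf.stalk x) :=
    WE_stalkMap f hf x
  have hloc : IsLocalHom (algebraMap ↑(Y.presheaf.stalk (f x)) ↑(X.presheaf.stalk x)) :=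
    inferInstanceAs (IsLocalHom (f.stalkMap x).hom)
  have hfl : Module.Flat ↑(Y.presheaf.stalk (f x)) ↑(X.presheaf.stalk x) := inferInstance
  have hff : Module.FaithfullyFlat ↑(Y.presheaf.stalk (f x)) ↑(X.presheaf.stalk x) :=
    Module.FaithfullyFlat.of_flat_of_isLocalHom
  exact Groth.Agent.Lib.HenselizationDim.ringKrullDim_le_of_faithfullyFlat

theorem weaklyEtale_fromSpecStalk (X : Scheme.{u}) (x : X) : WeaklyEtale (X.fromSpecStalk x) := by
  obtain ⟨U, hU', hxU, -⟩ := TopologicalSpace.Opens.isBasis_iff_nbhd.mp X.isBasis_affineOpens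
      (TopologicalSpace.Opens.mem_top x)
  have hU : IsAffineOpen U := hU'
  rw [← hU.fromSpecStalk_eq_fromSpecStalk hxU]
  unfold IsAffineOpen.fromSpecStalk
  have h1 : WeaklyEtale (Spec.map (X.presheaf.germ U x hxU)) := by
    rw [weaklyEtale_SpecMap_iff]
    let _ : Algebra Γ(X, U) ↑(X.presheaf.stalk x) := X.presheaf.algebra_section_stalk ⟨x, hxU⟩
    have hloc : IsLocalization.AtPrime ↑(X.presheaf.stalk x) (hU.primeIdealOf ⟨x, hxU⟩).asIdeal :=
      hU.isLocalization_stalk ⟨x, hxU⟩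
    have := Groth.Agent.Lib.WEtaleNormalLocal22.weaklyEtale_of_isLocalization
      (hU.primeIdealOf ⟨x, hxU⟩).asIdeal.primeCompl ↑(X.presheaf.stalk x)
    exact this
  infer_instance

end Groth.Agent.Lib.GeomUnibranchWeaklyEtale61
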