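import Mathlib
import Groth.Prelude.Def_CAlgX
import Groth.Prelude.Def_CAlg2

/-!
# Connectedness of the punctured spectrum and uniqueness of the minimal prime (helper61)

Ring-level lemmas:

* `eq_of_mem_minimalPrimes_of_le`: if `O` is the localization of `S` at a prime `q` and the
  nilradical of `O` is prime, then `S` has at most one minimal prime below `q`.
* `hasUniqueMinimalPrime_of_connectedSpace_punctured`: a Noetherian local ring whose punctured
  spectrum is connected and such that every non-closed point lies on exactly one irreducible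
  component has a unique minimal prime.
* `connectedSpace_punctured_of_hasUniqueMinimalPrime`: conversely the punctured spectrum of a local
  ring with a unique minimal prime and at least two primes is connected.
* `nilradical_isPrime_of_isGeomUnibranch`.
-/

set_option autoImplicit false
universe u

namespace Groth.Agent.Lib.PuncturedSpecConnected61

open IsLocalRing

theorem nilradical_isPrime_of_isGeomUnibranch (B : Type u) [CommRing B] [IsLocalRing B]
    (h : CAlg2.IsGeomUnibranch B) : (nilradical B).IsPrime :=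
  (Ideal.Quotient.isDomain_iff_prime _).mp h.1.1

/-- If the localization of `S` at `q` has prime nilradical, there is at most one minimal prime of
`S` below `q`. -/
theorem eq_of_mem_minimalPrimes_of_le {S : Type*} [CommRing S] (q : Ideal S) [q.IsPrime]
    (O : Type*) [CommRing O] [Algebra S O] [IsLocalization.AtPrime O q]
    (hN : (nilradical O).IsPrime) {p₁ p₂ : Ideal S} (h₁ : p₁ ∈ minimalPrimes S)
    (h₂ : p₂ ∈ minimalPrimes S) (h₁q : p₁ ≤ q) (h₂q : p₂ ≤ q) : p₁ = p₂ := by
  have key : ∀ p : Ideal S, p ∈ minimalPrimes S → p ≤ q →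
      p = (nilradical O).comap (algebraMap S O) := by
    intro p hp hpq
    have hpp : p.IsPrime := hp.1.1
    have hdisj : Disjoint (q.primeCompl : Set S) (p : Set S) := by
      rw [Set.disjoint_left]
      intro a ha hap
      exact ha (hpq hap)
    have hmapp : (p.map (algebraMap S O)).IsPrime :=
      IsLocalization.isPrime_of_isPrime_disjoint q.primeCompl O p hpp hdisj
    have hcm : (p.map (algebraMap S O)).comap (algebraMap S O) = p :=
      IsLocalization.under_map_of_isPrime_disjoint q.primeCompl O hpp hdisj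
    have hle : nilradical O ≤ p.map (algebraMap S O) := nilradical_le_prime _
    have hle' : (nilradical O).comap (algebraMap S O) ≤ p := by
      rw [← hcm]
      exact Ideal.comap_mono hle
    have hNp : ((nilradical O).comap (algebraMap S O)).IsPrime := Ideal.comap_isPrime _ _
    exact le_antisymm (hp.2 ⟨hNp, bot_le⟩ hle') hle'
  rw [key p₁ h₁ h₁q, key p₂ h₂ h₂q]

theorem hasUniqueMinimalPrime_of_connectedSpace_punctured (S : Type u) [CommRing S]
    [IsLocalRing S] [IsNoetherianRing S]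
    [hconn : ConnectedSpace ↥({closedPoint S}ᶜ : Set (PrimeSpectrum S))]
    (H : ∀ q : PrimeSpectrum S, q ≠ closedPoint S → ∀ p₁ ∈ minimalPrimes S,
      ∀ p₂ ∈ minimalPrimes S, p₁ ≤ q.asIdeal → p₂ ≤ q.asIdeal → p₁ = p₂) :
    CAlgX.HasUniqueMinimalPrime S := by
  obtain ⟨⟨q₀, hq₀⟩⟩ := hconn.toNonempty
  obtain ⟨p₀, hp₀min, hp₀le⟩ := Ideal.exists_minimalPrimes_le (bot_le : ⊥ ≤ q₀.asIdeal)
  have hfin : (minimalPrimes S).Finite := minimalPrimes.finite_of_isNoetherianRing S
  have hclosed : ∀ p : Ideal S,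
      IsClosed {u : ↥({closedPoint S}ᶜ : Set (PrimeSpectrum S)) | p ≤ u.1.asIdeal} := by
    intro p
    have : {u : ↥({closedPoint S}ᶜ : Set (PrimeSpectrum S)) | p ≤ u.1.asIdeal} =
        Subtype.val ⁻¹' (PrimeSpectrum.zeroLocus (p : Set S)) := by
      ext u
      simp only [Set.mem_ofPred_eq, Set.mem_preimage, PrimeSpectrum.mem_zeroLocus,
        SetLike.coe_subset_coe]
    rw [this]
    exact (PrimeSpectrum.isClosed_zeroLocus _).preimage continuous_subtype_val
  have hcompl : {u : ↥({closedPoint S}ᶜ : Set (PrimeSpectrum S)) | p₀ ≤ u.1.asIdeal}ᶜ =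
      ⋃ p ∈ (minimalPrimes S \ {p₀}),
        {u : ↥({closedPoint S}ᶜ : Set (PrimeSpectrum S)) | p ≤ u.1.asIdeal} := by
    ext u
    simp only [Set.mem_compl_iff, Set.mem_ofPred_eq, Set.mem_iUnion, Set.mem_sdiff,
      Set.mem_singleton_iff, exists_prop]
    constructor
    · intro hu
      obtain ⟨p, hpmin, hple⟩ := Ideal.exists_minimalPrimes_le (bot_le : ⊥ ≤ u.1.asIdeal)
      exact ⟨p, ⟨hpmin, fun h => hu (h ▸ hple)⟩, hple⟩
    · rintro ⟨p, ⟨hpmin, hpne⟩, hple⟩ hp₀u
      exact hpne (H u.1 u.2 p hpmin p₀ hp₀min hple hp₀u)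
  have hclopen : IsClopen
      {u : ↥({closedPoint S}ᶜ : Set (PrimeSpectrum S)) | p₀ ≤ u.1.asIdeal} := by
    refine ⟨hclosed p₀, ?_⟩
    rw [← isClosed_compl_iff, hcompl]
    exact (hfin.subset Set.sdiff_subset).isClosed_biUnion fun p _ => hclosed p
  have huniv : {u : ↥({closedPoint S}ᶜ : Set (PrimeSpectrum S)) | p₀ ≤ u.1.asIdeal} =
      Set.univ := by
    rcases isClopen_iff.mp hclopen with h | h
    · have hmem : (⟨q₀, hq₀⟩ : ↥({closedPoint S}ᶜ : Set (PrimeSpectrum S))) ∈
          {u : ↥({closedPoint S}ᶜ : Set (PrimeSpectrum S)) | p₀ ≤ u.1.asIdeal} := hp₀le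
      rw [h] at hmem
      exact absurd hmem (Set.notMem_empty _)
    · exact h
  refine ⟨p₀, hp₀min, fun p hpmin => ?_⟩
  have hpp : p.IsPrime := hpmin.1.1
  by_cases hpm : (⟨p, hpp⟩ : PrimeSpectrum S) = closedPoint S
  · have hpm' : p = maximalIdeal S := congrArg PrimeSpectrum.asIdeal hpm
    have h1 : p₀ ≤ p := hpm' ▸ IsLocalRing.le_maximalIdeal hp₀min.1.1.ne_top
    exact le_antisymm (hpmin.2 ⟨hp₀min.1.1, bot_le⟩ h1) h1
  · have hu : (⟨⟨p, hpp⟩, hpm⟩ : ↥({closedPoint S}ᶜ : Set (PrimeSpectrum S))) ∈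
        {u : ↥({closedPoint S}ᶜ : Set (PrimeSpectrum S)) | p₀ ≤ u.1.asIdeal} := by
      rw [huniv]
      trivial
    have hu' : p₀ ≤ p := hu
    exact le_antisymm (hpmin.2 ⟨hp₀min.1.1, bot_le⟩ hu') hu'

theorem connectedSpace_punctured_of_hasUniqueMinimalPrime (S : Type u) [CommRing S]
    [IsLocalRing S] (h : CAlgX.HasUniqueMinimalPrime S)
    (hne : ∃ q : PrimeSpectrum S, q ≠ closedPoint S) :
    ConnectedSpace ↥({closedPoint S}ᶜ : Set (PrimeSpectrum S)) := by
  obtain ⟨p₀, hp₀min, hp₀uniq⟩ := h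
  obtain ⟨q, hq⟩ := hne
  have hp₀p : p₀.IsPrime := hp₀min.1.1
  have hall : ∀ Q : PrimeSpectrum S, p₀ ≤ Q.asIdeal := by
    intro Q
    obtain ⟨p, hpmin, hple⟩ := Ideal.exists_minimalPrimes_le (bot_le : ⊥ ≤ Q.asIdeal)
    rw [← hp₀uniq p hpmin]
    exact hple
  have hP₀ : (⟨p₀, hp₀p⟩ : PrimeSpectrum S) ∈ ({closedPoint S}ᶜ : Set (PrimeSpectrum S)) := by
    intro hmem
    have h1 : p₀ = maximalIdeal S := congrArg PrimeSpectrum.asIdeal hmem
    apply hq
    apply PrimeSpectrum.ext
    change q.asIdeal = maximalIdeal S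
    exact le_antisymm (IsLocalRing.le_maximalIdeal q.2.ne_top) (h1 ▸ hall q)
  have hsub : ({closedPoint S}ᶜ : Set (PrimeSpectrum S)) ⊆
      closure {(⟨p₀, hp₀p⟩ : PrimeSpectrum S)} := by
    intro Q _
    rw [← specializes_iff_mem_closure, ← PrimeSpectrum.le_iff_specializes]
    exact hall Q
  have hpre : IsPreconnected ({closedPoint S}ᶜ : Set (PrimeSpectrum S)) :=
    isPreconnected_singleton.subset_closure (Set.singleton_subset_iff.mpr hP₀) hsub
  exact isConnected_iff_connectedSpace.mp ⟨⟨_, hP₀⟩, hpre⟩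

end Groth.Agent.Lib.PuncturedSpecConnected61
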