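import Mathlib
import Groth.Agent.Lib.GeomUnibranchWeaklyEtale61
import Groth.Agent.Lib.PuncturedSpecConnected61
import Groth.Agent.Lib.StrictHenselizationProps
import Groth.Agent.Lib.StrictHenselizationMax

/-!
# The strict henselization of a stalk as a weakly étale scheme over `X` (helper61)

For a point `x` of a scheme `X` and a strict henselization `S` of `𝒪_{X,x}` we study
`toX x S : Spec S ⟶ X`.

* `exists_generization_ne`: a point whose closure is not an irreducible component has a proper
  generization.
* `weaklyEtale_toX`, `toX_specializes`, `eq_closedPoint_of_toX_eq`,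
  `eq_closedPoint_of_mem_irreducibleComponents`, `coheight_toX_lt`.
* `eq_of_mem_minimalPrimes_of_isGeomUnibranch`: if `𝒪_{X, toX Q}` is geometrically unibranch then
  `S` has at most one minimal prime below `Q`.
-/

set_option autoImplicit false
universe u
open CategoryTheory CategoryTheory.Limits AlgebraicGeometry IsLocalRing

namespace Groth.Agent.Lib.GeomUnibranchPunctured61

/-- If the closure of `x` is not an irreducible component, `x` has a proper generization. -/
theorem exists_generization_ne {X : Scheme.{u}} (x : X)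
    (hx : closure ({x} : Set X) ∉ irreducibleComponents X) : ∃ x' : X, x' ⤳ x ∧ x' ≠ x := by
  obtain ⟨t, ht, hxt, hmax⟩ := exists_preirreducible (closure ({x} : Set X))
    isIrreducible_singleton.closure.isPreirreducible
  have hxmem : x ∈ t := hxt (subset_closure rfl)
  have htirr : IsIrreducible t := ⟨⟨x, hxmem⟩, ht⟩
  have htmem : t ∈ irreducibleComponents X :=
    ⟨htirr, fun u hu htu => (hmax u hu.isPreirreducible htu).le⟩
  have htcl : IsClosed t := isClosed_of_mem_irreducibleComponents t htmem
  obtain ⟨η, hη⟩ := QuasiSober.sober htirr htcl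
  refine ⟨η, ?_, ?_⟩
  · rw [specializes_iff_mem_closure, hη.def]
    exact hxmem
  · rintro rfl
    exact hx (hη.def ▸ htmem)

section Ring

variable (A S : Type u) [CommRing A] [IsLocalRing A] [CommRing S] [IsLocalRing S] [Algebra A S]
  [IsLocalHom (algebraMap A S)] [Hensel.IsStrictHenselization A S]

/-- The closed point of a strict henselization is the only point over the closed point. -/
theorem eq_closedPoint_of_comap_eq (Q : PrimeSpectrum S)
    (hQ : PrimeSpectrum.comap (algebraMap A S) Q = closedPoint A) : Q = closedPoint S := by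
  apply PrimeSpectrum.ext
  change Q.asIdeal = maximalIdeal S
  refine le_antisymm (le_maximalIdeal Q.2.ne_top) ?_
  rw [← Groth.Agent.Lib.StrictHenselizationMax.map_maximalIdeal_eq A S, Ideal.map_le_iff_le_comap]
  have h1 : Q.asIdeal.comap (algebraMap A S) = maximalIdeal A :=
    congrArg PrimeSpectrum.asIdeal hQ
  rw [h1]

end Ring

section Scheme

variable {X : Scheme.{u}} (x : X) (S : Type u) [CommRing S] [IsLocalRing S]
  [Algebra ↑(X.presheaf.stalk x) S] [IsLocalHom (algebraMap ↑(X.presheaf.stalk x) S)]
  [Hensel.IsStrictHenselization ↑(X.presheaf.stalk x) S]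

/-- The canonical morphism `Spec S ⟶ X` for a strict henselization `S` of `𝒪_{X,x}`. -/
noncomputable def toX : Spec (CommRingCat.of S) ⟶ X :=
  Spec.map (CommRingCat.ofHom (algebraMap ↑(X.presheaf.stalk x) S)) ≫ X.fromSpecStalk x

omit [IsLocalRing S] [IsLocalHom (algebraMap ↑(X.presheaf.stalk x) S)]
  [Hensel.IsStrictHenselization ↑(X.presheaf.stalk x) S] in
theorem toX_apply (Q : PrimeSpectrum S) :
    (toX x S) Q = (X.fromSpecStalk x) (PrimeSpectrum.comap (algebraMap ↑(X.presheaf.stalk x) S) Q) :=
  rfl

theorem weaklyEtale_toX : WeaklyEtale (toX x S) := by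
  have h1 : WeaklyEtale (Spec.map (CommRingCat.ofHom (algebraMap ↑(X.presheaf.stalk x) S))) := by
    rw [Groth.Agent.Lib.WeaklyEtaleStalk61.weaklyEtale_SpecMap_iff]
    exact Groth.Agent.Lib.WeaklyEtaleStalk61.WE_algebraMap.mpr
      (Groth.Agent.Lib.HznWeaklyEtale96.weaklyEtale_of_isStrictHenselization
        ↑(X.presheaf.stalk x) S)
  have h2 : WeaklyEtale (X.fromSpecStalk x) :=
    Groth.Agent.Lib.GeomUnibranchWeaklyEtale61.weaklyEtale_fromSpecStalk X x
  unfold toX
  infer_instance

omit [IsLocalRing S] [IsLocalHom (algebraMap ↑(X.presheaf.stalk x) S)]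
  [Hensel.IsStrictHenselization ↑(X.presheaf.stalk x) S] in
theorem toX_specializes (Q : PrimeSpectrum S) : (toX x S) Q ⤳ x := by
  have : (toX x S) Q ∈ Set.range (X.fromSpecStalk x) := ⟨_, (toX_apply x S Q).symm⟩
  rwa [Scheme.range_fromSpecStalk] at this

theorem eq_closedPoint_of_toX_eq (Q : PrimeSpectrum S) (h : (toX x S) Q = x) :
    Q = closedPoint S := by
  apply eq_closedPoint_of_comap_eq ↑(X.presheaf.stalk x) S
  apply (X.fromSpecStalk x).isEmbedding.injective
  rw [← toX_apply, h]
  exact Scheme.fromSpecStalk_closedPoint.symm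

theorem eq_closedPoint_of_mem_irreducibleComponents
    (hx : closure ({x} : Set X) ∈ irreducibleComponents X) (Q : PrimeSpectrum S) :
    Q = closedPoint S := by
  apply eq_closedPoint_of_toX_eq x S Q
  have h1 : (toX x S) Q ⤳ x := toX_specializes x S Q
  have h2 : x ⤳ (toX x S) Q := by
    rw [specializes_iff_mem_closure]
    have hle : closure ({(toX x S) Q} : Set X) ≤ closure ({x} : Set X) :=
      hx.2 isIrreducible_singleton.closure
        (closure_minimal (Set.singleton_subset_iff.mpr h1.mem_closure) isClosed_closure)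
    exact hle (subset_closure rfl)
  exact (h1.antisymm h2).eq

theorem coheight_toX_lt (Q : PrimeSpectrum S) (hQ : Q ≠ closedPoint S)
    (hfin : Order.coheight x < ⊤) : Order.coheight ((toX x S) Q) < Order.coheight x := by
  have h1 : (toX x S) Q ⤳ x := toX_specializes x S Q
  have hlt : x < (toX x S) Q :=
    ⟨h1, fun h2 => hQ (eq_closedPoint_of_toX_eq x S Q (h1.antisymm h2).eq)⟩
  have hfin' : Order.coheight ((toX x S) Q) < ⊤ :=
    lt_of_le_of_lt (Order.coheight_anti hlt.le) hfin
  exact Order.coheight_strictAnti hlt hfin'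

set_option backward.isDefEq.respectTransparency.types false in
/-- If `𝒪_{X, toX Q}` is geometrically unibranch, there is at most one minimal prime of `S`
below `Q`. -/
theorem eq_of_mem_minimalPrimes_of_isGeomUnibranch (Q : PrimeSpectrum S)
    (hGU : CAlg2.IsGeomUnibranch ↑(X.presheaf.stalk ((toX x S) Q)))
    {p₁ p₂ : Ideal S} (h₁ : p₁ ∈ minimalPrimes S) (h₂ : p₂ ∈ minimalPrimes S)
    (h₁q : p₁ ≤ Q.asIdeal) (h₂q : p₂ ≤ Q.asIdeal) : p₁ = p₂ := by
  have hGUQ : CAlg2.IsGeomUnibranch ↑((Spec (CommRingCat.of S)).presheaf.stalk Q) :=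
    (Groth.Agent.Lib.GeomUnibranchWeaklyEtale61.isGeomUnibranch_stalk_iff_of_weaklyEtale
      (toX x S) (weaklyEtale_toX x S) Q).1 hGU
  have hN := Groth.Agent.Lib.PuncturedSpecConnected61.nilradical_isPrime_of_isGeomUnibranch _ hGUQ
  let k : Algebra S ↑((Spec (CommRingCat.of S)).presheaf.stalk Q) :=
    StructureSheaf.stalkAlgebra S Q
  have hloc : IsLocalization.AtPrime ↑((Spec (CommRingCat.of S)).presheaf.stalk Q) Q.asIdeal :=
    StructureSheaf.IsLocalization.to_stalk S Q
  exact Groth.Agent.Lib.PuncturedSpecConnected61.eq_of_mem_minimalPrimes_of_le Q.asIdeal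
    ↑((Spec (CommRingCat.of S)).presheaf.stalk Q) hN h₁ h₂ h₁q h₂q

end Scheme

end Groth.Agent.Lib.GeomUnibranchPunctured61
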