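import Mathlib.CategoryTheory.Sites.Canonical
import Mathlib.CategoryTheory.Sites.EffectiveEpimorphic
import Mathlib.CategoryTheory.Limits.VanKampen
import Mathlib.CategoryTheory.Limits.Shapes.DisjointCoproduct
import Mathlib.CategoryTheory.EffectiveEpi.Comp

/-!
# Canonical covers in a category with universal coproducts and universal effective epimorphisms

* `UnivEffEpi p`: every base change of `p` is an effective epimorphism.
* `ofArrows_mem_canonical`: the injections of a universal coproduct cofan generate a covering sieve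
  of the canonical topology.
* `UnivEffEpi.generate_singleton_mem_canonical`: a universally effective epimorphism generates a
  covering sieve of the canonical topology.
* consequences for sheaves for the canonical topology.
-/

set_option autoImplicit false
open CategoryTheory CategoryTheory.Limits Opposite
universe w w' v u

namespace Groth.Agent.Lib.Giraud

variable {E : Type v} [Category.{u} E]

/-- `p` is a universally effective epimorphism: every base change of `p` is an effective
epimorphism. -/
def UnivEffEpi {X₀ X : E} (p : X₀ ⟶ X) : Prop :=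
  ∀ ⦃P Y : E⦄ (fst : P ⟶ X₀) (snd : P ⟶ Y) (f : Y ⟶ X), IsPullback fst snd p f → EffectiveEpi snd

namespace UnivEffEpi

variable {X₀ X : E} {p : X₀ ⟶ X}

lemma of_forall_pullback_snd [HasPullbacks E]
    (h : ∀ (B' : E) (g : B' ⟶ X), EffectiveEpi (pullback.snd p g)) : UnivEffEpi p := by
  intro P Y fst snd f hpb
  have := h Y f
  rw [← hpb.isoPullback_hom_snd]
  infer_instance

lemma effectiveEpi (hp : UnivEffEpi p) : EffectiveEpi p :=
  hp (𝟙 X₀) p (𝟙 X) IsPullback.of_id_fst

lemma epi (hp : UnivEffEpi p) : Epi p :=
  have := hp.effectiveEpi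
  inferInstance

lemma of_isPullback (hp : UnivEffEpi p) {P Y : E} {fst : P ⟶ X₀} {snd : P ⟶ Y} {f : Y ⟶ X}
    (h : IsPullback fst snd p f) : UnivEffEpi snd := by
  intro P' Y' fst' snd' f' h'
  exact hp (fst' ≫ fst) snd' (f' ≫ f) (h'.paste_horiz h)

lemma comp_iso (hp : UnivEffEpi p) {X' : E} (m : X ⟶ X') [IsIso m] : UnivEffEpi (p ≫ m) := by
  intro P Y fst snd f h
  refine hp fst snd (f ≫ inv m) ?_
  exact IsPullback.of_iso h (Iso.refl _) (Iso.refl _) (Iso.refl _) (asIso m).symm
    (by simp) (by simp) (by simp) (by simp)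

lemma generate_singleton_mem_canonical [HasPullbacks E] (hp : UnivEffEpi p) :
    Sieve.generate (Presieve.singleton p) ∈ Sheaf.canonicalTopology E X := by
  apply Sheaf.mem_finestTopology_of_forall_isSheafFor
  rintro P ⟨Z, rfl⟩ Y f
  rw [← Sieve.pullbackArrows_comm, Presieve.pullback_singleton,
    ← Presieve.isSheafFor_iff_generate]
  have := hp _ _ _ (IsPullback.of_hasPullback p f)
  exact Presieve.IsSheafFor.singleton_of_isRepresentable_of_effectiveEpi _ _

end UnivEffEpi

section Cofan

variable [HasPullbacks E] {ι : Type w} {X : ι → E}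

/-- The injections of a universal coproduct cofan generate a covering sieve of the canonical
topology. -/
theorem ofArrows_mem_canonical (c : Cofan X) (hc : IsUniversalColimit c) :
    Sieve.ofArrows X c.inj ∈ Sheaf.canonicalTopology E c.pt := by
  apply Sheaf.mem_finestTopology_of_forall_isSheafFor
  rintro P ⟨Z, rfl⟩ Y f
  let c' : Cofan (fun i => pullback (c.inj i) f) := Cofan.mk Y (fun i => pullback.snd (c.inj i) f)
  have hc' : IsColimit c' := by
    refine (hc c' (Discrete.natTrans fun i => pullback.fst (c.inj i.as) f) f ?_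
      (NatTrans.Equifibered.of_discrete _) ?_).some
    · ext ⟨i⟩
      exact pullback.condition
    · rintro ⟨i⟩
      exact (IsPullback.of_hasPullback (c.inj i) f).flip
  intro x hx
  have hmem : ∀ i, ((Sieve.ofArrows X c.inj).pullback f).arrows (pullback.snd (c.inj i) f) := by
    intro i
    rw [Sieve.pullback_apply, Sieve.mem_ofArrows_iff]
    exact ⟨i, pullback.fst _ _, pullback.condition.symm⟩
  refine ⟨Cofan.IsColimit.desc hc' (fun i => x _ (hmem i)), ?_, ?_⟩
  · intro W h hh
    have hh' := hh
    rw [Sieve.pullback_apply, Sieve.mem_ofArrows_iff] at hh'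
    obtain ⟨i, a, ha⟩ := hh'
    have e1 : h = pullback.lift a h ha.symm ≫ pullback.snd (c.inj i) f :=
      (pullback.lift_snd _ _ _).symm
    have e2 := hx.to_sieveCompatible _ (pullback.lift a h ha.symm) (hmem i)
    have e3 : x h hh = x (pullback.lift a h ha.symm ≫ pullback.snd (c.inj i) f) (by
        rw [← e1]; exact hh) := by
      congr 1
    rw [e3, e2]
    show h ≫ _ = _ ≫ _
    conv_lhs => rw [e1]
    rw [Category.assoc]
    congr 1
    exact Cofan.IsColimit.fac hc' _ i
  · intro t ht
    refine Cofan.IsColimit.hom_ext hc' _ _ (fun i => ?_)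
    rw [Cofan.IsColimit.fac]
    exact ht _ (hmem i)

end Cofan

section Sheaf

variable [HasPullbacks E] {F : Eᵒᵖ ⥤ Type w'}
  (hF : Presieve.IsSheaf (Sheaf.canonicalTopology E) F)

include hF

/-- The empty sieve covers any object mapping to a universal initial object; hence a sheaf for
the canonical topology has at most one section over such an object. -/
lemma subsingleton_of_hom_initial (c₀ : Cofan (fun i : PEmpty.{w + 1} => (i.elim : E)))
    (hc₀ : IsUniversalColimit c₀) {Z : E} (g : Z ⟶ c₀.pt) : Subsingleton (F.obj (op Z)) := by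
  have h1 := ofArrows_mem_canonical c₀ hc₀
  have h2 : Sieve.ofArrows _ c₀.inj = ⊥ := by
    ext W h
    rw [Sieve.mem_ofArrows_iff]
    constructor
    · rintro ⟨i, _⟩
      exact i.elim
    · intro h
      exact h.elim
  have h3 : (⊥ : Sieve Z) ∈ Sheaf.canonicalTopology E Z := by
    have := (Sheaf.canonicalTopology E).pullback_stable g h1
    rw [h2] at this
    convert this
    ext W h
    constructor
    · intro h
      exact h.elim
    · intro h
      exact h.elim
  constructor
  intro a b
  exact (hF _ h3).isSeparatedFor (fun _ _ h => h.elim) a b (fun _ _ h => h.elim)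
    (fun _ _ h => h.elim)

/-- A sheaf for the canonical topology sends universal disjoint coproducts to products. -/
theorem existsUnique_of_cofan {ι : Type w} {X : ι → E} (c : Cofan X) (hcl : IsColimit c)
    (hcu : IsUniversalColimit c) [CoproductDisjoint X]
    (c₀ : Cofan (fun i : PEmpty.{w + 1} => (i.elim : E))) (hc₀ : IsUniversalColimit c₀)
    (hc₀l : IsColimit c₀)
    (x : ∀ i, F.obj (op (X i))) : ∃! t : F.obj (op c.pt), ∀ i, F.map (c.inj i).op t = x i := by
  have h1 := hF _ (ofArrows_mem_canonical c hcu)
  rw [Sieve.ofArrows, ← Presieve.isSheafFor_iff_generate, Presieve.isSheafFor_arrows_iff] at h1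
  apply h1 x
  intro i j Z gi gj hgg
  by_cases hij : i = j
  · subst hij
    have := CoproductDisjoint.mono_inj hcl i
    rw [(cancel_mono (c.inj i)).1 hgg]
  · obtain ⟨hI⟩ := CoproductDisjoint.nonempty_isInitial_of_ne hcl hij
      (pullback.cone (c.inj i) (c.inj j)) (pullback.isLimit _ _)
    have hI0 : IsInitial c₀.pt := by
      refine IsInitial.ofUniqueHom (fun Y => hc₀l.desc (Cofan.mk Y (fun i => i.elim))) ?_
      intro Y m
      exact Cofan.IsColimit.hom_ext hc₀l _ _ (fun i => i.elim)
    have : Subsingleton (F.obj (op Z)) :=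
      subsingleton_of_hom_initial hF c₀ hc₀ (pullback.lift gi gj hgg ≫ hI.to c₀.pt)
    exact Subsingleton.elim _ _

variable {X₀ X : E} {p : X₀ ⟶ X}

lemma UnivEffEpi.isSheafFor_arrows (hp : UnivEffEpi p) :
    (Presieve.ofArrows (fun _ : PUnit.{1} => X₀) (fun _ => p)).IsSheafFor F := by
  rw [Presieve.ofArrows_pUnit, Presieve.isSheafFor_iff_generate]
  exact hF _ hp.generate_singleton_mem_canonical

/-- A sheaf for the canonical topology is separated for universally effective epimorphisms. -/
theorem UnivEffEpi.map_injective (hp : UnivEffEpi p) : Function.Injective (F.map p.op) := by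
  intro a b hab
  have h := (Presieve.isSheafFor_arrows_iff _ _).1 (hp.isSheafFor_arrows hF)
    (fun _ => F.map p.op a) (fun i j Z gi gj hg => by
      simp only [← Functor.map_comp_apply, ← op_comp, hg])
  exact h.unique (fun _ => rfl) (fun _ => hab.symm)

/-- Descent of sections of a sheaf for the canonical topology along a universally effective
epimorphism. -/
theorem UnivEffEpi.exists_descent (hp : UnivEffEpi p) (x₀ : F.obj (op X₀))
    (h : ∀ ⦃Z : E⦄ (a b : Z ⟶ X₀), a ≫ p = b ≫ p → F.map a.op x₀ = F.map b.op x₀) :
    ∃ x : F.obj (op X), F.map p.op x = x₀ := by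
  obtain ⟨t, ht, -⟩ := (Presieve.isSheafFor_arrows_iff _ _).1 (hp.isSheafFor_arrows hF)
    (fun _ => x₀) (fun i j Z gi gj hg => h gi gj hg)
  exact ⟨t, ht PUnit.unit⟩

end Sheaf

end Groth.Agent.Lib.Giraud
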