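import Groth.Agent.Lib.Giraud1
import Groth.Prelude.Def_SGA4a

/-!
# Regular-category facts in a category satisfying Giraud's axioms

* `isEquivRel_kernelPair`: kernel pairs are equivalence relations.
* `exists_image`: image factorisation `p = π ≫ m` with `π` a universally effective epimorphism
  and `m` a monomorphism.
* `genMap_univEffEpi`: the canonical morphism from the coproduct of all morphisms from a detecting
  family is a universally effective epimorphism.
-/

set_option autoImplicit false
set_option linter.unusedSectionVars false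
open CategoryTheory CategoryTheory.Limits Opposite
universe w w' v u

namespace Groth.Agent.Lib.Giraud

variable {E : Type v} [Category.{u} E] [HasFiniteLimits E]

/-- Kernel pairs are equivalence relations. -/
lemma isEquivRel_kernelPair {X₀ X : E} (p : X₀ ⟶ X) :
    SGA4.IsEquivRel (pullback.fst p p) (pullback.snd p p) := by
  intro T
  refine ⟨fun f g hfg => ?_, ?_⟩
  · simp only [Prod.mk.injEq] at hfg
    exact pullback.hom_ext hfg.1 hfg.2
  · have key : ∀ a b : T ⟶ X₀, (∃ f : T ⟶ pullback p p, f ≫ pullback.fst p p = a ∧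
        f ≫ pullback.snd p p = b) ↔ a ≫ p = b ≫ p := by
      intro a b
      constructor
      · rintro ⟨f, rfl, rfl⟩
        simp [pullback.condition]
      · intro h
        exact ⟨pullback.lift a b h, pullback.lift_fst _ _ _, pullback.lift_snd _ _ _⟩
    exact ⟨fun a => (key a a).2 rfl, fun {a b} h => (key b a).2 ((key a b).1 h).symm,
      fun {a b c} h1 h2 => (key a c).2 (((key a b).1 h1).trans ((key b c).1 h2))⟩

/-- Hypothesis (c) of Giraud's theorem. -/
def EffEqRel (E : Type v) [Category.{u} E] [HasFiniteLimits E] : Prop :=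
  ∀ (R A : E) (p₁ p₂ : R ⟶ A), SGA4.IsEquivRel p₁ p₂ → SGA4.IsEffectiveUniversalEquivRel p₁ p₂

/-- Image factorisation. -/
theorem exists_image (hc : EffEqRel E) {X₀ X : E} (p : X₀ ⟶ X) :
    ∃ (Q : E) (π : X₀ ⟶ Q) (m : Q ⟶ X), π ≫ m = p ∧ Mono m ∧ UnivEffEpi π := by
  obtain ⟨Q, π, hpb, hpo, hu⟩ := hc _ _ _ _ (isEquivRel_kernelPair p)
  have hπ : UnivEffEpi π := UnivEffEpi.of_forall_pullback_snd hu
  let m : Q ⟶ X := hpo.desc p p pullback.condition
  have hm : π ≫ m = p := hpo.inl_desc _ _ _
  refine ⟨Q, π, m, hm, ⟨fun {T} a b hab => ?_⟩, hπ⟩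
  have e1 : EffectiveEpi (pullback.snd π a) := hu _ _
  have e2 : EffectiveEpi (pullback.snd π (pullback.snd π a ≫ b)) := hu _ _
  have ha' : (pullback.snd π (pullback.snd π a ≫ b) ≫ pullback.fst π a) ≫ π =
      pullback.snd π (pullback.snd π a ≫ b) ≫ pullback.snd π a ≫ a := by
    rw [Category.assoc, pullback.condition]
  have hb' : pullback.fst π (pullback.snd π a ≫ b) ≫ π =
      pullback.snd π (pullback.snd π a ≫ b) ≫ pullback.snd π a ≫ b := pullback.condition
  have h1 : (pullback.snd π (pullback.snd π a ≫ b) ≫ pullback.fst π a) ≫ p =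
      pullback.fst π (pullback.snd π a ≫ b) ≫ p := by
    rw [← hm, ← Category.assoc, ← Category.assoc, ha', hb']
    simp only [Category.assoc, hab]
  have h2 : (pullback.snd π (pullback.snd π a ≫ b) ≫ pullback.fst π a) ≫ π =
      pullback.fst π (pullback.snd π a ≫ b) ≫ π := by
    have h3 := pullback.lift _ _ h1 ≫= hpb.w
    rw [← Category.assoc, ← Category.assoc, pullback.lift_fst, pullback.lift_snd] at h3
    exact h3
  rw [ha', hb'] at h2
  rwa [cancel_epi, cancel_epi] at h2

section Coproducts

variable (hb : SGA4.HasDisjointUniversalCoproducts.{v, u} E)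

/-- A chosen coproduct cofan. -/
noncomputable def cofan {ι : Type u} (X : ι → E) : Cofan X := (hb ι X).choose

/-- The chosen cofan is a colimit. -/
noncomputable def cofanIsColimit {ι : Type u} (X : ι → E) : IsColimit (cofan hb X) :=
  (hb ι X).choose_spec.choose

include hb in
lemma coproductDisjoint {ι : Type u} (X : ι → E) : CoproductDisjoint X :=
  (hb ι X).choose_spec.choose_spec.1

lemma cofan_universal {ι : Type u} (X : ι → E) : IsUniversalColimit (cofan hb X) :=
  (hb ι X).choose_spec.choose_spec.2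

/-- Morphisms out of the chosen coproduct. -/
noncomputable def cdesc {ι : Type u} {X : ι → E} {Y : E} (f : ∀ i, X i ⟶ Y) :
    (cofan hb X).pt ⟶ Y :=
  Cofan.IsColimit.desc (cofanIsColimit hb X) f

@[reassoc (attr := simp)]
lemma inj_cdesc {ι : Type u} {X : ι → E} {Y : E} (f : ∀ i, X i ⟶ Y) (i : ι) :
    (cofan hb X).inj i ≫ cdesc hb f = f i :=
  Cofan.IsColimit.fac _ _ _

lemma chom_ext {ι : Type u} {X : ι → E} {Y : E} {f g : (cofan hb X).pt ⟶ Y}
    (h : ∀ i, (cofan hb X).inj i ≫ f = (cofan hb X).inj i ≫ g) : f = g :=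
  Cofan.IsColimit.hom_ext (cofanIsColimit hb X) _ _ h

/-- The empty cofan. -/
noncomputable abbrev emptyCofan : Cofan (fun i : PEmpty.{u + 1} => (i.elim : E)) := cofan hb _

/-- A sheaf for the canonical topology sends the chosen coproducts to products. -/
theorem existsUnique_section {F : Eᵒᵖ ⥤ Type w'}
    (hF : Presieve.IsSheaf (Sheaf.canonicalTopology E) F) {ι : Type u} {X : ι → E}
    (x : ∀ i, F.obj (op (X i))) :
    ∃! t : F.obj (op (cofan hb X).pt), ∀ i, F.map ((cofan hb X).inj i).op t = x i :=
  have := coproductDisjoint hb X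
  existsUnique_of_cofan hF _ (cofanIsColimit hb X) (cofan_universal hb X) (emptyCofan hb)
    (cofan_universal hb _) (cofanIsColimit hb _) x

end Coproducts

section Generators

variable (hb : SGA4.HasDisjointUniversalCoproducts.{v, u} E) (hc : EffEqRel E)
  {ι : Type u} (G : ι → E)
  (hG : ∀ ⦃X Y : E⦄ (f : X ⟶ Y), (∀ i (h : G i ⟶ Y), ∃! h' : G i ⟶ X, h' ≫ f = h) → IsIso f)

/-- The coproduct of all generators mapping to `X`. -/
noncomputable abbrev genCofan (X : E) : Cofan (fun k : Σ i, (G i ⟶ X) => G k.1) := cofan hb _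

/-- The canonical morphism from the coproduct of all generators mapping to `X`. -/
noncomputable def genMap (X : E) : (genCofan hb G X).pt ⟶ X := cdesc hb (fun k => k.2)

@[reassoc (attr := simp)]
lemma inj_genMap (X : E) (k : Σ i, (G i ⟶ X)) : (genCofan hb G X).inj k ≫ genMap hb G X = k.2 :=
  inj_cdesc hb _ k

include hc hG in
/-- A monomorphism through which all morphisms from generators factor is an isomorphism. -/
lemma isIso_of_mono_of_forall_factor {Q X : E} (m : Q ⟶ X) [Mono m]
    (h : ∀ i (h : G i ⟶ X), ∃ h' : G i ⟶ Q, h' ≫ m = h) : IsIso m := by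
  apply hG
  intro i g
  obtain ⟨h', hh'⟩ := h i g
  exact ⟨h', hh', fun y hy => by rw [← cancel_mono m, hy, hh']⟩

include hc hG in
theorem genMap_univEffEpi (X : E) : UnivEffEpi (genMap hb G X) := by
  obtain ⟨Q, π, m, hm, hmono, hπ⟩ := exists_image hc (genMap hb G X)
  have : IsIso m := isIso_of_mono_of_forall_factor hc G hG m (fun i h =>
    ⟨(genCofan hb G X).inj ⟨i, h⟩ ≫ π, by rw [Category.assoc, hm, inj_genMap]⟩)
  rw [← hm]
  exact hπ.comp_iso m

end Generators

end Groth.Agent.Lib.Giraud
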