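import Groth.Agent.Lib.Giraud2
import Mathlib.CategoryTheory.Yoneda

/-!
# Sheaves for the canonical topology of a Giraud category are representable
-/

set_option autoImplicit false
set_option linter.unusedSectionVars false
open CategoryTheory CategoryTheory.Limits Opposite
universe w w' v u

namespace Groth.Agent.Lib.Giraud

variable {E : Type v} [Category.{u} E]

lemma map_comp_op {F : Eᵒᵖ ⥤ Type w} {X Y Z : E} (f : X ⟶ Y) (g : Y ⟶ Z) (x : F.obj (op Z)) :
    F.map (f ≫ g).op x = F.map f.op (F.map g.op x) := by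
  rw [op_comp, Functor.map_comp_apply]

variable [HasFiniteLimits E]

section

variable (hb : SGA4.HasDisjointUniversalCoproducts.{v, u} E) (hc : EffEqRel E)
  {ι : Type u} (G : ι → E)
  (hG : ∀ ⦃X Y : E⦄ (f : X ⟶ Y), (∀ i (h : G i ⟶ Y), ∃! h' : G i ⟶ X, h' ≫ f = h) → IsIso f)

include hb hc hG in
/-- Every sheaf of `u`-small sets for the canonical topology is representable. -/
theorem exists_representableBy (F : Eᵒᵖ ⥤ Type u)
    (hF : Presieve.IsSheaf (Sheaf.canonicalTopology E) F) :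
    ∃ Q : E, Nonempty (F.RepresentableBy Q) := by
  -- Step 0: the coproduct of all sections over generators
  let c₀ := cofan hb (fun k : (Σ i, F.obj (op (G i))) => G k.1)
  obtain ⟨ξ₀, hξ₀, -⟩ := existsUnique_section hb hF
    (X := fun k : (Σ i, F.obj (op (G i))) => G k.1) (fun k => k.2)
  -- Step 1: the relation
  let I₁ := Σ i, {ab : (G i ⟶ c₀.pt) × (G i ⟶ c₀.pt) // F.map ab.1.op ξ₀ = F.map ab.2.op ξ₀}
  let c₁ := cofan hb (fun k : I₁ => G k.1)
  let r : c₁.pt ⟶ c₀.pt ⨯ c₀.pt := cdesc hb (fun k : I₁ => prod.lift k.2.1.1 k.2.1.2)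
  have hr : ∀ k : I₁, c₁.inj k ≫ r = prod.lift k.2.1.1 k.2.1.2 := fun k => inj_cdesc hb _ k
  obtain ⟨I, ρ, m, hρm, hm, hρ⟩ := exists_image hc r
  have hr' : ∀ k : I₁, (c₁.inj k ≫ ρ) ≫ m = prod.lift k.2.1.1 k.2.1.2 := fun k => by
    rw [Category.assoc, hρm, hr]
  -- Claim A
  have hA : F.map (m ≫ prod.fst).op ξ₀ = F.map (m ≫ prod.snd).op ξ₀ := by
    apply hρ.map_injective hF
    apply (existsUnique_section hb hF (X := fun k : I₁ => G k.1)
      (fun k => F.map k.2.1.1.op ξ₀)).unique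
    · intro k
      rw [← map_comp_op, ← map_comp_op, ← Category.assoc, hr', prod.lift_fst]
    · intro k
      rw [← map_comp_op, ← map_comp_op, ← Category.assoc, hr', prod.lift_snd]
      exact k.2.2.symm
  -- Claim B
  have hB : ∀ {T : E} (a b : T ⟶ c₀.pt), F.map a.op ξ₀ = F.map b.op ξ₀ →
      ∃ h : T ⟶ I, h ≫ m ≫ prod.fst = a ∧ h ≫ m ≫ prod.snd = b := by
    intro T a b hab
    have hiso : IsIso (pullback.snd m (prod.lift a b)) := by
      apply isIso_of_mono_of_forall_factor hc G hG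
      intro i h
      let k : I₁ := ⟨i, ⟨(h ≫ a, h ≫ b), by
        show F.map (h ≫ a).op ξ₀ = F.map (h ≫ b).op ξ₀
        rw [map_comp_op, map_comp_op, hab]⟩⟩
      refine ⟨pullback.lift (c₁.inj k ≫ ρ) h ?_, pullback.lift_snd _ _ _⟩
      rw [hr' k]
      apply Limits.prod.hom_ext
      · rw [prod.lift_fst, Category.assoc, prod.lift_fst]
      · rw [prod.lift_snd, Category.assoc, prod.lift_snd]
    refine ⟨inv (pullback.snd m (prod.lift a b)) ≫ pullback.fst m (prod.lift a b), ?_, ?_⟩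
    · rw [Category.assoc, ← Category.assoc _ m, pullback.condition, Category.assoc, prod.lift_fst,
        IsIso.inv_hom_id_assoc]
    · rw [Category.assoc, ← Category.assoc _ m, pullback.condition, Category.assoc, prod.lift_snd,
        IsIso.inv_hom_id_assoc]
  -- Claim C
  have hrel : ∀ {T : E} (a b : T ⟶ c₀.pt),
      (∃ f : T ⟶ I, f ≫ m ≫ prod.fst = a ∧ f ≫ m ≫ prod.snd = b) ↔
        F.map a.op ξ₀ = F.map b.op ξ₀ := by
    intro T a b
    constructor
    · rintro ⟨f, rfl, rfl⟩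
      rw [map_comp_op f, map_comp_op f, hA]
    · exact hB a b
  have hC : SGA4.IsEquivRel (m ≫ prod.fst) (m ≫ prod.snd) := by
    intro T
    refine ⟨fun f g hfg => ?_, ?_⟩
    · simp only [Prod.mk.injEq] at hfg
      rw [← cancel_mono m]
      apply Limits.prod.hom_ext
      · simpa using hfg.1
      · simpa using hfg.2
    · exact ⟨fun a => (hrel a a).2 rfl, fun {a b} h => (hrel b a).2 ((hrel a b).1 h).symm,
        fun {a b c} h1 h2 => (hrel a c).2 (((hrel a b).1 h1).trans ((hrel b c).1 h2))⟩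
  obtain ⟨Q, π, hpb, -, hu⟩ := hc _ _ _ _ hC
  have hπ : UnivEffEpi π := UnivEffEpi.of_forall_pullback_snd hu
  -- Claim D
  have hw : m ≫ prod.fst ≫ π = m ≫ prod.snd ≫ π := by simpa using hpb.w
  obtain ⟨ξ, hξ⟩ := hπ.exists_descent hF ξ₀ (fun Z a b hab => by
    have ea : F.map (hpb.lift a b hab ≫ m ≫ prod.fst).op ξ₀ = F.map a.op ξ₀ := by
      rw [hpb.lift_fst]
    have eb : F.map (hpb.lift a b hab ≫ m ≫ prod.snd).op ξ₀ = F.map b.op ξ₀ := by
      rw [hpb.lift_snd]
    rw [map_comp_op (hpb.lift a b hab)] at ea eb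
    rw [← ea, ← eb, hA])
  -- Claim E
  have hE : ∀ {T : E} (s t : T ⟶ Q), F.map s.op ξ = F.map t.op ξ → s = t := by
    intro T s t hst
    have e1 : EffectiveEpi (pullback.snd π s) := hu _ _
    have e2 : EffectiveEpi (pullback.snd π (pullback.snd π s ≫ t)) := hu _ _
    have hs' : (pullback.snd π (pullback.snd π s ≫ t) ≫ pullback.fst π s) ≫ π =
        (pullback.snd π (pullback.snd π s ≫ t) ≫ pullback.snd π s) ≫ s := by
      rw [Category.assoc, pullback.condition, Category.assoc]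
    have ht' : pullback.fst π (pullback.snd π s ≫ t) ≫ π =
        (pullback.snd π (pullback.snd π s ≫ t) ≫ pullback.snd π s) ≫ t := by
      rw [pullback.condition, Category.assoc]
    have h1 : F.map (pullback.snd π (pullback.snd π s ≫ t) ≫ pullback.fst π s).op ξ₀ =
        F.map (pullback.fst π (pullback.snd π s ≫ t)).op ξ₀ := by
      rw [← hξ, ← map_comp_op, ← map_comp_op, hs', ht', map_comp_op, map_comp_op _ t, hst]
    obtain ⟨h, h1, h2⟩ := hB _ _ h1
    have h3 : (pullback.snd π (pullback.snd π s ≫ t) ≫ pullback.fst π s) ≫ π =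
        pullback.fst π (pullback.snd π s ≫ t) ≫ π := by
      rw [← h1, ← h2]
      simp only [Category.assoc]
      rw [hw]
    rw [hs', ht', Category.assoc, Category.assoc] at h3
    rwa [cancel_epi, cancel_epi] at h3
  -- Claim F
  have hS : ∀ {T : E} (η : F.obj (op T)), ∃ t : T ⟶ Q, F.map t.op ξ = η := by
    intro T η
    have hpT := genMap_univEffEpi hb hc G hG T
    let s₀ : (genCofan hb G T).pt ⟶ c₀.pt :=
      cdesc hb (fun k : (Σ i, (G i ⟶ T)) => c₀.inj ⟨k.1, F.map k.2.op η⟩)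
    have hs₀ : F.map s₀.op ξ₀ = F.map (genMap hb G T).op η := by
      apply (existsUnique_section hb hF (X := fun k : (Σ i, (G i ⟶ T)) => G k.1)
        (fun k => F.map k.2.op η)).unique
      · intro k
        rw [← map_comp_op, inj_cdesc, hξ₀]
      · intro k
        rw [← map_comp_op, inj_genMap]
    have := hpT.effectiveEpi
    have hdesc : ∀ {Z : E} (a b : Z ⟶ (genCofan hb G T).pt),
        a ≫ genMap hb G T = b ≫ genMap hb G T → a ≫ s₀ ≫ π = b ≫ s₀ ≫ π := by
      intro Z a b hab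
      have h0 : F.map (a ≫ s₀).op ξ₀ = F.map (b ≫ s₀).op ξ₀ := by
        rw [map_comp_op, map_comp_op, hs₀, ← map_comp_op, ← map_comp_op, hab]
      obtain ⟨h, h1, h2⟩ := hB _ _ h0
      rw [← Category.assoc, ← Category.assoc, ← h1, ← h2]
      simp only [Category.assoc]
      rw [hw]
    have ht : genMap hb G T ≫ EffectiveEpi.desc (genMap hb G T) (s₀ ≫ π) hdesc = s₀ ≫ π :=
      EffectiveEpi.fac _ _ _
    refine ⟨EffectiveEpi.desc (genMap hb G T) (s₀ ≫ π) hdesc, hpT.map_injective hF ?_⟩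
    rw [← map_comp_op, ht, map_comp_op, hξ, hs₀]
  exact ⟨Q, ⟨{
    homEquiv := Equiv.ofBijective (fun t => F.map t.op ξ)
      ⟨fun s t hst => hE s t hst, fun η => hS η⟩
    homEquiv_comp := fun f g => map_comp_op f g ξ }⟩⟩

end

end Groth.Agent.Lib.Giraud
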