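import Groth.Agent.Lib.Giraud3
import Mathlib.CategoryTheory.Limits.Shapes.RegularMono

/-!
# Giraud categories: kernel relations of sections of canonical sheaves, and coequalizers

* `exists_kernel_relation`: for a sheaf `F` for the canonical topology and a section `ξ₀ ∈ F(X₀)`,
  the relation `F(a) ξ₀ = F(b) ξ₀` on generalized points of `X₀` is represented by an equivalence
  relation `I ⇉ X₀`.
* `univEffEpi_of_isColimit_cofork`: every coequalizer morphism is a universally effective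
  epimorphism.
* `existsUnique_of_isColimit_cofork`: sheaves for the canonical topology send coequalizers to
  equalizers.
-/

set_option autoImplicit false
set_option linter.unusedSectionVars false
open CategoryTheory CategoryTheory.Limits Opposite
universe w w' v u

namespace Groth.Agent.Lib.Giraud

variable {E : Type v} [Category.{u} E] [HasFiniteLimits E]

section

variable (hb : SGA4.HasDisjointUniversalCoproducts.{v, u} E) (hc : EffEqRel E)
  {ι : Type u} (G : ι → E)
  (hG : ∀ ⦃X Y : E⦄ (f : X ⟶ Y), (∀ i (h : G i ⟶ Y), ∃! h' : G i ⟶ X, h' ≫ f = h) → IsIso f)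

include hb hc hG in
/-- The kernel relation of a section of a sheaf for the canonical topology. -/
theorem exists_kernel_relation (F : Eᵒᵖ ⥤ Type w')
    (hF : Presieve.IsSheaf (Sheaf.canonicalTopology E) F) {X₀ : E} (ξ₀ : F.obj (op X₀)) :
    ∃ (I : E) (p₁ p₂ : I ⟶ X₀), SGA4.IsEquivRel p₁ p₂ ∧
      ∀ {T : E} (a b : T ⟶ X₀),
        (∃ f : T ⟶ I, f ≫ p₁ = a ∧ f ≫ p₂ = b) ↔ F.map a.op ξ₀ = F.map b.op ξ₀ := by
  let I₁ := Σ i, {ab : (G i ⟶ X₀) × (G i ⟶ X₀) // F.map ab.1.op ξ₀ = F.map ab.2.op ξ₀}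
  let c₁ := cofan hb (fun k : I₁ => G k.1)
  let r : c₁.pt ⟶ X₀ ⨯ X₀ := cdesc hb (fun k : I₁ => prod.lift k.2.1.1 k.2.1.2)
  have hr : ∀ k : I₁, c₁.inj k ≫ r = prod.lift k.2.1.1 k.2.1.2 := fun k => inj_cdesc hb _ k
  obtain ⟨I, ρ, m, hρm, hm, hρ⟩ := exists_image hc r
  have hr' : ∀ k : I₁, (c₁.inj k ≫ ρ) ≫ m = prod.lift k.2.1.1 k.2.1.2 := fun k => by
    rw [Category.assoc, hρm, hr]
  -- Claim A
  have hA : F.map (m ≫ prod.fst).op ξ₀ = F.map (m ≫ prod.snd).op ξ₀ := by
    apply hρ.map_injective hF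
    apply (existsUnique_section hb hF (X := fun k : I₁ => G k.1)
      (fun k => F.map k.2.1.1.op ξ₀)).unique
    · intro k
      rw [← map_comp_op, ← map_comp_op, ← Category.assoc, hr', prod.lift_fst]
    · intro k
      rw [← map_comp_op, ← map_comp_op, ← Category.assoc, hr', prod.lift_snd]
      exact k.2.2.symm
  -- Claim B
  have hB : ∀ {T : E} (a b : T ⟶ X₀), F.map a.op ξ₀ = F.map b.op ξ₀ →
      ∃ h : T ⟶ I, h ≫ m ≫ prod.fst = a ∧ h ≫ m ≫ prod.snd = b := by
    intro T a b hab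
    have hiso : IsIso (pullback.snd m (prod.lift a b)) := by
      apply isIso_of_mono_of_forall_factor hc G hG
      intro i h
      let k : I₁ := ⟨i, ⟨(h ≫ a, h ≫ b), by
        show F.map (h ≫ a).op ξ₀ = F.map (h ≫ b).op ξ₀
        rw [map_comp_op, map_comp_op, hab]⟩⟩
      refine ⟨pullback.lift (c₁.inj k ≫ ρ) h ?_, pullback.lift_snd _ _ _⟩
      rw [hr' k]
      apply Limits.prod.hom_ext
      · rw [prod.lift_fst, Category.assoc, prod.lift_fst]
      · rw [prod.lift_snd, Category.assoc, prod.lift_snd]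
    refine ⟨inv (pullback.snd m (prod.lift a b)) ≫ pullback.fst m (prod.lift a b), ?_, ?_⟩
    · rw [Category.assoc, ← Category.assoc _ m, pullback.condition, Category.assoc, prod.lift_fst,
        IsIso.inv_hom_id_assoc]
    · rw [Category.assoc, ← Category.assoc _ m, pullback.condition, Category.assoc, prod.lift_snd,
        IsIso.inv_hom_id_assoc]
  -- Claim C
  have hrel : ∀ {T : E} (a b : T ⟶ X₀),
      (∃ f : T ⟶ I, f ≫ m ≫ prod.fst = a ∧ f ≫ m ≫ prod.snd = b) ↔
        F.map a.op ξ₀ = F.map b.op ξ₀ := by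
    intro T a b
    constructor
    · rintro ⟨f, rfl, rfl⟩
      rw [map_comp_op f, map_comp_op f, hA]
    · exact hB a b
  refine ⟨I, m ≫ prod.fst, m ≫ prod.snd, ?_, fun a b => hrel a b⟩
  intro T
  refine ⟨fun f g hfg => ?_, ?_⟩
  · simp only [Prod.mk.injEq] at hfg
    rw [← cancel_mono m]
    apply Limits.prod.hom_ext
    · simpa using hfg.1
    · simpa using hfg.2
  · exact ⟨fun a => (hrel a a).2 rfl, fun {a b} h => (hrel b a).2 ((hrel a b).1 h).symm,
      fun {a b c} h1 h2 => (hrel a c).2 (((hrel a b).1 h1).trans ((hrel b c).1 h2))⟩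

end

section Coeq

variable (hc : EffEqRel E) {X Y Q : E} {a b : X ⟶ Y} {q : Y ⟶ Q} (w : a ≫ q = b ≫ q)
  (hq : IsColimit (Cofork.ofπ q w))

include hc hq in
/-- In a category satisfying axiom (c), every coequalizer morphism is a universally effective
epimorphism. -/
theorem univEffEpi_of_isColimit_cofork : UnivEffEpi q := by
  obtain ⟨Q', π, hpb, hpo, hu⟩ := hc _ _ _ _ (isEquivRel_kernelPair q)
  have hπ : UnivEffEpi π := UnivEffEpi.of_forall_pullback_snd hu
  let m : Q' ⟶ Q := hpo.desc q q pullback.condition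
  have hm : π ≫ m = q := hpo.inl_desc _ _ _
  have hab : a ≫ π = b ≫ π := by
    have h3 := pullback.lift a b w ≫= hpb.w
    rwa [← Category.assoc, ← Category.assoc, pullback.lift_fst, pullback.lift_snd] at h3
  let n : Q ⟶ Q' := Cofork.IsColimit.desc hq π hab
  have hn : q ≫ n = π := Cofork.IsColimit.π_desc hq
  have h1 : n ≫ m = 𝟙 Q := by
    apply Cofork.IsColimit.hom_ext hq
    rw [Cofork.π_ofπ, ← Category.assoc, hn, hm]
    exact (Category.comp_id _).symm
  have h2 : m ≫ n = 𝟙 Q' := by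
    have := hπ.epi
    rw [← cancel_epi π, ← Category.assoc, hm, hn, Category.comp_id]
  have : IsIso m := ⟨n, h2, h1⟩
  rw [← hm]
  exact hπ.comp_iso m

variable (hb : SGA4.HasDisjointUniversalCoproducts.{v, u} E)
  {ι : Type u} (G : ι → E)
  (hG : ∀ ⦃X Y : E⦄ (f : X ⟶ Y), (∀ i (h : G i ⟶ Y), ∃! h' : G i ⟶ X, h' ≫ f = h) → IsIso f)

include hb hc hG hq in
/-- Sheaves for the canonical topology send coequalizers to equalizers. -/
theorem existsUnique_of_isColimit_cofork (F : Eᵒᵖ ⥤ Type w')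
    (hF : Presieve.IsSheaf (Sheaf.canonicalTopology E) F) (y : F.obj (op Y))
    (hy : F.map a.op y = F.map b.op y) : ∃! z : F.obj (op Q), F.map q.op z = y := by
  have hqu := univEffEpi_of_isColimit_cofork hc w hq
  obtain ⟨I, p₁, p₂, hrel, hI⟩ := exists_kernel_relation hb hc G hG F hF y
  obtain ⟨Q', π, hpb, -, -⟩ := hc _ _ _ _ hrel
  obtain ⟨f, hf1, hf2⟩ := (hI a b).2 hy
  have hab : a ≫ π = b ≫ π := by
    rw [← hf1, ← hf2, Category.assoc, Category.assoc, hpb.w]
  have hn : q ≫ Cofork.IsColimit.desc hq π hab = π := Cofork.IsColimit.π_desc hq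
  obtain ⟨z, hz⟩ := hqu.exists_descent hF y (fun Z s t hst => by
    have hst' : s ≫ π = t ≫ π := by
      rw [← hn, ← Category.assoc, hst, Category.assoc]
    exact (hI s t).1 ⟨hpb.lift s t hst', hpb.lift_fst _ _ _, hpb.lift_snd _ _ _⟩)
  exact ⟨z, hz, fun z' hz' => hqu.map_injective hF (hz'.trans hz.symm)⟩

end Coeq

end Groth.Agent.Lib.Giraud
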