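import Groth.Agent.Lib.GluePairTor

/-!
# Tor_1(R', Q) = 0 for f-power torsion Q over a glueing pair (helper25)

* `bijective_mk_one`, `bijective_rTensor_away`, `injective_rTensor_of_bijective_smul`:
  if `f` acts bijectively on `P` and `u : K → F` is injective with `f`-power torsion cokernel then
  `u ⊗ P` is injective.
* `isZero_tor_one_of_bijective_smul`: `Tor_1(P, Q) = 0` for `P` `f`-invertible, `Q` `f`-power torsion.
* `glueφ`, `glueψ`, `glue_exact`: the sequence `0 → R → R' × R_f → R'_f → 0` as `R`-linear maps.
* `isZero_tor_one_of_torsion` / `subsingleton_tor_one_of_torsion`: for a glueing pair,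
  `Tor_1(R', Q) = 0` for every `f`-power torsion `R`-module `Q`.
-/

set_option autoImplicit false
universe u
open CategoryTheory MonoidalCategory Limits TensorProduct

namespace Groth.Agent.Lib.GluePairTor2

open Groth.Agent.Lib.TorLES Groth.Agent.Lib.TorBalance Groth.Agent.Lib.EtGlueQuot

variable {R : Type u} [CommRing R]

/-- `p ↦ 1 ⊗ p : P → R_f ⊗ P` is bijective when `f` acts bijectively on `P`. -/
theorem bijective_mk_one (f : R) {P : Type u} [AddCommGroup P] [Module R P]
    (hP : Function.Bijective (fun p : P => f • p)) :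
    Function.Bijective (TensorProduct.mk R (Localization.Away f) P 1) := by
  have hu : IsUnit (algebraMap R (Module.End R P) f) := by
    rw [Module.End.isUnit_iff]
    exact hP
  have : IsLocalizedModule (Submonoid.powers f) (LinearMap.id : P →ₗ[R] P) :=
    { map_units := by
        rintro ⟨x, k, rfl⟩
        rw [map_pow]
        exact hu.pow k
      surj := fun y => ⟨(y, 1), one_smul _ _⟩
      exists_of_eq := fun {x₁ x₂} h => ⟨1, by simpa using h⟩ }
  let e := IsLocalizedModule.linearEquiv (Submonoid.powers f) (LinearMap.id : P →ₗ[R] P)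
    (TensorProduct.mk R (Localization.Away f) P 1)
  have he : ∀ x, e x = TensorProduct.mk R (Localization.Away f) P 1 x := fun x =>
    IsLocalizedModule.linearEquiv_apply (Submonoid.powers f) (LinearMap.id : P →ₗ[R] P)
      (TensorProduct.mk R (Localization.Away f) P 1) x
  have : (TensorProduct.mk R (Localization.Away f) P 1 : P → _) = e := by
    funext x
    exact (he x).symm
  rw [this]
  exact e.bijective

/-- If `u : K → F` is injective with `f`-power torsion cokernel then `u ⊗ R_f` is bijective. -/
theorem bijective_rTensor_away (f : R) {K F : Type u} [AddCommGroup K] [Module R K]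
    [AddCommGroup F] [Module R F] (u : K →ₗ[R] F) (hu : Function.Injective u)
    (hcoker : ∀ x : F, ∃ (k : ℕ) (y : K), f ^ k • x = u y) :
    Function.Bijective (LinearMap.rTensor (Localization.Away f) u) := by
  refine ⟨Module.Flat.rTensor_preserves_injective_linearMap u hu, ?_⟩
  intro z
  induction z using TensorProduct.induction_on with
  | zero => exact ⟨0, map_zero _⟩
  | tmul x a =>
    obtain ⟨k, y, hy⟩ := hcoker x
    have hunit : IsUnit (algebraMap R (Localization.Away f) (f ^ k)) := by
      rw [map_pow]
      exact (IsLocalization.Away.algebraMap_isUnit f).pow k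
    obtain ⟨v, hv⟩ := hunit
    refine ⟨y ⊗ₜ[R] ((↑v⁻¹ : Localization.Away f) * a), ?_⟩
    rw [LinearMap.rTensor_tmul, ← hy, TensorProduct.smul_tmul, Algebra.smul_def, ← hv,
      ← mul_assoc, Units.mul_inv, one_mul]
  | add x y hx hy =>
    obtain ⟨s, rfl⟩ := hx
    obtain ⟨t, rfl⟩ := hy
    exact ⟨s + t, map_add _ _ _⟩

/-- If `f` acts bijectively on `P`, and `u : K → F` is injective with `f`-power-torsion cokernel,
then `u ⊗ P` is injective. -/
theorem injective_rTensor_of_bijective_smul (f : R) {K F P : Type u} [AddCommGroup K] [Module R K]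
    [AddCommGroup F] [Module R F] [AddCommGroup P] [Module R P] (u : K →ₗ[R] F)
    (hu : Function.Injective u) (hcoker : ∀ x : F, ∃ (k : ℕ) (y : K), f ^ k • x = u y)
    (hP : Function.Bijective (fun p : P => f • p)) :
    Function.Injective (LinearMap.rTensor P u) := by
  let A := Localization.Away f
  let eA : K ⊗[R] A ≃ₗ[R] F ⊗[R] A :=
    LinearEquiv.ofBijective (LinearMap.rTensor A u) (bijective_rTensor_away f u hu hcoker)
  let j : P ≃ₗ[R] A ⊗[R] P := LinearEquiv.ofBijective (TensorProduct.mk R A P 1) (bijective_mk_one f hP)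
  let ιK : K →ₗ[R] K ⊗[R] A := (TensorProduct.mk R K A).flip 1
  let ιF : F →ₗ[R] F ⊗[R] A := (TensorProduct.mk R F A).flip 1
  have hsq : (LinearMap.rTensor P (LinearMap.rTensor A u)) ∘ₗ (LinearMap.rTensor P ιK) =
      (LinearMap.rTensor P ιF) ∘ₗ (LinearMap.rTensor P u) := by
    rw [← LinearMap.rTensor_comp, ← LinearMap.rTensor_comp]
    congr 1
  have h1 : Function.Injective (LinearMap.rTensor P ιK) := by
    have h2 : (TensorProduct.assoc R K A P).toLinearMap ∘ₗ (LinearMap.rTensor P ιK) =
        (LinearEquiv.lTensor K j).toLinearMap := by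
      apply TensorProduct.ext'
      intro k p
      rfl
    have h3 : Function.Injective ((TensorProduct.assoc R K A P).toLinearMap ∘ₗ
        (LinearMap.rTensor P ιK)) := by
      rw [h2]
      exact (LinearEquiv.lTensor K j).injective
    exact Function.Injective.of_comp h3
  have h4 : Function.Injective (LinearMap.rTensor P (LinearMap.rTensor A u)) :=
    (LinearEquiv.rTensor P eA).injective
  have h5 : Function.Injective ((LinearMap.rTensor P ιF) ∘ₗ (LinearMap.rTensor P u)) := by
    rw [← hsq]
    exact h4.comp h1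
  exact Function.Injective.of_comp h5

theorem isZero_tor_one_of_bijective_smul (f : R) {P Q : Type u} [AddCommGroup P] [Module R P]
    [AddCommGroup Q] [Module R Q] (hP : Function.Bijective (fun p : P => f • p))
    (hQ : ∀ x : Q, ∃ k : ℕ, f ^ k • x = 0) :
    IsZero (((Tor (ModuleCat.{u} R) 1).obj (ModuleCat.of R P)).obj (ModuleCat.of R Q)) := by
  obtain ⟨p, hp⟩ : ∃ p : (Q →₀ R) →ₗ[R] Q, Function.Surjective p :=
    ⟨_, Finsupp.linearCombination_id_surjective R Q⟩
  have hex : Function.Exact (LinearMap.ker p).subtype p := LinearMap.exact_subtype_ker_map p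
  have hcok : ∀ x : Q →₀ R, ∃ (k : ℕ) (y : LinearMap.ker p), f ^ k • x = (LinearMap.ker p).subtype y := by
    intro x
    obtain ⟨k, hk⟩ := hQ (p x)
    have hmem : f ^ k • x ∈ LinearMap.ker p := by
      rw [LinearMap.mem_ker, map_smul, hk]
    exact ⟨k, ⟨f ^ k • x, hmem⟩, rfl⟩
  have hinj0 := @injective_rTensor_of_bijective_smul R _ f (LinearMap.ker p) (Q →₀ R) P _ _ _ _ _ _ (LinearMap.ker p).subtype
      (LinearMap.ker p).injective_subtype hcok hP
  have hinj : Function.Injective (LinearMap.rTensor P (LinearMap.ker p).subtype) := hinj0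
  exact @Groth.Agent.Lib.GluePairTor.isZero_tor_one_of_ses R _ (LinearMap.ker p) (Q →₀ R) Q P
    _ _ _ _ _ _ _ _ _ (LinearMap.ker p).subtype p
    (LinearMap.ker p).injective_subtype hp hex hinj

section glue

variable {R' : Type u} [CommRing R'] [Algebra R R'] (f : R)

/-- `Localization.awayMap` as an `R`-linear map `R_f → R'_f`. -/
noncomputable def awayLin : Localization.Away f →ₗ[R] Localization.Away (algebraMap R R' f) :=
  { toFun := Localization.awayMap (algebraMap R R') f
    map_add' := map_add _
    map_smul' := fun r y => by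
      rw [RingHom.id_apply, Algebra.smul_def, map_mul, Algebra.smul_def]
      congr 1
      rw [Localization.awayMap, IsLocalization.Away.map, IsLocalization.map_eq,
        IsScalarTower.algebraMap_apply R R' (Localization.Away (algebraMap R R' f))] }

lemma awayLin_apply (y : Localization.Away f) :
    awayLin (R' := R') f y = Localization.awayMap (algebraMap R R') f y := rfl

/-- `R → R' × R_f`. -/
noncomputable def glueφ : R →ₗ[R] R' × Localization.Away f :=
  (Algebra.linearMap R R').prod (Algebra.linearMap R (Localization.Away f))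

/-- `R' × R_f → R'_f`, the difference of the two canonical maps. -/
noncomputable def glueψ : R' × Localization.Away f →ₗ[R] Localization.Away (algebraMap R R' f) :=
  ((Algebra.linearMap R' (Localization.Away (algebraMap R R' f))).restrictScalars R) ∘ₗ
      (LinearMap.fst R R' (Localization.Away f)) -
    awayLin f ∘ₗ LinearMap.snd R R' (Localization.Away f)

lemma glueφ_apply (r : R) :
    glueφ (R' := R') f r = (algebraMap R R' r, algebraMap R (Localization.Away f) r) := rfl

lemma glueψ_apply (x : R') (y : Localization.Away f) :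
    glueψ f (x, y) = algebraMap R' (Localization.Away (algebraMap R R' f)) x -
      Localization.awayMap (algebraMap R R') f y := rfl

variable {f}

lemma glue_exact (h : EtGlue.IsGlueingPair R R' f) :
    Function.Exact (glueφ (R' := R') f) (glueψ f) := by
  rintro ⟨x, y⟩
  rw [glueψ_apply, sub_eq_zero]
  constructor
  · intro hxy
    obtain ⟨r, hr1, hr2⟩ := h.2.2.1 x y hxy
    exact ⟨r, by rw [glueφ_apply, hr1, hr2]⟩
  · rintro ⟨r, hr⟩
    rw [glueφ_apply, Prod.mk.injEq] at hr
    rw [← hr.1, ← hr.2, Localization.awayMap, IsLocalization.Away.map, IsLocalization.map_eq]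

lemma glue_injective (h : EtGlue.IsGlueingPair R R' f) :
    Function.Injective (glueφ (R' := R') f) := h.2.1

lemma glue_surjective (h : EtGlue.IsGlueingPair R R' f) :
    Function.Surjective (glueψ (R' := R') f) := by
  intro z
  obtain ⟨x, y, hxy⟩ := h.2.2.2 z
  exact ⟨(x, y), by rw [glueψ_apply, hxy]⟩

/-- For a glueing pair, `Tor_1(R', Q) = 0` for every `f`-power torsion module `Q`. -/
theorem isZero_tor_one_of_torsion (h : EtGlue.IsGlueingPair R R' f) {Q : Type u}
    [AddCommGroup Q] [Module R Q] (hQ : ∀ x : Q, ∃ k : ℕ, f ^ k • x = 0) :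
    IsZero (((Tor (ModuleCat.{u} R) 1).obj (ModuleCat.of R R')).obj (ModuleCat.of R Q)) := by
  have hzero : ModuleCat.ofHom (glueφ (R' := R') f) ≫ ModuleCat.ofHom (glueψ f) = 0 :=
    ModuleCat.hom_ext (LinearMap.ext fun x => (glue_exact h).apply_apply_eq_zero x)
  let S : ShortComplex (ModuleCat.{u} R) :=
    ShortComplex.mk (ModuleCat.ofHom (glueφ (R' := R') f)) (ModuleCat.ofHom (glueψ f)) hzero
  have hS : S.ShortExact :=
    ModuleCat.shortComplex_shortExact S (glue_exact h) (glue_injective h) (glue_surjective h)
  have hfl : Module.Flat R (ModuleCat.of R R) := inferInstanceAs (Module.Flat R R)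
  have h1 : IsZero (((Tor (ModuleCat.{u} R) 1).obj S.X₁).obj (ModuleCat.of R Q)) :=
    isZero_tor_succ_of_flat_left (ModuleCat.of R R) _ 0
  have hP : Function.Bijective
      (fun p : Localization.Away (algebraMap R R' f) => f • p) := by
    have hu : IsUnit (algebraMap R (Localization.Away (algebraMap R R' f)) f) := by
      rw [IsScalarTower.algebraMap_apply R R' (Localization.Away (algebraMap R R' f))]
      exact IsLocalization.Away.algebraMap_isUnit _
    have : (fun p : Localization.Away (algebraMap R R' f) => f • p) =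
        fun p => algebraMap R (Localization.Away (algebraMap R R' f)) f * p := by
      funext p
      exact Algebra.smul_def _ _
    rw [this]
    exact IsUnit.isUnit_iff_mulLeft_bijective.mp hu
  have h3 : IsZero (((Tor (ModuleCat.{u} R) 1).obj S.X₃).obj (ModuleCat.of R Q)) :=
    isZero_tor_one_of_bijective_smul f hP hQ
  have h2 : IsZero (((Tor (ModuleCat.{u} R) 1).obj S.X₂).obj (ModuleCat.of R Q)) :=
    isZero_tor_X₂ hS 1 h1 h3
  let ι : ModuleCat.of R R' ⟶ S.X₂ := ModuleCat.ofHom (LinearMap.inl R R' (Localization.Away f))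
  let π : S.X₂ ⟶ ModuleCat.of R R' := ModuleCat.ofHom (LinearMap.fst R R' (Localization.Away f))
  have hιπ : ι ≫ π = 𝟙 _ := by
    ext x
    rfl
  rw [IsZero.iff_id_eq_zero]
  have h4 : 𝟙 (((Tor (ModuleCat.{u} R) 1).obj (ModuleCat.of R R')).obj (ModuleCat.of R Q)) =
      ((Tor (ModuleCat.{u} R) 1).map ι).app (ModuleCat.of R Q) ≫
        ((Tor (ModuleCat.{u} R) 1).map π).app (ModuleCat.of R Q) := by
    rw [← NatTrans.comp_app, ← Functor.map_comp, hιπ, CategoryTheory.Functor.map_id,
      NatTrans.id_app]
  rw [h4, h2.eq_of_tgt (((Tor (ModuleCat.{u} R) 1).map ι).app (ModuleCat.of R Q)) 0, zero_comp]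

theorem subsingleton_tor_one_of_torsion (h : EtGlue.IsGlueingPair R R' f) {Q : Type u}
    [AddCommGroup Q] [Module R Q] (hQ : ∀ x : Q, ∃ k : ℕ, f ^ k • x = 0) :
    Subsingleton (DRing.Tor R 1 R' Q) :=
  ModuleCat.subsingleton_of_isZero (isZero_tor_one_of_torsion h hQ)

end glue

end Groth.Agent.Lib.GluePairTor2
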