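import Groth.Agent.Lib.TorBalance
import Groth.Agent.Lib.TFunBaseChange
import Groth.Agent.Lib.FlatBaseChangeD

set_option autoImplicit false
universe u

namespace Groth.Agent.Lib.TorBC

open CategoryTheory MonoidalCategory Limits TensorProduct CohIII
open Groth.Agent.Lib.TorLES Groth.Agent.Lib.TorBalance Groth.Agent.Lib.TFunCompare
  Groth.Agent.Lib.TFunBaseChange

variable {A : Type u} [CommRing A] (A' : Type u) [CommRing A'] [Algebra A A']

lemma isZero_of_isZero_RB {X : ModuleCat.{u} A'} (h : IsZero ((RB (A := A) A').obj X)) :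
    IsZero X := by
  have : Subsingleton ((RB (A := A) A').obj X) := ModuleCat.subsingleton_of_isZero h
  have : Subsingleton X := this
  exact ModuleCat.isZero_of_subsingleton X

section

variable {Pm : ModuleCat.{u} A} (R : ProjectiveResolution Pm)

/-- base change of the resolution is exact in positive degrees when `Tor_q(P, A') = 0` -/
lemma exactAt_bcCx
    (hP : ∀ q : ℕ, 0 < q → IsZero (((Tor (ModuleCat.{u} A) q).obj Pm).obj (ModuleCat.of A A')))
    (j : ℕ) : (bcCx (algebraMap A A') R.complex).ExactAt (j + 1) := by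
  rw [HomologicalComplex.exactAt_iff_isZero_homology]
  apply isZero_of_isZero_RB (A := A) A'
  obtain ⟨e2⟩ := tor_iso_homology_projectiveResolution_left R (ModuleCat.of A A') (j + 1)
  exact (hP (j + 1) (Nat.succ_pos j)).of_iso (homologyCompare A' R.complex (j + 1) ≪≫ e2.symm)

/-- extension of scalars is right exact, hence commutes with `opcycles`. -/
noncomputable def opcyclesBcIso (K : ChainComplex (ModuleCat.{u} A) ℕ) (n : ℕ) :
    (bcCx (algebraMap A A') K).opcycles n ≅ (FB (A := A) A').obj (K.opcycles n) :=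
  IsColimit.coconePointUniqueUpToIso
    ((bcCx (algebraMap A A') K).opcyclesIsCokernel (n + 1) n (prev_eq n))
    (CokernelCofork.mapIsColimit _ (K.opcyclesIsCokernel (n + 1) n (prev_eq n)) (FB (A := A) A'))

/-- `Tor_n^{A'}(A' ⊗ P, N) ≅ H_n((A' ⊗ R) ⊗ N)` for a projective resolution `R` of `P` with
`Tor_q^A(P, A') = 0` for `q > 0`. -/
theorem tor_bc_iso_homology
    (hP : ∀ q : ℕ, 0 < q → IsZero (((Tor (ModuleCat.{u} A) q).obj Pm).obj (ModuleCat.of A A')))
    (N : ModuleCat.{u} A') (n : ℕ) :
    Nonempty (((Tor (ModuleCat.{u} A') n).obj ((FB (A := A) A').obj Pm)).obj N ≅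
      (tensorObj (bcCx (algebraMap A A') R.complex) N).homology n) := by
  have hflat : ∀ i, Module.Flat A' ((bcCx (algebraMap A A') R.complex).X i) := fun i => by
    have : Module.Flat A (R.complex.X i) := flat_of_projective _
    exact Groth.Agent.Lib.FlatBaseChangeD.flat_obj (R.complex.X i)
  obtain ⟨e⟩ := tor_opcycles_zero_iso_homology (bcCx (algebraMap A A') R.complex) N hflat
    (exactAt_bcCx A' R hP) n
  exact ⟨torMapIso ((FB (A := A) A').mapIso (opcyclesZeroIso R.complex R.π).symm ≪≫
    (opcyclesBcIso A' R.complex 0).symm) n ≪≫ e⟩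

end

/-- **Base change for Tor** (categorical form): if `Tor_q^A(P, A') = 0` for `q > 0` then the
underlying `A`-module of `Tor_n^{A'}(A' ⊗ P, N)` is `Tor_n^A(P, N)`. -/
theorem tor_bc (Pm : ModuleCat.{u} A)
    (hP : ∀ q : ℕ, 0 < q → IsZero (((Tor (ModuleCat.{u} A) q).obj Pm).obj (ModuleCat.of A A')))
    (N : ModuleCat.{u} A') (n : ℕ) :
    Nonempty (((Tor (ModuleCat.{u} A) n).obj Pm).obj ((RB (A := A) A').obj N) ≅
      (RB (A := A) A').obj (((Tor (ModuleCat.{u} A') n).obj ((FB (A := A) A').obj Pm)).obj N)) := by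
  let R := ProjectiveResolution.of Pm
  obtain ⟨e1⟩ := tor_iso_homology_projectiveResolution_left R ((RB (A := A) A').obj N) n
  obtain ⟨e2⟩ := tor_bc_iso_homology A' R hP N n
  exact ⟨e1 ≪≫ (compareIso A' R.complex n N).symm ≪≫ ((RB (A := A) A').mapIso e2).symm⟩

/-- semilinear bijection from an iso onto the restriction of scalars -/
lemma exists_semilinear_of_iso {X : ModuleCat.{u} A} {Y : ModuleCat.{u} A'}
    (e : X ≅ (RB (A := A) A').obj Y) :
    ∃ φ : X →ₛₗ[algebraMap A A'] Y, Function.Bijective φ := by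
  refine ⟨{ toFun := fun x => e.hom.hom x
            map_add' := fun x y => map_add _ x y
            map_smul' := fun a x => ?_ }, ?_⟩
  · exact e.hom.hom.map_smul a x
  · exact (ConcreteCategory.bijective_of_isIso e.hom)

end Groth.Agent.Lib.TorBC
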