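import Groth.Agent.Lib.TorBalance
import Mathlib.Algebra.Homology.Linear
import Mathlib.Algebra.Homology.ShortComplex.Linear
import Mathlib.RingTheory.Noetherian.Basic
import Mathlib.RingTheory.TensorProduct.Finite
import Mathlib.RingTheory.Finiteness.Cardinality

/-!
# Linearity and finiteness of Mathlib's `Tor` on `ModuleCat R` (helper25)

* `tor_map_smul_app`: `Tor_n(r • f, N) = r • Tor_n(f, N)` (first variable).
* `smul_tor_eq_zero_of_left/right`: `Tor_n(M, N)` is killed by the annihilators of `M` and of `N`.
* `finite_tor`: over a Noetherian ring, `Tor_n(M, N)` is a finite module when `M`, `N` are.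
-/

set_option autoImplicit false
universe u
open CategoryTheory MonoidalCategory Limits

namespace Groth.Agent.Lib.TorLinear

open Groth.Agent.Lib.TorLES Groth.Agent.Lib.TorBalance

variable {R : Type u} [CommRing R]

lemma homologyMap_smul {ι : Type*} {c : ComplexShape ι} {K L : HomologicalComplex (ModuleCat.{u} R) c}
    (r : R) (φ : K ⟶ L) (n : ι) :
    HomologicalComplex.homologyMap (r • φ) n = r • HomologicalComplex.homologyMap φ n := by
  have h : (HomologicalComplex.shortComplexFunctor (ModuleCat.{u} R) c n).map (r • φ) =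
      r • (HomologicalComplex.shortComplexFunctor (ModuleCat.{u} R) c n).map φ := by
    ext <;> rfl
  change ShortComplex.homologyMap ((HomologicalComplex.shortComplexFunctor (ModuleCat.{u} R) c n).map (r • φ)) = _
  rw [h, ShortComplex.homologyMap_smul]
  rfl

lemma smul_whiskerRight {M M' : ModuleCat.{u} R} (r : R) (f : M ⟶ M') (X : ModuleCat.{u} R) :
    (r • f) ▷ X = r • (f ▷ X) := by
  ext : 1
  rw [ModuleCat.hom_whiskerRight]
  change LinearMap.rTensor X (r • f.hom) = r • LinearMap.rTensor X f.hom
  exact LinearMap.rTensor_smul _ _ _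

lemma tensorCx_map_smul (K : ChainComplex (ModuleCat.{u} R) ℕ) {M M' : ModuleCat.{u} R} (r : R)
    (f : M ⟶ M') : (tensorCx K).map (r • f) = r • (tensorCx K).map f := by
  ext i : 1
  rw [tensorCx_map_f, HomologicalComplex.smul_f_apply, tensorCx_map_f]
  exact smul_whiskerRight r f _

/-- `Tor_n(r • f, N) = r • Tor_n(f, N)`: linearity of `Tor` in the first variable. -/
theorem tor_map_smul_app {M M' : ModuleCat.{u} R} (r : R) (f : M ⟶ M') (N : ModuleCat.{u} R) (n : ℕ) :
    ((Tor (ModuleCat.{u} R) n).map (r • f)).app N = r • ((Tor (ModuleCat.{u} R) n).map f).app N := by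
  let P := ProjectiveResolution.of N
  have h1 := torIso_hom_naturality P (r • f) n
  have h2 := torIso_hom_naturality P f n
  rw [tensorCx_map_smul, homologyMap_smul, Linear.comp_smul, ← h2, ← Linear.smul_comp] at h1
  exact (cancel_mono _).mp h1

/-- `Tor_n(M, N)` is killed by every `r` killing `M`. -/
theorem smul_tor_eq_zero_of_left (r : R) (M N : ModuleCat.{u} R) (hr : ∀ m : M, r • m = 0) (n : ℕ)
    (x : ((Tor (ModuleCat.{u} R) n).obj M).obj N) : r • x = 0 := by
  have h0 : r • 𝟙 M = 0 := by
    ext m
    exact hr m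
  have h1 := tor_map_smul_app r (𝟙 M) N n
  rw [h0, tor_map_zero_app, CategoryTheory.Functor.map_id, NatTrans.id_app] at h1
  have h2 := congrArg (fun φ => (ModuleCat.Hom.hom φ) x) h1
  exact h2.symm

/-- `Tor_n(M, N)` is killed by every `r` killing `N`. -/
theorem smul_tor_eq_zero_of_right (r : R) (M N : ModuleCat.{u} R) (hr : ∀ m : N, r • m = 0) (n : ℕ)
    (x : ((Tor (ModuleCat.{u} R) n).obj M).obj N) : r • x = 0 := by
  obtain ⟨e⟩ := tor_symm M N n
  have h1 := smul_tor_eq_zero_of_left r N M hr n (e.hom.hom x)
  rw [← map_smul] at h1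
  have h2 := congrArg e.inv.hom h1
  rw [map_zero] at h2
  rw [← h2]
  exact (congrArg (fun φ => (ModuleCat.Hom.hom φ) (r • x)) e.hom_inv_id).symm

section finite

variable [IsNoetherianRing R]

omit [IsNoetherianRing R] in
lemma finite_of_iso {X Y : ModuleCat.{u} R} (e : X ≅ Y) [Module.Finite R Y] : Module.Finite R X :=
  Module.Finite.equiv e.toLinearEquiv.symm

lemma finite_of_mono {X Y : ModuleCat.{u} R} (f : X ⟶ Y) [Mono f] [Module.Finite R Y] :
    Module.Finite R X :=
  Module.Finite.of_injective f.hom ((ModuleCat.mono_iff_injective f).mp inferInstance)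

/-- Over a Noetherian ring, `Tor_n(M, N)` is finite when `M` and `N` are. -/
theorem finite_tor (N : ModuleCat.{u} R) [Module.Finite R N] :
    ∀ (n : ℕ) (M : ModuleCat.{u} R), Module.Finite R M →
      Module.Finite R (((Tor (ModuleCat.{u} R) n).obj M).obj N) := by
  intro n
  induction n with
  | zero =>
    intro M hM
    have : Module.Finite R (M ⊗ N : ModuleCat.{u} R) :=
      inferInstanceAs (Module.Finite R (TensorProduct R M N))
    exact finite_of_iso (torZeroIso M N)
  | succ n ih =>
    intro M hM
    obtain ⟨k, f, hf⟩ := Module.Finite.exists_fin' R M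
    let S : ShortComplex (ModuleCat.{u} R) :=
      ShortComplex.mk (ModuleCat.ofHom (LinearMap.ker f).subtype)
        (ModuleCat.ofHom f : ModuleCat.of R (Fin k → R) ⟶ M)
        (ModuleCat.hom_ext (LinearMap.ext fun x => x.2))
    have hS : S.ShortExact :=
      ModuleCat.shortComplex_shortExact S (LinearMap.exact_subtype_ker_map f)
        (LinearMap.ker f).injective_subtype hf
    have hfl : Module.Flat R S.X₂ := inferInstanceAs (Module.Flat R (Fin k → R))
    have hK : Module.Finite R S.X₁ := inferInstanceAs (Module.Finite R (LinearMap.ker f))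
    cases n with
    | zero =>
      have e := torOneIsoKernel hS N
      have : Module.Finite R (S.X₁ ⊗ N : ModuleCat.{u} R) :=
        inferInstanceAs (Module.Finite R (TensorProduct R S.X₁ N))
      have : Module.Finite R (kernel (S.f ▷ N) : ModuleCat.{u} R) :=
        finite_of_mono (kernel.ι (S.f ▷ N))
      exact finite_of_iso e
    | succ n =>
      have := ih S.X₁ hK
      exact finite_of_iso (δIso hS N n)

end finite

end Groth.Agent.Lib.TorLinear
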