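/-
Lib/GluePairFlat (helper25): flatness descends along a glueing pair (R -> R', f)  [Stacks 15.90 / EtAlg S2002].
Main results (namespace Groth.Agent.Lib.GluePairFlat):
* isZero_tor_of_restrictScalars / isZero_tor_of_isScalarTower : Tor-independent base change vanishing
    (Tor_q^A(P,A')=0 for q>0, A'⊗P flat over A'  ==>  Tor_n^A(P, X)=0 for A'-modules X, n>0).
* isZero_tor_of_away_module, isZero_tor_algebra (Tor_n^R(R',M)=0), isZero_tor_of_algebra_module,
  bijective_mk_one_of_torsionBy (Q killed by f^k => Q ≅ R'⊗Q), isZero_tor_of_torsionBy.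
* exists_pow_smul_eq_zero : Tor_1(M,N) is f-power torsion when M_f is R_f-flat.
* mono_smul_tor_one, isZero_tor_one, flat_of_glueingPair, flat_iff_of_glueingPair :
    M flat over R  <->  R'⊗M flat over R' and M_f flat over R_f.
-/
import Groth.Agent.Lib.TorBC
import Groth.Agent.Lib.TorOne
import Groth.Agent.Lib.GluePairTor2
import Groth.Agent.Lib.TorLinear

set_option autoImplicit false
universe u
open CategoryTheory MonoidalCategory Limits TensorProduct

namespace Groth.Agent.Lib.GluePairFlat

open Groth.Agent.Lib.TorLES Groth.Agent.Lib.TorBalance Groth.Agent.Lib.EtGlueQuot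
  Groth.Agent.Lib.TFunCompare Groth.Agent.Lib.TorBC Groth.Agent.Lib.GluePairTor2

section basechange

variable {A : Type u} [CommRing A] (A' : Type u) [CommRing A'] [Algebra A A']

/-- Tor-independent base change: if `Tor_q^A(P, A') = 0` for `q > 0` and `A' ⊗ P` is `A'`-flat then
`Tor_n^A(P, N) = 0` for every `A'`-module `N` and `n > 0`. -/
theorem isZero_tor_of_restrictScalars (P : ModuleCat.{u} A)
    (hP : ∀ q : ℕ, 0 < q → IsZero (((Tor (ModuleCat.{u} A) q).obj P).obj (ModuleCat.of A A')))
    (hfl : Module.Flat A' (A' ⊗[A] P)) (N : ModuleCat.{u} A') (n : ℕ) :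
    IsZero (((Tor (ModuleCat.{u} A) (n + 1)).obj P).obj ((RB (A := A) A').obj N)) := by
  obtain ⟨e⟩ := tor_bc A' P hP N (n + 1)
  have hfl' : Module.Flat A' ((FB (A := A) A').obj P) :=
    Module.Flat.of_linearEquiv (Groth.Agent.Lib.TildePullback.extendScalarsEquiv A A' P)
  have hz : IsZero (((Tor (ModuleCat.{u} A') (n + 1)).obj ((FB (A := A) A').obj P)).obj N) :=
    isZero_tor_succ_of_flat_left _ _ n
  refine IsZero.of_iso ?_ e
  have : Subsingleton (((Tor (ModuleCat.{u} A') (n + 1)).obj ((FB (A := A) A').obj P)).obj N) :=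
    ModuleCat.subsingleton_of_isZero hz
  have : Subsingleton ((RB (A := A) A').obj
      (((Tor (ModuleCat.{u} A') (n + 1)).obj ((FB (A := A) A').obj P)).obj N)) := this
  exact ModuleCat.isZero_of_subsingleton _

/-- Variant for an `A`-module carrying a compatible `A'`-module structure. -/
theorem isZero_tor_of_isScalarTower (P : ModuleCat.{u} A)
    (hP : ∀ q : ℕ, 0 < q → IsZero (((Tor (ModuleCat.{u} A) q).obj P).obj (ModuleCat.of A A')))
    (hfl : Module.Flat A' (A' ⊗[A] P)) (X : Type u) [AddCommGroup X] [Module A X] [Module A' X]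
    [IsScalarTower A A' X] (n : ℕ) :
    IsZero (((Tor (ModuleCat.{u} A) (n + 1)).obj P).obj (ModuleCat.of A X)) := by
  have h := isZero_tor_of_restrictScalars A' P hP hfl (ModuleCat.of A' X) n
  let e' : X ≃ₗ[A] ((RB (A := A) A').obj (ModuleCat.of A' X)) :=
    { toFun := fun x => x
      invFun := fun x => x
      map_add' := fun _ _ => rfl
      map_smul' := fun a x => by
        change a • x = algebraMap A A' a • x
        rw [algebraMap_smul]
      left_inv := fun _ => rfl
      right_inv := fun _ => rfl }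
  let e : ModuleCat.of A X ≅ (RB (A := A) A').obj (ModuleCat.of A' X) :=
    LinearEquiv.toModuleIso e'
  exact IsZero.of_iso h (((Tor (ModuleCat.{u} A) (n + 1)).obj P).mapIso e)

end basechange

section main

variable {R R' : Type u} [CommRing R] [CommRing R'] [Algebra R R'] {f : R}
variable (M : Type u) [AddCommGroup M] [Module R M]

/-- Step 3: `Tor_n^R(M, X) = 0` (`n > 0`) for `R_f`-modules `X` when `M_f` is `R_f`-flat. -/
theorem isZero_tor_of_away_module
    (hMf : Module.Flat (Localization.Away f) (LocalizedModule (Submonoid.powers f) M))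
    (X : Type u) [AddCommGroup X] [Module R X] [Module (Localization.Away f) X]
    [IsScalarTower R (Localization.Away f) X] (n : ℕ) :
    IsZero (((Tor (ModuleCat.{u} R) (n + 1)).obj (ModuleCat.of R M)).obj (ModuleCat.of R X)) := by
  refine isZero_tor_of_isScalarTower (Localization.Away f) (ModuleCat.of R M) ?_ ?_ X n
  · intro q hq
    obtain ⟨q', rfl⟩ : ∃ q', q = q' + 1 := ⟨q - 1, by omega⟩
    have : Module.Flat R (ModuleCat.of R (Localization.Away f)) :=
      inferInstanceAs (Module.Flat R (Localization.Away f))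
    exact isZero_tor_succ_of_flat_right (ModuleCat.of R (Localization.Away f)) q' _
  · exact Module.Flat.of_linearEquiv
      (IsLocalizedModule.isBaseChange (Submonoid.powers f) (Localization.Away f)
        (LocalizedModule.mkLinearMap (Submonoid.powers f) M)).equiv

/-- Step 1: `Tor_n^R(R', M) = 0` for `n > 0`, for a glueing pair with `M_f` flat over `R_f`. -/
theorem isZero_tor_algebra (hRR : EtGlue.IsGlueingPair R R' f)
    (hMf : Module.Flat (Localization.Away f) (LocalizedModule (Submonoid.powers f) M)) (n : ℕ) :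
    IsZero (((Tor (ModuleCat.{u} R) (n + 1)).obj (ModuleCat.of R R')).obj (ModuleCat.of R M)) := by
  have hzero : ModuleCat.ofHom (glueφ (R' := R') f) ≫ ModuleCat.ofHom (glueψ f) = 0 :=
    ModuleCat.hom_ext (LinearMap.ext fun x => (glue_exact hRR).apply_apply_eq_zero x)
  let S : ShortComplex (ModuleCat.{u} R) :=
    ShortComplex.mk (ModuleCat.ofHom (glueφ (R' := R') f)) (ModuleCat.ofHom (glueψ f)) hzero
  have hS : S.ShortExact :=
    ModuleCat.shortComplex_shortExact S (glue_exact hRR) (glue_injective hRR) (glue_surjective hRR)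
  have hfl : Module.Flat R (ModuleCat.of R R) := inferInstanceAs (Module.Flat R R)
  have h1 : IsZero (((Tor (ModuleCat.{u} R) (n + 1)).obj S.X₁).obj (ModuleCat.of R M)) :=
    isZero_tor_succ_of_flat_left (ModuleCat.of R R) _ n
  have h3 : IsZero (((Tor (ModuleCat.{u} R) (n + 1)).obj S.X₃).obj (ModuleCat.of R M)) := by
    let _ : Algebra (Localization.Away f) (Localization.Away (algebraMap R R' f)) :=
      (Localization.awayMap (algebraMap R R') f).toAlgebra
    have : IsScalarTower R (Localization.Away f) (Localization.Away (algebraMap R R' f)) := by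
      apply IsScalarTower.of_algebraMap_eq
      intro r
      rw [RingHom.algebraMap_toAlgebra, Localization.awayMap, IsLocalization.Away.map,
        IsLocalization.map_eq,
        IsScalarTower.algebraMap_apply R R' (Localization.Away (algebraMap R R' f))]
    exact isZero_tor_symm
      (isZero_tor_of_away_module M hMf (Localization.Away (algebraMap R R' f)) n)
  have h2 : IsZero (((Tor (ModuleCat.{u} R) (n + 1)).obj S.X₂).obj (ModuleCat.of R M)) :=
    isZero_tor_X₂ hS (n + 1) h1 h3
  let ι : ModuleCat.of R R' ⟶ S.X₂ := ModuleCat.ofHom (LinearMap.inl R R' (Localization.Away f))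
  let π : S.X₂ ⟶ ModuleCat.of R R' := ModuleCat.ofHom (LinearMap.fst R R' (Localization.Away f))
  have hιπ : ι ≫ π = 𝟙 _ := by
    ext x
    rfl
  rw [IsZero.iff_id_eq_zero]
  have h4 : 𝟙 (((Tor (ModuleCat.{u} R) (n + 1)).obj (ModuleCat.of R R')).obj (ModuleCat.of R M)) =
      ((Tor (ModuleCat.{u} R) (n + 1)).map ι).app (ModuleCat.of R M) ≫
        ((Tor (ModuleCat.{u} R) (n + 1)).map π).app (ModuleCat.of R M) := by
    rw [← NatTrans.comp_app, ← Functor.map_comp, hιπ, CategoryTheory.Functor.map_id,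
      NatTrans.id_app]
  rw [h4, h2.eq_of_tgt (((Tor (ModuleCat.{u} R) (n + 1)).map ι).app (ModuleCat.of R M)) 0,
    zero_comp]

/-- Step 2: `Tor_n^R(M, X) = 0` (`n > 0`) for `R'`-modules `X`. -/
theorem isZero_tor_of_algebra_module (hRR : EtGlue.IsGlueingPair R R' f)
    (hM' : Module.Flat R' (R' ⊗[R] M))
    (hMf : Module.Flat (Localization.Away f) (LocalizedModule (Submonoid.powers f) M))
    (X : Type u) [AddCommGroup X] [Module R X] [Module R' X] [IsScalarTower R R' X] (n : ℕ) :
    IsZero (((Tor (ModuleCat.{u} R) (n + 1)).obj (ModuleCat.of R M)).obj (ModuleCat.of R X)) := by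
  refine isZero_tor_of_isScalarTower R' (ModuleCat.of R M) ?_ hM' X n
  intro q hq
  obtain ⟨q', rfl⟩ : ∃ q', q = q' + 1 := ⟨q - 1, by omega⟩
  exact isZero_tor_symm (isZero_tor_algebra M hRR hMf q')

/-- For `Q` killed by `f^k`, `q ↦ 1 ⊗ q : Q → R' ⊗ Q` is bijective. -/
theorem bijective_mk_one_of_torsionBy (hq : EtGlue.QuotPowBijective R R' f) (Q : Type u)
    [AddCommGroup Q] [Module R Q] (k : ℕ) (hk : 0 < k) (hQ : ∀ x : Q, f ^ k • x = 0) :
    Function.Bijective (TensorProduct.mk R R' Q 1) := by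
  obtain ⟨ρ, hρ⟩ := exists_retraction hq k hk Q hQ
  refine ⟨Function.LeftInverse.injective (g := ρ) hρ, ?_⟩
  intro z
  induction z using TensorProduct.induction_on with
  | zero => exact ⟨0, map_zero _⟩
  | tmul r' x =>
    obtain ⟨a, c, hac⟩ := quot_surj hq k hk r'
    refine ⟨a • x, ?_⟩
    have h1 : (c * algebraMap R R' f ^ k) ⊗ₜ[R] x = 0 := by
      rw [← map_pow, mul_comm, ← Algebra.smul_def, TensorProduct.smul_tmul, hQ, tmul_zero]
    rw [TensorProduct.mk_apply, hac, TensorProduct.add_tmul, h1, add_zero,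
      Algebra.algebraMap_eq_smul_one, TensorProduct.smul_tmul]
  | add x y hx hy =>
    obtain ⟨s, rfl⟩ := hx
    obtain ⟨t, rfl⟩ := hy
    exact ⟨s + t, map_add _ _ _⟩

/-- Step 4: `Tor_n^R(M, Q) = 0` (`n > 0`) for `Q` killed by a power of `f`. -/
theorem isZero_tor_of_torsionBy (hRR : EtGlue.IsGlueingPair R R' f)
    (hM' : Module.Flat R' (R' ⊗[R] M))
    (hMf : Module.Flat (Localization.Away f) (LocalizedModule (Submonoid.powers f) M))
    (Q : Type u) [AddCommGroup Q] [Module R Q] (k : ℕ) (hk : 0 < k) (hQ : ∀ x : Q, f ^ k • x = 0)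
    (n : ℕ) :
    IsZero (((Tor (ModuleCat.{u} R) (n + 1)).obj (ModuleCat.of R M)).obj (ModuleCat.of R Q)) := by
  let e : Q ≃ₗ[R] R' ⊗[R] Q :=
    LinearEquiv.ofBijective (TensorProduct.mk R R' Q 1) (bijective_mk_one_of_torsionBy hRR.1 Q k hk hQ)
  have h := isZero_tor_of_algebra_module M hRR hM' hMf (R' ⊗[R] Q) n
  exact IsZero.of_iso h (((Tor (ModuleCat.{u} R) (n + 1)).obj (ModuleCat.of R M)).mapIso
    e.toModuleIso)

/-- Auxiliary form of Step 5 for a general flat presentation. -/
theorem exists_pow_smul_eq_zero_aux (f : R) {S : ShortComplex (ModuleCat.{u} R)} (hS : S.ShortExact)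
    [Module.Flat R S.X₂] (N : ModuleCat.{u} R)
    (h0 : IsZero (((Tor (ModuleCat.{u} R) 1).obj S.X₃).obj
      (ModuleCat.of R (LocalizedModule (Submonoid.powers f) N))))
    (ξ : ((Tor (ModuleCat.{u} R) 1).obj S.X₃).obj N) : ∃ k : ℕ, f ^ k • ξ = 0 := by
  have hmono : Mono (Groth.Agent.Lib.TorOne.phi hS N) := Groth.Agent.Lib.TorOne.phi_mono hS N
  have hinjφ : Function.Injective (Groth.Agent.Lib.TorOne.phi hS N).hom :=
    (ModuleCat.mono_iff_injective _).mp hmono
  let z : S.X₁ ⊗[R] N := (Groth.Agent.Lib.TorOne.phi hS N).hom ξ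
  have hz : (S.f.hom.rTensor N) z = 0 :=
    congrArg (fun t => t.hom ξ) (Groth.Agent.Lib.TorOne.phi_comp hS N)
  let Nf := LocalizedModule (Submonoid.powers f) N
  let l : N →ₗ[R] Nf := LocalizedModule.mkLinearMap (Submonoid.powers f) N
  have hinj : Function.Injective (S.f.hom.rTensor Nf) := by
    have hex := Groth.Agent.Lib.TorOne.phi_exact hS (ModuleCat.of R Nf)
    have hm : Mono (S.f ▷ ModuleCat.of R Nf) := hex.mono_g (h0.eq_of_src _ _)
    exact (ModuleCat.mono_iff_injective _).mp hm
  have hz' : (l.lTensor S.X₁) z = 0 := by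
    apply hinj
    rw [map_zero, ← LinearMap.comp_apply, LinearMap.rTensor_comp_lTensor,
      ← LinearMap.lTensor_comp_rTensor, LinearMap.comp_apply, hz, map_zero]
  let w : N ⊗[R] S.X₁ := TensorProduct.comm R S.X₁ N z
  have hw : (TensorProduct.AlgebraTensorModule.rTensor R S.X₁ l) w =
      (TensorProduct.AlgebraTensorModule.rTensor R S.X₁ l) 0 := by
    rw [map_zero]
    have h1 : (TensorProduct.AlgebraTensorModule.rTensor R S.X₁ l) ∘ₗ
        (TensorProduct.comm R S.X₁ N).toLinearMap =
        (TensorProduct.comm R S.X₁ Nf).toLinearMap ∘ₗ (l.lTensor S.X₁) := by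
      apply TensorProduct.ext'
      intro a b
      rfl
    have h2 := congrArg (fun t => t z) h1
    simp only [LinearMap.comp_apply, LinearEquiv.coe_coe] at h2
    rw [hz', map_zero] at h2
    exact h2
  obtain ⟨⟨_, k, rfl⟩, hc⟩ := IsLocalizedModule.exists_of_eq (S := Submonoid.powers f)
    (f := TensorProduct.AlgebraTensorModule.rTensor R S.X₁ l) hw
  refine ⟨k, ?_⟩
  apply hinjφ
  rw [map_zero, map_smul]
  have h3 : f ^ k • w = 0 := by simpa [Submonoid.smul_def] using hc
  have h4 : f ^ k • z = (TensorProduct.comm R S.X₁ N).symm (f ^ k • w) := by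
    rw [map_smul, LinearEquiv.symm_apply_apply]
  rw [show (Groth.Agent.Lib.TorOne.phi hS N).hom ξ = z from rfl, h4, h3, map_zero]

/-- Step 5: every element of `Tor_1(M, N)` is `f`-power torsion when `M_f` is `R_f`-flat. -/
theorem exists_pow_smul_eq_zero
    (hMf : Module.Flat (Localization.Away f) (LocalizedModule (Submonoid.powers f) M))
    (N : ModuleCat.{u} R)
    (ξ : ((Tor (ModuleCat.{u} R) 1).obj (ModuleCat.of R M)).obj N) : ∃ k : ℕ, f ^ k • ξ = 0 := by
  have hF : Module.Flat R (projPres (ModuleCat.of R M)).X₂ := flat_of_projective _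
  exact exists_pow_smul_eq_zero_aux f (projPres_shortExact (ModuleCat.of R M)) N
    (isZero_tor_of_away_module M hMf (LocalizedModule (Submonoid.powers f) N) 0) ξ

/-- Step 6: multiplication by `f^k` (`k > 0`) is injective on `Tor_1(N, M)`. -/
theorem mono_smul_tor_one (hRR : EtGlue.IsGlueingPair R R' f)
    (hM' : Module.Flat R' (R' ⊗[R] M))
    (hMf : Module.Flat (Localization.Away f) (LocalizedModule (Submonoid.powers f) M))
    (N : ModuleCat.{u} R) (k : ℕ) (hk : 0 < k) :
    Mono (f ^ k • 𝟙 (((Tor (ModuleCat.{u} R) 1).obj N).obj (ModuleCat.of R M))) := by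
  let MM : ModuleCat.{u} R := ModuleCat.of R M
  let g : N →ₗ[R] N := f ^ k • LinearMap.id
  let N₁ : Submodule R N := LinearMap.ker g
  let N₂ : Submodule R N := LinearMap.range g
  have hex1 : Function.Exact N₁.subtype g.rangeRestrict := by
    intro y
    constructor
    · intro hy
      have : g y = 0 := congrArg Subtype.val hy
      exact ⟨⟨y, this⟩, rfl⟩
    · rintro ⟨x, rfl⟩
      exact Subtype.ext x.2
  have hzero1 : ModuleCat.ofHom N₁.subtype ≫ ModuleCat.ofHom g.rangeRestrict = 0 :=
    ModuleCat.hom_ext (LinearMap.ext fun x => hex1.apply_apply_eq_zero x)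
  let S1 : ShortComplex (ModuleCat.{u} R) :=
    ShortComplex.mk (ModuleCat.ofHom N₁.subtype) (ModuleCat.ofHom g.rangeRestrict) hzero1
  have hS1 : S1.ShortExact :=
    ModuleCat.shortComplex_shortExact S1 hex1 N₁.injective_subtype g.surjective_rangeRestrict
  have hex2 : Function.Exact N₂.subtype N₂.mkQ := LinearMap.exact_subtype_mkQ N₂
  have hzero2 : ModuleCat.ofHom N₂.subtype ≫ ModuleCat.ofHom N₂.mkQ = 0 :=
    ModuleCat.hom_ext (LinearMap.ext fun x => hex2.apply_apply_eq_zero x)
  let S2 : ShortComplex (ModuleCat.{u} R) :=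
    ShortComplex.mk (ModuleCat.ofHom N₂.subtype) (ModuleCat.ofHom N₂.mkQ) hzero2
  have hS2 : S2.ShortExact :=
    ModuleCat.shortComplex_shortExact S2 hex2 N₂.injective_subtype N₂.mkQ_surjective
  have hQ1 : ∀ x : N₁, f ^ k • x = 0 := by
    intro x
    apply Subtype.ext
    exact x.2
  have hQ2 : ∀ x : N ⧸ N₂, f ^ k • x = 0 := by
    intro x
    obtain ⟨y, rfl⟩ := N₂.mkQ_surjective x
    rw [← map_smul, Submodule.mkQ_apply, Submodule.Quotient.mk_eq_zero]
    exact ⟨y, rfl⟩
  have hT1 : IsZero (((Tor (ModuleCat.{u} R) 1).obj S1.X₁).obj MM) :=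
    isZero_tor_symm (isZero_tor_of_torsionBy M hRR hM' hMf N₁ k hk hQ1 0)
  have hT2 : IsZero (((Tor (ModuleCat.{u} R) 2).obj S2.X₃).obj MM) :=
    isZero_tor_symm (isZero_tor_of_torsionBy M hRR hM' hMf (N ⧸ N₂) k hk hQ2 1)
  have hm1 : Mono (((Tor (ModuleCat.{u} R) 1).map S1.g).app MM) :=
    (exact₂ (N := MM) hS1 1).mono_g (hT1.eq_of_src _ _)
  have hm2 : Mono (((Tor (ModuleCat.{u} R) 1).map S2.f).app MM) :=
    (exact₁ (ProjectiveResolution.of MM) hS2 1).mono_g (hT2.eq_of_src _ _)
  have hcomp : S1.g ≫ S2.f = f ^ k • 𝟙 N := by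
    ext x
    rfl
  have hmap : ((Tor (ModuleCat.{u} R) 1).map (S1.g ≫ S2.f)).app MM =
      f ^ k • 𝟙 (((Tor (ModuleCat.{u} R) 1).obj N).obj MM) := by
    rw [hcomp, Groth.Agent.Lib.TorLinear.tor_map_smul_app, CategoryTheory.Functor.map_id,
      NatTrans.id_app]
  rw [← hmap, Functor.map_comp, NatTrans.comp_app]
  exact mono_comp _ _

/-- Step 7: `Tor_1(N, M) = 0` for every `N`. -/
theorem isZero_tor_one (hRR : EtGlue.IsGlueingPair R R' f)
    (hM' : Module.Flat R' (R' ⊗[R] M))
    (hMf : Module.Flat (Localization.Away f) (LocalizedModule (Submonoid.powers f) M))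
    (N : ModuleCat.{u} R) :
    IsZero (((Tor (ModuleCat.{u} R) 1).obj N).obj (ModuleCat.of R M)) := by
  have : Subsingleton (((Tor (ModuleCat.{u} R) 1).obj N).obj (ModuleCat.of R M)) := by
    refine ⟨fun a b => ?_⟩
    suffices h : ∀ ξ : ((Tor (ModuleCat.{u} R) 1).obj N).obj (ModuleCat.of R M), ξ = 0 by
      rw [h a, h b]
    intro ξ
    obtain ⟨e⟩ := tor_symm N (ModuleCat.of R M) 1
    obtain ⟨k, hk⟩ := exists_pow_smul_eq_zero M hMf N (e.hom.hom ξ)
    have h1 : f ^ k • ξ = 0 := by
      have hinj : Function.Injective e.hom.hom :=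
        (ModuleCat.mono_iff_injective e.hom).mp inferInstance
      apply hinj
      rw [map_smul, hk, map_zero]
    have h2 : f ^ (k + 1) • ξ = 0 := by
      rw [pow_succ', mul_smul, h1, smul_zero]
    have hm := mono_smul_tor_one M hRR hM' hMf N (k + 1) (Nat.succ_pos k)
    have hinj2 := (ModuleCat.mono_iff_injective _).mp hm
    apply hinj2
    rw [map_zero]
    exact h2
  exact ModuleCat.isZero_of_subsingleton _

/-- **Flatness for a glueing pair** (hard direction). -/
theorem flat_of_glueingPair (hRR : EtGlue.IsGlueingPair R R' f)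
    (hM' : Module.Flat R' (R' ⊗[R] M))
    (hMf : Module.Flat (Localization.Away f) (LocalizedModule (Submonoid.powers f) M)) :
    Module.Flat R M := by
  rw [Module.Flat.iff_rTensor_preserves_injective_linearMap'.{u, u, u}]
  intro N N' _ _ _ _ g hg
  have hex : Function.Exact g (LinearMap.range g).mkQ := LinearMap.exact_map_mkQ_range g
  have hzero : ModuleCat.ofHom g ≫ ModuleCat.ofHom (LinearMap.range g).mkQ = 0 :=
    ModuleCat.hom_ext (LinearMap.ext fun x => hex.apply_apply_eq_zero x)
  let S : ShortComplex (ModuleCat.{u} R) :=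
    ShortComplex.mk (ModuleCat.ofHom g) (ModuleCat.ofHom (LinearMap.range g).mkQ) hzero
  have hS : S.ShortExact :=
    ModuleCat.shortComplex_shortExact S hex hg (LinearMap.range g).mkQ_surjective
  have h0 := isZero_tor_one M hRR hM' hMf S.X₃
  have hexφ := Groth.Agent.Lib.TorOne.phi_exact hS (ModuleCat.of R M)
  have hm : Mono (S.f ▷ ModuleCat.of R M) := hexφ.mono_g (h0.eq_of_src _ _)
  exact (ModuleCat.mono_iff_injective _).mp hm

/-- **Flatness for a glueing pair**: `M` is flat iff `R' ⊗ M` and `M_f` are. -/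
theorem flat_iff_of_glueingPair (hRR : EtGlue.IsGlueingPair R R' f) :
    Module.Flat R M ↔ Module.Flat R' (R' ⊗[R] M) ∧
      Module.Flat (Localization.Away f) (LocalizedModule (Submonoid.powers f) M) := by
  constructor
  · intro h
    exact ⟨inferInstance, inferInstance⟩
  · rintro ⟨h1, h2⟩
    exact flat_of_glueingPair M hRR h1 h2

end main

end Groth.Agent.Lib.GluePairFlat
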