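/-
Lib/GlueableAlg (helper25): a glueable R-algebra A gives a glueing pair (A -> R'⊗A, f).
* quotPowBijective : QuotPowBijective R R' f  ==>  QuotPowBijective A (R'⊗A) f_A   (rightAlgebra).
* isGlueingPair_of_isGlueable : + IsGlueable R R' f A  ==>  IsGlueingPair A (R'⊗A) f_A  (via S2004/S2005).
-/
import Groth.Agent.S2004
import Groth.Agent.S2005

set_option autoImplicit false
universe u
open TensorProduct

namespace Groth.Agent.Lib.GlueableAlg

open Groth.Agent.Lib.EtGlueQuot

attribute [local instance] Algebra.TensorProduct.rightAlgebra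

variable {R : Type u} [CommRing R] {R' : Type u} [CommRing R'] [Algebra R R'] {f : R}
variable (A : Type u) [CommRing A] [Algebra R A]

lemma algebraMap_right_apply (a : A) : algebraMap A (R' ⊗[R] A) a = (1 : R') ⊗ₜ[R] a := rfl

lemma algebraMap_pow_mul (n : ℕ) (x : R' ⊗[R] A) :
    algebraMap A (R' ⊗[R] A) (algebraMap R A f) ^ n * x = f ^ n • x := by
  rw [← map_pow, ← map_pow, algebraMap_right_apply, Algebra.algebraMap_eq_smul_one,
    TensorProduct.tmul_smul, ← Algebra.TensorProduct.one_def, smul_mul_assoc, one_mul]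

/-- `A/f^n → (R' ⊗ A)/f^n` is bijective. -/
theorem quotPowBijective (hq : EtGlue.QuotPowBijective R R' f) :
    EtGlue.QuotPowBijective A (R' ⊗[R] A) (algebraMap R A f) := by
  intro n hn
  constructor
  · rw [injective_iff_map_eq_zero]
    intro x hx
    obtain ⟨a, rfl⟩ := Ideal.Quotient.mk_surjective x
    rw [Ideal.quotientMap_mk, Ideal.Quotient.eq_zero_iff_mem, Ideal.map_span, Set.image_singleton,
      Ideal.mem_span_singleton'] at hx
    obtain ⟨z, hz⟩ := hx
    rw [map_pow, mul_comm, algebraMap_pow_mul] at hz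
    obtain ⟨r, hr⟩ := Groth.Agent.S2005.tmul_mem_smul hq n hn A a z hz.symm
    rw [Ideal.Quotient.eq_zero_iff_mem, Ideal.mem_span_singleton']
    refine ⟨r, ?_⟩
    rw [hr, ← map_pow, Algebra.smul_def, mul_comm]
  · intro y
    obtain ⟨z, rfl⟩ := Ideal.Quotient.mk_surjective y
    induction z using TensorProduct.induction_on with
    | zero => exact ⟨0, by simp⟩
    | tmul r' a =>
      obtain ⟨b, c, hbc⟩ := quot_surj hq n hn r'
      refine ⟨Ideal.Quotient.mk _ (b • a), ?_⟩
      rw [Ideal.quotientMap_mk, Ideal.Quotient.eq, Ideal.map_span, Set.image_singleton,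
        Ideal.mem_span_singleton']
      refine ⟨-(c ⊗ₜ[R] a), ?_⟩
      rw [map_pow, mul_comm, algebraMap_pow_mul, algebraMap_right_apply, hbc, TensorProduct.add_tmul,
        Algebra.algebraMap_eq_smul_one, TensorProduct.smul_tmul, smul_neg, ← map_pow, mul_comm c,
        ← Algebra.smul_def, TensorProduct.smul_tmul']
      abel
    | add x y hx hy =>
      obtain ⟨s, hs⟩ := hx
      obtain ⟨t, ht⟩ := hy
      exact ⟨s + t, by rw [map_add, hs, ht, map_add]⟩

/-- A glueable `R`-algebra `A` gives a glueing pair `(A → R' ⊗ A, f)`. -/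
theorem isGlueingPair_of_isGlueable (hq : EtGlue.QuotPowBijective R R' f)
    (hA : EtGlue.IsGlueable R R' f A) :
    EtGlue.IsGlueingPair A (R' ⊗[R] A) (algebraMap R A f) := by
  rw [Groth.Agent.S2004.result A (R' ⊗[R] A) (algebraMap R A f) (quotPowBijective A hq)]
  obtain ⟨h1, h2⟩ := ((Groth.Agent.S2005.result R R' f hq A).1).mp hA
  constructor
  · intro x hx hx0
    apply h1 x _ hx0
    obtain ⟨n, hn⟩ := hx
    exact ⟨n, by rw [Algebra.smul_def, map_pow]; exact hn⟩
  · intro x' hx'
    obtain ⟨n, hn⟩ := hx'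
    rw [algebraMap_pow_mul] at hn
    obtain ⟨m, ⟨k, hk⟩, hm⟩ := h2 x' ⟨n, hn⟩
    refine ⟨m, ⟨k, ?_⟩, hm⟩
    rw [← map_pow, ← Algebra.smul_def]
    exact hk

end Groth.Agent.Lib.GlueableAlg
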