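/-
Lib/GlueAlgFlat (helper25): glueing pairs detect flat ring maps between glueable algebras.
* flat_tensorMap_iff : (R'⊗A -> R'⊗B).Flat  <->  Module.Flat (R'⊗A) ((R'⊗A)⊗[A]B)   (rightAlgebra on R'⊗A).
* flat_awayMap_iff : (A_a -> B_{φ a}).Flat  <->  Module.Flat A_a (LocalizedModule (powers a) B).
* flat_iff : statement of S12188.
-/
import Groth.Agent.Lib.GlueableAlg
import Groth.Agent.Lib.GluePairFlat
import Mathlib.RingTheory.RingHom.Flat

set_option autoImplicit false
set_option linter.style.haveILetI false
universe u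
open TensorProduct

namespace Groth.Agent.Lib.GlueAlgFlat

attribute [local instance] Algebra.TensorProduct.rightAlgebra

variable {R : Type u} [CommRing R] {R' : Type u} [CommRing R'] [Algebra R R'] {f : R}
variable {A B : Type u} [CommRing A] [Algebra R A] [CommRing B] [Algebra R B]

/-- Translation for the tensor part: `R' ⊗ A → R' ⊗ B` is flat iff `(R' ⊗ A) ⊗_A B` is flat over
`R' ⊗ A`. -/
theorem flat_tensorMap_iff (φ : A →ₐ[R] B) :
    (Algebra.TensorProduct.map (AlgHom.id R R') φ).toRingHom.Flat ↔
      (letI : Algebra A B := φ.toRingHom.toAlgebra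
       Module.Flat (R' ⊗[R] A) ((R' ⊗[R] A) ⊗[A] B)) := by
  have heq : (Algebra.TensorProduct.map (AlgHom.id R R') φ).toRingHom =
      (Algebra.TensorProduct.lTensor (S := R') R' φ).toRingHom := by
    apply RingHom.ext
    intro x
    rfl
  rw [heq]
  algebraize [φ.toRingHom, (Algebra.TensorProduct.lTensor (S := R') R' φ).toRingHom]
  let e : R' ⊗[R] B ≃ₐ[R' ⊗[R] A] (R' ⊗[R] A) ⊗[A] B :=
    { __ := (Algebra.IsPushout.cancelBaseChangeAlg _ _ _ _ _).symm,
      commutes' x := congr($(Algebra.IsPushout.cancelBaseChange_symm_comp_lTensor R A B R') x) }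
  change Module.Flat (R' ⊗[R] A) (R' ⊗[R] B) ↔ _
  exact ⟨fun h => .of_linearEquiv e.symm.toLinearEquiv, fun h => .of_linearEquiv e.toLinearEquiv⟩

/-- Translation for the localization part: `A_f → B_f` is flat iff the localized module `B_f` is
flat over `A_f`. -/
theorem flat_awayMap_iff (φ : A →ₐ[R] B) (a : A) :
    (Localization.awayMap φ.toRingHom a).Flat ↔
      (letI : Algebra A B := φ.toRingHom.toAlgebra
       Module.Flat (Localization.Away a) (LocalizedModule (Submonoid.powers a) B)) := by
  letI : Algebra A B := φ.toRingHom.toAlgebra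
  let Af := Localization.Away a
  let Bf := Localization.Away (φ.toRingHom a)
  let g : Af →+* Bf := Localization.awayMap φ.toRingHom a
  letI : Algebra Af Bf := g.toAlgebra
  haveI : IsScalarTower A Af Bf := IsScalarTower.of_algebraMap_eq fun x => by
    rw [RingHom.algebraMap_toAlgebra]
    change _ = Localization.awayMap φ.toRingHom a (algebraMap A Af x)
    rw [IsScalarTower.algebraMap_apply A B Bf]
    exact (IsLocalization.map_eq (S := Localization.Away a) _ x).symm
  haveI : IsLocalization (Algebra.algebraMapSubmonoid B (Submonoid.powers a)) Bf := by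
    change IsLocalization ((Submonoid.powers a).map (algebraMap A B)) Bf
    rw [Submonoid.map_powers]
    exact Localization.isLocalization
  let e0 : LocalizedModule (Submonoid.powers a) B ≃ₗ[A] Bf :=
    IsLocalizedModule.iso (Submonoid.powers a) (IsScalarTower.toAlgHom A B Bf).toLinearMap
  let e : LocalizedModule (Submonoid.powers a) B ≃ₗ[Af] Bf :=
    LinearEquiv.extendScalarsOfIsLocalization (Submonoid.powers a) Af e0
  change Module.Flat Af Bf ↔ Module.Flat Af (LocalizedModule (Submonoid.powers a) B)
  exact ⟨fun h => .of_linearEquiv e, fun h => .of_linearEquiv e.symm⟩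

/-- **Glueing pairs detect flat ring maps** between glueable algebras. -/
theorem flat_iff (hRR' : EtGlue.IsGlueingPair R R' f) (hA : EtGlue.IsGlueable R R' f A)
    (φ : A →ₐ[R] B) :
    φ.toRingHom.Flat ↔ (Localization.awayMap φ.toRingHom (algebraMap R A f)).Flat ∧
      (Algebra.TensorProduct.map (AlgHom.id R R') φ).toRingHom.Flat := by
  rw [flat_tensorMap_iff, flat_awayMap_iff]
  letI : Algebra A B := φ.toRingHom.toAlgebra
  have hAA' := Groth.Agent.Lib.GlueableAlg.isGlueingPair_of_isGlueable A hRR'.1 hA
  change Module.Flat A B ↔ _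
  rw [Groth.Agent.Lib.GluePairFlat.flat_iff_of_glueingPair B hAA']
  exact and_comm

end Groth.Agent.Lib.GlueAlgFlat
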