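import Groth.Agent.S0944
import Groth.Agent.Lib.PerfectLocal
import Groth.Agent.Lib.FinLocFree2
import Groth.Prelude.Def_DCoh3

/-!
# Perfect objects of `D(O_X)`: representation on open immersions, shifts, cones, 2-out-of-3
-/

set_option autoImplicit false
universe w₁ w₂ w₃ v₁ v₂ v₃ u₁ u₂ u₃ u

open CategoryTheory CategoryTheory.Limits AlgebraicGeometry

namespace Groth.Agent.Lib.PerfectD

section General

variable {C₁ : Type u₁} [Category.{v₁} C₁] [Abelian C₁] [HasDerivedCategory.{w₁} C₁]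
  {C₂ : Type u₂} [Category.{v₂} C₂] [Abelian C₂] [HasDerivedCategory.{w₂} C₂]
  {C₃ : Type u₃} [Category.{v₃} C₃] [Abelian C₃] [HasDerivedCategory.{w₃} C₃]
  (F : C₁ ⥤ C₂) [F.Additive] [PreservesFiniteLimits F] [PreservesFiniteColimits F]
  (G : C₂ ⥤ C₃) [G.Additive] [PreservesFiniteLimits G] [PreservesFiniteColimits G]
  (H : C₁ ⥤ C₃) [H.Additive] [PreservesFiniteLimits H] [PreservesFiniteColimits H]

/-- The composite of the functors induced on derived categories lifts the composite of the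
functors on complexes. -/
@[instance_reducible]
noncomputable def compLifting :
    Localization.Lifting DerivedCategory.Q (HomologicalComplex.quasiIso C₁ (ComplexShape.up ℤ))
      ((F.mapHomologicalComplex (ComplexShape.up ℤ) ⋙ G.mapHomologicalComplex (ComplexShape.up ℤ)) ⋙
        DerivedCategory.Q) (F.mapDerivedCategory ⋙ G.mapDerivedCategory) :=
  ⟨(Functor.associator _ _ _).symm ≪≫ Functor.isoWhiskerRight F.mapDerivedCategoryFactors _ ≪≫
    Functor.associator _ _ _ ≪≫ Functor.isoWhiskerLeft _ G.mapDerivedCategoryFactors ≪≫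
    (Functor.associator _ _ _).symm⟩

/-- `F.mapDerivedCategory ⋙ G.mapDerivedCategory ≅ H.mapDerivedCategory` for `F ⋙ G ≅ H`. -/
noncomputable def mapDerivedCategoryCompIso (e : F ⋙ G ≅ H) :
    F.mapDerivedCategory ⋙ G.mapDerivedCategory ≅ H.mapDerivedCategory :=
  letI := compLifting F G
  Localization.liftNatIso DerivedCategory.Q (HomologicalComplex.quasiIso C₁ (ComplexShape.up ℤ))
    ((F.mapHomologicalComplex (ComplexShape.up ℤ) ⋙ G.mapHomologicalComplex (ComplexShape.up ℤ)) ⋙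
        DerivedCategory.Q)
    (H.mapHomologicalComplex (ComplexShape.up ℤ) ⋙ DerivedCategory.Q) _ _
    (Functor.isoWhiskerRight (Functor.mapHomologicalComplexCompIso e (ComplexShape.up ℤ))
      DerivedCategory.Q)

end General

section Scheme

attribute [local instance] HasDerivedCategory.standard

open Groth.Agent.Lib.RestrictExact Groth.Agent.Lib.FinLocFree Groth.Agent.Lib.PerfectLocal

variable {X : Scheme.{u}}

/-- Restriction on derived categories along a composite of open immersions. -/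
noncomputable def restrictDCompIso {A B C : Scheme.{u}} (f : A ⟶ B) (g : B ⟶ C) (k : A ⟶ C)
    [IsOpenImmersion f] [IsOpenImmersion g] [IsOpenImmersion k] (h : f ≫ g = k) :
    DCoh.restrictD g ⋙ DCoh.restrictD f ≅ DCoh.restrictD k :=
  mapDerivedCategoryCompIso _ _ _ (restrictFactorIso f g k h)

/-- Restriction of complexes along an open immersion. -/
noncomputable abbrev resCx {Y : Scheme.{u}} (j : Y ⟶ X) [IsOpenImmersion j] :
    CochainComplex X.Modules ℤ ⥤ CochainComplex Y.Modules ℤ :=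
  (Scheme.Modules.restrictFunctor j).mapHomologicalComplex (ComplexShape.up ℤ)

theorem isStrictlyPerfect_resCx {Y : Scheme.{u}} (j : Y ⟶ X) [IsOpenImmersion j]
    {E : CochainComplex X.Modules ℤ} (hE : DCoh.IsStrictlyPerfect E) :
    DCoh.IsStrictlyPerfect ((resCx j).obj E) := by
  obtain ⟨⟨a, b, hab⟩, hfree⟩ := hE
  exact ⟨⟨a, b, fun i hi => (Scheme.Modules.restrictFunctor j).map_isZero (hab i hi)⟩,
    fun i => isFinLocFree_restrict j (hfree i)⟩

/-- `K` is represented, after restriction along the open immersion `j`, by a strictly perfect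
complex. -/
def RepOn (K : DCoh.D X) {Y : Scheme.{u}} (j : Y ⟶ X) [IsOpenImmersion j] : Prop :=
  ∃ E : CochainComplex Y.Modules ℤ, DCoh.IsStrictlyPerfect E ∧
    Nonempty ((DCoh.restrictD j).obj K ≅ DerivedCategory.Q.obj E)

theorem RepOn.of_iso {K L : DCoh.D X} (e : K ≅ L) {Y : Scheme.{u}} {j : Y ⟶ X}
    [IsOpenImmersion j] (h : RepOn K j) : RepOn L j := by
  obtain ⟨E, hE, ⟨a⟩⟩ := h
  exact ⟨E, hE, ⟨(DCoh.restrictD j).mapIso e.symm ≪≫ a⟩⟩

theorem RepOn.comp {K : DCoh.D X} {Y : Scheme.{u}} {j : Y ⟶ X} [IsOpenImmersion j]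
    (h : RepOn K j) {Y' : Scheme.{u}} (j' : Y' ⟶ Y) [IsOpenImmersion j'] (k : Y' ⟶ X)
    [IsOpenImmersion k] (hk : j' ≫ j = k) : RepOn K k := by
  obtain ⟨E, hE, ⟨a⟩⟩ := h
  refine ⟨(resCx j').obj E, isStrictlyPerfect_resCx j' hE, ⟨?_⟩⟩
  exact ((restrictDCompIso j' j k hk).app K).symm ≪≫ (DCoh.restrictD j').mapIso a ≪≫
    (Scheme.Modules.restrictFunctor j').mapDerivedCategoryFactors.app E

theorem isPerfect_iff_repOn (K : DCoh.D X) :
    DCoh.IsPerfect K ↔ ∀ x : X, ∃ V : X.Opens, x ∈ V ∧ RepOn K V.ι := by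
  constructor
  · intro hK x
    obtain ⟨V, hxV, hV⟩ := hK x
    refine ⟨V, hxV, ?_⟩
    let F₀ := DerivedCategory.Q.objPreimage K
    let iF₀ : DerivedCategory.Q.obj F₀ ≅ K := DerivedCategory.Q.objObjPreimageIso K
    obtain ⟨E, hE, ⟨e⟩⟩ := hV F₀ ⟨iF₀⟩
    exact ⟨E, hE, ⟨(DCoh.restrictD V.ι).mapIso iF₀.symm ≪≫
      (Scheme.Modules.restrictFunctor V.ι).mapDerivedCategoryFactors.app F₀ ≪≫ e⟩⟩
  · intro h x
    obtain ⟨V, hxV, E, hE, ⟨a⟩⟩ := h x
    refine ⟨V, hxV, fun F ⟨iF⟩ => ⟨E, hE, ⟨?_⟩⟩⟩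
    exact ((Scheme.Modules.restrictFunctor V.ι).mapDerivedCategoryFactors.app F).symm ≪≫
      (DCoh.restrictD V.ι).mapIso iF ≪≫ a

/-- Flexible criterion: it suffices to represent `K` on open immersions covering `X`. -/
theorem isPerfect_of_forall_repOn (K : DCoh.D X)
    (h : ∀ x : X, ∃ (Y : Scheme.{u}) (j : Y ⟶ X) (_ : IsOpenImmersion j),
      x ∈ Set.range j ∧ RepOn K j) : DCoh.IsPerfect K := by
  rw [isPerfect_iff_repOn]
  intro x
  obtain ⟨Y, j, _, hx, hrep⟩ := h x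
  refine ⟨j.opensRange, hx, ?_⟩
  have hsub : Set.range j.opensRange.ι ⊆ Set.range j := by
    intro y hy
    obtain ⟨z, rfl⟩ := hy
    exact z.2
  let e : (j.opensRange : Scheme.{u}) ⟶ Y := IsOpenImmersion.lift j j.opensRange.ι hsub
  have he : e ≫ j = j.opensRange.ι := IsOpenImmersion.lift_fac _ _ _
  have : IsOpenImmersion (e ≫ j) := by rw [he]; infer_instance
  have : IsOpenImmersion e := IsOpenImmersion.of_comp e j
  exact hrep.comp e _ he

theorem isPerfect_of_iso {K L : DCoh.D X} (e : K ≅ L) (hK : DCoh.IsPerfect K) :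
    DCoh.IsPerfect L := by
  rw [isPerfect_iff_repOn] at hK ⊢
  intro x
  obtain ⟨V, hxV, hV⟩ := hK x
  exact ⟨V, hxV, hV.of_iso e⟩

theorem RepOn.inf {K : DCoh.D X} {V W : X.Opens} (h : RepOn K V.ι) (hle : W ≤ V) :
    RepOn K W.ι :=
  h.comp (X.homOfLE hle) _ (X.homOfLE_ι hle)

theorem isStrictlyPerfect_shift {E : CochainComplex X.Modules ℤ} (hE : DCoh.IsStrictlyPerfect E)
    (n : ℤ) : DCoh.IsStrictlyPerfect (E⟦n⟧) := by
  obtain ⟨⟨a, b, hab⟩, hfree⟩ := hE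
  refine ⟨⟨a - n, b - n, fun i hi => ?_⟩, fun i => ?_⟩
  · exact hab (i + n) (by omega)
  · exact hfree (i + n)

theorem RepOn.shift {K : DCoh.D X} {Y : Scheme.{u}} {j : Y ⟶ X} [IsOpenImmersion j]
    (h : RepOn K j) (n : ℤ) : RepOn (K⟦n⟧) j := by
  obtain ⟨E, hE, ⟨a⟩⟩ := h
  refine ⟨E⟦n⟧, isStrictlyPerfect_shift hE n, ⟨?_⟩⟩
  exact ((DCoh.restrictD j).commShiftIso n).app K ≪≫ (shiftFunctor _ n).mapIso a ≪≫
    ((DerivedCategory.Q.commShiftIso n).app E).symm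

theorem isPerfect_shift {K : DCoh.D X} (hK : DCoh.IsPerfect K) (n : ℤ) :
    DCoh.IsPerfect (K⟦n⟧) := by
  rw [isPerfect_iff_repOn] at hK ⊢
  intro x
  obtain ⟨V, hxV, hV⟩ := hK x
  exact ⟨V, hxV, hV.shift n⟩

open CochainComplex in
theorem isStrictlyPerfect_mappingCone {E₁ E₂ : CochainComplex X.Modules ℤ}
    (h₁ : DCoh.IsStrictlyPerfect E₁) (h₂ : DCoh.IsStrictlyPerfect E₂) (β : E₁ ⟶ E₂) :
    DCoh.IsStrictlyPerfect (mappingCone β) := by
  obtain ⟨⟨a₁, b₁, hab₁⟩, hfree₁⟩ := h₁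
  obtain ⟨⟨a₂, b₂, hab₂⟩, hfree₂⟩ := h₂
  refine ⟨⟨min (a₁ - 1) a₂, max (b₁ - 1) b₂, fun i hi => ?_⟩, fun i => ?_⟩
  · rw [mappingCone.isZero_X_iff]
    refine ⟨hab₁ _ ?_, hab₂ _ ?_⟩
    · rcases hi with hi | hi
      · left; have := min_le_left (a₁ - 1) a₂; omega
      · right; have := le_max_left (b₁ - 1) b₂; omega
    · rcases hi with hi | hi
      · left; have := min_le_right (a₁ - 1) a₂; omega
      · right; have := le_max_right (b₁ - 1) b₂; omega
  · exact isFinLocFree_of_iso (HomologicalComplex.homotopyCofiber.XIsoBiprod β i (i + 1) rfl).symm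
      (Groth.Agent.Lib.FinLocFree2.isFinLocFree_biprod (hfree₁ (i + 1)) (hfree₂ i))

open CochainComplex Pretriangulated in
/-- In a distinguished triangle, if the first two vertices are represented by strictly perfect
complexes on `V ∋ x`, then the third one is represented by a strictly perfect complex on a
smaller neighbourhood of `x`. -/
theorem repOn_obj₃ (T : Triangle (DCoh.D X)) (hT : T ∈ distTriang (DCoh.D X)) {x : X}
    {V : X.Opens} (hx : x ∈ V) (h₁ : RepOn T.obj₁ V.ι) (h₂ : RepOn T.obj₂ V.ι) :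
    ∃ (Y : Scheme.{u}) (k : Y ⟶ X) (_ : IsOpenImmersion k), x ∈ Set.range k ∧ RepOn T.obj₃ k := by
  obtain ⟨E₁, hE₁, ⟨a₁⟩⟩ := h₁
  obtain ⟨E₂, hE₂, ⟨a₂⟩⟩ := h₂
  let φ : DCoh.toD _ E₁ ⟶ DCoh.toD _ E₂ := a₁.inv ≫ (DCoh.restrictD V.ι).map T.mor₁ ≫ a₂.hom
  obtain ⟨V'', hxV'', hV''⟩ := Groth.Agent.S0944.result hE₁ φ ⟨x, hx⟩
  obtain ⟨β, hβ⟩ := hV''
  refine ⟨V'', V''.ι ≫ V.ι, inferInstance, ⟨⟨⟨x, hx⟩, hxV''⟩, rfl⟩, ?_⟩
  let rD := DCoh.restrictD V.ι
  let rD'' := DCoh.restrictD V''.ι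
  let fac := (Scheme.Modules.restrictFunctor V''.ι).mapDerivedCategoryFactors
  let T' := rD''.mapTriangle.obj (rD.mapTriangle.obj T)
  have hT' : T' ∈ distTriang _ := rD''.map_distinguished _ (rD.map_distinguished _ hT)
  let T'' := DerivedCategory.Q.mapTriangle.obj (mappingCone.triangle β)
  have hT'' : T'' ∈ distTriang _ := DerivedCategory.mappingCone_triangle_distinguished β
  let e₁ : T'.obj₁ ≅ T''.obj₁ := rD''.mapIso a₁ ≪≫ fac.app E₁
  let e₂ : T'.obj₂ ≅ T''.obj₂ := rD''.mapIso a₂ ≪≫ fac.app E₂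
  have comm : T'.mor₁ ≫ e₂.hom = e₁.hom ≫ T''.mor₁ := by
    change rD''.map (rD.map T.mor₁) ≫ rD''.map a₂.hom ≫ fac.hom.app E₂ =
      (rD''.map a₁.hom ≫ fac.hom.app E₁) ≫ DerivedCategory.Q.map β
    have h1 : rD''.map φ = rD''.map a₁.inv ≫ rD''.map (rD.map T.mor₁) ≫ rD''.map a₂.hom := by
      simp only [φ, Functor.map_comp]
      rfl
    rw [h1] at hβ
    have h2 : rD''.map (rD.map T.mor₁) ≫ rD''.map a₂.hom =
        rD''.map a₁.hom ≫ fac.hom.app E₁ ≫ DerivedCategory.Q.map β ≫ fac.inv.app E₂ := by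
      rw [← hβ, ← Functor.map_comp_assoc, Iso.hom_inv_id, CategoryTheory.Functor.map_id,
        Category.id_comp]
    rw [← Category.assoc, h2]
    simp only [Category.assoc, Iso.inv_hom_id_app]
    erw [Category.comp_id]
  let iso := isoTriangleOfIso₁₂ T' T'' hT' hT'' e₁ e₂ comm
  let e₃ : T'.obj₃ ≅ T''.obj₃ := Triangle.π₃.mapIso iso
  refine ⟨mappingCone β, isStrictlyPerfect_mappingCone (isStrictlyPerfect_resCx _ hE₁)
    (isStrictlyPerfect_resCx _ hE₂) β, ⟨?_⟩⟩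
  exact ((restrictDCompIso V''.ι V.ι _ rfl).app T.obj₃).symm ≪≫ e₃

open Pretriangulated in
theorem isPerfect_obj₃ (T : Triangle (DCoh.D X)) (hT : T ∈ distTriang (DCoh.D X))
    (h₁ : DCoh.IsPerfect T.obj₁) (h₂ : DCoh.IsPerfect T.obj₂) : DCoh.IsPerfect T.obj₃ := by
  apply isPerfect_of_forall_repOn
  intro x
  obtain ⟨V₁, hx₁, hV₁⟩ := (isPerfect_iff_repOn _).1 h₁ x
  obtain ⟨V₂, hx₂, hV₂⟩ := (isPerfect_iff_repOn _).1 h₂ x
  exact repOn_obj₃ T hT (V := V₁ ⊓ V₂) ⟨hx₁, hx₂⟩ (hV₁.inf inf_le_left) (hV₂.inf inf_le_right)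

open Pretriangulated in
theorem isPerfect_obj₂ (T : Triangle (DCoh.D X)) (hT : T ∈ distTriang (DCoh.D X))
    (h₁ : DCoh.IsPerfect T.obj₁) (h₃ : DCoh.IsPerfect T.obj₃) : DCoh.IsPerfect T.obj₂ :=
  isPerfect_obj₃ T.invRotate (inv_rot_of_distTriang _ hT) (isPerfect_shift h₃ (-1)) h₁

open Pretriangulated in
theorem isPerfect_obj₁ (T : Triangle (DCoh.D X)) (hT : T ∈ distTriang (DCoh.D X))
    (h₂ : DCoh.IsPerfect T.obj₂) (h₃ : DCoh.IsPerfect T.obj₃) : DCoh.IsPerfect T.obj₁ :=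
  isPerfect_obj₂ T.invRotate (inv_rot_of_distTriang _ hT) (isPerfect_shift h₃ (-1)) h₂

end Scheme

end Groth.Agent.Lib.PerfectD
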