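import Mathlib
import Groth.Agent.Lib.MVDer66
import Groth.Agent.Lib.MVMod66
import Groth.Agent.Lib.SchKInj66
import Groth.Agent.Lib.KInjAdj
import Groth.Agent.Lib.PerfectD
import Groth.Agent.Lib.DConeRep

/-!
# Gluing objects of `D(O_X)` along a two-set open cover (existence)
-/

set_option autoImplicit false
universe u

open CategoryTheory CategoryTheory.Limits AlgebraicGeometry Pretriangulated

namespace Groth.Agent.Lib.GlueD66

section Abstract

variable {D DU DV : Type*} [Category* D] [Category* DU] [Category* DV]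
  [Preadditive D] [HasZeroObject D] [HasShift D ℤ] [∀ n : ℤ, (shiftFunctor D n).Additive]
  [Pretriangulated D]
  [Preadditive DU] [HasZeroObject DU] [HasShift DU ℤ] [∀ n : ℤ, (shiftFunctor DU n).Additive]
  [Pretriangulated DU]
  [Preadditive DV] [HasZeroObject DV] [HasShift DV ℤ] [∀ n : ℤ, (shiftFunctor DV n).Additive]
  [Pretriangulated DV]

/-- abstract gluing: given `θ₁ : A ⟶ Z`, `θ₂ : B ⟶ Z` with `RU θ₂` and `RV θ₁` isomorphisms,
the homotopy fibre product `F` satisfies `RU F ≅ RU A` and `RV F ≅ RV B`. -/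
theorem exists_glue (RU : D ⥤ DU) (RV : D ⥤ DV) [RU.CommShift ℤ] [RV.CommShift ℤ]
    [RU.IsTriangulated] [RV.IsTriangulated] {A B Z : D} (θ₁ : A ⟶ Z) (θ₂ : B ⟶ Z)
    (h₂ : IsIso (RU.map θ₂)) (h₁ : IsIso (RV.map θ₁)) :
    ∃ F : D, Nonempty (RU.obj F ≅ RU.obj A) ∧ Nonempty (RV.obj F ≅ RV.obj B) := by
  obtain ⟨Z', p, q, hT⟩ := distinguished_cocone_triangle θ₂
  obtain ⟨F, f, g, hT'⟩ := distinguished_cocone_triangle₁ (θ₁ ≫ p)
  have hTU := RU.map_distinguished _ hT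
  have hTU' := RU.map_distinguished _ hT'
  have hTV := RV.map_distinguished _ hT
  have hTV' := RV.map_distinguished _ hT'
  have hZ' : IsZero (RU.obj Z') := (Triangle.isZero₃_iff_isIso₁ _ hTU).2 h₂
  have hf : IsIso (RU.map f) := (Triangle.isZero₃_iff_isIso₁ _ hTU').1 hZ'
  refine ⟨F, ⟨asIso (RU.map f)⟩, ?_⟩
  let T₁ := RV.mapTriangle.obj (Triangle.mk f (θ₁ ≫ p) g)
  let T₂ := RV.mapTriangle.obj (Triangle.mk θ₂ p q)
  let c : T₁.obj₃ ⟶ T₂.obj₃ := 𝟙 (RV.obj Z')
  have hc : T₁.mor₂ ≫ c = RV.map θ₁ ≫ T₂.mor₂ := by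
    change RV.map (θ₁ ≫ p) ≫ 𝟙 (RV.obj Z') = RV.map θ₁ ≫ RV.map p
    rw [Category.comp_id, Functor.map_comp]
  obtain ⟨a, ha₁, ha₂⟩ := complete_distinguished_triangle_morphism₁ T₁ T₂ hTV' hTV
    (RV.map θ₁) c hc
  let φ : T₁ ⟶ T₂ :=
    { hom₁ := a
      hom₂ := RV.map θ₁
      hom₃ := c
      comm₁ := ha₁
      comm₂ := hc
      comm₃ := ha₂ }
  have : IsIso a := isIso₁_of_isIso₂₃ φ hTV' hTV h₁ (IsIso.id (RV.obj Z'))
  exact ⟨@asIso _ _ _ _ a this⟩

end Abstract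

open Groth.Agent.Lib.MVMod66

section Modules

variable {X : Scheme.{u}}

/-- for `U ⊓ V ≤ W`, the unit `M ⟶ j_{W*} j_W^* M` restricts to an isomorphism on `U` when
`M = j_{V*} N`. -/
theorem isIso_restrict_β_push (U V W : X.Opens) (h : U ⊓ V ≤ W) (N : (V : Scheme.{u}).Modules) :
    IsIso ((Scheme.Modules.restrictFunctor U.ι).map
      ((β W).app ((Scheme.Modules.pushforward V.ι).obj N))) := by
  rw [Scheme.Modules.Hom.isIso_iff_isIso_app]
  intro T
  have h1 : V.ι ⁻¹ᵁ (cap W (U.ι ''ᵁ T)) ≤ V.ι ⁻¹ᵁ (U.ι ''ᵁ T) :=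
    Scheme.Hom.preimage_mono _ (cap_le W _)
  have h2 : V.ι ⁻¹ᵁ (U.ι ''ᵁ T) ≤ V.ι ⁻¹ᵁ (cap W (U.ι ''ᵁ T)) := by
    intro z hz
    change V.ι z ∈ cap W (U.ι ''ᵁ T)
    have hz' : V.ι z ∈ U.ι ''ᵁ T := hz
    rw [cap_eq]
    refine ⟨h ⟨?_, z.2⟩, hz'⟩
    obtain ⟨y, _, hy⟩ := hz'
    have : U.ι y = V.ι z := hy
    rw [← this]; exact y.2
  exact isIso_presheaf_map N h1 h2

end Modules

section Complexes

variable {𝒜 ℬ : Type*} [Category* 𝒜] [Abelian 𝒜] [Category* ℬ] [Abelian ℬ]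
  [HasDerivedCategory 𝒜] [HasDerivedCategory ℬ]

/-- an exact functor `R` sends `Q φ` to an isomorphism if `R φ` is a termwise isomorphism -/
theorem isIso_mapDerivedCategory_map_Q (R : 𝒜 ⥤ ℬ) [R.Additive] [PreservesFiniteLimits R]
    [PreservesFiniteColimits R] {K L : CochainComplex 𝒜 ℤ} (φ : K ⟶ L)
    (h : ∀ i, IsIso (R.map (φ.f i))) :
    IsIso (R.mapDerivedCategory.map (DerivedCategory.Q.map φ)) := by
  have h1 : IsIso ((R.mapHomologicalComplex (ComplexShape.up ℤ)).map φ) := by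
    have : ∀ i, IsIso (((R.mapHomologicalComplex (ComplexShape.up ℤ)).map φ).f i) := h
    exact HomologicalComplex.Hom.isIso_of_components _
  have h2 := R.mapDerivedCategoryFactors_hom_naturality φ
  have h3 : R.mapDerivedCategory.map (DerivedCategory.Q.map φ) =
      R.mapDerivedCategoryFactors.hom.app K ≫
        DerivedCategory.Q.map ((R.mapHomologicalComplex (ComplexShape.up ℤ)).map φ) ≫
        R.mapDerivedCategoryFactors.inv.app L := by
    rw [← Category.assoc, ← h2, Category.assoc, Iso.hom_inv_id_app]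
    exact (Category.comp_id _).symm
  rw [h3]
  infer_instance

omit [HasDerivedCategory 𝒜] in
/-- an additive functor sends a quasi-isomorphism between K-injective complexes to a
quasi-isomorphism -/
theorem isIso_Q_map_of_isKInjective (Φ : 𝒜 ⥤ ℬ) [Φ.Additive] {K L : CochainComplex 𝒜 ℤ}
    [K.IsKInjective] [L.IsKInjective] (γ : K ⟶ L) (hγ : QuasiIso γ) :
    IsIso (DerivedCategory.Q.map ((Φ.mapHomologicalComplex (ComplexShape.up ℤ)).map γ)) := by
  obtain ⟨e, he⟩ := (CochainComplex.IsKInjective.quasiIso_iff γ).1 hγ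
  have : QuasiIso ((Φ.mapHomologicalComplex (ComplexShape.up ℤ)).map γ) := by
    rw [← he]
    exact (Φ.mapHomotopyEquiv e).quasiIso_hom
  infer_instance

end Complexes

section Main

attribute [local instance] HasDerivedCategory.standard

variable {X : Scheme.{u}}

/-- every object of `D(O_U)` is `(Q (j_{U*} I))|_U` for a K-injective complex `I` on `U` -/
theorem exists_kinj_rep (U : X.Opens) (A : DCoh.D (U : Scheme.{u})) :
    ∃ (I : CochainComplex (U : Scheme.{u}).Modules ℤ), I.IsKInjective ∧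
      Nonempty ((DCoh.restrictD U.ι).obj (DerivedCategory.Q.obj
        (((Scheme.Modules.pushforward U.ι).mapHomologicalComplex (ComplexShape.up ℤ)).obj I)) ≅ A) := by
  let c := ComplexShape.up ℤ
  let K := DerivedCategory.Q.objPreimage A
  let eK : DerivedCategory.Q.obj K ≅ A := DerivedCategory.Q.objObjPreimageIso A
  obtain ⟨I, a, hI, ha⟩ := Groth.Agent.Lib.SchKInj66.enoughKInj (U : Scheme.{u}) K
  refine ⟨I, hI, ⟨?_⟩⟩
  have : IsIso (DerivedCategory.Q.map a) := inferInstance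
  let ε : Scheme.Modules.pushforward U.ι ⋙ Scheme.Modules.restrictFunctor U.ι ≅
      𝟭 (U : Scheme.{u}).Modules := asIso (Scheme.Modules.restrictAdjunction U.ι).counit
  let eC : ((Scheme.Modules.restrictFunctor U.ι).mapHomologicalComplex c).obj
      (((Scheme.Modules.pushforward U.ι).mapHomologicalComplex c).obj I) ≅ I :=
    (NatIso.mapHomologicalComplex ε c).app I ≪≫ (Functor.mapHomologicalComplexIdIso _ c).app I
  exact (Scheme.Modules.restrictFunctor U.ι).mapDerivedCategoryFactors.app _ ≪≫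
    DerivedCategory.Q.mapIso eC ≪≫ (asIso (DerivedCategory.Q.map a)).symm ≪≫ eK

open DerivedCategory in
/-- **Gluing in `D(O_X)` along two opens** (existence part). -/
theorem exists_glue_two_opens (U V : X.Opens)
    (A : DCoh.D (U : Scheme.{u})) (B : DCoh.D (V : Scheme.{u}))
    (c : (DCoh.restrictD (X.homOfLE (inf_le_left : U ⊓ V ≤ U))).obj A ≅
      (DCoh.restrictD (X.homOfLE (inf_le_right : U ⊓ V ≤ V))).obj B) :
    ∃ F : DCoh.D X, Nonempty ((DCoh.restrictD U.ι).obj F ≅ A) ∧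
      Nonempty ((DCoh.restrictD V.ι).obj F ≅ B) := by
  let cs := ComplexShape.up ℤ
  let W : X.Opens := U ⊓ V
  obtain ⟨I, hI, ⟨eA⟩⟩ := exists_kinj_rep U A
  obtain ⟨J, hJ, ⟨eB⟩⟩ := exists_kinj_rep V B
  let IX := ((Scheme.Modules.pushforward U.ι).mapHomologicalComplex cs).obj I
  let JX := ((Scheme.Modules.pushforward V.ι).mapHomologicalComplex cs).obj J
  have hIX : CochainComplex.IsKInjective IX :=
    Groth.Agent.Lib.KInjAdj.isKInjective_map (Scheme.Modules.restrictAdjunction U.ι) I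
  have hJX : CochainComplex.IsKInjective JX :=
    Groth.Agent.Lib.KInjAdj.isKInjective_map (Scheme.Modules.restrictAdjunction V.ι) J
  let RW := (Scheme.Modules.restrictFunctor W.ι).mapHomologicalComplex cs
  let PW := (Scheme.Modules.pushforward W.ι).mapHomologicalComplex cs
  have hIW : CochainComplex.IsKInjective (RW.obj IX) :=
    Groth.Agent.Lib.SchKInj66.isKInjective_restrict W IX hIX
  have hJW : CochainComplex.IsKInjective (RW.obj JX) :=
    Groth.Agent.Lib.SchKInj66.isKInjective_restrict W JX hJX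
  let fU := X.homOfLE (inf_le_left : U ⊓ V ≤ U)
  let fV := X.homOfLE (inf_le_right : U ⊓ V ≤ V)
  let c1 : (DCoh.restrictD W.ι).obj (Q.obj IX) ≅ (DCoh.restrictD W.ι).obj (Q.obj JX) :=
    ((Groth.Agent.Lib.PerfectD.restrictDCompIso fU U.ι W.ι (X.homOfLE_ι _)).app (Q.obj IX)).symm ≪≫
      (DCoh.restrictD fU).mapIso eA ≪≫ c ≪≫ (DCoh.restrictD fV).mapIso eB.symm ≪≫
      (Groth.Agent.Lib.PerfectD.restrictDCompIso fV V.ι W.ι (X.homOfLE_ι _)).app (Q.obj JX)
  let c2 : Q.obj (RW.obj IX) ≅ Q.obj (RW.obj JX) :=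
    ((Scheme.Modules.restrictFunctor W.ι).mapDerivedCategoryFactors.app IX).symm ≪≫ c1 ≪≫
      (Scheme.Modules.restrictFunctor W.ι).mapDerivedCategoryFactors.app JX
  obtain ⟨γ, hγ⟩ := Groth.Agent.Lib.DConeRep.exists_map_eq_of_isKInjective c2.hom
  have hγq : QuasiIso γ := by
    rw [← DerivedCategory.isIso_Q_map_iff_quasiIso, hγ]; infer_instance
  have hPγ : IsIso (Q.map (PW.map γ)) := isIso_Q_map_of_isKInjective _ γ hγq
  let βc := NatTrans.mapHomologicalComplex (β W) cs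
  let b₁ : IX ⟶ PW.obj (RW.obj IX) := βc.app IX
  let b₂ : JX ⟶ PW.obj (RW.obj JX) := βc.app JX
  let θ₁ := Q.map b₁ ≫ Q.map (PW.map γ)
  let θ₂ := Q.map b₂
  have h₂ : IsIso ((DCoh.restrictD U.ι).map θ₂) :=
    isIso_mapDerivedCategory_map_Q _ b₂ (fun i => isIso_restrict_β_push U V W le_rfl (J.X i))
  have h₁ : IsIso ((DCoh.restrictD V.ι).map θ₁) := by
    have h' : IsIso ((DCoh.restrictD V.ι).map (Q.map b₁)) :=
      isIso_mapDerivedCategory_map_Q _ b₁
        (fun i => isIso_restrict_β_push V U W (by rw [inf_comm]) (I.X i))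
    rw [Functor.map_comp]; infer_instance
  obtain ⟨F, ⟨e1⟩, ⟨e2⟩⟩ := exists_glue (DCoh.restrictD U.ι) (DCoh.restrictD V.ι) θ₁ θ₂ h₂ h₁
  exact ⟨F, ⟨e1 ≪≫ eA⟩, ⟨e2 ≪≫ eB⟩⟩

end Main

end Groth.Agent.Lib.GlueD66
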