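import Mathlib.AlgebraicGeometry.OpenImmersion
import Mathlib.Algebra.Category.Ring.Constructions
import Mathlib.RingTheory.Localization.BaseChange
import Mathlib.RingTheory.Localization.Away.Basic
import Mathlib.RingTheory.Valuation.ValuationSubring
import Mathlib.RingTheory.DiscreteValuationRing.Basic
import Mathlib.RingTheory.KrullDimension.Field
import Mathlib.RingTheory.Localization.FractionRing

/-!
# Glueing two subrings of a field along a partition of unity (helper19)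

`A B : Subring K`, `y + z = 1`, `y ∈ A ⊓ B` invertible in `A`, `z ∈ A ⊓ B` invertible in `B`,
every element of `K` is `b / y^N` with `b ∈ B` and `a / z^N` with `a ∈ A`.
Then `A = R[1/y]`, `B = R[1/z]` for `R = A ⊓ B`, so that `Spec A`, `Spec B` form an open cover
of `Spec R` and `A ⊗_R B = K`.
-/

set_option autoImplicit false
universe u
open CategoryTheory CategoryTheory.Limits AlgebraicGeometry

namespace Groth.Agent.Lib.GlueDimOne

variable {K : Type u} [Field K]

/-- `A` is the localization of a subring `R ≤ A` away from `y`. -/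
theorem isLocalization_away_of_le (R A : Subring K) (h : R ≤ A) (y : K) (hyR : y ∈ R)
    (hy0 : y ≠ 0) (hyi : y⁻¹ ∈ A) (hB : ∀ a ∈ A, ∃ N : ℕ, a * y ^ N ∈ R) :
    @IsLocalization.Away R _ ⟨y, hyR⟩ A _ (Subring.inclusion h).toAlgebra := by
  let _ : Algebra R A := (Subring.inclusion h).toAlgebra
  have hmap : ∀ r : R, ((algebraMap R A r : A) : K) = (r : K) :=
    fun r => rfl
  rw [IsLocalization.Away, isLocalization_iff]
  refine ⟨?_, ?_, ?_⟩
  · rintro ⟨_, n, rfl⟩
    have hu : IsUnit (algebraMap R A ⟨y, hyR⟩) := by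
      refine ⟨⟨⟨y, h hyR⟩, ⟨y⁻¹, hyi⟩, ?_, ?_⟩, ?_⟩
      · ext; simp [hy0]
      · ext; simp [hy0]
      · ext; rfl
    have := hu.pow n
    rw [← map_pow] at this
    exact this
  · intro a
    obtain ⟨N, hN⟩ := hB a a.2
    refine ⟨⟨⟨(a : K) * y ^ N, hN⟩,
      ⟨⟨y, hyR⟩ ^ N, N, rfl⟩⟩, ?_⟩
    ext
    simp [hmap]
  · intro x x' h
    refine ⟨1, ?_⟩
    have : (x : K) = x' := by
      have := congrArg (fun t : A => (t : K)) h
      simpa [hmap] using this
    simp [Subtype.ext this]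

/-- `K` is the localization of `B` away from `y` when every element is `b / y ^ N`. -/
theorem isLocalization_away_field (B : Subring K) (y : K) (hyB : y ∈ B)
    (hy0 : y ≠ 0) (hB : ∀ k : K, ∃ N : ℕ, k * y ^ N ∈ B) :
    IsLocalization.Away (⟨y, hyB⟩ : B) K := by
  rw [IsLocalization.Away, isLocalization_iff]
  refine ⟨?_, ?_, ?_⟩
  · rintro ⟨_, n, rfl⟩
    have hu : IsUnit (algebraMap B K ⟨y, hyB⟩) := isUnit_iff_ne_zero.mpr hy0
    simpa using hu.pow n
  · intro k
    obtain ⟨N, hN⟩ := hB k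
    exact ⟨⟨⟨k * y ^ N, hN⟩, ⟨⟨y, hyB⟩ ^ N, N, rfl⟩⟩, by simp; rfl⟩
  · intro x x' h
    exact ⟨1, by simp [Subtype.ext (show (x : K) = x' from h)]⟩

/-- The range of `Spec A → Spec R` for `A` a localization of `R` away from `f`. -/
theorem range_specMap_of_away {R S : Type u} [CommRing R] [CommRing S] [Algebra R S] (f : R)
    [IsLocalization.Away f S] :
    Set.range (Spec.map (CommRingCat.ofHom (algebraMap R S))).base =
      (PrimeSpectrum.basicOpen f : Set (PrimeSpectrum R)) :=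
  PrimeSpectrum.localization_away_comap_range S f

/-- The glueing statement. -/
theorem glue (A B : Subring K) (y z : K) (hyz : y + z = 1) (hy0 : y ≠ 0) (hz0 : z ≠ 0)
    (hyA : y ∈ A) (hyB : y ∈ B) (hzA : z ∈ A) (hzB : z ∈ B) (hyi : y⁻¹ ∈ A) (hzi : z⁻¹ ∈ B)
    (hB : ∀ k : K, ∃ N : ℕ, k * y ^ N ∈ B) (hA : ∀ k : K, ∃ N : ℕ, k * z ^ N ∈ A) :
    IsOpenImmersion (Spec.map (CommRingCat.ofHom (Subring.inclusion (inf_le_left : A ⊓ B ≤ A)))) ∧
    IsOpenImmersion (Spec.map (CommRingCat.ofHom (Subring.inclusion (inf_le_right : A ⊓ B ≤ B)))) ∧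
    Set.range (Spec.map (CommRingCat.ofHom (Subring.inclusion (inf_le_left : A ⊓ B ≤ A)))).base ∪
      Set.range (Spec.map (CommRingCat.ofHom
        (Subring.inclusion (inf_le_right : A ⊓ B ≤ B)))).base = Set.univ ∧
    IsPushout (CommRingCat.ofHom (Subring.inclusion (inf_le_left : A ⊓ B ≤ A)))
      (CommRingCat.ofHom (Subring.inclusion (inf_le_right : A ⊓ B ≤ B)))
      (CommRingCat.ofHom A.subtype) (CommRingCat.ofHom B.subtype) := by
  have hRA : @IsLocalization.Away (A ⊓ B : Subring K) _ ⟨y, hyA, hyB⟩ A _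
      (Subring.inclusion (inf_le_left : A ⊓ B ≤ A)).toAlgebra :=
    isLocalization_away_of_le (A ⊓ B) A inf_le_left y ⟨hyA, hyB⟩ hy0 hyi
      (fun a ha => (hB a).imp fun N hN => ⟨A.mul_mem ha (A.pow_mem hyA N), hN⟩)
  have hRB : @IsLocalization.Away (A ⊓ B : Subring K) _ ⟨z, hzA, hzB⟩ B _
      (Subring.inclusion (inf_le_right : A ⊓ B ≤ B)).toAlgebra :=
    isLocalization_away_of_le (A ⊓ B) B inf_le_right z ⟨hzA, hzB⟩ hz0 hzi
      (fun a ha => (hA a).imp fun N hN => ⟨hN, B.mul_mem ha (B.pow_mem hzB N)⟩)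
  have hBK : IsLocalization.Away (⟨y, hyB⟩ : B) K := isLocalization_away_field B y hyB hy0 hB
  refine ⟨?_, ?_, ?_, ?_⟩
  · exact @IsOpenImmersion.of_isLocalization (A ⊓ B : Subring K) A _ _
      (Subring.inclusion (inf_le_left : A ⊓ B ≤ A)).toAlgebra ⟨y, hyA, hyB⟩ hRA
  · exact @IsOpenImmersion.of_isLocalization (A ⊓ B : Subring K) B _ _
      (Subring.inclusion (inf_le_right : A ⊓ B ≤ B)).toAlgebra ⟨z, hzA, hzB⟩ hRB
  · have e1 := @range_specMap_of_away (A ⊓ B : Subring K) A _ _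
      (Subring.inclusion (inf_le_left : A ⊓ B ≤ A)).toAlgebra ⟨y, hyA, hyB⟩ hRA
    have e2 := @range_specMap_of_away (A ⊓ B : Subring K) B _ _
      (Subring.inclusion (inf_le_right : A ⊓ B ≤ B)).toAlgebra ⟨z, hzA, hzB⟩ hRB
    rw [RingHom.algebraMap_toAlgebra] at e1 e2
    rw [e1, e2]
    ext p
    simp only [Set.mem_union, Set.mem_univ, iff_true]
    by_contra hcon
    rw [not_or] at hcon
    have h1 : (⟨y, hyA, hyB⟩ : (A ⊓ B : Subring K)) ∈ p.asIdeal := by
      by_contra h; exact hcon.1 h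
    have h2 : (⟨z, hzA, hzB⟩ : (A ⊓ B : Subring K)) ∈ p.asIdeal := by
      by_contra h; exact hcon.2 h
    apply p.isPrime.ne_top
    rw [Ideal.eq_top_iff_one]
    have : (1 : (A ⊓ B : Subring K)) = ⟨y, hyA, hyB⟩ + ⟨z, hzA, hzB⟩ := by
      ext; simp [hyz]
    rw [this]
    exact p.asIdeal.add_mem h1 h2
  · let _ : Algebra (A ⊓ B : Subring K) A :=
      (Subring.inclusion (inf_le_left : A ⊓ B ≤ A)).toAlgebra
    have hmap : (Submonoid.powers (⟨y, hyA, hyB⟩ : (A ⊓ B : Subring K))).map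
        (Subring.inclusion (inf_le_right : A ⊓ B ≤ B)) = Submonoid.powers (⟨y, hyB⟩ : B) := by
      rw [Submonoid.map_powers]; rfl
    have hloc : IsLocalization ((Submonoid.powers (⟨y, hyA, hyB⟩ : (A ⊓ B : Subring K))).map
        (Subring.inclusion (inf_le_right : A ⊓ B ≤ B))) K := by
      rw [hmap]; exact hBK
    have := @CommRingCat.isPushout_of_isLocalization (A ⊓ B : Subring K) B A K _ _ _ _ _ _
      (Subring.inclusion (inf_le_right : A ⊓ B ≤ B)) A.subtype rfl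
      (Submonoid.powers (⟨y, hyA, hyB⟩ : (A ⊓ B : Subring K))) hRA hloc
    exact this.flip

/-! ### Elements of a discrete valuation subring -/

/-- In a discrete valuation subring, a non-unit `w` has powers absorbing every element of `K`. -/
theorem dvr_exists_pow_mul_mem (B : ValuationSubring K) [IsDiscreteValuationRing B] (w : K)
    (hw : w⁻¹ ∉ B) (k : K) : ∃ N : ℕ, k * w ^ N ∈ B := by
  have hwB : w ∈ B := (B.mem_or_inv_mem w).resolve_right hw
  have hw0 : w ≠ 0 := by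
    rintro rfl
    exact hw (by simp)
  by_cases hk : k ∈ B
  · exact ⟨0, by simpa using hk⟩
  have hkB : k⁻¹ ∈ B := (B.mem_or_inv_mem k).resolve_left hk
  have hk0 : k ≠ 0 := by
    rintro rfl
    exact hk B.zero_mem
  obtain ⟨ϖ, hϖ⟩ := IsDiscreteValuationRing.exists_irreducible B
  have hb0 : (⟨k⁻¹, hkB⟩ : B) ≠ 0 := by
    intro h
    exact inv_ne_zero hk0 (congrArg Subtype.val h)
  have hw'0 : (⟨w, hwB⟩ : B) ≠ 0 := by
    intro h
    exact hw0 (congrArg Subtype.val h)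
  obtain ⟨m, u₁, h₁⟩ := IsDiscreteValuationRing.eq_unit_mul_pow_irreducible hb0 hϖ
  obtain ⟨e, u₂, h₂⟩ := IsDiscreteValuationRing.eq_unit_mul_pow_irreducible hw'0 hϖ
  have he : e ≠ 0 := by
    rintro rfl
    apply hw
    have h3 : (⟨w, hwB⟩ : B) * ((u₂⁻¹ : Bˣ) : B) = 1 := by
      rw [h₂]; simp
    have h4 : w * (((u₂⁻¹ : Bˣ) : B) : K) = 1 := congrArg Subtype.val h3
    have : w⁻¹ = (((u₂⁻¹ : Bˣ) : B) : K) := inv_eq_of_mul_eq_one_right h4
    rw [this]
    exact Subtype.mem _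
  refine ⟨m, ?_⟩
  obtain ⟨e', rfl⟩ := Nat.exists_eq_succ_of_ne_zero he
  have h5 : (⟨w, hwB⟩ : B) ^ m = ⟨k⁻¹, hkB⟩ * (((u₁⁻¹ : Bˣ) : B) * (u₂ : B) ^ m * ϖ ^ (e' * m)) := by
    rw [h₁, h₂]
    have : (u₁ : B) * ((u₁⁻¹ : Bˣ) : B) = 1 := by simp
    calc ((u₂ : B) * ϖ ^ (e' + 1)) ^ m = (u₂ : B) ^ m * ϖ ^ m * ϖ ^ (e' * m) := by ring
      _ = ((u₁ : B) * ((u₁⁻¹ : Bˣ) : B)) * ((u₂ : B) ^ m * ϖ ^ m * ϖ ^ (e' * m)) := by
        rw [this, one_mul]
      _ = _ := by ring
  have h6 : w ^ m = k⁻¹ * ((((u₁⁻¹ : Bˣ) : B) * (u₂ : B) ^ m * ϖ ^ (e' * m) : B) : K) := by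
    have := congrArg Subtype.val h5
    simpa using this
  rw [h6, ← mul_assoc, mul_inv_cancel₀ hk0, one_mul]
  exact Subtype.mem _

/-! ### Semilocal domains of dimension one -/

/-- A semilocal domain that is not a field has a nonzero element in all maximal ideals. -/
theorem exists_ne_zero_mem_all_maximal {A : Type*} [CommRing A] [IsDomain A] (hnf : ¬ IsField A)
    [Finite (MaximalSpectrum A)] :
    ∃ t : A, t ≠ 0 ∧ ∀ m : Ideal A, m.IsMaximal → t ∈ m := by
  classical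
  have : Fintype (MaximalSpectrum A) := Fintype.ofFinite _
  have h : ∀ m : MaximalSpectrum A, ∃ t : A, t ≠ 0 ∧ t ∈ m.asIdeal := by
    intro m
    have : m.asIdeal ≠ ⊥ := by
      intro h
      apply hnf
      rw [Ring.isField_iff_maximal_bot, ← h]
      exact m.isMaximal
    obtain ⟨t, ht, ht0⟩ := Submodule.exists_mem_ne_zero_of_ne_bot this
    exact ⟨t, ht0, ht⟩
  choose t ht0 htm using h
  refine ⟨∏ m, t m, Finset.prod_ne_zero_iff.mpr (fun m _ => ht0 m), fun m hm => ?_⟩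
  exact Ideal.mem_of_dvd _ (Finset.dvd_prod_of_mem t (Finset.mem_univ ⟨m, hm⟩)) (htm ⟨m, hm⟩)

/-- In a one-dimensional domain `A` with fraction field `K`, an element of all maximal ideals
has powers absorbing every element of `K`. -/
theorem dimOne_exists_pow_mul_mem (A : Subring K) [IsFractionRing A K] [Ring.KrullDimLE 1 A]
    (z : K) (hzA : z ∈ A) (hz : ∀ m : Ideal A, m.IsMaximal → (⟨z, hzA⟩ : A) ∈ m) (k : K) :
    ∃ N : ℕ, k * z ^ N ∈ A := by
  obtain ⟨a, s, hs, rfl⟩ := IsFractionRing.div_surjective (A := A) k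
  have hs0 : s ≠ 0 := nonZeroDivisors.ne_zero hs
  have hrad : (⟨z, hzA⟩ : A) ∈ (Ideal.span {s}).radical := by
    rw [Ideal.radical_eq_sInf, Ideal.mem_sInf]
    rintro J ⟨hJ, hJp⟩
    apply hz
    apply hJp.isMaximal_of_ne_bot
    intro h
    apply hs0
    have : s ∈ J := hJ (Ideal.subset_span rfl)
    rw [h] at this
    simpa using this
  obtain ⟨N, hN⟩ := hrad
  rw [Ideal.mem_span_singleton'] at hN
  obtain ⟨c, hc⟩ := hN
  refine ⟨N, ?_⟩
  have h1 : z ^ N = (c : K) * (s : K) := by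
    have := congrArg Subtype.val hc
    simpa using this.symm
  have hsK : (s : K) ≠ 0 := by
    intro h
    exact hs0 (Subtype.ext h)
  have : algebraMap A K a / algebraMap A K s * z ^ N = (a : K) * (c : K) := by
    rw [h1]
    show (a : K) / (s : K) * ((c : K) * (s : K)) = _
    field_simp
  rw [this]
  exact A.mul_mem a.2 c.2

end Groth.Agent.Lib.GlueDimOne
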