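import Mathlib.RingTheory.Length
import Mathlib.RingTheory.OrderOfVanishing.Basic
import Mathlib.RingTheory.Algebraic.Basic
import Mathlib.LinearAlgebra.Dimension.Finite
import Mathlib.RingTheory.Localization.FractionRing
import Mathlib.RingTheory.FractionalIdeal.Operations

/-!
# Krull–Akizuki (helper19)

* `length_xq_le_mul`: for a Noetherian domain `R` of dimension `≤ 1` with fraction field `K`,
  an `R`-submodule `N ⊆ K^r` and `x ≠ 0`: `length (N/xN) ≤ r * length (R/xR)` (Stacks 00PE/00PF).
* `isNoetherianRing_of_between`: Krull–Akizuki (Stacks 00PG).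
-/

namespace Groth.Agent.Lib.KrullAkizuki

open Module
open scoped Pointwise

section generic

variable {R : Type*} [CommRing R]

/-- Length is subadditive along an exact sequence `N → M → P → 0`. -/
theorem length_le_add_of_exact {M N P : Type*} [AddCommGroup M] [AddCommGroup N] [AddCommGroup P]
    [Module R M] [Module R N] [Module R P]
    (f : N →ₗ[R] M) (g : M →ₗ[R] P) (hg : Function.Surjective g) (H : Function.Exact f g) :
    Module.length R M ≤ Module.length R N + Module.length R P := by
  have h1 := Module.length_eq_add_of_exact (LinearMap.range f).subtype g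
    (Submodule.subtype_injective _) hg (by
      intro y
      rw [H y]
      simp)
  rw [h1]
  gcongr
  exact Module.length_le_of_surjective f.rangeRestrict f.surjective_rangeRestrict

/-- If all finitely generated submodules have length `≤ L` then so does the module. -/
theorem length_le_of_forall_fg {P : Type*} [AddCommGroup P] [Module R P] (L : ℕ)
    (h : ∀ P' : Submodule R P, P'.FG → Module.length R P' ≤ L) : Module.length R P ≤ L := by
  by_contra hcon
  rw [not_le] at hcon
  have h1 : ((L + 1 : ℕ) : ℕ∞) ≤ Module.length R P := by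
    exact_mod_cast Order.add_one_le_of_lt hcon
  have h2 : ((L + 1 : ℕ) : WithBot ℕ∞) ≤ Order.krullDim (Submodule R P) := by
    rw [← Module.coe_length]
    exact_mod_cast h1
  obtain ⟨s, hs⟩ := Order.le_krullDim_iff.mp h2
  have hstep : ∀ i : Fin s.length, ∃ p : P, p ∈ s i.succ ∧ p ∉ s i.castSucc := fun i =>
    SetLike.exists_of_lt (s.step i)
  choose p hp1 hp2 using hstep
  let P' : Submodule R P := Submodule.span R (Set.range p)
  have hP' : P'.FG := Submodule.fg_span (Set.finite_range p)
  let t : Fin (s.length + 1) → Submodule R P' := fun i => (s i).comap P'.subtype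
  have ht : StrictMono t := by
    rw [Fin.strictMono_iff_lt_succ]
    intro i
    refine lt_of_le_of_ne (Submodule.comap_mono (s.step i).le) ?_
    intro heq
    have hmem : (⟨p i, Submodule.subset_span ⟨i, rfl⟩⟩ : P') ∈ t i.succ := hp1 i
    rw [← heq] at hmem
    exact hp2 i hmem
  have h3 := Order.LTSeries.length_le_krullDim (LTSeries.mk s.length t ht)
  rw [← Module.coe_length] at h3
  have h4 : ((s.length : ℕ) : ℕ∞) ≤ Module.length R P' := by exact_mod_cast h3
  have h5 := h4.trans (h P' hP')
  rw [hs] at h5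
  have : (L + 1 : ℕ) ≤ L := by exact_mod_cast h5
  omega

/-- `length (M/A) = length (B/A) + length (M/B)` for `A ≤ B`. -/
theorem length_quotient_eq_add {M : Type*} [AddCommGroup M] [Module R M] (A B : Submodule R M)
    (hAB : A ≤ B) :
    Module.length R (M ⧸ A) =
      Module.length R (↥B ⧸ A.comap B.subtype) + Module.length R (M ⧸ B) := by
  let f : (↥B ⧸ A.comap B.subtype) →ₗ[R] M ⧸ A := Submodule.mapQ _ _ B.subtype le_rfl
  let g : M ⧸ A →ₗ[R] M ⧸ B := Submodule.mapQ _ _ LinearMap.id (by simpa using hAB)
  refine Module.length_eq_add_of_exact f g ?_ ?_ ?_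
  · rw [← LinearMap.ker_eq_bot, eq_bot_iff]
    intro y hy
    induction y using Submodule.Quotient.induction_on with
    | H b =>
      rw [LinearMap.mem_ker, Submodule.mapQ_apply, Submodule.Quotient.mk_eq_zero] at hy
      rw [Submodule.mem_bot, Submodule.Quotient.mk_eq_zero]
      exact hy
  · intro y
    induction y using Submodule.Quotient.induction_on with
    | H m => exact ⟨Submodule.Quotient.mk m, rfl⟩
  · intro y
    induction y using Submodule.Quotient.induction_on with
    | H m =>
      rw [Submodule.mapQ_apply, Submodule.Quotient.mk_eq_zero]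
      constructor
      · intro hm
        exact ⟨Submodule.Quotient.mk ⟨m, hm⟩, rfl⟩
      · rintro ⟨z, hz⟩
        induction z using Submodule.Quotient.induction_on with
        | H b =>
          rw [Submodule.mapQ_apply, Submodule.Quotient.eq] at hz
          have : m = (b : M) - ((b : M) - m) := by abel
          rw [this]
          exact B.sub_mem b.2 (hAB hz)

end generic

section xq

variable {R : Type*} [CommRing R] (x : R)

/-- The submodule `xN` of `N`, in the form `(x) • ⊤`. -/
abbrev xsub (N : Type*) [AddCommGroup N] [Module R N] : Submodule R N :=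
  Ideal.span {x} • (⊤ : Submodule R N)

theorem mem_xsub {N : Type*} [AddCommGroup N] [Module R N] (n : N) :
    n ∈ xsub x N ↔ ∃ m : N, x • m = n := by
  rw [xsub, Submodule.ideal_span_singleton_smul, Submodule.mem_smul_pointwise_iff_exists]
  simp

variable {N N' N'' : Type*} [AddCommGroup N] [Module R N] [AddCommGroup N'] [Module R N']
  [AddCommGroup N''] [Module R N'']

theorem map_xsub_le (f : N' →ₗ[R] N) : xsub x N' ≤ (xsub x N).comap f := by
  intro n hn
  rw [mem_xsub] at hn
  obtain ⟨m, rfl⟩ := hn
  rw [Submodule.mem_comap, mem_xsub]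
  exact ⟨f m, (map_smul f x m).symm⟩

theorem length_xq_congr (e : N ≃ₗ[R] N') :
    Module.length R (N ⧸ xsub x N) = Module.length R (N' ⧸ xsub x N') := by
  refine (Submodule.Quotient.equiv _ _ e ?_).length_eq
  apply le_antisymm
  · rw [Submodule.map_le_iff_le_comap]
    exact map_xsub_le x e.toLinearMap
  · intro n hn
    rw [mem_xsub] at hn
    obtain ⟨m, rfl⟩ := hn
    refine ⟨x • e.symm m, ?_, by simp⟩
    exact (mem_xsub x _).mpr ⟨_, rfl⟩

theorem length_xq_le_add (f : N' →ₗ[R] N) (g : N →ₗ[R] N'') (hg : Function.Surjective g)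
    (H : Function.Exact f g) :
    Module.length R (N ⧸ xsub x N) ≤
      Module.length R (N' ⧸ xsub x N') + Module.length R (N'' ⧸ xsub x N'') := by
  let f' : N' ⧸ xsub x N' →ₗ[R] N ⧸ xsub x N := Submodule.mapQ _ _ f (map_xsub_le x f)
  let g' : N ⧸ xsub x N →ₗ[R] N'' ⧸ xsub x N'' := Submodule.mapQ _ _ g (map_xsub_le x g)
  refine length_le_add_of_exact f' g' ?_ ?_
  · intro y
    induction y using Submodule.Quotient.induction_on with
    | H m =>
      obtain ⟨n, rfl⟩ := hg m
      exact ⟨Submodule.Quotient.mk n, rfl⟩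
  · intro y
    induction y using Submodule.Quotient.induction_on with
    | H n =>
      rw [Submodule.mapQ_apply, Submodule.Quotient.mk_eq_zero, mem_xsub]
      constructor
      · rintro ⟨m'', hm''⟩
        obtain ⟨m, rfl⟩ := hg m''
        have : g (n - x • m) = 0 := by rw [map_sub, map_smul, hm'', sub_self]
        obtain ⟨n', hn'⟩ := (H _).mp this
        refine ⟨Submodule.Quotient.mk n', ?_⟩
        rw [Submodule.mapQ_apply, hn', Submodule.Quotient.eq]
        rw [mem_xsub]
        exact ⟨-m, by rw [smul_neg]; abel⟩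
      · rintro ⟨z, hz⟩
        induction z using Submodule.Quotient.induction_on with
        | H n' =>
          rw [Submodule.mapQ_apply, Submodule.Quotient.eq, mem_xsub] at hz
          obtain ⟨m, hm⟩ := hz
          refine ⟨-g m, ?_⟩
          have h0 : g (f n') = 0 := (H _).mpr ⟨n', rfl⟩
          have : g n = g (f n') - g (x • m) := by rw [hm]; simp
          rw [this, h0, map_smul]
          simp

end xq

section rankone

variable {R : Type*} [CommRing R] [IsDomain R] [IsNoetherianRing R] [Ring.KrullDimLE 1 R]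

theorem length_quotient_ne_top_of_ne_bot (J : Ideal R) (hJ : J ≠ ⊥) :
    Module.length R (R ⧸ J) ≠ ⊤ := by
  obtain ⟨a, haJ, ha0⟩ := Submodule.exists_mem_ne_zero_of_ne_bot hJ
  have h1 : Module.length R (R ⧸ Ideal.span {a}) ≠ ⊤ :=
    Ring.ord_ne_top (mem_nonZeroDivisors_of_ne_zero ha0)
  have hle : Ideal.span {a} ≤ J := (Ideal.span_singleton_le_iff_mem J).mpr haJ
  have h2 := Module.length_le_of_surjective (Submodule.factor hle)
    (Submodule.factor_surjective hle)
  exact ne_top_of_le_ne_top h1 h2

theorem length_xq_ideal (x : R) (hx : x ≠ 0) (J : Ideal R) (hJ : J ≠ ⊥) :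
    Module.length R (↥J ⧸ xsub x ↥J) = Module.length R (R ⧸ Ideal.span {x}) := by
  have hle : x • J ≤ J := by
    intro y hy
    obtain ⟨z, hz, rfl⟩ := (Submodule.mem_smul_pointwise_iff_exists _ _ _).mp hy
    exact J.smul_mem x hz
  have e1 := length_quotient_eq_add (x • J) J hle
  have e2 := Module.length_eq_add_of_exact (Ideal.mulQuot x J) (Ideal.quotOfMul x J)
    (Ideal.mulQuot_injective J (mem_nonZeroDivisors_of_ne_zero hx)) (Ideal.quotOfMul_surjective J)
    (Ideal.exact_mulQuot_quotOfMul J)
  have e3 : xsub x ↥J = Submodule.comap (Submodule.subtype J) (x • J) := by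
    ext y
    rw [mem_xsub, Submodule.mem_comap, Submodule.mem_smul_pointwise_iff_exists]
    constructor
    · rintro ⟨m, rfl⟩
      exact ⟨m, m.2, rfl⟩
    · rintro ⟨z, hz, hzy⟩
      exact ⟨⟨z, hz⟩, Subtype.ext hzy⟩
  rw [e3]
  rw [e2, add_comm] at e1
  exact (ENat.add_left_injective_of_ne_top (length_quotient_ne_top_of_ne_bot J hJ) e1).symm

variable {K : Type*} [Field K] [Algebra R K] [IsFractionRing R K]

theorem length_xq_rankone_fg (x : R) (hx : x ≠ 0) (N : Submodule R K) (hN : N.FG) :
    Module.length R (↥N ⧸ xsub x ↥N) ≤ Module.length R (R ⧸ Ideal.span {x}) := by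
  let I : FractionalIdeal (nonZeroDivisors R) K := ⟨N, FractionalIdeal.isFractional_of_fg hN⟩
  have e : ↥N ≃ₗ[R] ↥I.num := I.equivNumOfIsLocalization
  rw [length_xq_congr x e]
  by_cases hJ : I.num = ⊥
  · rw [hJ]
    have : Subsingleton (↥(⊥ : Ideal R) ⧸ xsub x ↥(⊥ : Ideal R)) :=
      Function.Surjective.subsingleton (Submodule.Quotient.mk_surjective _)
    rw [Module.length_eq_zero]
    exact zero_le
  · exact (length_xq_ideal x hx _ hJ).le

theorem length_xq_rankone (x : R) (hx : x ≠ 0) (N : Submodule R K) :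
    Module.length R (↥N ⧸ xsub x ↥N) ≤ Module.length R (R ⧸ Ideal.span {x}) := by
  obtain ⟨L, hL⟩ := ENat.ne_top_iff_exists.mp
    (Ring.ord_ne_top (R := R) (mem_nonZeroDivisors_of_ne_zero hx))
  rw [Ring.ord] at hL
  rw [← hL]
  apply length_le_of_forall_fg
  intro P' hP'
  obtain ⟨S, hS⟩ := hP'
  classical
  let lift : (↥N ⧸ xsub x ↥N) → ↥N := Function.surjInv (Submodule.Quotient.mk_surjective _)
  have hlift : ∀ y, Submodule.Quotient.mk (lift y) = y :=
    Function.surjInv_eq (Submodule.Quotient.mk_surjective _)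
  have key2 : ∀ N0 : Submodule R K, N0.FG → ∀ h : N0 ≤ N, (∀ y ∈ S, (lift y : K) ∈ N0) →
      Module.length R ↥P' ≤ (L : ℕ∞) := by
    intro N0 hN0 h hmem
    have h1 : Module.length R (↥N0 ⧸ xsub x ↥N0) ≤ (L : ℕ∞) := by
      rw [hL]
      exact length_xq_rankone_fg x hx N0 hN0
    let ι' : (↥N0 ⧸ xsub x ↥N0) →ₗ[R] (↥N ⧸ xsub x ↥N) :=
      Submodule.mapQ _ _ (Submodule.inclusion h) (map_xsub_le x (Submodule.inclusion h))
    have hle : P' ≤ LinearMap.range ι' := by
      rw [← hS, Submodule.span_le]
      intro y hy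
      refine ⟨Submodule.Quotient.mk ⟨(lift y : K), hmem y hy⟩, ?_⟩
      rw [Submodule.mapQ_apply]
      exact hlift y
    calc Module.length R ↥P' ≤ Module.length R ↥(LinearMap.range ι') :=
          Module.length_le_of_injective (Submodule.inclusion hle)
            (Submodule.inclusion_injective hle)
      _ ≤ Module.length R (↥N0 ⧸ xsub x ↥N0) :=
          Module.length_le_of_surjective ι'.rangeRestrict ι'.surjective_rangeRestrict
      _ ≤ L := h1
  refine key2 (Submodule.span R (S.image (fun y => (lift y : K)) : Set K))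
    ⟨S.image (fun y => (lift y : K)), rfl⟩ ?_ ?_
  · rw [Submodule.span_le]
    intro z hz
    obtain ⟨y, _, rfl⟩ := Finset.mem_image.mp (Finset.mem_coe.mp hz)
    exact (lift y).2
  · intro y hy
    exact Submodule.subset_span (Finset.mem_coe.mpr
      (Finset.mem_image_of_mem (fun y => (lift y : K)) hy))

/-- Stacks 00PE/00PF: `length (N/xN) ≤ r * length (R/xR)` for `N ⊆ K^r`. -/
theorem length_xq_le_mul (x : R) (hx : x ≠ 0) : ∀ (r : ℕ) (N : Submodule R (Fin r → K)),
    Module.length R (↥N ⧸ xsub x ↥N) ≤ r * Module.length R (R ⧸ Ideal.span {x}) := by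
  intro r
  induction r with
  | zero =>
    intro N
    have : Subsingleton (↥N ⧸ xsub x ↥N) :=
      Function.Surjective.subsingleton (Submodule.Quotient.mk_surjective _)
    rw [Module.length_eq_zero]
    exact zero_le
  | succ r ih =>
    intro N
    let π : (Fin (r + 1) → K) →ₗ[R] K := LinearMap.proj (Fin.last r)
    let ρ : (Fin (r + 1) → K) →ₗ[R] (Fin r → K) := LinearMap.funLeft R K Fin.castSucc
    let N' : Submodule R (Fin (r + 1) → K) := N ⊓ LinearMap.ker π
    let f : ↥N' →ₗ[R] ↥N := Submodule.inclusion inf_le_left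
    let g : ↥N →ₗ[R] ↥(N.map π) := π.submoduleMap N
    have hg : Function.Surjective g := π.submoduleMap_surjective N
    have H : Function.Exact f g := by
      intro n
      constructor
      · intro hn
        have : π n = 0 := congrArg Subtype.val hn
        exact ⟨⟨n, ⟨n.2, this⟩⟩, rfl⟩
      · rintro ⟨n', rfl⟩
        apply Subtype.ext
        exact n'.2.2
    have h1 := length_xq_le_add x f g hg H
    have h2 : Module.length R (↥(N.map π) ⧸ xsub x ↥(N.map π)) ≤
        Module.length R (R ⧸ Ideal.span {x}) := length_xq_rankone x hx _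
    have hinj : Function.Injective (ρ.domRestrict N') := by
      intro a b hab
      apply Subtype.ext
      funext i
      refine Fin.lastCases ?_ (fun j => ?_) i
      · have ha : π a = 0 := a.2.2
        have hb : π b = 0 := b.2.2
        exact ha.trans hb.symm
      · exact congrFun hab j
    have e : ↥N' ≃ₗ[R] ↥(LinearMap.range (ρ.domRestrict N')) := LinearEquiv.ofInjective _ hinj
    have h3 := ih (LinearMap.range (ρ.domRestrict N'))
    rw [← length_xq_congr x e] at h3
    calc Module.length R (↥N ⧸ xsub x ↥N)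
        ≤ Module.length R (↥N' ⧸ xsub x ↥N') +
          Module.length R (↥(N.map π) ⧸ xsub x ↥(N.map π)) := h1
      _ ≤ r * Module.length R (R ⧸ Ideal.span {x}) + Module.length R (R ⧸ Ideal.span {x}) :=
          add_le_add h3 h2
      _ = ((r + 1 : ℕ) : ℕ∞) * Module.length R (R ⧸ Ideal.span {x}) := by
          push_cast
          rw [add_mul, one_mul]

end rankone

section KA

variable {R : Type*} [CommRing R] [IsDomain R] [IsNoetherianRing R] [Ring.KrullDimLE 1 R]
  {K L : Type*} [Field K] [Field L] [Algebra R K] [IsFractionRing R K] [Algebra K L]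
  [FiniteDimensional K L] [Algebra R L] [IsScalarTower R K L]
  {A : Type*} [CommRing A] [Algebra R A] [Algebra A L] [IsScalarTower R A L]

include K in
theorem length_xq_between_ne_top (hA : Function.Injective (algebraMap A L)) (x : R) (hx : x ≠ 0) :
    Module.length R (A ⧸ xsub x A) ≠ ⊤ := by
  let b := Module.finBasis K L
  let φ : L ≃ₗ[R] (Fin (Module.finrank K L) → K) := b.equivFun.restrictScalars R
  let ψ : A →ₗ[R] (Fin (Module.finrank K L) → K) :=
    φ.toLinearMap ∘ₗ (IsScalarTower.toAlgHom R A L).toLinearMap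
  have hψ : Function.Injective ψ := φ.injective.comp hA
  have e : A ≃ₗ[R] ↥(LinearMap.range ψ) := LinearEquiv.ofInjective ψ hψ
  rw [length_xq_congr x e]
  have h1 := length_xq_le_mul (K := K) x hx _ (LinearMap.range ψ)
  have h2 : Module.length R (R ⧸ Ideal.span {x}) ≠ ⊤ :=
    Ring.ord_ne_top (mem_nonZeroDivisors_of_ne_zero hx)
  refine ne_top_of_le_ne_top ?_ h1
  exact WithTop.mul_ne_top (ENat.natCast_ne_top _) h2

include R K in
/-- Krull–Akizuki (Stacks 00PG). -/
theorem isNoetherianRing_of_between (hA : Function.Injective (algebraMap A L)) :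
    IsNoetherianRing A := by
  have : IsDomain A := hA.isDomain (algebraMap A L)
  rw [isNoetherianRing_iff_ideal_fg]
  intro I
  by_cases hI : I = ⊥
  · rw [hI]; exact Submodule.fg_bot
  obtain ⟨y, hyI, hy0⟩ := Submodule.exists_mem_ne_zero_of_ne_bot hI
  have halg : IsAlgebraic R y := by
    rw [← isAlgebraic_algebraMap_iff (A := L) hA, IsFractionRing.isAlgebraic_iff R K L]
    exact Algebra.IsAlgebraic.isAlgebraic _
  obtain ⟨x, hx0, hxy⟩ := halg.exists_nonzero_dvd (mem_nonZeroDivisors_of_ne_zero hy0)
  set a := algebraMap R A x with ha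
  have haI : a ∈ I := Ideal.mem_of_dvd I hxy hyI
  have hfin := length_xq_between_ne_top (K := K) (L := L) hA x hx0
  have heq : (Ideal.span {a} : Ideal A).restrictScalars R = xsub x A := by
    ext z
    rw [Submodule.restrictScalars_mem, mem_xsub, Ideal.mem_span_singleton']
    constructor
    · rintro ⟨c, rfl⟩
      exact ⟨c, by rw [Algebra.smul_def, mul_comm]⟩
    · rintro ⟨c, rfl⟩
      exact ⟨c, by rw [Algebra.smul_def, mul_comm]⟩
  let e : (A ⧸ xsub x A) ≃ₗ[R] (A ⧸ Ideal.span {a}) :=
    (Submodule.quotEquivOfEq _ _ heq.symm).trans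
      (Submodule.Quotient.restrictScalarsEquiv R (Ideal.span {a}))
  have hN : IsNoetherian R (A ⧸ Ideal.span {a}) := by
    rw [e.length_eq, Module.length_ne_top_iff, isFiniteLength_iff_isNoetherian_isArtinian] at hfin
    exact hfin.1
  have : IsNoetherian A (A ⧸ Ideal.span {a}) := isNoetherian_of_tower R hN
  refine Submodule.fg_of_fg_map_of_fg_inf_ker (Submodule.mkQ (Ideal.span {a}))
    (IsNoetherian.noetherian _) ?_
  rw [Submodule.ker_mkQ, inf_of_le_right ((Ideal.span_singleton_le_iff_mem I).mpr haI)]
  exact ⟨{a}, by simp⟩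

end KA

end Groth.Agent.Lib.KrullAkizuki
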