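import Groth.Agent.Lib.GlueDimOne
import Groth.Agent.Lib.KrullAkizuki
import Mathlib.RingTheory.DiscreteValuationRing.TFAE
import Mathlib.RingTheory.KrullDimension.PID
import Mathlib.RingTheory.Valuation.LocalSubring
import Mathlib.RingTheory.FractionalIdeal.Operations
import Mathlib.RingTheory.Ideal.GoingUp
import Mathlib.Data.List.Nodup

/-!
# Approximation for a semilocal one-dimensional domain and finitely many DVRs (helper19)

* `radK A` : the Jacobson radical of a subring `A ⊆ K`, as a subset of `K`.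
* `Inv A l` / `inv_of_list` : mixed approximation theorem (Stacks 09N0-style induction):
  for a semilocal one-dimensional domain `A` and pairwise incomparable DVRs `W ∈ l`,
  none containing `A`, there is `e ∈ A ∩ ⋂ W` with `e ∈ 𝔪_W` for all `W` and `1 - e ∈ rad A`.
-/

set_option autoImplicit false
universe u
open CategoryTheory CategoryTheory.Limits AlgebraicGeometry

namespace Groth.Agent.Lib.GlueDimOne

variable {K : Type u} [Field K]

/-- The Jacobson radical of a subring of `K`, as a subset of `K`. -/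
def radK (A : Subring K) : Set K :=
  {k | ∃ h : k ∈ A, ∀ m : Ideal A, m.IsMaximal → (⟨k, h⟩ : A) ∈ m}

theorem radK_subset (A : Subring K) {k : K} (h : k ∈ radK A) : k ∈ A := h.1

theorem zero_mem_radK (A : Subring K) : (0 : K) ∈ radK A :=
  ⟨A.zero_mem, fun m _ => m.zero_mem⟩

theorem add_mem_radK (A : Subring K) {k k' : K} (h : k ∈ radK A) (h' : k' ∈ radK A) :
    k + k' ∈ radK A :=
  ⟨A.add_mem h.1 h'.1, fun m hm => m.add_mem (h.2 m hm) (h'.2 m hm)⟩

theorem neg_mem_radK (A : Subring K) {k : K} (h : k ∈ radK A) : -k ∈ radK A :=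
  ⟨A.neg_mem h.1, fun m hm => m.neg_mem (h.2 m hm)⟩

theorem mul_mem_radK (A : Subring K) {a k : K} (ha : a ∈ A) (h : k ∈ radK A) :
    a * k ∈ radK A :=
  ⟨A.mul_mem ha h.1, fun m hm => m.mul_mem_left ⟨a, ha⟩ (h.2 m hm)⟩

theorem mul_mem_radK' (A : Subring K) {a k : K} (ha : a ∈ A) (h : k ∈ radK A) :
    k * a ∈ radK A := by
  rw [mul_comm]; exact mul_mem_radK A ha h

/-- `1 + k` is invertible in `A` for `k` in the radical. -/
theorem one_add_inv_mem (A : Subring K) {k : K} (h : k ∈ radK A) :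
    1 + k ≠ 0 ∧ (1 + k)⁻¹ ∈ A := by
  obtain ⟨hk, hm⟩ := h
  have h1x : IsUnit ((1 : A) + ⟨k, hk⟩) := by
    by_contra hnu
    obtain ⟨m, hmax, hmem⟩ := exists_max_ideal_of_mem_nonunits hnu
    have h2 := hm m hmax
    have : (1 : A) ∈ m := by
      have := m.sub_mem hmem h2
      simpa using this
    exact hmax.ne_top ((Ideal.eq_top_iff_one _).mpr this)
  obtain ⟨q, hq⟩ := h1x.exists_right_inv
  have hqK : (1 + k) * (q : K) = 1 := congrArg Subtype.val hq
  have h1x0 : (1 + k) ≠ 0 := left_ne_zero_of_mul_eq_one hqK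
  have hqe : (q : K) = (1 + k)⁻¹ := (inv_eq_of_mul_eq_one_right hqK).symm
  exact ⟨h1x0, hqe ▸ q.2⟩

theorem one_notMem_radK (A : Subring K) : (1 : K) ∉ radK A := by
  intro h
  have := (one_add_inv_mem A (neg_mem_radK A h)).1
  simp at this

/-- `1 - a b` is in the radical if `1 - a`, `1 - b` are. -/
theorem one_sub_mul_mem_radK (A : Subring K) {a b : K} (ha : a ∈ A)
    (h1 : 1 - a ∈ radK A) (h2 : 1 - b ∈ radK A) : 1 - a * b ∈ radK A := by
  have : 1 - a * b = (1 - a) + a * (1 - b) := by ring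
  rw [this]
  exact add_mem_radK A h1 (mul_mem_radK A ha h2)

theorem one_sub_pow_mem_radK (A : Subring K) {a : K} (ha : a ∈ A)
    (h1 : 1 - a ∈ radK A) (n : ℕ) : 1 - a ^ n ∈ radK A := by
  induction n with
  | zero => simpa using zero_mem_radK A
  | succ n ih =>
    rw [pow_succ]
    exact one_sub_mul_mem_radK A (A.pow_mem ha n) ih h1

/-- The hypotheses on a subring making it a semilocal one-dimensional domain with fraction
field `K`. -/
structure Good (A : Subring K) : Prop where
  frac : IsFractionRing A K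
  dim : Ring.KrullDimLE 1 A
  nf : ¬ IsField A
  sl : Finite (MaximalSpectrum A)

theorem Good.of (A : Subring K) [IsFractionRing A K] (hdim : ringKrullDim A = 1)
    (hsl : Finite (MaximalSpectrum A)) : Good A where
  frac := inferInstance
  dim := by rw [Ring.krullDimLE_iff, hdim]; rfl
  nf := by
    intro h
    have := ringKrullDim_eq_zero_of_isField h
    rw [hdim] at this
    exact one_ne_zero this
  sl := hsl

theorem Good.exists_ne_zero {A : Subring K} (hA : Good A) : ∃ t : K, t ≠ 0 ∧ t ∈ radK A := by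
  have := hA.sl
  obtain ⟨t, ht0, htm⟩ := exists_ne_zero_mem_all_maximal hA.nf
  exact ⟨t, fun h => ht0 (Subtype.ext h), t.2, htm⟩

/-- Absorbing property, monotone version. -/
theorem Good.absorb {A : Subring K} (hA : Good A) {z : K} (hz : z ∈ radK A) (k : K) :
    ∃ N₀ : ℕ, ∀ N ≥ N₀, k * z ^ N ∈ A := by
  have := hA.frac
  have := hA.dim
  obtain ⟨N₀, hN₀⟩ := dimOne_exists_pow_mul_mem A z hz.1 hz.2 k
  refine ⟨N₀, fun N hN => ?_⟩
  obtain ⟨d, rfl⟩ := Nat.exists_eq_add_of_le hN
  rw [pow_add, ← mul_assoc]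
  exact A.mul_mem hN₀ (A.pow_mem hz.1 d)

/-- Absorbing property for a DVR, monotone version. -/
theorem dvr_absorb (W : ValuationSubring K) [IsDiscreteValuationRing W] {z : K}
    (hz : W.valuation z < 1) (hz0 : z ≠ 0) (k : K) :
    ∃ N₀ : ℕ, ∀ N ≥ N₀, k * z ^ N ∈ W := by
  have hzW : z ∈ W := (W.valuation_le_one_iff z).mp hz.le
  have hzi : z⁻¹ ∉ W := by
    intro h
    have h1 := (W.valuation_le_one_iff _).mpr h
    rw [map_inv₀] at h1
    have h2 : W.valuation z ≠ 0 := (Valuation.ne_zero_iff _).mpr hz0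
    have : 1 ≤ W.valuation z := by
      have := (inv_le_one₀ (zero_lt_iff.mpr h2)).mp h1
      exact this
    exact absurd hz (not_lt.mpr this)
  obtain ⟨N₀, hN₀⟩ := dvr_exists_pow_mul_mem W z hzi k
  refine ⟨N₀, fun N hN => ?_⟩
  obtain ⟨d, rfl⟩ := Nat.exists_eq_add_of_le hN
  rw [pow_add, ← mul_assoc]
  exact W.mul_mem _ _ hN₀ (W.toSubring.pow_mem hzW d)

/-! ### The mixed approximation theorem -/

/-- membership in `A ∩ ⋂_{W ∈ l} W` -/
def inR (A : Subring K) (l : List (ValuationSubring K)) (k : K) : Prop :=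
  k ∈ A ∧ ∀ W ∈ l, k ∈ W

/-- membership in `rad A ∩ ⋂ 𝔪_W` -/
def inJ (A : Subring K) (l : List (ValuationSubring K)) (k : K) : Prop :=
  k ∈ radK A ∧ ∀ W ∈ l, W.valuation k < 1

theorem inJ.toR {A : Subring K} {l : List (ValuationSubring K)} {k : K} (h : inJ A l k) :
    inR A l k :=
  ⟨h.1.1, fun W hW => (W.valuation_le_one_iff k).mp (h.2 W hW).le⟩

theorem val_mul_lt_one (W : ValuationSubring K) {a t : K} (ha : a ∈ W)
    (ht : W.valuation t < 1) : W.valuation (a * t) < 1 := by
  rw [map_mul]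
  exact lt_of_le_of_lt (mul_le_of_le_one_left' ((W.valuation_le_one_iff a).mpr ha)) ht

theorem inJ.mul {A : Subring K} {l : List (ValuationSubring K)} {a t : K} (ha : inR A l a)
    (ht : inJ A l t) : inJ A l (a * t) :=
  ⟨mul_mem_radK A ha.1 ht.1, fun W hW => val_mul_lt_one W (ha.2 W hW) (ht.2 W hW)⟩

theorem inR.mul {A : Subring K} {l : List (ValuationSubring K)} {a b : K} (ha : inR A l a)
    (hb : inR A l b) : inR A l (a * b) :=
  ⟨A.mul_mem ha.1 hb.1, fun W hW => W.mul_mem _ _ (ha.2 W hW) (hb.2 W hW)⟩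

theorem inR.pow {A : Subring K} {l : List (ValuationSubring K)} {a : K} (ha : inR A l a) (n : ℕ) :
    inR A l (a ^ n) :=
  ⟨A.pow_mem ha.1 n, fun W hW => W.toSubring.pow_mem (ha.2 W hW) n⟩

theorem inJ.one_add {A : Subring K} {l : List (ValuationSubring K)} {t : K} (ht : inJ A l t) :
    1 + t ≠ 0 ∧ inR A l (1 + t) ∧ inR A l (1 + t)⁻¹ := by
  obtain ⟨h0, hi⟩ := one_add_inv_mem A ht.1
  refine ⟨h0, ⟨A.add_mem A.one_mem ht.1.1, fun W hW => ?_⟩, hi, fun W hW => ?_⟩
  · exact W.add_mem _ _ W.one_mem ((W.valuation_le_one_iff t).mp (ht.2 W hW).le)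
  · rw [← W.valuation_le_one_iff, map_inv₀, Valuation.map_one_add_of_lt _ (ht.2 W hW), inv_one]

theorem inR.absorb {A : Subring K} (hA : Good A) {l : List (ValuationSubring K)}
    (hdvr : ∀ W ∈ l, IsDiscreteValuationRing W) {z : K} (hz : inJ A l z) (hz0 : z ≠ 0) (k : K) :
    ∃ N₀ : ℕ, ∀ N ≥ N₀, inR A l (k * z ^ N) := by
  induction l with
  | nil =>
    obtain ⟨N₀, h⟩ := hA.absorb hz.1 k
    exact ⟨N₀, fun N hN => ⟨h N hN, by simp⟩⟩
  | cons W l ih =>
    obtain ⟨N₁, h₁⟩ := ih (fun W' hW' => hdvr W' (List.mem_cons_of_mem _ hW'))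
      ⟨hz.1, fun W' hW' => hz.2 W' (List.mem_cons_of_mem _ hW')⟩
    have := hdvr W List.mem_cons_self
    obtain ⟨N₂, h₂⟩ := dvr_absorb W (hz.2 W List.mem_cons_self) hz0 k
    refine ⟨max N₁ N₂, fun N hN => ⟨(h₁ N (le_trans (le_max_left _ _) hN)).1, ?_⟩⟩
    intro W' hW'
    rcases List.mem_cons.mp hW' with rfl | hW'
    · exact h₂ N (le_trans (le_max_right _ _) hN)
    · exact (h₁ N (le_trans (le_max_left _ _) hN)).2 W' hW'

/-- The inductive invariant of the approximation theorem. -/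
structure Inv (A : Subring K) (l : List (ValuationSubring K)) : Prop where
  t_ex : ∃ t : K, t ≠ 0 ∧ inJ A l t
  e_ex : ∃ e : K, e ∈ A ∧ 1 - e ∈ radK A ∧ ∀ W ∈ l, W.valuation e < 1
  dom : ∀ W' : ValuationSubring K, (∀ k, inR A l k → k ∈ W') →
    A ≤ W'.toSubring ∨ ∃ W ∈ l, W ≤ W'

theorem inR.cons {A : Subring K} {l : List (ValuationSubring K)} {W : ValuationSubring K} {k : K}
    (h : inR A l k) (hW : k ∈ W) : inR A (W :: l) k :=
  ⟨h.1, fun W' hW' => by
    rcases List.mem_cons.mp hW' with rfl | hW'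
    · exact hW
    · exact h.2 W' hW'⟩

theorem mem_of_mul_pow_mem (W : ValuationSubring K) {a y : K} (hy0 : y ≠ 0) (hyi : y⁻¹ ∈ W) (N : ℕ)
    (h : a * y ^ N ∈ W) : a ∈ W := by
  have : a = (a * y ^ N) * (y⁻¹) ^ N := by
    rw [mul_assoc, ← mul_pow, mul_inv_cancel₀ hy0, one_pow, mul_one]
  rw [this]
  exact W.mul_mem _ _ h (W.toSubring.pow_mem hyi N)

theorem inv_mem_of_val_eq_one (W : ValuationSubring K) {y : K} (h : W.valuation y = 1) :
    y⁻¹ ∈ W := by
  rw [← W.valuation_le_one_iff, map_inv₀, h, inv_one]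

/-- **Mixed approximation theorem.** -/
theorem inv_of_list {A : Subring K} (hA : Good A) :
    ∀ l : List (ValuationSubring K), (∀ W ∈ l, IsDiscreteValuationRing W) →
      (∀ W ∈ l, ¬ A ≤ W.toSubring) → l.Pairwise (fun W W' => ¬ W ≤ W' ∧ ¬ W' ≤ W) → Inv A l
  | [], _, _, _ => by
    obtain ⟨t, ht0, ht⟩ := hA.exists_ne_zero
    refine ⟨⟨t, ht0, ht, by simp⟩, ⟨1, A.one_mem, by simpa using zero_mem_radK A, by simp⟩, ?_⟩
    intro W' h
    left
    intro a ha
    exact h a ⟨ha, by simp⟩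
  | W :: l, hdvr, hnA, hpw => by
    have hdvr' : ∀ W' ∈ l, IsDiscreteValuationRing W' :=
      fun W' hW' => hdvr W' (List.mem_cons_of_mem _ hW')
    have ih := inv_of_list hA l hdvr' (fun W' hW' => hnA W' (List.mem_cons_of_mem _ hW'))
      (List.Pairwise.of_cons hpw)
    have hW : IsDiscreteValuationRing W := hdvr W List.mem_cons_self
    have hWA : ¬ A ≤ W.toSubring := hnA W List.mem_cons_self
    have hWl : ∀ W' ∈ l, ¬ W ≤ W' ∧ ¬ W' ≤ W := fun W' hW' => List.rel_of_pairwise_cons hpw hW'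
    obtain ⟨t, ht0, ht⟩ := ih.t_ex
    obtain ⟨e, heA, he1, hel⟩ := ih.e_ex
    -- Step 1: a unit of `R_l` outside `W`
    have step1 : ∃ u : K, inR A l u ∧ inR A l u⁻¹ ∧ u ∉ W := by
      by_contra hcon
      push Not at hcon
      have hsub : ∀ a, inR A l a → a ∈ W := by
        intro a ha
        by_contra haW
        have ha0 : a ≠ 0 := by rintro rfl; exact haW W.zero_mem
        have hta : ∀ n : ℕ, t * a ^ n ∈ W := by
          intro n
          have hJ : inJ A l (a ^ n * t) := inJ.mul (ha.pow n) ht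
          obtain ⟨_, h1, h2⟩ := hJ.one_add
          have h3 := hcon _ h1 h2
          have : t * a ^ n = (1 + a ^ n * t) - 1 := by ring
          rw [this]
          exact W.toSubring.sub_mem h3 W.one_mem
        have hw : (a⁻¹)⁻¹ ∉ W := by rwa [inv_inv]
        obtain ⟨N, hN⟩ := dvr_exists_pow_mul_mem W a⁻¹ hw t⁻¹
        apply haW
        have key : a ^ (N + 1) * (a⁻¹) ^ N = a := by
          rw [pow_succ', mul_assoc, ← mul_pow, mul_inv_cancel₀ ha0, one_pow, mul_one]
        have : a = (t * a ^ (N + 1)) * (t⁻¹ * (a⁻¹) ^ N) := by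
          calc a = (t * t⁻¹) * (a ^ (N + 1) * (a⁻¹) ^ N) := by
                rw [mul_inv_cancel₀ ht0, one_mul, key]
            _ = _ := by ring
        rw [this]
        exact W.mul_mem _ _ (hta (N + 1)) hN
      rcases ih.dom W hsub with h | ⟨W', hW', hle⟩
      · exact hWA h
      · exact (hWl W' hW').2 hle
    obtain ⟨u, huR, huiR, huW⟩ := step1
    -- Step 2: `x ∈ J_l` with a pole at `W`
    have hu0 : u ≠ 0 := by rintro rfl; exact huW W.zero_mem
    have hw : (u⁻¹)⁻¹ ∉ W := by rwa [inv_inv]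
    obtain ⟨N, hN⟩ := dvr_exists_pow_mul_mem W u⁻¹ hw t⁻¹
    obtain ⟨x, hx⟩ : ∃ x : K, x = t * u ^ (N + 1) := ⟨_, rfl⟩
    have hx0 : x ≠ 0 := hx ▸ mul_ne_zero ht0 (pow_ne_zero _ hu0)
    have hxJ : inJ A l x := by rw [hx, mul_comm]; exact inJ.mul (huR.pow _) ht
    have hvu : 1 < W.valuation u := by
      by_contra h; exact huW ((W.valuation_le_one_iff u).mp (not_lt.mp h))
    have hxW : 1 < W.valuation x := by
      have hxi : x⁻¹ = (t⁻¹ * (u⁻¹) ^ N) * u⁻¹ := by
        rw [hx, mul_inv, ← inv_pow, pow_succ, mul_assoc]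
      have h1 : W.valuation x⁻¹ < 1 := by
        rw [hxi]
        apply val_mul_lt_one W hN
        rw [map_inv₀]
        exact inv_lt_one_of_one_lt₀ hvu
      rw [map_inv₀] at h1
      exact (inv_lt_one₀ (zero_lt_iff.mpr ((Valuation.ne_zero_iff _).mpr hx0))).mp h1
    -- Step 3: the partition of unity
    obtain ⟨h1x0, h1xR, h1xiR⟩ := hxJ.one_add
    obtain ⟨y, hy⟩ : ∃ y : K, y = (1 + x)⁻¹ := ⟨_, rfl⟩
    obtain ⟨z, hz⟩ : ∃ z : K, z = x * (1 + x)⁻¹ := ⟨_, rfl⟩
    have hyz : y + z = 1 := by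
      rw [hy, hz]
      have : (1 + x)⁻¹ + x * (1 + x)⁻¹ = (1 + x) * (1 + x)⁻¹ := by ring
      rw [this, mul_inv_cancel₀ h1x0]
    have hzy : 1 - y = z := by rw [← hyz]; ring
    have hy0 : y ≠ 0 := hy ▸ inv_ne_zero h1x0
    have hz0 : z ≠ 0 := hz ▸ mul_ne_zero hx0 (inv_ne_zero h1x0)
    have hyR : inR A l y := hy ▸ h1xiR
    have hzJ : inJ A l z := by rw [hz, mul_comm]; exact inJ.mul h1xiR hxJ
    have hv1x : W.valuation (1 + x) = W.valuation x := by
      rw [add_comm]
      exact Valuation.map_add_eq_of_lt_left _ (by rw [map_one]; exact hxW)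
    have hyW : W.valuation y < 1 := by
      rw [hy, map_inv₀, hv1x]; exact inv_lt_one_of_one_lt₀ hxW
    have hzW : W.valuation z = 1 := by
      rw [hz, map_mul, map_inv₀, hv1x]
      exact mul_inv_cancel₀ (ne_of_gt (lt_trans zero_lt_one hxW))
    have hyW' : y ∈ W := (W.valuation_le_one_iff y).mp hyW.le
    have hzW' : z ∈ W := (W.valuation_le_one_iff z).mp hzW.le
    -- Step 4: the new invariant
    refine ⟨?_, ?_, ?_⟩
    · obtain ⟨M, hM⟩ := dvr_absorb W hyW hy0 t
      refine ⟨t * y ^ (M + 1), mul_ne_zero ht0 (pow_ne_zero _ hy0), ?_, ?_⟩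
      · rw [mul_comm]; exact mul_mem_radK A (A.pow_mem hyR.1 _) ht.1
      · intro W' hW'
        rcases List.mem_cons.mp hW' with rfl | hW'
        · rw [pow_succ, ← mul_assoc]
          exact val_mul_lt_one _ (hM M le_rfl) hyW
        · rw [mul_comm]
          exact val_mul_lt_one W' (W'.toSubring.pow_mem (hyR.2 W' hW') _) (ht.2 W' hW')
    · obtain ⟨M, hM⟩ := dvr_absorb W hyW hy0 e
      refine ⟨e * y ^ (M + 1), A.mul_mem heA (A.pow_mem hyR.1 _), ?_, ?_⟩
      · exact one_sub_mul_mem_radK A heA he1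
          (one_sub_pow_mem_radK A hyR.1 (hzy ▸ hzJ.1) _)
      · intro W' hW'
        rcases List.mem_cons.mp hW' with rfl | hW'
        · rw [pow_succ, ← mul_assoc]
          exact val_mul_lt_one _ (hM M le_rfl) hyW
        · rw [mul_comm]
          exact val_mul_lt_one W' (W'.toSubring.pow_mem (hyR.2 W' hW') _) (hel W' hW')
    · intro W'' hW''
      have hyR' : inR A (W :: l) y := hyR.cons hyW'
      have hzR' : inR A (W :: l) z := hzJ.toR.cons hzW'
      have hy'' : y ∈ W'' := hW'' y hyR'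
      have hz'' : z ∈ W'' := hW'' z hzR'
      by_cases hy1 : W''.valuation y < 1
      · -- then `z` is a unit of `W''`, so `W ≤ W''`
        have hz1 : W''.valuation z = 1 := by
          rw [← hzy]; exact Valuation.map_one_sub_of_lt _ hy1
        have hzi := inv_mem_of_val_eq_one W'' hz1
        right
        refine ⟨W, List.mem_cons_self, fun b hb => ?_⟩
        obtain ⟨N₀, hN₀⟩ := inR.absorb hA hdvr' hzJ hz0 b
        have h1 : inR A (W :: l) (b * z ^ N₀) :=
          (hN₀ N₀ le_rfl).cons (W.mul_mem _ _ hb (W.toSubring.pow_mem hzW' _))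
        exact mem_of_mul_pow_mem W'' hz0 hzi N₀ (hW'' _ h1)
      · -- `y` is a unit of `W''`, so `R_l ⊆ W''`
        have hy1' : W''.valuation y = 1 :=
          le_antisymm ((W''.valuation_le_one_iff y).mpr hy'') (not_lt.mp hy1)
        have hyi := inv_mem_of_val_eq_one W'' hy1'
        have hsub : ∀ a, inR A l a → a ∈ W'' := by
          intro a ha
          obtain ⟨N₀, hN₀⟩ := dvr_absorb W hyW hy0 a
          have h1 : inR A (W :: l) (a * y ^ N₀) := (ha.mul (hyR.pow _)).cons (hN₀ N₀ le_rfl)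
          exact mem_of_mul_pow_mem W'' hy0 hyi N₀ (hW'' _ h1)
        rcases ih.dom W'' hsub with h | ⟨W', hW', hle⟩
        · exact Or.inl h
        · exact Or.inr ⟨W', List.mem_cons_of_mem _ hW', hle⟩

/-! ### Valuation subrings over a one-dimensional Noetherian domain -/

theorem ne_top_of_val_lt_one (W : ValuationSubring K) {c : K} (hc0 : c ≠ 0)
    (hc : W.valuation c < 1) : W ≠ ⊤ := by
  rintro rfl
  have h1 : (⊤ : ValuationSubring K).valuation c⁻¹ ≤ 1 :=
    (ValuationSubring.valuation_le_one_iff _ _).mpr (ValuationSubring.mem_top _)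
  rw [map_inv₀] at h1
  have h2 : (⊤ : ValuationSubring K).valuation c ≠ 0 := (Valuation.ne_zero_iff _).mpr hc0
  have := (inv_le_one₀ (zero_lt_iff.mpr h2)).mp h1
  exact absurd hc (not_lt.mpr this)

theorem not_isField_of_ne_top (W : ValuationSubring K) (hW : W ≠ ⊤) : ¬ IsField W := by
  intro hf
  apply hW
  rw [eq_top_iff]
  intro k _
  rcases W.mem_or_inv_mem k with h | h
  · exact h
  · by_cases hk : k = 0
    · rw [hk]; exact W.zero_mem
    · obtain ⟨b, hb⟩ := hf.mul_inv_cancel (a := (⟨k⁻¹, h⟩ : W))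
        (fun h0 => inv_ne_zero hk (congrArg Subtype.val h0))
      have hbK : k⁻¹ * (b : K) = 1 := congrArg Subtype.val hb
      have : k = (b : K) := by
        field_simp at hbK
        exact hbK.symm
      rw [this]; exact b.2

/-- A valuation subring containing a one-dimensional Noetherian domain with the same fraction
field, not the whole field, is a discrete valuation ring (uses Krull–Akizuki). -/
theorem isDVR_of_le (B : Subring K) [IsFractionRing B K] [IsNoetherianRing B]
    [Ring.KrullDimLE 1 B] (W : ValuationSubring K) (hBW : B ≤ W.toSubring) (hW : W ≠ ⊤) :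
    IsDiscreteValuationRing W := by
  let _ : Algebra B W := (Subring.inclusion hBW).toAlgebra
  have : IsScalarTower B W K := .of_algebraMap_eq (fun _ => rfl)
  have hN : IsNoetherianRing W :=
    Groth.Agent.Lib.KrullAkizuki.isNoetherianRing_of_between (R := B) (K := K) (L := K) (A := W)
      Subtype.val_injective
  have h : IsDiscreteValuationRing W ↔ ValuationRing W :=
    (IsDiscreteValuationRing.TFAE W (not_isField_of_ne_top W hW)).out 0 1
  exact h.mpr inferInstance

/-- The centre on `B` of a nontrivial valuation subring containing `B` contains the radical. -/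
theorem val_lt_one_of_mem_radK (B : Subring K) [IsFractionRing B K] [Ring.KrullDimLE 1 B]
    (W : ValuationSubring K) (hBW : B ≤ W.toSubring) (hW : W ≠ ⊤) {s : K} (hs : s ∈ radK B) :
    W.valuation s < 1 := by
  let P : Ideal B := Ideal.comap (Subring.inclusion hBW) (IsLocalRing.maximalIdeal W)
  have hP : P.IsPrime := Ideal.comap_isPrime _ _
  have hmemP : ∀ b : B, b ∈ P ↔ W.valuation (b : K) < 1 := by
    intro b
    show (Subring.inclusion hBW b : W) ∈ IsLocalRing.maximalIdeal W ↔ _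
    rw [W.valuation_lt_one_iff]
    rfl
  have hPne : P ≠ ⊥ := by
    intro hbot
    apply hW
    rw [eq_top_iff]
    intro k _
    obtain ⟨a, c, hc, rfl⟩ := IsFractionRing.div_surjective (A := B) k
    have hc0 : c ≠ 0 := nonZeroDivisors.ne_zero hc
    have hcP : c ∉ P := by rw [hbot]; simpa using hc0
    rw [hmemP] at hcP
    have hc1 : W.valuation (c : K) = 1 :=
      le_antisymm ((W.valuation_le_one_iff _).mpr (hBW c.2)) (not_lt.mp hcP)
    show (a : K) / (c : K) ∈ W
    rw [div_eq_mul_inv]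
    exact W.mul_mem _ _ (hBW a.2) (inv_mem_of_val_eq_one W hc1)
  have hPmax : P.IsMaximal := hP.isMaximal_of_ne_bot hPne
  obtain ⟨hsB, hsm⟩ := hs
  exact (hmemP ⟨s, hsB⟩).mp (hsm P hPmax)

/-! ### Descent from the normalization -/

/-- An element lying in every valuation subring containing `B` is integral over `B`. -/
theorem isIntegral_of_forall_mem (B : Subring K) (e : K)
    (he : ∀ W : ValuationSubring K, B ≤ W.toSubring → e ∈ W) : IsIntegral B e := by
  have h := iInf_valuationSubring_superset (K := K) (s := (B : Set K))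
  have hmem : e ∈ (⨅ V : {V : ValuationSubring K // (B : Set K) ⊆ V.toSubring},
      V.1.toSubring) := by
    rw [Subring.mem_iInf]; intro V; exact he V.1 V.2
  rw [h] at hmem
  have key : ∀ C : Subring K, C = B → e ∈ (integralClosure C K).toSubring → IsIntegral B e := by
    rintro _ rfl h; exact h
  exact key _ (Subring.closure_eq B) hmem

/-- Valuation subring containing a subalgebra in which a proper ideal consists of non-units. -/
theorem exists_valuationSubring_of_ideal (B : Subring K) (S : Subalgebra B K) (I : Ideal S)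
    (hI : I ≠ ⊤) :
    ∃ V : ValuationSubring K, (∀ x ∈ S, x ∈ V) ∧ ∀ x ∈ I, V.valuation (x : K) < 1 := by
  obtain ⟨V, hV1, hV2⟩ := Ideal.image_subset_nonunits_valuationSubring (A := S.toSubring) I hI
  refine ⟨V, fun x hx => hV1 hx, fun x hx => ?_⟩
  have := hV2 ⟨x, hx, rfl⟩
  exact (ValuationSubring.mem_nonunits_iff (A := V)).mp this

theorem exists_valuationSubring_of_ideal' (B : Subring K) (I : Ideal B) (hI : I ≠ ⊤) :
    ∃ V : ValuationSubring K, B ≤ V.toSubring ∧ ∀ x ∈ I, V.valuation (x : K) < 1 := by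
  obtain ⟨V, hV1, hV2⟩ := Ideal.image_subset_nonunits_valuationSubring (A := B) I hI
  refine ⟨V, hV1, fun x hx => ?_⟩
  have := hV2 ⟨x, hx, rfl⟩
  exact (ValuationSubring.mem_nonunits_iff (A := V)).mp this

/-- If `e` lies in the maximal ideal of every nontrivial valuation subring containing `B`, then
all large powers of `e` lie in the Jacobson radical of `B` (conductor argument). -/
theorem exists_pow_mem_radK (B : Subring K) [IsFractionRing B K] [IsNoetherianRing B]
    [Ring.KrullDimLE 1 B] (hnf : ¬ IsField B) (e : K)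
    (he : ∀ W : ValuationSubring K, B ≤ W.toSubring → W ≠ ⊤ → W.valuation e < 1) :
    ∃ N₀ : ℕ, ∀ N ≥ N₀, e ^ N ∈ radK B := by
  have hint : IsIntegral B e := by
    apply isIntegral_of_forall_mem
    intro W hW
    by_cases h : W = ⊤
    · rw [h]; exact ValuationSubring.mem_top _
    · exact (W.valuation_le_one_iff e).mp (he W hW h).le
  have hfg : (Algebra.adjoin B {e}).toSubmodule.FG := hint.fg_adjoin_singleton
  obtain ⟨c, hc, hcI⟩ := FractionalIdeal.isFractional_of_fg (S := nonZeroDivisors B) hfg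
  have hc0 : c ≠ 0 := nonZeroDivisors.ne_zero hc
  have hcK : (c : K) ≠ 0 := fun h => hc0 (Subtype.ext h)
  have hcond : ∀ b ∈ Algebra.adjoin B {e}, (c : K) * b ∈ B := by
    intro b hb
    obtain ⟨b', hb'⟩ := hcI b hb
    have : (c : K) * b = (b' : K) := hb'.symm
    rw [this]; exact b'.2
  have hintS : Algebra.IsIntegral B (Algebra.adjoin B {e}) :=
    Algebra.IsIntegral.adjoin (by rintro x (rfl : x = e); exact hint)
  let e₁ : Algebra.adjoin B {e} := ⟨e, Algebra.self_mem_adjoin_singleton B e⟩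
  let c₁ : Algebra.adjoin B {e} := algebraMap B (Algebra.adjoin B {e}) c
  have hc₁ : c₁ ≠ 0 := by
    intro h
    exact hcK (congrArg Subtype.val h)
  have hrad : e₁ ∈ (Ideal.span {c₁}).radical := by
    rw [Ideal.radical_eq_sInf, Ideal.mem_sInf]
    rintro q ⟨hle, hprime⟩
    have hcq : c₁ ∈ q := hle (Ideal.subset_span rfl)
    have hqbot : q ≠ ⊥ := by
      intro h; rw [h] at hcq; exact hc₁ (by simpa using hcq)
    have hcomap : q.comap (algebraMap B (Algebra.adjoin B {e})) ≠ ⊥ :=
      fun h => hqbot (Ideal.eq_bot_of_comap_eq_bot h)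
    have hpc : (q.comap (algebraMap B (Algebra.adjoin B {e}))).IsPrime := Ideal.comap_isPrime _ _
    have hmaxc := hpc.isMaximal_of_ne_bot hcomap
    have hmax : q.IsMaximal := Ideal.isMaximal_of_isIntegral_of_isMaximal_comap q hmaxc
    by_contra heq
    obtain ⟨y, i, hi, hyi⟩ := hmax.exists_inv heq
    obtain ⟨V, hV1, hV2⟩ := exists_valuationSubring_of_ideal B _ q hmax.ne_top
    have hVB : B ≤ V.toSubring := fun b hb =>
      hV1 b (Subalgebra.algebraMap_mem (Algebra.adjoin B {e}) ⟨b, hb⟩)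
    have hVtop : V ≠ ⊤ := ne_top_of_val_lt_one V hcK (hV2 c₁ hcq)
    have h1 : V.valuation e < 1 := he V hVB hVtop
    have h2 : V.valuation ((y : K) * e) < 1 := val_mul_lt_one V (hV1 y y.2) h1
    have h3 : V.valuation (i : K) < 1 := hV2 i hi
    have h4 : (y : K) * e + (i : K) = 1 := congrArg Subtype.val hyi
    have h5 := V.valuation.map_add_lt h2 h3
    rw [h4, map_one] at h5
    exact lt_irrefl _ h5
  obtain ⟨N, hN⟩ := hrad
  rw [Ideal.mem_span_singleton'] at hN
  obtain ⟨b₁, hb₁⟩ := hN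
  have hb₁K : (b₁ : K) * (c : K) = e ^ N := by
    have := congrArg Subtype.val hb₁
    exact this
  have hpowB : ∀ M ≥ N, e ^ M ∈ B := by
    intro M hM
    obtain ⟨d, rfl⟩ := Nat.exists_eq_add_of_le hM
    have : e ^ (N + d) = (c : K) * ((b₁ : K) * e ^ d) := by
      rw [pow_add, ← hb₁K]; ring
    rw [this]
    apply hcond
    exact Subalgebra.mul_mem _ b₁.2 (Subalgebra.pow_mem _ (Algebra.self_mem_adjoin_singleton B e) d)
  refine ⟨N + 1, fun M hM => ⟨hpowB M (by omega), fun m hm => ?_⟩⟩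
  by_contra heq
  obtain ⟨y, i, hi, hyi⟩ := hm.exists_inv heq
  obtain ⟨V, hVB, hV2⟩ := exists_valuationSubring_of_ideal' B m hm.ne_top
  have hmbot : m ≠ ⊥ := by
    intro h
    apply hnf
    rw [Ring.isField_iff_maximal_bot, ← h]
    exact hm
  obtain ⟨a, ham, ha0⟩ := Submodule.exists_mem_ne_zero_of_ne_bot hmbot
  have hVtop : V ≠ ⊤ := ne_top_of_val_lt_one V (fun h => ha0 (Subtype.ext h)) (hV2 a ham)
  have h1 : V.valuation e < 1 := he V hVB hVtop
  have h1' : V.valuation (e ^ M) < 1 := by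
    obtain ⟨d, rfl⟩ : ∃ d, M = d + 1 := ⟨M - 1, by omega⟩
    rw [pow_succ]
    exact val_mul_lt_one V (V.toSubring.pow_mem ((V.valuation_le_one_iff e).mp h1.le) d) h1
  have h2 : V.valuation ((y : K) * e ^ M) < 1 := val_mul_lt_one V (hVB y.2) h1'
  have h3 : V.valuation (i : K) < 1 := hV2 i hi
  have h4 : (y : K) * e ^ M + (i : K) = 1 := congrArg Subtype.val hyi
  have h5 := V.valuation.map_add_lt h2 h3
  rw [h4, map_one] at h5
  exact lt_irrefl _ h5

/-! ### Finiteness of the set of valuation subrings over `B` -/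

theorem le_length_quotient_of_strictAnti {R M : Type*} [CommRing R] [AddCommGroup M] [Module R M]
    (S : Submodule R M) (n : ℕ) (P : Fin (n + 1) → Submodule R M) (hP : StrictAnti P)
    (hS : ∀ j, S ≤ P j) : (n : ℕ∞) ≤ Module.length R (M ⧸ S) := by
  let Q : Fin (n + 1) → Submodule R (M ⧸ S) := fun j => (P j.rev).map S.mkQ
  have hQ : StrictMono Q := by
    intro i j hij
    have h1 : P i.rev < P j.rev := hP (Fin.rev_lt_rev.mpr hij)
    refine lt_of_le_of_ne (Submodule.map_mono h1.le) ?_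
    intro heq
    have h2 := congrArg (Submodule.comap S.mkQ) heq
    rw [Submodule.comap_map_mkQ, Submodule.comap_map_mkQ, sup_eq_right.mpr (hS _),
      sup_eq_right.mpr (hS _)] at h2
    exact h1.ne h2
  have h1 := Order.LTSeries.length_le_krullDim (LTSeries.mk n Q hQ)
  rw [← Module.coe_length] at h1
  exact_mod_cast h1

theorem good_of_dvr (W : ValuationSubring K) [IsDiscreteValuationRing W] : Good W.toSubring where
  frac := inferInstanceAs (IsFractionRing W K)
  dim := inferInstanceAs (Ring.KrullDimLE 1 W)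
  nf := IsDiscreteValuationRing.not_isField W
  sl := inferInstanceAs (Finite (MaximalSpectrum W))

theorem val_lt_one_of_mem_radK_self (W : ValuationSubring K) {k : K}
    (hk : k ∈ radK W.toSubring) : W.valuation k < 1 := by
  obtain ⟨h, hm⟩ := hk
  exact (W.valuation_lt_one_iff ⟨k, h⟩).mp
    (hm (IsLocalRing.maximalIdeal W) (IsLocalRing.maximalIdeal.isMaximal W))

theorem not_le_of_ne (B : Subring K) [IsFractionRing B K] [IsNoetherianRing B]
    [Ring.KrullDimLE 1 B] {W W' : ValuationSubring K} (hW : B ≤ W.toSubring ∧ W ≠ ⊤)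
    (hW' : B ≤ W'.toSubring ∧ W' ≠ ⊤) (hne : W ≠ W') : ¬ W ≤ W' := by
  intro hle
  have := isDVR_of_le B W hW.1 hW.2
  exact hne (ValuationSubring.eq_of_le_of_ne_top _ hle hW'.2)

/-- The number of nontrivial valuation subrings over `B` is bounded by a length. -/
theorem length_le_of_nodup (B : Subring K) [IsFractionRing B K] [IsNoetherianRing B]
    [Ring.KrullDimLE 1 B] (s : B) (hs0 : s ≠ 0) (hs : (s : K) ∈ radK B)
    (l : List (ValuationSubring K)) (hnd : l.Nodup)
    (hmem : ∀ W ∈ l, B ≤ W.toSubring ∧ W ≠ ⊤) :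
    (l.length : ℕ∞) ≤ Module.length B (B ⧸ Ideal.span {s}) := by
  have hdvr : ∀ W ∈ l, IsDiscreteValuationRing W :=
    fun W hW => isDVR_of_le B W (hmem W hW).1 (hmem W hW).2
  have hinc : ∀ W ∈ l, ∀ W' ∈ l, W ≠ W' → ¬ W ≤ W' :=
    fun W hW W' hW' hne => not_le_of_ne B (hmem W hW) (hmem W' hW') hne
  let N : Submodule B K :=
    { carrier := {k | ∀ W ∈ l, k ∈ W}
      add_mem' := fun ha hb W hW => W.add_mem _ _ (ha W hW) (hb W hW)
      zero_mem' := fun W _ => W.zero_mem
      smul_mem' := fun b k hk W hW => by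
        rw [Algebra.smul_def]
        exact W.mul_mem _ _ ((hmem W hW).1 b.2) (hk W hW) }
  let P : Fin (l.length + 1) → Submodule B N := fun j =>
    { carrier := {m | ∀ i : Fin l.length, i.val < j.val → (l.get i).valuation (m : K) < 1}
      add_mem' := fun ha hb i hi => Valuation.map_add_lt _ (ha i hi) (hb i hi)
      zero_mem' := fun i _ => by simp
      smul_mem' := fun b m hm i hi => by
        show (l.get i).valuation ((b • m : N) : K) < 1
        rw [Submodule.coe_smul, Algebra.smul_def]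
        exact val_mul_lt_one _ ((hmem _ (List.get_mem l i)).1 b.2) (hm i hi) }
  have hS : ∀ j, Groth.Agent.Lib.KrullAkizuki.xsub s N ≤ P j := by
    intro j m hm i _
    rw [Groth.Agent.Lib.KrullAkizuki.mem_xsub] at hm
    obtain ⟨m', rfl⟩ := hm
    show (l.get i).valuation ((s • m' : N) : K) < 1
    rw [Submodule.coe_smul, Algebra.smul_def, mul_comm]
    have hWi := hmem _ (List.get_mem l i)
    exact val_mul_lt_one _ (m'.2 _ (List.get_mem l i))
      (val_lt_one_of_mem_radK B _ hWi.1 hWi.2 hs)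
  have hanti : StrictAnti P := by
    rw [Fin.strictAnti_iff_succ_lt]
    intro i
    have hle : P i.succ ≤ P i.castSucc := by
      intro m hm i' hi'
      exact hm i' (lt_trans hi' (by simp))
    refine lt_of_le_of_ne hle ?_
    -- separating element from the approximation theorem
    have hWi := hmem _ (List.get_mem l i)
    have hdi : IsDiscreteValuationRing (l.get i) := hdvr _ (List.get_mem l i)
    have hmem_er : ∀ W ∈ l.eraseIdx i, W ∈ l ∧ W ≠ l.get i := by
      intro W hW
      obtain ⟨i', hi', hne, rfl⟩ := List.mem_eraseIdx_iff_getElem.mp hW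
      refine ⟨List.getElem_mem hi', fun heq => hne ?_⟩
      exact (hnd.getElem_inj_iff).mp heq
    have hinv := inv_of_list (good_of_dvr (l.get i)) (l.eraseIdx i)
      (fun W hW => hdvr W (hmem_er W hW).1)
      (fun W hW hle => hinc _ (List.get_mem l i) W (hmem_er W hW).1 (hmem_er W hW).2.symm hle)
      ((hnd.sublist (List.eraseIdx_sublist l i)).imp_of_mem
        (fun {a b} ha hb hab => ⟨hinc a (hmem_er a ha).1 b (hmem_er b hb).1 hab,
          hinc b (hmem_er b hb).1 a (hmem_er a ha).1 (Ne.symm hab)⟩))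
    obtain ⟨e, heA, he1, hel⟩ := hinv.e_ex
    have hei : (l.get i).valuation e = 1 := by
      have := Valuation.map_one_sub_of_lt _ (val_lt_one_of_mem_radK_self _ he1)
      simpa using this
    have heN : e ∈ N := by
      intro W hW
      by_cases hWe : W = l.get i
      · rw [hWe]; exact heA
      · have : W ∈ l.eraseIdx i := by
          obtain ⟨i', hi', rfl⟩ := List.mem_iff_getElem.mp hW
          refine List.mem_eraseIdx_iff_getElem.mpr ⟨i', hi', ?_, rfl⟩
          rintro rfl
          exact hWe rfl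
        exact (W.valuation_le_one_iff e).mp (hel W this).le
    intro heq
    have h1 : (⟨e, heN⟩ : N) ∈ P i.castSucc := by
      intro i' hi'
      have hne : i'.val ≠ i.val := ne_of_lt (by simpa using hi')
      apply hel
      exact List.mem_eraseIdx_iff_getElem.mpr ⟨i'.val, i'.2, hne, rfl⟩
    rw [← heq] at h1
    have h2 := h1 i (by simp)
    rw [hei] at h2
    exact lt_irrefl _ h2
  have h1 := le_length_quotient_of_strictAnti _ l.length P hanti hS
  exact le_trans h1 (Groth.Agent.Lib.KrullAkizuki.length_xq_rankone s hs0 N)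

theorem finite_valuationSubrings (B : Subring K) [IsFractionRing B K] [IsNoetherianRing B]
    (hB : Good B) : {W : ValuationSubring K | B ≤ W.toSubring ∧ W ≠ ⊤}.Finite := by
  have := hB.dim
  obtain ⟨s, hs0, hs⟩ := hB.exists_ne_zero
  have hs'0 : (⟨s, hs.1⟩ : B) ≠ 0 := fun h => hs0 (congrArg Subtype.val h)
  obtain ⟨L, hL⟩ := ENat.ne_top_iff_exists.mp
    (Ring.ord_ne_top (R := B) (mem_nonZeroDivisors_of_ne_zero hs'0))
  rw [Ring.ord] at hL
  by_contra hinf
  obtain ⟨T, hT, hcard⟩ := (Set.not_finite.mp hinf).exists_subset_card_eq (L + 1)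
  have h1 := length_le_of_nodup B ⟨s, hs.1⟩ hs'0 hs T.toList T.nodup_toList
    (fun W hW => hT (Finset.mem_toList.mp hW))
  rw [Finset.length_toList, hcard, ← hL] at h1
  have : ((L + 1 : ℕ) : ℕ∞) ≤ (L : ℕ∞) := h1
  rw [Nat.cast_le] at this
  omega

/-! ### The partition of unity for two semilocal one-dimensional domains -/

/-- If `A`, `B` are semilocal one-dimensional Noetherian domains with fraction field `K`
generating `K`, then `1 ∈ rad A + rad B`. -/
theorem exists_radK_add_radK (A B : Subring K) [IsFractionRing B K] [IsNoetherianRing B]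
    (hA : Good A) (hB : Good B) (hgen : A ⊔ B = ⊤) :
    ∃ y z : K, y + z = 1 ∧ y ∈ radK B ∧ z ∈ radK A := by
  have := hB.dim
  have hfin := finite_valuationSubrings B hB
  have hl_mem : ∀ W, W ∈ hfin.toFinset.toList ↔ (B ≤ W.toSubring ∧ W ≠ ⊤) := by
    intro W
    rw [Finset.mem_toList, Set.Finite.mem_toFinset]
    rfl
  have hdvr : ∀ W ∈ hfin.toFinset.toList, IsDiscreteValuationRing W :=
    fun W hW => isDVR_of_le B W ((hl_mem W).mp hW).1 ((hl_mem W).mp hW).2
  have hnA : ∀ W ∈ hfin.toFinset.toList, ¬ A ≤ W.toSubring := by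
    intro W hW hle
    apply ((hl_mem W).mp hW).2
    have h1 : A ⊔ B ≤ W.toSubring := sup_le hle ((hl_mem W).mp hW).1
    rw [hgen] at h1
    rw [eq_top_iff]
    intro k _
    exact h1 (Subring.mem_top k)
  have hpw : hfin.toFinset.toList.Pairwise (fun W W' => ¬ W ≤ W' ∧ ¬ W' ≤ W) :=
    (Finset.nodup_toList _).imp_of_mem (fun {a b} ha hb hab =>
      ⟨not_le_of_ne B ((hl_mem a).mp ha) ((hl_mem b).mp hb) hab,
        not_le_of_ne B ((hl_mem b).mp hb) ((hl_mem a).mp ha) (Ne.symm hab)⟩)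
  obtain ⟨e, heA, he1, hel⟩ := (inv_of_list hA _ hdvr hnA hpw).e_ex
  obtain ⟨N₀, hN⟩ := exists_pow_mem_radK B hB.nf e
    (fun W hW hWt => hel W ((hl_mem W).mpr ⟨hW, hWt⟩))
  exact ⟨e ^ N₀, 1 - e ^ N₀, by ring, hN N₀ le_rfl, one_sub_pow_mem_radK A heA he1 N₀⟩

/-- The hypotheses of `glue` from `1 ∈ rad A + rad B`. -/
theorem glue_hyps_of_radK {A B : Subring K} (hA : Good A) (hB : Good B) {y z : K}
    (hyz : y + z = 1) (hy : y ∈ radK B) (hz : z ∈ radK A) :
    y ≠ 0 ∧ z ≠ 0 ∧ y ∈ A ∧ y ∈ B ∧ z ∈ A ∧ z ∈ B ∧ y⁻¹ ∈ A ∧ z⁻¹ ∈ B ∧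
      (∀ k : K, ∃ N : ℕ, k * y ^ N ∈ B) ∧ (∀ k : K, ∃ N : ℕ, k * z ^ N ∈ A) := by
  have hy' : y = 1 + (-z) := by rw [← hyz]; ring
  have hz' : z = 1 + (-y) := by rw [← hyz]; ring
  have h1 := one_add_inv_mem A (neg_mem_radK A hz)
  have h2 := one_add_inv_mem B (neg_mem_radK B hy)
  rw [← hy'] at h1
  rw [← hz'] at h2
  refine ⟨h1.1, h2.1, ?_, hy.1, hz.1, ?_, h1.2, h2.2, ?_, ?_⟩
  · rw [hy']; exact A.add_mem A.one_mem (A.neg_mem hz.1)
  · rw [hz']; exact B.add_mem B.one_mem (B.neg_mem hy.1)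
  · intro k
    obtain ⟨N, hN⟩ := hB.absorb hy k
    exact ⟨N, hN N le_rfl⟩
  · intro k
    obtain ⟨N, hN⟩ := hA.absorb hz k
    exact ⟨N, hN N le_rfl⟩

end Groth.Agent.Lib.GlueDimOne
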