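import Groth.Agent.Lib.H78Atlas
import Groth.Agent.Lib.H90Invertible

/-!
# helper42: gluing an invertible module from a cocycle (namespace `Groth.Agent.Lib.InvGlue42`)

Given an open cover `U i` of a scheme `X` and functions `η i j ∈ Γ(X, U i ⊓ U j)` satisfying the cocycle
identity `η i k = η i j * η j k` on triple intersections and `η i i = 1`, we construct *directly* (as a presheaf
of modules, checking the sheaf axiom by hand) the `O_X`-module `glue U η` whose sections over `V` are the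
families `t i ∈ Γ(X, V ⊓ U i)` with `t j = t i * η i j` on `V ⊓ U i ⊓ U j`, and the sections
`gen U η hc i ∈ Γ(glue U η, U i)` (`gen i = (η i k)_k`) which are free generators over `U i` and satisfy
`gen i = η i j • gen j` on `U i ⊓ U j`.

Main results: `isGen_gen`, `gen_transition`, `isInvertible_glue`.
-/

set_option autoImplicit false
universe u
open CategoryTheory AlgebraicGeometry TopologicalSpace Opposite
open Groth.Agent.Lib.H90Invertible Groth.Agent.Lib.H78TensorGen Groth.Agent.Lib.H78Atlas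

namespace Groth.Agent.Lib.InvGlue42

variable {X : Scheme.{u}}

lemma rf_add {V W : X.Opens} (h : W ≤ V) (a b : Γ(X, V)) : rf h (a + b) = rf h a + rf h b := map_add _ _ _
lemma rf_mul {V W : X.Opens} (h : W ≤ V) (a b : Γ(X, V)) : rf h (a * b) = rf h a * rf h b := map_mul _ _ _
lemma rf_zero {V W : X.Opens} (h : W ≤ V) : rf h (0 : Γ(X, V)) = 0 := map_zero _
lemma rf_one {V W : X.Opens} (h : W ≤ V) : rf h (1 : Γ(X, V)) = 1 := map_one _
lemma rf_neg {V W : X.Opens} (h : W ≤ V) (a : Γ(X, V)) : rf h (-a) = -rf h a := map_neg _ _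

/-- functions agreeing locally are equal -/
theorem rf_ext {A : Type*} (W : A → X.Opens) (V : X.Opens) (hW : ∀ a, W a ≤ V) (hcov : V ≤ ⨆ a, W a)
    (g g' : Γ(X, V)) (h : ∀ a, rf (hW a) g = rf (hW a) g') : g = g' :=
  X.sheaf.eq_of_locally_eq' W V (fun a => homOfLE (hW a)) hcov g g' h

/-- gluing functions -/
theorem rf_glue {A : Type*} (W : A → X.Opens) (V : X.Opens) (hW : ∀ a, W a ≤ V) (hcov : V ≤ ⨆ a, W a)
    (f : ∀ a, Γ(X, W a))
    (hf : ∀ a b, rf (inf_le_left : W a ⊓ W b ≤ W a) (f a) = rf (inf_le_right : W a ⊓ W b ≤ W b) (f b)) :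
    ∃ g : Γ(X, V), ∀ a, rf (hW a) g = f a := by
  obtain ⟨g, hg, -⟩ := X.sheaf.existsUnique_gluing' W V (fun a => homOfLE (hW a)) hcov f hf
  exact ⟨g, hg⟩

/-- an isomorphism-type restriction is injective -/
lemma rf_injective_of_le {V W : X.Opens} (h : W ≤ V) (h' : V ≤ W) : Function.Injective (rf h : Γ(X, V) → Γ(X, W)) := by
  intro a b hab
  have := congrArg (rf h') hab
  rwa [rf_rf, rf_rf, rf_self, rf_self] at this

variable {ι : Type u} (U : ι → X.Opens) (η : ∀ i j, Γ(X, U i ⊓ U j))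

/-- the group of sections of the glued module over `V` -/
def SecSet (V : X.Opens) : AddSubgroup (∀ i, Γ(X, V ⊓ U i)) where
  carrier := {t | ∀ i j,
    rf (inf_le_inf_left V inf_le_right : V ⊓ (U i ⊓ U j) ≤ V ⊓ U j) (t j) =
      rf (inf_le_inf_left V inf_le_left : V ⊓ (U i ⊓ U j) ≤ V ⊓ U i) (t i) *
        rf (inf_le_right : V ⊓ (U i ⊓ U j) ≤ U i ⊓ U j) (η i j)}
  add_mem' := fun {s t} hs ht i j => by
    change rf _ (s j + t j) = rf _ (s i + t i) * _
    rw [rf_add, rf_add, hs i j, ht i j, add_mul]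
  zero_mem' := fun i j => by
    change rf _ (0 : Γ(X, V ⊓ U j)) = rf _ (0 : Γ(X, V ⊓ U i)) * _
    rw [rf_zero, rf_zero, zero_mul]
  neg_mem' := fun {t} ht i j => by
    change rf _ (-(t j)) = rf _ (-(t i)) * _
    rw [rf_neg, rf_neg, ht i j, neg_mul]

variable {U η}

lemma compat {V : X.Opens} (t : SecSet U η V) (i j : ι) :
    rf (inf_le_inf_left V inf_le_right : V ⊓ (U i ⊓ U j) ≤ V ⊓ U j) (t.1 j) =
      rf (inf_le_inf_left V inf_le_left : V ⊓ (U i ⊓ U j) ≤ V ⊓ U i) (t.1 i) *
        rf (inf_le_right : V ⊓ (U i ⊓ U j) ≤ U i ⊓ U j) (η i j) := t.2 i j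

/-- general form of the compatibility, on any open inside the triple intersection -/
lemma compat' {V : X.Opens} (t : SecSet U η V) (i j : ι) {W : X.Opens} (hj : W ≤ V ⊓ U j)
    (hi : W ≤ V ⊓ U i) (hij : W ≤ U i ⊓ U j) :
    rf hj (t.1 j) = rf hi (t.1 i) * rf hij (η i j) := by
  have hW : W ≤ V ⊓ (U i ⊓ U j) := le_inf (hj.trans inf_le_left) hij
  have := congrArg (rf hW) (compat t i j)
  rwa [rf_mul, rf_rf, rf_rf, rf_rf] at this

@[ext] lemma SecSet.ext' {V : X.Opens} {s t : SecSet U η V} (h : ∀ i, s.1 i = t.1 i) : s = t :=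
  Subtype.ext (funext h)

noncomputable instance (V : X.Opens) : Module Γ(X, V) (SecSet U η V) where
  smul r t := ⟨fun i => rf (inf_le_left : V ⊓ U i ≤ V) r * t.1 i, fun i j => by
    change rf _ (rf _ r * t.1 j) = rf _ (rf _ r * t.1 i) * _
    rw [rf_mul, rf_mul, rf_rf, rf_rf, compat t i j, mul_assoc]⟩
  one_smul t := SecSet.ext' fun i => by
    change rf _ 1 * t.1 i = t.1 i
    rw [rf_one, one_mul]
  mul_smul r r' t := SecSet.ext' fun i => by
    change rf _ (r * r') * t.1 i = rf _ r * (rf _ r' * t.1 i)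
    rw [rf_mul, mul_assoc]
  smul_zero r := SecSet.ext' fun i => by
    change rf _ r * (0 : Γ(X, V ⊓ U i)) = 0
    rw [mul_zero]
  smul_add r s t := SecSet.ext' fun i => by
    change rf _ r * (s.1 i + t.1 i) = rf _ r * s.1 i + rf _ r * t.1 i
    rw [mul_add]
  add_smul r r' t := SecSet.ext' fun i => by
    change rf _ (r + r') * t.1 i = rf _ r * t.1 i + rf _ r' * t.1 i
    rw [rf_add, add_mul]
  zero_smul t := SecSet.ext' fun i => by
    change rf _ 0 * t.1 i = 0
    rw [rf_zero, zero_mul]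

lemma smul_val {V : X.Opens} (r : Γ(X, V)) (t : SecSet U η V) (i : ι) :
    (r • t).1 i = rf (inf_le_left : V ⊓ U i ≤ V) r * t.1 i := rfl

variable (U η)

/-- restriction of sections -/
noncomputable def resHom {V W : X.Opens} (h : W ≤ V) : SecSet U η V →+ SecSet U η W where
  toFun t := ⟨fun i => rf (inf_le_inf_right (U i) h) (t.1 i), fun i j => by
    change rf _ (rf _ (t.1 j)) = rf _ (rf _ (t.1 i)) * _
    rw [rf_rf, rf_rf]
    exact compat' t i j _ _ _⟩
  map_zero' := SecSet.ext' fun i => rf_zero _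
  map_add' s t := SecSet.ext' fun i => rf_add _ _ _

lemma resHom_val {V W : X.Opens} (h : W ≤ V) (t : SecSet U η V) (i : ι) :
    (resHom U η h t).1 i = rf (inf_le_inf_right (U i) h) (t.1 i) := rfl

/-- the underlying presheaf of abelian groups -/
noncomputable def preAb : TopCat.Presheaf Ab X where
  obj V := AddCommGrpCat.of (SecSet U η V.unop)
  map f := AddCommGrpCat.ofHom (resHom U η (leOfHom f.unop))
  map_id V := by
    ext t i
    exact rf_self _
  map_comp f g := by
    ext t i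
    exact (rf_rf _ _ _).symm

noncomputable instance (V : (Opens X)ᵒᵖ) : Module (X.ringCatSheaf.obj.obj V) ((preAb U η).obj V) :=
  inferInstanceAs (Module Γ(X, V.unop) (SecSet U η V.unop))

lemma preAb_map_smul ⦃V W : (Opens X)ᵒᵖ⦄ (f : V ⟶ W) (r : X.ringCatSheaf.obj.obj V)
    (m : (preAb U η).obj V) :
    (preAb U η).map f (r • m) = X.ringCatSheaf.obj.map f r • (preAb U η).map f m := by
  apply SecSet.ext'
  intro i
  change rf (inf_le_inf_right (U i) (leOfHom f.unop))
      (rf (inf_le_left : V.unop ⊓ U i ≤ V.unop) r * (show SecSet U η V.unop from m).1 i) =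
    rf (inf_le_left : W.unop ⊓ U i ≤ W.unop) (rf (leOfHom f.unop) r) *
      rf (inf_le_inf_right (U i) (leOfHom f.unop)) ((show SecSet U η V.unop from m).1 i)
  rw [rf_mul, rf_rf, rf_rf]

/-- the presheaf of modules -/
noncomputable def prePM : PresheafOfModules X.ringCatSheaf.obj :=
  PresheafOfModules.ofPresheaf (preAb U η) (preAb_map_smul U η)

theorem isSheaf_preAb : TopCat.Presheaf.IsSheaf (preAb U η) := by
  rw [TopCat.Presheaf.isSheaf_iff_isSheafUniqueGluing]
  intro A W sf hsf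
  let sf' : ∀ a, SecSet U η (W a) := sf
  have hsf' : ∀ a b, resHom U η (inf_le_left : W a ⊓ W b ≤ W a) (sf' a) =
      resHom U η (inf_le_right : W a ⊓ W b ≤ W b) (sf' b) := fun a b => hsf a b
  have hcomp : ∀ a b i, rf (inf_le_inf_right (U i) (inf_le_left : W a ⊓ W b ≤ W a)) ((sf' a).1 i) =
      rf (inf_le_inf_right (U i) (inf_le_right : W a ⊓ W b ≤ W b)) ((sf' b).1 i) := fun a b i =>
    congrArg (fun t : SecSet U η (W a ⊓ W b) => t.1 i) (hsf' a b)
  have key : ∀ i, ∃ g : Γ(X, iSup W ⊓ U i),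
      ∀ a, rf (inf_le_inf_right (U i) (le_iSup W a)) g = (sf' a).1 i := fun i =>
    rf_glue (fun a => W a ⊓ U i) (iSup W ⊓ U i) (fun a => inf_le_inf_right _ (le_iSup W a))
      (iSup_inf_eq W (U i)).le (fun a => (sf' a).1 i) (fun a b => by
        have hle : (W a ⊓ U i) ⊓ (W b ⊓ U i) ≤ (W a ⊓ W b) ⊓ U i :=
          le_inf (le_inf (inf_le_left.trans inf_le_left) (inf_le_right.trans inf_le_left))
            (inf_le_left.trans inf_le_right)
        have := congrArg (rf hle) (hcomp a b i)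
        rwa [rf_rf, rf_rf] at this)
  choose g hg using key
  have hmem : g ∈ SecSet U η (iSup W) := fun i j => by
    apply rf_ext (fun a => W a ⊓ (U i ⊓ U j)) (iSup W ⊓ (U i ⊓ U j))
      (fun a => inf_le_inf_right _ (le_iSup W a)) (iSup_inf_eq W (U i ⊓ U j)).le
    intro a
    rw [rf_mul, rf_rf, rf_rf, rf_rf]
    have e1 : rf ((inf_le_inf_right (U i ⊓ U j) (le_iSup W a)).trans
          (inf_le_inf_left (iSup W) inf_le_right)) (g j) =
        rf (inf_le_inf_left (W a) inf_le_right : W a ⊓ (U i ⊓ U j) ≤ W a ⊓ U j) ((sf' a).1 j) := by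
      rw [← hg j a, rf_rf]
    have e2 : rf ((inf_le_inf_right (U i ⊓ U j) (le_iSup W a)).trans
          (inf_le_inf_left (iSup W) inf_le_left)) (g i) =
        rf (inf_le_inf_left (W a) inf_le_left : W a ⊓ (U i ⊓ U j) ≤ W a ⊓ U i) ((sf' a).1 i) := by
      rw [← hg i a, rf_rf]
    rw [e1, e2]
    exact compat' (sf' a) i j _ _ _
  refine ⟨(⟨g, hmem⟩ : SecSet U η (iSup W)), fun a => SecSet.ext' fun i => hg i a, fun t ht => ?_⟩
  let t' : SecSet U η (iSup W) := t
  have ht' : ∀ a, resHom U η (le_iSup W a) t' = sf' a := fun a => ht a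
  refine SecSet.ext' (s := t') fun i => ?_
  apply rf_ext (fun a => W a ⊓ U i) (iSup W ⊓ U i) (fun a => inf_le_inf_right _ (le_iSup W a))
    (iSup_inf_eq W (U i)).le
  intro a
  rw [hg i a]
  exact congrArg (fun s : SecSet U η (W a) => s.1 i) (ht' a)

/-- the glued module -/
noncomputable def glue : X.Modules := ⟨prePM U η, isSheaf_preAb U η⟩

section Gen

variable {U η}
variable (hc : ∀ i j k,
    rf (inf_le_inf_right (U k) inf_le_left : U i ⊓ U j ⊓ U k ≤ U i ⊓ U k) (η i k) =
      rf (inf_le_left : U i ⊓ U j ⊓ U k ≤ U i ⊓ U j) (η i j) *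
        rf (inf_le_inf_right (U k) inf_le_right : U i ⊓ U j ⊓ U k ≤ U j ⊓ U k) (η j k))

include hc in
/-- general form of the cocycle identity -/
lemma cocycle' (i j k : ι) {W : X.Opens} (hik : W ≤ U i ⊓ U k) (hij : W ≤ U i ⊓ U j)
    (hjk : W ≤ U j ⊓ U k) : rf hik (η i k) = rf hij (η i j) * rf hjk (η j k) := by
  have hW : W ≤ U i ⊓ U j ⊓ U k := le_inf hij (hik.trans inf_le_right)
  have := congrArg (rf hW) (hc i j k)
  rwa [rf_mul, rf_rf, rf_rf, rf_rf] at this

include hc in
/-- a unit cocycle is normalised -/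
lemma eta_self (hu : ∀ i, IsUnit (η i i)) (i : ι) : η i i = 1 := by
  have h := cocycle' hc i i i (le_refl (U i ⊓ U i)) le_rfl le_rfl
  rw [rf_self] at h
  obtain ⟨v, hv⟩ := hu i
  rw [← hv] at h ⊢
  have : (v : Γ(X, U i ⊓ U i)) * 1 = v * v := by rw [mul_one]; exact h
  exact (mul_left_cancel₀' (v := v) this).symm
where
  mul_left_cancel₀' {R : Type u} [CommRing R] {v : Rˣ} {a b : R} (h : (v : R) * a = v * b) : a = b :=
    v.mul_right_inj.mp h

/-- the local generator over `U i` -/
noncomputable def genSec (i : ι) : SecSet U η (U i) :=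
  ⟨fun k => η i k, fun j k => cocycle' hc i j k _ _ _⟩

/-- the local generator over `U i`, as a section of the glued module -/
noncomputable def gen (i : ι) : Γ(glue U η, U i) := genSec hc i

lemma rs_val {V W : X.Opens} (h : W ≤ V) (t : Γ(glue U η, V)) (k : ι) :
    (show SecSet U η W from rs (glue U η) h t).1 k =
      rf (inf_le_inf_right (U k) h) ((show SecSet U η V from t).1 k) := rfl

lemma smul_val' {V : X.Opens} (r : Γ(X, V)) (t : Γ(glue U η, V)) (k : ι) :
    (show SecSet U η V from r • t).1 k =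
      rf (inf_le_left : V ⊓ U k ≤ V) r * (show SecSet U η V from t).1 k := rfl

lemma sec_ext {V : X.Opens} {s t : Γ(glue U η, V)}
    (h : ∀ k, (show SecSet U η V from s).1 k = (show SecSet U η V from t).1 k) : s = t :=
  SecSet.ext' (s := (show SecSet U η V from s)) (t := (show SecSet U η V from t)) h

theorem isGen_gen (h1 : ∀ i, η i i = 1) (i : ι) : IsGen (glue U η) (U i) (gen hc i) := by
  intro W hW
  constructor
  · intro a b hab
    have h := congrArg (fun t : Γ(glue U η, W) => (show SecSet U η W from t).1 i) hab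
    change rf (inf_le_left : W ⊓ U i ≤ W) a * rf (inf_le_inf_right (U i) hW) (η i i) =
      rf (inf_le_left : W ⊓ U i ≤ W) b * rf (inf_le_inf_right (U i) hW) (η i i) at h
    rw [h1 i, rf_one, mul_one, mul_one] at h
    exact rf_injective_of_le _ (le_inf le_rfl hW) h
  · intro t
    let t' : SecSet U η W := t
    refine ⟨rf (le_inf le_rfl hW : W ≤ W ⊓ U i) (t'.1 i), sec_ext fun k => ?_⟩
    change rf (inf_le_left : W ⊓ U k ≤ W) (rf (le_inf le_rfl hW : W ≤ W ⊓ U i) (t'.1 i)) *
      rf (inf_le_inf_right (U k) hW) (η i k) = t'.1 k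
    rw [rf_rf]
    have := compat' t' i k (W := W ⊓ U k) le_rfl (le_inf inf_le_left (inf_le_left.trans hW))
      (inf_le_inf_right (U k) hW)
    rw [rf_self] at this
    exact this.symm

theorem gen_transition (i j : ι) :
    rs (glue U η) (inf_le_left : U i ⊓ U j ≤ U i) (gen hc i) =
      η i j • rs (glue U η) (inf_le_right : U i ⊓ U j ≤ U j) (gen hc j) :=
  sec_ext fun k => by
    change rf (inf_le_inf_right (U k) inf_le_left) (η i k) =
      rf (inf_le_left : U i ⊓ U j ⊓ U k ≤ U i ⊓ U j) (η i j) *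
        rf (inf_le_inf_right (U k) inf_le_right) (η j k)
    exact hc i j k

include hc in
theorem isInvertible_glue (hU : ⨆ i, U i = ⊤) (h1 : ∀ i, η i i = 1) :
    PicF.IsInvertible (glue U η) := by
  rw [isInvertible_iff_exists_isGen]
  intro x
  have hx : x ∈ ⨆ i, U i := by rw [hU]; trivial
  obtain ⟨i, hi⟩ := Opens.mem_iSup.mp hx
  exact ⟨U i, hi, gen hc i, isGen_gen hc h1 i⟩

end Gen

end Groth.Agent.Lib.InvGlue42
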