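import Mathlib
import Groth.Agent.Lib.InvGlue42
import Groth.Agent.Lib.ModIsoGlueH3

set_option autoImplicit false
universe u

namespace Groth.Agent.Lib.GlueExt82


open CategoryTheory AlgebraicGeometry TopologicalSpace Opposite
open Groth.Agent.Lib.H90Invertible Groth.Agent.Lib.H78TensorGen Groth.Agent.Lib.H78Atlas
open Groth.Agent.Lib.H78SecCoord Groth.Agent.Lib.InvGlue42

variable {X : Scheme.{u}} (U : X.Opens)

/-- a function on an open of the open subscheme `U`, viewed as a function on `X` -/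
def toX {V' : (U : Scheme.{u}).Opens} (a : Γ((U : Scheme.{u}), V')) : Γ(X, U.ι ''ᵁ V') := a

lemma toX_rf {V' W' : (U : Scheme.{u}).Opens} (h : W' ≤ V') (a : Γ((U : Scheme.{u}), V')) :
    toX U (rf h a) = rf (U.ι.image_mono h) (toX U a) := rfl

lemma toX_mul {V' : (U : Scheme.{u}).Opens} (a b : Γ((U : Scheme.{u}), V')) :
    toX U (a * b) = toX U a * toX U b := rfl

lemma toX_one {V' : (U : Scheme.{u}).Opens} : toX U (1 : Γ((U : Scheme.{u}), V')) = 1 := rfl

lemma toX_injective {V' : (U : Scheme.{u}).Opens} : Function.Injective (toX U (V' := V')) := fun _ _ h => h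

variable (L' : X.Modules)

/-- sections of the restricted module are sections of the module over the image -/
def secX {V' : (U : Scheme.{u}).Opens} (s : Γ(L'.restrict U.ι, V')) : Γ(L', U.ι ''ᵁ V') := s

lemma secX_rs {V' W' : (U : Scheme.{u}).Opens} (h : W' ≤ V') (s : Γ(L'.restrict U.ι, V')) :
    secX U L' (rs (L'.restrict U.ι) h s) = rs L' (U.ι.image_mono h) (secX U L' s) := rfl

lemma secX_smul {V' : (U : Scheme.{u}).Opens} (a : Γ((U : Scheme.{u}), V')) (s : Γ(L'.restrict U.ι, V')) :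
    secX U L' (a • s) = toX U a • secX U L' s := by
  rw [restrict_smul, Scheme.Opens.ι_appIso]
  rfl

lemma secX_injective {V' : (U : Scheme.{u}).Opens} : Function.Injective (secX U L' (V' := V')) :=
  fun _ _ h => h

variable {U}

/-- cocycle identity for the transition functions of an atlas -/
theorem Atlas.trans_cocycle {Y : Scheme.{u}} {P : Y.Modules} {ι : Type*} {V : ι → Y.Opens}
    (A : Atlas P V) (i j k : ι) {T : Y.Opens} (hki : T ≤ V k ⊓ V i) (hji : T ≤ V j ⊓ V i)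
    (hkj : T ≤ V k ⊓ V j) :
    rf hki (A.trans k i) = rf hji (A.trans j i) * rf hkj (A.trans k j) := by
  have hk : T ≤ V k := hki.trans inf_le_left
  have hi : T ≤ V i := hki.trans inf_le_right
  have hj : T ≤ V j := hji.trans inf_le_left
  have e1 := congrArg (rs P hki) (A.trans_spec k i)
  have e2 := congrArg (rs P hji) (A.trans_spec j i)
  have e3 := congrArg (rs P hkj) (A.trans_spec k j)
  rw [H78Atlas.rs_smul, rs_rs, rs_rs] at e1 e2 e3
  apply ((A.gen k).mono hk T le_rfl).1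
  change rf hki (A.trans k i) • rs P le_rfl (rs P hk (A.E k)) =
    (rf hji (A.trans j i) * rf hkj (A.trans k j)) • rs P le_rfl (rs P hk (A.E k))
  rw [rs_self, e1, mul_smul, e3, e2]

theorem Atlas.trans_self {Y : Scheme.{u}} {P : Y.Modules} {ι : Type*} {V : ι → Y.Opens}
    (A : Atlas P V) (i : ι) : A.trans i i = 1 := by
  symm
  apply A.trans_unique
  rw [one_smul]

variable (U)

theorem image_preimage_inf (Wa Wb : X.Opens) :
    U.ι ''ᵁ (U.ι ⁻¹ᵁ Wa ⊓ U.ι ⁻¹ᵁ Wb) = (Wb ⊓ Wa) ⊓ U := by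
  have : U.ι ⁻¹ᵁ Wa ⊓ U.ι ⁻¹ᵁ Wb = U.ι ⁻¹ᵁ (Wa ⊓ Wb) := rfl
  rw [this, Scheme.Hom.image_preimage_eq_opensRange_inf, Scheme.Opens.opensRange_ι, inf_comm,
    inf_comm Wa Wb]

/-- **Gluing an extension.** An invertible module `L` on the open subscheme `U` with generators
`e i` over `U ∩ W i` such that functions extend uniquely from `V ∩ U` to `V` for opens `V` inside
`W i ∩ W j` (`i ≠ j`) extends to a module on `X` having a generator over each `W i`. -/
theorem exists_extension (L : (U : Scheme.{u}).Modules) {ι : Type u} (W : ι → X.Opens)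
    (hcov : U ≤ ⨆ i, W i)
    (e : ∀ i, Γ(L, U.ι ⁻¹ᵁ W i)) (he : ∀ i, IsGen L (U.ι ⁻¹ᵁ W i) (e i))
    (hext : ∀ i j, i ≠ j → ∀ V : X.Opens, V ≤ W i ⊓ W j →
      Function.Bijective (X.presheaf.map (homOfLE (inf_le_left : V ⊓ U ≤ V)).op)) :
    ∃ L' : X.Modules, (∀ i, ∃ s : Γ(L', W i), IsGen L' (W i) s) ∧
      Nonempty (L'.restrict U.ι ≅ L) := by
  classical
  let V' : ι → (U : Scheme.{u}).Opens := fun i => U.ι ⁻¹ᵁ W i
  let A : Atlas L V' := ⟨e, he⟩
  have hO : ∀ a b, U.ι ''ᵁ (V' b ⊓ V' a) = (W a ⊓ W b) ⊓ U := fun a b => image_preimage_inf U _ _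
  have hle : ∀ a b, U.ι ''ᵁ (V' b ⊓ V' a) ≤ W a ⊓ W b := fun a b => (hO a b).le.trans inf_le_left
  have key : ∀ a b, a ≠ b → ∃ η : Γ(X, W a ⊓ W b), rf (hle a b) η = toX U (A.trans b a) := by
    intro a b hab
    obtain ⟨η, hη⟩ := (hext a b hab (W a ⊓ W b) le_rfl).2 (rf (hO a b).ge (toX U (A.trans b a)))
    refine ⟨η, ?_⟩
    apply rf_injective_of_le (hO a b).ge (hO a b).le
    rw [rf_rf]
    exact hη
  let η : ∀ a b, Γ(X, W a ⊓ W b) := fun a b => if h : a = b then 1 else (key a b h).choose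
  have h1 : ∀ i, η i i = 1 := fun i => by simp [η]
  have hη : ∀ a b, rf (hle a b) (η a b) = toX U (A.trans b a) := by
    intro a b
    by_cases hab : a = b
    · subst hab
      rw [h1, rf_one, Atlas.trans_self, toX_one]
    · have : η a b = (key a b hab).choose := by simp [η, hab]
      rw [this]
      exact (key a b hab).choose_spec
  have hc : ∀ i j k,
      rf (inf_le_inf_right (W k) inf_le_left : W i ⊓ W j ⊓ W k ≤ W i ⊓ W k) (η i k) =
        rf (inf_le_left : W i ⊓ W j ⊓ W k ≤ W i ⊓ W j) (η i j) *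
          rf (inf_le_inf_right (W k) inf_le_right : W i ⊓ W j ⊓ W k ≤ W j ⊓ W k) (η j k) := by
    intro i j k
    by_cases hij : i = j
    · subst hij
      rw [h1, rf_one, one_mul]
    · apply (hext i j hij (W i ⊓ W j ⊓ W k) inf_le_left).1
      change rf _ (rf _ (η i k)) = rf _ (rf _ (η i j) * rf _ (η j k))
      rw [rf_mul, rf_rf, rf_rf, rf_rf]
      -- the open of `U` lying over the triple intersection
      have hT : U.ι ''ᵁ (V' i ⊓ V' j ⊓ V' k) = (W i ⊓ W j ⊓ W k) ⊓ U := by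
        have : V' i ⊓ V' j ⊓ V' k = U.ι ⁻¹ᵁ (W i ⊓ W j ⊓ W k) := rfl
        rw [this, Scheme.Hom.image_preimage_eq_opensRange_inf, Scheme.Opens.opensRange_ι, inf_comm]
      have hki : V' i ⊓ V' j ⊓ V' k ≤ V' k ⊓ V' i := le_inf inf_le_right (inf_le_left.trans inf_le_left)
      have hji : V' i ⊓ V' j ⊓ V' k ≤ V' j ⊓ V' i :=
        le_inf (inf_le_left.trans inf_le_right) (inf_le_left.trans inf_le_left)
      have hkj : V' i ⊓ V' j ⊓ V' k ≤ V' k ⊓ V' j := le_inf inf_le_right (inf_le_left.trans inf_le_right)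
      have hcoc := congrArg (toX U) (Atlas.trans_cocycle A i j k hki hji hkj)
      rw [toX_mul, toX_rf, toX_rf, toX_rf, ← hη, ← hη, ← hη, rf_rf, rf_rf, rf_rf] at hcoc
      have hcoc2 := congrArg (rf hT.ge) hcoc
      rw [rf_mul, rf_rf, rf_rf, rf_rf] at hcoc2
      exact hcoc2
  refine ⟨glue W η, fun i => ⟨gen hc i, isGen_gen hc h1 i⟩, ?_⟩
  -- the isomorphism over `U`
  have hle' : ∀ i, U.ι ''ᵁ V' i ≤ W i := fun i => U.ι.image_preimage_le (W i)
  let t : ∀ i, Γ((glue W η).restrict U.ι, V' i) := fun i => rs (glue W η) (hle' i) (gen hc i)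
  have ht : ∀ i, IsGen ((glue W η).restrict U.ι) (V' i) (t i) := fun i =>
    (isGen_restrict_iff U.ι (glue W η) (V' i) _).mpr ((isGen_gen hc h1 i).mono (hle' i))
  have hUcov : ⨆ i, V' i = ⊤ := by
    rw [eq_top_iff]
    intro y _
    obtain ⟨i, hi⟩ := Opens.mem_iSup.mp (hcov y.2)
    exact Opens.mem_iSup.mpr ⟨i, hi⟩
  have htg : ∀ i j, rs ((glue W η).restrict U.ι) (inf_le_right : V' i ⊓ V' j ≤ V' j) (t j) =
      A.trans i j • rs ((glue W η).restrict U.ι) (inf_le_left : V' i ⊓ V' j ≤ V' i) (t i) := by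
    intro i j
    apply secX_injective U (glue W η)
    rw [secX_rs, secX_smul, secX_rs]
    change rs (glue W η) _ (rs (glue W η) (hle' j) (gen hc j)) =
      toX U (A.trans i j) • rs (glue W η) _ (rs (glue W η) (hle' i) (gen hc i))
    rw [rs_rs, rs_rs, ← hη j i]
    have h2 := congrArg (rs (glue W η) (hle j i)) (gen_transition hc j i)
    rw [rs_rs, H78Atlas.rs_smul, rs_rs] at h2
    exact h2
  obtain ⟨φ, -⟩ := Groth.Agent.Lib.ModIsoGlueH3.exists_iso_of_atlas ht he (g := fun i j => A.trans i j)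
    htg (fun i j => (A.trans_spec i j).symm) hUcov
  exact ⟨φ⟩


end Groth.Agent.Lib.GlueExt82
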