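import Mathlib
import Groth.Agent.Lib.GlueExt82a
import Groth.Agent.Lib.GlueExt82b
import Groth.Agent.Lib.HartogsO
import Groth.Agent.Lib.ZClos5O
import Groth.Agent.S5856
import Groth.Agent.S2832

set_option autoImplicit false
universe u

namespace Groth.Agent.Lib.GlueExt82

open CategoryTheory AlgebraicGeometry TopologicalSpace Opposite
open Groth.Agent.Lib.H90Invertible Groth.Agent.Lib.H78TensorGen Groth.Agent.Lib.H78Atlas
open Groth.Agent.Lib.InvGlue42 Groth.Agent.Lib.LocFact82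

variable {X : Scheme.{u}}

/-- In a locally Noetherian scheme, a point all of whose generizations lie in a closed set `F` is
an interior point of `F`. -/
theorem mem_interior_of_generizations [IsLocallyNoetherian X] (F : Set X) (hF : IsClosed F) :
    ∀ x : X, (∀ y : X, y ⤳ x → y ∈ F) → x ∈ interior F := by
  intro x
  induction x using (InvImage.wf (fun x : X => ringKrullDim (X.presheaf.stalk x))
    wellFounded_lt).induction with
  | _ x IH =>
  intro h
  let G : X.Opens := ⟨interior F, isOpen_interior⟩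
  have hG : ∀ z : X, z ⤳ x → z ≠ x → z ∈ G := fun z hz hne =>
    IH z (Groth.Agent.S2832.ringKrullDim_stalk_lt X hz hne) (fun y hy => h y (hy.trans hz))
  obtain ⟨V, hxV, hV⟩ := Groth.Agent.Lib.ParaFact82.exists_open_subset_of_generizations x G hG
  have hxF : x ∈ F := h x specializes_rfl
  have hcl : closure {x} ⊆ F := closure_minimal (Set.singleton_subset_iff.mpr hxF) hF
  refine mem_interior.mpr ⟨V, ?_, V.2, hxV⟩
  intro z hz
  by_cases hzc : z ∈ closure {x}
  · exact hcl hzc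
  · exact interior_subset (hV z hz hzc)

/-- a local domain with two distinct non-maximal primes has dimension at least two -/
theorem two_le_ringKrullDim_of_primes {A : Type*} [CommRing A] [IsDomain A] [IsLocalRing A]
    [IsNoetherianRing A] (P Q : Ideal A) [P.IsPrime] [Q.IsPrime]
    (hP : P ≠ IsLocalRing.maximalIdeal A) (hQ : Q ≠ IsLocalRing.maximalIdeal A) (hPQ : P ≠ Q) :
    (2 : WithBot ℕ∞) ≤ ringKrullDim A := by
  wlog hP0 : P ≠ ⊥ generalizing P Q
  · have hQ0 : Q ≠ ⊥ := by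
      intro hQ0
      apply hPQ
      rw [hQ0]
      exact not_not.mp hP0
    exact this Q P hQ hP hPQ.symm hQ0
  rw [← IsLocalRing.maximalIdeal_height_eq_ringKrullDim]
  have h1 : (⊥ : Ideal A) < P := bot_lt_iff_ne_bot.mpr hP0
  have h2 : P < IsLocalRing.maximalIdeal A :=
    lt_of_le_of_ne (IsLocalRing.le_maximalIdeal (Ideal.IsPrime.ne_top inferInstance)) hP
  have h3 : (⊥ : Ideal A).height < P.height := Ideal.height_strict_mono_of_isPrime h1
  have h4 : P.height < (IsLocalRing.maximalIdeal A).height := Ideal.height_strict_mono_of_isPrime h2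
  have h5 : (1 : ℕ∞) ≤ P.height := Order.one_le_iff_pos.mpr (lt_of_le_of_lt zero_le h3)
  have h6 : (2 : ℕ∞) ≤ (IsLocalRing.maximalIdeal A).height := by
    have : P.height + 1 ≤ (IsLocalRing.maximalIdeal A).height := Order.add_one_le_of_lt h4
    calc (2 : ℕ∞) = 1 + 1 := by norm_num
      _ ≤ P.height + 1 := by gcongr
      _ ≤ _ := this
  have h7 : ((2 : ℕ∞) : WithBot ℕ∞) ≤ ((IsLocalRing.maximalIdeal A).height : WithBot ℕ∞) :=
    WithBot.coe_le_coe.mpr h6
  exact h7

/-- a point with a domain local ring and two distinct proper generizations has a local ring of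
dimension at least two -/
theorem two_le_ringKrullDim_stalk [IsLocallyNoetherian X] {y a b : X} (ha : a ⤳ y) (hb : b ⤳ y)
    (hay : a ≠ y) (hby : b ≠ y) (hab : a ≠ b) [IsDomain (X.presheaf.stalk y)] :
    (2 : WithBot ℕ∞) ≤ ringKrullDim (X.presheaf.stalk y) := by
  refine two_le_ringKrullDim_of_primes (genPrime X ha) (genPrime X hb) ?_ ?_ ?_
  · intro he
    rw [← genPrime_refl] at he
    exact hay (eq_of_genPrime_eq X ha specializes_rfl he)
  · intro he
    rw [← genPrime_refl] at he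
    exact hby (eq_of_genPrime_eq X hb specializes_rfl he)
  · intro he
    exact hab (eq_of_genPrime_eq X ha hb he)

/-- depth at least two at a factorial point with two distinct proper generizations -/
theorem two_le_depth_stalk [IsLocallyNoetherian X] {y a b : X} (ha : a ⤳ y) (hb : b ⤳ y)
    (hay : a ≠ y) (hby : b ≠ y) (hab : a ≠ b)
    (hufd : UniqueFactorizationMonoid (X.presheaf.stalk y)) :
    (2 : ℕ∞) ≤ LocCoh.depth (X.presheaf.stalk y) (X.presheaf.stalk y) := by
  have hdom : IsDomain (X.presheaf.stalk y) :=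
    { toIsCancelMulZero := hufd.toIsCancelMulZero
      toNontrivial := inferInstance }
  exact Groth.Agent.Lib.UfdPunct82.depth_ge_two_of_normal (two_le_ringKrullDim_stalk ha hb hay hby hab)

/-- functions restrict bijectively from `V` to `V ⊓ U` when `V ≤ U` -/
theorem bij_of_le (U : X.Opens) {V : X.Opens} (hVU : V ≤ U) :
    Function.Bijective (X.presheaf.map (homOfLE (inf_le_left : V ⊓ U ≤ V)).op) := by
  have hle : V ≤ V ⊓ U := le_inf le_rfl hVU
  constructor
  · exact rf_injective_of_le (inf_le_left : V ⊓ U ≤ V) hle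
  · intro t
    refine ⟨rf hle t, ?_⟩
    change rf _ (rf hle t) = t
    rw [rf_rf, rf_self]

/-- **Local Hartogs for functions.** If the local rings at the points of `V ∖ U` have depth at least
two, functions on `V ⊓ U` extend uniquely to `V`. -/
theorem resO_bijective_local [IsLocallyNoetherian X] (U V : X.Opens)
    (hdepth : ∀ y : X, y ∈ V → y ∉ U →
      (2 : ℕ∞) ≤ LocCoh.depth (X.presheaf.stalk y) (X.presheaf.stalk y)) :
    Function.Bijective (X.presheaf.map (homOfLE (inf_le_left : V ⊓ U ≤ V)).op) := by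
  have hcl : IsClosed ((U : Set X)ᶜ) := U.2.isClosed_compl
  let T : ZClos.Cl ((U : Set X)ᶜ) := ⟨⟨(U : Set X)ᶜ, hcl⟩, subset_rfl⟩
  have hTU : T.U = U := by
    ext y
    change y ∈ ((U : Set X)ᶜ)ᶜ ↔ y ∈ U
    rw [compl_compl]
    rfl
  have h : ∀ x ∈ V, ZClos.IsZClosedAt ((U : Set X)ᶜ) (Coh.structureModule X) x := by
    intro x hx
    refine (Groth.Agent.S5856.result X _ hcl.stableUnderSpecialization _
      (Groth.Agent.Lib.Hartogs.isCoh_structureModule X) x).mpr ?_
    intro x' hx' hx'Z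
    rw [Groth.Agent.Lib.Hartogs.depth_structureModule]
    exact hdepth x' (hx'.mem_open V.2 hx) hx'Z
  have key := Groth.Agent.Lib.ZClos5.res_bijective_of_isZClosedAt ((U : Set X)ᶜ)
    (Coh.structureModule X) V h T V le_rfl
  have key' : Function.Bijective (X.presheaf.map (homOfLE (inf_le_left : V ⊓ T.U ≤ V)).op) := key
  exact (bijective_res_congr _ _ (by rw [hTU]) rfl).mp key'


/-- **Step two of the extension.** If the local rings at the points outside `U` are factorial of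
depth at least two, every invertible module on `U` extends to an invertible module on `X`. -/
theorem exists_step_two [IsLocallyNoetherian X] (U : X.Opens) (L : (U : Scheme.{u}).Modules)
    (hL : PicF.IsInvertible L)
    (hufd : ∀ x : X, x ∉ U → UniqueFactorizationMonoid (X.presheaf.stalk x))
    (hdepth : ∀ x : X, x ∉ U →
      (2 : ℕ∞) ≤ LocCoh.depth (X.presheaf.stalk x) (X.presheaf.stalk x)) :
    ∃ L' : X.Modules, PicF.IsInvertible L' ∧ Nonempty (L'.restrict U.ι ≅ L) := by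
  have hex : ∀ x : X, ∃ (Wx : X.Opens) (ex : Γ(L, U.ι ⁻¹ᵁ Wx)),
      x ∈ Wx ∧ IsGen L (U.ι ⁻¹ᵁ Wx) ex := by
    intro x
    by_cases hx : x ∈ U
    · obtain ⟨N, hxN, e, he⟩ := (isInvertible_iff_exists_isGen L).mp hL ⟨x, hx⟩
      have hle : U.ι ⁻¹ᵁ (U.ι ''ᵁ N) ≤ N := (U.ι.preimage_image_eq N).le
      exact ⟨U.ι ''ᵁ N, rs L hle e, ⟨⟨x, hx⟩, hxN, rfl⟩, he.mono hle⟩
    · have hu := hufd x hx
      have hdom : IsDomain (X.presheaf.stalk x) :=
        { toIsCancelMulZero := hu.toIsCancelMulZero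
          toNontrivial := inferInstance }
      obtain ⟨W, hxW, s, hs⟩ := exists_isGen_near_ufd U L hL x
      exact ⟨W, s, hxW, hs⟩
  choose W e hxW he using hex
  have hcov : U ≤ ⨆ x, W x := fun x _ => Opens.mem_iSup.mpr ⟨x, hxW x⟩
  have hext : ∀ i j : X, i ≠ j → ∀ V : X.Opens, V ≤ W i ⊓ W j →
      Function.Bijective (X.presheaf.map (homOfLE (inf_le_left : V ⊓ U ≤ V)).op) :=
    fun i j _ V _ => Groth.Agent.Lib.Hartogs.resO_bijective U hdepth inf_le_left rfl
  obtain ⟨L', hgen, hiso⟩ := exists_extension U L W hcov e he hext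
  refine ⟨L', ?_, hiso⟩
  rw [isInvertible_iff_exists_isGen]
  intro x
  obtain ⟨s, hs⟩ := hgen x
  exact ⟨W x, hxW x, s, hs⟩

/-- **Step one of the extension.** An invertible module on `U` extends to an invertible module on a
larger open `U₁` such that the local rings at the points outside `U₁` have depth at least two,
provided the local rings at the points outside `U` are factorial. -/
theorem exists_step_one [IsLocallyNoetherian X] (U : X.Opens) (L : (U : Scheme.{u}).Modules)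
    (hL : PicF.IsInvertible L)
    (hufd : ∀ x : X, x ∉ U → UniqueFactorizationMonoid (X.presheaf.stalk x)) :
    ∃ (U₁ : X.Opens) (hUU₁ : U ≤ U₁) (L₁ : (U₁ : Scheme.{u}).Modules), PicF.IsInvertible L₁ ∧
      Nonempty (L₁.restrict (X.homOfLE hUU₁) ≅ L) ∧
      ∀ x : X, x ∉ U₁ →
        (2 : ℕ∞) ≤ LocCoh.depth (X.presheaf.stalk x) (X.presheaf.stalk x) := by
  classical
  let V₀ : X.Opens := ⟨interior ((U : Set X)ᶜ), isOpen_interior⟩
  have hV₀U : ∀ y : X, y ∈ V₀ → y ∉ U := fun y hy => interior_subset hy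
  let Z₁ : Set X := {x | x ∉ U ∧ x ∉ V₀ ∧ ∀ y : X, y ⤳ x → y ≠ x → y ∈ U}
  let S : Type u := {x : X // x ∈ U ∨ x ∈ Z₁}
  have hex : ∀ p : S, ∃ (Wx : X.Opens) (ex : Γ(L, U.ι ⁻¹ᵁ Wx)), p.1 ∈ Wx ∧
      IsGen L (U.ι ⁻¹ᵁ Wx) ex ∧ ∀ y ∈ Wx, y ∉ U → p.1 ∉ U ∧ y ∈ closure {p.1} := by
    rintro ⟨x, hx⟩
    by_cases hxU : x ∈ U
    · obtain ⟨N, hxN, e, he⟩ := (isInvertible_iff_exists_isGen L).mp hL ⟨x, hxU⟩
      have hle : U.ι ⁻¹ᵁ (U.ι ''ᵁ N) ≤ N := (U.ι.preimage_image_eq N).le
      refine ⟨U.ι ''ᵁ N, rs L hle e, ⟨⟨x, hxU⟩, hxN, rfl⟩, he.mono hle, ?_⟩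
      rintro y ⟨t, -, rfl⟩ hy
      exact (hy t.2).elim
    · have hxZ : x ∈ Z₁ := hx.resolve_left hxU
      have hu := hufd x hxU
      have hdom : IsDomain (X.presheaf.stalk x) :=
        { toIsCancelMulZero := hu.toIsCancelMulZero
          toNontrivial := inferInstance }
      obtain ⟨W', hxW', s, hs⟩ := exists_isGen_near_ufd U L hL x
      obtain ⟨Vz, hxVz, hVz⟩ :=
        Groth.Agent.Lib.ParaFact82.exists_open_subset_of_generizations x U hxZ.2.2
      have hle : U.ι ⁻¹ᵁ (Vz ⊓ W') ≤ U.ι ⁻¹ᵁ W' := fun t ht => ht.2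
      refine ⟨Vz ⊓ W', rs L hle s, ⟨hxVz, hxW'⟩, hs.mono hle, ?_⟩
      intro y hy hyU
      refine ⟨hxU, ?_⟩
      by_contra hc
      exact hyU (hVz y hy.1 hc)
  choose Wf ef hxWf hef hWf using hex
  let W : Option S → X.Opens := fun o => o.elim V₀ Wf
  have hbot : U.ι ⁻¹ᵁ V₀ = ⊥ := by
    rw [eq_bot_iff]
    intro t ht
    exact (hV₀U _ ht t.2).elim
  let e : ∀ o : Option S, Γ(L, U.ι ⁻¹ᵁ W o) := fun o =>
    match o with
    | none => (0 : Γ(L, U.ι ⁻¹ᵁ V₀))
    | some p => ef p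
  have he : ∀ o, IsGen L (U.ι ⁻¹ᵁ W o) (e o) := by
    intro o
    cases o with
    | none => exact isGen_of_eq_bot L _ hbot _
    | some p => exact hef p
  have hcov : U ≤ ⨆ o, W o := fun x hx =>
    Opens.mem_iSup.mpr ⟨some ⟨x, Or.inl hx⟩, hxWf ⟨x, Or.inl hx⟩⟩
  -- points of `Z₁` are not in `V₀`, so a point of `V₀ ∖ U` cannot lie in a chart of the second kind
  have hcontra : ∀ (q : S) (y : X), y ∈ V₀ → y ∈ Wf q → False := by
    intro q y hy0 hyq
    obtain ⟨hqU, hyc⟩ := hWf q y hyq (hV₀U y hy0)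
    have hqZ : q.1 ∈ Z₁ := q.2.resolve_left hqU
    have hspec : q.1 ⤳ y := specializes_iff_mem_closure.mpr hyc
    exact hqZ.2.1 (hspec.mem_open V₀.2 hy0)
  have hext : ∀ i j : Option S, i ≠ j → ∀ V : X.Opens, V ≤ W i ⊓ W j →
      Function.Bijective (X.presheaf.map (homOfLE (inf_le_left : V ⊓ U ≤ V)).op) := by
    intro i j hij V hV
    apply resO_bijective_local U V
    intro y hyV hyU
    have hyi : y ∈ W i := (hV hyV).1
    have hyj : y ∈ W j := (hV hyV).2
    cases i with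
    | none =>
      cases j with
      | none => exact (hij rfl).elim
      | some q => exact (hcontra q y hyi hyj).elim
    | some p =>
      cases j with
      | none => exact (hcontra p y hyj hyi).elim
      | some q =>
        obtain ⟨hpU, hpc⟩ := hWf p y hyi hyU
        obtain ⟨hqU, hqc⟩ := hWf q y hyj hyU
        have hpZ : p.1 ∈ Z₁ := p.2.resolve_left hpU
        have hqZ : q.1 ∈ Z₁ := q.2.resolve_left hqU
        have hpy : p.1 ⤳ y := specializes_iff_mem_closure.mpr hpc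
        have hqy : q.1 ⤳ y := specializes_iff_mem_closure.mpr hqc
        have hpq : p.1 ≠ q.1 := fun h => hij (congrArg some (Subtype.ext h))
        have hp_ne : p.1 ≠ y := by
          intro h
          exact hqU (hpZ.2.2 q.1 (h ▸ hqy) (Ne.symm hpq))
        have hq_ne : q.1 ≠ y := by
          intro h
          exact hpU (hqZ.2.2 p.1 (h ▸ hpy) hpq)
        exact two_le_depth_stalk hpy hqy hp_ne hq_ne hpq (hufd y hyU)
  obtain ⟨L₁', hgen, ⟨iso₁⟩⟩ := exists_extension U L W hcov e he hext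
  refine ⟨⨆ o, W o, hcov, L₁'.restrict (⨆ o, W o).ι, ?_, ?_, ?_⟩
  · rw [isInvertible_iff_exists_isGen]
    intro t
    obtain ⟨o, ho⟩ := Opens.mem_iSup.mp t.2
    obtain ⟨s, hs⟩ := hgen o
    have hle : (⨆ o, W o).ι ''ᵁ ((⨆ o, W o).ι ⁻¹ᵁ W o) ≤ W o := Scheme.Hom.image_preimage_le _ _
    exact ⟨(⨆ o, W o).ι ⁻¹ᵁ W o, ho, rs L₁' hle s,
      (isGen_restrict_iff (⨆ o, W o).ι L₁' _ _).mpr (hs.mono hle)⟩
  · exact ⟨((Groth.Agent.Lib.H90RestrictEquiv.restrictCompIso (X.homOfLE hcov) (⨆ o, W o).ι U.ι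
      (X.homOfLE_ι _)).symm.app L₁') ≪≫ iso₁⟩
  · intro x hx
    have hxU : x ∉ U := fun h => hx (hcov h)
    have hxV₀ : x ∉ V₀ := fun h => hx (Opens.mem_iSup.mpr ⟨none, h⟩)
    have hxZ : x ∉ Z₁ := fun h => hx (Opens.mem_iSup.mpr ⟨some ⟨x, Or.inr h⟩, hxWf ⟨x, Or.inr h⟩⟩)
    have h1 : ∃ y : X, y ⤳ x ∧ y ≠ x ∧ y ∉ U := by
      by_contra hc
      push Not at hc
      exact hxZ ⟨hxU, hxV₀, hc⟩
    have h2 : ∃ η : X, η ⤳ x ∧ η ∈ U := by
      by_contra hc
      push Not at hc
      exact hxV₀ (mem_interior_of_generizations _ U.2.isClosed_compl x (fun y hy => hc y hy))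
    obtain ⟨y, hyx, hyne, hyU⟩ := h1
    obtain ⟨η, hηx, hηU⟩ := h2
    have hηne : η ≠ x := fun h => hxU (h ▸ hηU)
    have hyη : y ≠ η := fun h => hyU (h ▸ hηU)
    exact two_le_depth_stalk hyx hηx hyne hηne hyη (hufd x hxU)

/-- **Extension of invertible modules across factorial points.** -/
theorem exists_invertible_extension [IsLocallyNoetherian X] (U : X.Opens)
    (L : (U : Scheme.{u}).Modules) (hL : PicF.IsInvertible L)
    (hufd : ∀ x : X, x ∉ U → UniqueFactorizationMonoid (X.presheaf.stalk x)) :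
    ∃ L' : X.Modules, PicF.IsInvertible L' ∧ Nonempty (L'.restrict U.ι ≅ L) := by
  obtain ⟨U₁, hUU₁, L₁, hL₁, ⟨iso₁⟩, hdepth⟩ := exists_step_one U L hL hufd
  obtain ⟨L₂, hL₂, ⟨iso₂⟩⟩ := exists_step_two U₁ L₁ hL₁ (fun x hx => hufd x (fun h => hx (hUU₁ h))) hdepth
  refine ⟨L₂, hL₂, ⟨?_⟩⟩
  exact ((Groth.Agent.Lib.H90RestrictEquiv.restrictCompIso (X.homOfLE hUU₁) U₁.ι U.ι
      (X.homOfLE_ι _)).app L₂) ≪≫
    (Scheme.Modules.restrictFunctor (X.homOfLE hUU₁)).mapIso iso₂ ≪≫ iso₁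

end Groth.Agent.Lib.GlueExt82
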