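import Mathlib

/-!
# Gluing finite extensions at finitely many incomparable primes (helper61)

`A` Noetherian, `t` a nonzerodivisor, `q i` finitely many primes, `B i ⊇ A_{q i}` ring extensions
with `t^n B i ⊆ A_{q i}` and `t` regular on `B i`.  Put `S = A[1/t]`,
`M = {a ∈ A | ∀ i, a/1 ∈ t^n B i}` (an ideal of `A` containing `t^n`) and
`C = (M : M) = {x ∈ S | x M ⊆ M}`.  Then `C` is a finite `A`-subalgebra of `S` with `t^n C ⊆ A`
and, provided the primes can be separated (`hav`), `A_{q i} ⊗_A C ≃ B i`.
-/

set_option autoImplicit false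
universe u

namespace Groth.Agent.Lib.GlueHtOne61

open scoped TensorProduct

section Local

variable {A : Type u} [CommRing A] (t : A) (n : ℕ) (𝔮 : Ideal A) [𝔮.IsPrime]
  (B : Type u) [CommRing B] [Algebra (Localization.AtPrime 𝔮) B]

/-- The hypotheses at one prime. -/
structure LocalData : Prop where
  inj : Function.Injective (algebraMap (Localization.AtPrime 𝔮) B)
  pow_mem : ∀ b : B, ∃ l : Localization.AtPrime 𝔮,
    algebraMap (Localization.AtPrime 𝔮) B l = (algebraMap A (Localization.AtPrime 𝔮) t) ^ n • b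
  reg : IsSMulRegular B (algebraMap A (Localization.AtPrime 𝔮) t)

variable {t n 𝔮 B}

namespace LocalData

variable (h : LocalData t n 𝔮 B)
include h

/-- multiplication by `t^n`, as a map `B → A_𝔮`. -/
noncomputable def phi : B →ₗ[Localization.AtPrime 𝔮] Localization.AtPrime 𝔮 where
  toFun b := (h.pow_mem b).choose
  map_add' x y := by
    apply h.inj
    rw [map_add, (h.pow_mem x).choose_spec, (h.pow_mem y).choose_spec, (h.pow_mem _).choose_spec,
      smul_add]
  map_smul' c x := by
    apply h.inj
    rw [(h.pow_mem _).choose_spec, RingHom.id_apply, smul_eq_mul, map_mul,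
      (h.pow_mem x).choose_spec, smul_comm, Algebra.smul_def c]

theorem phi_spec (b : B) :
    algebraMap (Localization.AtPrime 𝔮) B (h.phi b) =
      (algebraMap A (Localization.AtPrime 𝔮) t) ^ n • b :=
  (h.pow_mem b).choose_spec

theorem reg_pow : IsSMulRegular B ((algebraMap A (Localization.AtPrime 𝔮) t) ^ n) :=
  h.reg.pow n

theorem phi_injective : Function.Injective h.phi := by
  intro x y hxy
  apply h.reg_pow
  change (algebraMap A (Localization.AtPrime 𝔮) t) ^ n • x =
    (algebraMap A (Localization.AtPrime 𝔮) t) ^ n • y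
  rw [← h.phi_spec, ← h.phi_spec, hxy]

theorem phi_one : h.phi 1 = (algebraMap A (Localization.AtPrime 𝔮) t) ^ n := by
  apply h.inj
  rw [h.phi_spec, Algebra.smul_def, mul_one]

theorem phi_mul (x y : B) :
    h.phi x * h.phi y = (algebraMap A (Localization.AtPrime 𝔮) t) ^ n * h.phi (x * y) := by
  apply h.inj
  rw [map_mul, map_mul, h.phi_spec, h.phi_spec, h.phi_spec, Algebra.smul_def, Algebra.smul_def,
    Algebra.smul_def]
  ring

theorem phi_algebraMap (l : Localization.AtPrime 𝔮) :
    h.phi (algebraMap _ B l) = (algebraMap A (Localization.AtPrime 𝔮) t) ^ n * l := by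
  rw [Algebra.algebraMap_eq_smul_one, map_smul, h.phi_one, smul_eq_mul, mul_comm]

theorem regular_pow_loc : IsSMulRegular (Localization.AtPrime 𝔮)
    ((algebraMap A (Localization.AtPrime 𝔮) t) ^ n) := by
  intro a b hab
  apply h.inj
  apply h.reg_pow
  simp only [smul_eq_mul] at hab
  change _ • _ = _ • _
  rw [Algebra.smul_def, Algebra.smul_def, ← map_mul, ← map_mul, hab]

/-- the ideal `t^n B ⊆ A_𝔮`. -/
noncomputable def J : Ideal (Localization.AtPrime 𝔮) := LinearMap.range h.phi

theorem pow_mem_J : (algebraMap A (Localization.AtPrime 𝔮) t) ^ n ∈ h.J :=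
  ⟨1, h.phi_one⟩

theorem span_le_J : Ideal.span {(algebraMap A (Localization.AtPrime 𝔮) t) ^ n} ≤ h.J := by
  rw [Ideal.span_le, Set.singleton_subset_iff]
  exact h.pow_mem_J

end LocalData

end Local

section Global

variable {A : Type u} [CommRing A] {t : A} {n : ℕ} {r : ℕ} {q : Fin r → Ideal A}
  [hq : ∀ i, (q i).IsPrime]
  {B : Fin r → Type u} [∀ i, CommRing (B i)] [∀ i, Algebra (Localization.AtPrime (q i)) (B i)]
  (h : ∀ i, LocalData t n (q i) (B i))

/-- the ideal `M` of `A`: elements landing in `t^n B i` for all `i`. -/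
noncomputable def M : Ideal A :=
  ⨅ i, (h i).J.comap (algebraMap A (Localization.AtPrime (q i)))

theorem mem_M_iff (a : A) :
    a ∈ M h ↔ ∀ i, algebraMap A (Localization.AtPrime (q i)) a ∈ (h i).J := by
  simp [M, Ideal.mem_comap]

theorem pow_mem_M : t ^ n ∈ M h := by
  rw [mem_M_iff]
  intro i
  rw [map_pow]
  exact (h i).pow_mem_J

/-- the subalgebra `C = (M : M)` of `A[1/t]`. -/
noncomputable def C : Subalgebra A (Localization.Away t) where
  carrier := {x | ∀ m ∈ M h, ∃ m' ∈ M h,
    x * algebraMap A (Localization.Away t) m = algebraMap A (Localization.Away t) m'}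
  mul_mem' := by
    intro x y hx hy m hm
    obtain ⟨m1, hm1, e1⟩ := hy m hm
    obtain ⟨m2, hm2, e2⟩ := hx m1 hm1
    exact ⟨m2, hm2, by rw [mul_assoc, e1, e2]⟩
  add_mem' := by
    intro x y hx hy m hm
    obtain ⟨m1, hm1, e1⟩ := hx m hm
    obtain ⟨m2, hm2, e2⟩ := hy m hm
    exact ⟨m1 + m2, (M h).add_mem hm1 hm2, by rw [add_mul, e1, e2, map_add]⟩
  algebraMap_mem' := by
    intro a m hm
    exact ⟨a * m, (M h).mul_mem_left a hm, by rw [map_mul]⟩

theorem mem_C_iff (x : Localization.Away t) :
    x ∈ C h ↔ ∀ m ∈ M h, ∃ m' ∈ M h,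
      x * algebraMap A (Localization.Away t) m = algebraMap A (Localization.Away t) m' :=
  Iff.rfl

theorem algebraMap_away_injective (ht : t ∈ nonZeroDivisors A) :
    Function.Injective (algebraMap A (Localization.Away t)) :=
  IsLocalization.injective (Localization.Away t) (Submonoid.powers_le.mpr ht)

theorem isUnit_pow_away : IsUnit (algebraMap A (Localization.Away t) (t ^ n)) := by
  rw [map_pow]
  exact (IsLocalization.Away.algebraMap_isUnit t).pow n

variable (ht : t ∈ nonZeroDivisors A)
include ht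

/-- `c ↦ t^n c`, as a map `C → A`. -/
noncomputable def toA : C h →ₗ[A] A where
  toFun c := (c.2 (t ^ n) (pow_mem_M h)).choose
  map_add' x y := by
    apply algebraMap_away_injective ht
    rw [map_add, ← (x.2 (t ^ n) (pow_mem_M h)).choose_spec.2,
      ← (y.2 (t ^ n) (pow_mem_M h)).choose_spec.2,
      ← ((x + y).2 (t ^ n) (pow_mem_M h)).choose_spec.2]
    simp [add_mul]
  map_smul' a x := by
    apply algebraMap_away_injective ht
    rw [RingHom.id_apply, smul_eq_mul, map_mul, ← (x.2 (t ^ n) (pow_mem_M h)).choose_spec.2,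
      ← ((a • x).2 (t ^ n) (pow_mem_M h)).choose_spec.2]
    simp [Algebra.smul_def, mul_assoc]

theorem toA_spec (c : C h) :
    algebraMap A (Localization.Away t) (toA h ht c) =
      (c : Localization.Away t) * algebraMap A (Localization.Away t) (t ^ n) :=
  ((c.2 (t ^ n) (pow_mem_M h)).choose_spec.2).symm

theorem toA_mem (c : C h) : toA h ht c ∈ M h :=
  (c.2 (t ^ n) (pow_mem_M h)).choose_spec.1

theorem toA_injective : Function.Injective (toA h ht) := by
  intro x y hxy
  have := congrArg (algebraMap A (Localization.Away t)) hxy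
  rw [toA_spec, toA_spec] at this
  exact Subtype.ext ((isUnit_pow_away (t := t) (n := n)).mul_left_injective this)

theorem toA_algebraMap (a : A) : toA h ht (algebraMap A (C h) a) = t ^ n * a := by
  apply algebraMap_away_injective ht
  rw [toA_spec, map_mul, mul_comm]
  rfl

theorem toA_mul (x y : C h) : t ^ n * toA h ht (x * y) = toA h ht x * toA h ht y := by
  apply algebraMap_away_injective ht
  rw [RingHom.map_mul, RingHom.map_mul, toA_spec, toA_spec, toA_spec]
  push_cast
  ring

theorem toA_one : toA h ht 1 = t ^ n := by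
  have := toA_algebraMap h ht 1
  rwa [map_one, mul_one] at this

theorem injective_algebraMap_C : Function.Injective (algebraMap A (C h)) := by
  intro x y hxy
  apply algebraMap_away_injective ht
  exact congrArg Subtype.val hxy

theorem finite_C [IsNoetherianRing A] : Module.Finite A (C h) :=
  Module.Finite.of_injective (toA h ht) (toA_injective h ht)

theorem smul_mem_range (x : A) (hx : x ∈ Ideal.span {t} ^ n) (c : C h) :
    x • c ∈ (algebraMap A (C h)).range := by
  rw [Ideal.span_singleton_pow, Ideal.mem_span_singleton] at hx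
  obtain ⟨a, rfl⟩ := hx
  refine ⟨a * toA h ht c, ?_⟩
  apply Subtype.ext
  rw [map_mul]
  change algebraMap A (Localization.Away t) a * algebraMap A (Localization.Away t) (toA h ht c) = _
  rw [toA_spec, Algebra.smul_def]
  change _ = algebraMap A (Localization.Away t) (t ^ n * a) * (c : Localization.Away t)
  rw [map_mul]
  ring

theorem exists_phi_eq (i : Fin r) (c : C h) :
    ∃ b : B i, (h i).phi b = algebraMap A (Localization.AtPrime (q i)) (toA h ht c) :=
  (mem_M_iff h _).mp (toA_mem h ht c) i

/-- the map `C → B i`. -/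
noncomputable def psiFun (i : Fin r) (c : C h) : B i := (exists_phi_eq h ht i c).choose

theorem phi_psiFun (i : Fin r) (c : C h) :
    (h i).phi (psiFun h ht i c) = algebraMap A (Localization.AtPrime (q i)) (toA h ht c) :=
  (exists_phi_eq h ht i c).choose_spec

theorem psiFun_eq_iff (i : Fin r) (c : C h) (b : B i) :
    psiFun h ht i c = b ↔
      (h i).phi b = algebraMap A (Localization.AtPrime (q i)) (toA h ht c) := by
  constructor
  · rintro rfl
    exact phi_psiFun h ht i c
  · intro e
    apply (h i).phi_injective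
    rw [phi_psiFun, e]

theorem psiFun_mul (i : Fin r) (x y : C h) :
    psiFun h ht i (x * y) = psiFun h ht i x * psiFun h ht i y := by
  rw [psiFun_eq_iff]
  apply (h i).regular_pow_loc
  simp only [smul_eq_mul]
  rw [← (h i).phi_mul, phi_psiFun, phi_psiFun, ← map_pow,
    ← RingHom.map_mul, ← RingHom.map_mul, toA_mul]

variable [∀ i, Algebra A (B i)] [∀ i, IsScalarTower A (Localization.AtPrime (q i)) (B i)]

/-- the algebra map `C → B i`. -/
noncomputable def psi (i : Fin r) : C h →ₐ[A] B i where
  toFun := psiFun h ht i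
  map_one' := by
    rw [psiFun_eq_iff, toA_one, (h i).phi_one, map_pow]
  map_mul' x y := psiFun_mul h ht i x y
  map_zero' := by
    rw [psiFun_eq_iff, map_zero, map_zero, map_zero]
  map_add' x y := by
    rw [psiFun_eq_iff, map_add, map_add, map_add, phi_psiFun, phi_psiFun]
  commutes' a := by
    rw [psiFun_eq_iff, toA_algebraMap, IsScalarTower.algebraMap_apply A (Localization.AtPrime (q i)) (B i),
      (h i).phi_algebraMap, map_mul, map_pow]

theorem phi_psi (i : Fin r) (c : C h) :
    (h i).phi (psi h ht i c) = algebraMap A (Localization.AtPrime (q i)) (toA h ht c) :=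
  phi_psiFun h ht i c

theorem psi_eq_iff (i : Fin r) (c : C h) (b : B i) :
    psi h ht i c = b ↔
      (h i).phi b = algebraMap A (Localization.AtPrime (q i)) (toA h ht c) :=
  psiFun_eq_iff h ht i c b

end Global

section Surj

variable {A : Type u} [CommRing A] {t : A} {n : ℕ} {r : ℕ} {q : Fin r → Ideal A}
  [hq : ∀ i, (q i).IsPrime]
  {B : Fin r → Type u} [∀ i, CommRing (B i)] [∀ i, Algebra (Localization.AtPrime (q i)) (B i)]
  (h : ∀ i, LocalData t n (q i) (B i))

theorem step2 (i : Fin r) (a0 : A)
    (ha0 : algebraMap A (Localization.AtPrime (q i)) a0 ∈ (h i).J) (m : A) (hm : m ∈ M h) :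
    ∃ u : A, u ∉ q i ∧ ∃ w : A, algebraMap A (Localization.AtPrime (q i)) w ∈ (h i).J ∧
      u * a0 * m = t ^ n * w := by
  obtain ⟨b0, hb0⟩ := ha0
  obtain ⟨bm, hbm⟩ := (mem_M_iff h m).mp hm i
  obtain ⟨⟨w, s'⟩, e⟩ := IsLocalization.surj (q i).primeCompl ((h i).phi (b0 * bm))
  simp only at e
  have hwJ : algebraMap A (Localization.AtPrime (q i)) w ∈ (h i).J := by
    rw [← e]
    exact Ideal.mul_mem_right _ _ ⟨_, rfl⟩
  have e2 : algebraMap A (Localization.AtPrime (q i)) ((s' : A) * a0 * m) =
      algebraMap A (Localization.AtPrime (q i)) (t ^ n * w) := by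
    rw [map_mul, map_mul, map_mul, ← e, ← hb0, ← hbm, mul_assoc, (h i).phi_mul, map_pow]
    ring
  obtain ⟨c, hc⟩ := IsLocalization.exists_of_eq (M := (q i).primeCompl) e2
  refine ⟨c * s', ?_, c * w, ?_, ?_⟩
  · exact ((q i).primeCompl.mul_mem c.2 s'.2)
  · rw [map_mul]
    exact Ideal.mul_mem_left _ _ hwJ
  · calc (c : A) * s' * a0 * m = c * (s' * a0 * m) := by ring
      _ = c * (t ^ n * w) := hc
      _ = t ^ n * (c * w) := by ring

theorem step3 (i : Fin r) (a0 : A)
    (ha0 : algebraMap A (Localization.AtPrime (q i)) a0 ∈ (h i).J) (G : Finset A)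
    (hG : ∀ g ∈ G, g ∈ M h) :
    ∃ u : A, u ∉ q i ∧ ∀ g ∈ G, ∃ w : A,
      algebraMap A (Localization.AtPrime (q i)) w ∈ (h i).J ∧ u * a0 * g = t ^ n * w := by
  classical
  induction G using Finset.induction_on with
  | empty => exact ⟨1, (q i).primeCompl.one_mem, by simp⟩
  | insert g G hg ih =>
    obtain ⟨u1, hu1, H1⟩ := ih (fun x hx => hG x (Finset.mem_insert_of_mem hx))
    obtain ⟨u2, hu2, w2, hw2, e2⟩ := step2 h i a0 ha0 g (hG g (Finset.mem_insert_self _ _))
    refine ⟨u1 * u2, (q i).primeCompl.mul_mem hu1 hu2, ?_⟩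
    intro x hx
    rcases Finset.mem_insert.mp hx with rfl | hx
    · refine ⟨u1 * w2, ?_, ?_⟩
      · rw [map_mul]
        exact Ideal.mul_mem_left _ _ hw2
      · calc u1 * u2 * a0 * x = u1 * (u2 * a0 * x) := by ring
          _ = u1 * (t ^ n * w2) := by rw [e2]
          _ = t ^ n * (u1 * w2) := by ring
    · obtain ⟨w1, hw1, e1⟩ := H1 x hx
      refine ⟨u2 * w1, ?_, ?_⟩
      · rw [map_mul]
        exact Ideal.mul_mem_left _ _ hw1
      · calc u1 * u2 * a0 * x = u2 * (u1 * a0 * x) := by ring
          _ = u2 * (t ^ n * w1) := by rw [e1]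
          _ = t ^ n * (u2 * w1) := by ring

theorem step3' [IsNoetherianRing A] (i : Fin r) (a0 : A)
    (ha0 : algebraMap A (Localization.AtPrime (q i)) a0 ∈ (h i).J) :
    ∃ u : A, u ∉ q i ∧ ∀ m ∈ M h, ∃ w : A,
      algebraMap A (Localization.AtPrime (q i)) w ∈ (h i).J ∧ u * a0 * m = t ^ n * w := by
  obtain ⟨G, hG⟩ := (isNoetherianRing_iff_ideal_fg A).mp inferInstance (M h)
  have hG' : ∀ g ∈ G, g ∈ M h := by
    intro g hg
    rw [← hG]
    exact Ideal.subset_span hg
  obtain ⟨u, hu, H⟩ := step3 h i a0 ha0 G hG'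
  refine ⟨u, hu, ?_⟩
  intro m hm
  rw [← hG] at hm
  induction hm using Submodule.span_induction with
  | mem x hx => exact H x hx
  | zero => exact ⟨0, by simp, by simp⟩
  | add x y _ _ hx hy =>
    obtain ⟨w1, hw1, e1⟩ := hx
    obtain ⟨w2, hw2, e2⟩ := hy
    exact ⟨w1 + w2, by rw [map_add]; exact Ideal.add_mem _ hw1 hw2, by rw [mul_add, e1, e2]; ring⟩
  | smul a x _ hx =>
    obtain ⟨w1, hw1, e1⟩ := hx
    refine ⟨a * w1, by rw [map_mul]; exact Ideal.mul_mem_left _ _ hw1, ?_⟩
    rw [smul_eq_mul]
    calc u * a0 * (a * x) = a * (u * a0 * x) := by ring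
      _ = a * (t ^ n * w1) := by rw [e1]
      _ = t ^ n * (a * w1) := by ring

theorem step4 (hav : ∀ i j : Fin r, j ≠ i → ∃ u : A, u ∉ q i ∧
      algebraMap A (Localization.AtPrime (q j)) u ∈
        Ideal.span {(algebraMap A (Localization.AtPrime (q j)) t) ^ n}) (i : Fin r) :
    ∃ v : A, v ∉ q i ∧ ∀ j, j ≠ i → algebraMap A (Localization.AtPrime (q j)) v ∈ (h j).J := by
  classical
  choose u hu1 hu2 using hav i
  refine ⟨∏ j, (if hj : j = i then 1 else u j hj), ?_, ?_⟩
  · apply (q i).primeCompl.prod_mem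
    intro j _
    by_cases hj : j = i
    · simp only [hj, dite_true]
      exact (q i).primeCompl.one_mem
    · simp only [hj, dite_false]
      exact hu1 j hj
  · intro j hj
    have hdvd : u j hj ∣ ∏ k, (if hk : k = i then 1 else u k hk) := by
      have := Finset.dvd_prod_of_mem (fun k => (if hk : k = i then 1 else u k hk))
        (Finset.mem_univ j)
      simpa only [hj, dite_false] using this
    exact Ideal.mem_of_dvd _ (map_dvd _ hdvd) ((h j).span_le_J (hu2 j hj))

variable (ht : t ∈ nonZeroDivisors A) [IsNoetherianRing A]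
  (hav : ∀ i j : Fin r, j ≠ i → ∃ u : A, u ∉ q i ∧
      algebraMap A (Localization.AtPrime (q j)) u ∈
        Ideal.span {(algebraMap A (Localization.AtPrime (q j)) t) ^ n})
  [∀ i, Algebra A (B i)] [∀ i, IsScalarTower A (Localization.AtPrime (q i)) (B i)]
include hav ht

theorem exists_psi_eq_smul (i : Fin r) (b : B i) :
    ∃ (c : C h) (s : A), s ∉ q i ∧ psi h ht i c = s • b := by
  obtain ⟨⟨a0, s0⟩, e0⟩ := IsLocalization.surj (q i).primeCompl ((h i).phi b)
  simp only at e0
  have ha0 : algebraMap A (Localization.AtPrime (q i)) a0 ∈ (h i).J := by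
    rw [← e0]
    exact Ideal.mul_mem_right _ _ ⟨_, rfl⟩
  obtain ⟨u, hu, H⟩ := step3' h i a0 ha0
  obtain ⟨v, hv, Hv⟩ := step4 h hav i
  -- the element `c = v u a0 / t^n`
  set a : A := v * (u * a0) with ha
  have hcmem : IsLocalization.mk' (Localization.Away t) a
      (⟨t ^ n, n, rfl⟩ : Submonoid.powers t) ∈ C h := by
    intro m hm
    obtain ⟨w, hw, e⟩ := H m hm
    refine ⟨v * w, ?_, ?_⟩
    · rw [mem_M_iff]
      intro j
      rw [map_mul]
      by_cases hj : j = i
      · subst hj
        exact Ideal.mul_mem_left _ _ hw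
      · exact Ideal.mul_mem_right _ _ (Hv j hj)
    · apply (isUnit_pow_away (t := t) (n := n)).mul_left_injective
      simp only
      rw [mul_assoc, mul_comm (algebraMap A (Localization.Away t) m), ← mul_assoc]
      have := IsLocalization.mk'_spec (Localization.Away t) a
        (⟨t ^ n, n, rfl⟩ : Submonoid.powers t)
      simp only at this
      rw [this, ← map_mul, ← map_mul]
      congr 1
      rw [ha]
      calc v * (u * a0) * m = v * (u * a0 * m) := by ring
        _ = v * (t ^ n * w) := by rw [e]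
        _ = v * w * t ^ n := by ring
  refine ⟨⟨_, hcmem⟩, v * u * s0, ?_, ?_⟩
  · exact (q i).primeCompl.mul_mem ((q i).primeCompl.mul_mem hv hu) s0.2
  · rw [psi_eq_iff]
    have htoA : toA h ht ⟨_, hcmem⟩ = a := by
      apply algebraMap_away_injective ht
      rw [toA_spec]
      exact IsLocalization.mk'_spec (Localization.Away t) a
        (⟨t ^ n, n, rfl⟩ : Submonoid.powers t)
    rw [htoA, ← algebraMap_smul (Localization.AtPrime (q i)) (v * u * (s0 : A)) b, map_smul,
      smul_eq_mul, ha, map_mul, map_mul, map_mul, map_mul, ← e0]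
    ring

theorem nonempty_tensor_equiv (i : Fin r) :
    Nonempty (Localization.AtPrime (q i) ⊗[A] (C h) ≃ₐ[Localization.AtPrime (q i)] B i) := by
  let _ : Algebra (C h) (B i) := (psi h ht i).toRingHom.toAlgebra
  have hpsi : ∀ c : C h, algebraMap (C h) (B i) c = psi h ht i c := fun _ => rfl
  have _ : IsScalarTower A (C h) (B i) :=
    IsScalarTower.of_algebraMap_eq fun a => ((psi h ht i).commutes a).symm
  have hloc : IsLocalization (Algebra.algebraMapSubmonoid (C h) (q i).primeCompl) (B i) := by
    refine ⟨?_, ?_, ?_⟩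
    · rintro ⟨y, s, hs, rfl⟩
      simp only
      rw [← IsScalarTower.algebraMap_apply, IsScalarTower.algebraMap_apply A
        (Localization.AtPrime (q i)) (B i)]
      exact (IsLocalization.map_units (Localization.AtPrime (q i))
        (⟨s, hs⟩ : (q i).primeCompl)).map _
    · intro b
      obtain ⟨c, s, hs, e⟩ := exists_psi_eq_smul h ht hav i b
      refine ⟨⟨c, ⟨algebraMap A (C h) s, s, hs, rfl⟩⟩, ?_⟩
      simp only
      rw [← IsScalarTower.algebraMap_apply, hpsi, e, Algebra.smul_def, mul_comm]
    · intro x y hxy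
      rw [hpsi, hpsi] at hxy
      have e1 : algebraMap A (Localization.AtPrime (q i)) (toA h ht x) =
          algebraMap A (Localization.AtPrime (q i)) (toA h ht y) := by
        rw [← phi_psi, ← phi_psi, hxy]
      obtain ⟨s, hs⟩ := IsLocalization.exists_of_eq (M := (q i).primeCompl) e1
      refine ⟨⟨algebraMap A (C h) s, s, s.2, rfl⟩, ?_⟩
      simp only
      apply toA_injective h ht
      rw [← Algebra.smul_def, ← Algebra.smul_def, map_smul, map_smul, smul_eq_mul, smul_eq_mul,
        hs]
  have hpo : Algebra.IsPushout A (C h) (Localization.AtPrime (q i)) (B i) :=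
    (Algebra.isLocalization_iff_isPushout (q i).primeCompl (Localization.AtPrime (q i))).mp hloc
  have hpo' : Algebra.IsPushout A (Localization.AtPrime (q i)) (C h) (B i) := hpo.symm
  exact ⟨Algebra.IsPushout.equiv A (Localization.AtPrime (q i)) (C h) (B i)⟩

end Surj

end Groth.Agent.Lib.GlueHtOne61
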