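/-
Lib/GluePairFP (helper25): finite presentation descends along a glueing pair (for flat algebras).
* ker_awayMap_fg, exists_finset_map_eq, exists_finset_pow_mul_mem : localization part.
* finitePresentation_of_glueing : QuotPowBijective A A' a, B flat f.t. A-algebra, A'⊗B f.p. over A', B_a f.p. over A_a ==> B f.p. over A.
* finitePresentation_tensorMap_iff : (R'⊗A -> R'⊗B).FinitePresentation <-> Algebra.FinitePresentation (R'⊗A) ((R'⊗A)⊗[A]B).
* flat_finitePresentation_iff : statement of S10723.
-/
import Groth.Agent.Lib.GlueAlgFlat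
import Groth.Agent.Lib.EtGlueFinite
import Groth.Agent.Lib.FlatKer
import Mathlib.RingTheory.RingHom.FinitePresentation
import Mathlib.RingTheory.Localization.Away.AdjoinRoot
import Mathlib.RingTheory.Localization.Finiteness

set_option autoImplicit false
set_option linter.style.haveILetI false
universe u
open TensorProduct

namespace Groth.Agent.Lib.GluePairFP

section away

variable {A B P : Type u} [CommRing A] [CommRing B] [CommRing P] [Algebra A B] [Algebra A P]
  [Algebra.FiniteType A P]

/-- If `A_a → B_a` is of finite presentation and `π : P → B` is a surjection from a finite type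
`A`-algebra, then the kernel of `P_a → B_a` is finitely generated. -/
theorem ker_awayMap_fg (π : P →ₐ[A] B) (hπ : Function.Surjective π) (a : A)
    (h : (Localization.awayMap (algebraMap A B) a).FinitePresentation) :
    (RingHom.ker (Localization.awayMap π.toRingHom (algebraMap A P a))).FG := by
  set aP : P := algebraMap A P a with haP
  have hb : π.toRingHom aP = algebraMap A B a := π.commutes a
  -- transport `h` to the target `Localization.Away (π aP)`
  have h' : ∀ (b : B) (hb : b = algebraMap A B a),
      (letI : IsLocalization.Away (algebraMap A B a) (Localization.Away b) := by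
          rw [hb]; infer_instance
        (IsLocalization.Away.map (Localization.Away a) (Localization.Away b)
          (algebraMap A B) a).FinitePresentation) := by
    intro b hb
    subst hb
    exact h
  have h2 := h' (π.toRingHom aP) hb
  letI : IsLocalization.Away (algebraMap A B a) (Localization.Away (π.toRingHom aP)) := by
    rw [hb]; infer_instance
  let Aa := Localization.Away a
  let Pa := Localization.Away aP
  let Ba := Localization.Away (π.toRingHom aP)
  let g : Aa →+* Ba := IsLocalization.Away.map Aa Ba (algebraMap A B) a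
  let ψ : Pa →+* Ba := Localization.awayMap π.toRingHom aP
  have hg : g.FinitePresentation := h2
  -- `A → A_a` is f.p.
  have h3 : (algebraMap A Aa).FinitePresentation := by
    rw [RingHom.finitePresentation_algebraMap]
    exact IsLocalization.Away.finitePresentation a
  have h4 : (g.comp (algebraMap A Aa)).FinitePresentation := hg.comp h3
  -- `A → P_a` is f.t.
  have h5 : (algebraMap A Pa).FiniteType := by
    have h6 : (algebraMap P Pa).FiniteType := by
      rw [RingHom.finiteType_algebraMap]
      exact IsLocalization.finiteType_of_monoid_fg (Submonoid.powers aP) Pa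
    have h7 : (algebraMap A P).FiniteType := by
      rw [RingHom.finiteType_algebraMap]
      infer_instance
    have : algebraMap A Pa = (algebraMap P Pa).comp (algebraMap A P) :=
      IsScalarTower.algebraMap_eq A P Pa
    rw [this]
    exact h6.comp h7
  have hcomp : ψ.comp (algebraMap A Pa) = g.comp (algebraMap A Aa) := by
    ext x
    simp only [RingHom.comp_apply]
    rw [IsScalarTower.algebraMap_apply A P Pa]
    change Localization.awayMap π.toRingHom aP (algebraMap P Pa (algebraMap A P x)) =
      IsLocalization.Away.map Aa Ba (algebraMap A B) a (algebraMap A Aa x)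
    rw [Localization.awayMap, IsLocalization.Away.map, IsLocalization.map_eq,
      IsLocalization.Away.map, IsLocalization.map_eq]
    congr 1
    exact π.commutes x
  have hψ : ψ.FinitePresentation := by
    apply RingHom.FinitePresentation.of_comp_finiteType (algebraMap A Pa) _ h5
    rw [hcomp]
    exact h4
  have hψs : Function.Surjective ψ :=
    IsLocalization.map_surjective_of_surjective _ _ _ hπ
  algebraize [ψ]
  have : Algebra.FinitePresentation Pa Ba := hψ
  have := Algebra.FinitePresentation.ker_fG_of_surjective (Algebra.ofId Pa Ba) hψs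
  exact this

/-- If the extension of an ideal `J` along `g` is finitely generated, it is generated by the image
of a finite subset of `J`. -/
theorem exists_finset_map_eq {P Q : Type u} [CommRing P] [CommRing Q] (g : P →+* Q) (J : Ideal P)
    (h : (J.map g).FG) :
    ∃ t : Finset P, (t : Set P) ⊆ J ∧ J.map g = (Ideal.span (t : Set P)).map g := by
  classical
  have h1 : (Submodule.span Q (g '' (J : Set P))).FG := h
  obtain ⟨s', hs', hspan⟩ := (Submodule.fg_span_iff_fg_span_finset_subset _).mp h1
  obtain ⟨t, ht, rfl⟩ := Finset.subset_set_image_iff.mp hs'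
  refine ⟨t, ht, ?_⟩
  rw [Ideal.map_span]
  change Submodule.span Q (g '' (J : Set P)) = _
  rw [hspan, Finset.coe_image]

/-- Consequence of `ker_awayMap_fg`: a finite subset of `ker π` generating it up to powers of `a`. -/
theorem exists_finset_pow_mul_mem (π : P →ₐ[A] B) (hπ : Function.Surjective π) (a : A)
    (h : (Localization.awayMap (algebraMap A B) a).FinitePresentation) :
    ∃ t : Finset P, (t : Set P) ⊆ RingHom.ker π.toRingHom ∧
      ∀ j ∈ RingHom.ker π.toRingHom, ∃ k : ℕ, algebraMap A P a ^ k * j ∈ Ideal.span (t : Set P) := by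
  have h1 := ker_awayMap_fg π hπ a h
  set aP : P := algebraMap A P a with haP
  have hker : RingHom.ker (Localization.awayMap π.toRingHom aP) =
      (RingHom.ker π.toRingHom).map (algebraMap P (Localization.Away aP)) :=
    IsLocalization.ker_map (Localization.Away (π.toRingHom aP)) π.toRingHom
      (Submonoid.map_powers π.toRingHom aP)
  rw [hker] at h1
  obtain ⟨t, ht, hmap⟩ := exists_finset_map_eq _ _ h1
  refine ⟨t, ht, fun j hj => ?_⟩
  have hj' : algebraMap P (Localization.Away aP) j ∈
      (Ideal.span (t : Set P)).map (algebraMap P (Localization.Away aP)) := by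
    rw [← hmap]
    exact Ideal.mem_map_of_mem _ hj
  rw [IsLocalization.mem_map_algebraMap_iff (Submonoid.powers aP)] at hj'
  obtain ⟨⟨⟨i, hi⟩, ⟨_, k, rfl⟩⟩, hik⟩ := hj'
  rw [← map_mul] at hik
  obtain ⟨⟨_, l, rfl⟩, hl⟩ := (IsLocalization.eq_iff_exists (Submonoid.powers aP) _).mp hik
  refine ⟨l + k, ?_⟩
  have : aP ^ (l + k) * j = aP ^ l * i := by
    rw [pow_add, mul_assoc, mul_comm (aP ^ k) j]
    exact hl
  rw [this]
  exact Ideal.mul_mem_left _ _ hi

end away

section main

open Groth.Agent.Lib.EtGlueQuot

variable {A A' : Type u} [CommRing A] [CommRing A'] [Algebra A A'] {a : A}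
variable {B : Type u} [CommRing B] [Algebra A B]

/-- **Finite presentation descends along a glueing pair** for flat algebras of finite type. -/
theorem finitePresentation_of_glueing (hq : EtGlue.QuotPowBijective A A' a)
    [Module.Flat A B] [Algebra.FiniteType A B]
    (h1 : Algebra.FinitePresentation A' (A' ⊗[A] B))
    (h2 : (Localization.awayMap (algebraMap A B) a).FinitePresentation) :
    Algebra.FinitePresentation A B := by
  classical
  obtain ⟨n, π, hπ⟩ := Algebra.FiniteType.iff_quotient_mvPolynomial''.mp
    (inferInstance : Algebra.FiniteType A B)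
  let P := MvPolynomial (Fin n) A
  obtain ⟨t₁, ht₁, hpow⟩ := exists_finset_pow_mul_mem π hπ a h2
  -- the tensor part
  let π'' : A' ⊗[A] P →ₐ[A'] A' ⊗[A] B := Algebra.TensorProduct.map (AlgHom.id A' A') π
  have hπ'' : Function.Surjective π'' := by
    have : Function.Surjective (LinearMap.lTensor A' π.toLinearMap) :=
      LinearMap.lTensor_surjective A' hπ
    exact this
  have hfg : (RingHom.ker π''.toRingHom).FG :=
    Algebra.FinitePresentation.ker_fG_of_surjective π'' hπ''
  have hker' : RingHom.ker π''.toRingHom =
      (RingHom.ker π.toRingHom).map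
        (Algebra.TensorProduct.includeRight : P →ₐ[A] A' ⊗[A] P).toRingHom :=
    Algebra.TensorProduct.lTensor_ker (A := A') π hπ
  rw [hker'] at hfg
  obtain ⟨t₂, ht₂, hmap⟩ := exists_finset_map_eq _ _ hfg
  -- the glueing
  set J : Ideal P := RingHom.ker π.toRingHom with hJ
  let J₀ : Ideal P := Ideal.span ((t₁ ∪ t₂ : Finset P) : Set P)
  have hJ₀ : J₀ ≤ J := by
    rw [Ideal.span_le, Finset.coe_union]
    exact Set.union_subset ht₁ ht₂
  suffices hle : J ≤ J₀ by
    have hfgJ : J.FG := by
      rw [le_antisymm hle hJ₀]
      exact ⟨t₁ ∪ t₂, rfl⟩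
    exact Algebra.FinitePresentation.of_surjective hπ hfgJ
  intro j hj
  let fbar : (P ⧸ J₀) →ₐ[A] B := Ideal.Quotient.liftₐ J₀ π (fun x hx => hJ₀ hx)
  have hfbar : Function.Surjective fbar.toLinearMap := by
    intro b
    obtain ⟨p, rfl⟩ := hπ b
    exact ⟨Ideal.Quotient.mk J₀ p, rfl⟩
  let N : Submodule A (P ⧸ J₀) := LinearMap.ker fbar.toLinearMap
  have hN : ∀ x : N, ∃ k : ℕ, a ^ k • x = 0 := by
    rintro ⟨x, hx⟩
    obtain ⟨p, rfl⟩ := Ideal.Quotient.mk_surjective x
    have hp : p ∈ J := hx
    obtain ⟨k, hk⟩ := hpow p hp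
    refine ⟨k, Subtype.ext ?_⟩
    change a ^ k • Ideal.Quotient.mk J₀ p = 0
    have hsm : a ^ k • Ideal.Quotient.mk J₀ p = Ideal.Quotient.mk J₀ (a ^ k • p) := rfl
    rw [hsm, Algebra.smul_def, map_pow, Ideal.Quotient.eq_zero_iff_mem]
    exact Ideal.span_mono (by rw [Finset.coe_union]; exact Set.subset_union_left) hk
  let q : N := ⟨Ideal.Quotient.mk J₀ j, hj⟩
  have hinj : Function.Injective (N.subtype.lTensor A') := by
    rw [LinearMap.lTensor_inj_iff_rTensor_inj]
    exact Groth.Agent.Lib.FlatKer.rTensor_subtype_ker_injective fbar.toLinearMap hfbar A'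
  have hq0 : (1 : A') ⊗ₜ[A] q = 0 := by
    apply hinj
    rw [map_zero, LinearMap.lTensor_tmul]
    change (1 : A') ⊗ₜ[A] (Ideal.Quotient.mk J₀ j) = 0
    let ρ : A' ⊗[A] P →ₐ[A] A' ⊗[A] (P ⧸ J₀) :=
      Algebra.TensorProduct.map (AlgHom.id A A') (Ideal.Quotient.mkₐ A J₀)
    have hρ : J₀.map (Algebra.TensorProduct.includeRight : P →ₐ[A] A' ⊗[A] P).toRingHom ≤
        RingHom.ker ρ.toRingHom := by
      rw [Ideal.map_le_iff_le_comap]
      intro x hx
      rw [Ideal.mem_comap, RingHom.mem_ker]
      change ρ ((1 : A') ⊗ₜ[A] x) = 0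
      rw [Algebra.TensorProduct.map_tmul, Ideal.Quotient.mkₐ_eq_mk,
        Ideal.Quotient.eq_zero_iff_mem.mpr hx, tmul_zero]
    have hmem : (1 : A') ⊗ₜ[A] j ∈
        J₀.map (Algebra.TensorProduct.includeRight : P →ₐ[A] A' ⊗[A] P).toRingHom := by
      have h3 : (1 : A') ⊗ₜ[A] j ∈
          J.map (Algebra.TensorProduct.includeRight : P →ₐ[A] A' ⊗[A] P).toRingHom :=
        Ideal.mem_map_of_mem _ hj
      rw [hmap] at h3
      exact Ideal.map_mono (Ideal.span_mono (by rw [Finset.coe_union]; exact Set.subset_union_right)) h3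
    have := hρ hmem
    rw [RingHom.mem_ker] at this
    change ρ ((1 : A') ⊗ₜ[A] j) = 0 at this
    rw [Algebra.TensorProduct.map_tmul] at this
    exact this
  have hq1 : q = 0 := eq_zero_of_one_tmul_eq_zero hq N hN q hq0
  have : Ideal.Quotient.mk J₀ j = 0 := congrArg Subtype.val hq1
  exact Ideal.Quotient.eq_zero_iff_mem.mp this

end main

section algebras

attribute [local instance] Algebra.TensorProduct.rightAlgebra

variable {R : Type u} [CommRing R] {R' : Type u} [CommRing R'] [Algebra R R'] {f : R}
variable {A B : Type u} [CommRing A] [Algebra R A] [CommRing B] [Algebra R B]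

/-- Translation for the tensor part: `R' ⊗ A → R' ⊗ B` is of finite presentation iff
`(R' ⊗ A) ⊗_A B` is finitely presented over `R' ⊗ A`. -/
theorem finitePresentation_tensorMap_iff (φ : A →ₐ[R] B) :
    (Algebra.TensorProduct.map (AlgHom.id R R') φ).toRingHom.FinitePresentation ↔
      (letI : Algebra A B := φ.toRingHom.toAlgebra
       Algebra.FinitePresentation (R' ⊗[R] A) ((R' ⊗[R] A) ⊗[A] B)) := by
  have heq : (Algebra.TensorProduct.map (AlgHom.id R R') φ).toRingHom =
      (Algebra.TensorProduct.lTensor (S := R') R' φ).toRingHom := by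
    apply RingHom.ext
    intro x
    rfl
  rw [heq]
  algebraize [φ.toRingHom, (Algebra.TensorProduct.lTensor (S := R') R' φ).toRingHom]
  let e : R' ⊗[R] B ≃ₐ[R' ⊗[R] A] (R' ⊗[R] A) ⊗[A] B :=
    { __ := (Algebra.IsPushout.cancelBaseChangeAlg _ _ _ _ _).symm,
      commutes' x := congr($(Algebra.IsPushout.cancelBaseChange_symm_comp_lTensor R A B R') x) }
  change Algebra.FinitePresentation (R' ⊗[R] A) (R' ⊗[R] B) ↔ _
  exact ⟨fun h => .equiv e, fun h => .equiv e.symm⟩

/-- **Glueing pairs detect flat ring maps of finite presentation** between glueable algebras. -/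
theorem flat_finitePresentation_iff (hRR' : EtGlue.IsGlueingPair R R' f)
    (hA : EtGlue.IsGlueable R R' f A) (φ : A →ₐ[R] B) :
    (φ.toRingHom.Flat ∧ φ.toRingHom.FinitePresentation) ↔
      ((Localization.awayMap φ.toRingHom (algebraMap R A f)).Flat ∧
        (Localization.awayMap φ.toRingHom (algebraMap R A f)).FinitePresentation) ∧
      ((Algebra.TensorProduct.map (AlgHom.id R R') φ).toRingHom.Flat ∧
        (Algebra.TensorProduct.map (AlgHom.id R R') φ).toRingHom.FinitePresentation) := by
  have hflat := Groth.Agent.Lib.GlueAlgFlat.flat_iff hRR' hA φ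
  constructor
  · rintro ⟨h1, h2⟩
    obtain ⟨h3, h4⟩ := hflat.mp h1
    refine ⟨⟨h3, ?_⟩, h4, ?_⟩
    · exact RingHom.finitePresentation_localizationPreserves.away φ.toRingHom
        (algebraMap R A f) _ _ h2
    · rw [finitePresentation_tensorMap_iff]
      letI : Algebra A B := φ.toRingHom.toAlgebra
      have : Algebra.FinitePresentation A B := h2
      infer_instance
  · rintro ⟨⟨h1, h2⟩, h3, h4⟩
    have hfl : φ.toRingHom.Flat := hflat.mpr ⟨h1, h3⟩
    refine ⟨hfl, ?_⟩
    have hft : φ.toRingHom.FiniteType :=
      (Groth.Agent.Lib.EtGlueFinite.finiteType_iff hRR'.1 φ).mpr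
        ⟨RingHom.FiniteType.of_finitePresentation h2, RingHom.FiniteType.of_finitePresentation h4⟩
    rw [finitePresentation_tensorMap_iff] at h4
    letI : Algebra A B := φ.toRingHom.toAlgebra
    have : Module.Flat A B := hfl
    have : Algebra.FiniteType A B := hft
    exact finitePresentation_of_glueing
      (Groth.Agent.Lib.GlueableAlg.quotPowBijective A hRR'.1) h4 h2

end algebras

end Groth.Agent.Lib.GluePairFP
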