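/-
Lib/GluePairEtale (helper25): etale ring maps are detected by a glueing pair.
* formallyUnramified_of_glueing : QuotPowBijective A A' a, A'⊗B formally unramified over A', A_a -> B_a formally unramified ==> B formally unramified over A (via Kaehler differentials).
* formallyUnramified_tensorMap_iff, etale_iff (= statement of S10724).
-/
import Groth.Agent.Lib.GluePairFP
import Mathlib.RingTheory.RingHom.Etale
import Mathlib.RingTheory.Etale.Kaehler
import Mathlib.RingTheory.Kaehler.TensorProduct

set_option autoImplicit false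
set_option linter.style.haveILetI false
universe u
open TensorProduct

namespace Groth.Agent.Lib.GluePairEtale

open Groth.Agent.Lib.EtGlueQuot

attribute [local instance] Algebra.TensorProduct.rightAlgebra

section unram

variable {A A' : Type u} [CommRing A] [CommRing A'] [Algebra A A'] {a : A}
variable {B : Type u} [CommRing B] [Algebra A B]

/-- Formal unramifiedness descends along a glueing pair. -/
theorem formallyUnramified_of_glueing (hq : EtGlue.QuotPowBijective A A' a)
    (h1 : Algebra.FormallyUnramified A' (A' ⊗[A] B))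
    (h2 : (Localization.awayMap (algebraMap A B) a).FormallyUnramified) :
    Algebra.FormallyUnramified A B := by
  -- the tensor part
  have hs1 : Subsingleton (A' ⊗[A] Ω[B⁄A]) :=
    (KaehlerDifferential.tensorKaehlerEquivBase A A' B (A' ⊗[A] B)).toEquiv.subsingleton
  -- the localization part
  let Aa := Localization.Away a
  let Ba := Localization.Away (algebraMap A B a)
  let g : Aa →+* Ba := Localization.awayMap (algebraMap A B) a
  have h3 : (algebraMap A Aa).FormallyUnramified :=
    RingHom.FormallyUnramified.holdsForLocalizationAway _ a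
  have h4 : (g.comp (algebraMap A Aa)).FormallyUnramified := h3.comp h2
  have hcomp : g.comp (algebraMap A Aa) = algebraMap A Ba := by
    ext x
    simp only [RingHom.comp_apply]
    change Localization.awayMap (algebraMap A B) a (algebraMap A Aa x) = _
    rw [Localization.awayMap, IsLocalization.Away.map, IsLocalization.map_eq,
      IsScalarTower.algebraMap_apply A B Ba]
  rw [hcomp, RingHom.formallyUnramified_algebraMap] at h4
  have hs2 : Subsingleton Ω[Ba⁄A] := h4.subsingleton_kaehlerDifferential
  have htors : ∀ ω : Ω[B⁄A], ∃ k : ℕ, a ^ k • ω = 0 := by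
    intro ω
    have hloc : IsLocalizedModule (Submonoid.powers (algebraMap A B a))
        (KaehlerDifferential.map A A B Ba) := inferInstance
    have heq : KaehlerDifferential.map A A B Ba ω = KaehlerDifferential.map A A B Ba 0 :=
      Subsingleton.elim _ _
    obtain ⟨⟨_, k, rfl⟩, hc⟩ := IsLocalizedModule.exists_of_eq
      (S := Submonoid.powers (algebraMap A B a)) heq
    refine ⟨k, ?_⟩
    rw [Submonoid.smul_def, smul_zero] at hc
    rw [← algebraMap_smul B, map_pow]
    exact hc
  refine ⟨⟨fun x y => ?_⟩⟩
  have hx : x = 0 := eq_zero_of_one_tmul_eq_zero hq Ω[B⁄A] htors x (Subsingleton.elim _ _)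
  have hy : y = 0 := eq_zero_of_one_tmul_eq_zero hq Ω[B⁄A] htors y (Subsingleton.elim _ _)
  rw [hx, hy]

end unram

section algebras

variable {R : Type u} [CommRing R] {R' : Type u} [CommRing R'] [Algebra R R'] {f : R}
variable {A B : Type u} [CommRing A] [Algebra R A] [CommRing B] [Algebra R B]

/-- Translation for the tensor part: `R' ⊗ A → R' ⊗ B` is formally unramified iff
`(R' ⊗ A) ⊗_A B` is formally unramified over `R' ⊗ A`. -/
theorem formallyUnramified_tensorMap_iff (φ : A →ₐ[R] B) :
    (Algebra.TensorProduct.map (AlgHom.id R R') φ).toRingHom.FormallyUnramified ↔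
      (letI : Algebra A B := φ.toRingHom.toAlgebra
       Algebra.FormallyUnramified (R' ⊗[R] A) ((R' ⊗[R] A) ⊗[A] B)) := by
  have heq : (Algebra.TensorProduct.map (AlgHom.id R R') φ).toRingHom =
      (Algebra.TensorProduct.lTensor (S := R') R' φ).toRingHom := by
    apply RingHom.ext
    intro x
    rfl
  rw [heq]
  algebraize [φ.toRingHom, (Algebra.TensorProduct.lTensor (S := R') R' φ).toRingHom]
  let e : R' ⊗[R] B ≃ₐ[R' ⊗[R] A] (R' ⊗[R] A) ⊗[A] B :=
    { __ := (Algebra.IsPushout.cancelBaseChangeAlg _ _ _ _ _).symm,
      commutes' x := congr($(Algebra.IsPushout.cancelBaseChange_symm_comp_lTensor R A B R') x) }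
  change Algebra.FormallyUnramified (R' ⊗[R] A) (R' ⊗[R] B) ↔ _
  exact ⟨fun h => .of_equiv e, fun h => .of_equiv e.symm⟩

/-- **Glueing pairs detect etale ring maps** between glueable algebras. -/
theorem etale_iff (hRR' : EtGlue.IsGlueingPair R R' f)
    (hA : EtGlue.IsGlueable R R' f A) (φ : A →ₐ[R] B) :
    φ.toRingHom.Etale ↔ (Localization.awayMap φ.toRingHom (algebraMap R A f)).Etale ∧
      (Algebra.TensorProduct.map (AlgHom.id R R') φ).toRingHom.Etale := by
  simp only [RingHom.Etale.iff_flat_and_formallyUnramified]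
  have hffp := Groth.Agent.Lib.GluePairFP.flat_finitePresentation_iff hRR' hA φ
  constructor
  · rintro ⟨h1, h2, h3⟩
    obtain ⟨⟨h4, h5⟩, h6, h7⟩ := hffp.mp ⟨h1, h3⟩
    refine ⟨⟨h4, ?_, h5⟩, h6, ?_, h7⟩
    · exact RingHom.FormallyUnramified.propertyIsLocal.localizationAwayPreserves φ.toRingHom
        (algebraMap R A f) _ _ h2
    · rw [formallyUnramified_tensorMap_iff]
      letI : Algebra A B := φ.toRingHom.toAlgebra
      have : Algebra.FormallyUnramified A B := h2
      infer_instance
  · rintro ⟨⟨h1, h2, h3⟩, h4, h5, h6⟩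
    obtain ⟨h7, h8⟩ := hffp.mpr ⟨⟨h1, h3⟩, h4, h6⟩
    refine ⟨h7, ?_, h8⟩
    rw [formallyUnramified_tensorMap_iff] at h5
    letI : Algebra A B := φ.toRingHom.toAlgebra
    exact formallyUnramified_of_glueing
      (Groth.Agent.Lib.GlueableAlg.quotPowBijective A hRR'.1) h5 h2

end algebras

end Groth.Agent.Lib.GluePairEtale
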