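/-
Lib/GluePairProj (helper25): finite presentation descent for a glueing pair.
* injective_lTensor_of_glueingPair : 0->K->F->M->0 exact, M_f flat  ==>  R'⊗K -> R'⊗F injective.
* finite_ker_of_glueingPair : kernel of a presentation F ->> M (F finite) is finite if R'⊗M, M_f are f.p. and M_f flat.
-/
import Groth.Agent.Lib.GluePairFlat
import Groth.Agent.S2006
import Mathlib.RingTheory.Flat.EquationalCriterion
import Mathlib.Algebra.Module.FinitePresentation

set_option autoImplicit false
universe u
open CategoryTheory MonoidalCategory Limits TensorProduct

namespace Groth.Agent.Lib.GluePairProj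

open Groth.Agent.Lib.TorLES Groth.Agent.Lib.TorBalance Groth.Agent.Lib.GluePairFlat

variable {R R' : Type u} [CommRing R] [CommRing R'] [Algebra R R'] {f : R}
variable (M : Type u) [AddCommGroup M] [Module R M]

/-- For a glueing pair and `M_f` flat: tensoring an injection with cokernel `M` with `R'` stays
injective. -/
theorem injective_lTensor_of_glueingPair (hRR : EtGlue.IsGlueingPair R R' f)
    (hMf : Module.Flat (Localization.Away f) (LocalizedModule (Submonoid.powers f) M))
    {K F : Type u} [AddCommGroup K] [Module R K] [AddCommGroup F] [Module R F]
    (i : K →ₗ[R] F) (p : F →ₗ[R] M) (hi : Function.Injective i) (hp : Function.Surjective p)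
    (hex : Function.Exact i p) : Function.Injective (i.lTensor R') := by
  rw [LinearMap.lTensor_inj_iff_rTensor_inj]
  have hzero : ModuleCat.ofHom i ≫ ModuleCat.ofHom p = 0 :=
    ModuleCat.hom_ext (LinearMap.ext fun x => hex.apply_apply_eq_zero x)
  let S : ShortComplex (ModuleCat.{u} R) :=
    ShortComplex.mk (ModuleCat.ofHom i) (ModuleCat.ofHom p) hzero
  have hS : S.ShortExact := ModuleCat.shortComplex_shortExact S hex hi hp
  have h0 : IsZero (((Tor (ModuleCat.{u} R) 1).obj S.X₃).obj (ModuleCat.of R R')) :=
    isZero_tor_symm (isZero_tor_algebra M hRR hMf 0)
  have hexφ := Groth.Agent.Lib.TorOne.phi_exact hS (ModuleCat.of R R')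
  have hm : Mono (S.f ▷ ModuleCat.of R R') := hexφ.mono_g (h0.eq_of_src _ _)
  exact (ModuleCat.mono_iff_injective _).mp hm

/-- The kernel of a presentation of `M` by a finite free module is finitely generated, for a
glueing pair, when `R' ⊗ M` and `M_f` are finitely presented and `M_f` is flat. -/
theorem finite_ker_of_glueingPair (hRR : EtGlue.IsGlueingPair R R' f)
    (hMf : Module.Flat (Localization.Away f) (LocalizedModule (Submonoid.powers f) M))
    [Module.FinitePresentation R' (R' ⊗[R] M)]
    [Module.FinitePresentation (Localization.Away f) (LocalizedModule (Submonoid.powers f) M)]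
    {F : Type u} [AddCommGroup F] [Module R F] [Module.Finite R F]
    (p : F →ₗ[R] M) (hp : Function.Surjective p) : Module.Finite R (LinearMap.ker p) := by
  let K := LinearMap.ker p
  have hex : Function.Exact K.subtype p := LinearMap.exact_subtype_ker_map p
  rw [Groth.Agent.S2006.result R R' f hRR.1 K]
  constructor
  · -- R' ⊗ K
    have hinj : Function.Injective (K.subtype.baseChange R') :=
      injective_lTensor_of_glueingPair M hRR hMf K.subtype p K.injective_subtype hp hex
    have hex' : Function.Exact (K.subtype.baseChange R') (p.baseChange R') :=
      lTensor_exact R' hex hp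
    have hsurj : Function.Surjective (p.baseChange R') := LinearMap.lTensor_surjective R' hp
    have hfg : (LinearMap.ker (p.baseChange R')).FG :=
      Module.FinitePresentation.fg_ker (p.baseChange R') hsurj
    have hrange : LinearMap.range (K.subtype.baseChange R') = LinearMap.ker (p.baseChange R') :=
      (LinearMap.exact_iff.mp hex').symm
    rw [← hrange] at hfg
    have : Module.Finite R' (LinearMap.range (K.subtype.baseChange R')) :=
      Module.Finite.iff_fg.mpr hfg
    exact Module.Finite.equiv (LinearEquiv.ofInjective (K.subtype.baseChange R') hinj).symm
  · -- K_f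
    let S := Submonoid.powers f
    have hinj : Function.Injective (LocalizedModule.map S K.subtype) :=
      LocalizedModule.map_injective S K.subtype K.injective_subtype
    have hsurj : Function.Surjective (LocalizedModule.map S p) :=
      LocalizedModule.map_surjective S p hp
    have hex' : Function.Exact (LocalizedModule.map S K.subtype) (LocalizedModule.map S p) :=
      LocalizedModule.map_exact S K.subtype p hex
    have hfg : (LinearMap.ker (LocalizedModule.map S p)).FG :=
      Module.FinitePresentation.fg_ker (LocalizedModule.map S p) hsurj
    have hrange : LinearMap.range (LocalizedModule.map S K.subtype) =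
        LinearMap.ker (LocalizedModule.map S p) :=
      (LinearMap.exact_iff.mp hex').symm
    rw [← hrange] at hfg
    have : Module.Finite (Localization.Away f) (LinearMap.range (LocalizedModule.map S K.subtype)) :=
      Module.Finite.iff_fg.mpr hfg
    exact Module.Finite.equiv (LinearEquiv.ofInjective (LocalizedModule.map S K.subtype) hinj).symm

end Groth.Agent.Lib.GluePairProj
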