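import Groth.Agent.Lib.TorBalance
import Groth.Agent.Lib.EtGlueQuot
import Groth.Prelude.Def_DRing2
import Mathlib.Algebra.Homology.ShortComplex.ModuleCat
import Mathlib.RingTheory.Flat.Basic
import Mathlib.RingTheory.Localization.BaseChange
import Mathlib.RingTheory.Flat.Localization
import Mathlib.RingTheory.Localization.Away.Basic

/-!
# Tor_1 vanishing criteria via short exact sequences (helper25)

* `subsingleton_tor_one_of_ses`: for `0 → K → F → Q → 0` exact with `F` flat, if
  `K ⊗ N → F ⊗ N` is injective then `Tor_1(N, Q) = 0` (Mathlib's `Tor`, resolving `Q`).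
-/

set_option autoImplicit false

universe u

open CategoryTheory MonoidalCategory Limits TensorProduct

namespace Groth.Agent.Lib.GluePairTor

open Groth.Agent.Lib.TorLES Groth.Agent.Lib.TorBalance Groth.Agent.Lib.EtGlueQuot

variable {R : Type u} [CommRing R]

/-- For `0 → K → F → Q → 0` exact with `F` flat, if `K ⊗ N → F ⊗ N` is injective then
`Tor_1(N, Q) = 0`. -/
theorem isZero_tor_one_of_ses {K F Q N : Type u} [AddCommGroup K] [Module R K] [AddCommGroup F]
    [Module R F] [AddCommGroup Q] [Module R Q] [AddCommGroup N] [Module R N] [Module.Flat R F]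
    (i : K →ₗ[R] F) (p : F →ₗ[R] Q) (hi : Function.Injective i) (hp : Function.Surjective p)
    (hex : Function.Exact i p) (hinj : Function.Injective (LinearMap.rTensor N i)) :
    IsZero (((Tor (ModuleCat.{u} R) 1).obj (ModuleCat.of R N)).obj (ModuleCat.of R Q)) := by
  have hzero : ModuleCat.ofHom i ≫ ModuleCat.ofHom p = 0 := by
    ext x
    exact hex.apply_apply_eq_zero x
  let S : ShortComplex (ModuleCat.{u} R) := ShortComplex.mk (ModuleCat.ofHom i) (ModuleCat.ofHom p) hzero
  have hS : S.ShortExact := ModuleCat.shortComplex_shortExact S hex hi hp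
  have : Module.Flat R S.X₂ := inferInstanceAs (Module.Flat R F)
  have e := torOneIsoKernel hS (ModuleCat.of R N)
  have hm : Mono (S.f ▷ ModuleCat.of R N) := by
    rw [ModuleCat.mono_iff_injective]
    exact hinj
  have hz : IsZero (kernel (S.f ▷ ModuleCat.of R N)) := isZero_kernel_of_mono _
  have h1 : IsZero (((Tor (ModuleCat.{u} R) 1).obj (ModuleCat.of R Q)).obj (ModuleCat.of R N)) :=
    hz.of_iso e
  exact isZero_tor_symm h1

theorem subsingleton_tor_one_of_ses {K F Q N : Type u} [AddCommGroup K] [Module R K] [AddCommGroup F]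
    [Module R F] [AddCommGroup Q] [Module R Q] [AddCommGroup N] [Module R N] [Module.Flat R F]
    (i : K →ₗ[R] F) (p : F →ₗ[R] Q) (hi : Function.Injective i) (hp : Function.Surjective p)
    (hex : Function.Exact i p) (hinj : Function.Injective (LinearMap.rTensor N i)) :
    Subsingleton (DRing.Tor R 1 N Q) :=
  ModuleCat.subsingleton_of_isZero (isZero_tor_one_of_ses i p hi hp hex hinj)

section glue

variable {R' : Type u} [CommRing R'] [Algebra R R'] {f : R}


theorem exists_tmul_one_eq (hq : EtGlue.QuotPowBijective R R' f) (T : Type u) [AddCommGroup T]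
    [Module R T] (hT : ∀ x : T, ∃ k : ℕ, f ^ k • x = 0) (z : T ⊗[R] R') :
    ∃ t : T, z = t ⊗ₜ[R] (1 : R') := by
  induction z using TensorProduct.induction_on with
  | zero => exact ⟨0, (TensorProduct.zero_tmul _ _).symm⟩
  | tmul t r' =>
    obtain ⟨k, hk⟩ := hT t
    have hk' : f ^ (k + 1) • t = 0 := by rw [pow_succ, mul_comm, mul_smul, hk, smul_zero]
    obtain ⟨a, c, hac⟩ := quot_surj hq (k + 1) (Nat.succ_pos k) r'
    refine ⟨a • t, ?_⟩
    rw [hac, TensorProduct.tmul_add, ← map_pow, mul_comm, ← Algebra.smul_def,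
      TensorProduct.tmul_smul, TensorProduct.smul_tmul', hk', TensorProduct.zero_tmul, add_zero,
      Algebra.algebraMap_eq_smul_one, TensorProduct.tmul_smul, TensorProduct.smul_tmul']
  | add x y hx hy =>
    obtain ⟨s, rfl⟩ := hx
    obtain ⟨t, rfl⟩ := hy
    exact ⟨s + t, (TensorProduct.add_tmul _ _ _).symm⟩

theorem injective_rTensor_of_torsion (h : EtGlue.IsGlueingPair R R' f) {K : Type u}
    [AddCommGroup K] [Module R K] (i : K →ₗ[R] R) (hi : Function.Injective i)
    (hK : ∀ x : K, ∃ k : ℕ, f ^ k • x = 0) : Function.Injective (LinearMap.rTensor R' i) := by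
  rw [injective_iff_map_eq_zero]
  intro z hz
  obtain ⟨t, rfl⟩ := exists_tmul_one_eq h.1 K hK z
  rw [LinearMap.rTensor_tmul] at hz
  have h1 : algebraMap R R' (i t) = 0 := by
    have := congrArg (TensorProduct.lid R R') hz
    rw [TensorProduct.lid_tmul, map_zero] at this
    rw [Algebra.algebraMap_eq_smul_one]
    exact this
  obtain ⟨k, hk⟩ := hK t
  have h2 : algebraMap R (Localization.Away f) (i t) = 0 := by
    have hu : IsUnit (algebraMap R (Localization.Away f) (f ^ k)) := by
      rw [map_pow]
      exact (IsLocalization.Away.algebraMap_isUnit f).pow k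
    have h3 : algebraMap R (Localization.Away f) (f ^ k) * algebraMap R (Localization.Away f) (i t) = 0 := by
      rw [← map_mul, ← smul_eq_mul, ← map_smul, hk, map_zero, map_zero]
    exact (hu.mul_right_eq_zero).mp h3
  have h4 : i t = 0 := by
    apply h.2.1
    change (algebraMap R R' (i t), algebraMap R (Localization.Away f) (i t)) = (algebraMap R R' 0, algebraMap R (Localization.Away f) 0)
    rw [h1, h2, map_zero, map_zero]
  have h5 : t = 0 := hi (h4.trans (map_zero i).symm)
  rw [h5, TensorProduct.zero_tmul]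

/-- For a glueing pair and `0 → K → R → Q → 0` exact with `K` consisting of `f`-power torsion,
`Tor_1(R', Q) = 0`. -/
theorem subsingleton_tor_one_of_torsion_ker (h : EtGlue.IsGlueingPair R R' f) {K Q : Type u}
    [AddCommGroup K] [Module R K] [AddCommGroup Q] [Module R Q]
    (i : K →ₗ[R] R) (p : R →ₗ[R] Q) (hi : Function.Injective i) (hp : Function.Surjective p)
    (hex : Function.Exact i p) (hK : ∀ x : K, ∃ k : ℕ, f ^ k • x = 0) :
    Subsingleton (DRing.Tor R 1 R' Q) :=
  subsingleton_tor_one_of_ses i p hi hp hex (injective_rTensor_of_torsion h i hi hK)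

end glue

end Groth.Agent.Lib.GluePairTor
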