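import Groth.Agent.Lib.Giraud2
import Groth.Agent.Lib.SGA4EqRel
import Mathlib.CategoryTheory.Limits.Comma
import Mathlib.CategoryTheory.Limits.Preserves.Shapes.Pullbacks
import Mathlib.CategoryTheory.Limits.Preserves.Shapes.BinaryProducts
import Mathlib.CategoryTheory.Limits.Preserves.Finite

/-!
# Preliminaries for the gluing of topoi

* consequences of `SGA4.HasDisjointUniversalCoproducts` for arbitrary discrete diagrams;
* internal equivalence relations versus `SGA4.IsEquivRel`, and their images under left exact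
  functors;
* basic facts on comma categories `Comma L R`.
-/

set_option autoImplicit false
set_option linter.unusedSectionVars false
open CategoryTheory CategoryTheory.Limits Opposite
universe w v₁ v₂ v u

namespace Groth.Agent.Lib.GlueTopos

section HB

variable {B : Type v} [Category.{u} B] (hb : SGA4.HasDisjointUniversalCoproducts.{v, u} B)
  {ι : Type u} {F : Discrete ι ⥤ B} (c : Cocone F) (hc : IsColimit c)

include hb hc

/-- Under hypothesis (b), every colimit cocone of a small discrete diagram is universal. -/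
lemma isUniversalColimit_of_hb : IsUniversalColimit c := by
  obtain ⟨c₁, hc₁, _, hu⟩ := hb ι (F.obj ∘ Discrete.mk)
  have hu₂ : IsUniversalColimit ((Cocone.precompose Discrete.natIsoFunctor.hom).obj c₁) :=
    hu.precompose_isIso _
  have hc₂ : IsColimit ((Cocone.precompose Discrete.natIsoFunctor.hom).obj c₁) :=
    (IsColimit.precomposeHomEquiv Discrete.natIsoFunctor c₁).symm hc₁
  exact hu₂.of_iso (hc₂.uniqueUpToIso hc)

/-- The cofan attached to a cocone over a discrete diagram. -/
def cofanOfCocone : Cofan (F.obj ∘ Discrete.mk) := Cofan.mk c.pt (fun i => c.ι.app ⟨i⟩)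

omit hb hc in
/-- The cofan attached to a colimit cocone is a colimit. -/
def isColimitCofanOfCocone (hc : IsColimit c) : IsColimit (cofanOfCocone c) :=
  IsColimit.ofIsoColimit ((IsColimit.precomposeHomEquiv Discrete.natIsoFunctor.symm c).symm hc)
    (Cocone.ext (Iso.refl _) (by rintro ⟨i⟩; simp [cofanOfCocone, Discrete.natIsoFunctor]))

lemma mono_ι_of_hb (i : Discrete ι) : Mono (c.ι.app i) := by
  obtain ⟨_, _, hd, _⟩ := hb ι (F.obj ∘ Discrete.mk)
  exact hd.mono_inj (isColimitCofanOfCocone c hc) i.as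

lemma nonempty_isInitial_of_hb {i j : Discrete ι} (hij : i ≠ j) {P : B} {a : P ⟶ F.obj i}
    {b : P ⟶ F.obj j} (h : IsPullback a b (c.ι.app i) (c.ι.app j)) : Nonempty (IsInitial P) := by
  obtain ⟨_, _, hd, _⟩ := hb ι (F.obj ∘ Discrete.mk)
  obtain ⟨i⟩ := i
  obtain ⟨j⟩ := j
  exact hd.nonempty_isInitial_of_ne (isColimitCofanOfCocone c hc) (fun e => hij (by rw [e]))
    (PullbackCone.mk a b h.w) h.isLimit

end HB

section EqRel

variable {E : Type v} [Category.{u} E] {R A : E} {p₁ p₂ : R ⟶ A}

/-- An internal equivalence relation is an equivalence relation on generalized points. -/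
lemma isEquivRel_of_equivalenceRelation (e : EquivalenceRelation p₁ p₂) :
    SGA4.IsEquivRel p₁ p₂ := by
  intro T
  refine ⟨fun f g hfg => ?_, ⟨fun a => ⟨a ≫ e.r, by simp, by simp⟩, ?_, ?_⟩⟩
  · simp only [Prod.mk.injEq] at hfg
    exact e.right_cancellation f g hfg.1 hfg.2
  · rintro a b ⟨f, rfl, rfl⟩
    exact ⟨f ≫ e.s, by rw [Category.assoc, e.symmetry₁], by rw [Category.assoc, e.symmetry₂]⟩
  · rintro a b c ⟨f, rfl, rfl⟩ ⟨g, hg1, rfl⟩
    refine ⟨PullbackCone.IsLimit.lift e.isLimit f g hg1.symm ≫ e.t, ?_, ?_⟩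
    · rw [Category.assoc, e.transitivity₁, ← Category.assoc, PullbackCone.IsLimit.lift_fst]
    · rw [Category.assoc, e.transitivity₂, ← Category.assoc, PullbackCone.IsLimit.lift_snd]

variable {E' : Type v₁} [Category.{u} E'] [HasFiniteLimits E] [HasFiniteLimits E']

/-- A left exact functor preserves jointly monomorphic pairs. -/
lemma jointlyMono₂_map (Φ : E ⥤ E') [PreservesFiniteLimits Φ] [JointlyMono₂ p₁ p₂] :
    JointlyMono₂ (Φ.map p₁) (Φ.map p₂) := by
  have hm : Mono (prod.lift p₁ p₂) := ⟨fun g h hgh => by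
    apply JointlyMono₂.right_cancellation (p₁ := p₁) (p₂ := p₂)
    · have := hgh =≫ prod.fst
      rwa [Category.assoc, Category.assoc, prod.lift_fst] at this
    · have := hgh =≫ prod.snd
      rwa [Category.assoc, Category.assoc, prod.lift_snd] at this⟩
  have hm' : Mono (Φ.map (prod.lift p₁ p₂)) := inferInstance
  refine ⟨fun Y g h h1 h2 => ?_⟩
  rw [← cancel_mono (Φ.map (prod.lift p₁ p₂))]
  have hl : IsLimit (BinaryFan.mk (Φ.map (prod.fst : A ⨯ A ⟶ A)) (Φ.map prod.snd)) :=
    isLimitOfHasBinaryProductOfPreservesLimit Φ A A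
  have e1 : Φ.map (prod.lift p₁ p₂) ≫ Φ.map (prod.fst : A ⨯ A ⟶ A) = Φ.map p₁ := by
    rw [← Φ.map_comp, prod.lift_fst]
  have e2 : Φ.map (prod.lift p₁ p₂) ≫ Φ.map (prod.snd : A ⨯ A ⟶ A) = Φ.map p₂ := by
    rw [← Φ.map_comp, prod.lift_snd]
  apply BinaryFan.IsLimit.hom_ext hl
  · show (g ≫ Φ.map (prod.lift p₁ p₂)) ≫ Φ.map (prod.fst : A ⨯ A ⟶ A) =
      (h ≫ Φ.map (prod.lift p₁ p₂)) ≫ Φ.map (prod.fst : A ⨯ A ⟶ A)
    rw [Category.assoc, Category.assoc, e1, h1]
  · show (g ≫ Φ.map (prod.lift p₁ p₂)) ≫ Φ.map (prod.snd : A ⨯ A ⟶ A) =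
      (h ≫ Φ.map (prod.lift p₁ p₂)) ≫ Φ.map (prod.snd : A ⨯ A ⟶ A)
    rw [Category.assoc, Category.assoc, e2, h2]

/-- A left exact functor preserves equivalence relations. -/
lemma isEquivRel_map (Φ : E ⥤ E') [PreservesFiniteLimits Φ] (h : SGA4.IsEquivRel p₁ p₂) :
    SGA4.IsEquivRel (Φ.map p₁) (Φ.map p₂) := by
  let e : EquivalenceRelation p₁ p₂ := Groth.Agent.Lib.SGA4EqRel.equivalenceRelation h
  have := e.toJointlyMono₂
  have := jointlyMono₂_map (p₁ := p₁) (p₂ := p₂) Φ
  exact isEquivRel_of_equivalenceRelation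
    { toReflexiveRelation := e.toReflexiveRelation.map Φ
      s := (e.toSymmetricRelation.map Φ).s
      symmetry₁ := (e.toSymmetricRelation.map Φ).symmetry₁
      symmetry₂ := (e.toSymmetricRelation.map Φ).symmetry₂
      c := (e.toTransitiveRelation.map Φ).c
      isLimit := (e.toTransitiveRelation.map Φ).isLimit
      t := (e.toTransitiveRelation.map Φ).t
      transitivity₁ := (e.toTransitiveRelation.map Φ).transitivity₁
      transitivity₂ := (e.toTransitiveRelation.map Φ).transitivity₂ }

end EqRel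

section Comma

variable {A : Type v₁} [Category.{u} A] {B : Type v₂} [Category.{u} B] {T : Type v}
  [Category.{u} T] {L : A ⥤ T} {R : B ⥤ T}

lemma isIso_of_isIso_left_right {X Y : Comma L R} (f : X ⟶ Y) [IsIso f.left] [IsIso f.right] :
    IsIso f := by
  have : f = (Comma.isoMk (asIso f.left) (asIso f.right) (by simp)).hom := by
    ext <;> simp
  rw [this]
  infer_instance

lemma mono_of_mono_left_right {X Y : Comma L R} (f : X ⟶ Y) [Mono f.left] [Mono f.right] :
    Mono f := by
  refine ⟨fun g h hgh => ?_⟩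
  ext
  · rw [← cancel_mono f.left, ← Comma.comp_left, ← Comma.comp_left, hgh]
  · rw [← cancel_mono f.right, ← Comma.comp_right, ← Comma.comp_right, hgh]

variable {J : Type w} [Category J]

instance preservesLimitsOfShape_fst [HasLimitsOfShape J A] [HasLimitsOfShape J B]
    [PreservesLimitsOfShape J R] : PreservesLimitsOfShape J (Comma.fst L R) where
  preservesLimit :=
    preservesLimit_of_preserves_limit_cone
      (Comma.coneOfPreservesIsLimit _ (limit.isLimit _) (limit.isLimit _))
      (limit.isLimit _)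

instance preservesLimitsOfShape_snd [HasLimitsOfShape J A] [HasLimitsOfShape J B]
    [PreservesLimitsOfShape J R] : PreservesLimitsOfShape J (Comma.snd L R) where
  preservesLimit :=
    preservesLimit_of_preserves_limit_cone
      (Comma.coneOfPreservesIsLimit _ (limit.isLimit _) (limit.isLimit _))
      (limit.isLimit _)

instance preservesFiniteLimits_fst [HasFiniteLimits A] [HasFiniteLimits B]
    [PreservesFiniteLimits R] : PreservesFiniteLimits (Comma.fst L R) where
  preservesFiniteLimits _ _ _ := inferInstance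

instance preservesFiniteLimits_snd [HasFiniteLimits A] [HasFiniteLimits B]
    [PreservesFiniteLimits R] : PreservesFiniteLimits (Comma.snd L R) where
  preservesFiniteLimits _ _ _ := inferInstance

end Comma

end Groth.Agent.Lib.GlueTopos
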