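import Groth.Agent.Lib.GlueTopos1
import Groth.Agent.Lib.CanonEqRel
import Mathlib.CategoryTheory.Limits.Preserves.Shapes.Equalizers

/-!
# The glued category `Comma (𝟭 B) R` satisfies Giraud's exactness axioms

`B`, `B'` are categories satisfying axioms (b) and (c) of Giraud's theorem and `R : B' ⥤ B` is a
left exact functor.
-/

set_option autoImplicit false
set_option linter.unusedSectionVars false
open CategoryTheory CategoryTheory.Limits Opposite
universe w v₁ v₂ v u

namespace Groth.Agent.Lib.GlueTopos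
open Groth.Agent.Lib.Giraud Groth.Agent.Lib.CanonEps

section LemmaA

variable {T : Type v} [Category.{u} T] [HasFiniteLimits T] (hc : EffEqRel T)
  {R A Q : T} {p₁ p₂ : R ⟶ A} {q : A ⟶ Q}

include hc in
/-- In a category satisfying axiom (c), any coequalizer of an equivalence relation is a
universally effective epimorphism with the given relation as kernel pair. -/
lemma isPullback_and_univEffEpi_of_isColimit (h : SGA4.IsEquivRel p₁ p₂) (w : p₁ ≫ q = p₂ ≫ q)
    (hq : IsColimit (Cofork.ofπ q w)) : IsPullback p₁ p₂ q q ∧ UnivEffEpi q := by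
  obtain ⟨B₁, π, hpb, hpo, hu⟩ := hc _ _ _ _ h
  have hπ : IsColimit (Cofork.ofπ π hpo.w) := isColimitCoforkOfIsPushout hpo
  let e : B₁ ≅ Q := hπ.coconePointUniqueUpToIso hq
  have he : π ≫ e.hom = q := hπ.comp_coconePointUniqueUpToIso_hom hq WalkingParallelPair.one
  constructor
  · exact IsPullback.of_iso hpb (Iso.refl _) (Iso.refl _) (Iso.refl _) e
      (by simp) (by simp) (by simpa using he) (by simpa using he)
  · rw [← he]
    exact (UnivEffEpi.of_forall_pullback_snd hu).comp_iso e.hom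

end LemmaA

section Comma

variable {B : Type v₁} [Category.{u} B] {B' : Type v₂} [Category.{u} B'] {R : B' ⥤ B}

/-- An object of the glued category both of whose components are initial is initial. -/
def isInitialOfLeftRight {X : Comma (𝟭 B) R} (h₁ : IsInitial X.left) (h₂ : IsInitial X.right) :
    IsInitial X :=
  IsInitial.ofUniqueHom
    (fun Y => { left := h₁.to _, right := h₂.to _, w := h₁.hom_ext _ _ })
    (fun Y m => by
      ext
      · exact h₁.hom_ext _ _
      · exact h₂.hom_ext _ _)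

variable [HasFiniteLimits B] [HasFiniteLimits B'] [PreservesFiniteLimits R]

lemma isPullback_of_left_right {P X Y Z : Comma (𝟭 B) R} {a : P ⟶ X} {b : P ⟶ Y} {c : X ⟶ Z}
    {d : Y ⟶ Z} (w : a ≫ c = b ≫ d) (h₁ : IsPullback a.left b.left c.left d.left)
    (h₂ : IsPullback a.right b.right c.right d.right) : IsPullback a b c d := by
  refine IsPullback.of_isLimit (c := PullbackCone.mk a b w) ?_
  refine Comma.fstSndJointlyReflectLimit ?_ ?_
  · exact (isLimitMapConePullbackConeEquiv (Comma.fst (𝟭 B) R) w).symm h₁.isLimit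
  · exact (isLimitMapConePullbackConeEquiv (Comma.snd (𝟭 B) R) w).symm h₂.isLimit

lemma isColimit_cofork_of_left_right {X Y Z : Comma (𝟭 B) R} {a b : X ⟶ Y} {q : Y ⟶ Z}
    (w : a ≫ q = b ≫ q)
    (h₁ : IsColimit (Cofork.ofπ q.left
      (show a.left ≫ q.left = b.left ≫ q.left by rw [← Comma.comp_left, w, Comma.comp_left])))
    (h₂ : IsColimit (Cofork.ofπ q.right
      (show a.right ≫ q.right = b.right ≫ q.right by
        rw [← Comma.comp_right, w, Comma.comp_right]))) :
    Nonempty (IsColimit (Cofork.ofπ q w)) := by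
  refine ⟨Comma.fstSndJointlyReflectColimit ?_ ?_⟩
  · exact (isColimitMapCoconeCoforkEquiv (Comma.fst (𝟭 B) R) w).symm h₁
  · exact (isColimitMapCoconeCoforkEquiv (Comma.snd (𝟭 B) R) w).symm h₂

variable [HasCoproducts.{u} B] [HasCoproducts.{u} B']
  (hbB : SGA4.HasDisjointUniversalCoproducts.{v₁, u} B)
  (hbB' : SGA4.HasDisjointUniversalCoproducts.{v₂, u} B')

include hbB hbB' in
/-- Axiom (b) for the glued category. -/
theorem hb_comma : SGA4.HasDisjointUniversalCoproducts (Comma (𝟭 B) R) := by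
  intro ι X
  refine ⟨colimit.cocone (Discrete.functor X), colimit.isColimit _, ⟨?_, ?_⟩, ?_⟩
  · intro c hc i j hij s hs
    have hpb : IsPullback s.fst s.snd (c.inj i) (c.inj j) := IsPullback.of_isLimit hs
    have hij' : (⟨i⟩ : Discrete ι) ≠ ⟨j⟩ := fun e => hij (congrArg Discrete.as e)
    obtain ⟨h₁⟩ := nonempty_isInitial_of_hb hbB ((Comma.fst (𝟭 B) R).mapCocone c)
      (isColimitOfPreserves _ hc) hij' (hpb.map (Comma.fst (𝟭 B) R))
    obtain ⟨h₂⟩ := nonempty_isInitial_of_hb hbB' ((Comma.snd (𝟭 B) R).mapCocone c)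
      (isColimitOfPreserves _ hc) hij' (hpb.map (Comma.snd (𝟭 B) R))
    exact ⟨isInitialOfLeftRight h₁ h₂⟩
  · intro c hc i
    have h₁ : Mono (c.inj i).left :=
      mono_ι_of_hb hbB ((Comma.fst (𝟭 B) R).mapCocone c) (isColimitOfPreserves _ hc) ⟨i⟩
    have h₂ : Mono (c.inj i).right :=
      mono_ι_of_hb hbB' ((Comma.snd (𝟭 B) R).mapCocone c) (isColimitOfPreserves _ hc) ⟨i⟩
    exact mono_of_mono_left_right _
  · intro F' c' α f h hα H
    have hu₁ := isUniversalColimit_of_hb hbB
      ((Comma.fst (𝟭 B) R).mapCocone (colimit.cocone (Discrete.functor X)))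
      (isColimitOfPreserves _ (colimit.isColimit _))
    have hu₂ := isUniversalColimit_of_hb hbB'
      ((Comma.snd (𝟭 B) R).mapCocone (colimit.cocone (Discrete.functor X)))
      (isColimitOfPreserves _ (colimit.isColimit _))
    obtain ⟨k₁⟩ := hu₁ ((Comma.fst (𝟭 B) R).mapCocone c') (Functor.whiskerRight α _)
      ((Comma.fst (𝟭 B) R).map f)
      (by ext j; simpa using (Comma.fst (𝟭 B) R).congr_map (NatTrans.congr_app h j))
      (hα.whiskerRight _) (fun j => (H j).map (Comma.fst (𝟭 B) R))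
    obtain ⟨k₂⟩ := hu₂ ((Comma.snd (𝟭 B) R).mapCocone c') (Functor.whiskerRight α _)
      ((Comma.snd (𝟭 B) R).map f)
      (by ext j; simpa using (Comma.snd (𝟭 B) R).congr_map (NatTrans.congr_app h j))
      (hα.whiskerRight _) (fun j => (H j).map (Comma.snd (𝟭 B) R))
    exact ⟨Comma.fstSndJointlyReflectColimit k₁ k₂⟩

variable [HasCoequalizers B] [HasCoequalizers B'] (hcB : EffEqRel B) (hcB' : EffEqRel B')

include hcB hcB' in
/-- Axiom (c) for the glued category. -/
theorem hc_comma : EffEqRel (Comma (𝟭 B) R) := by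
  intro Rr A p₁ p₂ h
  have w : p₁ ≫ coequalizer.π p₁ p₂ = p₂ ≫ coequalizer.π p₁ p₂ := coequalizer.condition _ _
  have hq : IsColimit (Cofork.ofπ (coequalizer.π p₁ p₂) w) := coequalizerIsCoequalizer p₁ p₂
  have h₁ := isPullback_and_univEffEpi_of_isColimit hcB
    (isEquivRel_map (Comma.fst (𝟭 B) R) h) _
    (isColimitMapCoconeCoforkEquiv (Comma.fst (𝟭 B) R) w (isColimitOfPreserves _ hq))
  have h₂ := isPullback_and_univEffEpi_of_isColimit hcB'
    (isEquivRel_map (Comma.snd (𝟭 B) R) h) _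
    (isColimitMapCoconeCoforkEquiv (Comma.snd (𝟭 B) R) w (isColimitOfPreserves _ hq))
  obtain ⟨r, hr₁, hr₂⟩ := (h A).2.refl (𝟙 A)
  refine ⟨coequalizer p₁ p₂, coequalizer.π p₁ p₂, isPullback_of_left_right w h₁.1 h₂.1,
    isPushout_of_isColimit_cofork w hq r hr₁ hr₂, fun B'' g => ?_⟩
  have hpb := IsPullback.of_hasPullback (coequalizer.π p₁ p₂) g
  have hk := IsPullback.of_hasPullback (pullback.snd (coequalizer.π p₁ p₂) g)
    (pullback.snd (coequalizer.π p₁ p₂) g)
  have e₁ := (h₁.2.of_isPullback (hpb.map (Comma.fst (𝟭 B) R))).effectiveEpi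
  have e₂ := (h₂.2.of_isPullback (hpb.map (Comma.snd (𝟭 B) R))).effectiveEpi
  obtain ⟨hcol⟩ := isColimit_cofork_of_left_right (R := R) hk.w
    (isColimitCoforkOfEffectiveEpi _ _ (hk.map (Comma.fst (𝟭 B) R)).isLimit)
    (isColimitCoforkOfEffectiveEpi _ _ (hk.map (Comma.snd (𝟭 B) R)).isLimit)
  exact effectiveEpi_of_kernelPair _ hcol

end Comma

end Groth.Agent.Lib.GlueTopos
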