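import Groth.Agent.Lib.UnivPt38
import Mathlib.Algebra.Polynomial.Laurent

/-!
# Uniqueness of group laws on the punctured affine line (helper38)

If the functor of points of a `k`-scheme `G` (`k` a domain) is naturally the functor of units of global functions
(`FnCoord` + units + surjectivity onto units), then any group structure on `G` is given by `(x, y) ↦ x * y / u₀`,
where `u₀` is the coordinate of the unit section: `gm_law`.
-/

set_option linter.unusedSectionVars false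
universe u

open CategoryTheory CategoryTheory.Limits AlgebraicGeometry Opposite MonoidalCategory CartesianMonoidalCategory MonObj
open LaurentPolynomial

noncomputable section

namespace Groth.Agent.Lib.GmLaw38

open Groth.Agent.Lib.UnivPt38

/-! ### Laurent polynomial algebra -/

section Laurent

variable {R : Type*} [CommRing R]

theorem laurent_ringHom_ext {A : Type*} [Semiring A] {f g : R[T;T⁻¹] →+* A} (hC : ∀ a, f (C a) = g (C a))
    (hT : f (T 1) = g (T 1)) : f = g := by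
  apply IsLocalization.ringHom_ext (Submonoid.powers (Polynomial.X : Polynomial R))
  apply Polynomial.ringHom_ext
  · intro a
    simp only [RingHom.comp_apply, algebraMap_eq_toLaurent, Polynomial.toLaurent_C, hC]
  · simp only [RingHom.comp_apply, algebraMap_eq_toLaurent, Polynomial.toLaurent_X, hT]

/-- Units of `R[T;T⁻¹]` over a domain are monomials with unit coefficient. -/
theorem exists_eq_C_mul_T_of_isUnit [IsDomain R] {f : R[T;T⁻¹]} (hf : IsUnit f) :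
    ∃ (r : R) (n : ℤ), IsUnit r ∧ f = C r * T n := by
  obtain ⟨g, hfg⟩ := hf.exists_right_inv
  obtain ⟨n, F, hF⟩ := exists_T_pow f
  obtain ⟨m, G', hG⟩ := exists_T_pow g
  have h1 : F * G' = Polynomial.X ^ (n + m) := by
    apply Polynomial.toLaurent_injective
    rw [map_mul, hF, hG, Polynomial.toLaurent_X_pow]
    calc f * T n * (g * T m) = (f * g) * (T n * T m) := by ring
      _ = T ((n + m : ℕ) : ℤ) := by rw [hfg, _root_.one_mul, ← T_add, Nat.cast_add]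
  have h2 : F ∣ Polynomial.X ^ (n + m) := ⟨G', h1.symm⟩
  obtain ⟨i, -, hi⟩ := (dvd_prime_pow Polynomial.prime_X (n + m)).mp h2
  obtain ⟨u, hu⟩ := hi.symm
  obtain ⟨r, hr, hru⟩ := Polynomial.isUnit_iff.mp u.isUnit
  refine ⟨r, (i : ℤ) - n, hr, ?_⟩
  have h3 : f * T n = C r * T i := by
    rw [← hF, ← hu, ← hru, map_mul, Polynomial.toLaurent_X_pow, Polynomial.toLaurent_C, mul_comm]
  calc f = f * T n * T (-n) := by rw [mul_T_assoc, add_neg_cancel, T_zero, _root_.mul_one]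
    _ = C r * T ((i : ℤ) - n) := by rw [h3, mul_T_assoc, sub_eq_add_neg]

theorem C_mul_T_eq_T_one [Nontrivial R] {r : R} {n : ℤ} (hr : r ≠ 0) (h : (C r * T n : R[T;T⁻¹]) = T 1) :
    n = 1 ∧ r = 1 := by
  rw [← single_eq_C_mul_T] at h
  have h' : (AddMonoidAlgebra.single n r : R[T;T⁻¹]) = AddMonoidAlgebra.single 1 1 := h
  have h'' := congrArg AddMonoidAlgebra.coeff h'
  rcases (Finsupp.single_eq_single_iff _ _ _ _).mp h'' with ⟨h1, h2⟩ | ⟨h1, -⟩
  · exact ⟨h1, h2⟩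
  · exact absurd h1 hr

/-- `n ↦ T n` as a homomorphism to the units. -/
def TuHom (R : Type*) [CommRing R] : Multiplicative ℤ →* (R[T;T⁻¹])ˣ where
  toFun n := ⟨T n.toAdd, T (-n.toAdd), by rw [← T_add, add_neg_cancel, T_zero],
    by rw [← T_add, neg_add_cancel, T_zero]⟩
  map_one' := by
    ext1
    exact T_zero
  map_mul' m n := by
    ext1
    exact T_add _ _

/-- The unit `T`. -/
def Tu (R : Type*) [CommRing R] : (R[T;T⁻¹])ˣ := TuHom R (Multiplicative.ofAdd 1)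

theorem Tu_val : ((Tu R : (R[T;T⁻¹])ˣ) : R[T;T⁻¹]) = T 1 := rfl

theorem Tu_zpow (n : ℤ) : (((Tu R) ^ n : (R[T;T⁻¹])ˣ) : R[T;T⁻¹]) = T n := by
  rw [Tu, ← map_zpow, ← ofAdd_zsmul, smul_eq_mul, _root_.mul_one]
  rfl

end Laurent

/-! ### Two variables -/

variable {k : Type u} [CommRing k]

/-- Substitution `x ↦ va`, `y ↦ vb` in `k[y,y⁻¹][x,x⁻¹]`. -/
def evL {A : Type*} [CommRing A] (φ : k →+* A) (va vb : Aˣ) : (k[T;T⁻¹])[T;T⁻¹] →+* A :=
  LaurentPolynomial.eval₂ (LaurentPolynomial.eval₂ φ vb) va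

section evL
variable {A : Type*} [CommRing A] (φ : k →+* A) (va vb : Aˣ)

theorem evL_T (n : ℤ) : evL φ va vb (T n) = ((va ^ n : Aˣ) : A) := LaurentPolynomial.eval₂_T _ _ _

theorem evL_C (s : k[T;T⁻¹]) : evL φ va vb (C s) = LaurentPolynomial.eval₂ φ vb s := LaurentPolynomial.eval₂_C _ _ _

theorem evL_CT (n : ℤ) : evL φ va vb (C (T n)) = ((vb ^ n : Aˣ) : A) := by rw [evL_C, LaurentPolynomial.eval₂_T]

theorem evL_CC (a : k) : evL φ va vb (C (C a)) = φ a := by rw [evL_C, LaurentPolynomial.eval₂_C]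

theorem algebraMap_eq (a : k) : algebraMap k ((k[T;T⁻¹])[T;T⁻¹]) a = C (C a) := rfl

theorem evL_algebraMap (a : k) : evL φ va vb (algebraMap k ((k[T;T⁻¹])[T;T⁻¹]) a) = φ a := evL_CC φ va vb a

theorem evL_ext {f : (k[T;T⁻¹])[T;T⁻¹] →+* A} (h0 : ∀ a, f (C (C a)) = φ a) (hx : f (T 1) = va)
    (hy : f (C (T 1)) = vb) : f = evL φ va vb := by
  apply laurent_ringHom_ext
  · intro s
    rw [evL_C]
    have : f.comp C = LaurentPolynomial.eval₂ φ vb := by
      apply laurent_ringHom_ext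
      · intro a
        rw [RingHom.comp_apply, h0, LaurentPolynomial.eval₂_C]
      · rw [RingHom.comp_apply, hy, LaurentPolynomial.eval₂_T, zpow_one]
    exact congrArg (fun g => g s) this
  · rw [hx, evL_T, zpow_one]

theorem comp_evL {A' : Type*} [CommRing A'] (g : A →+* A') :
    g.comp (evL φ va vb) = evL (g.comp φ) (Units.map (g : A →* A') va) (Units.map (g : A →* A') vb) := by
  apply evL_ext
  · intro a
    rw [RingHom.comp_apply, evL_CC, RingHom.comp_apply]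
  · rw [RingHom.comp_apply, evL_T, zpow_one]
    rfl
  · rw [RingHom.comp_apply, evL_CT, zpow_one]
    rfl

end evL

/-- The unit `x`. -/
def xU (k : Type u) [CommRing k] : ((k[T;T⁻¹])[T;T⁻¹])ˣ := Tu (k[T;T⁻¹])

/-- The unit `y`. -/
def yU (k : Type u) [CommRing k] : ((k[T;T⁻¹])[T;T⁻¹])ˣ :=
  Units.map ((C : k[T;T⁻¹] →+* (k[T;T⁻¹])[T;T⁻¹]) : k[T;T⁻¹] →* (k[T;T⁻¹])[T;T⁻¹]) (Tu k)

/-- A constant unit. -/
def cU (u : kˣ) : ((k[T;T⁻¹])[T;T⁻¹])ˣ :=
  Units.map ((algebraMap k ((k[T;T⁻¹])[T;T⁻¹]) : k →+* (k[T;T⁻¹])[T;T⁻¹]) : k →* (k[T;T⁻¹])[T;T⁻¹]) u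

theorem xU_val : ((xU k : ((k[T;T⁻¹])[T;T⁻¹])ˣ) : (k[T;T⁻¹])[T;T⁻¹]) = T 1 := rfl

theorem yU_val : ((yU k : ((k[T;T⁻¹])[T;T⁻¹])ˣ) : (k[T;T⁻¹])[T;T⁻¹]) = C (T 1) := rfl

theorem cU_val (u : kˣ) : ((cU u : ((k[T;T⁻¹])[T;T⁻¹])ˣ) : (k[T;T⁻¹])[T;T⁻¹]) = C (C (u : k)) := rfl

theorem xU_zpow (n : ℤ) : (((xU k) ^ n : ((k[T;T⁻¹])[T;T⁻¹])ˣ) : (k[T;T⁻¹])[T;T⁻¹]) = T n := Tu_zpow n

theorem yU_zpow (n : ℤ) : (((yU k) ^ n : ((k[T;T⁻¹])[T;T⁻¹])ˣ) : (k[T;T⁻¹])[T;T⁻¹]) = C (T n) := by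
  rw [yU, ← map_zpow, Units.coe_map, Tu_zpow]
  rfl

theorem cU_zpow (u : kˣ) (n : ℤ) :
    (((cU u) ^ n : ((k[T;T⁻¹])[T;T⁻¹])ˣ) : (k[T;T⁻¹])[T;T⁻¹]) = C (C ((u ^ n : kˣ) : k)) := by
  rw [cU, ← map_zpow, Units.coe_map]
  rfl

/-- The algebra behind uniqueness of the group law on the punctured affine line. -/
theorem law_eq [IsDomain k] (p : (k[T;T⁻¹])[T;T⁻¹]) (hp : IsUnit p) (u₀ : kˣ)
    (h2 : evL (algebraMap k ((k[T;T⁻¹])[T;T⁻¹])) (xU k) (cU u₀) p = T 1)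
    (h3 : evL (algebraMap k ((k[T;T⁻¹])[T;T⁻¹])) (cU u₀) (yU k) p = C (T 1)) :
    p = C (C ((u₀⁻¹ : kˣ) : k) * T 1) * T 1 := by
  obtain ⟨r, a, hr, hpe⟩ := exists_eq_C_mul_T_of_isUnit hp
  obtain ⟨c, b, hc, hre⟩ := exists_eq_C_mul_T_of_isUnit hr
  have e2 : evL (algebraMap k ((k[T;T⁻¹])[T;T⁻¹])) (xU k) (cU u₀) p =
      C (C (c * ((u₀ ^ b : kˣ) : k))) * T a := by
    rw [hpe, hre, map_mul, evL_T, xU_zpow, map_mul (C : k[T;T⁻¹] →+* (k[T;T⁻¹])[T;T⁻¹]), map_mul, evL_CC, evL_CT,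
      cU_zpow, algebraMap_eq, ← map_mul, ← map_mul]
  have e3 : evL (algebraMap k ((k[T;T⁻¹])[T;T⁻¹])) (cU u₀) (yU k) p =
      C (C (c * ((u₀ ^ a : kˣ) : k)) * T b) := by
    rw [hpe, hre, map_mul, evL_T, cU_zpow, map_mul (C : k[T;T⁻¹] →+* (k[T;T⁻¹])[T;T⁻¹]), map_mul, evL_CC, evL_CT,
      yU_zpow, algebraMap_eq, map_mul (C : k[T;T⁻¹] →+* (k[T;T⁻¹])[T;T⁻¹]), map_mul (C : k →+* k[T;T⁻¹]),
      map_mul (C : k[T;T⁻¹] →+* (k[T;T⁻¹])[T;T⁻¹])]
    ring
  have hcne : ∀ n : ℤ, c * ((u₀ ^ n : kˣ) : k) ≠ 0 := fun n =>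
    mul_ne_zero hc.ne_zero (Units.ne_zero _)
  have hCinj : Function.Injective (C : k →+* k[T;T⁻¹]) := fun x y h => by
    have := congrArg (fun f : k[T;T⁻¹] => f.coeff 0) h
    simpa using this
  have hCinj' : Function.Injective (C : k[T;T⁻¹] →+* (k[T;T⁻¹])[T;T⁻¹]) := fun x y h => by
    have := congrArg (fun f : (k[T;T⁻¹])[T;T⁻¹] => f.coeff 0) h
    simpa using this
  have ha : a = 1 := by
    refine (C_mul_T_eq_T_one ?_ (e2.symm.trans h2)).1
    intro h0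
    exact hcne b (hCinj (h0.trans (map_zero _).symm))
  have hb : b = 1 ∧ c * ((u₀ ^ a : kˣ) : k) = 1 :=
    C_mul_T_eq_T_one (hcne a) (hCinj' (e3.symm.trans h3))
  have hc' : c = ((u₀⁻¹ : kˣ) : k) := by
    have h := hb.2
    rw [ha, zpow_one] at h
    exact (Units.eq_inv_of_mul_eq_one_left ((mul_comm _ _).trans h))
  rw [hpe, hre, ha, hb.1, hc']


/-! ### The geometric part -/

section Geom

variable {G : Over (Spec (CommRingCat.of k))} (c : FnCoord G) [GrpObj G]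
  (hu : ∀ {T : Over (Spec (CommRingCat.of k))} (x : T ⟶ G), IsUnit (c.fn x))

/-- The universal base `Spec k[y,y⁻¹][x,x⁻¹]`. -/
abbrev T2 (k : Type u) [CommRing k] : Over (Spec (CommRingCat.of k)) := specOver k ((k[T;T⁻¹])[T;T⁻¹])

/-- Coordinate of a point with values in the universal base. -/
def co (a : T2 k ⟶ G) : (k[T;T⁻¹])[T;T⁻¹] := gammaEquiv _ (c.fn a)

theorem fn_eq_co (a : T2 k ⟶ G) : c.fn a = (gammaEquiv _).symm (co c a) :=
  ((gammaEquiv _).symm_apply_apply _).symm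

include hu in
theorem isUnit_co (a : T2 k ⟶ G) : IsUnit (co c a) := (hu a).map (gammaEquiv _)

/-- The coordinate as a unit. -/
def fnU {T : Over (Spec (CommRingCat.of k))} (x : T ⟶ G) : (Γ(T.left, ⊤))ˣ := (hu x).unit

theorem fnU_val {T : Over (Spec (CommRingCat.of k))} (x : T ⟶ G) : ((fnU c hu x : (Γ(T.left, ⊤))ˣ) : Γ(T.left, ⊤)) = c.fn x :=
  rfl

/-- The coordinate of a point of the universal base as a unit. -/
def coU (a : T2 k ⟶ G) : ((k[T;T⁻¹])[T;T⁻¹])ˣ := (isUnit_co c hu a).unit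

theorem coU_val (a : T2 k ⟶ G) : ((coU c hu a : ((k[T;T⁻¹])[T;T⁻¹])ˣ) : (k[T;T⁻¹])[T;T⁻¹]) = co c a := rfl

/-- `B ≃ Γ(Spec B)` as a ring map, for the universal base. -/
def ιR (k : Type u) [CommRing k] : (k[T;T⁻¹])[T;T⁻¹] →+* Γ((T2 k).left, ⊤) :=
  (gammaEquiv ((k[T;T⁻¹])[T;T⁻¹])).symm.toRingHom

theorem ιR_apply (f : (k[T;T⁻¹])[T;T⁻¹]) : ιR k f = (gammaEquiv ((k[T;T⁻¹])[T;T⁻¹])).symm f := rfl

/-- Evaluation of Laurent polynomials in two variables at a pair of points. -/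
def evPt {T : Over (Spec (CommRingCat.of k))} (a b : T ⟶ G) : (k[T;T⁻¹])[T;T⁻¹] →+* Γ(T.left, ⊤) :=
  evL (algK T) (fnU c hu a) (fnU c hu b)

theorem evPt_alg {T : Over (Spec (CommRingCat.of k))} (a b : T ⟶ G) (r : k) :
    evPt c hu a b (algebraMap k ((k[T;T⁻¹])[T;T⁻¹]) r) = algK T r := evL_algebraMap _ _ _ r

variable {Xp Yp : T2 k ⟶ G} (hX : co c Xp = T 1) (hY : co c Yp = C (T 1))

include hX in
theorem pull_X {T : Over (Spec (CommRingCat.of k))} (a b : T ⟶ G) :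
    homOf T (evPt c hu a b) (evPt_alg c hu a b) ≫ Xp = a :=
  homOf_comp_eq c Xp T _ _ a (by
    change evPt c hu a b (co c Xp) = c.fn a
    rw [hX, evPt, evL_T, zpow_one]
    rfl)

include hY in
theorem pull_Y {T : Over (Spec (CommRingCat.of k))} (a b : T ⟶ G) :
    homOf T (evPt c hu a b) (evPt_alg c hu a b) ≫ Yp = b :=
  homOf_comp_eq c Yp T _ _ b (by
    change evPt c hu a b (co c Yp) = c.fn b
    rw [hY, evPt, evL_CT, zpow_one]
    rfl)

include hX hY in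
theorem fn_mul_eq {T : Over (Spec (CommRingCat.of k))} (a b : T ⟶ G) :
    c.fn (a * b) = evPt c hu a b (co c (Xp * Yp)) := by
  have h := fn_homOf_comp c (Xp * Yp) T (evPt c hu a b) (evPt_alg c hu a b)
  rw [MonObj.comp_mul, pull_X c hu hX, pull_Y c hu hY] at h
  exact h

theorem evPt_T2 (a b : T2 k ⟶ G) (f : (k[T;T⁻¹])[T;T⁻¹]) :
    evPt c hu a b f =
      (gammaEquiv _).symm (evL (algebraMap k ((k[T;T⁻¹])[T;T⁻¹])) (coU c hu a) (coU c hu b) f) := by
  have h := comp_evL (algebraMap k ((k[T;T⁻¹])[T;T⁻¹])) (coU c hu a) (coU c hu b) (ιR k)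
  have h2 : (ιR k).comp (algebraMap k ((k[T;T⁻¹])[T;T⁻¹])) = algK (T2 k) := by
    ext r
    exact (algK_specOver r).symm
  have ha : Units.map ((ιR k : _ →+* _) : _ →* _) (coU c hu a) = fnU c hu a := by
    ext1
    exact (fn_eq_co c a).symm
  have hb : Units.map ((ιR k : _ →+* _) : _ →* _) (coU c hu b) = fnU c hu b := by
    ext1
    exact (fn_eq_co c b).symm
  rw [h2, ha, hb] at h
  have h3 := congrArg (fun g => g f) h
  simp only [RingHom.comp_apply] at h3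
  exact h3.symm

include hX hY in
theorem co_mul (a b : T2 k ⟶ G) :
    co c (a * b) =
      evL (algebraMap k ((k[T;T⁻¹])[T;T⁻¹])) (coU c hu a) (coU c hu b) (co c (Xp * Yp)) := by
  have h := fn_mul_eq c hu hX hY a b
  rw [evPt_T2] at h
  rw [co, h, RingEquiv.apply_symm_apply]

theorem co_one : co c (1 : T2 k ⟶ G) = C (C (unitConst c)) := by
  rw [co, fn_one, algK_specOver]
  exact (gammaEquiv _).apply_symm_apply _

include hu in
theorem isUnit_unitConst : IsUnit (unitConst c) :=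
  (hu η[G]).map (Scheme.ΓSpecIso (CommRingCat.of k)).hom.hom

/-- The coordinate of the unit section as a unit of `k`. -/
def u₀ : kˣ := (isUnit_unitConst c hu).unit

theorem u₀_val : ((u₀ c hu : kˣ) : k) = unitConst c := rfl

include hX hY in
theorem co_XY [IsDomain k] : co c (Xp * Yp) = C (C (((u₀ c hu)⁻¹ : kˣ) : k) * T 1) * T 1 := by
  have hX' : coU c hu Xp = xU k := Units.ext hX
  have hY' : coU c hu Yp = yU k := Units.ext hY
  have h1 : coU c hu (1 : T2 k ⟶ G) = cU (u₀ c hu) := Units.ext (co_one c)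
  apply law_eq (co c (Xp * Yp)) (isUnit_co c hu _) (u₀ c hu)
  · rw [← hX', ← h1, ← co_mul c hu hX hY, _root_.mul_one, hX]
  · rw [← hY', ← h1, ← co_mul c hu hX hY, _root_.one_mul, hY]

include hu hX hY in
/-- Any group law on a `k`-scheme whose points are the units of global functions is `x * y / u₀`. -/
theorem fn_mul_mul_one [IsDomain k] {Z : Over (Spec (CommRingCat.of k))} (a b : Z ⟶ G) :
    c.fn (a * b) * c.fn (1 : Z ⟶ G) = c.fn a * c.fn b := by
  rw [fn_mul_eq c hu hX hY a b, co_XY c hu hX hY, fn_one, ← u₀_val c hu, map_mul,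
    map_mul (C : k[T;T⁻¹] →+* (k[T;T⁻¹])[T;T⁻¹]), map_mul]
  change evL _ _ _ (C (C _)) * evL _ _ _ (C (T 1)) * evL _ _ _ (T 1) * _ = _
  rw [evL_CC, evL_CT, evL_T, zpow_one, zpow_one, fnU_val, fnU_val]
  have h : algK Z (((u₀ c hu)⁻¹ : kˣ) : k) * algK Z ((u₀ c hu : kˣ) : k) = 1 := by
    rw [← map_mul, Units.inv_mul, map_one]
  calc algK Z (((u₀ c hu)⁻¹ : kˣ) : k) * c.fn b * c.fn a * algK Z ((u₀ c hu : kˣ) : k)
      = (algK Z (((u₀ c hu)⁻¹ : kˣ) : k) * algK Z ((u₀ c hu : kˣ) : k)) * (c.fn a * c.fn b) := by ring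
    _ = c.fn a * c.fn b := by rw [h, _root_.one_mul]

end Geom

/-- Any group law on a `k`-scheme `G` (`k` a domain) whose functor of points is the functor of units of global
functions is `x * y / u₀`, where `u₀` is the coordinate of the unit section. -/
theorem gm_law [IsDomain k] {G : Over (Spec (CommRingCat.of k))} (c : FnCoord G) [GrpObj G]
    (hu : ∀ {T : Over (Spec (CommRingCat.of k))} (x : T ⟶ G), IsUnit (c.fn x))
    (hs : ∀ (T : Over (Spec (CommRingCat.of k))) (v : (Γ(T.left, ⊤))ˣ), ∃ x : T ⟶ G, c.fn x = v)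
    {Z : Over (Spec (CommRingCat.of k))} (a b : Z ⟶ G) :
    c.fn (a * b) * c.fn (1 : Z ⟶ G) = c.fn a * c.fn b := by
  obtain ⟨Xp, hX⟩ := hs (T2 k) (Units.map ((ιR k : _ →+* _) : _ →* _) (xU k))
  obtain ⟨Yp, hY⟩ := hs (T2 k) (Units.map ((ιR k : _ →+* _) : _ →* _) (yU k))
  have hX' : co c Xp = T 1 := by
    rw [co, hX]
    exact (gammaEquiv _).apply_symm_apply _
  have hY' : co c Yp = C (T 1) := by
    rw [co, hY]
    exact (gammaEquiv _).apply_symm_apply _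
  exact fn_mul_mul_one c hu hX' hY' a b
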