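import Groth.Agent.Lib.GmLaw38

/-!
# The coordinate on a `k`-scheme isomorphic to `Spec k[T, T⁻¹]` (helper38)

`laurentCoord E : FnCoord G` for `E : G ≅ specOver k k[T;T⁻¹]`, with `laurentCoord_isUnit`, `laurentCoord_surj`, and the
consequence `laurent_law` of `GmLaw38.gm_law`.
-/

set_option linter.unusedSectionVars false
universe u

open CategoryTheory CategoryTheory.Limits AlgebraicGeometry Opposite MonoidalCategory CartesianMonoidalCategory MonObj
open LaurentPolynomial

noncomputable section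

namespace Groth.Agent.Lib.GmLaw38

open Groth.Agent.Lib.UnivPt38

variable {k : Type u} [CommRing k]

/-- Morphisms of `k`-schemes into `Spec k[T;T⁻¹]` are determined by the pull-back of `T`. -/
theorem hom_ext_laurent {Z : Over (Spec (CommRingCat.of k))} (f g : Z ⟶ specOver k k[T;T⁻¹])
    (h : f.left.appTop ((Scheme.ΓSpecIso (CommRingCat.of k[T;T⁻¹])).inv (T 1)) =
      g.left.appTop ((Scheme.ΓSpecIso (CommRingCat.of k[T;T⁻¹])).inv (T 1))) : f = g := by
  have key : ∀ (f : Z ⟶ specOver k k[T;T⁻¹]) (a : k),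
      f.left.appTop ((Scheme.ΓSpecIso (CommRingCat.of k[T;T⁻¹])).inv (C a)) = algK Z a := by
    intro f a
    have h1 : (Scheme.ΓSpecIso (CommRingCat.of k[T;T⁻¹])).inv (C a) = algK (specOver k k[T;T⁻¹]) a :=
      (algK_specOver (B := k[T;T⁻¹]) a).symm
    rw [h1, algK_comp]
  ext1
  apply ext_of_isAffine (Y := Spec (CommRingCat.of k[T;T⁻¹]))
  have h2 : ((Scheme.ΓSpecIso (CommRingCat.of k[T;T⁻¹])).inv ≫ f.left.appTop).hom =
      ((Scheme.ΓSpecIso (CommRingCat.of k[T;T⁻¹])).inv ≫ g.left.appTop).hom := by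
    apply laurent_ringHom_ext
    · intro a
      exact (key f a).trans (key g a).symm
    · exact h
  have h3 : (Scheme.ΓSpecIso (CommRingCat.of k[T;T⁻¹])).inv ≫ f.left.appTop =
      (Scheme.ΓSpecIso (CommRingCat.of k[T;T⁻¹])).inv ≫ g.left.appTop := CommRingCat.hom_ext h2
  exact (cancel_epi _).mp h3

variable {G : Over (Spec (CommRingCat.of k))} (E : G ≅ specOver k k[T;T⁻¹])

/-- The coordinate on a `k`-scheme isomorphic to `Spec k[T;T⁻¹]`. -/
def laurentCoord : FnCoord G where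
  fn x := (x ≫ E.hom).left.appTop ((Scheme.ΓSpecIso (CommRingCat.of k[T;T⁻¹])).inv (T 1))
  fn_comp g x := by
    rw [Category.assoc, Over.comp_left, GmPts.appTop_comp_apply]
  fn_inj x y h := by
    have := hom_ext_laurent (x ≫ E.hom) (y ≫ E.hom) h
    exact (cancel_mono E.hom).mp this

theorem laurentCoord_isUnit {Z : Over (Spec (CommRingCat.of k))} (x : Z ⟶ G) : IsUnit ((laurentCoord E).fn x) :=
  ((isUnit_T 1).map (Scheme.ΓSpecIso (CommRingCat.of k[T;T⁻¹])).inv.hom).map (x ≫ E.hom).left.appTop.hom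

theorem laurentCoord_surj (Z : Over (Spec (CommRingCat.of k))) (v : (Γ(Z.left, ⊤))ˣ) :
    ∃ x : Z ⟶ G, (laurentCoord E).fn x = v := by
  refine ⟨homOf Z (LaurentPolynomial.eval₂ (algK Z) v) (fun a => LaurentPolynomial.eval₂_C _ _ a) ≫ E.inv, ?_⟩
  change ((homOf Z _ _ ≫ E.inv) ≫ E.hom).left.appTop _ = _
  rw [Category.assoc, Iso.inv_hom_id, Category.comp_id, homOf_appTop, LaurentPolynomial.eval₂_T, zpow_one]

/-- Any group law on a `k`-scheme `G ≅ Spec k[T;T⁻¹]` (`k` a domain) is `x * y / u₀`. -/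
theorem laurent_law [IsDomain k] [GrpObj G] {Z : Over (Spec (CommRingCat.of k))} (a b : Z ⟶ G) :
    (laurentCoord E).fn (a * b) * (laurentCoord E).fn (1 : Z ⟶ G) = (laurentCoord E).fn a * (laurentCoord E).fn b :=
  gm_law (laurentCoord E) (fun x => laurentCoord_isUnit E x) (laurentCoord_surj E) a b

end Groth.Agent.Lib.GmLaw38
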