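import Groth.Agent.Lib.OrbitStable45
import Groth.Agent.Lib.GeomQuotDesc45
import Groth.Prelude.Def_W4c6nonredquotmfGoodQuot

/-!
# Good quotients restrict to opens of the target (helper45)

`isGoodQuot_restrict`: if `φ : X ⟶ Y` is a good quotient (`NRQuot.IsGoodQuot`) for an action of a
group scheme locally of finite type over a field, then over every open `U ⊆ Y` the restriction
`φ⁻¹U ⟶ U` is a good quotient for the restricted action.
-/

set_option autoImplicit false
set_option linter.unusedSectionVars false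
universe u
open CategoryTheory CategoryTheory.Limits MonoidalCategory CartesianMonoidalCategory MonObj
  AlgebraicGeometry Topology

namespace Groth.Agent.Lib.GoodQuotOpen45

open Groth.Agent.Lib.GeomQuotDesc45 Groth.Agent.Lib.OrbitStable45

lemma appLE_bijective_of_isOpenImmersion {A B : Scheme.{u}} (j : A ⟶ B) [IsOpenImmersion j]
    (W : B.Opens) (W' : A.Opens) (e : W' ≤ j ⁻¹ᵁ W) (e' : j ⁻¹ᵁ W ≤ W') (hW : W ≤ j.opensRange) :
    Function.Bijective (j.appLE W W' e).hom := by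
  have h1 : IsIso (j.app W) := Scheme.Hom.isIso_app j W hW
  have h2 : j.appLE W W' e = j.app W ≫ A.presheaf.map (homOfLE e).op := rfl
  have h3 : IsIso (homOfLE e) := ⟨homOfLE e', rfl, rfl⟩
  have h4 : IsIso (j.appLE W W' e) := by rw [h2]; infer_instance
  exact ConcreteCategory.bijective_of_isIso _

variable {k : Type u} [Field k] {G X Y XV YU : Over (Spec (CommRingCat.of k))} [GrpObj G]
  [LocallyOfFiniteType G.hom]
  (a : AlgGrp.Action G X) (φ : X ⟶ Y) (h : NRQuot.IsGoodQuot a φ)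
  (aU : AlgGrp.Action G XV) (jU : XV ⟶ X) [IsOpenImmersion jU.left]
  (jY : YU ⟶ Y) [IsOpenImmersion jY.left]
  (haU : aU.act ≫ jU = (G ◁ jU) ≫ a.act)
  (φU : XV ⟶ YU) (hsq : φU ≫ jY = jU ≫ φ)
  (hpb : IsPullback φU.left jU.left jY.left φ.left)

include haU in
lemma isInvariantSet_image (W : Set XV.left) (hW : NRQuot.IsInvariantSet aU W) :
    NRQuot.IsInvariantSet a (jU.left '' W) := by
  have hw : aU.act.left ≫ jU.left = (G ◁ jU).left ≫ a.act.left := by
    rw [← Over.comp_left, haU, Over.comp_left]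
  rintro p ⟨w, hw1, hw2⟩
  obtain ⟨p', hp1, hp2⟩ := Groth.Agent.Lib.ActOpen18.exists_preimage_of_isPullback
    (Groth.Agent.Lib.ActOpen18.isPullback_whiskerLeft_snd G jU) p w hw2.symm
  refine ⟨aU.act.left p', hW p' (by rw [hp2]; exact hw1), ?_⟩
  rw [← hp1, ← Scheme.Hom.comp_apply, ← Scheme.Hom.comp_apply, hw]

include haU in
lemma isInvariantSet_closure_image (W : Set XV.left) (hW : NRQuot.IsInvariantSet aU W) :
    NRQuot.IsInvariantSet a (closure (jU.left '' W)) := by
  have h1 := isStable_of_forall (a := a) (isInvariantSet_image a aU jU haU W hW)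
  exact fun p hp => h1.closure.act_mem hp

omit [LocallyOfFiniteType G.hom] in
lemma mem_of_mem_closure_image (W : Set XV.left) (hW : IsClosed W) (w : XV.left)
    (hw : jU.left w ∈ closure (jU.left '' W)) : w ∈ W := by
  have hind : IsInducing jU.left := jU.left.isOpenEmbedding.isInducing
  have := hind.closure_eq_preimage_closure_image W
  rw [hW.closure_eq] at this
  rw [this]
  exact hw

include h haU hsq in
lemma isInvariant_restrict : GIT.IsInvariant aU φU := by
  have hm : Mono jY := by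
    have : Mono ((Over.forget _).map jY) := inferInstanceAs (Mono jY.left)
    exact (Over.forget _).mono_of_mono_map this
  unfold GIT.IsInvariant
  rw [← cancel_mono jY, Category.assoc, Category.assoc, hsq, ← Category.assoc, haU, Category.assoc,
    h.inv, whiskerLeft_snd_assoc]

include h haU hsq hpb in
lemma sections_restrict (U' : YU.left.Opens) :
    Function.Injective (φU.left.app U') ∧
      Set.range (φU.left.app U') = {f | GIT.IsInvSection aU φU U' f} := by
  have hinvU := isInvariant_restrict a φ h aU jU jY haU φU hsq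
  have hsqL : φU.left ≫ jY.left = jU.left ≫ φ.left := by
    rw [← Over.comp_left, hsq, Over.comp_left]
  have hw : aU.act.left ≫ jU.left = (G ◁ jU).left ≫ a.act.left := by
    rw [← Over.comp_left, haU, Over.comp_left]
  have hw2 : (snd G XV).left ≫ jU.left = (G ◁ jU).left ≫ (snd G X).left := by
    rw [← Over.comp_left, ← Over.comp_left, whiskerLeft_snd]
  have hpbG := Groth.Agent.Lib.ActOpen18.isPullback_whiskerLeft_snd G jU
  have hGj : IsOpenImmersion (G ◁ jU).left :=
    MorphismProperty.of_isPullback hpbG.flip ‹IsOpenImmersion jU.left›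
  -- opens
  have o1 : jY.left ⁻¹ᵁ (jY.left ''ᵁ U') = U' := Scheme.Hom.preimage_image_eq _ _
  have o2 : jY.left ''ᵁ U' ≤ jY.left.opensRange := Scheme.Hom.image_le_opensRange _ _
  have e3 : φU.left ⁻¹ᵁ U' ≤ jU.left ⁻¹ᵁ (φ.left ⁻¹ᵁ (jY.left ''ᵁ U')) := by
    intro x hx
    show φ.left (jU.left x) ∈ jY.left ''ᵁ U'
    rw [← Scheme.Hom.comp_apply, ← hsqL, Scheme.Hom.comp_apply]
    exact ⟨_, hx, rfl⟩
  have e3' : jU.left ⁻¹ᵁ (φ.left ⁻¹ᵁ (jY.left ''ᵁ U')) ≤ φU.left ⁻¹ᵁ U' := by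
    intro x hx
    have hx' : φ.left (jU.left x) ∈ jY.left ''ᵁ U' := hx
    rw [← Scheme.Hom.comp_apply, ← hsqL, Scheme.Hom.comp_apply] at hx'
    obtain ⟨u, hu, hu'⟩ := hx'
    have : u = φU.left x := jY.left.isOpenEmbedding.injective hu'
    show φU.left x ∈ U'
    rw [← this]; exact hu
  have o4 : φ.left ⁻¹ᵁ (jY.left ''ᵁ U') ≤ jU.left.opensRange := by
    intro x hx
    have hx' : φ.left x ∈ jY.left ''ᵁ U' := hx
    have hr := Groth.Agent.Lib.ClosedAct45.range_fst_of_isPullback hpb.flip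
    show x ∈ Set.range jU.left
    rw [hr]
    obtain ⟨u, -, hu'⟩ := hx'
    exact ⟨u, hu'⟩
  have hβY := appLE_bijective_of_isOpenImmersion jY.left (jY.left ''ᵁ U') U' o1.ge o1.le o2
  have hβX := appLE_bijective_of_isOpenImmersion jU.left (φ.left ⁻¹ᵁ (jY.left ''ᵁ U'))
    (φU.left ⁻¹ᵁ U') e3 e3' o4
  have hsqs : ∀ s : Γ(Y.left, jY.left ''ᵁ U'),
      (jU.left.appLE (φ.left ⁻¹ᵁ (jY.left ''ᵁ U')) (φU.left ⁻¹ᵁ U') e3).hom
        ((φ.left.app (jY.left ''ᵁ U')).hom s) =
      (φU.left.app U').hom ((jY.left.appLE (jY.left ''ᵁ U') U' o1.ge).hom s) := by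
    intro s
    have := appLE_sq jU.left φ.left φU.left jY.left hsqL.symm (jY.left ''ᵁ U')
      (φ.left ⁻¹ᵁ (jY.left ''ᵁ U')) U' (φU.left ⁻¹ᵁ U') le_rfl e3 o1.ge le_rfl s
    simpa only [Scheme.Hom.appLE_eq_app] using this
  refine ⟨?_, Set.Subset.antisymm ?_ ?_⟩
  · intro t₁ t₂ ht
    obtain ⟨s₁, rfl⟩ := hβY.2 t₁
    obtain ⟨s₂, rfl⟩ := hβY.2 t₂
    have ht' : (φU.left.app U').hom ((jY.left.appLE (jY.left ''ᵁ U') U' o1.ge).hom s₁) =
      (φU.left.app U').hom ((jY.left.appLE (jY.left ''ᵁ U') U' o1.ge).hom s₂) := ht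
    rw [← hsqs, ← hsqs] at ht'
    rw [(h.sections (jY.left ''ᵁ U')).1 (hβX.1 ht')]
  · rintro _ ⟨s, rfl⟩
    exact Groth.Agent.Lib.GeomQuotFpqc18.isInvSection_app aU φU hinvU U' s
  · intro f hf
    obtain ⟨ft, rfl⟩ := hβX.2 f
    -- `ft` is invariant
    have eN : aU.act.left ⁻¹ᵁ (φU.left ⁻¹ᵁ U') ⊓ (snd G XV).left ⁻¹ᵁ (φU.left ⁻¹ᵁ U') ≤
        (G ◁ jU).left ⁻¹ᵁ (a.act.left ⁻¹ᵁ (φ.left ⁻¹ᵁ (jY.left ''ᵁ U')) ⊓
          (snd G X).left ⁻¹ᵁ (φ.left ⁻¹ᵁ (jY.left ''ᵁ U'))) := by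
      intro v hv
      constructor
      · show a.act.left ((G ◁ jU).left v) ∈ φ.left ⁻¹ᵁ (jY.left ''ᵁ U')
        rw [← Scheme.Hom.comp_apply, ← hw, Scheme.Hom.comp_apply]
        exact e3 hv.1
      · show (snd G X).left ((G ◁ jU).left v) ∈ φ.left ⁻¹ᵁ (jY.left ''ᵁ U')
        rw [← Scheme.Hom.comp_apply, ← hw2, Scheme.Hom.comp_apply]
        exact e3 hv.2
    have eN' : (G ◁ jU).left ⁻¹ᵁ (a.act.left ⁻¹ᵁ (φ.left ⁻¹ᵁ (jY.left ''ᵁ U')) ⊓
          (snd G X).left ⁻¹ᵁ (φ.left ⁻¹ᵁ (jY.left ''ᵁ U'))) ≤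
        aU.act.left ⁻¹ᵁ (φU.left ⁻¹ᵁ U') ⊓ (snd G XV).left ⁻¹ᵁ (φU.left ⁻¹ᵁ U') := by
      intro v hv
      constructor
      · apply e3'
        show jU.left (aU.act.left v) ∈ φ.left ⁻¹ᵁ (jY.left ''ᵁ U')
        rw [← Scheme.Hom.comp_apply, hw, Scheme.Hom.comp_apply]
        exact hv.1
      · apply e3'
        show jU.left ((snd G XV).left v) ∈ φ.left ⁻¹ᵁ (jY.left ''ᵁ U')
        rw [← Scheme.Hom.comp_apply, hw2, Scheme.Hom.comp_apply]
        exact hv.2
    have oN : a.act.left ⁻¹ᵁ (φ.left ⁻¹ᵁ (jY.left ''ᵁ U')) ⊓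
          (snd G X).left ⁻¹ᵁ (φ.left ⁻¹ᵁ (jY.left ''ᵁ U')) ≤ (G ◁ jU).left.opensRange := by
      intro v hv
      show v ∈ Set.range (G ◁ jU).left
      rw [Groth.Agent.Lib.ClosedAct45.range_fst_of_isPullback hpbG]
      exact o4 hv.2
    have hγ := appLE_bijective_of_isOpenImmersion (G ◁ jU).left _ _ eN eN' oN
    have hft : GIT.IsInvSection a φ (jY.left ''ᵁ U') ft := by
      unfold GIT.IsInvSection at hf ⊢
      apply hγ.1
      rw [← appLE_sq aU.act.left jU.left (G ◁ jU).left a.act.left hw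
          (φ.left ⁻¹ᵁ (jY.left ''ᵁ U')) _ _ _ e3 inf_le_left inf_le_left eN ft,
        ← appLE_sq (snd G XV).left jU.left (G ◁ jU).left (snd G X).left hw2
          (φ.left ⁻¹ᵁ (jY.left ''ᵁ U')) _ _ _ e3 inf_le_right inf_le_right eN ft]
      exact hf
    obtain ⟨s, hs⟩ : ft ∈ Set.range (φ.left.app (jY.left ''ᵁ U')) := by
      rw [(h.sections (jY.left ''ᵁ U')).2]; exact hft
    refine ⟨(jY.left.appLE (jY.left ''ᵁ U') U' o1.ge).hom s, ?_⟩
    change (φU.left.app U').hom _ = _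
    rw [← hsqs]
    exact congrArg _ hs

include h haU hsq hpb in
/-- A good quotient restricts to a good quotient over every open of the target. -/
theorem isGoodQuot_restrict : NRQuot.IsGoodQuot aU φU := by
  have hsqL : φU.left ≫ jY.left = jU.left ≫ φ.left := by
    rw [← Over.comp_left, hsq, Over.comp_left]
  have hrange := Groth.Agent.Lib.ClosedAct45.range_fst_of_isPullback hpb.flip
  -- a point of a closure lying over `YU` comes from the closed set
  have key : ∀ (W : Set XV.left), IsClosed W → ∀ (z : X.left) (u : YU.left),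
      z ∈ closure (jU.left '' W) → φ.left z = jY.left u → ∃ w ∈ W, φU.left w = u := by
    intro W hW z u hz hzu
    have hzr : z ∈ Set.range jU.left := by rw [hrange]; exact ⟨u, hzu.symm⟩
    obtain ⟨w, rfl⟩ := hzr
    refine ⟨w, mem_of_mem_closure_image jU W hW w hz, ?_⟩
    apply jY.left.isOpenEmbedding.injective
    rw [← hzu, ← Scheme.Hom.comp_apply, ← Scheme.Hom.comp_apply, hsqL]
  refine ⟨MorphismProperty.of_isPullback hpb.flip h.affine,
    isInvariant_restrict a φ h aU jU jY haU φU hsq,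
    sections_restrict a φ h aU jU jY haU φU hsq hpb, ?_, ?_⟩
  · intro W hW hWinv
    have hcl := h.closed _ isClosed_closure (isInvariantSet_closure_image a aU jU haU W hWinv)
    have heq : φU.left '' W = jY.left ⁻¹' (φ.left '' closure (jU.left '' W)) := by
      ext u
      constructor
      · rintro ⟨w, hw, rfl⟩
        refine ⟨jU.left w, subset_closure ⟨w, hw, rfl⟩, ?_⟩
        rw [← Scheme.Hom.comp_apply, ← Scheme.Hom.comp_apply, hsqL]
      · rintro ⟨z, hz, hzu⟩
        obtain ⟨w, hw, rfl⟩ := key W hW z u hz hzu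
        exact ⟨w, hw, rfl⟩
    rw [heq]
    exact hcl.preimage jY.left.continuous
  · intro J W hW hWinv
    apply Set.Subset.antisymm (Set.image_iInter_subset _ _)
    intro u hu
    have hu' : jY.left u ∈ ⋂ i, φ.left '' closure (jU.left '' W i) := by
      refine Set.mem_iInter.mpr fun i => ?_
      obtain ⟨w, hw, rfl⟩ := Set.mem_iInter.mp hu i
      refine ⟨jU.left w, subset_closure ⟨w, hw, rfl⟩, ?_⟩
      rw [← Scheme.Hom.comp_apply, ← Scheme.Hom.comp_apply, hsqL]
    rw [← h.inter J (fun i => closure (jU.left '' W i)) (fun i => isClosed_closure)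
      (fun i => isInvariantSet_closure_image a aU jU haU (W i) (hWinv i))] at hu'
    obtain ⟨z, hz, hzu⟩ := hu'
    have hzr : z ∈ Set.range jU.left := by rw [hrange]; exact ⟨u, hzu.symm⟩
    obtain ⟨w, rfl⟩ := hzr
    refine ⟨w, Set.mem_iInter.mpr fun i =>
      mem_of_mem_closure_image jU (W i) (hW i) w (Set.mem_iInter.mp hz i), ?_⟩
    apply jY.left.isOpenEmbedding.injective
    rw [← hzu, ← Scheme.Hom.comp_apply, ← Scheme.Hom.comp_apply, hsqL]

end Groth.Agent.Lib.GoodQuotOpen45
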