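import Groth.Agent.Lib.H14GorLCI
import Groth.Agent.Lib.CMFieldExt33
import Groth.Agent.S15821
import Mathlib

/-!
# Gorenstein rings and field extensions (helper14)

Mirrors helper33's `CMFieldExt33` for the Gorenstein property.
* `isGorensteinRing_quotient_ofList`, `isGorensteinRing_quotient_span_singleton`;
* `PreservesGor k L`: `L ⊗[k] -` preserves Gorenstein `k`-algebras; `trans`, `of_algEquiv`,
  `preservesGor_polynomial`, `preservesGor_adjoinRoot`, `preservesGor_adjoin_simple`,
  `preservesGor_of_fg`, `preservesGor_of_top_fg` (f.g. field extensions; S8948);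
* `gorenstein_localization_tensor_iff`: `C_p` Gorenstein ↔ `(C ⊗_k k')_q` Gorenstein when the fibre
  `κ(p) ⊗_k k'` is Gorenstein (S1760, S1803).
-/

set_option autoImplicit false
set_option linter.style.haveILetI false
set_option linter.unusedSectionVars false
universe u
open CategoryTheory IsLocalRing TensorProduct

namespace Groth.Agent.Lib.H14GorField

open Groth.Agent.Lib Groth.Agent.Lib.H14GorHom Groth.Agent.Lib.H14GorLCI
  Groth.Agent.Lib.KoszulIdeal

section Quot

variable {R : Type u} [CommRing R]

theorem genAt_ofList_one (l : List R) (hl : LCI.IsKoszulRegularSeq R l) :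
    GenAt (Ideal.ofList l) 1 := by
  haveI : IsLocalization.Away (1 : R) R := IsLocalization.away_of_isUnit_of_bijective R isUnit_one
    Function.bijective_id
  refine GenAt.mk R l hl ?_
  rw [Algebra.algebraMap_self, Ideal.map_id]

theorem isKoszulRegularIdeal_ofList (l : List R) (hl : LCI.IsKoszulRegularSeq R l) :
    LCI.IsKoszulRegularIdeal (Ideal.ofList l) := by
  rw [isKoszulRegularIdeal_iff]
  intro 𝔭 _
  exact ⟨1, fun h => 𝔭.isPrime.ne_top ((Ideal.eq_top_iff_one _).mpr h), genAt_ofList_one l hl⟩

/-- The quotient of a Gorenstein ring by a weakly regular sequence is Gorenstein. -/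
theorem isGorensteinRing_quotient_ofList (hR : LocCoh.IsGorensteinRing R) (l : List R)
    (hl : RingTheory.Sequence.IsWeaklyRegular R l) :
    LocCoh.IsGorensteinRing (R ⧸ Ideal.ofList l) :=
  isGorensteinRing_quotient_of_isKoszulRegularIdeal hR _
    (isKoszulRegularIdeal_ofList l (Groth.Agent.S15821.result R l hl).1)

/-- The quotient of a Gorenstein ring by a regular element is Gorenstein. -/
theorem isGorensteinRing_quotient_span_singleton (hR : LocCoh.IsGorensteinRing R) (f : R)
    (hf : IsSMulRegular R f) : LocCoh.IsGorensteinRing (R ⧸ Ideal.span {f}) := by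
  have h := isGorensteinRing_quotient_ofList hR [f]
    ((RingTheory.Sequence.isWeaklyRegular_singleton_iff R f).mpr hf)
  rwa [Ideal.ofList_singleton] at h

end Quot

section Loc

/-- If `L` is a localization of the `k`-algebra `D` and `D ⊗[k] R` is Gorenstein, then so is
`L ⊗[k] R`. -/
theorem isGorensteinRing_tensor_of_isLocalization (k D L R : Type u) [CommRing k] [CommRing D]
    [CommRing L] [CommRing R] [Algebra k D] [Algebra k L] [Algebra D L] [IsScalarTower k D L]
    [Algebra k R] (M : Submonoid D) [IsLocalization M L]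
    (h : LocCoh.IsGorensteinRing (D ⊗[k] R)) : LocCoh.IsGorensteinRing (L ⊗[k] R) := by
  have hloc : IsLocalization (Algebra.algebraMapSubmonoid (D ⊗[k] R) M) ((D ⊗[k] R) ⊗[D] L) :=
    IsLocalization.tensor L M
  have h1 : LocCoh.IsGorensteinRing ((D ⊗[k] R) ⊗[D] L) :=
    isGorensteinRing_of_isLocalization (Algebra.algebraMapSubmonoid (D ⊗[k] R) M) _ h
  have e1 : (D ⊗[k] R) ⊗[D] L ≃ₐ[D] L ⊗[D] (D ⊗[k] R) := Algebra.TensorProduct.comm D _ _
  have e2 : L ⊗[D] (D ⊗[k] R) ≃ₐ[L] L ⊗[k] R := Algebra.TensorProduct.cancelBaseChange k D L L R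
  exact isGorensteinRing_of_ringEquiv (e1.toRingEquiv.trans e2.toRingEquiv) h1

end Loc

section Field

/-- Tensoring with `L` over `k` preserves Gorenstein `k`-algebras. -/
def PreservesGor (k L : Type u) [CommRing k] [CommRing L] [Algebra k L] : Prop :=
  ∀ (R : Type u) [CommRing R] [Algebra k R],
    LocCoh.IsGorensteinRing R → LocCoh.IsGorensteinRing (L ⊗[k] R)

theorem PreservesGor.trans {k E L : Type u} [CommRing k] [CommRing E] [CommRing L] [Algebra k E]
    [Algebra E L] [Algebra k L] [IsScalarTower k E L]
    (h1 : PreservesGor k E) (h2 : PreservesGor E L) : PreservesGor k L := by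
  intro R _ _ hR
  have h3 := h1 R hR
  have h4 := h2 (E ⊗[k] R) h3
  exact isGorensteinRing_of_ringEquiv
    (Algebra.TensorProduct.cancelBaseChange k E L L R).toRingEquiv h4

theorem PreservesGor.of_algEquiv {k L L' : Type u} [CommRing k] [CommRing L] [CommRing L']
    [Algebra k L] [Algebra k L'] (e : L ≃ₐ[k] L') (h : PreservesGor k L) : PreservesGor k L' := by
  intro R _ _ hR
  have h3 := h R hR
  exact isGorensteinRing_of_ringEquiv
    (Algebra.TensorProduct.congr e (AlgEquiv.refl : R ≃ₐ[k] R)).toRingEquiv h3

theorem preservesGor_self (k : Type u) [CommRing k] : PreservesGor k k := by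
  intro R _ _ hR
  exact isGorensteinRing_of_ringEquiv (Algebra.TensorProduct.lid k R).symm.toRingEquiv hR

theorem preservesGor_polynomial (k : Type u) [CommRing k] : PreservesGor k (Polynomial k) := by
  intro R _ _ hR
  have := isGorensteinRing_polynomial R hR
  have e1 : Polynomial R ≃ₐ[R] R ⊗[k] Polynomial k := polyEquivTensor' k R
  have e2 : R ⊗[k] Polynomial k ≃ₐ[k] Polynomial k ⊗[k] R := Algebra.TensorProduct.comm k _ _
  exact isGorensteinRing_of_ringEquiv (e1.toRingEquiv.trans e2.toRingEquiv) this

/-- `E[X]/(f)` preserves Gorenstein algebras, for `f ≠ 0` over a field `E`. -/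
theorem preservesGor_adjoinRoot (E : Type u) [Field E] (f : Polynomial E) (hf : f ≠ 0) :
    PreservesGor E (AdjoinRoot f) := by
  intro R _ _ hR
  have h1 : LocCoh.IsGorensteinRing (Polynomial E ⊗[E] R) := preservesGor_polynomial E R hR
  have hreg : IsSMulRegular (Polynomial E ⊗[E] R)
      (algebraMap (Polynomial E) (Polynomial E ⊗[E] R) f) := by
    have h0 : IsSMulRegular (Polynomial E) f :=
      (IsRegular.of_ne_zero hf).left.isSMulRegular
    exact H14GorFlat.isSMulRegular_algebraMap h0
  have h2 := isGorensteinRing_quotient_span_singleton h1 _ hreg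
  have hspan : (Ideal.span {f}).map (algebraMap (Polynomial E) (Polynomial E ⊗[E] R)) =
      Ideal.span {algebraMap (Polynomial E) (Polynomial E ⊗[E] R) f} := by
    rw [Ideal.map_span, Set.image_singleton]
  let e : (AdjoinRoot f) ⊗[E] R ≃ₐ[E] (Polynomial E ⊗[E] R) ⧸
      (Ideal.span {f}).map (algebraMap (Polynomial E) (Polynomial E ⊗[E] R)) :=
    Algebra.TensorProduct.quotientTensorEquiv (R := E) E R (Polynomial E) (Ideal.span {f})
  exact isGorensteinRing_of_ringEquiv
    ((Ideal.quotEquivOfEq hspan.symm).trans e.symm.toRingEquiv) h2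

open scoped IntermediateField.algebraAdjoinAdjoin in
/-- A simple field extension preserves the Gorenstein property. -/
theorem preservesGor_adjoin_simple (E Ω : Type u) [Field E] [Field Ω] [Algebra E Ω] (a : Ω) :
    PreservesGor E (IntermediateField.adjoin E {a}) := by
  by_cases ha : IsIntegral E a
  · exact (preservesGor_adjoinRoot E (minpoly E a) (minpoly.ne_zero ha)).of_algEquiv
      (IntermediateField.adjoinRootEquivAdjoin E ha)
  · have htr : Transcendental E a := fun h => ha h.isIntegral
    have hinj := transcendental_iff_injective.mp htr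
    let e0 : Polynomial E ≃ₐ[E] (Polynomial.aeval a : Polynomial E →ₐ[E] Ω).range :=
      AlgEquiv.ofInjective _ hinj
    let e1 : (Polynomial.aeval a : Polynomial E →ₐ[E] Ω).range ≃ₐ[E] Algebra.adjoin E {a} :=
      Subalgebra.equivOfEq _ _ (Algebra.adjoin_singleton_eq_range_aeval E a).symm
    have hD : PreservesGor E (Algebra.adjoin E {a}) :=
      (preservesGor_polynomial E).of_algEquiv (e0.trans e1)
    intro R _ _ hR
    have := hD R hR
    exact isGorensteinRing_tensor_of_isLocalization E (Algebra.adjoin E {a})
      (IntermediateField.adjoin E {a}) R (nonZeroDivisors (Algebra.adjoin E {a})) this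

/-- Finitely generated intermediate fields preserve the Gorenstein property. -/
theorem preservesGor_of_fg (k L : Type u) [Field k] [Field L] [Algebra k L]
    (K : IntermediateField k L) (hK : K.FG) : PreservesGor k K := by
  refine IntermediateField.induction_on_adjoin_fg (fun K => PreservesGor k K) ?_ ?_ K hK
  · exact (preservesGor_self k).of_algEquiv (IntermediateField.botEquiv k L).symm
  · intro K x hK
    have h2 : PreservesGor K (IntermediateField.adjoin K {x}) := preservesGor_adjoin_simple K L x
    have h3 : PreservesGor k (IntermediateField.adjoin K {x}) := PreservesGor.trans hK h2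
    exact h3

/-- **Main theorem**: a finitely generated field extension `L/k` preserves the Gorenstein
property: `L ⊗[k] R` is Gorenstein for every Gorenstein `k`-algebra `R`. -/
theorem preservesGor_of_top_fg (k L : Type u) [Field k] [Field L] [Algebra k L]
    (h : (⊤ : IntermediateField k L).FG) : PreservesGor k L :=
  (preservesGor_of_fg k L ⊤ h).of_algEquiv IntermediateField.topEquiv

end Field

section BaseChange

/-- A local ring is Gorenstein iff its localization at the maximal ideal is. -/
theorem isGorensteinLocalRing_localization_maximalIdeal_iff (B : Type u) [CommRing B]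
    [IsLocalRing B] :
    LocCoh.IsGorensteinLocalRing (Localization.AtPrime (maximalIdeal B)) ↔
      LocCoh.IsGorensteinLocalRing B := by
  have hle : (maximalIdeal B).primeCompl ≤ IsUnit.submonoid B := by
    intro x hx
    exact (IsLocalRing.notMem_maximalIdeal.mp hx)
  have e : B ≃ₐ[B] Localization.AtPrime (maximalIdeal B) :=
    IsLocalization.atUnits B (maximalIdeal B).primeCompl hle
  exact (isGorensteinLocalRing_iff_of_ringEquiv e.toRingEquiv).symm

variable (k : Type u) [Field k] (C : Type u) [CommRing C] [Algebra k C] (k' : Type u) [Field k']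
  [Algebra k k']

/-- **Gorenstein and field base change**, local form: if the fibre ring `κ(p) ⊗_k k'` is
Gorenstein then `C_p` is Gorenstein iff `(C ⊗_k k')_q` is, for `q` over `p`. -/
theorem gorenstein_localization_tensor_iff [IsNoetherianRing C] [IsNoetherianRing (C ⊗[k] k')]
    (q : Ideal (C ⊗[k] k')) [q.IsPrime] (p : Ideal C) [p.IsPrime]
    (hq : q.comap (algebraMap C (C ⊗[k] k')) = p)
    (hfib : LocCoh.IsGorensteinRing (p.ResidueField ⊗[k] k')) :
    LocCoh.IsGorensteinLocalRing (Localization.AtPrime q) ↔
      LocCoh.IsGorensteinLocalRing (Localization.AtPrime p) := by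
  haveI : q.LiesOver p := ⟨hq.symm⟩
  obtain ⟨Q, hQ, hQq⟩ := H56SkFibre.exists_fiber_prime p q
  rw [gorenstein_localization_iff_fiber' p Q q hQq]
  have e : p.Fiber (C ⊗[k] k') ≃ₐ[p.ResidueField] p.ResidueField ⊗[k] k' :=
    Algebra.TensorProduct.cancelBaseChange k C p.ResidueField p.ResidueField k'
  have hF : LocCoh.IsGorensteinRing (p.Fiber (C ⊗[k] k')) :=
    isGorensteinRing_of_ringEquiv e.symm.toRingEquiv hfib
  exact ⟨fun h => h.1, fun h => ⟨h, hF.isGorensteinLocalRing_localization Q⟩⟩

end BaseChange

end Groth.Agent.Lib.H14GorField
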