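import Groth.Agent.Lib.ArtinSocle88

/-!
# Local flatness criterion and regular sequences (helper88)

`A → B` a local homomorphism of Noetherian local rings, `M` a finite `B`-module.
* `injective_and_flat_of_lTensor_injective`: if `N` is `A`-flat and `u : M → N` is injective modulo
  `𝔪_A` then `u` is injective with `A`-flat cokernel (Matsumura 22.5).
* `flat_of_isSMulRegular_of_flat_quotSMulTop`: if `f ∈ 𝔪_B` is `M`-regular and `M/fM` is `A`-flat then
  `M` is `A`-flat.
* regular sequence versions (EGA 0_IV 15.1.14–15.1.16).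
-/

set_option autoImplicit false
set_option linter.unusedSectionVars false
universe u v

namespace Groth.Agent.Lib.LocalFlatReg88

open TensorProduct Function IsLocalRing Groth.Agent.Lib.FlatCrit Groth.Agent.Lib.ArtinianFlat
  Groth.Agent.Lib.ArtinSocle88

section Setup

variable {A : Type u} [CommRing A] [IsLocalRing A] [IsNoetherianRing A]
  {B : Type*} [CommRing B] [IsLocalRing B] [IsNoetherianRing B] [Algebra A B]
  [IsLocalHom (algebraMap A B)]

variable (A B) in
theorem map_maximalIdeal_le_jacobson :
    (maximalIdeal A).map (algebraMap A B) ≤ Ideal.jacobson ⊥ := by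
  rw [IsLocalRing.jacobson_eq_maximalIdeal ⊥ bot_ne_top]
  exact IsLocalRing.map_maximalIdeal_le (algebraMap A B)

variable {M N : Type*} [AddCommGroup M] [Module B M] [Module A M] [IsScalarTower A B M]
  [AddCommGroup N] [Module B N] [Module A N] [IsScalarTower A B N]

/-- Local criterion: a finite `B`-module `Q` with `Tor₁^A(Q, k) = 0` is `A`-flat. -/
theorem flat_of_rTensor_maximalIdeal_injective (Q : Type*) [AddCommGroup Q] [Module B Q]
    [Module A Q] [IsScalarTower A B Q] [Module.Finite B Q]
    (h1 : Injective ((maximalIdeal A).subtype.rTensor Q)) : Module.Flat A Q := by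
  have hfl : Module.Flat (A ⧸ maximalIdeal A) ((A ⧸ maximalIdeal A) ⊗[A] Q) :=
    inferInstanceAs (Module.Flat (ResidueField A) (ResidueField A ⊗[A] Q))
  have hsep : ∀ (𝔞 : Ideal A) (x : 𝔞 ⊗[A] Q),
      (∀ n : ℕ, x ∈ (maximalIdeal A) ^ n • (⊤ : Submodule A (𝔞 ⊗[A] Q))) → x = 0 := by
    intro 𝔞 x hx
    exact eq_zero_of_forall_mem_pow_smul_top (S := B) (maximalIdeal A)
      (map_maximalIdeal_le_jacobson A B) x hx
  exact @flat_of_idealSeparated A _ Q _ _ _ (maximalIdeal A) hsep h1 hfl

/-- Nakayama for a `B`-submodule `K ≤ 𝔪_A K`. -/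
theorem eq_bot_of_le_maximalIdeal_smul [Module.Finite B M] (K : Submodule B M)
    (h : ∀ x ∈ K, x ∈ ((maximalIdeal A).map (algebraMap A B)) • K) : K = ⊥ := by
  have hfg : K.FG := IsNoetherian.noetherian K
  exact Submodule.eq_bot_of_le_smul_of_le_jacobson_bot _ K hfg h
    (map_maximalIdeal_le_jacobson A B)

/-- Matsumura 22.5: `u : M → N` a `B`-linear map of finite `B`-modules, `N` flat over `A`, `u`
injective modulo `𝔪_A`.  Then `u` is injective and `N / u M` is flat over `A`. -/
theorem injective_and_flat_of_lTensor_injective [Module.Finite B M] [Module.Finite B N]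
    [Module.Flat A N] (u : M →ₗ[B] N)
    (hi : Injective ((u.restrictScalars A).lTensor (ResidueField A))) :
    Injective u ∧ Module.Flat A (N ⧸ LinearMap.range u) := by
  set v : M →ₗ[A] N := u.restrictScalars A with hv
  let g : N →ₗ[A] N ⧸ LinearMap.range u := (LinearMap.range u).mkQ.restrictScalars A
  have hg : Surjective g := fun y => Submodule.mkQ_surjective (LinearMap.range u) y
  have hvg : Exact v g := by
    intro y
    constructor
    · intro hy
      have : y ∈ LinearMap.range u := by
        rw [← Submodule.Quotient.mk_eq_zero]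
        exact hy
      obtain ⟨x, rfl⟩ := this
      exact ⟨x, rfl⟩
    · rintro ⟨x, rfl⟩
      show (LinearMap.range u).mkQ (u x) = 0
      rw [Submodule.mkQ_apply, Submodule.Quotient.mk_eq_zero]
      exact LinearMap.mem_range_self u x
  -- Step 1: the cokernel is flat
  have h1 : Injective ((maximalIdeal A).subtype.rTensor (N ⧸ LinearMap.range u)) := by
    rw [← LinearMap.lTensor_inj_iff_rTensor_inj]
    exact lTensor_injective_of_exact_of_exact_of_rTensor_injective
      hvg hg (LinearMap.exact_subtype_mkQ (maximalIdeal A)) (Submodule.mkQ_surjective _)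
      ((LinearMap.lTensor_inj_iff_rTensor_inj _ _).mp hi)
      (Module.Flat.lTensor_preserves_injective_linearMap _ Subtype.val_injective)
  have hC : Module.Flat A (N ⧸ LinearMap.range u) :=
    flat_of_rTensor_maximalIdeal_injective (B := B) _ h1
  refine ⟨?_, hC⟩
  -- Step 2: injectivity
  let I : Submodule A N := LinearMap.range v
  let h' : M →ₗ[A] I := v.rangeRestrict
  have hh' : I.subtype ∘ₗ h' = v := LinearMap.subtype_comp_codRestrict _ _ _
  have hs' : Surjective h' := LinearMap.surjective_rangeRestrict v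
  have hcomp : (I.subtype.lTensor (ResidueField A)) ∘ₗ (h'.lTensor (ResidueField A)) =
      v.lTensor (ResidueField A) := by
    rw [← LinearMap.lTensor_comp, hh']
  have hi' : Injective (h'.lTensor (ResidueField A)) := by
    have : Injective ((I.subtype.lTensor (ResidueField A)) ∘ₗ (h'.lTensor (ResidueField A))) := by
      rw [hcomp]; exact hi
    rw [LinearMap.coe_comp] at this
    exact Injective.of_comp this
  -- `I` is flat
  have hIg : Exact I.subtype g := by
    intro y
    constructor
    · intro hy
      obtain ⟨x, hx⟩ := (hvg y).mp hy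
      exact ⟨⟨y, ⟨x, hx⟩⟩, rfl⟩
    · rintro ⟨⟨y, ⟨x, hx⟩⟩, rfl⟩
      exact (hvg _).mpr ⟨x, hx⟩
  have hflatI : Module.Flat A I :=
    flat_of_flat_quotient (Submodule.subtype_injective I) hIg hg
  let K := LinearMap.ker h'
  have hK : Injective (K.subtype.lTensor (ResidueField A)) :=
    lTensor_injective_of_flat_quotient (Submodule.subtype_injective K)
      (LinearMap.exact_subtype_ker_map h') hs' (ResidueField A)
  have hzero : (h'.lTensor (ResidueField A)) ∘ₗ (K.subtype.lTensor (ResidueField A)) = 0 := by
    rw [← LinearMap.lTensor_comp]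
    have : h' ∘ₗ K.subtype = 0 := by
      ext x; exact congrArg Subtype.val (LinearMap.mem_ker.mp x.2)
    rw [this, LinearMap.lTensor_zero]
  have hsub : Subsingleton (ResidueField A ⊗[A] K) := by
    refine ⟨fun x y => ?_⟩
    apply hK
    apply hi'
    have hx := LinearMap.congr_fun hzero x
    have hy := LinearMap.congr_fun hzero y
    simp only [LinearMap.comp_apply, LinearMap.zero_apply] at hx hy
    rw [hx, hy]
  -- so `K = 𝔪 K`
  have hKm : ∀ x : K, x ∈ (maximalIdeal A • ⊤ : Submodule A K) := by
    intro x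
    rw [← LinearMap.ker_tensorProductMk, LinearMap.mem_ker]
    exact Subsingleton.elim (α := ResidueField A ⊗[A] K) _ _
  have hKB : LinearMap.ker u = ⊥ := by
    apply eq_bot_of_le_maximalIdeal_smul (A := A)
    intro x hx
    have hxK : x ∈ K := by
      show h' x = 0
      apply Subtype.ext
      exact hx
    have h2 := hKm ⟨x, hxK⟩
    -- push forward along `K → M`
    have h3 : ∀ y ∈ (maximalIdeal A • ⊤ : Submodule A K),
        (y : M) ∈ ((maximalIdeal A).map (algebraMap A B)) • LinearMap.ker u := by
      intro y hy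
      refine Submodule.smul_induction_on hy ?_ ?_
      · intro a ha z _
        have hz : (z : M) ∈ LinearMap.ker u := by
          have := z.2
          have h4 : h' (z : M) = 0 := this
          have := congrArg Subtype.val h4
          exact this
        have : ((a • z : K) : M) = (algebraMap A B a) • (z : M) := by
          rw [algebraMap_smul]; rfl
        rw [this]
        exact Submodule.smul_mem_smul (Ideal.mem_map_of_mem _ ha) hz
      · intro y z hy hz
        exact Submodule.add_mem _ hy hz
    exact h3 _ h2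
  exact LinearMap.ker_eq_bot.mp hKB

end Setup

section F2

open scoped Pointwise

variable {A : Type u} [CommRing A] [IsLocalRing A] [IsNoetherianRing A]
  {B : Type*} [CommRing B] [IsLocalRing B] [IsNoetherianRing B] [Algebra A B]
  [IsLocalHom (algebraMap A B)]
variable {M : Type*} [AddCommGroup M] [Module B M] [Module A M] [IsScalarTower A B M]

/-- The `B`-linear multiplication map `M ⊗ 𝔞 → M`. -/
noncomputable def mulMap (𝔞 : Ideal A) (M : Type*) [AddCommGroup M] [Module B M] [Module A M]
    [IsScalarTower A B M] : M ⊗[A] 𝔞 →ₗ[B] M :=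
  (AlgebraTensorModule.rid A B M).toLinearMap ∘ₗ AlgebraTensorModule.lTensor B M 𝔞.subtype

@[simp] theorem mulMap_tmul (𝔞 : Ideal A) (x : M) (a : 𝔞) :
    mulMap (B := B) 𝔞 M (x ⊗ₜ[A] a) = (a : A) • x := rfl

theorem mulMap_injective_of_flat (𝔞 : Ideal A) [Module.Flat A M] :
    Injective (mulMap (B := B) 𝔞 M) := by
  have h1 : Injective (𝔞.subtype.lTensor M) :=
    Module.Flat.lTensor_preserves_injective_linearMap _ 𝔞.subtype_injective
  intro x y hxy
  apply h1
  apply (AlgebraTensorModule.rid A B M).injective
  exact hxy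

theorem rTensor_injective_of_mulMap_injective (𝔞 : Ideal A)
    (h : Injective (mulMap (B := B) 𝔞 M)) : Injective (𝔞.subtype.rTensor M) := by
  rw [← LinearMap.lTensor_inj_iff_rTensor_inj]
  intro x y hxy
  apply h
  show (AlgebraTensorModule.rid A B M) (𝔞.subtype.lTensor M x) =
    (AlgebraTensorModule.rid A B M) (𝔞.subtype.lTensor M y)
  rw [hxy]

/-- If `f ∈ 𝔪_B` is `M`-regular and `M/fM` is flat over `A`, then `M` is flat over `A`. -/
theorem flat_of_isSMulRegular_of_flat_quotSMulTop [Module.Finite B M] (f : B)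
    (hf : f ∈ maximalIdeal B) (hreg : IsSMulRegular M f)
    [hQ : Module.Flat A (QuotSMulTop f M)] : Module.Flat A M := by
  set 𝔪 := maximalIdeal A with h𝔪
  apply flat_of_rTensor_maximalIdeal_injective (B := B)
  apply rTensor_injective_of_mulMap_injective (B := B)
  have hfin : Module.Finite B (M ⊗[A] 𝔪) := finite_tensorProduct_left
  set T : Submodule B (M ⊗[A] 𝔪) := LinearMap.ker (mulMap (B := B) 𝔪 M) with hT
  suffices hTbot : T = ⊥ from LinearMap.ker_eq_bot.mp hTbot
  have hfg : T.FG := IsNoetherian.noetherian T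
  refine Submodule.eq_bot_of_le_smul_of_le_jacobson_bot (Ideal.span {f}) T hfg ?_ ?_
  · intro t ht
    -- the quotient map and multiplication by `f`
    let q : M →ₗ[A] QuotSMulTop f M := (Submodule.mkQ (f • (⊤ : Submodule B M))).restrictScalars A
    let μ : M →ₗ[A] M := (LinearMap.lsmul B M f).restrictScalars A
    have hq : Surjective q := fun y => Submodule.mkQ_surjective (f • (⊤ : Submodule B M)) y
    have hμq : Exact μ q := by
      intro y
      constructor
      · intro hy
        have h1 : y ∈ f • (⊤ : Submodule B M) := by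
          rw [← Submodule.Quotient.mk_eq_zero]
          exact hy
        rw [Submodule.mem_smul_pointwise_iff_exists] at h1
        obtain ⟨z, -, rfl⟩ := h1
        exact ⟨z, rfl⟩
      · rintro ⟨z, rfl⟩
        show Submodule.mkQ (f • (⊤ : Submodule B M)) (f • z) = 0
        rw [Submodule.mkQ_apply, Submodule.Quotient.mk_eq_zero]
        exact Submodule.smul_mem_pointwise_smul z f ⊤ Submodule.mem_top
    have hex : Exact (μ.rTensor 𝔪) (q.rTensor 𝔪) := rTensor_exact 𝔪 hμq hq
    -- `q ⊗ 𝔪` kills `t`
    have h2 : q.rTensor 𝔪 t = 0 := by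
      apply mulMap_injective_of_flat (B := B) (M := QuotSMulTop f M) 𝔪
      rw [map_zero]
      have hnat : ∀ z : M ⊗[A] 𝔪, mulMap (B := B) 𝔪 (QuotSMulTop f M) (q.rTensor 𝔪 z) =
          q (mulMap (B := B) 𝔪 M z) := by
        intro z
        induction z with
        | zero => simp
        | add x y hx hy => simp only [map_add, hx, hy]
        | tmul x a =>
          rw [LinearMap.rTensor_tmul, mulMap_tmul, mulMap_tmul, map_smul]
      rw [hnat, LinearMap.mem_ker.mp ht, map_zero]
    obtain ⟨t', ht'⟩ := (hex t).mp h2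
    have hμ : ∀ z : M ⊗[A] 𝔪, μ.rTensor 𝔪 z = f • z := by
      intro z
      induction z with
      | zero => simp
      | add x y hx hy => rw [map_add, hx, hy, smul_add]
      | tmul x a => rfl
    rw [hμ] at ht'
    have ht'T : t' ∈ T := by
      rw [hT, LinearMap.mem_ker]
      apply hreg
      show f • mulMap (B := B) 𝔪 M t' = f • 0
      rw [← map_smul, ht', LinearMap.mem_ker.mp ht, smul_zero]
    rw [← ht']
    exact Submodule.smul_mem_smul (Ideal.mem_span_singleton_self f) ht'T
  · rw [IsLocalRing.jacobson_eq_maximalIdeal ⊥ bot_ne_top, Ideal.span_le]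
    exact Set.singleton_subset_iff.mpr hf

end F2

section Seq

open RingTheory.Sequence
open scoped Pointwise

variable {A : Type u} [CommRing A] [IsLocalRing A] [IsNoetherianRing A]
  {B : Type*} [CommRing B] [IsLocalRing B] [IsNoetherianRing B] [Algebra A B]
  [IsLocalHom (algebraMap A B)]

/-- `M ⧸ (ofList [] • ⊤) ≃ M`. -/
noncomputable def quotOfListNilEquiv (M : Type*) [AddCommGroup M] [Module B M] :
    (M ⧸ (Ideal.ofList ([] : List B) • ⊤ : Submodule B M)) ≃ₗ[B] M :=
  Submodule.quotEquivOfEqBot _ (by rw [Ideal.ofList_nil, Submodule.bot_smul])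

theorem flat_quot_ofList_nil (M : Type*) [AddCommGroup M] [Module B M] [Module A M]
    [IsScalarTower A B M] [Module.Flat A M] :
    Module.Flat A (M ⧸ (Ideal.ofList ([] : List B) • ⊤ : Submodule B M)) := by
  have e : (M ⧸ (Ideal.ofList ([] : List B) • ⊤ : Submodule B M)) ≃ₗ[A] M :=
    (quotOfListNilEquiv M).restrictScalars A
  exact Module.Flat.of_linearEquiv e

theorem flat_of_flat_quot_ofList_nil (M : Type*) [AddCommGroup M] [Module B M] [Module A M]
    [IsScalarTower A B M]
    [Module.Flat A (M ⧸ (Ideal.ofList ([] : List B) • ⊤ : Submodule B M))] :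
    Module.Flat A M := by
  have e : (M ⧸ (Ideal.ofList ([] : List B) • ⊤ : Submodule B M)) ≃ₗ[A] M :=
    (quotOfListNilEquiv M).restrictScalars A
  exact Module.Flat.of_linearEquiv e.symm

theorem flat_quot_ofList_cons_iff (M : Type*) [AddCommGroup M] [Module B M] [Module A M]
    [IsScalarTower A B M] (f : B) (fs : List B) :
    Module.Flat A (M ⧸ (Ideal.ofList (f :: fs) • ⊤ : Submodule B M)) ↔
      Module.Flat A (QuotSMulTop f M ⧸ (Ideal.ofList fs • ⊤ : Submodule B (QuotSMulTop f M))) := by
  have e : (M ⧸ (Ideal.ofList (f :: fs) • ⊤ : Submodule B M)) ≃ₗ[A]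
      (QuotSMulTop f M ⧸ (Ideal.ofList fs • ⊤ : Submodule B (QuotSMulTop f M))) :=
    (Submodule.quotOfListConsSMulTopEquivQuotSMulTopInner M f fs).restrictScalars A
  exact ⟨fun _ => Module.Flat.of_linearEquiv e.symm, fun _ => Module.Flat.of_linearEquiv e⟩

theorem range_lsmul_eq (M : Type*) [AddCommGroup M] [Module B M] (f : B) :
    LinearMap.range (LinearMap.lsmul B M f) = f • (⊤ : Submodule B M) := by
  ext x
  rw [Submodule.mem_smul_pointwise_iff_exists]
  constructor
  · rintro ⟨y, rfl⟩
    exact ⟨y, Submodule.mem_top, rfl⟩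
  · rintro ⟨y, -, rfl⟩
    exact ⟨y, rfl⟩

/-- one step: `f` regular on `M/𝔪M`, `M` flat: `f` regular on `M` and `M/fM` flat. -/
theorem isSMulRegular_and_flat_of_fibre (M : Type*) [AddCommGroup M] [Module B M] [Module A M]
    [IsScalarTower A B M] [Module.Finite B M] [Module.Flat A M] (f : B)
    (h : IsSMulRegular (M ⧸ ((maximalIdeal A).map (algebraMap A B) • ⊤ : Submodule B M)) f) :
    IsSMulRegular M f ∧ Module.Flat A (QuotSMulTop f M) := by
  rw [isSMulRegular_quotient_iff_mem_of_smul_mem] at h
  have h1 : Injective (((LinearMap.lsmul B M f).restrictScalars A).lTensor (ResidueField A)) := by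
    refine (lTensor_quotient_injective_iff (maximalIdeal A) _).mpr ?_
    intro x hx
    exact (mem_map_smul_top_iff (S := B) (maximalIdeal A) x).mp
      (h x ((mem_map_smul_top_iff (S := B) (maximalIdeal A) _).mpr hx))
  obtain ⟨h2, h3⟩ := injective_and_flat_of_lTensor_injective (A := A) (LinearMap.lsmul B M f) h1
  refine ⟨h2, ?_⟩
  exact Module.Flat.of_linearEquiv
    ((Submodule.quotEquivOfEq _ _ (range_lsmul_eq M f)).restrictScalars A).symm

/-- EGA 0_IV 15.1.16 (b ⇒ c): a sequence regular on the closed fibre of a flat module is regular,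
with flat successive quotients. -/
theorem isWeaklyRegular_and_flat_of_fibre (fs : List B) :
    ∀ (M : Type v) [AddCommGroup M] [Module B M] [Module A M] [IsScalarTower A B M]
      [Module.Finite B M] [Module.Flat A M],
      IsWeaklyRegular (M ⧸ ((maximalIdeal A).map (algebraMap A B) • ⊤ : Submodule B M)) fs →
      IsWeaklyRegular M fs ∧ ∀ i ≤ fs.length,
        Module.Flat A (M ⧸ (Ideal.ofList (fs.take i) • ⊤ : Submodule B M)) := by
  induction fs with
  | nil =>
    intro M _ _ _ _ _ _ _
    refine ⟨IsWeaklyRegular.nil B M, ?_⟩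
    intro i hi
    have : i = 0 := by simpa using hi
    subst this
    exact flat_quot_ofList_nil (A := A) M
  | cons f fs ih =>
    intro M _ _ _ _ _ _ h
    rw [isWeaklyRegular_cons_iff] at h
    obtain ⟨hf, hfs⟩ := h
    obtain ⟨h1, h2⟩ := isSMulRegular_and_flat_of_fibre (A := A) M f hf
    rw [(quotSMulTopQuotEquiv f _ M).isWeaklyRegular_congr] at hfs
    obtain ⟨h3, h4⟩ := ih (QuotSMulTop f M) hfs
    refine ⟨(isWeaklyRegular_cons_iff M f fs).mpr ⟨h1, h3⟩, ?_⟩
    intro i hi
    cases i with
    | zero =>
      exact flat_quot_ofList_nil (A := A) M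
    | succ i =>
      have := h4 i (by simpa using hi)
      rw [List.take_succ_cons, flat_quot_ofList_cons_iff]
      exact this

/-- EGA 0_IV 15.1.16 (c ⇒ a direction): if `fs ⊆ 𝔪_B` is `M`-regular and `M/(fs)M` is flat, all the
intermediate quotients are flat. -/
theorem flat_take_of_isWeaklyRegular (fs : List B) :
    ∀ (M : Type v) [AddCommGroup M] [Module B M] [Module A M] [IsScalarTower A B M]
      [Module.Finite B M], (∀ f ∈ fs, f ∈ maximalIdeal B) → IsWeaklyRegular M fs →
      Module.Flat A (M ⧸ (Ideal.ofList fs • ⊤ : Submodule B M)) →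
      ∀ i ≤ fs.length, Module.Flat A (M ⧸ (Ideal.ofList (fs.take i) • ⊤ : Submodule B M)) := by
  induction fs with
  | nil =>
    intro M _ _ _ _ _ _ _ hflat i hi
    have : i = 0 := by simpa using hi
    subst this
    exact hflat
  | cons f fs ih =>
    intro M _ _ _ _ _ hmem hreg hflat
    rw [isWeaklyRegular_cons_iff] at hreg
    obtain ⟨hf, hfs⟩ := hreg
    have hflat' : Module.Flat A (QuotSMulTop f M ⧸
        (Ideal.ofList fs • ⊤ : Submodule B (QuotSMulTop f M))) :=
      (flat_quot_ofList_cons_iff M f fs).mp hflat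
    have h4 := ih (QuotSMulTop f M) (fun g hg => hmem g (List.mem_cons_of_mem _ hg)) hfs hflat'
    have hQ : Module.Flat A (QuotSMulTop f M) := by
      have h0 : Module.Flat A (QuotSMulTop f M ⧸
          (Ideal.ofList ([] : List B) • ⊤ : Submodule B (QuotSMulTop f M))) :=
        h4 0 (Nat.zero_le _)
      exact flat_of_flat_quot_ofList_nil (A := A) (B := B) (QuotSMulTop f M)
    have hM : Module.Flat A M :=
      flat_of_isSMulRegular_of_flat_quotSMulTop (A := A) f (hmem f List.mem_cons_self) hf
    intro i hi
    cases i with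
    | zero =>
      exact flat_quot_ofList_nil (A := A) M
    | succ i =>
      have := h4 i (by simpa using hi)
      rw [List.take_succ_cons, flat_quot_ofList_cons_iff]
      exact this

end Seq

section Sub

open RingTheory.Sequence

variable {A : Type u} [CommRing A] [IsLocalRing A] [IsNoetherianRing A]
  {B : Type*} [CommRing B] [IsLocalRing B] [IsNoetherianRing B] [Algebra A B]
  [IsLocalHom (algebraMap A B)]
variable {M : Type*} [AddCommGroup M] [Module B M] [Module A M] [IsScalarTower A B M]

/-- If `M/R` is `A`-flat then `𝔪M ∩ R = 𝔪R`. -/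
theorem mem_smul_of_mem_inf_of_flat_quotient (R : Submodule B M) [Module.Flat A (M ⧸ R)]
    (x : M) (hxR : x ∈ R)
    (hx : x ∈ ((maximalIdeal A).map (algebraMap A B) • ⊤ : Submodule B M)) :
    x ∈ (maximalIdeal A).map (algebraMap A B) • R := by
  let f : R →ₗ[A] M := R.subtype.restrictScalars A
  let g : M →ₗ[A] M ⧸ R := R.mkQ.restrictScalars A
  have hf : Injective f := Subtype.val_injective
  have hg : Surjective g := fun y => Submodule.mkQ_surjective R y
  have hfg : Exact f g := by
    intro y
    constructor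
    · intro hy
      have hyR : y ∈ R := by
        rw [← Submodule.Quotient.mk_eq_zero]
        exact hy
      exact ⟨⟨y, hyR⟩, rfl⟩
    · rintro ⟨z, rfl⟩
      show R.mkQ (z : M) = 0
      rw [Submodule.mkQ_apply, Submodule.Quotient.mk_eq_zero]
      exact z.2
  have h1 : Injective (f.lTensor (A ⧸ maximalIdeal A)) :=
    lTensor_injective_of_flat_quotient hf hfg hg _
  rw [lTensor_quotient_injective_iff] at h1
  have h2 := h1 ⟨x, hxR⟩ ((mem_map_smul_top_iff (S := B) (maximalIdeal A) x).mp hx)
  have h3 : ∀ y ∈ (maximalIdeal A • ⊤ : Submodule A R),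
      (y : M) ∈ (maximalIdeal A).map (algebraMap A B) • R := by
    intro y hy
    refine Submodule.smul_induction_on hy ?_ ?_
    · intro a ha z _
      have : ((a • z : R) : M) = (algebraMap A B a) • (z : M) := by
        rw [algebraMap_smul]; rfl
      rw [this]
      exact Submodule.smul_mem_smul (Ideal.mem_map_of_mem _ ha) z.2
    · intro y z hy hz
      exact Submodule.add_mem _ hy hz
  exact h3 _ h2

/-- EGA 0_IV 15.1.16-type statement: `R = (fs) M` when this holds modulo `𝔪_A` and `M/R` is flat. -/
theorem eq_ofList_smul_of_fibre [Module.Finite B M] (R : Submodule B M)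
    [Module.Flat A (M ⧸ R)] (fs : List B) (h1 : Ideal.ofList fs • (⊤ : Submodule B M) ≤ R)
    (h3 : Ideal.ofList fs • (⊤ : Submodule B
        (M ⧸ ((maximalIdeal A).map (algebraMap A B) • (⊤ : Submodule B M)))) =
      R.map ((maximalIdeal A).map (algebraMap A B) • (⊤ : Submodule B M)).mkQ) :
    R = Ideal.ofList fs • (⊤ : Submodule B M) := by
  refine le_antisymm ?_ h1
  set P : Submodule B M := (maximalIdeal A).map (algebraMap A B) • ⊤ with hP
  set J : Submodule B M := Ideal.ofList fs • ⊤ with hJ
  have hmap : Ideal.ofList fs • (⊤ : Submodule B (M ⧸ P)) = J.map P.mkQ := by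
    rw [hJ, Submodule.map_smul'', Submodule.map_top, Submodule.range_mkQ]
  have hfg : R.FG := IsNoetherian.noetherian R
  refine Submodule.le_of_le_smul_of_le_jacobson_bot hfg (map_maximalIdeal_le_jacobson A B) ?_
  intro r hr
  have h4 : P.mkQ r ∈ J.map P.mkQ := by
    rw [← hmap, h3]
    exact Submodule.mem_map_of_mem hr
  obtain ⟨j, hj, hjr⟩ := h4
  have h5 : r - j ∈ P := by
    rw [← Submodule.Quotient.mk_eq_zero, Submodule.Quotient.mk_sub]
    have : Submodule.Quotient.mk (p := P) j = Submodule.Quotient.mk r := hjr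
    rw [this, sub_self]
  have h6 : r - j ∈ R := R.sub_mem hr (h1 hj)
  have h7 := mem_smul_of_mem_inf_of_flat_quotient (A := A) R (r - j) h6 h5
  have : r = j + (r - j) := by abel
  rw [this]
  exact Submodule.add_mem_sup hj h7

end Sub

end Groth.Agent.Lib.LocalFlatReg88
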