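import Groth.Agent.Lib.H14GorType
import Groth.Agent.Lib.SkFlat33
import Groth.Agent.Lib.LocalFlatReg88
import Groth.Agent.Lib.CMComp33
import Groth.Agent.S0343
import Mathlib

/-!
# Gorenstein rings and flat local homomorphisms (helper14)

`gorenstein_flat_local_iff` (= S0344): for a flat local homomorphism `A → B` of Noetherian local
rings, `B` is Gorenstein iff `A` and `B/𝔪_A B` are.  `gorenstein_iff_of_surjective`: same with the
closed fibre presented as any surjection `π : B ↠ F` with `ker π = 𝔪_A B`.
Proof: induction on `dim B`, killing regular elements of `A` (`reduce_base`) or of the fibre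
(`reduce_fibre`, helper88's local flatness criterion), using S0343; base case `artinian_case` via
the type formula (`H14GorType`).
-/

set_option autoImplicit false
set_option linter.style.haveILetI false
set_option linter.unusedSectionVars false
universe u
open CategoryTheory IsLocalRing Pointwise

namespace Groth.Agent.Lib.H14GorFlat

open Groth.Agent.Lib.H14GorArt Groth.Agent.Lib.H14GorType Groth.Agent.Lib

section Setup

variable {A B F : Type u} [CommRing A] [CommRing B] [CommRing F] [IsLocalRing A] [IsLocalRing B]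
  [IsLocalRing F] [Algebra A B] [IsLocalHom (algebraMap A B)]
  (π : B →+* F) (hπ : Function.Surjective π)
  (hker : RingHom.ker π = (maximalIdeal A).map (algebraMap A B))

include hπ hker in
/-- Regularity on the closed fibre, as a `B`-module and as a ring. -/
lemma isSMulRegular_fibre_iff (y : B) :
    IsSMulRegular (B ⧸ ((maximalIdeal A).map (algebraMap A B) • ⊤ : Submodule B B)) y ↔
      IsSMulRegular F (π y) := by
  rw [isSMulRegular_quotient_iff_mem_of_smul_mem, isSMulRegular_iff_right_eq_zero_of_smul]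
  have hI : ((maximalIdeal A).map (algebraMap A B) • ⊤ : Submodule B B) =
      (maximalIdeal A).map (algebraMap A B) := by simp
  rw [hI, ← hker]
  constructor
  · intro h z hz
    obtain ⟨b, rfl⟩ := hπ z
    have : b ∈ RingHom.ker π := h b (by rw [RingHom.mem_ker, smul_eq_mul, map_mul]; exact hz)
    exact this
  · intro h b hb
    rw [RingHom.mem_ker, smul_eq_mul, map_mul] at hb
    exact h (π b) hb

end Setup

/-- The induction hypothesis: the theorem for all triples with `dim B' + 1 ≤ d`. -/
def IHyp (d : WithBot ℕ∞) : Prop :=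
  ∀ (A' B' F' : Type u) [CommRing A'] [CommRing B'] [CommRing F'] [IsLocalRing A']
    [IsLocalRing B'] [IsLocalRing F'] [IsNoetherianRing A'] [IsNoetherianRing B'] [Algebra A' B']
    [IsLocalHom (algebraMap A' B')] [Module.Flat A' B'] (π' : B' →+* F')
    (_ : Function.Surjective π')
    (_ : RingHom.ker π' = (maximalIdeal A').map (algebraMap A' B')),
    ringKrullDim B' + 1 ≤ d →
      (LocCoh.IsGorensteinLocalRing B' ↔
        (LocCoh.IsGorensteinLocalRing A' ∧ LocCoh.IsGorensteinLocalRing F'))

section Reduce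

variable {A B F : Type u} [CommRing A] [CommRing B] [CommRing F] [IsLocalRing A] [IsLocalRing B]
  [IsLocalRing F] [IsNoetherianRing A] [IsNoetherianRing B] [Algebra A B]
  [IsLocalHom (algebraMap A B)] [Module.Flat A B]
  (π : B →+* F) (hπ : Function.Surjective π)
  (hker : RingHom.ker π = (maximalIdeal A).map (algebraMap A B))

omit [IsNoetherianRing A] [IsNoetherianRing B] [IsLocalRing B] [IsLocalHom (algebraMap A B)]
  [IsLocalRing A] in
lemma isSMulRegular_algebraMap {x : A} (hreg : IsSMulRegular A x) :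
    IsSMulRegular B (algebraMap A B x) := by
  have h1 : RingTheory.Sequence.IsWeaklyRegular A [x] :=
    (RingTheory.Sequence.isWeaklyRegular_singleton_iff A x).mpr hreg
  have h2 := h1.of_flat (S := B)
  rw [List.map_singleton] at h2
  exact (RingTheory.Sequence.isWeaklyRegular_singleton_iff B _).mp h2

omit [IsNoetherianRing A] [IsNoetherianRing B] [IsLocalRing B] [IsLocalHom (algebraMap A B)]
  [IsLocalRing A] [Algebra A B] [Module.Flat A B] in
lemma mem_nzd {y : B} (h : IsSMulRegular B y) : y ∈ nonZeroDivisors B := by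
  rw [mem_nonZeroDivisors_iff_left]
  intro z hz
  exact (isSMulRegular_iff_right_eq_zero_of_smul.mp h) z (by rwa [smul_eq_mul])

include hπ hker in
/-- Case 1: reduction modulo an `A`-regular element of `𝔪_A`. -/
theorem reduce_base (x : A) (hx : x ∈ maximalIdeal A) (hreg : IsSMulRegular A x)
    (IH : IHyp.{u} (ringKrullDim B)) :
    LocCoh.IsGorensteinLocalRing B ↔
      (LocCoh.IsGorensteinLocalRing A ∧ LocCoh.IsGorensteinLocalRing F) := by
  have hxB : algebraMap A B x ∈ maximalIdeal B :=
    map_maximalIdeal_le (algebraMap A B) (Ideal.mem_map_of_mem _ hx)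
  have hregB : IsSMulRegular B (algebraMap A B x) := isSMulRegular_algebraMap hreg
  have hspan : (Ideal.span {x}).map (algebraMap A B) = Ideal.span {algebraMap A B x} := by
    rw [Ideal.map_span, Set.image_singleton]
  have hIA : Ideal.span {x} ≤ maximalIdeal A := by
    rw [Ideal.span_le]; intro z hz; rw [Set.mem_singleton_iff] at hz; rw [hz]; exact hx
  have hIB : (Ideal.span {x}).map (algebraMap A B) ≤
      (maximalIdeal A).map (algebraMap A B) := Ideal.map_mono hIA
  haveI : IsLocalRing (A ⧸ Ideal.span {x}) :=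
    CMComp33.isLocalRing_quotient _ (fun h => (maximalIdeal.isMaximal A).ne_top
      (top_le_iff.mp (h ▸ hIA)))
  haveI : IsLocalRing (B ⧸ (Ideal.span {x}).map (algebraMap A B)) :=
    CMComp33.isLocalRing_quotient _ (fun h => (maximalIdeal.isMaximal B).ne_top
      (top_le_iff.mp (h ▸ hIB.trans (map_maximalIdeal_le (algebraMap A B)))))
  haveI : Module.Flat (A ⧸ Ideal.span {x}) (B ⧸ (Ideal.span {x}).map (algebraMap A B)) :=
    CMComp33.flat_quotient _
  haveI : IsLocalHom (algebraMap (A ⧸ Ideal.span {x})
      (B ⧸ (Ideal.span {x}).map (algebraMap A B))) := by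
    constructor
    intro a ha
    obtain ⟨a, rfl⟩ := Ideal.Quotient.mk_surjective a
    rw [Ideal.Quotient.algebraMap_quotient_map_quotient] at ha
    have hloc : IsLocalHom (Ideal.Quotient.mk ((Ideal.span {x}).map (algebraMap A B))) :=
      IsLocalHom.of_surjective _ Ideal.Quotient.mk_surjective
    have h1 : IsUnit (algebraMap A B a) :=
      (isUnit_map_iff (Ideal.Quotient.mk ((Ideal.span {x}).map (algebraMap A B))) _).mp ha
    have h2 : IsUnit a := (isUnit_map_iff (algebraMap A B) a).mp h1
    exact h2.map _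
  have hle : (Ideal.span {x}).map (algebraMap A B) ≤ RingHom.ker π := by rw [hker]; exact hIB
  let π' : (B ⧸ (Ideal.span {x}).map (algebraMap A B)) →+* F :=
    Ideal.Quotient.lift _ π hle
  have hπ' : Function.Surjective π' := by
    intro z
    obtain ⟨b, rfl⟩ := hπ z
    exact ⟨Ideal.Quotient.mk _ b, rfl⟩
  have hker' : RingHom.ker π' = (maximalIdeal (A ⧸ Ideal.span {x})).map
      (algebraMap (A ⧸ Ideal.span {x}) (B ⧸ (Ideal.span {x}).map (algebraMap A B))) := by
    rw [Ideal.ker_quotient_lift, hker,
      ← map_maximalIdeal_of_surjective (Ideal.Quotient.mk (Ideal.span {x}))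
        Ideal.Quotient.mk_surjective, Ideal.map_map, Ideal.map_map]
    rfl
  have hdim : ringKrullDim (B ⧸ (Ideal.span {x}).map (algebraMap A B)) + 1 ≤ ringKrullDim B := by
    rw [hspan]
    exact ringKrullDim_quotient_succ_le_of_nonZeroDivisor (mem_nzd hregB)
  have key := IH (A ⧸ Ideal.span {x}) (B ⧸ (Ideal.span {x}).map (algebraMap A B)) F π' hπ' hker'
    hdim
  have hA := Groth.Agent.S0343.result A x hx hreg
  have hB := Groth.Agent.S0343.result B (algebraMap A B x) hxB hregB
  rw [← hspan] at hB
  rw [hA, hB]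
  exact key

include hπ hker in
/-- Case 2: reduction modulo an element of `𝔪_B` which is regular on the closed fibre. -/
theorem reduce_fibre (y : B) (hy : y ∈ maximalIdeal B) (hreg : IsSMulRegular F (π y))
    (IH : IHyp.{u} (ringKrullDim B)) :
    LocCoh.IsGorensteinLocalRing B ↔
      (LocCoh.IsGorensteinLocalRing A ∧ LocCoh.IsGorensteinLocalRing F) := by
  haveI : IsNoetherianRing F := isNoetherianRing_of_surjective B F π hπ
  have hregq := (isSMulRegular_fibre_iff π hπ hker y).mpr hreg
  obtain ⟨hregB, hflat⟩ := LocalFlatReg88.isSMulRegular_and_flat_of_fibre (A := A) B y hregq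
  have hπy : π y ∈ maximalIdeal F := (map_mem_maximalIdeal_iff π hπ y).mpr hy
  have hJB : Ideal.span {y} ≤ maximalIdeal B := by
    rw [Ideal.span_le]; intro z hz; rw [Set.mem_singleton_iff] at hz; rw [hz]; exact hy
  have hJF : Ideal.span {π y} ≤ maximalIdeal F := by
    rw [Ideal.span_le]; intro z hz; rw [Set.mem_singleton_iff] at hz; rw [hz]; exact hπy
  haveI : IsLocalRing (B ⧸ Ideal.span {y}) :=
    CMComp33.isLocalRing_quotient _ (fun h => (maximalIdeal.isMaximal B).ne_top
      (top_le_iff.mp (h ▸ hJB)))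
  haveI : IsLocalRing (F ⧸ Ideal.span {π y}) :=
    CMComp33.isLocalRing_quotient _ (fun h => (maximalIdeal.isMaximal F).ne_top
      (top_le_iff.mp (h ▸ hJF)))
  have hJeq : Ideal.span {y} = (y • (⊤ : Submodule B B)) := by
    rw [← Submodule.ideal_span_singleton_smul y ⊤]
    simp
  haveI : Module.Flat A (B ⧸ Ideal.span {y}) :=
    Module.Flat.of_linearEquiv ((Submodule.quotEquivOfEq _ _ hJeq).restrictScalars A)
  haveI : IsLocalHom (algebraMap A (B ⧸ Ideal.span {y})) := by
    constructor
    intro a ha
    have h0 : algebraMap A (B ⧸ Ideal.span {y}) a =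
        Ideal.Quotient.mk (Ideal.span {y}) (algebraMap A B a) := rfl
    rw [h0] at ha
    have hloc : IsLocalHom (Ideal.Quotient.mk (Ideal.span {y})) :=
      IsLocalHom.of_surjective _ Ideal.Quotient.mk_surjective
    have h1 : IsUnit (algebraMap A B a) :=
      (isUnit_map_iff (Ideal.Quotient.mk (Ideal.span {y})) _).mp ha
    exact (isUnit_map_iff (algebraMap A B) a).mp h1
  have hle : Ideal.span {y} ≤ (Ideal.span {π y}).comap π := by
    rw [Ideal.span_le]; intro z hz; rw [Set.mem_singleton_iff] at hz; rw [hz]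
    exact Ideal.subset_span rfl
  let π' : (B ⧸ Ideal.span {y}) →+* (F ⧸ Ideal.span {π y}) := Ideal.quotientMap _ π hle
  have hπ' : Function.Surjective π' := Ideal.quotientMap_surjective hπ
  have hπ'mk : ∀ b : B, π' (Ideal.Quotient.mk _ b) = Ideal.Quotient.mk _ (π b) := fun b => rfl
  have hker' : RingHom.ker π' =
      (maximalIdeal A).map (algebraMap A (B ⧸ Ideal.span {y})) := by
    have h1 : (maximalIdeal A).map (algebraMap A (B ⧸ Ideal.span {y})) =
        (RingHom.ker π).map (Ideal.Quotient.mk (Ideal.span {y})) := by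
      rw [hker, Ideal.map_map]
      rfl
    rw [h1]
    ext z
    obtain ⟨b, rfl⟩ := Ideal.Quotient.mk_surjective z
    rw [RingHom.mem_ker, hπ'mk, Ideal.Quotient.eq_zero_iff_mem, Ideal.mem_span_singleton']
    constructor
    · rintro ⟨c', hc'⟩
      obtain ⟨c, rfl⟩ := hπ c'
      have h2 : b - c * y ∈ RingHom.ker π := by
        rw [RingHom.mem_ker, map_sub, map_mul, hc', sub_self]
      have h3 : Ideal.Quotient.mk (Ideal.span {y}) b =
          Ideal.Quotient.mk (Ideal.span {y}) (b - c * y) := by
        rw [map_sub, map_mul]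
        have : Ideal.Quotient.mk (Ideal.span {y}) y = 0 :=
          Ideal.Quotient.eq_zero_iff_mem.mpr (Ideal.subset_span rfl)
        rw [this, mul_zero, sub_zero]
      rw [h3]
      exact Ideal.mem_map_of_mem _ h2
    · intro h
      rw [Ideal.mem_map_iff_of_surjective _ Ideal.Quotient.mk_surjective] at h
      obtain ⟨b', hb', hbb'⟩ := h
      have h2 : b - b' ∈ Ideal.span {y} := by
        rw [← Ideal.Quotient.eq_zero_iff_mem, map_sub, hbb', sub_self]
      obtain ⟨c, hc⟩ := Ideal.mem_span_singleton'.mp h2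
      refine ⟨π c, ?_⟩
      rw [← map_mul, hc, map_sub, RingHom.mem_ker.mp hb', sub_zero]
  have hdim : ringKrullDim (B ⧸ Ideal.span {y}) + 1 ≤ ringKrullDim B :=
    ringKrullDim_quotient_succ_le_of_nonZeroDivisor (mem_nzd hregB)
  have key := IH A (B ⧸ Ideal.span {y}) (F ⧸ Ideal.span {π y}) π' hπ' hker' hdim
  have hB := Groth.Agent.S0343.result B y hy hregB
  have hF := Groth.Agent.S0343.result F (π y) hπy hreg
  rw [hB, hF]
  exact key

omit [IsLocalRing B] [IsLocalRing F] [IsNoetherianRing A] [IsNoetherianRing B]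
  [IsLocalHom (algebraMap A B)] [Module.Flat A B] [IsLocalRing A] [Algebra A B] in
lemma isArtinianRing_of_dim_zero [IsNoetherianRing B] (h : ringKrullDim B = 0) :
    IsArtinianRing B := by
  rw [isArtinianRing_iff_krullDimLE_zero, Ring.krullDimLE_iff, h]
  rfl

lemma withBot_add_eq_zero {a b : WithBot ℕ∞} (ha : 0 ≤ a) (hb : 0 ≤ b) (h : a + b = 0) :
    a = 0 ∧ b = 0 := by
  have ha' : a ≠ ⊥ := fun h0 => by rw [h0] at ha; exact absurd ha (by simp)
  have hb' : b ≠ ⊥ := fun h0 => by rw [h0] at hb; exact absurd hb (by simp)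
  obtain ⟨a', rfl⟩ := WithBot.ne_bot_iff_exists.mp ha'
  obtain ⟨b', rfl⟩ := WithBot.ne_bot_iff_exists.mp hb'
  have h' : a' + b' = 0 := by exact_mod_cast h
  obtain ⟨h1, h2⟩ := add_eq_zero.mp h'
  exact ⟨by rw [h1]; rfl, by rw [h2]; rfl⟩

include hπ hker in
/-- Case 3: no regular elements left; everything is Artinian. -/
theorem artinian_case (h1 : ¬ ∃ x ∈ maximalIdeal A, IsSMulRegular A x)
    (h2 : ¬ ∃ y ∈ maximalIdeal B, IsSMulRegular F (π y)) :
    LocCoh.IsGorensteinLocalRing B ↔
      (LocCoh.IsGorensteinLocalRing A ∧ LocCoh.IsGorensteinLocalRing F) := by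
  haveI : IsNoetherianRing F := isNoetherianRing_of_surjective B F π hπ
  have one_le : ∀ d : ℕ∞, d ≠ 0 → 1 ≤ d := fun d hd => Order.one_le_iff_pos.mpr (pos_iff_ne_zero.mpr hd)
  have hdA : LocCoh.depth A A = 0 := by
    by_contra h
    exact h1 (DepthFlat33.exists_regular_of_one_le_depth A (one_le _ h))
  have hI : ((maximalIdeal A).map (algebraMap A B) • ⊤ : Submodule B B) =
      (maximalIdeal A).map (algebraMap A B) := by simp
  haveI hnt : Nontrivial (B ⧸ ((maximalIdeal A).map (algebraMap A B) • ⊤ : Submodule B B)) := by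
    rw [Submodule.Quotient.nontrivial_iff, hI]
    exact SkFlat33.map_maximalIdeal_ne_top
  have hdF : LocCoh.depth B
      (B ⧸ ((maximalIdeal A).map (algebraMap A B) • ⊤ : Submodule B B)) = 0 := by
    by_contra h
    obtain ⟨y, hy, hyreg⟩ := DepthFlat33.exists_regular_of_one_le_depth _ (one_le _ h)
    exact h2 ⟨y, hy, (isSMulRegular_fibre_iff π hπ hker y).mp hyreg⟩
  have hdB : LocCoh.depth B B = 0 := by
    rw [SkFlat33.depth_eq_add (A := A), hdA, hdF, add_zero]
  have hdFF : LocCoh.depth F F = 0 := by
    by_contra h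
    obtain ⟨z, hz, hzreg⟩ := DepthFlat33.exists_regular_of_one_le_depth F (one_le _ h)
    obtain ⟨y, rfl⟩ := hπ z
    exact h2 ⟨y, (map_mem_maximalIdeal_iff π hπ y).mp hz, hzreg⟩
  have hdimF : ringKrullDim (B ⧸ (maximalIdeal A).map (algebraMap A B)) = ringKrullDim F := by
    rw [← hker]
    exact ringKrullDim_eq_of_ringEquiv (RingHom.quotientKerEquivOfSurjective hπ)
  haveI := SkFlat33.nontrivial_fibre (A := A) (B := B)
  have key : (LocCoh.IsGorensteinLocalRing B ∨
      (LocCoh.IsGorensteinLocalRing A ∧ LocCoh.IsGorensteinLocalRing F)) →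
      IsArtinianRing A ∧ IsArtinianRing B := by
    intro h
    have hadd := SkFlat33.ringKrullDim_eq_add (A := A) (B := B)
    have hdimB : ringKrullDim B = 0 := by
      rcases h with hB | ⟨hA, hF⟩
      · obtain ⟨d, hd, hdep, -⟩ := H29Gorenstein.gorenstein_invariants B
        rw [hdB] at hdep
        have hd0 : d = 0 := by exact_mod_cast hdep.symm
        rw [hd, hd0]; rfl
      · obtain ⟨d, hd, hdep, -⟩ := H29Gorenstein.gorenstein_invariants A
        rw [hdA] at hdep
        have hd0 : d = 0 := by exact_mod_cast hdep.symm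
        obtain ⟨e, he, hdepF, -⟩ := H29Gorenstein.gorenstein_invariants F
        rw [hdFF] at hdepF
        have he0 : e = 0 := by exact_mod_cast hdepF.symm
        rw [hadd, hdimF, hd, he, hd0, he0]
        rfl
    rw [hdimB] at hadd
    obtain ⟨hA0, -⟩ := withBot_add_eq_zero ringKrullDim_nonneg_of_nontrivial
      ringKrullDim_nonneg_of_nontrivial hadd.symm
    exact ⟨isArtinianRing_of_dim_zero hA0, isArtinianRing_of_dim_zero hdimB⟩
  constructor
  · intro hB
    obtain ⟨hA', hB'⟩ := key (Or.inl hB)
    exact (gorenstein_iff_of_artinian π hπ hker).mp hB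
  · intro h
    obtain ⟨hA', hB'⟩ := key (Or.inr h)
    exact (gorenstein_iff_of_artinian π hπ hker).mpr h

end Reduce

/-- The theorem, by strong induction on `dim B`. -/
theorem gorenstein_iff_aux (n : ℕ) :
    ∀ (A B F : Type u) [CommRing A] [CommRing B] [CommRing F] [IsLocalRing A]
      [IsLocalRing B] [IsLocalRing F] [IsNoetherianRing A] [IsNoetherianRing B] [Algebra A B]
      [IsLocalHom (algebraMap A B)] [Module.Flat A B] (π : B →+* F)
      (_ : Function.Surjective π)
      (_ : RingHom.ker π = (maximalIdeal A).map (algebraMap A B)),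
      ringKrullDim B = (n : WithBot ℕ∞) →
        (LocCoh.IsGorensteinLocalRing B ↔
          (LocCoh.IsGorensteinLocalRing A ∧ LocCoh.IsGorensteinLocalRing F)) := by
  induction n using Nat.strong_induction_on with
  | _ n ih =>
    intro A B F _ _ _ _ _ _ _ _ _ _ _ π hπ hker hn
    have IH : IHyp.{u} (ringKrullDim B) := by
      intro A' B' F' _ _ _ _ _ _ _ _ _ _ _ π' hπ' hker' hdim
      obtain ⟨d', hd'⟩ := H29Gorenstein.exists_ringKrullDim_eq_natCast B'
      rw [hd', hn] at hdim
      have hlt : d' + 1 ≤ n := by exact_mod_cast hdim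
      exact ih d' (by omega) A' B' F' π' hπ' hker' hd'
    by_cases h1 : ∃ x ∈ maximalIdeal A, IsSMulRegular A x
    · obtain ⟨x, hx, hreg⟩ := h1
      exact reduce_base π hπ hker x hx hreg IH
    by_cases h2 : ∃ y ∈ maximalIdeal B, IsSMulRegular F (π y)
    · obtain ⟨y, hy, hreg⟩ := h2
      exact reduce_fibre π hπ hker y hy hreg IH
    exact artinian_case π hπ hker h1 h2

/-- **Gorenstein and flat local homomorphisms** (general closed fibre `π : B ↠ F`,
`ker π = 𝔪_A B`): `B` is Gorenstein iff `A` and `F` are. -/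
theorem gorenstein_iff_of_surjective {A B F : Type u} [CommRing A] [CommRing B] [CommRing F]
    [IsLocalRing A] [IsLocalRing B] [IsLocalRing F] [IsNoetherianRing A] [IsNoetherianRing B]
    [Algebra A B] [IsLocalHom (algebraMap A B)] [Module.Flat A B] (π : B →+* F)
    (hπ : Function.Surjective π)
    (hker : RingHom.ker π = (maximalIdeal A).map (algebraMap A B)) :
    LocCoh.IsGorensteinLocalRing B ↔
      (LocCoh.IsGorensteinLocalRing A ∧ LocCoh.IsGorensteinLocalRing F) := by
  obtain ⟨n, hn⟩ := H29Gorenstein.exists_ringKrullDim_eq_natCast B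
  exact gorenstein_iff_aux n A B F π hπ hker hn

/-- **Gorenstein and flat local homomorphisms** (S0344). -/
theorem gorenstein_flat_local_iff (A : Type u) [CommRing A] [IsLocalRing A] [IsNoetherianRing A]
    (B : Type u) [CommRing B] [IsLocalRing B] [IsNoetherianRing B] [Algebra A B]
    [IsLocalHom (algebraMap A B)] [Module.Flat A B] :
    LocCoh.IsGorensteinLocalRing B ↔ (LocCoh.IsGorensteinLocalRing A ∧
      LocCoh.IsGorensteinLocalRing (B ⧸ (maximalIdeal A).map (algebraMap A B))) := by
  haveI : IsLocalRing (B ⧸ (maximalIdeal A).map (algebraMap A B)) :=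
    CMComp33.isLocalRing_quotient _ SkFlat33.map_maximalIdeal_ne_top
  exact gorenstein_iff_of_surjective (Ideal.Quotient.mk _) Ideal.Quotient.mk_surjective
    Ideal.mk_ker

end Groth.Agent.Lib.H14GorFlat
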