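import Groth.Agent.Lib.H14GorFlat
import Groth.Agent.Lib.H56SkFibre
import Groth.Agent.S0342
import Groth.Agent.Lib.CMAscent33
import Mathlib

/-!
# Gorenstein rings: transfer, fibres, ascent/descent along flat maps (helper14)

Mirrors helper33's `CMHom33`/`CMAscent33` for the Gorenstein property, using S0344
(`H14GorFlat.gorenstein_flat_local_iff`).
* `isGorensteinLocalRing_of_ringEquiv`, `isGorensteinRing_of_ringEquiv`;
* `gorenstein_localization_iff_fiber`: `R → S` flat Noetherian, `Q` prime of `κ(p) ⊗ S` with
  contraction `r`: `S_r` Gorenstein ↔ `R_p` and `(κ(p) ⊗ S)_Q` Gorenstein;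
* `isGorensteinRing_of_flat_of_fibre` (ascent), `isGorensteinRing_fiber_of_isGorensteinRing`;
* `isGorensteinRing_of_isRegularRing`, `isGorensteinRing_of_field`,
  `isGorensteinRing_of_isLocalization`, `isGorensteinRing_of_isGorensteinLocalRing`,
  `isGorensteinLocalRing_of_isGorensteinRing`, `isGorensteinRing_mvPolynomial`,
  `isGorensteinRing_polynomial`;
* `isGorensteinLocalRing_quotient_ofList`: quotient by a regular sequence.
-/

set_option autoImplicit false
set_option linter.style.haveILetI false
set_option linter.unusedSectionVars false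
universe u
open CategoryTheory IsLocalRing TensorProduct

namespace Groth.Agent.Lib.H14GorHom

open Groth.Agent.Lib

attribute [local instance] RingHomInvPair.of_ringEquiv in
/-- Gorenstein local rings are invariant under ring isomorphisms. -/
theorem isGorensteinLocalRing_of_ringEquiv {R R' : Type u} [CommRing R] [CommRing R']
    (e : R ≃+* R') (h : LocCoh.IsGorensteinLocalRing R) : LocCoh.IsGorensteinLocalRing R' := by
  haveI : IsLocalRing R' := e.isLocalRing
  haveI : IsNoetherianRing R' := isNoetherianRing_of_ringEquiv R e
  obtain ⟨n, hn⟩ := h.exists_hasInjectiveDimensionLT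
  have h1 : HasInjectiveDimensionLE (ModuleCat.of R R) n :=
    hasInjectiveDimensionLT_of_ge _ n (n + 1) (Nat.le_succ n)
  let es : (ModuleCat.of R R) ≃ₛₗ[RingHomClass.toRingHom e] (ModuleCat.of R' R') :=
    { toFun := e
      map_add' := map_add e
      map_smul' := fun r x => by simp
      invFun := e.symm
      left_inv := e.symm_apply_apply
      right_inv := e.apply_symm_apply }
  have h2 := (ModuleCat.hasInjectiveDimensionLE_iff_of_semiLinearEquiv e es n).mp h1
  exact { exists_hasInjectiveDimensionLT := ⟨n + 1, h2⟩ }

theorem isGorensteinLocalRing_iff_of_ringEquiv {R R' : Type u} [CommRing R] [CommRing R']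
    (e : R ≃+* R') : LocCoh.IsGorensteinLocalRing R ↔ LocCoh.IsGorensteinLocalRing R' :=
  ⟨isGorensteinLocalRing_of_ringEquiv e, isGorensteinLocalRing_of_ringEquiv e.symm⟩

section Fibre

variable {R S : Type u} [CommRing R] [CommRing S] [Algebra R S] [Module.Flat R S]
  [IsNoetherianRing R] [IsNoetherianRing S]

/-- For a flat map `R → S` of Noetherian rings, a prime `p` of `R` and a prime `Q` of the fibre ring
`κ(p) ⊗ S` with contraction `r` to `S`: `S_r` is Gorenstein iff `R_p` and the local ring of the
fibre at `Q` are Gorenstein. -/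
theorem gorenstein_localization_iff_fiber (p : Ideal R) [p.IsPrime] (Q : Ideal (p.Fiber S))
    [Q.IsPrime] :
    LocCoh.IsGorensteinLocalRing (Localization.AtPrime (Q.comap
      (Algebra.TensorProduct.includeRight (R := R) (A := p.ResidueField) (B := S)))) ↔
    (LocCoh.IsGorensteinLocalRing (Localization.AtPrime p) ∧
      LocCoh.IsGorensteinLocalRing (Localization.AtPrime Q)) := by
  set r := Q.comap (Algebra.TensorProduct.includeRight (R := R) (A := p.ResidueField) (B := S))
    with hr
  let : Algebra (Localization.AtPrime p) (Localization.AtPrime r) :=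
    Localization.AtPrime.algebraOfLiesOver p r
  have hloc : IsLocalHom (algebraMap (Localization.AtPrime p) (Localization.AtPrime r)) :=
    Localization.isLocalHom_localRingHom _ _ _ Ideal.LiesOver.over
  let e := Ideal.Fiber.algEquivAux₂ p Q
  have hI : (p.map (algebraMap R S)).map (algebraMap S (Localization.AtPrime r)) =
      (maximalIdeal (Localization.AtPrime p)).map
        (algebraMap (Localization.AtPrime p) (Localization.AtPrime r)) := by
    rw [← Localization.AtPrime.map_eq_maximalIdeal, Ideal.map_map, Ideal.map_map]
    congr 1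
    rw [← IsScalarTower.algebraMap_eq, ← IsScalarTower.algebraMap_eq]
  have hflat : Module.Flat (Localization.AtPrime p) (Localization.AtPrime r) := inferInstance
  rw [H14GorFlat.gorenstein_flat_local_iff (Localization.AtPrime p) (Localization.AtPrime r)]
  exact and_congr_right' (isGorensteinLocalRing_iff_of_ringEquiv
    (e.toRingEquiv.trans (Ideal.quotEquivOfEq hI))).symm

theorem gorenstein_localization_iff_fiber' (p : Ideal R) [p.IsPrime] (Q : Ideal (p.Fiber S))
    [Q.IsPrime] (q : Ideal S) [q.IsPrime]
    (hq : Q.comap (Algebra.TensorProduct.includeRight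
      (R := R) (A := p.ResidueField) (B := S)) = q) :
    LocCoh.IsGorensteinLocalRing (Localization.AtPrime q) ↔
    (LocCoh.IsGorensteinLocalRing (Localization.AtPrime p) ∧
      LocCoh.IsGorensteinLocalRing (Localization.AtPrime Q)) := by
  subst hq
  exact gorenstein_localization_iff_fiber p Q

/-- **Gorenstein ascent**: flat `R → S` of Noetherian rings, `R` Gorenstein and all fibre rings
Gorenstein ⇒ `S` Gorenstein. -/
theorem isGorensteinRing_of_flat_of_fibre (hR : LocCoh.IsGorensteinRing R)
    (hfib : ∀ (p : Ideal R) [p.IsPrime], LocCoh.IsGorensteinRing (p.Fiber S)) :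
    LocCoh.IsGorensteinRing S := by
  refine ⟨fun q hq => ?_⟩
  obtain ⟨Q, hQ, hQq⟩ := H56SkFibre.exists_fiber_prime (q.under R) q
  rw [gorenstein_localization_iff_fiber' (q.under R) Q q hQq]
  exact ⟨hR.isGorensteinLocalRing_localization _,
    (hfib (q.under R)).isGorensteinLocalRing_localization Q⟩

/-- **Gorenstein descent to fibres**: flat `R → S` of Noetherian rings with `S` Gorenstein has
Gorenstein fibre rings (as soon as they are Noetherian). -/
theorem isGorensteinRing_fiber_of_isGorensteinRing (hS : LocCoh.IsGorensteinRing S)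
    (p : Ideal R) [p.IsPrime] [IsNoetherianRing (p.Fiber S)] :
    LocCoh.IsGorensteinRing (p.Fiber S) := by
  refine ⟨fun Q hQ => ?_⟩
  exact ((gorenstein_localization_iff_fiber p Q).mp
    (hS.isGorensteinLocalRing_localization _)).2

end Fibre

section Ring

/-- Gorenstein rings are invariant under ring isomorphisms. -/
theorem isGorensteinRing_of_ringEquiv {R R' : Type u} [CommRing R] [CommRing R'] (e : R ≃+* R')
    (h : LocCoh.IsGorensteinRing R) : LocCoh.IsGorensteinRing R' := by
  have hN : IsNoetherianRing R' := isNoetherianRing_of_ringEquiv R e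
  refine { hN with isGorensteinLocalRing_localization := ?_ }
  intro p hp
  have hq : (p.comap e).IsPrime := Ideal.comap_isPrime _ _
  let e' : Localization.AtPrime (p.comap e) ≃+* Localization.AtPrime p :=
    IsLocalization.ringEquivOfRingEquiv
      (Localization.AtPrime (p.comap e)) (Localization.AtPrime p) e
      (e.map_primeCompl_comap_eq p)
  exact isGorensteinLocalRing_of_ringEquiv e' (h.isGorensteinLocalRing_localization (p.comap e))

/-- A regular ring is Gorenstein. -/
theorem isGorensteinRing_of_isRegularRing (R : Type u) [CommRing R] [IsRegularRing R] :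
    LocCoh.IsGorensteinRing R :=
  ⟨fun p _ => Groth.Agent.S0342.result (Localization.AtPrime p)⟩

/-- A field is a Gorenstein ring. -/
theorem isGorensteinRing_of_field (K : Type u) [Field K] : LocCoh.IsGorensteinRing K :=
  isGorensteinRing_of_isRegularRing K

/-- Localizations of Gorenstein rings are Gorenstein. -/
theorem isGorensteinRing_of_isLocalization {R : Type u} [CommRing R] (M : Submonoid R)
    (S : Type u) [CommRing S] [Algebra R S] [IsLocalization M S]
    (hR : LocCoh.IsGorensteinRing R) : LocCoh.IsGorensteinRing S := by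
  have hN : IsNoetherianRing R := inferInstance
  have : IsNoetherianRing S := IsLocalization.isNoetherianRing M S hN
  refine ⟨fun q hq => ?_⟩
  have hp : (q.comap (algebraMap R S)).IsPrime := Ideal.IsPrime.comap _
  have : IsLocalization.AtPrime (Localization.AtPrime q) (q.comap (algebraMap R S)) :=
    IsLocalization.isLocalization_isLocalization_atPrime_isLocalization M (Localization.AtPrime q) q
  have e : Localization.AtPrime (q.comap (algebraMap R S)) ≃ₐ[R] Localization.AtPrime q :=
    IsLocalization.algEquiv (q.comap (algebraMap R S)).primeCompl _ _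
  exact isGorensteinLocalRing_of_ringEquiv e.toRingEquiv
    (hR.isGorensteinLocalRing_localization (q.comap (algebraMap R S)))

/-- A Gorenstein local ring is a Gorenstein ring. -/
theorem isGorensteinRing_of_isGorensteinLocalRing (R : Type u) [CommRing R]
    (h : LocCoh.IsGorensteinLocalRing R) : LocCoh.IsGorensteinRing R := by
  haveI := h
  refine ⟨fun q hq => ?_⟩
  obtain ⟨n, hn⟩ := h.exists_hasInjectiveDimensionLT
  exact { exists_hasInjectiveDimensionLT := ⟨n + 1,
    H29Gorenstein.hasInjectiveDimensionLT_localization R q n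
      (hasInjectiveDimensionLT_of_ge _ n (n + 1) (Nat.le_succ n))⟩ }

/-- A local ring which is a Gorenstein ring is a Gorenstein local ring. -/
theorem isGorensteinLocalRing_of_isGorensteinRing (R : Type u) [CommRing R] [IsLocalRing R]
    (h : LocCoh.IsGorensteinRing R) : LocCoh.IsGorensteinLocalRing R := by
  have hle : (maximalIdeal R).primeCompl ≤ IsUnit.submonoid R := by
    intro x hx
    exact (IsLocalRing.notMem_maximalIdeal.mp hx)
  have e : R ≃ₐ[R] Localization.AtPrime (maximalIdeal R) :=
    IsLocalization.atUnits R (maximalIdeal R).primeCompl hle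
  exact isGorensteinLocalRing_of_ringEquiv e.symm.toRingEquiv
    (h.isGorensteinLocalRing_localization (maximalIdeal R))

/-- Polynomial rings in finitely many variables over a Gorenstein ring are Gorenstein. -/
theorem isGorensteinRing_mvPolynomial (R : Type u) [CommRing R]
    (hR : LocCoh.IsGorensteinRing R) (σ : Type u) [Finite σ] :
    LocCoh.IsGorensteinRing (MvPolynomial σ R) := by
  have hN : IsNoetherianRing R := inferInstance
  apply isGorensteinRing_of_flat_of_fibre (R := R) hR
  intro p _
  let e : p.ResidueField ⊗[R] MvPolynomial σ R ≃ₐ[p.ResidueField] MvPolynomial σ p.ResidueField :=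
    MvPolynomial.algebraTensorAlgEquiv R p.ResidueField
  have h1 : LocCoh.IsGorensteinRing (MvPolynomial σ p.ResidueField) :=
    isGorensteinRing_of_isRegularRing (MvPolynomial σ p.ResidueField)
  exact isGorensteinRing_of_ringEquiv e.symm.toRingEquiv h1

/-- The polynomial ring over a Gorenstein ring is Gorenstein. -/
theorem isGorensteinRing_polynomial (R : Type u) [CommRing R]
    (hR : LocCoh.IsGorensteinRing R) : LocCoh.IsGorensteinRing (Polynomial R) := by
  have := isGorensteinRing_mvPolynomial R hR PUnit.{u+1}
  exact isGorensteinRing_of_ringEquiv (MvPolynomial.uniqueAlgEquiv R PUnit.{u+1}).toRingEquiv this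

end Ring

section Quot

open RingTheory.Sequence Pointwise

/-- The quotient of a Gorenstein local ring by a regular sequence in the maximal ideal is
Gorenstein. -/
theorem isGorensteinLocalRing_quotient_ofList : ∀ (n : ℕ) (R : Type u) [CommRing R]
    [IsLocalRing R] [IsNoetherianRing R] (l : List R), l.length = n →
    LocCoh.IsGorensteinLocalRing R → IsWeaklyRegular R l → (∀ x ∈ l, x ∈ maximalIdeal R) →
    LocCoh.IsGorensteinLocalRing (R ⧸ Ideal.ofList l) := by
  intro n
  induction n with
  | zero =>
    intro R _ _ _ l hl hG _ _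
    rw [List.length_eq_zero_iff] at hl
    subst hl
    have h0 : Ideal.ofList ([] : List R) = ⊥ := Ideal.ofList_nil
    exact isGorensteinLocalRing_of_ringEquiv
      ((RingEquiv.quotientBot R).symm.trans (Ideal.quotEquivOfEq h0.symm)) hG
  | succ n ih =>
    intro R _ _ _ l hl hG hreg hmem
    obtain ⟨x, l', rfl⟩ := List.exists_cons_of_length_eq_add_one hl
    have hl' : l'.length = n := by simpa using hl
    obtain ⟨h1, h2⟩ := (isWeaklyRegular_cons_iff R x l').mp hreg
    have hx : x ∈ maximalIdeal R := hmem x List.mem_cons_self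
    have hJ : Ideal.span {x} ≤ maximalIdeal R := by
      rw [Ideal.span_le]; intro z hz; rw [Set.mem_singleton_iff] at hz; rw [hz]; exact hx
    haveI : IsLocalRing (R ⧸ Ideal.span {x}) :=
      CMComp33.isLocalRing_quotient _ (fun h => (maximalIdeal.isMaximal R).ne_top
        (top_le_iff.mp (h ▸ hJ)))
    have hG' : LocCoh.IsGorensteinLocalRing (R ⧸ Ideal.span {x}) :=
      (Groth.Agent.S0343.result R x hx h1).mp hG
    have hJeq : (x • (⊤ : Submodule R R)) = Ideal.span {x} := by
      rw [← Submodule.ideal_span_singleton_smul x ⊤]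
      simp
    have h3 : IsWeaklyRegular (R ⧸ Ideal.span {x}) l' :=
      ((Submodule.quotEquivOfEq _ _ hJeq).isWeaklyRegular_congr l').mp h2
    have h4 : IsWeaklyRegular (R ⧸ Ideal.span {x})
        (l'.map (Ideal.Quotient.mk (Ideal.span {x}))) :=
      (isWeaklyRegular_map_algebraMap_iff (R ⧸ Ideal.span {x}) (R ⧸ Ideal.span {x}) l').mpr h3
    have hmem' : ∀ y ∈ l'.map (Ideal.Quotient.mk (Ideal.span {x})),
        y ∈ maximalIdeal (R ⧸ Ideal.span {x}) := by
      intro y hy
      obtain ⟨z, hz, rfl⟩ := List.mem_map.mp hy
      have hzm : z ∈ maximalIdeal R := hmem z (List.mem_cons_of_mem _ hz)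
      haveI : IsLocalHom (Ideal.Quotient.mk (Ideal.span {x})) :=
        IsLocalHom.of_surjective _ Ideal.Quotient.mk_surjective
      rw [mem_maximalIdeal, mem_nonunits_iff] at hzm ⊢
      exact fun hu => hzm ((isUnit_map_iff (Ideal.Quotient.mk (Ideal.span {x})) z).mp hu)
    have h5 := ih (R ⧸ Ideal.span {x}) (l'.map (Ideal.Quotient.mk (Ideal.span {x})))
      (by rw [List.length_map, hl']) hG' h4 hmem'
    have e1 : Ideal.ofList (l'.map (Ideal.Quotient.mk (Ideal.span {x}))) =
        (Ideal.ofList l').map (Ideal.Quotient.mk (Ideal.span {x})) := (Ideal.map_ofList _ _).symm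
    have e2 : Ideal.span {x} ⊔ Ideal.ofList l' = Ideal.ofList (x :: l') :=
      (Ideal.ofList_cons x l').symm
    exact isGorensteinLocalRing_of_ringEquiv
      (((Ideal.quotEquivOfEq e1).trans
        (DoubleQuot.quotQuotEquivQuotSup (Ideal.span {x}) (Ideal.ofList l'))).trans
        (Ideal.quotEquivOfEq e2)) h5

end Quot

end Groth.Agent.Lib.H14GorHom
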