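import Groth.Agent.Lib.CMBaseChange33b
import Groth.Agent.Lib.H14GorField
import Groth.Agent.Lib.H14GorHom
import Groth.Agent.Lib.H14GorFlat
import Mathlib

/-!
# Gorenstein morphisms and base change (helper83)

The Gorenstein analogue of `CMBaseChange33` (helper33), on top of the ring-level results of
helper14 (`H14GorFlat`, `H14GorHom`, `H14GorField`). For a cartesian square `X' = X ×_Y Y'` and a
point `x'` of `X'`:

* `gor_fibre_ascent`: if the residue field extension at `f' x'` is finitely generated, Gorenstein
  fibre of `f` at `g' x'` ⇒ Gorenstein fibre of `f'` at `x'`;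
* `gor_fibre_ascent_of_locallyOfFiniteType`: same for `f` locally of finite type, arbitrary base
  change;
* `gor_fibre_descent`: if the fibres of `f` are locally Noetherian, Gorenstein fibre of `f'` at `x'`
  ⇒ Gorenstein fibre of `f` at `g' x'`.
-/

set_option autoImplicit false
set_option linter.style.haveILetI false
universe u

open CategoryTheory CategoryTheory.Limits AlgebraicGeometry TensorProduct

namespace Groth.Agent.Lib.GorBaseChange83

open Groth.Agent.Lib Groth.Agent.Lib.H71GeomRedAt Groth.Agent.Lib.H30GeomNormalPt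
  Groth.Agent.Lib.CMBaseChange33

section Tensor

attribute [local instance] Curv2.stalkAlgebra

/-- If `𝒪_{X,x} ⊗[k] k'` is a Gorenstein ring then the local rings of `X_{k'}` over `x` are
Gorenstein. -/
theorem gor_of_tensor (k : Type u) [Field k] (X : Scheme.{u}) [X.Over (Spec (CommRingCat.of k))]
    (x : ↥X) (k' : Type u) [Field k'] [Algebra k k']
    (h3 : LocCoh.IsGorensteinRing (↥(X.presheaf.stalk x) ⊗[k] k'))
    (x' : ↥(Curv2.bc k X k')) (hx' : Curv2.bcFst k X k' x' = x) :
    LocCoh.IsGorensteinLocalRing ↥((Curv2.bc k X k').presheaf.stalk x') := by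
  obtain ⟨w, hw1, hw2⟩ := Scheme.Pullback.exists_preimage_pullback
    (f := X.fromSpecStalk x) (g := Curv2.bcFst k X k')
    (IsLocalRing.closedPoint (X.presheaf.stalk x)) x'
    (by rw [Scheme.fromSpecStalk_closedPoint, hx'])
  subst hw2
  let p : PrimeSpectrum (X.presheaf.stalk x ⊗[k] k') := (isoSpecTensor k X x k').hom w
  have := p.isPrime
  obtain ⟨eq⟩ := nonempty_stalk_equiv k X x k' w p.asIdeal rfl
  have := h3.isGorensteinLocalRing_localization p.asIdeal
  exact H14GorHom.isGorensteinLocalRing_of_ringEquiv eq.symm this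

end Tensor

section Transport

variable {X Y : Scheme.{u}} (f : X ⟶ Y)

/-- The local ring of a fibre at a point only depends on the image point in the source. -/
theorem gor_stalk_fiber_iff (x : X) (y : Y) (z : f.fiber y) (hz : f.fiberι y z = x) :
    LocCoh.IsGorensteinLocalRing ((f.fiber y).presheaf.stalk z) ↔
      LocCoh.IsGorensteinLocalRing ((f.fiber (f x)).presheaf.stalk (f.asFiber x)) := by
  have hy : f x = y := by
    have : f.fiberι y z ∈ f ⁻¹' {y} := by
      rw [← Scheme.Hom.range_fiberι]; exact ⟨z, rfl⟩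
    rw [hz] at this
    exact this
  subst hy
  have hzz : z = f.asFiber x :=
    (f.fiberι (f x)).isEmbedding.injective (hz.trans (f.fiberι_asFiber x).symm)
  subst hzz
  rfl

end Transport

section Ring

/-- A Gorenstein `k`-algebra stays Gorenstein after tensoring with a finitely generated field
extension. -/
theorem isGorensteinRing_tensor_of_essFiniteType' (k L R : Type u) [Field k] [Field L]
    [Algebra k L] [Algebra.EssFiniteType k L] [CommRing R] [Algebra k R]
    (hR : LocCoh.IsGorensteinRing R) : LocCoh.IsGorensteinRing (R ⊗[k] L) :=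
  H14GorHom.isGorensteinRing_of_ringEquiv (Algebra.TensorProduct.comm k L R).toRingEquiv
    (H14GorField.preservesGor_of_top_fg k L (IntermediateField.fg_top k L) R hR)

/-- A Gorenstein `k`-algebra essentially of finite type stays Gorenstein after an arbitrary field
extension. -/
theorem isGorensteinRing_tensor_of_essFiniteType_left (k R L : Type u) [Field k] [CommRing R]
    [Algebra k R] [Algebra.EssFiniteType k R] (hR : LocCoh.IsGorensteinRing R) [Field L]
    [Algebra k L] : LocCoh.IsGorensteinRing (R ⊗[k] L) := by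
  have hN : IsNoetherianRing R := inferInstance
  have hN1 : IsNoetherianRing (L ⊗[k] R) := Algebra.EssFiniteType.isNoetherianRing L _
  have hN2 : IsNoetherianRing (R ⊗[k] L) :=
    isNoetherianRing_of_ringEquiv _ (Algebra.TensorProduct.comm k L R).toRingEquiv
  apply H14GorHom.isGorensteinRing_of_flat_of_fibre (R := R) hR
  intro P _
  have : Algebra.EssFiniteType k P.ResidueField := Algebra.EssFiniteType.comp k R P.ResidueField
  have hL : LocCoh.IsGorensteinRing L := H14GorHom.isGorensteinRing_of_field L
  have h1 : LocCoh.IsGorensteinRing (P.ResidueField ⊗[k] L) :=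
    H14GorHom.isGorensteinRing_of_ringEquiv (Algebra.TensorProduct.comm k L P.ResidueField).toRingEquiv
      (isGorensteinRing_tensor_of_essFiniteType' k P.ResidueField L hL)
  exact H14GorHom.isGorensteinRing_of_ringEquiv
    (R := P.ResidueField ⊗[k] L) (R' := P.Fiber (R ⊗[k] L))
    (Algebra.TensorProduct.cancelBaseChange k R P.ResidueField P.ResidueField L).symm.toRingEquiv h1

/-- A Gorenstein local ring is a Gorenstein ring. -/
theorem isGorensteinRing_of_local (R : Type u) [CommRing R] (h : LocCoh.IsGorensteinLocalRing R) :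
    LocCoh.IsGorensteinRing R :=
  H14GorHom.isGorensteinRing_of_isGorensteinLocalRing R h

end Ring

section Square

variable {X Y X' Y' : Scheme.{u}} {f : X ⟶ Y} {f' : X' ⟶ Y'} {g' : X' ⟶ X} {g : Y' ⟶ Y}
  (hc : IsPullback g' f' f g)

include hc in
/-- **Ascent**: if the fibre of `f` is Gorenstein at `g' x'` and the residue field extension
at `f' x'` is finitely generated, the fibre of `f'` is Gorenstein at `x'`. -/
theorem gor_fibre_ascent (x' : X')
    (hess : (g.residueFieldMap (f' x')).hom.EssFiniteType)
    (h : LocCoh.IsGorensteinLocalRing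
      ((f.fiber (f (g' x'))).presheaf.stalk (f.asFiber (g' x')))) :
    LocCoh.IsGorensteinLocalRing ((f'.fiber (f' x')).presheaf.stalk (f'.asFiber x')) := by
  have h1 : LocCoh.IsGorensteinLocalRing
      ((f.fiber (g (f' x'))).presheaf.stalk (fibMap hc (f' x') (f'.asFiber x'))) :=
    (gor_stalk_fiber_iff f (g' x') (g (f' x')) _ (fibMap_asFiber hc x')).mpr h
  let _ : Algebra (Y.residueField (g (f' x'))) (Y'.residueField (f' x')) :=
    (g.residueFieldMap (f' x')).hom.toAlgebra
  let _ : (f.fiber (g (f' x'))).Over (Spec (CommRingCat.of (Y.residueField (g (f' x'))))) :=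
    ⟨f.fiberToSpecResidueField (g (f' x'))⟩
  have hE : Algebra.EssFiniteType (Y.residueField (g (f' x'))) (Y'.residueField (f' x')) := hess
  let E : f'.fiber (f' x') ≅ Curv2.bc (Y.residueField (g (f' x'))) (f.fiber (g (f' x')))
      (Y'.residueField (f' x')) := (isPullback_fibMap hc (f' x')).isoPullback
  have hEfst : E.hom ≫ Curv2.bcFst (Y.residueField (g (f' x'))) (f.fiber (g (f' x')))
      (Y'.residueField (f' x')) = fibMap hc (f' x') :=
    (isPullback_fibMap hc (f' x')).isoPullback_hom_fst
  have hR : LocCoh.IsGorensteinRing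
      ((f.fiber (g (f' x'))).presheaf.stalk (fibMap hc (f' x') (f'.asFiber x'))) :=
    isGorensteinRing_of_local _ h1
  let _ := Curv2.stalkAlgebra (Y.residueField (g (f' x'))) (f.fiber (g (f' x')))
    (fibMap hc (f' x') (f'.asFiber x'))
  have h3 := isGorensteinRing_tensor_of_essFiniteType'
    (Y.residueField (g (f' x'))) (Y'.residueField (f' x'))
    ((f.fiber (g (f' x'))).presheaf.stalk (fibMap hc (f' x') (f'.asFiber x'))) hR
  have h4 := gor_of_tensor (Y.residueField (g (f' x'))) (f.fiber (g (f' x')))
    (fibMap hc (f' x') (f'.asFiber x')) (Y'.residueField (f' x')) h3 (E.hom (f'.asFiber x'))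
    (congrArg (fun φ : f'.fiber (f' x') ⟶ f.fiber (g (f' x')) => φ (f'.asFiber x')) hEfst)
  exact H30StalkProd.Q_stalk_of_iso (fun R _ => LocCoh.IsGorensteinLocalRing R)
    (fun R R' _ _ e hR => H14GorHom.isGorensteinLocalRing_of_ringEquiv e hR) E _ h4

include hc in
/-- **Ascent for morphisms locally of finite type**: if `f` is locally of finite type and its fibre
is Gorenstein at `g' x'`, then the fibre of `f'` is Gorenstein at `x'` (arbitrary base change). -/
theorem gor_fibre_ascent_of_locallyOfFiniteType [LocallyOfFiniteType f] (x' : X')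
    (h : LocCoh.IsGorensteinLocalRing
      ((f.fiber (f (g' x'))).presheaf.stalk (f.asFiber (g' x')))) :
    LocCoh.IsGorensteinLocalRing ((f'.fiber (f' x')).presheaf.stalk (f'.asFiber x')) := by
  have h1 : LocCoh.IsGorensteinLocalRing
      ((f.fiber (g (f' x'))).presheaf.stalk (fibMap hc (f' x') (f'.asFiber x'))) :=
    (gor_stalk_fiber_iff f (g' x') (g (f' x')) _ (fibMap_asFiber hc x')).mpr h
  let _ : Algebra (Y.residueField (g (f' x'))) (Y'.residueField (f' x')) :=
    (g.residueFieldMap (f' x')).hom.toAlgebra
  let _ : (f.fiber (g (f' x'))).Over (Spec (CommRingCat.of (Y.residueField (g (f' x'))))) :=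
    ⟨f.fiberToSpecResidueField (g (f' x'))⟩
  have hlft : LocallyOfFiniteType (f.fiberToSpecResidueField (g (f' x'))) :=
    MorphismProperty.pullback_snd (P := @LocallyOfFiniteType) _ _ inferInstance
  have hlft' : LocallyOfFiniteType ((f.fiber (g (f' x'))) ↘
      Spec (CommRingCat.of (Y.residueField (g (f' x'))))) := hlft
  let E : f'.fiber (f' x') ≅ Curv2.bc (Y.residueField (g (f' x'))) (f.fiber (g (f' x')))
      (Y'.residueField (f' x')) := (isPullback_fibMap hc (f' x')).isoPullback
  have hEfst : E.hom ≫ Curv2.bcFst (Y.residueField (g (f' x'))) (f.fiber (g (f' x')))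
      (Y'.residueField (f' x')) = fibMap hc (f' x') :=
    (isPullback_fibMap hc (f' x')).isoPullback_hom_fst
  have hR : LocCoh.IsGorensteinRing
      ((f.fiber (g (f' x'))).presheaf.stalk (fibMap hc (f' x') (f'.asFiber x'))) :=
    isGorensteinRing_of_local _ h1
  let _ := Curv2.stalkAlgebra (Y.residueField (g (f' x'))) (f.fiber (g (f' x')))
    (fibMap hc (f' x') (f'.asFiber x'))
  have hess : Algebra.EssFiniteType (Y.residueField (g (f' x')))
      ((f.fiber (g (f' x'))).presheaf.stalk (fibMap hc (f' x') (f'.asFiber x'))) :=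
    essFiniteType_stalkMap (Y.residueField (g (f' x'))) (f.fiber (g (f' x')))
      (fibMap hc (f' x') (f'.asFiber x'))
  have h3 := isGorensteinRing_tensor_of_essFiniteType_left
    (Y.residueField (g (f' x')))
    ((f.fiber (g (f' x'))).presheaf.stalk (fibMap hc (f' x') (f'.asFiber x')))
    (Y'.residueField (f' x')) hR
  have h4 := gor_of_tensor (Y.residueField (g (f' x'))) (f.fiber (g (f' x')))
    (fibMap hc (f' x') (f'.asFiber x')) (Y'.residueField (f' x')) h3 (E.hom (f'.asFiber x'))
    (congrArg (fun φ : f'.fiber (f' x') ⟶ f.fiber (g (f' x')) => φ (f'.asFiber x')) hEfst)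
  exact H30StalkProd.Q_stalk_of_iso (fun R _ => LocCoh.IsGorensteinLocalRing R)
    (fun R R' _ _ e hR => H14GorHom.isGorensteinLocalRing_of_ringEquiv e hR) E _ h4

include hc in
/-- **Descent**: if the fibres of `f` are locally Noetherian and the fibre of `f'` is Gorenstein
at `x'`, then the fibre of `f` is Gorenstein at `g' x'`. -/
theorem gor_fibre_descent (x' : X') (hN : IsLocallyNoetherian (f.fiber (g (f' x'))))
    (h : LocCoh.IsGorensteinLocalRing ((f'.fiber (f' x')).presheaf.stalk (f'.asFiber x'))) :
    LocCoh.IsGorensteinLocalRing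
      ((f.fiber (f (g' x'))).presheaf.stalk (f.asFiber (g' x'))) := by
  refine (gor_stalk_fiber_iff f (g' x') (g (f' x')) _ (fibMap_asFiber hc x')).mp ?_
  have hfl : Flat (Spec.map (g.residueFieldMap (f' x'))) := inferInstance
  have : Flat (fibMap hc (f' x')) :=
    MorphismProperty.of_isPullback (P := @Flat) (isPullback_fibMap hc (f' x')).flip hfl
  have hφ := Flat.stalkMap (fibMap hc (f' x')) (f'.asFiber x')
  haveI hNB : IsNoetherianRing ((f'.fiber (f' x')).presheaf.stalk (f'.asFiber x')) := inferInstance
  haveI hNA : IsNoetherianRing ((f.fiber (g (f' x'))).presheaf.stalk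
      (fibMap hc (f' x') (f'.asFiber x'))) := inferInstance
  letI : Algebra ((f.fiber (g (f' x'))).presheaf.stalk (fibMap hc (f' x') (f'.asFiber x')))
      ((f'.fiber (f' x')).presheaf.stalk (f'.asFiber x')) :=
    ((fibMap hc (f' x')).stalkMap (f'.asFiber x')).hom.toAlgebra
  haveI : IsLocalHom (algebraMap ((f.fiber (g (f' x'))).presheaf.stalk
      (fibMap hc (f' x') (f'.asFiber x'))) ((f'.fiber (f' x')).presheaf.stalk (f'.asFiber x'))) :=
    (inferInstance : IsLocalHom ((fibMap hc (f' x')).stalkMap (f'.asFiber x')).hom)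
  haveI : Module.Flat ((f.fiber (g (f' x'))).presheaf.stalk
      (fibMap hc (f' x') (f'.asFiber x'))) ((f'.fiber (f' x')).presheaf.stalk (f'.asFiber x')) := hφ
  exact ((H14GorFlat.gorenstein_flat_local_iff _ _).mp h).1

end Square

end Groth.Agent.Lib.GorBaseChange83
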