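/-
Helper library (helper26): finiteness / annihilators of local cohomology over a quotient of a
Gorenstein local ring, via local duality and the key lemma of `Lib/H26GorLoc`.
-/
import Mathlib.Tactic
import Groth.Agent.Lib.H26GorLoc
import Groth.Agent.Lib.H26TopLC
import Groth.Agent.Lib.H26FinExt
import Groth.Agent.Lib.H29ExtSupport
import Groth.Agent.S5170

set_option autoImplicit false
universe u
open CategoryTheory Abelian

namespace Groth.Agent.Lib.H26GorFin

section matlis
variable {A : Type u} [CommRing A] [IsLocalRing A] [IsNoetherianRing A]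
  {E : Type u} [AddCommGroup E] [Module A E]
  (f : IsLocalRing.ResidueField A →ₗ[A] E) (hf : InjHull.IsInjectiveHull f)

include hf in
/-- the Matlis dual has finite length iff the module has. -/
theorem isFiniteLength_dual_iff (T : Type u) [AddCommGroup T] [Module A T] :
    IsFiniteLength A (T →ₗ[A] E) ↔ IsFiniteLength A T := by
  have hforward : ∀ (T : Type u) [AddCommGroup T] [Module A T],
      IsFiniteLength A T → IsFiniteLength A (T →ₗ[A] E) := by
    intro T _ _ hT
    have h := Groth.Agent.S5170.result A E f hf T hT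
    rw [← Module.length_ne_top_iff] at hT ⊢
    rwa [h]
  refine ⟨fun h => ?_, hforward T⟩
  have h2 := hforward _ h
  refine IsFiniteLength.of_injective h2 (f := LinearMap.applyₗ (R := A) (M := T) (M₂ := E)) ?_
  rw [← LinearMap.ker_eq_bot, eq_bot_iff]
  intro t ht
  rw [LinearMap.mem_ker] at ht
  rw [Submodule.mem_bot]
  by_contra h0
  obtain ⟨φ, hφ⟩ := Groth.Agent.Lib.H29Matlis.exists_dual_ne_zero f hf t h0
  apply hφ
  have := LinearMap.congr_fun ht φ
  simpa using this

include hf in
/-- a scalar kills the Matlis dual iff it kills the module. -/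
theorem smul_dual_eq_zero_iff (s : A) (T : Type u) [AddCommGroup T] [Module A T] :
    (∀ φ : T →ₗ[A] E, s • φ = 0) ↔ (∀ t : T, s • t = 0) := by
  constructor
  · intro h t
    by_contra h0
    obtain ⟨φ, hφ⟩ := Groth.Agent.Lib.H29Matlis.exists_dual_ne_zero f hf (s • t) h0
    apply hφ
    rw [map_smul, ← LinearMap.smul_apply, h φ, LinearMap.zero_apply]
  · intro h φ
    refine LinearMap.ext fun t => ?_
    rw [LinearMap.smul_apply, ← map_smul, h t, map_zero, LinearMap.zero_apply]

end matlis

section support
variable {A : Type u} [CommRing A] [IsLocalRing A] [IsNoetherianRing A]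

/-- a module of finite length over a local ring is supported at the closed point. -/
theorem forall_prime_of_isFiniteLength (T : Type u) [AddCommGroup T] [Module A T]
    (hT : IsFiniteLength A T) (P : Ideal A) [P.IsPrime] (hP : P ≠ IsLocalRing.maximalIdeal A)
    (t : T) : ∃ s : A, s ∉ P ∧ s • t = 0 := by
  obtain ⟨a, ham, haP⟩ : ∃ a ∈ IsLocalRing.maximalIdeal A, a ∉ P := by
    by_contra hcon
    push_neg at hcon
    have hle : IsLocalRing.maximalIdeal A ≤ P := fun a ha => hcon a ha
    exact hP ((IsLocalRing.maximalIdeal.isMaximal A).eq_of_le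
      (Ideal.IsPrime.ne_top inferInstance) hle).symm
  induction hT with
  | of_subsingleton =>
    exact ⟨1, fun h => (Ideal.IsPrime.ne_top inferInstance) ((Ideal.eq_top_iff_one P).mpr h),
      Subsingleton.elim _ _⟩
  | @of_simple_quotient M _ _ N' _ hN' ih =>
    obtain ⟨I, hI, ⟨e⟩⟩ := isSimpleModule_iff_quot_maximal.mp
      (inferInstance : IsSimpleModule A (M ⧸ N'))
    have hIm : I = IsLocalRing.maximalIdeal A := IsLocalRing.eq_maximalIdeal hI
    subst hIm
    have hat : a • t ∈ N' := by
      rw [← Submodule.Quotient.mk_eq_zero, Submodule.Quotient.mk_smul]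
      apply e.injective
      rw [map_smul, map_zero]
      obtain ⟨b, hb⟩ := Submodule.Quotient.mk_surjective _ (e (Submodule.Quotient.mk t))
      rw [← hb, ← Submodule.Quotient.mk_smul, Submodule.Quotient.mk_eq_zero]
      exact Ideal.mul_mem_right b _ ham
    obtain ⟨s, hs, hst⟩ := ih ⟨a • t, hat⟩
    refine ⟨s * a, fun h => ?_, ?_⟩
    · rcases Ideal.IsPrime.mem_or_mem inferInstance h with h | h
      · exact hs h
      · exact haP h
    · rw [mul_smul]
      exact congrArg Subtype.val hst

/-- a finite module supported at the closed point has finite length. -/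
theorem isFiniteLength_of_forall_prime (T : Type u) [AddCommGroup T] [Module A T]
    [Module.Finite A T]
    (h : ∀ (P : Ideal A) [P.IsPrime], P ≠ IsLocalRing.maximalIdeal A →
      ∀ t : T, ∃ s : A, s ∉ P ∧ s • t = 0) : IsFiniteLength A T := by
  have hsupp : Module.support A T ⊆
      PrimeSpectrum.zeroLocus (IsLocalRing.maximalIdeal A : Set A) := by
    intro P hP
    by_contra hne
    have hPm : P.asIdeal ≠ IsLocalRing.maximalIdeal A := by
      intro heq
      apply hne
      rw [PrimeSpectrum.mem_zeroLocus, heq]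
    rw [Module.mem_support_iff] at hP
    apply not_subsingleton_iff_nontrivial.mpr hP
    rw [LocalizedModule.subsingleton_iff]
    intro t
    obtain ⟨s, hs, hst⟩ := h P.asIdeal hPm t
    exact ⟨s, hs, hst⟩
  obtain ⟨k, hk⟩ := Groth.Agent.Lib.H29ExtSupport.exists_pow_smul_eq_zero_of_support
    (IsLocalRing.maximalIdeal A) T hsupp
  apply Groth.Agent.Lib.H26TopLC.isFiniteLength_of_pow_smul k T
  rw [eq_bot_iff, Submodule.smul_le]
  intro b hb t _
  rw [Submodule.mem_bot]
  exact hk b hb t

/-- radical of the annihilator of a finite module and its support. -/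
theorem forall_pow_smul_iff_forall_prime (J : Ideal A) (T : Type u) [AddCommGroup T] [Module A T]
    [Module.Finite A T] :
    (∀ y ∈ J, ∃ k : ℕ, ∀ t : T, y ^ k • t = 0) ↔
      ∀ (P : Ideal A) [P.IsPrime], ¬ J ≤ P → ∀ t : T, ∃ s : A, s ∉ P ∧ s • t = 0 := by
  constructor
  · intro h P _ hJP t
    obtain ⟨y, hyJ, hyP⟩ := Set.not_subset.mp hJP
    obtain ⟨k, hk⟩ := h y hyJ
    exact ⟨y ^ k, fun hmem => hyP (Ideal.IsPrime.mem_of_pow_mem inferInstance k hmem), hk t⟩
  · intro h y hy
    have hsupp : Module.support A T ⊆ PrimeSpectrum.zeroLocus (J : Set A) := by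
      intro P hP
      by_contra hne
      rw [Module.mem_support_iff] at hP
      apply not_subsingleton_iff_nontrivial.mpr hP
      rw [LocalizedModule.subsingleton_iff]
      intro t
      obtain ⟨s, hs, hst⟩ := h P.asIdeal hne t
      exact ⟨s, hs, hst⟩
    rw [Module.support_eq_zeroLocus, PrimeSpectrum.zeroLocus_subset_zeroLocus_iff] at hsupp
    obtain ⟨k, hk⟩ := hsupp hy
    exact ⟨k, fun t => Module.mem_annihilator.mp hk t⟩

end support

/-- the dimension of a proper quotient of a Noetherian local ring is a natural number. -/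
theorem exists_nat_ringKrullDim_quotient {A : Type u} [CommRing A] [IsLocalRing A]
    [IsNoetherianRing A] (p : Ideal A) (hp : p ≠ ⊤) : ∃ e : ℕ, ringKrullDim (A ⧸ p) = e := by
  have hfin : ringKrullDim (A ⧸ p) < ⊤ :=
    lt_of_le_of_lt (ringKrullDim_quotient_le _) ringKrullDim_lt_top
  have hbot : ringKrullDim (A ⧸ p) ≠ ⊥ := by
    haveI : Nontrivial (A ⧸ p) := Ideal.Quotient.nontrivial_iff.mpr hp
    exact (lt_of_lt_of_le (WithBot.bot_lt_coe (0 : ℕ∞)) ringKrullDim_nonneg_of_nontrivial).ne'
  obtain ⟨d, hd⟩ := WithBot.ne_bot_iff_exists.mp hbot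
  rw [← hd] at hfin ⊢
  have hd' : d ≠ ⊤ := by
    intro h'
    rw [h'] at hfin
    exact lt_irrefl _ hfin
  obtain ⟨n, hn⟩ := ENat.ne_top_iff_exists.mp hd'
  exact ⟨n, by rw [← hn]; rfl⟩

section main
variable (S : Type u) [CommRing S] [LocCoh.IsGorensteinLocalRing S] (r : ℕ)
  (hr : ringKrullDim S = r) (R : Type u) [CommRing R] [IsLocalRing R] [IsNoetherianRing R]
  [Algebra S R] (hg : Function.Surjective (algebraMap S R))
  (M : Type u) [AddCommGroup M] [Module R M] [Module S M] [IsScalarTower S R M]
  [Module.Finite R M]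

include hr hg in
/-- local duality for a quotient `R` of a Gorenstein local ring `S`, as a semilinear additive
equivalence. -/
theorem exists_dual (q i : ℕ) (h : q + i = r) :
    ∃ (E : Type u) (_ : AddCommGroup E) (_ : Module S E)
      (f : IsLocalRing.ResidueField S →ₗ[S] E) (_ : InjHull.IsInjectiveHull f)
      (Φ : LocCoh.H (IsLocalRing.maximalIdeal R) i M ≃+
        (Ext.{u} (ModuleCat.of S M) (ModuleCat.of S S) q →ₗ[S] E)),
      ∀ (s : S) (x : LocCoh.H (IsLocalRing.maximalIdeal R) i M),
        Φ (algebraMap S R s • x) = s • Φ x := by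
  haveI : Module.Finite S R := Module.Finite.of_surjective (Algebra.linearMap S R) hg
  haveI : Module.Finite S M := Module.Finite.trans R M
  obtain ⟨E, _, _, f, hf, ⟨φ⟩⟩ := Groth.Agent.Lib.H26GorLoc.gor_duality S r hr M q i h
  obtain ⟨ψ, hψ⟩ := Groth.Agent.Lib.LocCohIndepBase.indep_base (R := S) (R' := R)
    (IsLocalRing.maximalIdeal S) i M
  have hmap : (IsLocalRing.maximalIdeal S).map (algebraMap S R) = IsLocalRing.maximalIdeal R :=
    IsLocalRing.map_maximalIdeal_of_surjective _ hg
  rw [← hmap]
  refine ⟨E, _, _, f, hf, ψ.trans φ.toAddEquiv, fun s x => ?_⟩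
  change φ (ψ (algebraMap S R s • x)) = s • φ (ψ x)
  rw [hψ, map_smul]

include hr hg in
/-- the support of `Ext^q_S(M, S)` in terms of local cohomology of the localizations of `M`. -/
theorem supp_iff (J : Ideal R) (q i : ℕ) (h : q + i = r) :
    (∀ (P : Ideal S) [P.IsPrime], ¬ J.comap (algebraMap S R) ≤ P →
        ∀ t : Ext.{u} (ModuleCat.of S M) (ModuleCat.of S S) q, ∃ s : S, s ∉ P ∧ s • t = 0) ↔
      (∀ (p : Ideal R) [p.IsPrime], ¬ J ≤ p → ∀ e j : ℕ, ringKrullDim (R ⧸ p) = e → j + e = i →
        Subsingleton (LocCoh.H (IsLocalRing.maximalIdeal (Localization.AtPrime p)) j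
          (LocalizedModule p.primeCompl M))) := by
  constructor
  · intro hS p _ hJp e j he hje
    have hP : ¬ J.comap (algebraMap S R) ≤ p.comap (algebraMap S R) := by
      intro hle
      apply hJp
      intro y hy
      obtain ⟨s, rfl⟩ := hg y
      exact hle hy
    have := (Groth.Agent.Lib.H26GorLoc.key S r hr R hg M p e he q).mp (fun x => by
        obtain ⟨s, hs, hx⟩ := hS (p.comap (algebraMap S R)) hP x
        exact ⟨s, hs, hx⟩)
    exact this j (by omega)
  · intro hR P _ hJP t
    by_cases hker : RingHom.ker (algebraMap S R) ≤ P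
    · haveI hPrime : (P.map (algebraMap S R)).IsPrime := Ideal.map_isPrime_of_surjective hg hker
      have hcomap : (P.map (algebraMap S R)).comap (algebraMap S R) = P := by
        rw [Ideal.comap_map_of_surjective _ hg]
        exact sup_eq_left.mpr hker
      have hJp : ¬ J ≤ P.map (algebraMap S R) := by
        intro hle
        apply hJP
        rw [← hcomap]
        exact Ideal.comap_mono hle
      obtain ⟨e, he⟩ := exists_nat_ringKrullDim_quotient (P.map (algebraMap S R))
        (Ideal.IsPrime.ne_top hPrime)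
      have hkey := (Groth.Agent.Lib.H26GorLoc.key S r hr R hg M (P.map (algebraMap S R)) e he q).mpr
        (fun j hj => hR (P.map (algebraMap S R)) hJp e j he (by omega))
      obtain ⟨s, hs, hst⟩ := hkey t
      exact ⟨s, fun hsP => hs (Ideal.mem_map_of_mem _ hsP), hst⟩
    · obtain ⟨y, hyker, hyP⟩ := Set.not_subset.mp hker
      refine ⟨y, hyP, ?_⟩
      exact Groth.Agent.Lib.H26FinExt.smul_ext_eq_zero_of_left M _ y (fun m => by
        rw [← algebraMap_smul R y m, (RingHom.mem_ker).mp hyker, zero_smul]) _ t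

omit [IsNoetherianRing R] [Module.Finite R M] in
include hg in
theorem comap_maximalIdeal : (IsLocalRing.maximalIdeal R).comap (algebraMap S R) =
    IsLocalRing.maximalIdeal S := by
  haveI : ((IsLocalRing.maximalIdeal R).comap (algebraMap S R)).IsMaximal :=
    Ideal.comap_isMaximal_of_surjective _ hg
  exact IsLocalRing.eq_maximalIdeal inferInstance

theorem not_maximalIdeal_le_iff {A : Type u} [CommRing A] [IsLocalRing A] (P : Ideal A)
    [P.IsPrime] : ¬ IsLocalRing.maximalIdeal A ≤ P ↔ P ≠ IsLocalRing.maximalIdeal A := by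
  constructor
  · intro h heq
    exact h heq.ge
  · intro h hle
    exact h ((IsLocalRing.maximalIdeal.isMaximal A).eq_of_le
      (Ideal.IsPrime.ne_top inferInstance) hle).symm

include hr hg in
/-- **Finiteness criterion** (SGA 2 V 3.x / VIII): for `R` a quotient of a Gorenstein local ring,
`H^i_m(M)` has finite length iff `H^{i - dim R/p}_{pR_p}(M_p) = 0` for all primes `p ≠ m`. -/
theorem isFiniteLength_H_iff (i : ℕ) :
    IsFiniteLength R (LocCoh.H (IsLocalRing.maximalIdeal R) i M) ↔
      ∀ (p : Ideal R) [p.IsPrime], p ≠ IsLocalRing.maximalIdeal R → ∀ e j : ℕ,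
        ringKrullDim (R ⧸ p) = e → j + e = i →
        Subsingleton (LocCoh.H (IsLocalRing.maximalIdeal (Localization.AtPrime p)) j
          (LocalizedModule p.primeCompl M)) := by
  haveI : Module.Finite S R := Module.Finite.of_surjective (Algebra.linearMap S R) hg
  haveI : Module.Finite S M := Module.Finite.trans R M
  by_cases hi : i ≤ r
  · obtain ⟨E, _, _, f, hf, Φ, hΦ⟩ := exists_dual S r hr R hg M (r - i) i (by omega)
    have h1 : IsFiniteLength R (LocCoh.H (IsLocalRing.maximalIdeal R) i M) ↔
        IsFiniteLength S (Ext.{u} (ModuleCat.of S M) (ModuleCat.of S S) (r - i) →ₗ[S] E) := by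
      letI : Module S (LocCoh.H (IsLocalRing.maximalIdeal R) i M) :=
        Module.compHom _ (algebraMap S R)
      haveI : IsScalarTower S R (LocCoh.H (IsLocalRing.maximalIdeal R) i M) :=
        IsScalarTower.of_algebraMap_smul (fun _ _ => rfl)
      let ΦL : LocCoh.H (IsLocalRing.maximalIdeal R) i M ≃ₗ[S]
          (Ext.{u} (ModuleCat.of S M) (ModuleCat.of S S) (r - i) →ₗ[S] E) :=
        { Φ with map_smul' := fun s x => hΦ s x }
      rw [← Module.length_ne_top_iff, ← Module.length_eq_of_surjective (S := S) hg,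
        Module.length_ne_top_iff]
      exact ⟨fun h => ΦL.isFiniteLength h, fun h => ΦL.symm.isFiniteLength h⟩
    haveI : Module.Finite S (Ext.{u} (ModuleCat.of S M) (ModuleCat.of S S) (r - i)) :=
      Groth.Agent.Lib.H26FinExt.finite_ext S (r - i) M
    have h3 : IsFiniteLength S (Ext.{u} (ModuleCat.of S M) (ModuleCat.of S S) (r - i)) ↔
        ∀ (P : Ideal S) [P.IsPrime], ¬ (IsLocalRing.maximalIdeal R).comap (algebraMap S R) ≤ P →
        ∀ t : Ext.{u} (ModuleCat.of S M) (ModuleCat.of S S) (r - i), ∃ s : S, s ∉ P ∧ s • t = 0 := by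
      rw [comap_maximalIdeal S R hg]
      constructor
      · intro h P _ hP t
        exact forall_prime_of_isFiniteLength _ h P ((not_maximalIdeal_le_iff P).mp hP) t
      · intro h
        exact isFiniteLength_of_forall_prime _
          (fun P _ hP t => h P ((not_maximalIdeal_le_iff P).mpr hP) t)
    rw [h1, isFiniteLength_dual_iff f hf, h3,
      supp_iff S r hr R hg M (IsLocalRing.maximalIdeal R) (r - i) i (by omega)]
    constructor
    · intro h p _ hp
      exact h p ((not_maximalIdeal_le_iff p).mpr hp)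
    · intro h p _ hp
      exact h p ((not_maximalIdeal_le_iff p).mp hp)
  · constructor
    · intro _ p _ hp e j he hje
      exact Groth.Agent.Lib.H26GorLoc.subsingleton_H_localization_of_gt S r hr R hg p e he j
        (by omega) _
    · intro _
      haveI : Subsingleton (LocCoh.H (IsLocalRing.maximalIdeal R) i M) :=
        (Groth.Agent.Lib.H26GorLoc.subsingleton_H_iff_of_surjective hg M i).mp
          (Groth.Agent.Lib.H26GorLoc.gor_subsingleton_H_of_gt S r hr M i (by omega))
      exact IsFiniteLength.of_subsingleton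

include hr hg in
/-- **Annihilator criterion**: for `R` a quotient of a Gorenstein local ring, `J ≤ √ann H^i_m(M)`
iff `H^{i - dim R/p}_{pR_p}(M_p) = 0` for all primes `p ⊉ J`. -/
theorem forall_pow_smul_H_iff (J : Ideal R) (i : ℕ) :
    (∀ y ∈ J, ∃ k : ℕ, ∀ x : LocCoh.H (IsLocalRing.maximalIdeal R) i M, y ^ k • x = 0) ↔
      ∀ (p : Ideal R) [p.IsPrime], ¬ J ≤ p → ∀ e j : ℕ,
        ringKrullDim (R ⧸ p) = e → j + e = i →
        Subsingleton (LocCoh.H (IsLocalRing.maximalIdeal (Localization.AtPrime p)) j
          (LocalizedModule p.primeCompl M)) := by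
  haveI : Module.Finite S R := Module.Finite.of_surjective (Algebra.linearMap S R) hg
  haveI : Module.Finite S M := Module.Finite.trans R M
  by_cases hi : i ≤ r
  · obtain ⟨E, _, _, f, hf, Φ, hΦ⟩ := exists_dual S r hr R hg M (r - i) i (by omega)
    haveI : Module.Finite S (Ext.{u} (ModuleCat.of S M) (ModuleCat.of S S) (r - i)) :=
      Groth.Agent.Lib.H26FinExt.finite_ext S (r - i) M
    have hkill : ∀ (s : S) (k : ℕ),
        (∀ x : LocCoh.H (IsLocalRing.maximalIdeal R) i M, (algebraMap S R s) ^ k • x = 0) ↔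
        (∀ t : Ext.{u} (ModuleCat.of S M) (ModuleCat.of S S) (r - i), s ^ k • t = 0) := by
      intro s k
      rw [← smul_dual_eq_zero_iff f hf (s ^ k)]
      constructor
      · intro h φ
        have := hΦ (s ^ k) (Φ.symm φ)
        rw [map_pow, h, map_zero, AddEquiv.apply_symm_apply] at this
        exact this.symm
      · intro h x
        apply Φ.injective
        rw [← map_pow, hΦ, h, map_zero]
    have h1 : (∀ y ∈ J, ∃ k : ℕ, ∀ x : LocCoh.H (IsLocalRing.maximalIdeal R) i M,
        y ^ k • x = 0) ↔
        (∀ s ∈ J.comap (algebraMap S R), ∃ k : ℕ,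
          ∀ t : Ext.{u} (ModuleCat.of S M) (ModuleCat.of S S) (r - i), s ^ k • t = 0) := by
      constructor
      · intro h s hs
        obtain ⟨k, hk⟩ := h _ hs
        exact ⟨k, (hkill s k).mp hk⟩
      · intro h y hy
        obtain ⟨s, rfl⟩ := hg y
        obtain ⟨k, hk⟩ := h s hy
        exact ⟨k, (hkill s k).mpr hk⟩
    rw [h1, forall_pow_smul_iff_forall_prime,
      supp_iff S r hr R hg M J (r - i) i (by omega)]
  · constructor
    · intro _ p _ hp e j he hje
      exact Groth.Agent.Lib.H26GorLoc.subsingleton_H_localization_of_gt S r hr R hg p e he j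
        (by omega) _
    · intro _ y _
      haveI : Subsingleton (LocCoh.H (IsLocalRing.maximalIdeal R) i M) :=
        (Groth.Agent.Lib.H26GorLoc.subsingleton_H_iff_of_surjective hg M i).mp
          (Groth.Agent.Lib.H26GorLoc.gor_subsingleton_H_of_gt S r hr M i (by omega))
      exact ⟨0, fun x => Subsingleton.elim _ _⟩

end main

end Groth.Agent.Lib.H26GorFin
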