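/-
Helper library (helper26): lifting homomorphisms modulo a regular sequence when higher `Ext`
vanishes; linkage in Gorenstein local rings.
-/
import Mathlib.Tactic
import Mathlib.RingTheory.Regular.RegularSequence
import Mathlib.RingTheory.Regular.Flat
import Groth.Agent.Lib.LocCohLES
import Groth.Agent.Lib.H26GorLoc
import Groth.Agent.S5167

set_option autoImplicit false
universe u
open CategoryTheory Abelian RingTheory.Sequence Pointwise

namespace Groth.Agent.Lib.H26Liaison

open Groth.Agent.Lib.LocCohLES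

section onestep
variable {A : Type u} [CommRing A] (X : Type u) [AddCommGroup X] [Module A X]
  (N : Type u) [AddCommGroup N] [Module A N] (r : A) (hr : IsSMulRegular N r)

/-- multiplication by `r`, then the quotient map, is exact. -/
theorem exact_smul_mkQ :
    Function.Exact (LinearMap.lsmul A N r) (Submodule.mkQ (r • (⊤ : Submodule A N))) := by
  intro y
  rw [Submodule.mkQ_apply, Submodule.Quotient.mk_eq_zero, Set.mem_range]
  constructor
  · intro hy
    obtain ⟨z, -, hz⟩ := (Submodule.mem_smul_pointwise_iff_exists _ _ _).mp hy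
    exact ⟨z, hz⟩
  · rintro ⟨z, rfl⟩
    exact Submodule.smul_mem_pointwise_smul z r ⊤ Submodule.mem_top

include hr in
theorem lsmul_injective : Function.Injective (LinearMap.lsmul A N r) := hr

include hr in
/-- vanishing of higher `Ext` passes to the quotient by a regular element. -/
theorem subsingleton_ext_quot
    (hN : ∀ i, 1 ≤ i → Subsingleton (Ext.{u} (ModuleCat.of A X) (ModuleCat.of A N) i))
    (i : ℕ) (hi : 1 ≤ i) :
    Subsingleton (Ext.{u} (ModuleCat.of A X)
      (ModuleCat.of A (N ⧸ (r • (⊤ : Submodule A N)))) i) := by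
  have hS := ses_shortExact (LinearMap.lsmul A N r) (Submodule.mkQ (r • (⊤ : Submodule A N)))
    (lsmul_injective N r hr) (exact_smul_mkQ N r) (Submodule.mkQ_surjective _)
  refine subsingleton_of_forall_eq 0 fun x₃ => ?_
  haveI := hN (i + 1) (by omega)
  haveI := hN i hi
  obtain ⟨x₂, hx₂⟩ := Ext.covariant_sequence_exact₃ (ModuleCat.of A X) hS x₃ rfl
    (Subsingleton.elim _ _)
  rw [← hx₂, Subsingleton.elim x₂ 0, Ext.zero_comp]

include hr in
/-- homomorphisms lift along the quotient by a regular element when `Ext¹` vanishes. -/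
theorem exists_lift_quot
    (hN : Subsingleton (Ext.{u} (ModuleCat.of A X) (ModuleCat.of A N) 1))
    (φ : X →ₗ[A] N ⧸ (r • (⊤ : Submodule A N))) :
    ∃ ψ : X →ₗ[A] N, (Submodule.mkQ (r • (⊤ : Submodule A N))) ∘ₗ ψ = φ := by
  have hS := ses_shortExact (LinearMap.lsmul A N r) (Submodule.mkQ (r • (⊤ : Submodule A N)))
    (lsmul_injective N r hr) (exact_smul_mkQ N r) (Submodule.mkQ_surjective _)
  obtain ⟨x₂, hx₂⟩ := Ext.covariant_sequence_exact₃ (ModuleCat.of A X) hS
    (Ext.mk₀ (ModuleCat.ofHom φ)) rfl (Subsingleton.elim _ _)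
  obtain ⟨g, rfl⟩ := Ext.addEquiv₀.symm.surjective x₂
  rw [Ext.addEquiv₀_symm_apply, Ext.mk₀_comp_mk₀] at hx₂
  have h1 := (Ext.mk₀_bijective _ _).1 hx₂
  refine ⟨g.hom, ?_⟩
  have h2 := congrArg ModuleCat.Hom.hom h1
  exact h2

include hr in
/-- a homomorphism into `r N` is `r` times a homomorphism. -/
theorem exists_eq_smul_of_mkQ_comp_eq_zero (θ : X →ₗ[A] N)
    (hθ : (Submodule.mkQ (r • (⊤ : Submodule A N))) ∘ₗ θ = 0) :
    ∃ θ' : X →ₗ[A] N, θ = r • θ' := by
  have hrange : ∀ x, θ x ∈ LinearMap.range (LinearMap.lsmul A N r) := by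
    intro x
    have h1 : (Submodule.mkQ (r • (⊤ : Submodule A N))) (θ x) = 0 := LinearMap.congr_fun hθ x
    exact (exact_smul_mkQ N r (θ x)).mp h1
  let e := LinearEquiv.ofInjective (LinearMap.lsmul A N r) (lsmul_injective N r hr)
  refine ⟨e.symm.toLinearMap ∘ₗ θ.codRestrict _ hrange, ?_⟩
  ext x
  have h2 : (LinearMap.lsmul A N r) (e.symm (θ.codRestrict _ hrange x)) =
      (θ.codRestrict _ hrange x : N) := by
    have := e.apply_symm_apply (θ.codRestrict _ hrange x)
    exact congrArg Subtype.val this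
  rw [LinearMap.smul_apply]
  exact h2.symm

end onestep

section induction
variable {A : Type u} [CommRing A] (X : Type u) [AddCommGroup X] [Module A X]

theorem smul_top_quotSMulTop (N : Type u) [AddCommGroup N] [Module A N] (r : A) :
    r • (⊤ : Submodule A (N ⧸ (r • (⊤ : Submodule A N)))) = ⊥ := by
  rw [eq_bot_iff]
  intro y hy
  obtain ⟨z, -, rfl⟩ := (Submodule.mem_smul_pointwise_iff_exists _ _ _).mp hy
  obtain ⟨n, rfl⟩ := Submodule.Quotient.mk_surjective _ z
  rw [Submodule.mem_bot, ← Submodule.Quotient.mk_smul, Submodule.Quotient.mk_eq_zero]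
  exact Submodule.smul_mem_pointwise_smul n r ⊤ Submodule.mem_top

/-- **Lifting modulo a regular sequence**: if `rs` is weakly regular on `N` and `Ext^i(X, N) = 0`
for `i ≥ 1`, then `Hom(X, N) → Hom(X, N/(rs)N)` is surjective with kernel `(rs) Hom(X, N)`. -/
theorem lift_of_isWeaklyRegular (rs : List A) :
    ∀ (N : Type u) [AddCommGroup N] [Module A N], IsWeaklyRegular N rs →
      (∀ i, 1 ≤ i → Subsingleton (Ext.{u} (ModuleCat.of A X) (ModuleCat.of A N) i)) →
      ∀ (Q : Type u) [AddCommGroup Q] [Module A Q] (π : N →ₗ[A] Q), Function.Surjective π →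
        LinearMap.ker π = Ideal.ofList rs • (⊤ : Submodule A N) →
        (∀ φ : X →ₗ[A] Q, ∃ ψ : X →ₗ[A] N, π ∘ₗ ψ = φ) ∧
        (∀ ψ : X →ₗ[A] N, π ∘ₗ ψ = 0 →
          ψ ∈ Ideal.ofList rs • (⊤ : Submodule A (X →ₗ[A] N))) := by
  induction rs with
  | nil =>
    intro N _ _ _ _ Q _ _ π hπ hker
    rw [Ideal.ofList_nil, Submodule.bot_smul] at hker
    have hinj : Function.Injective π := LinearMap.ker_eq_bot.mp hker
    let e := LinearEquiv.ofBijective π ⟨hinj, hπ⟩
    refine ⟨fun φ => ⟨e.symm.toLinearMap ∘ₗ φ, ?_⟩, fun ψ hψ => ?_⟩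
    · ext x
      exact e.apply_symm_apply (φ x)
    · have h0 : ψ = 0 := by
        ext x
        apply hinj
        rw [LinearMap.zero_apply, map_zero]
        exact LinearMap.congr_fun hψ x
      rw [h0]
      exact Submodule.zero_mem _
  | cons r rs ih =>
    intro N _ _ hreg hN Q _ _ π hπ hker
    obtain ⟨hr, hrs⟩ := (isWeaklyRegular_cons_iff N r rs).mp hreg
    have hle : r • (⊤ : Submodule A N) ≤ LinearMap.ker π := by
      rw [hker, Ideal.ofList_cons_smul]
      exact le_sup_left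
    let π' : (N ⧸ (r • (⊤ : Submodule A N))) →ₗ[A] Q := Submodule.liftQ _ π hle
    have hπ' : Function.Surjective π' := by
      intro y
      obtain ⟨n, rfl⟩ := hπ y
      exact ⟨Submodule.Quotient.mk n, rfl⟩
    have hker' : LinearMap.ker π' =
        Ideal.ofList rs • (⊤ : Submodule A (N ⧸ (r • (⊤ : Submodule A N)))) := by
      rw [Submodule.ker_liftQ, hker, Submodule.map_smul'', Submodule.map_top, Submodule.range_mkQ,
        Ideal.ofList_cons_smul, smul_top_quotSMulTop, bot_sup_eq]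
    have hN' := subsingleton_ext_quot X N r hr hN
    obtain ⟨ih1, ih2⟩ := ih (N ⧸ (r • (⊤ : Submodule A N))) hrs hN' Q π' hπ' hker'
    refine ⟨fun φ => ?_, fun ψ hψ => ?_⟩
    · obtain ⟨ψ', hψ'⟩ := ih1 φ
      obtain ⟨ψ, hψ⟩ := exists_lift_quot X N r hr (hN 1 le_rfl) ψ'
      refine ⟨ψ, ?_⟩
      rw [← hψ', ← hψ, ← LinearMap.comp_assoc, Submodule.liftQ_mkQ]
    · have h1 : π' ∘ₗ ((Submodule.mkQ (r • (⊤ : Submodule A N))) ∘ₗ ψ) = 0 := by
        rw [← LinearMap.comp_assoc, Submodule.liftQ_mkQ]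
        exact hψ
      have h2 := ih2 _ h1
      let Φ : (X →ₗ[A] N) →ₗ[A] (X →ₗ[A] (N ⧸ (r • (⊤ : Submodule A N)))) :=
        LinearMap.compRight A (Submodule.mkQ (r • (⊤ : Submodule A N)))
      have hΦ : Function.Surjective Φ := fun φ => exists_lift_quot X N r hr (hN 1 le_rfl) φ
      have h3 : Ideal.ofList rs • (⊤ : Submodule A (X →ₗ[A] (N ⧸ (r • (⊤ : Submodule A N))))) =
          Submodule.map Φ (Ideal.ofList rs • ⊤) := by
        rw [Submodule.map_smul'', Submodule.map_top, LinearMap.range_eq_top.mpr hΦ]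
      rw [h3] at h2
      obtain ⟨χ, hχ, hχψ⟩ := h2
      have h4 : (Submodule.mkQ (r • (⊤ : Submodule A N))) ∘ₗ (ψ - χ) = 0 := by
        rw [LinearMap.comp_sub, sub_eq_zero]
        exact hχψ.symm
      obtain ⟨θ', hθ'⟩ := exists_eq_smul_of_mkQ_comp_eq_zero X N r hr (ψ - χ) h4
      rw [Ideal.ofList_cons_smul]
      have h5 : ψ = r • θ' + χ := by
        rw [← hθ']
        abel
      rw [h5]
      exact Submodule.add_mem_sup
        (Submodule.smul_mem_pointwise_smul θ' r ⊤ Submodule.mem_top) hχ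

end induction

section gor
variable (A : Type u) [CommRing A] [LocCoh.IsGorensteinLocalRing A] (I : Ideal A)
  [LocCoh.IsCohenMacaulayLocalRing (A ⧸ I)] (hI : ringKrullDim (A ⧸ I) = ringKrullDim A)

include hI in
/-- over a Gorenstein local ring `A`, `Ext^i(A/I, A) = 0` for `i ≥ 1` when `A/I` is
Cohen–Macaulay of the same dimension as `A`. -/
theorem subsingleton_ext_quotient (i : ℕ) (hi : 1 ≤ i) :
    Subsingleton (Ext.{u} (ModuleCat.of A (A ⧸ I)) (ModuleCat.of A A) i) := by
  obtain ⟨d, hd, -, -⟩ := Groth.Agent.Lib.H29Gorenstein.gorenstein_invariants A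
  haveI : Module.Finite A (A ⧸ I) :=
    Module.Finite.of_surjective (Algebra.linearMap A (A ⧸ I)) Ideal.Quotient.mk_surjective
  by_cases hid : d < i
  · exact Groth.Agent.Lib.H26GorLoc.gor_subsingleton_ext_of_gt A d hd (A ⧸ I) i hid
  · push_neg at hid
    have hq : i + (d - i) = d := by omega
    rw [← Groth.Agent.Lib.H26GorLoc.gor_subsingleton_H_iff A d hd (A ⧸ I) i (d - i) hq]
    have hsurj : Function.Surjective (algebraMap A (A ⧸ I)) := Ideal.Quotient.mk_surjective
    rw [Groth.Agent.Lib.H26GorLoc.subsingleton_H_iff_of_surjective hsurj (A ⧸ I) (d - i)]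
    have hdepth : LocCoh.depth (A ⧸ I) (A ⧸ I) = d := by
      have h := LocCoh.IsCohenMacaulayLocalRing.supportDim_eq_depth (R := A ⧸ I)
      rw [Module.supportDim_self_eq_ringKrullDim, hI, hd] at h
      have h1 : ((d : ℕ∞) : WithBot ℕ∞) =
          ((LocCoh.depth (A ⧸ I) (A ⧸ I) : ℕ∞) : WithBot ℕ∞) := h
      exact (WithBot.coe_injective h1).symm
    have hlt : ((d - i : ℕ) : ℕ∞) < LocCoh.depth (A ⧸ I) (A ⧸ I) + ((0 : ℕ) : ℕ∞) := by
      rw [hdepth]
      have : d - i < d + 0 := by omega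
      exact_mod_cast this
    exact (Groth.Agent.S5167.lt_depth_add_iff (B := A ⧸ I) (A ⧸ I) (d - i) 0).mp hlt (d - i)
      (by omega)

end gor

section ideals
variable (A : Type u) [CommRing A] [LocCoh.IsGorensteinLocalRing A] (I : Ideal A)
  [LocCoh.IsCohenMacaulayLocalRing (A ⧸ I)] (hI : ringKrullDim (A ⧸ I) = ringKrullDim A)
  (rs : List A) (hrs : IsWeaklyRegular A rs)

include hI hrs in
theorem lift_quotient :
    (∀ φ : (A ⧸ I) →ₗ[A] (A ⧸ Ideal.ofList rs), ∃ ψ : (A ⧸ I) →ₗ[A] A,
      (Submodule.mkQ (Ideal.ofList rs)) ∘ₗ ψ = φ) ∧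
    (∀ ψ : (A ⧸ I) →ₗ[A] A, (Submodule.mkQ (Ideal.ofList rs)) ∘ₗ ψ = 0 →
      ψ ∈ Ideal.ofList rs • (⊤ : Submodule A ((A ⧸ I) →ₗ[A] A))) := by
  have hker : LinearMap.ker (Submodule.mkQ (Ideal.ofList rs)) =
      Ideal.ofList rs • (⊤ : Submodule A A) := by
    rw [Submodule.ker_mkQ]
    exact (Ideal.mul_top _).symm
  exact lift_of_isWeaklyRegular (A ⧸ I) rs A hrs (subsingleton_ext_quotient A I hI)
    (A ⧸ Ideal.ofList rs) (Submodule.mkQ (Ideal.ofList rs)) (Submodule.mkQ_surjective _) hker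

include hI hrs in
/-- `(0 : I) + 𝔞 = (𝔞 : I)` for `𝔞` generated by an `A`-regular sequence. -/
theorem annihilator_sup_eq_colon :
    Submodule.annihilator I ⊔ Ideal.ofList rs = Submodule.colon (Ideal.ofList rs) (I : Set A) := by
  obtain ⟨hb, -⟩ := lift_quotient A I hI rs hrs
  apply le_antisymm
  · apply sup_le
    · intro a ha
      rw [Submodule.mem_colon]
      intro y hy
      rw [Submodule.mem_annihilator] at ha
      rw [ha y hy]
      exact Submodule.zero_mem _
    · intro a ha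
      rw [Submodule.mem_colon]
      intro y _
      rw [smul_eq_mul]
      exact Ideal.mul_mem_right y _ ha
  · intro a ha
    rw [Submodule.mem_colon] at ha
    have hle : I ≤ LinearMap.ker ((Submodule.mkQ (Ideal.ofList rs)) ∘ₗ (LinearMap.lsmul A A a)) := by
      intro y hy
      rw [LinearMap.mem_ker, LinearMap.comp_apply, Submodule.mkQ_apply,
        Submodule.Quotient.mk_eq_zero]
      exact ha y hy
    let φ : (A ⧸ I) →ₗ[A] (A ⧸ Ideal.ofList rs) := Submodule.liftQ I _ hle
    obtain ⟨ψ, hψ⟩ := hb φ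
    have hj : ψ (Submodule.Quotient.mk 1) ∈ Submodule.annihilator I := by
      rw [Submodule.mem_annihilator]
      intro y hy
      rw [smul_eq_mul, mul_comm, ← smul_eq_mul, ← map_smul, ← Submodule.Quotient.mk_smul,
        smul_eq_mul, mul_one, (Submodule.Quotient.mk_eq_zero I).mpr hy, map_zero]
    have hdiff : a - ψ (Submodule.Quotient.mk 1) ∈ Ideal.ofList rs := by
      have h1 := LinearMap.congr_fun hψ (Submodule.Quotient.mk 1)
      have h2 : φ (Submodule.Quotient.mk 1) = Submodule.Quotient.mk (a • (1 : A)) := rfl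
      rw [LinearMap.comp_apply, Submodule.mkQ_apply, h2, smul_eq_mul, mul_one] at h1
      rw [← Submodule.Quotient.mk_eq_zero, Submodule.Quotient.mk_sub, h1, sub_self]
    have : a = ψ (Submodule.Quotient.mk 1) + (a - ψ (Submodule.Quotient.mk 1)) := by ring
    rw [this]
    exact Submodule.add_mem_sup hj hdiff

include hI hrs in
/-- `(0 : I) ∩ 𝔞 = 𝔞 (0 : I)` for `𝔞` generated by an `A`-regular sequence. -/
theorem annihilator_inf_eq_mul :
    Submodule.annihilator I ⊓ Ideal.ofList rs = Ideal.ofList rs * Submodule.annihilator I := by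
  obtain ⟨-, hb'⟩ := lift_quotient A I hI rs hrs
  apply le_antisymm
  · rintro j ⟨hjJ, hja⟩
    have hjJ' : ∀ y ∈ I, j • y = 0 := (Submodule.mem_annihilator).mp hjJ
    have hle : I ≤ LinearMap.ker (LinearMap.lsmul A A j) := by
      intro y hy
      rw [LinearMap.mem_ker]
      exact hjJ' y hy
    let ψ : (A ⧸ I) →ₗ[A] A := Submodule.liftQ I _ hle
    have hψ0 : (Submodule.mkQ (Ideal.ofList rs)) ∘ₗ ψ = 0 := by
      apply LinearMap.ext
      intro x
      obtain ⟨y, rfl⟩ := Submodule.Quotient.mk_surjective _ x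
      rw [LinearMap.comp_apply, LinearMap.zero_apply, Submodule.mkQ_apply,
        Submodule.Quotient.mk_eq_zero]
      change j • y ∈ Ideal.ofList rs
      rw [smul_eq_mul]
      exact Ideal.mul_mem_right y _ hja
    have hmem := hb' ψ hψ0
    -- evaluation at `1`
    let ev : ((A ⧸ I) →ₗ[A] A) →ₗ[A] A := LinearMap.applyₗ (Submodule.Quotient.mk 1)
    have hev : Submodule.map ev ⊤ ≤ Submodule.annihilator I := by
      rintro _ ⟨χ, -, rfl⟩
      rw [Submodule.mem_annihilator]
      intro y hy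
      change χ (Submodule.Quotient.mk 1) • y = 0
      rw [smul_eq_mul, mul_comm, ← smul_eq_mul, ← map_smul, ← Submodule.Quotient.mk_smul,
        smul_eq_mul, mul_one, (Submodule.Quotient.mk_eq_zero I).mpr hy, map_zero]
    have h1 : ev ψ ∈ Submodule.map ev (Ideal.ofList rs • ⊤) := ⟨ψ, hmem, rfl⟩
    rw [Submodule.map_smul''] at h1
    have h2 : ev ψ = j := by
      change ψ (Submodule.Quotient.mk 1) = j
      change j • (1 : A) = j
      rw [smul_eq_mul, mul_one]
    rw [h2] at h1
    exact Submodule.smul_mono le_rfl hev h1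
  · exact (Ideal.mul_le_inf).trans (le_of_eq (inf_comm _ _))

end ideals

section regular
variable (A : Type u) [CommRing A] [LocCoh.IsGorensteinLocalRing A] (I : Ideal A)
  [LocCoh.IsCohenMacaulayLocalRing (A ⧸ I)] (hI : ringKrullDim (A ⧸ I) = ringKrullDim A)
  (rs : List A) (hrs : IsWeaklyRegular A rs)

/-- membership in `𝔞 (A/J)` -/
theorem mk_mem_smul_top_iff (J 𝔞 : Ideal A) (b : A) :
    (Submodule.Quotient.mk b : A ⧸ J) ∈ 𝔞 • (⊤ : Submodule A (A ⧸ J)) ↔ b ∈ J ⊔ 𝔞 := by
  have h1 : 𝔞 • (⊤ : Submodule A (A ⧸ J)) = Submodule.map (Submodule.mkQ J) 𝔞 := by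
    rw [← Submodule.range_mkQ J, ← Submodule.map_top, ← Submodule.map_smul'']
    congr 1
    exact Ideal.mul_top 𝔞
  rw [h1, Submodule.mem_map, Submodule.mem_sup]
  constructor
  · rintro ⟨t, ht, hbt⟩
    refine ⟨b - t, ?_, t, ht, by ring⟩
    rw [← Submodule.Quotient.mk_eq_zero J, Submodule.Quotient.mk_sub]
    rw [Submodule.mkQ_apply] at hbt
    rw [hbt, sub_self]
  · rintro ⟨j, hj, t, ht, rfl⟩
    refine ⟨t, ht, ?_⟩
    rw [Submodule.mkQ_apply, Submodule.Quotient.mk_add, (Submodule.Quotient.mk_eq_zero J).mpr hj,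
      zero_add]

include hI hrs in
/-- an `A`-regular sequence is regular on `A ⧸ (0 : I)` (linkage). -/
theorem isWeaklyRegular_quotient_annihilator :
    IsWeaklyRegular (A ⧸ Submodule.annihilator I) rs := by
  refine ⟨fun i hi => ?_⟩
  have hsplit : rs = rs.take i ++ rs.drop i := (List.take_append_drop i rs).symm
  have hpre : IsWeaklyRegular A (rs.take i) := by
    have h := hrs
    rw [hsplit, isWeaklyRegular_append_iff] at h
    exact h.1
  have hcolon := annihilator_sup_eq_colon A I hI (rs.take i) hpre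
  have hx := hrs.regular_mod_prev i hi
  rw [isSMulRegular_iff_right_eq_zero_of_smul]
  intro m hm
  obtain ⟨m', rfl⟩ := Submodule.Quotient.mk_surjective _ m
  obtain ⟨a, rfl⟩ := Submodule.Quotient.mk_surjective _ m'
  rw [← Submodule.Quotient.mk_smul, Submodule.Quotient.mk_eq_zero, ← Submodule.Quotient.mk_smul,
    mk_mem_smul_top_iff, hcolon, Submodule.mem_colon] at hm
  rw [Submodule.Quotient.mk_eq_zero, mk_mem_smul_top_iff, hcolon, Submodule.mem_colon]
  intro y hy
  have h1 := hm y hy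
  have h2 : rs[i] • (Submodule.Quotient.mk (a • y) :
      A ⧸ (Ideal.ofList (rs.take i) • (⊤ : Submodule A A))) = 0 := by
    rw [← Submodule.Quotient.mk_smul, Submodule.Quotient.mk_eq_zero]
    have : Ideal.ofList (rs.take i) • (⊤ : Submodule A A) = Ideal.ofList (rs.take i) :=
      Ideal.mul_top _
    rw [this]
    rw [smul_assoc] at h1
    exact h1
  have h3 := isSMulRegular_iff_right_eq_zero_of_smul.mp hx _ h2
  rw [Submodule.Quotient.mk_eq_zero] at h3
  have : Ideal.ofList (rs.take i) • (⊤ : Submodule A A) = Ideal.ofList (rs.take i) :=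
    Ideal.mul_top _
  rw [this] at h3
  exact h3

end regular

end Groth.Agent.Lib.H26Liaison
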