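/-
Helper library (helper26): linkage preserves the Cohen–Macaulay property.
* `isCohenMacaulayLocalRing_quotient_annihilator`: `A` Gorenstein local, `A/I` CM with
  `dim A/I = dim A`, `(0 : I) ≠ A` ⟹ `A/(0 : I)` CM.
-/
import Mathlib.Tactic
import Groth.Agent.Lib.H26Liaison
import Groth.Agent.Lib.H26GorDual
import Groth.Agent.Lib.CMFlat33
import Groth.Agent.Lib.CMComp33
import Groth.Agent.Lib.DepthRees
import Groth.Agent.Lib.H26CMDim
import Groth.Agent.Lib.H8GradedCM
import Groth.Agent.Lib.H8CMOpen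
import Groth.Agent.Lib.CMRingEquiv96

set_option autoImplicit false
universe u
open RingTheory.Sequence IsLocalRing

namespace Groth.Agent.Lib.H26LinkCM

section loc
variable (A : Type u) [CommRing A] [LocCoh.IsGorensteinLocalRing A] (I : Ideal A)
  [LocCoh.IsCohenMacaulayLocalRing (A ⧸ I)] (hI : ringKrullDim (A ⧸ I) = ringKrullDim A)

include hI in
/-- Linkage preserves Cohen–Macaulayness (local form, Peskine–Szpiro), with the dimension. -/
theorem isCohenMacaulayLocalRing_quotient_annihilator' (hJ : Submodule.annihilator I ≠ ⊤) :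
    LocCoh.IsCohenMacaulayLocalRing (A ⧸ Submodule.annihilator I) ∧
      ringKrullDim (A ⧸ Submodule.annihilator I) = ringKrullDim A := by
  haveI : IsNoetherianRing A := inferInstance
  haveI : IsLocalRing A := inferInstance
  obtain ⟨d, hd, hdepth, -⟩ := Groth.Agent.Lib.H29Gorenstein.gorenstein_invariants A
  obtain ⟨xs, hlen, hreg, hmem, -⟩ := Groth.Agent.Lib.H26GorDual.gorenstein_exists_regular A d hd
  have hw := Groth.Agent.Lib.H26Liaison.isWeaklyRegular_quotient_annihilator A I hI xs hreg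
  set J := Submodule.annihilator I with hJdef
  haveI : Nontrivial (A ⧸ J) := Ideal.Quotient.nontrivial_iff.mpr hJ
  haveI : IsLocalRing (A ⧸ J) := Groth.Agent.Lib.CMComp33.isLocalRing_quotient J hJ
  haveI : Module.Finite A (A ⧸ J) :=
    Module.Finite.of_surjective (Algebra.linearMap A (A ⧸ J)) Ideal.Quotient.mk_surjective
  have hIM := Groth.Agent.Lib.DepthRees.maximalIdeal_smul_top_ne_top (R := A) (A ⧸ J)
  have hge : (d : ℕ∞) ≤ LocCoh.depth A (A ⧸ J) := by
    unfold LocCoh.depth LocCoh.idealDepth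
    rw [if_neg hIM]
    refine le_iSup₂_of_le xs ⟨hw, hmem⟩ ?_
    rw [hlen]
  have hle := Groth.Agent.Lib.DepthRees.depth_le_supportDim (R := A) (A ⧸ J)
  rw [Module.supportDim_quotient_eq_ringKrullDim] at hle
  have hdim : ringKrullDim (A ⧸ J) ≤ d := hd ▸ ringKrullDim_quotient_le J
  have hge' : ((d : ℕ∞) : WithBot ℕ∞) ≤ ((LocCoh.depth A (A ⧸ J) : ℕ∞) : WithBot ℕ∞) := by
    exact_mod_cast hge
  refine ⟨{ supportDim_eq_depth := ?_ }, ?_⟩
  · rw [Module.supportDim_self_eq_ringKrullDim, ← Groth.Agent.Lib.CMFlat33.depth_quotient_eq]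
    exact le_antisymm (hdim.trans hge') hle
  · rw [hd]
    exact le_antisymm hdim (hge'.trans hle)

include hI in
/-- Linkage preserves Cohen–Macaulayness (local form, Peskine–Szpiro). -/
theorem isCohenMacaulayLocalRing_quotient_annihilator (hJ : Submodule.annihilator I ≠ ⊤) :
    LocCoh.IsCohenMacaulayLocalRing (A ⧸ Submodule.annihilator I) :=
  (isCohenMacaulayLocalRing_quotient_annihilator' A I hI hJ).1

end loc

section annloc
variable {S : Type u} [CommRing S] [IsNoetherianRing S]

/-- annihilators of ideals commute with localization (Noetherian case). -/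
theorem map_annihilator (M : Submonoid S) (L : Type u) [CommRing L]
    [Algebra S L] [IsLocalization M L] (𝔞 : Ideal S) :
    (Submodule.annihilator 𝔞).map (algebraMap S L) =
      Submodule.annihilator (𝔞.map (algebraMap S L)) := by
  classical
  apply le_antisymm
  · rw [Ideal.map_le_iff_le_comap]
    intro x hx
    rw [Ideal.mem_comap, Submodule.mem_annihilator]
    intro n hn
    refine Submodule.span_induction (p := fun n _ => algebraMap S L x • n = 0) ?_ ?_ ?_ ?_ hn
    · rintro _ ⟨a, ha, rfl⟩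
      rw [smul_eq_mul, ← map_mul]
      have := (Submodule.mem_annihilator.mp hx) a ha
      rw [smul_eq_mul] at this
      rw [this, map_zero]
    · rw [smul_zero]
    · intro u v _ _ hu hv
      rw [smul_add, hu, hv, add_zero]
    · intro r u _ hu
      rw [smul_comm, hu, smul_zero]
  · intro y hy
    obtain ⟨x, s, rfl⟩ := IsLocalization.exists_mk'_eq M y
    have hkill : ∀ a ∈ 𝔞, ∃ t : M, (t : S) * (x * a) = 0 := by
      intro a ha
      have h1 := (Submodule.mem_annihilator.mp hy) (algebraMap S L a) (Ideal.mem_map_of_mem _ ha)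
      rw [smul_eq_mul, mul_comm, IsLocalization.mul_mk'_eq_mk'_of_mul,
        IsLocalization.mk'_eq_zero_iff] at h1
      obtain ⟨t, ht⟩ := h1
      exact ⟨t, by rw [← ht]; ring⟩
    obtain ⟨G, hG⟩ := (IsNoetherian.noetherian 𝔞 : 𝔞.FG)
    have hGmem : ∀ a ∈ G, a ∈ 𝔞 := fun a ha => hG ▸ Ideal.subset_span ha
    choose! t ht using hkill
    set T : M := ∏ a ∈ G, t a with hT
    have hTx : (T : S) * x ∈ Submodule.annihilator 𝔞 := by
      rw [Submodule.mem_annihilator]
      intro n hn
      rw [← hG] at hn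
      refine Submodule.span_induction (p := fun n _ => ((T : S) * x) • n = 0) ?_ ?_ ?_ ?_ hn
      · intro a ha
        obtain ⟨u, hu⟩ : ∃ u : S, (T : S) = u * (t a : S) := by
          refine ⟨((∏ b ∈ G.erase a, t b : M) : S), ?_⟩
          rw [hT, ← Finset.mul_prod_erase G _ ha]
          push_cast
          ring
        rw [smul_eq_mul, hu]
        have := ht a (hGmem a ha)
        calc u * (t a : S) * x * a = u * ((t a : S) * (x * a)) := by ring
          _ = 0 := by rw [this, mul_zero]
      · rw [smul_zero]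
      · intro u v _ _ hu hv
        rw [smul_add, hu, hv, add_zero]
      · intro r u _ hu
        rw [smul_comm, hu, smul_zero]
    have heq : IsLocalization.mk' L x s =
        algebraMap S L ((T : S) * x) * IsLocalization.mk' L 1 (T * s) := by
      rw [IsLocalization.mul_mk'_eq_mk'_of_mul, mul_one, IsLocalization.mk'_eq_iff_eq]
      push_cast
      ring_nf
    rw [heq]
    exact Ideal.mul_mem_right _ _ (Ideal.mem_map_of_mem _ hTx)

end annloc

section ring
variable (S : Type u) [CommRing S] [LocCoh.IsGorensteinRing S] (𝔞 : Ideal S)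
  [LocCoh.IsCohenMacaulayRing (S ⧸ 𝔞)]

/-- the local data at a prime `Q ⊇ 𝔞`: `A_Q/𝔞A_Q` is Cohen–Macaulay of the same dimension as `A_Q`. -/
theorem isCM_and_dim_localization (hmin : ∀ p ∈ 𝔞.minimalPrimes, p.height = 0)
    (Q : Ideal S) [Q.IsPrime] (h𝔞Q : 𝔞 ≤ Q) :
    LocCoh.IsCohenMacaulayLocalRing
        (Localization.AtPrime Q ⧸ 𝔞.map (algebraMap S (Localization.AtPrime Q))) ∧
      ringKrullDim (Localization.AtPrime Q ⧸ 𝔞.map (algebraMap S (Localization.AtPrime Q))) =
        ringKrullDim (Localization.AtPrime Q) := by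
  haveI : IsNoetherianRing S := inferInstance
  set A := Localization.AtPrime Q with hA
  haveI : LocCoh.IsGorensteinLocalRing A :=
    LocCoh.IsGorensteinRing.isGorensteinLocalRing_localization Q
  haveI : LocCoh.IsCohenMacaulayLocalRing A :=
    Groth.Agent.Lib.H26CMDim.isCohenMacaulayLocalRing_of_gorenstein A
  have hsurj : Function.Surjective (Ideal.Quotient.mk 𝔞) := Ideal.Quotient.mk_surjective
  have hker : RingHom.ker (Ideal.Quotient.mk 𝔞) ≤ Q := by rw [Ideal.mk_ker]; exact h𝔞Q
  haveI hq' : (Q.map (Ideal.Quotient.mk 𝔞)).IsPrime := Ideal.map_isPrime_of_surjective hsurj hker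
  have hcomap : (Q.map (Ideal.Quotient.mk 𝔞)).comap (Ideal.Quotient.mk 𝔞) = Q := by
    rw [Ideal.comap_map_of_surjective _ hsurj, ← RingHom.ker_eq_comap_bot]
    exact sup_eq_left.mpr hker
  let e' := Groth.Agent.Lib.H8GradedCM.localizationQuotientEquiv Q 𝔞
    (Q.map (Ideal.Quotient.mk 𝔞)) hcomap
  haveI : LocCoh.IsCohenMacaulayLocalRing (Localization.AtPrime (Q.map (Ideal.Quotient.mk 𝔞))) :=
    LocCoh.IsCohenMacaulayRing.isCohenMacaulayLocalRing_localization _
  refine ⟨Groth.Agent.Lib.CMRingEquiv96.isCohenMacaulayLocalRing_of_ringEquiv e', ?_⟩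
  apply le_antisymm (ringKrullDim_quotient_le _)
  obtain ⟨p, hp, hpQ⟩ := Ideal.exists_minimalPrimes_le h𝔞Q
  haveI : p.IsPrime := hp.1.1
  have hdisj : Disjoint (Q.primeCompl : Set S) (p : Set S) := by
    rw [Set.disjoint_left]
    intro x hx hxp
    exact hx (hpQ hxp)
  haveI : (p.map (algebraMap S A)).IsPrime :=
    IsLocalization.isPrime_of_isPrime_disjoint Q.primeCompl A p inferInstance hdisj
  have hht : (p.map (algebraMap S A)).height = 0 := by
    rw [IsLocalization.height_map_of_disjoint Q.primeCompl p hdisj]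
    exact hmin p hp
  have h1 := Groth.Agent.Lib.H26CMDim.dim_eq_quotient_add_height (S := A) (p.map (algebraMap S A))
  rw [hht] at h1
  have h2 : ringKrullDim A = ringKrullDim (A ⧸ p.map (algebraMap S A)) := by
    rw [h1]; simp
  rw [h2]
  have hle : 𝔞.map (algebraMap S A) ≤ p.map (algebraMap S A) := Ideal.map_mono hp.1.2
  exact ringKrullDim_le_of_surjective (Ideal.Quotient.factor hle)
    (Ideal.Quotient.factor_surjective hle)

/-- if `𝔞 ⊄ Q` then `(0 : 𝔞 A_Q) = 0`. -/
theorem annihilator_map_eq_bot_of_not_le (𝔞 : Ideal S) (Q : Ideal S) [Q.IsPrime] (h𝔞Q : ¬ 𝔞 ≤ Q) :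
    Submodule.annihilator (𝔞.map (algebraMap S (Localization.AtPrime Q))) = ⊥ := by
  set A := Localization.AtPrime Q with hA
  have htop : 𝔞.map (algebraMap S A) = ⊤ := by
    obtain ⟨a, ha, haQ⟩ := Set.not_subset.mp h𝔞Q
    apply Ideal.eq_top_of_isUnit_mem _ (Ideal.mem_map_of_mem _ ha)
    exact IsLocalization.map_units A (⟨a, haQ⟩ : Q.primeCompl)
  rw [htop, eq_bot_iff]
  intro x hx
  have := (Submodule.mem_annihilator.mp hx) 1 Submodule.mem_top
  rw [smul_eq_mul, mul_one] at this
  rw [this]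
  exact Ideal.zero_mem _

/-- Linkage preserves Cohen–Macaulayness (global form): `S` Gorenstein, `S/𝔞` Cohen–Macaulay,
all minimal primes of `𝔞` minimal in `S`; then `S/(0 : 𝔞)` is Cohen–Macaulay. -/
theorem isCohenMacaulayRing_quotient_annihilator
    (hmin : ∀ p ∈ 𝔞.minimalPrimes, p.height = 0) :
    LocCoh.IsCohenMacaulayRing (S ⧸ Submodule.annihilator 𝔞) := by
  haveI : IsNoetherianRing S := inferInstance
  refine { isCohenMacaulayLocalRing_localization := ?_ }
  intro q hq
  set Q : Ideal S := q.comap (Ideal.Quotient.mk (Submodule.annihilator 𝔞)) with hQ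
  haveI : Q.IsPrime := Ideal.comap_isPrime _ _
  have hAnnQ : Submodule.annihilator 𝔞 ≤ Q := by
    intro x hx
    rw [hQ, Ideal.mem_comap, Ideal.Quotient.eq_zero_iff_mem.mpr hx]
    exact Ideal.zero_mem _
  set A := Localization.AtPrime Q with hA
  haveI : LocCoh.IsGorensteinLocalRing A :=
    LocCoh.IsGorensteinRing.isGorensteinLocalRing_localization Q
  haveI : LocCoh.IsCohenMacaulayLocalRing A :=
    Groth.Agent.Lib.H26CMDim.isCohenMacaulayLocalRing_of_gorenstein A
  let e := Groth.Agent.Lib.H8GradedCM.localizationQuotientEquiv Q (Submodule.annihilator 𝔞) q rfl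
  suffices h : LocCoh.IsCohenMacaulayLocalRing
      (A ⧸ (Submodule.annihilator 𝔞).map (algebraMap S A)) from
    Groth.Agent.Lib.CMRingEquiv96.isCohenMacaulayLocalRing_of_ringEquiv e.symm
  have hne : (Submodule.annihilator 𝔞).map (algebraMap S A) ≠ ⊤ :=
    Groth.Agent.Lib.H8CMOpen.map_ne_top _ Q hAnnQ
  rw [map_annihilator Q.primeCompl A 𝔞] at hne ⊢
  by_cases h𝔞Q : 𝔞 ≤ Q
  · -- the linked case
    obtain ⟨hcm, hdim⟩ := isCM_and_dim_localization S 𝔞 hmin Q h𝔞Q
    exact isCohenMacaulayLocalRing_quotient_annihilator A (𝔞.map (algebraMap S A)) hdim hne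
  · -- the trivial case: `𝔞 A = A`
    rw [annihilator_map_eq_bot_of_not_le S 𝔞 Q h𝔞Q]
    exact Groth.Agent.Lib.CMRingEquiv96.isCohenMacaulayLocalRing_of_ringEquiv
      (RingEquiv.quotientBot A).symm

end ring

/-- the annihilator of `I/𝔠` in `P/𝔠` is `(𝔠 : I)/𝔠`. -/
theorem annihilator_map_mk {P : Type u} [CommRing P] (𝔠 I : Ideal P) :
    Submodule.annihilator (I.map (Ideal.Quotient.mk 𝔠)) =
      (𝔠.colon (I : Set P)).map (Ideal.Quotient.mk 𝔠) := by
  have hsurj : Function.Surjective (Ideal.Quotient.mk 𝔠) := Ideal.Quotient.mk_surjective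
  apply le_antisymm
  · intro x hx
    obtain ⟨x, rfl⟩ := hsurj x
    apply Ideal.mem_map_of_mem
    rw [Submodule.mem_colon]
    intro y hy
    have := (Submodule.mem_annihilator.mp hx) (Ideal.Quotient.mk 𝔠 y) (Ideal.mem_map_of_mem _ hy)
    rw [smul_eq_mul, ← map_mul, Ideal.Quotient.eq_zero_iff_mem] at this
    exact this
  · intro x hx
    obtain ⟨x, hxJ, rfl⟩ := (Ideal.mem_map_iff_of_surjective _ hsurj).mp hx
    rw [Submodule.mem_annihilator]
    intro y hy
    obtain ⟨y, hyI, rfl⟩ := (Ideal.mem_map_iff_of_surjective _ hsurj).mp hy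
    rw [smul_eq_mul, ← map_mul, Ideal.Quotient.eq_zero_iff_mem]
    rw [Submodule.mem_colon] at hxJ
    exact hxJ y hyI

end Groth.Agent.Lib.H26LinkCM
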