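/-
helper7: Lib/GorLink7 — local length identities for linkage.
* `homQuotEquiv`: `Hom_T(T/𝔟, T) ≃ₗ Ann(𝔟)`.
* `length_quot_add`: `T` Gorenstein local of dimension `0`: `length(T/𝔟) + length(T/Ann 𝔟) = length T`.
* `length_localizedModule_quotient_eq`: for `𝔠 ≤ 𝔞`, `q` a prime of `R/𝔠` with preimage `p`:
  `length_{R_p} (R/𝔞)_p = length_T (T/𝔞T)`, `T = (R/𝔠)_q`.
* `length_link`: `R/𝔠` Gorenstein, `p ⊇ 𝔠` prime with `ht (p/𝔠) = 0`, `𝔠 ≤ I`:
  `length (R/𝔠)_p = length (R/I)_p + length (R/(𝔠 : I))_p`.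
-/
import Mathlib
import Groth.Agent.Lib.H26GorDual
import Groth.Agent.Lib.H26LinkCM

set_option autoImplicit false
set_option linter.unusedSectionVars false
set_option linter.style.haveILetI false
universe u

namespace Groth.Agent.Lib.GorLink7

open CategoryTheory IsLocalRing

section Tdual

variable (T : Type u) [CommRing T] [LocCoh.IsGorensteinLocalRing T]

/-- `Hom_T(T/𝔟, T) ≃ Ann(𝔟)` -/
noncomputable def homQuotEquiv (𝔟 : Ideal T) :
    ((T ⧸ 𝔟) →ₗ[T] T) ≃ₗ[T] ↥(Submodule.annihilator 𝔟) where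
  toFun φ := ⟨φ (Submodule.Quotient.mk 1), by
    rw [Submodule.mem_annihilator]
    intro b hb
    rw [smul_eq_mul, mul_comm, ← smul_eq_mul, ← map_smul, ← Submodule.Quotient.mk_smul, smul_eq_mul,
      mul_one, (Submodule.Quotient.mk_eq_zero 𝔟).mpr hb, map_zero]⟩
  map_add' φ ψ := by
    ext
    simp
  map_smul' r φ := by
    ext
    simp
  invFun x := Submodule.liftQ 𝔟 (LinearMap.toSpanSingleton T T x.1) (by
    intro b hb
    rw [LinearMap.mem_ker, LinearMap.toSpanSingleton_apply, smul_eq_mul, mul_comm]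
    have := (Submodule.mem_annihilator.mp x.2) b hb
    rwa [smul_eq_mul] at this)
  left_inv φ := by
    apply LinearMap.ext
    intro y
    obtain ⟨y, rfl⟩ := Submodule.Quotient.mk_surjective _ y
    rw [Submodule.liftQ_apply, LinearMap.toSpanSingleton_apply]
    change y • φ (Submodule.Quotient.mk 1) = _
    rw [← map_smul, ← Submodule.Quotient.mk_smul, smul_eq_mul, mul_one]
  right_inv x := by
    ext
    change (Submodule.liftQ 𝔟 (LinearMap.toSpanSingleton T T x.1) _) (Submodule.Quotient.mk 1) = _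
    rw [Submodule.liftQ_apply, LinearMap.toSpanSingleton_apply, one_smul]

theorem length_quot_add (hdim : ringKrullDim T = 0) (𝔟 : Ideal T) :
    Module.length T (T ⧸ 𝔟) + Module.length T (T ⧸ Submodule.annihilator 𝔟) =
      Module.length T T := by
  haveI : IsNoetherianRing T := inferInstance
  haveI : IsLocalRing T := inferInstance
  have hK : Ring.KrullDimLE 0 T := by
    rw [Ring.krullDimLE_iff, hdim]
    rfl
  haveI hart : IsArtinianRing T := isArtinianRing_iff_krullDimLE_zero.mpr hK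
  have hfl : IsFiniteLength T (T ⧸ 𝔟) := by
    rw [isFiniteLength_iff_isNoetherian_isArtinian]
    exact ⟨inferInstance, inferInstance⟩
  have h1 := Groth.Agent.Lib.H26GorDual.gorenstein_length_ext T 0 (by rw [hdim]; rfl) (T ⧸ 𝔟) hfl
  have e1 : Abelian.Ext (ModuleCat.of T (T ⧸ 𝔟)) (ModuleCat.of T T) 0 ≃ₗ[T]
      ((T ⧸ 𝔟) →ₗ[T] T) :=
    (Abelian.Ext.linearEquiv₀ (R := T)).trans (ModuleCat.homLinearEquiv (S := T))
  rw [e1.length_eq, (homQuotEquiv T 𝔟).length_eq] at h1
  rw [← h1]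
  have := Module.length_eq_add_of_exact (Submodule.annihilator 𝔟).subtype
    (Submodule.annihilator 𝔟).mkQ (Submodule.injective_subtype _) (Submodule.mkQ_surjective _)
    (LinearMap.exact_subtype_mkQ _)
  rw [this]

end Tdual

section BR

variable {R : Type u} [CommRing R] (𝔠 : Ideal R)

/-- bridge: the length of `(R/𝔞)_p` over `R_p` equals the length of `T/𝔞T` over
`T = (R/𝔠)_{p/𝔠}` for `𝔠 ≤ 𝔞`. -/
theorem length_localizedModule_quotient_eq (q : Ideal (R ⧸ 𝔠)) [q.IsPrime] (p : Ideal R) [p.IsPrime]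
    (hpq : q.comap (Ideal.Quotient.mk 𝔠) = p) (𝔞 : Ideal R) (h𝔠𝔞 : 𝔠 ≤ 𝔞) :
    Module.length (Localization.AtPrime p) (LocalizedModule p.primeCompl (R ⧸ 𝔞)) =
      Module.length (Localization.AtPrime q)
        (Localization.AtPrime q ⧸ 𝔞.map (algebraMap R (Localization.AtPrime q))) := by
  set T := Localization.AtPrime q with hT
  set A := Localization.AtPrime p with hA
  have hmem : ∀ s : R, s ∈ p ↔ Ideal.Quotient.mk 𝔠 s ∈ q := by
    intro s
    rw [← hpq, Ideal.mem_comap]
  have halg : ∀ r : R, algebraMap R T r = algebraMap (R ⧸ 𝔠) T (Ideal.Quotient.mk 𝔠 r) := by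
    intro r
    rw [IsScalarTower.algebraMap_apply R (R ⧸ 𝔠) T]
    rfl
  have hunit : ∀ s : p.primeCompl, IsUnit (algebraMap R T s) := by
    intro s
    rw [halg]
    exact IsLocalization.map_units T (⟨Ideal.Quotient.mk 𝔠 s, fun h => s.2 ((hmem _).mpr h)⟩ :
      q.primeCompl)
  let g : A →+* T := IsLocalization.lift (M := p.primeCompl) (g := algebraMap R T) hunit
  letI : Algebra A T := g.toAlgebra
  have hg : ∀ r : R, algebraMap A T (algebraMap R A r) = algebraMap R T r := fun r =>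
    IsLocalization.lift_eq hunit r
  haveI : IsScalarTower R A T := IsScalarTower.of_algebraMap_eq (fun r => (hg r).symm)
  have hsurj : Function.Surjective (algebraMap A T) := by
    intro y
    obtain ⟨x', s', rfl⟩ := IsLocalization.exists_mk'_eq q.primeCompl y
    obtain ⟨x, rfl⟩ := Ideal.Quotient.mk_surjective x'
    obtain ⟨s, hs⟩ := Ideal.Quotient.mk_surjective (s' : R ⧸ 𝔠)
    have hsp : s ∈ p.primeCompl := fun h => s'.2 (hs ▸ (hmem s).mp h)
    refine ⟨IsLocalization.mk' A x (⟨s, hsp⟩ : p.primeCompl), ?_⟩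
    have h1 : algebraMap A T (IsLocalization.mk' A x (⟨s, hsp⟩ : p.primeCompl)) *
        algebraMap R T s = algebraMap R T x := by
      rw [← hg s, ← map_mul]
      have := IsLocalization.mk'_spec A x (⟨s, hsp⟩ : p.primeCompl)
      rw [this, hg]
    have h2 : IsLocalization.mk' T (Ideal.Quotient.mk 𝔠 x) s' * algebraMap R T s =
        algebraMap R T x := by
      rw [halg s, halg x, hs]
      exact IsLocalization.mk'_spec T _ s'
    exact (hunit ⟨s, hsp⟩).mul_left_injective (h1.trans h2.symm)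
  set 𝔞T : Ideal T := 𝔞.map (algebraMap R T) with h𝔞T
  have hle : 𝔞 ≤ 𝔞T.comap (Algebra.ofId R T) := by
    intro a ha
    exact Ideal.mem_map_of_mem _ ha
  let φ : (R ⧸ 𝔞) →ₐ[R] (T ⧸ 𝔞T) := Ideal.quotientMapₐ 𝔞T (Algebra.ofId R T) hle
  have hφ : ∀ r : R, φ (Ideal.Quotient.mk 𝔞 r) = Ideal.Quotient.mk 𝔞T (algebraMap R T r) :=
    fun r => rfl
  have h𝔞T' : 𝔞T = (𝔞.map (Ideal.Quotient.mk 𝔠)).map (algebraMap (R ⧸ 𝔠) T) := by
    rw [h𝔞T, Ideal.map_map]
    congr 1
  haveI : IsLocalizedModule p.primeCompl φ.toLinearMap := by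
    refine ⟨?_, ?_, ?_⟩
    · intro s
      set u := (hunit s).unit with hu
      have hus : (u : T) = algebraMap R T s := (hunit s).unit_spec
      rw [Module.End.isUnit_iff]
      constructor
      · intro x y hxy
        rw [Module.algebraMap_end_apply, Module.algebraMap_end_apply] at hxy
        have h1 : ∀ z : T ⧸ 𝔞T, ((↑u⁻¹ : T)) • ((s : R) • z) = z := by
          intro z
          rw [← algebraMap_smul T (s : R) z, smul_smul, ← hus, Units.inv_mul, one_smul]
        rw [← h1 x, hxy, h1 y]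
      · intro x
        refine ⟨(↑u⁻¹ : T) • x, ?_⟩
        rw [Module.algebraMap_end_apply, ← algebraMap_smul T (s : R), smul_smul, ← hus,
          Units.mul_inv, one_smul]
    · intro y
      obtain ⟨t, rfl⟩ := Ideal.Quotient.mk_surjective y
      obtain ⟨x', s', rfl⟩ := IsLocalization.exists_mk'_eq q.primeCompl t
      obtain ⟨x, rfl⟩ := Ideal.Quotient.mk_surjective x'
      obtain ⟨s, hs⟩ := Ideal.Quotient.mk_surjective (s' : R ⧸ 𝔠)
      have hsp : s ∈ p.primeCompl := fun h => s'.2 (hs ▸ (hmem s).mp h)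
      refine ⟨(Ideal.Quotient.mk 𝔞 x, ⟨s, hsp⟩), ?_⟩
      change (s : R) • (Ideal.Quotient.mk 𝔞T _) = φ (Ideal.Quotient.mk 𝔞 x)
      have hsm : ∀ (t y : T), t • (Ideal.Quotient.mk 𝔞T y) = Ideal.Quotient.mk 𝔞T (t * y) :=
        fun t y => rfl
      rw [hφ, ← algebraMap_smul T (s : R), hsm]
      congr 1
      rw [halg s, halg x, hs, mul_comm]
      exact IsLocalization.mk'_spec T _ s'
    · intro x₁ x₂ h12
      obtain ⟨r₁, rfl⟩ := Ideal.Quotient.mk_surjective x₁
      obtain ⟨r₂, rfl⟩ := Ideal.Quotient.mk_surjective x₂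
      rw [AlgHom.toLinearMap_apply, AlgHom.toLinearMap_apply] at h12
      rw [hφ, hφ, Ideal.Quotient.eq, ← map_sub, h𝔞T', halg,
        IsLocalization.mem_map_algebraMap_iff q.primeCompl T] at h12
      obtain ⟨⟨a, m⟩, ham⟩ := h12
      rw [← map_mul, IsLocalization.eq_iff_exists q.primeCompl T] at ham
      obtain ⟨m', hm'⟩ := ham
      obtain ⟨s, hs⟩ := Ideal.Quotient.mk_surjective ((m' * m : q.primeCompl) : R ⧸ 𝔠)
      have hsp : s ∈ p.primeCompl := fun h => (m' * m).2 (hs ▸ (hmem s).mp h)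
      refine ⟨⟨s, hsp⟩, ?_⟩
      change (s : R) • Ideal.Quotient.mk 𝔞 r₁ = (s : R) • Ideal.Quotient.mk 𝔞 r₂
      rw [Algebra.smul_def, Algebra.smul_def, Ideal.Quotient.algebraMap_eq, ← map_mul, ← map_mul,
        Ideal.Quotient.eq, ← mul_sub]
      have h3 : Ideal.Quotient.mk 𝔠 (s * (r₁ - r₂)) ∈ 𝔞.map (Ideal.Quotient.mk 𝔠) := by
        rw [map_mul, hs]
        push_cast
        rw [mul_assoc, mul_comm (m : R ⧸ 𝔠), hm']
        exact Ideal.mul_mem_left _ _ a.2
      rw [Ideal.mem_map_iff_of_surjective _ Ideal.Quotient.mk_surjective] at h3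
      obtain ⟨a', ha', ha'eq⟩ := h3
      rw [Ideal.Quotient.eq] at ha'eq
      have h4 := 𝔞.sub_mem ha' (h𝔠𝔞 ha'eq)
      rwa [sub_sub_cancel] at h4
  let e := IsLocalizedModule.iso p.primeCompl φ.toLinearMap
  let e' := LinearEquiv.extendScalarsOfIsLocalization p.primeCompl A e
  rw [e'.length_eq]
  exact Module.length_eq_of_surjective hsurj

end BR

section Link

variable {R : Type u} [CommRing R] [IsNoetherianRing R]

theorem map_colon_eq_annihilator (𝔠 I : Ideal R) :
    (𝔠.colon (I : Set R)).map (Ideal.Quotient.mk 𝔠) =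
      Submodule.annihilator (I.map (Ideal.Quotient.mk 𝔠)) := by
  apply le_antisymm
  · rw [Ideal.map_le_iff_le_comap]
    intro x hx
    rw [Ideal.mem_comap, Submodule.mem_annihilator]
    intro y hy
    rw [Ideal.mem_map_iff_of_surjective _ Ideal.Quotient.mk_surjective] at hy
    obtain ⟨y, hy, rfl⟩ := hy
    rw [smul_eq_mul, ← map_mul, Ideal.Quotient.eq_zero_iff_mem]
    have := (Submodule.mem_colon.mp hx) y hy
    rwa [smul_eq_mul] at this
  · intro x hx
    obtain ⟨x, rfl⟩ := Ideal.Quotient.mk_surjective x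
    apply Ideal.mem_map_of_mem
    rw [Submodule.mem_colon]
    intro y hy
    have := (Submodule.mem_annihilator.mp hx) (Ideal.Quotient.mk 𝔠 y) (Ideal.mem_map_of_mem _ hy)
    rwa [smul_eq_mul, ← map_mul, Ideal.Quotient.eq_zero_iff_mem] at this

theorem length_link (𝔠 I : Ideal R) [LocCoh.IsGorensteinRing (R ⧸ 𝔠)] (p : Ideal R) [p.IsPrime]
    (h𝔠p : 𝔠 ≤ p) (hht : (p.map (Ideal.Quotient.mk 𝔠)).height = 0) (h𝔠I : 𝔠 ≤ I) :
    Module.length (Localization.AtPrime p) (LocalizedModule p.primeCompl (R ⧸ 𝔠)) =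
      Module.length (Localization.AtPrime p) (LocalizedModule p.primeCompl (R ⧸ I)) +
        Module.length (Localization.AtPrime p)
          (LocalizedModule p.primeCompl (R ⧸ 𝔠.colon (I : Set R))) := by
  set q : Ideal (R ⧸ 𝔠) := p.map (Ideal.Quotient.mk 𝔠) with hq
  haveI hqp : q.IsPrime := Ideal.map_isPrime_of_surjective Ideal.Quotient.mk_surjective
    (by rwa [Ideal.mk_ker])
  have hpq : q.comap (Ideal.Quotient.mk 𝔠) = p := by
    rw [hq, Ideal.comap_map_of_surjective _ Ideal.Quotient.mk_surjective, ← RingHom.ker_eq_comap_bot,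
      Ideal.mk_ker]
    exact sup_eq_left.mpr h𝔠p
  set T := Localization.AtPrime q with hT
  haveI : LocCoh.IsGorensteinLocalRing T :=
    LocCoh.IsGorensteinRing.isGorensteinLocalRing_localization q
  have hdim : ringKrullDim T = 0 := by
    rw [IsLocalization.AtPrime.ringKrullDim_eq_height q T, hht]
    rfl
  have h𝔠J : 𝔠 ≤ 𝔠.colon (I : Set R) := Ideal.le_colon
  rw [length_localizedModule_quotient_eq 𝔠 q p hpq 𝔠 le_rfl,
    length_localizedModule_quotient_eq 𝔠 q p hpq I h𝔠I,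
    length_localizedModule_quotient_eq 𝔠 q p hpq _ h𝔠J]
  have hmm : ∀ 𝔞 : Ideal R, 𝔞.map (algebraMap R T) =
      (𝔞.map (Ideal.Quotient.mk 𝔠)).map (algebraMap (R ⧸ 𝔠) T) := by
    intro 𝔞
    rw [Ideal.map_map]
    congr 1
  have h1 : 𝔠.map (algebraMap R T) = ⊥ := by
    rw [hmm, Ideal.map_quotient_self, Ideal.map_bot]
  have h2 : (𝔠.colon (I : Set R)).map (algebraMap R T) =
      Submodule.annihilator (I.map (algebraMap R T)) := by
    rw [hmm, hmm I, map_colon_eq_annihilator,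
      Groth.Agent.Lib.H26LinkCM.map_annihilator q.primeCompl T]
  rw [h1, h2, length_quot_add T hdim]
  exact (Submodule.quotEquivOfEqBot (⊥ : Ideal T) rfl).length_eq

end Link

end Groth.Agent.Lib.GorLink7
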