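/-
helper8: double annihilator property in zero-dimensional Gorenstein local rings.
-/
import Mathlib
import Groth.Agent.Lib.H29Gorenstein
import Groth.Agent.Lib.SerreSk

set_option autoImplicit false
set_option linter.style.haveILetI false
universe u

namespace Groth.Agent.Lib.H8DoubleAnn

open IsLocalRing LocCoh CategoryTheory

/-- A Gorenstein local ring of dimension zero is injective as a module over itself, and has
depth zero. -/
theorem injective_self_of_gorenstein_dim_zero (T : Type u) [CommRing T] [IsGorensteinLocalRing T]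
    (hdim : ringKrullDim T = 0) : Module.Injective T T ∧ depth T T = 0 := by
  obtain ⟨d, hd, hdepth, hinj⟩ := Groth.Agent.Lib.H29Gorenstein.gorenstein_invariants T
  have hd0 : d = 0 := by
    rw [hdim] at hd
    exact_mod_cast hd.symm
  subst hd0
  refine ⟨?_, by simpa using hdepth⟩
  rw [Module.injective_iff_injective_object]
  exact injective_iff_hasInjectiveDimensionLT_one.mpr hinj

/-- Double annihilator in a self-injective Noetherian local ring of depth zero: for `x ∉ 𝔞` there is
`y` killing `𝔞` with `y * x ≠ 0`. -/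
theorem exists_mul_eq_zero_and_ne_zero {T : Type u} [CommRing T] [IsLocalRing T]
    [IsNoetherianRing T] [Module.Injective T T] (hdepth : depth T T = 0) (𝔞 : Ideal T) {x : T}
    (hx : x ∉ 𝔞) : ∃ y : T, (∀ a ∈ 𝔞, y * a = 0) ∧ y * x ≠ 0 := by
  have hass : maximalIdeal T ∈ associatedPrimes T T := by
    rw [Groth.Agent.Lib.SerreSk.maximalIdeal_mem_associatedPrimes_iff, hdepth]
    simp
  obtain ⟨-, z, hz⟩ := isAssociatedPrime_iff.mp hass
  have hz0 : z ≠ 0 := by
    rintro rfl
    have : (1 : T) ∈ maximalIdeal T := by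
      rw [hz, Submodule.mem_colon_singleton]; simp
    exact (Ideal.ne_top_iff_one _).mp (IsLocalRing.maximalIdeal.isMaximal T).ne_top this
  have hmz : ∀ t ∈ maximalIdeal T, t * z = 0 := by
    intro t ht
    rw [hz, Submodule.mem_colon_singleton] at ht
    simpa using ht
  set 𝔟 : Ideal T := 𝔞.colon {x} with h𝔟
  have hmem𝔟 : ∀ t, t ∈ 𝔟 ↔ t * x ∈ 𝔞 := fun t => by
    rw [h𝔟, Submodule.mem_colon_singleton]; rfl
  have h𝔟ne : 𝔟 ≠ ⊤ := by
    intro h
    have : (1 : T) ∈ 𝔟 := h ▸ Submodule.mem_top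
    rw [hmem𝔟, one_mul] at this
    exact hx this
  have h𝔟m : 𝔟 ≤ maximalIdeal T := IsLocalRing.le_maximalIdeal h𝔟ne
  let g : (T ⧸ 𝔟) →ₗ[T] T := Submodule.liftQ 𝔟 (LinearMap.toSpanSingleton T T z) (by
    intro t ht
    rw [LinearMap.mem_ker, LinearMap.toSpanSingleton_apply, smul_eq_mul]
    exact hmz t (h𝔟m ht))
  let ι : (T ⧸ 𝔟) →ₗ[T] (T ⧸ 𝔞) := Submodule.mapQ 𝔟 𝔞 (LinearMap.toSpanSingleton T T x) (by
    intro t ht
    rw [Submodule.mem_comap, LinearMap.toSpanSingleton_apply, smul_eq_mul]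
    exact (hmem𝔟 t).mp ht)
  have hι : Function.Injective ι := by
    rw [← LinearMap.ker_eq_bot, LinearMap.ker_eq_bot']
    intro t ht
    obtain ⟨t, rfl⟩ := Submodule.Quotient.mk_surjective _ t
    have h1 : ι (Submodule.Quotient.mk t) = Submodule.Quotient.mk (t * x) := rfl
    rw [h1, Submodule.Quotient.mk_eq_zero] at ht
    rw [Submodule.Quotient.mk_eq_zero]
    exact (hmem𝔟 t).mpr ht
  obtain ⟨G, hG⟩ := Module.Injective.out ι hι g
  refine ⟨G (Submodule.Quotient.mk 1), ?_, ?_⟩
  · intro a ha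
    have h1 : G (Submodule.Quotient.mk 1) * a = G (Submodule.Quotient.mk a) := by
      rw [mul_comm, ← smul_eq_mul, ← map_smul, ← Submodule.Quotient.mk_smul, smul_eq_mul, mul_one]
    rw [h1, (Submodule.Quotient.mk_eq_zero 𝔞).mpr ha, map_zero]
  · have h1 : G (Submodule.Quotient.mk 1) * x = G (Submodule.Quotient.mk x) := by
      rw [mul_comm, ← smul_eq_mul, ← map_smul, ← Submodule.Quotient.mk_smul, smul_eq_mul, mul_one]
    have h2 : (Submodule.Quotient.mk x : T ⧸ 𝔞) = ι (Submodule.Quotient.mk 1) := by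
      change _ = Submodule.Quotient.mk ((1 : T) • x)
      rw [one_smul]
    have h3 : g (Submodule.Quotient.mk 1) = z := by
      change (1 : T) • z = z
      rw [one_smul]
    rw [h1, h2, hG, h3]
    exact hz0

end Groth.Agent.Lib.H8DoubleAnn
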