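import Mathlib
import Groth.Agent.S2217
import Groth.Agent.S3626
import Groth.Agent.S3627
import Groth.Agent.Lib.H14GorHom
import Groth.Agent.Lib.H56SkFibre
import Groth.Agent.Lib.EtLocQF

/-!
# Openness of the Gorenstein locus (helper83)

* `exists_forall_isGorensteinRing_fiber`: for a finite free `R`-algebra `A`, the set of primes of `R`
  with Gorenstein fibre ring is open (via the relative dualizing module `ω = Hom_R(A, R)`:
  the fibre is Gorenstein iff `ω ⊗ κ(p)` is free of rank one over the fibre, and a generator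
  spreads out by Nakayama).
* `FibGor`, `isGorensteinAt_iff_fibGor`, `isGorensteinAt_iff_fibGor_appLE`, `isGorensteinAt_Spec_iff`,
  `isGorensteinAt_comp_openImmersion_left/right`, `isGorensteinAt_iff_Spec_appLE`: `Dual3.IsGorensteinAt`
  as a property of the stalk map; locality on source and target.
* `forall_isGorensteinAt_iff_fiber`: for flat `R → A`, all points of `Spec A` over `u` are Gorenstein
  points of `Spec A ⟶ Spec R` iff the fibre ring `κ(u) ⊗ A` is a Gorenstein ring.
* `exists_basicOpen_gorenstein`, `exists_open_gorenstein_of_finite`: finite flat finitely presented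
  morphisms: the set of points of the base with Gorenstein fibre is open.
* `isOpen_gorenstein_of_locallyQuasiFinite`: flat + lfp + locally quasi-finite: the Gorenstein locus
  is open (étale localization to the finite case).
* `isGorensteinAt_specMap_mvPolynomial`, `isGorensteinAt_affineSpace_over`: affine space over any base is
  Gorenstein over the base at every point; `flat_affineSpace_over`.
-/

set_option autoImplicit false
set_option linter.style.haveILetI false
universe u

namespace Groth.Agent.Lib.GorOpen83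

section ring

open TensorProduct

section gen

variable {R A : Type u} [CommRing R] [CommRing A] [Algebra R A] (p : Ideal R) [p.IsPrime]
  {M : Type u} [AddCommGroup M] [Module A M]

attribute [local instance] Algebra.TensorProduct.rightAlgebra

lemma isUnit_algebraMap_fiber (r : R) (hr : r ∉ p) : IsUnit (algebraMap R (p.Fiber A) r) := by
  rw [IsScalarTower.algebraMap_apply R p.ResidueField (p.Fiber A)]
  apply IsUnit.map
  rw [isUnit_iff_ne_zero, Ne, Ideal.algebraMap_residueField_eq_zero]
  exact hr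

/-- clearing denominators in `C ⊗[A] M`. -/
lemma exists_smul_eq_one_tmul (t : p.Fiber A ⊗[A] M) :
    ∃ r : R, r ∉ p ∧ ∃ w : M, (algebraMap R A r) • t = (1 : p.Fiber A) ⊗ₜ[A] w := by
  induction t using TensorProduct.induction_on with
  | zero => exact ⟨1, fun h => Ideal.IsPrime.ne_top inferInstance ((Ideal.eq_top_iff_one p).mpr h), 0, by simp⟩
  | tmul c x =>
    obtain ⟨r, hr, s, hs⟩ := Ideal.Fiber.exists_smul_eq_one_tmul p c
    refine ⟨r, hr, s • x, ?_⟩
    rw [TensorProduct.smul_tmul', algebraMap_smul, hs, ← TensorProduct.smul_tmul]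
    congr 1
    rw [Algebra.smul_def, mul_one]
    rfl
  | add t1 t2 h1 h2 =>
    obtain ⟨r1, hr1, w1, hw1⟩ := h1
    obtain ⟨r2, hr2, w2, hw2⟩ := h2
    refine ⟨r1 * r2, fun h => (Ideal.IsPrime.mem_or_mem inferInstance h).elim hr1 hr2,
      algebraMap R A r2 • w1 + algebraMap R A r1 • w2, ?_⟩
    rw [smul_add, map_mul, mul_comm, mul_smul, hw1, mul_comm, mul_smul, hw2, TensorProduct.tmul_add,
      TensorProduct.tmul_smul, TensorProduct.tmul_smul]

/-- From a trivialization of the fibre of `M`, a global element generating the fibre. -/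
lemma exists_generator_of_equiv (e : p.Fiber A ⊗[A] M ≃ₗ[p.Fiber A] p.Fiber A) :
    ∃ w : M, ∀ y : p.Fiber A ⊗[A] M, ∃ c : p.Fiber A, y = c ⊗ₜ[A] w := by
  obtain ⟨r, hr, w, hw⟩ := exists_smul_eq_one_tmul p (e.symm 1)
  refine ⟨w, fun y => ?_⟩
  obtain ⟨u, hu⟩ := isUnit_algebraMap_fiber (A := A) p r hr
  refine ⟨e y * ↑u⁻¹, ?_⟩
  have h1 : y = e y • e.symm 1 := by
    rw [← map_smul, smul_eq_mul, mul_one, LinearEquiv.symm_apply_apply]
  have h2 : (1 : p.Fiber A) ⊗ₜ[A] w = (u : p.Fiber A) • e.symm 1 := by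
    rw [← hw, hu, IsScalarTower.algebraMap_apply R A (p.Fiber A)]
    exact (algebraMap_smul (p.Fiber A) _ _).symm
  have h3 : (e y * ↑u⁻¹) ⊗ₜ[A] w = (e y * ↑u⁻¹) • ((1 : p.Fiber A) ⊗ₜ[A] w) := by
    rw [TensorProduct.smul_tmul', smul_eq_mul, mul_one]
  rw [h3, h2, smul_smul, mul_assoc, Units.inv_mul, mul_one]
  exact h1

/-- Nakayama: if `1 ⊗ w` generates the fibre of `M` at `p`, then `w` generates `M` on a
neighbourhood `D(f)` of `p`. -/
lemma exists_smul_eq_smul [Module R M] [IsScalarTower R A M] [Module.Finite R M] (w : M)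
    (hgen : ∀ y : p.Fiber A ⊗[A] M, ∃ c : p.Fiber A, y = c ⊗ₜ[A] w) :
    ∃ f : R, f ∉ p ∧ ∀ x : M, ∃ a : A, f • x = a • w := by
  let N : Submodule A M := Submodule.span A {w}
  let π : M →ₗ[R] M ⧸ N := N.mkQ.restrictScalars R
  have hπ : Function.Surjective π := N.mkQ_surjective
  haveI : Module.Finite R (M ⧸ N) := Module.Finite.of_surjective π hπ
  let Ψ := Algebra.IsPushout.cancelBaseChange R p.ResidueField A (p.Fiber A) M
  have key : ∀ c : p.Fiber A, LinearMap.lTensor p.ResidueField π (Ψ (c ⊗ₜ[A] w)) = 0 := by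
    intro c
    induction c using TensorProduct.induction_on with
    | zero => simp
    | add c1 c2 h1 h2 => rw [TensorProduct.add_tmul, map_add, map_add, h1, h2, add_zero]
    | tmul z a =>
      have h1 : (z ⊗ₜ[R] a : p.Fiber A) ⊗ₜ[A] w =
          (algebraMap p.ResidueField (p.Fiber A) z) ⊗ₜ[A] (a • w) := by
        rw [← TensorProduct.smul_tmul]
        congr 1
        rw [Algebra.smul_def, Algebra.TensorProduct.algebraMap_apply]
        change z ⊗ₜ[R] a = ((1 : p.ResidueField) ⊗ₜ[R] a) * _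
        simp
      have h2 : Ψ ((algebraMap p.ResidueField (p.Fiber A) z) ⊗ₜ[A] (a • w)) = z ⊗ₜ[R] (a • w) := by
        rw [← Algebra.IsPushout.cancelBaseChange_symm_tmul R p.ResidueField A (p.Fiber A) M z (a • w)]
        exact LinearEquiv.apply_symm_apply _ _
      rw [h1, h2, LinearMap.lTensor_tmul]
      have : π (a • w) = 0 := by
        change N.mkQ (a • w) = 0
        rw [Submodule.mkQ_apply, Submodule.Quotient.mk_eq_zero]
        exact Submodule.smul_mem _ _ (Submodule.mem_span_singleton_self w)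
      rw [this, TensorProduct.tmul_zero]
  have hsub : Subsingleton (p.ResidueField ⊗[R] (M ⧸ N)) := by
    refine subsingleton_of_forall_eq 0 fun t => ?_
    obtain ⟨t', rfl⟩ := LinearMap.lTensor_surjective p.ResidueField hπ t
    obtain ⟨c, hc⟩ := hgen (Ψ.symm t')
    have : t' = Ψ (c ⊗ₜ[A] w) := by rw [← hc, LinearEquiv.apply_symm_apply]
    rw [this]
    exact key c
  have hsupp : (⟨p, inferInstance⟩ : PrimeSpectrum R) ∉ Module.support R (M ⧸ N) := by
    rw [Module.mem_support_iff_nontrivial_residueField_tensorProduct, not_nontrivial_iff_subsingleton]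
    exact hsub
  rw [Module.support_eq_zeroLocus, PrimeSpectrum.mem_zeroLocus, Set.not_subset] at hsupp
  obtain ⟨f, hf, hfp⟩ := hsupp
  refine ⟨f, hfp, fun x => ?_⟩
  have h0 : f • (π x) = 0 := Module.mem_annihilator.mp hf (π x)
  rw [← map_smul] at h0
  change N.mkQ (f • x) = 0 at h0
  rw [Submodule.mkQ_apply, Submodule.Quotient.mk_eq_zero, Submodule.mem_span_singleton] at h0
  obtain ⟨a, ha⟩ := h0
  exact ⟨a, ha.symm⟩

/-- If `w` generates `M` on `D(f)`, then `1 ⊗ w` generates every fibre over `D(f)`. -/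
lemma toSpanSingleton_surjective [Module R M] [IsScalarTower R A M] (w : M) (f : R) (hf : f ∉ p)
    (hF : ∀ x : M, ∃ a : A, f • x = a • w) :
    Function.Surjective (LinearMap.toSpanSingleton (p.Fiber A) (p.Fiber A ⊗[A] M)
      ((1 : p.Fiber A) ⊗ₜ[A] w)) := by
  intro y
  induction y using TensorProduct.induction_on with
  | zero => exact ⟨0, by simp⟩
  | add y1 y2 h1 h2 =>
    obtain ⟨c1, rfl⟩ := h1
    obtain ⟨c2, rfl⟩ := h2
    exact ⟨c1 + c2, map_add _ _ _⟩
  | tmul c x =>
    obtain ⟨a, ha⟩ := hF x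
    obtain ⟨u, hu⟩ := isUnit_algebraMap_fiber (A := A) p f hf
    refine ⟨a • (↑u⁻¹ * c), ?_⟩
    rw [LinearMap.toSpanSingleton_apply, TensorProduct.smul_tmul', smul_eq_mul, mul_one,
      TensorProduct.smul_tmul, ← ha, ← algebraMap_smul A f x, ← TensorProduct.smul_tmul]
    congr 1
    rw [Algebra.smul_def, ← IsScalarTower.algebraMap_apply R A (p.Fiber A), ← hu, ← mul_assoc,
      Units.mul_inv, one_mul]

end gen

section omega

variable {R A : Type u} [CommRing R] [CommRing A] [Algebra R A] [Module.Finite R A]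
  [Module.Free R A]

attribute [local instance] Algebra.TensorProduct.rightAlgebra

open Groth.Agent.S2217 in
/-- **Openness of the locus of Gorenstein fibres** of a finite free algebra. -/
theorem exists_forall_isGorensteinRing_fiber (p : Ideal R) [p.IsPrime]
    (h : LocCoh.IsGorensteinRing (p.Fiber A)) :
    ∃ f : R, f ∉ p ∧ ∀ (p1 : Ideal R) [p1.IsPrime], f ∉ p1 →
      LocCoh.IsGorensteinRing (p1.Fiber A) := by
  letI : Module R (Disc.Omega R A) := Module.compHom _ (algebraMap R A)
  haveI : IsScalarTower R A (Disc.Omega R A) := IsScalarTower.of_algebraMap_smul fun _ _ => rfl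
  haveI : Module.Finite A (Disc.Omega R A) := Groth.Agent.S8966.omega_finite
  haveI : Module.Finite R (Disc.Omega R A) := Module.Finite.trans A _
  -- trivialize the fibre at `p`
  haveI := h
  haveI : Module.Invertible (p.Fiber A) (Disc.Omega p.ResidueField (p.Fiber A)) :=
    invertible_of_gorenstein_field
  obtain ⟨e'⟩ := nonempty_equiv_of_invertible_field (k := p.ResidueField) (C := p.Fiber A)
  obtain ⟨e⟩ := nonempty_fibreEquiv (B := A) p
  obtain ⟨w, hw⟩ := exists_generator_of_equiv p (e ≪≫ₗ e')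
  obtain ⟨f, hf, hF⟩ := exists_smul_eq_smul p w hw
  refine ⟨f, hf, fun p1 _ hf1 => ?_⟩
  have hsurj := toSpanSingleton_surjective p1 w f hf1 hF
  obtain ⟨e1⟩ := nonempty_fibreEquiv (B := A) p1
  have hinj : Function.Injective (LinearMap.toSpanSingleton (p1.Fiber A)
      (p1.Fiber A ⊗[A] Disc.Omega R A) ((1 : p1.Fiber A) ⊗ₜ[A] w)) := by
    rw [injective_iff_map_eq_zero]
    intro c hc
    apply eq_zero_of_smul_eq_zero (A := p1.ResidueField) (B := p1.Fiber A)
    intro v
    obtain ⟨c', hc'⟩ := hsurj (e1.symm v)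
    have : v = e1 (c' • ((1 : p1.Fiber A) ⊗ₜ[A] w)) := by
      rw [← LinearMap.toSpanSingleton_apply, hc', LinearEquiv.apply_symm_apply]
    have hc0 : c • ((1 : p1.Fiber A) ⊗ₜ[A] w) = 0 := by
      rw [← LinearMap.toSpanSingleton_apply]; exact hc
    rw [this, ← map_smul, smul_comm, hc0, smul_zero, map_zero]
  let E : p1.Fiber A ≃ₗ[p1.Fiber A] p1.Fiber A ⊗[A] Disc.Omega R A :=
    LinearEquiv.ofBijective _ ⟨hinj, hsurj⟩
  exact gorenstein_of_equiv (k := p1.ResidueField) (E ≪≫ₗ e1).symm

end omega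


end ring

section scheme

open TensorProduct IsLocalRing CategoryTheory CategoryTheory.Limits AlgebraicGeometry

open Groth.Agent.Lib

/-- The Gorenstein condition on a ring homomorphism `ψ : A → C` out of a local ring: `ψ` is flat
and `C ⧸ 𝔪_A C` is a Gorenstein local ring. -/
def FibGor {A C : Type u} [CommRing A] [CommRing C] (ψ : A →+* C) : Prop :=
  ψ.Flat ∧ ∃ _ : IsLocalRing A, LocCoh.IsGorensteinLocalRing (C ⧸ Ideal.map ψ (maximalIdeal A))

theorem fibGor_iff {A C : Type u} [CommRing A] [CommRing C] [IsLocalRing A] (ψ : A →+* C) :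
    FibGor ψ ↔ ψ.Flat ∧ LocCoh.IsGorensteinLocalRing (C ⧸ Ideal.map ψ (maximalIdeal A)) :=
  ⟨fun ⟨h1, _, h2⟩ => ⟨h1, h2⟩, fun ⟨h1, h2⟩ => ⟨h1, inferInstance, h2⟩⟩

theorem fibGor_respectsIso : RingHom.RespectsIso @FibGor := by
  constructor
  · intro R S T _ _ _ f e ⟨hfl, hloc, hcm⟩
    refine ⟨RingHom.Flat.respectsIso.1 f e hfl, hloc, ?_⟩
    have hmap : Ideal.map (e.toRingHom.comp f) (maximalIdeal R) =
        Ideal.map (e : S →+* T) (Ideal.map f (maximalIdeal R)) := by
      rw [Ideal.map_map]; rfl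
    exact H14GorHom.isGorensteinLocalRing_of_ringEquiv
      (Ideal.quotientEquiv (Ideal.map f (maximalIdeal R))
        (Ideal.map (e.toRingHom.comp f) (maximalIdeal R)) e hmap) hcm
  · intro R S T _ _ _ f e ⟨hfl, hloc, hcm⟩
    have hlocR : IsLocalRing R := e.symm.isLocalRing
    refine ⟨RingHom.Flat.respectsIso.2 f e hfl, hlocR, ?_⟩
    have hm : Ideal.map (e : R →+* S) (maximalIdeal R) = maximalIdeal S :=
      IsLocalRing.eq_maximalIdeal (Ideal.map_isMaximal_of_equiv e)
    have hmap : Ideal.map (f.comp e.toRingHom) (maximalIdeal R) =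
        Ideal.map f (maximalIdeal S) := by
      rw [← hm, Ideal.map_map]; rfl
    exact H14GorHom.isGorensteinLocalRing_of_ringEquiv
      (Ideal.quotEquivOfEq hmap.symm) hcm

/-- `f` is Gorenstein at `x` iff the stalk map at `x` satisfies `FibGor`. -/
theorem isGorensteinAt_iff_fibGor {X S : Scheme.{u}} (f : X ⟶ S) (x : X) :
    Dual3.IsGorensteinAt f x ↔ FibGor (f.stalkMap x).hom := by
  rw [Groth.Agent.S3627.isGorensteinAt_iff, fibGor_iff]

theorem isGorensteinAt_iff_fibGor_appLE {X Y : Scheme.{u}} (f : X ⟶ Y) {x : X} (U : Y.Opens)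
    (hU : IsAffineOpen U) (V : X.Opens) (hV : IsAffineOpen V) (hVU : V ≤ f ⁻¹ᵁ U) (hx : x ∈ V) :
    Dual3.IsGorensteinAt f x ↔ FibGor (Localization.localRingHom _ _ (f.appLE U V hVU).hom
      congr($(IsAffineOpen.comap_primeIdealOf_appLE U hU V hV hVU hx).1).symm) := by
  rw [isGorensteinAt_iff_fibGor]
  exact fibGor_respectsIso.arrow_mk_iso_iff (IsAffineOpen.arrowStalkMapIso f U hU V hV hVU hx)

theorem isGorensteinAt_Spec_iff {R S : CommRingCat.{u}} (φ : R ⟶ S) (q : PrimeSpectrum S) :
    Dual3.IsGorensteinAt (Spec.map φ) q ↔ FibGor (Localization.localRingHom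
      (q.comap φ.hom).asIdeal q.asIdeal φ.hom rfl) := by
  refine (isGorensteinAt_iff_fibGor (Spec.map φ) q).trans ?_
  exact fibGor_respectsIso.arrow_mk_iso_iff (Scheme.arrowStalkMapSpecIso φ q)

theorem isGorensteinAt_comp_openImmersion_left {U X S : Scheme.{u}} (j : U ⟶ X) [IsOpenImmersion j]
    (f : X ⟶ S) (u : U) : Dual3.IsGorensteinAt (j ≫ f) u ↔ Dual3.IsGorensteinAt f (j u) := by
  rw [isGorensteinAt_iff_fibGor, isGorensteinAt_iff_fibGor]
  have e : (j ≫ f).stalkMap u = f.stalkMap (j u) ≫ j.stalkMap u := Scheme.Hom.stalkMap_comp j f u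
  rw [e]
  exact fibGor_respectsIso.cancel_right_isIso (f.stalkMap (j u)) (j.stalkMap u)

theorem isGorensteinAt_comp_openImmersion_right {X V Y : Scheme.{u}} (f : X ⟶ V) (j : V ⟶ Y)
    [IsOpenImmersion j] (x : X) : Dual3.IsGorensteinAt (f ≫ j) x ↔ Dual3.IsGorensteinAt f x := by
  rw [isGorensteinAt_iff_fibGor, isGorensteinAt_iff_fibGor]
  have e : (f ≫ j).stalkMap x = j.stalkMap (f x) ≫ f.stalkMap x := Scheme.Hom.stalkMap_comp f j x
  rw [e]
  exact fibGor_respectsIso.cancel_left_isIso (j.stalkMap (f x)) (f.stalkMap x)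

section fibre

variable {R A : Type u} [CommRing R] [CommRing A] [Algebra R A] [Module.Flat R A]

/-- `FibGor` at a prime, in terms of the fibre ring. -/
theorem fibGor_localRingHom_iff_fiber (p : Ideal R) [p.IsPrime] (Q : Ideal (p.Fiber A)) [Q.IsPrime]
    (h : p = (Q.comap (Algebra.TensorProduct.includeRight
      (R := R) (A := p.ResidueField) (B := A))).comap (algebraMap R A)) :
    FibGor (Localization.localRingHom p (Q.comap (Algebra.TensorProduct.includeRight
      (R := R) (A := p.ResidueField) (B := A))) (algebraMap R A) h) ↔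
      LocCoh.IsGorensteinLocalRing (Localization.AtPrime Q) := by
  set r := Q.comap (Algebra.TensorProduct.includeRight (R := R) (A := p.ResidueField) (B := A))
    with hr
  let : Algebra (Localization.AtPrime p) (Localization.AtPrime r) :=
    Localization.AtPrime.algebraOfLiesOver p r
  let e := Ideal.Fiber.algEquivAux₂ p Q
  have hI : (p.map (algebraMap R A)).map (algebraMap A (Localization.AtPrime r)) =
      (maximalIdeal (Localization.AtPrime p)).map
        (algebraMap (Localization.AtPrime p) (Localization.AtPrime r)) := by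
    rw [← Localization.AtPrime.map_eq_maximalIdeal, Ideal.map_map, Ideal.map_map]
    congr 1
    rw [← IsScalarTower.algebraMap_eq, ← IsScalarTower.algebraMap_eq]
  have hflat : Module.Flat (Localization.AtPrime p) (Localization.AtPrime r) := inferInstance
  rw [fibGor_iff]
  constructor
  · rintro ⟨-, h2⟩
    exact H14GorHom.isGorensteinLocalRing_of_ringEquiv
      (e.toRingEquiv.trans (Ideal.quotEquivOfEq hI)).symm h2
  · intro h2
    exact ⟨hflat, H14GorHom.isGorensteinLocalRing_of_ringEquiv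
      (e.toRingEquiv.trans (Ideal.quotEquivOfEq hI)) h2⟩

end fibre

section fibre2

variable {R A : Type u} [CommRing R] [CommRing A] [Algebra R A] [Module.Flat R A]

omit [Module.Flat R A] in
theorem fibGor_congr (p p' : Ideal R) [p.IsPrime] [p'.IsPrime] (r r' : Ideal A) [r.IsPrime]
    [r'.IsPrime] (hp : p = p') (hr : r = r') (h : p = r.comap (algebraMap R A))
    (h' : p' = r'.comap (algebraMap R A)) :
    FibGor (Localization.localRingHom p r (algebraMap R A) h) ↔
      FibGor (Localization.localRingHom p' r' (algebraMap R A) h') := by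
  subst hp hr
  rfl

/-- The morphism `Spec A ⟶ Spec R`. -/
noncomputable abbrev specMap (R A : Type u) [CommRing R] [CommRing A] [Algebra R A] :
    Spec (CommRingCat.of A) ⟶ Spec (CommRingCat.of R) :=
  Spec.map (CommRingCat.ofHom (algebraMap R A))

theorem isGorensteinAt_specMap_iff_fiber (u : PrimeSpectrum R) (Q : Ideal (u.asIdeal.Fiber A))
    [Q.IsPrime] (v : PrimeSpectrum A) (hv : v.asIdeal = Q.comap (Algebra.TensorProduct.includeRight
      (R := R) (A := u.asIdeal.ResidueField) (B := A))) :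
    Dual3.IsGorensteinAt (specMap R A) v ↔
      LocCoh.IsGorensteinLocalRing (Localization.AtPrime Q) := by
  rw [specMap, isGorensteinAt_Spec_iff]
  have h1 : u.asIdeal = (Q.comap (Algebra.TensorProduct.includeRight
      (R := R) (A := u.asIdeal.ResidueField) (B := A))).comap (algebraMap R A) :=
    Ideal.LiesOver.over
  rw [← fibGor_localRingHom_iff_fiber u.asIdeal Q h1]
  apply fibGor_congr
  · change v.asIdeal.comap (algebraMap R A) = _
    rw [hv, ← h1]
  · exact hv

theorem forall_isGorensteinAt_iff_fiber (u : PrimeSpectrum R) [IsNoetherianRing (u.asIdeal.Fiber A)] :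
    (∀ v : PrimeSpectrum A, v.comap (algebraMap R A) = u →
      Dual3.IsGorensteinAt (specMap R A) v) ↔ LocCoh.IsGorensteinRing (u.asIdeal.Fiber A) := by
  constructor
  · intro h
    refine { isGorensteinLocalRing_localization := fun Q _ => ?_ }
    let v : PrimeSpectrum A := ⟨Q.comap (Algebra.TensorProduct.includeRight
      (R := R) (A := u.asIdeal.ResidueField) (B := A)), inferInstance⟩
    have hv : v.comap (algebraMap R A) = u := by
      apply PrimeSpectrum.ext
      exact (Ideal.LiesOver.over (p := u.asIdeal) (P := v.asIdeal)).symm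
    exact (isGorensteinAt_specMap_iff_fiber u Q v rfl).mp (h v hv)
  · intro h v hv
    haveI : v.asIdeal.LiesOver u.asIdeal := ⟨by rw [← hv]; rfl⟩
    obtain ⟨Q, hQ, hQv⟩ := H56SkFibre.exists_fiber_prime u.asIdeal v.asIdeal
    exact (isGorensteinAt_specMap_iff_fiber u Q v hQv.symm).mpr
      (h.isGorensteinLocalRing_localization Q)

end fibre2

section basic

variable {R A : Type u} [CommRing R] [CommRing A] [Algebra R A]

theorem exists_basicOpen_gorenstein_of_free [Module.Finite R A] [Module.Free R A]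
    (u : PrimeSpectrum R)
    (h : ∀ v : PrimeSpectrum A, v.comap (algebraMap R A) = u →
      Dual3.IsGorensteinAt (specMap R A) v) :
    ∃ f : R, f ∉ u.asIdeal ∧ ∀ v : PrimeSpectrum A, f ∉ (v.comap (algebraMap R A)).asIdeal →
      Dual3.IsGorensteinAt (specMap R A) v := by
  have hN : ∀ p : PrimeSpectrum R, IsNoetherianRing (p.asIdeal.Fiber A) := fun p =>
    IsNoetherianRing.of_finite p.asIdeal.ResidueField _
  haveI := hN u
  obtain ⟨f, hf, H⟩ := exists_forall_isGorensteinRing_fiber (A := A) u.asIdeal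
    ((forall_isGorensteinAt_iff_fiber u).mp h)
  refine ⟨f, hf, fun v hv => ?_⟩
  haveI := hN (v.comap (algebraMap R A))
  exact (forall_isGorensteinAt_iff_fiber (v.comap (algebraMap R A))).mpr
    (H (v.comap (algebraMap R A)).asIdeal hv) v rfl

lemma exists_preimage_of_isPullback {X Y X' Y' : Scheme.{u}} {f : X ⟶ Y} {g : Y' ⟶ Y}
    {f' : X' ⟶ Y'} {g' : X' ⟶ X} (h : IsPullback g' f' f g) (x : X) (y : Y') (hxy : f x = g y) :
    ∃ z : X', g' z = x ∧ f' z = y := by
  obtain ⟨z0, h1, h2⟩ := Scheme.Pullback.exists_preimage_pullback x y hxy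
  refine ⟨h.isoPullback.inv z0, ?_, ?_⟩
  · rw [← Scheme.Hom.comp_apply, h.isoPullback_inv_fst]; exact h1
  · rw [← Scheme.Hom.comp_apply, h.isoPullback_inv_snd]; exact h2

theorem exists_basicOpen_gorenstein [Module.Finite R A] [Module.Flat R A]
    [Algebra.FinitePresentation R A] (u : PrimeSpectrum R)
    (h : ∀ v : PrimeSpectrum A, v.comap (algebraMap R A) = u →
      Dual3.IsGorensteinAt (specMap R A) v) :
    ∃ f : R, f ∉ u.asIdeal ∧ ∀ v : PrimeSpectrum A, f ∉ (v.comap (algebraMap R A)).asIdeal →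
      Dual3.IsGorensteinAt (specMap R A) v := by
  haveI : Module.FinitePresentation R A := .of_finite_of_finitePresentation R A
  haveI : Flat (specMap R A) :=
    (HasRingHomProperty.Spec_iff (P := @Flat)).mpr (RingHom.flat_algebraMap_iff.mpr inferInstance)
  haveI : LocallyOfFiniteType (specMap R A) :=
    (HasRingHomProperty.Spec_iff (P := @LocallyOfFiniteType)).mpr
      (RingHom.finiteType_algebraMap.mpr inferInstance)
  haveI : Module.Free (Localization.AtPrime u.asIdeal)
      (LocalizedModule u.asIdeal.primeCompl A) := Module.free_of_flat_of_isLocalRing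
  obtain ⟨f0, hf0, hfree, -⟩ := Module.FinitePresentation.exists_free_localizedModule_powers
    u.asIdeal.primeCompl (LocalizedModule.mkLinearMap u.asIdeal.primeCompl A)
    (Localization.AtPrime u.asIdeal)
  let R0 := Localization (Submonoid.powers f0)
  let A0 := R0 ⊗[R] A
  haveI : Module.Free R0 A0 :=
    Module.Free.of_equiv (LocalizedModule.equivTensorProduct (Submonoid.powers f0) A)
  have hsq : IsPullback
      (Spec.map (CommRingCat.ofHom (Algebra.TensorProduct.includeRight (R := R) (A := R0) (B := A)).toRingHom))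
      (specMap R0 A0) (specMap R A) (specMap R R0) := by
    have := (isPullback_SpecMap_of_isPushout _ _ _ _
      (CommRingCat.isPushout_tensorProduct R R0 A)).flip
    convert this using 2
  -- the point of `Spec R0` over `u`
  obtain ⟨u0, hu0⟩ : ∃ u0 : PrimeSpectrum R0, u0.comap (algebraMap R R0) = u := by
    have hr := PrimeSpectrum.localization_away_comap_range R0 f0
    have : u ∈ Set.range (PrimeSpectrum.comap (algebraMap R R0)) := by
      rw [hr]; exact hf0
    exact this
  have h0 : ∀ v0 : PrimeSpectrum A0, v0.comap (algebraMap R0 A0) = u0 →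
      Dual3.IsGorensteinAt (specMap R0 A0) v0 := by
    intro v0 hv0
    rw [Groth.Agent.S3626.result _ _ _ _ (specMap R A) (specMap R R0) (specMap R0 A0) _ hsq v0]
    apply h
    have hcomm := hsq.w
    have := congrArg (fun φ => φ v0) hcomm
    simp only at this
    rw [← hu0, ← hv0]
    exact this
  obtain ⟨f1, hf1, H1⟩ := exists_basicOpen_gorenstein_of_free u0 h0
  obtain ⟨⟨r, s⟩, hrs⟩ := IsLocalization.surj (Submonoid.powers f0) f1
  have hunit : IsUnit (algebraMap R R0 s) := IsLocalization.map_units R0 s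
  refine ⟨f0 * r, ?_, fun v hv => ?_⟩
  · intro hmem
    rcases (Ideal.IsPrime.mem_or_mem inferInstance hmem) with h1 | h1
    · exact hf0 h1
    · apply hf1
      have : algebraMap R R0 r ∈ u0.asIdeal := by
        rw [← hu0] at h1; exact h1
      rw [← hrs] at this
      exact (Ideal.IsPrime.mem_or_mem inferInstance this).resolve_right
        (fun hs => Ideal.IsPrime.ne_top inferInstance (Ideal.eq_top_of_isUnit_mem _ hs hunit))
  · -- lift `v` to `Spec A0`
    have hvf0 : f0 ∉ (v.comap (algebraMap R A)).asIdeal := fun h' => hv (Ideal.mul_mem_right _ _ h')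
    have hvr : r ∉ (v.comap (algebraMap R A)).asIdeal := fun h' => hv (Ideal.mul_mem_left _ _ h')
    obtain ⟨y0, hy0⟩ : ∃ y0 : PrimeSpectrum R0, y0.comap (algebraMap R R0) = v.comap (algebraMap R A) := by
      have hr := PrimeSpectrum.localization_away_comap_range R0 f0
      have : v.comap (algebraMap R A) ∈ Set.range (PrimeSpectrum.comap (algebraMap R R0)) := by
        rw [hr]; exact hvf0
      exact this
    obtain ⟨v0, hv0, hv0'⟩ := exists_preimage_of_isPullback hsq v y0 hy0.symm
    rw [← hv0, ← Groth.Agent.S3626.result _ _ _ _ (specMap R A) (specMap R R0) (specMap R0 A0) _ hsq v0]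
    apply H1
    change f1 ∉ ((specMap R0 A0) v0).asIdeal
    rw [hv0']
    intro hmem
    apply hvr
    rw [← hy0]
    change algebraMap R R0 r ∈ y0.asIdeal
    rw [← hrs]
    exact Ideal.mul_mem_right _ _ hmem

end basic

theorem fibGor_localRingHom_congr {R A : Type u} [CommRing R] [CommRing A] (φ : R →+* A)
    (p p' : Ideal R) [p.IsPrime] [p'.IsPrime] (r r' : Ideal A) [r.IsPrime]
    [r'.IsPrime] (hp : p = p') (hr : r = r') (h : p = r.comap φ)
    (h' : p' = r'.comap φ) :
    FibGor (Localization.localRingHom p r φ h) ↔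
      FibGor (Localization.localRingHom p' r' φ h') := by
  subst hp hr
  rfl

/-- Gorenstein at a point, computed in an affine chart. -/
theorem isGorensteinAt_iff_Spec_appLE {X Y : Scheme.{u}} (f : X ⟶ Y) {x : X} (U : Y.Opens)
    (hU : IsAffineOpen U) (V : X.Opens) (hV : IsAffineOpen V) (hVU : V ≤ f ⁻¹ᵁ U) (hx : x ∈ V) :
    Dual3.IsGorensteinAt f x ↔
      Dual3.IsGorensteinAt (Spec.map (f.appLE U V hVU)) (hV.primeIdealOf ⟨x, hx⟩) := by
  rw [isGorensteinAt_iff_fibGor_appLE f U hU V hV hVU hx]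
  refine Iff.trans ?_ (isGorensteinAt_Spec_iff (f.appLE U V hVU) (hV.primeIdealOf ⟨x, hx⟩)).symm
  apply fibGor_localRingHom_congr
  · exact congr($(IsAffineOpen.comap_primeIdealOf_appLE U hU V hV hVU hx).1).symm
  · rfl

theorem mem_basicOpen_iff_notMem_primeIdealOf {X : Scheme.{u}} {V : X.Opens} (hV : IsAffineOpen V)
    (x : X) (hx : x ∈ V) (f : Γ(X, V)) :
    x ∈ X.basicOpen f ↔ f ∉ (hV.primeIdealOf ⟨x, hx⟩).asIdeal := by
  have h1 : hV.primeIdealOf ⟨x, hx⟩ ∈ hV.fromSpec ⁻¹ᵁ X.basicOpen f ↔ x ∈ X.basicOpen f := by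
    change hV.fromSpec (hV.primeIdealOf ⟨x, hx⟩) ∈ X.basicOpen f ↔ _
    rw [hV.fromSpec_primeIdealOf ⟨x, hx⟩]
  rw [← h1, hV.fromSpec_preimage_basicOpen]
  rfl

/-- The Gorenstein locus of a finite flat finitely presented morphism contains the preimage of an
open neighbourhood of every point of the base over which all points are Gorenstein. -/
theorem exists_open_gorenstein_of_finite {V T : Scheme.{u}} (k : V ⟶ T) [IsFinite k] [Flat k]
    [LocallyOfFinitePresentation k] (u : T) (h : ∀ v : V, k v = u → Dual3.IsGorensteinAt k v) :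
    ∃ W : T.Opens, u ∈ W ∧ ∀ v : V, k v ∈ W → Dual3.IsGorensteinAt k v := by
  obtain ⟨_, ⟨W1, hW1, rfl⟩, huW1, -⟩ :=
    T.isBasis_affineOpens.exists_subset_of_mem_open (Set.mem_univ u) isOpen_univ
  have hV1 : IsAffineOpen (k ⁻¹ᵁ W1) := hW1.preimage k
  set φ := k.appLE W1 (k ⁻¹ᵁ W1) le_rfl with hφ
  have hfin : φ.hom.Finite := by
    rw [hφ, Scheme.Hom.appLE_eq_app]; exact k.finite_app W1 hW1
  have hflat : φ.hom.Flat := k.flat_appLE hW1 hV1 le_rfl
  have hfp : φ.hom.FinitePresentation := k.finitePresentation_appLE hW1 hV1 le_rfl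
  letI : Algebra Γ(T, W1) Γ(V, k ⁻¹ᵁ W1) := φ.hom.toAlgebra
  haveI : Module.Finite Γ(T, W1) Γ(V, k ⁻¹ᵁ W1) := hfin
  haveI : Module.Flat Γ(T, W1) Γ(V, k ⁻¹ᵁ W1) := hflat
  haveI : Algebra.FinitePresentation Γ(T, W1) Γ(V, k ⁻¹ᵁ W1) := hfp
  have hspec : specMap Γ(T, W1) Γ(V, k ⁻¹ᵁ W1) = Spec.map φ := rfl
  obtain ⟨f, hfu, H⟩ := exists_basicOpen_gorenstein (R := Γ(T, W1)) (A := Γ(V, k ⁻¹ᵁ W1))
    (hW1.primeIdealOf ⟨u, huW1⟩) (by
      intro v1 hv1
      obtain ⟨⟨x, hx⟩, hx1⟩ := hV1.isoSpec.hom.homeomorph.surjective v1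
      replace hx1 : hV1.primeIdealOf ⟨x, hx⟩ = v1 := hx1
      subst hx1
      have hku : k x = u := by
        have h2 := IsAffineOpen.comap_primeIdealOf_appLE W1 hW1 (k ⁻¹ᵁ W1) hV1 le_rfl hx
        have h3 : hW1.primeIdealOf ⟨k x, hx⟩ = hW1.primeIdealOf ⟨u, huW1⟩ := h2.symm.trans hv1
        have h4 := hW1.isoSpec.hom.homeomorph.injective h3
        exact congrArg Subtype.val h4
      have h5 := (isGorensteinAt_iff_Spec_appLE k W1 hW1 (k ⁻¹ᵁ W1) hV1 le_rfl hx).mp (h x hku)
      rw [hspec]
      exact h5)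
  refine ⟨T.basicOpen f, (mem_basicOpen_iff_notMem_primeIdealOf hW1 u huW1 f).mpr hfu, ?_⟩
  intro v hv
  have hvW1 : k v ∈ W1 := T.basicOpen_le f hv
  have hvV1 : v ∈ k ⁻¹ᵁ W1 := hvW1
  rw [isGorensteinAt_iff_Spec_appLE k W1 hW1 (k ⁻¹ᵁ W1) hV1 le_rfl hvV1, ← hspec]
  apply H
  have h2 := IsAffineOpen.comap_primeIdealOf_appLE W1 hW1 (k ⁻¹ᵁ W1) hV1 le_rfl hvV1
  change f ∉ ((hV1.primeIdealOf ⟨v, hvV1⟩).comap φ.hom).asIdeal
  rw [h2]
  exact (mem_basicOpen_iff_notMem_primeIdealOf hW1 (k v) hvW1 f).mp hv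

/-- The Gorenstein locus of a flat, locally finitely presented, locally quasi-finite morphism is
open. -/
theorem isOpen_gorenstein_of_locallyQuasiFinite {U T : Scheme.{u}} (g : U ⟶ T) [Flat g]
    [LocallyOfFinitePresentation g] [LocallyQuasiFinite g] :
    IsOpen {y : U | Dual3.IsGorensteinAt g y} := by
  rw [isOpen_iff_forall_mem_open]
  intro y0 hy0
  have hqf : g.QuasiFiniteAt y0 := g.quasiFiniteAt y0
  obtain ⟨T', h, u, hh, hu, -, V, v, hvV, hfin, hsnd, hfst, huniq⟩ :=
    EtLocQF.exists_etaleNbhd_of_quasiFiniteAt g y0 hqf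
  have hsq : IsPullback (pullback.fst g h) (pullback.snd g h) g h := IsPullback.of_hasPullback g h
  haveI : IsFinite (V.ι ≫ pullback.snd g h) := hfin
  have hk : ∀ w : ↥(V : Scheme.{u}), Dual3.IsGorensteinAt (V.ι ≫ pullback.snd g h) w ↔
      Dual3.IsGorensteinAt g (pullback.fst g h (V.ι w)) := fun w =>
    (isGorensteinAt_comp_openImmersion_left V.ι (pullback.snd g h) w).trans
      (Groth.Agent.S3626.result _ _ _ _ g h (pullback.snd g h) (pullback.fst g h) hsq (V.ι w))
  obtain ⟨W, huW, hW⟩ := exists_open_gorenstein_of_finite (V.ι ≫ pullback.snd g h) u (by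
    intro w hw
    rw [hk]
    have hwv : V.ι w = v := huniq _ w.2 hw
    rw [hwv, hfst]
    exact hy0)
  have hvW : v ∈ (V ⊓ pullback.snd g h ⁻¹ᵁ W : (pullback g h).Opens) := by
    refine ⟨hvV, ?_⟩
    change pullback.snd g h v ∈ W
    rw [hsnd]; exact huW
  refine ⟨pullback.fst g h '' ((V ⊓ pullback.snd g h ⁻¹ᵁ W : (pullback g h).Opens) : Set _), ?_,
    (pullback.fst g h).isOpenMap _ (V ⊓ pullback.snd g h ⁻¹ᵁ W).2, hfst ▸ Set.mem_image_of_mem _ hvW⟩
  · rintro _ ⟨w, ⟨hwV, hwW⟩, rfl⟩
    exact (hk ⟨w, hwV⟩).mp (hW ⟨w, hwV⟩ hwW)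

theorem isGorensteinAt_congr {X S : Scheme.{u}} {f f' : X ⟶ S} (h : f = f') (x : X) :
    Dual3.IsGorensteinAt f x ↔ Dual3.IsGorensteinAt f' x := by
  subst h; rfl

/-- `Spec R[σ] ⟶ Spec R` is Gorenstein at every point, `σ` finite. -/
theorem isGorensteinAt_specMap_mvPolynomial (R : Type u) [CommRing R] (σ : Type u) [Finite σ]
    (v : PrimeSpectrum (MvPolynomial σ R)) :
    Dual3.IsGorensteinAt (specMap R (MvPolynomial σ R)) v := by
  set p := v.comap (algebraMap R (MvPolynomial σ R)) with hp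
  let e : p.asIdeal.ResidueField ⊗[R] MvPolynomial σ R ≃ₐ[p.asIdeal.ResidueField]
      MvPolynomial σ p.asIdeal.ResidueField :=
    MvPolynomial.algebraTensorAlgEquiv R p.asIdeal.ResidueField
  haveI : IsNoetherianRing (p.asIdeal.Fiber (MvPolynomial σ R)) :=
    isNoetherianRing_of_ringEquiv _ e.symm.toRingEquiv
  have h1 : LocCoh.IsGorensteinRing (MvPolynomial σ p.asIdeal.ResidueField) :=
    H14GorHom.isGorensteinRing_of_isRegularRing (MvPolynomial σ p.asIdeal.ResidueField)
  have h2 : LocCoh.IsGorensteinRing (p.asIdeal.Fiber (MvPolynomial σ R)) :=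
    H14GorHom.isGorensteinRing_of_ringEquiv e.symm.toRingEquiv h1
  exact (forall_isGorensteinAt_iff_fiber p).mpr h2 v rfl

open AlgebraicGeometry.AffineSpace in
set_option backward.isDefEq.respectTransparency.types false in
/-- Affine space is flat over its base. -/
theorem flat_affineSpace_over (n : Type u) (S : Scheme.{u}) : Flat (𝔸(n; S) ↘ S) :=
  MorphismProperty.pullback_fst _ _ <| by
  have := isIso_of_isTerminal specULiftZIsTerminal.{u} terminalIsTerminal (terminal.from _)
  rw [← terminal.comp_from (Spec.map (CommRingCat.ofHom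
      (MvPolynomial.C : ULift.{u} ℤ →+* MvPolynomial n (ULift.{u} ℤ)))),
    MorphismProperty.cancel_right_of_respectsIso (P := @Flat),
    HasRingHomProperty.Spec_iff (P := @Flat)]
  change (algebraMap (ULift.{u} ℤ) (MvPolynomial n (ULift.{u} ℤ))).Flat
  rw [RingHom.flat_algebraMap_iff]
  infer_instance

open AlgebraicGeometry.AffineSpace in
set_option backward.isDefEq.respectTransparency.types false in
/-- Affine `n`-space over `S` (`n` finite) is Gorenstein over `S` at every point. -/
theorem isGorensteinAt_affineSpace_over (n : Type u) [Finite n] (S : Scheme.{u}) (w : 𝔸(n; S)) :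
    Dual3.IsGorensteinAt (𝔸(n; S) ↘ S) w := by
  have hiso := isIso_of_isTerminal specULiftZIsTerminal.{u} terminalIsTerminal (terminal.from _)
  have e := terminal.comp_from (Spec.map (CommRingCat.ofHom
      (MvPolynomial.C : ULift.{u} ℤ →+* MvPolynomial n (ULift.{u} ℤ))))
  have hC : (CommRingCat.ofHom (MvPolynomial.C : ULift.{u} ℤ →+* MvPolynomial n (ULift.{u} ℤ))) =
      CommRingCat.ofHom (algebraMap (ULift.{u} ℤ) (MvPolynomial n (ULift.{u} ℤ))) := rfl
  have hflat : Flat (terminal.from (Spec (CommRingCat.of (MvPolynomial n (ULift.{u} ℤ))))) := by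
    rw [← e, MorphismProperty.cancel_right_of_respectsIso (P := @Flat),
      HasRingHomProperty.Spec_iff (P := @Flat)]
    change (algebraMap (ULift.{u} ℤ) (MvPolynomial n (ULift.{u} ℤ))).Flat
    rw [RingHom.flat_algebraMap_iff]
    infer_instance
  have hlft : LocallyOfFiniteType
      (terminal.from (Spec (CommRingCat.of (MvPolynomial n (ULift.{u} ℤ))))) := by
    rw [← e, MorphismProperty.cancel_right_of_respectsIso (P := @LocallyOfFiniteType),
      HasRingHomProperty.Spec_iff (P := @LocallyOfFiniteType)]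
    change (algebraMap (ULift.{u} ℤ) (MvPolynomial n (ULift.{u} ℤ))).FiniteType
    rw [RingHom.finiteType_algebraMap]
    infer_instance
  have hsq : IsPullback (toSpecMvPoly n S) (𝔸(n; S) ↘ S)
      (terminal.from (Spec (CommRingCat.of (MvPolynomial n (ULift.{u} ℤ))))) (terminal.from S) :=
    (IsPullback.of_hasPullback _ _).flip
  rw [Groth.Agent.S3626.result _ _ _ _ _ _ _ _ hsq w, isGorensteinAt_congr e.symm,
    isGorensteinAt_comp_openImmersion_right, hC]
  exact isGorensteinAt_specMap_mvPolynomial (ULift.{u} ℤ) n _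

end scheme

end Groth.Agent.Lib.GorOpen83
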