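import Groth.Prelude.Def_AlgSpGpd

/-!
`T`-valued point calculus for groupoids in sheaves (`AlgSp.GroupoidSp`): composition of
composable points, associativity, units and inverses, compatibility with precomposition.
-/

set_option autoImplicit false
universe u

open CategoryTheory CategoryTheory.Limits AlgebraicGeometry

namespace Groth.Agent.Lib.GpdSpPts

variable {S : Scheme.{u}} {B : AlgSp.Sp S} (G : AlgSp.GroupoidSp B)

/-- Composition of two composable `T`-valued points of `R`. -/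
noncomputable def comp {T : AlgSp.Sp S} (α β : T ⟶ G.R) (h : α ≫ G.s = β ≫ G.t) : T ⟶ G.R :=
  pullback.lift α β h ≫ G.c

theorem comp_def {T : AlgSp.Sp S} (α β : T ⟶ G.R) (h : α ≫ G.s = β ≫ G.t) :
    pullback.lift α β h ≫ G.c = comp G α β h := rfl

theorem comp_congr {T : AlgSp.Sp S} {α α' β β' : T ⟶ G.R} (h : α ≫ G.s = β ≫ G.t)
    (hα : α = α') (hβ : β = β') :
    comp G α β h = comp G α' β' (by rw [← hα, ← hβ]; exact h) := by
  subst hα; subst hβ; rfl

@[simp]
theorem comp_s {T : AlgSp.Sp S} (α β : T ⟶ G.R) (h : α ≫ G.s = β ≫ G.t) :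
    comp G α β h ≫ G.s = β ≫ G.s := G.comp_s α β h

@[simp]
theorem comp_t {T : AlgSp.Sp S} (α β : T ⟶ G.R) (h : α ≫ G.s = β ≫ G.t) :
    comp G α β h ≫ G.t = α ≫ G.t := G.comp_t α β h

theorem precomp {T T' : AlgSp.Sp S} (g : T' ⟶ T) (α β : T ⟶ G.R) (h : α ≫ G.s = β ≫ G.t) :
    g ≫ comp G α β h = comp G (g ≫ α) (g ≫ β)
      (by rw [Category.assoc, Category.assoc, h]) := by
  unfold comp
  rw [← Category.assoc]
  congr 1
  apply pullback.hom_ext
  · rw [Category.assoc, pullback.lift_fst, pullback.lift_fst]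
  · rw [Category.assoc, pullback.lift_snd, pullback.lift_snd]

theorem comp_assoc {T : AlgSp.Sp S} (α β γ : T ⟶ G.R) (h₁ : α ≫ G.s = β ≫ G.t)
    (h₂ : β ≫ G.s = γ ≫ G.t) :
    comp G (comp G α β h₁) γ ((comp_s G α β h₁).trans h₂) =
      comp G α (comp G β γ h₂) (h₁.trans (comp_t G β γ h₂).symm) :=
  G.assoc α β γ h₁ h₂

/-- `α ∘ e(s α) = α`, with the unit given as any point equal to `α ≫ s ≫ e`. -/
theorem comp_unit {T : AlgSp.Sp S} (α ε : T ⟶ G.R) (hε : ε = α ≫ G.s ≫ G.e) :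
    comp G α ε (by rw [hε, Category.assoc, Category.assoc, G.e_t, Category.comp_id]) = α := by
  subst hε
  exact G.comp_e α

/-- `e(t α) ∘ α = α`. -/
theorem unit_comp {T : AlgSp.Sp S} (α ε : T ⟶ G.R) (hε : ε = α ≫ G.t ≫ G.e) :
    comp G ε α (by rw [hε, Category.assoc, Category.assoc, G.e_s, Category.comp_id]) = α := by
  subst hε
  exact G.e_comp α

/-- `α ∘ i(α) = e(t α)`. -/
theorem comp_inv {T : AlgSp.Sp S} (α α' : T ⟶ G.R) (hα' : α' = α ≫ G.i) :
    comp G α α' (by rw [hα', Category.assoc, G.i_t]) = α ≫ G.t ≫ G.e := by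
  subst hα'
  exact G.comp_i α

/-- `i(α) ∘ α = e(s α)`. -/
theorem inv_comp {T : AlgSp.Sp S} (α α' : T ⟶ G.R) (hα' : α' = α ≫ G.i) :
    comp G α' α (by rw [hα', Category.assoc, G.i_s]) = α ≫ G.s ≫ G.e := by
  subst hα'
  exact G.i_comp α

/-- Left cancellation data: `i(α) ∘ (α ∘ γ) = γ`. -/
theorem inv_comp_comp {T : AlgSp.Sp S} (α γ : T ⟶ G.R) (h : α ≫ G.s = γ ≫ G.t) :
    comp G (α ≫ G.i) (comp G α γ h)
      (by rw [Category.assoc, G.i_s, comp_t]) = γ := by
  have h1 := comp_assoc G (α ≫ G.i) α γ (by rw [Category.assoc, G.i_s]) h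
  rw [← h1]
  have h2 := inv_comp G α (α ≫ G.i) rfl
  rw [comp_congr G _ h2 rfl]
  exact unit_comp G γ _ (by rw [← Category.assoc, h, Category.assoc])

/-- `α ∘ (i(α) ∘ γ) = γ` when `t α = t γ`. -/
theorem comp_inv_comp {T : AlgSp.Sp S} (α γ : T ⟶ G.R) (h : α ≫ G.t = γ ≫ G.t) :
    comp G α (comp G (α ≫ G.i) γ (by rw [Category.assoc, G.i_s, h]))
      (by rw [comp_t, Category.assoc, G.i_t]) = γ := by
  have h1 := comp_assoc G α (α ≫ G.i) γ (by rw [Category.assoc, G.i_t])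
    (by rw [Category.assoc, G.i_s, h])
  rw [← h1]
  have h2 := comp_inv G α (α ≫ G.i) rfl
  rw [comp_congr G _ h2 rfl]
  exact unit_comp G γ _ (by rw [← Category.assoc, h, Category.assoc])

/-- Right cancellation: `(α ∘ β) ∘ i(β) = α`. -/
theorem comp_comp_inv {T : AlgSp.Sp S} (α β : T ⟶ G.R) (h : α ≫ G.s = β ≫ G.t) :
    comp G (comp G α β h) (β ≫ G.i) (by rw [comp_s, Category.assoc, G.i_t]) = α := by
  have h1 := comp_assoc G α β (β ≫ G.i) h (by rw [Category.assoc, G.i_t])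
  rw [h1]
  have h2 := comp_inv G β (β ≫ G.i) rfl
  rw [comp_congr G _ rfl h2]
  exact comp_unit G α _ (by rw [← Category.assoc, ← h, Category.assoc])

/-- `(γ ∘ i(β)) ∘ β = γ` when `s γ = s β`. -/
theorem comp_inv_comp_right {T : AlgSp.Sp S} (γ β : T ⟶ G.R) (h : γ ≫ G.s = β ≫ G.s) :
    comp G (comp G γ (β ≫ G.i) (by rw [Category.assoc, G.i_t, h])) β
      (by rw [comp_s, Category.assoc, G.i_s]) = γ := by
  have h1 := comp_assoc G γ (β ≫ G.i) β (by rw [Category.assoc, G.i_t, h])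
    (by rw [Category.assoc, G.i_s])
  rw [h1]
  have h2 := inv_comp G β (β ≫ G.i) rfl
  rw [comp_congr G _ rfl h2]
  exact comp_unit G γ _ (by rw [← Category.assoc, ← h, Category.assoc])

/-- Any morphism into `R ×_{s,U,t} R` followed by `c` is the composition of its components. -/
theorem eq_comp {T : AlgSp.Sp S} (m : T ⟶ pullback G.s G.t) :
    m ≫ G.c = comp G (m ≫ pullback.fst G.s G.t) (m ≫ pullback.snd G.s G.t)
      (by rw [Category.assoc, Category.assoc, pullback.condition]) := by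
  unfold comp
  congr 1
  apply pullback.hom_ext
  · rw [pullback.lift_fst]
  · rw [pullback.lift_snd]

theorem c_eq_comp :
    G.c = comp G (pullback.fst G.s G.t) (pullback.snd G.s G.t) pullback.condition := by
  have h := eq_comp G (𝟙 (pullback G.s G.t))
  rw [Category.id_comp] at h
  rw [h]
  exact comp_congr G _ (Category.id_comp _) (Category.id_comp _)

theorem c_s : G.c ≫ G.s = pullback.snd G.s G.t ≫ G.s := by
  rw [c_eq_comp G, comp_s]

theorem c_t : G.c ≫ G.t = pullback.fst G.s G.t ≫ G.t := by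
  rw [c_eq_comp G, comp_t]

end Groth.Agent.Lib.GpdSpPts
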