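import Groth.Agent.Lib.AlgSpLargestOpen
import Groth.Agent.Lib.AlgSpGpdInv91
import Groth.Agent.Lib.GpdSpPts

/-!
# Invariance of "largest open" subspaces under a groupoid in algebraic spaces (owner: helper46)

`isInvariant_of_squares`: let `(U, R, s, t, c)` be a groupoid in algebraic spaces with `s`, `t` members of a
covering class `M`, `P` a property local on the base for `M`-coverings, `f : X ⟶ U` a morphism whose base
changes along `t` and along `s` are given by the SAME morphism `f' : X' ⟶ R`.  Then an open subspace `W ⊆ U`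
characterised as the largest open over which `f` has `P` is `R`-invariant.
-/

set_option autoImplicit false
universe u
open CategoryTheory CategoryTheory.Limits AlgebraicGeometry Opposite Topology

namespace Groth.Agent.Lib.GpdInvLargest46

open AlgSp Groth.Agent.Lib.AlgSpLargestOpen Groth.Agent.Lib.H86AlgSpOpen Groth.Agent.Lib.H86AlgSpSub
  Groth.Agent.Lib.AlgSpFibre

variable {S : Scheme.{u}}

theorem isInvariant_of_squares {B : Sp S} (G : GroupoidSp B) (hU : IsAlgSpace G.U) (hR : IsAlgSpace G.R)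
    {M P : MorphismProperty (Sp S)} (hM : CoverClass M) (hP : IsLocalOnBase (covOf M) P)
    (hs : M G.s) (ht : M G.t)
    {X X' : Sp S} (hX : IsAlgSpace X) (hX' : IsAlgSpace X') (f : X ⟶ G.U) (f' : X' ⟶ G.R)
    (g₁ g₂ : X' ⟶ X) (sq₁ : IsPullback g₁ f' f G.t) (sq₂ : IsPullback g₂ f' f G.s)
    {W : Sp S} (w : W ⟶ G.U) (hWsp : IsAlgSpace W) (hw : RepWith @IsOpenImmersion w)
    (hmax : ∀ (W' : Sp S) (w' : W' ⟶ G.U), IsAlgSpace W' → RepWith @IsOpenImmersion w' →
      (P (pullback.snd f w') ↔ ∃ k : W' ⟶ W, k ≫ w = w')) :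
    G.IsInvariant w := by
  obtain ⟨Ω, hA, -, hC, hD⟩ := exists_largest_open hM hP hX hU f
  obtain ⟨Ω', hA', hB', -, -⟩ := exists_largest_open hM hP hX' hR f'
  have e1 : (Ω' : Set (Points G.R)) = Points.map G.t ⁻¹' (Ω : Set (Points G.U)) :=
    hD G.t g₁ f' hR hX' ht sq₁ Ω' hA' hB'
  have e2 : (Ω' : Set (Points G.R)) = Points.map G.s ⁻¹' (Ω : Set (Points G.U)) :=
    hD G.s g₂ f' hR hX' hs sq₂ Ω' hA' hB'
  have hΩ : Set.range (Points.map w) = (Ω : Set (Points G.U)) := by
    apply Set.Subset.antisymm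
    · have hXW : IsAlgSpace (pullback f w) :=
        isAlgSpace_of_isPullback hU.diag hX hWsp (IsPullback.of_hasPullback f w)
      exact hC w (pullback.fst f w) (pullback.snd f w) hWsp hXW (hM.of_openImm w hWsp hU hw)
        (IsPullback.of_hasPullback f w) ((hmax W w hWsp hw).2 ⟨𝟙 W, Category.id_comp _⟩)
    · have hW' : IsAlgSpace (openSub G.U (Ω : Set (Points G.U))) := isAlgSpace_openSub hU Ω.2
      have hj' : RepWith @IsOpenImmersion (openSubι G.U (Ω : Set (Points G.U))) := openSubι_repWith Ω.2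
      have hXW' : IsAlgSpace (pullback f (openSubι G.U (Ω : Set (Points G.U)))) :=
        isAlgSpace_of_isPullback hU.diag hX hW' (IsPullback.of_hasPullback _ _)
      have hPW' : P (pullback.snd f (openSubι G.U (Ω : Set (Points G.U)))) :=
        hA _ _ _ hW' hXW' hj' range_map_openSubι (IsPullback.of_hasPullback _ _)
      obtain ⟨k, hk⟩ := (hmax _ _ hW' hj').1 hPW'
      intro x hx
      have : x ∈ Set.range (Points.map (openSubι G.U (Ω : Set (Points G.U)))) := by
        rw [range_map_openSubι]; exact hx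
      obtain ⟨y, rfl⟩ := this
      exact ⟨Points.map k y, by rw [← Points.map_comp, hk]⟩
  intro T r
  rw [Groth.Agent.Lib.AlgSpGpdInv91.exists_factor_iff hw, Groth.Agent.Lib.AlgSpGpdInv91.exists_factor_iff hw, hΩ]
  have key : ∀ x : Points ((yon S).obj T),
      Points.map (r ≫ G.t) x ∈ (Ω : Set (Points G.U)) ↔ Points.map (r ≫ G.s) x ∈ (Ω : Set (Points G.U)) := by
    intro x
    rw [Points.map_comp, Points.map_comp]
    change Points.map r x ∈ Points.map G.t ⁻¹' (Ω : Set (Points G.U)) ↔
      Points.map r x ∈ Points.map G.s ⁻¹' (Ω : Set (Points G.U))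
    rw [← e1, ← e2]
  constructor
  · rintro h _ ⟨x, rfl⟩
    exact (key x).1 (h ⟨x, rfl⟩)
  · rintro h _ ⟨x, rfl⟩
    exact (key x).2 (h ⟨x, rfl⟩)

end Groth.Agent.Lib.GpdInvLargest46
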