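import Groth.Agent.Lib.GpdSpPts

/-!
# Conjugation on the stabilizer of a groupoid in sheaves (owner: helper46)

For a groupoid `(U, R, s, t, c, e, i)` in sheaves over `B` with stabilizer `G → U`:
`T`-points of the stabilizer (`stabMk`, `stab_hom_ext`), conjugation `conjT a b = b⁻¹ a b`, `conjS a b = b a b⁻¹`,
and the cartesian square `isPullback_conj` exhibiting `G ×_{U,t} R ⟶ R` as a base change of `G ⟶ U` along `s`.
-/

set_option autoImplicit false
universe u
open CategoryTheory CategoryTheory.Limits AlgebraicGeometry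

namespace Groth.Agent.Lib.GpdStabConj46

open AlgSp Groth.Agent.Lib.GpdSpPts

variable {S : Scheme.{u}} {B : Sp S} (G : GroupoidSp B)

theorem diag_fst : G.diag ≫ pullback.fst G.pU G.pU = 𝟙 G.U := pullback.lift_fst _ _ _
theorem diag_snd : G.diag ≫ pullback.snd G.pU G.pU = 𝟙 G.U := pullback.lift_snd _ _ _

theorem toU_eq_ι_s : G.stabilizerToU = G.stabilizerι ≫ G.s := by
  have h := (pullback.condition : pullback.fst G.j G.diag ≫ G.j = pullback.snd G.j G.diag ≫ G.diag)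
  have h2 := congrArg (· ≫ pullback.snd G.pU G.pU) h
  simp only [Category.assoc, GroupoidSp.j_snd, diag_snd, Category.comp_id] at h2
  exact h2.symm

theorem toU_eq_ι_t : G.stabilizerToU = G.stabilizerι ≫ G.t := by
  have h := (pullback.condition : pullback.fst G.j G.diag ≫ G.j = pullback.snd G.j G.diag ≫ G.diag)
  have h2 := congrArg (· ≫ pullback.fst G.pU G.pU) h
  simp only [Category.assoc, GroupoidSp.j_fst, diag_fst, Category.comp_id] at h2
  exact h2.symm

/-- A `T`-point of the stabilizer from a loop. -/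
noncomputable def stabMk {T : Sp S} (ρ : T ⟶ G.R) (h : ρ ≫ G.s = ρ ≫ G.t) : T ⟶ G.stabilizer :=
  pullback.lift ρ (ρ ≫ G.s) (by
    apply pullback.hom_ext
    · rw [Category.assoc, Category.assoc, GroupoidSp.j_fst, diag_fst, Category.comp_id, h]
    · rw [Category.assoc, Category.assoc, GroupoidSp.j_snd, diag_snd, Category.comp_id])

@[simp]
theorem stabMk_ι {T : Sp S} (ρ : T ⟶ G.R) (h : ρ ≫ G.s = ρ ≫ G.t) :
    stabMk G ρ h ≫ G.stabilizerι = ρ := pullback.lift_fst _ _ _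

@[simp]
theorem stabMk_toU {T : Sp S} (ρ : T ⟶ G.R) (h : ρ ≫ G.s = ρ ≫ G.t) :
    stabMk G ρ h ≫ G.stabilizerToU = ρ ≫ G.s := pullback.lift_snd _ _ _

theorem stab_hom_ext {T : Sp S} {a b : T ⟶ G.stabilizer} (h : a ≫ G.stabilizerι = b ≫ G.stabilizerι) :
    a = b := by
  apply pullback.hom_ext
  · exact h
  · change a ≫ G.stabilizerToU = b ≫ G.stabilizerToU
    rw [toU_eq_ι_s, ← Category.assoc, ← Category.assoc, h]

theorem stabMk_congr {T : Sp S} {ρ ρ' : T ⟶ G.R} (h : ρ ≫ G.s = ρ ≫ G.t) (e : ρ = ρ') :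
    stabMk G ρ h = stabMk G ρ' (by rw [← e]; exact h) := by
  subst e; rfl

theorem ι_s_eq_ι_t {T : Sp S} (a : T ⟶ G.stabilizer) :
    (a ≫ G.stabilizerι) ≫ G.s = (a ≫ G.stabilizerι) ≫ G.t := by
  rw [Category.assoc, Category.assoc, ← toU_eq_ι_s, ← toU_eq_ι_t]

/-- `b⁻¹ ∘ α ∘ b` for a loop `α` at `t b`. -/
noncomputable def cjT {T : Sp S} (α b : T ⟶ G.R) (h1 : α ≫ G.s = b ≫ G.t) (h2 : α ≫ G.t = b ≫ G.t) :
    T ⟶ G.R :=
  comp G (comp G (b ≫ G.i) α (by rw [Category.assoc, G.i_s, h2])) b (by rw [comp_s, h1])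

/-- `b ∘ α ∘ b⁻¹` for a loop `α` at `s b`. -/
noncomputable def cjS {T : Sp S} (α b : T ⟶ G.R) (h1 : α ≫ G.s = b ≫ G.s) (h2 : α ≫ G.t = b ≫ G.s) :
    T ⟶ G.R :=
  comp G (comp G b α h2.symm) (b ≫ G.i) (by rw [comp_s, h1, Category.assoc, G.i_t])

theorem cjT_s {T : Sp S} (α b : T ⟶ G.R) (h1 : α ≫ G.s = b ≫ G.t) (h2 : α ≫ G.t = b ≫ G.t) :
    cjT G α b h1 h2 ≫ G.s = b ≫ G.s := by
  unfold cjT; rw [comp_s]

theorem cjT_t {T : Sp S} (α b : T ⟶ G.R) (h1 : α ≫ G.s = b ≫ G.t) (h2 : α ≫ G.t = b ≫ G.t) :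
    cjT G α b h1 h2 ≫ G.t = b ≫ G.s := by
  unfold cjT; rw [comp_t, comp_t, Category.assoc, G.i_t]

theorem cjS_s {T : Sp S} (α b : T ⟶ G.R) (h1 : α ≫ G.s = b ≫ G.s) (h2 : α ≫ G.t = b ≫ G.s) :
    cjS G α b h1 h2 ≫ G.s = b ≫ G.t := by
  unfold cjS; rw [comp_s, Category.assoc, G.i_s]

theorem cjS_t {T : Sp S} (α b : T ⟶ G.R) (h1 : α ≫ G.s = b ≫ G.s) (h2 : α ≫ G.t = b ≫ G.s) :
    cjS G α b h1 h2 ≫ G.t = b ≫ G.t := by
  unfold cjS; rw [comp_t, comp_t]

theorem cjT_congr {T : Sp S} {α α' b b' : T ⟶ G.R} (h1 : α ≫ G.s = b ≫ G.t) (h2 : α ≫ G.t = b ≫ G.t)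
    (eα : α = α') (eb : b = b') :
    cjT G α b h1 h2 = cjT G α' b' (by rw [← eα, ← eb]; exact h1) (by rw [← eα, ← eb]; exact h2) := by
  subst eα; subst eb; rfl

theorem cjS_congr {T : Sp S} {α α' b b' : T ⟶ G.R} (h1 : α ≫ G.s = b ≫ G.s) (h2 : α ≫ G.t = b ≫ G.s)
    (eα : α = α') (eb : b = b') :
    cjS G α b h1 h2 = cjS G α' b' (by rw [← eα, ← eb]; exact h1) (by rw [← eα, ← eb]; exact h2) := by
  subst eα; subst eb; rfl

theorem precomp_cjT {T T' : Sp S} (g : T' ⟶ T) (α b : T ⟶ G.R) (h1 : α ≫ G.s = b ≫ G.t)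
    (h2 : α ≫ G.t = b ≫ G.t) :
    g ≫ cjT G α b h1 h2 = cjT G (g ≫ α) (g ≫ b) (by rw [Category.assoc, Category.assoc, h1])
      (by rw [Category.assoc, Category.assoc, h2]) := by
  unfold cjT
  rw [precomp]
  refine (comp_congr G _ ?_ rfl).trans rfl
  rw [precomp]
  exact (comp_congr G _ (Category.assoc _ _ _).symm rfl).trans rfl

theorem cjT_cjS {T : Sp S} (α b : T ⟶ G.R) (h1 : α ≫ G.s = b ≫ G.s) (h2 : α ≫ G.t = b ≫ G.s) :
    cjT G (cjS G α b h1 h2) b (cjS_s G α b h1 h2) (cjS_t G α b h1 h2) = α := by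
  unfold cjT cjS
  have e1 := comp_assoc G (b ≫ G.i) (comp G (comp G b α h2.symm) (b ≫ G.i)
    (by rw [comp_s, h1, Category.assoc, G.i_t])) b
    (by rw [Category.assoc, G.i_s, comp_t, comp_t])
    (by rw [comp_s, Category.assoc, G.i_s])
  refine e1.trans ?_
  have e2 := comp_inv_comp_right G (comp G b α h2.symm) b (by rw [comp_s, h1])
  refine (comp_congr G _ rfl e2).trans ?_
  exact inv_comp_comp G b α h2.symm

theorem cjS_cjT {T : Sp S} (α b : T ⟶ G.R) (h1 : α ≫ G.s = b ≫ G.t) (h2 : α ≫ G.t = b ≫ G.t) :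
    cjS G (cjT G α b h1 h2) b (cjT_s G α b h1 h2) (cjT_t G α b h1 h2) = α := by
  unfold cjS cjT
  have e1 := comp_assoc G b (comp G (b ≫ G.i) α (by rw [Category.assoc, G.i_s, h2])) b
    (by rw [comp_t, Category.assoc, G.i_t]) (by rw [comp_s, h1])
  have e2 := comp_inv_comp G b α h2.symm
  have e3 : comp G b (comp G (comp G (b ≫ G.i) α (by rw [Category.assoc, G.i_s, h2])) b
      (by rw [comp_s, h1])) (by rw [comp_t, comp_t, Category.assoc, G.i_t]) = comp G α b h1 :=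
    e1.symm.trans (comp_congr G _ e2 rfl)
  refine (comp_congr G _ e3 rfl).trans ?_
  exact comp_comp_inv G α b h1

/-- Conjugation `a ↦ b⁻¹ a b` on points of the stabilizer (for `a` over `t b`). -/
noncomputable def conjT {T : Sp S} (a : T ⟶ G.stabilizer) (b : T ⟶ G.R)
    (h : a ≫ G.stabilizerToU = b ≫ G.t) : T ⟶ G.stabilizer :=
  stabMk G (cjT G (a ≫ G.stabilizerι) b (by rw [Category.assoc, ← toU_eq_ι_s, h])
    (by rw [Category.assoc, ← toU_eq_ι_t, h]))
    (by rw [cjT_s, cjT_t])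

/-- Conjugation `a ↦ b a b⁻¹` on points of the stabilizer (for `a` over `s b`). -/
noncomputable def conjS {T : Sp S} (a : T ⟶ G.stabilizer) (b : T ⟶ G.R)
    (h : a ≫ G.stabilizerToU = b ≫ G.s) : T ⟶ G.stabilizer :=
  stabMk G (cjS G (a ≫ G.stabilizerι) b (by rw [Category.assoc, ← toU_eq_ι_s, h])
    (by rw [Category.assoc, ← toU_eq_ι_t, h]))
    (by rw [cjS_s, cjS_t])

theorem conjT_toU {T : Sp S} (a : T ⟶ G.stabilizer) (b : T ⟶ G.R)
    (h : a ≫ G.stabilizerToU = b ≫ G.t) : conjT G a b h ≫ G.stabilizerToU = b ≫ G.s := by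
  unfold conjT; rw [stabMk_toU, cjT_s]

theorem conjS_toU {T : Sp S} (a : T ⟶ G.stabilizer) (b : T ⟶ G.R)
    (h : a ≫ G.stabilizerToU = b ≫ G.s) : conjS G a b h ≫ G.stabilizerToU = b ≫ G.t := by
  unfold conjS; rw [stabMk_toU, cjS_s]

theorem conjT_congr {T : Sp S} {a a' : T ⟶ G.stabilizer} {b b' : T ⟶ G.R}
    (h : a ≫ G.stabilizerToU = b ≫ G.t) (ea : a = a') (eb : b = b') :
    conjT G a b h = conjT G a' b' (by rw [← ea, ← eb]; exact h) := by
  subst ea; subst eb; rfl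

theorem conjS_congr {T : Sp S} {a a' : T ⟶ G.stabilizer} {b b' : T ⟶ G.R}
    (h : a ≫ G.stabilizerToU = b ≫ G.s) (ea : a = a') (eb : b = b') :
    conjS G a b h = conjS G a' b' (by rw [← ea, ← eb]; exact h) := by
  subst ea; subst eb; rfl

theorem precomp_conjT {T T' : Sp S} (g : T' ⟶ T) (a : T ⟶ G.stabilizer) (b : T ⟶ G.R)
    (h : a ≫ G.stabilizerToU = b ≫ G.t) :
    g ≫ conjT G a b h = conjT G (g ≫ a) (g ≫ b) (by rw [Category.assoc, Category.assoc, h]) := by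
  apply stab_hom_ext
  unfold conjT
  rw [Category.assoc, stabMk_ι, stabMk_ι, precomp_cjT]
  exact cjT_congr G _ _ (Category.assoc _ _ _).symm rfl

theorem conjT_conjS {T : Sp S} (a : T ⟶ G.stabilizer) (b : T ⟶ G.R)
    (h : a ≫ G.stabilizerToU = b ≫ G.s) :
    conjT G (conjS G a b h) b (conjS_toU G a b h) = a := by
  apply stab_hom_ext
  unfold conjT
  rw [stabMk_ι]
  have e : conjS G a b h ≫ G.stabilizerι = cjS G (a ≫ G.stabilizerι) b
      (by rw [Category.assoc, ← toU_eq_ι_s, h]) (by rw [Category.assoc, ← toU_eq_ι_t, h]) := by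
    unfold conjS; rw [stabMk_ι]
  refine (cjT_congr G _ _ e rfl).trans ?_
  exact cjT_cjS G _ _ _ _

theorem conjS_conjT {T : Sp S} (a : T ⟶ G.stabilizer) (b : T ⟶ G.R)
    (h : a ≫ G.stabilizerToU = b ≫ G.t) :
    conjS G (conjT G a b h) b (conjT_toU G a b h) = a := by
  apply stab_hom_ext
  unfold conjS
  rw [stabMk_ι]
  have e : conjT G a b h ≫ G.stabilizerι = cjT G (a ≫ G.stabilizerι) b
      (by rw [Category.assoc, ← toU_eq_ι_s, h]) (by rw [Category.assoc, ← toU_eq_ι_t, h]) := by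
    unfold conjT; rw [stabMk_ι]
  refine (cjS_congr G _ _ e rfl).trans ?_
  exact cjS_cjT G _ _ _ _

/-- The conjugation map `G ×_{U,t} R ⟶ G`, `(a, b) ↦ b⁻¹ a b`. -/
noncomputable def conjMap : pullback G.stabilizerToU G.t ⟶ G.stabilizer :=
  conjT G (pullback.fst G.stabilizerToU G.t) (pullback.snd G.stabilizerToU G.t) pullback.condition

/-- `G ×_{U,t} R ⟶ R` is also a base change of `G ⟶ U` along `s`, via conjugation. -/
theorem isPullback_conj :
    IsPullback (conjMap G) (pullback.snd G.stabilizerToU G.t) G.stabilizerToU G.s := by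
  refine IsPullback.of_isLimit' ⟨conjT_toU G _ _ _⟩ (PullbackCone.IsLimit.mk _
    (fun c => pullback.lift (conjS G c.fst c.snd c.condition) c.snd (conjS_toU G _ _ _)) ?_ ?_ ?_)
  · intro c
    unfold conjMap
    rw [precomp_conjT]
    refine (conjT_congr G _ (pullback.lift_fst _ _ _) (pullback.lift_snd _ _ _)).trans ?_
    exact conjT_conjS G c.fst c.snd c.condition
  · intro c
    exact pullback.lift_snd _ _ _
  · intro c m hm1 hm2
    apply pullback.hom_ext
    · rw [pullback.lift_fst]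
      have e1 : m ≫ conjMap G = conjT G (m ≫ pullback.fst G.stabilizerToU G.t)
          (m ≫ pullback.snd G.stabilizerToU G.t)
          (by rw [Category.assoc, Category.assoc, pullback.condition]) := by
        unfold conjMap; rw [precomp_conjT]
      have e2 := conjS_conjT G (m ≫ pullback.fst G.stabilizerToU G.t)
        (m ≫ pullback.snd G.stabilizerToU G.t)
        (by rw [Category.assoc, Category.assoc, pullback.condition])
      rw [← e2]
      exact conjS_congr G _ (e1.symm.trans hm1) hm2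
    · rw [pullback.lift_snd]; exact hm2

end Groth.Agent.Lib.GpdStabConj46
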