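import Mathlib
import Groth.Prelude.Def_Wider
import Groth.Agent.Lib.LocCohLocalization

set_option autoImplicit false
set_option linter.unusedSectionVars false
set_option linter.style.haveILetI false

universe u

namespace Groth.Agent.Lib.GrBridgeLocal

open IsLocalRing

section Hull

variable {R : Type u} [CommRing R] (p : Ideal R) [p.IsPrime]
  {E' : Type u} [AddCommGroup E'] [Module R E'] (e : (R ⧸ p) →ₗ[R] E')

/-- the image of the socle generator in the localization -/
noncomputable def uS : LocalizedModule p.primeCompl E' := LocalizedModule.mk (e 1) 1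

theorem smul_uS_eq_zero (a : Localization.AtPrime p)
    (ha : a ∈ maximalIdeal (Localization.AtPrime p)) : a • uS p e = 0 := by
  obtain ⟨⟨r, s⟩, hrs⟩ := IsLocalization.surj p.primeCompl a
  have hrs' : a * algebraMap R (Localization.AtPrime p) (s : R) =
      algebraMap R (Localization.AtPrime p) r := hrs
  have hr : r ∈ p := by
    rw [← IsLocalization.AtPrime.to_map_mem_maximal_iff (Localization.AtPrime p) p r, ← hrs']
    exact Ideal.mul_mem_right _ _ ha
  have hu : IsUnit (algebraMap R (Localization.AtPrime p) (s : R)) :=
    IsLocalization.map_units _ s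
  have h1 : (a * algebraMap R (Localization.AtPrime p) (s : R)) • uS p e = 0 := by
    rw [hrs', algebraMap_smul]
    unfold uS
    rw [LocalizedModule.smul'_mk, ← map_smul]
    have : r • (1 : R ⧸ p) = 0 := by
      change Ideal.Quotient.mk p (r * 1) = 0
      rw [mul_one]
      exact Ideal.Quotient.eq_zero_iff_mem.mpr hr
    rw [this, map_zero, LocalizedModule.zero_mk]
  rw [mul_comm, mul_smul] at h1
  have h2 := congrArg (fun z => (hu.unit⁻¹ : (Localization.AtPrime p)ˣ).1 • z) h1
  simp only [smul_zero] at h2
  rwa [← mul_smul, IsUnit.val_inv_mul, one_smul] at h2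

/-- the structure map `κ(p) → E'_p`. -/
noncomputable def fA : ResidueField (Localization.AtPrime p) →ₗ[Localization.AtPrime p]
    LocalizedModule p.primeCompl E' :=
  Submodule.liftQ (maximalIdeal (Localization.AtPrime p))
    (LinearMap.toSpanSingleton (Localization.AtPrime p) _ (uS p e)) (by
      intro a ha
      rw [LinearMap.mem_ker, LinearMap.toSpanSingleton_apply]
      exact smul_uS_eq_zero p e a ha)

theorem fA_residue (a : Localization.AtPrime p) :
    fA p e (residue (Localization.AtPrime p) a) = a • uS p e := rfl

theorem mk_e_ne_zero (he : Function.Injective e) {z : R ⧸ p} (hz : z ≠ 0) :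
    LocalizedModule.mk (e z) (1 : p.primeCompl) ≠ 0 := by
  intro h
  have h' : LocalizedModule.mkLinearMap p.primeCompl E' (e z) = 0 := h
  rw [IsLocalizedModule.eq_zero_iff p.primeCompl] at h'
  obtain ⟨c, hc⟩ := h'
  have hc' : (c : R) • e z = 0 := hc
  rw [← map_smul] at hc'
  have h2 : (c : R) • z = 0 := he (hc'.trans (map_zero e).symm)
  obtain ⟨z', rfl⟩ := Ideal.Quotient.mk_surjective z
  have h3 : Ideal.Quotient.mk p ((c : R) * z') = 0 := h2
  rw [Ideal.Quotient.eq_zero_iff_mem] at h3
  rcases (Ideal.IsPrime.mem_or_mem inferInstance h3) with h4 | h4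
  · exact c.2 h4
  · exact hz (Ideal.Quotient.eq_zero_iff_mem.mpr h4)

theorem uS_ne_zero (he : Function.Injective e) : uS p e ≠ 0 := by
  have : (1 : R ⧸ p) ≠ 0 := by
    intro h
    have : (1 : R) ∈ p := Ideal.Quotient.eq_zero_iff_mem.mp h
    exact (Ideal.ne_top_iff_one p).mp (Ideal.IsPrime.ne_top inferInstance) this
  exact mk_e_ne_zero p e he this

theorem fA_injective (he : Function.Injective e) : Function.Injective (fA p e) := by
  rw [injective_iff_map_eq_zero]
  intro x hx
  obtain ⟨a, rfl⟩ := residue_surjective x
  rw [fA_residue] at hx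
  rw [residue_eq_zero_iff]
  by_contra ha
  have hu : IsUnit a := by
    by_contra hnu
    exact ha ((mem_maximalIdeal a).mpr hnu)
  apply uS_ne_zero p e he
  have h2 := congrArg (fun z => (hu.unit⁻¹ : (Localization.AtPrime p)ˣ).1 • z) hx
  simp only [smul_zero] at h2
  rwa [← mul_smul, IsUnit.val_inv_mul, one_smul] at h2

theorem mk_e_mem_range (z' : R) :
    LocalizedModule.mk (e (Ideal.Quotient.mk p z')) (1 : p.primeCompl) ∈
      LinearMap.range (fA p e) := by
  refine ⟨residue _ (algebraMap R (Localization.AtPrime p) z'), ?_⟩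
  rw [fA_residue, algebraMap_smul]
  unfold uS
  rw [LocalizedModule.smul'_mk, ← map_smul]
  congr 2
  change Ideal.Quotient.mk p (z' * 1) = _
  rw [mul_one]

theorem fA_essential (he : InjHull.IsEssentialInj e)
    (N : Submodule (Localization.AtPrime p) (LocalizedModule p.primeCompl E')) (hN : N ≠ ⊥) :
    N ⊓ LinearMap.range (fA p e) ≠ ⊥ := by
  obtain ⟨y, hyN, hy0⟩ := Submodule.exists_mem_ne_zero_of_ne_bot hN
  induction y using LocalizedModule.induction_on with
  | h y' s =>
    have hy'0 : y' ≠ 0 := by
      rintro rfl
      exact hy0 (LocalizedModule.zero_mk s)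
    have hspan : Submodule.span R {y'} ≠ ⊥ := by
      rwa [Ne, Submodule.span_singleton_eq_bot]
    have h1 := he.essential _ hspan
    obtain ⟨w, hwmem, hw0⟩ := Submodule.exists_mem_ne_zero_of_ne_bot h1
    obtain ⟨hw1, hw2⟩ := hwmem
    obtain ⟨r, rfl⟩ := Submodule.mem_span_singleton.mp hw1
    obtain ⟨z, hz⟩ := hw2
    have hz0 : z ≠ 0 := by
      rintro rfl
      rw [map_zero] at hz
      exact hw0 hz.symm
    intro hbot
    have hmem : LocalizedModule.mk (r • y') (1 : p.primeCompl) ∈ N ⊓ LinearMap.range (fA p e) := by
      constructor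
      · have h2 : LocalizedModule.mk (r • y') (1 : p.primeCompl) =
            (algebraMap R (Localization.AtPrime p) (r * (s : R))) • LocalizedModule.mk y' s := by
          rw [algebraMap_smul, LocalizedModule.smul'_mk, mul_smul, LocalizedModule.mk_eq]
          refine ⟨1, ?_⟩
          simp only [one_smul]
          rw [Submonoid.smul_def, smul_comm]
        rw [h2]
        exact N.smul_mem _ hyN
      · rw [← hz]
        obtain ⟨z', rfl⟩ := Ideal.Quotient.mk_surjective z
        exact mk_e_mem_range p e z'
    rw [hbot, Submodule.mem_bot, ← hz] at hmem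
    exact mk_e_ne_zero p e he.injective hz0 hmem

theorem isInjectiveHull_fA [IsNoetherianRing R] (he : InjHull.IsInjectiveHull e) :
    InjHull.IsInjectiveHull (fA p e) where
  injective := fA_injective p e he.injective
  essential := fA_essential p e he.toIsEssentialInj
  isInjective := by
    haveI := he.isInjective
    exact Module.injective_of_isLocalizedModule p.primeCompl
      (LocalizedModule.mkLinearMap p.primeCompl E')

end Hull

section Canon

open Groth.Agent.Lib.LocCohLocalization

variable {R : Type u} [CommRing R] [IsNoetherianRing R] (p : Ideal R) [p.IsPrime]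
  {E' : Type u} [AddCommGroup E'] [Module R E']
  {C : Type u} [AddCommGroup C] [Module R C] [Module.Finite R C] (n : ℕ)
  (ψ : (C →ₗ[R] E') ≃ₗ[R] LocCoh.H p n R)

include ψ in
/-- Localizing a "canonical module" datum `Hom_R(C, E') ≅ H^n_p(R)` at the prime `p`. -/
theorem nonempty_eK :
    Nonempty ((LocalizedModule p.primeCompl C →ₗ[Localization.AtPrime p]
        LocalizedModule p.primeCompl E') ≃ₗ[Localization.AtPrime p]
      LocCoh.H (maximalIdeal (Localization.AtPrime p)) n (Localization.AtPrime p)) := by
  haveI : Module.FinitePresentation R C := Module.finitePresentation_of_finite R C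
  rw [← Localization.AtPrime.map_eq_maximalIdeal]
  let e1 : LocalizedModule p.primeCompl (C →ₗ[R] E') ≃ₗ[R]
      (LocalizedModule p.primeCompl C →ₗ[Localization p.primeCompl]
        LocalizedModule p.primeCompl E') :=
    Module.FinitePresentation.linearEquivMapExtendScalars p.primeCompl
  let e1' := LinearEquiv.extendScalarsOfIsLocalization p.primeCompl (Localization p.primeCompl) e1
  let e2 : LocalizedModule p.primeCompl (C →ₗ[R] E') ≃ₗ[Localization p.primeCompl]
      LocalizedModule p.primeCompl (LocCoh.H p n R) :=
    IsLocalizedModule.mapEquiv p.primeCompl (LocalizedModule.mkLinearMap p.primeCompl _)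
      (LocalizedModule.mkLinearMap p.primeCompl _) (Localization p.primeCompl) ψ
  let e3 := localizedEquiv p p.primeCompl R n
  let e4 : LocalizedModule p.primeCompl R ≃ₗ[Localization p.primeCompl] Localization p.primeCompl :=
    LinearEquiv.extendScalarsOfIsLocalization p.primeCompl (Localization p.primeCompl)
      (IsLocalizedModule.iso p.primeCompl (Algebra.linearMap R (Localization p.primeCompl)))
  exact ⟨e1'.symm.trans (e2.trans (e3.trans (Hcongr _ e4 n)))⟩

end Canon

end Groth.Agent.Lib.GrBridgeLocal
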