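import Groth.Agent.Lib.GrLCMap

/-!
# Bridge: gradings valued in an arbitrary `SetLike` type vs. `AddSubgroup`-valued gradings (helper12)

The graded local cohomology libraries (`H87GrMod*`, `H74Coind`, `S18661`, `S18662`, `GrLCMap`,
`GrLCLES`) are written for gradings `𝒜 : ι → AddSubgroup R`, `ℳ : ι → AddSubgroup M`.  Statements
over `GrSyz.stdGr k σ : ℤ → Submodule k (MvPolynomial σ k)` and `ℳ : ℤ → Submodule k M` are
transported with `asGr`: same pieces, as additive subgroups.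

* `asGr ℳ`, instances `Decomposition (asGr ℳ)`, `GradedRing (asGr 𝒜)`,
  `SetLike.GradedSMul (asGr 𝒜) (asGr ℳ)`, `SetLike.GradedSMul (asGr 𝒜) 𝒳`;
* `toSIdeal a : HomogeneousIdeal (asGr 𝒜)` with the same underlying ideal;
* `toSRes E : StarInjRes (asGr 𝒜) (asGr ℳ)` with the same terms; `mem_Hcomp_toSRes`,
  `Hcomp_toSRes_eq_bot_iff`, `endDeg_toSRes`.
-/

set_option autoImplicit false
set_option linter.unusedSectionVars false
universe u

namespace Groth.Agent.Lib.GrLCBridge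

open DirectSum GrLC

variable {ι : Type} [AddCommGroup ι] [DecidableEq ι]
variable {R : Type u} [CommRing R] {σ : Type u} [SetLike σ R] [AddSubgroupClass σ R]
variable {M : Type u} [AddCommGroup M] [Module R M] {τ : Type u} [SetLike τ M]
  [AddSubgroupClass τ M]

/-- The same pieces, as additive subgroups. -/
def asGr {M : Type u} [AddCommGroup M] {τ : Type u} [SetLike τ M] [AddSubgroupClass τ M]
    (ℳ : ι → τ) : ι → AddSubgroup M := fun i => AddSubgroup.ofClass (ℳ i)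

theorem mem_asGr {ℳ : ι → τ} {i : ι} {x : M} : x ∈ asGr ℳ i ↔ x ∈ ℳ i := Iff.rfl

instance asGrDecomposition (ℳ : ι → τ) [Decomposition ℳ] : Decomposition (asGr ℳ) where
  decompose' := DirectSum.decompose ℳ
  left_inv := fun _ => (decompose ℳ).left_inv _
  right_inv := fun _ => (decompose ℳ).right_inv _

theorem coe_decompose_asGr (ℳ : ι → τ) [Decomposition ℳ] (m : M) (i : ι) :
    (decompose (asGr ℳ) m i : M) = (decompose ℳ m i : M) := rfl

instance asGrGradedMonoid (𝒜 : ι → σ) [SetLike.GradedMonoid 𝒜] :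
    SetLike.GradedMonoid (asGr 𝒜) where
  one_mem := SetLike.GradedOne.one_mem (A := 𝒜)
  mul_mem _ _ _ _ hx hy := SetLike.GradedMul.mul_mem (A := 𝒜) hx hy

instance asGrGradedRing (𝒜 : ι → σ) [GradedRing 𝒜] : GradedRing (asGr 𝒜) where
  toGradedMonoid := asGrGradedMonoid 𝒜
  toDecomposition := asGrDecomposition 𝒜

instance asGrGradedSMul (𝒜 : ι → σ) [GradedRing 𝒜] (ℳ : ι → τ) [SetLike.GradedSMul 𝒜 ℳ] :
    SetLike.GradedSMul (asGr 𝒜) (asGr ℳ) where
  smul_mem := fun {_ _ _ _} hr hx => SetLike.GradedSMul.smul_mem (A := 𝒜) (B := ℳ) hr hx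

instance asGrGradedSMul' (𝒜 : ι → σ) [GradedRing 𝒜] (ℳ : ι → τ) [SetLike.GradedSMul 𝒜 ℳ] :
    SetLike.GradedSMul (asGr 𝒜) ℳ where
  smul_mem := fun {_ _ _ _} hr hx => SetLike.GradedSMul.smul_mem (A := 𝒜) (B := ℳ) hr hx

variable (𝒜 : ι → σ) [GradedRing 𝒜]

/-- A graded module over `𝒜` as a graded module over `asGr 𝒜`. -/
def toSMod (X : GMod.{u} 𝒜) : GMod.{u} (asGr 𝒜) :=
  { carrier := X.carrier, gr := X.gr }

/-- A graded module over `asGr 𝒜` as a graded module over `𝒜`. -/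
def ofSMod (X : GMod.{u} (asGr 𝒜)) : GMod.{u} 𝒜 :=
  { carrier := X.carrier, gr := X.gr
    gsmul := ⟨fun {_ _ _ _} hr hx => SetLike.GradedSMul.smul_mem (A := asGr 𝒜) (B := X.gr) hr hx⟩ }

theorem isStarInj_asGr {X : Type u} [AddCommGroup X] [Module R X] (𝒳 : ι → AddSubgroup X)
    [Decomposition 𝒳] [SetLike.GradedSMul 𝒜 𝒳] (h : IsStarInj 𝒜 𝒳) : IsStarInj (asGr 𝒜) 𝒳 := by
  intro A B f hf hinj g hg
  exact h (ofSMod 𝒜 A) (ofSMod 𝒜 B) f hf hinj g hg

variable {𝒜}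

/-- The same homogeneous ideal, for the grading `asGr 𝒜`. -/
def toSIdeal (a : HomogeneousIdeal 𝒜) : HomogeneousIdeal (asGr 𝒜) :=
  ⟨a.toIdeal, fun i _ hr => a.isHomogeneous i hr⟩

theorem toSIdeal_toIdeal (a : HomogeneousIdeal 𝒜) : (toSIdeal a).toIdeal = a.toIdeal := rfl

variable {ℳ : ι → τ} [Decomposition ℳ] [SetLike.GradedSMul 𝒜 ℳ]

/-- The same resolution, over `asGr 𝒜`. -/
def toSRes (E : StarInjRes 𝒜 ℳ) : StarInjRes (asGr 𝒜) (asGr ℳ) where
  X n := toSMod 𝒜 (E.X n)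
  d n := E.d n
  ε := E.ε
  d_grHom := E.d_grHom
  ε_grHom := E.ε_grHom
  ε_injective := E.ε_injective
  exact_zero := E.exact_zero
  exact_succ := E.exact_succ
  starInj n := isStarInj_asGr 𝒜 (E.X n).gr (E.starInj n)

theorem mem_Hcomp_toSRes (E : StarInjRes 𝒜 ℳ) (a : HomogeneousIdeal 𝒜) (i : ℕ) (g : ι)
    (x : E.H a i) : x ∈ (toSRes E).Hcomp (toSIdeal a) i g ↔ x ∈ E.Hcomp a i g := Iff.rfl

theorem Hcomp_toSRes_eq_bot_iff (E : StarInjRes 𝒜 ℳ) (a : HomogeneousIdeal 𝒜) (i : ℕ) (g : ι) :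
    (toSRes E).Hcomp (toSIdeal a) i g = ⊥ ↔ E.Hcomp a i g = ⊥ := by
  rw [Submodule.eq_bot_iff, Submodule.eq_bot_iff]
  exact Iff.rfl

theorem Hgr_toSRes (E : StarInjRes 𝒜 ℳ) (a : HomogeneousIdeal 𝒜) (i : ℕ) :
    (toSRes E).Hgr (toSIdeal a) i = E.Hgr a i := rfl

end Groth.Agent.Lib.GrLCBridge
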