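import Groth.Agent.Lib.H8CM3
import Groth.Agent.Lib.SerreSk
import Mathlib.RingTheory.Regular.Flat

/-!
# Cohen–Macaulay modules, part 4: localization (helper8)
-/

set_option autoImplicit false
set_option linter.unusedSectionVars false
universe u v

namespace Groth.Agent.Lib.H8CM

open RingTheory.Sequence IsLocalRing Pointwise Module Groth.Agent.Lib.DepthBasic
  Groth.Agent.Lib.DepthRees Groth.Agent.Lib.SerreSk LocCoh

section general

variable {R : Type u} [CommRing R] {M : Type v} [AddCommGroup M] [Module R M]

/-- The contraction of a prime of `R_p` lies under `p`. -/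
theorem comap_le_of_localization (p : Ideal R) [p.IsPrime]
    (q : PrimeSpectrum (Localization.AtPrime p)) :
    (PrimeSpectrum.comap (algebraMap R (Localization.AtPrime p)) q).asIdeal ≤ p := by
  have := (IsLocalization.disjoint_under_iff p.primeCompl (Localization.AtPrime p)
    q.asIdeal).mpr q.2.ne_top
  intro x hx
  by_contra hxp
  exact Set.disjoint_left.mp this hxp hx

/-- `dim_{R_p} M_p + dim_R M/pM ≤ dim_R M` for a finite module `M` and a prime `p`. -/
theorem supportDim_localization_add_supportDim_quotient_le [Module.Finite R M] (p : Ideal R)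
    [p.IsPrime] :
    supportDim (Localization.AtPrime p) (LocalizedModule p.primeCompl M) +
      supportDim R (M ⧸ p • (⊤ : Submodule R M)) ≤ supportDim R M := by
  by_cases hp : (⟨p, inferInstance⟩ : PrimeSpectrum R) ∈ Module.support R M
  swap
  · have : Subsingleton (LocalizedModule p.primeCompl M) := by
      rw [Module.mem_support_iff, not_nontrivial_iff_subsingleton] at hp
      exact hp
    rw [supportDim_eq_bot_of_subsingleton, WithBot.bot_add]
    exact bot_le
  set a : Module.support R M := ⟨⟨p, inferInstance⟩, hp⟩ with ha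
  have : Nonempty (Module.support R M) := ⟨a⟩
  -- the localization part
  have h1 : supportDim (Localization.AtPrime p) (LocalizedModule p.primeCompl M) ≤
      ((Order.height a : ℕ∞) : WithBot ℕ∞) := by
    rw [Order.height_eq_krullDim_Iic]
    unfold supportDim
    refine Order.krullDim_le_of_strictMono
      (fun q ↦ (⟨⟨PrimeSpectrum.comap (algebraMap R (Localization.AtPrime p)) q.1,
        comap_mem_support_of_mem_support p M q.1 q.2⟩, comap_le_of_localization p q.1⟩ :
          Set.Iic a)) ?_
    intro q q' hqq'
    have hle : q.1 ≤ q'.1 := hqq'.le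
    have hne : q.1 ≠ q'.1 := fun h ↦ hqq'.ne (Subtype.ext h)
    refine lt_of_le_of_ne ?_ ?_
    · exact Ideal.comap_mono (f := algebraMap R (Localization.AtPrime p)) hle
    · intro h
      apply hne
      apply PrimeSpectrum.localization_comap_injective (Localization.AtPrime p) p.primeCompl
      have := congrArg (fun x : Set.Iic a ↦ x.1.1) h
      exact this
  -- the quotient part
  have h2 : supportDim R (M ⧸ p • (⊤ : Submodule R M)) ≤
      ((Order.coheight a : ℕ∞) : WithBot ℕ∞) := by
    have hsub : ∀ q ∈ Module.support R (M ⧸ p • (⊤ : Submodule R M)),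
        q ∈ Module.support R M ∧ p ≤ q.asIdeal := by
      intro q hq
      rw [Module.support_quotient, Set.mem_inter_iff, PrimeSpectrum.mem_zeroLocus] at hq
      exact hq
    rw [Order.coheight_eq_krullDim_Ici]
    unfold supportDim
    refine Order.krullDim_le_of_strictMono
      (fun q ↦ (⟨⟨q.1, (hsub q.1 q.2).1⟩, (hsub q.1 q.2).2⟩ : Set.Ici a)) ?_
    intro q q' hqq'
    exact hqq'
  calc _ ≤ ((Order.height a : ℕ∞) : WithBot ℕ∞) + ((Order.coheight a : ℕ∞) : WithBot ℕ∞) :=
        add_le_add h1 h2
    _ = ((Order.height a + Order.coheight a : ℕ∞) : WithBot ℕ∞) := by push_cast; rfl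
    _ ≤ supportDim R M := by
        unfold supportDim
        rw [Order.krullDim_eq_iSup_height_add_coheight_of_nonempty, WithBot.coe_le_coe]
        exact le_iSup (fun a : Module.support R M ↦ Order.height a + Order.coheight a) a

end general

variable {R : Type u} [CommRing R] [IsLocalRing R] [IsNoetherianRing R]
  {M : Type v} [AddCommGroup M] [Module R M] [Module.Finite R M]

/-- **Cohen–Macaulay modules localize**, and `dim M = dim M/pM + dim M_p`. -/
theorem isCM_localization [Small.{v} R] (h : IsCohenMacaulayModule R M) (p : PrimeSpectrum R)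
    (hp : p ∈ Module.support R M) :
    IsCohenMacaulayModule (Localization.AtPrime p.asIdeal)
        (LocalizedModule p.asIdeal.primeCompl M) ∧
      supportDim R M = supportDim R (M ⧸ p.asIdeal • (⊤ : Submodule R M)) +
        supportDim (Localization.AtPrime p.asIdeal) (LocalizedModule p.asIdeal.primeCompl M) := by
  have hnt := nontrivial_of_isCM h
  have hpm : p.asIdeal ≤ maximalIdeal R := le_maximalIdeal p.2.ne_top
  have hIM := smul_top_ne_top_of_le_maximalIdeal (M := M) hpm
  have hnt' : Nontrivial (M ⧸ p.asIdeal • (⊤ : Submodule R M)) :=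
    Submodule.Quotient.nontrivial_iff.mpr hIM
  have hntp : Nontrivial (LocalizedModule p.asIdeal.primeCompl M) := by
    rwa [Module.mem_support_iff] at hp
  obtain ⟨d, hd⟩ := exists_nat_supportDim (R := R) (M := M)
  obtain ⟨a, ha⟩ := exists_nat_supportDim (R := R) (M := M ⧸ p.asIdeal • (⊤ : Submodule R M))
  obtain ⟨b, hb⟩ := exists_nat_supportDim (R := Localization.AtPrime p.asIdeal)
    (M := LocalizedModule p.asIdeal.primeCompl M)
  obtain ⟨e, he⟩ := exists_nat_depth (R := Localization.AtPrime p.asIdeal)
    (M := LocalizedModule p.asIdeal.primeCompl M)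
  have hle := supportDim_localization_add_supportDim_quotient_le (M := M) p.asIdeal
  rw [hb, ha, hd] at hle
  have hle' : b + a ≤ d := by exact_mod_cast hle
  -- a regular sequence of length `d - a` in `p`
  have hda : a ≤ d := by omega
  obtain ⟨⟨xs, hlen, hmem, hreg⟩, -⟩ := exists_isWeaklyRegular_in_prime h p hp (d - a) (by
    rw [ha, hd]
    have : a + (d - a) = d := by omega
    exact_mod_cast this)
  -- it stays regular after localization
  have hreg' := hreg.of_isLocalizedModule (Localization.AtPrime p.asIdeal) p.asIdeal.primeCompl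
    (LocalizedModule.mkLinearMap p.asIdeal.primeCompl M)
  have hdepth : ((d - a : ℕ) : ℕ∞) ≤ depth (Localization.AtPrime p.asIdeal)
      (LocalizedModule p.asIdeal.primeCompl M) := by
    rw [natCast_le_depth_iff]
    refine ⟨xs.map (algebraMap R (Localization.AtPrime p.asIdeal)), by simp [hlen], ?_, hreg'⟩
    intro r hr
    obtain ⟨r', hr', rfl⟩ := List.mem_map.mp hr
    rw [IsLocalization.AtPrime.to_map_mem_maximal_iff (Localization.AtPrime p.asIdeal) p.asIdeal]
    exact hmem r' hr'
  have hdle := depth_le_supportDim (R := Localization.AtPrime p.asIdeal)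
    (LocalizedModule p.asIdeal.primeCompl M)
  rw [he] at hdepth
  rw [he, hb] at hdle
  have h1 : d - a ≤ e := by exact_mod_cast hdepth
  have h2 : e ≤ b := by exact_mod_cast hdle
  have hb' : b = d - a := by omega
  have he' : e = b := by omega
  constructor
  · rw [IsCohenMacaulayModule, hb, he, he']
    rfl
  · rw [hd, ha, hb]
    have : d = a + b := by omega
    exact_mod_cast this

end Groth.Agent.Lib.H8CM
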