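import Groth.Agent.Lib.H74QuotGr2
import Groth.Agent.Lib.H8Fin

set_option autoImplicit false
set_option linter.unusedSectionVars false
universe u

namespace Groth.Agent.Lib.H74QuotGr

open DirectSum PrimeSpectrum

section Support

variable {R : Type u} [CommRing R] (M : Type u) [AddCommGroup M] [Module R M] [Module.Finite R M]

/-- Height in the support of a finite module is height in `R ⧸ ann M`. -/
theorem orderHeight_support_eq (P : PrimeSpectrum R) (hP : P ∈ Module.support R M) :
    Order.height (⟨P, hP⟩ : Module.support R M) =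
      (P.asIdeal.map (Ideal.Quotient.mk (Module.annihilator R M))).height := by
  set I := Module.annihilator R M with hI
  have hsupp : Module.support R M = zeroLocus (I : Set R) := Module.support_eq_zeroLocus
  let e1 : Module.support R M ≃o zeroLocus (I : Set R) := OrderIso.setCongr _ _ hsupp
  let e2 : PrimeSpectrum (R ⧸ I) ≃o zeroLocus (I : Set R) :=
    Ideal.primeSpectrumQuotientOrderIsoZeroLocus I
  rw [← Order.height_orderIso e1, ← Order.height_orderIso e2.symm,
    ← PrimeSpectrum.height_eq_orderHeight]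
  rfl

end Support

section Main

variable {ι : Type} [AddCommGroup ι] [DecidableEq ι] [Module.Free ℤ ι] [Module.Finite ℤ ι]
variable {R : Type u} [CommRing R] [IsNoetherianRing R] (𝒜 : ι → AddSubgroup R) [GradedRing 𝒜]
variable {M : Type u} [AddCommGroup M] [Module R M] (ℳ : ι → AddSubgroup M)
  [Decomposition ℳ] [SetLike.GradedSMul 𝒜 ℳ] [Module.Finite R M]

/-- Height of `p/p*` computed in `(R/I)/(p*/I)`. -/
theorem height_map_doubleQuot {R : Type*} [CommRing R] {I c p : Ideal R} (hIc : I ≤ c) :
    ((p.map (Ideal.Quotient.mk I)).map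
      (Ideal.Quotient.mk (c.map (Ideal.Quotient.mk I)))).height =
      (p.map (Ideal.Quotient.mk c)).height := by
  have key : ((p.map (Ideal.Quotient.mk I)).map
      (Ideal.Quotient.mk (c.map (Ideal.Quotient.mk I)))).map
      (DoubleQuot.quotQuotEquivQuotOfLE hIc).toRingHom = p.map (Ideal.Quotient.mk c) := by
    rw [Ideal.map_map, Ideal.map_map]
    have h := DoubleQuot.quotQuotEquivQuotOfLE_comp_quotQuotMk hIc
    exact congrArg (fun f => Ideal.map f p) h
  rw [← key]
  exact (RingEquiv.height_map (DoubleQuot.quotQuotEquivQuotOfLE hIc) _).symm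

include ℳ in
theorem supportDim_eq_core_add (p : Ideal R) [p.IsPrime]
    [hc : (Ideal.homogeneousCore 𝒜 p).toIdeal.IsPrime] (d : ℕ)
    (hd : (p.map (Ideal.Quotient.mk (Ideal.homogeneousCore 𝒜 p).toIdeal)).height = d)
    (hsupp : Nontrivial (LocalizedModule p.primeCompl M)) :
    Module.supportDim (Localization.AtPrime p) (LocalizedModule p.primeCompl M) =
      Module.supportDim (Localization.AtPrime (Ideal.homogeneousCore 𝒜 p).toIdeal)
        (LocalizedModule (Ideal.homogeneousCore 𝒜 p).toIdeal.primeCompl M) + (d : WithBot ℕ∞) := by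
  set c : Ideal R := (Ideal.homogeneousCore 𝒜 p).toIdeal with hcdef
  set I : Ideal R := Module.annihilator R M with hIdef
  have hI : I.IsHomogeneous 𝒜 := isHomogeneous_annihilator 𝒜 ℳ
  have hP : (⟨p, inferInstance⟩ : PrimeSpectrum R) ∈ Module.support R M :=
    Module.mem_support_iff.mpr hsupp
  have hIp : I ≤ p := by
    rw [Module.support_eq_zeroLocus, mem_zeroLocus] at hP
    exact hP
  have hIc : I ≤ c := by
    rw [← hI.toIdeal_homogeneousCore_eq_self]
    exact Ideal.homogeneousCore_mono 𝒜 hIp
  have hC : (⟨c, hc⟩ : PrimeSpectrum R) ∈ Module.support R M := by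
    rw [Module.support_eq_zeroLocus, mem_zeroLocus]
    exact hIc
  rw [Groth.Agent.Lib.H8Fin.supportDim_localization_eq_height p M hP,
    Groth.Agent.Lib.H8Fin.supportDim_localization_eq_height c M hC,
    orderHeight_support_eq M _ hP, orderHeight_support_eq M _ hC]
  show (((p.map (Ideal.Quotient.mk I)).height : ℕ∞) : WithBot ℕ∞) =
    (((c.map (Ideal.Quotient.mk I)).height : ℕ∞) : WithBot ℕ∞) + (d : WithBot ℕ∞)
  let _ : GradedRing (quotPiece 𝒜 I) := quotGradedRing 𝒜 hI
  have hpbar : (p.map (Ideal.Quotient.mk I)).IsPrime :=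
    Groth.Agent.Lib.H74Core.isPrime_map_mk I p hIp
  obtain ⟨-, hh⟩ := Groth.Agent.Lib.H74Core.isPrime_core_and_height_eq (quotPiece 𝒜 I)
    (p.map (Ideal.Quotient.mk I))
  rw [core_map_mk 𝒜 I p hIp, height_map_doubleQuot hIc, hd] at hh
  rw [hh, WithBot.coe_add]
  rfl

end Main

end Groth.Agent.Lib.H74QuotGr
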