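import Groth.Agent.Lib.GrCMTorsion20
import Groth.Agent.Lib.H8CM10
import Groth.Agent.Lib.H8LocTrans
import Groth.Agent.Lib.H8CM4
import Groth.Agent.Lib.H8CM6
import Groth.Agent.Lib.GrLCBridge
import Groth.Agent.S13232
import Groth.Agent.S13234

/-!
# The graded Cohen–Macaulay criterion (helper12)

For a finitely generated graded module `M` of dimension `n` over a positively graded `k`-algebra of
finite type `R` with `R_0 = k`: every localization of `M` is zero or Cohen–Macaulay iff
`grade(R_+, M) ≥ n`.
-/

set_option autoImplicit false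
set_option linter.unusedSectionVars false
set_option linter.style.haveILetI false
universe u

namespace Groth.Agent.Lib.GrCMCrit

open DirectSum LocCoh Module Groth.Agent.Lib.GrNoether20 Groth.Agent.Lib.GrNoetherMod20
  Groth.Agent.Lib.GrCMTorsion20 Groth.Agent.Lib.GrLCBridge Groth.Agent.Lib.H8CM
  Groth.Agent.Lib.H8LocTrans

section Local

variable {R : Type u} [CommRing R] [IsNoetherianRing R]
  {M : Type u} [AddCommGroup M] [Module R M] [Module.Finite R M]

theorem isCM_congr_ideal {p p' : Ideal R} [p.IsPrime] [p'.IsPrime] (h : p = p') :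
    IsCohenMacaulayModule (Localization.AtPrime p) (LocalizedModule p.primeCompl M) ↔
      IsCohenMacaulayModule (Localization.AtPrime p') (LocalizedModule p'.primeCompl M) := by
  subst h
  rfl

theorem nontrivial_congr_ideal {p p' : Ideal R} [p.IsPrime] [p'.IsPrime] (h : p = p') :
    Nontrivial (LocalizedModule p.primeCompl M) ↔
      Nontrivial (LocalizedModule p'.primeCompl M) := by
  subst h
  rfl

/-- Cohen–Macaulayness at a prime passes to smaller primes in the support. -/
theorem isCM_of_le (m : Ideal R) [m.IsPrime]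
    (hm : IsCohenMacaulayModule (Localization.AtPrime m) (LocalizedModule m.primeCompl M))
    (p : Ideal R) [hp : p.IsPrime] (hpm : p ≤ m)
    (hnt : Nontrivial (LocalizedModule p.primeCompl M)) :
    IsCohenMacaulayModule (Localization.AtPrime p) (LocalizedModule p.primeCompl M) := by
  have hdisj : Disjoint (m.primeCompl : Set R) (p : Set R) := by
    rw [Set.disjoint_left]
    intro x hx hxp
    exact hx (hpm hxp)
  let Q : Ideal (Localization.AtPrime m) := p.map (algebraMap R (Localization.AtPrime m))
  have hQ : Q.IsPrime :=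
    IsLocalization.isPrime_of_isPrime_disjoint m.primeCompl (Localization.AtPrime m) p hp hdisj
  have hcomap : Q.comap (algebraMap R (Localization.AtPrime m)) = p :=
    IsLocalization.under_map_of_isPrime_disjoint m.primeCompl (Localization.AtPrime m) hp hdisj
  have hd := depth_double m.primeCompl (Localization.AtPrime m)
    (LocalizedModule.mkLinearMap m.primeCompl M) Q
  have hs := supportDim_double m.primeCompl (Localization.AtPrime m)
    (LocalizedModule.mkLinearMap m.primeCompl M) Q
  have hnt' : Nontrivial (LocalizedModule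
      (Q.comap (algebraMap R (Localization.AtPrime m))).primeCompl M) :=
    (nontrivial_congr_ideal hcomap).2 hnt
  have hntQ : Nontrivial (LocalizedModule Q.primeCompl (LocalizedModule m.primeCompl M)) := by
    by_contra hcon
    rw [not_nontrivial_iff_subsingleton] at hcon
    have h1 : supportDim (Localization.AtPrime Q)
        (LocalizedModule Q.primeCompl (LocalizedModule m.primeCompl M)) = ⊥ :=
      Module.supportDim_eq_bot_of_subsingleton _ _
    rw [hs] at h1
    exact Module.supportDim_ne_bot_of_nontrivial _ _ h1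
  have hQs : (⟨Q, hQ⟩ : PrimeSpectrum (Localization.AtPrime m)) ∈
      Module.support (Localization.AtPrime m) (LocalizedModule m.primeCompl M) := by
    rw [Module.mem_support_iff]; exact hntQ
  have hcm := (isCM_localization hm ⟨Q, hQ⟩ hQs).1
  rw [← isCM_congr_ideal hcomap]
  unfold IsCohenMacaulayModule at hcm ⊢
  rw [← hs, ← hd]
  exact hcm

end Local

section Graded

variable {k : Type u} [Field k] {R : Type u} [CommRing R] [Algebra k R] (𝒜 : ℤ → Submodule k R)
  [GradedAlgebra 𝒜] (hpos : ∀ n : ℤ, n < 0 → 𝒜 n = ⊥) (h0 : 𝒜 0 = Submodule.span k {(1 : R)})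
  [Algebra.FiniteType k R]
variable {M : Type u} [AddCommGroup M] [Module R M] (ℳ : ℤ → AddSubgroup M) [Decomposition ℳ]
  [SetLike.GradedSMul 𝒜 ℳ] [Module.Finite R M]

/-- Every localization is zero or Cohen–Macaulay. -/
def IsCMAll (R : Type u) [CommRing R] (M : Type u) [AddCommGroup M] [Module R M] : Prop :=
  ∀ (q : Ideal R) [q.IsPrime], Subsingleton (LocalizedModule q.primeCompl M) ∨
    IsCohenMacaulayModule (Localization.AtPrime q) (LocalizedModule q.primeCompl M)

theorem depth_congr_ideal {R : Type u} [CommRing R] {M : Type u} [AddCommGroup M] [Module R M]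
    {p p' : Ideal R} [p.IsPrime] [p'.IsPrime] (h : p = p') :
    depth (Localization.AtPrime p) (LocalizedModule p.primeCompl M) =
      depth (Localization.AtPrime p') (LocalizedModule p'.primeCompl M) := by
  subst h
  rfl

include hpos h0 ℳ in
/-- **Graded CM ⟹ grade of the irrelevant ideal is the dimension.** -/
theorem idealDepth_irr_eq_of_isCMAll [Nontrivial M] (hcm : IsCMAll R M) {n : ℕ}
    (hdim : supportDim R M = n) : idealDepth (irr 𝒜) M = n := by
  haveI : Nontrivial R := Module.nontrivial R M
  have hmax : (irr 𝒜).IsMaximal := irr_isMaximal 𝒜 hpos h0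
  haveI hp : (irr 𝒜).IsPrime := hmax.isPrime
  haveI : IsNoetherianRing R := Algebra.FiniteType.isNoetherianRing k R
  have hsupp := irr_mem_support 𝒜 hpos h0 ℳ (hp := hp)
  have hnt : Nontrivial (LocalizedModule (irr 𝒜).primeCompl M) := Module.mem_support_iff.1 hsupp
  have hCM := (hcm (irr 𝒜)).resolve_left (not_subsingleton _)
  have hsd := supportDim_localization_irr 𝒜 hpos h0 ℳ hdim
  have hdep : depth (Localization.AtPrime (irr 𝒜)) (LocalizedModule (irr 𝒜).primeCompl M) = n := by
    unfold IsCohenMacaulayModule at hCM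
    rw [hsd] at hCM
    have h' : ((n : ℕ∞) : WithBot ℕ∞) = ((depth (Localization.AtPrime (irr 𝒜))
        (LocalizedModule (irr 𝒜).primeCompl M) : ℕ∞) : WithBot ℕ∞) := by
      exact_mod_cast hCM
    exact (WithBot.coe_injective h').symm
  rw [idealDepth_eq_iInf_depth_localizedModule]
  apply le_antisymm
  · calc _ ≤ depth (Localization.AtPrime (irr 𝒜)) (LocalizedModule (irr 𝒜).primeCompl M) :=
          iInf₂_le (⟨irr 𝒜, hp⟩ : PrimeSpectrum R) le_rfl
      _ = n := hdep
  · refine le_iInf₂ fun p hpI => ?_
    have hpe : p.asIdeal = irr 𝒜 := (hmax.eq_of_le p.2.ne_top hpI).symm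
    rw [depth_congr_ideal hpe, hdep]

include hpos h0 ℳ in
/-- **Grade of the irrelevant ideal ≥ dimension ⟹ graded CM.** -/
theorem isCMAll_of_le_idealDepth [Nontrivial M] {n : ℕ} (hdim : supportDim R M = n)
    (hd : (n : ℕ∞) ≤ idealDepth (irr 𝒜) M) : IsCMAll R M := by
  haveI : Nontrivial R := Module.nontrivial R M
  have hmax : (irr 𝒜).IsMaximal := irr_isMaximal 𝒜 hpos h0
  haveI hp : (irr 𝒜).IsPrime := hmax.isPrime
  haveI : IsNoetherianRing R := Algebra.FiniteType.isNoetherianRing k R
  have hsupp := irr_mem_support 𝒜 hpos h0 ℳ (hp := hp)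
  have hnt : Nontrivial (LocalizedModule (irr 𝒜).primeCompl M) := Module.mem_support_iff.1 hsupp
  have hsd := supportDim_localization_irr 𝒜 hpos h0 ℳ hdim
  have h1 : idealDepth (irr 𝒜) M ≤
      depth (Localization.AtPrime (irr 𝒜)) (LocalizedModule (irr 𝒜).primeCompl M) := by
    rw [idealDepth_eq_iInf_depth_localizedModule]
    exact iInf₂_le (⟨irr 𝒜, hp⟩ : PrimeSpectrum R) le_rfl
  have h2 := Groth.Agent.Lib.DepthRees.depth_le_supportDim
    (R := Localization.AtPrime (irr 𝒜)) (LocalizedModule (irr 𝒜).primeCompl M)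
  have hCMm : IsCohenMacaulayModule (Localization.AtPrime (irr 𝒜))
      (LocalizedModule (irr 𝒜).primeCompl M) := by
    unfold IsCohenMacaulayModule
    apply le_antisymm
    · rw [hsd]
      have : ((n : ℕ∞) : WithBot ℕ∞) ≤ ((depth (Localization.AtPrime (irr 𝒜))
          (LocalizedModule (irr 𝒜).primeCompl M) : ℕ∞) : WithBot ℕ∞) :=
        WithBot.coe_le_coe.2 (hd.trans h1)
      exact_mod_cast this
    · exact h2
  intro q hq
  by_cases hntq : Nontrivial (LocalizedModule q.primeCompl M)
  swap
  · left; exact not_nontrivial_iff_subsingleton.1 hntq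
  right
  haveI hpp : (Ideal.homogeneousCore (asGr 𝒜) q).toIdeal.IsPrime :=
    Ideal.IsPrime.homogeneousCore hq
  have hhom : (Ideal.homogeneousCore (asGr 𝒜) q).toIdeal.IsHomogeneous 𝒜 := by
    intro i r hr
    exact (Ideal.homogeneousCore (asGr 𝒜) q).isHomogeneous i hr
  have hple : (Ideal.homogeneousCore (asGr 𝒜) q).toIdeal ≤ irr 𝒜 :=
    le_irr 𝒜 hpos h0 hhom hpp.ne_top
  have hne : q.map (Ideal.Quotient.mk (Ideal.homogeneousCore (asGr 𝒜) q).toIdeal) ≠ ⊤ := by
    intro htop
    have h3 := congrArg (Ideal.comap (Ideal.Quotient.mk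
      (Ideal.homogeneousCore (asGr 𝒜) q).toIdeal)) htop
    rw [Ideal.comap_map_of_surjective _ Ideal.Quotient.mk_surjective, Ideal.comap_top,
      ← RingHom.ker_eq_comap_bot, Ideal.mk_ker,
      sup_eq_left.2 (Ideal.toIdeal_homogeneousCore_le (asGr 𝒜) q)] at h3
    exact hq.ne_top h3
  obtain ⟨d, hd'⟩ := ENat.ne_top_iff_exists.1 (Ideal.height_ne_top hne)
  have e1 := Groth.Agent.S13232.result R (asGr 𝒜) M ℳ q d hd'.symm hntq
  have e2 := Groth.Agent.S13234.result R (asGr 𝒜) M ℳ q d hd'.symm
  by_cases hntp : Nontrivial (LocalizedModule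
      (Ideal.homogeneousCore (asGr 𝒜) q).toIdeal.primeCompl M)
  · have hcmp := isCM_of_le (irr 𝒜) hCMm (Ideal.homogeneousCore (asGr 𝒜) q).toIdeal hple hntp
    unfold IsCohenMacaulayModule at hcmp ⊢
    rw [e1, e2, hcmp]
    push_cast
    rfl
  · exfalso
    rw [not_nontrivial_iff_subsingleton] at hntp
    have hb : supportDim (Localization.AtPrime (Ideal.homogeneousCore (asGr 𝒜) q).toIdeal)
        (LocalizedModule (Ideal.homogeneousCore (asGr 𝒜) q).toIdeal.primeCompl M) = ⊥ :=
      Module.supportDim_eq_bot_of_subsingleton _ _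
    rw [hb, WithBot.bot_add] at e1
    exact Module.supportDim_ne_bot_of_nontrivial _ _ e1

end Graded

end Groth.Agent.Lib.GrCMCrit
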