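import Groth.Agent.Lib.GrLCLES
import Groth.Agent.S13215

/-!
# Graded free modules of finite rank and their graded local cohomology (helper12)

For a graded ring `𝒜 : ι → AddSubgroup R` and degrees `deg : Fin m → ι`:

* `freeGr 𝒜 deg` : the grading of `Fin m → R` in which the `b`-th basis vector has degree
  `deg b` (`v ∈ freeGr 𝒜 deg e ↔ ∀ b, v b ∈ 𝒜 (e - deg b)`), with `Decomposition` and
  `GradedSMul` instances (`⨁_b R(-deg b)`);
* `H_eq_zero_of_subsingleton` : the zero module has no local cohomology;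
* `Hcomp_free_eq_bot` : `H^i_a(⨁ R(-deg b))_e = 0` as soon as `H^i_a(R)_{e - deg b} = 0` for all
  `b`.
-/

set_option autoImplicit false
set_option linter.unusedSectionVars false
universe u

namespace Groth.Agent.Lib.GrLCFree

open DirectSum GrLC Groth.Agent.Lib.H87GrMod Groth.Agent.Lib.H87GrMod2
  Groth.Agent.S18662 Groth.Agent.S18661 Groth.Agent.Lib.GrLCMap Groth.Agent.Lib.GrLCLES

variable {ι : Type} [AddCommGroup ι] [DecidableEq ι]
variable {R : Type u} [CommRing R] (𝒜 : ι → AddSubgroup R) [GradedRing 𝒜]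

section Free

variable {m : ℕ} (deg : Fin m → ι)

/-- The grading of the free module `Fin m → R` with basis vectors in degrees `deg b`. -/
def freeGr : ι → AddSubgroup (Fin m → R) := fun e =>
  { carrier := {v | ∀ b, v b ∈ 𝒜 (e - deg b)}
    zero_mem' := fun _ => zero_mem _
    add_mem' := fun hv hw b => add_mem (hv b) (hw b)
    neg_mem' := fun hv b => neg_mem (hv b) }

theorem mem_freeGr {e : ι} {v : Fin m → R} : v ∈ freeGr 𝒜 deg e ↔ ∀ b, v b ∈ 𝒜 (e - deg b) :=
  Iff.rfl

theorem single_mem_freeGr (b : Fin m) {e : ι} {r : R} (hr : r ∈ 𝒜 e) :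
    Pi.single b r ∈ freeGr 𝒜 deg (e + deg b) := by
  intro b'
  by_cases h : b' = b
  · subst h
    rw [Pi.single_eq_same, add_sub_cancel_right]
    exact hr
  · rw [Pi.single_eq_of_ne h]
    exact zero_mem _

/-- The piece inclusion `R_e → F_{e + deg b}`. -/
def singlePiece (b : Fin m) (e : ι) : 𝒜 e →+ freeGr 𝒜 deg (e + deg b) where
  toFun r := ⟨Pi.single b (r : R), single_mem_freeGr 𝒜 deg b r.2⟩
  map_zero' := Subtype.ext (by simp)
  map_add' r s := Subtype.ext (by simp [Pi.single_add])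

/-- The decomposition of the `b`-th coordinate. -/
noncomputable def decB (b : Fin m) : R →+ ⨁ e, freeGr 𝒜 deg e :=
  (DirectSum.toAddMonoid (fun e =>
    (DirectSum.of (fun e => freeGr 𝒜 deg e) (e + deg b)).comp (singlePiece 𝒜 deg b e))).comp
    (decomposeAddEquiv 𝒜).toAddMonoidHom

theorem decB_of_mem (b : Fin m) {e : ι} {r : R} (hr : r ∈ 𝒜 e) :
    decB 𝒜 deg b r = DirectSum.of (fun e => freeGr 𝒜 deg e) (e + deg b)
      ⟨Pi.single b r, single_mem_freeGr 𝒜 deg b hr⟩ := by
  unfold decB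
  rw [AddMonoidHom.comp_apply]
  have : (decomposeAddEquiv 𝒜).toAddMonoidHom r = DirectSum.of (fun e => 𝒜 e) e ⟨r, hr⟩ :=
    DirectSum.decompose_of_mem 𝒜 hr
  rw [this, DirectSum.toAddMonoid_of]
  rfl

theorem coe_decB (b : Fin m) (r : R) :
    DirectSum.coeAddMonoidHom (freeGr 𝒜 deg) (decB 𝒜 deg b r) = Pi.single b r := by
  induction r using Decomposition.inductionOn 𝒜 with
  | zero => rw [map_zero, map_zero, Pi.single_zero]
  | @homogeneous e r => rw [decB_of_mem 𝒜 deg b r.2, DirectSum.coeAddMonoidHom_of]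
  | add r r' hr hr' => rw [map_add, map_add, hr, hr', Pi.single_add]

theorem of_congr {𝒢 : ι → AddSubgroup (Fin m → R)} {e₁ e₂ : ι} (h : e₁ = e₂) (x : Fin m → R)
    (h₁ : x ∈ 𝒢 e₁) (h₂ : x ∈ 𝒢 e₂) :
    DirectSum.of (fun e => 𝒢 e) e₁ ⟨x, h₁⟩ = DirectSum.of (fun e => 𝒢 e) e₂ ⟨x, h₂⟩ := by
  subst h
  rfl

/-- The decomposition map of the free module. -/
noncomputable def decFree : (Fin m → R) →+ ⨁ e, freeGr 𝒜 deg e :=
  ∑ b, (decB 𝒜 deg b).comp (Pi.evalAddMonoidHom (fun _ => R) b)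

theorem decFree_apply (v : Fin m → R) : decFree 𝒜 deg v = ∑ b, decB 𝒜 deg b (v b) := by
  unfold decFree
  rw [AddMonoidHom.finsetSum_apply]
  rfl

noncomputable instance freeDecomposition : Decomposition (freeGr 𝒜 deg) :=
  Decomposition.ofAddHom (freeGr 𝒜 deg) (decFree 𝒜 deg)
    (by
      apply AddMonoidHom.ext
      intro v
      rw [AddMonoidHom.comp_apply, decFree_apply, map_sum]
      simp_rw [coe_decB]
      exact Finset.univ_sum_single v)
    (by
      refine DirectSum.addHom_ext (fun e w => ?_)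
      obtain ⟨v, hv⟩ := w
      rw [AddMonoidHom.comp_apply, DirectSum.coeAddMonoidHom_of, decFree_apply,
        AddMonoidHom.id_apply]
      have h1 : ∀ b, decB 𝒜 deg b (v b) = DirectSum.of (fun e => freeGr 𝒜 deg e) e
          ⟨Pi.single b (v b), by
            have := single_mem_freeGr 𝒜 deg b (hv b)
            rwa [sub_add_cancel] at this⟩ := by
        intro b
        rw [decB_of_mem 𝒜 deg b (hv b)]
        exact of_congr (sub_add_cancel e (deg b)) _ _ _
      simp_rw [h1]
      rw [← map_sum]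
      refine congrArg _ (Subtype.ext ?_)
      rw [AddSubmonoidClass.coe_finsetSum]
      exact Finset.univ_sum_single v)

instance freeGradedSMul : SetLike.GradedSMul 𝒜 (freeGr 𝒜 deg) where
  smul_mem := by
    intro i e r v hr hv b
    have := SetLike.GradedMul.mul_mem (A := 𝒜) hr (hv b)
    rw [vadd_eq_add, add_sub_assoc]
    exact this

end Free

section Zero

variable {𝒜}
variable {M : Type u} [AddCommGroup M] [Module R M] {ℳ : ι → AddSubgroup M}
  [Decomposition ℳ] [SetLike.GradedSMul 𝒜 ℳ]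
variable {N : Type u} [AddCommGroup N] [Module R N] {𝒩 : ι → AddSubgroup N}
  [Decomposition 𝒩] [SetLike.GradedSMul 𝒜 𝒩]

theorem isLift_zero (E : StarInjRes 𝒜 ℳ) (E' : StarInjRes 𝒜 𝒩) (δ : ι) :
    IsLift E E' (0 : M →ₗ[R] N) δ (fun _ => 0) where
  comm n x := by simp
  deg n := fun _ _ _ => zero_mem _
  aug m := by simp

/-- The zero map induces the zero map. -/
theorem Hmap_zero (E : StarInjRes 𝒜 ℳ) (E' : StarInjRes 𝒜 𝒩) (a : HomogeneousIdeal 𝒜) (δ : ι)
    (h : IsGrHomDeg ℳ 𝒩 (0 : M →ₗ[R] N) δ) (i : ℕ) (x : E.H a i) : Hmap E E' a h i x = 0 := by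
  rw [Hmap_eq E E' a h (isLift_zero E E' δ)]
  obtain ⟨z, rfl⟩ := toH_surjective E a i x
  rw [HmapOf_toH]
  have : cocycMap (isLift_zero E E' δ).toIsChain a i z = 0 := Subtype.ext rfl
  rw [this, map_zero]

/-- The zero module has no graded local cohomology. -/
theorem H_eq_zero_of_subsingleton [Subsingleton M] (E : StarInjRes 𝒜 ℳ) (a : HomogeneousIdeal 𝒜)
    (i : ℕ) (x : E.H a i) : x = 0 := by
  have h0 : (LinearMap.id : M →ₗ[R] M) = 0 := LinearMap.ext fun m => Subsingleton.elim _ _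
  have h1 := Hmap_id E a isGrHomDeg_id i x
  have h2 : ∀ (f : M →ₗ[R] M) (hf : IsGrHomDeg ℳ ℳ f 0), f = 0 → Hmap E E a hf i x = 0 := by
    intro f hf hf0
    subst hf0
    exact Hmap_zero E E a 0 hf i x
  rw [← h1]
  exact h2 _ _ h0

theorem Hcomp_eq_bot_of_subsingleton [Subsingleton M] (E : StarInjRes 𝒜 ℳ)
    (a : HomogeneousIdeal 𝒜) (i : ℕ) (e : ι) : E.Hcomp a i e = ⊥ := by
  rw [Hcomp_eq_bot_iff_forall_mem]
  intro x _
  exact H_eq_zero_of_subsingleton E a i x

end Zero

section FreeVanish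

variable {𝒜}

/-- `H^i_a(⨁_b R(-deg b))_e = 0` as soon as `H^i_a(R)_{e - deg b} = 0` for all `b`. -/
theorem Hcomp_free_eq_bot (ES : StarInjRes 𝒜 𝒜) (a : HomogeneousIdeal 𝒜) (i : ℕ) :
    ∀ (m : ℕ) (deg : Fin m → ι) (E : StarInjRes 𝒜 (freeGr 𝒜 deg)) (e : ι),
      (∀ b, ES.Hcomp a i (e - deg b) = ⊥) → E.Hcomp a i e = ⊥ := by
  intro m
  induction m with
  | zero =>
    intro deg E e _
    exact Hcomp_eq_bot_of_subsingleton E a i e
  | succ m ih =>
    intro deg E e h
    let f : R →ₗ[R] (Fin (m + 1) → R) := LinearMap.single R (fun _ => R) 0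
    let g : (Fin (m + 1) → R) →ₗ[R] (Fin m → R) := LinearMap.funLeft R R Fin.succ
    have hf : IsGrHomDeg 𝒜 (freeGr 𝒜 deg) f (deg 0) := fun e' r hr =>
      single_mem_freeGr 𝒜 deg 0 hr
    have hg : IsGrHomDeg (freeGr 𝒜 deg) (freeGr 𝒜 (deg ∘ Fin.succ)) g 0 := by
      intro e' v hv b
      rw [add_zero]
      exact hv b.succ
    have hinj : Function.Injective f := by
      intro r r' hrr
      have := congrFun hrr 0
      simpa [f] using this
    have hsurj : Function.Surjective g := by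
      intro w
      refine ⟨Fin.cons 0 w, ?_⟩
      ext b
      simp [g, LinearMap.funLeft_apply]
    have hex : LinearMap.ker g = LinearMap.range f := by
      ext v
      constructor
      · intro hv
        refine ⟨v 0, ?_⟩
        ext b
        refine Fin.cases ?_ (fun b' => ?_) b
        · simp [f]
        · have h1 : g v b' = 0 := by
            rw [LinearMap.mem_ker.mp hv]
            rfl
          have h2 : v b'.succ = 0 := h1
          simp [f, h2, Fin.succ_ne_zero]
      · rintro ⟨r, rfl⟩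
        rw [LinearMap.mem_ker]
        ext b
        simp [f, g, LinearMap.funLeft_apply, Fin.succ_ne_zero]
    let Et : StarInjRes 𝒜 (freeGr 𝒜 (deg ∘ Fin.succ)) :=
      Groth.Agent.S13215.res (freeGr 𝒜 (deg ∘ Fin.succ))
    have h3 : Et.Hcomp a i (e - deg 0 + deg 0) = ⊥ := by
      rw [sub_add_cancel]
      exact ih (deg ∘ Fin.succ) Et e (fun b => h b.succ)
    have h4 := Hcomp_eq_bot_mid ES E Et a hf hg hinj hsurj hex i (e - deg 0) (h 0) h3
    rwa [sub_add_cancel] at h4

end FreeVanish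

end Groth.Agent.Lib.GrLCFree
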