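import Groth.Agent.Lib.GrLCQReg

/-!
# Graded local cohomology along a regular sequence of linear forms (helper12)

Setting: `𝒜 : ℤ → AddSubgroup R` a Noetherian graded ring, `a` a homogeneous ideal.

* `Hcomp_zero_eq_bot_iff` : `H^0_a(M)_e = 0` iff `Γ_a(M) ∩ M_e = 0`;
* `exists_homog_preimage`, `exists_desc` : small tools;
* `Conc a 𝒬 t` : for every resolution, `H^i_a(Q)_e ≠ 0` only for `i = t`, `e ≤ -t`, and
  `H^t_a(Q)_{-t} ≠ 0`;
* `conc_zero` : the base case (a module killed by `a`, concentrated in degrees `≤ 0`, nonzero in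
  degree `0`);
* `conc_succ` : if `x ∈ 𝒜 1 ∩ a` is `M`-regular and `N = M/xM` satisfies `Conc a 𝒩 t` then
  `Conc a ℳ (t + 1)`.
-/

set_option autoImplicit false
set_option linter.unusedSectionVars false
universe u

namespace Groth.Agent.Lib.GrLCConc

open DirectSum GrLC Groth.Agent.Lib.H87GrMod Groth.Agent.Lib.H87GrMod2
  Groth.Agent.Lib.H87GrShift Groth.Agent.S18662 Groth.Agent.S18661 Groth.Agent.Lib.GrLCMap
  Groth.Agent.Lib.GrLCLES Groth.Agent.Lib.GrLCQReg

section General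

variable {ι : Type} [AddCommGroup ι] [DecidableEq ι]
variable {R : Type u} [CommRing R] {𝒜 : ι → AddSubgroup R} [GradedRing 𝒜]
variable {M : Type u} [AddCommGroup M] [Module R M] {ℳ : ι → AddSubgroup M}
  [Decomposition ℳ] [SetLike.GradedSMul 𝒜 ℳ]
variable {N : Type u} [AddCommGroup N] [Module R N] {𝒩 : ι → AddSubgroup N}
  [Decomposition 𝒩] [SetLike.GradedSMul 𝒜 𝒩]

/-- `H^0_a(M)_e` vanishes iff `Γ_a(M)` has no nonzero element of degree `e`. -/
theorem Hcomp_zero_eq_bot_iff (E : StarInjRes 𝒜 ℳ) (a : HomogeneousIdeal 𝒜) (e : ι) :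
    E.Hcomp a 0 e = ⊥ ↔ ∀ m ∈ ℳ e, m ∈ gam a.toIdeal M → m = 0 := by
  constructor
  · intro h m hm hmg
    rw [Hcomp_eq_bot_iff_forall] at h
    have hz : E.ε m ∈ E.cocyc a 0 := ⟨map_mem_gam E.ε hmg, d_comp_ε E m⟩
    have h1 := h ⟨E.ε m, hz⟩ (E.ε_grHom e m hm)
    rw [toH_eq_zero_iff_zero] at h1
    have h1' : E.ε m = 0 := h1
    exact E.ε_injective (by rw [h1', map_zero])
  · intro h
    rw [Hcomp_eq_bot_iff_forall]
    rintro ⟨z, hzg, hzd⟩ hze
    rw [toH_eq_zero_iff_zero]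
    show z = 0
    have hzr : z ∈ LinearMap.range E.ε := by rw [← E.exact_zero]; exact hzd
    obtain ⟨m, rfl⟩ := hzr
    have hze' : E.ε m ∈ (E.X 0).gr e := hze
    have h1 : E.ε (decompose ℳ m e : M) = E.ε m := by
      rw [← decompose_map ℳ (E.X 0).gr E.ε_grHom, decompose_of_mem_same (E.X 0).gr hze']
    have h2 : (decompose ℳ m e : M) = m := E.ε_injective h1
    have hm : m ∈ ℳ e := by rw [← h2]; exact (decompose ℳ m e).2
    have hmg : m ∈ gam a.toIdeal M := by
      obtain ⟨n, hn⟩ := hzg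
      refine ⟨n, fun r hr => E.ε_injective ?_⟩
      rw [map_smul, hn r hr, map_zero]
    rw [h m hm hmg, map_zero]

/-- A homogeneous element in the range of a surjective homogeneous map has a homogeneous
preimage. -/
theorem exists_homog_preimage {q : M →ₗ[R] N} (hq : IsGrHom ℳ 𝒩 q)
    (hsurj : Function.Surjective q) {e : ι} {y : N} (hy : y ∈ 𝒩 e) : ∃ m ∈ ℳ e, q m = y := by
  obtain ⟨m, rfl⟩ := hsurj y
  refine ⟨(decompose ℳ m e : M), (decompose ℳ m e).2, ?_⟩
  rw [← decompose_map ℳ 𝒩 hq, decompose_of_mem_same 𝒩 hy]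

/-- Descent of a linear map along a surjection. -/
theorem exists_desc {A B C : Type u} [AddCommGroup A] [Module R A] [AddCommGroup B] [Module R B]
    [AddCommGroup C] [Module R C] (q : A →ₗ[R] B) (hq : Function.Surjective q) (g : A →ₗ[R] C)
    (h : LinearMap.ker q ≤ LinearMap.ker g) : ∃ h' : B →ₗ[R] C, ∀ x, h' (q x) = g x := by
  refine ⟨(LinearMap.ker q).liftQ g h ∘ₗ (q.quotKerEquivOfSurjective hq).symm.toLinearMap, ?_⟩
  intro x
  rw [LinearMap.comp_apply]
  have : (q.quotKerEquivOfSurjective hq).symm (q x) = (LinearMap.ker q).mkQ x := by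
    rw [LinearEquiv.symm_apply_eq]
    rfl
  rw [LinearEquiv.coe_coe, this]
  rfl

end General

section Int

variable {R : Type u} [CommRing R] [IsNoetherianRing R] {𝒜 : ℤ → AddSubgroup R} [GradedRing 𝒜]
variable {M : Type u} [AddCommGroup M] [Module R M] {ℳ : ℤ → AddSubgroup M}
  [Decomposition ℳ] [SetLike.GradedSMul 𝒜 ℳ]
variable {N : Type u} [AddCommGroup N] [Module R N] {𝒩 : ℤ → AddSubgroup N}
  [Decomposition 𝒩] [SetLike.GradedSMul 𝒜 𝒩]

/-- The graded local cohomology of `Q` is concentrated in cohomological degree `t`, its pieces of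
degree `> -t` vanish and the piece of degree `-t` does not. -/
def Conc (a : HomogeneousIdeal 𝒜) {Q : Type u} [AddCommGroup Q] [Module R Q]
    (𝒬 : ℤ → AddSubgroup Q) [Decomposition 𝒬] [SetLike.GradedSMul 𝒜 𝒬] (t : ℕ) : Prop :=
  ∀ E : StarInjRes 𝒜 𝒬, (∀ (i : ℕ) (e : ℤ), E.Hcomp a i e ≠ ⊥ → i = t ∧ e ≤ -(t : ℤ)) ∧
    E.Hcomp a t (-(t : ℤ)) ≠ ⊥

/-- Base case: a module killed by `a`, zero in positive degrees, nonzero in degree zero. -/
theorem conc_zero (a : HomogeneousIdeal 𝒜) (hkill : ∀ r ∈ a.toIdeal, ∀ m : M, r • m = 0)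
    (hpos : ∀ e : ℤ, 0 < e → ℳ e = ⊥) (h0 : ℳ 0 ≠ ⊥) : Conc a ℳ 0 := by
  intro E
  have htop : gam a.toIdeal M = ⊤ := by
    rw [eq_top_iff]
    intro m _
    exact ⟨1, fun r hr => hkill r (by rwa [pow_one] at hr) m⟩
  constructor
  · intro i e hne
    rcases Nat.eq_zero_or_pos i with rfl | hi
    · refine ⟨rfl, ?_⟩
      by_contra hlt
      apply hne
      rw [Hcomp_zero_eq_bot_iff]
      intro m hm _
      have : m ∈ (⊥ : AddSubgroup M) := by
        rw [← hpos e (by push_cast at hlt; omega)]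
        exact hm
      exact (AddSubgroup.mem_bot).mp this
    · exfalso
      apply hne
      have := H_subsingleton_of_torsion E a htop i hi
      rw [Hcomp_eq_bot_iff_forall_mem]
      intro y _
      exact Subsingleton.elim _ _
  · intro h
    rw [Nat.cast_zero, neg_zero, Hcomp_zero_eq_bot_iff] at h
    apply h0
    rw [eq_bot_iff]
    intro m hm
    rw [AddSubgroup.mem_bot]
    exact h m hm (by rw [htop]; exact Submodule.mem_top)

/-- Inductive step along a regular linear form. -/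
theorem conc_succ (a : HomogeneousIdeal 𝒜) {x : R} (hx : x ∈ 𝒜 1) (hxa : x ∈ a.toIdeal)
    (hreg : ∀ m : M, x • m = 0 → m = 0)
    {π : M →ₗ[R] N} (hπg : IsGrHom ℳ 𝒩 π) (hπ : Function.Surjective π)
    (hker : LinearMap.ker π = LinearMap.range (LinearMap.lsmul R M x)) (t : ℕ)
    (hN : Conc a 𝒩 t) : Conc a ℳ (t + 1) := by
  intro E
  let E' : StarInjRes 𝒜 𝒩 := Groth.Agent.S13215.res 𝒩
  obtain ⟨hN1, hN2⟩ := hN E'
  have hK : LinearMap.ker (LinearMap.lsmul R M x) ≤ gam a.toIdeal M := by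
    intro m hm
    rw [LinearMap.mem_ker, LinearMap.lsmul_apply] at hm
    rw [hreg m hm]
    exact Submodule.zero_mem _
  have hvan : ∀ (i : ℕ) (e : ℤ), E.Hcomp a i e ≠ ⊥ → i = t + 1 ∧ e ≤ -((t + 1 : ℕ) : ℤ) := by
    intro i e hne
    rcases Nat.eq_zero_or_pos i with rfl | hi
    · exfalso
      apply hne
      rw [Hcomp_zero_eq_bot_iff]
      intro m _ hmg
      obtain ⟨n, hn⟩ := hmg
      have h1 : x ^ n • m = 0 := hn _ (Ideal.pow_mem_pow hxa n)
      clear hn
      induction n with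
      | zero => rwa [pow_zero, one_smul] at h1
      | succ n ih =>
        rw [pow_succ', mul_smul] at h1
        exact ih (hreg _ h1)
    · obtain ⟨j, rfl⟩ : ∃ j, i = j + 1 := ⟨i - 1, by omega⟩
      by_cases hjt : j = t
      · subst hjt
        refine ⟨rfl, ?_⟩
        by_contra hlt
        apply hne
        refine Hcomp_eq_bot_of_quot a hx hxa hK hπg hπ hker E E' j (Set.Ioi (-((j + 1 : ℕ) : ℤ)))
          (fun e he => ?_) (fun e he => ?_) e (by rw [Set.mem_Ioi]; omega)
        · rw [Set.mem_Ioi] at he ⊢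
          omega
        · by_contra hne'
          have := (hN1 j (e + 1) hne').2
          rw [Set.mem_Ioi] at he
          push_cast at he
          omega
      · exfalso
        apply hne
        refine Hcomp_eq_bot_of_quot a hx hxa hK hπg hπ hker E E' j Set.univ
          (fun e _ => Set.mem_univ _) (fun e _ => ?_) e (Set.mem_univ _)
        by_contra hne'
        exact hjt (hN1 j (e + 1) hne').1
  refine ⟨hvan, ?_⟩
  intro h
  apply hN2
  have hf : IsGrHomDeg ℳ ℳ (LinearMap.lsmul R M x) 1 := isGrHomDeg_lsmul 𝒜 ℳ hx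
  have hg : IsGrHomDeg ℳ 𝒩 π 0 := (isGrHomDeg_zero_iff _ _ _).mpr hπg
  have hinj : Function.Injective (LinearMap.lsmul R M x) := by
    rw [injective_iff_map_eq_zero]
    intro m hm
    exact hreg m hm
  have h2 : E.Hcomp a t (-((t + 1 : ℕ) : ℤ) + 1) = ⊥ := by
    by_contra hne
    have := (hvan t _ hne).1
    omega
  have h3 := Hcomp_eq_bot_right E E E' a hf hg hinj hπ hker t (-((t + 1 : ℕ) : ℤ)) h2 h
  have h4 : -((t + 1 : ℕ) : ℤ) + 1 = -(t : ℤ) := by push_cast; ring
  rwa [h4] at h3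

end Int

end Groth.Agent.Lib.GrLCConc
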