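import Groth.Agent.Lib.GrFree

/-!
# Homogeneous generating families of minimal cardinality

Abstract setting: an `R`-module `N` with "component" operators `c t : N → N` such that every element
is the finite sum of its components.  A finitely generated submodule stable under components has a
finite generating family of components (`exists_homog_gens`); in a generating family of minimal
cardinality no relation has a unit coefficient (`not_isUnit_of_minimal`).
-/

set_option autoImplicit false

namespace Groth.Agent.Lib.GrFreeMin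

universe u

variable {R : Type u} [CommRing R] {N : Type u} [AddCommGroup N] [Module R N]

/-- A submodule stable under a family of component operators which is finitely generated has a
finite generating family consisting of components. -/
theorem exists_homog_gens (c : ℤ → N → N) (T : N → Finset ℤ)
    (hsum : ∀ x, ∑ t ∈ T x, c t x = x) (K : Submodule R N) (hK : K.FG)
    (hstab : ∀ x ∈ K, ∀ t, c t x ∈ K) :
    ∃ (m : ℕ) (w : Fin m → N) (e : Fin m → ℤ), (∀ j, w j ∈ K) ∧ (∀ j, ∃ x, w j = c (e j) x) ∧
      Submodule.span R (Set.range w) = K := by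
  classical
  obtain ⟨s, hs⟩ := hK
  let ι := Σ g : s, T (g : N)
  let w' : ι → N := fun p => c (p.2 : ℤ) (p.1 : N)
  have hmem : ∀ g : s, (g : N) ∈ K := fun g => hs ▸ Submodule.subset_span g.2
  have hspan : Submodule.span R (Set.range w') = K := by
    apply le_antisymm
    · rw [Submodule.span_le]
      rintro _ ⟨p, rfl⟩
      exact hstab _ (hmem p.1) _
    · rw [← hs, Submodule.span_le]
      intro g hg
      have hg' : g ∈ s := hg
      rw [SetLike.mem_coe, ← hsum g]
      refine Submodule.sum_mem _ fun t ht => ?_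
      exact Submodule.subset_span ⟨⟨⟨g, hg'⟩, ⟨t, ht⟩⟩, rfl⟩
  let eq := Fintype.equivFin ι
  refine ⟨Fintype.card ι, w' ∘ eq.symm, fun j => ((eq.symm j).2 : ℤ), ?_, ?_, ?_⟩
  · intro j
    exact hstab _ (hmem (eq.symm j).1) _
  · intro j
    exact ⟨((eq.symm j).1 : N), rfl⟩
  · rw [Set.range_comp, eq.symm.surjective.range_eq, Set.image_univ]
    exact hspan

/-- In a generating family of minimal cardinality (among families satisfying a predicate stable
under subfamilies), no linear relation has a unit coefficient. -/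
theorem not_isUnit_of_minimal (K : Submodule R N) (Pr : ℤ → N → Prop) {m : ℕ} (w : Fin m → N)
    (e : Fin m → ℤ) (hPr : ∀ j, Pr (e j) (w j)) (hspan : Submodule.span R (Set.range w) = K)
    (hmin : ∀ (m' : ℕ) (w' : Fin m' → N) (e' : Fin m' → ℤ), (∀ j, Pr (e' j) (w' j)) →
      Submodule.span R (Set.range w') = K → m ≤ m')
    (a : Fin m → R) (ha : ∑ j, a j • w j = 0) (j0 : Fin m) : ¬ IsUnit (a j0) := by
  intro hu
  obtain ⟨m', rfl⟩ : ∃ m', m = m' + 1 := ⟨m - 1, by have := j0.pos; omega⟩
  obtain ⟨u, hu'⟩ := hu
  have hrel : w j0 = -((↑u⁻¹ : R) • ∑ i, a (j0.succAbove i) • w (j0.succAbove i)) := by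
    rw [Fin.sum_univ_succAbove _ j0] at ha
    have h1 : a j0 • w j0 = -∑ i, a (j0.succAbove i) • w (j0.succAbove i) :=
      eq_neg_of_add_eq_zero_left ha
    calc w j0 = (↑u⁻¹ : R) • (a j0 • w j0) := by
          rw [smul_smul, ← hu', Units.inv_mul, one_smul]
      _ = _ := by rw [h1, smul_neg]
  have hspan' : Submodule.span R (Set.range (w ∘ j0.succAbove)) = K := by
    apply le_antisymm
    · rw [← hspan]
      exact Submodule.span_mono (Set.range_comp_subset_range _ _)
    · rw [← hspan, Submodule.span_le]
      rintro _ ⟨j, rfl⟩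
      by_cases hj : j = j0
      · subst hj
        rw [SetLike.mem_coe, hrel]
        refine Submodule.neg_mem _ (Submodule.smul_mem _ _ (Submodule.sum_mem _ fun i _ => ?_))
        exact Submodule.smul_mem _ _ (Submodule.subset_span ⟨i, rfl⟩)
      · obtain ⟨i, rfl⟩ := Fin.exists_succAbove_eq hj
        exact Submodule.subset_span ⟨i, rfl⟩
  have := hmin m' (w ∘ j0.succAbove) (e ∘ j0.succAbove) (fun i => hPr _) hspan'
  omega

/-- Existence of a generating family of minimal cardinality. -/
theorem exists_minimal (K : Submodule R N) (Pr : ℤ → N → Prop)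
    (hex : ∃ (m : ℕ) (w : Fin m → N) (e : Fin m → ℤ), (∀ j, Pr (e j) (w j)) ∧
      Submodule.span R (Set.range w) = K) :
    ∃ (m : ℕ) (w : Fin m → N) (e : Fin m → ℤ), (∀ j, Pr (e j) (w j)) ∧
      Submodule.span R (Set.range w) = K ∧
      ∀ (m' : ℕ) (w' : Fin m' → N) (e' : Fin m' → ℤ), (∀ j, Pr (e' j) (w' j)) →
        Submodule.span R (Set.range w') = K → m ≤ m' := by
  classical
  let P : ℕ → Prop := fun m => ∃ (w : Fin m → N) (e : Fin m → ℤ), (∀ j, Pr (e j) (w j)) ∧
      Submodule.span R (Set.range w) = K
  have hP : ∃ m, P m := hex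
  obtain ⟨w, e, h1, h2⟩ := Nat.find_spec hP
  refine ⟨Nat.find hP, w, e, h1, h2, fun m' w' e' h1' h2' => ?_⟩
  exact Nat.find_min' hP ⟨w', e', h1', h2'⟩

end Groth.Agent.Lib.GrFreeMin
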