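/-
Basic facts on the ℤ-indexed standard grading of a polynomial ring and its irrelevant ideal
(helper12), for the `GrSyz` statements.
-/
import Groth.Prelude.Def_GrSyz

set_option autoImplicit false
universe u v
open MvPolynomial

namespace Groth.Agent.Lib.GrSyzBasic

variable (k : Type u) [CommRing k] (σ : Type v)

/-- the weight of a monomial for the constant weight one, as a sum -/
lemma weight_one_eq (d : σ →₀ ℕ) :
    Finsupp.weight (fun _ : σ => (1 : ℤ)) d = ((d.sum fun _ e => e : ℕ) : ℤ) := by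
  rw [Finsupp.weight_apply]
  simp only [nsmul_eq_mul, mul_one]
  rw [Finsupp.sum, Finsupp.sum, Nat.cast_sum]

lemma weight_one_nonneg (d : σ →₀ ℕ) : 0 ≤ Finsupp.weight (fun _ : σ => (1 : ℤ)) d := by
  rw [weight_one_eq]; exact Int.natCast_nonneg _

lemma eq_zero_of_weight_one_eq_zero (d : σ →₀ ℕ)
    (h : Finsupp.weight (fun _ : σ => (1 : ℤ)) d = 0) : d = 0 := by
  rw [weight_one_eq] at h
  have h' : (d.sum fun _ e => e) = 0 := by exact_mod_cast h
  ext i
  by_contra hi
  have hi' : i ∈ d.support := Finsupp.mem_support_iff.mpr hi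
  have : d i ≤ d.sum fun _ e => e := by
    rw [Finsupp.sum]
    exact Finset.single_le_sum (f := fun j => d j) (fun _ _ => Nat.zero_le _) hi'
  rw [h'] at this
  exact hi (Nat.le_zero.mp this)

/-- positive-degree homogeneous elements have zero constant coefficient -/
lemma constantCoeff_eq_zero_of_mem_stdGr {n : ℤ} (hn : n ≠ 0) {p : MvPolynomial σ k}
    (hp : p ∈ GrSyz.stdGr k σ n) : constantCoeff p = 0 := by
  by_contra h
  have := hp (d := 0) (by rwa [constantCoeff_eq] at h)
  rw [map_zero] at this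
  exact hn this.symm

lemma irrel_le_ker_constantCoeff :
    (GrSyz.irrel (GrSyz.stdGr k σ)).toIdeal ≤ RingHom.ker (constantCoeff (R := k) (σ := σ)) := by
  show Ideal.span _ ≤ _
  rw [Ideal.span_le]
  rintro p ⟨n, hn, hp⟩
  exact constantCoeff_eq_zero_of_mem_stdGr k σ hn.ne' hp

lemma one_notMem_irrel [Nontrivial k] : (1 : MvPolynomial σ k) ∉ (GrSyz.irrel (GrSyz.stdGr k σ)).toIdeal := by
  intro h
  have := irrel_le_ker_constantCoeff k σ h
  rw [RingHom.mem_ker, map_one] at this
  exact one_ne_zero this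

/-- a homogeneous element of nonpositive degree in the irrelevant ideal vanishes -/
lemma eq_zero_of_mem_stdGr_of_mem_irrel {n : ℤ} (hn : n ≤ 0) {p : MvPolynomial σ k}
    (hp : p ∈ GrSyz.stdGr k σ n) (hp' : p ∈ (GrSyz.irrel (GrSyz.stdGr k σ)).toIdeal) : p = 0 := by
  ext d
  rw [coeff_zero]
  by_contra hd
  have hw := hp hd
  have h0 : n = 0 := le_antisymm hn (hw ▸ weight_one_nonneg σ d)
  rw [h0] at hw
  have hd0 := eq_zero_of_weight_one_eq_zero σ d hw
  subst hd0
  have := irrel_le_ker_constantCoeff k σ hp'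
  rw [RingHom.mem_ker, constantCoeff_eq] at this
  exact hd this

/-- a homogeneous element of degree zero is a constant -/
lemma eq_C_of_mem_stdGr_zero {p : MvPolynomial σ k} (hp : p ∈ GrSyz.stdGr k σ 0) :
    p = C (constantCoeff p) := by
  classical
  ext d
  rw [coeff_C]
  split_ifs with h
  · subst h
    rw [constantCoeff_eq]
  · by_contra hd
    exact h (eq_zero_of_weight_one_eq_zero σ d (hp hd)).symm

/-- a homogeneous element of negative degree vanishes -/
lemma eq_zero_of_mem_stdGr_neg {n : ℤ} (hn : n < 0) {p : MvPolynomial σ k}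
    (hp : p ∈ GrSyz.stdGr k σ n) : p = 0 := by
  ext d
  rw [coeff_zero]
  by_contra hd
  have hw := hp hd
  have := weight_one_nonneg σ d
  omega

/-- over a field, a homogeneous element outside the irrelevant ideal is a unit -/
lemma isUnit_of_mem_stdGr_of_notMem_irrel (K : Type u) [Field K] {n : ℤ} {p : MvPolynomial σ K}
    (hp : p ∈ GrSyz.stdGr K σ n) (hp' : p ∉ (GrSyz.irrel (GrSyz.stdGr K σ)).toIdeal) :
    IsUnit p := by
  rcases lt_trichotomy n 0 with hn | hn | hn
  · exact absurd (eq_zero_of_mem_stdGr_neg K σ hn hp ▸ Ideal.zero_mem _) hp'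
  · subst hn
    rw [eq_C_of_mem_stdGr_zero K σ hp]
    have hc : constantCoeff p ≠ 0 := by
      intro h0
      apply hp'
      rw [eq_C_of_mem_stdGr_zero K σ hp, h0, map_zero]
      exact Ideal.zero_mem _
    exact (isUnit_iff_ne_zero.mpr hc).map C
  · exact absurd (Ideal.subset_span (s := {r : MvPolynomial σ K | ∃ n : ℤ, 0 < n ∧
      r ∈ GrSyz.stdGr K σ n}) ⟨n, hn, hp⟩) hp'

end Groth.Agent.Lib.GrSyzBasic
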