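import Mathlib
import Groth.Agent.Lib.GrFreeMin
import Groth.Agent.Lib.GrSyzBasic

/-!
# Existence of minimal graded free resolutions over a polynomial ring over a field

`exists_freeRes_isMinimal`: a finitely generated ℤ-graded module over `k[x_0..x_r]` has a graded
free resolution (`GrSyz.FreeRes`) all of whose matrix entries lie in the irrelevant ideal.
-/

set_option autoImplicit false
set_option linter.unusedSectionVars false

open DirectSum

namespace Groth.Agent.Lib.GrFreeRes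

open Groth.Agent.Lib.GrFree Groth.Agent.Lib.GrFreeMin

universe u

variable (k : Type u) [Field k] (r : ℕ)

/-- A stage of the construction: a graded free module `⊕ S(-deg b)` and a submodule `K` of it which is
stable under taking components and all of whose homogeneous elements have coordinates in the
irrelevant ideal. -/
structure Stage where
  /-- rank -/
  n : ℕ
  /-- degrees of the basis vectors -/
  deg : Fin n → ℤ
  /-- the submodule to be resolved -/
  K : Submodule (MvPolynomial (Fin (r + 1)) k) (Fin n → MvPolynomial (Fin (r + 1)) k)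
  stab : ∀ v ∈ K, ∀ t, comp (GrSyz.stdGr k (Fin (r + 1))) deg t v ∈ K
  irr : ∀ v ∈ K, ∀ t, IsHomogVec (GrSyz.stdGr k (Fin (r + 1))) deg t v →
    ∀ a, v a ∈ (GrSyz.irrel (GrSyz.stdGr k (Fin (r + 1)))).toIdeal

variable {k r}

namespace Stage

variable (s : Stage k r)

theorem exists_gens :
    ∃ (m : ℕ) (w : Fin m → (Fin s.n → MvPolynomial (Fin (r + 1)) k)) (e : Fin m → ℤ),
      (∀ j, w j ∈ s.K ∧ IsHomogVec (GrSyz.stdGr k (Fin (r + 1))) s.deg (e j) (w j)) ∧
      Submodule.span (MvPolynomial (Fin (r + 1)) k) (Set.range w) = s.K ∧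
      ∀ (m' : ℕ) (w' : Fin m' → (Fin s.n → MvPolynomial (Fin (r + 1)) k)) (e' : Fin m' → ℤ),
        (∀ j, w' j ∈ s.K ∧ IsHomogVec (GrSyz.stdGr k (Fin (r + 1))) s.deg (e' j) (w' j)) →
        Submodule.span (MvPolynomial (Fin (r + 1)) k) (Set.range w') = s.K → m ≤ m' := by
  apply exists_minimal s.K
    (fun t v => v ∈ s.K ∧ IsHomogVec (GrSyz.stdGr k (Fin (r + 1))) s.deg t v)
  have hFG : s.K.FG := IsNoetherian.noetherian s.K
  obtain ⟨m, w, e, h1, h2, h3⟩ := exists_homog_gens
    (comp (GrSyz.stdGr k (Fin (r + 1))) s.deg) (degs (GrSyz.stdGr k (Fin (r + 1))) s.deg)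
    (sum_comp (GrSyz.stdGr k (Fin (r + 1))) s.deg) s.K hFG s.stab
  refine ⟨m, w, e, fun j => ⟨h1 j, ?_⟩, h3⟩
  obtain ⟨x, hx⟩ := h2 j
  rw [hx]
  exact isHomogVec_comp _ _ _ _

/-- number of generators -/
noncomputable def m : ℕ := s.exists_gens.choose

/-- the generators -/
noncomputable def w : Fin s.m → (Fin s.n → MvPolynomial (Fin (r + 1)) k) :=
  s.exists_gens.choose_spec.choose

/-- their degrees -/
noncomputable def e : Fin s.m → ℤ := s.exists_gens.choose_spec.choose_spec.choose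

lemma w_mem (j : Fin s.m) : s.w j ∈ s.K :=
  (s.exists_gens.choose_spec.choose_spec.choose_spec.1 j).1

lemma w_homog (j : Fin s.m) : IsHomogVec (GrSyz.stdGr k (Fin (r + 1))) s.deg (s.e j) (s.w j) :=
  (s.exists_gens.choose_spec.choose_spec.choose_spec.1 j).2

lemma span_w : Submodule.span (MvPolynomial (Fin (r + 1)) k) (Set.range s.w) = s.K :=
  s.exists_gens.choose_spec.choose_spec.choose_spec.2.1

lemma w_min (m' : ℕ) (w' : Fin m' → (Fin s.n → MvPolynomial (Fin (r + 1)) k)) (e' : Fin m' → ℤ)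
    (h : ∀ j, w' j ∈ s.K ∧ IsHomogVec (GrSyz.stdGr k (Fin (r + 1))) s.deg (e' j) (w' j))
    (h' : Submodule.span (MvPolynomial (Fin (r + 1)) k) (Set.range w') = s.K) : s.m ≤ m' :=
  s.exists_gens.choose_spec.choose_spec.choose_spec.2.2 m' w' e' h h'

/-- the matrix whose columns are the generators -/
noncomputable def D : Matrix (Fin s.n) (Fin s.m) (MvPolynomial (Fin (r + 1)) k) :=
  Matrix.of fun a j => s.w j a

lemma D_mem (a : Fin s.n) (j : Fin s.m) : s.D a j ∈ GrSyz.stdGr k (Fin (r + 1)) (s.e j - s.deg a) :=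
  s.w_homog j a

lemma D_irr (a : Fin s.n) (j : Fin s.m) :
    s.D a j ∈ (GrSyz.irrel (GrSyz.stdGr k (Fin (r + 1)))).toIdeal :=
  s.irr _ (s.w_mem j) _ (s.w_homog j) a

lemma range_D : LinearMap.range s.D.mulVecLin = s.K := by
  rw [Matrix.range_mulVecLin]
  exact s.span_w

lemma mulVec_D (v : Fin s.m → MvPolynomial (Fin (r + 1)) k) :
    s.D.mulVec v = ∑ j, v j • s.w j := by
  funext a
  simp only [Matrix.mulVec, dotProduct, D, Matrix.of_apply, Finset.sum_apply, Pi.smul_apply,
    smul_eq_mul]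
  exact Finset.sum_congr rfl fun j _ => mul_comm _ _

/-- the next stage: the kernel of the matrix of generators -/
noncomputable def next : Stage k r where
  n := s.m
  deg := s.e
  K := LinearMap.ker s.D.mulVecLin
  stab v hv t := comp_mem_ker (GrSyz.stdGr k (Fin (r + 1))) s.deg s.e s.D s.D_mem t hv
  irr v hv t hvt j := by
    by_contra hnot
    have hu : IsUnit (v j) :=
      Groth.Agent.Lib.GrSyzBasic.isUnit_of_mem_stdGr_of_notMem_irrel (Fin (r + 1)) k (hvt j) hnot
    rw [LinearMap.mem_ker, Matrix.mulVecLin_apply, mulVec_D] at hv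
    exact not_isUnit_of_minimal s.K
      (fun t v => v ∈ s.K ∧ IsHomogVec (GrSyz.stdGr k (Fin (r + 1))) s.deg t v) s.w s.e
      (fun j => ⟨s.w_mem j, s.w_homog j⟩) s.span_w s.w_min v hv j hu

end Stage

section Module

variable (k r)

variable (M : Type u) [AddCommGroup M] [Module k M] [Module (MvPolynomial (Fin (r + 1)) k) M]
  [IsScalarTower k (MvPolynomial (Fin (r + 1)) k) M] [Module.Finite (MvPolynomial (Fin (r + 1)) k) M]
  (ℳ : ℤ → Submodule k M) [DirectSum.Decomposition ℳ]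
  [SetLike.GradedSMul (GrSyz.stdGr k (Fin (r + 1))) ℳ]

theorem exists_gens₀ :
    ∃ (m : ℕ) (g : Fin m → M) (e : Fin m → ℤ), (∀ j, g j ∈ ℳ (e j)) ∧
      Submodule.span (MvPolynomial (Fin (r + 1)) k) (Set.range g) = ⊤ ∧
      ∀ (m' : ℕ) (g' : Fin m' → M) (e' : Fin m' → ℤ), (∀ j, g' j ∈ ℳ (e' j)) →
        Submodule.span (MvPolynomial (Fin (r + 1)) k) (Set.range g') = ⊤ → m ≤ m' := by
  classical
  apply exists_minimal (⊤ : Submodule (MvPolynomial (Fin (r + 1)) k) M) (fun t x => x ∈ ℳ t)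
  obtain ⟨m, w, e, _, h2, h3⟩ := exists_homog_gens
    (R := MvPolynomial (Fin (r + 1)) k)
    (fun t (x : M) => ((decompose ℳ x t : ℳ t) : M)) (fun x => (decompose ℳ x).support)
    (fun x => sum_support_decompose ℳ x) (⊤ : Submodule (MvPolynomial (Fin (r + 1)) k) M)
    Module.Finite.fg_top (fun _ _ _ => Submodule.mem_top)
  refine ⟨m, w, e, fun j => ?_, h3⟩
  obtain ⟨x, hx⟩ := h2 j
  rw [hx]
  exact (decompose ℳ x (e j)).2

/-- number of generators of `M` -/
noncomputable def m₀ : ℕ := (exists_gens₀ k r M ℳ).choose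

/-- generators of `M` -/
noncomputable def g₀ : Fin (m₀ k r M ℳ) → M := (exists_gens₀ k r M ℳ).choose_spec.choose

/-- their degrees -/
noncomputable def e₀ : Fin (m₀ k r M ℳ) → ℤ := (exists_gens₀ k r M ℳ).choose_spec.choose_spec.choose

lemma g₀_mem (j : Fin (m₀ k r M ℳ)) : g₀ k r M ℳ j ∈ ℳ (e₀ k r M ℳ j) :=
  (exists_gens₀ k r M ℳ).choose_spec.choose_spec.choose_spec.1 j

lemma span_g₀ : Submodule.span (MvPolynomial (Fin (r + 1)) k) (Set.range (g₀ k r M ℳ)) = ⊤ :=
  (exists_gens₀ k r M ℳ).choose_spec.choose_spec.choose_spec.2.1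

lemma g₀_min (m' : ℕ) (g' : Fin m' → M) (e' : Fin m' → ℤ) (h : ∀ j, g' j ∈ ℳ (e' j))
    (h' : Submodule.span (MvPolynomial (Fin (r + 1)) k) (Set.range g') = ⊤) : m₀ k r M ℳ ≤ m' :=
  (exists_gens₀ k r M ℳ).choose_spec.choose_spec.choose_spec.2.2 m' g' e' h h'

/-- the initial stage: the kernel of the augmentation -/
noncomputable def stage₀ : Stage k r where
  n := m₀ k r M ℳ
  deg := e₀ k r M ℳ
  K := LinearMap.ker (Fintype.linearCombination (MvPolynomial (Fin (r + 1)) k) (g₀ k r M ℳ))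
  stab v hv t := comp_mem_ker_linearCombination (GrSyz.stdGr k (Fin (r + 1))) (e₀ k r M ℳ) ℳ
    (g₀ k r M ℳ) (g₀_mem k r M ℳ) t hv
  irr v hv t hvt j := by
    by_contra hnot
    have hu : IsUnit (v j) :=
      Groth.Agent.Lib.GrSyzBasic.isUnit_of_mem_stdGr_of_notMem_irrel (Fin (r + 1)) k (hvt j) hnot
    rw [LinearMap.mem_ker, Fintype.linearCombination_apply] at hv
    exact not_isUnit_of_minimal (⊤ : Submodule (MvPolynomial (Fin (r + 1)) k) M)
      (fun t x => x ∈ ℳ t) (g₀ k r M ℳ) (e₀ k r M ℳ) (g₀_mem k r M ℳ) (span_g₀ k r M ℳ) (g₀_min k r M ℳ) v hv j hu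

/-- the stages of the construction -/
noncomputable def stages : ℕ → Stage k r
  | 0 => stage₀ k r M ℳ
  | i + 1 => (stages i).next

/-- The minimal graded free resolution. -/
noncomputable def freeRes : GrSyz.FreeRes (GrSyz.stdGr k (Fin (r + 1))) ℳ where
  rk i := (stages k r M ℳ i).n
  deg i := (stages k r M ℳ i).deg
  d i := (stages k r M ℳ i).D
  aug := g₀ k r M ℳ
  d_mem i a b := (stages k r M ℳ i).D_mem a b
  aug_mem b := g₀_mem k r M ℳ b
  aug_surjective := by
    rw [← LinearMap.range_eq_top, Fintype.range_linearCombination]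
    exact span_g₀ k r M ℳ
  exact_zero := ((stages k r M ℳ 0).range_D).symm
  exact_succ i := ((stages k r M ℳ (i + 1)).range_D).symm

theorem freeRes_isMinimal :
    (freeRes k r M ℳ).IsMinimal (GrSyz.irrel (GrSyz.stdGr k (Fin (r + 1)))).toIdeal :=
  fun i a b => (stages k r M ℳ i).D_irr a b

theorem exists_freeRes_isMinimal :
    ∃ F : GrSyz.FreeRes (GrSyz.stdGr k (Fin (r + 1))) ℳ,
      F.IsMinimal (GrSyz.irrel (GrSyz.stdGr k (Fin (r + 1)))).toIdeal :=
  ⟨freeRes k r M ℳ, freeRes_isMinimal k r M ℳ⟩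

end Module

end Groth.Agent.Lib.GrFreeRes
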