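import Mathlib

/-!
# Elementwise criterion for quasi-isomorphisms of complexes of modules, and two-term complexes

* `shortComplex_quasiIso_of_elementwise`: a morphism of short complexes of modules is a
  quasi-isomorphism if it is surjective and injective on homology, stated with elements.
* `quasiIsoAt_of_elementwise`: the same for homological complexes of modules.
* `twoTerm g`: the cochain complex with `G` in degree `-1`, `F` in degree `0`, differential `g`,
  with definitional unfolding `(twoTerm g).X (-1) = G`, `(twoTerm g).X 0 = F`,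
  `(twoTerm g).d (-1) 0 = g`; `twoTermHom`: chain maps out of it.
-/

set_option autoImplicit false

open CategoryTheory Limits

namespace Groth.Agent.Lib.QuasiIsoElem

universe v u

variable {R : Type u} [Ring R]


section
variable (S : ShortComplex (ModuleCat.{v} R))

lemma mc_π_surjective : Function.Surjective S.moduleCatLeftHomologyData.π.hom :=
  Submodule.mkQ_surjective (LinearMap.range S.moduleCatToCycles)

lemma mc_i_injective : Function.Injective S.moduleCatLeftHomologyData.i.hom :=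
  Subtype.val_injective

lemma mc_g_i (k : S.moduleCatLeftHomologyData.K) :
    S.g.hom (S.moduleCatLeftHomologyData.i.hom k) = 0 :=
  (k : LinearMap.ker S.g.hom).2

lemma mc_exists_i (x : S.X₂) (hx : S.g.hom x = 0) :
    ∃ k : S.moduleCatLeftHomologyData.K, S.moduleCatLeftHomologyData.i.hom k = x :=
  ⟨(⟨x, hx⟩ : LinearMap.ker S.g.hom), rfl⟩

lemma mc_π_eq_zero_iff (k : S.moduleCatLeftHomologyData.K) :
    S.moduleCatLeftHomologyData.π.hom k = 0 ↔
      ∃ y : S.X₁, S.f.hom y = S.moduleCatLeftHomologyData.i.hom k := by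
  have key : ∀ k' : LinearMap.ker S.g.hom,
      (LinearMap.range S.moduleCatToCycles).mkQ k' = 0 ↔ ∃ y : S.X₁, S.f.hom y = (k' : S.X₂) := by
    intro k'
    rw [Submodule.mkQ_apply, Submodule.Quotient.mk_eq_zero, LinearMap.mem_range]
    constructor
    · rintro ⟨y, hy⟩
      exact ⟨y, congrArg Subtype.val hy⟩
    · rintro ⟨y, hy⟩
      exact ⟨y, Subtype.ext hy⟩
  exact key k
end

theorem shortComplex_quasiIso_of_elementwise {S₁ S₂ : ShortComplex (ModuleCat.{v} R)}
    (φ : S₁ ⟶ S₂)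
    (hsurj : ∀ x₂ : S₂.X₂, S₂.g.hom x₂ = 0 →
      ∃ x₁ : S₁.X₂, S₁.g.hom x₁ = 0 ∧ ∃ y : S₂.X₁, φ.τ₂.hom x₁ = x₂ + S₂.f.hom y)
    (hinj : ∀ x₁ : S₁.X₂, S₁.g.hom x₁ = 0 → (∃ y₂ : S₂.X₁, S₂.f.hom y₂ = φ.τ₂.hom x₁) →
      ∃ y₁ : S₁.X₁, S₁.f.hom y₁ = x₁) :
    ShortComplex.QuasiIso φ := by
  have γ : ShortComplex.LeftHomologyMapData φ S₁.moduleCatLeftHomologyData
    S₂.moduleCatLeftHomologyData := default
  rw [γ.quasiIso_iff]
  have hK : ∀ k : S₁.moduleCatLeftHomologyData.K,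
      S₂.moduleCatLeftHomologyData.i.hom (γ.φK.hom k) =
        φ.τ₂.hom (S₁.moduleCatLeftHomologyData.i.hom k) := by
    intro k
    exact congrArg (fun f => f.hom k) γ.commi
  have hH : ∀ k : S₁.moduleCatLeftHomologyData.K,
      γ.φH.hom (S₁.moduleCatLeftHomologyData.π.hom k) =
        S₂.moduleCatLeftHomologyData.π.hom (γ.φK.hom k) := by
    intro k
    exact congrArg (fun f => f.hom k) γ.commπ
  rw [ConcreteCategory.isIso_iff_bijective]
  constructor
  · change Function.Injective γ.φH.hom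
    rw [injective_iff_map_eq_zero]
    intro a ha
    obtain ⟨k, rfl⟩ := mc_π_surjective S₁ a
    rw [hH, mc_π_eq_zero_iff] at ha
    obtain ⟨y₂, hy₂⟩ := ha
    rw [hK] at hy₂
    obtain ⟨y₁, hy₁⟩ := hinj _ (mc_g_i S₁ k) ⟨y₂, hy₂⟩
    exact (mc_π_eq_zero_iff S₁ k).2 ⟨y₁, hy₁⟩
  · change Function.Surjective γ.φH.hom
    intro b
    obtain ⟨k₂, rfl⟩ := mc_π_surjective S₂ b
    obtain ⟨x₁, hx₁, y, hy⟩ := hsurj _ (mc_g_i S₂ k₂)
    obtain ⟨k₁, rfl⟩ := mc_exists_i S₁ x₁ hx₁
    refine ⟨S₁.moduleCatLeftHomologyData.π.hom k₁, ?_⟩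
    rw [hH, ← sub_eq_zero, ← map_sub, mc_π_eq_zero_iff]
    refine ⟨y, ?_⟩
    rw [map_sub, hK, hy]
    abel


/-- Elementwise criterion for a morphism of complexes of modules to be a quasi-isomorphism in
degree `j` (with `i` the previous and `k` the next index). -/
theorem quasiIsoAt_of_elementwise {ι : Type*} {c : ComplexShape ι}
    {K L : HomologicalComplex (ModuleCat.{v} R) c} (f : K ⟶ L) (i j k : ι)
    (hi : c.prev j = i) (hk : c.next j = k)
    (hsurj : ∀ x₂ : L.X j, (L.d j k).hom x₂ = 0 →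
      ∃ x₁ : K.X j, (K.d j k).hom x₁ = 0 ∧ ∃ y : L.X i, (f.f j).hom x₁ = x₂ + (L.d i j).hom y)
    (hinj : ∀ x₁ : K.X j, (K.d j k).hom x₁ = 0 →
      (∃ y₂ : L.X i, (L.d i j).hom y₂ = (f.f j).hom x₁) → ∃ y₁ : K.X i, (K.d i j).hom y₁ = x₁) :
    QuasiIsoAt f j := by
  rw [quasiIsoAt_iff' f i j k hi hk]
  exact shortComplex_quasiIso_of_elementwise _ hsurj hinj

section TwoTerm

/-- The terms of the two-term complex. -/
def twoX (G F : ModuleCat.{v} R) : ℤ → ModuleCat.{v} R
  | -1 => G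
  | 0 => F
  | _ => ModuleCat.of R PUnit

/-- The differential of the two-term complex. -/
def twoD {G F : ModuleCat.{v} R} (g : G ⟶ F) : (i j : ℤ) → (twoX G F i ⟶ twoX G F j)
  | -1, 0 => g
  | _, _ => 0

lemma twoX_isZero (G F : ModuleCat.{v} R) (i : ℤ) (h1 : i ≠ -1) (h0 : i ≠ 0) :
    IsZero (twoX G F i) := by
  unfold twoX
  split
  · exact absurd rfl h1
  · exact absurd rfl h0
  · exact ModuleCat.isZero_of_subsingleton _

lemma twoD_eq_zero {G F : ModuleCat.{v} R} (g : G ⟶ F) (i j : ℤ) (h : ¬ (i = -1 ∧ j = 0)) :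
    twoD g i j = 0 := by
  rcases i with (_ | i) | (_ | i) <;> rcases j with (_ | j) | (_ | j) <;>
    first | rfl | (exfalso; exact h ⟨rfl, rfl⟩)

/-- The cochain complex `G ⟶ F` in degrees `-1, 0`. -/
noncomputable def twoTerm {G F : ModuleCat.{v} R} (g : G ⟶ F) :
    CochainComplex (ModuleCat.{v} R) ℤ where
  X := twoX G F
  d := twoD g
  shape i j hij := twoD_eq_zero g i j (by
    rintro ⟨rfl, rfl⟩
    exact hij (by simp))
  d_comp_d' i j k _ _ := by
    by_cases hj : j = 0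
    · subst hj
      rw [twoD_eq_zero g 0 k (by simp), comp_zero]
    · rw [twoD_eq_zero g i j (by tauto), zero_comp]

lemma twoTerm_isZero {G F : ModuleCat.{v} R} (g : G ⟶ F) (i : ℤ) (h1 : i ≠ -1) (h0 : i ≠ 0) :
    IsZero ((twoTerm g).X i) := twoX_isZero G F i h1 h0

lemma twoTerm_d_eq_zero {G F : ModuleCat.{v} R} (g : G ⟶ F) (i j : ℤ)
    (h : ¬ (i = -1 ∧ j = 0)) : (twoTerm g).d i j = 0 := twoD_eq_zero g i j h

/-- components of a chain map out of a two-term complex -/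
def twoHomF {G F : ModuleCat.{v} R} (M : CochainComplex (ModuleCat.{v} R) ℤ)
    (φ₀ : G ⟶ M.X (-1)) (φ₁ : F ⟶ M.X 0) : (i : ℤ) → (twoX G F i ⟶ M.X i)
  | -1 => φ₀
  | 0 => φ₁
  | _ => 0

/-- A chain map out of a two-term complex. -/
noncomputable def twoTermHom {G F : ModuleCat.{v} R} (g : G ⟶ F)
    (M : CochainComplex (ModuleCat.{v} R) ℤ)
    (φ₀ : G ⟶ M.X (-1)) (φ₁ : F ⟶ M.X 0) (comm : φ₀ ≫ M.d (-1) 0 = g ≫ φ₁)
    (hφ : φ₁ ≫ M.d 0 1 = 0) : twoTerm g ⟶ M where
  f := twoHomF M φ₀ φ₁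
  comm' i j hij := by
    by_cases h1 : i = -1
    · subst h1
      obtain rfl : j = 0 := by simpa using hij.symm
      exact comm
    · by_cases h0 : i = 0
      · subst h0
        obtain rfl : j = 1 := by simpa using hij.symm
        change φ₁ ≫ M.d 0 1 = (twoTerm g).d 0 1 ≫ _
        rw [hφ, twoTerm_d_eq_zero g 0 1 (by simp), zero_comp]
        rfl
      · exact (twoTerm_isZero g i h1 h0).eq_of_src _ _

end TwoTerm

end Groth.Agent.Lib.QuasiIsoElem
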