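import Mathlib
import Groth.Agent.Lib.GrSyzBasic
import Groth.Agent.Lib.QuasiIsoElem

/-!
# Tor against the residue field from a minimal graded free resolution (helper12)

* `irrel_eq_ker`, `irrel_isMaximal` for the standard grading of a polynomial ring.
* `projRes F`: the `ProjectiveResolution` given by a `GrSyz.FreeRes`.
* `nonempty_tor_iso`, `length_tor`: `Tor_i(R/I, M) ≅ R/I ⊗ F_i` for `F` minimal w.r.t. `I`.
-/


set_option autoImplicit false
set_option linter.unusedSectionVars false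

namespace Groth.Agent.Lib.GrTor

open CategoryTheory Limits MonoidalCategory
open Groth.Agent.Lib.QuasiIsoElem

universe u

section Irrel

open MvPolynomial

theorem ker_constantCoeff_le_irrel (k : Type u) [CommRing k] (σ : Type*) :
    RingHom.ker (constantCoeff (R := k) (σ := σ)) ≤ (GrSyz.irrel (GrSyz.stdGr k σ)).toIdeal := by
  intro p hp
  rw [RingHom.mem_ker] at hp
  rw [← support_sum_monomial_coeff p]
  refine Ideal.sum_mem _ fun d hd => ?_
  have hd0 : d ≠ 0 := by
    rintro rfl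
    rw [mem_support_iff, ← constantCoeff_eq] at hd
    exact hd hp
  have hw : 0 < Finsupp.weight (fun _ : σ => (1 : ℤ)) d := by
    refine lt_of_le_of_ne (Groth.Agent.Lib.GrSyzBasic.weight_one_nonneg σ d) ?_
    intro h
    exact hd0 (Groth.Agent.Lib.GrSyzBasic.eq_zero_of_weight_one_eq_zero σ d h.symm)
  exact Ideal.subset_span ⟨_, hw, isWeightedHomogeneous_monomial _ d _ rfl⟩

theorem irrel_eq_ker (k : Type u) [CommRing k] (σ : Type*) :
    (GrSyz.irrel (GrSyz.stdGr k σ)).toIdeal = RingHom.ker (constantCoeff (R := k) (σ := σ)) :=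
  le_antisymm (Groth.Agent.Lib.GrSyzBasic.irrel_le_ker_constantCoeff k σ)
    (ker_constantCoeff_le_irrel k σ)

theorem irrel_isMaximal (k : Type u) [Field k] (σ : Type*) :
    (GrSyz.irrel (GrSyz.stdGr k σ)).toIdeal.IsMaximal := by
  rw [irrel_eq_ker]
  exact RingHom.ker_isMaximal_of_surjective _ (fun c => ⟨C c, constantCoeff_C _ c⟩)

end Irrel

section Res

variable {R : Type u} [CommRing R] {σ' : Type u} [SetLike σ' R] [AddSubgroupClass σ' R]
  {𝒜 : ℤ → σ'}
  {M : Type u} [AddCommGroup M] [Module R M] {τ : Type u} [SetLike τ M] [AddSubgroupClass τ M]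
  {ℳ : ℤ → τ} [DirectSum.Decomposition ℳ] [SetLike.GradedSMul 𝒜 ℳ] (F : GrSyz.FreeRes 𝒜 ℳ)

/-- terms of the resolution as objects of `ModuleCat` -/
def X (i : ℕ) : ModuleCat.{u} R := ModuleCat.of R (Fin (F.rk i) → R)

/-- differentials -/
def d (i : ℕ) : X F (i + 1) ⟶ X F i := ModuleCat.ofHom (F.dLin i)

/-- augmentation -/
def ε : X F 0 ⟶ ModuleCat.of R M := ModuleCat.ofHom F.augLin

lemma d_comp_d (i : ℕ) : d F (i + 1) ≫ d F i = 0 := by
  ext v
  have : F.dLin (i + 1) v ∈ LinearMap.ker (F.dLin i) := by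
    rw [F.exact_succ i]; exact ⟨v, rfl⟩
  exact this

lemma d_comp_ε : d F 0 ≫ ε F = 0 := by
  ext v
  have : F.dLin 0 v ∈ LinearMap.ker F.augLin := by
    rw [F.exact_zero]; exact ⟨v, rfl⟩
  exact this

lemma exact_d (i : ℕ) (x : X F (i + 1)) (hx : (d F i).hom x = 0) :
    ∃ y : X F (i + 2), (d F (i + 1)).hom y = x := by
  have : x ∈ LinearMap.ker (F.dLin i) := hx
  rw [F.exact_succ i] at this
  exact this

lemma exact_ε (x : X F 0) (hx : (ε F).hom x = 0) : ∃ y : X F 1, (d F 0).hom y = x := by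
  have : x ∈ LinearMap.ker F.augLin := hx
  rw [F.exact_zero] at this
  exact this

lemma ε_surjective : Function.Surjective (ε F).hom := F.aug_surjective

/-- The complex of the resolution. -/
noncomputable def cx : ChainComplex (ModuleCat.{u} R) ℕ :=
  ChainComplex.of (X F) (d F) (d_comp_d F)

lemma cx_d (n : ℕ) : (cx F).d (n + 1) n = d F n := ChainComplex.of_d (X F) (d F) n

/-- The augmentation. -/
noncomputable def aug : cx F ⟶ (ChainComplex.single₀ (ModuleCat.{u} R)).obj (ModuleCat.of R M) :=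
  (ChainComplex.toSingle₀Equiv _ _).symm ⟨ε F, by
    have : (cx F).d 1 0 = d F 0 := ChainComplex.of_d (X F) (d F) 0
    rw [this]
    exact d_comp_ε F⟩

lemma aug_f_zero : (aug F).f 0 = ε F :=
  ChainComplex.toSingle₀Equiv_symm_apply_f_zero (C := cx F) (ε F) _

instance quasiIso_aug : QuasiIso (aug F) := by
  refine ⟨fun n => ?_⟩
  cases n with
  | zero =>
    refine quasiIsoAt_of_elementwise _ 1 0 0 (by simp) (by simp) ?_ ?_
    · intro x₂ _
      obtain ⟨x₁, hx₁⟩ := ε_surjective F x₂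
      refine ⟨x₁, ?_, 0, ?_⟩
      · rw [HomologicalComplex.shape _ 0 0 (by simp)]
        rfl
      · rw [map_zero, add_zero, aug_f_zero]
        exact hx₁
    · rintro x₁ _ ⟨y₂, hy₂⟩
      have hs : Subsingleton
          (((ChainComplex.single₀ (ModuleCat.{u} R)).obj (ModuleCat.of R M)).X 1) :=
        ModuleCat.subsingleton_of_isZero
          (HomologicalComplex.isZero_single_obj_X (ComplexShape.down ℕ) 0 _ 1 (by simp))
      obtain rfl : y₂ = 0 := Subsingleton.elim _ _
      rw [map_zero, aug_f_zero] at hy₂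
      obtain ⟨y, hy⟩ := exact_ε F x₁ hy₂.symm
      exact ⟨y, by rw [cx_d]; exact hy⟩
  | succ n =>
    refine quasiIsoAt_of_elementwise _ (n + 2) (n + 1) n (by simp) (by simp) ?_ ?_
    · intro x₂ _
      have hs : Subsingleton
          (((ChainComplex.single₀ (ModuleCat.{u} R)).obj (ModuleCat.of R M)).X (n + 1)) :=
        ModuleCat.subsingleton_of_isZero
          (HomologicalComplex.isZero_single_obj_X (ComplexShape.down ℕ) 0 _ (n + 1) (by simp))
      exact ⟨0, map_zero _, 0, Subsingleton.elim _ _⟩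
    · rintro x₁ hx₁ _
      rw [cx_d] at hx₁
      obtain ⟨y, hy⟩ := exact_d F n x₁ hx₁
      exact ⟨y, by rw [cx_d]; exact hy⟩

/-- The projective resolution of `M` given by `F`. -/
noncomputable def projRes : ProjectiveResolution (ModuleCat.of R M) where
  complex := cx F
  projective n := by
    have hp : Module.Projective R (Fin (F.rk n) → R) := Module.Projective.of_free
    exact (IsProjective.iff_projective _).1 hp
  π := aug F
  quasiIso := quasiIso_aug F

end Res

section Tor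

variable {R : Type u} [CommRing R] (I : Ideal R)

lemma lTensor_mulVecLin_eq_zero {a b : ℕ} (D : Matrix (Fin a) (Fin b) R)
    (hD : ∀ x y, D x y ∈ I) : (D.mulVecLin).lTensor (R ⧸ I) = 0 := by
  classical
  apply TensorProduct.ext'
  intro x v
  rw [LinearMap.lTensor_tmul, LinearMap.zero_apply, Matrix.mulVecLin_apply,
    pi_eq_sum_univ' (D.mulVec v), TensorProduct.tmul_sum]
  refine Finset.sum_eq_zero fun c _ => ?_
  rw [TensorProduct.tmul_smul, TensorProduct.smul_tmul']
  obtain ⟨y, rfl⟩ := Ideal.Quotient.mk_surjective x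
  have h0 : D.mulVec v c • (Ideal.Quotient.mk I y) = 0 := by
    rw [← Ideal.Quotient.mk_eq_mk, ← Submodule.Quotient.mk_smul, Ideal.Quotient.mk_eq_mk,
      Ideal.Quotient.eq_zero_iff_mem, smul_eq_mul]
    refine Ideal.mul_mem_right _ _ ?_
    rw [Matrix.mulVec, dotProduct]
    exact Ideal.sum_mem _ fun e _ => Ideal.mul_mem_right _ _ (hD _ _)
  rw [h0, TensorProduct.zero_tmul]

variable {σ' : Type u} [SetLike σ' R] [AddSubgroupClass σ' R]
  {𝒜 : ℤ → σ'}
  {M : Type u} [AddCommGroup M] [Module R M] {τ : Type u} [SetLike τ M] [AddSubgroupClass τ M]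
  {ℳ : ℤ → τ} [DirectSum.Decomposition ℳ] [SetLike.GradedSMul 𝒜 ℳ] (F : GrSyz.FreeRes 𝒜 ℳ)
  (hF : F.IsMinimal I)

/-- the complex `R/I ⊗ F_•` -/
noncomputable def tcx : ChainComplex (ModuleCat.{u} R) ℕ :=
  ((((tensoringLeft (ModuleCat.{u} R)).obj (ModuleCat.of R (R ⧸ I))).mapHomologicalComplex
    (ComplexShape.down ℕ)).obj (cx F))

include hF in
lemma tcx_d_eq_zero (i j : ℕ) : (tcx I F).d i j = 0 := by
  by_cases h : (ComplexShape.down ℕ).Rel i j
  · have h' : j + 1 = i := h
    subst h'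
    show (ModuleCat.of R (R ⧸ I)) ◁ ((cx F).d (j + 1) j) = 0
    rw [cx_d]
    ext : 1
    exact lTensor_mulVecLin_eq_zero I (F.d j) (hF j)
  · exact HomologicalComplex.shape _ i j h

include hF in
theorem nonempty_tor_iso (i : ℕ) :
    Nonempty ((((Tor (ModuleCat.{u} R) i).obj (ModuleCat.of R (R ⧸ I))).obj (ModuleCat.of R M)) ≅
      (ModuleCat.of R (R ⧸ I)) ⊗ X F i) := by
  refine ⟨(projRes F).isoLeftDerivedObj
    ((tensoringLeft (ModuleCat.{u} R)).obj (ModuleCat.of R (R ⧸ I))) i ≪≫ ?_⟩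
  exact (ShortComplex.LeftHomologyData.ofZeros ((tcx I F).sc i) (tcx_d_eq_zero I F hF _ _)
    (tcx_d_eq_zero I F hF _ _)).homologyIso

include hF in
theorem length_tor [hI : I.IsMaximal] (i : ℕ) :
    Module.length R (((Tor (ModuleCat.{u} R) i).obj (ModuleCat.of R (R ⧸ I))).obj
      (ModuleCat.of R M)) = (F.rk i : ℕ∞) := by
  obtain ⟨e⟩ := nonempty_tor_iso I F hF i
  rw [e.toLinearEquiv.length_eq]
  have e2 : ((ModuleCat.of R (R ⧸ I)) ⊗ X F i : ModuleCat.{u} R) ≃ₗ[R] (Fin (F.rk i) → R ⧸ I) :=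
    TensorProduct.piScalarRight R R (R ⧸ I) (Fin (F.rk i))
  rw [e2.length_eq, Module.length_pi]
  have : IsSimpleModule R (R ⧸ I) := by
    rw [isSimpleModule_iff_isCoatom, ← Ideal.isMaximal_def]
    exact hI
  rw [Module.length_eq_one, mul_one]
  simp

end Tor

end Groth.Agent.Lib.GrTor
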