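import Mathlib.CategoryTheory.Monoidal.Tor
import Mathlib.Algebra.Category.ModuleCat.Monoidal.Symmetric
import Mathlib.Algebra.Category.ModuleCat.Projective
import Mathlib.RingTheory.Flat.CategoryTheory
import Mathlib.Algebra.Homology.HomologySequence
import Mathlib.Algebra.Homology.HomologicalComplexAbelian
import Mathlib.CategoryTheory.Abelian.LeftDerived
import Mathlib.Algebra.Module.Projective
import Mathlib.Algebra.Category.ModuleCat.Monoidal.Closed
import Mathlib.CategoryTheory.Monoidal.Closed.Braided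
import Mathlib.CategoryTheory.Monoidal.Limits.Preserves

/-!
# Long exact sequence of Mathlib's `Tor` in the FIRST variable (helper35)

Mathlib's `Tor (ModuleCat R) n` left-derives `M ⊗ -`, i.e. resolves the second variable `N`.
For a projective resolution `P` of `N` we have `Tor_n(M, N) ≅ H_n(M ⊗ P)` naturally in `M`
(`torIso`, `torIso_hom_naturality`).  Since the terms of `P` are flat, a short exact sequence
`0 → M₁ → M₂ → M₃ → 0` gives a short exact sequence of complexes `M_i ⊗ P`, whence a long exact
sequence of `Tor` in the first variable (`δ`, `exact₁`, `exact₂`, `exact₃`).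
-/

set_option autoImplicit false

universe u

open CategoryTheory MonoidalCategory Limits

namespace Groth.Agent.Lib.TorLES

variable {R : Type u} [CommRing R]

/-- `M ↦ M ⊗ K` for a fixed chain complex `K`. -/
noncomputable def tensorCx (K : ChainComplex (ModuleCat.{u} R) ℕ) :
    ModuleCat.{u} R ⥤ ChainComplex (ModuleCat.{u} R) ℕ where
  obj M := (((tensoringLeft (ModuleCat.{u} R)).obj M).mapHomologicalComplex _).obj K
  map f := (NatTrans.mapHomologicalComplex ((tensoringLeft (ModuleCat.{u} R)).map f) _).app K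
  map_id M := by
    ext i
    simp
  map_comp f g := by
    ext i
    simp

@[simp]
lemma tensorCx_obj_X (K : ChainComplex (ModuleCat.{u} R) ℕ) (M : ModuleCat.{u} R) (i : ℕ) :
    ((tensorCx K).obj M).X i = M ⊗ K.X i := rfl

@[simp]
lemma tensorCx_map_f (K : ChainComplex (ModuleCat.{u} R) ℕ) {M M' : ModuleCat.{u} R} (f : M ⟶ M')
    (i : ℕ) : ((tensorCx K).map f).f i = f ▷ K.X i := rfl

@[simp]
lemma tensorCx_obj_d (K : ChainComplex (ModuleCat.{u} R) ℕ) (M : ModuleCat.{u} R) (i j : ℕ) :
    ((tensorCx K).obj M).d i j = M ◁ K.d i j := rfl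

instance (K : ChainComplex (ModuleCat.{u} R) ℕ) : (tensorCx K).Additive where
  map_add {M M' f g} := by
    ext i : 1
    simp only [tensorCx_map_f, HomologicalComplex.add_f_apply]
    exact MonoidalPreadditive.add_whiskerRight _ _

section iso

variable {N : ModuleCat.{u} R} (P : ProjectiveResolution N)

/-- `Tor_n(M, N) ≅ H_n(M ⊗ P)` for a projective resolution `P` of `N`. -/
noncomputable def torIso (M : ModuleCat.{u} R) (n : ℕ) :
    ((Tor (ModuleCat.{u} R) n).obj M).obj N ≅ ((tensorCx P.complex).obj M).homology n :=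
  P.isoLeftDerivedObj ((tensoringLeft (ModuleCat.{u} R)).obj M) n

lemma torIso_hom_naturality {M M' : ModuleCat.{u} R} (f : M ⟶ M') (n : ℕ) :
    ((Tor (ModuleCat.{u} R) n).map f).app N ≫ (torIso P M' n).hom =
      (torIso P M n).hom ≫ HomologicalComplex.homologyMap ((tensorCx P.complex).map f) n := by
  have h2 : ((Tor (ModuleCat.{u} R) n).map f).app N = (torIso P M n).hom ≫
      HomologicalComplex.homologyMap ((tensorCx P.complex).map f) n ≫ (torIso P M' n).inv :=
    ProjectiveResolution.leftDerived_app_eq ((tensoringLeft (ModuleCat.{u} R)).map f) P n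
  rw [h2, Category.assoc, Category.assoc, Iso.inv_hom_id, Category.comp_id]

lemma torIso_inv_naturality {M M' : ModuleCat.{u} R} (f : M ⟶ M') (n : ℕ) :
    (torIso P M n).inv ≫ ((Tor (ModuleCat.{u} R) n).map f).app N =
      HomologicalComplex.homologyMap ((tensorCx P.complex).map f) n ≫ (torIso P M' n).inv := by
  rw [Iso.inv_comp_eq, ← Category.assoc, Iso.eq_comp_inv, torIso_hom_naturality]

end iso

section les

lemma flat_of_projective (X : ModuleCat.{u} R) [Projective X] : Module.Flat R X := by
  have : Module.Projective R X := (IsProjective.iff_projective (R := R) (P := X)).mpr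
    (inferInstanceAs (Projective X))
  infer_instance

variable {N : ModuleCat.{u} R} (P : ProjectiveResolution N)
  {S : ShortComplex (ModuleCat.{u} R)} (hS : S.ShortExact)

include hS in
/-- Tensoring a short exact sequence with a complex of projectives gives a short exact sequence
of complexes. -/
lemma shortExact_map_tensorCx : (S.map (tensorCx P.complex)).ShortExact := by
  apply HomologicalComplex.shortExact_of_degreewise_shortExact
  intro i
  have : Module.Flat R (P.complex.X i) := flat_of_projective _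
  exact hS.map_of_exact (tensorRight (P.complex.X i))

end les

section les2

variable {N : ModuleCat.{u} R} (P : ProjectiveResolution N)
  {S : ShortComplex (ModuleCat.{u} R)} (hS : S.ShortExact)

lemma rel_succ (n : ℕ) : (ComplexShape.down ℕ).Rel (n + 1) n := by simp

/-- The connecting homomorphism on homology of the tensored complexes. -/
noncomputable def δH (n : ℕ) : ((tensorCx P.complex).obj S.X₃).homology (n + 1) ⟶
    ((tensorCx P.complex).obj S.X₁).homology n :=
  (shortExact_map_tensorCx P hS).δ (n + 1) n (rel_succ n)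

lemma δH_comp (n : ℕ) :
    δH P hS n ≫ HomologicalComplex.homologyMap ((tensorCx P.complex).map S.f) n = 0 :=
  (shortExact_map_tensorCx P hS).δ_comp (n + 1) n (rel_succ n)

lemma comp_δH (n : ℕ) :
    HomologicalComplex.homologyMap ((tensorCx P.complex).map S.g) (n + 1) ≫ δH P hS n = 0 :=
  (shortExact_map_tensorCx P hS).comp_δ (n + 1) n (rel_succ n)

lemma homologyMap_comp_zero (n : ℕ) :
    HomologicalComplex.homologyMap ((tensorCx P.complex).map S.f) n ≫
      HomologicalComplex.homologyMap ((tensorCx P.complex).map S.g) n = 0 := by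
  rw [← HomologicalComplex.homologyMap_comp, ← Functor.map_comp, S.zero, Functor.map_zero,
    HomologicalComplex.homologyMap_zero]

lemma exactH₁ (n : ℕ) : (ShortComplex.mk _ _ (δH_comp P hS n)).Exact :=
  (shortExact_map_tensorCx P hS).homology_exact₁ (n + 1) n (rel_succ n)

include hS in
lemma exactH₂ (n : ℕ) : (ShortComplex.mk _ _ (homologyMap_comp_zero P (S := S) n)).Exact :=
  (shortExact_map_tensorCx P hS).homology_exact₂ n

lemma exactH₃ (n : ℕ) : (ShortComplex.mk _ _ (comp_δH P hS n)).Exact :=
  (shortExact_map_tensorCx P hS).homology_exact₃ (n + 1) n (rel_succ n)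

/-- The connecting homomorphism `Tor_{n+1}(X₃, N) ⟶ Tor_n(X₁, N)` of a short exact sequence
in the first variable (computed with the resolution `P` of `N`). -/
noncomputable def δ (n : ℕ) :
    ((Tor (ModuleCat.{u} R) (n + 1)).obj S.X₃).obj N ⟶ ((Tor (ModuleCat.{u} R) n).obj S.X₁).obj N :=
  (torIso P S.X₃ (n + 1)).hom ≫ δH P hS n ≫ (torIso P S.X₁ n).inv

lemma tor_map_zero_app (M M' : ModuleCat.{u} R) (n : ℕ) :
    ((Tor (ModuleCat.{u} R) n).map (0 : M ⟶ M')).app N = 0 := by
  have h := torIso_hom_naturality (ProjectiveResolution.of N) (0 : M ⟶ M') n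
  rw [(tensorCx (ProjectiveResolution.of N).complex).map_zero,
    HomologicalComplex.homologyMap_zero, comp_zero] at h
  rw [← cancel_mono (torIso (ProjectiveResolution.of N) M' n).hom, h, zero_comp]

lemma tor_map_comp_zero (n : ℕ) :
    ((Tor (ModuleCat.{u} R) n).map S.f).app N ≫ ((Tor (ModuleCat.{u} R) n).map S.g).app N = 0 := by
  rw [← NatTrans.comp_app, ← Functor.map_comp, S.zero, tor_map_zero_app]

lemma δ_comp (n : ℕ) : δ P hS n ≫ ((Tor (ModuleCat.{u} R) n).map S.f).app N = 0 := by
  rw [δ, Category.assoc, Category.assoc, torIso_inv_naturality, reassoc_of% (δH_comp P hS n),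
    zero_comp, comp_zero]

lemma comp_δ (n : ℕ) : ((Tor (ModuleCat.{u} R) (n + 1)).map S.g).app N ≫ δ P hS n = 0 := by
  rw [δ, ← Category.assoc, torIso_hom_naturality, Category.assoc, reassoc_of% (comp_δH P hS n),
    zero_comp, comp_zero]

include hS in
/-- Exactness of `Tor_n(X₁,N) ⟶ Tor_n(X₂,N) ⟶ Tor_n(X₃,N)`. -/
lemma exact₂ (n : ℕ) : (ShortComplex.mk _ _ (tor_map_comp_zero (N := N) (S := S) n)).Exact := by
  let P := ProjectiveResolution.of N
  refine ShortComplex.exact_of_iso ?_ (exactH₂ P hS n)
  exact (ShortComplex.isoMk (torIso P S.X₁ n) (torIso P S.X₂ n) (torIso P S.X₃ n)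
    (torIso_hom_naturality P S.f n).symm (torIso_hom_naturality P S.g n).symm).symm

/-- Exactness of `Tor_{n+1}(X₃,N) ⟶ Tor_n(X₁,N) ⟶ Tor_n(X₂,N)`. -/
lemma exact₁ (n : ℕ) : (ShortComplex.mk _ _ (δ_comp P hS n)).Exact := by
  refine ShortComplex.exact_of_iso ?_ (exactH₁ P hS n)
  refine (ShortComplex.isoMk (torIso P S.X₃ (n + 1)) (torIso P S.X₁ n) (torIso P S.X₂ n)
    ?_ (torIso_hom_naturality P S.f n).symm).symm
  dsimp only
  rw [δ, Category.assoc, Category.assoc, Iso.inv_hom_id, Category.comp_id]

/-- Exactness of `Tor_{n+1}(X₂,N) ⟶ Tor_{n+1}(X₃,N) ⟶ Tor_n(X₁,N)`. -/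
lemma exact₃ (n : ℕ) : (ShortComplex.mk _ _ (comp_δ P hS n)).Exact := by
  refine ShortComplex.exact_of_iso ?_ (exactH₃ P hS n)
  refine (ShortComplex.isoMk (torIso P S.X₂ (n + 1)) (torIso P S.X₃ (n + 1)) (torIso P S.X₁ n)
    (torIso_hom_naturality P S.g (n + 1)).symm ?_).symm
  dsimp only
  rw [δ, Category.assoc, Category.assoc, Iso.inv_hom_id, Category.comp_id]

end les2

section corollaries

variable {N : ModuleCat.{u} R}

lemma isZero_tor_of_isZero_left {M : ModuleCat.{u} R} (hM : IsZero M) (n : ℕ) :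
    IsZero (((Tor (ModuleCat.{u} R) n).obj M).obj N) := by
  rw [IsZero.iff_id_eq_zero]
  have h1 : 𝟙 M = 0 := hM.eq_of_src _ _
  have h2 := tor_map_zero_app (N := N) M M n
  rw [← h1, CategoryTheory.Functor.map_id, NatTrans.id_app] at h2
  exact h2

/-- An isomorphism in the first variable induces an isomorphism on `Tor`. -/
noncomputable def torMapIso {M M' : ModuleCat.{u} R} (e : M ≅ M') (n : ℕ) :
    ((Tor (ModuleCat.{u} R) n).obj M).obj N ≅ ((Tor (ModuleCat.{u} R) n).obj M').obj N :=
  ((Tor (ModuleCat.{u} R) n).mapIso e).app N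

lemma isZero_tor_of_iso {M M' : ModuleCat.{u} R} (e : M ≅ M') (n : ℕ)
    (h : IsZero (((Tor (ModuleCat.{u} R) n).obj M').obj N)) :
    IsZero (((Tor (ModuleCat.{u} R) n).obj M).obj N) :=
  h.of_iso (torMapIso e n)

variable {S : ShortComplex (ModuleCat.{u} R)} (hS : S.ShortExact)

include hS in
/-- If `Tor_n(X₁, N) = 0 = Tor_n(X₃, N)` then `Tor_n(X₂, N) = 0`. -/
lemma isZero_tor_X₂ (n : ℕ) (h1 : IsZero (((Tor (ModuleCat.{u} R) n).obj S.X₁).obj N))
    (h3 : IsZero (((Tor (ModuleCat.{u} R) n).obj S.X₃).obj N)) :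
    IsZero (((Tor (ModuleCat.{u} R) n).obj S.X₂).obj N) :=
  (exact₂ (N := N) hS n).isZero_of_both_zeros (h1.eq_of_src _ _) (h3.eq_of_tgt _ _)

include hS in
/-- If `Tor_{n+1}(X₂, N) = 0 = Tor_n(X₁, N)` then `Tor_{n+1}(X₃, N) = 0`. -/
lemma isZero_tor_X₃ (n : ℕ) (h2 : IsZero (((Tor (ModuleCat.{u} R) (n + 1)).obj S.X₂).obj N))
    (h1 : IsZero (((Tor (ModuleCat.{u} R) n).obj S.X₁).obj N)) :
    IsZero (((Tor (ModuleCat.{u} R) (n + 1)).obj S.X₃).obj N) :=
  (exact₃ (ProjectiveResolution.of N) hS n).isZero_of_both_zeros (h2.eq_of_src _ _)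
    (h1.eq_of_tgt _ _)

include hS in
/-- If `Tor_{n+1}(X₃, N) = 0 = Tor_n(X₂, N)` then `Tor_n(X₁, N) = 0`. -/
lemma isZero_tor_X₁ (n : ℕ) (h3 : IsZero (((Tor (ModuleCat.{u} R) (n + 1)).obj S.X₃).obj N))
    (h2 : IsZero (((Tor (ModuleCat.{u} R) n).obj S.X₂).obj N)) :
    IsZero (((Tor (ModuleCat.{u} R) n).obj S.X₁).obj N) :=
  (exact₁ (ProjectiveResolution.of N) hS n).isZero_of_both_zeros (h3.eq_of_src _ _)
    (h2.eq_of_tgt _ _)

end corollaries

section zero

/-- `Tor_0(M, N) ≅ M ⊗ N`. -/
noncomputable def torZeroIso (M N : ModuleCat.{u} R) :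
    ((Tor (ModuleCat.{u} R) 0).obj M).obj N ≅ M ⊗ N :=
  (Functor.leftDerivedZeroIsoSelf ((tensoringLeft (ModuleCat.{u} R)).obj M)).app N

lemma torZeroIso_hom_naturality {M M' : ModuleCat.{u} R} (f : M ⟶ M') (N : ModuleCat.{u} R) :
    ((Tor (ModuleCat.{u} R) 0).map f).app N ≫ (torZeroIso M' N).hom =
      (torZeroIso M N).hom ≫ f ▷ N := by
  let P := ProjectiveResolution.of N
  have e1 : (torZeroIso M N).hom = (torIso P M 0).hom ≫
      (ChainComplex.isoHomologyι₀ _).hom ≫
        P.fromLeftDerivedZero' ((tensoringLeft (ModuleCat.{u} R)).obj M) :=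
    P.fromLeftDerivedZero_eq ((tensoringLeft (ModuleCat.{u} R)).obj M)
  have e2 : (torZeroIso M' N).hom = (torIso P M' 0).hom ≫
      (ChainComplex.isoHomologyι₀ _).hom ≫
        P.fromLeftDerivedZero' ((tensoringLeft (ModuleCat.{u} R)).obj M') :=
    P.fromLeftDerivedZero_eq ((tensoringLeft (ModuleCat.{u} R)).obj M')
  rw [e1, e2, ← Category.assoc, torIso_hom_naturality, Category.assoc, Category.assoc,
    Category.assoc]
  congr 1
  have h3 : HomologicalComplex.homologyMap ((tensorCx P.complex).map f) 0 ≫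
      (ChainComplex.isoHomologyι₀ ((tensorCx P.complex).obj M')).hom =
      (ChainComplex.isoHomologyι₀ ((tensorCx P.complex).obj M)).hom ≫
        HomologicalComplex.opcyclesMap ((tensorCx P.complex).map f) 0 := by
    rw [← cancel_epi (ChainComplex.isoHomologyι₀ ((tensorCx P.complex).obj M)).inv,
      ChainComplex.isoHomologyι₀_inv_naturality_assoc, Iso.inv_hom_id, Category.comp_id,
      Iso.inv_hom_id_assoc]
  have h4 : HomologicalComplex.opcyclesMap ((tensorCx P.complex).map f) 0 ≫
      P.fromLeftDerivedZero' ((tensoringLeft (ModuleCat.{u} R)).obj M') =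
      P.fromLeftDerivedZero' ((tensoringLeft (ModuleCat.{u} R)).obj M) ≫ f ▷ N := by
    rw [← cancel_epi (HomologicalComplex.pOpcycles _ _)]
    erw [HomologicalComplex.p_opcyclesMap_assoc,
      ProjectiveResolution.pOpcycles_comp_fromLeftDerivedZero',
      ProjectiveResolution.pOpcycles_comp_fromLeftDerivedZero'_assoc]
    exact (whisker_exchange f (P.π.f 0)).symm
  erw [reassoc_of% h3, h4]
  rfl

end zero

section flat

/-- `Tor_{n+1}(M, N) = 0` when the first variable `M` is flat. -/
lemma isZero_tor_succ_of_flat_left (M N : ModuleCat.{u} R) [Module.Flat R M] (n : ℕ) :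
    IsZero (((Tor (ModuleCat.{u} R) (n + 1)).obj M).obj N) := by
  let P := ProjectiveResolution.of N
  let F := (tensoringLeft (ModuleCat.{u} R)).obj M
  have h1 : PreservesFiniteLimits F :=
    (inferInstance : PreservesFiniteLimits (tensorLeft M))
  have h2 : PreservesFiniteColimits F :=
    (inferInstance : PreservesFiniteColimits (tensorLeft M))
  have h3 : F.PreservesHomology := inferInstance
  refine IsZero.of_iso ?_ (P.isoLeftDerivedObj F (n + 1))
  change IsZero (((F.mapHomologicalComplex _).obj P.complex).homology (n + 1))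
  rw [← HomologicalComplex.exactAt_iff_isZero_homology]
  have := P.complex_exactAt_succ n
  rw [HomologicalComplex.exactAt_iff] at this ⊢
  exact this.map F

/-- The canonical presentation `0 → K → F → N → 0` with `F` projective. -/
noncomputable def projPres (N : ModuleCat.{u} R) : ShortComplex (ModuleCat.{u} R) :=
  ShortComplex.mk (kernel.ι (Projective.π N)) (Projective.π N) (kernel.condition _)

lemma projPres_shortExact (N : ModuleCat.{u} R) : (projPres N).ShortExact := by
  have h1 : Mono (projPres N).f := inferInstanceAs (Mono (kernel.ι (Projective.π N)))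
  have h2 : Epi (projPres N).g := inferInstanceAs (Epi (Projective.π N))
  exact ⟨ShortComplex.exact_kernel _⟩

instance (N : ModuleCat.{u} R) : Projective (projPres N).X₂ :=
  inferInstanceAs (Projective (Projective.over N))

lemma mono_whiskerRight_of_flat {K F : ModuleCat.{u} R} (f : K ⟶ F) [Mono f]
    (M : ModuleCat.{u} R) [Module.Flat R M] : Mono (f ▷ M) :=
  inferInstanceAs (Mono ((tensorRight M).map f))

/-- `Tor_{n+1}(N, M) = 0` when the second variable `M` is flat. -/
lemma isZero_tor_succ_of_flat_right (M : ModuleCat.{u} R) [Module.Flat R M] (n : ℕ)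
    (N : ModuleCat.{u} R) : IsZero (((Tor (ModuleCat.{u} R) (n + 1)).obj N).obj M) := by
  induction n generalizing N with
  | zero =>
    have hS := projPres_shortExact N
    have hF : Module.Flat R (projPres N).X₂ := flat_of_projective _
    have hz : IsZero (((Tor (ModuleCat.{u} R) (0 + 1)).obj (projPres N).X₂).obj M) :=
      isZero_tor_succ_of_flat_left _ _ 0
    let P := ProjectiveResolution.of M
    have hmono : Mono (δ P hS 0) := (exact₃ P hS 0).mono_g (hz.eq_of_src _ _)
    have hm : Mono (projPres N).f := hS.mono_f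
    have hm2 : Mono ((projPres N).f ▷ M) := mono_whiskerRight_of_flat _ M
    have hm3 : Mono (((Tor (ModuleCat.{u} R) 0).map (projPres N).f).app M) := by
      have := torZeroIso_hom_naturality (projPres N).f M
      have h4 : ((Tor (ModuleCat.{u} R) 0).map (projPres N).f).app M =
          (torZeroIso _ M).hom ≫ (projPres N).f ▷ M ≫ (torZeroIso _ M).inv := by
        rw [← Category.assoc, ← this, Category.assoc, Iso.hom_inv_id, Category.comp_id]
      rw [h4]
      infer_instance
    have hδ : δ P hS 0 = 0 := by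
      rw [← cancel_mono (((Tor (ModuleCat.{u} R) 0).map (projPres N).f).app M), δ_comp, zero_comp]
    change IsZero (((Tor (ModuleCat.{u} R) (0 + 1)).obj (projPres N).X₃).obj M)
    rw [IsZero.iff_id_eq_zero, ← cancel_mono (δ P hS 0), hδ, comp_zero, comp_zero]
  | succ n ih =>
    have hS := projPres_shortExact N
    have hF : Module.Flat R (projPres N).X₂ := flat_of_projective _
    exact isZero_tor_X₃ hS (n + 1) (isZero_tor_succ_of_flat_left _ _ (n + 1)) (ih _)

end flat

end Groth.Agent.Lib.TorLES
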