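import Mathlib
import Groth.Agent.Lib.TorLES
import Groth.Agent.Lib.GrFreeRes
import Groth.Agent.Lib.GrTor

/-!
# Hilbert's syzygy theorem, graded form (helper12)

* `sc I x`, `sc_shortExact`: `0 → R/I → R/I → R/(I+(x)) → 0` for `x` regular mod `I`.
* `isZero_tor_quotient`: `Tor_i(R/(x_0..x_{j-1}), N) = 0` for `i > j` (uses helper35's first-variable LES of Tor).
* `Ij`, `Ij_reg`, `Ij_top`: the variables of a polynomial ring form a regular sequence generating `ker constantCoeff`.
* `exists_freeRes_hasLengthLE`: a f.g. graded module over `k[x_0..x_n]` has a graded free resolution of length `≤ n+1`.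
-/

set_option autoImplicit false
set_option linter.unusedSectionVars false

namespace Groth.Agent.Lib.GrSyzygy

open CategoryTheory Limits

universe u

section Generic

variable {R : Type u} [CommRing R]

/-- multiplication by `x` on `R ⧸ I` -/
noncomputable def mulQ (I : Ideal R) (x : R) : (R ⧸ I) →ₗ[R] (R ⧸ I) := x • LinearMap.id

/-- the projection `R ⧸ I → R ⧸ (I ⊔ (x))` -/
noncomputable def projQ (I : Ideal R) (x : R) : (R ⧸ I) →ₗ[R] (R ⧸ (I ⊔ Ideal.span {x})) :=
  Submodule.mapQ I (I ⊔ Ideal.span {x}) LinearMap.id (by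
    intro y hy
    exact Submodule.mem_sup_left hy)

lemma projQ_mk (I : Ideal R) (x : R) (p : R) :
    projQ I x (Submodule.Quotient.mk p) = Submodule.Quotient.mk p := rfl

lemma mulQ_mk (I : Ideal R) (x : R) (p : R) :
    mulQ I x (Submodule.Quotient.mk p) = Submodule.Quotient.mk (x * p) := rfl

lemma projQ_surjective (I : Ideal R) (x : R) : Function.Surjective (projQ I x) := by
  intro y
  obtain ⟨p, rfl⟩ := Submodule.Quotient.mk_surjective _ y
  exact ⟨Submodule.Quotient.mk p, rfl⟩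

lemma mulQ_injective (I : Ideal R) (x : R) (hx : ∀ p, x * p ∈ I → p ∈ I) :
    Function.Injective (mulQ I x) := by
  rw [← LinearMap.ker_eq_bot, eq_bot_iff]
  intro y hy
  obtain ⟨p, rfl⟩ := Submodule.Quotient.mk_surjective _ y
  rw [LinearMap.mem_ker, mulQ_mk, Submodule.Quotient.mk_eq_zero] at hy
  rw [Submodule.mem_bot, Submodule.Quotient.mk_eq_zero]
  exact hx p hy

lemma exact_mulQ_projQ (I : Ideal R) (x : R) : Function.Exact (mulQ I x) (projQ I x) := by
  intro y
  obtain ⟨p, rfl⟩ := Submodule.Quotient.mk_surjective _ y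
  rw [projQ_mk, Submodule.Quotient.mk_eq_zero]
  constructor
  · intro hp
    obtain ⟨a, ha, b, hb, rfl⟩ := Submodule.mem_sup.1 hp
    obtain ⟨c, rfl⟩ := Ideal.mem_span_singleton'.1 hb
    refine ⟨Submodule.Quotient.mk c, ?_⟩
    rw [mulQ_mk]
    rw [Submodule.Quotient.eq]
    have : x * c - (a + c * x) = -a := by ring
    rw [this]
    exact I.neg_mem ha
  · rintro ⟨z, hz⟩
    obtain ⟨c, rfl⟩ := Submodule.Quotient.mk_surjective _ z
    rw [mulQ_mk, Submodule.Quotient.eq] at hz
    have : p = -(x * c - p) + c * x := by ring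
    rw [this]
    exact Submodule.add_mem_sup (I.neg_mem hz) (Ideal.mem_span_singleton'.2 ⟨c, rfl⟩)

/-- the short exact sequence `0 → R/I → R/I → R/(I+(x)) → 0` -/
noncomputable def sc (I : Ideal R) (x : R) : ShortComplex (ModuleCat.{u} R) :=
  ShortComplex.mk (ModuleCat.ofHom (mulQ I x)) (ModuleCat.ofHom (projQ I x)) (by
    ext : 1
    apply LinearMap.ext
    intro y
    exact (exact_mulQ_projQ I x).apply_apply_eq_zero y)

lemma sc_shortExact (I : Ideal R) (x : R) (hx : ∀ p, x * p ∈ I → p ∈ I) :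
    (sc I x).ShortExact :=
  ModuleCat.shortComplex_shortExact (sc I x) (exact_mulQ_projQ I x) (mulQ_injective I x hx)
    (projQ_surjective I x)

open Groth.Agent.Lib.TorLES

/-- vanishing of `Tor_i(R/I_j, N)` for `i > j` along a regular sequence -/
theorem isZero_tor_quotient (I : ℕ → Ideal R) (x : ℕ → R) (m : ℕ) (h0 : I 0 = ⊥)
    (hsucc : ∀ j, j < m → I (j + 1) = I j ⊔ Ideal.span {x j})
    (hreg : ∀ j, j < m → ∀ p, x j * p ∈ I j → p ∈ I j) (N : ModuleCat.{u} R) :
    ∀ j, j ≤ m → ∀ i, j < i →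
      IsZero (((Tor (ModuleCat.{u} R) i).obj (ModuleCat.of R (R ⧸ I j))).obj N) := by
  intro j
  induction j with
  | zero =>
    intro _ i hi
    obtain ⟨i', rfl⟩ : ∃ i', i = i' + 1 := ⟨i - 1, by omega⟩
    have : Module.Flat R (R ⧸ I 0) := by
      rw [h0]
      exact Module.Flat.of_linearEquiv (Submodule.quotEquivOfEqBot (⊥ : Ideal R) rfl)
    exact isZero_tor_succ_of_flat_left (ModuleCat.of R (R ⧸ I 0)) N i'
  | succ j ih =>
    intro hj i hi
    obtain ⟨i', rfl⟩ : ∃ i', i = i' + 1 := ⟨i - 1, by omega⟩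
    have hS := sc_shortExact (I j) (x j) (hreg j (by omega))
    have h3 := isZero_tor_X₃ (N := N) hS i' (ih (by omega) (i' + 1) (by omega))
      (ih (by omega) i' (by omega))
    rw [hsucc j (by omega)]
    exact h3

end Generic

section Poly

open MvPolynomial

variable (k : Type u) [CommRing k] (n : ℕ)

/-- the ideal `(x_0, …, x_{j-1})` -/
noncomputable def Ij (j : ℕ) : Ideal (MvPolynomial (Fin (n + 1)) k) :=
  Ideal.span (X '' {i : Fin (n + 1) | i.val < j})

/-- the `j`-th variable (zero beyond the range) -/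
noncomputable def xj (j : ℕ) : MvPolynomial (Fin (n + 1)) k :=
  if h : j < n + 1 then X ⟨j, h⟩ else 0

lemma Ij_zero : Ij k n 0 = ⊥ := by
  unfold Ij
  have : {i : Fin (n + 1) | i.val < 0} = ∅ := by
    ext i; simp
  rw [this, Set.image_empty, Ideal.span_empty]

lemma Ij_succ (j : ℕ) (hj : j < n + 1) : Ij k n (j + 1) = Ij k n j ⊔ Ideal.span {xj k n j} := by
  unfold Ij xj
  rw [dif_pos hj]
  have : {i : Fin (n + 1) | i.val < j + 1} =
      {i : Fin (n + 1) | i.val < j} ∪ {(⟨j, hj⟩ : Fin (n + 1))} := by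
    ext i
    simp only [Set.mem_ofPred_eq, Set.mem_union, Set.mem_singleton_iff, Fin.ext_iff]
    omega
  rw [this, Set.image_union, Ideal.span_union, Set.image_singleton]

lemma Ij_reg (j : ℕ) (hj : j < n + 1) (p : MvPolynomial (Fin (n + 1)) k)
    (hp : xj k n j * p ∈ Ij k n j) : p ∈ Ij k n j := by
  classical
  unfold Ij xj at *
  rw [dif_pos hj] at hp
  rw [mem_ideal_span_X_image] at hp ⊢
  intro m hm
  have hm' : Finsupp.single (⟨j, hj⟩ : Fin (n + 1)) 1 + m ∈
      ((X (⟨j, hj⟩ : Fin (n + 1)) : MvPolynomial (Fin (n + 1)) k) * p).support := by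
    rw [mem_support_iff, coeff_X_mul]
    exact mem_support_iff.1 hm
  obtain ⟨i, hi, hne⟩ := hp _ hm'
  refine ⟨i, hi, ?_⟩
  have hij : (⟨j, hj⟩ : Fin (n + 1)) ≠ i := by
    intro h
    rw [← h] at hi
    simp at hi
  rwa [Finsupp.add_apply, Finsupp.single_eq_of_ne hij.symm, zero_add] at hne

lemma Ij_top : Ij k n (n + 1) = RingHom.ker (constantCoeff (R := k) (σ := Fin (n + 1))) := by
  classical
  ext p
  unfold Ij
  rw [mem_ideal_span_X_image, RingHom.mem_ker, constantCoeff_eq]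
  constructor
  · intro h
    by_contra hne
    obtain ⟨i, _, hi⟩ := h 0 (mem_support_iff.2 hne)
    exact hi rfl
  · intro h m hm
    have hm0 : m ≠ 0 := by
      rintro rfl
      exact (mem_support_iff.1 hm) h
    obtain ⟨i, hi⟩ : ∃ i, m i ≠ 0 := by
      by_contra hall
      push Not at hall
      exact hm0 (Finsupp.ext hall)
    exact ⟨i, i.2, hi⟩

end Poly

section Syzygy

variable (k : Type u) [Field k] (n : ℕ)
  (M : Type u) [AddCommGroup M] [Module k M] [Module (MvPolynomial (Fin (n + 1)) k) M]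
  [IsScalarTower k (MvPolynomial (Fin (n + 1)) k) M] [Module.Finite (MvPolynomial (Fin (n + 1)) k) M]
  (ℳ : ℤ → Submodule k M) [DirectSum.Decomposition ℳ]
  [SetLike.GradedSMul (GrSyz.stdGr k (Fin (n + 1))) ℳ]

theorem isZero_tor_residueField (N : ModuleCat.{u} (MvPolynomial (Fin (n + 1)) k)) (i : ℕ)
    (hi : n + 1 < i) :
    IsZero (((Tor (ModuleCat.{u} (MvPolynomial (Fin (n + 1)) k)) i).obj
      (ModuleCat.of (MvPolynomial (Fin (n + 1)) k) ((MvPolynomial (Fin (n + 1)) k) ⧸
        (GrSyz.irrel (GrSyz.stdGr k (Fin (n + 1)))).toIdeal))).obj N) := by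
  have h := isZero_tor_quotient (Ij k n) (xj k n) (n + 1) (Ij_zero k n)
    (fun j hj => Ij_succ k n j hj) (fun j hj => Ij_reg k n j hj) N (n + 1) le_rfl i hi
  rw [Ij_top, ← Groth.Agent.Lib.GrTor.irrel_eq_ker] at h
  exact h

theorem hasLengthLE_of_isMinimal (F : GrSyz.FreeRes (GrSyz.stdGr k (Fin (n + 1))) ℳ)
    (hF : F.IsMinimal (GrSyz.irrel (GrSyz.stdGr k (Fin (n + 1)))).toIdeal) :
    F.HasLengthLE (n + 1) := by
  intro i hi
  have := Groth.Agent.Lib.GrTor.irrel_isMaximal k (Fin (n + 1))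
  have h1 := Groth.Agent.Lib.GrTor.length_tor _ F hF i
  have h2 := isZero_tor_residueField k n (ModuleCat.of _ M) i hi
  have h3 : Subsingleton (((Tor (ModuleCat.{u} (MvPolynomial (Fin (n + 1)) k)) i).obj
      (ModuleCat.of (MvPolynomial (Fin (n + 1)) k) ((MvPolynomial (Fin (n + 1)) k) ⧸
        (GrSyz.irrel (GrSyz.stdGr k (Fin (n + 1)))).toIdeal))).obj
        (ModuleCat.of (MvPolynomial (Fin (n + 1)) k) M)) :=
    ModuleCat.subsingleton_of_isZero h2
  rw [Module.length_eq_zero] at h1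
  exact_mod_cast h1.symm

theorem exists_freeRes_hasLengthLE :
    ∃ F : GrSyz.FreeRes (GrSyz.stdGr k (Fin (n + 1))) ℳ, F.HasLengthLE (n + 1) := by
  obtain ⟨F, hF⟩ := Groth.Agent.Lib.GrFreeRes.exists_freeRes_isMinimal k n M ℳ
  exact ⟨F, hasLengthLE_of_isMinimal k n M ℳ F hF⟩

end Syzygy

end Groth.Agent.Lib.GrSyzygy
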