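import Groth.Prelude.Def_GrSyz

/-!
# Graded free modules of finite rank over a ℤ-graded ring (for `GrSyz.FreeRes`)

For `deg : Fin n → ℤ`, the free module `Fin n → R` is graded by declaring the `b`-th basis vector
homogeneous of degree `deg b`.  We define homogeneous vectors (`IsHomogVec`), the component
operators (`comp`), and show that matrices with homogeneous entries commute with components.
-/

set_option autoImplicit false
set_option linter.unusedSectionVars false

open DirectSum

namespace Groth.Agent.Lib.GrFree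

universe u

variable {R : Type u} [CommRing R] {σ' : Type u} [SetLike σ' R] [AddSubgroupClass σ' R]
  (𝒜 : ℤ → σ') [GradedRing 𝒜]

/-- `v` is homogeneous of degree `t` in `⊕ R(-deg b)`. -/
def IsHomogVec {n : ℕ} (deg : Fin n → ℤ) (t : ℤ) (v : Fin n → R) : Prop :=
  ∀ b, v b ∈ 𝒜 (t - deg b)

/-- The degree `t` component of a vector. -/
noncomputable def comp {n : ℕ} (deg : Fin n → ℤ) (t : ℤ) (v : Fin n → R) : Fin n → R :=
  fun b => (decompose 𝒜 (v b) (t - deg b) : R)

variable {n : ℕ} (deg : Fin n → ℤ)

lemma isHomogVec_comp (t : ℤ) (v : Fin n → R) : IsHomogVec 𝒜 deg t (comp 𝒜 deg t v) :=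
  fun b => (decompose 𝒜 (v b) (t - deg b)).2

lemma comp_of_isHomogVec {t : ℤ} {v : Fin n → R} (hv : IsHomogVec 𝒜 deg t v) :
    comp 𝒜 deg t v = v := by
  funext b
  exact decompose_of_mem_same 𝒜 (hv b)

lemma comp_of_isHomogVec_ne {t t' : ℤ} {v : Fin n → R} (hv : IsHomogVec 𝒜 deg t v)
    (h : t ≠ t') : comp 𝒜 deg t' v = 0 := by
  funext b
  exact decompose_of_mem_ne 𝒜 (hv b) (by omega)

lemma comp_add (t : ℤ) (v w : Fin n → R) :
    comp 𝒜 deg t (v + w) = comp 𝒜 deg t v + comp 𝒜 deg t w := by
  funext b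
  simp [comp, decompose_add]

lemma comp_zero (t : ℤ) : comp 𝒜 deg t (0 : Fin n → R) = 0 := by
  funext b
  simp [comp]

lemma isHomogVec_zero (t : ℤ) : IsHomogVec 𝒜 deg t (0 : Fin n → R) :=
  fun _ => zero_mem _

lemma IsHomogVec.add {t : ℤ} {v w : Fin n → R} (hv : IsHomogVec 𝒜 deg t v)
    (hw : IsHomogVec 𝒜 deg t w) : IsHomogVec 𝒜 deg t (v + w) :=
  fun b => add_mem (hv b) (hw b)

/-- multiplying a homogeneous vector by a homogeneous scalar -/
lemma IsHomogVec.smul {t s : ℤ} {v : Fin n → R} (hv : IsHomogVec 𝒜 deg t v) {a : R}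
    (ha : a ∈ 𝒜 s) : IsHomogVec 𝒜 deg (s + t) (a • v) := by
  intro b
  have : s + t - deg b = s + (t - deg b) := by ring
  rw [this]
  exact SetLike.GradedMul.mul_mem ha (hv b)

open Classical in
/-- A finite set of degrees containing all degrees in which `v` has a nonzero component. -/
noncomputable def degs (v : Fin n → R) : Finset ℤ :=
  Finset.univ.biUnion fun b => ((decompose 𝒜 (v b)).support).image (· + deg b)

open Classical in
lemma sum_comp (v : Fin n → R) : ∑ t ∈ degs 𝒜 deg v, comp 𝒜 deg t v = v := by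
  funext b
  rw [Finset.sum_apply]
  have hsub : ((decompose 𝒜 (v b)).support).image (· + deg b) ⊆ degs 𝒜 deg v := by
    intro t ht
    exact Finset.mem_biUnion.2 ⟨b, Finset.mem_univ _, ht⟩
  rw [← Finset.sum_subset hsub]
  · rw [Finset.sum_image (fun x _ y _ h => by simpa using h)]
    have : ∀ i ∈ (decompose 𝒜 (v b)).support,
        comp 𝒜 deg (i + deg b) v b = (decompose 𝒜 (v b) i : R) := by
      intro i _
      have h : i + deg b - deg b = i := by ring
      exact congrArg (fun j => ((decompose 𝒜 (v b) j : 𝒜 j) : R)) h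
    rw [Finset.sum_congr rfl this]
    exact sum_support_decompose 𝒜 (v b)
  · intro t _ ht
    have : t - deg b ∉ (decompose 𝒜 (v b)).support := by
      intro h
      exact ht (Finset.mem_image.2 ⟨t - deg b, h, by ring⟩)
    rw [DFinsupp.notMem_support_iff] at this
    simp [comp, this]

/-- A matrix with homogeneous entries commutes with taking components. -/
lemma comp_mulVec {n' : ℕ} (deg' : Fin n' → ℤ) (D : Matrix (Fin n) (Fin n') R)
    (hD : ∀ a b, D a b ∈ 𝒜 (deg' b - deg a)) (t : ℤ) (w : Fin n' → R) :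
    comp 𝒜 deg t (D.mulVec w) = D.mulVec (comp 𝒜 deg' t w) := by
  funext a
  simp only [comp, Matrix.mulVec, dotProduct]
  rw [decompose_sum, DFinsupp.finsetSum_apply, AddSubmonoidClass.coe_finsetSum]
  refine Finset.sum_congr rfl fun b _ => ?_
  have : t - deg a = (deg' b - deg a) + (t - deg' b) := by ring
  rw [this]
  exact coe_decompose_mul_add_of_left_mem 𝒜 (hD a b)

/-- The kernel of a matrix with homogeneous entries is stable under components. -/
lemma comp_mem_ker {n' : ℕ} (deg' : Fin n' → ℤ) (D : Matrix (Fin n) (Fin n') R)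
    (hD : ∀ a b, D a b ∈ 𝒜 (deg' b - deg a)) (t : ℤ) {w : Fin n' → R}
    (hw : w ∈ LinearMap.ker D.mulVecLin) : comp 𝒜 deg' t w ∈ LinearMap.ker D.mulVecLin := by
  rw [LinearMap.mem_ker, Matrix.mulVecLin_apply] at hw ⊢
  rw [← comp_mulVec 𝒜 deg deg' D hD, hw, comp_zero]

section Module

variable {M : Type u} [AddCommGroup M] [Module R M] {τ : Type u} [SetLike τ M]
  [AddSubgroupClass τ M] (ℳ : ℤ → τ) [Decomposition ℳ] [SetLike.GradedSMul 𝒜 ℳ]

/-- Components of a scalar multiple of a homogeneous element. -/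
lemma decompose_smul_of_mem {j : ℤ} {m : M} (hm : m ∈ ℳ j) (r : R) (t : ℤ) :
    (decompose ℳ (r • m) t : M) = (decompose 𝒜 r (t - j) : R) • m := by
  induction r using Decomposition.inductionOn 𝒜 with
  | zero => simp
  | @homogeneous i r =>
    have hrm : (r : R) • m ∈ ℳ (i + j) := SetLike.GradedSMul.smul_mem r.2 hm
    by_cases h : i + j = t
    · subst h
      rw [decompose_of_mem_same ℳ hrm]
      have h' : i + j - j = i := by ring
      have : (decompose 𝒜 (r : R) (i + j - j) : R) = (r : R) := by
        rw [decompose_of_mem 𝒜 r.2, h']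
        simp
      rw [this]
    · rw [decompose_of_mem_ne ℳ hrm h, decompose_of_mem_ne 𝒜 r.2 (by omega), zero_smul]
  | add r r' hr hr' =>
    rw [add_smul, decompose_add, decompose_add, DirectSum.add_apply, DirectSum.add_apply,
      AddMemClass.coe_add, AddMemClass.coe_add, add_smul, hr, hr']

/-- Components of a linear combination of homogeneous elements. -/
lemma decompose_linearCombination (aug : Fin n → M) (haug : ∀ b, aug b ∈ ℳ (deg b))
    (v : Fin n → R) (t : ℤ) :
    (decompose ℳ (Fintype.linearCombination R aug v) t : M) =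
      Fintype.linearCombination R aug (comp 𝒜 deg t v) := by
  rw [Fintype.linearCombination_apply, Fintype.linearCombination_apply, decompose_sum,
    DFinsupp.finsetSum_apply, AddSubmonoidClass.coe_finsetSum]
  refine Finset.sum_congr rfl fun b _ => ?_
  exact decompose_smul_of_mem 𝒜 ℳ (haug b) (v b) t

lemma comp_mem_ker_linearCombination (aug : Fin n → M) (haug : ∀ b, aug b ∈ ℳ (deg b))
    (t : ℤ) {v : Fin n → R} (hv : v ∈ LinearMap.ker (Fintype.linearCombination R aug)) :
    comp 𝒜 deg t v ∈ LinearMap.ker (Fintype.linearCombination R aug) := by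
  rw [LinearMap.mem_ker] at hv ⊢
  rw [← decompose_linearCombination 𝒜 deg ℳ aug haug, hv]
  simp

end Module

end Groth.Agent.Lib.GrFree
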