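import Mathlib
import Groth.Agent.Lib.GrFree
import Groth.Agent.Lib.GrSyzBasic

/-!
# Comparison of graded free resolutions; uniqueness of graded Betti numbers (helper12)

* `IsHomMat`, `lift_hom`, `lift_aug`, `lift_plain`: (homogeneous) lifting through homogeneous matrices.
* `CmpData F G`, `cmpData F G`: graded comparison maps between two graded free resolutions of `M`.
* `entries_mem`: a chain endomorphism of an `I`-minimal resolution lifting `0` has entries in `I`.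
* `exists_mats`, `betti_le`: Betti numbers of a minimal resolution are ≤ those of any resolution.
* `betti_le_stdGr`, `betti_eq_stdGr`: over `k[x_0..x_r]`.
-/

set_option autoImplicit false
set_option linter.unusedSectionVars false

open DirectSum

namespace Groth.Agent.Lib.GrCmp

open Groth.Agent.Lib.GrFree

universe u

section Lift

variable {R : Type u} [CommRing R] {σ' : Type u} [SetLike σ' R] [AddSubgroupClass σ' R]
  (𝒜 : ℤ → σ') [GradedRing 𝒜]

/-- homogeneous matrices of degree zero from `⊕ R(-deg b)` (columns) to `⊕ R(-deg' a)` (rows) -/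
def IsHomMat {n n' : ℕ} (deg' : Fin n' → ℤ) (deg : Fin n → ℤ) (A : Matrix (Fin n') (Fin n) R) :
    Prop :=
  ∀ a b, A a b ∈ 𝒜 (deg b - deg' a)

lemma IsHomMat.col {n n' : ℕ} {deg' : Fin n' → ℤ} {deg : Fin n → ℤ}
    {A : Matrix (Fin n') (Fin n) R} (hA : IsHomMat 𝒜 deg' deg A) (b : Fin n) :
    IsHomogVec 𝒜 deg' (deg b) (fun a => A a b) := fun a => hA a b

lemma IsHomMat.mul {n n' n'' : ℕ} {deg'' : Fin n'' → ℤ} {deg' : Fin n' → ℤ} {deg : Fin n → ℤ}
    {A : Matrix (Fin n'') (Fin n') R} {B : Matrix (Fin n') (Fin n) R}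
    (hA : IsHomMat 𝒜 deg'' deg' A) (hB : IsHomMat 𝒜 deg' deg B) : IsHomMat 𝒜 deg'' deg (A * B) := by
  intro a b
  rw [Matrix.mul_apply]
  refine sum_mem fun c _ => ?_
  have : deg b - deg'' a = (deg' c - deg'' a) + (deg b - deg' c) := by ring
  rw [this]
  exact SetLike.GradedMul.mul_mem (hA a c) (hB c b)

lemma mul_col {n n' n'' : ℕ} (A : Matrix (Fin n'') (Fin n') R) (B : Matrix (Fin n') (Fin n) R)
    (b : Fin n) : (fun a => (A * B) a b) = A.mulVec (fun c => B c b) := by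
  funext a
  simp [Matrix.mul_apply, Matrix.mulVec, dotProduct]

/-- homogeneous lifting through a homogeneous matrix -/
theorem lift_hom {n0 n1 m : ℕ} (deg0 : Fin n0 → ℤ) (deg1 : Fin n1 → ℤ) (dm : Fin m → ℤ)
    (D : Matrix (Fin n0) (Fin n1) R) (hD : IsHomMat 𝒜 deg0 deg1 D)
    (B : Matrix (Fin n0) (Fin m) R) (hB : IsHomMat 𝒜 deg0 dm B)
    (h : ∀ b, (fun a => B a b) ∈ LinearMap.range D.mulVecLin) :
    ∃ C : Matrix (Fin n1) (Fin m) R, IsHomMat 𝒜 deg1 dm C ∧ D * C = B := by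
  choose v hv using h
  refine ⟨Matrix.of fun c b => comp 𝒜 deg1 (dm b) (v b) c, fun c b => isHomogVec_comp 𝒜 deg1 _ _ c, ?_⟩
  ext a b
  have h1 : (fun a => (D * Matrix.of fun c b => comp 𝒜 deg1 (dm b) (v b) c) a b) =
      D.mulVec (comp 𝒜 deg1 (dm b) (v b)) := mul_col _ _ b
  have h2 : D.mulVec (comp 𝒜 deg1 (dm b) (v b)) = fun a => B a b := by
    rw [← comp_mulVec 𝒜 deg0 deg1 D hD, ← Matrix.mulVecLin_apply, hv b]
    exact comp_of_isHomogVec 𝒜 deg0 (hB.col 𝒜 b)
  exact congrFun (h1.trans h2) a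

/-- lifting through a matrix (no homogeneity) -/
theorem lift_plain {n0 n1 m : ℕ} (D : Matrix (Fin n0) (Fin n1) R) (B : Matrix (Fin n0) (Fin m) R)
    (h : ∀ b, (fun a => B a b) ∈ LinearMap.range D.mulVecLin) :
    ∃ C : Matrix (Fin n1) (Fin m) R, D * C = B := by
  choose v hv using h
  refine ⟨Matrix.of fun c b => v b c, ?_⟩
  ext a b
  have h1 : (fun a => (D * Matrix.of fun c b => v b c) a b) = D.mulVec (v b) := mul_col _ _ b
  have h2 : D.mulVec (v b) = fun a => B a b := hv b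
  exact congrFun (h1.trans h2) a

variable {M : Type u} [AddCommGroup M] [Module R M] {τ : Type u} [SetLike τ M]
  [AddSubgroupClass τ M] (ℳ : ℤ → τ) [Decomposition ℳ] [SetLike.GradedSMul 𝒜 ℳ]

/-- homogeneous lifting through a homogeneous augmentation -/
theorem lift_aug {n0 m : ℕ} (deg0 : Fin n0 → ℤ) (dm : Fin m → ℤ) (aug : Fin n0 → M)
    (haug : ∀ a, aug a ∈ ℳ (deg0 a))
    (hsurj : Function.Surjective (Fintype.linearCombination R aug))
    (x : Fin m → M) (hx : ∀ b, x b ∈ ℳ (dm b)) :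
    ∃ C : Matrix (Fin n0) (Fin m) R, IsHomMat 𝒜 deg0 dm C ∧
      ∀ b, Fintype.linearCombination R aug (fun a => C a b) = x b := by
  choose v hv using fun b => hsurj (x b)
  refine ⟨Matrix.of fun c b => comp 𝒜 deg0 (dm b) (v b) c, fun c b => isHomogVec_comp 𝒜 deg0 _ _ c,
    fun b => ?_⟩
  show Fintype.linearCombination R aug (comp 𝒜 deg0 (dm b) (v b)) = x b
  rw [← decompose_linearCombination 𝒜 deg0 ℳ aug haug, hv b]
  exact decompose_of_mem_same ℳ (hx b)

end Lift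

section Cmp

variable {R : Type u} [CommRing R] {σ' : Type u} [SetLike σ' R] [AddSubgroupClass σ' R]
  {𝒜 : ℤ → σ'} [GradedRing 𝒜]
  {M : Type u} [AddCommGroup M] [Module R M] {τ : Type u} [SetLike τ M] [AddSubgroupClass τ M]
  {ℳ : ℤ → τ} [Decomposition ℳ] [SetLike.GradedSMul 𝒜 ℳ]

lemma d_mul_d (F : GrSyz.FreeRes 𝒜 ℳ) (i : ℕ) : F.d i * F.d (i + 1) = 0 := by
  ext a b
  have h1 : (fun a => (F.d i * F.d (i + 1)) a b) = (F.d i).mulVec (fun c => F.d (i + 1) c b) :=
    mul_col _ _ b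
  have h2 : (F.d (i + 1)).mulVec (Pi.single b 1) ∈ LinearMap.ker (F.dLin i) := by
    rw [F.exact_succ i]; exact ⟨_, rfl⟩
  rw [LinearMap.mem_ker, Matrix.mulVecLin_apply, Matrix.mulVec_single_one] at h2
  have h3 : (fun c => F.d (i + 1) c b) = (F.d (i + 1)).col b := rfl
  rw [h3, h2] at h1
  exact congrFun h1 a

lemma aug_d (F : GrSyz.FreeRes 𝒜 ℳ) (v : Fin (F.rk 1) → R) : F.augLin ((F.d 0).mulVec v) = 0 := by
  have : (F.d 0).mulVec v ∈ LinearMap.ker F.augLin := by
    rw [F.exact_zero]; exact ⟨v, rfl⟩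
  exact this

variable (F G : GrSyz.FreeRes 𝒜 ℳ)

/-- A graded comparison map between two graded free resolutions of the same module -/
structure CmpData where
  /-- the matrices -/
  f : ∀ i, Matrix (Fin (G.rk i)) (Fin (F.rk i)) R
  hom : ∀ i, IsHomMat 𝒜 (G.deg i) (F.deg i) (f i)
  aug : ∀ v, G.augLin ((f 0).mulVec v) = F.augLin v
  comm : ∀ i, G.d i * f (i + 1) = f i * F.d i

/-- the type of level-`i` candidates -/
def Lvl (i : ℕ) : Type u :=
  {A : Matrix (Fin (G.rk i)) (Fin (F.rk i)) R // IsHomMat 𝒜 (G.deg i) (F.deg i) A ∧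
    ∀ b, (fun a => (A * F.d i) a b) ∈ LinearMap.range (G.dLin i)}

lemma exists_lvl_zero : ∃ A : Matrix (Fin (G.rk 0)) (Fin (F.rk 0)) R,
    IsHomMat 𝒜 (G.deg 0) (F.deg 0) A ∧ ∀ v, G.augLin (A.mulVec v) = F.augLin v := by
  obtain ⟨C, hC, hC'⟩ := lift_aug 𝒜 ℳ (G.deg 0) (F.deg 0) G.aug G.aug_mem G.aug_surjective F.aug
    F.aug_mem
  refine ⟨C, hC, fun v => ?_⟩
  classical
  have hv : C.mulVec v = ∑ b, v b • (fun a => C a b) := by
    funext a
    simp [Matrix.mulVec, dotProduct, Finset.sum_apply, mul_comm]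
  rw [hv, map_sum]
  simp only [map_smul, hC']
  rw [Fintype.linearCombination_apply]

lemma lvl_zero_inv (A : Matrix (Fin (G.rk 0)) (Fin (F.rk 0)) R)
    (hA : ∀ v, G.augLin (A.mulVec v) = F.augLin v) (b : Fin (F.rk 1)) :
    (fun a => (A * F.d 0) a b) ∈ LinearMap.range (G.dLin 0) := by
  classical
  rw [← G.exact_zero, LinearMap.mem_ker, mul_col, hA]
  have := aug_d F (Pi.single b 1)
  rw [Matrix.mulVec_single_one] at this
  exact this

lemma exists_lvl_succ (i : ℕ) (A : Matrix (Fin (G.rk i)) (Fin (F.rk i)) R)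
    (hA : IsHomMat 𝒜 (G.deg i) (F.deg i) A)
    (hA' : ∀ b, (fun a => (A * F.d i) a b) ∈ LinearMap.range (G.dLin i)) :
    ∃ C : Matrix (Fin (G.rk (i + 1))) (Fin (F.rk (i + 1))) R,
      IsHomMat 𝒜 (G.deg (i + 1)) (F.deg (i + 1)) C ∧ G.d i * C = A * F.d i :=
  lift_hom 𝒜 (G.deg i) (G.deg (i + 1)) (F.deg (i + 1)) (G.d i) (G.d_mem i) (A * F.d i)
    (hA.mul 𝒜 (F.d_mem i)) hA'

lemma lvl_succ_inv (i : ℕ) (A : Matrix (Fin (G.rk i)) (Fin (F.rk i)) R)
    (C : Matrix (Fin (G.rk (i + 1))) (Fin (F.rk (i + 1))) R) (hC : G.d i * C = A * F.d i)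
    (b : Fin (F.rk (i + 1 + 1))) :
    (fun a => (C * F.d (i + 1)) a b) ∈ LinearMap.range (G.dLin (i + 1)) := by
  rw [← G.exact_succ i, LinearMap.mem_ker, Matrix.mulVecLin_apply, ← mul_col, ← Matrix.mul_assoc, hC,
    Matrix.mul_assoc, d_mul_d, Matrix.mul_zero]
  rfl

/-- the sequence of levels -/
noncomputable def lvl : (i : ℕ) → Lvl F G i
  | 0 => ⟨(exists_lvl_zero F G).choose, (exists_lvl_zero F G).choose_spec.1,
      lvl_zero_inv F G _ (exists_lvl_zero F G).choose_spec.2⟩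
  | i + 1 => ⟨(exists_lvl_succ F G i (lvl i).1 (lvl i).2.1 (lvl i).2.2).choose,
      (exists_lvl_succ F G i (lvl i).1 (lvl i).2.1 (lvl i).2.2).choose_spec.1,
      lvl_succ_inv F G i (lvl i).1 _
        (exists_lvl_succ F G i (lvl i).1 (lvl i).2.1 (lvl i).2.2).choose_spec.2⟩

/-- existence of graded comparison maps -/
noncomputable def cmpData : CmpData F G where
  f i := (lvl F G i).1
  hom i := (lvl F G i).2.1
  aug := (exists_lvl_zero F G).choose_spec.2
  comm i := (exists_lvl_succ F G i (lvl F G i).1 (lvl F G i).2.1 (lvl F G i).2.2).choose_spec.2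

end Cmp

section Htpy

variable {R : Type u} [CommRing R] {σ' : Type u} [SetLike σ' R] [AddSubgroupClass σ' R]
  {𝒜 : ℤ → σ'} [GradedRing 𝒜]
  {M : Type u} [AddCommGroup M] [Module R M] {τ : Type u} [SetLike τ M] [AddSubgroupClass τ M]
  {ℳ : ℤ → τ} [Decomposition ℳ] [SetLike.GradedSMul 𝒜 ℳ]
  (F : GrSyz.FreeRes 𝒜 ℳ)
  (h : ∀ i, Matrix (Fin (F.rk i)) (Fin (F.rk i)) R)
  (h0 : ∀ v, F.augLin ((h 0).mulVec v) = 0)
  (hcomm : ∀ i, F.d i * h (i + 1) = h i * F.d i)

/-- level-`i` homotopy candidates -/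
def HLvl (i : ℕ) : Type u :=
  {s : Matrix (Fin (F.rk (i + 1))) (Fin (F.rk i)) R // F.d i * (h (i + 1) - s * F.d i) = 0}

include h0 in
lemma exists_h_zero : ∃ s : Matrix (Fin (F.rk 1)) (Fin (F.rk 0)) R, F.d 0 * s = h 0 := by
  classical
  refine lift_plain (F.d 0) (h 0) fun b => ?_
  rw [← F.exact_zero, LinearMap.mem_ker]
  have := h0 (Pi.single b 1)
  rw [Matrix.mulVec_single_one] at this
  exact this

include hcomm in
lemma h_zero_inv (s : Matrix (Fin (F.rk 1)) (Fin (F.rk 0)) R) (hs : F.d 0 * s = h 0) :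
    F.d 0 * (h 1 - s * F.d 0) = 0 := by
  rw [Matrix.mul_sub, ← Matrix.mul_assoc, hs, hcomm 0, sub_self]

lemma exists_h_succ (i : ℕ) (s : Matrix (Fin (F.rk (i + 1))) (Fin (F.rk i)) R)
    (hs : F.d i * (h (i + 1) - s * F.d i) = 0) :
    ∃ s' : Matrix (Fin (F.rk (i + 1 + 1))) (Fin (F.rk (i + 1))) R,
      F.d (i + 1) * s' = h (i + 1) - s * F.d i := by
  refine lift_plain (F.d (i + 1)) (h (i + 1) - s * F.d i) fun b => ?_
  rw [← F.exact_succ i, LinearMap.mem_ker, Matrix.mulVecLin_apply, ← mul_col, hs]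
  rfl

include hcomm in
lemma h_succ_inv (i : ℕ) (s : Matrix (Fin (F.rk (i + 1))) (Fin (F.rk i)) R)
    (s' : Matrix (Fin (F.rk (i + 1 + 1))) (Fin (F.rk (i + 1))) R)
    (hs' : F.d (i + 1) * s' = h (i + 1) - s * F.d i) :
    F.d (i + 1) * (h (i + 1 + 1) - s' * F.d (i + 1)) = 0 := by
  rw [Matrix.mul_sub, ← Matrix.mul_assoc, hs', hcomm (i + 1), Matrix.sub_mul, Matrix.mul_assoc s,
    d_mul_d, Matrix.mul_zero, sub_zero, sub_self]

/-- the homotopy, level by level -/
noncomputable def hlvl : (i : ℕ) → HLvl F h i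
  | 0 => ⟨(exists_h_zero F h h0).choose, h_zero_inv F h hcomm _ (exists_h_zero F h h0).choose_spec⟩
  | i + 1 => ⟨(exists_h_succ F h i (hlvl i).1 (hlvl i).2).choose,
      h_succ_inv F h hcomm i (hlvl i).1 _ (exists_h_succ F h i (hlvl i).1 (hlvl i).2).choose_spec⟩

lemma hlvl_zero : F.d 0 * (hlvl F h h0 hcomm 0).1 = h 0 := (exists_h_zero F h h0).choose_spec

lemma hlvl_succ (i : ℕ) : F.d (i + 1) * (hlvl F h h0 hcomm (i + 1)).1 =
    h (i + 1) - (hlvl F h h0 hcomm i).1 * F.d i :=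
  (exists_h_succ F h i (hlvl F h h0 hcomm i).1 (hlvl F h h0 hcomm i).2).choose_spec

lemma mul_entries_mem_left (I : Ideal R) {a b c : ℕ} (D : Matrix (Fin a) (Fin b) R)
    (s : Matrix (Fin b) (Fin c) R) (hD : ∀ x y, D x y ∈ I) (x : Fin a) (y : Fin c) :
    (D * s) x y ∈ I := by
  rw [Matrix.mul_apply]
  exact Ideal.sum_mem _ fun e _ => Ideal.mul_mem_right _ _ (hD _ _)

lemma mul_entries_mem_right (I : Ideal R) {a b c : ℕ} (s : Matrix (Fin a) (Fin b) R)
    (D : Matrix (Fin b) (Fin c) R) (hD : ∀ x y, D x y ∈ I) (x : Fin a) (y : Fin c) :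
    (s * D) x y ∈ I := by
  rw [Matrix.mul_apply]
  exact Ideal.sum_mem _ fun e _ => Ideal.mul_mem_left _ _ (hD _ _)

include h0 hcomm in
/-- a chain endomorphism of a minimal resolution lifting zero has all entries in the ideal -/
theorem entries_mem (I : Ideal R) (hF : F.IsMinimal I) (i : ℕ) (a b : Fin (F.rk i)) :
    h i a b ∈ I := by
  cases i with
  | zero =>
    rw [← hlvl_zero F h h0 hcomm]
    exact mul_entries_mem_left I _ _ (hF 0) a b
  | succ i =>
    have : h (i + 1) = F.d (i + 1) * (hlvl F h h0 hcomm (i + 1)).1 +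
        (hlvl F h h0 hcomm i).1 * F.d i := by
      rw [hlvl_succ]; abel
    rw [this, Matrix.add_apply]
    exact I.add_mem (mul_entries_mem_left I _ _ (hF (i + 1)) a b)
      (mul_entries_mem_right I _ _ (hF i) a b)

end Htpy

section LinAlg

theorem card_le_of_leftInverse {K : Type*} [Field K] {n n' : ℕ} (deg : Fin n → ℤ)
    (deg' : Fin n' → ℤ) (A : Matrix (Fin n') (Fin n) K) (B : Matrix (Fin n) (Fin n') K)
    (hBA : B * A = 1) (hA : ∀ c b, deg b ≠ deg' c → A c b = 0) (j : ℤ) :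
    Fintype.card {b // deg b = j} ≤ Fintype.card {c // deg' c = j} := by
  classical
  set As : Matrix {c // deg' c = j} {b // deg b = j} K := A.submatrix Subtype.val Subtype.val
  set Bs : Matrix {b // deg b = j} {c // deg' c = j} K := B.submatrix Subtype.val Subtype.val
  have hprod : Bs * As = 1 := by
    ext b b'
    rw [Matrix.mul_apply]
    have h1 : ∑ c : {c // deg' c = j}, Bs b c * As c b' = ∑ c, B b.1 c * A c b'.1 := by
      have e1 : ∑ c : {c // deg' c = j}, Bs b c * As c b' =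
          ∑ c ∈ Finset.univ.filter (fun c => deg' c = j), B b.1 c * A c b'.1 :=
        (Finset.sum_subtype (Finset.univ.filter fun c => deg' c = j) (by simp)
          (fun c => B b.1 c * A c b'.1)).symm
      rw [e1]
      refine Finset.sum_subset (Finset.filter_subset _ _) fun c _ hc => ?_
      have hc' : deg' c ≠ j := fun h => hc (Finset.mem_filter.2 ⟨Finset.mem_univ _, h⟩)
      rw [hA c b'.1 (by rw [b'.2]; exact fun h => hc' h.symm), mul_zero]
    rw [h1, ← Matrix.mul_apply, hBA, Matrix.one_apply, Matrix.one_apply]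
    simp [Subtype.ext_iff]
  have hinj : Function.Injective As.mulVecLin := by
    intro x y hxy
    have : Bs.mulVec (As.mulVec x) = Bs.mulVec (As.mulVec y) := by
      simp only [Matrix.mulVecLin_apply] at hxy
      rw [hxy]
    rwa [Matrix.mulVec_mulVec, Matrix.mulVec_mulVec, hprod, Matrix.one_mulVec,
      Matrix.one_mulVec] at this
  have := LinearMap.finrank_le_finrank_of_injective hinj
  simpa using this

end LinAlg

section Main

variable {R : Type u} [CommRing R] {σ' : Type u} [SetLike σ' R] [AddSubgroupClass σ' R]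
  {𝒜 : ℤ → σ'} [GradedRing 𝒜]
  {M : Type u} [AddCommGroup M] [Module R M] {τ : Type u} [SetLike τ M] [AddSubgroupClass τ M]
  {ℳ : ℤ → τ} [Decomposition ℳ] [SetLike.GradedSMul 𝒜 ℳ]
  (F G : GrSyz.FreeRes 𝒜 ℳ) (I : Ideal R) (hF : F.IsMinimal I)

include hF in
/-- graded maps `F_i → G_i → F_i` whose composite is the identity modulo `I` -/
theorem exists_mats (i : ℕ) : ∃ (A : Matrix (Fin (G.rk i)) (Fin (F.rk i)) R)
    (B : Matrix (Fin (F.rk i)) (Fin (G.rk i)) R),
    IsHomMat 𝒜 (G.deg i) (F.deg i) A ∧ IsHomMat 𝒜 (F.deg i) (G.deg i) B ∧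
      ∀ a b, (B * A - (1 : Matrix (Fin (F.rk i)) (Fin (F.rk i)) R)) a b ∈ I := by
  set c := cmpData F G
  set c' := cmpData G F
  refine ⟨c.f i, c'.f i, c.hom i, c'.hom i, ?_⟩
  refine entries_mem F (fun i => c'.f i * c.f i - (1 : Matrix (Fin (F.rk i)) (Fin (F.rk i)) R)) ?_ ?_ I hF i
  · intro v
    rw [Matrix.sub_mulVec, Matrix.one_mulVec, ← Matrix.mulVec_mulVec, map_sub, c'.aug, c.aug,
      sub_self]
  · intro i
    rw [Matrix.mul_sub, Matrix.sub_mul, ← Matrix.mul_assoc, c'.comm i, Matrix.mul_assoc, c.comm i,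
      Matrix.mul_one, Matrix.one_mul, Matrix.mul_assoc]

include hF in
/-- the graded Betti numbers of a minimal resolution are at most those of any resolution -/
theorem betti_le {K : Type*} [Field K] (φ : R →+* K) (hI : ∀ x ∈ I, φ x = 0)
    (hφ : ∀ t : ℤ, t ≠ 0 → ∀ x ∈ 𝒜 t, φ x = 0) (i : ℕ) (j : ℤ) : F.betti i j ≤ G.betti i j := by
  classical
  obtain ⟨A, B, hA, _, hBA⟩ := exists_mats F G I hF i
  have h1 : B.map φ * A.map φ = 1 := by
    rw [← Matrix.map_mul]
    ext a b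
    have := hI _ (hBA a b)
    rw [Matrix.sub_apply, map_sub, sub_eq_zero] at this
    rw [Matrix.map_apply, this, Matrix.one_apply, Matrix.one_apply]
    split_ifs <;> simp
  have h2 : ∀ c b, F.deg i b ≠ G.deg i c → (A.map φ) c b = 0 := by
    intro c b hne
    exact hφ _ (sub_ne_zero.2 hne) _ (hA c b)
  have := card_le_of_leftInverse (F.deg i) (G.deg i) (A.map φ) (B.map φ) h1 h2 j
  rw [Fintype.card_subtype, Fintype.card_subtype] at this
  exact this

end Main

section Std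

variable {k : Type u} [Field k] {r : ℕ}
  {M : Type u} [AddCommGroup M] [Module k M] [Module (MvPolynomial (Fin (r + 1)) k) M]
  {ℳ : ℤ → Submodule k M} [DirectSum.Decomposition ℳ]
  [SetLike.GradedSMul (GrSyz.stdGr k (Fin (r + 1))) ℳ]

theorem betti_le_stdGr (F G : GrSyz.FreeRes (GrSyz.stdGr k (Fin (r + 1))) ℳ)
    (hF : F.IsMinimal (GrSyz.irrel (GrSyz.stdGr k (Fin (r + 1)))).toIdeal) (i : ℕ) (j : ℤ) :
    F.betti i j ≤ G.betti i j :=
  betti_le F G _ hF (MvPolynomial.constantCoeff (R := k) (σ := Fin (r + 1)))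
    (fun _ hx => Groth.Agent.Lib.GrSyzBasic.irrel_le_ker_constantCoeff k (Fin (r + 1)) hx)
    (fun _ ht _ hx => Groth.Agent.Lib.GrSyzBasic.constantCoeff_eq_zero_of_mem_stdGr k (Fin (r + 1))
      ht hx) i j

theorem betti_eq_stdGr (F G : GrSyz.FreeRes (GrSyz.stdGr k (Fin (r + 1))) ℳ)
    (hF : F.IsMinimal (GrSyz.irrel (GrSyz.stdGr k (Fin (r + 1)))).toIdeal)
    (hG : G.IsMinimal (GrSyz.irrel (GrSyz.stdGr k (Fin (r + 1)))).toIdeal) (i : ℕ) (j : ℤ) :
    F.betti i j = G.betti i j :=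
  le_antisymm (betti_le_stdGr F G hF i j) (betti_le_stdGr G F hG i j)

end Std

end Groth.Agent.Lib.GrCmp
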