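import Mathlib
import Groth.Agent.Lib.GrFree
import Groth.Agent.Lib.GrCmp
import Groth.Agent.Lib.GrSyzygy

/-!
# Generator degrees of a minimal graded free resolution occur in the module (helper12)

For a minimal graded free resolution `F` of a graded module `M` over `k[x_0..x_n]`, every generator degree
`deg i b` satisfies `M_{deg i b - i} ≠ 0` (this is `Tor_i(M,k)_j ≠ 0 ⇒ M_{j-i} ≠ 0`, i.e. the bound coming from the
Koszul complex).  The proof is an elementary induction along the regular sequence `x_0, …, x_n`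
(computing `Tor_i(M, S/(x_0..x_{t-1}))` from `F`), with no Koszul complex and no Tor.

* `InI`, `Cyc`, `P`, `P_zero`, `P_succ`: the induction (over any ℤ-graded ring with a regular sequence of degree-one elements).
* `exists_ne_zero_of_deg`: the generic statement.
* `exists_ne_zero_of_deg_stdGr`: for the polynomial ring.
* `isGenLE_of_forall_eq_zero`: if `M_j = 0` for `j > s` then every minimal resolution is generated in degrees `≤ s + i`.
-/

set_option autoImplicit false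
set_option linter.unusedSectionVars false

open DirectSum

namespace Groth.Agent.Lib.GrVanish

open Groth.Agent.Lib.GrFree

universe u

section Generic

variable {R : Type u} [CommRing R] {σ' : Type u} [SetLike σ' R] [AddSubgroupClass σ' R]
  {𝒜 : ℤ → σ'} [GradedRing 𝒜]
  {M : Type u} [AddCommGroup M] [Module R M] {τ : Type u} [SetLike τ M] [AddSubgroupClass τ M]
  {ℳ : ℤ → τ} [Decomposition ℳ] [SetLike.GradedSMul 𝒜 ℳ]

/-- all coordinates of the vector lie in the ideal -/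
def InI {n : ℕ} (I : Ideal R) (v : Fin n → R) : Prop := ∀ b, v b ∈ I

lemma InI.add {n : ℕ} {I : Ideal R} {v w : Fin n → R} (hv : InI I v) (hw : InI I w) : InI I (v + w) :=
  fun b => I.add_mem (hv b) (hw b)

lemma InI.neg {n : ℕ} {I : Ideal R} {v : Fin n → R} (hv : InI I v) : InI I (-v) :=
  fun b => I.neg_mem (hv b)

lemma InI.smul {n : ℕ} {I : Ideal R} {v : Fin n → R} (hv : InI I v) (a : R) : InI I (a • v) :=
  fun b => I.mul_mem_left a (hv b)

lemma InI.mono {n : ℕ} {I J : Ideal R} (h : I ≤ J) {v : Fin n → R} (hv : InI I v) : InI J v :=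
  fun b => h (hv b)

lemma InI.mulVec {n n' : ℕ} {I : Ideal R} (D : Matrix (Fin n') (Fin n) R) {v : Fin n → R}
    (hv : InI I v) : InI I (D.mulVec v) := by
  intro a
  rw [Matrix.mulVec, dotProduct]
  exact Ideal.sum_mem _ fun c _ => I.mul_mem_left _ (hv c)

lemma InI.comp {n : ℕ} {I : Ideal R} (hI : I.IsHomogeneous 𝒜) (deg : Fin n → ℤ) (t : ℤ)
    {v : Fin n → R} (hv : InI I v) : InI I (comp 𝒜 deg t v) :=
  fun b => hI _ (hv b)

lemma inI_bot {n : ℕ} {v : Fin n → R} (hv : InI (⊥ : Ideal R) v) : v = 0 := by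
  funext b
  exact (Submodule.mem_bot R).1 (hv b)

/-- a matrix with homogeneous entries maps homogeneous vectors to homogeneous vectors -/
lemma isHomogVec_mulVec {n n' : ℕ} (deg : Fin n → ℤ) (deg' : Fin n' → ℤ)
    (D : Matrix (Fin n) (Fin n') R) (hD : ∀ a b, D a b ∈ 𝒜 (deg' b - deg a)) {t : ℤ}
    {w : Fin n' → R} (hw : IsHomogVec 𝒜 deg' t w) : IsHomogVec 𝒜 deg t (D.mulVec w) := by
  have h := comp_mulVec 𝒜 deg deg' D hD t w
  rw [comp_of_isHomogVec 𝒜 deg' hw] at h
  rw [← h]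
  exact isHomogVec_comp 𝒜 deg t _

/-- components of a multiple by an element of degree one -/
lemma comp_smul_one {n : ℕ} (deg : Fin n → ℤ) {x : R} (hx : x ∈ 𝒜 1) (t : ℤ) (u : Fin n → R) :
    comp 𝒜 deg t (x • u) = x • comp 𝒜 deg (t - 1) u := by
  funext b
  simp only [comp, Pi.smul_apply, smul_eq_mul]
  have h : t - deg b = 1 + (t - 1 - deg b) := by ring
  rw [h]
  exact coe_decompose_mul_add_of_left_mem 𝒜 hx

lemma isHomogVec_smul_one {n : ℕ} (deg : Fin n → ℤ) {x : R} (hx : x ∈ 𝒜 1) {t : ℤ} {u : Fin n → R}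
    (hu : IsHomogVec 𝒜 deg (t - 1) u) : IsHomogVec 𝒜 deg t (x • u) := by
  have h := hu.smul 𝒜 deg hx
  have h' : (1 : ℤ) + (t - 1) = t := by ring
  rwa [h'] at h

lemma IsHomogVec.neg' {n : ℕ} (deg : Fin n → ℤ) {t : ℤ} {u : Fin n → R}
    (hu : IsHomogVec 𝒜 deg t u) : IsHomogVec 𝒜 deg t (-u) :=
  fun b => neg_mem (hu b)

variable (F : GrSyz.FreeRes 𝒜 ℳ)

/-- the cycle condition modulo `J` (vacuous in homological degree zero) -/
def Cyc (J : Ideal R) : (i : ℕ) → (Fin (F.rk i) → R) → Prop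
  | 0, _ => True
  | (i' + 1), v => InI J ((F.d i').mulVec v)

/-- `Tor_i(M, R/J)_j = 0`, computed from `F`, for all `(i, j)` with `M_{j-i} = 0` -/
def P (J : Ideal R) : Prop :=
  ∀ (i : ℕ) (j : ℤ), (∀ m ∈ ℳ (j - i), m = 0) → ∀ v : Fin (F.rk i) → R,
    IsHomogVec 𝒜 (F.deg i) j v → Cyc F J i v →
      ∃ u : Fin (F.rk (i + 1)) → R, IsHomogVec 𝒜 (F.deg (i + 1)) j u ∧
        InI J (v - (F.d i).mulVec u)

lemma aug_mem {j : ℤ} {v : Fin (F.rk 0) → R} (hv : IsHomogVec 𝒜 (F.deg 0) j v) :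
    F.augLin v ∈ ℳ j := by
  rw [Fintype.linearCombination_apply]
  refine sum_mem fun b _ => ?_
  have h : j = (j - F.deg 0 b) + F.deg 0 b := by ring
  rw [h]
  exact SetLike.GradedSMul.smul_mem (hv b) (F.aug_mem b)

theorem P_bot : P F (⊥ : Ideal R) := by
  intro i j hM v hv hcyc
  cases i with
  | zero =>
    have h0 : F.augLin v = 0 := hM _ (by simpa using aug_mem F hv)
    have h1 : v ∈ LinearMap.range (F.dLin 0) := by
      rw [← F.exact_zero]; exact h0
    obtain ⟨u₀, hu₀⟩ := h1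
    refine ⟨comp 𝒜 (F.deg 1) j u₀, isHomogVec_comp 𝒜 _ j u₀, ?_⟩
    rw [← comp_mulVec 𝒜 (F.deg 0) (F.deg 1) (F.d 0) (F.d_mem 0) j u₀]
    rw [Matrix.mulVecLin_apply] at hu₀
    rw [hu₀, comp_of_isHomogVec 𝒜 _ hv, sub_self]
    exact fun b => zero_mem _
  | succ i' =>
    have h0 : (F.d i').mulVec v = 0 := inI_bot hcyc
    have h1 : v ∈ LinearMap.range (F.dLin (i' + 1)) := by
      rw [← F.exact_succ i', LinearMap.mem_ker, Matrix.mulVecLin_apply]; exact h0
    obtain ⟨u₀, hu₀⟩ := h1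
    refine ⟨comp 𝒜 (F.deg (i' + 1 + 1)) j u₀, isHomogVec_comp 𝒜 _ j u₀, ?_⟩
    rw [← comp_mulVec 𝒜 (F.deg (i' + 1)) (F.deg (i' + 1 + 1)) (F.d (i' + 1)) (F.d_mem (i' + 1)) j u₀]
    rw [Matrix.mulVecLin_apply] at hu₀
    rw [hu₀, comp_of_isHomogVec 𝒜 _ hv, sub_self]
    exact fun b => zero_mem _

/-- decompose a homogeneous vector with coordinates in `J ⊔ (x)` -/
lemma exists_decomp {n : ℕ} (deg : Fin n → ℤ) (J : Ideal R) (hJ : J.IsHomogeneous 𝒜) {x : R}
    (hx : x ∈ 𝒜 1) {j : ℤ} {z : Fin n → R} (hz : IsHomogVec 𝒜 deg j z)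
    (hzI : InI (J ⊔ Ideal.span {x}) z) :
    ∃ (w u : Fin n → R), InI J w ∧ IsHomogVec 𝒜 deg j w ∧ IsHomogVec 𝒜 deg (j - 1) u ∧
      z = w + x • u := by
  have h : ∀ b, ∃ w₀ c₀ : R, w₀ ∈ J ∧ z b = w₀ + x * c₀ := by
    intro b
    obtain ⟨w₀, hw₀, y, hy, hsum⟩ := Submodule.mem_sup.1 (hzI b)
    obtain ⟨c₀, hc₀⟩ := Ideal.mem_span_singleton'.1 hy
    exact ⟨w₀, c₀, hw₀, by rw [← hsum, ← hc₀, mul_comm]⟩
  choose w₀ c₀ hw₀ hzc using h
  refine ⟨comp 𝒜 deg j w₀, comp 𝒜 deg (j - 1) c₀, InI.comp hJ deg j hw₀, isHomogVec_comp 𝒜 _ _ _,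
    isHomogVec_comp 𝒜 _ _ _, ?_⟩
  have hz' : z = w₀ + x • c₀ := by
    funext b
    rw [hzc b]
    rfl
  calc z = comp 𝒜 deg j z := (comp_of_isHomogVec 𝒜 deg hz).symm
    _ = comp 𝒜 deg j (w₀ + x • c₀) := by rw [← hz']
    _ = comp 𝒜 deg j w₀ + x • comp 𝒜 deg (j - 1) c₀ := by
      rw [comp_add, comp_smul_one deg hx]

theorem P_sup (J : Ideal R) (hJ : J.IsHomogeneous 𝒜) {x : R} (hx : x ∈ 𝒜 1)
    (hreg : ∀ p : R, x * p ∈ J → p ∈ J) (hP : P F J) : P F (J ⊔ Ideal.span {x}) := by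
  have hle : J ≤ J ⊔ Ideal.span {x} := le_sup_left
  have hxmem : x ∈ J ⊔ Ideal.span {x} := le_sup_right (α := Ideal R) (Ideal.mem_span_singleton_self x)
  intro i j hM v hv hcyc
  cases i with
  | zero =>
    obtain ⟨u, hu, huI⟩ := hP 0 j hM v hv trivial
    exact ⟨u, hu, huI.mono hle⟩
  | succ i' =>
    -- decompose `d v = w + x • u`
    have hdv : IsHomogVec 𝒜 (F.deg i') j ((F.d i').mulVec v) :=
      isHomogVec_mulVec (F.deg i') (F.deg (i' + 1)) (F.d i') (F.d_mem i') hv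
    obtain ⟨w, u, hwJ, hw, hu, hdec⟩ := exists_decomp (F.deg i') J hJ hx hdv hcyc
    -- `u` is a cycle mod `J` of degree `j - 1`, so it is a boundary mod `J`
    have hM' : ∀ m ∈ ℳ (j - 1 - (i' : ℕ)), m = 0 := by
      intro m hm
      apply hM m
      have : j - ((i' + 1 : ℕ) : ℤ) = j - 1 - (i' : ℕ) := by push_cast; ring
      rw [this]; exact hm
    have hu' : ∃ u' : Fin (F.rk (i' + 1)) → R, IsHomogVec 𝒜 (F.deg (i' + 1)) (j - 1) u' ∧
        InI J (u - (F.d i').mulVec u') := by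
      apply hP i' (j - 1) hM' u hu
      cases i' with
      | zero => trivial
      | succ i'' =>
        show InI J ((F.d i'').mulVec u)
        have h0 : (F.d i'').mulVec ((F.d (i'' + 1)).mulVec v) = 0 := by
          rw [Matrix.mulVec_mulVec, Groth.Agent.Lib.GrCmp.d_mul_d F i'', Matrix.zero_mulVec]
        rw [hdec, Matrix.mulVec_add, Matrix.mulVec_smul] at h0
        intro a
        apply hreg
        have h1 : x * (F.d i'').mulVec u a = -((F.d i'').mulVec w a) := by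
          have := congrFun h0 a
          simp only [Pi.add_apply, Pi.smul_apply, smul_eq_mul, Pi.zero_apply] at this
          linear_combination this
        rw [h1]
        exact J.neg_mem (InI.mulVec (F.d i'') hwJ a)
    obtain ⟨u', hu'h, hu'I⟩ := hu'
    -- `v' = v - x • u'` is a cycle mod `J`
    have hv'h : IsHomogVec 𝒜 (F.deg (i' + 1)) j (v + -(x • u')) :=
      hv.add 𝒜 _ (IsHomogVec.neg' _ (isHomogVec_smul_one _ hx hu'h))
    have hv'c : Cyc F J (i' + 1) (v + -(x • u')) := by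
      show InI J ((F.d i').mulVec (v + -(x • u')))
      have : (F.d i').mulVec (v + -(x • u')) = w + x • (u - (F.d i').mulVec u') := by
        rw [Matrix.mulVec_add, Matrix.mulVec_neg, Matrix.mulVec_smul, hdec, smul_sub]
        abel
      rw [this]
      exact hwJ.add (hu'I.smul x)
    obtain ⟨v'', hv''h, hv''I⟩ := hP (i' + 1) j hM _ hv'h hv'c
    refine ⟨v'', hv''h, ?_⟩
    have : v - (F.d (i' + 1)).mulVec v'' = (v + -(x • u') - (F.d (i' + 1)).mulVec v'') + x • u' := by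
      abel
    rw [this]
    refine (hv''I.mono hle).add ?_
    intro b
    exact Ideal.mul_mem_right _ _ hxmem

/-- **Main generic statement**: along a regular sequence `x_0, …, x_{m-1}` of degree-one elements with
`I_0 = ⊥`, `I_{t+1} = I_t + (x_t)`, a resolution that is minimal for `I_m ≠ ⊤` has every generator degree
`deg i b` with `M_{deg i b - i} ≠ 0`. -/
theorem exists_ne_zero_of_deg (I : ℕ → Ideal R) (x : ℕ → R) (m : ℕ) (h0 : I 0 = ⊥)
    (hsucc : ∀ t, t < m → I (t + 1) = I t ⊔ Ideal.span {x t})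
    (hx : ∀ t, t < m → x t ∈ 𝒜 1)
    (hreg : ∀ t, t < m → ∀ p, x t * p ∈ I t → p ∈ I t)
    (htop : I m ≠ ⊤) (hF : F.IsMinimal (I m)) (i : ℕ) (b : Fin (F.rk i)) :
    ∃ y ∈ ℳ (F.deg i b - i), y ≠ 0 := by
  have hhom : ∀ t, t ≤ m → (I t).IsHomogeneous 𝒜 := by
    intro t
    induction t with
    | zero => intro _; rw [h0]; exact Ideal.IsHomogeneous.bot 𝒜
    | succ t ih =>
      intro ht
      rw [hsucc t (by omega)]
      refine Ideal.IsHomogeneous.sup (ih (by omega)) ?_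
      exact Ideal.homogeneous_span 𝒜 _ (by
        intro y hy
        rw [Set.mem_singleton_iff] at hy
        exact ⟨1, hy ▸ hx t (by omega)⟩)
  have hP : ∀ t, t ≤ m → P F (I t) := by
    intro t
    induction t with
    | zero => intro _; rw [h0]; exact P_bot F
    | succ t ih =>
      intro ht
      rw [hsucc t (by omega)]
      exact P_sup F (I t) (hhom t (by omega)) (hx t (by omega)) (hreg t (by omega)) (ih (by omega))
  by_contra hcon
  push Not at hcon
  classical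
  have hsingle : IsHomogVec 𝒜 (F.deg i) (F.deg i b) (Pi.single b (1 : R)) := by
    intro c
    by_cases hc : c = b
    · subst hc
      rw [Pi.single_eq_same, sub_self]
      exact SetLike.GradedOne.one_mem
    · rw [Pi.single_eq_of_ne hc]
      exact zero_mem _
  have hcyc : Cyc F (I m) i (Pi.single b (1 : R)) := by
    cases i with
    | zero => trivial
    | succ i' =>
      show InI (I m) ((F.d i').mulVec (Pi.single b 1))
      intro a
      rw [Matrix.mulVec_single_one]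
      exact hF i' a b
  obtain ⟨u, _, huI⟩ := hP m le_rfl i (F.deg i b) hcon _ hsingle hcyc
  apply htop
  rw [Ideal.eq_top_iff_one]
  have h1 := huI b
  rw [Pi.sub_apply, Pi.single_eq_same] at h1
  have h2 : (F.d i).mulVec u b ∈ I m := by
    rw [Matrix.mulVec, dotProduct]
    exact Ideal.sum_mem _ fun c _ => Ideal.mul_mem_right _ _ (hF i b c)
  have : (1 : R) = (1 - (F.d i).mulVec u b) + (F.d i).mulVec u b := by ring
  rw [this]
  exact (I m).add_mem h1 h2

end Generic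

section Std

open MvPolynomial Groth.Agent.Lib.GrSyzygy

variable {k : Type u} [Field k] {n : ℕ}
  {M : Type u} [AddCommGroup M] [Module k M] [Module (MvPolynomial (Fin (n + 1)) k) M]
  {ℳ : ℤ → Submodule k M} [DirectSum.Decomposition ℳ]
  [SetLike.GradedSMul (GrSyz.stdGr k (Fin (n + 1))) ℳ]

lemma xj_mem (t : ℕ) (ht : t < n + 1) : xj k n t ∈ GrSyz.stdGr k (Fin (n + 1)) 1 := by
  unfold xj
  rw [dif_pos ht]
  exact MvPolynomial.isWeightedHomogeneous_X k (fun _ : Fin (n + 1) => (1 : ℤ)) ⟨t, ht⟩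

theorem exists_ne_zero_of_deg_stdGr (F : GrSyz.FreeRes (GrSyz.stdGr k (Fin (n + 1))) ℳ)
    (hF : F.IsMinimal (GrSyz.irrel (GrSyz.stdGr k (Fin (n + 1)))).toIdeal) (i : ℕ) (b : Fin (F.rk i)) :
    ∃ y ∈ ℳ (F.deg i b - i), y ≠ 0 := by
  have hirr : (GrSyz.irrel (GrSyz.stdGr k (Fin (n + 1)))).toIdeal = Ij k n (n + 1) := by
    rw [Ij_top, Groth.Agent.Lib.GrTor.irrel_eq_ker]
  refine exists_ne_zero_of_deg F (Ij k n) (xj k n) (n + 1) (Ij_zero k n) (fun t ht => Ij_succ k n t ht)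
    (fun t ht => xj_mem t ht) (fun t ht p hp => Ij_reg k n t ht p hp) ?_ (hirr ▸ hF) i b
  rw [← hirr]
  intro h
  exact Groth.Agent.Lib.GrSyzBasic.one_notMem_irrel k (Fin (n + 1)) (h ▸ Submodule.mem_top)

/-- if `M_j = 0` for all `j > s`, every minimal resolution is generated in degrees `≤ s + i` -/
theorem isGenLE_of_forall_eq_bot (F : GrSyz.FreeRes (GrSyz.stdGr k (Fin (n + 1))) ℳ)
    (hF : F.IsMinimal (GrSyz.irrel (GrSyz.stdGr k (Fin (n + 1)))).toIdeal) (s : ℤ)
    (hs : ∀ j : ℤ, s < j → ℳ j = ⊥) : F.IsGenLE s := by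
  intro i b
  by_contra hlt
  push Not at hlt
  obtain ⟨y, hy, hy0⟩ := exists_ne_zero_of_deg_stdGr F hF i b
  rw [hs _ (by omega)] at hy
  exact hy0 ((Submodule.mem_bot k).1 hy)

end Std

end Groth.Agent.Lib.GrVanish
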