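import Mathlib
import Groth.Agent.Lib.GrLCConc
import Groth.Agent.Lib.GrLCBridge
import Groth.Agent.Lib.GrSyzygy
import Groth.Agent.Lib.GrVanish

/-!
# Graded local cohomology of the polynomial ring (helper12)

`k` a field, `S = k[x_0..x_n]` with the standard grading `𝒜' = asGr (GrSyz.stdGr k (Fin (n+1)))`
(as additive subgroups), `𝔪' = toSIdeal (GrSyz.irrel _)`.

* `conc_quot` : for `Q = S/(x_0..x_{j-1})`, `H^i_𝔪(Q)_e ≠ 0` only for `i = n+1-j`,
  `e ≤ -(n+1-j)`, with `H^{n+1-j}_𝔪(Q)_{-(n+1-j)} ≠ 0`;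
* `conc_poly` : the case `j = 0`, i.e. `S` itself: `H^i_𝔪(S)_e ≠ 0` only for `i = n+1`,
  `e ≤ -(n+1)`, and `H^{n+1}_𝔪(S)_{-(n+1)} ≠ 0`.
-/

set_option autoImplicit false
set_option linter.unusedSectionVars false
universe u

open DirectSum MvPolynomial

namespace Groth.Agent.Lib.GrLCPoly

open GrLC Groth.Agent.Lib.H87GrMod Groth.Agent.Lib.H87GrMod2
  Groth.Agent.S18661 Groth.Agent.S13215 Groth.Agent.Lib.GrLCMap
  Groth.Agent.Lib.GrLCConc Groth.Agent.Lib.GrLCBridge Groth.Agent.Lib.GrSyzygy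

variable (k : Type u) [Field k] (n : ℕ)

/-- The standard grading of the polynomial ring, as additive subgroups. -/
noncomputable abbrev stdS : ℤ → AddSubgroup (MvPolynomial (Fin (n + 1)) k) :=
  asGr (GrSyz.stdGr k (Fin (n + 1)))

/-- The irrelevant ideal for `stdS`. -/
noncomputable abbrev irrS : HomogeneousIdeal (stdS k n) :=
  toSIdeal (GrSyz.irrel (GrSyz.stdGr k (Fin (n + 1))))

theorem irrS_toIdeal :
    (irrS k n).toIdeal = RingHom.ker (constantCoeff (R := k) (σ := Fin (n + 1))) :=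
  Groth.Agent.Lib.GrTor.irrel_eq_ker k (Fin (n + 1))

theorem mem_irrS_of_pos {e : ℤ} (he : 0 < e) {p : MvPolynomial (Fin (n + 1)) k}
    (hp : p ∈ stdS k n e) : p ∈ (irrS k n).toIdeal :=
  Ideal.subset_span ⟨e, he, hp⟩

theorem Ij_isHomogeneous (j : ℕ) : (Ij k n j).IsHomogeneous (stdS k n) := by
  unfold Ij
  refine Ideal.homogeneous_span (stdS k n) _ ?_
  rintro _ ⟨i, _, rfl⟩
  exact ⟨1, MvPolynomial.isWeightedHomogeneous_X k (fun _ : Fin (n + 1) => (1 : ℤ)) i⟩

theorem conc_quot (t : ℕ) (ht : t ≤ n + 1) :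
    ∀ (Q : Type u) [AddCommGroup Q] [Module (MvPolynomial (Fin (n + 1)) k) Q]
      (𝒬 : ℤ → AddSubgroup Q) [Decomposition 𝒬] [SetLike.GradedSMul (stdS k n) 𝒬]
      (q : MvPolynomial (Fin (n + 1)) k →ₗ[MvPolynomial (Fin (n + 1)) k] Q),
      IsGrHom (stdS k n) 𝒬 q → Function.Surjective q →
      LinearMap.ker q = Ij k n (n + 1 - t) → Conc (irrS k n) 𝒬 t := by
  induction t with
  | zero =>
    intro Q _ _ 𝒬 _ _ q hq hsurj hker
    rw [Nat.sub_zero, Ij_top, ← irrS_toIdeal] at hker
    refine conc_zero (irrS k n) ?_ ?_ ?_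
    · intro r hr y
      obtain ⟨p, rfl⟩ := hsurj y
      rw [← map_smul]
      have : r • p ∈ LinearMap.ker q := by
        rw [hker, smul_eq_mul]
        exact Ideal.mul_mem_right _ _ hr
      exact this
    · intro e he
      rw [eq_bot_iff]
      intro y hy
      obtain ⟨p, hp, rfl⟩ := exists_homog_preimage hq hsurj hy
      have : p ∈ LinearMap.ker q := by
        rw [hker]
        exact mem_irrS_of_pos k n he hp
      rw [AddSubgroup.mem_bot]
      exact this
    · intro h
      have h1 : q 1 ∈ 𝒬 0 := hq 0 1 (SetLike.GradedOne.one_mem (A := stdS k n))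
      rw [h, AddSubgroup.mem_bot] at h1
      have h2 : (1 : MvPolynomial (Fin (n + 1)) k) ∈ LinearMap.ker q := h1
      rw [hker, irrS_toIdeal, RingHom.mem_ker, map_one] at h2
      exact one_ne_zero h2
  | succ t ih =>
    intro Q _ _ 𝒬 _ _ q hq hsurj hker
    have htn : t < n + 1 := ht
    set j := n + 1 - (t + 1) with hj
    have hj1 : n + 1 - t = j + 1 := by omega
    have hjn : j < n + 1 := by omega
    -- the next quotient
    have hhom : (Ij k n (j + 1)).IsHomogeneous (stdS k n) := Ij_isHomogeneous k n (j + 1)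
    let Q' : GMod.{u} (stdS k n) := quotGMod (stdS k n) (stdS k n) (Ij k n (j + 1)) hhom
    let q' : MvPolynomial (Fin (n + 1)) k →ₗ[MvPolynomial (Fin (n + 1)) k] Q'.carrier :=
      quotMap (stdS k n) (stdS k n) (Ij k n (j + 1)) hhom
    have hq' : IsGrHom (stdS k n) Q'.gr q' := quotMap_isGrHom _ _ _ hhom
    have hq'surj : Function.Surjective q' := quotMap_surjective _ _ _ hhom
    have hq'ker : LinearMap.ker q' = Ij k n (j + 1) := by
      ext p
      rw [LinearMap.mem_ker]
      exact quotMap_eq_zero_iff _ _ _ hhom p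
    have hQ' : Conc (irrS k n) Q'.gr t :=
      ih (by omega) Q'.carrier Q'.gr q' hq' hq'surj (by rw [hq'ker, hj1])
    -- the projection
    have hle : LinearMap.ker q ≤ LinearMap.ker q' := by
      rw [hker, hq'ker, Ij_succ k n j hjn]
      exact le_sup_left
    obtain ⟨π, hπ⟩ := exists_desc q hsurj q' hle
    have hπg : IsGrHom 𝒬 Q'.gr π := by
      intro e y hy
      obtain ⟨p, hp, rfl⟩ := exists_homog_preimage hq hsurj hy
      rw [hπ]
      exact hq' e p hp
    have hπsurj : Function.Surjective π := by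
      intro y
      obtain ⟨p, rfl⟩ := hq'surj y
      exact ⟨q p, hπ p⟩
    have hx : xj k n j ∈ stdS k n 1 := Groth.Agent.Lib.GrVanish.xj_mem j hjn
    have hxa : xj k n j ∈ (irrS k n).toIdeal := mem_irrS_of_pos k n one_pos hx
    have hπker : LinearMap.ker π =
        LinearMap.range (LinearMap.lsmul (MvPolynomial (Fin (n + 1)) k) Q (xj k n j)) := by
      ext y
      constructor
      · intro hy
        obtain ⟨p, rfl⟩ := hsurj y
        rw [LinearMap.mem_ker, hπ] at hy
        have hp : p ∈ Ij k n (j + 1) := by rw [← hq'ker]; exact hy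
        rw [Ij_succ k n j hjn, Submodule.mem_sup] at hp
        obtain ⟨u, hu, v, hv, rfl⟩ := hp
        obtain ⟨c, rfl⟩ := Ideal.mem_span_singleton'.mp hv
        refine ⟨q c, ?_⟩
        have hu' : q u = 0 := by
          have : u ∈ LinearMap.ker q := by rw [hker]; exact hu
          exact this
        rw [LinearMap.lsmul_apply, map_add, hu', zero_add, ← map_smul, smul_eq_mul, mul_comm]
      · rintro ⟨y, rfl⟩
        obtain ⟨p, rfl⟩ := hsurj y
        rw [LinearMap.mem_ker, LinearMap.lsmul_apply, ← map_smul, hπ]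
        have : xj k n j • p ∈ LinearMap.ker q' := by
          rw [hq'ker, Ij_succ k n j hjn, smul_eq_mul]
          exact Ideal.mem_sup_right (Ideal.mul_mem_right _ _ (Ideal.mem_span_singleton_self _))
        exact this
    have hreg : ∀ y : Q, xj k n j • y = 0 → y = 0 := by
      intro y hy
      obtain ⟨p, rfl⟩ := hsurj y
      rw [← map_smul] at hy
      have h1 : xj k n j * p ∈ Ij k n j := by
        rw [← hker]
        exact hy
      have h2 : p ∈ LinearMap.ker q := by
        rw [hker]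
        exact Ij_reg k n j hjn p h1
      exact h2
    exact conc_succ (irrS k n) hx hxa hreg hπg hπsurj hπker t hQ'

/-- The graded local cohomology of the polynomial ring `S = k[x_0..x_n]`: `H^i_𝔪(S)_e ≠ 0` only
for `i = n + 1` and `e ≤ -(n+1)`, and `H^{n+1}_𝔪(S)_{-(n+1)} ≠ 0`. -/
theorem conc_poly : Conc (irrS k n) (stdS k n) (n + 1) := by
  refine conc_quot k n (n + 1) le_rfl (MvPolynomial (Fin (n + 1)) k) (stdS k n) LinearMap.id
    (fun _ _ h => h) (fun p => ⟨p, rfl⟩) ?_
  rw [Nat.sub_self, Ij_zero, LinearMap.ker_id]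

end Groth.Agent.Lib.GrLCPoly
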