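import Mathlib
import Groth.Agent.Lib.GrLCPoly
import Groth.Agent.Lib.GrLCFree

/-!
# Regularity of a graded free resolution and graded local cohomology (helper12)

`k` a field, `S = k[x_0..x_n]`, `𝔪` the irrelevant ideal, `M` a graded `S`-module with a graded
free resolution `F : GrSyz.FreeRes (GrSyz.stdGr k (Fin (n+1))) ℳ`.  Graded local cohomology is
computed from resolutions over `stdS k n = asGr (GrSyz.stdGr _ _)`.

* `Hcomp_eq_bot_of_isGenLE` : if `F` has length `≤ n+1` and `F_i` is generated in degrees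
  `≤ d + i`, then `H^j_𝔪(M)_e = 0` whenever `e + j > d`;
* `Hcomp_ne_bot_of_last` : if `F` is minimal, `deg_i b - i ≤ d'` for all `(i, b)` with equality at
  `(i₀, b₀)` and strict inequality for `i > i₀`, then `H^{n+1-i₀}_𝔪(M)_{d'+i₀-(n+1)} ≠ 0`;
* `isGenLE_iff` : for minimal `F`: `F.IsGenLE d ↔ ∀ j e, d < e + j → H^j_𝔪(M)_e = 0`.
-/

set_option autoImplicit false
set_option linter.unusedSectionVars false
universe u

open DirectSum MvPolynomial

namespace Groth.Agent.Lib.GrLCSyz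

open GrLC Groth.Agent.Lib.H87GrMod Groth.Agent.Lib.H87GrMod2
  Groth.Agent.S18661 Groth.Agent.S13215 Groth.Agent.Lib.GrLCMap Groth.Agent.Lib.GrLCLES
  Groth.Agent.Lib.GrLCConc Groth.Agent.Lib.GrLCBridge Groth.Agent.Lib.GrLCPoly
  Groth.Agent.Lib.GrLCFree Groth.Agent.Lib.GrLCQReg

variable {k : Type u} [Field k] {n : ℕ}
  {M : Type u} [AddCommGroup M] [Module k M] [Module (MvPolynomial (Fin (n + 1)) k) M]
  [IsScalarTower k (MvPolynomial (Fin (n + 1)) k) M]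
  {ℳ : ℤ → Submodule k M} [DirectSum.Decomposition ℳ]
  [SetLike.GradedSMul (GrSyz.stdGr k (Fin (n + 1))) ℳ]

/-- The grading of the `i`-th term of the resolution. -/
noncomputable abbrev termGr (F : GrSyz.FreeRes (GrSyz.stdGr k (Fin (n + 1))) ℳ) (i : ℕ) :
    ℤ → AddSubgroup (Fin (F.rk i) → MvPolynomial (Fin (n + 1)) k) :=
  freeGr (stdS k n) (F.deg i)

theorem dLin_isGrHom (F : GrSyz.FreeRes (GrSyz.stdGr k (Fin (n + 1))) ℳ) (i : ℕ) :
    IsGrHom (termGr F (i + 1)) (termGr F i) (F.dLin i) := by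
  intro e v hv a
  rw [Matrix.mulVecLin_apply, Matrix.mulVec, dotProduct]
  refine sum_mem fun b _ => ?_
  have h1 := SetLike.GradedMul.mul_mem (A := stdS k n) (F.d_mem i a b) (hv b)
  have h2 : F.deg (i + 1) b - F.deg i a + (e - F.deg (i + 1) b) = e - F.deg i a := by ring
  rw [h2] at h1
  exact h1

theorem augLin_isGrHom (F : GrSyz.FreeRes (GrSyz.stdGr k (Fin (n + 1))) ℳ) :
    IsGrHom (termGr F 0) (asGr ℳ) F.augLin := by
  intro e v hv
  rw [Fintype.linearCombination_apply]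
  refine sum_mem fun b _ => ?_
  have h1 := SetLike.GradedSMul.smul_mem (A := GrSyz.stdGr k (Fin (n + 1))) (B := ℳ) (hv b)
    (F.aug_mem b)
  rw [vadd_eq_add, sub_add_cancel] at h1
  exact h1

/-- An element of nonpositive degree of the irrelevant ideal vanishes. -/
theorem eq_zero_of_mem_irrel {e : ℤ} (he : e ≤ 0) {p : MvPolynomial (Fin (n + 1)) k}
    (hp : p ∈ GrSyz.stdGr k (Fin (n + 1)) e)
    (hpm : p ∈ (GrSyz.irrel (GrSyz.stdGr k (Fin (n + 1)))).toIdeal) : p = 0 := by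
  rcases lt_or_eq_of_le he with hlt | rfl
  · exact Groth.Agent.Lib.GrSyzBasic.eq_zero_of_mem_stdGr_neg k (Fin (n + 1)) hlt hp
  · have h0 := Groth.Agent.Lib.GrSyzBasic.eq_C_of_mem_stdGr_zero k (Fin (n + 1)) hp
    rw [Groth.Agent.Lib.GrTor.irrel_eq_ker, RingHom.mem_ker] at hpm
    rw [h0, hpm, map_zero]

/-- The local cohomology of the `i`-th term. -/
theorem Hcomp_term_eq_bot (F : GrSyz.FreeRes (GrSyz.stdGr k (Fin (n + 1))) ℳ) (i : ℕ)
    (E : StarInjRes (stdS k n) (termGr F i)) (j : ℕ) (e : ℤ)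
    (h : j = n + 1 → ∀ b, F.deg i b < e + (n + 1)) : E.Hcomp (irrS k n) j e = ⊥ := by
  let ES : StarInjRes (stdS k n) (stdS k n) := res (stdS k n)
  refine Hcomp_free_eq_bot ES (irrS k n) j (F.rk i) (F.deg i) E e (fun b => ?_)
  by_contra hne
  obtain ⟨h1, h2⟩ := ((conc_poly k n) ES).1 j _ hne
  have := h h1 b
  push_cast at h2
  omega

section Vanishing

variable (F : GrSyz.FreeRes (GrSyz.stdGr k (Fin (n + 1))) ℳ)

theorem vanish_aux (hlen : F.HasLengthLE (n + 1)) (d : ℤ) (hd : F.IsGenLE d) (m : ℕ) :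
    ∀ (i : ℕ), n + 2 ≤ i + m →
      ∀ (Z : Type u) [AddCommGroup Z] [Module (MvPolynomial (Fin (n + 1)) k) Z]
        (𝒵 : ℤ → AddSubgroup Z) [Decomposition 𝒵] [SetLike.GradedSMul (stdS k n) 𝒵]
        (p : (Fin (F.rk i) → MvPolynomial (Fin (n + 1)) k) →ₗ[MvPolynomial (Fin (n + 1)) k] Z),
        IsGrHom (termGr F i) 𝒵 p → Function.Surjective p →
        LinearMap.ker p = LinearMap.range (F.dLin i) →
        ∀ (E : StarInjRes (stdS k n) 𝒵) (j : ℕ) (e : ℤ), d + i < e + j →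
          E.Hcomp (irrS k n) j e = ⊥ := by
  induction m with
  | zero =>
    intro i hi Z _ _ 𝒵 _ _ p _ hsurj _ E j e _
    have hrk : F.rk i = 0 := hlen i (by omega)
    have : Subsingleton Z := by
      refine ⟨fun z z' => ?_⟩
      obtain ⟨v, rfl⟩ := hsurj z
      obtain ⟨v', rfl⟩ := hsurj z'
      have : v = v' := by
        ext b
        exact Fin.elim0 (hrk ▸ b)
      rw [this]
    exact Hcomp_eq_bot_of_subsingleton E (irrS k n) j e
  | succ m ih =>
    intro i hi Z _ _ 𝒵 _ _ p hp hsurj hker E j e hje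
    have hθ : IsGrHomDeg (termGr F (i + 1)) (termGr F i) (F.dLin i) 0 :=
      (isGrHomDeg_zero_iff _ _ _).mpr (dLin_isGrHom F i)
    obtain ⟨Km, Mb, jK, p', θb, hj, hjinj, hjrange, hp', hp'surj, hp'ker, hθb, hθbinj, hθbp⟩ :=
      exists_coimage (𝒜 := stdS k n) hθ
    have hp'ker' : LinearMap.ker p' = LinearMap.range (F.dLin (i + 1)) := by
      rw [hp'ker, hjrange, F.exact_succ i]
    let EZ' : StarInjRes (stdS k n) Mb.gr := res Mb.gr
    let EF : StarInjRes (stdS k n) (termGr F i) := res (termGr F i)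
    have h1 : EZ'.Hcomp (irrS k n) (j + 1) e = ⊥ :=
      ih (i + 1) (by omega) Mb.carrier Mb.gr p' hp' hp'surj hp'ker' EZ' (j + 1) e
        (by push_cast; omega)
    have h2 : EF.Hcomp (irrS k n) j e = ⊥ := by
      refine Hcomp_term_eq_bot F i EF j e (fun hjn b => ?_)
      have := hd i b
      rw [hjn] at hje
      push_cast at hje
      omega
    have hex : LinearMap.ker p = LinearMap.range θb := by
      rw [hker]
      ext v
      constructor
      · rintro ⟨w, rfl⟩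
        exact ⟨p' w, hθbp w⟩
      · rintro ⟨y, rfl⟩
        obtain ⟨w, rfl⟩ := hp'surj y
        exact ⟨w, (hθbp w).symm⟩
    have hp0 : IsGrHomDeg (termGr F i) 𝒵 p 0 := (isGrHomDeg_zero_iff _ _ _).mpr hp
    have h3 := Hcomp_eq_bot_right EZ' EF E (irrS k n) hθb hp0 hθbinj hsurj hex j e
      (by rwa [add_zero]) h1
    rwa [add_zero] at h3

/-- If the resolution has length `≤ n+1` and its `i`-th term is generated in degrees `≤ d + i`
then `H^j_𝔪(M)_e = 0` whenever `e + j > d`. -/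
theorem Hcomp_eq_bot_of_isGenLE (hlen : F.HasLengthLE (n + 1)) (d : ℤ) (hd : F.IsGenLE d)
    (E : StarInjRes (stdS k n) (asGr ℳ)) (j : ℕ) (e : ℤ) (hje : d < e + j) :
    E.Hcomp (irrS k n) j e = ⊥ := by
  refine vanish_aux F hlen d hd (n + 2) 0 (by omega) M (asGr ℳ) F.augLin (augLin_isGrHom F)
    F.aug_surjective F.exact_zero E j e ?_
  push_cast
  omega

end Vanishing

section NonVanishing

variable (F : GrSyz.FreeRes (GrSyz.stdGr k (Fin (n + 1))) ℳ)

/-- The base case: splitting off a generator of top degree. -/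
theorem nonvanish_base (hF : F.IsMinimal (GrSyz.irrel (GrSyz.stdGr k (Fin (n + 1)))).toIdeal)
    (i₀ : ℕ) (b₀ : Fin (F.rk i₀)) (hlast : ∀ c : Fin (F.rk (i₀ + 1)), F.deg (i₀ + 1) c ≤ F.deg i₀ b₀)
    (Z : Type u) [AddCommGroup Z] [Module (MvPolynomial (Fin (n + 1)) k) Z]
    (𝒵 : ℤ → AddSubgroup Z) [Decomposition 𝒵] [SetLike.GradedSMul (stdS k n) 𝒵]
    (p : (Fin (F.rk i₀) → MvPolynomial (Fin (n + 1)) k) →ₗ[MvPolynomial (Fin (n + 1)) k] Z)
    (hp : IsGrHom (termGr F i₀) 𝒵 p) (hsurj : Function.Surjective p)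
    (hker : LinearMap.ker p = LinearMap.range (F.dLin i₀))
    (E : StarInjRes (stdS k n) 𝒵) :
    E.Hcomp (irrS k n) (n + 1) (-((n + 1 : ℕ) : ℤ) + F.deg i₀ b₀) ≠ ⊥ := by
  classical
  -- the row `b₀` of the differential vanishes
  have hrow : ∀ c, F.d i₀ b₀ c = 0 := fun c =>
    eq_zero_of_mem_irrel (e := F.deg (i₀ + 1) c - F.deg i₀ b₀) (by have := hlast c; omega)
      (F.d_mem i₀ b₀ c) (hF i₀ b₀ c)
  let qt : (Fin (F.rk i₀) → MvPolynomial (Fin (n + 1)) k) →ₗ[MvPolynomial (Fin (n + 1)) k]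
      MvPolynomial (Fin (n + 1)) k := LinearMap.proj b₀
  have hle : LinearMap.ker p ≤ LinearMap.ker qt := by
    rw [hker]
    rintro _ ⟨w, rfl⟩
    rw [LinearMap.mem_ker]
    show (F.dLin i₀ w) b₀ = 0
    rw [Matrix.mulVecLin_apply, Matrix.mulVec, dotProduct]
    refine Finset.sum_eq_zero fun c _ => ?_
    rw [hrow c, zero_mul]
  obtain ⟨q, hq⟩ := exists_desc p hsurj qt hle
  have hqdeg : IsGrHomDeg 𝒵 (stdS k n) q (-(F.deg i₀ b₀)) := by
    intro e y hy
    obtain ⟨v, hv, rfl⟩ := exists_homog_preimage hp hsurj hy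
    rw [hq, ← sub_eq_add_neg]
    exact hv b₀
  let s : MvPolynomial (Fin (n + 1)) k →ₗ[MvPolynomial (Fin (n + 1)) k] Z :=
    p ∘ₗ LinearMap.single (MvPolynomial (Fin (n + 1)) k) (fun _ => MvPolynomial (Fin (n + 1)) k) b₀
  have hsdeg : IsGrHomDeg (stdS k n) 𝒵 s (F.deg i₀ b₀) := by
    intro e r hr
    exact hp _ _ (single_mem_freeGr (stdS k n) (F.deg i₀) b₀ hr)
  have hqs : q ∘ₗ s = LinearMap.id := by
    apply LinearMap.ext
    intro r
    show q (p (Pi.single b₀ r)) = r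
    rw [hq]
    show (Pi.single b₀ r : Fin (F.rk i₀) → MvPolynomial (Fin (n + 1)) k) b₀ = r
    rw [Pi.single_eq_same]
  let ES : StarInjRes (stdS k n) (stdS k n) := res (stdS k n)
  have hne := ((conc_poly k n) ES).2
  rw [Ne, Hcomp_eq_bot_iff_forall_mem] at hne
  push Not at hne
  obtain ⟨x, hx, hx0⟩ := hne
  intro hbot
  rw [Hcomp_eq_bot_iff_forall_mem] at hbot
  have h1 := Hmap_mem ES E (irrS k n) hsdeg (n + 1) hx
  have h2 := hbot _ h1
  have h3 := Hmap_Hmap_of_comp_eq_id ES E (irrS k n) hsdeg hqdeg (add_neg_cancel _) hqs (n + 1) x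
  rw [h2, map_zero] at h3
  exact hx0 h3.symm

theorem nonvanish_aux (hF : F.IsMinimal (GrSyz.irrel (GrSyz.stdGr k (Fin (n + 1)))).toIdeal)
    (d' : ℤ) (i₀ : ℕ) (hi₀ : i₀ ≤ n + 1) (b₀ : Fin (F.rk i₀)) (hb₀ : F.deg i₀ b₀ = d' + i₀)
    (hmax : ∀ (i : ℕ) (b : Fin (F.rk i)), F.deg i b ≤ d' + i)
    (hlast : ∀ (i : ℕ), i₀ < i → ∀ b : Fin (F.rk i), F.deg i b < d' + i) (m : ℕ) :
    ∀ (i : ℕ), i + m = i₀ →
      ∀ (Z : Type u) [AddCommGroup Z] [Module (MvPolynomial (Fin (n + 1)) k) Z]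
        (𝒵 : ℤ → AddSubgroup Z) [Decomposition 𝒵] [SetLike.GradedSMul (stdS k n) 𝒵]
        (p : (Fin (F.rk i) → MvPolynomial (Fin (n + 1)) k) →ₗ[MvPolynomial (Fin (n + 1)) k] Z),
        IsGrHom (termGr F i) 𝒵 p → Function.Surjective p →
        LinearMap.ker p = LinearMap.range (F.dLin i) →
        ∀ (E : StarInjRes (stdS k n) 𝒵),
          E.Hcomp (irrS k n) (n + 1 - i₀ + i) (d' + i₀ - ((n + 1 : ℕ) : ℤ)) ≠ ⊥ := by
  induction m with
  | zero =>
    intro i hi Z _ _ 𝒵 _ _ p hp hsurj hker E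
    rw [add_zero] at hi
    subst hi
    have h1 := nonvanish_base F hF i b₀ (fun c => by
      have := hlast (i + 1) (Nat.lt_succ_self i) c
      push_cast at this
      omega) Z 𝒵 p hp hsurj hker E
    have h2 : n + 1 - i + i = n + 1 := by omega
    have h3 : -((n + 1 : ℕ) : ℤ) + F.deg i b₀ = d' + i - ((n + 1 : ℕ) : ℤ) := by
      rw [hb₀]; ring
    rw [h2, ← h3]
    exact h1
  | succ m ih =>
    intro i hi Z _ _ 𝒵 _ _ p hp hsurj hker E
    have hθ : IsGrHomDeg (termGr F (i + 1)) (termGr F i) (F.dLin i) 0 :=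
      (isGrHomDeg_zero_iff _ _ _).mpr (dLin_isGrHom F i)
    obtain ⟨Km, Mb, jK, p', θb, hj, hjinj, hjrange, hp', hp'surj, hp'ker, hθb, hθbinj, hθbp⟩ :=
      exists_coimage (𝒜 := stdS k n) hθ
    have hp'ker' : LinearMap.ker p' = LinearMap.range (F.dLin (i + 1)) := by
      rw [hp'ker, hjrange, F.exact_succ i]
    let EZ' : StarInjRes (stdS k n) Mb.gr := res Mb.gr
    let EF : StarInjRes (stdS k n) (termGr F i) := res (termGr F i)
    have h1 := ih (i + 1) (by omega) Mb.carrier Mb.gr p' hp' hp'surj hp'ker' EZ'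
    have hidx : n + 1 - i₀ + (i + 1) = (n + 1 - i₀ + i) + 1 := by omega
    rw [hidx] at h1
    have h2 : EF.Hcomp (irrS k n) ((n + 1 - i₀ + i) + 1) (d' + i₀ - ((n + 1 : ℕ) : ℤ)) = ⊥ := by
      refine Hcomp_term_eq_bot F i EF _ _ (fun _ b => ?_)
      have := hmax i b
      have hi' : (i : ℤ) + (m : ℤ) + 1 = (i₀ : ℤ) := by exact_mod_cast hi
      push_cast
      omega
    have hex : LinearMap.ker p = LinearMap.range θb := by
      rw [hker]
      ext v
      constructor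
      · rintro ⟨w, rfl⟩
        exact ⟨p' w, hθbp w⟩
      · rintro ⟨y, rfl⟩
        obtain ⟨w, rfl⟩ := hp'surj y
        exact ⟨w, (hθbp w).symm⟩
    have hp0 : IsGrHomDeg (termGr F i) 𝒵 p 0 := (isGrHomDeg_zero_iff _ _ _).mpr hp
    intro hbot
    apply h1
    exact Hcomp_eq_bot_left EZ' EF E (irrS k n) hθb hp0 hθbinj hsurj hex (n + 1 - i₀ + i)
      (d' + i₀ - ((n + 1 : ℕ) : ℤ)) (by rwa [add_zero]) (by rwa [add_zero])

/-- If `F` is minimal, `deg_i b - i ≤ d'` for all `(i, b)` with equality at `(i₀, b₀)` and strict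
inequality for `i > i₀`, then `H^{n+1-i₀}_𝔪(M)_{d'+i₀-(n+1)} ≠ 0`. -/
theorem Hcomp_ne_bot_of_last (hF : F.IsMinimal (GrSyz.irrel (GrSyz.stdGr k (Fin (n + 1)))).toIdeal)
    (d' : ℤ) (i₀ : ℕ) (hi₀ : i₀ ≤ n + 1) (b₀ : Fin (F.rk i₀)) (hb₀ : F.deg i₀ b₀ = d' + i₀)
    (hmax : ∀ (i : ℕ) (b : Fin (F.rk i)), F.deg i b ≤ d' + i)
    (hlast : ∀ (i : ℕ), i₀ < i → ∀ b : Fin (F.rk i), F.deg i b < d' + i)
    (E : StarInjRes (stdS k n) (asGr ℳ)) :
    E.Hcomp (irrS k n) (n + 1 - i₀) (d' + i₀ - ((n + 1 : ℕ) : ℤ)) ≠ ⊥ := by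
  have := nonvanish_aux F hF d' i₀ hi₀ b₀ hb₀ hmax hlast i₀ 0 (by omega) M (asGr ℳ) F.augLin
    (augLin_isGrHom F) F.aug_surjective F.exact_zero E
  rwa [add_zero] at this

end NonVanishing

end Groth.Agent.Lib.GrLCSyz
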