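import Groth.Agent.Lib.GrLCLES
import Groth.Agent.Lib.GrLCConc
import Groth.Agent.S13215

/-!
# Vanishing of graded pieces of graded local cohomology: a resolution-free API (helper12)

`Van a X i e` : `H^i_a(X)_e = 0` for every *injective resolution of the graded module `X`
(equivalently for one, `van_iff`).

* `van_mid`, `van_right`, `van_left`, `van_left_zero` : vanishing in short exact sequences
  (`f` of degree `δ`, `g` of degree `0`); `van_mid0`, `van_right0`, `van_left0` for `δ = 0`;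
* `van_of_torsion`, `van_of_subsingleton`;
* subquotients `sqGMod 𝒜 𝒰 Z B` of a graded module: `van_sq_mid` (`B ≤ Z`: `0 → B → Z → Z/B → 0`),
  `van_sq_range` (`0 → ker d → K → range d → 0`), `van_sq_torsion`, `van_of_sq`
  (`0 → B → U → U/B → 0`), `van_sq_top`.
-/

set_option autoImplicit false
set_option linter.unusedSectionVars false
universe u

namespace Groth.Agent.Lib.GrLCVan

open DirectSum GrLC Groth.Agent.Lib.H87GrMod Groth.Agent.Lib.H87GrMod2
  Groth.Agent.Lib.H87GrShift Groth.Agent.S18662 Groth.Agent.S18661 Groth.Agent.Lib.GrLCMap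
  Groth.Agent.Lib.GrLCLES Groth.Agent.S13215

variable {ι : Type} [AddCommGroup ι] [DecidableEq ι]
variable {R : Type u} [CommRing R] {𝒜 : ι → AddSubgroup R} [GradedRing 𝒜]

/-- `H^i_a(X)_e = 0`, for every *injective resolution. -/
def Van (a : HomogeneousIdeal 𝒜) (X : GMod.{u} 𝒜) (i : ℕ) (e : ι) : Prop :=
  ∀ E : StarInjRes 𝒜 X.gr, E.Hcomp a i e = ⊥

variable (a : HomogeneousIdeal 𝒜)

theorem van_of_one {X : GMod.{u} 𝒜} {i : ℕ} {e : ι} (E : StarInjRes 𝒜 X.gr)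
    (h : E.Hcomp a i e = ⊥) : Van a X i e :=
  fun E' => (Hcomp_eq_bot_iff E E' a i e).mp h

theorem van_iff {X : GMod.{u} 𝒜} {i : ℕ} {e : ι} (E : StarInjRes 𝒜 X.gr) :
    Van a X i e ↔ E.Hcomp a i e = ⊥ :=
  ⟨fun h => h E, van_of_one a E⟩

section SES

variable {X₁ X₂ X₃ : GMod.{u} 𝒜} {f : X₁.carrier →ₗ[R] X₂.carrier}
  {g : X₂.carrier →ₗ[R] X₃.carrier} {δ : ι}

theorem van_mid (hf : IsGrHomDeg X₁.gr X₂.gr f δ) (hg : IsGrHomDeg X₂.gr X₃.gr g 0)
    (hinj : Function.Injective f) (hsurj : Function.Surjective g)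
    (hex : LinearMap.ker g = LinearMap.range f) (i : ℕ) (e : ι)
    (h1 : Van a X₁ i e) (h3 : Van a X₃ i (e + δ)) : Van a X₂ i (e + δ) := fun E₂ =>
  Hcomp_eq_bot_mid (res X₁.gr) E₂ (res X₃.gr) a hf hg hinj hsurj hex i e (h1 _) (h3 _)

theorem van_right (hf : IsGrHomDeg X₁.gr X₂.gr f δ) (hg : IsGrHomDeg X₂.gr X₃.gr g 0)
    (hinj : Function.Injective f) (hsurj : Function.Surjective g)
    (hex : LinearMap.ker g = LinearMap.range f) (i : ℕ) (e : ι)
    (h2 : Van a X₂ i (e + δ)) (h1 : Van a X₁ (i + 1) e) : Van a X₃ i (e + δ) := fun E₃ =>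
  Hcomp_eq_bot_right (res X₁.gr) (res X₂.gr) E₃ a hf hg hinj hsurj hex i e (h2 _) (h1 _)

theorem van_left (hf : IsGrHomDeg X₁.gr X₂.gr f δ) (hg : IsGrHomDeg X₂.gr X₃.gr g 0)
    (hinj : Function.Injective f) (hsurj : Function.Surjective g)
    (hex : LinearMap.ker g = LinearMap.range f) (i : ℕ) (e : ι)
    (h3 : Van a X₃ i (e + δ)) (h2 : Van a X₂ (i + 1) (e + δ)) : Van a X₁ (i + 1) e := fun E₁ =>
  Hcomp_eq_bot_left E₁ (res X₂.gr) (res X₃.gr) a hf hg hinj hsurj hex i e (h3 _) (h2 _)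

theorem van_left_zero (hf : IsGrHomDeg X₁.gr X₂.gr f δ) (hg : IsGrHomDeg X₂.gr X₃.gr g 0)
    (hinj : Function.Injective f) (hsurj : Function.Surjective g)
    (hex : LinearMap.ker g = LinearMap.range f) (e : ι)
    (h2 : Van a X₂ 0 (e + δ)) : Van a X₁ 0 e := fun E₁ =>
  Hcomp_eq_bot_left_zero E₁ (res X₂.gr) (res X₃.gr) a hf hg hinj hsurj hex e (h2 _)

theorem van_mid0 (hf : IsGrHom X₁.gr X₂.gr f) (hg : IsGrHom X₂.gr X₃.gr g)
    (hinj : Function.Injective f) (hsurj : Function.Surjective g)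
    (hex : LinearMap.ker g = LinearMap.range f) (i : ℕ) (e : ι)
    (h1 : Van a X₁ i e) (h3 : Van a X₃ i e) : Van a X₂ i e := by
  have := van_mid a ((isGrHomDeg_zero_iff _ _ _).mpr hf) ((isGrHomDeg_zero_iff _ _ _).mpr hg)
    hinj hsurj hex i e h1 (by rwa [add_zero])
  rwa [add_zero] at this

theorem van_right0 (hf : IsGrHom X₁.gr X₂.gr f) (hg : IsGrHom X₂.gr X₃.gr g)
    (hinj : Function.Injective f) (hsurj : Function.Surjective g)
    (hex : LinearMap.ker g = LinearMap.range f) (i : ℕ) (e : ι)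
    (h2 : Van a X₂ i e) (h1 : Van a X₁ (i + 1) e) : Van a X₃ i e := by
  have := van_right a ((isGrHomDeg_zero_iff _ _ _).mpr hf) ((isGrHomDeg_zero_iff _ _ _).mpr hg)
    hinj hsurj hex i e (by rwa [add_zero]) h1
  rwa [add_zero] at this

theorem van_left0 (hf : IsGrHom X₁.gr X₂.gr f) (hg : IsGrHom X₂.gr X₃.gr g)
    (hinj : Function.Injective f) (hsurj : Function.Surjective g)
    (hex : LinearMap.ker g = LinearMap.range f) (i : ℕ) (e : ι)
    (h3 : Van a X₃ i e) (h2 : Van a X₂ (i + 1) e) : Van a X₁ (i + 1) e := by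
  exact van_left a ((isGrHomDeg_zero_iff _ _ _).mpr hf) ((isGrHomDeg_zero_iff _ _ _).mpr hg)
    hinj hsurj hex i e (by rwa [add_zero]) (by rwa [add_zero])

end SES

section Torsion

variable [IsNoetherianRing R]

theorem van_of_torsion {X : GMod.{u} 𝒜} (h : gam a.toIdeal X.carrier = ⊤) (i : ℕ) (hi : 1 ≤ i)
    (e : ι) : Van a X i e := by
  intro E
  have := H_subsingleton_of_torsion E a h i hi
  rw [Hcomp_eq_bot_iff_forall_mem]
  intro y _
  exact Subsingleton.elim _ _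

theorem van_of_subsingleton {X : GMod.{u} 𝒜} [Subsingleton X.carrier] (i : ℕ) (e : ι) :
    Van a X i e := by
  cases i with
  | zero =>
    intro E
    rw [Groth.Agent.Lib.GrLCConc.Hcomp_zero_eq_bot_iff]
    intro m _ _
    exact Subsingleton.elim _ _
  | succ n =>
    refine van_of_torsion a ?_ (n + 1) (by omega) e
    rw [eq_top_iff]
    intro x _
    rw [Subsingleton.elim x 0]
    exact zero_mem _

end Torsion

section SubQuot

variable {U : Type u} [AddCommGroup U] [Module R U] (𝒰 : ι → AddSubgroup U)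
  [Decomposition 𝒰] [SetLike.GradedSMul 𝒜 𝒰]

/-- A homogeneous submodule as a graded module. -/
noncomputable abbrev subG (Z : Submodule R U) (hZ : Z.IsHomogeneous 𝒰) : GMod.{u} 𝒜 :=
  sqGMod 𝒜 𝒰 Z ⊥ hZ (isHomogeneous_bot 𝒰)

/-- The inclusion of a submodule, on `Z/(Z ∩ 0)`. -/
def sqVal (Z : Submodule R U) : (↥Z ⧸ (⊥ : Submodule R U).comap Z.subtype) →ₗ[R] U :=
  ((⊥ : Submodule R U).comap Z.subtype).liftQ Z.subtype (by
    intro z hz
    rw [LinearMap.mem_ker]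
    exact (Submodule.mem_bot R).mp hz)

theorem sqVal_mk (Z : Submodule R U) (z : Z) :
    sqVal Z (((⊥ : Submodule R U).comap Z.subtype).mkQ z) = (z : U) := rfl

theorem sqVal_injective (Z : Submodule R U) : Function.Injective (sqVal Z) := by
  rw [injective_iff_map_eq_zero]
  intro y hy
  obtain ⟨z, rfl⟩ := Submodule.mkQ_surjective _ y
  rw [sqVal_mk] at hy
  have : z = 0 := Subtype.ext hy
  rw [this]
  exact map_zero _

theorem range_sqVal (Z : Submodule R U) : LinearMap.range (sqVal Z) = Z := by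
  ext m
  constructor
  · rintro ⟨y, rfl⟩
    obtain ⟨z, rfl⟩ := Submodule.mkQ_surjective _ y
    rw [sqVal_mk]
    exact z.2
  · intro hm
    exact ⟨((⊥ : Submodule R U).comap Z.subtype).mkQ ⟨m, hm⟩, rfl⟩

theorem sqVal_isGrHom (Z : Submodule R U) (hZ : Z.IsHomogeneous 𝒰) :
    IsGrHom (subG (𝒜 := 𝒜) 𝒰 Z hZ).gr 𝒰 (sqVal Z) := by
  intro g y hy
  obtain ⟨z, hz, rfl⟩ := (mem_sqGr 𝒰 Z ⊥ g y).mp hy
  exact hz

/-- `0 → B → U → U/B → 0`. -/
theorem van_of_sq (B : Submodule R U) (hB : B.IsHomogeneous 𝒰) (i : ℕ) (e : ι)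
    (h1 : Van a (subG 𝒰 B hB) i e) (h3 : Van a (quotGMod 𝒜 𝒰 B hB) i e) :
    Van a (GMod.of 𝒜 U 𝒰) i e := by
  refine van_mid0 a (X₁ := subG 𝒰 B hB) (X₂ := GMod.of 𝒜 U 𝒰) (X₃ := quotGMod 𝒜 𝒰 B hB)
    (f := sqVal B) (g := quotMap 𝒜 𝒰 B hB) (sqVal_isGrHom 𝒰 B hB) (quotMap_isGrHom 𝒜 𝒰 B hB)
    (sqVal_injective B) (quotMap_surjective 𝒜 𝒰 B hB) ?_ i e h1 h3
  ext m
  constructor
  · intro hm
    have hmB : m ∈ B := (quotMap_eq_zero_iff 𝒜 𝒰 B hB m).mp hm
    exact ⟨((⊥ : Submodule R U).comap B.subtype).mkQ ⟨m, hmB⟩, rfl⟩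
  · rintro ⟨y, rfl⟩
    obtain ⟨z, rfl⟩ := Submodule.mkQ_surjective _ y
    exact (quotMap_eq_zero_iff 𝒜 𝒰 B hB _).mpr z.2

/-- `0 → B → U → U/B → 0`, on the right. -/
theorem van_quot_of (B : Submodule R U) (hB : B.IsHomogeneous 𝒰) (i : ℕ) (e : ι)
    (h2 : Van a (GMod.of 𝒜 U 𝒰) i e) (h1 : Van a (subG 𝒰 B hB) (i + 1) e) :
    Van a (quotGMod 𝒜 𝒰 B hB) i e := by
  refine van_right0 a (X₁ := subG 𝒰 B hB) (X₂ := GMod.of 𝒜 U 𝒰) (X₃ := quotGMod 𝒜 𝒰 B hB)
    (f := sqVal B) (g := quotMap 𝒜 𝒰 B hB) (sqVal_isGrHom 𝒰 B hB) (quotMap_isGrHom 𝒜 𝒰 B hB)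
    (sqVal_injective B) (quotMap_surjective 𝒜 𝒰 B hB) ?_ i e h2 h1
  ext m
  constructor
  · intro hm
    have hmB : m ∈ B := (quotMap_eq_zero_iff 𝒜 𝒰 B hB m).mp hm
    exact ⟨((⊥ : Submodule R U).comap B.subtype).mkQ ⟨m, hmB⟩, rfl⟩
  · rintro ⟨y, rfl⟩
    obtain ⟨z, rfl⟩ := Submodule.mkQ_surjective _ y
    exact (quotMap_eq_zero_iff 𝒜 𝒰 B hB _).mpr z.2

/-- `0 → B → Z → Z/B → 0` for homogeneous submodules `B ≤ Z`. -/
theorem van_sq_mid (Z B : Submodule R U) (hZ : Z.IsHomogeneous 𝒰) (hB : B.IsHomogeneous 𝒰)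
    (hBZ : B ≤ Z) (i : ℕ) (e : ι) (h1 : Van a (subG 𝒰 B hB) i e)
    (h3 : Van a (sqGMod 𝒜 𝒰 Z B hZ hB) i e) : Van a (subG 𝒰 Z hZ) i e := by
  let j : (subG (𝒜 := 𝒜) 𝒰 B hB).carrier →ₗ[R] (subG (𝒜 := 𝒜) 𝒰 Z hZ).carrier :=
    Submodule.mapQ ((⊥ : Submodule R U).comap B.subtype) ((⊥ : Submodule R U).comap Z.subtype)
      (Submodule.inclusion hBZ) (fun z hz => hz)
  have hbz : (⊥ : Submodule R U).comap Z.subtype ≤
      (B.comap Z.subtype).comap (LinearMap.id : Z →ₗ[R] Z) := by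
    intro z hz
    have h0 : (z : U) = 0 := (Submodule.mem_bot R).mp hz
    show (z : U) ∈ B
    rw [h0]
    exact B.zero_mem
  let q : (subG (𝒜 := 𝒜) 𝒰 Z hZ).carrier →ₗ[R] (sqGMod 𝒜 𝒰 Z B hZ hB).carrier :=
    Submodule.mapQ ((⊥ : Submodule R U).comap Z.subtype) (B.comap Z.subtype) LinearMap.id hbz
  have hj : IsGrHom (subG (𝒜 := 𝒜) 𝒰 B hB).gr (subG (𝒜 := 𝒜) 𝒰 Z hZ).gr j := by
    intro g y hy
    obtain ⟨z, hz, rfl⟩ := (mem_sqGr 𝒰 B ⊥ g y).mp hy
    exact (mem_sqGr 𝒰 Z ⊥ g _).mpr ⟨Submodule.inclusion hBZ z, hz, rfl⟩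
  have hq : IsGrHom (subG (𝒜 := 𝒜) 𝒰 Z hZ).gr (sqGMod 𝒜 𝒰 Z B hZ hB).gr q := by
    intro g y hy
    obtain ⟨z, hz, rfl⟩ := (mem_sqGr 𝒰 Z ⊥ g y).mp hy
    exact (mem_sqGr 𝒰 Z B g _).mpr ⟨z, hz, rfl⟩
  have hjinj : Function.Injective j := by
    rw [injective_iff_map_eq_zero]
    intro y hy
    obtain ⟨z, rfl⟩ := Submodule.mkQ_surjective _ y
    have h1 : ((⊥ : Submodule R U).comap Z.subtype).mkQ (Submodule.inclusion hBZ z) = 0 := hy
    rw [Submodule.mkQ_apply, Submodule.Quotient.mk_eq_zero] at h1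
    exact (Submodule.Quotient.mk_eq_zero _).mpr h1
  have hqsurj : Function.Surjective q := by
    intro y
    obtain ⟨z, rfl⟩ := Submodule.mkQ_surjective _ y
    exact ⟨((⊥ : Submodule R U).comap Z.subtype).mkQ z, rfl⟩
  have hex : LinearMap.ker q = LinearMap.range j := by
    ext y
    constructor
    · intro hy
      obtain ⟨z, rfl⟩ := Submodule.mkQ_surjective _ y
      have h1 : (B.comap Z.subtype).mkQ z = 0 := hy
      rw [Submodule.mkQ_apply, Submodule.Quotient.mk_eq_zero] at h1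
      exact ⟨((⊥ : Submodule R U).comap B.subtype).mkQ ⟨(z : U), h1⟩, rfl⟩
    · rintro ⟨x, rfl⟩
      obtain ⟨b, rfl⟩ := Submodule.mkQ_surjective _ x
      have h1 : (B.comap Z.subtype).mkQ (Submodule.inclusion hBZ b) = 0 := by
        rw [Submodule.mkQ_apply, Submodule.Quotient.mk_eq_zero]
        exact b.2
      exact h1
  exact van_mid0 a hj hq hjinj hqsurj hex i e h1 h3

/-- `0 → ker d → K → range d → 0`. -/
theorem van_sq_range (K V : GMod.{u} 𝒜) (d : K.carrier →ₗ[R] V.carrier)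
    (hd : IsGrHom K.gr V.gr d) (i : ℕ) (e : ι) (h2 : Van a K i e)
    (h1 : Van a (subG K.gr (LinearMap.ker d) (isHomogeneous_ker K.gr V.gr hd)) (i + 1) e) :
    Van a (subG V.gr (LinearMap.range d) (isHomogeneous_range K.gr V.gr hd)) i e := by
  let g : K.carrier →ₗ[R]
      (subG (𝒜 := 𝒜) V.gr (LinearMap.range d) (isHomogeneous_range K.gr V.gr hd)).carrier :=
    ((⊥ : Submodule R V.carrier).comap (LinearMap.range d).subtype).mkQ ∘ₗ d.rangeRestrict
  have hg : IsGrHom K.gr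
      (subG (𝒜 := 𝒜) V.gr (LinearMap.range d) (isHomogeneous_range K.gr V.gr hd)).gr g := by
    intro k x hx
    exact (mem_sqGr V.gr _ ⊥ k _).mpr ⟨d.rangeRestrict x, hd k x hx, rfl⟩
  have hgsurj : Function.Surjective g := by
    intro y
    obtain ⟨⟨v, x, rfl⟩, rfl⟩ := Submodule.mkQ_surjective _ y
    exact ⟨x, rfl⟩
  have hex : LinearMap.ker g = LinearMap.range (sqVal (LinearMap.ker d)) := by
    rw [range_sqVal]
    ext x
    constructor
    · intro h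
      have h1 : ((⊥ : Submodule R V.carrier).comap (LinearMap.range d).subtype).mkQ
          (d.rangeRestrict x) = 0 := h
      rw [Submodule.mkQ_apply, Submodule.Quotient.mk_eq_zero] at h1
      exact (Submodule.mem_bot R).mp h1
    · intro h
      have h0 : d x = 0 := h
      have h1 : ((⊥ : Submodule R V.carrier).comap (LinearMap.range d).subtype).mkQ
          (d.rangeRestrict x) = 0 := by
        rw [Submodule.mkQ_apply, Submodule.Quotient.mk_eq_zero]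
        exact (Submodule.mem_bot R).mpr h0
      exact h1
  exact van_right0 a (X₂ := K) (sqVal_isGrHom K.gr _ _) hg (sqVal_injective _) hgsurj hex i e h2 h1

/-- A subquotient killed by `a` has no higher local cohomology. -/
theorem van_sq_torsion [IsNoetherianRing R] (Z B : Submodule R U) (hZ : Z.IsHomogeneous 𝒰)
    (hB : B.IsHomogeneous 𝒰) (hkill : ∀ r ∈ a.toIdeal, ∀ z ∈ Z, r • z ∈ B) (i : ℕ) (hi : 1 ≤ i)
    (e : ι) : Van a (sqGMod 𝒜 𝒰 Z B hZ hB) i e := by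
  refine van_of_torsion a ?_ i hi e
  rw [eq_top_iff]
  intro x _
  obtain ⟨z, rfl⟩ := Submodule.mkQ_surjective _ x
  refine ⟨1, fun r hr => ?_⟩
  rw [pow_one] at hr
  have h1 : r • (B.comap Z.subtype).mkQ z = (B.comap Z.subtype).mkQ (r • z) := (map_smul _ r z).symm
  have h2 : (B.comap Z.subtype).mkQ (r • z) = 0 := by
    rw [Submodule.mkQ_apply, Submodule.Quotient.mk_eq_zero]
    exact hkill r hr z z.2
  exact h1.trans h2

end SubQuot

section Prod

/-- `0 → X₁(-δ) → X₁(-δ) × X₃ → X₃ → 0`. -/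
theorem van_hsX (X₁ X₃ : GMod.{u} 𝒜) (δ : ι) (i : ℕ) (e : ι) (h1 : Van a X₁ i e)
    (h3 : Van a X₃ i (e + δ)) : Van a (hsX X₁ X₃ δ) i (e + δ) := by
  refine van_mid a (X₁ := X₁) (X₂ := hsX X₁ X₃ δ) (X₃ := X₃)
    (f := LinearMap.inl R X₁.carrier X₃.carrier) (g := LinearMap.snd R X₁.carrier X₃.carrier)
    ?_ ?_ LinearMap.inl_injective LinearMap.snd_surjective ?_ i e h1 h3
  · intro k x hx
    refine (mem_hsX_gr (p := ((x, 0) : X₁.carrier × X₃.carrier))).mpr ⟨?_, zero_mem _⟩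
    show x ∈ X₁.gr (k + δ + -δ)
    rw [add_neg_cancel_right]
    exact hx
  · intro k p hp
    rw [add_zero]
    exact (mem_hsX_gr.mp hp).2
  · exact (LinearMap.range_inl R X₁.carrier X₃.carrier).symm

end Prod

end Groth.Agent.Lib.GrLCVan
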