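import Mathlib
import Groth.Agent.Lib.GrLCSyz
import Groth.Agent.Lib.GrLCVan

/-!
# Depth via minimal graded free resolutions: the local cohomology side (helper12)

`k` a field, `S = k[x_0..x_n]`, `𝔪` the irrelevant ideal, `M` a graded `S`-module with a minimal
graded free resolution `F` of length exactly `ℓ` (`F.HasLengthLE ℓ`, `F.rk ℓ ≠ 0`).

* `Hcomp_eq_bot_of_lt` : `H^j_𝔪(M) = 0` for `j + ℓ < n + 1`;
* `Hcomp_ne_bot_of_length` : `H^{n+1-ℓ}_𝔪(M) ≠ 0` (in degree `deg_ℓ b₀ - (n+1)`).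
-/

set_option autoImplicit false
set_option linter.unusedSectionVars false
universe u

open DirectSum MvPolynomial

namespace Groth.Agent.Lib.GrLCAB

open GrLC Groth.Agent.Lib.H87GrMod Groth.Agent.Lib.H87GrMod2
  Groth.Agent.S18661 Groth.Agent.S13215 Groth.Agent.Lib.GrLCMap Groth.Agent.Lib.GrLCLES
  Groth.Agent.Lib.GrLCConc Groth.Agent.Lib.GrLCBridge Groth.Agent.Lib.GrLCPoly
  Groth.Agent.Lib.GrLCFree Groth.Agent.Lib.GrLCQReg Groth.Agent.Lib.GrLCSyz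
  Groth.Agent.Lib.GrLCVan

section Generic

variable {ι : Type} [AddCommGroup ι] [DecidableEq ι]
variable {R : Type u} [CommRing R] {𝒜 : ι → AddSubgroup R} [GradedRing 𝒜]

theorem mem_Hcomp_congr {X : GMod.{u} 𝒜} {E : StarInjRes 𝒜 X.gr} {a : HomogeneousIdeal 𝒜} {i : ℕ}
    {e e' : ι} (h : e = e') {x : E.H a i} (hx : x ∈ E.Hcomp a i e) : x ∈ E.Hcomp a i e' :=
  h ▸ hx

/-- A nonzero class of `H^{i+1}(P)_e` pushed into `H^{i+1}(Mb)` by a split injection `s` and killed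
by `θ : Mb → Fm` (because `θ ∘ s` factors through a module `A` with `H^{i+1}(A)_{e+D} = 0`) produces
a nonzero class of `H^i(Z)_{e+D}`, `Z = Fm / Mb`. -/
theorem ne_bot_of_factor (a : HomogeneousIdeal 𝒜) {P Mb Fm Z A : GMod.{u} 𝒜} {D : ι}
    {s : P.carrier →ₗ[R] Mb.carrier} (hs : IsGrHomDeg P.gr Mb.gr s D)
    {q : Mb.carrier →ₗ[R] P.carrier} (hq : IsGrHomDeg Mb.gr P.gr q (-D))
    (hqs : q ∘ₗ s = LinearMap.id)
    {θ : Mb.carrier →ₗ[R] Fm.carrier} (hθ : IsGrHomDeg Mb.gr Fm.gr θ 0)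
    (hθinj : Function.Injective θ)
    {p : Fm.carrier →ₗ[R] Z.carrier} (hp : IsGrHomDeg Fm.gr Z.gr p 0)
    (hsurj : Function.Surjective p) (hex : LinearMap.ker p = LinearMap.range θ)
    {φ : P.carrier →ₗ[R] A.carrier} (hφ : IsGrHomDeg P.gr A.gr φ D)
    {κ : A.carrier →ₗ[R] Fm.carrier} (hκ : IsGrHomDeg A.gr Fm.gr κ 0)
    (hfac : θ ∘ₗ s = κ ∘ₗ φ) (i : ℕ) (e : ι) (EP : StarInjRes 𝒜 P.gr)
    (hne : EP.Hcomp a (i + 1) e ≠ ⊥) (hA : Van a A (i + 1) (e + D))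
    (E : StarInjRes 𝒜 Z.gr) : E.Hcomp a i (e + D) ≠ ⊥ := by
  obtain ⟨EMb⟩ : Nonempty (StarInjRes 𝒜 Mb.gr) := ⟨res Mb.gr⟩
  obtain ⟨EF⟩ : Nonempty (StarInjRes 𝒜 Fm.gr) := ⟨res Fm.gr⟩
  obtain ⟨EA⟩ : Nonempty (StarInjRes 𝒜 A.gr) := ⟨res A.gr⟩
  rw [Ne, Hcomp_eq_bot_iff_forall_mem] at hne
  push Not at hne
  obtain ⟨x, hx, hx0⟩ := hne
  have hy : Hmap EP EMb a hs (i + 1) x ∈ EMb.Hcomp a (i + 1) (e + D) :=
    Hmap_mem EP EMb a hs (i + 1) hx
  have hy0 : Hmap EP EMb a hs (i + 1) x ≠ 0 := by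
    intro h
    have h3 := Hmap_Hmap_of_comp_eq_id EP EMb a hs hq (add_neg_cancel _) hqs (i + 1) x
    rw [h, map_zero] at h3
    exact hx0 h3.symm
  have hh : IsGrHomDeg P.gr Fm.gr (κ ∘ₗ φ) (D + 0) := isGrHomDeg_comp hφ hκ
  have e1 := Hmap_comp EP EMb EF a hs hθ hh hfac.symm rfl (i + 1) x
  have e2 := Hmap_comp EP EA EF a hφ hκ hh rfl rfl (i + 1) x
  have e3 : Hmap EP EA a hφ (i + 1) x = 0 := by
    have h1 := Hmap_mem EP EA a hφ (i + 1) hx
    have hA' := hA EA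
    rw [Hcomp_eq_bot_iff_forall_mem] at hA'
    exact hA' _ h1
  have hψ0 : Hmap EMb EF a hθ (i + 1) (Hmap EP EMb a hs (i + 1) x) = 0 := by
    rw [← e1, e2, e3, map_zero]
  obtain ⟨cn, hcn, -, -, -, h4⟩ := exists_les EMb EF E a hθ hp hθinj hsurj hex
  have hr : Hmap EP EMb a hs (i + 1) x ∈ LinearMap.range (cn i) := by
    rw [← h4 i, LinearMap.mem_ker]
    exact hψ0
  have hy' : Hmap EP EMb a hs (i + 1) x ∈ EMb.Hcomp a (i + 1) (e + D + -0) := by
    rw [neg_zero, add_zero]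
    exact hy
  obtain ⟨z, hz, hzy⟩ := exists_mem_of_mem_range a (cn i) (fun k x hx => hcn i k x hx) hy' hr
  intro hbot
  rw [Hcomp_eq_bot_iff_forall_mem] at hbot
  have hz0 := hbot z hz
  rw [hz0, map_zero] at hzy
  exact hy0 hzy.symm

end Generic

variable {k : Type u} [Field k] {n : ℕ}
  {M : Type u} [AddCommGroup M] [Module k M] [Module (MvPolynomial (Fin (n + 1)) k) M]
  [IsScalarTower k (MvPolynomial (Fin (n + 1)) k) M]
  {ℳ : ℤ → Submodule k M} [DirectSum.Decomposition ℳ]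
  [SetLike.GradedSMul (GrSyz.stdGr k (Fin (n + 1))) ℳ]

variable (F : GrSyz.FreeRes (GrSyz.stdGr k (Fin (n + 1))) ℳ)

theorem subsingleton_of_rk_eq_zero {i : ℕ} (hrk : F.rk i = 0)
    {Z : Type u} [AddCommGroup Z] [Module (MvPolynomial (Fin (n + 1)) k) Z]
    (p : (Fin (F.rk i) → MvPolynomial (Fin (n + 1)) k) →ₗ[MvPolynomial (Fin (n + 1)) k] Z)
    (hsurj : Function.Surjective p) : Subsingleton Z := by
  refine ⟨fun z z' => ?_⟩
  obtain ⟨v, rfl⟩ := hsurj z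
  obtain ⟨v', rfl⟩ := hsurj z'
  have : v = v' := by
    ext b
    exact Fin.elim0 (hrk ▸ b)
  rw [this]

theorem vanish_lt_aux (ℓ : ℕ) (hlen : F.HasLengthLE ℓ) (m : ℕ) :
    ∀ (i : ℕ), ℓ + 1 ≤ i + m →
      ∀ (Z : Type u) [AddCommGroup Z] [Module (MvPolynomial (Fin (n + 1)) k) Z]
        (𝒵 : ℤ → AddSubgroup Z) [Decomposition 𝒵] [SetLike.GradedSMul (stdS k n) 𝒵]
        (p : (Fin (F.rk i) → MvPolynomial (Fin (n + 1)) k) →ₗ[MvPolynomial (Fin (n + 1)) k] Z),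
        IsGrHom (termGr F i) 𝒵 p → Function.Surjective p →
        LinearMap.ker p = LinearMap.range (F.dLin i) →
        ∀ (E : StarInjRes (stdS k n) 𝒵) (j : ℕ) (e : ℤ), j + ℓ < n + 1 + i →
          E.Hcomp (irrS k n) j e = ⊥ := by
  induction m with
  | zero =>
    intro i hi Z _ _ 𝒵 _ _ p _ hsurj _ E j e _
    have hrk : F.rk i = 0 := hlen i (by omega)
    have : Subsingleton Z := subsingleton_of_rk_eq_zero F hrk p hsurj
    exact Hcomp_eq_bot_of_subsingleton E (irrS k n) j e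
  | succ m ih =>
    intro i hi Z _ _ 𝒵 _ _ p hp hsurj hker E j e hje
    by_cases hil : ℓ < i
    · have hrk : F.rk i = 0 := hlen i hil
      have : Subsingleton Z := subsingleton_of_rk_eq_zero F hrk p hsurj
      exact Hcomp_eq_bot_of_subsingleton E (irrS k n) j e
    have hθ : IsGrHomDeg (termGr F (i + 1)) (termGr F i) (F.dLin i) 0 :=
      (isGrHomDeg_zero_iff _ _ _).mpr (dLin_isGrHom F i)
    obtain ⟨Km, Mb, jK, p', θb, hj, hjinj, hjrange, hp', hp'surj, hp'ker, hθb, hθbinj, hθbp⟩ :=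
      exists_coimage (𝒜 := stdS k n) hθ
    have hp'ker' : LinearMap.ker p' = LinearMap.range (F.dLin (i + 1)) := by
      rw [hp'ker, hjrange, F.exact_succ i]
    have h1 : Van (irrS k n) Mb (j + 1) e := fun EZ' =>
      ih (i + 1) (by omega) Mb.carrier Mb.gr p' hp' hp'surj hp'ker' EZ' (j + 1) e (by omega)
    have h2 : Van (irrS k n) (GMod.of (stdS k n) _ (termGr F i)) j e := fun EF =>
      Hcomp_term_eq_bot F i EF j e (fun hjn b => by omega)
    have hex : LinearMap.ker p = LinearMap.range θb := by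
      rw [hker]
      ext v
      constructor
      · rintro ⟨w, rfl⟩
        exact ⟨p' w, hθbp w⟩
      · rintro ⟨y, rfl⟩
        obtain ⟨w, rfl⟩ := hp'surj y
        exact ⟨w, (hθbp w).symm⟩
    have hθb0 : IsGrHom Mb.gr (termGr F i) θb := (isGrHomDeg_zero_iff _ _ _).mp hθb
    exact van_right0 (irrS k n) (X₁ := Mb) (X₂ := GMod.of (stdS k n) _ (termGr F i))
      (X₃ := GMod.of (stdS k n) Z 𝒵) hθb0 hp hθbinj hsurj hex j e h2 h1 E

/-- If the resolution has length `≤ ℓ` then `H^j_𝔪(M) = 0` for `j + ℓ < n + 1`. -/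
theorem Hcomp_eq_bot_of_lt (ℓ : ℕ) (hlen : F.HasLengthLE ℓ)
    (E : StarInjRes (stdS k n) (asGr ℳ)) (j : ℕ) (e : ℤ) (hj : j + ℓ < n + 1) :
    E.Hcomp (irrS k n) j e = ⊥ :=
  vanish_lt_aux F ℓ hlen (ℓ + 1) 0 (by omega) M (asGr ℳ) F.augLin (augLin_isGrHom F)
    F.aug_surjective F.exact_zero E j e (by omega)

section NonVanishing

/-- Splitting off a basis vector whose row in the next differential vanishes. -/
theorem exists_split (i₀ : ℕ) (b₀ : Fin (F.rk i₀)) (hrow : ∀ c, F.d i₀ b₀ c = 0)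
    (Z : Type u) [AddCommGroup Z] [Module (MvPolynomial (Fin (n + 1)) k) Z]
    (𝒵 : ℤ → AddSubgroup Z) [Decomposition 𝒵] [SetLike.GradedSMul (stdS k n) 𝒵]
    (p : (Fin (F.rk i₀) → MvPolynomial (Fin (n + 1)) k) →ₗ[MvPolynomial (Fin (n + 1)) k] Z)
    (hp : IsGrHom (termGr F i₀) 𝒵 p) (hsurj : Function.Surjective p)
    (hker : LinearMap.ker p = LinearMap.range (F.dLin i₀)) :
    ∃ q : Z →ₗ[MvPolynomial (Fin (n + 1)) k] MvPolynomial (Fin (n + 1)) k,
      IsGrHomDeg 𝒵 (stdS k n) q (-(F.deg i₀ b₀)) ∧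
      q ∘ₗ (p ∘ₗ LinearMap.single (MvPolynomial (Fin (n + 1)) k)
        (fun _ => MvPolynomial (Fin (n + 1)) k) b₀) = LinearMap.id := by
  classical
  let qt : (Fin (F.rk i₀) → MvPolynomial (Fin (n + 1)) k) →ₗ[MvPolynomial (Fin (n + 1)) k]
      MvPolynomial (Fin (n + 1)) k := LinearMap.proj b₀
  have hle : LinearMap.ker p ≤ LinearMap.ker qt := by
    rw [hker]
    rintro _ ⟨w, rfl⟩
    rw [LinearMap.mem_ker]
    show (F.dLin i₀ w) b₀ = 0
    rw [Matrix.mulVecLin_apply, Matrix.mulVec, dotProduct]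
    refine Finset.sum_eq_zero fun c _ => ?_
    rw [hrow c, zero_mul]
  obtain ⟨q, hq⟩ := exists_desc p hsurj qt hle
  refine ⟨q, ?_, ?_⟩
  · intro e y hy
    obtain ⟨v, hv, rfl⟩ := exists_homog_preimage hp hsurj hy
    rw [hq, ← sub_eq_add_neg]
    exact hv b₀
  · apply LinearMap.ext
    intro r
    show q (p (Pi.single b₀ r)) = r
    rw [hq]
    show (Pi.single b₀ r : Fin (F.rk i₀) → MvPolynomial (Fin (n + 1)) k) b₀ = r
    rw [Pi.single_eq_same]

/-- The top step: the last differential of a minimal resolution kills a nonzero class of top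
local cohomology. -/
theorem nonvanish_top (hF : F.IsMinimal (GrSyz.irrel (GrSyz.stdGr k (Fin (n + 1)))).toIdeal)
    (ℓ' : ℕ) (hlen : F.rk (ℓ' + 2) = 0) (b₀ : Fin (F.rk (ℓ' + 1)))
    (Z : Type u) [AddCommGroup Z] [Module (MvPolynomial (Fin (n + 1)) k) Z]
    (𝒵 : ℤ → AddSubgroup Z) [Decomposition 𝒵] [SetLike.GradedSMul (stdS k n) 𝒵]
    (p : (Fin (F.rk ℓ') → MvPolynomial (Fin (n + 1)) k) →ₗ[MvPolynomial (Fin (n + 1)) k] Z)
    (hp : IsGrHom (termGr F ℓ') 𝒵 p) (hsurj : Function.Surjective p)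
    (hker : LinearMap.ker p = LinearMap.range (F.dLin ℓ'))
    (E : StarInjRes (stdS k n) 𝒵) :
    E.Hcomp (irrS k n) n (-((n + 1 : ℕ) : ℤ) + F.deg (ℓ' + 1) b₀) ≠ ⊥ := by
  classical
  have hθ : IsGrHomDeg (termGr F (ℓ' + 1)) (termGr F ℓ') (F.dLin ℓ') 0 :=
    (isGrHomDeg_zero_iff _ _ _).mpr (dLin_isGrHom F ℓ')
  obtain ⟨Km, Mb, jK, p', θb, hj, hjinj, hjrange, hp', hp'surj, hp'ker, hθb, hθbinj, hθbp⟩ :=
    exists_coimage (𝒜 := stdS k n) hθ
  have hp'ker' : LinearMap.ker p' = LinearMap.range (F.dLin (ℓ' + 1)) := by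
    rw [hp'ker, hjrange, F.exact_succ ℓ']
  have hex : LinearMap.ker p = LinearMap.range θb := by
    rw [hker]
    ext v
    constructor
    · rintro ⟨w, rfl⟩
      exact ⟨p' w, hθbp w⟩
    · rintro ⟨y, rfl⟩
      obtain ⟨w, rfl⟩ := hp'surj y
      exact ⟨w, (hθbp w).symm⟩
  have hp0 : IsGrHomDeg (termGr F ℓ') 𝒵 p 0 := (isGrHomDeg_zero_iff _ _ _).mpr hp
  -- the splitting of the last term
  have hrow : ∀ c, F.d (ℓ' + 1) b₀ c = 0 := fun c => Fin.elim0 (hlen ▸ c)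
  obtain ⟨q, hqdeg, hqs⟩ := exists_split F (ℓ' + 1) b₀ hrow Mb.carrier Mb.gr p' hp' hp'surj hp'ker'
  set D : ℤ := F.deg (ℓ' + 1) b₀ with hD
  let s : MvPolynomial (Fin (n + 1)) k →ₗ[MvPolynomial (Fin (n + 1)) k] Mb.carrier :=
    p' ∘ₗ LinearMap.single (MvPolynomial (Fin (n + 1)) k)
      (fun _ => MvPolynomial (Fin (n + 1)) k) b₀
  have hsdeg : IsGrHomDeg (stdS k n) Mb.gr s D := by
    intro e r hr
    exact hp' _ _ (single_mem_freeGr (stdS k n) (F.deg (ℓ' + 1)) b₀ hr)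
  -- the factorization of `θb ∘ s`
  let deg' : Fin (F.rk ℓ') → ℤ := fun b => min (F.deg ℓ' b) (D - 1)
  have hd0 : ∀ b, D ≤ F.deg ℓ' b → F.d ℓ' b b₀ = 0 := fun b hb =>
    eq_zero_of_mem_irrel (e := D - F.deg ℓ' b) (by omega) (F.d_mem ℓ' b b₀) (hF ℓ' b b₀)
  let φ : MvPolynomial (Fin (n + 1)) k →ₗ[MvPolynomial (Fin (n + 1)) k]
      (Fin (F.rk ℓ') → MvPolynomial (Fin (n + 1)) k) :=
    LinearMap.pi fun b => LinearMap.toSpanSingleton (MvPolynomial (Fin (n + 1)) k)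
      (MvPolynomial (Fin (n + 1)) k) (F.d ℓ' b b₀)
  let κ : (Fin (F.rk ℓ') → MvPolynomial (Fin (n + 1)) k) →ₗ[MvPolynomial (Fin (n + 1)) k]
      (Fin (F.rk ℓ') → MvPolynomial (Fin (n + 1)) k) :=
    LinearMap.pi fun b => if F.deg ℓ' b < D then LinearMap.proj b else 0
  have hφb : ∀ r b, φ r b = r * F.d ℓ' b b₀ := fun r b => rfl
  have hκb : ∀ v b, κ v b = if F.deg ℓ' b < D then v b else 0 := by
    intro v b
    show (if F.deg ℓ' b < D then LinearMap.proj b else 0 :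
      (Fin (F.rk ℓ') → MvPolynomial (Fin (n + 1)) k) →ₗ[MvPolynomial (Fin (n + 1)) k]
        MvPolynomial (Fin (n + 1)) k) v = _
    split_ifs <;> rfl
  have hφdeg : IsGrHomDeg (stdS k n) (freeGr (stdS k n) deg') φ D := by
    intro e r hr b
    rw [hφb]
    by_cases hb : F.deg ℓ' b < D
    · have h1 := SetLike.GradedMul.mul_mem (A := stdS k n) hr (F.d_mem ℓ' b b₀)
      have h2 : e + (F.deg (ℓ' + 1) b₀ - F.deg ℓ' b) = e + D - deg' b := by
        show _ = e + D - min (F.deg ℓ' b) (D - 1)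
        rw [min_eq_left (by omega)]
        ring
      rw [h2] at h1
      exact h1
    · rw [hd0 b (not_lt.mp hb), mul_zero]
      exact zero_mem _
  have hκdeg : IsGrHomDeg (freeGr (stdS k n) deg') (termGr F ℓ') κ 0 := by
    intro e v hv b
    rw [hκb]
    by_cases hb : F.deg ℓ' b < D
    · rw [if_pos hb]
      have h1 := hv b
      have h2 : e - deg' b = e + 0 - F.deg ℓ' b := by
        show e - min (F.deg ℓ' b) (D - 1) = _
        rw [min_eq_left (by omega)]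
        ring
      rw [h2] at h1
      exact h1
    · rw [if_neg hb]
      exact zero_mem _
  have hψ : θb ∘ₗ s = κ ∘ₗ φ := by
    apply LinearMap.ext
    intro r
    show θb (p' (Pi.single b₀ r)) = κ (φ r)
    rw [hθbp]
    funext b
    rw [hκb, hφb]
    have h1 : (F.dLin ℓ' (Pi.single b₀ r)) b = F.d ℓ' b b₀ * r := by
      rw [Matrix.mulVecLin_apply, Matrix.mulVec, dotProduct]
      rw [Finset.sum_eq_single b₀]
      · rw [Pi.single_eq_same]
      · intro c _ hc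
        rw [Pi.single_eq_of_ne hc, mul_zero]
      · intro h
        exact absurd (Finset.mem_univ b₀) h
    rw [h1]
    by_cases hb : F.deg ℓ' b < D
    · rw [if_pos hb, mul_comm]
    · rw [if_neg hb, hd0 b (not_lt.mp hb), zero_mul]
  -- the cohomological part
  obtain ⟨ES⟩ : Nonempty (StarInjRes (stdS k n) (stdS k n)) := ⟨res (stdS k n)⟩
  have hne := ((conc_poly k n) ES).2
  have hA : Van (irrS k n) (GMod.of (stdS k n) _ (freeGr (stdS k n) deg')) (n + 1)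
      (-((n + 1 : ℕ) : ℤ) + D) := by
    intro EA
    refine Hcomp_free_eq_bot ES (irrS k n) (n + 1) (F.rk ℓ') deg' EA _ (fun b => ?_)
    by_contra hne
    obtain ⟨-, h2⟩ := ((conc_poly k n) ES).1 (n + 1) _ hne
    have h3 : deg' b ≤ D - 1 := min_le_right _ _
    omega
  exact ne_bot_of_factor (irrS k n) (P := GMod.of (stdS k n) _ (stdS k n)) (Mb := Mb)
    (Fm := GMod.of (stdS k n) _ (termGr F ℓ')) (Z := GMod.of (stdS k n) Z 𝒵)
    (A := GMod.of (stdS k n) _ (freeGr (stdS k n) deg')) hsdeg hqdeg hqs hθb hθbinj hp0 hsurj hex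
    hφdeg hκdeg hψ n (-((n + 1 : ℕ) : ℤ)) ES hne hA E

end NonVanishing

section Descent

theorem nonvanish_desc (e₀ : ℤ) (ℓ' : ℕ)
    (top : ∀ (Z : Type u) [AddCommGroup Z] [Module (MvPolynomial (Fin (n + 1)) k) Z]
      (𝒵 : ℤ → AddSubgroup Z) [Decomposition 𝒵] [SetLike.GradedSMul (stdS k n) 𝒵]
      (p : (Fin (F.rk ℓ') → MvPolynomial (Fin (n + 1)) k) →ₗ[MvPolynomial (Fin (n + 1)) k] Z),
      IsGrHom (termGr F ℓ') 𝒵 p → Function.Surjective p →
      LinearMap.ker p = LinearMap.range (F.dLin ℓ') →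
      ∀ (E : StarInjRes (stdS k n) 𝒵), E.Hcomp (irrS k n) n e₀ ≠ ⊥) (m : ℕ) :
    ∀ (i : ℕ), i + m = ℓ' → m ≤ n →
      ∀ (Z : Type u) [AddCommGroup Z] [Module (MvPolynomial (Fin (n + 1)) k) Z]
        (𝒵 : ℤ → AddSubgroup Z) [Decomposition 𝒵] [SetLike.GradedSMul (stdS k n) 𝒵]
        (p : (Fin (F.rk i) → MvPolynomial (Fin (n + 1)) k) →ₗ[MvPolynomial (Fin (n + 1)) k] Z),
        IsGrHom (termGr F i) 𝒵 p → Function.Surjective p →
        LinearMap.ker p = LinearMap.range (F.dLin i) →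
        ∀ (E : StarInjRes (stdS k n) 𝒵), E.Hcomp (irrS k n) (n - m) e₀ ≠ ⊥ := by
  induction m with
  | zero =>
    intro i hi _ Z _ _ 𝒵 _ _ p hp hsurj hker E
    rw [add_zero] at hi
    subst hi
    exact top Z 𝒵 p hp hsurj hker E
  | succ m ih =>
    intro i hi hm Z _ _ 𝒵 _ _ p hp hsurj hker E
    have hθ : IsGrHomDeg (termGr F (i + 1)) (termGr F i) (F.dLin i) 0 :=
      (isGrHomDeg_zero_iff _ _ _).mpr (dLin_isGrHom F i)
    obtain ⟨Km, Mb, jK, p', θb, hj, hjinj, hjrange, hp', hp'surj, hp'ker, hθb, hθbinj, hθbp⟩ :=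
      exists_coimage (𝒜 := stdS k n) hθ
    have hp'ker' : LinearMap.ker p' = LinearMap.range (F.dLin (i + 1)) := by
      rw [hp'ker, hjrange, F.exact_succ i]
    have h1 := ih (i + 1) (by omega) (by omega) Mb.carrier Mb.gr p' hp' hp'surj hp'ker'
      (res Mb.gr)
    have hex : LinearMap.ker p = LinearMap.range θb := by
      rw [hker]
      ext v
      constructor
      · rintro ⟨w, rfl⟩
        exact ⟨p' w, hθbp w⟩
      · rintro ⟨y, rfl⟩
        obtain ⟨w, rfl⟩ := hp'surj y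
        exact ⟨w, (hθbp w).symm⟩
    have hθb0 : IsGrHom Mb.gr (termGr F i) θb := (isGrHomDeg_zero_iff _ _ _).mp hθb
    have hidx : n - m = (n - (m + 1)) + 1 := by omega
    intro hbot
    apply h1
    have h3 : Van (irrS k n) (GMod.of (stdS k n) Z 𝒵) (n - (m + 1)) e₀ :=
      van_of_one (irrS k n) (X := GMod.of (stdS k n) Z 𝒵) E hbot
    have h2 : Van (irrS k n) (GMod.of (stdS k n) _ (termGr F i)) (n - (m + 1) + 1) e₀ := fun EF =>
      Hcomp_term_eq_bot F i EF _ e₀ (fun hjn b => by omega)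
    have h4 := van_left0 (irrS k n) (X₁ := Mb) (X₂ := GMod.of (stdS k n) _ (termGr F i))
      (X₃ := GMod.of (stdS k n) Z 𝒵) hθb0 hp hθbinj hsurj hex (n - (m + 1)) e₀ h3 h2
    rw [hidx]
    exact h4 (res Mb.gr)

/-- If the minimal resolution `F` has length exactly `ℓ` then `H^{n+1-ℓ}_𝔪(M) ≠ 0`. -/
theorem Hcomp_ne_bot_of_length
    (hF : F.IsMinimal (GrSyz.irrel (GrSyz.stdGr k (Fin (n + 1)))).toIdeal) (ℓ : ℕ)
    (hlen : F.HasLengthLE ℓ) (hℓn : ℓ ≤ n + 1) (b₀ : Fin (F.rk ℓ))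
    (E : StarInjRes (stdS k n) (asGr ℳ)) :
    E.Hcomp (irrS k n) (n + 1 - ℓ) (-((n + 1 : ℕ) : ℤ) + F.deg ℓ b₀) ≠ ⊥ := by
  cases ℓ with
  | zero =>
    have hrk : F.rk 1 = 0 := hlen 1 (by omega)
    exact nonvanish_base F hF 0 b₀ (fun c => Fin.elim0 (hrk ▸ c)) M (asGr ℳ) F.augLin
      (augLin_isGrHom F) F.aug_surjective F.exact_zero E
  | succ ℓ' =>
    have hrk : F.rk (ℓ' + 2) = 0 := hlen (ℓ' + 2) (by omega)
    have h1 := nonvanish_desc F (-((n + 1 : ℕ) : ℤ) + F.deg (ℓ' + 1) b₀) ℓ'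
      (fun Z _ _ 𝒵 _ _ p hp hsurj hker E' => nonvanish_top F hF ℓ' hrk b₀ Z 𝒵 p hp hsurj hker E')
      ℓ' 0 (by omega) (by omega) M (asGr ℳ) F.augLin (augLin_isGrHom F) F.aug_surjective
      F.exact_zero E
    have hidx : n + 1 - (ℓ' + 1) = n - ℓ' := by omega
    rw [hidx]
    exact h1

end Descent

end Groth.Agent.Lib.GrLCAB
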