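import Groth.Agent.Lib.H29LocCohReg
import Groth.Agent.Lib.H29Melkersson
import Groth.Agent.Lib.H87GrMod2
import Groth.Agent.S13224
import Groth.Agent.S13229

/-!
# Artinian-ness of graded local cohomology over a positively graded *local ring (helper74)

* `isArtinian_H`: `H^i_m(M)` is Artinian for a maximal ideal `m` of a Noetherian ring, `M` finite
  (non-local version of S0817, via helper29's Melkersson criterion and helper53's LES).
* `isMaximal_of_isStarLocal`: in a positively `ℤ`-graded ring a `*`maximal ideal is maximal.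
* `gradedSMul_Hgr`, `decompositionHgr`: `E.H a i` is a graded module with pieces `E.Hgr a i`.
* `mem_span_deg0`: homogeneous elements of degree `n` in the `R`-span of degree `n` elements lie
  in their `R_0`-span.
* `isArtinian_starH`, `exists_Hcomp_eq_bot`, `isArtinian_Hcomp`.
-/

set_option autoImplicit false
universe u

namespace Groth.Agent.Lib.H74GrArt

open Groth.Agent.Lib.LocCohLES Groth.Agent.Lib.LocCohTorsion Groth.Agent.Lib.LocCohH0
  Groth.Agent.Lib.H29LocCohReg Groth.Agent.Lib.H29TorsionInj Groth.Agent.Lib.H47Reflexive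


section Artinian

variable {A : Type u} [CommRing A] (m : Ideal A) [m.IsMaximal]

/-- A finite module killed by a maximal ideal is Artinian. -/
theorem isArtinian_of_killed (N : Type u) [AddCommGroup N] [Module A N] [Module.Finite A N]
    (h : ∀ a ∈ m, ∀ n : N, a • n = 0) : IsArtinian A N := by
  have hT : Module.IsTorsionBySet A N m := by
    intro n a
    exact h a.1 a.2 n
  letI := hT.module
  haveI : IsScalarTower A (A ⧸ m) N := hT.isScalarTower
  haveI : Module.Finite (A ⧸ m) N := Module.Finite.of_restrictScalars_finite A _ N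
  letI : Field (A ⧸ m) := Ideal.Quotient.field _
  haveI : IsArtinian (A ⧸ m) N := inferInstance
  exact isArtinian_of_surjective_algebraMap (S := A) (R := A ⧸ m) Ideal.Quotient.mk_surjective

variable [IsNoetherianRing A]

/-- A finite `m`-power torsion module is Artinian (`m` maximal). -/
theorem isArtinian_of_fg_torsion (N : Type u) [AddCommGroup N] [Module A N] [Module.Finite A N]
    (hN : LocCoh.IsPowerTorsion m N) : IsArtinian A N := by
  haveI : IsNoetherian A N := isNoetherian_of_isNoetherianRing_of_finite A N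
  haveI : IsArtinian A (Submodule.torsionBySet A N (m : Set A)) := by
    apply isArtinian_of_killed m
    intro a ha n
    apply Subtype.ext
    exact (Submodule.mem_torsionBySet_iff _ _).mp n.2 ⟨a, ha⟩
  exact Groth.Agent.Lib.H29Melkersson.isArtinian_of_torsionBySet_ideal m
    (IsNoetherian.noetherian _) hN

omit [m.IsMaximal] [IsNoetherianRing A] in
/-- If `mM = M` for a finite module `M` then all `H^i_m(M)` vanish. -/
theorem subsingleton_H_of_smul_top_eq_top (M : Type u) [AddCommGroup M] [Module A M]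
    [Module.Finite A M] (h : m • (⊤ : Submodule A M) = ⊤) (i : ℕ) :
    Subsingleton (LocCoh.H m i M) := by
  obtain ⟨r, hr1, hr⟩ := Submodule.exists_sub_one_mem_and_smul_eq_zero_of_fg_of_le_smul m
    (⊤ : Submodule A M) Module.Finite.fg_top (by rw [h])
  refine subsingleton_of_forall_eq 0 fun y => ?_
  have hry : r • y = 0 :=
    smul_eq_zero_of_forall_smul_eq_zero m r (fun x => hr x trivial) i y
  obtain ⟨n, hn⟩ := isPowerTorsion_H m M i y
  have hy : ∀ j : ℕ, (1 - r) ^ j • y = y := by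
    intro j
    induction j with
    | zero => simp
    | succ j ih => rw [pow_succ, mul_smul, sub_smul, one_smul, hry, sub_zero, ih]
  rw [← hy n]
  refine hn _ (Ideal.pow_mem_pow ?_ n)
  have := m.neg_mem hr1
  simpa using this

omit [m.IsMaximal] in
theorem step (k : ℕ)
    (ih : ∀ (M : Type u) [AddCommGroup M] [Module A M] [Module.Finite A M],
      IsArtinian A (LocCoh.H m k M))
    (M : Type u) [AddCommGroup M] [Module A M] [Module.Finite A M]
    (hTF : TF m M) : IsArtinian A (LocCoh.H m (k + 1) M) := by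
  by_cases hIM : m • (⊤ : Submodule A M) = ⊤
  · haveI := subsingleton_H_of_smul_top_eq_top m M hIM (k + 1)
    exact isArtinian_of_finite
  · obtain ⟨x, hxm, hx⟩ := exists_regular_of_tf m M hIM hTF
    haveI := ih (M ⧸ LinearMap.range (mulMap (M := M) x))
    haveI : IsArtinian A (Submodule.torsionBy A (LocCoh.H m (k + 1) M) x) :=
      isArtinian_of_le (torsionBy_le_range_Hδ m hx k)
    exact Groth.Agent.Lib.H29Melkersson.isArtinian_of_torsionBy x
      (exists_pow_smul_eq_zero m M hxm (k + 1))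

/-- `H^i_m(M)` is Artinian for a maximal ideal `m` of a Noetherian ring and a finite module `M`. -/
theorem isArtinian_H (i : ℕ) : ∀ (M : Type u) [AddCommGroup M] [Module A M] [Module.Finite A M],
    IsArtinian A (LocCoh.H m i M) := by
  induction i with
  | zero =>
    intro M _ _ _
    haveI : IsNoetherian A M := isNoetherian_of_isNoetherianRing_of_finite A M
    haveI : IsArtinian A (DRing.torsionSub m M) :=
      isArtinian_of_fg_torsion m _ (isPowerTorsion_torsionSub m M)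
    exact isArtinian_of_linearEquiv (gammaEquiv m M).symm
  | succ k ih =>
    intro M _ _ _
    suffices h : IsArtinian A (LocCoh.H m (k + 1) (M ⧸ DRing.torsionSub m M)) by
      have hb := Hmap_mkQ_torsionSub_bijective m M (k + 1) (Nat.succ_pos k)
      exact isArtinian_of_injective (Hmap m (DRing.torsionSub m M).mkQ (k + 1)) hb.1
    have hTF : TF m (M ⧸ DRing.torsionSub m M) :=
      tf_quotient_torsionSub m M (IsNoetherian.noetherian _)
    exact step m k ih _ hTF

end Artinian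

section StarLocal

open DirectSum

variable {R : Type u} [CommRing R] (𝒜 : ℤ → AddSubgroup R) [GradedRing 𝒜]

/-- The irrelevant ideal `R_+` as a homogeneous ideal. -/
def irr : HomogeneousIdeal 𝒜 :=
  ⟨Ideal.span (⋃ n ∈ Set.Ioi (0 : ℤ), (𝒜 n : Set R)), Ideal.homogeneous_span 𝒜 _ (by
    intro x hx
    obtain ⟨n, -, hxn⟩ := Set.mem_iUnion₂.mp hx
    exact ⟨n, hxn⟩)⟩

theorem decompose_zero_of_mem_irr (hpos : ∀ n : ℤ, n < 0 → 𝒜 n = ⊥) {b : R}
    (hb : b ∈ (irr 𝒜).toIdeal) : (decompose 𝒜 b 0 : R) = 0 := by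
  have h := Groth.Agent.S13229.smul_ge_le 𝒜 𝒜 hpos (irr 𝒜).toIdeal rfl 0
  have htop : (⊤ : Submodule R R) ≤ Groth.Agent.S13229.ge 𝒜 𝒜 hpos 0 := by
    intro x _ n hn
    have h1 := (decompose 𝒜 x n).2
    have h2 : (decompose 𝒜 x n : R) ∈ (⊥ : AddSubgroup R) := by
      rw [← hpos n hn]; exact h1
    exact h2
  have hmem : b ∈ (irr 𝒜).toIdeal • Groth.Agent.S13229.ge 𝒜 𝒜 hpos 0 := by
    have : b = b • (1 : R) := by simp
    rw [this]
    exact Submodule.smul_mem_smul hb (htop Submodule.mem_top)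
  exact h hmem 0 (by norm_num)

theorem sub_decompose_zero_mem_irr (hpos : ∀ n : ℤ, n < 0 → 𝒜 n = ⊥) (x : R) :
    x - (decompose 𝒜 x 0 : R) ∈ (irr 𝒜).toIdeal := by
  induction x using Decomposition.inductionOn 𝒜 with
  | zero => simp
  | @homogeneous i x =>
    rcases lt_trichotomy i 0 with hi | hi | hi
    · have h2 : (x : R) ∈ (⊥ : AddSubgroup R) := by
        rw [← hpos i hi]; exact x.2
      have h3 : (x : R) = 0 := h2
      rw [h3]; simp
    · subst hi
      rw [decompose_of_mem_same 𝒜 x.2, sub_self]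
      exact zero_mem _
    · rw [decompose_of_mem_ne 𝒜 x.2 (ne_of_gt hi), sub_zero]
      exact Ideal.subset_span (Set.mem_iUnion₂.mpr ⟨i, hi, x.2⟩)
  | add x y hx hy =>
    have : x + y - (decompose 𝒜 (x + y) 0 : R) =
        (x - (decompose 𝒜 x 0 : R)) + (y - (decompose 𝒜 y 0 : R)) := by
      rw [decompose_add, DirectSum.add_apply, AddSubgroup.coe_add]; ring
    rw [this]
    exact add_mem hx hy

/-- In a positively graded ring, a `*`maximal ideal is a maximal ideal. -/
theorem isMaximal_of_isStarLocal (hpos : ∀ n : ℤ, n < 0 → 𝒜 n = ⊥) (m : HomogeneousIdeal 𝒜)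
    (hm : GrLC.IsStarLocal 𝒜 m) : m.toIdeal.IsMaximal := by
  classical
  obtain ⟨⟨hne, hco⟩, -⟩ := hm
  have h1 : (1 : R) ∉ m.toIdeal := by
    intro h
    apply hne
    apply HomogeneousIdeal.toIdeal_injective
    rw [HomogeneousIdeal.toIdeal_top]
    exact (Ideal.eq_top_iff_one _).mpr h
  have one_mem_of_eq_top : ∀ (Q : HomogeneousIdeal 𝒜), m ≤ Q → ¬ (Q ≤ m) → Q = ⊤ := by
    intro Q h1 h2
    exact hco Q (lt_of_le_not_ge h1 h2)
  -- `R_+ ≤ m`
  have hirr : irr 𝒜 ≤ m := by
    by_contra hcon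
    have htop := one_mem_of_eq_top (m ⊔ irr 𝒜) le_sup_left (fun h => hcon (le_trans le_sup_right h))
    have h1' : (1 : R) ∈ (m ⊔ irr 𝒜).toIdeal := by
      rw [htop, HomogeneousIdeal.toIdeal_top]; trivial
    rw [HomogeneousIdeal.toIdeal_sup] at h1'
    obtain ⟨a, ha, b, hb, hab⟩ := Submodule.mem_sup.mp h1'
    apply h1
    have h0 : (decompose 𝒜 (1 : R) 0 : R) = 1 :=
      decompose_of_mem_same 𝒜 (SetLike.GradedOne.one_mem)
    rw [← h0, ← hab, decompose_add, DirectSum.add_apply, AddSubgroup.coe_add,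
      decompose_zero_of_mem_irr 𝒜 hpos hb, add_zero]
    exact m.isHomogeneous 0 ha
  rw [Ideal.isMaximal_iff]
  refine ⟨h1, fun J x hmJ hxm hxJ => ?_⟩
  have hx0 := sub_decompose_zero_mem_irr 𝒜 hpos x
  have hx0m : x - (decompose 𝒜 x 0 : R) ∈ m.toIdeal := hirr hx0
  have hx0J : (decompose 𝒜 x 0 : R) ∈ J := by
    have : (decompose 𝒜 x 0 : R) = x - (x - (decompose 𝒜 x 0 : R)) := by ring
    rw [this]
    exact J.sub_mem hxJ (hmJ hx0m)
  have hx0nm : (decompose 𝒜 x 0 : R) ∉ m.toIdeal := by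
    intro h
    apply hxm
    have : x = (decompose 𝒜 x 0 : R) + (x - (decompose 𝒜 x 0 : R)) := by ring
    rw [this]
    exact add_mem h hx0m
  let Q0 : HomogeneousIdeal 𝒜 := ⟨Ideal.span {(decompose 𝒜 x 0 : R)},
    Ideal.homogeneous_span 𝒜 _ (by
      rintro _ rfl
      exact ⟨0, (decompose 𝒜 x 0).2⟩)⟩
  have hQ0 : (decompose 𝒜 x 0 : R) ∈ Q0.toIdeal := Ideal.subset_span rfl
  have htop := one_mem_of_eq_top (m ⊔ Q0) le_sup_left (fun h => hx0nm (h (by
    show (decompose 𝒜 x 0 : R) ∈ (m ⊔ Q0).toIdeal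
    rw [HomogeneousIdeal.toIdeal_sup]
    exact Ideal.mem_sup_right hQ0)))
  have h1' : (1 : R) ∈ (m ⊔ Q0).toIdeal := by
    rw [htop, HomogeneousIdeal.toIdeal_top]; trivial
  rw [HomogeneousIdeal.toIdeal_sup] at h1'
  refine (sup_le hmJ ?_ : m.toIdeal ⊔ Q0.toIdeal ≤ J) h1'
  show Ideal.span {(decompose 𝒜 x 0 : R)} ≤ J
  rw [Ideal.span_le]
  rintro _ rfl
  exact hx0J

end StarLocal

section HGraded

open DirectSum GrLC Groth.Agent.Lib.H87GrMod

variable {ι : Type} [AddCommGroup ι] [DecidableEq ι]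
variable {R : Type u} [CommRing R] (𝒜 : ι → AddSubgroup R) [GradedRing 𝒜]
variable {M : Type u} [AddCommGroup M] [Module R M] (ℳ : ι → AddSubgroup M) [Decomposition ℳ]
  [SetLike.GradedSMul 𝒜 ℳ]

/-- The pieces of graded local cohomology are compatible with the grading of the ring. -/
instance gradedSMul_Hgr (a : HomogeneousIdeal 𝒜) (E : StarInjRes 𝒜 ℳ) (i : ℕ) :
    SetLike.GradedSMul 𝒜 (E.Hgr a i) where
  smul_mem := by
    intro j k r ξ hr hξ
    obtain ⟨z, hz, rfl⟩ := hξ
    refine ⟨r • z, ?_, map_smul _ _ _⟩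
    exact SetLike.GradedSMul.smul_mem (A := 𝒜) (B := (E.X i).gr) hr hz

/-- A (noncomputable) decomposition of graded local cohomology into its pieces. -/
@[instance_reducible]
noncomputable def decompositionHgr (a : HomogeneousIdeal 𝒜) (E : StarInjRes 𝒜 ℳ) (i : ℕ) :
    Decomposition (E.Hgr a i) :=
  (Groth.Agent.Lib.H87GrMod2.starInjRes_Hgr_isInternal 𝒜 ℳ a E i).chooseDecomposition

/-- A homogeneous element of degree `n` in the `R`-span of homogeneous elements of degree `n` lies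
in their `R_0`-span. -/
theorem mem_span_deg0 {n : ι} (S : Set M) (hS : ∀ s ∈ S, s ∈ ℳ n) {ξ : M} (hξ : ξ ∈ ℳ n)
    (hspan : ξ ∈ Submodule.span R S) : ξ ∈ Submodule.span (deg0 𝒜) S := by
  classical
  obtain ⟨f, t, ht, -, hsum⟩ := Submodule.mem_span_iff_exists_finset_subset.mp hspan
  have key : ξ = ∑ s ∈ t, (decompose 𝒜 (f s) 0 : R) • s := by
    calc ξ = (decompose ℳ ξ n : M) := (decompose_of_mem_same ℳ hξ).symm
      _ = (decompose ℳ (∑ s ∈ t, f s • s) n : M) := by rw [hsum]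
      _ = ∑ s ∈ t, (decompose ℳ (f s • s) n : M) := by
          rw [decompose_sum, DFinsupp.finsetSum_apply, AddSubmonoidClass.coe_finsetSum]
      _ = ∑ s ∈ t, (decompose 𝒜 (f s) 0 : R) • s := by
          refine Finset.sum_congr rfl fun s hs => ?_
          have h := decompose_smul_of_mem_right ℳ 𝒜 (hS s (ht hs)) (f s) 0
          rwa [zero_add] at h
  rw [key]
  refine Submodule.sum_mem _ fun s hs => ?_
  have : (decompose 𝒜 (f s) 0 : R) • s =
      (⟨(decompose 𝒜 (f s) 0 : R), (decompose 𝒜 (f s) 0).2⟩ : deg0 𝒜) • s := rfl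
  rw [this]
  exact Submodule.smul_mem _ _ (Submodule.subset_span (ht hs))

end HGraded

section Main

open DirectSum GrLC Groth.Agent.S13229

variable {R : Type u} [CommRing R] [IsNoetherianRing R] (𝒜 : ℤ → AddSubgroup R) [GradedRing 𝒜]
variable {M : Type u} [AddCommGroup M] [Module R M] [Module.Finite R M] (ℳ : ℤ → AddSubgroup M)
  [Decomposition ℳ] [SetLike.GradedSMul 𝒜 ℳ]

/-- `*H^i_m(M)` is an Artinian `R`-module for `(R, m)` positively graded `*`local, `M` finite. -/
theorem isArtinian_starH (hpos : ∀ n : ℤ, n < 0 → 𝒜 n = ⊥) (m : HomogeneousIdeal 𝒜)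
    (hm : IsStarLocal 𝒜 m) (E : StarInjRes 𝒜 ℳ) (i : ℕ) : IsArtinian R (E.H m i) := by
  haveI := isMaximal_of_isStarLocal 𝒜 hpos m hm
  obtain ⟨e⟩ := Groth.Agent.S13224.main m E i
  haveI : IsArtinian R (LocCoh.H m.toIdeal i M) := isArtinian_H m.toIdeal i M
  exact isArtinian_of_linearEquiv e.symm

/-- The pieces vanish in large degrees. -/
theorem exists_Hcomp_eq_bot (hpos : ∀ n : ℤ, n < 0 → 𝒜 n = ⊥) (m : HomogeneousIdeal 𝒜)
    (hm : IsStarLocal 𝒜 m) (E : StarInjRes 𝒜 ℳ) (i : ℕ) :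
    ∃ N : ℤ, ∀ n : ℤ, N ≤ n → E.Hcomp m i n = ⊥ := by
  haveI := isArtinian_starH 𝒜 ℳ hpos m hm E i
  letI := decompositionHgr 𝒜 ℳ m E i
  let f : ℕ →o (Submodule R (E.H m i))ᵒᵈ :=
    ⟨fun k => OrderDual.toDual (ge 𝒜 (E.Hgr m i) hpos (k : ℤ)), fun k l hkl =>
      ge_anti (𝒜 := 𝒜) (ℳ := E.Hgr m i) (hpos := hpos) (by exact_mod_cast hkl)⟩
  obtain ⟨n₁, hn₁⟩ := IsArtinian.monotone_stabilizes f
  refine ⟨n₁, fun n hn => ?_⟩
  rw [eq_bot_iff]
  intro ξ hξ
  have hξ' : ξ ∈ E.Hgr m i n := hξ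
  rw [Submodule.mem_bot]
  have e1 : ge 𝒜 (E.Hgr m i) hpos ((n.toNat : ℕ) : ℤ) =
      ge 𝒜 (E.Hgr m i) hpos (((n.toNat + 1 : ℕ)) : ℤ) := by
    have h1 : f n₁ = f n.toNat := hn₁ n.toNat (by omega)
    have h2 : f n₁ = f (n.toNat + 1) := hn₁ (n.toNat + 1) (by omega)
    exact congrArg OrderDual.ofDual (h1.symm.trans h2)
  have hmem : ξ ∈ ge 𝒜 (E.Hgr m i) hpos (((n.toNat + 1 : ℕ)) : ℤ) := by
    rw [← e1]
    exact mem_ge_of_mem (by omega) hξ'
  have h0 := hmem n (by push_cast; omega)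
  rw [decompose_of_mem_same _ hξ'] at h0
  exact h0

/-- The pieces are Artinian over `R_0`. -/
theorem isArtinian_Hcomp (hpos : ∀ n : ℤ, n < 0 → 𝒜 n = ⊥) (m : HomogeneousIdeal 𝒜)
    (hm : IsStarLocal 𝒜 m) (E : StarInjRes 𝒜 ℳ) (i : ℕ) (n : ℤ) :
    IsArtinian (deg0 𝒜) (E.Hcomp m i n) := by
  haveI := isArtinian_starH 𝒜 ℳ hpos m hm E i
  letI := decompositionHgr 𝒜 ℳ m E i
  let Φ : Submodule (deg0 𝒜) (E.Hcomp m i n) → Submodule R (E.H m i) := fun P =>
    Submodule.span R ((P.map (E.Hcomp m i n).subtype : Submodule (deg0 𝒜) (E.H m i)) : Set (E.H m i))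
  have hΦ : ∀ P P', Φ P ≤ Φ P' ↔ P ≤ P' := by
    intro P P'
    constructor
    · intro h p hp
      have h1 : (p : E.H m i) ∈ Φ P :=
        Submodule.subset_span ⟨p, hp, rfl⟩
      have h2 : (p : E.H m i) ∈ Φ P' := h h1
      have hS : ∀ s ∈ ((P'.map (E.Hcomp m i n).subtype : Submodule (deg0 𝒜) (E.H m i)) :
          Set (E.H m i)), s ∈ E.Hgr m i n := by
        rintro _ ⟨q, -, rfl⟩
        exact q.2
      have h3 := mem_span_deg0 𝒜 (E.Hgr m i) _ hS (show (p : E.H m i) ∈ E.Hgr m i n from p.2) h2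
      rw [Submodule.span_eq] at h3
      obtain ⟨q, hq, hqp⟩ := h3
      have : q = p := Subtype.ext hqp
      rw [← this]
      exact hq
    · intro h
      exact Submodule.span_mono (Submodule.map_mono h)
  exact (OrderEmbedding.ofMapLEIff Φ hΦ).wellFoundedLT

end Main

end Groth.Agent.Lib.H74GrArt
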