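import Mathlib
import Groth.Agent.Lib.GrLCAB
import Groth.Agent.Lib.GrSyzygy
import Groth.Agent.Lib.H74GrArt
import Groth.Agent.S13224
import Groth.Agent.S0318

/-!
# The graded Auslander–Buchsbaum formula over a polynomial ring (helper12)

`k` a field, `S = k[x_0..x_n]`, `𝔪` the irrelevant ideal, `M` a finitely generated graded `S`-module,
`F` a minimal graded free resolution of length exactly `ℓ`.  Then `ℓ + depth(𝔪, M) = n + 1`.

Ingredients: `GrLCAB` (vanishing/non-vanishing of graded local cohomology from the resolution),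
helper74's comparison of graded and ungraded local cohomology (S13224), helper29's
characterization of depth by local cohomology (S0318).
-/

set_option autoImplicit false
set_option linter.unusedSectionVars false
universe u

open DirectSum MvPolynomial

namespace Groth.Agent.Lib.GrLCAB

open GrLC Groth.Agent.Lib.H87GrMod2 Groth.Agent.Lib.GrLCMap Groth.Agent.Lib.GrLCBridge
  Groth.Agent.Lib.GrLCPoly Groth.Agent.S13215

section Generic

variable {ι : Type} [AddCommGroup ι] [DecidableEq ι]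
variable {R : Type u} [CommRing R] {𝒜 : ι → AddSubgroup R} [GradedRing 𝒜]
variable {M : Type u} [AddCommGroup M] [Module R M] {ℳ : ι → AddSubgroup M}
  [Decomposition ℳ] [SetLike.GradedSMul 𝒜 ℳ]

theorem subsingleton_H_of_forall_Hcomp (E : StarInjRes 𝒜 ℳ) (a : HomogeneousIdeal 𝒜) (i : ℕ)
    (h : ∀ e, E.Hcomp a i e = ⊥) : Subsingleton (E.H a i) := by
  classical
  let _ := (starInjRes_Hgr_isInternal 𝒜 ℳ a E i).chooseDecomposition
  refine subsingleton_of_forall_eq 0 fun x => ?_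
  rw [← sum_support_decompose (E.Hgr a i) x]
  refine Finset.sum_eq_zero fun e _ => ?_
  have h1 : (decompose (E.Hgr a i) x e : E.H a i) ∈ E.Hcomp a i e := (decompose (E.Hgr a i) x e).2
  have h2 := h e
  rw [Hcomp_eq_bot_iff_forall_mem] at h2
  exact h2 _ h1

theorem nontrivial_H_of_Hcomp_ne_bot (E : StarInjRes 𝒜 ℳ) (a : HomogeneousIdeal 𝒜) (i : ℕ) (e : ι)
    (h : E.Hcomp a i e ≠ ⊥) : Nontrivial (E.H a i) := by
  rw [Ne, Hcomp_eq_bot_iff_forall_mem] at h
  push Not at h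
  obtain ⟨x, _, hx⟩ := h
  exact ⟨⟨x, 0, hx⟩⟩

end Generic

variable {k : Type u} [Field k] {n : ℕ}
  {M : Type u} [AddCommGroup M] [Module k M] [Module (MvPolynomial (Fin (n + 1)) k) M]
  [IsScalarTower k (MvPolynomial (Fin (n + 1)) k) M]
  [Module.Finite (MvPolynomial (Fin (n + 1)) k) M]
  {ℳ : ℤ → Submodule k M} [DirectSum.Decomposition ℳ]
  [SetLike.GradedSMul (GrSyz.stdGr k (Fin (n + 1))) ℳ]

/-- The graded Auslander–Buchsbaum formula. -/
theorem length_add_idealDepth (F : GrSyz.FreeRes (GrSyz.stdGr k (Fin (n + 1))) ℳ)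
    (hF : F.IsMinimal (GrSyz.irrel (GrSyz.stdGr k (Fin (n + 1)))).toIdeal)
    (ℓ : ℕ) (hℓ : F.HasLengthLE ℓ) (hℓ' : F.rk ℓ ≠ 0) :
    (ℓ : ℕ∞) + LocCoh.idealDepth (GrSyz.irrel (GrSyz.stdGr k (Fin (n + 1)))).toIdeal M =
      ((n + 1 : ℕ) : ℕ∞) := by
  have hlen' : F.HasLengthLE (n + 1) :=
    Groth.Agent.Lib.GrSyzygy.hasLengthLE_of_isMinimal k n M ℳ F hF
  have hℓn : ℓ ≤ n + 1 := by
    by_contra hcon
    exact hℓ' (hlen' ℓ (by omega))
  let b₀ : Fin (F.rk ℓ) := ⟨0, Nat.pos_of_ne_zero hℓ'⟩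
  obtain ⟨E⟩ : Nonempty (StarInjRes (stdS k n) (asGr ℳ)) := ⟨res (asGr ℳ)⟩
  have hV : ∀ j : ℕ, j < n + 1 - ℓ → Subsingleton (E.H (irrS k n) j) := fun j hj =>
    subsingleton_H_of_forall_Hcomp E (irrS k n) j fun e =>
      Hcomp_eq_bot_of_lt F ℓ hℓ E j e (by omega)
  have hNV : Nontrivial (E.H (irrS k n) (n + 1 - ℓ)) :=
    nontrivial_H_of_Hcomp_ne_bot E (irrS k n) _ _ (Hcomp_ne_bot_of_length F hF ℓ hℓ hℓn b₀ E)
  have hcmp : ∀ i : ℕ, Nonempty (E.H (irrS k n) i ≃ₗ[MvPolynomial (Fin (n + 1)) k]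
      LocCoh.H (GrSyz.irrel (GrSyz.stdGr k (Fin (n + 1)))).toIdeal i M) := fun i =>
    Groth.Agent.S13224.result (MvPolynomial (Fin (n + 1)) k) (stdS k n) (irrS k n) M (asGr ℳ) E i
  have hV' : ∀ j : ℕ, j < n + 1 - ℓ →
      Subsingleton (LocCoh.H (GrSyz.irrel (GrSyz.stdGr k (Fin (n + 1)))).toIdeal j M) := by
    intro j hj
    obtain ⟨eq⟩ := hcmp j
    haveI := hV j hj
    exact eq.symm.toEquiv.subsingleton
  have hNV' : Nontrivial
      (LocCoh.H (GrSyz.irrel (GrSyz.stdGr k (Fin (n + 1)))).toIdeal (n + 1 - ℓ) M) := by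
    obtain ⟨eq⟩ := hcmp (n + 1 - ℓ)
    haveI := hNV
    exact eq.symm.toEquiv.nontrivial
  have hIM : (GrSyz.irrel (GrSyz.stdGr k (Fin (n + 1)))).toIdeal •
      (⊤ : Submodule (MvPolynomial (Fin (n + 1)) k) M) ≠ ⊤ := by
    intro h
    have := Groth.Agent.Lib.H74GrArt.subsingleton_H_of_smul_top_eq_top
      (GrSyz.irrel (GrSyz.stdGr k (Fin (n + 1)))).toIdeal M h (n + 1 - ℓ)
    exact not_subsingleton _ this
  have hdepth := (Groth.Agent.S0318.result (MvPolynomial (Fin (n + 1)) k)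
    (GrSyz.irrel (GrSyz.stdGr k (Fin (n + 1)))).toIdeal M hIM (n + 1 - ℓ)).mpr ⟨hV', hNV'⟩
  rw [hdepth, ← Nat.cast_add]
  congr 1
  omega

end Groth.Agent.Lib.GrLCAB
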