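import Groth.Agent.Lib.H74GrSerre3

set_option autoImplicit false
set_option linter.unusedSectionVars false
set_option linter.style.haveILetI false
universe u

namespace Groth.Agent.Lib.H74GrSerre

open DirectSum GrLC Groth.Agent.Lib.H87GrMod Groth.Agent.Lib.H87GrMod2 Groth.Agent.Lib.H87GrShift
  Groth.Agent.S18662 Groth.Agent.S18661 Groth.Agent.Lib.H74GrLES Groth.Agent.Lib.H74GrArt
  Groth.Agent.Lib.H74GrVan Groth.Agent.S13215

open Groth.Agent.Lib.H74GrFin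
open scoped Pointwise

section Main

variable {R : Type u} [CommRing R] [IsNoetherianRing R] (𝒜 : ℤ → AddSubgroup R) [GradedRing 𝒜]
variable (hpos : ∀ n : ℤ, n < 0 → 𝒜 n = ⊥) (a : HomogeneousIdeal 𝒜)
  (ha : a.toIdeal = Ideal.span (⋃ n ∈ Set.Ioi (0 : ℤ), (𝒜 n : Set R)))
variable [IsArtinianRing (deg0 𝒜)]

/-- The Hilbert function. -/
noncomputable def hilb {M : Type u} [AddCommGroup M] [Module R M] (ℳ : ℤ → AddSubgroup M)
    [SetLike.GradedSMul 𝒜 ℳ] (n : ℤ) : ℚ :=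
  ((Module.length (deg0 𝒜) (comp 𝒜 ℳ n)).toNat : ℚ)

/-- The alternating sum of the lengths of the pieces of graded local cohomology. -/
noncomputable def chi {M : Type u} [AddCommGroup M] [Module R M] {ℳ : ℤ → AddSubgroup M}
    [Decomposition ℳ] [SetLike.GradedSMul 𝒜 ℳ] (E : StarInjRes 𝒜 ℳ) (D : ℕ) (n : ℤ) : ℚ :=
  ∑ i ∈ Finset.range D, (-1 : ℚ) ^ i * ((Module.length (deg0 𝒜) (E.Hcomp a i n)).toNat : ℚ)

theorem length_ne_top_of_finite (X : Type u) [AddCommGroup X] [Module (deg0 𝒜) X]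
    [Module.Finite (deg0 𝒜) X] : Module.length (deg0 𝒜) X ≠ ⊤ := by
  haveI : IsNoetherianRing (deg0 𝒜) := inferInstance
  haveI : IsNoetherian (deg0 𝒜) X := isNoetherian_of_isNoetherianRing_of_finite _ _
  haveI : IsArtinian (deg0 𝒜) X := inferInstance
  exact Module.length_ne_top

theorem length_comp_ne_top {M : Type u} [AddCommGroup M] [Module R M] [Module.Finite R M]
    (ℳ : ℤ → AddSubgroup M) [Decomposition ℳ] [SetLike.GradedSMul 𝒜 ℳ] (n : ℤ) :
    Module.length (deg0 𝒜) (comp 𝒜 ℳ n) ≠ ⊤ := by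
  haveI : IsNoetherian R M := isNoetherian_of_isNoetherianRing_of_finite R M
  haveI := isNoetherian_comp 𝒜 ℳ n
  haveI : Module.Finite (deg0 𝒜) (comp 𝒜 ℳ n) := Module.IsNoetherian.finite _ _
  exact length_ne_top_of_finite 𝒜 _

include hpos ha in
theorem length_Hcomp_ne_top {M : Type u} [AddCommGroup M] [Module R M] [Module.Finite R M]
    (ℳ : ℤ → AddSubgroup M) [Decomposition ℳ] [SetLike.GradedSMul 𝒜 ℳ] (E : StarInjRes 𝒜 ℳ)
    (i : ℕ) (n : ℤ) : Module.length (deg0 𝒜) (E.Hcomp a i n) ≠ ⊤ := by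
  haveI : Module.Finite (deg0 𝒜) (E.Hcomp a i n) := pFin 𝒜 hpos a ha i M ℳ E n
  exact length_ne_top_of_finite 𝒜 _

/-- vanishing above the dimension of the support. -/
theorem subsingleton_H_of_supportDim_lt {M : Type u} [AddCommGroup M] [Module R M]
    (ℳ : ℤ → AddSubgroup M) [Decomposition ℳ] [SetLike.GradedSMul 𝒜 ℳ] (E : StarInjRes 𝒜 ℳ)
    (i : ℕ) (h : Module.supportDim R M < i) : Subsingleton (E.H a i) := by
  haveI := Groth.Agent.Lib.LocCohVanishing.subsingleton_H_of_supportDim_lt a.toIdeal M i h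
  obtain ⟨e⟩ := Groth.Agent.S13224.main a E i
  exact e.injective.subsingleton

theorem length_eq_zero_of_subsingleton {X : Type u} [AddCommGroup X] [Module R X]
    [Subsingleton X] (S : Submodule (deg0 𝒜) X) : Module.length (deg0 𝒜) S = 0 := by
  rw [Module.length_eq_zero_iff]
  exact ⟨fun x y => Subtype.ext (Subsingleton.elim _ _)⟩


/-- The statement of Serre's formula for one graded module with one resolution. -/
def SerreAt (d : ℕ) {M : Type u} [AddCommGroup M] [Module R M] (ℳ : ℤ → AddSubgroup M)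
    [Decomposition ℳ] [SetLike.GradedSMul 𝒜 ℳ] (E : StarInjRes 𝒜 ℳ) (P : Polynomial ℚ) : Prop :=
  ∀ n : ℤ, hilb 𝒜 ℳ n - P.eval (n : ℚ) = chi 𝒜 a E (d + 1) n

include hpos ha in
/-- Reduction to the torsion-free quotient. -/
theorem serre_reduction (d : ℕ) {M : Type u} [AddCommGroup M] [Module R M] [Module.Finite R M]
    (ℳ : ℤ → AddSubgroup M) [Decomposition ℳ] [SetLike.GradedSMul 𝒜 ℳ] (E : StarInjRes 𝒜 ℳ)
    (P : Polynomial ℚ) (hP : ∃ N₀ : ℤ, ∀ n : ℤ, N₀ ≤ n → P.eval (n : ℚ) = hilb 𝒜 ℳ n)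
    {M' : Type u} [AddCommGroup M'] [Module R M'] [Module.Finite R M']
    (ℳ' : ℤ → AddSubgroup M') [Decomposition ℳ'] [SetLike.GradedSMul 𝒜 ℳ']
    {q : M →ₗ[R] M'} (hq : IsGrHom ℳ ℳ' q)
    (hqs : Function.Surjective q) (hqker : LinearMap.ker q = gam a.toIdeal M)
    (E' : StarInjRes 𝒜 ℳ')
    (h : (∃ N₀ : ℤ, ∀ n : ℤ, N₀ ≤ n → P.eval (n : ℚ) = hilb 𝒜 ℳ' n) → SerreAt 𝒜 a d ℳ' E' P) :
    SerreAt 𝒜 a d ℳ E P := by
  have hΓhom : (gam a.toIdeal M).IsHomogeneous ℳ := isHomogeneous_gam 𝒜 ℳ a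
  have hA : ∀ n, hilb 𝒜 ℳ n =
      ((Module.length (deg0 𝒜) (gamComp 𝒜 ℳ a.toIdeal n)).toNat : ℚ) + hilb 𝒜 ℳ' n := fun n =>
    toNat_add' (length_comp_quot a hq hqs hqker n) (length_comp_ne_top 𝒜 ℳ n)
  have hB : ∀ n, chi 𝒜 a E (d + 1) n =
      ((Module.length (deg0 𝒜) (gamComp 𝒜 ℳ a.toIdeal n)).toNat : ℚ) +
        chi 𝒜 a E' (d + 1) n := by
    intro n
    unfold chi
    rw [Finset.sum_range_succ', Finset.sum_range_succ', length_Hcomp_zero E a n,
      length_Hcomp_zero_quot a hqs hqker E' n]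
    have : ∀ i, Module.length (deg0 𝒜) (E.Hcomp a (i + 1) n) =
        Module.length (deg0 𝒜) (E'.Hcomp a (i + 1) n) := fun i =>
      length_Hcomp_succ_quot a hq hqs hqker E E' i n
    simp only [this]
    simp
    ring
  obtain ⟨n₁, hn₁⟩ := exists_gamComp_eq_bot 𝒜 hpos a.toIdeal ha ℳ hΓhom
  obtain ⟨N₀, hN₀⟩ := hP
  have hP' : ∃ N₀ : ℤ, ∀ n : ℤ, N₀ ≤ n → P.eval (n : ℚ) = hilb 𝒜 ℳ' n := by
    refine ⟨max N₀ n₁, fun n hn => ?_⟩
    rw [hN₀ n (le_trans (le_max_left _ _) hn), hA n, hn₁ n (le_trans (le_max_right _ _) hn)]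
    simp
  intro n
  rw [hA n, hB n, add_sub_assoc, h hP' n]


theorem chi_eq_zero_of_bot {M : Type u} [AddCommGroup M] [Module R M] {ℳ : ℤ → AddSubgroup M}
    [Decomposition ℳ] [SetLike.GradedSMul 𝒜 ℳ] (E : StarInjRes 𝒜 ℳ) (D : ℕ) (n : ℤ)
    (h : ∀ i, E.Hcomp a i n = ⊥) : chi 𝒜 a E D n = 0 := by
  unfold chi
  refine Finset.sum_eq_zero fun i _ => ?_
  rw [h i]
  simp

include hpos ha in
/-- The torsion-free step of Serre's formula. -/
theorem serre_tf (d : ℕ) (hd : ringKrullDim R ≤ d) (k : ℕ)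
    (IH : ∀ (N : Type u) [AddCommGroup N] [Module R N] [Module.Finite R N]
      (𝒩 : ℤ → AddSubgroup N) [Decomposition 𝒩] [SetLike.GradedSMul 𝒜 𝒩],
      Module.supportDim R N < k → ∀ (F : StarInjRes 𝒜 𝒩) (Q : Polynomial ℚ),
      (∃ N₀ : ℤ, ∀ n : ℤ, N₀ ≤ n → Q.eval (n : ℚ) = hilb 𝒜 𝒩 n) → SerreAt 𝒜 a d 𝒩 F Q)
    {M : Type u} [AddCommGroup M] [Module R M] [Module.Finite R M]
    (ℳ : ℤ → AddSubgroup M) [Decomposition ℳ] [SetLike.GradedSMul 𝒜 ℳ]
    (hdim : Module.supportDim R M < (k + 1 : ℕ)) (hΓ : gam a.toIdeal M = ⊥)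
    (E : StarInjRes 𝒜 ℳ) (P : Polynomial ℚ)
    (hP : ∃ N₀ : ℤ, ∀ n : ℤ, N₀ ≤ n → P.eval (n : ℚ) = hilb 𝒜 ℳ n) :
    SerreAt 𝒜 a d ℳ E P := by
  obtain ⟨x, e, he, hxe, hxa, hreg⟩ := exists_homogeneous_regular 𝒜 (M := M) a.toIdeal ha hΓ
  have hxdeg : IsGrHomDeg ℳ ℳ (x • (LinearMap.id : M →ₗ[R] M)) (e : ℤ) := fun g m hm => by
    have := SetLike.GradedSMul.smul_mem (A := 𝒜) (B := ℳ) hxe hm
    rw [vadd_eq_add, add_comm] at this
    exact this
  have hB : (LinearMap.range (x • (LinearMap.id : M →ₗ[R] M))).IsHomogeneous ℳ :=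
    isHomogeneous_range_deg ℳ ℳ hxdeg
  have hπgr := quotMap_isGrHom 𝒜 ℳ _ hB
  have hπs := quotMap_surjective 𝒜 ℳ _ hB
  have hker : LinearMap.ker (quotMap 𝒜 ℳ _ hB) =
      LinearMap.range (x • (LinearMap.id : M →ₗ[R] M)) := by
    ext m
    exact quotMap_eq_zero_iff 𝒜 ℳ _ hB m
  haveI : Module.Finite R (quotGMod 𝒜 ℳ _ hB).carrier :=
    Module.Finite.of_surjective (quotMap 𝒜 ℳ _ hB) hπs
  -- dimension drops
  have hdimN : Module.supportDim R (quotGMod 𝒜 ℳ _ hB).carrier < k := by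
    have h1 : Module.supportDim R (QuotSMulTop x M) + 1 ≤ Module.supportDim R M :=
      Module.supportDim_quotSMulTop_succ_le_of_notMem_minimalPrimes
        (fun _ => hreg.notMem_of_mem_minimalPrimes)
    have hsub : x • (⊤ : Submodule R M) = LinearMap.range (x • (LinearMap.id : M →ₗ[R] M)) := by
      ext m
      constructor
      · intro hm
        obtain ⟨w, -, rfl⟩ := (Submodule.mem_smul_pointwise_iff_exists _ _ _).mp hm
        exact ⟨w, rfl⟩
      · rintro ⟨w, rfl⟩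
        exact Submodule.smul_mem_pointwise_smul w x ⊤ Submodule.mem_top
    let eq1 : (QuotSMulTop x M) ≃ₗ[R] (quotGMod 𝒜 ℳ _ hB).carrier :=
      LinearEquiv.ofBijective
        (Submodule.liftQ _ (quotMap 𝒜 ℳ _ hB) (by rw [hker, hsub]))
        ⟨by
          rw [← LinearMap.ker_eq_bot, Submodule.ker_liftQ, hker, hsub]
          exact Submodule.mkQ_map_self _,
         by
          intro y
          obtain ⟨m, rfl⟩ := hπs y
          exact ⟨Submodule.Quotient.mk m, rfl⟩⟩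
    rw [← Module.supportDim_eq_of_equiv eq1]
    have h2 : Module.supportDim R (QuotSMulTop x M) + 1 < ((k : ℕ) : WithBot ℕ∞) + 1 := by
      refine lt_of_le_of_lt h1 ?_
      have : ((k + 1 : ℕ) : WithBot ℕ∞) = (k : WithBot ℕ∞) + 1 := by norm_cast
      rw [← this]
      exact hdim
    by_contra hcon
    rw [not_lt] at hcon
    exact absurd (add_le_add_left hcon 1) (not_le.mpr h2)
  -- the polynomial of the quotient
  obtain ⟨N₀, hN₀⟩ := hP
  have hH : ∀ n, hilb 𝒜 ℳ n = hilb 𝒜 ℳ (n - e) + hilb 𝒜 (quotGMod 𝒜 ℳ _ hB).gr n := fun n =>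
    toNat_add' (hilb_count hxe hreg hπgr hπs hker n) (length_comp_ne_top 𝒜 ℳ n)
  let Q : Polynomial ℚ := P - P.comp (Polynomial.X - Polynomial.C (e : ℚ))
  have hQeval : ∀ n : ℤ, Q.eval (n : ℚ) = P.eval (n : ℚ) - P.eval (((n - e : ℤ)) : ℚ) := by
    intro n
    simp only [Q, Polynomial.eval_sub, Polynomial.eval_comp, Polynomial.eval_X,
      Polynomial.eval_C]
    push_cast
    ring
  have hQ : ∃ N₁ : ℤ, ∀ n : ℤ, N₁ ≤ n →
      Q.eval (n : ℚ) = hilb 𝒜 (quotGMod 𝒜 ℳ _ hB).gr n := by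
    refine ⟨N₀ + e, fun n hn => ?_⟩
    rw [hQeval, hN₀ n (by omega), hN₀ (n - e) (by omega), hH n]
    ring
  have IHN := IH (quotGMod 𝒜 ℳ _ hB).carrier (quotGMod 𝒜 ℳ _ hB).gr hdimN
    (res (quotGMod 𝒜 ℳ _ hB).gr) Q hQ
  -- the count of the long exact sequence
  have hκ0 : ∀ m, Module.length (deg0 𝒜) (kap E a x 0 m) = 0 := by
    intro m
    have h1 : Module.length (deg0 𝒜) (E.Hcomp a 0 m) = 0 := by
      rw [length_Hcomp_zero E a m, Module.length_eq_zero_iff]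
      refine ⟨fun y z => Subtype.ext ?_⟩
      have hy : y.1 ∈ gam a.toIdeal M := y.2.2
      have hz : z.1 ∈ gam a.toIdeal M := z.2.2
      rw [hΓ] at hy hz
      rw [(Submodule.mem_bot R).mp hy, (Submodule.mem_bot R).mp hz]
    have h2 := Module.length_le_of_injective
      (Submodule.inclusion (inf_le_left : kap E a x 0 m ≤ E.Hcomp a 0 m))
      (Submodule.inclusion_injective _)
    rw [h1] at h2
    exact nonpos_iff_eq_zero.mp h2
  have hκD : ∀ m, Module.length (deg0 𝒜) (kap E a x (d + 1) m) = 0 := by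
    intro m
    haveI : Subsingleton (E.H a (d + 1)) := by
      apply subsingleton_H_of_supportDim_lt 𝒜 a ℳ E (d + 1)
      refine lt_of_le_of_lt (Module.supportDim_le_ringKrullDim R M) (lt_of_le_of_lt hd ?_)
      norm_cast
      exact Nat.lt_succ_self d
    exact length_eq_zero_of_subsingleton 𝒜 _
  have hC : ∀ n, chi 𝒜 a E (d + 1) (n - e) +
      chi 𝒜 a (res (quotGMod 𝒜 ℳ _ hB).gr) (d + 1) n = chi 𝒜 a E (d + 1) n := by
    intro n
    have hcount : ∀ i, ((Module.length (deg0 𝒜) (E.Hcomp a i (n - e))).toNat : ℚ) +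
        ((Module.length (deg0 𝒜) ((res (quotGMod 𝒜 ℳ _ hB).gr).Hcomp a i n)).toNat : ℚ) =
        ((Module.length (deg0 𝒜) (E.Hcomp a i n)).toNat : ℚ) +
          ((Module.length (deg0 𝒜) (kap E a x i (n - e))).toNat : ℚ) +
          ((Module.length (deg0 𝒜) (kap E a x (i + 1) (n - e))).toNat : ℚ) := fun i =>
      toNat_count (les_count E (res (quotGMod 𝒜 ℳ _ hB).gr) hxe hreg hπgr hπs hker a i n)
        (length_Hcomp_ne_top 𝒜 hpos a ha ℳ E i (n - e))
        (length_Hcomp_ne_top 𝒜 hpos a ha (quotGMod 𝒜 ℳ _ hB).gr _ i n)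
    have htel := alt_sum_telescope
      (fun i => ((Module.length (deg0 𝒜) (kap E a x i (n - e))).toNat : ℚ)) (d + 1)
    simp only [hκ0, hκD] at htel
    unfold chi
    rw [← Finset.sum_add_distrib]
    have : ∀ i ∈ Finset.range (d + 1),
        (-1 : ℚ) ^ i * ((Module.length (deg0 𝒜) (E.Hcomp a i (n - e))).toNat : ℚ) +
        (-1 : ℚ) ^ i *
          ((Module.length (deg0 𝒜) ((res (quotGMod 𝒜 ℳ _ hB).gr).Hcomp a i n)).toNat : ℚ) =
        (-1 : ℚ) ^ i * ((Module.length (deg0 𝒜) (E.Hcomp a i n)).toNat : ℚ) +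
        (-1 : ℚ) ^ i * (((Module.length (deg0 𝒜) (kap E a x i (n - e))).toNat : ℚ) +
          ((Module.length (deg0 𝒜) (kap E a x (i + 1) (n - e))).toNat : ℚ)) := by
      intro i _
      rw [← mul_add, hcount i]
      ring
    rw [Finset.sum_congr rfl this, Finset.sum_add_distrib, htel]
    simp
  -- periodicity
  let g : ℤ → ℚ := fun n => hilb 𝒜 ℳ n - P.eval (n : ℚ) - chi 𝒜 a E (d + 1) n
  have hper : ∀ n, g (n + e) = g n := by
    intro n
    have h1 := hH (n + e)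
    have h2 := hC (n + e)
    have h3 := IHN (n + e)
    have h4 := hQeval (n + e)
    rw [add_sub_cancel_right] at h1 h2 h4
    show hilb 𝒜 ℳ (n + e) - P.eval ((n + e : ℤ) : ℚ) - chi 𝒜 a E (d + 1) (n + e) =
      hilb 𝒜 ℳ n - P.eval (n : ℚ) - chi 𝒜 a E (d + 1) n
    rw [h1, ← h2, ← h3, h4]
    ring
  have hperj : ∀ (j : ℕ) n, g (n + j * e) = g n := by
    intro j
    induction j with
    | zero => intro n; simp
    | succ j ih =>
      intro n
      have : n + ((j + 1 : ℕ) : ℤ) * e = (n + j * e) + e := by push_cast; ring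
      rw [this, hper, ih]
  obtain ⟨r, hr⟩ := exists_uniform_vanishing 𝒜 hpos a ha ℳ E
  have hzero : ∀ n, max N₀ r ≤ n → g n = 0 := by
    intro n hn
    show hilb 𝒜 ℳ n - P.eval (n : ℚ) - chi 𝒜 a E (d + 1) n = 0
    rw [hN₀ n (le_trans (le_max_left _ _) hn),
      chi_eq_zero_of_bot 𝒜 a E (d + 1) n (fun i => hr i n (le_trans (le_max_right _ _) hn))]
    ring
  intro n
  have hg : g n = 0 := by
    rw [← hperj (max N₀ r - n).toNat n]
    apply hzero
    have h1 : (max N₀ r - n) ≤ ((max N₀ r - n).toNat : ℤ) := Int.self_le_toNat _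
    have h2 : (0 : ℤ) ≤ ((max N₀ r - n).toNat : ℤ) := Int.natCast_nonneg _
    have h3 : (1 : ℤ) ≤ e := by exact_mod_cast he
    nlinarith
  have : hilb 𝒜 ℳ n - P.eval (n : ℚ) - chi 𝒜 a E (d + 1) n = 0 := hg
  linarith


include hpos ha in
theorem serre_aux (d : ℕ) (hd : ringKrullDim R ≤ d) : ∀ (k : ℕ)
    (M : Type u) [AddCommGroup M] [Module R M] [Module.Finite R M]
    (ℳ : ℤ → AddSubgroup M) [Decomposition ℳ] [SetLike.GradedSMul 𝒜 ℳ],
    Module.supportDim R M < k → ∀ (E : StarInjRes 𝒜 ℳ) (P : Polynomial ℚ),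
    (∃ N₀ : ℤ, ∀ n : ℤ, N₀ ≤ n → P.eval (n : ℚ) = hilb 𝒜 ℳ n) → SerreAt 𝒜 a d ℳ E P := by
  intro k
  induction k with
  | zero =>
    intro M _ _ _ ℳ _ _ hdim E P hP n
    have hbot : Module.supportDim R M = ⊥ := by
      by_contra hne
      obtain ⟨c, hc⟩ := WithBot.ne_bot_iff_exists.mp hne
      rw [← hc] at hdim
      have : (c : WithBot ℕ∞) < ((0 : ℕ∞) : WithBot ℕ∞) := by exact_mod_cast hdim
      exact absurd (WithBot.coe_lt_coe.mp this) (by simp)
    haveI : Subsingleton M := (Module.supportDim_eq_bot_iff_subsingleton (R := R) (M := M)).mp hbot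
    have hh : ∀ m, hilb 𝒜 ℳ m = 0 := by
      intro m
      unfold hilb
      rw [length_eq_zero_of_subsingleton 𝒜 (comp 𝒜 ℳ m)]
      simp
    have hchi : chi 𝒜 a E (d + 1) n = 0 := by
      apply chi_eq_zero_of_bot
      intro i
      haveI : Subsingleton (E.H a i) := by
        apply subsingleton_H_of_supportDim_lt 𝒜 a ℳ E i
        rw [hbot]
        exact WithBot.bot_lt_coe _
      rw [eq_bot_iff]
      intro ξ _
      rw [Submodule.mem_bot]
      exact Subsingleton.elim _ _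
    obtain ⟨N₀, hN₀⟩ := hP
    have hPz : P = 0 := by
      apply Polynomial.eq_zero_of_infinite_isRoot
      have hinf : (Set.range fun j : ℕ => ((N₀ + j : ℤ) : ℚ)).Infinite := by
        apply Set.infinite_range_of_injective
        intro i j hij
        have : ((N₀ + i : ℤ) : ℚ) = ((N₀ + j : ℤ) : ℚ) := hij
        have h2 : (N₀ + i : ℤ) = N₀ + j := by exact_mod_cast this
        omega
      refine hinf.mono ?_
      rintro _ ⟨j, rfl⟩
      show P.IsRoot _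
      rw [Polynomial.IsRoot, hN₀ (N₀ + j) (by omega), hh]
    rw [hh, hchi, hPz]
    simp
  | succ k ih =>
    intro M _ _ _ ℳ _ _ hdim E P hP
    have hΓhom : (gam a.toIdeal M).IsHomogeneous ℳ := isHomogeneous_gam 𝒜 ℳ a
    have hqgr := quotMap_isGrHom 𝒜 ℳ _ hΓhom
    have hqs := quotMap_surjective 𝒜 ℳ _ hΓhom
    have hqker : LinearMap.ker (quotMap 𝒜 ℳ _ hΓhom) = gam a.toIdeal M := by
      ext m
      exact quotMap_eq_zero_iff 𝒜 ℳ _ hΓhom m
    haveI : Module.Finite R (quotGMod 𝒜 ℳ _ hΓhom).carrier :=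
      Module.Finite.of_surjective (quotMap 𝒜 ℳ _ hΓhom) hqs
    apply serre_reduction 𝒜 hpos a ha d ℳ E P hP (quotGMod 𝒜 ℳ _ hΓhom).gr hqgr hqs hqker
      (res (quotGMod 𝒜 ℳ _ hΓhom).gr)
    intro hP'
    apply serre_tf 𝒜 hpos a ha d hd k ih (quotGMod 𝒜 ℳ _ hΓhom).gr _
      (gam_quot_eq_bot a hqs hqker) _ P hP'
    exact lt_of_le_of_lt (Module.supportDim_le_of_surjective _ hqs) hdim

include hpos ha in
/-- **Serre's formula** (for the irrelevant ideal): `H_M(n) - P_M(n) = Σ (-1)^i ℓ(H^i_{R_+}(M)_n)`. -/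
theorem serre (d : ℕ) (hd : ringKrullDim R ≤ d)
    {M : Type u} [AddCommGroup M] [Module R M] [Module.Finite R M]
    (ℳ : ℤ → AddSubgroup M) [Decomposition ℳ] [SetLike.GradedSMul 𝒜 ℳ]
    (E : StarInjRes 𝒜 ℳ) (P : Polynomial ℚ)
    (hP : ∃ N₀ : ℤ, ∀ n : ℤ, N₀ ≤ n → P.eval (n : ℚ) = hilb 𝒜 ℳ n) (n : ℤ) :
    hilb 𝒜 ℳ n - P.eval (n : ℚ) = chi 𝒜 a E (d + 1) n := by
  have hdim : Module.supportDim R M < ((d + 1 : ℕ) : WithBot ℕ∞) := by
    refine lt_of_le_of_lt (Module.supportDim_le_ringKrullDim R M) (lt_of_le_of_lt hd ?_)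
    norm_cast
    exact Nat.lt_succ_self d
  exact serre_aux 𝒜 hpos a ha d hd (d + 1) M ℳ hdim E P hP n

end Main

end Groth.Agent.Lib.H74GrSerre
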