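import Mathlib
import Groth.Agent.Lib.H74GrDim2
import Groth.Agent.S17770

set_option autoImplicit false
set_option linter.unusedSectionVars false
set_option linter.style.haveILetI false

universe u

namespace Groth.Agent.Lib.H74GrDim

open DirectSum GrLC Groth.Agent.Lib.H74GrArt

variable {R : Type u} [CommRing R] (𝒜 : ℤ → AddSubgroup R) [GradedRing 𝒜]

/-- In a positively graded `*`local ring every proper homogeneous ideal lies in `m`. -/
theorem le_of_isStarLocal (hpos : ∀ n : ℤ, n < 0 → 𝒜 n = ⊥) (m : HomogeneousIdeal 𝒜)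
    (hm : GrLC.IsStarLocal 𝒜 m) (q : Ideal R) (hq : q.IsHomogeneous 𝒜) (hqt : q ≠ ⊤) :
    q ≤ m.toIdeal := by
  have hne : q ⊔ (irr 𝒜).toIdeal ≠ ⊤ := by
    intro htop
    have h1' : (1 : R) ∈ q ⊔ (irr 𝒜).toIdeal := by rw [htop]; trivial
    obtain ⟨a, ha, b, hb, hab⟩ := Submodule.mem_sup.mp h1'
    apply hqt
    rw [Ideal.eq_top_iff_one]
    have h0 : (decompose 𝒜 (1 : R) 0 : R) = 1 :=
      decompose_of_mem_same 𝒜 (SetLike.GradedOne.one_mem)
    rw [← h0, ← hab, decompose_add, DirectSum.add_apply, AddSubgroup.coe_add,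
      decompose_zero_of_mem_irr 𝒜 hpos hb, add_zero]
    exact hq 0 ha
  obtain ⟨J, hJmax, hJ⟩ := Ideal.exists_le_maximal _ hne
  have := Groth.Agent.S17770.eq_of_isMaximal_of_irr_le 𝒜 hpos m hm J hJmax (le_sup_right.trans hJ)
  rw [← this]
  exact le_sup_left.trans hJ

/-- In a positively graded Noetherian `*`local ring, `dim R = ht m`. -/
theorem ringKrullDim_eq_height [IsNoetherianRing R] (hpos : ∀ n : ℤ, n < 0 → 𝒜 n = ⊥)
    (m : HomogeneousIdeal 𝒜) (hm : GrLC.IsStarLocal 𝒜 m) :
    ringKrullDim R = m.toIdeal.height := by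
  have hmax : m.toIdeal.IsMaximal := isMaximal_of_isStarLocal 𝒜 hpos m hm
  apply le_antisymm
  · rw [ringKrullDim_le_iff_isMaximal_height_le]
    intro n hn
    haveI := hn.isPrime
    by_cases hnh : n.IsHomogeneous 𝒜
    · exact_mod_cast Ideal.height_mono (le_of_isStarLocal 𝒜 hpos m hm n hnh hn.ne_top)
    · haveI hc : (n.homogeneousCore 𝒜).toIdeal.IsPrime := Ideal.IsPrime.homogeneousCore hn.isPrime
      have hcm : (n.homogeneousCore 𝒜).toIdeal ≤ m.toIdeal :=
        le_of_isStarLocal 𝒜 hpos m hm _ (n.homogeneousCore 𝒜).isHomogeneous hc.ne_top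
      have hne : (n.homogeneousCore 𝒜).toIdeal ≠ m.toIdeal := by
        intro heq
        have hmn : m.toIdeal ≤ n := heq ▸ Ideal.toIdeal_homogeneousCore_le 𝒜 n
        have := hmax.eq_of_le hn.ne_top hmn
        apply hnh
        rw [← this]
        exact m.isHomogeneous
      haveI := hmax.isPrime
      have h1 := Ideal.height_add_one_le_of_lt_of_isPrime (lt_of_le_of_ne hcm hne)
      have h2 := height_le_core_add_one 𝒜 n
      exact_mod_cast h2.trans h1
  · exact Ideal.height_le_ringKrullDim_of_ne_top hmax.ne_top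

end Groth.Agent.Lib.H74GrDim
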