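import Mathlib
import Groth.Agent.Lib.H74GrDim3
import Groth.Agent.Lib.H8CM8
import Groth.Agent.S0318
import Groth.Agent.S13224
import Groth.Agent.Lib.LocCohVanishing

set_option autoImplicit false
set_option linter.unusedSectionVars false
set_option linter.style.haveILetI false

universe u

namespace Groth.Agent.Lib.H74GrCM

open DirectSum GrLC Groth.Agent.Lib.H74GrArt Groth.Agent.Lib.H74GrDim

variable {R : Type u} [CommRing R] (𝒜 : ℤ → AddSubgroup R) [GradedRing 𝒜]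
variable {M : Type u} [AddCommGroup M] [Module R M] {ℳ : ℤ → AddSubgroup M}
  [Decomposition ℳ] [SetLike.GradedSMul 𝒜 ℳ]

/-- Vanishing of graded local cohomology below the grade. -/
theorem subsingleton_H_of_lt_idealDepth [IsNoetherianRing R] [Module.Finite R M]
    (a : HomogeneousIdeal 𝒜) (E : StarInjRes 𝒜 ℳ)
    (hIM : a.toIdeal • (⊤ : Submodule R M) ≠ ⊤) (d : ℕ)
    (hd : (d : ℕ∞) ≤ LocCoh.idealDepth a.toIdeal M) (i : ℕ) (hi : i < d) :
    Subsingleton (E.H a i) := by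
  obtain ⟨e⟩ := Groth.Agent.S13224.main a E i
  haveI := Groth.Agent.S0318.subsingleton_H_of_lt a.toIdeal M hIM d hd i hi
  exact e.toEquiv.subsingleton

/-- Grothendieck vanishing for graded local cohomology. -/
theorem subsingleton_H_of_supportDim_lt [IsNoetherianRing R]
    (a : HomogeneousIdeal 𝒜) (E : StarInjRes 𝒜 ℳ) (i : ℕ)
    (hi : Module.supportDim R M < ((i : ℕ) : WithBot ℕ∞)) : Subsingleton (E.H a i) := by
  obtain ⟨e⟩ := Groth.Agent.S13224.main a E i
  haveI := Groth.Agent.Lib.LocCohVanishing.subsingleton_H_of_supportDim_lt a.toIdeal M i hi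
  exact e.toEquiv.subsingleton

/-- In a positively graded `*`local Cohen–Macaulay ring, `grade(m, R) = dim R`. -/
theorem idealDepth_eq_dim [LocCoh.IsCohenMacaulayRing R] (hpos : ∀ n : ℤ, n < 0 → 𝒜 n = ⊥)
    (m : HomogeneousIdeal 𝒜) (hm : GrLC.IsStarLocal 𝒜 m) (d : ℕ) (hd : ringKrullDim R = d) :
    LocCoh.idealDepth m.toIdeal R = d := by
  have hmax : m.toIdeal.IsMaximal := isMaximal_of_isStarLocal 𝒜 hpos m hm
  rw [Groth.Agent.Lib.H8CM.idealDepth_eq_height hmax.ne_top]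
  have h1 := ringKrullDim_eq_height 𝒜 hpos m hm
  rw [hd] at h1
  exact_mod_cast h1.symm

/-- Cohen–Macaulay vanishing: `H^i_m(R) = 0` for `i < dim R`. -/
theorem subsingleton_H_of_lt_dim [LocCoh.IsCohenMacaulayRing R] (hpos : ∀ n : ℤ, n < 0 → 𝒜 n = ⊥)
    (m : HomogeneousIdeal 𝒜) (hm : GrLC.IsStarLocal 𝒜 m) (d : ℕ) (hd : ringKrullDim R = d)
    (E : StarInjRes 𝒜 𝒜) (i : ℕ) (hi : i < d) : Subsingleton (E.H m i) := by
  have hmax : m.toIdeal.IsMaximal := isMaximal_of_isStarLocal 𝒜 hpos m hm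
  refine subsingleton_H_of_lt_idealDepth 𝒜 m E ?_ d ?_ i hi
  · exact Groth.Agent.Lib.H8CM.smul_top_self_ne_top hmax.ne_top
  · rw [idealDepth_eq_dim 𝒜 hpos m hm d hd]

end Groth.Agent.Lib.H74GrCM
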