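import Groth.Agent.Lib.GrCMCrit
import Groth.Agent.Lib.H74GrCM
import Groth.Agent.Lib.GrLCAB2
import Groth.Agent.S0318
import Groth.Agent.S13224

/-!
# The graded Cohen–Macaulay criterion in terms of graded local cohomology (helper12)

`M` f.g. graded of dimension `n` over a positively graded `k`-algebra of finite type with `R_0 = k`:
every localization of `M` is zero or Cohen–Macaulay iff `H^i_{R_+}(M) = 0` for all `i < n`.
-/

set_option autoImplicit false
set_option linter.unusedSectionVars false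
set_option linter.style.haveILetI false
universe u

namespace Groth.Agent.Lib.GrCMCrit

open DirectSum LocCoh Module GrLC Groth.Agent.Lib.GrNoether20 Groth.Agent.Lib.GrNoetherMod20
  Groth.Agent.Lib.GrCMTorsion20 Groth.Agent.Lib.GrLCBridge Groth.Agent.Lib.H8CM

section Depth

variable {R : Type u} [CommRing R] [IsNoetherianRing R] {𝒜 : ℤ → AddSubgroup R} [GradedRing 𝒜]
variable {M : Type u} [AddCommGroup M] [Module R M] {ℳ : ℤ → AddSubgroup M}
  [Decomposition ℳ] [SetLike.GradedSMul 𝒜 ℳ] [Module.Finite R M]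

/-- `n ≤ grade(a, M)` iff the graded local cohomology vanishes below `n`. -/
theorem le_idealDepth_iff_forall_Hcomp (a : HomogeneousIdeal 𝒜) (E : StarInjRes 𝒜 ℳ)
    (hIM : a.toIdeal • (⊤ : Submodule R M) ≠ ⊤) (n : ℕ) :
    (n : ℕ∞) ≤ idealDepth a.toIdeal M ↔ ∀ i < n, ∀ d, E.Hcomp a i d = ⊥ := by
  constructor
  · intro h i hi d
    have := Groth.Agent.Lib.H74GrCM.subsingleton_H_of_lt_idealDepth 𝒜 a E hIM n h i hi
    exact Submodule.eq_bot_of_subsingleton
  · intro h
    by_contra hcon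
    push Not at hcon
    have hne := Groth.Agent.S0318.idealDepth_ne_top a.toIdeal M hIM
    obtain ⟨d, hd⟩ := ENat.ne_top_iff_exists.1 hne
    rw [← hd] at hcon
    have hdn : d < n := by exact_mod_cast hcon
    have h1 := (Groth.Agent.S0318.result R a.toIdeal M hIM d).1 hd.symm
    have h2 := Groth.Agent.Lib.GrLCAB.subsingleton_H_of_forall_Hcomp E a d (h d hdn)
    obtain ⟨e⟩ := Groth.Agent.S13224.main a E d
    have hss : Subsingleton (LocCoh.H a.toIdeal d M) := e.symm.toEquiv.subsingleton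
    have hnt : Nontrivial (LocCoh.H a.toIdeal d M) := h1.2
    exact not_subsingleton _ hss

end Depth

section Crit

variable {k : Type u} [Field k] {R : Type u} [CommRing R] [Algebra k R] (𝒜 : ℤ → Submodule k R)
  [GradedAlgebra 𝒜] (hpos : ∀ n : ℤ, n < 0 → 𝒜 n = ⊥) (h0 : 𝒜 0 = Submodule.span k {(1 : R)})
  [Algebra.FiniteType k R]
variable {M : Type u} [AddCommGroup M] [Module R M] (ℳ : ℤ → AddSubgroup M) [Decomposition ℳ]
  [SetLike.GradedSMul 𝒜 ℳ] [Module.Finite R M]

omit [Algebra.FiniteType k R] in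
theorem irr_eq_span : irr 𝒜 = Ideal.span (⋃ n ∈ Set.Ioi (0 : ℤ), (𝒜 n : Set R)) := by
  unfold irr
  congr 1
  ext a
  simp only [Set.mem_ofPred_eq, Set.mem_iUnion, Set.mem_Ioi, SetLike.mem_coe, exists_prop]

include hpos h0 ℳ in
theorem irr_smul_top_ne_top [Nontrivial M] : irr 𝒜 • (⊤ : Submodule R M) ≠ ⊤ := by
  haveI : Nontrivial R := Module.nontrivial R M
  intro h
  obtain ⟨r, hr1, hr2⟩ := Submodule.exists_sub_one_mem_and_smul_eq_zero_of_fg_of_le_smul
    (irr 𝒜) (⊤ : Submodule R M) Module.Finite.fg_top (by rw [h])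
  have hann : r ∈ Module.annihilator R M := by
    rw [Module.mem_annihilator]
    intro m
    exact hr2 m trivial
  have hr3 : r ∈ irr 𝒜 := annihilator_le_irr 𝒜 hpos h0 ℳ hann
  have : (1 : R) ∈ irr 𝒜 := by
    have := (irr 𝒜).sub_mem hr3 hr1
    simpa using this
  exact one_notMem_irr 𝒜 hpos this

/-- A `*`injective resolution over `𝒜` as one over `asGr 𝒜` (module grading unchanged). -/
def toSRes' (E : StarInjRes 𝒜 ℳ) : StarInjRes (asGr 𝒜) ℳ where
  X n := toSMod 𝒜 (E.X n)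
  d n := E.d n
  ε := E.ε
  d_grHom := E.d_grHom
  ε_grHom := E.ε_grHom
  ε_injective := E.ε_injective
  exact_zero := E.exact_zero
  exact_succ := E.exact_succ
  starInj n := isStarInj_asGr 𝒜 (E.X n).gr (E.starInj n)

omit [Algebra.FiniteType k R] [Module.Finite R M] in
theorem Hcomp_toSRes'_eq_bot_iff (E : StarInjRes 𝒜 ℳ) (a : HomogeneousIdeal 𝒜) (i : ℕ) (g : ℤ) :
    (toSRes' 𝒜 ℳ E).Hcomp (toSIdeal a) i g = ⊥ ↔ E.Hcomp a i g = ⊥ := by
  rw [Submodule.eq_bot_iff, Submodule.eq_bot_iff]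
  exact Iff.rfl

include hpos h0 in
/-- **The graded Cohen–Macaulay criterion.** -/
theorem isCMAll_iff_forall_Hcomp [Nontrivial M] (a : HomogeneousIdeal (asGr 𝒜))
    (ha : a.toIdeal = Ideal.span (⋃ n ∈ Set.Ioi (0 : ℤ), (𝒜 n : Set R)))
    (E : StarInjRes (asGr 𝒜) ℳ) {n : ℕ} (hdim : supportDim R M = n) :
    IsCMAll R M ↔ ∀ i < n, ∀ d, E.Hcomp a i d = ⊥ := by
  haveI : IsNoetherianRing R := Algebra.FiniteType.isNoetherianRing k R
  have ha' : a.toIdeal = irr 𝒜 := by rw [ha, irr_eq_span]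
  have hIM : a.toIdeal • (⊤ : Submodule R M) ≠ ⊤ := by
    rw [ha']; exact irr_smul_top_ne_top 𝒜 hpos h0 ℳ
  rw [← le_idealDepth_iff_forall_Hcomp a E hIM n, ha']
  constructor
  · intro h
    rw [idealDepth_irr_eq_of_isCMAll 𝒜 hpos h0 ℳ h hdim]
  · intro h
    exact isCMAll_of_le_idealDepth 𝒜 hpos h0 ℳ hdim h

include hpos h0 ℳ in
/-- The grade of the irrelevant ideal on a graded Cohen–Macaulay module. -/
theorem idealDepth_eq_of_isCMAll [Nontrivial M] (a : Ideal R)
    (ha : a = Ideal.span (⋃ n ∈ Set.Ioi (0 : ℤ), (𝒜 n : Set R)))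
    (hcm : IsCMAll R M) {n : ℕ} (hdim : supportDim R M = n) :
    idealDepth a M = n := by
  have ha' : a = irr 𝒜 := by rw [ha, irr_eq_span]
  rw [ha']
  exact idealDepth_irr_eq_of_isCMAll 𝒜 hpos h0 ℳ hcm hdim

end Crit

end Groth.Agent.Lib.GrCMCrit
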