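/-
helper20: graded Noether normalization for nonnegatively `ℤ`-graded finite type algebras over a
field with degree-zero part `k`: homogeneous systems of parameters of equal degree.
-/
import Mathlib
import Groth.Agent.Lib.FTDim

set_option autoImplicit false
set_option linter.unusedSectionVars false
set_option linter.style.haveILetI false

namespace Groth.Agent.Lib.GrNoether20

open DirectSum

section Avoid

variable {A σ : Type*} [CommRing A] [SetLike σ A] [AddSubmonoidClass σ A] (𝒜 : ℤ → σ)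
  [GradedRing 𝒜]

theorem pow_mem_cast {z : A} {d : ℕ} (hz : z ∈ 𝒜 (d : ℤ)) (m : ℕ) :
    z ^ m ∈ 𝒜 ((m * d : ℕ) : ℤ) := by
  have := SetLike.pow_mem_graded m hz
  rwa [nsmul_eq_mul, ← Nat.cast_mul] at this

/-- Graded prime avoidance for `ℤ`-graded rings (elements of positive degree); port of helper67's
`GradedAvoid.gpa` / helper74's `gpaZ` to arbitrary `SetLike` gradings. -/
theorem gpaZ (J : Ideal A) : ∀ (n : ℕ) (P : Finset (Ideal A)), P.card = n →
    (∀ p ∈ P, p.IsPrime ∧ ∃ (z : A) (d : ℕ), 0 < d ∧ z ∈ 𝒜 (d : ℤ) ∧ z ∈ J ∧ z ∉ p) →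
    ∃ (z : A) (d : ℕ), 0 < d ∧ z ∈ 𝒜 (d : ℤ) ∧ z ∈ J ∧ ∀ p ∈ P, z ∉ p := by
  intro n
  induction n using Nat.strong_induction_on with
  | _ n IH =>
    intro P hcard hP
    classical
    rcases Nat.lt_or_ge n 2 with hn | hn
    · obtain rfl | rfl : n = 0 ∨ n = 1 := by omega
      · rw [Finset.card_eq_zero] at hcard
        subst hcard
        exact ⟨0, 1, one_pos, zero_mem _, J.zero_mem, by simp⟩
      · obtain ⟨p, rfl⟩ := Finset.card_eq_one.1 hcard
        obtain ⟨_, z, d, hd, hz, hzJ, hzp⟩ := hP p (Finset.mem_singleton_self p)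
        exact ⟨z, d, hd, hz, hzJ, by simpa using hzp⟩
    · have IH' : ∀ i ∈ P, ∃ (z : A) (d : ℕ), 0 < d ∧ z ∈ 𝒜 (d : ℤ) ∧ z ∈ J ∧
          ∀ p ∈ P.erase i, z ∉ p := by
        intro i hi
        refine IH (n - 1) (by omega) (P.erase i) (by rw [Finset.card_erase_of_mem hi, hcard]) ?_
        intro p hp
        exact hP p (Finset.mem_of_mem_erase hp)
      choose! z d hd hz hzJ hzp using IH'
      by_cases hex : ∃ i ∈ P, z i ∉ i
      · obtain ⟨i, hi, hzi⟩ := hex
        refine ⟨z i, d i, hd i hi, hz i hi, hzJ i hi, ?_⟩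
        intro p hp
        by_cases hpi : p = i
        · subst hpi; exact hzi
        · exact hzp i hi p (Finset.mem_erase.2 ⟨hpi, hp⟩)
      · push Not at hex
        have hDpos : 0 < ∏ l ∈ P, d l := Finset.prod_pos (fun l hl => hd l hl)
        have hepos : ∀ j, 0 < ∏ l ∈ P.erase j, d l :=
          fun j => Finset.prod_pos (fun l hl => hd l (Finset.mem_of_mem_erase hl))
        have hde : ∀ j ∈ P, (∏ l ∈ P.erase j, d l) * d j = ∏ l ∈ P, d l := fun j hj => by
          rw [mul_comm]; exact Finset.mul_prod_erase P d hj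
        have hy : ∀ j ∈ P, z j ^ (∏ l ∈ P.erase j, d l) ∈ 𝒜 ((∏ l ∈ P, d l : ℕ) : ℤ) :=
          fun j hj => by
            have := pow_mem_cast 𝒜 (hz j hj) (∏ l ∈ P.erase j, d l)
            rwa [hde j hj] at this
        have hyJ : ∀ j ∈ P, z j ^ (∏ l ∈ P.erase j, d l) ∈ J :=
          fun j hj => J.pow_mem_of_mem (hzJ j hj) _ (hepos j)
        have hyj : ∀ j ∈ P, z j ^ (∏ l ∈ P.erase j, d l) ∈ j :=
          fun j hj => Ideal.pow_mem_of_mem j (hex j hj) _ (hepos j)
        have hyi : ∀ j ∈ P, ∀ i ∈ P, i ≠ j → z j ^ (∏ l ∈ P.erase j, d l) ∉ i :=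
          fun j hj i hi hij h =>
            hzp j hj i (Finset.mem_erase.2 ⟨hij, hi⟩) ((hP i hi).1.mem_of_pow_mem _ h)
        refine ⟨∑ i ∈ P, ∏ j ∈ P.erase i, z j ^ (∏ l ∈ P.erase j, d l), (n - 1) * ∏ l ∈ P, d l,
          Nat.mul_pos (by omega) hDpos, ?_, ?_, ?_⟩
        · refine sum_mem (fun i hi => ?_)
          have := SetLike.prod_mem_graded 𝒜 (fun _ => ((∏ l ∈ P, d l : ℕ) : ℤ))
            (fun j => z j ^ (∏ l ∈ P.erase j, d l)) (F := P.erase i)
            (fun j hj => hy j (Finset.mem_of_mem_erase hj))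
          rw [Finset.sum_const, Finset.card_erase_of_mem hi, hcard, nsmul_eq_mul,
            ← Nat.cast_mul] at this
          exact this
        · refine J.sum_mem (fun i hi => ?_)
          have hne : (P.erase i).Nonempty := by
            rw [← Finset.card_pos, Finset.card_erase_of_mem hi, hcard]; omega
          obtain ⟨j, hj⟩ := hne
          exact Ideal.mem_of_dvd J
            (Finset.dvd_prod_of_mem (fun j => z j ^ (∏ l ∈ P.erase j, d l)) hj)
            (hyJ j (Finset.mem_of_mem_erase hj))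
        · intro i hi hmem
          have hprime := (hP i hi).1
          rw [← Finset.add_sum_erase P _ hi] at hmem
          have h2 : ∑ i' ∈ P.erase i, ∏ j ∈ P.erase i', z j ^ (∏ l ∈ P.erase j, d l) ∈ i := by
            refine i.sum_mem (fun i' hi' => ?_)
            have hii' : i ∈ P.erase i' :=
              Finset.mem_erase.2 ⟨(Finset.ne_of_mem_erase hi').symm, hi⟩
            exact Ideal.mem_of_dvd i
              (Finset.dvd_prod_of_mem (fun j => z j ^ (∏ l ∈ P.erase j, d l)) hii') (hyj i hi)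
          have h1 : ∏ j ∈ P.erase i, z j ^ (∏ l ∈ P.erase j, d l) ∈ i := by
            have := i.sub_mem hmem h2
            simpa using this
          obtain ⟨j, hj, hji⟩ := (Ideal.IsPrime.prod_mem_iff (hp := hprime)).1 h1
          exact hyi j (Finset.mem_of_mem_erase hj) i hi (Finset.ne_of_mem_erase hj).symm hji

/-- Minimal primes over a homogeneous ideal are homogeneous (helper8's argument). -/
theorem isHomogeneous_of_mem_minimalPrimes {J Q : Ideal A} (hJ : J.IsHomogeneous 𝒜)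
    (hQ : Q ∈ J.minimalPrimes) : Q.IsHomogeneous 𝒜 := by
  haveI : Q.IsPrime := hQ.1.1
  have h1 : (Q.homogeneousCore 𝒜).toIdeal.IsPrime := Ideal.IsPrime.homogeneousCore ‹_›
  have h2 : (Q.homogeneousCore 𝒜).toIdeal ≤ Q := Ideal.toIdeal_homogeneousCore_le 𝒜 Q
  have h3 : J ≤ (Q.homogeneousCore 𝒜).toIdeal := by
    rw [← hJ.toIdeal_homogeneousCore_eq_self]
    exact Ideal.homogeneousCore_mono 𝒜 hQ.1.2
  have h4 : Q ≤ (Q.homogeneousCore 𝒜).toIdeal := hQ.2 ⟨h1, h3⟩ h2
  have h5 : (Q.homogeneousCore 𝒜).toIdeal = Q := le_antisymm h2 h4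
  rw [← h5]
  exact (Q.homogeneousCore 𝒜).isHomogeneous

end Avoid

section Irr

variable {k R : Type*} [Field k] [CommRing R] [Algebra k R] (𝒜 : ℤ → Submodule k R)
  [GradedAlgebra 𝒜]

/-- The irrelevant ideal `R_+`. -/
def irr : Ideal R := Ideal.span {a | ∃ n : ℤ, 0 < n ∧ a ∈ 𝒜 n}

theorem irr_isHomogeneous : (irr 𝒜).IsHomogeneous 𝒜 :=
  Ideal.homogeneous_span 𝒜 _ (fun _ ⟨n, _, hx⟩ => ⟨n, hx⟩)

theorem mem_irr_of_mem {n : ℤ} (hn : 0 < n) {a : R} (ha : a ∈ 𝒜 n) : a ∈ irr 𝒜 :=
  Ideal.subset_span ⟨n, hn, ha⟩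

variable (hpos : ∀ n : ℤ, n < 0 → 𝒜 n = ⊥)
include hpos

theorem decompose_zero_mul_of_mem {n : ℤ} (hn : 0 < n) {a : R} (ha : a ∈ 𝒜 n) (r : R) :
    (decompose 𝒜 (r * a) 0 : R) = 0 := by
  have h := DirectSum.coe_decompose_mul_add_of_right_mem 𝒜 (i := -n) (j := n) (a := r) ha
  rw [neg_add_cancel] at h
  rw [h]
  have h2 : (decompose 𝒜 r (-n) : R) ∈ (⊥ : Submodule k R) := by
    rw [← hpos (-n) (by omega)]; exact (decompose 𝒜 r (-n)).2
  rw [(Submodule.mem_bot k).mp h2, zero_mul]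

theorem decompose_zero_of_mem_irr {b : R} (hb : b ∈ irr 𝒜) : (decompose 𝒜 b 0 : R) = 0 := by
  have key : ∀ r : R, (decompose 𝒜 (r * b) 0 : R) = 0 := by
    induction hb using Submodule.span_induction with
    | mem x hx =>
      obtain ⟨n, hn, hx⟩ := hx
      intro r
      exact decompose_zero_mul_of_mem 𝒜 hpos hn hx r
    | zero => intro r; simp
    | add x y _ _ hx hy =>
      intro r
      rw [mul_add, decompose_add, DirectSum.add_apply, Submodule.coe_add, hx r, hy r, add_zero]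
    | smul c x _ hx =>
      intro r
      rw [smul_eq_mul, ← mul_assoc]
      exact hx (r * c)
  simpa using key 1

theorem sub_decompose_zero_mem_irr (x : R) : x - (decompose 𝒜 x 0 : R) ∈ irr 𝒜 := by
  induction x using Decomposition.inductionOn 𝒜 with
  | zero => simp
  | @homogeneous i x =>
    rcases lt_trichotomy i 0 with hi | hi | hi
    · have h2 : (x : R) ∈ (⊥ : Submodule k R) := by
        rw [← hpos i hi]; exact x.2
      have h3 : (x : R) = 0 := (Submodule.mem_bot k).mp h2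
      rw [h3]; simp
    · subst hi
      rw [decompose_of_mem_same 𝒜 x.2, sub_self]
      exact zero_mem _
    · rw [decompose_of_mem_ne 𝒜 x.2 (ne_of_gt hi), sub_zero]
      exact mem_irr_of_mem 𝒜 hi x.2
  | add x y hx hy =>
    have : x + y - (decompose 𝒜 (x + y) 0 : R) =
        (x - (decompose 𝒜 x 0 : R)) + (y - (decompose 𝒜 y 0 : R)) := by
      rw [decompose_add, DirectSum.add_apply, Submodule.coe_add]; ring
    rw [this]
    exact add_mem hx hy

theorem one_notMem_irr [Nontrivial R] : (1 : R) ∉ irr 𝒜 := by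
  intro h
  have h1 := decompose_zero_of_mem_irr 𝒜 hpos h
  rw [decompose_of_mem_same 𝒜 (SetLike.GradedOne.one_mem)] at h1
  exact one_ne_zero h1

variable (h0 : 𝒜 0 = Submodule.span k {(1 : R)})
include h0

omit hpos in
theorem exists_smul_one_eq (a : R) : ∃ c : k, c • (1 : R) = (decompose 𝒜 a 0 : R) := by
  have h : (decompose 𝒜 a 0 : R) ∈ Submodule.span k {(1 : R)} := by
    rw [← h0]; exact (decompose 𝒜 a 0).2
  exact Submodule.mem_span_singleton.mp h

theorem irr_isMaximal [Nontrivial R] : (irr 𝒜).IsMaximal := by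
  rw [Ideal.isMaximal_iff]
  refine ⟨one_notMem_irr 𝒜 hpos, ?_⟩
  intro J x hJ hx hxJ
  obtain ⟨c, hc⟩ := exists_smul_one_eq 𝒜 h0 x
  have h1 : x - (decompose 𝒜 x 0 : R) ∈ J := hJ (sub_decompose_zero_mem_irr 𝒜 hpos x)
  have h2 : (decompose 𝒜 x 0 : R) ∈ J := by
    have := J.sub_mem hxJ h1
    simpa using this
  have hc0 : c ≠ 0 := by
    rintro rfl
    rw [zero_smul] at hc
    apply hx
    have := sub_decompose_zero_mem_irr 𝒜 hpos x
    rwa [← hc, sub_zero] at this
  rw [← hc] at h2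
  have h3 : c⁻¹ • (c • (1 : R)) ∈ J := Submodule.smul_of_tower_mem J c⁻¹ h2
  rwa [smul_smul, inv_mul_cancel₀ hc0, one_smul] at h3

/-- Every proper homogeneous ideal lies in the irrelevant ideal. -/
theorem le_irr {I : Ideal R} (hI : I.IsHomogeneous 𝒜) (hne : I ≠ ⊤) : I ≤ irr 𝒜 := by
  intro a ha
  obtain ⟨c, hc⟩ := exists_smul_one_eq 𝒜 h0 a
  have h2 : (decompose 𝒜 a 0 : R) ∈ I := hI 0 ha
  have hc0 : c = 0 := by
    by_contra hc0
    apply hne
    rw [Ideal.eq_top_iff_one]
    rw [← hc] at h2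
    have h3 : c⁻¹ • (c • (1 : R)) ∈ I := Submodule.smul_of_tower_mem I c⁻¹ h2
    rwa [smul_smul, inv_mul_cancel₀ hc0, one_smul] at h3
  have := sub_decompose_zero_mem_irr 𝒜 hpos a
  rwa [← hc, hc0, zero_smul, sub_zero] at this

end Irr

section Dim

variable {R : Type*} [CommRing R]

/-- If `x ∈ J` avoids all minimal primes over `I ≤ J`, then `dim R/J + 1 ≤ dim R/I`. -/
theorem ringKrullDim_quotient_succ_le {I J : Ideal R} (hIJ : I ≤ J) {x : R} (hxJ : x ∈ J)
    (hx : ∀ P ∈ I.minimalPrimes, x ∉ P) :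
    ringKrullDim (R ⧸ J) + 1 ≤ ringKrullDim (R ⧸ I) := by
  by_cases hJ : J = ⊤
  · rw [hJ, ringKrullDim_eq_bot_of_subsingleton]
    simp
  have hI : I ≠ ⊤ := fun h => hJ (top_le_iff.mp (h ▸ hIJ))
  have h1 : Nonempty (PrimeSpectrum.zeroLocus (R := R) J) := by
    rwa [Set.nonempty_coe_sort, Set.nonempty_iff_ne_empty, ne_eq,
      PrimeSpectrum.zeroLocus_empty_iff_eq_top]
  have h2 : Nonempty (PrimeSpectrum.zeroLocus (R := R) I) := by
    rwa [Set.nonempty_coe_sort, Set.nonempty_iff_ne_empty, ne_eq,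
      PrimeSpectrum.zeroLocus_empty_iff_eq_top]
  rw [ringKrullDim_quotient, ringKrullDim_quotient, Order.krullDim_eq_iSup_length,
    Order.krullDim_eq_iSup_length, ← WithBot.coe_one, ← WithBot.coe_add,
    ENat.iSup_add, WithBot.coe_le_coe, iSup_le_iff]
  intro l
  obtain ⟨p, hp, hp'⟩ := Ideal.exists_minimalPrimes_le (I := I) (J := l.head.1.asIdeal)
    (hIJ.trans l.head.2)
  let emb : PrimeSpectrum.zeroLocus (R := R) J → PrimeSpectrum.zeroLocus (R := R) I :=
    fun q => ⟨q.1, fun a ha => q.2 (hIJ ha)⟩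
  let p' : PrimeSpectrum.zeroLocus (R := R) I := ⟨⟨p, hp.1.1⟩, hp.1.2⟩
  let l' : LTSeries (PrimeSpectrum.zeroLocus (R := R) I) := l.map emb (fun _ _ h => h)
  have hp'' : p' < l'.head := by
    refine lt_of_le_of_ne hp' (fun h => hx p hp ?_)
    have h3 : x ∈ l.head.1.asIdeal := l.head.2 hxJ
    have h4 : p = l.head.1.asIdeal := by
      have := congrArg (fun q : PrimeSpectrum.zeroLocus (R := R) I => q.1.asIdeal) h
      simpa [p', l', emb] using this
    rw [h4]
    exact h3
  refine le_trans ?_ (le_iSup _ (l'.cons p' hp''))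
  simp [l']

end Dim

section NN

variable {k R : Type*} [Field k] [CommRing R] [Algebra k R] (𝒜 : ℤ → Submodule k R)
  [GradedAlgebra 𝒜] (hpos : ∀ n : ℤ, n < 0 → 𝒜 n = ⊥) (h0 : 𝒜 0 = Submodule.span k {(1 : R)})
include hpos h0

theorem exists_avoid [Nontrivial R] [IsNoetherianRing R] {I : Ideal R} (hI : I.IsHomogeneous 𝒜)
    (hirr : irr 𝒜 ∉ I.minimalPrimes) :
    ∃ (z : R) (d : ℕ), 0 < d ∧ z ∈ 𝒜 (d : ℤ) ∧ ∀ P ∈ I.minimalPrimes, z ∉ P := by
  classical
  have hfin : I.minimalPrimes.Finite := Ideal.finite_minimalPrimes_of_isNoetherianRing R I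
  obtain ⟨z, d, hd, hz, -, hzP⟩ := gpaZ 𝒜 ⊤ hfin.toFinset.card hfin.toFinset rfl (by
    intro P hP
    rw [Set.Finite.mem_toFinset] at hP
    have hPprime : P.IsPrime := hP.1.1
    refine ⟨hPprime, ?_⟩
    have hPh := isHomogeneous_of_mem_minimalPrimes 𝒜 hI hP
    have hle : P ≤ irr 𝒜 := le_irr 𝒜 hpos h0 hPh hPprime.ne_top
    have hne : ¬ irr 𝒜 ≤ P := by
      intro h
      have : P = irr 𝒜 := le_antisymm hle h
      exact hirr (this ▸ hP)
    rw [irr, Ideal.span_le, Set.not_subset] at hne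
    obtain ⟨a, ⟨n, hn, ha⟩, haP⟩ := hne
    refine ⟨a, n.toNat, by omega, ?_, trivial, haP⟩
    rwa [Int.toNat_of_nonneg hn.le])
  exact ⟨z, d, hd, hz, fun P hP => hzP P (hfin.mem_toFinset.mpr hP)⟩

theorem ringKrullDim_quotient_le_zero [Nontrivial R] {I : Ideal R} (hI : I.IsHomogeneous 𝒜)
    (hirr : irr 𝒜 ∈ I.minimalPrimes) : ringKrullDim (R ⧸ I) ≤ 0 := by
  rw [ringKrullDim_quotient]
  have hmax := irr_isMaximal 𝒜 hpos h0
  have : Subsingleton (PrimeSpectrum.zeroLocus (R := R) I) := by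
    have key : ∀ q : PrimeSpectrum.zeroLocus (R := R) I, q.1.asIdeal = irr 𝒜 := by
      intro q
      obtain ⟨p, hp, hp'⟩ := Ideal.exists_minimalPrimes_le (I := I) (J := q.1.asIdeal) q.2
      have hph := isHomogeneous_of_mem_minimalPrimes 𝒜 hI hp
      have hle : p ≤ irr 𝒜 := le_irr 𝒜 hpos h0 hph hp.1.1.ne_top
      have hge : irr 𝒜 ≤ p := hirr.2 hp.1 hle
      exact (hmax.eq_of_le q.1.2.ne_top (hge.trans hp')).symm
    refine ⟨fun q q' => ?_⟩
    apply Subtype.ext
    apply PrimeSpectrum.ext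
    rw [key q, key q']
  exact Order.krullDim_nonpos_of_subsingleton

theorem span_range_isHomogeneous {j : ℕ} (x : Fin j → R)
    (hx : ∀ i, ∃ d : ℕ, 0 < d ∧ x i ∈ 𝒜 (d : ℤ)) :
    (Ideal.span (Set.range x)).IsHomogeneous 𝒜 := by
  refine Ideal.homogeneous_span 𝒜 _ ?_
  rintro _ ⟨i, rfl⟩
  obtain ⟨d, -, hd⟩ := hx i
  exact ⟨d, hd⟩

theorem exists_params [Nontrivial R] [IsNoetherianRing R] (r : ℕ) (hr : ringKrullDim R ≤ r) :
    ∀ j : ℕ, j ≤ r → ∃ x : Fin j → R, (∀ i, ∃ d : ℕ, 0 < d ∧ x i ∈ 𝒜 (d : ℤ)) ∧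
      ringKrullDim (R ⧸ Ideal.span (Set.range x)) + (j : WithBot ℕ∞) ≤ (r : WithBot ℕ∞) := by
  intro j
  induction j with
  | zero =>
    intro _
    refine ⟨Fin.elim0, fun i => i.elim0, ?_⟩
    have h1 : Ideal.span (Set.range (Fin.elim0 : Fin 0 → R)) = ⊥ := by
      rw [Set.range_eq_empty, Ideal.span_empty]
    rw [h1, ringKrullDim_eq_of_ringEquiv (RingEquiv.quotientBot R), Nat.cast_zero, add_zero]
    exact hr
  | succ j IH =>
    intro hj
    obtain ⟨x, hx, hdim⟩ := IH (by omega)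
    have hI := span_range_isHomogeneous 𝒜 hpos h0 x hx
    have key : ∃ z : R, (∃ d : ℕ, 0 < d ∧ z ∈ 𝒜 (d : ℤ)) ∧
        ringKrullDim (R ⧸ (Ideal.span {z} ⊔ Ideal.span (Set.range x))) +
          ((j + 1 : ℕ) : WithBot ℕ∞) ≤ (r : WithBot ℕ∞) := by
      by_cases hirr : irr 𝒜 ∈ (Ideal.span (Set.range x)).minimalPrimes
      · refine ⟨0, ⟨1, one_pos, zero_mem _⟩, ?_⟩
        have h1 : Ideal.span {(0 : R)} ⊔ Ideal.span (Set.range x) = Ideal.span (Set.range x) := by
          rw [Ideal.span_singleton_eq_bot.mpr rfl, bot_sup_eq]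
        rw [h1]
        have h2 := ringKrullDim_quotient_le_zero 𝒜 hpos h0 hI hirr
        calc ringKrullDim (R ⧸ Ideal.span (Set.range x)) + ((j + 1 : ℕ) : WithBot ℕ∞)
            ≤ 0 + ((j + 1 : ℕ) : WithBot ℕ∞) := by gcongr
          _ = ((j + 1 : ℕ) : WithBot ℕ∞) := zero_add _
          _ ≤ (r : WithBot ℕ∞) := by exact_mod_cast hj
      · obtain ⟨z, d, hd, hz, hzP⟩ := exists_avoid 𝒜 hpos h0 hI hirr
        refine ⟨z, ⟨d, hd, hz⟩, ?_⟩
        have h1 := ringKrullDim_quotient_succ_le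
          (I := Ideal.span (Set.range x)) (J := Ideal.span {z} ⊔ Ideal.span (Set.range x))
          le_sup_right (x := z) (Ideal.mem_sup_left (Ideal.mem_span_singleton_self z)) hzP
        calc ringKrullDim (R ⧸ (Ideal.span {z} ⊔ Ideal.span (Set.range x))) +
              ((j + 1 : ℕ) : WithBot ℕ∞)
            = (ringKrullDim (R ⧸ (Ideal.span {z} ⊔ Ideal.span (Set.range x))) + 1) +
              (j : WithBot ℕ∞) := by
              rw [Nat.cast_add, Nat.cast_one, add_comm (j : WithBot ℕ∞) 1, add_assoc]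
          _ ≤ ringKrullDim (R ⧸ Ideal.span (Set.range x)) + (j : WithBot ℕ∞) := by gcongr
          _ ≤ (r : WithBot ℕ∞) := hdim
    obtain ⟨z, hz, hzdim⟩ := key
    refine ⟨Fin.cons z x, ?_, ?_⟩
    · intro i
      refine Fin.cases ?_ (fun i => ?_) i
      · simpa using hz
      · simpa using hx i
    · rw [Fin.range_cons, Ideal.span_insert]
      exact hzdim

omit hpos h0 in
theorem finite_quotient_of_dim_le_zero [Algebra.FiniteType k R] (I : Ideal R)
    (h : ringKrullDim (R ⧸ I) ≤ 0) : Module.Finite k (R ⧸ I) := by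
  have : Algebra.FiniteType k (R ⧸ I) :=
    Algebra.FiniteType.of_surjective (Ideal.Quotient.mkₐ k I) (Ideal.Quotient.mkₐ_surjective k I)
  rw [Module.finite_iff_krullDimLE_zero, Ring.krullDimLE_iff]
  exact_mod_cast h

omit h0 in
/-- Graded Nakayama: if `R/(x)` is finite over `k` for homogeneous `x_i` of positive degree, then
`R` is a finite module over `k[x]`. -/
theorem finite_of_finite_quotient {j : ℕ} (x : Fin j → R)
    (hx : ∀ i, ∃ d : ℕ, 0 < d ∧ x i ∈ 𝒜 (d : ℤ))
    (hfin : Module.Finite k (R ⧸ Ideal.span (Set.range x))) :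
    Module.Finite (Algebra.adjoin k (Set.range x)) R := by
  classical
  set I : Ideal R := Ideal.span (Set.range x) with hIdef
  set B : Subalgebra k R := Algebra.adjoin k (Set.range x) with hBdef
  choose d hd hxd using hx
  obtain ⟨S, hS⟩ := hfin.fg_top
  let lift : R ⧸ I → R := Function.surjInv Ideal.Quotient.mk_surjective
  have hlift : ∀ s, Ideal.Quotient.mk I (lift s) = s :=
    Function.surjInv_eq Ideal.Quotient.mk_surjective
  let G : Finset R := S.biUnion (fun s => (decompose 𝒜 (lift s)).support.image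
    (fun n => ((decompose 𝒜 (lift s) n : 𝒜 n) : R)))
  have hGhom : ∀ g ∈ G, ∃ n : ℤ, g ∈ 𝒜 n := by
    intro g hg
    simp only [G, Finset.mem_biUnion, Finset.mem_image] at hg
    obtain ⟨s, -, n, -, rfl⟩ := hg
    exact ⟨n, (decompose 𝒜 (lift s) n).2⟩
  set W : Submodule k R := Submodule.span k (G : Set R) with hW
  set N : Submodule B R := Submodule.span B (G : Set R) with hN
  have hWN : ∀ g ∈ W, g ∈ N := fun g hg =>
    Submodule.span_le_restrictScalars k B (G : Set R) hg
  -- lifts are in `W`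
  have hliftW : ∀ s ∈ S, lift s ∈ W := by
    intro s hs
    rw [← DirectSum.sum_support_decompose 𝒜 (lift s)]
    refine sum_mem (fun n hn => Submodule.subset_span ?_)
    simp only [G, Finset.coe_biUnion, Finset.coe_image, Set.mem_iUnion, Set.mem_image]
    exact ⟨s, hs, n, hn, rfl⟩
  -- every element is congruent to an element of `W`
  have hcong : ∀ a : R, ∃ g ∈ W, a - g ∈ I := by
    intro a
    have h1 : Ideal.Quotient.mk I a ∈ Submodule.span k (S : Set (R ⧸ I)) := by
      rw [hS]; trivial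
    have h2 : Submodule.span k (S : Set (R ⧸ I)) ≤ W.map (Ideal.Quotient.mkₐ k I).toLinearMap := by
      rw [Submodule.span_le]
      intro s hs
      exact ⟨lift s, hliftW s hs, hlift s⟩
    obtain ⟨g, hg, hga⟩ := h2 h1
    refine ⟨g, hg, ?_⟩
    rw [← Ideal.Quotient.eq]
    exact hga.symm
  -- `W` is stable under homogeneous projections
  have hWproj : ∀ (n : ℤ), ∀ g ∈ W, (decompose 𝒜 g n : R) ∈ W := by
    intro n g hg
    have h1 : W.map (GradedAlgebra.proj 𝒜 n) ≤ W := by
      rw [hW, Submodule.map_span_le]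
      intro g hg
      obtain ⟨m, hm⟩ := hGhom g hg
      rw [GradedAlgebra.proj_apply]
      by_cases hmn : m = n
      · subst hmn
        rw [decompose_of_mem_same 𝒜 hm]
        exact Submodule.subset_span hg
      · rw [decompose_of_mem_ne 𝒜 hm hmn]
        exact zero_mem _
    have := h1 ⟨g, hg, rfl⟩
    rwa [GradedAlgebra.proj_apply] at this
  have hxB : ∀ l, x l ∈ B := fun l => Algebra.subset_adjoin ⟨l, rfl⟩
  -- main induction
  have main : ∀ m : ℕ, ∀ n : ℤ, n < m → ∀ a ∈ 𝒜 n, a ∈ N := by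
    intro m
    induction m with
    | zero =>
      intro n hn a ha
      have h2 : a ∈ (⊥ : Submodule k R) := by
        rw [← hpos n (by simpa using hn)]; exact ha
      rw [(Submodule.mem_bot k).mp h2]
      exact zero_mem _
    | succ m IH =>
      intro n hn a ha
      by_cases hnm : n < m
      · exact IH n hnm a ha
      obtain ⟨g, hg, hag⟩ := hcong a
      obtain ⟨c, hc⟩ := (Ideal.mem_span_range_iff_exists_fun).mp hag
      have ha' : a = g + ∑ l, c l * x l := by rw [hc]; ring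
      have h3 : a = (decompose 𝒜 g n : R) + ∑ l, (decompose 𝒜 (c l * x l) n : R) := by
        conv_lhs => rw [← decompose_of_mem_same 𝒜 ha, ha']
        rw [decompose_add, DirectSum.add_apply, Submodule.coe_add, decompose_sum,
          DFinsupp.finsetSum_apply, AddSubmonoidClass.coe_finsetSum]
      rw [h3]
      refine add_mem (hWN _ (hWproj n g hg)) (sum_mem (fun l _ => ?_))
      have h4 := DirectSum.coe_decompose_mul_add_of_right_mem 𝒜 (i := n - d l) (a := c l) (hxd l)
      rw [sub_add_cancel] at h4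
      rw [h4]
      have h5 : (decompose 𝒜 (c l) (n - d l) : R) ∈ N :=
        IH (n - d l) (by have := hd l; push_cast at hn; omega) _ (decompose 𝒜 (c l) (n - d l)).2
      have h6 := N.smul_mem (⟨x l, hxB l⟩ : B) h5
      rw [mul_comm]
      exact h6
  refine ⟨⟨G, ?_⟩⟩
  rw [eq_top_iff]
  intro a _
  rw [← DirectSum.sum_support_decompose 𝒜 a]
  refine sum_mem (fun n _ => ?_)
  exact main (n.toNat + 1) n (by push_cast; omega) _ (decompose 𝒜 a n).2

omit hpos h0 in
/-- Raising generators to positive powers does not change the dimension of the quotient. -/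
theorem ringKrullDim_quotient_span_pow {j : ℕ} (x : Fin j → R) (m : Fin j → ℕ)
    (hm : ∀ i, 0 < m i) :
    ringKrullDim (R ⧸ Ideal.span (Set.range fun i => x i ^ m i)) =
      ringKrullDim (R ⧸ Ideal.span (Set.range x)) := by
  rw [ringKrullDim_quotient, ringKrullDim_quotient]
  have : PrimeSpectrum.zeroLocus (R := R) (Ideal.span (Set.range fun i => x i ^ m i)) =
      PrimeSpectrum.zeroLocus (R := R) (Ideal.span (Set.range x)) := by
    ext P
    simp only [PrimeSpectrum.zeroLocus_span, PrimeSpectrum.mem_zeroLocus, Set.range_subset_iff,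
      SetLike.mem_coe]
    refine forall_congr' (fun i => ?_)
    exact ⟨fun h => P.2.mem_of_pow_mem _ h, fun h => Ideal.pow_mem_of_mem _ h _ (hm i)⟩
  rw [this]

omit hpos h0 in
theorem le_zero_of_add_le (a : WithBot ℕ∞) (r : ℕ)
    (h : a + (r : WithBot ℕ∞) ≤ (r : WithBot ℕ∞)) : a ≤ 0 := by
  induction a using WithBot.recBotCoe with
  | bot => exact bot_le
  | coe e =>
    induction e using ENat.recTopCoe with
    | top =>
      exfalso
      have h1 : ((⊤ : ℕ∞) : WithBot ℕ∞) + (r : WithBot ℕ∞) = ((⊤ : ℕ∞) : WithBot ℕ∞) := by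
        rw [show (r : WithBot ℕ∞) = ((r : ℕ∞) : WithBot ℕ∞) from rfl, ← WithBot.coe_add, top_add]
      rw [h1] at h
      have h2 : ((⊤ : ℕ∞)) ≤ (r : ℕ∞) := by exact_mod_cast h
      simp at h2
    | coe n =>
      have h1 : n + r ≤ r := by exact_mod_cast h
      have h2 : n ≤ 0 := by omega
      exact_mod_cast h2

/-- **Graded Noether normalization** (finiteness part): there is `D₀ > 0` such that for every
`e > 0` there are `r` homogeneous elements of degree `e * D₀` over which `R` is finite. -/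
theorem exists_hsop [Nontrivial R] [Algebra.FiniteType k R] (r : ℕ) (hr : ringKrullDim R ≤ r) :
    ∃ D₀ : ℕ, 0 < D₀ ∧ ∀ e : ℕ, 0 < e → ∃ x : Fin r → R,
      (∀ i, x i ∈ 𝒜 ((e * D₀ : ℕ) : ℤ)) ∧ Module.Finite (Algebra.adjoin k (Set.range x)) R := by
  have : IsNoetherianRing R := Algebra.FiniteType.isNoetherianRing k R
  obtain ⟨x, hx, hdim⟩ := exists_params 𝒜 hpos h0 r hr r le_rfl
  have hdim0 := le_zero_of_add_le _ r hdim
  choose d hd hxd using hx
  refine ⟨∏ i, d i, Finset.prod_pos (fun i _ => hd i), ?_⟩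
  intro e he
  have hdvd : ∀ i, d i ∣ ∏ i, d i := fun i => Finset.dvd_prod_of_mem d (Finset.mem_univ i)
  have hm : ∀ i, 0 < e * ((∏ i, d i) / d i) := fun i =>
    Nat.mul_pos he (Nat.div_pos (Nat.le_of_dvd (Finset.prod_pos (fun i _ => hd i)) (hdvd i)) (hd i))
  refine ⟨fun i => x i ^ (e * ((∏ i, d i) / d i)), ?_, ?_⟩
  · intro i
    have h1 := pow_mem_cast 𝒜 (hxd i) (e * ((∏ i, d i) / d i))
    rwa [mul_assoc, Nat.div_mul_cancel (hdvd i)] at h1
  · have hdim' : ringKrullDim (R ⧸ Ideal.span (Set.range fun i => x i ^ (e * ((∏ i, d i) / d i))))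
        ≤ 0 := by
      rw [ringKrullDim_quotient_span_pow x _ hm]; exact hdim0
    have hfin := finite_quotient_of_dim_le_zero (k := k) _ hdim'
    refine finite_of_finite_quotient 𝒜 hpos _ (fun i => ?_) hfin
    refine ⟨(e * ((∏ i, d i) / d i)) * d i, Nat.mul_pos (hm i) (hd i), ?_⟩
    exact pow_mem_cast 𝒜 (hxd i) _

end NN

section Indep

variable {k R : Type*} [Field k] [CommRing R] [Algebra k R]

/-- If `R` is finite over `k[x_1, …, x_r]` and `dim R = r`, the `x_i` are algebraically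
independent. -/
theorem algebraicIndependent_of_finite (r : ℕ) (x : Fin r → R)
    (hfin : Module.Finite (Algebra.adjoin k (Set.range x)) R) (hdim : ringKrullDim R = r) :
    AlgebraicIndependent k x := by
  have hint : Algebra.IsIntegral (Algebra.adjoin k (Set.range x)) R := inferInstance
  have hB : ringKrullDim (Algebra.adjoin k (Set.range x)) = r := by
    rw [← hdim]
    exact Groth.Agent.Lib.FTDim.ringKrullDim_eq_of_isIntegral_of_injective
      (R := Algebra.adjoin k (Set.range x)) (S := R) Subtype.val_injective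
  rw [Algebra.adjoin_range_eq_range_aeval] at hB
  rw [algebraicIndependent_iff_injective_aeval, injective_iff_map_eq_zero]
  intro f hf
  by_contra hne
  have hnzd : f ∈ nonZeroDivisors (MvPolynomial (Fin r) k) := mem_nonZeroDivisors_of_ne_zero hne
  have h1 := ringKrullDim_succ_le_of_surjective
    (MvPolynomial.aeval x : MvPolynomial (Fin r) k →ₐ[k] R).rangeRestrict.toRingHom
    (AlgHom.rangeRestrict_surjective _) hnzd (by
      apply Subtype.ext
      simpa using hf)
  rw [hB, Groth.Agent.Lib.FTDim.ringKrullDim_mvPolynomial] at h1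
  have h2 : r + 1 ≤ r := by exact_mod_cast h1
  omega

end Indep

end Groth.Agent.Lib.GrNoether20
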