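/-
helper20: graded Noether normalization relative to a finitely generated graded module
(homogeneous systems of parameters for modules), for `ℤ`-graded `k`-algebras `R` with
`R_n = 0` for `n < 0` and `R_0 = k`, graded by `k`-subspaces, and modules graded by additive
subgroups.
-/
import Mathlib
import Groth.Agent.Lib.GrNoether20

set_option autoImplicit false
set_option linter.unusedSectionVars false
set_option linter.style.haveILetI false

namespace Groth.Agent.Lib.GrNoetherMod20

open DirectSum Groth.Agent.Lib.GrNoether20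

section Basic

variable {k R : Type*} [Field k] [CommRing R] [Algebra k R] (𝒜 : ℤ → Submodule k R)
  [GradedAlgebra 𝒜]
variable {M : Type*} [AddCommGroup M] [Module R M] (ℳ : ℤ → AddSubgroup M) [Decomposition ℳ]
  [SetLike.GradedSMul 𝒜 ℳ]

theorem smul_mem_add {i j : ℤ} {r : R} {x : M} (hr : r ∈ 𝒜 i) (hx : x ∈ ℳ j) :
    r • x ∈ ℳ (i + j) := by
  have := SetLike.GradedSMul.smul_mem (A := 𝒜) (B := ℳ) hr hx
  rwa [vadd_eq_add] at this

/-- Components of `r • y` for a homogeneous element `y`. -/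
theorem decompose_smul_of_mem_right {j : ℤ} {y : M} (hy : y ∈ ℳ j) (r : R) (h : ℤ) :
    (decompose ℳ (r • y) (h + j) : M) = (decompose 𝒜 r h : R) • y := by
  induction r using Decomposition.inductionOn 𝒜 with
  | zero => simp
  | @homogeneous i r =>
    have hry : (r : R) • y ∈ ℳ (i + j) := smul_mem_add 𝒜 ℳ r.2 hy
    by_cases hih : i = h
    · subst hih
      rw [decompose_of_mem_same ℳ hry, decompose_of_mem_same 𝒜 r.2]
    · have hne : i + j ≠ h + j := fun hh => hih (add_right_cancel hh)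
      rw [decompose_of_mem_ne ℳ hry hne, decompose_of_mem_ne 𝒜 r.2 hih, zero_smul]
  | add r r' hr hr' =>
    rw [add_smul, decompose_add, decompose_add, DirectSum.add_apply, DirectSum.add_apply,
      AddSubgroup.coe_add, Submodule.coe_add, add_smul, hr, hr']

include ℳ in
/-- The annihilator of a graded module is a homogeneous ideal. -/
theorem annihilator_isHomogeneous : (Module.annihilator R M).IsHomogeneous 𝒜 := by
  intro i r hr
  rw [Module.mem_annihilator] at hr ⊢
  intro m
  induction m using Decomposition.inductionOn ℳ with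
  | zero => rw [smul_zero]
  | @homogeneous g m =>
    rw [← decompose_smul_of_mem_right 𝒜 ℳ m.2, hr, decompose_zero, DirectSum.zero_apply,
      ZeroMemClass.coe_zero]
  | add m m' h h' => rw [smul_add, h, h', add_zero]

end Basic

section NN

variable {k R : Type*} [Field k] [CommRing R] [Algebra k R] (𝒜 : ℤ → Submodule k R)
  [GradedAlgebra 𝒜] (hpos : ∀ n : ℤ, n < 0 → 𝒜 n = ⊥) (h0 : 𝒜 0 = Submodule.span k {(1 : R)})
include hpos h0

/-- Relative version of `GrNoether20.exists_params`: homogeneous parameters modulo a homogeneous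
ideal `I₀`. -/
theorem exists_params_rel [Nontrivial R] [IsNoetherianRing R] {I₀ : Ideal R}
    (hI₀ : I₀.IsHomogeneous 𝒜) (r : ℕ) (hr : ringKrullDim (R ⧸ I₀) ≤ r) :
    ∀ j : ℕ, j ≤ r → ∃ x : Fin j → R, (∀ i, ∃ d : ℕ, 0 < d ∧ x i ∈ 𝒜 (d : ℤ)) ∧
      ringKrullDim (R ⧸ (I₀ ⊔ Ideal.span (Set.range x))) + (j : WithBot ℕ∞) ≤
        (r : WithBot ℕ∞) := by
  intro j
  induction j with
  | zero =>
    intro _
    refine ⟨Fin.elim0, fun i => i.elim0, ?_⟩
    have h1 : Ideal.span (Set.range (Fin.elim0 : Fin 0 → R)) = ⊥ := by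
      rw [Set.range_eq_empty, Ideal.span_empty]
    rw [h1, sup_bot_eq, Nat.cast_zero, add_zero]
    exact hr
  | succ j IH =>
    intro hj
    obtain ⟨x, hx, hdim⟩ := IH (by omega)
    have hI : (I₀ ⊔ Ideal.span (Set.range x)).IsHomogeneous 𝒜 :=
      hI₀.sup (span_range_isHomogeneous 𝒜 hpos h0 x hx)
    have key : ∃ z : R, (∃ d : ℕ, 0 < d ∧ z ∈ 𝒜 (d : ℤ)) ∧
        ringKrullDim (R ⧸ (Ideal.span {z} ⊔ (I₀ ⊔ Ideal.span (Set.range x)))) +
          ((j + 1 : ℕ) : WithBot ℕ∞) ≤ (r : WithBot ℕ∞) := by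
      by_cases hirr : irr 𝒜 ∈ (I₀ ⊔ Ideal.span (Set.range x)).minimalPrimes
      · refine ⟨0, ⟨1, one_pos, zero_mem _⟩, ?_⟩
        have h1 : Ideal.span {(0 : R)} ⊔ (I₀ ⊔ Ideal.span (Set.range x)) =
            I₀ ⊔ Ideal.span (Set.range x) := by
          rw [Ideal.span_singleton_eq_bot.mpr rfl, bot_sup_eq]
        rw [h1]
        have h2 := ringKrullDim_quotient_le_zero 𝒜 hpos h0 hI hirr
        calc ringKrullDim (R ⧸ (I₀ ⊔ Ideal.span (Set.range x))) + ((j + 1 : ℕ) : WithBot ℕ∞)
            ≤ 0 + ((j + 1 : ℕ) : WithBot ℕ∞) := by gcongr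
          _ = ((j + 1 : ℕ) : WithBot ℕ∞) := zero_add _
          _ ≤ (r : WithBot ℕ∞) := by exact_mod_cast hj
      · obtain ⟨z, d, hd, hz, hzP⟩ := exists_avoid 𝒜 hpos h0 hI hirr
        refine ⟨z, ⟨d, hd, hz⟩, ?_⟩
        have h1 := ringKrullDim_quotient_succ_le
          (I := I₀ ⊔ Ideal.span (Set.range x))
          (J := Ideal.span {z} ⊔ (I₀ ⊔ Ideal.span (Set.range x)))
          le_sup_right (x := z) (Ideal.mem_sup_left (Ideal.mem_span_singleton_self z)) hzP
        calc ringKrullDim (R ⧸ (Ideal.span {z} ⊔ (I₀ ⊔ Ideal.span (Set.range x)))) +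
              ((j + 1 : ℕ) : WithBot ℕ∞)
            = (ringKrullDim (R ⧸ (Ideal.span {z} ⊔ (I₀ ⊔ Ideal.span (Set.range x)))) + 1) +
              (j : WithBot ℕ∞) := by
              rw [Nat.cast_add, Nat.cast_one, add_comm (j : WithBot ℕ∞) 1, add_assoc]
          _ ≤ ringKrullDim (R ⧸ (I₀ ⊔ Ideal.span (Set.range x))) + (j : WithBot ℕ∞) := by gcongr
          _ ≤ (r : WithBot ℕ∞) := hdim
    obtain ⟨z, hz, hzdim⟩ := key
    refine ⟨Fin.cons z x, ?_, ?_⟩
    · intro i
      refine Fin.cases ?_ (fun i => ?_) i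
      · simpa using hz
      · simpa using hx i
    · rw [Fin.range_cons, Ideal.span_insert, sup_left_comm]
      exact hzdim

omit hpos h0 in
/-- Raising generators to positive powers does not change the dimension of the quotient. -/
theorem ringKrullDim_quotient_sup_span_pow (I₀ : Ideal R) {j : ℕ} (x : Fin j → R) (m : Fin j → ℕ)
    (hm : ∀ i, 0 < m i) :
    ringKrullDim (R ⧸ (I₀ ⊔ Ideal.span (Set.range fun i => x i ^ m i))) =
      ringKrullDim (R ⧸ (I₀ ⊔ Ideal.span (Set.range x))) := by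
  rw [ringKrullDim_quotient, ringKrullDim_quotient]
  have : PrimeSpectrum.zeroLocus (R := R) ((I₀ ⊔ Ideal.span (Set.range fun i => x i ^ m i) :
      Ideal R) : Set R) =
      PrimeSpectrum.zeroLocus (R := R) ((I₀ ⊔ Ideal.span (Set.range x) : Ideal R) : Set R) := by
    ext P
    simp only [PrimeSpectrum.mem_zeroLocus, SetLike.coe_subset_coe, sup_le_iff, Ideal.span_le,
      Set.range_subset_iff, SetLike.mem_coe]
    refine and_congr Iff.rfl (forall_congr' (fun i => ?_))
    exact ⟨fun h => P.2.mem_of_pow_mem _ h, fun h => Ideal.pow_mem_of_mem _ h _ (hm i)⟩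
  rw [this]

end NN

section Nakayama

variable {k R : Type*} [Field k] [CommRing R] [Algebra k R] (𝒜 : ℤ → Submodule k R)
  [GradedAlgebra 𝒜] (hpos : ∀ n : ℤ, n < 0 → 𝒜 n = ⊥)
variable {M : Type*} [AddCommGroup M] [Module R M] (ℳ : ℤ → AddSubgroup M) [Decomposition ℳ]
  [SetLike.GradedSMul 𝒜 ℳ]
include hpos ℳ

/-- Graded Nakayama for modules: if `R/(ann M + (x))` is finite over `k` for homogeneous `x_i` of
positive degree, then the finite `R`-module `M` is a finite module over `k[x]`. -/
theorem finite_of_finite_quotient_mod [Module.Finite R M] {j : ℕ} (x : Fin j → R)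
    (hx : ∀ i, ∃ d : ℕ, 0 < d ∧ x i ∈ 𝒜 (d : ℤ))
    (hfin : Module.Finite k (R ⧸ (Module.annihilator R M ⊔ Ideal.span (Set.range x)))) :
    Module.Finite (Algebra.adjoin k (Set.range x)) M := by
  classical
  set I₀ : Ideal R := Module.annihilator R M with hI₀def
  have hI₀ : I₀.IsHomogeneous 𝒜 := annihilator_isHomogeneous 𝒜 ℳ
  set I : Ideal R := Ideal.span (Set.range x) with hIdef
  set J : Ideal R := I₀ ⊔ I with hJdef
  set B : Subalgebra k R := Algebra.adjoin k (Set.range x) with hBdef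
  choose d hd hxd using hx
  obtain ⟨S, hS⟩ := hfin.fg_top
  let lift : R ⧸ J → R := Function.surjInv Ideal.Quotient.mk_surjective
  have hlift : ∀ s, Ideal.Quotient.mk J (lift s) = s :=
    Function.surjInv_eq Ideal.Quotient.mk_surjective
  let G : Finset R := S.biUnion (fun s => (decompose 𝒜 (lift s)).support.image
    (fun n => ((decompose 𝒜 (lift s) n : 𝒜 n) : R)))
  have hGhom : ∀ g ∈ G, ∃ n : ℤ, g ∈ 𝒜 n := by
    intro g hg
    simp only [G, Finset.mem_biUnion, Finset.mem_image] at hg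
    obtain ⟨s, -, n, -, rfl⟩ := hg
    exact ⟨n, (decompose 𝒜 (lift s) n).2⟩
  set W : Submodule k R := Submodule.span k (G : Set R) with hW
  obtain ⟨Γ, hΓ⟩ := (Module.Finite.fg_top : (⊤ : Submodule R M).FG)
  set N : Submodule B M := Submodule.span B
    ((Finset.image₂ (fun (w : R) (g : M) => w • g) G Γ : Finset M) : Set M) with hN
  -- lifts are in `W`
  have hliftW : ∀ s ∈ S, lift s ∈ W := by
    intro s hs
    rw [← DirectSum.sum_support_decompose 𝒜 (lift s)]
    refine sum_mem (fun n hn => Submodule.subset_span ?_)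
    simp only [G, Finset.coe_biUnion, Finset.coe_image, Set.mem_iUnion, Set.mem_image]
    exact ⟨s, hs, n, hn, rfl⟩
  -- every element is congruent to an element of `W`
  have hcong : ∀ a : R, ∃ g ∈ W, a - g ∈ J := by
    intro a
    have h1 : Ideal.Quotient.mk J a ∈ Submodule.span k (S : Set (R ⧸ J)) := by
      rw [hS]; trivial
    have h2 : Submodule.span k (S : Set (R ⧸ J)) ≤ W.map (Ideal.Quotient.mkₐ k J).toLinearMap := by
      rw [Submodule.span_le]
      intro s hs
      exact ⟨lift s, hliftW s hs, hlift s⟩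
    obtain ⟨g, hg, hga⟩ := h2 h1
    refine ⟨g, hg, ?_⟩
    rw [← Ideal.Quotient.eq]
    exact hga.symm
  -- `W` is stable under homogeneous projections
  have hWproj : ∀ (n : ℤ), ∀ g ∈ W, (decompose 𝒜 g n : R) ∈ W := by
    intro n g hg
    have h1 : W.map (GradedAlgebra.proj 𝒜 n) ≤ W := by
      rw [hW, Submodule.map_span_le]
      intro g hg
      obtain ⟨m, hm⟩ := hGhom g hg
      rw [GradedAlgebra.proj_apply]
      by_cases hmn : m = n
      · subst hmn
        rw [decompose_of_mem_same 𝒜 hm]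
        exact Submodule.subset_span hg
      · rw [decompose_of_mem_ne 𝒜 hm hmn]
        exact zero_mem _
    have := h1 ⟨g, hg, rfl⟩
    rwa [GradedAlgebra.proj_apply] at this
  have hxB : ∀ l, x l ∈ B := fun l => Algebra.subset_adjoin ⟨l, rfl⟩
  -- `W • Γ ⊆ N`
  have hWΓ : ∀ w ∈ W, ∀ g ∈ Γ, w • g ∈ N := by
    intro w hw g hg
    induction hw using Submodule.span_induction with
    | mem w hw =>
      refine Submodule.subset_span ?_
      rw [Finset.coe_image₂]
      exact ⟨w, hw, g, hg, rfl⟩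
    | zero => rw [zero_smul]; exact zero_mem _
    | add w w' _ _ hw hw' => rw [add_smul]; exact add_mem hw hw'
    | smul c w _ hw =>
      have h1 : (c • w) • g = (algebraMap k B c) • (w • g) := by
        rw [Algebra.smul_def, mul_smul]
        rfl
      rw [h1]
      exact N.smul_mem _ hw
  -- main induction
  have main : ∀ m : ℕ, ∀ n : ℤ, n < m → ∀ a ∈ 𝒜 n, ∀ g ∈ Γ, a • g ∈ N := by
    intro m
    induction m with
    | zero =>
      intro n hn a ha g _
      have h2 : a ∈ (⊥ : Submodule k R) := by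
        rw [← hpos n (by simpa using hn)]; exact ha
      rw [(Submodule.mem_bot k).mp h2, zero_smul]
      exact zero_mem _
    | succ m IH =>
      intro n hn a ha g hg
      by_cases hnm : n < m
      · exact IH n hnm a ha g hg
      obtain ⟨w, hw, haw⟩ := hcong a
      obtain ⟨a₀, ha₀, b, hb, hab⟩ := Submodule.mem_sup.mp haw
      obtain ⟨c, hc⟩ := (Ideal.mem_span_range_iff_exists_fun).mp hb
      have ha' : a = w + a₀ + ∑ l, c l * x l := by rw [hc, add_assoc, hab]; ring
      have h3 : a = (decompose 𝒜 w n : R) + (decompose 𝒜 a₀ n : R) +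
          ∑ l, (decompose 𝒜 (c l * x l) n : R) := by
        conv_lhs => rw [← decompose_of_mem_same 𝒜 ha, ha']
        rw [decompose_add, decompose_add, DirectSum.add_apply, DirectSum.add_apply,
          Submodule.coe_add, Submodule.coe_add, decompose_sum,
          DFinsupp.finsetSum_apply, AddSubmonoidClass.coe_finsetSum]
      rw [h3, add_smul, add_smul, Finset.sum_smul]
      have h7 : (decompose 𝒜 a₀ n : R) • g = 0 :=
        Module.mem_annihilator.mp (hI₀ n ha₀) g
      rw [h7, add_zero]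
      refine add_mem (hWΓ _ (hWproj n w hw) g hg) (sum_mem (fun l _ => ?_))
      have h4 := DirectSum.coe_decompose_mul_add_of_right_mem 𝒜 (i := n - d l) (a := c l) (hxd l)
      rw [sub_add_cancel] at h4
      rw [h4]
      have h5 : (decompose 𝒜 (c l) (n - d l) : R) • g ∈ N :=
        IH (n - d l) (by have := hd l; push_cast at hn; omega) _
          (decompose 𝒜 (c l) (n - d l)).2 g hg
      have h6 := N.smul_mem (⟨x l, hxB l⟩ : B) h5
      rw [mul_comm, mul_smul]
      exact h6
  have hall : ∀ a : R, ∀ g ∈ Γ, a • g ∈ N := by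
    intro a g hg
    rw [← DirectSum.sum_support_decompose 𝒜 a, Finset.sum_smul]
    refine sum_mem (fun n _ => ?_)
    exact main (n.toNat + 1) n (by push_cast; omega) _ (decompose 𝒜 a n).2 g hg
  refine ⟨⟨Finset.image₂ (fun (w : R) (g : M) => w • g) G Γ, ?_⟩⟩
  rw [eq_top_iff]
  intro m' _
  have hm' : m' ∈ Submodule.span R (Γ : Set M) := by rw [hΓ]; trivial
  obtain ⟨f, -, rfl⟩ := Submodule.mem_span_finset.mp hm'
  exact sum_mem (fun g hg => hall (f g) g hg)

end Nakayama

section Hsop

variable {k R : Type*} [Field k] [CommRing R] [Algebra k R] (𝒜 : ℤ → Submodule k R)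
  [GradedAlgebra 𝒜] (hpos : ∀ n : ℤ, n < 0 → 𝒜 n = ⊥) (h0 : 𝒜 0 = Submodule.span k {(1 : R)})
variable {M : Type*} [AddCommGroup M] [Module R M] (ℳ : ℤ → AddSubgroup M) [Decomposition ℳ]
  [SetLike.GradedSMul 𝒜 ℳ]
include hpos h0 ℳ

/-- **Graded Noether normalization for modules** (finiteness part): if `dim M ≤ r`, there is
`D₀ > 0` such that for every `e > 0` there are `r` homogeneous elements of degree `e * D₀` such
that `M` is finite over the `k`-algebra they generate. -/
theorem exists_hsop_mod [Nontrivial R] [Algebra.FiniteType k R] [Module.Finite R M] (r : ℕ)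
    (hr : Module.supportDim R M ≤ r) :
    ∃ D₀ : ℕ, 0 < D₀ ∧ ∀ e : ℕ, 0 < e → ∃ x : Fin r → R,
      (∀ i, x i ∈ 𝒜 ((e * D₀ : ℕ) : ℤ)) ∧ Module.Finite (Algebra.adjoin k (Set.range x)) M := by
  have : IsNoetherianRing R := Algebra.FiniteType.isNoetherianRing k R
  have hI₀ : (Module.annihilator R M).IsHomogeneous 𝒜 := annihilator_isHomogeneous 𝒜 ℳ
  rw [Module.supportDim_eq_ringKrullDim_quotient_annihilator] at hr
  obtain ⟨x, hx, hdim⟩ := exists_params_rel 𝒜 hpos h0 hI₀ r hr r le_rfl
  have hdim0 := le_zero_of_add_le _ r hdim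
  choose d hd hxd using hx
  refine ⟨∏ i, d i, Finset.prod_pos (fun i _ => hd i), ?_⟩
  intro e he
  have hdvd : ∀ i, d i ∣ ∏ i, d i := fun i => Finset.dvd_prod_of_mem d (Finset.mem_univ i)
  have hm : ∀ i, 0 < e * ((∏ i, d i) / d i) := fun i =>
    Nat.mul_pos he (Nat.div_pos (Nat.le_of_dvd (Finset.prod_pos (fun i _ => hd i)) (hdvd i)) (hd i))
  refine ⟨fun i => x i ^ (e * ((∏ i, d i) / d i)), ?_, ?_⟩
  · intro i
    have h1 := pow_mem_cast 𝒜 (hxd i) (e * ((∏ i, d i) / d i))
    rwa [mul_assoc, Nat.div_mul_cancel (hdvd i)] at h1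
  · have hdim' : ringKrullDim (R ⧸ (Module.annihilator R M ⊔
        Ideal.span (Set.range fun i => x i ^ (e * ((∏ i, d i) / d i))))) ≤ 0 := by
      rw [ringKrullDim_quotient_sup_span_pow _ x _ hm]; exact hdim0
    have hfin := finite_quotient_of_dim_le_zero (k := k) _ hdim'
    refine finite_of_finite_quotient_mod 𝒜 hpos ℳ _ (fun i => ?_) hfin
    refine ⟨(e * ((∏ i, d i) / d i)) * d i, Nat.mul_pos (hm i) (hd i), ?_⟩
    exact pow_mem_cast 𝒜 (hxd i) _

end Hsop

end Groth.Agent.Lib.GrNoetherMod20
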