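/-
helper20: a finitely generated graded Cohen–Macaulay module `M` of dimension `r` over a graded
`k`-algebra of finite type is torsion free over `k[x_1, …, x_r]` for any homogeneous system of
parameters `x` (on homogeneous elements); integrality and dimension facts for modules finite over
a subalgebra.
-/
import Mathlib
import Groth.Agent.Lib.GrNoetherMod20
import Groth.Agent.Lib.H8Fin
import Groth.Agent.Lib.H8CM

set_option autoImplicit false
set_option linter.unusedSectionVars false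
set_option linter.style.haveILetI false

universe u

namespace Groth.Agent.Lib.GrCMTorsion20

open DirectSum Groth.Agent.Lib.GrNoether20 Groth.Agent.Lib.GrNoetherMod20

section Integral

variable {k : Type u} [Field k] {R : Type u} [CommRing R] [Algebra k R]
  {M : Type u} [AddCommGroup M] [Module R M]
variable {r : ℕ} (x : Fin r → R)

theorem aeval_mem_adjoin (p : MvPolynomial (Fin r) k) :
    MvPolynomial.aeval x p ∈ Algebra.adjoin k (Set.range x) := by
  rw [Algebra.adjoin_range_eq_range_aeval]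
  exact ⟨p, rfl⟩

/-- the surjection `k[X_1..X_r] → k[x_1..x_r]` -/
noncomputable def piAdjoin : MvPolynomial (Fin r) k →ₐ[k] Algebra.adjoin k (Set.range x) :=
  (MvPolynomial.aeval x).codRestrict _ (aeval_mem_adjoin x)

theorem piAdjoin_surjective : Function.Surjective (piAdjoin (k := k) x) := by
  intro b
  have hb : (b : R) ∈ (MvPolynomial.aeval x : MvPolynomial (Fin r) k →ₐ[k] R).range := by
    rw [← Algebra.adjoin_range_eq_range_aeval]
    exact b.2
  obtain ⟨p, hp⟩ := hb
  exact ⟨p, Subtype.ext hp⟩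

theorem coe_piAdjoin (p : MvPolynomial (Fin r) k) :
    ((piAdjoin (k := k) x p : Algebra.adjoin k (Set.range x)) : R) = MvPolynomial.aeval x p := rfl

/-- a quotient of `k[x_1..x_r]` by an ideal containing the image of a nonzero polynomial has
dimension `< r` -/
theorem ringKrullDim_quotient_adjoin_succ_le (𝔞 : Ideal (Algebra.adjoin k (Set.range x)))
    {f : MvPolynomial (Fin r) k} (hf : f ≠ 0) (hfa : piAdjoin x f ∈ 𝔞) :
    ringKrullDim (Algebra.adjoin k (Set.range x) ⧸ 𝔞) + 1 ≤ (r : WithBot ℕ∞) := by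
  have hnzd : f ∈ nonZeroDivisors (MvPolynomial (Fin r) k) := mem_nonZeroDivisors_of_ne_zero hf
  have h1 := ringKrullDim_succ_le_of_surjective
    ((Ideal.Quotient.mk 𝔞).comp (piAdjoin (k := k) x).toRingHom)
    (Ideal.Quotient.mk_surjective.comp (piAdjoin_surjective x)) hnzd (by
      simpa [Ideal.Quotient.eq_zero_iff_mem] using hfa)
  rwa [Groth.Agent.Lib.FTDim.ringKrullDim_mvPolynomial] at h1

variable [hfin : Module.Finite (Algebra.adjoin k (Set.range x)) M]

include hfin in
theorem isIntegral_quotient (𝔭 : Ideal R) (h : Module.annihilator R M ≤ 𝔭) :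
    Algebra.IsIntegral (Algebra.adjoin k (Set.range x)) (R ⧸ 𝔭) := by
  have h1 := Groth.Agent.Lib.H8Fin.isIntegral_quotient_annihilator
    (Algebra.adjoin k (Set.range x)) R M
  constructor
  intro q
  obtain ⟨a, rfl⟩ := Ideal.Quotient.mk_surjective q
  have h2 := h1.isIntegral (Ideal.Quotient.mk (Module.annihilator R M) a)
  have h3 := h2.map (Ideal.Quotient.factorₐ (Algebra.adjoin k (Set.range x)) h)
  simpa using h3

include hfin in
theorem ringKrullDim_quotient_eq (𝔭 : Ideal R) (h : Module.annihilator R M ≤ 𝔭) :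
    ringKrullDim (R ⧸ 𝔭) = ringKrullDim (Algebra.adjoin k (Set.range x) ⧸
      𝔭.comap (algebraMap (Algebra.adjoin k (Set.range x)) R)) := by
  haveI := isIntegral_quotient (k := k) (M := M) x 𝔭 h
  haveI : Algebra.IsIntegral (Algebra.adjoin k (Set.range x) ⧸
      𝔭.comap (algebraMap (Algebra.adjoin k (Set.range x)) R)) (R ⧸ 𝔭) :=
    Algebra.IsIntegral.tower_top (R := Algebra.adjoin k (Set.range x))
  exact (Groth.Agent.Lib.FTDim.ringKrullDim_eq_of_isIntegral_of_injective
    (Ideal.algebraMap_quotient_injective)).symm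

include hfin in
/-- If `M` is finite over `k[x_1..x_r]` and `dim M = r`, then a prime containing `ann M` and a
nonzero element of `k[x]` has `dim R/𝔭 < r`. -/
theorem ringKrullDim_quotient_succ_le (𝔭 : Ideal R) (h : Module.annihilator R M ≤ 𝔭)
    {a : R} (haB : a ∈ Algebra.adjoin k (Set.range x)) (ha0 : a ≠ 0) (hap : a ∈ 𝔭) :
    ringKrullDim (R ⧸ 𝔭) + 1 ≤ (r : WithBot ℕ∞) := by
  rw [ringKrullDim_quotient_eq (k := k) (M := M) x 𝔭 h]
  obtain ⟨f, hf⟩ := piAdjoin_surjective (k := k) x ⟨a, haB⟩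
  refine ringKrullDim_quotient_adjoin_succ_le x _ (f := f) ?_ ?_
  · rintro rfl
    rw [map_zero] at hf
    exact ha0 (congrArg Subtype.val hf).symm
  · rw [hf, Ideal.mem_comap]
    exact hap

include hfin in
/-- If `M` is finite over `k[x_1..x_r]` and `dim M = r`, then the `x_i` are algebraically
independent. -/
theorem algebraicIndependent_of_finite_mod (hdim : Module.supportDim R M = r) :
    AlgebraicIndependent k x := by
  haveI : Module.Finite R M :=
    Module.Finite.of_restrictScalars_finite (Algebra.adjoin k (Set.range x)) R M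
  rw [Module.supportDim_eq_ringKrullDim_quotient_annihilator,
    ringKrullDim_quotient_eq (k := k) (M := M) x _ le_rfl] at hdim
  rw [algebraicIndependent_iff_injective_aeval, injective_iff_map_eq_zero]
  intro f hf
  by_contra hne
  have h1 := ringKrullDim_quotient_adjoin_succ_le x
    ((Module.annihilator R M).comap (algebraMap (Algebra.adjoin k (Set.range x)) R)) hne (by
      have : piAdjoin (k := k) x f = 0 := Subtype.ext hf
      rw [this]
      exact zero_mem _)
  rw [hdim] at h1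
  have h2 : r + 1 ≤ r := by exact_mod_cast h1
  omega

end Integral

section Loc

variable {R : Type u} [CommRing R]

/-- `dim R_𝔪/𝔓 ≤ dim R/(𝔓 ∩ R)` -/
theorem ringKrullDim_quotient_localization_le (𝔪 : Ideal R) [𝔪.IsPrime]
    (𝔓 : Ideal (Localization.AtPrime 𝔪)) :
    ringKrullDim (Localization.AtPrime 𝔪 ⧸ 𝔓) ≤
      ringKrullDim (R ⧸ 𝔓.comap (algebraMap R (Localization.AtPrime 𝔪))) := by
  rw [ringKrullDim_quotient, ringKrullDim_quotient]
  refine Order.krullDim_le_of_strictMono
    (fun q => (⟨PrimeSpectrum.comap (algebraMap R (Localization.AtPrime 𝔪)) q.1,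
      fun a ha => q.2 ha⟩ : PrimeSpectrum.zeroLocus (R := R)
        (𝔓.comap (algebraMap R (Localization.AtPrime 𝔪)) : Set R))) ?_
  intro q q' hqq'
  have hle : q.1 ≤ q'.1 := hqq'.le
  have hne : q.1 ≠ q'.1 := fun h ↦ hqq'.ne (Subtype.ext h)
  refine lt_of_le_of_ne ?_ ?_
  · exact Ideal.comap_mono (f := algebraMap R (Localization.AtPrime 𝔪)) hle
  · intro h
    apply hne
    apply PrimeSpectrum.localization_comap_injective (Localization.AtPrime 𝔪) 𝔪.primeCompl
    exact congrArg Subtype.val h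

end Loc

section CM

variable {k : Type u} [Field k] {R : Type u} [CommRing R] [Algebra k R] (𝒜 : ℤ → Submodule k R)
  [GradedAlgebra 𝒜] (hpos : ∀ n : ℤ, n < 0 → 𝒜 n = ⊥) (h0 : 𝒜 0 = Submodule.span k {(1 : R)})
variable {M : Type u} [AddCommGroup M] [Module R M] (ℳ : ℤ → AddSubgroup M) [Decomposition ℳ]
  [SetLike.GradedSMul 𝒜 ℳ]
include hpos h0

/-- elements outside the irrelevant ideal are regular on homogeneous elements -/
theorem smul_ne_zero_of_notMem_irr {s : R} (hs : s ∉ irr 𝒜) {n : ℤ} {m : M} (hm : m ∈ ℳ n)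
    (hm0 : m ≠ 0) : s • m ≠ 0 := by
  intro h
  have h1 := decompose_smul_of_mem_right 𝒜 ℳ hm s 0
  rw [h, decompose_zero, DirectSum.zero_apply, ZeroMemClass.coe_zero] at h1
  obtain ⟨c, hc⟩ := exists_smul_one_eq 𝒜 h0 s
  by_cases hc0 : c = 0
  · subst hc0
    rw [zero_smul] at hc
    have := sub_decompose_zero_mem_irr 𝒜 hpos s
    rw [← hc, sub_zero] at this
    exact hs this
  · rw [← hc] at h1
    apply hm0
    have h2 : m = (algebraMap k R c⁻¹ * (c • (1 : R))) • m := by
      rw [Algebra.smul_def, mul_one, ← map_mul, inv_mul_cancel₀ hc0, map_one, one_smul]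
    rw [h2, mul_smul, ← h1, smul_zero]

variable [Algebra.FiniteType k R] [Module.Finite R M] [Nontrivial M]
include ℳ

theorem annihilator_le_irr : Module.annihilator R M ≤ irr 𝒜 := by
  refine le_irr 𝒜 hpos h0 (annihilator_isHomogeneous 𝒜 ℳ) ?_
  intro h
  have h1 : (1 : R) ∈ Module.annihilator R M := h ▸ Submodule.mem_top
  obtain ⟨m, hm⟩ := exists_ne (0 : M)
  exact hm (by simpa using Module.mem_annihilator.mp h1 m)

theorem irr_mem_support [hp : (irr 𝒜).IsPrime] :
    (⟨irr 𝒜, hp⟩ : PrimeSpectrum R) ∈ Module.support R M := by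
  rw [Module.support_eq_zeroLocus, PrimeSpectrum.mem_zeroLocus]
  exact annihilator_le_irr 𝒜 hpos h0 ℳ

theorem le_height_irr [hp : (irr 𝒜).IsPrime] {r : ℕ} (hdim : Module.supportDim R M = r)
    (hP : (⟨irr 𝒜, hp⟩ : PrimeSpectrum R) ∈ Module.support R M) :
    (r : ℕ∞) ≤ Order.height (⟨⟨irr 𝒜, hp⟩, hP⟩ : Module.support R M) := by
  haveI : Nontrivial R := Module.nontrivial R M
  have hmax : (irr 𝒜).IsMaximal := irr_isMaximal 𝒜 hpos h0
  have hI₀ : (Module.annihilator R M).IsHomogeneous 𝒜 := annihilator_isHomogeneous 𝒜 ℳ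
  have hr : ((r : ℕ) : WithBot ℕ∞) ≤ Order.krullDim (Module.support R M) := by
    rw [← hdim]; rfl
  obtain ⟨l, hl⟩ := Order.le_krullDim_iff.mp hr
  have hann : Module.annihilator R M ≤ l.head.1.asIdeal := by
    have h1 : ∀ P : PrimeSpectrum R, P ∈ Module.support R M →
        Module.annihilator R M ≤ P.asIdeal := by
      intro P hP
      rw [Module.support_eq_zeroLocus, PrimeSpectrum.mem_zeroLocus] at hP
      exact hP
    exact h1 _ l.head.2
  obtain ⟨𝔮, h𝔮, h𝔮le⟩ := Ideal.exists_minimalPrimes_le hann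
  haveI h𝔮prime : 𝔮.IsPrime := h𝔮.1.1
  have h𝔮hom := isHomogeneous_of_mem_minimalPrimes 𝒜 hI₀ h𝔮
  have h𝔮irr : 𝔮 ≤ irr 𝒜 := le_irr 𝒜 hpos h0 h𝔮hom h𝔮prime.ne_top
  have hmem : ∀ i, 𝔮 ≤ (l i).1.asIdeal := fun i => h𝔮le.trans (l.head_le i)
  let l' : LTSeries (PrimeSpectrum.zeroLocus (R := R) (𝔮 : Set R)) :=
    ⟨l.length, fun i => ⟨(l i).1, hmem i⟩, fun i => l.step i⟩
  have hD : ((r : ℕ) : WithBot ℕ∞) ≤ ringKrullDim (R ⧸ 𝔮) := by
    rw [ringKrullDim_quotient, ← hl]
    exact Order.LTSeries.length_le_krullDim l'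
  haveI : Algebra.FiniteType k (R ⧸ 𝔮) :=
    Algebra.FiniteType.of_surjective (Ideal.Quotient.mkₐ k 𝔮) (Ideal.Quotient.mkₐ_surjective k 𝔮)
  obtain ⟨n, hn, hmaxh⟩ := Groth.Agent.Lib.FTDim.exists_ringKrullDim_eq k (R ⧸ 𝔮)
  have hrn : r ≤ n := by
    rw [hn] at hD
    exact_mod_cast hD
  have hcm : ((irr 𝒜).map (Ideal.Quotient.mk 𝔮)).comap (Ideal.Quotient.mk 𝔮) = irr 𝒜 := by
    rw [Ideal.comap_map_of_surjective _ Ideal.Quotient.mk_surjective, ← RingHom.ker_eq_comap_bot,
      Ideal.mk_ker, sup_eq_left.mpr h𝔮irr]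
  have h𝔪'max : ((irr 𝒜).map (Ideal.Quotient.mk 𝔮)).IsMaximal := by
    refine (Ideal.map_eq_top_or_isMaximal_of_surjective _ Ideal.Quotient.mk_surjective
      hmax).resolve_left ?_
    intro htop
    rw [htop, Ideal.comap_top] at hcm
    exact hmax.ne_top hcm.symm
  have hh := hmaxh _ h𝔪'max
  let g : PrimeSpectrum (R ⧸ 𝔮) → Module.support R M := fun P =>
    ⟨PrimeSpectrum.comap (Ideal.Quotient.mk 𝔮) P, by
      rw [Module.support_eq_zeroLocus, PrimeSpectrum.mem_zeroLocus]
      intro a ha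
      show Ideal.Quotient.mk 𝔮 a ∈ P.asIdeal
      rw [Ideal.Quotient.eq_zero_iff_mem.mpr (h𝔮.1.2 ha)]
      exact zero_mem _⟩
  have hg : StrictMono g := by
    intro P P' h
    refine lt_of_le_of_ne (Ideal.comap_mono (f := Ideal.Quotient.mk 𝔮) h.le) ?_
    intro heq
    apply h.ne
    apply PrimeSpectrum.ext
    apply Ideal.comap_injective_of_surjective (Ideal.Quotient.mk 𝔮) Ideal.Quotient.mk_surjective
    exact congrArg (fun z : Module.support R M => z.1.asIdeal) heq
  have h1 := Order.height_le_height_apply_of_strictMono g hg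
    ⟨(irr 𝒜).map (Ideal.Quotient.mk 𝔮), h𝔪'max.isPrime⟩
  have h2 : g ⟨(irr 𝒜).map (Ideal.Quotient.mk 𝔮), h𝔪'max.isPrime⟩ = ⟨⟨irr 𝒜, hp⟩, hP⟩ := by
    apply Subtype.ext
    apply PrimeSpectrum.ext
    exact hcm
  rw [h2, ← PrimeSpectrum.height_eq_orderHeight] at h1
  change ((irr 𝒜).map (Ideal.Quotient.mk 𝔮)).height ≤ _ at h1
  rw [hh] at h1
  exact le_trans (by exact_mod_cast hrn) h1

theorem supportDim_localization_irr [hp : (irr 𝒜).IsPrime] {r : ℕ}
    (hdim : Module.supportDim R M = r) :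
    Module.supportDim (Localization.AtPrime (irr 𝒜)) (LocalizedModule (irr 𝒜).primeCompl M) =
      (r : WithBot ℕ∞) := by
  have hP := irr_mem_support 𝒜 hpos h0 ℳ (hp := hp)
  rw [Groth.Agent.Lib.H8Fin.supportDim_localization_eq_height (irr 𝒜) M hP]
  apply le_antisymm
  · rw [← hdim]
    exact Order.height_le_krullDim _
  · exact_mod_cast le_height_irr 𝒜 hpos h0 ℳ hdim hP

/-- **Torsion-freeness of graded Cohen–Macaulay modules over parameter subalgebras**: if `M` is
finite over `k[x_1..x_r]`, `r = dim M`, and `M` is Cohen–Macaulay, then no nonzero element of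
`k[x_1..x_r]` kills a nonzero homogeneous element of `M`. -/
theorem smul_ne_zero_of_isCM {r : ℕ} (x : Fin r → R)
    [hfin : Module.Finite (Algebra.adjoin k (Set.range x)) M]
    (hdim : Module.supportDim R M = r)
    (hMcm : ∀ (q : Ideal R) [q.IsPrime], Subsingleton (LocalizedModule q.primeCompl M) ∨
      LocCoh.IsCohenMacaulayModule (Localization.AtPrime q) (LocalizedModule q.primeCompl M))
    {a : R} (haB : a ∈ Algebra.adjoin k (Set.range x)) (ha0 : a ≠ 0) {n : ℤ} {m : M}
    (hm : m ∈ ℳ n) (hm0 : m ≠ 0) : a • m ≠ 0 := by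
  haveI : Nontrivial R := Module.nontrivial R M
  haveI hp : (irr 𝒜).IsPrime := (irr_isMaximal 𝒜 hpos h0).isPrime
  haveI : IsNoetherianRing R := Algebra.FiniteType.isNoetherianRing k R
  intro ham
  have hμ : LocalizedModule.mkLinearMap (irr 𝒜).primeCompl M m ≠ 0 := by
    intro h
    obtain ⟨s, hs⟩ := (IsLocalizedModule.eq_zero_iff (irr 𝒜).primeCompl
      (LocalizedModule.mkLinearMap (irr 𝒜).primeCompl M)).mp h
    exact smul_ne_zero_of_notMem_irr 𝒜 hpos h0 ℳ s.2 hm hm0 hs
  have hnt : Nontrivial (LocalizedModule (irr 𝒜).primeCompl M) :=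
    ⟨⟨LocalizedModule.mkLinearMap (irr 𝒜).primeCompl M m, 0, hμ⟩⟩
  have hCM := (hMcm (irr 𝒜)).resolve_left (not_subsingleton _)
  obtain ⟨𝔓, h𝔓, hle⟩ := exists_le_isAssociatedPrime_of_isNoetherianRing
    (Localization.AtPrime (irr 𝒜)) (LocalizedModule.mkLinearMap (irr 𝒜).primeCompl M m) hμ
  have haP : algebraMap R (Localization.AtPrime (irr 𝒜)) a ∈ 𝔓 := by
    apply hle
    rw [Submodule.mem_colon_singleton, Submodule.mem_bot, algebraMap_smul, ← map_smul, ham,
      map_zero]
  have hdimP : ringKrullDim (Localization.AtPrime (irr 𝒜) ⧸ 𝔓) = (r : WithBot ℕ∞) := by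
    rw [Groth.Agent.Lib.H8CM.ringKrullDim_quotient_eq_of_isCM hCM h𝔓,
      supportDim_localization_irr 𝒜 hpos h0 ℳ hdim]
  have h𝔭ass : 𝔓.comap (algebraMap R (Localization.AtPrime (irr 𝒜))) ∈ associatedPrimes R M :=
    Module.associatedPrimes.comap_mem_associatedPrimes_of_mem_associatedPrimes_of_isLocalizedModule_of_fg
      (irr 𝒜).primeCompl (LocalizedModule.mkLinearMap (irr 𝒜).primeCompl M) 𝔓 h𝔓
      ((isNoetherianRing_iff_ideal_fg R).mp inferInstance _)
  have hann : Module.annihilator R M ≤ 𝔓.comap (algebraMap R (Localization.AtPrime (irr 𝒜))) := by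
    have := IsAssociatedPrime.annihilator_le h𝔭ass
    rwa [Submodule.annihilator_top] at this
  have h1 := ringKrullDim_quotient_localization_le (irr 𝒜) 𝔓
  have h2 := ringKrullDim_quotient_succ_le (k := k) (M := M) x _ hann haB ha0
    (Ideal.mem_comap.mpr haP)
  rw [hdimP] at h1
  have h3 : (r : WithBot ℕ∞) + 1 ≤ r := le_trans (by gcongr) h2
  have h4 : r + 1 ≤ r := by exact_mod_cast h3
  omega

end CM

end Groth.Agent.Lib.GrCMTorsion20
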