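import Groth.Agent.Lib.LocCohVanishing
import Groth.Agent.Lib.LocCohLocalization

/-!
# `cd(R, I) ≤` number of generators of `I` (helper53)

Induction on the number of generators: `CdLE R I' r → CdLE R (I' ⊔ span {a}) (r + 1)`.
-/

set_option maxHeartbeats 400000
universe u
open CategoryTheory CategoryTheory.Limits Opposite

namespace Groth.Agent.Lib.LocCohCdGen
open Groth.Agent.Lib.LocCohConcrete Groth.Agent.Lib.LocCohLES Groth.Agent.Lib.LocCohH0
open Groth.Agent.Lib.LocCohTorsion Groth.Agent.Lib.LocCohVanishing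
open Groth.Agent.Lib.H29TorsionInj

variable {R : Type u} [CommRing R]

section torsion
variable (I' : Ideal R) (a : R)

/-- on `a`-power torsion modules, `Γ_{I'+(a)} = Γ_{I'}`. -/
theorem mem_torsionSub_sup_iff {X : Type u} [AddCommGroup X] [Module R X]
    (hX : LocCoh.IsPowerTorsion (Ideal.span {a}) X) (x : X) :
    x ∈ DRing.torsionSub (I' ⊔ Ideal.span {a}) X ↔ x ∈ DRing.torsionSub I' X := by
  constructor
  · rintro ⟨n, hn⟩
    exact ⟨n, fun b hb => hn b (Ideal.pow_right_mono le_sup_left n hb)⟩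
  · rintro ⟨n, hn⟩
    obtain ⟨k, hk⟩ := hX x
    refine ⟨n + k, fun b hb => ?_⟩
    have hb' := Ideal.sup_pow_add_le_pow_sup_pow (I := I') (J := Ideal.span {a}) hb
    obtain ⟨b₁, hb₁, b₂, hb₂, rfl⟩ := Submodule.mem_sup.1 hb'
    rw [add_smul, hn b₁ hb₁, hk b₂ hb₂, add_zero]

variable [IsNoetherianRing R]

/-- Step A in degree one. -/
theorem stepA_one (N : Type u) [AddCommGroup N] [Module R N]
    (hN : LocCoh.IsPowerTorsion (Ideal.span {a}) N) (h : Subsingleton (LocCoh.H I' 1 N)) :
    Subsingleton (LocCoh.H (I' ⊔ Ideal.span {a}) 1 N) := by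
  obtain ⟨E, _, _, f, hf, hE, hEt⟩ := exists_torsion_injective_embedding (Ideal.span {a}) N hN
  let g := (LinearMap.range f).mkQ
  have hg : Function.Surjective g := Submodule.mkQ_surjective _
  have hfg : Function.Exact f g := LinearMap.exact_map_mkQ_range f
  have hCt : LocCoh.IsPowerTorsion (Ideal.span {a}) (E ⧸ LinearMap.range f) :=
    isPowerTorsion_of_surjective _ g hg hEt
  have hE1 : Subsingleton (LocCoh.H (I' ⊔ Ideal.span {a}) 1 E) :=
    subsingleton_H_of_injective _ E hE 1 one_pos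
  refine subsingleton_of_forall_eq 0 fun y => ?_
  obtain ⟨z, rfl⟩ := (exact₁ (I' ⊔ Ideal.span {a}) f g hf hfg hg 0 y).1 (Subsingleton.elim _ _)
  have hc : ((toGamma (I' ⊔ Ideal.span {a}) _ z : DRing.torsionSub _ _) : E ⧸ LinearMap.range f) ∈
      DRing.torsionSub I' (E ⧸ LinearMap.range f) :=
    (mem_torsionSub_sup_iff I' a hCt _).1 (toGamma (I' ⊔ Ideal.span {a}) _ z).2
  obtain ⟨w', hw'⟩ := toGamma_surjective I' (E ⧸ LinearMap.range f) ⟨_, hc⟩
  obtain ⟨v', hv'⟩ := (exact₃ I' f g hf hfg hg 0 w').1 (Subsingleton.elim _ _)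
  have he : ((toGamma I' E v' : DRing.torsionSub I' E) : E) ∈
      DRing.torsionSub (I' ⊔ Ideal.span {a}) E :=
    (mem_torsionSub_sup_iff I' a hEt _).2 (toGamma I' E v').2
  obtain ⟨v, hv⟩ := toGamma_surjective (I' ⊔ Ideal.span {a}) E ⟨_, he⟩
  have key : Hmap (I' ⊔ Ideal.span {a}) g 0 v = z := by
    apply toGamma_injective (I' ⊔ Ideal.span {a}) (E ⧸ LinearMap.range f)
    apply Subtype.ext
    rw [toGamma_Hmap, hv]
    have h1 := toGamma_Hmap I' g v'
    rw [hv', hw'] at h1
    exact h1.symm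
  rw [← key]
  exact (exact₃ (I' ⊔ Ideal.span {a}) f g hf hfg hg 0 _).2 ⟨v, rfl⟩

/-- Step A: on `a`-power torsion modules, vanishing of `H^i_{I'}` implies vanishing of
`H^i_{I'+(a)}` (`i ≥ 1`). -/
theorem stepA : ∀ (i : ℕ), 1 ≤ i → ∀ (N : Type u) [AddCommGroup N] [Module R N],
    LocCoh.IsPowerTorsion (Ideal.span {a}) N → Subsingleton (LocCoh.H I' i N) →
    Subsingleton (LocCoh.H (I' ⊔ Ideal.span {a}) i N) := by
  intro i hi
  induction i, hi using Nat.le_induction with
  | base => exact fun N _ _ hN h => stepA_one I' a N hN h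
  | succ i hi ih =>
    intro N _ _ hN h
    obtain ⟨E, _, _, f, hf, hE, hEt⟩ := exists_torsion_injective_embedding (Ideal.span {a}) N hN
    let g := (LinearMap.range f).mkQ
    have hg : Function.Surjective g := Submodule.mkQ_surjective _
    have hfg : Function.Exact f g := LinearMap.exact_map_mkQ_range f
    have hCt : LocCoh.IsPowerTorsion (Ideal.span {a}) (E ⧸ LinearMap.range f) :=
      isPowerTorsion_of_surjective _ g hg hEt
    have hE1 : Subsingleton (LocCoh.H I' i E) :=
      subsingleton_H_of_injective _ E hE i (lt_of_lt_of_le one_pos hi)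
    have hE2 : Subsingleton (LocCoh.H I' (i + 1) E) :=
      subsingleton_H_of_injective _ E hE (i + 1) (Nat.succ_pos i)
    have hb := Hδ_bijective_of_subsingleton_middle I' f g hf hfg hg i
    have hC' : Subsingleton (LocCoh.H I' i (E ⧸ LinearMap.range f)) := hb.injective.subsingleton
    have hC : Subsingleton (LocCoh.H (I' ⊔ Ideal.span {a}) i (E ⧸ LinearMap.range f)) :=
      ih _ hCt hC'
    have hE3 : Subsingleton (LocCoh.H (I' ⊔ Ideal.span {a}) (i + 1) E) :=
      subsingleton_H_of_injective _ E hE (i + 1) (Nat.succ_pos i)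
    refine subsingleton_of_forall_eq 0 fun y => ?_
    obtain ⟨z, rfl⟩ :=
      (exact₁ (I' ⊔ Ideal.span {a}) f g hf hfg hg i y).1 (Subsingleton.elim _ _)
    rw [Subsingleton.elim z 0, map_zero]

end torsion

section bijective

/-- Step B: if `a ∈ I` acts bijectively on `M` then `H^i_I(M) = 0`. -/
theorem subsingleton_H_of_smul_bijective (I : Ideal R) (a : R) (ha : a ∈ I) (M : Type u)
    [AddCommGroup M] [Module R M] (hbij : Function.Bijective (fun m : M => a • m)) (i : ℕ) :
    Subsingleton (LocCoh.H I i M) := by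
  let e : M ≃ₗ[R] M := LinearEquiv.ofBijective (a • LinearMap.id) hbij
  have hb := Hmap_bijective_of_equiv I e i
  apply subsingleton_H_of_smul_injective I M i a ha
  intro y z hyz
  apply hb.1
  have h1 : e.toLinearMap = a • LinearMap.id := rfl
  rw [h1, Hmap_smul, Hmap_smul, Hmap_id, Hmap_id]
  exact hyz

end bijective

section main
variable [IsNoetherianRing R]

omit [IsNoetherianRing R] in
theorem exists_eq_mul_pow (a : R) {t : ℕ} {x : R} (hx : x ∈ (Ideal.span {a}) ^ t) :
    ∃ r, x = r * a ^ t := by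
  rw [Ideal.span_singleton_pow, Ideal.mem_span_singleton'] at hx
  obtain ⟨r, rfl⟩ := hx
  exact ⟨r, rfl⟩

/-- `cd(R, I' + (a)) ≤ cd(R, I') + 1`. -/
theorem cdLE_sup_span_singleton (I' : Ideal R) (a : R) (r : ℕ) (h : LocCoh.CdLE R I' r) :
    LocCoh.CdLE R (I' ⊔ Ideal.span {a}) (r + 1) := by
  intro M _ _ i hi
  have haI : a ∈ I' ⊔ Ideal.span {a} := le_sup_right (α := Ideal R) (Ideal.mem_span_singleton_self a)
  let S := Submonoid.powers a
  let L := LocalizedModule S M
  let φ : M →ₗ[R] L := LocalizedModule.mkLinearMap S M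
  -- the kernel is `a`-power torsion
  have hK : LocCoh.IsPowerTorsion (Ideal.span {a}) (LinearMap.ker φ.rangeRestrict) := by
    rintro ⟨m, hm⟩
    rw [LinearMap.ker_rangeRestrict, LinearMap.mem_ker] at hm
    obtain ⟨⟨s, k, rfl⟩, hs⟩ := (IsLocalizedModule.eq_zero_iff S φ).1 hm
    refine ⟨k, fun b hb => ?_⟩
    obtain ⟨c, rfl⟩ := exists_eq_mul_pow a hb
    apply Subtype.ext
    change (c * a ^ k) • m = 0
    rw [mul_smul]
    have : a ^ k • m = 0 := hs
    rw [this, smul_zero]
  -- the cokernel is `a`-power torsion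
  have hC : LocCoh.IsPowerTorsion (Ideal.span {a}) (L ⧸ LinearMap.range φ) := by
    intro q
    obtain ⟨x, rfl⟩ := Submodule.Quotient.mk_surjective _ q
    obtain ⟨⟨m, ⟨s, k, rfl⟩⟩, hx⟩ := IsLocalizedModule.surj S φ x
    refine ⟨k, fun b hb => ?_⟩
    obtain ⟨c, rfl⟩ := exists_eq_mul_pow a hb
    rw [← Submodule.Quotient.mk_smul, Submodule.Quotient.mk_eq_zero, mul_smul]
    have : a ^ k • x = φ m := hx
    rw [this, ← map_smul]
    exact ⟨_, rfl⟩
  -- `a` acts bijectively on `L`
  have hbij : Function.Bijective (fun x : L => a • x) := by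
    have := IsLocalizedModule.map_units φ (⟨a, Submonoid.mem_powers a⟩ : S)
    exact (Module.End.isUnit_iff _).1 this
  have hi1 : 1 ≤ i := by omega
  obtain ⟨j, rfl⟩ := Nat.exists_eq_succ_of_ne_zero (Nat.one_le_iff_ne_zero.1 hi1)
  have hj1 : 1 ≤ j := by omega
  have hL : Subsingleton (LocCoh.H (I' ⊔ Ideal.span {a}) (j + 1) L) :=
    subsingleton_H_of_smul_bijective _ a haI L hbij (j + 1)
  have hCj : Subsingleton (LocCoh.H (I' ⊔ Ideal.span {a}) j (L ⧸ LinearMap.range φ)) :=
    stepA I' a j hj1 _ hC (h _ j (by omega))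
  have hKj : Subsingleton (LocCoh.H (I' ⊔ Ideal.span {a}) (j + 1) (LinearMap.ker φ.rangeRestrict)) :=
    stepA I' a (j + 1) hi1 _ hK (h _ (j + 1) (by omega))
  -- `H^{j+1}(range φ) = 0`
  have hR : Subsingleton (LocCoh.H (I' ⊔ Ideal.span {a}) (j + 1) (LinearMap.range φ)) := by
    refine subsingleton_of_forall_eq 0 fun y => ?_
    obtain ⟨z, rfl⟩ := (exact₁ (I' ⊔ Ideal.span {a}) (LinearMap.range φ).subtype
      (LinearMap.range φ).mkQ (Submodule.injective_subtype _)
      (LinearMap.exact_subtype_mkQ _) (Submodule.mkQ_surjective _) j y).1 (Subsingleton.elim _ _)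
    rw [Subsingleton.elim z 0, map_zero]
  refine subsingleton_of_forall_eq 0 fun y => ?_
  obtain ⟨z, rfl⟩ := (exact₂ (I' ⊔ Ideal.span {a}) (LinearMap.ker φ.rangeRestrict).subtype
    φ.rangeRestrict (LinearMap.exact_subtype_ker_map _) (Submodule.injective_subtype _)
    φ.surjective_rangeRestrict (j + 1) y).1 (Subsingleton.elim _ _)
  rw [Subsingleton.elim z 0, map_zero]

/-- `cd(R, 0) ≤ 0`. -/
theorem cdLE_bot : LocCoh.CdLE R (⊥ : Ideal R) 0 := by
  intro M _ _ i hi
  apply subsingleton_H_of_isPowerTorsion ⊥ i hi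
  intro m
  refine ⟨1, fun b hb => ?_⟩
  rw [pow_one, Ideal.mem_bot] at hb
  rw [hb, zero_smul]

/-- `cd(R, I) ≤` the number of generators of `I`. -/
theorem cdLE_span_finset (s : Finset R) : LocCoh.CdLE R (Ideal.span (s : Set R)) s.card := by
  classical
  induction s using Finset.induction_on with
  | empty =>
    rw [Finset.coe_empty, Ideal.span_empty, Finset.card_empty]
    exact cdLE_bot
  | insert a s ha ih =>
    rw [Finset.coe_insert, Finset.card_insert_of_notMem ha, Ideal.span_insert, sup_comm]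
    exact cdLE_sup_span_singleton _ a _ ih

end main

end Groth.Agent.Lib.LocCohCdGen
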