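import Groth.Agent.Lib.H74GrLES4
import Groth.Agent.Lib.H74GrArt
import Groth.Agent.Lib.LocCohCdGen
import Mathlib.RingTheory.Ideal.AssociatedPrime.Finiteness

/-!
# Vanishing and finiteness of graded pieces of graded local cohomology (helper74)
-/

set_option autoImplicit false
set_option linter.unusedSectionVars false
universe u

namespace Groth.Agent.Lib.H74GrVan

open DirectSum GrLC Groth.Agent.Lib.H87GrMod Groth.Agent.Lib.H87GrMod2 Groth.Agent.Lib.H87GrShift
  Groth.Agent.S18662 Groth.Agent.S18661 Groth.Agent.Lib.H74GrLES Groth.Agent.Lib.H74GrArt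

section Avoid

variable {A : Type u} [CommRing A] (𝒜 : ℤ → AddSubgroup A) [GradedRing 𝒜]

theorem pow_mem_cast {z : A} {d : ℕ} (hz : z ∈ 𝒜 (d : ℤ)) (m : ℕ) :
    z ^ m ∈ 𝒜 ((m * d : ℕ) : ℤ) := by
  have := SetLike.pow_mem_graded m hz
  rwa [nsmul_eq_mul, ← Nat.cast_mul] at this

/-- Graded prime avoidance for `ℤ`-graded rings (elements of positive degree); port of helper67's
`GradedAvoid.gpa`. -/
theorem gpaZ (J : Ideal A) : ∀ (n : ℕ) (P : Finset (Ideal A)), P.card = n →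
    (∀ p ∈ P, p.IsPrime ∧ ∃ (z : A) (d : ℕ), 0 < d ∧ z ∈ 𝒜 (d : ℤ) ∧ z ∈ J ∧ z ∉ p) →
    ∃ (z : A) (d : ℕ), 0 < d ∧ z ∈ 𝒜 (d : ℤ) ∧ z ∈ J ∧ ∀ p ∈ P, z ∉ p := by
  intro n
  induction n using Nat.strong_induction_on with
  | _ n IH =>
    intro P hcard hP
    classical
    rcases Nat.lt_or_ge n 2 with hn | hn
    · obtain rfl | rfl : n = 0 ∨ n = 1 := by omega
      · rw [Finset.card_eq_zero] at hcard
        subst hcard
        exact ⟨0, 1, one_pos, zero_mem _, J.zero_mem, by simp⟩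
      · obtain ⟨p, rfl⟩ := Finset.card_eq_one.1 hcard
        obtain ⟨_, z, d, hd, hz, hzJ, hzp⟩ := hP p (Finset.mem_singleton_self p)
        exact ⟨z, d, hd, hz, hzJ, by simpa using hzp⟩
    · have IH' : ∀ i ∈ P, ∃ (z : A) (d : ℕ), 0 < d ∧ z ∈ 𝒜 (d : ℤ) ∧ z ∈ J ∧
          ∀ p ∈ P.erase i, z ∉ p := by
        intro i hi
        refine IH (n - 1) (by omega) (P.erase i) (by rw [Finset.card_erase_of_mem hi, hcard]) ?_
        intro p hp
        exact hP p (Finset.mem_of_mem_erase hp)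
      choose! z d hd hz hzJ hzp using IH'
      by_cases hex : ∃ i ∈ P, z i ∉ i
      · obtain ⟨i, hi, hzi⟩ := hex
        refine ⟨z i, d i, hd i hi, hz i hi, hzJ i hi, ?_⟩
        intro p hp
        by_cases hpi : p = i
        · subst hpi; exact hzi
        · exact hzp i hi p (Finset.mem_erase.2 ⟨hpi, hp⟩)
      · push Not at hex
        have hDpos : 0 < ∏ l ∈ P, d l := Finset.prod_pos (fun l hl => hd l hl)
        have hepos : ∀ j, 0 < ∏ l ∈ P.erase j, d l :=
          fun j => Finset.prod_pos (fun l hl => hd l (Finset.mem_of_mem_erase hl))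
        have hde : ∀ j ∈ P, (∏ l ∈ P.erase j, d l) * d j = ∏ l ∈ P, d l := fun j hj => by
          rw [mul_comm]; exact Finset.mul_prod_erase P d hj
        have hy : ∀ j ∈ P, z j ^ (∏ l ∈ P.erase j, d l) ∈ 𝒜 ((∏ l ∈ P, d l : ℕ) : ℤ) :=
          fun j hj => by
            have := pow_mem_cast 𝒜 (hz j hj) (∏ l ∈ P.erase j, d l)
            rwa [hde j hj] at this
        have hyJ : ∀ j ∈ P, z j ^ (∏ l ∈ P.erase j, d l) ∈ J :=
          fun j hj => J.pow_mem_of_mem (hzJ j hj) _ (hepos j)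
        have hyj : ∀ j ∈ P, z j ^ (∏ l ∈ P.erase j, d l) ∈ j :=
          fun j hj => Ideal.pow_mem_of_mem j (hex j hj) _ (hepos j)
        have hyi : ∀ j ∈ P, ∀ i ∈ P, i ≠ j → z j ^ (∏ l ∈ P.erase j, d l) ∉ i :=
          fun j hj i hi hij h =>
            hzp j hj i (Finset.mem_erase.2 ⟨hij, hi⟩) ((hP i hi).1.mem_of_pow_mem _ h)
        refine ⟨∑ i ∈ P, ∏ j ∈ P.erase i, z j ^ (∏ l ∈ P.erase j, d l), (n - 1) * ∏ l ∈ P, d l,
          Nat.mul_pos (by omega) hDpos, ?_, ?_, ?_⟩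
        · refine sum_mem (fun i hi => ?_)
          have := SetLike.prod_mem_graded 𝒜 (fun _ => ((∏ l ∈ P, d l : ℕ) : ℤ))
            (fun j => z j ^ (∏ l ∈ P.erase j, d l)) (F := P.erase i)
            (fun j hj => hy j (Finset.mem_of_mem_erase hj))
          rw [Finset.sum_const, Finset.card_erase_of_mem hi, hcard, nsmul_eq_mul,
            ← Nat.cast_mul] at this
          exact this
        · refine J.sum_mem (fun i hi => ?_)
          have hne : (P.erase i).Nonempty := by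
            rw [← Finset.card_pos, Finset.card_erase_of_mem hi, hcard]; omega
          obtain ⟨j, hj⟩ := hne
          exact Ideal.mem_of_dvd J
            (Finset.dvd_prod_of_mem (fun j => z j ^ (∏ l ∈ P.erase j, d l)) hj)
            (hyJ j (Finset.mem_of_mem_erase hj))
        · intro i hi hmem
          have hprime := (hP i hi).1
          rw [← Finset.add_sum_erase P _ hi] at hmem
          have h2 : ∑ i' ∈ P.erase i, ∏ j ∈ P.erase i', z j ^ (∏ l ∈ P.erase j, d l) ∈ i := by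
            refine i.sum_mem (fun i' hi' => ?_)
            have hii' : i ∈ P.erase i' :=
              Finset.mem_erase.2 ⟨(Finset.ne_of_mem_erase hi').symm, hi⟩
            exact Ideal.mem_of_dvd i
              (Finset.dvd_prod_of_mem (fun j => z j ^ (∏ l ∈ P.erase j, d l)) hii') (hyj i hi)
          have h1 : ∏ j ∈ P.erase i, z j ^ (∏ l ∈ P.erase j, d l) ∈ i := by
            have := i.sub_mem hmem h2
            simpa using this
          obtain ⟨j, hj, hji⟩ := (Ideal.IsPrime.prod_mem_iff (hp := hprime)).1 h1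
          exact hyi j (Finset.mem_of_mem_erase hj) i hi (Finset.ne_of_mem_erase hj).symm hji

end Avoid

section Regular

variable {R : Type u} [CommRing R] [IsNoetherianRing R] (𝒜 : ℤ → AddSubgroup R) [GradedRing 𝒜]
variable {M : Type u} [AddCommGroup M] [Module R M] [Module.Finite R M]

/-- If `Γ_a(M) = 0` for `a = R_+` then `a` contains a homogeneous `M`-regular element of positive
degree. -/
theorem exists_homogeneous_regular (a : Ideal R)
    (ha : a = Ideal.span (⋃ n ∈ Set.Ioi (0 : ℤ), (𝒜 n : Set R)))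
    (hΓ : gam a M = ⊥) :
    ∃ (x : R) (d : ℕ), 0 < d ∧ x ∈ 𝒜 (d : ℤ) ∧ x ∈ a ∧ IsSMulRegular M x := by
  classical
  have : IsNoetherian R M := isNoetherian_of_isNoetherianRing_of_finite R M
  have hfin : (associatedPrimes R M).Finite := associatedPrimes.finite R M
  obtain ⟨z, d, hd, hz, hza, hzp⟩ := gpaZ 𝒜 a hfin.toFinset.card hfin.toFinset rfl (by
    intro p hp
    rw [Set.Finite.mem_toFinset] at hp
    obtain ⟨hprime, m, hm⟩ := isAssociatedPrime_iff.mp hp
    refine ⟨hprime, ?_⟩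
    -- `a ⊄ p`
    have hnot : ¬ a ≤ p := by
      intro hle
      have hm0 : m ≠ 0 := by
        intro h0
        apply hprime.ne_top
        rw [hm, h0]
        ext r
        simp [Submodule.mem_colon_singleton]
      apply hm0
      have hmem : m ∈ gam a M := by
        refine ⟨1, fun r hr => ?_⟩
        rw [pow_one] at hr
        have : r ∈ p := hle hr
        rw [hm] at this
        have h2 : r • m ∈ (⊥ : Submodule R M) := Submodule.mem_colon_singleton.mp this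
        exact h2
      rw [hΓ] at hmem
      exact hmem
    -- a generator outside `p`
    by_contra hcon
    push Not at hcon
    apply hnot
    rw [ha, Ideal.span_le]
    intro x hx
    obtain ⟨n, hn, hxn⟩ := Set.mem_iUnion₂.mp hx
    have hn' : (0 : ℤ) < n := hn
    have hcast : ((n.toNat : ℕ) : ℤ) = n := Int.toNat_of_nonneg hn'.le
    exact hcon x n.toNat (by omega) (by rw [hcast]; exact hxn)
      (by rw [ha]; exact Ideal.subset_span hx))
  refine ⟨z, d, hd, hz, hza, ?_⟩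
  have hunion := biUnion_associatedPrimes_eq_compl_regular R M
  by_contra hreg
  have : z ∈ {r : R | IsSMulRegular M r}ᶜ := hreg
  rw [← hunion] at this
  obtain ⟨p, hp, hzp'⟩ := Set.mem_iUnion₂.mp this
  exact hzp p ((Set.Finite.mem_toFinset hfin).mpr hp) hzp'

end Regular

section Bound

open Groth.Agent.S13229

variable {R : Type u} [CommRing R] [IsNoetherianRing R] (𝒜 : ℤ → AddSubgroup R) [GradedRing 𝒜]
variable (hpos : ∀ n : ℤ, n < 0 → 𝒜 n = ⊥) (a : Ideal R)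
  (ha : a = Ideal.span (⋃ n ∈ Set.Ioi (0 : ℤ), (𝒜 n : Set R)))

include ha in
theorem le_ge_one : a ≤ ge 𝒜 𝒜 hpos 1 := by
  intro b hb
  have h := smul_ge_le 𝒜 𝒜 hpos a ha 0
  have htop : (⊤ : Submodule R R) ≤ ge 𝒜 𝒜 hpos 0 := by
    intro x _ n hn
    have h1 := (decompose 𝒜 x n).2
    have h2 : (decompose 𝒜 x n : R) ∈ (⊥ : AddSubgroup R) := by
      rw [← hpos n hn]; exact h1
    exact h2
  have hmem : b ∈ a • ge 𝒜 𝒜 hpos 0 := by
    have : b = b • (1 : R) := by simp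
    rw [this]
    exact Submodule.smul_mem_smul hb (htop Submodule.mem_top)
  exact h hmem

include ha hpos in
/-- `R_n ⊆ (R_+)^j` as soon as `n ≥ j D`, where `D` bounds the degrees of generators of `R_+`. -/
theorem exists_bound_pow : ∃ D : ℕ, 0 < D ∧ ∀ (j : ℕ) (n : ℤ), (j : ℤ) * D ≤ n →
    ∀ x ∈ 𝒜 n, x ∈ a ^ j := by
  classical
  have hahom : (a : Submodule R R).IsHomogeneous 𝒜 := by
    rw [ha]
    exact Ideal.homogeneous_span 𝒜 _ (by
      intro x hx
      obtain ⟨n, -, hxn⟩ := Set.mem_iUnion₂.mp hx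
      exact ⟨n, hxn⟩)
  obtain ⟨S, hS, hspan⟩ := Groth.Agent.S13216.exists_homogeneous_generators 𝒜 hahom
    (IsNoetherian.noetherian a)
  choose! deg hdeg using hS
  obtain ⟨D₀, hD₀⟩ : ∃ D₀ : ℤ, ∀ s ∈ S, deg s ≤ D₀ := by
    obtain ⟨d, hd⟩ := (S.image deg).bddAbove
    exact ⟨d, fun s hs => hd (Finset.mem_coe.mpr (Finset.mem_image_of_mem deg hs))⟩
  have hSa : ∀ s ∈ S, s ∈ a := fun s hs => by
    have : s ∈ Submodule.span R (S : Set R) := Submodule.subset_span hs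
    rw [hspan] at this
    exact this
  have hdegpos : ∀ s ∈ S, s ≠ 0 → 1 ≤ deg s := by
    intro s hs hs0
    by_contra hlt
    apply hs0
    have h1 := le_ge_one 𝒜 hpos a ha (hSa s hs) (deg s) (by omega)
    rwa [decompose_of_mem_same 𝒜 (hdeg s hs)] at h1
  refine ⟨D₀.toNat + 1, Nat.succ_pos _, ?_⟩
  intro j
  induction j with
  | zero => intro n _ x _; simp
  | succ j ih =>
    intro n hn x hx
    have hn1 : (0 : ℤ) < n := by
      have : (0 : ℤ) ≤ (j : ℤ) * ((D₀.toNat + 1 : ℕ) : ℤ) := by positivity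
      push_cast at hn this ⊢
      nlinarith
    have hxa : x ∈ a := by
      rw [ha]
      exact Ideal.subset_span (Set.mem_iUnion₂.mpr ⟨n, hn1, hx⟩)
    have hxS : x ∈ Submodule.span R (S : Set R) := by rw [hspan]; exact hxa
    obtain ⟨f, -, hsum⟩ := Submodule.mem_span_finset.mp hxS
    have key : x = ∑ s ∈ S, (decompose 𝒜 (f s) (n - deg s) : R) * s := by
      calc x = (decompose 𝒜 x n : R) := (decompose_of_mem_same 𝒜 hx).symm
        _ = (decompose 𝒜 (∑ s ∈ S, f s • s) n : R) := by rw [hsum]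
        _ = ∑ s ∈ S, (decompose 𝒜 (f s • s) n : R) := by
            rw [decompose_sum, DFinsupp.finsetSum_apply, AddSubmonoidClass.coe_finsetSum]
        _ = ∑ s ∈ S, (decompose 𝒜 (f s) (n - deg s) : R) * s :=
            Finset.sum_congr rfl fun s hs => decompose_smul_right' 𝒜 𝒜 (hdeg s hs) (f s) n
    rw [key]
    refine Ideal.sum_mem _ fun s hs => ?_
    by_cases hs0 : s = 0
    · rw [hs0, mul_zero]; exact zero_mem _
    · rw [pow_succ]
      refine Ideal.mul_mem_mul (ih (n - deg s) ?_ _ (decompose 𝒜 (f s) (n - deg s)).2) (hSa s hs)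
      have h1 := hD₀ s hs
      have h2 := hdegpos s hs hs0
      have h3 : ((D₀.toNat : ℕ) : ℤ) = D₀ := Int.toNat_of_nonneg (by omega)
      push_cast at hn ⊢
      rw [h3] at hn ⊢
      nlinarith

end Bound

section Degreewise

variable {ι : Type} [AddCommGroup ι] [DecidableEq ι]
variable {R : Type u} [CommRing R]
variable {H₁ : Type u} [AddCommGroup H₁] [Module R H₁] (ℋ₁ : ι → AddSubgroup H₁) [Decomposition ℋ₁]
variable {H₂ : Type u} [AddCommGroup H₂] [Module R H₂] (ℋ₂ : ι → AddSubgroup H₂) [Decomposition ℋ₂]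

/-- A homogeneous element in the range of a map homogeneous of degree `s` is the image of a
homogeneous element. -/
theorem exists_homogeneous_preimage {δ : H₁ →ₗ[R] H₂} {s : ι} (hδ : IsGrHomDeg ℋ₁ ℋ₂ δ s)
    {η : H₂} {m : ι} (hη : η ∈ ℋ₂ m) (hr : η ∈ LinearMap.range δ) :
    ∃ w ∈ ℋ₁ (m - s), δ w = η := by
  obtain ⟨w, rfl⟩ := hr
  refine ⟨(decompose ℋ₁ w (m - s) : H₁), (decompose ℋ₁ w (m - s)).2, ?_⟩
  have h := decompose_map_deg ℋ₁ ℋ₂ hδ w (m - s)
  rw [sub_add_cancel, decompose_of_mem_same ℋ₂ hη] at h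
  exact h.symm

end Degreewise

section Main

open Groth.Agent.S13229 Groth.Agent.S13215

variable {R : Type u} [CommRing R] [IsNoetherianRing R] (𝒜 : ℤ → AddSubgroup R) [GradedRing 𝒜]
variable (hpos : ∀ n : ℤ, n < 0 → 𝒜 n = ⊥) (a : HomogeneousIdeal 𝒜)
  (ha : a.toIdeal = Ideal.span (⋃ n ∈ Set.Ioi (0 : ℤ), (𝒜 n : Set R)))

/-- Elements of graded local cohomology with support in `a` are killed by powers of any
element of `a`. -/
theorem exists_pow_smul_eq_zero_H {M : Type u} [AddCommGroup M] [Module R M]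
    (ℳ : ℤ → AddSubgroup M) [Decomposition ℳ] [SetLike.GradedSMul 𝒜 ℳ] (E : StarInjRes 𝒜 ℳ)
    {x : R} (hx : x ∈ a.toIdeal) (i : ℕ) (ξ : E.H a i) : ∃ n : ℕ, x ^ n • ξ = 0 := by
  obtain ⟨z, rfl⟩ := toH_surjective a E i ξ
  obtain ⟨n, hn⟩ := z.2.1
  refine ⟨n, ?_⟩
  rw [← map_smul]
  have : x ^ n • z = 0 := Subtype.ext (hn _ (Ideal.pow_mem_pow hx n))
  rw [this, map_zero]

/-- The statement "the pieces of `H^i` vanish in large degrees, for all finite graded modules". -/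
def PVan (i : ℕ) : Prop :=
  ∀ (M : Type u) [AddCommGroup M] [Module R M] [Module.Finite R M] (ℳ : ℤ → AddSubgroup M)
    [Decomposition ℳ] [SetLike.GradedSMul 𝒜 ℳ] (E : StarInjRes 𝒜 ℳ),
    ∃ r : ℤ, ∀ n : ℤ, r ≤ n → E.Hcomp a i n = ⊥

include hpos ha in
theorem pVan_zero : PVan 𝒜 a 0 := by
  intro M _ _ _ ℳ _ _ E
  classical
  have : IsNoetherian R M := isNoetherian_of_isNoetherianRing_of_finite R M
  have hΓhom : (gam a.toIdeal M).IsHomogeneous ℳ := isHomogeneous_gam 𝒜 ℳ a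
  obtain ⟨S, hS, hspan⟩ := Groth.Agent.S13216.exists_homogeneous_generators ℳ hΓhom
    (IsNoetherian.noetherian (gam a.toIdeal M))
  choose! deg hdeg using hS
  obtain ⟨D', hD'⟩ : ∃ D' : ℤ, ∀ s ∈ S, deg s ≤ D' := by
    obtain ⟨d, hd⟩ := (S.image deg).bddAbove
    exact ⟨d, fun s hs => hd (Finset.mem_coe.mpr (Finset.mem_image_of_mem deg hs))⟩
  obtain ⟨k, hk⟩ := exists_pow_of_fg_le_gam (a := a.toIdeal) (P := gam a.toIdeal M)
    (IsNoetherian.noetherian _) le_rfl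
  obtain ⟨D, hDpos, hD⟩ := exists_bound_pow 𝒜 hpos a.toIdeal ha
  refine ⟨D' + k * D, fun n hn => ?_⟩
  rw [eq_bot_iff]
  rintro ξ ⟨z, hz, rfl⟩
  rw [Submodule.mem_bot]
  have hzker : (z : (E.X 0).carrier) ∈ LinearMap.ker (E.d 0) := z.2.2
  rw [E.exact_zero] at hzker
  obtain ⟨m, hm⟩ := hzker
  have hmn : m ∈ ℳ n := by
    have h1 : E.ε (decompose ℳ m n : M) = E.ε m := by
      rw [← decompose_map ℳ (E.X 0).gr E.ε_grHom m n, hm, decompose_of_mem_same _ hz]
    rw [← E.ε_injective h1]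
    exact (decompose ℳ m n).2
  have hmΓ : m ∈ gam a.toIdeal M := by
    obtain ⟨k', hk'⟩ := z.2.1
    refine ⟨k', fun r hr => E.ε_injective ?_⟩
    rw [map_smul, hm, hk' r hr, map_zero]
  have hm0 : m = 0 := by
    have hmS : m ∈ Submodule.span R (S : Set M) := by rw [hspan]; exact hmΓ
    obtain ⟨f, -, hsum⟩ := Submodule.mem_span_finset.mp hmS
    have key : m = ∑ s ∈ S, (decompose 𝒜 (f s) (n - deg s) : R) • s := by
      calc m = (decompose ℳ m n : M) := (decompose_of_mem_same ℳ hmn).symm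
        _ = (decompose ℳ (∑ s ∈ S, f s • s) n : M) := by rw [hsum]
        _ = ∑ s ∈ S, (decompose ℳ (f s • s) n : M) := by
            rw [decompose_sum, DFinsupp.finsetSum_apply, AddSubmonoidClass.coe_finsetSum]
        _ = ∑ s ∈ S, (decompose 𝒜 (f s) (n - deg s) : R) • s :=
            Finset.sum_congr rfl fun s hs => decompose_smul_right' 𝒜 ℳ (hdeg s hs) (f s) n
    rw [key]
    apply Finset.sum_eq_zero
    intro s hs
    refine hk _ (hD k (n - deg s) ?_ _ (decompose 𝒜 (f s) (n - deg s)).2) s ?_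
    · have := hD' s hs
      linarith
    · rw [← hspan]; exact Submodule.subset_span hs
  have hz0 : z = 0 := Subtype.ext (by rw [← hm, hm0, map_zero]; rfl)
  rw [hz0, map_zero]

include hpos ha in
theorem step_tf (i : ℕ) (IH : PVan 𝒜 a i) {M : Type u} [AddCommGroup M] [Module R M]
    [Module.Finite R M] (ℳ : ℤ → AddSubgroup M) [Decomposition ℳ] [SetLike.GradedSMul 𝒜 ℳ]
    (hΓ : gam a.toIdeal M = ⊥) (E : StarInjRes 𝒜 ℳ) :
    ∃ r : ℤ, ∀ n : ℤ, r ≤ n → E.Hcomp a (i + 1) n = ⊥ := by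
  obtain ⟨x, d, hd, hxd, hxa, hreg⟩ := exists_homogeneous_regular 𝒜 (M := M) a.toIdeal ha hΓ
  have hxdeg : IsGrHomDeg ℳ ℳ (x • (LinearMap.id : M →ₗ[R] M)) (d : ℤ) := fun g m hm => by
    have := SetLike.GradedSMul.smul_mem (A := 𝒜) (B := ℳ) hxd hm
    rw [vadd_eq_add, add_comm] at this
    exact this
  have hB : (LinearMap.range (x • (LinearMap.id : M →ₗ[R] M))).IsHomogeneous ℳ :=
    isHomogeneous_range_deg ℳ ℳ hxdeg
  have hπgr := quotMap_isGrHom 𝒜 ℳ _ hB
  have hπs := quotMap_surjective 𝒜 ℳ _ hB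
  have hker : LinearMap.ker (quotMap 𝒜 ℳ _ hB) =
      LinearMap.range (x • (LinearMap.id : M →ₗ[R] M)) := by
    ext m
    exact quotMap_eq_zero_iff 𝒜 ℳ _ hB m
  haveI : Module.Finite R (quotGMod 𝒜 ℳ _ hB).carrier :=
    Module.Finite.of_surjective (quotMap 𝒜 ℳ _ hB) hπs
  obtain ⟨r', hr'⟩ := IH (quotGMod 𝒜 ℳ _ hB).carrier (quotGMod 𝒜 ℳ _ hB).gr
    (res (quotGMod 𝒜 ℳ _ hB).gr)
  obtain ⟨cπ, hcπ⟩ := exists_cmap E (res (quotGMod 𝒜 ℳ _ hB).gr) (isGrHomDeg_zero_of hπgr)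
  obtain ⟨δ, hδ, h1, h2, h3⟩ := exists_les_smul E (res (quotGMod 𝒜 ℳ _ hB).gr) hxd hreg hπgr
    hπs hker a cπ hcπ
  letI := decompositionHgr 𝒜 ℳ a E (i + 1)
  letI := decompositionHgr 𝒜 (quotGMod 𝒜 ℳ _ hB).gr a (res (quotGMod 𝒜 ℳ _ hB).gr) i
  have hδdeg : IsGrHomDeg ((res (quotGMod 𝒜 ℳ _ hB).gr).Hgr a i) (E.Hgr a (i + 1)) (δ i)
      (-(d : ℤ)) := fun n ξ hξ => hδ i n ξ hξ
  refine ⟨r' - d, ?_⟩
  have key : ∀ j : ℕ, ∀ n : ℤ, r' - d ≤ n → ∀ ξ ∈ E.Hgr a (i + 1) n, x ^ j • ξ = 0 → ξ = 0 := by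
    intro j
    induction j with
    | zero => intro n _ ξ _ h0; simpa using h0
    | succ j ihj =>
      intro n hn ξ hξ h0
      have hxξ : x • ξ ∈ E.Hgr a (i + 1) (n + d) := by
        have := SetLike.GradedSMul.smul_mem (A := 𝒜) (B := E.Hgr a (i + 1)) hxd hξ
        rw [vadd_eq_add, add_comm (d : ℤ) n] at this
        exact this
      have hx0 : x • ξ = 0 := ihj (n + d) (by omega) _ hxξ (by
        rw [smul_smul, ← pow_succ]; exact h0)
      have hrange := (h3 i ξ).mp hx0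
      obtain ⟨w, hw, hwξ⟩ := exists_homogeneous_preimage
        ((res (quotGMod 𝒜 ℳ _ hB).gr).Hgr a i) (E.Hgr a (i + 1)) hδdeg hξ hrange
      have hw0 : w = 0 := by
        have hb := hr' (n - -(d : ℤ)) (by omega)
        have hw' : w ∈ (res (quotGMod 𝒜 ℳ _ hB).gr).Hcomp a i (n - -(d : ℤ)) := hw
        rw [hb] at hw'
        exact hw'
      rw [← hwξ, hw0, map_zero]
  intro n hn
  rw [eq_bot_iff]
  intro ξ hξ
  rw [Submodule.mem_bot]
  obtain ⟨j, hj⟩ := exists_pow_smul_eq_zero_H 𝒜 a ℳ E hxa (i + 1) ξ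
  exact key j n hn ξ hξ hj

/-- The torsion submodule as a graded module, with its inclusion. -/
theorem exists_sub_ses {M : Type u} [AddCommGroup M] [Module R M]
    (ℳ : ℤ → AddSubgroup M) [Decomposition ℳ] [SetLike.GradedSMul 𝒜 ℳ]
    (Γ : Submodule R M) (hΓhom : Γ.IsHomogeneous ℳ) :
    ∃ (G₀ : GMod.{u} 𝒜) (j : G₀.carrier →ₗ[R] M), IsGrHom G₀.gr ℳ j ∧ Function.Injective j ∧
      LinearMap.range j = Γ := by
  have hbot : (⊥ : Submodule R M).IsHomogeneous ℳ := isHomogeneous_bot ℳ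
  have hle : (⊥ : Submodule R M).comap Γ.subtype ≤ LinearMap.ker Γ.subtype := by
    intro z hz
    exact hz
  have hinj : Function.Injective (Submodule.liftQ _ Γ.subtype hle) := by
    rw [← LinearMap.ker_eq_bot, Submodule.ker_liftQ_eq_bot]
    exact fun z hz => hz
  have hrange : LinearMap.range (Submodule.liftQ _ Γ.subtype hle) = Γ := by
    rw [Submodule.range_liftQ, Submodule.range_subtype]
  refine ⟨sqGMod 𝒜 ℳ Γ ⊥ hΓhom hbot, Submodule.liftQ _ Γ.subtype hle, ?_, hinj, hrange⟩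
  intro g x hx
  obtain ⟨z, hz, rfl⟩ := (mem_sqGr ℳ Γ ⊥ g x).mp hx
  exact hz

include hpos ha in
theorem pVan_succ (i : ℕ) (IH : PVan 𝒜 a i) : PVan 𝒜 a (i + 1) := by
  intro M _ _ _ ℳ _ _ E
  have : IsNoetherian R M := isNoetherian_of_isNoetherianRing_of_finite R M
  have hΓhom : (gam a.toIdeal M).IsHomogeneous ℳ := isHomogeneous_gam 𝒜 ℳ a
  have hπgr := quotMap_isGrHom 𝒜 ℳ _ hΓhom
  have hπs := quotMap_surjective 𝒜 ℳ _ hΓhom
  haveI : Module.Finite R (quotGMod 𝒜 ℳ _ hΓhom).carrier :=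
    Module.Finite.of_surjective (quotMap 𝒜 ℳ _ hΓhom) hπs
  have hQΓ : gam a.toIdeal (quotGMod 𝒜 ℳ _ hΓhom).carrier = ⊥ := by
    rw [eq_bot_iff]
    intro q hq
    obtain ⟨m, rfl⟩ := hπs q
    obtain ⟨k, hk⟩ := hq
    rw [Submodule.mem_bot, quotMap_eq_zero_iff]
    apply mem_gam_of_pow_smul_mem (IsNoetherian.noetherian a.toIdeal) k m
    intro r hr
    rw [← quotMap_eq_zero_iff 𝒜 ℳ _ hΓhom, map_smul]
    exact hk r hr
  obtain ⟨r, hr⟩ := step_tf 𝒜 hpos a ha i IH (quotGMod 𝒜 ℳ _ hΓhom).gr hQΓ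
    (res (quotGMod 𝒜 ℳ _ hΓhom).gr)
  obtain ⟨G₀, j, hjgr, hjinj, hjrange⟩ := exists_sub_ses 𝒜 ℳ (gam a.toIdeal M) hΓhom
  have hjπ : Function.Exact j (quotMap 𝒜 ℳ _ hΓhom) := by
    intro m
    rw [quotMap_eq_zero_iff, ← hjrange]
    rfl
  have hG0 : gam a.toIdeal G₀.carrier = ⊤ := by
    rw [eq_top_iff]
    intro q _
    have hjq : j q ∈ gam a.toIdeal M := by
      rw [← hjrange]; exact ⟨q, rfl⟩
    obtain ⟨k, hk⟩ := hjq
    refine ⟨k, fun r hr => hjinj ?_⟩
    rw [map_smul, hk r hr, map_zero]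
  haveI := H_subsingleton_of_torsion (res G₀.gr) a hG0 (i + 1) (by omega)
  obtain ⟨cf, hcf⟩ := exists_cmap (res G₀.gr) E (isGrHomDeg_zero_of hjgr)
  obtain ⟨cg, hcg⟩ := exists_cmap E (res (quotGMod 𝒜 ℳ _ hΓhom).gr) (isGrHomDeg_zero_of hπgr)
  obtain ⟨δ, hδ, h1, h2, h3⟩ := exists_les (res G₀.gr) E (res (quotGMod 𝒜 ℳ _ hΓhom).gr)
    hjgr hπgr hjinj hjπ hπs a cf hcf cg hcg
  refine ⟨r, fun n hn => ?_⟩
  rw [eq_bot_iff]
  intro ξ hξ
  rw [Submodule.mem_bot]
  have h0 : cg.Hmap a (i + 1) ξ = 0 := by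
    have := cg.Hmap_mem_Hcomp a (i + 1) hξ
    rw [add_zero, hr n hn] at this
    exact this
  obtain ⟨η, rfl⟩ := (h1 (i + 1) ξ).mp h0
  rw [Subsingleton.elim η 0, map_zero]

include hpos ha in
theorem pVan (i : ℕ) : PVan 𝒜 a i := by
  induction i with
  | zero => exact pVan_zero 𝒜 hpos a ha
  | succ i ih => exact pVan_succ 𝒜 hpos a ha i ih

include hpos ha in
/-- Uniform vanishing of the pieces of graded local cohomology in large degrees. -/
theorem exists_uniform_vanishing {M : Type u} [AddCommGroup M] [Module R M] [Module.Finite R M]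
    (ℳ : ℤ → AddSubgroup M) [Decomposition ℳ] [SetLike.GradedSMul 𝒜 ℳ] (E : StarInjRes 𝒜 ℳ) :
    ∃ r : ℤ, ∀ (i : ℕ) (n : ℤ), r ≤ n → E.Hcomp a i n = ⊥ := by
  classical
  obtain ⟨s, hs⟩ := (IsNoetherian.noetherian a.toIdeal : a.toIdeal.FG)
  have hbig : ∀ i, s.card < i → ∀ n, E.Hcomp a i n = ⊥ := by
    intro i hi n
    have hcd := Groth.Agent.Lib.LocCohCdGen.cdLE_span_finset (R := R) s
    have hs' : Ideal.span (s : Set R) = a.toIdeal := hs
    rw [hs'] at hcd
    haveI : Subsingleton (LocCoh.H a.toIdeal i M) := hcd M i hi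
    obtain ⟨e⟩ := Groth.Agent.S13224.main a E i
    haveI : Subsingleton (E.H a i) := e.injective.subsingleton
    rw [eq_bot_iff]
    intro ξ _
    rw [Submodule.mem_bot]
    exact Subsingleton.elim _ _
  choose r hr using fun i => pVan 𝒜 hpos a ha i M ℳ E
  obtain ⟨r₀, hr₀⟩ := ((Finset.range (s.card + 1)).image r).exists_le
  refine ⟨r₀, fun i n hn => ?_⟩
  by_cases hi : i ≤ s.card
  · refine hr i n (le_trans (hr₀ (r i) ?_) hn)
    exact Finset.mem_image_of_mem r (Finset.mem_range.mpr (by omega))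
  · exact hbig i (by omega) n

end Main

end Groth.Agent.Lib.H74GrVan
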