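import Groth.Agent.Lib.H74Matlis2
import Groth.Agent.S18661

/-! Graded Matlis duality, part 3: `Hom_R(C, *E(R/m))_d ≅ Hom_k(C_{-d}, k)`. -/

set_option autoImplicit false
set_option linter.unusedSectionVars false
universe u

namespace Groth.Agent.Lib.H74Matlis

open DirectSum GrLC Groth.Agent.Lib.H87GrMod Groth.Agent.Lib.H87GrMod2 Groth.Agent.Lib.H74GrArt

section Hom

variable {R : Type u} [CommRing R] (𝒜 : ℤ → AddSubgroup R) [GradedRing 𝒜]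
  (hpos : ∀ n : ℤ, n < 0 → 𝒜 n = ⊥) (h0 : IsField (deg0 𝒜))
  (m : HomogeneousIdeal 𝒜)
  (hmsp : m.toIdeal = Ideal.span (⋃ n ∈ Set.Ioi (0 : ℤ), (𝒜 n : Set R)))
variable {E' : Type u} [AddCommGroup E'] [Module R E'] (𝓔 : ℤ → AddSubgroup E')
  [Decomposition 𝓔] [SetLike.GradedSMul 𝒜 𝓔]
  (e : (R ⧸ m.toIdeal) →ₗ[R] E') (he : IsStarInjHull 𝒜 (quotGr 𝒜 m) 𝓔 e)
variable {C : Type u} [AddCommGroup C] [Module R C] (𝒞 : ℤ → AddSubgroup C)
  [Decomposition 𝒞] [SetLike.GradedSMul 𝒜 𝒞]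

/-- Injectivity of `f ↦ ε ∘ f|_{C_{-d}}` on maps of degree `d`. -/
theorem hom_eq_zero {f : C →ₗ[R] E'} {d : ℤ} (hf : IsGrHomDeg 𝒞 𝓔 f d)
    (hz : ∀ c ∈ 𝒞 (-d), eps 𝒜 hpos h0 m hmsp 𝓔 e he (f c) = 0) : f = 0 := by
  apply LinearMap.ext
  intro c
  rw [LinearMap.zero_apply]
  induction c using Decomposition.inductionOn 𝒞 with
  | zero => rw [map_zero]
  | @homogeneous i c =>
    by_contra hne
    have hfc : f c ∈ 𝓔 (i + d) := hf i c c.2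
    obtain ⟨r, hr, hrx, hre⟩ := exists_smul_ne_zero 𝒜 hpos m hmsp 𝓔 e he hfc hne
    apply hrx
    rw [← map_smul]
    have hrc : r • (c : C) ∈ 𝒞 (-d) := by
      have := SetLike.GradedSMul.smul_mem (A := 𝒜) (B := 𝒞) hr c.2
      rw [vadd_eq_add] at this
      have e1 : -(i + d) + i = -d := by ring
      rwa [e1] at this
    have h1 : f (r • (c : C)) ∈ 𝓔 0 := by
      have := hf (-d) _ hrc
      rwa [neg_add_cancel] at this
    exact eq_zero_of_eps_eq_zero 𝒜 hpos h0 m hmsp 𝓔 e he h1 (hz _ hrc)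
  | add c c' h h' => rw [map_add, h, h', add_zero]

include hpos in
theorem eq_zero_of_mem_neg {j : ℤ} (hj : j < 0) {s : R} (hs : s ∈ 𝒜 j) : s = 0 :=
  (le_of_eq (hpos j hj)) hs

/-- The submodule `C_{≥ -d}`. -/
def geSub (d : ℤ) : Submodule R C where
  carrier := {c | ∀ i, i < -d → (decompose 𝒞 c i : C) = 0}
  add_mem' := by
    intro a b ha hb i hi
    rw [decompose_add, DirectSum.add_apply, AddSubgroup.coe_add, ha i hi, hb i hi, add_zero]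
  zero_mem' := by
    intro i _
    rw [decompose_zero, DirectSum.zero_apply, ZeroMemClass.coe_zero]
  smul_mem' := by
    intro s c hc i hi
    induction s using Decomposition.inductionOn 𝒜 with
    | zero => rw [zero_smul, decompose_zero, DirectSum.zero_apply, ZeroMemClass.coe_zero]
    | @homogeneous j s =>
      rcases lt_or_ge j 0 with hj | hj
      · rw [eq_zero_of_mem_neg 𝒜 hpos hj s.2, zero_smul, decompose_zero, DirectSum.zero_apply,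
          ZeroMemClass.coe_zero]
      · have e1 : i = j + (i - j) := by ring
        rw [e1, decompose_smul_of_mem_left 𝒞 𝒜 s.2, hc (i - j) (by omega), smul_zero]
    | add s s' h h' =>
      rw [add_smul, decompose_add, DirectSum.add_apply, AddSubgroup.coe_add, h, h', add_zero]

theorem mem_geSub {d : ℤ} {c : C} :
    c ∈ geSub 𝒜 hpos 𝒞 d ↔ ∀ i, i < -d → (decompose 𝒞 c i : C) = 0 := Iff.rfl

theorem isHomogeneous_geSub (d : ℤ) : (geSub 𝒜 hpos 𝒞 d).IsHomogeneous 𝒞 := by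
  intro g c hc i hi
  by_cases hgi : g = i
  · subst hgi
    rw [decompose_of_mem_same 𝒞 (decompose 𝒞 c g).2]
    exact hc g hi
  · rw [decompose_of_mem_ne 𝒞 (decompose 𝒞 c g).2 hgi]

theorem mem_geSub_of_mem {d : ℤ} {c : C} (hc : c ∈ 𝒞 (-d)) : c ∈ geSub 𝒜 hpos 𝒞 d := by
  intro i hi
  rw [decompose_of_mem_ne 𝒞 hc (by omega)]

/-- The candidate map `c ↦ λ(c_{-d}) • u`. -/
noncomputable def lam {d : ℤ} (lf : comp 𝒜 𝒞 (-d) →ₗ[deg0 𝒜] deg0 𝒜) (c : C) : E' :=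
  ((lf ⟨(decompose 𝒞 c (-d) : C), (decompose 𝒞 c (-d)).2⟩ : deg0 𝒜) : R) • u 𝒜 m e

theorem lam_add {d : ℤ} (lf : comp 𝒜 𝒞 (-d) →ₗ[deg0 𝒜] deg0 𝒜) (c c' : C) :
    lam 𝒜 m e 𝒞 lf (c + c') = lam 𝒜 m e 𝒞 lf c + lam 𝒜 m e 𝒞 lf c' := by
  unfold lam
  rw [← add_smul, ← Subring.coe_add, ← map_add]
  congr 3
  apply Subtype.ext
  show (decompose 𝒞 (c + c') (-d) : C) = (decompose 𝒞 c (-d) : C) + (decompose 𝒞 c' (-d) : C)
  rw [decompose_add, DirectSum.add_apply, AddSubgroup.coe_add]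

theorem lam_of_decompose_eq_zero {d : ℤ} (lf : comp 𝒜 𝒞 (-d) →ₗ[deg0 𝒜] deg0 𝒜) {c : C}
    (hc : (decompose 𝒞 c (-d) : C) = 0) : lam 𝒜 m e 𝒞 lf c = 0 := by
  unfold lam
  have : (⟨(decompose 𝒞 c (-d) : C), (decompose 𝒞 c (-d)).2⟩ : comp 𝒜 𝒞 (-d)) = 0 :=
    Subtype.ext hc
  rw [this, map_zero, Subring.coe_zero, zero_smul]

include hpos hmsp in
theorem lam_smul {d : ℤ} (lf : comp 𝒜 𝒞 (-d) →ₗ[deg0 𝒜] deg0 𝒜) {z : C}
    (hz : z ∈ geSub 𝒜 hpos 𝒞 d) (s : R) :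
    lam 𝒜 m e 𝒞 lf (s • z) = s • lam 𝒜 m e 𝒞 lf z := by
  induction s using Decomposition.inductionOn 𝒜 with
  | zero => rw [zero_smul, zero_smul]; exact lam_of_decompose_eq_zero 𝒜 m e 𝒞 lf (by
      rw [decompose_zero, DirectSum.zero_apply, ZeroMemClass.coe_zero])
  | @homogeneous j s =>
    rcases lt_trichotomy j 0 with hj | hj | hj
    · rw [eq_zero_of_mem_neg 𝒜 hpos hj s.2, zero_smul, zero_smul]
      exact lam_of_decompose_eq_zero 𝒜 m e 𝒞 lf (by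
        rw [decompose_zero, DirectSum.zero_apply, ZeroMemClass.coe_zero])
    · subst hj
      have h1 : (decompose 𝒞 ((s : R) • z) (-d) : C) = (s : R) • (decompose 𝒞 z (-d) : C) := by
        have := decompose_smul_of_mem_left 𝒞 𝒜 s.2 z (-d)
        rwa [zero_add] at this
      unfold lam
      have h2 : (⟨(decompose 𝒞 ((s : R) • z) (-d) : C), (decompose 𝒞 ((s : R) • z) (-d)).2⟩ :
          comp 𝒜 𝒞 (-d)) = (⟨(s : R), s.2⟩ : deg0 𝒜) •
            (⟨(decompose 𝒞 z (-d) : C), (decompose 𝒞 z (-d)).2⟩ : comp 𝒜 𝒞 (-d)) :=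
        Subtype.ext h1
      rw [h2, map_smul, smul_eq_mul, Subring.coe_mul, mul_smul]
    · have h1 : (decompose 𝒞 ((s : R) • z) (-d) : C) = 0 := by
        have e1 : -d = j + (-d - j) := by ring
        rw [e1, decompose_smul_of_mem_left 𝒞 𝒜 s.2, hz (-d - j) (by omega), smul_zero]
      rw [lam_of_decompose_eq_zero 𝒜 m e 𝒞 lf h1]
      unfold lam
      rw [smul_comm, smul_u_of_mem 𝒜 m e (mem_m_of_pos 𝒜 m hmsp hj s.2), smul_zero]
  | add s s' h h' => rw [add_smul, lam_add, h, h', add_smul]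

include hpos h0 hmsp he in
/-- Surjectivity of `f ↦ ε ∘ f|_{C_{-d}}`: every `k`-linear functional on `C_{-d}` comes from a
homomorphism `C → *E(R/m)` of degree `d`. -/
theorem exists_hom_of_functional {d : ℤ} (lf : comp 𝒜 𝒞 (-d) →ₗ[deg0 𝒜] deg0 𝒜) :
    ∃ f : C →ₗ[R] E', IsGrHomDeg 𝒞 𝓔 f d ∧
      ∀ (c : C) (hc : c ∈ 𝒞 (-d)), eps 𝒜 hpos h0 m hmsp 𝓔 e he (f c) = lf ⟨c, hc⟩ := by
  let Z := geSub 𝒜 hpos 𝒞 d
  let ψ : Z →ₗ[R] E' :=
    { toFun := fun z => lam 𝒜 m e 𝒞 lf (z : C)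
      map_add' := fun z z' => lam_add 𝒜 m e 𝒞 lf z z'
      map_smul' := fun s z => lam_smul 𝒜 hpos m hmsp e 𝒞 lf z.2 s }
  have hψ : ∀ g (z : Z), (z : C) ∈ 𝒞 g → ψ z ∈ 𝓔 (g + d) := by
    intro g z hz
    show lam 𝒜 m e 𝒞 lf (z : C) ∈ 𝓔 (g + d)
    by_cases hg : g = -d
    · subst hg
      rw [neg_add_cancel]
      exact smul_u_mem 𝒜 m 𝓔 e he (lf _).2
    · rw [lam_of_decompose_eq_zero 𝒜 m e 𝒞 lf (decompose_of_mem_ne 𝒞 hz hg)]
      exact zero_mem _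
  obtain ⟨χ, hχ, hχZ, -⟩ := Groth.Agent.S18661.extend_sub_quot 𝒜 𝒞 𝓔 he.starInj Z ⊥
    (isHomogeneous_geSub 𝒜 hpos 𝒞 d) (isHomogeneous_bot 𝒞) ψ hψ (by
      intro z hz
      have : z = 0 := Subtype.ext ((Submodule.mem_bot R).mp hz)
      rw [this, map_zero])
  refine ⟨χ, hχ, ?_⟩
  intro c hc
  have h1 := hχZ ⟨c, mem_geSub_of_mem 𝒜 hpos 𝒞 hc⟩
  have h2 : χ c = lam 𝒜 m e 𝒞 lf c := h1
  rw [h2]
  unfold lam
  rw [eps_smul_u]
  congr 1
  apply Subtype.ext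
  exact decompose_of_mem_same 𝒞 hc

end Hom

end Groth.Agent.Lib.H74Matlis
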