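import Mathlib
import Groth.Agent.Lib.H74Matlis3
import Groth.Agent.Lib.H74GrVan

set_option autoImplicit false
set_option linter.unusedSectionVars false
set_option linter.style.haveILetI false

universe u

namespace Groth.Agent.Lib.GrEInj

open DirectSum GrLC Groth.Agent.Lib.H74Matlis Groth.Agent.S13229

section Basic

variable {R : Type u} [CommRing R] (𝒜 : ℤ → AddSubgroup R) [GradedRing 𝒜]
  (hpos : ∀ n : ℤ, n < 0 → 𝒜 n = ⊥) (h0 : IsField (deg0 𝒜))
  (m : HomogeneousIdeal 𝒜)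
  (hmsp : m.toIdeal = Ideal.span (⋃ n ∈ Set.Ioi (0 : ℤ), (𝒜 n : Set R)))
variable {E' : Type u} [AddCommGroup E'] [Module R E'] (𝓔 : ℤ → AddSubgroup E')
  [Decomposition 𝓔] [SetLike.GradedSMul 𝒜 𝓔]
  (e : (R ⧸ m.toIdeal) →ₗ[R] E') (he : IsStarInjHull 𝒜 (quotGr 𝒜 m) 𝓔 e)

include hpos hmsp he in
/-- Every nonzero element of `*E(R/m)` is moved to a nonzero element of the socle `e(R/m)`. -/
theorem exists_smul_ne_zero_general {y : E'} (hy : y ≠ 0) :
    ∃ r : R, r • y ≠ 0 ∧ r • y ∈ LinearMap.range e := by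
  classical
  have hsupp : (decompose 𝓔 y).support.Nonempty := by
    rw [Finset.nonempty_iff_ne_empty]
    intro hempty
    apply hy
    rw [← sum_support_decompose 𝓔 y, hempty, Finset.sum_empty]
  set g₀ := (decompose 𝓔 y).support.min' hsupp with hg₀
  have hg₀mem : g₀ ∈ (decompose 𝓔 y).support := Finset.min'_mem _ hsupp
  have hy0 : (decompose 𝓔 y g₀ : E') ≠ 0 := by
    intro h
    have := (DFinsupp.mem_support_iff.mp hg₀mem)
    exact this (Subtype.ext h)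
  obtain ⟨r, hr, hrne, hrmem⟩ := exists_smul_ne_zero 𝒜 hpos m hmsp 𝓔 e he
    (decompose 𝓔 y g₀).2 hy0
  have key : r • y = r • (decompose 𝓔 y g₀ : E') := by
    conv_lhs => rw [← sum_support_decompose 𝓔 y, Finset.smul_sum]
    rw [Finset.sum_eq_single g₀]
    · intro g hg hne
      have hlt : g₀ < g := lt_of_le_of_ne (Finset.min'_le _ g hg) (Ne.symm hne)
      have h1 : r • (decompose 𝓔 y g : E') ∈ 𝓔 (-g₀ + g) :=
        SetLike.GradedSMul.smul_mem hr (decompose 𝓔 y g).2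
      rw [piece_eq_bot_of_pos 𝒜 hpos m hmsp 𝓔 e he (by omega : 0 < -g₀ + g)] at h1
      exact (AddSubgroup.mem_bot).mp h1
    · intro h
      exact absurd hg₀mem h
  exact ⟨r, by rw [key]; exact hrne, by rw [key]; exact hrmem⟩

include hpos h0 hmsp he in
/-- **`ε`-detection**: an `R`-linear map into `*E(R/m)` killed by `ε` is zero. -/
theorem eq_zero_of_eps_comp_eq_zero {N : Type*} [AddCommGroup N] [Module R N]
    (g : N →ₗ[R] E') (hg : ∀ x, eps 𝒜 hpos h0 m hmsp 𝓔 e he (g x) = 0) : g = 0 := by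
  apply LinearMap.ext
  intro x
  rw [LinearMap.zero_apply]
  by_contra hne
  obtain ⟨r, hr0, hrmem⟩ := exists_smul_ne_zero_general 𝒜 hpos m hmsp 𝓔 e he hne
  apply hr0
  have h1 : r • g x ∈ 𝓔 0 := range_e_le 𝒜 hpos m hmsp 𝓔 e he _ hrmem
  apply eq_zero_of_eps_eq_zero 𝒜 hpos h0 m hmsp 𝓔 e he h1
  rw [← map_smul]
  exact hg _

include hpos hmsp he in
/-- `*E(R/m)` is an essential extension of `R/m` in the ungraded sense. -/
theorem essential (N : Submodule R E') (hN : N ≠ ⊥) : N ⊓ LinearMap.range e ≠ ⊥ := by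
  obtain ⟨y, hyN, hy0⟩ := Submodule.exists_mem_ne_zero_of_ne_bot hN
  obtain ⟨r, hr0, hrmem⟩ := exists_smul_ne_zero_general 𝒜 hpos m hmsp 𝓔 e he hy0
  intro hbot
  apply hr0
  have : r • y ∈ N ⊓ LinearMap.range e := ⟨N.smul_mem r hyN, hrmem⟩
  rw [hbot] at this
  exact this

include hpos hmsp he in
/-- every element of `*E(R/m)` is killed by `R_{≥ t}` for some `t` -/
theorem exists_ge_smul_eq_zero (y : E') :
    ∃ t : ℕ, ∀ r ∈ ge 𝒜 𝒜 hpos (t : ℤ), r • y = 0 := by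
  classical
  by_cases hy : y = 0
  · exact ⟨0, fun r _ => by rw [hy, smul_zero]⟩
  have hsupp : (decompose 𝓔 y).support.Nonempty := by
    rw [Finset.nonempty_iff_ne_empty]
    intro hempty
    apply hy
    rw [← sum_support_decompose 𝓔 y, hempty, Finset.sum_empty]
  set g₀ := (decompose 𝓔 y).support.min' hsupp with hg₀
  refine ⟨(1 - g₀).toNat, fun r hr => ?_⟩
  rw [← sum_support_decompose 𝒜 r, Finset.sum_smul]
  refine Finset.sum_eq_zero fun j _ => ?_
  by_cases hj : j < ((1 - g₀).toNat : ℤ)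
  · rw [hr j hj, zero_smul]
  · rw [← sum_support_decompose 𝓔 y, Finset.smul_sum]
    refine Finset.sum_eq_zero fun g hg => ?_
    have hle : g₀ ≤ g := Finset.min'_le _ g hg
    have h1 : (decompose 𝒜 r j : R) • (decompose 𝓔 y g : E') ∈ 𝓔 (j + g) :=
      SetLike.GradedSMul.smul_mem (decompose 𝒜 r j).2 (decompose 𝓔 y g).2
    have hpos' : 0 < j + g := by
      have := Int.self_le_toNat (1 - g₀)
      omega
    rw [piece_eq_bot_of_pos 𝒜 hpos m hmsp 𝓔 e he hpos'] at h1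
    exact (AddSubgroup.mem_bot).mp h1


/-- `(R_+)^j ⊆ R_{≥ j}` -/
theorem pow_le_ge (a : Ideal R)
    (ha : a = Ideal.span (⋃ n ∈ Set.Ioi (0 : ℤ), (𝒜 n : Set R))) (j : ℕ) :
    (a ^ j : Ideal R) ≤ ge 𝒜 𝒜 hpos (j : ℤ) := by
  induction j with
  | zero =>
    intro x _ n hn
    have h1 := (decompose 𝒜 x n).2
    have hn' : n < 0 := by simpa using hn
    have h2 : (decompose 𝒜 x n : R) ∈ (⊥ : AddSubgroup R) := by rw [← hpos n hn']; exact h1
    exact (AddSubgroup.mem_bot).mp h2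
  | succ j ih =>
    have h1 : (a ^ (j + 1) : Ideal R) = a • (a ^ j : Ideal R) := by
      rw [pow_succ, mul_comm, smul_eq_mul]
    rw [h1]
    refine le_trans (Submodule.smul_mono le_rfl ih) ?_
    have := smul_ge_le 𝒜 𝒜 hpos a ha (j : ℤ)
    have e1 : ((j + 1 : ℕ) : ℤ) = (j : ℤ) + 1 := by push_cast; ring
    rw [e1]
    exact this

include hmsp e he in
/-- **Artin–Rees**: a map from an ideal `J` to `*E(R/m)` vanishes on `J ∩ R_{≥ T}` for `T ≫ 0`. -/
theorem exists_vanishing [IsNoetherianRing R] (J : Ideal R) (f : J →ₗ[R] E') :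
    ∃ T : ℕ, ∀ x : J, (x : R) ∈ ge 𝒜 𝒜 hpos (T : ℤ) → f x = 0 := by
  classical
  let a := m.toIdeal
  -- a uniform torsion bound on the image
  obtain ⟨t, ht⟩ : ∃ t : ℕ, ∀ r ∈ ge 𝒜 𝒜 hpos (t : ℤ), ∀ x : J, r • f x = 0 := by
    obtain ⟨s, hs⟩ := (Module.Finite.fg_top : (⊤ : Submodule R J).FG)
    choose tx htx using fun x : J => exists_ge_smul_eq_zero 𝒜 hpos m hmsp 𝓔 e he (f x)
    refine ⟨s.sup tx, fun r hr x => ?_⟩
    have hx : x ∈ Submodule.span R (s : Set J) := by rw [hs]; trivial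
    induction hx using Submodule.span_induction with
    | mem x hx =>
      refine htx x r (ge_anti ?_ hr)
      exact_mod_cast Finset.le_sup (f := tx) hx
    | zero => rw [map_zero, smul_zero]
    | add x y _ _ hx hy => rw [map_add, smul_add, hx, hy, add_zero]
    | smul c x _ hx => rw [map_smul, smul_comm, hx, smul_zero]
  obtain ⟨k, hk⟩ := Ideal.exists_pow_inf_eq_pow_smul a (J : Submodule R R)
  obtain ⟨D, hD, hbound⟩ := Groth.Agent.Lib.H74GrVan.exists_bound_pow 𝒜 hpos a hmsp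
  refine ⟨(t + k) * D, fun x hx => ?_⟩
  -- `x ∈ a^(t+k)`
  have hxa : (x : R) ∈ (a ^ (t + k) : Ideal R) := by
    rw [← sum_support_decompose 𝒜 (x : R)]
    refine Ideal.sum_mem _ fun n _ => ?_
    by_cases hn : n < (((t + k) * D : ℕ) : ℤ)
    · rw [hx n hn]; exact zero_mem _
    · refine hbound (t + k) n ?_ _ (decompose 𝒜 (x : R) n).2
      push_cast at hn ⊢
      omega
  have hmem : (x : R) ∈ (a ^ (t + k) • (⊤ : Submodule R R) ⊓ (J : Submodule R R)) := by
    refine ⟨?_, x.2⟩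
    rw [Ideal.smul_top_eq_map, Algebra.algebraMap_self, Ideal.map_id]
    exact hxa
  rw [hk (t + k) (by omega)] at hmem
  have e1 : t + k - k = t := by omega
  rw [e1] at hmem
  have hle : (a ^ t : Ideal R) • (a ^ k • (⊤ : Submodule R R) ⊓ (J : Submodule R R)) ≤
      (LinearMap.ker f).map J.subtype := by
    rw [Submodule.smul_le]
    intro r hr y hy
    refine ⟨r • ⟨y, hy.2⟩, ?_, rfl⟩
    show f (r • ⟨y, hy.2⟩) = 0
    rw [map_smul]
    exact ht r (pow_le_ge 𝒜 hpos a hmsp t hr) _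
  obtain ⟨x', hx', hxx'⟩ := hle hmem
  have : x' = x := Subtype.ext hxx'
  rw [← this]
  exact hx'

include hpos h0 hmsp e he in
/-- a `k`-linear functional on `R` vanishing on `R_{≥ T}` is represented by an element of
`*E(R/m)`. -/
theorem exists_eps_eq (T : ℕ) (Λ : R →ₗ[deg0 𝒜] deg0 𝒜)
    (hΛ : ∀ r ∈ ge 𝒜 𝒜 hpos (T : ℤ), Λ r = 0) :
    ∃ ε : E', ∀ r : R, eps 𝒜 hpos h0 m hmsp 𝓔 e he (r • ε) = Λ r := by
  classical
  have key : ∀ d : ℤ, ∃ εd ∈ 𝓔 d, ∀ c ∈ 𝒜 (-d),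
      eps 𝒜 hpos h0 m hmsp 𝓔 e he (c • εd) = Λ c := by
    intro d
    let lf : comp 𝒜 𝒜 (-d) →ₗ[deg0 𝒜] deg0 𝒜 := Λ ∘ₗ (comp 𝒜 𝒜 (-d)).subtype
    obtain ⟨f, hf, hfe⟩ := exists_hom_of_functional 𝒜 hpos h0 m hmsp 𝓔 e he 𝒜 lf
    refine ⟨f 1, ?_, fun c hc => ?_⟩
    · have := hf 0 1 (SetLike.GradedOne.one_mem)
      rwa [zero_add] at this
    · rw [← map_smul, smul_eq_mul, mul_one, hfe c hc]
      rfl
  choose εd hεd hεd' using key
  refine ⟨∑ i ∈ Finset.range T, εd (-(i : ℤ)), fun r => ?_⟩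
  induction r using Decomposition.inductionOn 𝒜 with
  | zero => rw [zero_smul, map_zero, map_zero]
  | @homogeneous j c =>
    rw [Finset.smul_sum, map_sum]
    have hterm : ∀ i : ℕ, (i : ℤ) ≠ j →
        eps 𝒜 hpos h0 m hmsp 𝓔 e he ((c : R) • εd (-(i : ℤ))) = 0 := by
      intro i hij
      have h1 : (c : R) • εd (-(i : ℤ)) ∈ 𝓔 (j + -(i : ℤ)) :=
        SetLike.GradedSMul.smul_mem c.2 (hεd _)
      exact eps_of_mem_ne 𝒜 hpos h0 m hmsp 𝓔 e he (by omega) h1
    rcases lt_or_ge j 0 with hj | hj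
    · have hc0 : (c : R) = 0 := by
        have h1 : (c : R) ∈ (⊥ : AddSubgroup R) := by rw [← hpos j hj]; exact c.2
        exact (AddSubgroup.mem_bot).mp h1
      rw [hc0, map_zero]
      refine Finset.sum_eq_zero fun i _ => ?_
      rw [zero_smul, map_zero]
    · obtain ⟨i₀, rfl⟩ := Int.eq_ofNat_of_zero_le hj
      by_cases hiT : i₀ < T
      · rw [Finset.sum_eq_single i₀]
        · exact hεd' (-(i₀ : ℤ)) (c : R) (by rw [neg_neg]; exact c.2)
        · intro i _ hne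
          exact hterm i (by exact_mod_cast hne)
        · intro h
          exact absurd (Finset.mem_range.mpr hiT) h
      · have hcge : (c : R) ∈ ge 𝒜 𝒜 hpos (T : ℤ) := by
          intro n hn
          exact decompose_of_mem_ne 𝒜 c.2 (by omega)
        rw [hΛ _ hcge]
        refine Finset.sum_eq_zero fun i hi => ?_
        have := Finset.mem_range.mp hi
        exact hterm i (by omega)
  | add s s' h h' => rw [add_smul, map_add, map_add, h, h']

include hpos h0 hmsp e he in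
/-- **Baer's criterion** for `*E(R/m)`. -/
theorem baer [IsNoetherianRing R] : Module.Baer R E' := by
  intro J f
  classical
  letI : Field (deg0 𝒜) := h0.toField
  obtain ⟨T, hT⟩ := exists_vanishing 𝒜 hpos m hmsp 𝓔 e he J f
  let U : Submodule (deg0 𝒜) R := (ge 𝒜 𝒜 hpos (T : ℤ)).restrictScalars (deg0 𝒜)
  let lam : J →ₗ[deg0 𝒜] deg0 𝒜 :=
    eps 𝒜 hpos h0 m hmsp 𝓔 e he ∘ₗ (f.restrictScalars (deg0 𝒜))
  let T' : J →ₗ[deg0 𝒜] (R ⧸ U) := U.mkQ ∘ₗ (J.subtype.restrictScalars (deg0 𝒜))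
  have hker : lam ∈ (LinearMap.ker T').dualAnnihilator := by
    rw [Submodule.mem_dualAnnihilator]
    intro x hx
    have h1 : (x : R) ∈ ge 𝒜 𝒜 hpos (T : ℤ) := (Submodule.Quotient.mk_eq_zero U).mp hx
    show eps 𝒜 hpos h0 m hmsp 𝓔 e he (f x) = 0
    rw [hT x h1, map_zero]
  rw [← LinearMap.range_dualMap_eq_dualAnnihilator_ker] at hker
  obtain ⟨μ', hμ'⟩ := hker
  let Λ : R →ₗ[deg0 𝒜] deg0 𝒜 := μ' ∘ₗ U.mkQ
  have hΛ : ∀ r ∈ ge 𝒜 𝒜 hpos (T : ℤ), Λ r = 0 := by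
    intro r hr
    show μ' (U.mkQ r) = 0
    have : U.mkQ r = 0 := (Submodule.Quotient.mk_eq_zero U).mpr hr
    rw [this, map_zero]
  obtain ⟨ε, hε⟩ := exists_eps_eq 𝒜 hpos h0 m hmsp 𝓔 e he T Λ hΛ
  refine ⟨LinearMap.toSpanSingleton R E' ε, fun x hx => ?_⟩
  have h2 := eq_zero_of_eps_comp_eq_zero 𝒜 hpos h0 m hmsp 𝓔 e he
    ((LinearMap.toSpanSingleton R E' ε) ∘ₗ J.subtype - f) (fun y => by
      show eps 𝒜 hpos h0 m hmsp 𝓔 e he ((y : R) • ε - f y) = 0
      rw [map_sub, hε, sub_eq_zero]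
      have h3 : lam y = (LinearMap.dualMap T' μ') y := by rw [hμ']
      exact h3.symm)
  have h4 := LinearMap.congr_fun h2 ⟨x, hx⟩
  rw [LinearMap.sub_apply, LinearMap.zero_apply, sub_eq_zero] at h4
  exact h4

include hpos h0 hmsp e he in
/-- `*E(R/m)` is an injective `R`-module (in the ungraded sense). -/
theorem injective [IsNoetherianRing R] : Module.Injective R E' :=
  Module.Baer.injective (baer 𝒜 hpos h0 m hmsp 𝓔 e he)

end Basic

end Groth.Agent.Lib.GrEInj
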