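import Mathlib
import Groth.Agent.Lib.GrBridgeLocal
import Groth.Agent.Lib.GrEInj
import Groth.Agent.Lib.H74GrDim3
import Groth.Agent.S13224

set_option autoImplicit false
set_option linter.unusedSectionVars false
set_option linter.style.haveILetI false

universe u

namespace Groth.Agent.Lib.GrCanonBridge

open DirectSum GrLC IsLocalRing Groth.Agent.Lib.GrBridgeLocal

section Bridge

variable {R : Type u} [CommRing R] [LocCoh.IsCohenMacaulayRing R]
  (𝒜 : ℤ → AddSubgroup R) [GradedRing 𝒜]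
  (hpos : ∀ n : ℤ, n < 0 → 𝒜 n = ⊥) (h0 : IsField (deg0 𝒜))
  (m : HomogeneousIdeal 𝒜) (hm : GrLC.IsStarLocal 𝒜 m)
  (hmsp : m.toIdeal = Ideal.span (⋃ n ∈ Set.Ioi (0 : ℤ), (𝒜 n : Set R)))
  (n : ℕ) (hn : ringKrullDim R = n) (I : GrLC.StarInjRes 𝒜 𝒜)
variable {E' : Type u} [AddCommGroup E'] [Module R E'] (𝓔 : ℤ → AddSubgroup E')
  [Decomposition 𝓔] [SetLike.GradedSMul 𝒜 𝓔]
  (e : (R ⧸ m.toIdeal) →ₗ[R] E') (he : IsStarInjHull 𝒜 (quotGr 𝒜 m) 𝓔 e)
variable {C : Type u} [AddCommGroup C] [Module R C] (𝒞 : ℤ → AddSubgroup C)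
  [Decomposition 𝒞] [SetLike.GradedSMul 𝒜 𝒞] (hC : IsStarCanonical 𝒜 𝒞 𝓔 m n I)

include hpos h0 hmsp he in
/-- `*E(R/m)` is an injective hull of `R/m` in the ungraded sense. -/
theorem isInjectiveHull_e : InjHull.IsInjectiveHull e where
  injective := he.injective
  essential := Groth.Agent.Lib.GrEInj.essential 𝒜 hpos m hmsp 𝓔 e he
  isInjective := Groth.Agent.Lib.GrEInj.injective 𝒜 hpos h0 m hmsp 𝓔 e he

include hC in
theorem nonempty_psi : Nonempty ((C →ₗ[R] E') ≃ₗ[R] LocCoh.H m.toIdeal n R) := by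
  obtain ⟨-, φ, -⟩ := hC
  obtain ⟨ψ⟩ := Groth.Agent.S13224.main m I n
  exact ⟨φ.trans ψ⟩

include hpos hm hn in
theorem dim_loc [m.toIdeal.IsPrime] : ringKrullDim (Localization.AtPrime m.toIdeal) = n := by
  rw [IsLocalization.AtPrime.ringKrullDim_eq_height m.toIdeal (Localization.AtPrime m.toIdeal),
    ← Groth.Agent.Lib.H74GrDim.ringKrullDim_eq_height 𝒜 hpos m hm, hn]

include hpos h0 hmsp he hC in
/-- **The bridge**: the localization at `m` of the graded canonical-module datum is a canonical-module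
datum over the local ring `R_m` in the sense of the local theory. -/
theorem exists_local [m.toIdeal.IsPrime] :
    ∃ f : ResidueField (Localization.AtPrime m.toIdeal) →ₗ[Localization.AtPrime m.toIdeal]
        LocalizedModule m.toIdeal.primeCompl E',
      InjHull.IsInjectiveHull f ∧
      Nonempty ((LocalizedModule m.toIdeal.primeCompl C →ₗ[Localization.AtPrime m.toIdeal]
          LocalizedModule m.toIdeal.primeCompl E') ≃ₗ[Localization.AtPrime m.toIdeal]
        LocCoh.H (maximalIdeal (Localization.AtPrime m.toIdeal)) n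
          (Localization.AtPrime m.toIdeal)) := by
  obtain ⟨ψ⟩ := nonempty_psi 𝒜 m n I 𝓔 𝒞 hC
  haveI : Module.Finite R C := hC.1
  exact ⟨fA m.toIdeal e,
    isInjectiveHull_fA m.toIdeal e (isInjectiveHull_e 𝒜 hpos h0 m hmsp 𝓔 e he),
    nonempty_eK m.toIdeal n ψ⟩

end Bridge

end Groth.Agent.Lib.GrCanonBridge
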