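import Mathlib
import Groth.Prelude.Def_GrLC
import Groth.Agent.S13229

/-!
# Regular sequences on the graded dual (helper12)

Abstract graded duality: `P : H × C → k` a pairing of graded `R`-modules (`k = R_0` a field) which is
`R`-balanced, nondegenerate on the `C`-side in each degree and such that every functional on `H` is
represented on `H_d` by an element of `C_{-d}`.  Then
* `regular_of_divisible` : `y H = H` ⇒ `y` is `C`-regular;
* `quot_regular_of_dual` : `(0 :_H y₁) = y₂ (0 :_H y₁)` ⇒ `y₂` is regular on `C / y₁ C`.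
-/

set_option autoImplicit false
set_option linter.unusedSectionVars false
set_option linter.style.haveILetI false

universe u

namespace Groth.Agent.Lib.GrDualReg

open DirectSum GrLC Groth.Agent.S13229

variable {R : Type u} [CommRing R] (𝒜 : ℤ → AddSubgroup R) [GradedRing 𝒜]
  {H : Type u} [AddCommGroup H] [Module R H] (ℋ : ℤ → AddSubgroup H)
  [SetLike.GradedSMul 𝒜 ℋ]
  {C : Type u} [AddCommGroup C] [Module R C] (𝒞 : ℤ → AddSubgroup C) [Decomposition 𝒞]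
  [SetLike.GradedSMul 𝒜 𝒞]
  (P : H →ₗ[deg0 𝒜] C →ₗ[deg0 𝒜] deg0 𝒜)
  (hbal : ∀ (r : R) (h : H) (c : C), P (r • h) c = P h (r • c))
  (hnd : ∀ (d : ℤ) (c : C), c ∈ 𝒞 (-d) → (∀ h ∈ ℋ d, P h c = 0) → c = 0)

include hbal hnd in
/-- If `y H = H` then `y` is a non-zero-divisor on the graded dual `C`. -/
theorem regular_of_divisible {δ : ℤ} {y : R} (hy : y ∈ 𝒜 δ)
    (hdiv : ∀ η : H, ∃ ξ : H, η = y • ξ) (c : C) (hc : y • c = 0) : c = 0 := by
  classical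
  have hcomp : ∀ i : ℤ, (decompose 𝒞 c i : C) = 0 := by
    intro i
    have h1 : y • (decompose 𝒞 c i : C) = 0 := by
      have := decompose_smul_left' 𝒜 𝒞 hy c (i + δ)
      rw [add_sub_cancel_right] at this
      rw [← this, hc, decompose_zero]
      rfl
    apply hnd (-i) _ (by rw [neg_neg]; exact (decompose 𝒞 c i).2)
    intro h _
    obtain ⟨ξ, rfl⟩ := hdiv h
    rw [hbal, h1, map_zero]
  rw [← sum_support_decompose 𝒞 c]
  exact Finset.sum_eq_zero fun i _ => hcomp i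

include hbal hnd in
/-- homogeneous case of `quot_regular_of_dual` -/
theorem quot_regular_of_dual_hom (h0 : IsField (deg0 𝒜))
    (hrep : ∀ (d : ℤ) (μ : H →ₗ[deg0 𝒜] deg0 𝒜), ∃ c ∈ 𝒞 (-d), ∀ h ∈ ℋ d, P h c = μ h)
    {δ₁ : ℤ} {y₁ y₂ : R} (hy1 : y₁ ∈ 𝒜 δ₁)
    (hH : ∀ η : H, y₁ • η = 0 → ∃ ξ : H, y₁ • ξ = 0 ∧ η = y₂ • ξ)
    {i : ℤ} (c : C) (hci : c ∈ 𝒞 i) (c' : C) (hcc : y₂ • c = y₁ • c') : ∃ u, c = y₁ • u := by
  letI : Field (deg0 𝒜) := h0.toField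
  let T : H →ₗ[deg0 𝒜] H :=
    { toFun := fun η => y₁ • η
      map_add' := smul_add _
      map_smul' := fun a η => smul_comm _ _ _ }
  let lam : H →ₗ[deg0 𝒜] deg0 𝒜 := P.flip c
  have hlam : lam ∈ (LinearMap.ker T).dualAnnihilator := by
    rw [Submodule.mem_dualAnnihilator]
    intro η hη
    have h1 : y₁ • η = 0 := hη
    obtain ⟨ξ, hξ, rfl⟩ := hH η h1
    show P (y₂ • ξ) c = 0
    rw [hbal, hcc, ← hbal, hξ, map_zero, LinearMap.zero_apply]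
  rw [← LinearMap.range_dualMap_eq_dualAnnihilator_ker] at hlam
  obtain ⟨μ, hμ⟩ := hlam
  have hμ' : ∀ η : H, μ (y₁ • η) = P η c := by
    intro η
    have := LinearMap.congr_fun hμ η
    exact this
  obtain ⟨u, hu, hPu⟩ := hrep (-i + δ₁) μ
  refine ⟨u, ?_⟩
  have hmem : c - y₁ • u ∈ 𝒞 (- (-i)) := by
    rw [neg_neg]
    refine sub_mem hci ?_
    have := SetLike.GradedSMul.smul_mem hy1 hu
    have e : δ₁ +ᵥ (-(-i + δ₁)) = i := by rw [vadd_eq_add]; ring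
    rwa [e] at this
  have := hnd (-i) _ hmem ?_
  · exact sub_eq_zero.mp this
  · intro η hη
    rw [map_sub, ← hbal, sub_eq_zero]
    have h2 : y₁ • η ∈ ℋ (-i + δ₁) := by
      have := SetLike.GradedSMul.smul_mem (A := 𝒜) (B := ℋ) hy1 hη
      have e : δ₁ +ᵥ (-i) = -i + δ₁ := by rw [vadd_eq_add]; ring
      rwa [e] at this
    rw [hPu _ h2, hμ']

include hbal hnd in
/-- If `(0 :_H y₁) = y₂ (0 :_H y₁)` then `y₂` is a non-zero-divisor on `C / y₁ C`. -/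
theorem quot_regular_of_dual (h0 : IsField (deg0 𝒜))
    (hrep : ∀ (d : ℤ) (μ : H →ₗ[deg0 𝒜] deg0 𝒜), ∃ c ∈ 𝒞 (-d), ∀ h ∈ ℋ d, P h c = μ h)
    {δ₁ δ₂ : ℤ} {y₁ y₂ : R} (hy1 : y₁ ∈ 𝒜 δ₁) (hy2 : y₂ ∈ 𝒜 δ₂)
    (hH : ∀ η : H, y₁ • η = 0 → ∃ ξ : H, y₁ • ξ = 0 ∧ η = y₂ • ξ)
    (c c' : C) (hcc : y₂ • c = y₁ • c') : ∃ u, c = y₁ • u := by
  classical
  have hcomp : ∀ i : ℤ, ∃ u : C, (decompose 𝒞 c i : C) = y₁ • u := by
    intro i
    refine quot_regular_of_dual_hom 𝒜 ℋ 𝒞 P hbal hnd h0 hrep hy1 hH _ (decompose 𝒞 c i).2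
      (decompose 𝒞 c' (i + δ₂ - δ₁) : C) ?_
    have h1 := decompose_smul_left' 𝒜 𝒞 hy2 c (i + δ₂)
    rw [add_sub_cancel_right] at h1
    have h2 := decompose_smul_left' 𝒜 𝒞 hy1 c' (i + δ₂)
    rw [← h1, ← h2, hcc]
  choose u hu using hcomp
  refine ⟨∑ i ∈ (decompose 𝒞 c).support, u i, ?_⟩
  rw [Finset.smul_sum]
  conv_lhs => rw [← sum_support_decompose 𝒞 c]
  exact Finset.sum_congr rfl fun i _ => hu i

end Groth.Agent.Lib.GrDualReg
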