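import Mathlib
import Groth.Prelude.Def_GrLC
import Groth.Agent.S13229

/-!
# Generic linear forms on graded modules I: McCoy for modules, the exchange lemma (helper12)

* `exists_ne_zero_of_smul_eq_zero` : **McCoy's theorem for modules**: `f • v = 0`, `v ≠ 0` in `M[X]`
  ⇒ a nonzero element of `M` is killed by all coefficients of `f`.
* `exchange` : if `y₁, y₂` is a `V`-regular sequence, `f` is `V`-regular and `y₁ v, y₂ v ∈ f V`
  then `v ∈ f V` (a depth-two module modulo a regular element has no socle).
* coefficientwise transfer of regularity to `PolynomialModule`, homogeneous projections `projPM`.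
-/

set_option autoImplicit false
set_option linter.unusedSectionVars false

universe u

namespace Groth.Agent.Lib.GrGenericForm

open Polynomial DirectSum GrLC

section McCoy

variable {R : Type u} [CommRing R] {M : Type u} [AddCommGroup M] [Module R M]

theorem coeff_C_smul (r : R) (w : PolynomialModule R M) (q : ℕ) :
    (C r • w).coeff q = r • w.coeff q := by
  rw [← monomial_zero_left, PolynomialModule.monomial_smul_apply]
  simp

theorem eq_zero_of_coeff_eq_zero (w : PolynomialModule R M) (h : ∀ q, w.coeff q = 0) : w = 0 := by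
  rw [← PolynomialModule.coeff_eq_zero]
  ext q
  exact h q

/-- **McCoy's theorem for modules**: if `f • v = 0` with `v ≠ 0` in `M[X]` then some nonzero element
of `M` is killed by all coefficients of `f`. -/
theorem exists_ne_zero_of_smul_eq_zero (f : R[X]) (v : PolynomialModule R M) (hv : v ≠ 0)
    (h : f • v = 0) : ∃ m : M, m ≠ 0 ∧ ∀ i, f.coeff i • m = 0 := by
  classical
  have hex : ∃ n : ℕ, ∃ w : PolynomialModule R M,
      w ≠ 0 ∧ f • w = 0 ∧ ∀ q, n < q → w.coeff q = 0 := by
    refine ⟨v.coeff.support.sup id, v, hv, h, fun q hq => ?_⟩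
    by_contra hne
    have : q ∈ v.coeff.support := Finsupp.mem_support_iff.mpr hne
    have := Finset.le_sup (f := id) this
    simp only [id] at this
    omega
  obtain ⟨w, hw0, hfw, hwq⟩ := Nat.find_spec hex
  set n := Nat.find hex with hn
  have hmin : ∀ n' < n, ∀ w' : PolynomialModule R M, f • w' = 0 →
      (∀ q, n' < q → w'.coeff q = 0) → w' = 0 := by
    intro n' hn' w' h1 h2
    by_contra hne
    exact Nat.find_min hex hn' ⟨w', hne, h1, h2⟩
  have hzero : ∀ w' : PolynomialModule R M, f • w' = 0 →
      (∀ q, n ≤ q → w'.coeff q = 0) → w' = 0 := by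
    intro w' h1 h2
    rcases Nat.eq_zero_or_pos n with h0 | hpos
    · exact eq_zero_of_coeff_eq_zero w' (fun q => h2 q (by omega))
    · exact hmin (n - 1) (by omega) w' h1 (fun q hq => h2 q (by omega))
  have hb : w.coeff n ≠ 0 := by
    intro hb0
    apply hw0
    apply hzero w hfw
    intro q hq
    rcases Nat.lt_or_ge n q with h1 | h1
    · exact hwq q h1
    · have : q = n := by omega
      rw [this]; exact hb0
  have key : ∀ k : ℕ, ∀ i, f.natDegree + 1 - i = k → (C (f.coeff i)) • w = 0 := by
    intro k
    induction k using Nat.strong_induction_on with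
    | _ k ih =>
      intro i hik
      rcases Nat.lt_or_ge f.natDegree i with h1 | h1
      · rw [coeff_eq_zero_of_natDegree_lt h1, map_zero, zero_smul]
      · have hIH : ∀ p, i < p → (C (f.coeff p)) • w = 0 := by
          intro p hp
          rcases Nat.lt_or_ge f.natDegree p with h2 | h2
          · rw [coeff_eq_zero_of_natDegree_lt h2, map_zero, zero_smul]
          · exact ih (f.natDegree + 1 - p) (by omega) p rfl
        have htop : f.coeff i • w.coeff n = 0 := by
          have h1 := congrArg (fun z : PolynomialModule R M => z.coeff (i + n)) hfw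
          simp only [PolynomialModule.coeff_zero, Finsupp.coe_zero, Pi.zero_apply] at h1
          rw [PolynomialModule.smul_apply] at h1
          rw [Finset.sum_eq_single (i, n)] at h1
          · exact h1
          · rintro ⟨p, q⟩ hpq hne
            have hsum : p + q = i + n := by simpa using hpq
            rcases lt_trichotomy q n with hq | hq | hq
            · have hp : i < p := by omega
              have := congrArg (fun z : PolynomialModule R M => z.coeff q) (hIH p hp)
              simp only [PolynomialModule.coeff_zero, Finsupp.coe_zero, Pi.zero_apply] at this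
              rw [coeff_C_smul] at this
              exact this
            · exfalso
              apply hne
              have : p = i := by omega
              rw [this, hq]
            · show f.coeff p • w.coeff q = 0
              rw [hwq q hq, smul_zero]
          · intro hni
            exfalso
            apply hni
            simp
        apply hzero
        · rw [smul_comm, hfw, smul_zero]
        · intro q hq
          rw [coeff_C_smul]
          rcases Nat.lt_or_ge n q with h1 | h1
          · rw [hwq q h1, smul_zero]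
          · have : q = n := by omega
            rw [this]; exact htop
  refine ⟨w.coeff n, hb, fun i => ?_⟩
  have := key _ i rfl
  have h2 := congrArg (fun z : PolynomialModule R M => z.coeff n) this
  simp only [PolynomialModule.coeff_zero, Finsupp.coe_zero, Pi.zero_apply] at h2
  rw [coeff_C_smul] at h2
  exact h2

end McCoy

section Exchange

/-- **Exchange lemma**: `y₁, y₂` a `V`-regular sequence, `f` `V`-regular, `y₁ v, y₂ v ∈ f V` ⇒
`v ∈ f V`. -/
theorem exchange {B : Type*} {V : Type*} [CommRing B] [AddCommGroup V] [Module B V] (y₁ y₂ f : B)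
    (h1 : ∀ v : V, y₁ • v = 0 → v = 0) (h2 : ∀ v w : V, y₂ • v = y₁ • w → ∃ u, v = y₁ • u)
    (hf : ∀ v : V, f • v = 0 → v = 0) (v w₁ w₂ : V) (e1 : y₁ • v = f • w₁)
    (e2 : y₂ • v = f • w₂) : ∃ u, v = f • u := by
  have h3 : f • (y₂ • w₁ - y₁ • w₂) = 0 := by
    rw [smul_sub, smul_comm f y₂ w₁, smul_comm f y₁ w₂, ← e1, ← e2, smul_comm y₂ y₁ v, sub_self]
  have h4 : y₂ • w₁ = y₁ • w₂ := sub_eq_zero.mp (hf _ h3)
  obtain ⟨u, hu⟩ := h2 w₁ w₂ h4
  refine ⟨u, ?_⟩
  have h5 : y₁ • (v - f • u) = 0 := by
    rw [smul_sub, e1, hu, smul_comm y₁ f u, sub_self]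
  exact sub_eq_zero.mp (h1 _ h5)

end Exchange

section Coeffwise

variable {R : Type u} [CommRing R] {M : Type u} [AddCommGroup M] [Module R M]

theorem C_smul_regular (y : R) (h1 : ∀ c : M, y • c = 0 → c = 0) (v : PolynomialModule R M)
    (hv : C y • v = 0) : v = 0 := by
  apply eq_zero_of_coeff_eq_zero
  intro q
  apply h1
  rw [← coeff_C_smul, hv]
  rfl

theorem C_smul_quot_regular (y₁ y₂ : R)
    (h2 : ∀ c c' : M, y₂ • c = y₁ • c' → ∃ u, c = y₁ • u) (v w : PolynomialModule R M)
    (h : C y₂ • v = C y₁ • w) : ∃ u : PolynomialModule R M, v = C y₁ • u := by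
  classical
  let g : M → M := fun c => if c = 0 then 0 else
    if hc : ∃ u, c = y₁ • u then Classical.choose hc else 0
  have hg0 : g 0 = 0 := by simp [g]
  have hg : ∀ c : M, (∃ u, c = y₁ • u) → c = y₁ • g c := by
    intro c hc
    by_cases hc0 : c = 0
    · simp [g, hc0]
    · simp only [g, hc0, if_false, dif_pos hc]
      exact Classical.choose_spec hc
  refine ⟨PolynomialModule.ofCoeff R (v.coeff.mapRange g hg0), ?_⟩
  rw [← PolynomialModule.coeff_inj]
  ext q
  rw [coeff_C_smul]
  show v.coeff q = y₁ • g (v.coeff q)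
  apply hg
  have hq := congrArg (fun z : PolynomialModule R M => z.coeff q) h
  simp only [coeff_C_smul] at hq
  exact h2 _ _ hq

end Coeffwise

section Graded

variable {R : Type u} [CommRing R] (𝒜 : ℤ → AddSubgroup R) [GradedRing 𝒜]
  {M : Type u} [AddCommGroup M] [Module R M] (ℳ : ℤ → AddSubgroup M) [Decomposition ℳ]
  [SetLike.GradedSMul 𝒜 ℳ]

/-- All coefficients lie in the degree-`j` piece. -/
def CoeffIn (j : ℤ) (v : PolynomialModule R M) : Prop := ∀ q, v.coeff q ∈ ℳ j

theorem coeffIn_zero (j : ℤ) : CoeffIn ℳ j (0 : PolynomialModule R M) := fun _ => zero_mem _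

theorem coeffIn_add {j : ℤ} {v w : PolynomialModule R M} (hv : CoeffIn ℳ j v)
    (hw : CoeffIn ℳ j w) : CoeffIn ℳ j (v + w) := fun q => add_mem (hv q) (hw q)

theorem coeffIn_sum {j : ℤ} {σ : Type*} (s : Finset σ) (v : σ → PolynomialModule R M)
    (hv : ∀ t ∈ s, CoeffIn ℳ j (v t)) : CoeffIn ℳ j (∑ t ∈ s, v t) := by
  classical
  induction s using Finset.induction_on with
  | empty => simpa using coeffIn_zero ℳ j
  | insert a s ha ih =>
    rw [Finset.sum_insert ha]
    exact coeffIn_add ℳ (hv a (Finset.mem_insert_self a s))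
      (ih fun t ht => hv t (Finset.mem_insert_of_mem ht))

theorem coeffIn_single {j : ℤ} {c : M} (hc : c ∈ ℳ j) (q : ℕ) :
    CoeffIn ℳ j (PolynomialModule.single R q c) := by
  intro p
  rw [PolynomialModule.coeff_single, Finsupp.single_apply]
  split_ifs
  · exact hc
  · exact zero_mem _

/-- multiplying by a polynomial with coefficients in `R_g` shifts the degree by `g` -/
theorem coeffIn_smul {g j : ℤ} {F : R[X]} (hF : ∀ i, F.coeff i ∈ 𝒜 g) {v : PolynomialModule R M}
    (hv : CoeffIn ℳ j v) : CoeffIn ℳ (g + j) (F • v) := by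
  intro q
  rw [PolynomialModule.smul_apply]
  exact sum_mem fun x _ => SetLike.GradedSMul.smul_mem (hF x.1) (hv x.2)

/-- Coefficientwise projection to degree `j`. -/
noncomputable def projPM (j : ℤ) (v : PolynomialModule R M) : PolynomialModule R M :=
  PolynomialModule.ofCoeff R (v.coeff.mapRange (fun c => (decompose ℳ c j : M)) (by simp))

theorem projPM_coeff (j : ℤ) (v : PolynomialModule R M) (q : ℕ) :
    (projPM ℳ j v).coeff q = (decompose ℳ (v.coeff q) j : M) := rfl

theorem coeffIn_projPM (j : ℤ) (v : PolynomialModule R M) : CoeffIn ℳ j (projPM ℳ j v) :=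
  fun q => (decompose ℳ (v.coeff q) j).2

theorem projPM_of_coeffIn {j : ℤ} {v : PolynomialModule R M} (hv : CoeffIn ℳ j v) :
    projPM ℳ j v = v := by
  rw [← PolynomialModule.coeff_inj]
  ext q
  rw [projPM_coeff]
  exact decompose_of_mem_same ℳ (hv q)

theorem projPM_smul {g : ℤ} {F : R[X]} (hF : ∀ i, F.coeff i ∈ 𝒜 g) (u : PolynomialModule R M)
    (j : ℤ) : projPM ℳ j (F • u) = F • projPM ℳ (j - g) u := by
  rw [← PolynomialModule.coeff_inj]
  ext q
  rw [projPM_coeff, PolynomialModule.smul_apply, PolynomialModule.smul_apply, decompose_sum,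
    DFinsupp.finsetSum_apply, AddSubmonoidClass.coe_finsetSum]
  refine Finset.sum_congr rfl fun x _ => ?_
  rw [projPM_coeff]
  exact Groth.Agent.S13229.decompose_smul_left' 𝒜 ℳ (hF x.1) (u.coeff x.2) j

end Graded

end Groth.Agent.Lib.GrGenericForm
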