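import Groth.Agent.Lib.KoszulEuler4

/-!
# Serre's Euler characteristic of Koszul complexes: Jacobson-radical versions (helper25)

`A` Noetherian (not necessarily local), `l` a list in the Jacobson radical, `M` finite with
`Good M l`.
* `supportDim_le_length_of_good_jac`: `dim M ≤ |l|`;
* `kchi_pos_of_supportDim_eq_jac`: `dim M = |l| → 0 < χ(l; M)`.
-/

set_option autoImplicit false
universe u

open CategoryTheory Limits CochainComplex
open Groth.Agent.Lib.EulerLES Groth.Agent.Lib.EulerD Groth.Agent.Lib.KoszulCone
  Groth.Agent.Lib.KoszulElem

namespace Groth.Agent.Lib.KoszulEuler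

variable {A : Type u} [CommRing A] [IsNoetherianRing A]

omit [IsNoetherianRing A] in
lemma mem_jacobson_annihilator_of_mem (M : Type u) [AddCommGroup M] [Module A M] {x : A}
    (hx : x ∈ Ring.jacobson A) : x ∈ (Module.annihilator A M).jacobson :=
  Ideal.jacobson_mono bot_le (Ideal.jacobson_bot (R := A) ▸ hx)

theorem supportDim_le_length_of_good_jac : ∀ (l : List A) (_ : ∀ a ∈ l, a ∈ Ring.jacobson A)
    (P : Type u) [AddCommGroup P] [Module A P] [Module.Finite A P], Good P l →
    Module.supportDim A P ≤ (l.length : WithBot ℕ∞)
  | [], _, P, _, _, _, h => by simpa using supportDim_le_zero_of_good_nil h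
  | x :: l, hl, P, _, _, _, h => by
    have h1 := Module.supportDim_le_supportDim_quotSMulTop_succ_of_mem_jacobson (M := P) (x := x)
      (mem_jacobson_annihilator_of_mem P (hl x (List.mem_cons_self)))
    have h2 := supportDim_le_length_of_good_jac l (fun a ha => hl a (List.mem_cons_of_mem _ ha))
      (QuotSMulTop x P) h.quotSMulTop
    refine h1.trans ?_
    rw [List.length_cons]
    push_cast
    gcongr

private lemma withBot_succ_cancel' {a : WithBot ℕ∞} {n : ℕ}
    (h : a + 1 = ((n + 1 : ℕ) : WithBot ℕ∞)) : a = (n : WithBot ℕ∞) := by
  induction a using WithBot.recBotCoe with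
  | bot => simp at h; exact absurd h WithBot.bot_ne_coe
  | coe a =>
    have h' : (a + 1 : ℕ∞) = ((n + 1 : ℕ) : ℕ∞) := by exact_mod_cast h
    have : a = (n : ℕ∞) := by
      push_cast at h'
      exact ENat.add_left_injective_of_ne_top (n := 1) (by simp) h'
    exact_mod_cast this

theorem kchi_pos_of_supportDim_eq_jac : ∀ (l : List A)
    (_ : ∀ a ∈ l, a ∈ Ring.jacobson A)
    (M : Type u) [AddCommGroup M] [Module A M] [Module.Finite A M], Good M l →
    Module.supportDim A M = (l.length : WithBot ℕ∞) → 0 < kchi M l
  | [], _, M, _, _, _, h, hd => by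
    rw [kchi_nil]
    have hfl : IsFiniteLength A M :=
      Groth.Agent.Lib.FiniteLengthSupport.isFiniteLength_of_support_isMaximal
        (fun p hp => h p hp (fun f hf => by simp at hf))
    have hnt : Nontrivial M := by
      rw [← Module.supportDim_ne_bot_iff_nontrivial A M, hd]
      simp
    have h1 : Module.length A M ≠ ⊤ := Module.length_ne_top_iff.mpr hfl
    have h2 : Module.length A M ≠ 0 := by
      rw [Ne, Module.length_eq_zero_iff]
      exact not_subsingleton M
    unfold len
    have : 0 < (Module.length A M).toNat := ENat.toNat_pos h2 h1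
    exact_mod_cast this
  | x :: l, hl, M, _, _, _, h, hd => by
    obtain ⟨n, hn⟩ := exists_torsionBy_stable M x
    rw [kchi_cons_eq M x n hn l h]
    apply kchi_pos_of_supportDim_eq_jac l (fun a ha => hl a (List.mem_cons_of_mem _ ha)) _
      (h.reduction n)
    have reg := isSMulRegular_quotient_torsionBy M x n hn
    have h1 := Module.supportDim_quotSMulTop_succ_eq_supportDim_mem_jacobson reg
      (mem_jacobson_annihilator_of_mem _ (hl x List.mem_cons_self))
    have h2 := Module.supportDim_le_of_surjective (Submodule.torsionBy A M (x ^ n)).mkQ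
      (Submodule.mkQ_surjective _)
    have h3 := supportDim_le_max_of_exact (Submodule.torsionBy A M (x ^ n)).subtype
      (Submodule.torsionBy A M (x ^ n)).mkQ (Submodule.injective_subtype _)
      (Submodule.mkQ_surjective _) (LinearMap.exact_subtype_mkQ _)
    have hgN : Good (Submodule.torsionBy A M (x ^ n)) l := by
      refine Good.tail_of_pow_smul n (fun m => ?_) (h.of_support_subset
        (Module.support_subset_of_injective (Submodule.torsionBy A M (x ^ n)).subtype
          (Submodule.injective_subtype _)))
      exact Subtype.ext (by simp)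
    have h4 := supportDim_le_length_of_good_jac l (fun a ha => hl a (List.mem_cons_of_mem _ ha))
      (Submodule.torsionBy A M (x ^ n)) hgN
    rw [List.length_cons] at hd
    have h5 : Module.supportDim A (M ⧸ Submodule.torsionBy A M (x ^ n)) =
        ((l.length + 1 : ℕ) : WithBot ℕ∞) := by
      refine le_antisymm (h2.trans hd.le) ?_
      rw [← hd]
      rcases le_max_iff.mp h3 with h' | h'
      · exfalso
        have := (h'.trans h4)
        rw [hd] at this
        have h6 : (l.length + 1 : ℕ) ≤ l.length := by exact_mod_cast this
        omega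
      · exact h'
    rw [h5] at h1
    exact withBot_succ_cancel' h1

end Groth.Agent.Lib.KoszulEuler
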