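import Groth.Agent.Lib.EvPoly
import Groth.Agent.Lib.KoszulEulerJac
import Groth.Agent.S5768

/-!
# The Hilbert–Samuel polynomial and the dimension theorem `d(M) = dim M` (helper25)

`A` Noetherian with finitely many maximal ideals, `r` its Jacobson radical, `M` finite nonzero:
`length (M/r^n M)` is a polynomial in `n` for `n ≫ 0`, of degree `dim M`
(`exists_hilbertSamuel_natDegree_eq`).  The proof uses Serre's theorem (`Δ^k` of the Samuel function
of `(x₁,…,x_k)` is eventually the Koszul Euler characteristic) and the positivity of the latter for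
a system of parameters.
-/

set_option autoImplicit false
universe u

open Filter Topology Polynomial
open Groth.Agent.Lib.EulerLES Groth.Agent.Lib.KoszulEuler Groth.Agent.Lib.KoszulSamuel
  Groth.Agent.Lib.EvPoly

namespace Groth.Agent.Lib.HilbertSamuel

variable {A : Type u} [CommRing A] [IsNoetherianRing A]
variable (M : Type u) [AddCommGroup M] [Module A M] [Module.Finite A M]

/-- `M/J^n M` has finite length when `Supp M ∩ V(J)` consists of maximal ideals. -/
lemma isFiniteLength_quot_pow (l : List A) (h : Good M l) (n : ℕ) :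
    IsFiniteLength A (M ⧸ (Ideal.span {b | b ∈ l} ^ n • (⊤ : Submodule A M))) := by
  cases n with
  | zero =>
    have : Subsingleton (M ⧸ (Ideal.span {b | b ∈ l} ^ 0 • (⊤ : Submodule A M))) := by
      rw [pow_zero, Ideal.one_eq_top, Submodule.top_smul]
      exact Submodule.Quotient.subsingleton_iff.mpr rfl
    exact IsFiniteLength.of_subsingleton
  | succ n =>
    apply Groth.Agent.Lib.FiniteLengthSupport.isFiniteLength_of_support_isMaximal
    intro p hp
    rw [Module.support_quotient] at hp
    refine h p hp.1 fun b hb => ?_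
    have h2 : Ideal.span {b | b ∈ l} ^ (n + 1) ≤ p.asIdeal := by
      have := hp.2
      rw [PrimeSpectrum.mem_zeroLocus] at this
      exact this
    have h3 : Ideal.span {b | b ∈ l} ≤ p.asIdeal := p.2.le_of_pow_le h2
    exact h3 (Ideal.subset_span hb)

/-- the Samuel function of `(l)` on `M` is eventually a polynomial of degree `≤ |l|` whose
`|l|`-th coefficient is `χ(l; M)/|l|!`. -/
theorem exists_samuel_poly (l : List A) (h : Good M l) :
    ∃ P : ℚ[X], P.natDegree ≤ l.length ∧ (l.length.factorial : ℚ) * P.coeff l.length = kchi M l ∧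
      ∃ N : ℕ, ∀ n : ℕ, N ≤ n →
        ((len A (M ⧸ (Ideal.span {b | b ∈ l} ^ n • (⊤ : Submodule A M))) : ℕ) : ℚ) =
          P.eval (n : ℚ) := by
  obtain ⟨P, hdeg, hcoeff, p₀, hp₀⟩ := exists_poly_of_iterDiff_eventually_eq l.length
    (samuel (Ideal.span {b | b ∈ l}) M) (kchi M l) (exists_kchi_eq_iterDiff M l h)
  refine ⟨P, hdeg, hcoeff, p₀.toNat, fun n hn => ?_⟩
  have := hp₀ (n : ℤ) (by omega)
  unfold samuel at this
  rw [Int.toNat_natCast] at this
  push_cast at this
  exact this

omit [IsNoetherianRing A] [Module.Finite A M] in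
lemma length_quot_le_of_le {N₁ N₂ : Submodule A M} (h : N₁ ≤ N₂) :
    Module.length A (M ⧸ N₂) ≤ Module.length A (M ⧸ N₁) :=
  Module.length_le_of_surjective (Submodule.factor h) (Submodule.factor_surjective h)

omit [IsNoetherianRing A] [Module.Finite A M] in
lemma pow_mul_smul_le {r q : Ideal A} {k : ℕ}
    (h : r ^ k • (⊤ : Submodule A M) ≤ q • (⊤ : Submodule A M)) (n : ℕ) :
    r ^ (k * n) • (⊤ : Submodule A M) ≤ q ^ n • (⊤ : Submodule A M) := by
  induction n with
  | zero => simp
  | succ n ih =>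
    rw [Nat.mul_succ, pow_add, mul_comm (r ^ (k * n)), mul_smul, pow_succ, mul_smul]
    calc r ^ k • r ^ (k * n) • (⊤ : Submodule A M)
        ≤ r ^ k • q ^ n • (⊤ : Submodule A M) := Submodule.smul_mono le_rfl ih
      _ = q ^ n • r ^ k • (⊤ : Submodule A M) := by
        rw [← mul_smul, ← mul_smul, mul_comm]
      _ ≤ q ^ n • q • (⊤ : Submodule A M) := Submodule.smul_mono le_rfl h

/-- if `M/qM` has finite length, a power of the Jacobson radical maps `M` into `qM`. -/
lemma exists_pow_smul_le (q : Ideal A)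
    (hfl : IsFiniteLength A (M ⧸ (q • (⊤ : Submodule A M)))) :
    ∃ k : ℕ, 0 < k ∧ Ring.jacobson A ^ k • (⊤ : Submodule A M) ≤ q • (⊤ : Submodule A M) := by
  set I := Module.annihilator A (M ⧸ (q • (⊤ : Submodule A M))) with hI
  have hrad : Ring.jacobson A ≤ I.radical := by
    rw [Ideal.radical_eq_sInf]
    apply le_sInf
    rintro p ⟨hIp, hp⟩
    have hsupp : (⟨p, hp⟩ : PrimeSpectrum A) ∈ Module.support A (M ⧸ (q • (⊤ : Submodule A M))) := by
      rw [Module.support_eq_zeroLocus, PrimeSpectrum.mem_zeroLocus]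
      exact hIp
    have hmax := Groth.Agent.Lib.FiniteLengthSupport.isMaximal_of_mem_support_of_isFiniteLength
      hfl _ hsupp
    rw [Ring.jacobson_eq_sInf_isMaximal]
    exact sInf_le hmax
  obtain ⟨k, hk⟩ := Ideal.exists_pow_le_of_le_radical_of_fg hrad
    (IsNoetherian.noetherian (Ring.jacobson A))
  refine ⟨k + 1, Nat.succ_pos k, ?_⟩
  rw [Submodule.smul_le]
  intro a ha m _
  have ha' : a ∈ I := hk (Ideal.pow_le_pow_right (Nat.le_succ k) ha)
  have h0 : a • (Submodule.Quotient.mk m : M ⧸ (q • (⊤ : Submodule A M))) = 0 :=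
    Module.mem_annihilator.mp ha' _
  rw [← Submodule.Quotient.mk_smul, Submodule.Quotient.mk_eq_zero] at h0
  exact h0

variable [Finite (MaximalSpectrum A)]

omit [IsNoetherianRing A] [Module.Finite A M] in
/-- generators of the Jacobson radical are `Good` for every module. -/
lemma good_of_span_eq_jacobson (l : List A) (hl : Ideal.span {b | b ∈ l} = Ring.jacobson A) :
    Good M l := by
  intro p _ hpl
  have : Ring.jacobson A ≤ p.asIdeal := by
    rw [← hl, Ideal.span_le]
    intro b hb
    exact hpl b hb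
  exact Groth.Agent.S5768.jacobson_le_prime_isMaximal p.asIdeal this

/-- **The dimension theorem**: the Hilbert–Samuel polynomial of a nonzero finite module over a
Noetherian semilocal ring has degree `dim M`. -/
theorem exists_hilbertSamuel_natDegree_eq [Nontrivial M] :
    ∃ P : ℚ[X],
      (∃ N : ℕ, ∀ n : ℕ, N ≤ n →
        ∃ ℓ : ℕ, Module.length A (M ⧸ (Ring.jacobson A ^ n • (⊤ : Submodule A M))) = ℓ ∧
          (ℓ : ℚ) = P.eval (n : ℚ)) ∧
      (P.natDegree : WithBot ℕ∞) = Module.supportDim A M := by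
  classical
  obtain ⟨δ, hδ⟩ := Groth.Agent.S5768.exists_nat_eq_supportDim A M
  obtain ⟨ys, hys, hlen, hfl⟩ := Groth.Agent.S5768.exists_sop A δ M hδ
  -- the parameter ideal
  have hgood_q : Good M ys := good_of_isFiniteLength M ys {b | b ∈ ys} (fun a ha => ha) hfl
  obtain ⟨Pq, hPqdeg, hPqcoeff, Nq, hNq⟩ := exists_samuel_poly M ys hgood_q
  have hpos : 0 < kchi M ys := kchi_pos_of_supportDim_eq_jac ys hys M hgood_q (by rw [hδ, hlen])
  rw [hlen] at hPqdeg hPqcoeff
  have hPqnat : Pq.natDegree = δ := by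
    refine le_antisymm hPqdeg (le_natDegree_of_ne_zero ?_)
    intro h0
    rw [h0, mul_zero] at hPqcoeff
    have : (kchi M ys : ℚ) = 0 := hPqcoeff.symm
    have : kchi M ys = 0 := by exact_mod_cast this
    omega
  -- the Jacobson radical
  obtain ⟨S, hS⟩ := (IsNoetherian.noetherian (Ring.jacobson A) : (Ring.jacobson A).FG)
  have hset : {b | b ∈ S.toList} = (S : Set A) := by
    ext b
    simp
  have hl : Ideal.span {b | b ∈ S.toList} = Ring.jacobson A := by rw [hset]; exact hS
  have hgood_r : Good M S.toList := good_of_span_eq_jacobson M S.toList hl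
  obtain ⟨Pr, -, -, Nr, hNr⟩ := exists_samuel_poly M S.toList hgood_r
  rw [hl] at hNr
  have hfl_r : ∀ n, IsFiniteLength A (M ⧸ (Ring.jacobson A ^ n • (⊤ : Submodule A M))) := by
    intro n
    have := isFiniteLength_quot_pow M S.toList hgood_r n
    rwa [hl] at this
  have hfl_q : ∀ n, IsFiniteLength A (M ⧸ (Ideal.span {b | b ∈ ys} ^ n • (⊤ : Submodule A M))) :=
    isFiniteLength_quot_pow M ys hgood_q
  have hqr : Ideal.span {b | b ∈ ys} ≤ Ring.jacobson A := by
    rw [Ideal.span_le]
    intro b hb
    exact hys b hb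
  -- toNat monotonicity
  have htoNat : ∀ {X Y : Type u} [AddCommGroup X] [Module A X] [AddCommGroup Y] [Module A Y],
      IsFiniteLength A Y → Module.length A X ≤ Module.length A Y → len A X ≤ len A Y := by
    intro X Y _ _ _ _ hY hle
    exact ENat.toNat_le_toNat hle (Module.length_ne_top_iff.mpr hY)
  -- (i) `P_r ≤ P_q`
  have h1 : Pr.natDegree ≤ Pq.natDegree := by
    apply natDegree_le_of_eventually_le
    · filter_upwards [eventually_ge_atTop Nr] with n hn
      rw [← hNr n hn]
      positivity
    · filter_upwards [eventually_ge_atTop Nr, eventually_ge_atTop Nq] with n hn hn'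
      rw [← hNr n hn, ← hNq n hn']
      have : len A (M ⧸ (Ring.jacobson A ^ n • (⊤ : Submodule A M))) ≤
          len A (M ⧸ (Ideal.span {b | b ∈ ys} ^ n • (⊤ : Submodule A M))) :=
        htoNat (hfl_q n) (length_quot_le_of_le M
          (Submodule.smul_mono_left (Ideal.pow_right_mono hqr n)))
      exact_mod_cast this
  -- (ii) `P_q(n) ≤ P_r(k n)`
  obtain ⟨k, hk0, hk⟩ := exists_pow_smul_le M (Ideal.span {b | b ∈ ys}) hfl
  have h2 : Pq.natDegree ≤ Pr.natDegree := by
    have h3 : Pq.natDegree ≤ (Pr.comp (C (k : ℚ) * X)).natDegree := by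
      apply natDegree_le_of_eventually_le
      · filter_upwards [eventually_ge_atTop Nq] with n hn
        rw [← hNq n hn]
        positivity
      · filter_upwards [eventually_ge_atTop Nr, eventually_ge_atTop Nq] with n hn hn'
        have hkn : Nr ≤ k * n := hn.trans (Nat.le_mul_of_pos_left n hk0)
        have e1 : (Pr.comp (C (k : ℚ) * X)).eval (n : ℚ) = Pr.eval ((k * n : ℕ) : ℚ) := by
          rw [eval_comp, eval_mul, eval_C, eval_X]
          push_cast
          rfl
        rw [e1, ← hNr (k * n) hkn, ← hNq n hn']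
        have : len A (M ⧸ (Ideal.span {b | b ∈ ys} ^ n • (⊤ : Submodule A M))) ≤
            len A (M ⧸ (Ring.jacobson A ^ (k * n) • (⊤ : Submodule A M))) :=
          htoNat (hfl_r (k * n)) (length_quot_le_of_le M (pow_mul_smul_le M hk n))
        exact_mod_cast this
    refine h3.trans (natDegree_comp_le.trans ?_)
    have : (C (k : ℚ) * X).natDegree ≤ 1 := (natDegree_C_mul_le _ _).trans natDegree_X_le
    calc Pr.natDegree * (C (k : ℚ) * X).natDegree ≤ Pr.natDegree * 1 := Nat.mul_le_mul_left _ this
      _ = Pr.natDegree := mul_one _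
  have hPr : Pr.natDegree = δ := by omega
  refine ⟨Pr, ⟨Nr, fun n hn => ⟨len A (M ⧸ (Ring.jacobson A ^ n • (⊤ : Submodule A M))), ?_,
    hNr n hn⟩⟩, ?_⟩
  · unfold len
    rw [ENat.natCast_toNat (Module.length_ne_top_iff.mpr (hfl_r n))]
  · rw [hPr, hδ]

end Groth.Agent.Lib.HilbertSamuel
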