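import Mathlib
import Groth.Agent.Lib.HilbertSamuel
import Groth.Agent.Lib.H74GrDim3
import Groth.Agent.S17770

set_option autoImplicit false
set_option linter.unusedSectionVars false
set_option linter.style.haveILetI false

universe u

namespace Groth.Agent.Lib.GrHilbSamuel

open DirectSum GrLC Polynomial Groth.Agent.Lib.H74GrArt Groth.Agent.S13229

variable {R : Type u} [CommRing R] (𝒜 : ℤ → AddSubgroup R) [GradedRing 𝒜]

/-- For a module killed by the irrelevant ideal, length over `R` is length over `R_0`. -/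
theorem length_eq_of_irr_smul (hpos : ∀ n : ℤ, n < 0 → 𝒜 n = ⊥) (N : Type u) [AddCommGroup N]
    [Module R N] (hN : ∀ r ∈ (irr 𝒜).toIdeal, ∀ x : N, r • x = 0) :
    Module.length R N = Module.length (deg0 𝒜) N := by
  have key : ∀ (r : R) (x : N),
      r • x = (⟨(decompose 𝒜 r 0 : R), (decompose 𝒜 r 0).2⟩ : deg0 𝒜) • x := by
    intro r x
    have h1 := hN _ (sub_decompose_zero_mem_irr 𝒜 hpos r) x
    rw [sub_smul, sub_eq_zero] at h1
    rw [h1]
    rfl
  let φ : Submodule R N ≃o Submodule (deg0 𝒜) N :=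
    { toFun := fun U => U.restrictScalars (deg0 𝒜)
      invFun := fun U =>
        { carrier := U
          add_mem' := U.add_mem
          zero_mem' := U.zero_mem
          smul_mem' := fun r x hx => by
            rw [key r x]
            exact U.smul_mem _ hx }
      left_inv := fun U => rfl
      right_inv := fun U => rfl
      map_rel_iff' := Iff.rfl }
  apply WithBot.coe_injective
  rw [Module.coe_length, Module.coe_length, Order.krullDim_eq_of_orderIso φ]

/-- In a standard graded ring, `(R_+)^n = R_{≥ n}`. -/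
theorem irr_pow_eq_ge (hpos : ∀ n : ℤ, n < 0 → 𝒜 n = ⊥)
    (hstd : Ideal.span (⋃ n ∈ Set.Ioi (0 : ℤ), (𝒜 n : Set R)) =
      Ideal.span ((𝒜 1 : AddSubgroup R) : Set R)) (n : ℕ) :
    (irr 𝒜).toIdeal ^ n = ge 𝒜 𝒜 hpos (n : ℤ) := by
  classical
  apply le_antisymm
  · have htop : (⊤ : Submodule R R) ≤ ge 𝒜 𝒜 hpos 0 := by
      intro x _ k hk
      have h1 := (decompose 𝒜 x k).2
      have h2 : (decompose 𝒜 x k : R) ∈ (⊥ : AddSubgroup R) := by
        rw [← hpos k hk]; exact h1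
      exact h2
    have h := pow_smul_top_le_ge 𝒜 𝒜 hpos (irr 𝒜).toIdeal rfl htop n
    rw [zero_add, smul_eq_mul, Ideal.mul_top] at h
    exact h
  · intro x hx
    rw [← sum_support_decompose 𝒜 x]
    refine Ideal.sum_mem _ fun j _ => ?_
    by_cases hj : j < (n : ℤ)
    · rw [hx j hj]; exact zero_mem _
    · rw [not_lt] at hj
      have hj0 : (0 : ℤ) ≤ j := le_trans (Int.natCast_nonneg n) hj
      obtain ⟨i, rfl⟩ := Int.eq_ofNat_of_zero_le hj0
      have h1 := mem_pow_of_mem 𝒜 (irr 𝒜).toIdeal rfl hstd i _ (decompose 𝒜 x (i : ℤ)).2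
      exact Ideal.pow_le_pow_right (by exact_mod_cast hj) h1


/-- The piece `R_n` maps isomorphically onto `R_{≥ n} / R_{≥ n+1}` inside `R / R_{≥ n+1}`. -/
theorem length_quot_ge_succ (hpos : ∀ n : ℤ, n < 0 → 𝒜 n = ⊥) (n : ℤ) :
    Module.length R (R ⧸ ge 𝒜 𝒜 hpos (n + 1)) =
      Module.length (deg0 𝒜) (comp 𝒜 𝒜 n) + Module.length R (R ⧸ ge 𝒜 𝒜 hpos n) := by
  classical
  have hle : ge 𝒜 𝒜 hpos (n + 1) ≤ ge 𝒜 𝒜 hpos n := ge_anti (by omega)
  set g : (R ⧸ ge 𝒜 𝒜 hpos (n + 1)) →ₗ[R] (R ⧸ ge 𝒜 𝒜 hpos n) := Submodule.factor hle with hg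
  have hgs : Function.Surjective g := Submodule.factor_surjective hle
  have hex : Function.Exact (LinearMap.ker g).subtype g := LinearMap.exact_subtype_ker_map g
  rw [Module.length_eq_add_of_exact (LinearMap.ker g).subtype g
    (Submodule.injective_subtype _) hgs hex]
  congr 1
  -- the kernel is killed by the irrelevant ideal
  have hker : ∀ z : R ⧸ ge 𝒜 𝒜 hpos (n + 1), z ∈ LinearMap.ker g ↔
      ∃ y ∈ ge 𝒜 𝒜 hpos n, Submodule.Quotient.mk y = z := by
    intro z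
    obtain ⟨y, rfl⟩ := Submodule.Quotient.mk_surjective _ z
    rw [LinearMap.mem_ker, hg]
    have e1 : Submodule.factor hle (Submodule.Quotient.mk y) = Submodule.Quotient.mk y :=
      Submodule.factor_mk hle y
    rw [e1, Submodule.Quotient.mk_eq_zero]
    constructor
    · intro h; exact ⟨y, h, rfl⟩
    · rintro ⟨y', hy', h⟩
      have h2 : y' - y ∈ ge 𝒜 𝒜 hpos (n + 1) := (Submodule.Quotient.eq _).mp h
      have : y = y' - (y' - y) := by ring
      rw [this]
      exact Submodule.sub_mem _ hy' (hle h2)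
  have hkill : ∀ r ∈ (irr 𝒜).toIdeal, ∀ x : LinearMap.ker g, r • x = 0 := by
    rintro r hr ⟨z, hz⟩
    obtain ⟨y, hy, rfl⟩ := (hker z).mp hz
    apply Subtype.ext
    show r • (Submodule.Quotient.mk y : R ⧸ ge 𝒜 𝒜 hpos (n + 1)) = 0
    rw [← Submodule.Quotient.mk_smul, Submodule.Quotient.mk_eq_zero]
    exact smul_ge_le 𝒜 𝒜 hpos (irr 𝒜).toIdeal rfl n (Submodule.smul_mem_smul hr hy)
  rw [length_eq_of_irr_smul 𝒜 hpos _ hkill]
  -- the `R_0`-linear isomorphism
  let ψ : comp 𝒜 𝒜 n →ₗ[deg0 𝒜] LinearMap.ker g :=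
    { toFun := fun x => ⟨Submodule.Quotient.mk (x : R), (hker _).mpr
        ⟨(x : R), mem_ge_of_mem (le_refl n) x.2, rfl⟩⟩
      map_add' := fun x y => rfl
      map_smul' := fun r x => rfl }
  have hψ : Function.Bijective ψ := by
    constructor
    · rw [← LinearMap.ker_eq_bot, eq_bot_iff]
      rintro ⟨x, hx⟩ h
      rw [LinearMap.mem_ker] at h
      have h1 : (Submodule.Quotient.mk x : R ⧸ ge 𝒜 𝒜 hpos (n + 1)) = 0 :=
        congrArg Subtype.val h
      rw [Submodule.Quotient.mk_eq_zero] at h1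
      have h2 := h1 n (by omega)
      rw [decompose_of_mem_same 𝒜 hx] at h2
      rw [Submodule.mem_bot]
      exact Subtype.ext h2
    · rintro ⟨z, hz⟩
      obtain ⟨y, hy, rfl⟩ := (hker z).mp hz
      refine ⟨⟨(decompose 𝒜 y n : R), (decompose 𝒜 y n).2⟩, ?_⟩
      apply Subtype.ext
      show (Submodule.Quotient.mk (decompose 𝒜 y n : R) : R ⧸ ge 𝒜 𝒜 hpos (n + 1)) =
        Submodule.Quotient.mk y
      rw [Submodule.Quotient.eq]
      intro k hk
      rw [decompose_sub, DirectSum.sub_apply, AddSubgroup.coe_sub]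
      rcases lt_or_eq_of_le (show k ≤ n by omega) with h | h
      · rw [hy k h, decompose_of_mem_ne 𝒜 (decompose 𝒜 y n).2 (ne_of_gt h), sub_zero]
      · subst h
        rw [decompose_of_mem_same 𝒜 (decompose 𝒜 y k).2, sub_self]
  exact ((LinearEquiv.ofBijective ψ hψ).length_eq).symm


/-- comparison of eventually polynomial functions. -/
theorem natDegree_eq_of_sandwich (P Q : ℚ[X]) (f g : ℕ → ℕ)
    (hP : ∃ N : ℕ, ∀ n : ℕ, N ≤ n → (f n : ℚ) = P.eval (n : ℚ))
    (hQ : ∃ N : ℕ, ∀ n : ℕ, N ≤ n → (g n : ℚ) = Q.eval (n : ℚ))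
    (h1 : ∀ n, f n ≤ g n) (s : ℕ) (hs : 0 < s) (h2 : ∀ n, g n ≤ f (s * n)) :
    P.natDegree = Q.natDegree := by
  obtain ⟨NP, hNP⟩ := hP
  obtain ⟨NQ, hNQ⟩ := hQ
  apply le_antisymm
  · apply Groth.Agent.Lib.EvPoly.natDegree_le_of_eventually_le
    · filter_upwards [Filter.eventually_ge_atTop NP] with n hn
      rw [← hNP n hn]
      positivity
    · filter_upwards [Filter.eventually_ge_atTop NP, Filter.eventually_ge_atTop NQ] with n hn hn'
      rw [← hNP n hn, ← hNQ n hn']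
      exact_mod_cast h1 n
  · have h3 : Q.natDegree ≤ (P.comp (C (s : ℚ) * X)).natDegree := by
      apply Groth.Agent.Lib.EvPoly.natDegree_le_of_eventually_le
      · filter_upwards [Filter.eventually_ge_atTop NQ] with n hn
        rw [← hNQ n hn]
        positivity
      · filter_upwards [Filter.eventually_ge_atTop NP, Filter.eventually_ge_atTop NQ] with n hn hn'
        have hkn : NP ≤ s * n := hn.trans (Nat.le_mul_of_pos_left n hs)
        have e1 : (P.comp (C (s : ℚ) * X)).eval (n : ℚ) = P.eval ((s * n : ℕ) : ℚ) := by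
          rw [eval_comp, eval_mul, eval_C, eval_X]
          push_cast
          rfl
        rw [e1, ← hNP (s * n) hkn, ← hNQ n hn']
        exact_mod_cast h2 n
    refine h3.trans (natDegree_comp_le.trans ?_)
    have : (C (s : ℚ) * X).natDegree ≤ 1 := (natDegree_C_mul_le _ _).trans natDegree_X_le
    calc P.natDegree * (C (s : ℚ) * X).natDegree ≤ P.natDegree * 1 := Nat.mul_le_mul_left _ this
      _ = P.natDegree := mul_one _

section Samuel

variable [IsNoetherianRing R] [IsArtinianRing (deg0 𝒜)]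

theorem isMaximal_of_irr_le (hpos : ∀ n : ℤ, n < 0 → 𝒜 n = ⊥) (p : Ideal R) [hp : p.IsPrime]
    (hle : (irr 𝒜).toIdeal ≤ p) : p.IsMaximal := by
  let φ : (deg0 𝒜) →+* R ⧸ (irr 𝒜).toIdeal :=
    (Ideal.Quotient.mk (irr 𝒜).toIdeal).comp (deg0 𝒜).subtype
  have hφ : Function.Surjective φ := by
    intro y
    obtain ⟨r, rfl⟩ := Ideal.Quotient.mk_surjective y
    refine ⟨⟨(decompose 𝒜 r 0 : R), (decompose 𝒜 r 0).2⟩, ?_⟩
    show Ideal.Quotient.mk _ (decompose 𝒜 r 0 : R) = Ideal.Quotient.mk _ r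
    rw [eq_comm, Ideal.Quotient.eq]
    exact sub_decompose_zero_mem_irr 𝒜 hpos r
  haveI : IsArtinianRing (R ⧸ (irr 𝒜).toIdeal) := hφ.isArtinianRing
  have hker : RingHom.ker (Ideal.Quotient.mk (irr 𝒜).toIdeal) ≤ p := by
    rw [Ideal.mk_ker]; exact hle
  haveI : (p.map (Ideal.Quotient.mk (irr 𝒜).toIdeal)).IsPrime :=
    Ideal.map_isPrime_of_surjective Ideal.Quotient.mk_surjective hker
  haveI : (p.map (Ideal.Quotient.mk (irr 𝒜).toIdeal)).IsMaximal :=
    IsArtinianRing.isMaximal_of_isPrime _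
  have h1 : ((p.map (Ideal.Quotient.mk (irr 𝒜).toIdeal)).comap
      (Ideal.Quotient.mk (irr 𝒜).toIdeal)).IsMaximal :=
    Ideal.comap_isMaximal_of_surjective _ Ideal.Quotient.mk_surjective
  rwa [Ideal.comap_map_of_surjective _ Ideal.Quotient.mk_surjective, ← RingHom.ker_eq_comap_bot,
    sup_eq_left.mpr hker] at h1

open Groth.Agent.Lib.EulerLES Groth.Agent.Lib.KoszulEuler Groth.Agent.Lib.KoszulSamuel
  Groth.Agent.Lib.HilbertSamuel

/-- The Samuel function of the irrelevant ideal is eventually polynomial. -/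
theorem exists_samuel_irr (hpos : ∀ n : ℤ, n < 0 → 𝒜 n = ⊥)
    (hstd : Ideal.span (⋃ n ∈ Set.Ioi (0 : ℤ), (𝒜 n : Set R)) =
      Ideal.span ((𝒜 1 : AddSubgroup R) : Set R)) :
    (∀ n : ℕ, IsFiniteLength R (R ⧸ ge 𝒜 𝒜 hpos (n : ℤ))) ∧
    ∃ Q : ℚ[X], ∃ N : ℕ, ∀ n : ℕ, N ≤ n →
      (((Module.length R (R ⧸ ge 𝒜 𝒜 hpos (n : ℤ))).toNat : ℕ) : ℚ) = Q.eval (n : ℚ) := by
  classical
  obtain ⟨S, hS⟩ := (IsNoetherian.noetherian (irr 𝒜).toIdeal : ((irr 𝒜).toIdeal).FG)
  have hset : {b | b ∈ S.toList} = (S : Set R) := by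
    ext b
    simp
  have hl : Ideal.span {b | b ∈ S.toList} = (irr 𝒜).toIdeal := by rw [hset]; exact hS
  have hgood : Good R S.toList := by
    intro p _ hpl
    haveI := p.2
    apply isMaximal_of_irr_le 𝒜 hpos
    rw [← hl, Ideal.span_le]
    intro b hb
    exact hpl b hb
  have hrw : ∀ n : ℕ, (Ideal.span {b | b ∈ S.toList} ^ n • (⊤ : Submodule R R)) =
      ge 𝒜 𝒜 hpos (n : ℤ) := by
    intro n
    rw [hl, smul_eq_mul, Ideal.mul_top]
    exact irr_pow_eq_ge 𝒜 hpos hstd n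
  refine ⟨fun n => ?_, ?_⟩
  · have := isFiniteLength_quot_pow R S.toList hgood n
    rwa [hrw n] at this
  · obtain ⟨Q, -, -, N, hN⟩ := exists_samuel_poly R S.toList hgood
    refine ⟨Q, N, fun n hn => ?_⟩
    have := hN n hn
    rw [hrw n] at this
    exact this


omit [IsNoetherianRing R] [IsArtinianRing (deg0 𝒜)] in
theorem length_localization_quot_pow (m : Ideal R) [hm : m.IsMaximal] (n : ℕ) :
    Module.length (Localization.AtPrime m)
      (Localization.AtPrime m ⧸ (Ring.jacobson (Localization.AtPrime m) ^ n •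
        (⊤ : Submodule (Localization.AtPrime m) (Localization.AtPrime m)))) =
    Module.length R (R ⧸ m ^ n) := by
  set A := Localization.AtPrime m with hA
  rw [IsLocalRing.ringJacobson_eq_maximalIdeal, smul_eq_mul, Ideal.mul_top]
  have e := IsLocalization.AtPrime.equivQuotMaximalIdealPow m A n
  rw [e.toLinearEquiv.length_eq]
  have hsurj : Function.Surjective (algebraMap R (A ⧸ IsLocalRing.maximalIdeal A ^ n)) := by
    intro y
    obtain ⟨x, rfl⟩ := e.surjective y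
    obtain ⟨r, rfl⟩ := Ideal.Quotient.mk_surjective x
    exact ⟨r, by simp⟩
  rw [Module.length_eq_of_surjective (S := R) (R := A ⧸ IsLocalRing.maximalIdeal A ^ n) hsurj]
  exact (Module.length_eq_of_surjective (S := A) (R := A ⧸ IsLocalRing.maximalIdeal A ^ n)
    Ideal.Quotient.mk_surjective)

omit [IsNoetherianRing R] [IsArtinianRing (deg0 𝒜)] in
theorem length_quot_le_of_le' {I J : Ideal R} (h : I ≤ J) :
    Module.length R (R ⧸ J) ≤ Module.length R (R ⧸ I) :=
  Module.length_le_of_surjective (Submodule.factor h) (Submodule.factor_surjective h)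

/-- **Hilbert polynomial** of a standard graded `*`local ring with Artinian `R_0`: it exists and
has degree `< dim R`. -/
theorem exists_hilbPoly (hpos : ∀ n : ℤ, n < 0 → 𝒜 n = ⊥)
    (hstd : Ideal.span (⋃ n ∈ Set.Ioi (0 : ℤ), (𝒜 n : Set R)) =
      Ideal.span ((𝒜 1 : AddSubgroup R) : Set R))
    (m : HomogeneousIdeal 𝒜) (hm : GrLC.IsStarLocal 𝒜 m) (d : ℕ) (hd : ringKrullDim R = d) :
    ∃ P : ℚ[X], P.degree < (d : WithBot ℕ) ∧ ∃ N : ℤ, ∀ n : ℤ, N ≤ n →
      P.eval (n : ℚ) = ((Module.length (deg0 𝒜) (comp 𝒜 𝒜 n)).toNat : ℚ) := by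
  classical
  haveI hmax : m.toIdeal.IsMaximal := isMaximal_of_isStarLocal 𝒜 hpos m hm
  set A := Localization.AtPrime m.toIdeal with hA
  obtain ⟨PA, ⟨NA, hNA⟩, hdeg⟩ := exists_hilbertSamuel_natDegree_eq (A := A) A
  have hPAd : PA.natDegree = d := by
    rw [Module.supportDim_self_eq_ringKrullDim,
      IsLocalization.AtPrime.ringKrullDim_eq_height m.toIdeal A,
      ← Groth.Agent.Lib.H74GrDim.ringKrullDim_eq_height 𝒜 hpos m hm, hd] at hdeg
    exact_mod_cast hdeg
  obtain ⟨hfin, Q, NQ, hNQ⟩ := exists_samuel_irr 𝒜 hpos hstd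
  obtain ⟨s0, hs0⟩ := Groth.Agent.S17770.exists_pow_le_irr 𝒜 hpos m hm
  have hirr := Groth.Agent.S17770.irr_le_of_isStarLocal 𝒜 hpos m hm
  have hs : m.toIdeal ^ (s0 + 1) ≤ (irr 𝒜).toIdeal :=
    (Ideal.pow_le_pow_right (Nat.le_succ s0)).trans hs0
  -- lengths of `R / m^n`
  have hlenA : ∀ n : ℕ, NA ≤ n → ∃ ℓ : ℕ, Module.length R (R ⧸ m.toIdeal ^ n) = ℓ ∧
      (ℓ : ℚ) = PA.eval (n : ℚ) := by
    intro n hn
    obtain ⟨ℓ, h1, h2⟩ := hNA n hn
    rw [length_localization_quot_pow] at h1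
    exact ⟨ℓ, h1, h2⟩
  have hfinm : ∀ n : ℕ, Module.length R (R ⧸ m.toIdeal ^ n) ≠ ⊤ := by
    intro n
    obtain ⟨ℓ, h1, -⟩ := hlenA (max n NA) (le_max_right _ _)
    have h2 := length_quot_le_of_le' (Ideal.pow_le_pow_right (le_max_left n NA) :
      m.toIdeal ^ (max n NA) ≤ m.toIdeal ^ n)
    rw [h1] at h2
    exact ne_top_of_le_ne_top (ENat.natCast_ne_top ℓ) h2
  have hfing : ∀ n : ℕ, Module.length R (R ⧸ ge 𝒜 𝒜 hpos (n : ℤ)) ≠ ⊤ :=
    fun n => Module.length_ne_top_iff.mpr (hfin n)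
  have hQd : Q.natDegree = d := by
    rw [← hPAd]
    symm
    apply natDegree_eq_of_sandwich PA Q
      (fun n => (Module.length R (R ⧸ m.toIdeal ^ n)).toNat)
      (fun n => (Module.length R (R ⧸ ge 𝒜 𝒜 hpos (n : ℤ))).toNat)
      ⟨NA, fun n hn => ?_⟩ ⟨NQ, hNQ⟩ (fun n => ?_) (s0 + 1) (Nat.succ_pos s0) (fun n => ?_)
    · obtain ⟨ℓ, h1, h2⟩ := hlenA n hn
      show (((Module.length R (R ⧸ m.toIdeal ^ n)).toNat : ℕ) : ℚ) = _
      rw [h1, ENat.toNat_natCast, h2]
    · apply ENat.toNat_le_toNat _ (hfing n)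
      rw [← irr_pow_eq_ge 𝒜 hpos hstd n]
      exact length_quot_le_of_le' (Ideal.pow_right_mono hirr n)
    · apply ENat.toNat_le_toNat _ (hfinm _)
      rw [← irr_pow_eq_ge 𝒜 hpos hstd n]
      apply length_quot_le_of_le'
      rw [pow_mul]
      exact Ideal.pow_right_mono hs n
  refine ⟨taylor 1 Q - Q, ?_, (NQ : ℤ), fun n hn => ?_⟩
  · by_cases hQ0 : Q = 0
    · rw [hQ0, map_zero, sub_zero, degree_zero]
      exact WithBot.bot_lt_coe d
    · have h1 : (taylor 1 Q - Q).degree < (taylor 1 Q).degree :=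
        degree_sub_lt_left (degree_taylor Q 1) (by rwa [ne_eq, taylor_eq_zero])
          (leadingCoeff_taylor 1 Q)
      rw [degree_taylor, degree_eq_natDegree hQ0, hQd] at h1
      exact h1
  · have hn0 : (0 : ℤ) ≤ n := le_trans (Int.natCast_nonneg NQ) hn
    obtain ⟨k, rfl⟩ := Int.eq_ofNat_of_zero_le hn0
    have hk : NQ ≤ k := by exact_mod_cast hn
    rw [eval_sub, taylor_eval]
    have e1 : ((k : ℤ) : ℚ) + 1 = ((k + 1 : ℕ) : ℚ) := by push_cast; ring
    have e2 : ((k : ℤ) : ℚ) = ((k : ℕ) : ℚ) := by push_cast; ring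
    rw [e1, e2, ← hNQ (k + 1) (by omega), ← hNQ k hk]
    have h3 := length_quot_ge_succ 𝒜 hpos (k : ℤ)
    have e3 : ((k : ℤ) + 1) = ((k + 1 : ℕ) : ℤ) := by push_cast; ring
    rw [e3] at h3
    have hfc : Module.length (deg0 𝒜) (comp 𝒜 𝒜 (k : ℤ)) ≠ ⊤ := by
      intro h
      rw [h, top_add] at h3
      exact hfing (k + 1) h3
    rw [h3, ENat.toNat_add hfc (hfing k)]
    push_cast
    ring

end Samuel

end Groth.Agent.Lib.GrHilbSamuel
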