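import Mathlib
import Groth.Agent.Lib.GrHilbSamuel
import Groth.Agent.Lib.H74GrSerre4

/-!
# Hilbert polynomials of finitely generated graded modules I: existence (helper12)

`R` a Noetherian positively `ℤ`-graded ring, standard graded (irrelevant ideal generated by `R_1`),
`R_0` Artinian, `M` a finitely generated graded `R`-module.  Then `n ↦ ℓ_{R_0}(M_n)` is eventually
a polynomial (`exists_hilbPoly_module`).  The proof applies the Samuel polynomial of the irrelevant
ideal to the submodule `M_{≥ b}` (generated in degree `b`), for which `(R_+)^n M_{≥ b} = M_{≥ b+n}`.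
-/

set_option autoImplicit false
set_option linter.unusedSectionVars false
set_option linter.style.haveILetI false

universe u

namespace Groth.Agent.Lib.GrHilbMod

open DirectSum GrLC Polynomial Groth.Agent.Lib.H74GrArt Groth.Agent.S13229
  Groth.Agent.Lib.GrHilbSamuel Groth.Agent.Lib.HilbertSamuel Groth.Agent.Lib.H74GrSerre
  Groth.Agent.Lib.EulerLES Groth.Agent.Lib.KoszulEuler Groth.Agent.Lib.KoszulSamuel

variable {R : Type u} [CommRing R] (𝒜 : ℤ → AddSubgroup R) [GradedRing 𝒜]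
variable {M : Type u} [AddCommGroup M] [Module R M] (ℳ : ℤ → AddSubgroup M) [Decomposition ℳ]
  [SetLike.GradedSMul 𝒜 ℳ]

/-- The piece `M_n` maps isomorphically onto `M_{≥ n} / M_{≥ n+1}` inside `M / M_{≥ n+1}`. -/
theorem length_quot_ge_succ (hpos : ∀ n : ℤ, n < 0 → 𝒜 n = ⊥) (n : ℤ) :
    Module.length R (M ⧸ ge 𝒜 ℳ hpos (n + 1)) =
      Module.length (deg0 𝒜) (comp 𝒜 ℳ n) + Module.length R (M ⧸ ge 𝒜 ℳ hpos n) := by
  classical
  have hle : ge 𝒜 ℳ hpos (n + 1) ≤ ge 𝒜 ℳ hpos n := ge_anti (by omega)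
  set g : (M ⧸ ge 𝒜 ℳ hpos (n + 1)) →ₗ[R] (M ⧸ ge 𝒜 ℳ hpos n) := Submodule.factor hle with hg
  have hgs : Function.Surjective g := Submodule.factor_surjective hle
  have hex : Function.Exact (LinearMap.ker g).subtype g := LinearMap.exact_subtype_ker_map g
  rw [Module.length_eq_add_of_exact (LinearMap.ker g).subtype g
    (Submodule.injective_subtype _) hgs hex]
  congr 1
  have hker : ∀ z : M ⧸ ge 𝒜 ℳ hpos (n + 1), z ∈ LinearMap.ker g ↔
      ∃ y ∈ ge 𝒜 ℳ hpos n, Submodule.Quotient.mk y = z := by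
    intro z
    obtain ⟨y, rfl⟩ := Submodule.Quotient.mk_surjective _ z
    rw [LinearMap.mem_ker, hg]
    have e1 : Submodule.factor hle (Submodule.Quotient.mk y) = Submodule.Quotient.mk y :=
      Submodule.factor_mk hle y
    rw [e1, Submodule.Quotient.mk_eq_zero]
    constructor
    · intro h; exact ⟨y, h, rfl⟩
    · rintro ⟨y', hy', h⟩
      have h2 : y' - y ∈ ge 𝒜 ℳ hpos (n + 1) := (Submodule.Quotient.eq _).mp h
      have : y = y' - (y' - y) := by abel
      rw [this]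
      exact Submodule.sub_mem _ hy' (hle h2)
  have hkill : ∀ r ∈ (irr 𝒜).toIdeal, ∀ x : LinearMap.ker g, r • x = 0 := by
    rintro r hr ⟨z, hz⟩
    obtain ⟨y, hy, rfl⟩ := (hker z).mp hz
    apply Subtype.ext
    show r • (Submodule.Quotient.mk y : M ⧸ ge 𝒜 ℳ hpos (n + 1)) = 0
    rw [← Submodule.Quotient.mk_smul, Submodule.Quotient.mk_eq_zero]
    exact smul_ge_le 𝒜 ℳ hpos (irr 𝒜).toIdeal rfl n (Submodule.smul_mem_smul hr hy)
  rw [length_eq_of_irr_smul 𝒜 hpos _ hkill]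
  let ψ : comp 𝒜 ℳ n →ₗ[deg0 𝒜] LinearMap.ker g :=
    { toFun := fun x => ⟨Submodule.Quotient.mk (x : M), (hker _).mpr
        ⟨(x : M), mem_ge_of_mem (le_refl n) x.2, rfl⟩⟩
      map_add' := fun x y => rfl
      map_smul' := fun r x => rfl }
  have hψ : Function.Bijective ψ := by
    constructor
    · rw [← LinearMap.ker_eq_bot, eq_bot_iff]
      rintro ⟨x, hx⟩ h
      rw [LinearMap.mem_ker] at h
      have h1 : (Submodule.Quotient.mk x : M ⧸ ge 𝒜 ℳ hpos (n + 1)) = 0 :=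
        congrArg Subtype.val h
      rw [Submodule.Quotient.mk_eq_zero] at h1
      have h2 := h1 n (by omega)
      rw [decompose_of_mem_same ℳ hx] at h2
      rw [Submodule.mem_bot]
      exact Subtype.ext h2
    · rintro ⟨z, hz⟩
      obtain ⟨y, hy, rfl⟩ := (hker z).mp hz
      refine ⟨⟨(decompose ℳ y n : M), (decompose ℳ y n).2⟩, ?_⟩
      apply Subtype.ext
      show (Submodule.Quotient.mk (decompose ℳ y n : M) : M ⧸ ge 𝒜 ℳ hpos (n + 1)) =
        Submodule.Quotient.mk y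
      rw [Submodule.Quotient.eq]
      intro k hk
      rw [decompose_sub, DirectSum.sub_apply, AddSubgroup.coe_sub]
      rcases lt_or_eq_of_le (show k ≤ n by omega) with h | h
      · rw [hy k h, decompose_of_mem_ne ℳ (decompose ℳ y n).2 (ne_of_gt h), sub_zero]
      · subst h
        rw [decompose_of_mem_same ℳ (decompose ℳ y k).2, sub_self]
  exact ((LinearEquiv.ofBijective ψ hψ).length_eq).symm

/-- In a standard graded ring, an element of `R_{i+1}` is a sum of products `c y` with `y ∈ R_1`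
and `c ∈ R_i`. -/
theorem exists_sum_of_mem_succ
    (hstd : Ideal.span (⋃ n ∈ Set.Ioi (0 : ℤ), (𝒜 n : Set R)) =
      Ideal.span ((𝒜 1 : AddSubgroup R) : Set R)) (i : ℕ) {x : R} (hx : x ∈ 𝒜 ((i : ℤ) + 1)) :
    ∃ (t : Finset R) (c : R → R), (∀ y ∈ t, y ∈ 𝒜 1) ∧ (∀ y, c y ∈ 𝒜 (i : ℤ)) ∧
      x = ∑ y ∈ t, c y * y := by
  classical
  have hxa : x ∈ Ideal.span (⋃ n ∈ Set.Ioi (0 : ℤ), (𝒜 n : Set R)) := by
    refine Ideal.subset_span (Set.mem_iUnion₂.mpr ⟨(i : ℤ) + 1, ?_, hx⟩)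
    show (0 : ℤ) < (i : ℤ) + 1
    omega
  have hxa' : x ∈ Submodule.span R ((𝒜 1 : AddSubgroup R) : Set R) := by
    rw [hstd] at hxa; exact hxa
  obtain ⟨f, t, ht, -, hsum⟩ := Submodule.mem_span_iff_exists_finset_subset.mp hxa'
  refine ⟨t, fun y => (decompose 𝒜 (f y) i : R), fun y hy => ht hy,
    fun y => (decompose 𝒜 (f y) i).2, ?_⟩
  calc x = (decompose 𝒜 x ((i : ℤ) + 1) : R) := (decompose_of_mem_same 𝒜 hx).symm
    _ = (decompose 𝒜 (∑ y ∈ t, f y • y) ((i : ℤ) + 1) : R) := by rw [hsum]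
    _ = ∑ y ∈ t, (decompose 𝒜 (f y • y) ((i : ℤ) + 1) : R) := by
        rw [decompose_sum, DFinsupp.finsetSum_apply, AddSubmonoidClass.coe_finsetSum]
    _ = ∑ y ∈ t, (decompose 𝒜 (f y) i : R) * y := by
        refine Finset.sum_congr rfl fun y hy => ?_
        have h := decompose_smul_right' 𝒜 𝒜 (ht hy) (f y) ((i : ℤ) + 1)
        rw [add_sub_cancel_right] at h
        exact h

/-- Above the degrees of a homogeneous generating set, `M_{≥ j+1} ⊆ R_+ M_{≥ j}`. -/
theorem ge_succ_le_smul_ge (hpos : ∀ n : ℤ, n < 0 → 𝒜 n = ⊥)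
    (hstd : Ideal.span (⋃ n ∈ Set.Ioi (0 : ℤ), (𝒜 n : Set R)) =
      Ideal.span ((𝒜 1 : AddSubgroup R) : Set R))
    (S : Finset M) (deg : M → ℤ) (hdeg : ∀ s ∈ S, s ∈ ℳ (deg s))
    (hspan : Submodule.span R (S : Set M) = ⊤) (b : ℤ) (hb : ∀ s ∈ S, deg s ≤ b)
    (j : ℤ) (hj : b ≤ j) :
    ge 𝒜 ℳ hpos (j + 1) ≤ (irr 𝒜).toIdeal • ge 𝒜 ℳ hpos j := by
  classical
  intro x hx
  rw [← sum_support_decompose ℳ x]
  refine Submodule.sum_mem _ fun n _ => ?_
  by_cases hn : n < j + 1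
  · rw [hx n hn]; exact zero_mem _
  · rw [not_lt] at hn
    set m : M := (decompose ℳ x n : M) with hm
    have hmn : m ∈ ℳ n := (decompose ℳ x n).2
    have hmS : m ∈ Submodule.span R (S : Set M) := by rw [hspan]; trivial
    obtain ⟨f, -, hsum⟩ := Submodule.mem_span_finset.mp hmS
    have key : m = ∑ s ∈ S, (decompose 𝒜 (f s) (n - deg s) : R) • s := by
      calc m = (decompose ℳ m n : M) := (decompose_of_mem_same ℳ hmn).symm
        _ = (decompose ℳ (∑ s ∈ S, f s • s) n : M) := by rw [hsum]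
        _ = ∑ s ∈ S, (decompose ℳ (f s • s) n : M) := by
            rw [decompose_sum, DFinsupp.finsetSum_apply, AddSubmonoidClass.coe_finsetSum]
        _ = ∑ s ∈ S, (decompose 𝒜 (f s) (n - deg s) : R) • s := by
            refine Finset.sum_congr rfl fun s hs => ?_
            exact decompose_smul_right' 𝒜 ℳ (hdeg s hs) (f s) n
    rw [key]
    refine Submodule.sum_mem _ fun s hs => ?_
    have h1 : (1 : ℤ) ≤ n - deg s := by have := hb s hs; omega
    obtain ⟨i, hi⟩ : ∃ i : ℕ, n - deg s = (i : ℤ) + 1 :=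
      ⟨(n - deg s - 1).toNat, by rw [Int.toNat_of_nonneg (by omega)]; ring⟩
    have hr : (decompose 𝒜 (f s) (n - deg s) : R) ∈ 𝒜 ((i : ℤ) + 1) := by
      rw [← hi]; exact (decompose 𝒜 (f s) (n - deg s)).2
    obtain ⟨t, c, ht, hc, hrc⟩ := exists_sum_of_mem_succ 𝒜 hstd i hr
    rw [hrc, Finset.sum_smul]
    refine Submodule.sum_mem _ fun y hy => ?_
    rw [mul_comm, mul_smul]
    apply Submodule.smul_mem_smul
    · show y ∈ (irr 𝒜).toIdeal
      exact Ideal.subset_span (Set.mem_iUnion₂.mpr ⟨1, by simp, ht y hy⟩)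
    · have h2 : c y • s ∈ ℳ ((i : ℤ) + deg s) :=
        SetLike.GradedSMul.smul_mem (hc y) (hdeg s hs)
      exact mem_ge_of_mem (by omega) h2

theorem smul_ge_eq (hpos : ∀ n : ℤ, n < 0 → 𝒜 n = ⊥)
    (hstd : Ideal.span (⋃ n ∈ Set.Ioi (0 : ℤ), (𝒜 n : Set R)) =
      Ideal.span ((𝒜 1 : AddSubgroup R) : Set R))
    (S : Finset M) (deg : M → ℤ) (hdeg : ∀ s ∈ S, s ∈ ℳ (deg s))
    (hspan : Submodule.span R (S : Set M) = ⊤) (b : ℤ) (hb : ∀ s ∈ S, deg s ≤ b) (n : ℕ) :
    (irr 𝒜).toIdeal ^ n • ge 𝒜 ℳ hpos b = ge 𝒜 ℳ hpos (b + n) := by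
  induction n with
  | zero => simp
  | succ n ih =>
    rw [pow_succ', Submodule.mul_smul, ih]
    have e : b + ((n + 1 : ℕ) : ℤ) = (b + n) + 1 := by push_cast; ring
    rw [e]
    apply le_antisymm
    · exact smul_ge_le 𝒜 ℳ hpos (irr 𝒜).toIdeal rfl _
    · exact ge_succ_le_smul_ge 𝒜 ℳ hpos hstd S deg hdeg hspan b hb (b + n) (by omega)

section Abstract

variable {A : Type u} [CommRing A] {X : Type u} [AddCommGroup X] [Module A X]

/-- Additivity of length along `U ≤ V ≤ X`. -/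
theorem length_quot_eq_add (U V : Submodule A X) (h : U ≤ V) :
    Module.length A (X ⧸ U) =
      Module.length A (↥V ⧸ U.comap V.subtype) + Module.length A (X ⧸ V) := by
  set g : (X ⧸ U) →ₗ[A] (X ⧸ V) := Submodule.factor h with hg
  have hgs : Function.Surjective g := Submodule.factor_surjective h
  rw [Module.length_eq_add_of_exact (LinearMap.ker g).subtype g
    (Submodule.injective_subtype _) hgs (LinearMap.exact_subtype_ker_map g)]
  congr 1
  set f : ↥V →ₗ[A] (X ⧸ U) := U.mkQ.comp V.subtype with hf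
  have hkerf : LinearMap.ker f = U.comap V.subtype := by
    ext x
    rw [LinearMap.mem_ker, Submodule.mem_comap, hf, LinearMap.comp_apply, Submodule.mkQ_apply,
      Submodule.Quotient.mk_eq_zero]
  have hrange : LinearMap.range f = LinearMap.ker g := by
    ext z
    obtain ⟨y, rfl⟩ := Submodule.Quotient.mk_surjective _ z
    have e1 : Submodule.factor h (Submodule.Quotient.mk y) = Submodule.Quotient.mk y :=
      Submodule.factor_mk h y
    rw [LinearMap.mem_ker, hg, e1, Submodule.Quotient.mk_eq_zero]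
    constructor
    · rintro ⟨v, hv⟩
      have h2 : (v : X) - y ∈ U := (Submodule.Quotient.eq _).mp hv
      have : y = (v : X) - ((v : X) - y) := by abel
      rw [this]
      exact V.sub_mem v.2 (h h2)
    · intro hy
      exact ⟨⟨y, hy⟩, rfl⟩
  rw [← hkerf, ← hrange]
  exact (LinearMap.quotKerEquivRange f).length_eq.symm

theorem smul_top_eq_comap (J : Ideal A) (V : Submodule A X) :
    J • (⊤ : Submodule A ↥V) = (J • V).comap V.subtype := by
  have h1 : Submodule.map V.subtype (J • (⊤ : Submodule A ↥V)) = J • V := by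
    rw [Submodule.map_smul'', Submodule.map_subtype_top]
  rw [← h1, Submodule.comap_map_eq_of_injective (Submodule.injective_subtype V)]

end Abstract

section Exists

variable [IsNoetherianRing R] [IsArtinianRing (deg0 𝒜)] [Module.Finite R M]

/-- `M / M_{≥ j}` has finite length. -/
theorem length_quot_ge_ne_top (hpos : ∀ n : ℤ, n < 0 → 𝒜 n = ⊥) (j : ℤ) :
    Module.length R (M ⧸ ge 𝒜 ℳ hpos j) ≠ ⊤ := by
  obtain ⟨d₀, hd₀⟩ := exists_top_le_ge 𝒜 ℳ hpos (R := R)
  have hbase : ∀ i : ℤ, i ≤ d₀ → Module.length R (M ⧸ ge 𝒜 ℳ hpos i) ≠ ⊤ := by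
    intro i hi
    have htop : ge 𝒜 ℳ hpos i = ⊤ := top_le_iff.mp (hd₀.trans (ge_anti hi))
    haveI : Subsingleton (M ⧸ ge 𝒜 ℳ hpos i) := by
      rw [htop]; exact Submodule.Quotient.subsingleton_iff.mpr rfl
    rw [Module.length_eq_zero]
    exact ENat.zero_ne_top
  rcases le_total j d₀ with h | h
  · exact hbase j h
  · induction j, h using Int.leInduction with
    | base => exact hbase d₀ le_rfl
    | succ j hj ih =>
      rw [length_quot_ge_succ 𝒜 ℳ hpos j]
      exact WithTop.add_ne_top.mpr ⟨length_comp_ne_top 𝒜 ℳ j, ih⟩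

/-- **Existence of the Hilbert polynomial** of a finitely generated graded module over a standard
graded Noetherian ring with Artinian degree-zero part. -/
theorem exists_hilbPoly_module (hpos : ∀ n : ℤ, n < 0 → 𝒜 n = ⊥)
    (hstd : Ideal.span (⋃ n ∈ Set.Ioi (0 : ℤ), (𝒜 n : Set R)) =
      Ideal.span ((𝒜 1 : AddSubgroup R) : Set R)) :
    ∃ Q : ℚ[X], ∃ N : ℤ, ∀ n : ℤ, N ≤ n →
      Q.eval (n : ℚ) = ((Module.length (deg0 𝒜) (comp 𝒜 ℳ n)).toNat : ℚ) := by
  classical
  obtain ⟨S, deg, hdeg, hspan⟩ := exists_homog_gens (R := R) ℳ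
  obtain ⟨b, hb⟩ : ∃ b : ℤ, ∀ s ∈ S, deg s ≤ b := by
    obtain ⟨d, hd⟩ := (S.image deg).bddAbove
    exact ⟨d, fun s hs => hd (Finset.mem_coe.mpr (Finset.mem_image_of_mem deg hs))⟩
  set V : Submodule R M := ge 𝒜 ℳ hpos b with hV
  haveI : IsNoetherian R M := isNoetherian_of_isNoetherianRing_of_finite R M
  haveI : Module.Finite R ↥V := Module.IsNoetherian.finite R ↥V
  obtain ⟨L, hL⟩ := (IsNoetherian.noetherian (irr 𝒜).toIdeal : ((irr 𝒜).toIdeal).FG)
  have hset : {c | c ∈ L.toList} = (L : Set R) := by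
    ext c
    simp
  have hl : Ideal.span {c | c ∈ L.toList} = (irr 𝒜).toIdeal := by rw [hset]; exact hL
  have hgood : Good ↥V L.toList := by
    intro p _ hpl
    haveI := p.2
    apply isMaximal_of_irr_le 𝒜 hpos
    rw [← hl, Ideal.span_le]
    intro c hc
    exact hpl c hc
  obtain ⟨Qs, -, -, Ns, hNs⟩ := exists_samuel_poly ↥V L.toList hgood
  have hfinV : ∀ n : ℕ, Module.length R
      (↥V ⧸ (Ideal.span {c | c ∈ L.toList} ^ n • (⊤ : Submodule R ↥V))) ≠ ⊤ := fun n =>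
    Module.length_ne_top_iff.mpr (isFiniteLength_quot_pow ↥V L.toList hgood n)
  -- the comparison
  have hcmp : ∀ n : ℕ, Module.length R (M ⧸ ge 𝒜 ℳ hpos (b + n)) =
      Module.length R (↥V ⧸ (Ideal.span {c | c ∈ L.toList} ^ n • (⊤ : Submodule R ↥V))) +
        Module.length R (M ⧸ V) := by
    intro n
    rw [hl, smul_top_eq_comap, smul_ge_eq 𝒜 ℳ hpos hstd S deg hdeg hspan b hb n]
    exact length_quot_eq_add _ V (ge_anti (by omega))
  have hc : Module.length R (M ⧸ V) ≠ ⊤ := length_quot_ge_ne_top 𝒜 ℳ hpos b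
  -- the recursion
  have hrec : ∀ n : ℕ, (len R (↥V ⧸ (Ideal.span {c | c ∈ L.toList} ^ (n + 1) •
        (⊤ : Submodule R ↥V))) : ℚ) =
      ((Module.length (deg0 𝒜) (comp 𝒜 ℳ (b + n))).toNat : ℚ) +
        (len R (↥V ⧸ (Ideal.span {c | c ∈ L.toList} ^ n • (⊤ : Submodule R ↥V))) : ℚ) := by
    intro n
    have h1 := length_quot_ge_succ 𝒜 ℳ hpos (b + n)
    have e : b + (n : ℤ) + 1 = b + ((n + 1 : ℕ) : ℤ) := by push_cast; ring
    rw [e, hcmp (n + 1), hcmp n, ← add_assoc] at h1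
    have h2 := (ENat.add_left_injective_of_ne_top hc) h1
    unfold len
    rw [h2, ENat.toNat_add (length_comp_ne_top 𝒜 ℳ (b + n)) (hfinV n)]
    push_cast
    ring
  refine ⟨(taylor 1 Qs - Qs).comp (X - C (b : ℚ)), b + Ns, fun n hn => ?_⟩
  obtain ⟨k, hk⟩ : ∃ k : ℕ, n = b + k := ⟨(n - b).toNat, by
    rw [Int.toNat_of_nonneg (by omega)]; ring⟩
  have hkN : Ns ≤ k := by omega
  subst hk
  simp only [eval_comp, eval_sub, eval_X, eval_C, taylor_eval]
  have e1 : (((b + (k : ℤ) : ℤ)) : ℚ) - (b : ℚ) = (k : ℚ) := by push_cast; ring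
  have e2 : (k : ℚ) + 1 = ((k + 1 : ℕ) : ℚ) := by push_cast; ring
  rw [e1, e2, ← hNs (k + 1) (by omega), ← hNs k hkN, hrec k]
  ring

end Exists

end Groth.Agent.Lib.GrHilbMod
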