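import Mathlib
import Groth.Agent.Lib.GrGenericForm1
import Groth.Agent.Lib.GrHilbMod1
import Groth.Agent.Lib.H74GrFin

/-!
# Generic linear forms on graded modules II: strict growth of Hilbert functions in depth ≥ 2 (helper12)

`R` Noetherian standard graded over the field `k = R_0`, `M` a finitely generated graded `R`-module with
a regular sequence `y₁, y₂` of homogeneous elements of positive degree (elementwise hypotheses `hr1`,
`hr2`), `M_i = 0` for `i < b`, `M_b ≠ 0`.  Then `dim_k M_j < dim_k M_{j+1}` for all `j ≥ b`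
(`finrank_lt_succ`).  No infinite-field / base change assumption: the generic linear form is
`F = Σ x_i T^i ∈ R[T]` (`x_i` spanning `R_1`), regular on `M[T]` by McCoy; a dimension count gives
`0 ≠ G ∈ k[T]` with `G • M_{j+1}[T] ⊆ F • M_j[T]` when `dim M_{j+1} ≤ dim M_j`
(`exists_uniform_relation`), the exchange lemma descends this to lower degrees (`descent_step`) until
it contradicts `M_{b-1} = 0`, `M_b ≠ 0`.
-/

set_option autoImplicit false
set_option linter.unusedSectionVars false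
set_option linter.style.haveILetI false

universe u

namespace Groth.Agent.Lib.GrGenericForm

open Polynomial DirectSum GrLC

section ToPM

variable {R : Type u} [CommRing R] {M : Type u} [AddCommGroup M] [Module R M]

/-- the polynomial with prescribed coefficient vector -/
noncomputable def toPM {D : ℕ} (v : Fin D → M) : PolynomialModule R M :=
  ∑ q : Fin D, PolynomialModule.single R q.val (v q)

theorem toPM_coeff_lt {D : ℕ} (v : Fin D → M) {p : ℕ} (hp : p < D) :
    (toPM (R := R) v).coeff p = v ⟨p, hp⟩ := by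
  classical
  unfold toPM
  rw [PolynomialModule.coeff_sum, Finsupp.finsetSum_apply]
  rw [Finset.sum_eq_single ⟨p, hp⟩]
  · rw [PolynomialModule.coeff_single, Finsupp.single_eq_same]
  · intro q _ hq
    rw [PolynomialModule.coeff_single, Finsupp.single_eq_of_ne]
    intro h
    apply hq
    apply Fin.ext
    exact h.symm
  · intro h
    exact absurd (Finset.mem_univ _) h

theorem toPM_coeff_ge {D : ℕ} (v : Fin D → M) {p : ℕ} (hp : D ≤ p) :
    (toPM (R := R) v).coeff p = 0 := by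
  classical
  unfold toPM
  rw [PolynomialModule.coeff_sum, Finsupp.finsetSum_apply]
  refine Finset.sum_eq_zero fun q _ => ?_
  rw [PolynomialModule.coeff_single, Finsupp.single_eq_of_ne]
  have := q.2
  omega

theorem toPM_add {D : ℕ} (v w : Fin D → M) :
    toPM (R := R) (v + w) = toPM v + toPM w := by
  unfold toPM
  rw [← Finset.sum_add_distrib]
  refine Finset.sum_congr rfl fun q _ => ?_
  rw [Pi.add_apply, PolynomialModule.single_add]

theorem toPM_smul {D : ℕ} (a : R) (v : Fin D → M) :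
    toPM (R := R) (fun q => a • v q) = C a • toPM v := by
  unfold toPM
  rw [Finset.smul_sum]
  refine Finset.sum_congr rfl fun q _ => ?_
  rw [← monomial_zero_left, PolynomialModule.monomial_smul_single, zero_add]

theorem toPM_eq_zero {D : ℕ} (v : Fin D → M) (h : toPM (R := R) v = 0) : v = 0 := by
  funext q
  have := toPM_coeff_lt (R := R) v q.2
  rw [h] at this
  exact this.symm

/-- high coefficients of a product vanish -/
theorem coeff_smul_toPM_eq_zero {D r : ℕ} (F : R[X]) (hF : ∀ i, r ≤ i → F.coeff i = 0)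
    (v : Fin D → M) {p : ℕ} (hp : D + r ≤ p) : (F • toPM (R := R) v).coeff p = 0 := by
  rw [PolynomialModule.smul_apply]
  refine Finset.sum_eq_zero fun ij hij => ?_
  have h : ij.1 + ij.2 = p := by simpa using hij
  rcases Nat.lt_or_ge ij.1 r with h1 | h1
  · rw [toPM_coeff_ge v (by omega), smul_zero]
  · rw [hF _ h1, zero_smul]

end ToPM


section Std

variable {R : Type u} [CommRing R] (𝒜 : ℤ → AddSubgroup R) [GradedRing 𝒜]

/-- induction principle for elements of positive degree in a standard graded ring -/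
theorem std_induction
    (hstd : Ideal.span (⋃ n ∈ Set.Ioi (0 : ℤ), (𝒜 n : Set R)) =
      Ideal.span ((𝒜 1 : AddSubgroup R) : Set R))
    (P : R → Prop) (h1 : ∀ x ∈ 𝒜 1, P x) (h0 : P 0) (hadd : ∀ x y, P x → P y → P (x + y))
    (hmul : ∀ c x, P x → P (c * x)) (δ : ℕ) (y : R) (hy : y ∈ 𝒜 ((δ : ℤ) + 1)) : P y := by
  classical
  obtain ⟨t, c, ht, -, rfl⟩ := Groth.Agent.Lib.GrHilbMod.exists_sum_of_mem_succ 𝒜 hstd δ hy
  refine Finset.sum_induction _ P hadd h0 fun z hz => ?_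
  exact hmul _ _ (h1 z (ht z hz))

end Std

section Graded

variable {R : Type u} [CommRing R] (𝒜 : ℤ → AddSubgroup R) [GradedRing 𝒜]
  {M : Type u} [AddCommGroup M] [Module R M] (ℳ : ℤ → AddSubgroup M) [Decomposition ℳ]
  [SetLike.GradedSMul 𝒜 ℳ]

theorem coeffIn_toPM {j : ℤ} {D : ℕ} (v : Fin D → M) (hv : ∀ q, v q ∈ ℳ j) :
    CoeffIn ℳ j (toPM (R := R) v) :=
  coeffIn_sum ℳ _ _ fun q _ => coeffIn_single ℳ (hv q) _

theorem projPM_add (j : ℤ) (v w : PolynomialModule R M) :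
    projPM ℳ j (v + w) = projPM ℳ j v + projPM ℳ j w := by
  rw [← PolynomialModule.coeff_inj]
  ext q
  rw [projPM_coeff, PolynomialModule.coeff_add, Finsupp.add_apply,
    PolynomialModule.coeff_add, Finsupp.add_apply,
    projPM_coeff, projPM_coeff, decompose_add, DirectSum.add_apply, AddSubgroup.coe_add]

theorem projPM_single (j : ℤ) (q : ℕ) (c : M) :
    projPM ℳ j (PolynomialModule.single R q c) =
      PolynomialModule.single R q (decompose ℳ c j : M) := by
  rw [← PolynomialModule.coeff_inj]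
  ext p
  rw [projPM_coeff, PolynomialModule.coeff_single, PolynomialModule.coeff_single,
    Finsupp.single_apply, Finsupp.single_apply]
  split_ifs
  · rfl
  · rw [decompose_zero]; rfl

theorem projPM_zero (j : ℤ) : projPM ℳ j (0 : PolynomialModule R M) = 0 := by
  rw [← PolynomialModule.coeff_inj]
  ext p
  rw [projPM_coeff]
  simp

/-- Elements of `R_1` given as `k`-combinations of `x`: anything killed by all `x i` is killed by
`R_1`. -/
theorem smul_eq_zero_of_span {r : ℕ} (x' : Fin r → comp 𝒜 𝒜 1)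
    (hx' : Submodule.span (deg0 𝒜) (Set.range x') = ⊤) (c : M)
    (hc : ∀ i, ((x' i : R)) • c = 0) (y : R) (hy : y ∈ 𝒜 1) : y • c = 0 := by
  have hy' : (⟨y, hy⟩ : comp 𝒜 𝒜 1) ∈ Submodule.span (deg0 𝒜) (Set.range x') := by
    rw [hx']; trivial
  have key : ∀ z : comp 𝒜 𝒜 1, z ∈ Submodule.span (deg0 𝒜) (Set.range x') →
      (z : R) • c = 0 := by
    intro z hz
    induction hz using Submodule.span_induction with
    | mem z hz =>
      obtain ⟨i, rfl⟩ := hz
      exact hc i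
    | zero => simp
    | add z z' _ _ hz hz' =>
      rw [Submodule.coe_add, add_smul, hz, hz', add_zero]
    | smul k z _ hz =>
      have : ((k • z : comp 𝒜 𝒜 1) : R) = (k : R) * (z : R) := rfl
      rw [this, mul_smul, hz, smul_zero]
  exact key ⟨y, hy⟩ hy'

/-- the generic linear form is regular on `M[T]` when some element of positive degree is
`M`-regular -/
theorem generic_regular [DecidableEq R]
    (hstd : Ideal.span (⋃ n ∈ Set.Ioi (0 : ℤ), (𝒜 n : Set R)) =
      Ideal.span ((𝒜 1 : AddSubgroup R) : Set R))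
    {r : ℕ} (x' : Fin r → comp 𝒜 𝒜 1)
    (hx' : Submodule.span (deg0 𝒜) (Set.range x') = ⊤)
    (δ₁ : ℕ) (y₁ : R) (hy1 : y₁ ∈ 𝒜 ((δ₁ : ℤ) + 1)) (hr1 : ∀ c : M, y₁ • c = 0 → c = 0)
    (v : PolynomialModule R M) (hv : ofFn r (fun i => (x' i : R)) • v = 0) : v = 0 := by
  by_contra hne
  obtain ⟨c, hc0, hc⟩ := exists_ne_zero_of_smul_eq_zero _ v hne hv
  apply hc0
  apply hr1
  have h1 : ∀ i : Fin r, ((x' i : R)) • c = 0 := by
    intro i
    have := hc i.val
    rw [ofFn_coeff_eq_val_of_lt _ i.2] at this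
    exact this
  refine std_induction 𝒜 hstd (fun y => y • c = 0) ?_ ?_ ?_ ?_ δ₁ y₁ hy1
  · exact smul_eq_zero_of_span 𝒜 x' hx' c h1
  · exact zero_smul _ _
  · intro x y hx hy
    rw [add_smul, hx, hy, add_zero]
  · intro a x hx
    rw [mul_smul, hx, smul_zero]

end Graded


section Count

variable {R : Type u} [CommRing R] (𝒜 : ℤ → AddSubgroup R) [GradedRing 𝒜]
  {M : Type u} [AddCommGroup M] [Module R M] (ℳ : ℤ → AddSubgroup M) [Decomposition ℳ]
  [SetLike.GradedSMul 𝒜 ℳ]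

/-- `v ↦` coefficients of `F • toPM v` -/
noncomputable def mu (F : R[X]) (hF : ∀ i, F.coeff i ∈ 𝒜 1) (j : ℤ) (D r : ℕ) :
    (Fin D → comp 𝒜 ℳ j) →ₗ[deg0 𝒜] (Fin (D + r) → comp 𝒜 ℳ (j + 1)) where
  toFun v := fun p => ⟨(F • toPM (R := R) (fun q => (v q : M))).coeff p.val, by
    have := coeffIn_smul 𝒜 ℳ hF (coeffIn_toPM ℳ (fun q => (v q : M)) (fun q => (v q).2)) p.val
    rwa [add_comm] at this⟩
  map_add' v w := by
    funext p
    apply Subtype.ext
    have : (fun q => ((v + w) q : M)) = (fun q => (v q : M)) + (fun q => (w q : M)) := by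
      funext q; rfl
    simp only [this, toPM_add, smul_add, PolynomialModule.coeff_add, Finsupp.add_apply]
    rfl
  map_smul' a v := by
    funext p
    apply Subtype.ext
    have : (fun q => ((a • v) q : M)) = (fun q => (a : R) • (v q : M)) := by
      funext q; rfl
    simp only [this, toPM_smul, smul_comm F, coeff_C_smul]
    rfl

theorem mu_apply (F : R[X]) (hF : ∀ i, F.coeff i ∈ 𝒜 1) (j : ℤ) (D r : ℕ)
    (v : Fin D → comp 𝒜 ℳ j) (p : Fin (D + r)) :
    ((mu 𝒜 ℳ F hF j D r v p : comp 𝒜 ℳ (j + 1)) : M) =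
      (F • toPM (R := R) (fun q => (v q : M))).coeff p.val := rfl

/-- `g ↦ (g_q ε)_q` -/
noncomputable def iota (j : ℤ) (D r : ℕ) (ε : comp 𝒜 ℳ (j + 1)) :
    (Fin D → deg0 𝒜) →ₗ[deg0 𝒜] (Fin (D + r) → comp 𝒜 ℳ (j + 1)) where
  toFun g := fun p => if h : p.val < D then g ⟨p.val, h⟩ • ε else 0
  map_add' g g' := by
    funext p
    simp only [Pi.add_apply]
    split_ifs
    · rw [add_smul]
    · rw [add_zero]
  map_smul' a g := by
    funext p
    simp only [Pi.smul_apply, RingHom.id_apply]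
    split_ifs
    · rw [smul_eq_mul, mul_smul]
    · rw [smul_zero]

theorem iota_apply (j : ℤ) (D r : ℕ) (ε : comp 𝒜 ℳ (j + 1)) (g : Fin D → deg0 𝒜)
    (p : Fin (D + r)) :
    iota 𝒜 ℳ j D r ε g p = if h : p.val < D then g ⟨p.val, h⟩ • ε else 0 := rfl


/-- **Dimension count**: if `dim M_{j+1} ≤ dim M_j` then every `e ∈ M_{j+1}` satisfies a relation
`G e = F v` with `0 ≠ G ∈ k[T]`, `v ∈ M_j[T]`. -/
theorem exists_relation [IsNoetherianRing R] [Module.Finite R M] (h0 : IsField (deg0 𝒜))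
    {r : ℕ} (F : R[X]) (hF : ∀ i, F.coeff i ∈ 𝒜 1) (hFr : ∀ i, r ≤ i → F.coeff i = 0)
    (hreg : ∀ v : PolynomialModule R M, F • v = 0 → v = 0)
    (j : ℤ) (hle : Module.finrank (deg0 𝒜) (comp 𝒜 ℳ (j + 1)) ≤
      Module.finrank (deg0 𝒜) (comp 𝒜 ℳ j))
    (e : M) (he : e ∈ ℳ (j + 1)) :
    ∃ G : (deg0 𝒜)[X], G ≠ 0 ∧ ∃ v : PolynomialModule R M, CoeffIn ℳ j v ∧
      (G.map (deg0 𝒜).subtype) • PolynomialModule.single R 0 e = F • v := by
  classical
  letI : Field (deg0 𝒜) := h0.toField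
  haveI : IsNoetherian R M := isNoetherian_of_isNoetherianRing_of_finite R M
  have hfin : ∀ i : ℤ, Module.Finite (deg0 𝒜) (comp 𝒜 ℳ i) := fun i => by
    haveI := Groth.Agent.Lib.H74GrFin.isNoetherian_comp 𝒜 ℳ i
    infer_instance
  haveI := hfin j
  haveI := hfin (j + 1)
  set a := Module.finrank (deg0 𝒜) (comp 𝒜 ℳ j) with ha
  set b := Module.finrank (deg0 𝒜) (comp 𝒜 ℳ (j + 1)) with hb
  set D := r * b + 1 with hD
  let ε : comp 𝒜 ℳ (j + 1) := ⟨e, he⟩
  let Φ : ((Fin D → deg0 𝒜) × (Fin D → comp 𝒜 ℳ j)) →ₗ[deg0 𝒜]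
      (Fin (D + r) → comp 𝒜 ℳ (j + 1)) :=
    (iota 𝒜 ℳ j D r ε).comp (LinearMap.fst _ _ _) - (mu 𝒜 ℳ F hF j D r).comp (LinearMap.snd _ _ _)
  have hker : LinearMap.ker Φ ≠ ⊥ := by
    apply LinearMap.ker_ne_bot_of_finrank_lt
    rw [Module.finrank_prod, Module.finrank_pi_fintype, Module.finrank_pi_fintype,
      Module.finrank_pi_fintype]
    simp only [Finset.sum_const, Finset.card_univ, Fintype.card_fin, smul_eq_mul,
      Module.finrank_self, mul_one, ← ha, ← hb]
    have h3 : D * b ≤ D * a := Nat.mul_le_mul_left _ hle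
    have h4 : (D + r) * b = D * b + r * b := by ring
    rw [h4]
    omega
  obtain ⟨⟨g, v⟩, hgv, hne⟩ := Submodule.exists_mem_ne_zero_of_ne_bot hker
  have hΦ : ∀ p : Fin (D + r), iota 𝒜 ℳ j D r ε g p = mu 𝒜 ℳ F hF j D r v p := by
    intro p
    have := congrFun (LinearMap.mem_ker.mp hgv) p
    simp only [Φ, LinearMap.sub_apply, LinearMap.comp_apply, LinearMap.fst_apply,
      LinearMap.snd_apply, Pi.sub_apply, Pi.zero_apply] at this
    exact sub_eq_zero.mp this
  set w : PolynomialModule R M := toPM (R := R) (fun q => (v q : M)) with hw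
  have hwc : CoeffIn ℳ j w := coeffIn_toPM ℳ _ (fun q => (v q).2)
  have hrel : ((ofFn D g).map (deg0 𝒜).subtype) • PolynomialModule.single R 0 e = F • w := by
    rw [← PolynomialModule.coeff_inj]
    ext p
    rw [PolynomialModule.smul_single_apply, if_pos (Nat.zero_le p), Nat.sub_zero, coeff_map]
    rcases Nat.lt_or_ge p (D + r) with hp | hp
    · have h1 := congrArg Subtype.val (hΦ ⟨p, hp⟩)
      rw [mu_apply, iota_apply] at h1
      rw [← h1]
      by_cases hpD : p < D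
      · rw [dif_pos hpD, ofFn_coeff_eq_val_of_lt _ hpD]
        rfl
      · rw [dif_neg hpD, ofFn_coeff_eq_zero_of_ge _ (not_lt.mp hpD), map_zero, zero_smul]
        rfl
    · rw [coeff_smul_toPM_eq_zero F hFr _ hp, ofFn_coeff_eq_zero_of_ge _ (by omega), map_zero,
        zero_smul]
  refine ⟨ofFn D g, ?_, w, hwc, hrel⟩
  intro hG
  apply hne
  have hg : g = 0 := by
    funext q
    have := congrArg (fun P => P.coeff q.val) hG
    simp only [coeff_zero] at this
    rw [ofFn_coeff_eq_val_of_lt _ q.2] at this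
    exact this
  have hw0 : w = 0 := by
    apply hreg
    rw [← hrel, hG, Polynomial.map_zero, zero_smul]
  have hv : v = 0 := by
    have := toPM_eq_zero (R := R) _ hw0
    funext q
    apply Subtype.ext
    exact congrFun this q
  rw [hg, hv]
  rfl

end Count

section Main

variable {R : Type u} [CommRing R] (𝒜 : ℤ → AddSubgroup R) [GradedRing 𝒜]
  {M : Type u} [AddCommGroup M] [Module R M] (ℳ : ℤ → AddSubgroup M) [Decomposition ℳ]
  [SetLike.GradedSMul 𝒜 ℳ]

theorem coeff_map_subtype_mem (G : (deg0 𝒜)[X]) (i : ℕ) :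
    (G.map (deg0 𝒜).subtype).coeff i ∈ 𝒜 0 := by
  rw [coeff_map]
  exact (G.coeff i).2

theorem coeffIn_smul_zero {P : R[X]} (hP : ∀ i, P.coeff i ∈ 𝒜 0) {j : ℤ}
    {v : PolynomialModule R M} (hv : CoeffIn ℳ j v) : CoeffIn ℳ j (P • v) := by
  have := coeffIn_smul 𝒜 ℳ hP hv
  rwa [zero_add] at this

theorem coeff_monomial_mem {g : ℤ} (q : ℕ) {a : R} (ha : a ∈ 𝒜 g) (i : ℕ) :
    (monomial q a).coeff i ∈ 𝒜 g := by
  rw [coeff_monomial]
  split_ifs
  · exact ha
  · exact zero_mem _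

/-- **Uniform relation**: if `dim M_{j+1} ≤ dim M_j` there is `0 ≠ G ∈ k[T]` with
`G • M_{j+1}[T] ⊆ F • M_j[T]`. -/
theorem exists_uniform_relation [IsNoetherianRing R] [Module.Finite R M]
    (h0 : IsField (deg0 𝒜))
    {r : ℕ} (F : R[X]) (hF : ∀ i, F.coeff i ∈ 𝒜 1) (hFr : ∀ i, r ≤ i → F.coeff i = 0)
    (hreg : ∀ v : PolynomialModule R M, F • v = 0 → v = 0)
    (j : ℤ) (hle : Module.finrank (deg0 𝒜) (comp 𝒜 ℳ (j + 1)) ≤
      Module.finrank (deg0 𝒜) (comp 𝒜 ℳ j)) :
    ∃ G : (deg0 𝒜)[X], G ≠ 0 ∧ ∀ u : PolynomialModule R M, CoeffIn ℳ (j + 1) u →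
      ∃ v : PolynomialModule R M, CoeffIn ℳ j v ∧ (G.map (deg0 𝒜).subtype) • u = F • v := by
  classical
  letI : Field (deg0 𝒜) := h0.toField
  haveI : IsNoetherian R M := isNoetherian_of_isNoetherianRing_of_finite R M
  haveI : Module.Finite (deg0 𝒜) (comp 𝒜 ℳ (j + 1)) := by
    haveI := Groth.Agent.Lib.H74GrFin.isNoetherian_comp 𝒜 ℳ (j + 1)
    infer_instance
  obtain ⟨s, hs⟩ := (Module.finite_def.mp
    (inferInstance : Module.Finite (deg0 𝒜) (comp 𝒜 ℳ (j + 1))))
  choose Ge hGe0 ve hve hrel using fun ε : comp 𝒜 ℳ (j + 1) =>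
    exists_relation 𝒜 ℳ h0 F hF hFr hreg j hle ε.1 ε.2
  refine ⟨∏ ε ∈ s, Ge ε, Finset.prod_ne_zero_iff.mpr fun ε _ => hGe0 ε, ?_⟩
  set G := ∏ ε ∈ s, Ge ε with hG
  let S : Set (PolynomialModule R M) := {u | ∃ v : PolynomialModule R M, CoeffIn ℳ j v ∧
    (G.map (deg0 𝒜).subtype) • u = F • v}
  have hS0 : (0 : PolynomialModule R M) ∈ S := ⟨0, coeffIn_zero ℳ j, by rw [smul_zero, smul_zero]⟩
  have hSadd : ∀ u u', u ∈ S → u' ∈ S → u + u' ∈ S := by
    rintro u u' ⟨v, hv, h1⟩ ⟨v', hv', h2⟩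
    exact ⟨v + v', coeffIn_add ℳ hv hv', by rw [smul_add, smul_add, h1, h2]⟩
  have hSsmul : ∀ P : R[X], (∀ i, P.coeff i ∈ 𝒜 0) → ∀ u, u ∈ S → P • u ∈ S := by
    rintro P hP u ⟨v, hv, h1⟩
    exact ⟨P • v, coeffIn_smul_zero 𝒜 ℳ hP hv, by rw [smul_comm, h1, smul_comm]⟩
  have hSgen : ∀ ε ∈ s, PolynomialModule.single R 0 (ε : M) ∈ S := by
    intro ε hε
    refine ⟨((∏ x ∈ s.erase ε, Ge x).map (deg0 𝒜).subtype) • ve ε,
      coeffIn_smul_zero 𝒜 ℳ (coeff_map_subtype_mem 𝒜 _) (hve ε), ?_⟩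
    rw [hG, ← Finset.prod_erase_mul s Ge hε, Polynomial.map_mul, mul_smul, hrel ε, smul_comm]
  have hSsingle : ∀ w : comp 𝒜 ℳ (j + 1), ∀ q : ℕ, PolynomialModule.single R q (w : M) ∈ S := by
    intro w q
    have hw : w ∈ Submodule.span (deg0 𝒜) (s : Set (comp 𝒜 ℳ (j + 1))) := by
      rw [hs]; trivial
    induction hw using Submodule.span_induction with
    | mem ε hε =>
      have h1 : PolynomialModule.single R q (ε : M) =
          monomial q (1 : R) • PolynomialModule.single R 0 (ε : M) := by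
        rw [PolynomialModule.monomial_smul_single, add_zero, one_smul]
      rw [h1]
      exact hSsmul _ (coeff_monomial_mem 𝒜 q SetLike.GradedOne.one_mem) _ (hSgen ε hε)
    | zero =>
      rw [Submodule.coe_zero, PolynomialModule.single_zero]
      exact hS0
    | add w w' _ _ hw hw' =>
      rw [Submodule.coe_add, PolynomialModule.single_add]
      exact hSadd _ _ hw hw'
    | smul a w _ hw =>
      have h1 : PolynomialModule.single R q ((a • w : comp 𝒜 ℳ (j + 1)) : M) =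
          monomial 0 (a : R) • PolynomialModule.single R q (w : M) := by
        rw [PolynomialModule.monomial_smul_single, zero_add]
        rfl
      rw [h1]
      exact hSsmul _ (coeff_monomial_mem 𝒜 0 a.2) _ hw
  have hproj : ∀ u : PolynomialModule R M, projPM ℳ (j + 1) u ∈ S := by
    intro u
    induction u using PolynomialModule.induction_linear with
    | zero => rw [projPM_zero]; exact hS0
    | add u u' hu hu' => rw [projPM_add]; exact hSadd _ _ hu hu'
    | single q c =>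
      rw [projPM_single]
      exact hSsingle ⟨_, (decompose ℳ c (j + 1)).2⟩ q
  intro u hu
  have := hproj u
  rw [projPM_of_coeffIn ℳ hu] at this
  exact this


/-- **Descent**: `G • M_{J+1}[T] ⊆ F • M_J[T]` implies `G • M_J[T] ⊆ F • M_{J-1}[T]` when `M` has a
regular sequence of length two of homogeneous elements of positive degree. -/
theorem descent_step
    (hstd : Ideal.span (⋃ n ∈ Set.Ioi (0 : ℤ), (𝒜 n : Set R)) =
      Ideal.span ((𝒜 1 : AddSubgroup R) : Set R))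
    (F : R[X]) (hF : ∀ i, F.coeff i ∈ 𝒜 1)
    (hreg : ∀ v : PolynomialModule R M, F • v = 0 → v = 0)
    (G : (deg0 𝒜)[X])
    (δ₁ δ₂ : ℕ) (y₁ y₂ : R) (hy1 : y₁ ∈ 𝒜 ((δ₁ : ℤ) + 1)) (hy2 : y₂ ∈ 𝒜 ((δ₂ : ℤ) + 1))
    (hr1 : ∀ c : M, y₁ • c = 0 → c = 0)
    (hr2 : ∀ c c' : M, y₂ • c = y₁ • c' → ∃ u, c = y₁ • u) (J : ℤ)
    (hJ : ∀ u : PolynomialModule R M, CoeffIn ℳ (J + 1) u →
      ∃ v : PolynomialModule R M, CoeffIn ℳ J v ∧ (G.map (deg0 𝒜).subtype) • u = F • v)
    (u : PolynomialModule R M) (hu : CoeffIn ℳ J u) :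
    ∃ v : PolynomialModule R M, CoeffIn ℳ (J - 1) v ∧ (G.map (deg0 𝒜).subtype) • u = F • v := by
  set V' : PolynomialModule R M := (G.map (deg0 𝒜).subtype) • u with hV'
  have hV'c : CoeffIn ℳ J V' := coeffIn_smul_zero 𝒜 ℳ (coeff_map_subtype_mem 𝒜 G) hu
  -- multiples by linear forms
  have h1 : ∀ x ∈ 𝒜 1, ∃ w : PolynomialModule R M, C x • V' = F • w := by
    intro x hx
    have hxu : CoeffIn ℳ (J + 1) (C x • u) := by
      have := coeffIn_smul 𝒜 ℳ (F := C x) (g := 1) (fun i => by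
        rw [← monomial_zero_left]; exact coeff_monomial_mem 𝒜 0 hx i) hu
      rwa [add_comm] at this
    obtain ⟨w, -, hw⟩ := hJ _ hxu
    exact ⟨w, by rw [hV', smul_comm, hw]⟩
  have h2 : ∀ (δ : ℕ) (y : R), y ∈ 𝒜 ((δ : ℤ) + 1) →
      ∃ w : PolynomialModule R M, C y • V' = F • w := by
    intro δ y hy
    refine std_induction 𝒜 hstd (fun y => ∃ w : PolynomialModule R M, C y • V' = F • w)
      h1 ⟨0, by rw [map_zero, zero_smul, smul_zero]⟩ ?_ ?_ δ y hy
    · rintro x y ⟨w, hw⟩ ⟨w', hw'⟩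
      exact ⟨w + w', by rw [map_add, add_smul, hw, hw', smul_add]⟩
    · rintro c x ⟨w, hw⟩
      exact ⟨C c • w, by rw [map_mul, mul_smul, hw, smul_comm]⟩
  obtain ⟨w₁, e1⟩ := h2 δ₁ y₁ hy1
  obtain ⟨w₂, e2⟩ := h2 δ₂ y₂ hy2
  obtain ⟨u', hu'⟩ := exchange (C y₁) (C y₂) F (C_smul_regular y₁ hr1)
    (C_smul_quot_regular y₁ y₂ hr2) hreg V' w₁ w₂ e1 e2
  refine ⟨projPM ℳ (J - 1) u', coeffIn_projPM ℳ _ _, ?_⟩
  rw [← projPM_smul 𝒜 ℳ hF u' J, ← hu', projPM_of_coeffIn ℳ hV'c]

/-- **Strict growth of the Hilbert function** of a finitely generated graded module of depth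
`≥ 2` over a standard graded ring over a field: if `M_i = 0` for `i < b`, `M_b ≠ 0` then
`dim M_j < dim M_{j+1}` for all `j ≥ b`. -/
theorem finrank_lt_succ [IsNoetherianRing R] [Module.Finite R M]
    (h0 : IsField (deg0 𝒜))
    (hstd : Ideal.span (⋃ n ∈ Set.Ioi (0 : ℤ), (𝒜 n : Set R)) =
      Ideal.span ((𝒜 1 : AddSubgroup R) : Set R))
    (δ₁ δ₂ : ℕ) (y₁ y₂ : R) (hy1 : y₁ ∈ 𝒜 ((δ₁ : ℤ) + 1)) (hy2 : y₂ ∈ 𝒜 ((δ₂ : ℤ) + 1))
    (hr1 : ∀ c : M, y₁ • c = 0 → c = 0)
    (hr2 : ∀ c c' : M, y₂ • c = y₁ • c' → ∃ u, c = y₁ • u)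
    (b : ℤ) (hb : ∀ i < b, ℳ i = ⊥) (hbne : ℳ b ≠ ⊥) (j : ℤ) (hj : b ≤ j) :
    Module.finrank (deg0 𝒜) (comp 𝒜 ℳ j) < Module.finrank (deg0 𝒜) (comp 𝒜 ℳ (j + 1)) := by
  classical
  letI : Field (deg0 𝒜) := h0.toField
  haveI : IsNoetherian R R := inferInstance
  haveI : Module.Finite (deg0 𝒜) (comp 𝒜 𝒜 1) := by
    haveI := Groth.Agent.Lib.H74GrFin.isNoetherian_comp 𝒜 𝒜 1
    infer_instance
  obtain ⟨r, x', hx'⟩ := Module.Finite.exists_fin (R := deg0 𝒜) (M := comp 𝒜 𝒜 1)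
  set F : R[X] := ofFn r (fun i => (x' i : R)) with hFdef
  have hF : ∀ i, F.coeff i ∈ 𝒜 1 := by
    intro i
    rcases Nat.lt_or_ge i r with h | h
    · rw [hFdef, ofFn_coeff_eq_val_of_lt _ h]
      exact (x' _).2
    · rw [hFdef, ofFn_coeff_eq_zero_of_ge _ h]
      exact zero_mem _
  have hFr : ∀ i, r ≤ i → F.coeff i = 0 := fun i hi => ofFn_coeff_eq_zero_of_ge _ hi
  have hreg : ∀ v : PolynomialModule R M, F • v = 0 → v = 0 :=
    generic_regular 𝒜 hstd x' hx' δ₁ y₁ hy1 hr1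
  by_contra hcon
  push Not at hcon
  obtain ⟨G, hG0, hGrel⟩ := exists_uniform_relation 𝒜 ℳ h0 F hF hFr hreg j hcon
  -- descend
  have hdesc : ∀ t : ℕ, ∀ u : PolynomialModule R M, CoeffIn ℳ (j - t + 1) u →
      ∃ v : PolynomialModule R M, CoeffIn ℳ (j - t) v ∧
        (G.map (deg0 𝒜).subtype) • u = F • v := by
    intro t
    induction t with
    | zero =>
      intro u hu
      simp only [Nat.cast_zero, sub_zero] at hu ⊢
      exact hGrel u hu
    | succ t ih =>
      intro u hu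
      have e1 : j - ((t + 1 : ℕ) : ℤ) + 1 = j - t := by push_cast; ring
      have e2 : j - ((t + 1 : ℕ) : ℤ) = j - t - 1 := by push_cast; ring
      rw [e1] at hu
      rw [e2]
      exact descent_step 𝒜 ℳ hstd F hF hreg G δ₁ δ₂ y₁ y₂ hy1 hy2 hr1 hr2 (j - t) ih u hu
  -- bottom degree
  obtain ⟨c, hc, hc0⟩ : ∃ c ∈ ℳ b, c ≠ 0 := by
    by_contra hcon2
    push Not at hcon2
    apply hbne
    rw [eq_bot_iff]
    intro c hc
    exact (AddSubgroup.mem_bot).mpr (hcon2 c hc)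
  have ht : j - ((j - b + 1).toNat : ℤ) + 1 = b := by
    rw [Int.toNat_of_nonneg (by omega)]; ring
  have hcc : CoeffIn ℳ (j - ((j - b + 1).toNat : ℤ) + 1) (PolynomialModule.single R 0 c) := by
    rw [ht]; exact coeffIn_single ℳ hc 0
  obtain ⟨v, hv, hrel⟩ := hdesc (j - b + 1).toNat _ hcc
  have hv0 : v = 0 := by
    apply eq_zero_of_coeff_eq_zero
    intro q
    have h1 := hv q
    have h2 : ℳ (j - ((j - b + 1).toNat : ℤ)) = ⊥ := hb _ (by omega)
    rw [h2] at h1
    exact (AddSubgroup.mem_bot).mp h1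
  rw [hv0, smul_zero] at hrel
  apply hG0
  apply Polynomial.ext
  intro p
  rw [coeff_zero]
  have h3 := congrArg (fun z : PolynomialModule R M => z.coeff p) hrel
  simp only [PolynomialModule.coeff_zero, Finsupp.coe_zero, Pi.zero_apply] at h3
  rw [PolynomialModule.smul_single_apply, if_pos (Nat.zero_le p), Nat.sub_zero, coeff_map] at h3
  by_contra hne
  apply hc0
  have h4 : (G.coeff p)⁻¹ • (G.coeff p • c) = c := by
    rw [smul_smul, inv_mul_cancel₀ hne, one_smul]
  rw [← h4]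
  have h5 : G.coeff p • c = 0 := h3
  rw [h5, smul_zero]

end Main

end Groth.Agent.Lib.GrGenericForm
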