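import Groth.Agent.Lib.H74Matlis5

set_option autoImplicit false
set_option linter.unusedSectionVars false
universe u

namespace Groth.Agent.Lib.H74Matlis

open DirectSum GrLC Groth.Agent.Lib.H87GrMod Groth.Agent.Lib.H87GrMod2 Groth.Agent.Lib.H74GrArt

theorem finrank_eq_of_bijective_dual {K : Type*} [CommRing K]
    (hK : IsField K) {V W : Type*} [AddCommGroup V] [Module K V] [AddCommGroup W] [Module K W]
    [Module.Finite K V] (B : W →ₗ[K] V →ₗ[K] K) (hB : Function.Bijective B) :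
    Module.finrank K W = Module.finrank K V := by
  let _ : Field K := hK.toField
  let eW : W ≃ₗ[K] Module.Dual K V := LinearEquiv.ofBijective B hB
  rw [eW.finrank_eq, Subspace.dual_finrank_eq]

section Pair

variable {R : Type u} [CommRing R] [IsNoetherianRing R] (𝒜 : ℤ → AddSubgroup R) [GradedRing 𝒜]
  (hpos : ∀ n : ℤ, n < 0 → 𝒜 n = ⊥) (h0 : IsField (deg0 𝒜))
  (m : HomogeneousIdeal 𝒜)
  (hmsp : m.toIdeal = Ideal.span (⋃ n ∈ Set.Ioi (0 : ℤ), (𝒜 n : Set R)))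
variable {E' : Type u} [AddCommGroup E'] [Module R E'] (𝓔 : ℤ → AddSubgroup E')
  [Decomposition 𝓔] [SetLike.GradedSMul 𝒜 𝓔]
  (e : (R ⧸ m.toIdeal) →ₗ[R] E') (he : IsStarInjHull 𝒜 (quotGr 𝒜 m) 𝓔 e)
variable {C : Type u} [AddCommGroup C] [Module R C] (𝒞 : ℤ → AddSubgroup C)
  [Decomposition 𝒞] [SetLike.GradedSMul 𝒜 𝒞]
variable (n : ℕ) (I : StarInjRes 𝒜 𝒜)

include hpos h0 hmsp he in
/-- **Hilbert function of a *canonical module**: `dim_k C_{-d} = dim_k H^n_m(R)_d`. -/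
theorem finrank_comp_eq_finrank_Hcomp (hC : IsStarCanonical 𝒜 𝒞 𝓔 m n I) (d : ℤ) :
    Module.finrank (deg0 𝒜) (comp 𝒜 𝒞 (-d)) = Module.finrank (deg0 𝒜) (I.Hcomp m n d) := by
  obtain ⟨hfin, φ, hφ⟩ := hC
  have : IsNoetherian R C := isNoetherian_of_isNoetherianRing_of_finite R C
  have : IsNoetherian (deg0 𝒜) (comp 𝒜 𝒞 (-d)) :=
    Groth.Agent.Lib.H74GrFin.isNoetherian_comp 𝒜 𝒞 (-d)
  have : Module.Finite (deg0 𝒜) (comp 𝒜 𝒞 (-d)) := Module.IsNoetherian.finite _ _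
  exact (finrank_eq_of_bijective_dual h0 _
    (pairD_bijective 𝒜 hpos h0 m hmsp 𝓔 e he 𝒞 n I φ hφ d)).symm

end Pair

end Groth.Agent.Lib.H74Matlis
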