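import Mathlib
import Groth.Agent.Lib.LocCohLinear
import Groth.Agent.Lib.LocCohVanishing

/-!
# Regular elements and top local cohomology (helper12)

Ungraded consequences of the long exact sequence of local cohomology for `0 → M -y→ M → M/yM → 0`:
* `exists_smul_eq` : `H^n_I(M/yM) = 0` ⇒ `y H^n_I(M) = H^n_I(M)`;
* `exists_smul_eq_of_smul_eq_zero` : `y₁, y₂` an `M`-regular sequence with `H^k_I(M/(y₁,y₂)M) = 0` ⇒
  `(0 :_{H^{k+1}_I(M)} y₁) = y₂ (0 :_{H^{k+1}_I(M)} y₁)`;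
* `subsingleton_H_zero_quot` : `H^0_I(M) = H^1_I(M) = 0` ⇒ `H^0_I(M/yM) = 0`.
-/

set_option autoImplicit false
set_option linter.unusedSectionVars false

universe u

namespace Groth.Agent.Lib.LocCohTopReg

open Groth.Agent.Lib.LocCohLES
open scoped Pointwise

variable {R : Type u} [CommRing R] (I : Ideal R)
  (M : Type u) [AddCommGroup M] [Module R M]

/-- multiplication by `y` -/
abbrev mulBy (y : R) : M →ₗ[R] M := y • (LinearMap.id : M →ₗ[R] M)

theorem mulBy_injective {y : R} (hy : IsSMulRegular M y) : Function.Injective (mulBy M y) := by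
  intro a b hab
  exact hy hab

theorem mulBy_exact (y : R) :
    Function.Exact (mulBy M y) (Submodule.mkQ (y • (⊤ : Submodule R M))) := by
  intro a
  rw [Submodule.mkQ_apply, Submodule.Quotient.mk_eq_zero]
  constructor
  · intro h
    obtain ⟨b, -, hb⟩ := (Submodule.mem_smul_pointwise_iff_exists _ _ _).mp h
    exact ⟨b, hb⟩
  · rintro ⟨b, rfl⟩
    exact Submodule.smul_mem_pointwise_smul _ _ _ trivial

theorem Hmap_mulBy (y : R) (i : ℕ) (η : LocCoh.H I i M) : Hmap I (mulBy M y) i η = y • η := by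
  rw [Hmap_smul, Hmap_id]

/-- `H^n_I(M/yM) = 0` ⇒ `y H^n_I(M) = H^n_I(M)`. -/
theorem exists_smul_eq {y : R} (hy : IsSMulRegular M y) (n : ℕ)
    (hvan : Subsingleton (LocCoh.H I n (QuotSMulTop y M))) (η : LocCoh.H I n M) :
    ∃ ξ : LocCoh.H I n M, η = y • ξ := by
  have hex := exact₂ I (mulBy M y) (Submodule.mkQ (y • (⊤ : Submodule R M))) (mulBy_exact M y)
    (mulBy_injective M hy) (Submodule.mkQ_surjective _) n
  obtain ⟨ξ, hξ⟩ := (hex η).1 (Subsingleton.elim _ _)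
  exact ⟨ξ, by rw [← hξ, Hmap_mulBy]⟩

/-- `(0 :_{H^{k+1}_I(M)} y₁) = y₂ (0 :_{H^{k+1}_I(M)} y₁)` for an `M`-regular sequence `y₁, y₂` with
`H^k_I(M/(y₁,y₂)M) = 0`. -/
theorem exists_smul_eq_of_smul_eq_zero {y₁ y₂ : R} (hy1 : IsSMulRegular M y₁)
    (hy2 : IsSMulRegular (QuotSMulTop y₁ M) y₂) (k : ℕ)
    (hvan : Subsingleton (LocCoh.H I k (QuotSMulTop y₂ (QuotSMulTop y₁ M))))
    (η : LocCoh.H I (k + 1) M) (hη : y₁ • η = 0) :
    ∃ ξ : LocCoh.H I (k + 1) M, y₁ • ξ = 0 ∧ η = y₂ • ξ := by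
  have hex := exact₁ I (mulBy M y₁) (Submodule.mkQ (y₁ • (⊤ : Submodule R M)))
    (mulBy_injective M hy1) (mulBy_exact M y₁) (Submodule.mkQ_surjective _) k
  obtain ⟨ζ, hζ⟩ := (hex η).1 (by rw [Hmap_mulBy]; exact hη)
  obtain ⟨ζ', hζ'⟩ := exists_smul_eq I (QuotSMulTop y₁ M) hy2 k hvan ζ
  refine ⟨Hδ I (mulBy M y₁) (Submodule.mkQ (y₁ • (⊤ : Submodule R M)))
    (mulBy_injective M hy1) (mulBy_exact M y₁) (Submodule.mkQ_surjective _) k ζ', ?_, ?_⟩
  · rw [← Hmap_mulBy]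
    exact (hex _).2 ⟨ζ', rfl⟩
  · rw [← hζ, hζ', map_smul]

/-- `H^0_I(M) = H^1_I(M) = 0` ⇒ `H^0_I(M/yM) = 0`. -/
theorem subsingleton_H_zero_quot {y : R} (hy : IsSMulRegular M y)
    (h0 : Subsingleton (LocCoh.H I 0 M)) (h1 : Subsingleton (LocCoh.H I 1 M)) :
    Subsingleton (LocCoh.H I 0 (QuotSMulTop y M)) := by
  have hex := exact₃ I (mulBy M y) (Submodule.mkQ (y • (⊤ : Submodule R M)))
    (mulBy_injective M hy) (mulBy_exact M y) (Submodule.mkQ_surjective _) 0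
  refine subsingleton_of_forall_eq 0 fun z => ?_
  obtain ⟨w, hw⟩ := (hex z).1 (Subsingleton.elim _ _)
  rw [← hw, Subsingleton.elim w 0, map_zero]

end Groth.Agent.Lib.LocCohTopReg
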