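import Groth.Agent.Lib.LocCohLinear
import Groth.Agent.Lib.LocCohVanishing

/-!
# Top local cohomology is divisible (helper74)

`smul_top_eq_top_H`: if `H^{d+1}_I` vanishes on all modules and `H^d_I(M/IM)=0` then
`H^d_I(M) = I • H^d_I(M)` (right exactness of the top local cohomology).
-/

set_option autoImplicit false
set_option linter.unusedSectionVars false
set_option linter.style.haveILetI false
universe u

namespace Groth.Agent.Lib.H74TopLC

open Groth.Agent.Lib.LocCohLES

variable {R : Type u} [CommRing R] [IsNoetherianRing R] (I : Ideal R)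
variable (M : Type u) [AddCommGroup M] [Module R M]

theorem Hmap_sum {M' : Type u} [AddCommGroup M'] [Module R M'] {ι : Type*} (s : Finset ι)
    (f : ι → (M →ₗ[R] M')) (i : ℕ) (y : LocCoh.H I i M) :
    Hmap I (∑ j ∈ s, f j) i y = ∑ j ∈ s, Hmap I (f j) i y := by
  classical
  induction s using Finset.induction_on with
  | empty => simp [Hmap_zero]
  | insert a s ha ih =>
    rw [Finset.sum_insert ha, Finset.sum_insert ha, Hmap_add, ih]

/-- Top local cohomology is `I`-divisible: if `H^{d+1}_I` vanishes on all modules and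
`H^d_I(M/IM) = 0`, then `H^d_I(M) = I · H^d_I(M)`. -/
theorem smul_top_eq_top_H (d : ℕ)
    (hcd : ∀ (K : Type u) [AddCommGroup K] [Module R K], Subsingleton (LocCoh.H I (d + 1) K))
    (hq : Subsingleton (LocCoh.H I d (M ⧸ (I • (⊤ : Submodule R M))))) :
    I • (⊤ : Submodule R (LocCoh.H I d M)) = ⊤ := by
  classical
  rw [eq_top_iff]
  intro ξ _
  obtain ⟨s, hs⟩ := (IsNoetherian.noetherian I : I.FG)
  -- first sequence
  let IM : Submodule R M := I • (⊤ : Submodule R M)
  have hex1 : Function.Exact IM.subtype IM.mkQ := by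
    intro m
    rw [Submodule.mkQ_apply, Submodule.Quotient.mk_eq_zero]
    constructor
    · intro hm; exact ⟨⟨m, hm⟩, rfl⟩
    · rintro ⟨w, rfl⟩; exact w.2
  have h1 := exact₂ I IM.subtype IM.mkQ hex1 IM.injective_subtype (Submodule.mkQ_surjective _) d ξ
  obtain ⟨ζ, rfl⟩ := h1.mp (Subsingleton.elim _ _)
  -- second sequence
  let φ : (s → M) →ₗ[R] M := ∑ j : s, (j : R) • LinearMap.proj j
  have hφIM : ∀ v, φ v ∈ IM := by
    intro v
    show (∑ j : s, (j : R) • LinearMap.proj j : (s → M) →ₗ[R] M) v ∈ IM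
    rw [LinearMap.sum_apply]
    refine Submodule.sum_mem _ fun j _ => ?_
    rw [LinearMap.smul_apply]
    refine Submodule.smul_mem_smul ?_ Submodule.mem_top
    rw [← hs]
    exact Ideal.subset_span j.2
  let φ' : (s → M) →ₗ[R] IM := LinearMap.codRestrict IM φ hφIM
  have hφ's : Function.Surjective φ' := by
    rintro ⟨m, hm⟩
    have : m ∈ LinearMap.range φ := by
      refine Submodule.smul_induction_on hm ?_ ?_
      · intro r hr n _
        rw [← hs] at hr
        refine Submodule.span_induction ?_ ?_ ?_ ?_ hr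
        · intro x hx
          refine ⟨Pi.single ⟨x, hx⟩ n, ?_⟩
          show (∑ j : s, (j : R) • LinearMap.proj j : (s → M) →ₗ[R] M) _ = _
          rw [LinearMap.sum_apply, Finset.sum_eq_single ⟨x, hx⟩]
          · simp
          · intro b _ hb
            simp [Pi.single_eq_of_ne hb]
          · intro h; exact absurd (Finset.mem_univ _) h
        · exact ⟨0, by simp⟩
        · rintro x y _ _ ⟨u, hu⟩ ⟨v, hv⟩
          exact ⟨u + v, by rw [map_add, hu, hv, add_smul]⟩
        · rintro c x _ ⟨u, hu⟩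
          exact ⟨c • u, by rw [map_smul, hu, smul_eq_mul, mul_smul]⟩
      · rintro x y ⟨u, hu⟩ ⟨v, hv⟩
        exact ⟨u + v, by rw [map_add, hu, hv]⟩
    obtain ⟨v, hv⟩ := this
    exact ⟨v, Subtype.ext hv⟩
  let K : Submodule R (s → M) := LinearMap.ker φ'
  have hex2 : Function.Exact K.subtype φ' := by
    intro v
    constructor
    · intro hv; exact ⟨⟨v, hv⟩, rfl⟩
    · rintro ⟨w, rfl⟩; exact w.2
  have h2 := exact₃ I K.subtype φ' K.injective_subtype hex2 hφ's d ζ
  haveI := hcd K
  obtain ⟨ω, rfl⟩ := h2.mp (Subsingleton.elim _ _)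
  rw [← Hmap_comp]
  have hcomp : IM.subtype ∘ₗ φ' = φ := by
    ext v
    rfl
  rw [hcomp]
  show Hmap I (∑ j : s, (j : R) • LinearMap.proj j) d ω ∈ _
  rw [Hmap_sum]
  refine Submodule.sum_mem _ fun j _ => ?_
  rw [Hmap_smul]
  refine Submodule.smul_mem_smul ?_ Submodule.mem_top
  rw [← hs]
  exact Ideal.subset_span j.2

end Groth.Agent.Lib.H74TopLC
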