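import Mathlib
import Groth.Agent.Lib.GrGenericForm2
import Groth.Agent.Lib.GrDualReg
import Groth.Agent.Lib.LocCohTopReg
import Groth.Agent.Lib.LocCohH0
import Groth.Agent.Lib.H74GrCM
import Groth.Agent.Lib.H74GrVan
import Groth.Agent.Lib.H74Matlis6
import Groth.Agent.S18656

/-!
# Depth of the *canonical module and growth of its Hilbert function (helper12)

`R` a standard graded Cohen–Macaulay ring over the field `R_0`, `dim R = n ≥ 2`, `C` a *canonical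
module (graded Matlis dual of `H = H^n_m(R)`).
* `exists_regular_pair` : homogeneous `R`-regular sequence `y₁, y₂` of positive degrees;
* `hside` : `y₁ H = H` and `(0 :_H y₁) = y₂ (0 :_H y₁)` (long exact sequences of local cohomology +
  Grothendieck vanishing);
* by duality (`Lib/GrDualReg`) `y₁, y₂` is a `C`-regular sequence; by `Lib/GrGenericForm2` the
  Hilbert function of `C` is strictly increasing from degree `-a(R)` on (`finrank_comp_lt_succ`),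
  hence `dim_k C_j ≥ 2` for `j > -a(R)` (`two_le_finrank`).
-/

set_option autoImplicit false
set_option linter.unusedSectionVars false
set_option linter.style.haveILetI false

universe u

namespace Groth.Agent.Lib.GrCanonDepth

open DirectSum GrLC Groth.Agent.Lib.H74GrArt
open scoped Pointwise

section Reg

variable {R : Type u} [CommRing R]

theorem gam_eq_bot_of_subsingleton (I : Ideal R) (M : Type u) [AddCommGroup M] [Module R M]
    (h : Subsingleton (LocCoh.H I 0 M)) : gam I M = ⊥ := by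
  have e := Groth.Agent.Lib.LocCohH0.gammaEquiv I M
  haveI : Subsingleton (DRing.torsionSub I M) := e.symm.toEquiv.subsingleton
  rw [eq_bot_iff]
  intro x hx
  have hx' : x ∈ DRing.torsionSub I M := hx
  have : (⟨x, hx'⟩ : DRing.torsionSub I M) = 0 := Subsingleton.elim _ _
  exact congrArg Subtype.val this

theorem lt_of_add_one_le {x : WithBot ℕ∞} {n : ℕ} (h : x + 1 ≤ (n : WithBot ℕ∞)) :
    x < (n : WithBot ℕ∞) := by
  induction x using WithBot.recBotCoe with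
  | bot => exact WithBot.bot_lt_coe _
  | coe t =>
    induction t using ENat.recTopCoe with
    | top =>
      exfalso
      have : ((⊤ : ℕ∞) : WithBot ℕ∞) + 1 = ((⊤ : ℕ∞) : WithBot ℕ∞) := by
        rw [← WithBot.coe_one, ← WithBot.coe_add, top_add]
      rw [this] at h
      have h' : (⊤ : ℕ∞) ≤ (n : ℕ∞) := by exact_mod_cast h
      exact absurd h' (by simp)
    | coe t =>
      have h' : t + 1 ≤ n := by exact_mod_cast h
      have : t < n := by omega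
      exact_mod_cast this


/-- A positively graded `*`local Cohen–Macaulay ring of dimension `≥ 2` has a regular sequence of
length two consisting of homogeneous elements of positive degree. -/
theorem exists_regular_pair [LocCoh.IsCohenMacaulayRing R] (𝒜 : ℤ → AddSubgroup R) [GradedRing 𝒜]
    (hpos : ∀ n : ℤ, n < 0 → 𝒜 n = ⊥) (m : HomogeneousIdeal 𝒜) (hm : GrLC.IsStarLocal 𝒜 m)
    (hmsp : m.toIdeal = Ideal.span (⋃ n ∈ Set.Ioi (0 : ℤ), (𝒜 n : Set R)))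
    (n : ℕ) (hn : ringKrullDim R = n) (h2 : 2 ≤ n) :
    ∃ (y₁ y₂ : R) (δ₁ δ₂ : ℕ), y₁ ∈ 𝒜 ((δ₁ : ℤ) + 1) ∧ y₂ ∈ 𝒜 ((δ₂ : ℤ) + 1) ∧
      IsSMulRegular R y₁ ∧ IsSMulRegular (QuotSMulTop y₁ R) y₂ := by
  have hmax : m.toIdeal.IsMaximal := isMaximal_of_isStarLocal 𝒜 hpos m hm
  have hIM := Groth.Agent.Lib.H8CM.smul_top_self_ne_top hmax.ne_top
  have hd : (n : ℕ∞) ≤ LocCoh.idealDepth m.toIdeal R := by
    rw [Groth.Agent.Lib.H74GrCM.idealDepth_eq_dim 𝒜 hpos m hm n hn]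
  have hH0 : Subsingleton (LocCoh.H m.toIdeal 0 R) :=
    Groth.Agent.S0318.subsingleton_H_of_lt m.toIdeal R hIM n hd 0 (by omega)
  have hH1 : Subsingleton (LocCoh.H m.toIdeal 1 R) :=
    Groth.Agent.S0318.subsingleton_H_of_lt m.toIdeal R hIM n hd 1 (by omega)
  obtain ⟨y₁, d₁, hd₁, hy1, -, hreg1⟩ :=
    Groth.Agent.Lib.H74GrVan.exists_homogeneous_regular 𝒜 (M := R) m.toIdeal hmsp
      (gam_eq_bot_of_subsingleton _ _ hH0)
  have hH0' := Groth.Agent.Lib.LocCohTopReg.subsingleton_H_zero_quot m.toIdeal R hreg1 hH0 hH1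
  obtain ⟨y₂, d₂, hd₂, hy2, -, hreg2⟩ :=
    Groth.Agent.Lib.H74GrVan.exists_homogeneous_regular 𝒜 (M := QuotSMulTop y₁ R) m.toIdeal hmsp
      (gam_eq_bot_of_subsingleton _ _ hH0')
  refine ⟨y₁, y₂, d₁ - 1, d₂ - 1, ?_, ?_, hreg1, hreg2⟩
  · have e : ((d₁ - 1 : ℕ) : ℤ) + 1 = (d₁ : ℤ) := by omega
    rw [e]; exact hy1
  · have e : ((d₂ - 1 : ℕ) : ℤ) + 1 = (d₂ : ℤ) := by omega
    rw [e]; exact hy2

end Reg


section HSide

variable {R : Type u} [CommRing R] [IsNoetherianRing R]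

theorem le_of_add_one_le_succ {x : WithBot ℕ∞} {k : ℕ}
    (h : x + 1 ≤ ((k + 1 : ℕ) : WithBot ℕ∞)) : x ≤ (k : WithBot ℕ∞) := by
  induction x using WithBot.recBotCoe with
  | bot => exact bot_le
  | coe t =>
    induction t using ENat.recTopCoe with
    | top =>
      exfalso
      have : ((⊤ : ℕ∞) : WithBot ℕ∞) + 1 = ((⊤ : ℕ∞) : WithBot ℕ∞) := by
        rw [← WithBot.coe_one, ← WithBot.coe_add, top_add]
      rw [this] at h
      have h' : (⊤ : ℕ∞) ≤ ((k + 1 : ℕ) : ℕ∞) := by exact_mod_cast h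
      exact absurd h' (by simp)
    | coe t =>
      have h' : t + 1 ≤ k + 1 := by exact_mod_cast h
      have : t ≤ k := by omega
      exact_mod_cast this

/-- The two divisibility properties of the top local cohomology along a regular sequence. -/
theorem hside (𝒜 : ℤ → AddSubgroup R) [GradedRing 𝒜] (m : HomogeneousIdeal 𝒜)
    (I : StarInjRes 𝒜 𝒜) (n : ℕ) (hn : ringKrullDim R = n) (h2 : 2 ≤ n) (y₁ y₂ : R)
    (hreg1 : IsSMulRegular R y₁) (hreg2 : IsSMulRegular (QuotSMulTop y₁ R) y₂) :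
    (∀ η : I.H m n, ∃ ξ : I.H m n, η = y₁ • ξ) ∧
      (∀ η : I.H m n, y₁ • η = 0 → ∃ ξ : I.H m n, y₁ • ξ = 0 ∧ η = y₂ • ξ) := by
  obtain ⟨k, rfl⟩ : ∃ k, n = k + 1 := ⟨n - 1, by omega⟩
  have hx1 : Module.supportDim R (QuotSMulTop y₁ R) + 1 ≤ ((k + 1 : ℕ) : WithBot ℕ∞) := by
    have := Module.supportDim_quotSMulTop_succ_le_of_notMem_minimalPrimes (R := R) (M := R)
      (x := y₁) (fun _ => hreg1.notMem_of_mem_minimalPrimes)
    rw [Module.supportDim_self_eq_ringKrullDim, hn] at this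
    exact this
  have hx2 : Module.supportDim R (QuotSMulTop y₂ (QuotSMulTop y₁ R)) + 1 ≤
      Module.supportDim R (QuotSMulTop y₁ R) :=
    Module.supportDim_quotSMulTop_succ_le_of_notMem_minimalPrimes (R := R)
      (M := QuotSMulTop y₁ R) (x := y₂) (fun _ => hreg2.notMem_of_mem_minimalPrimes)
  have hv1 : Subsingleton (LocCoh.H m.toIdeal (k + 1) (QuotSMulTop y₁ R)) :=
    Groth.Agent.Lib.LocCohVanishing.subsingleton_H_of_supportDim_lt m.toIdeal _ (k + 1)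
      (lt_of_add_one_le hx1)
  have hv2 : Subsingleton (LocCoh.H m.toIdeal k (QuotSMulTop y₂ (QuotSMulTop y₁ R))) :=
    Groth.Agent.Lib.LocCohVanishing.subsingleton_H_of_supportDim_lt m.toIdeal _ k
      (lt_of_add_one_le (hx2.trans (le_of_add_one_le_succ hx1)))
  obtain ⟨eH⟩ := Groth.Agent.S13224.main m I (k + 1)
  constructor
  · intro η
    obtain ⟨ξ, hξ⟩ := Groth.Agent.Lib.LocCohTopReg.exists_smul_eq m.toIdeal R hreg1 (k + 1) hv1
      (eH η)
    refine ⟨eH.symm ξ, ?_⟩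
    apply eH.injective
    rw [map_smul, eH.apply_symm_apply, hξ]
  · intro η hη
    obtain ⟨ξ, hξ1, hξ2⟩ := Groth.Agent.Lib.LocCohTopReg.exists_smul_eq_of_smul_eq_zero
      m.toIdeal R hreg1 hreg2 k hv2 (eH η) (by rw [← map_smul, hη, map_zero])
    refine ⟨eH.symm ξ, ?_, ?_⟩
    · apply eH.injective
      rw [map_smul, eH.apply_symm_apply, hξ1, map_zero]
    · apply eH.injective
      rw [map_smul, eH.apply_symm_apply, hξ2]

end HSide


section Final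

open Groth.Agent.Lib.H74Matlis

variable {R : Type u} [CommRing R] [LocCoh.IsCohenMacaulayRing R] (𝒜 : ℤ → AddSubgroup R)
  [GradedRing 𝒜]
  (hpos : ∀ n : ℤ, n < 0 → 𝒜 n = ⊥) (h0 : IsField (deg0 𝒜))
  (m : HomogeneousIdeal 𝒜) (hm : GrLC.IsStarLocal 𝒜 m)
  (hmsp : m.toIdeal = Ideal.span (⋃ n ∈ Set.Ioi (0 : ℤ), (𝒜 n : Set R)))
  (hstd : Ideal.span (⋃ n ∈ Set.Ioi (0 : ℤ), (𝒜 n : Set R)) =
    Ideal.span ((𝒜 1 : AddSubgroup R) : Set R))
  (n : ℕ) (hn : ringKrullDim R = n) (h2 : 2 ≤ n) (I : StarInjRes 𝒜 𝒜) (a : ℤ)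
  (ha : GrLC.endDeg (I.Hgr m n) = ((a : WithTop ℤ) : WithBot (WithTop ℤ)))
variable {E' : Type u} [AddCommGroup E'] [Module R E'] (𝓔 : ℤ → AddSubgroup E')
  [Decomposition 𝓔] [SetLike.GradedSMul 𝒜 𝓔]
  (e : (R ⧸ m.toIdeal) →ₗ[R] E') (he : IsStarInjHull 𝒜 (quotGr 𝒜 m) 𝓔 e)
variable {C : Type u} [AddCommGroup C] [Module R C] (𝒞 : ℤ → AddSubgroup C)
  [Decomposition 𝒞] [SetLike.GradedSMul 𝒜 𝒞]

theorem eq_bot_of_endDeg_lt {M : Type u} [AddCommGroup M] (ℳ : ℤ → AddSubgroup M) (a : ℤ)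
    (ha : GrLC.endDeg ℳ = ((a : WithTop ℤ) : WithBot (WithTop ℤ))) (d : ℤ) (hd : a < d) :
    ℳ d = ⊥ := by
  by_contra hne
  have hle : ((d : WithTop ℤ) : WithBot (WithTop ℤ)) ≤ ((a : WithTop ℤ) : WithBot (WithTop ℤ)) := by
    rw [← ha]
    unfold GrLC.endDeg
    exact le_iSup₂_of_le d hne le_rfl
  have : d ≤ a := by exact_mod_cast hle
  omega

include hpos h0 hm hmsp hstd hn h2 ha he in
/-- **Strict growth of the Hilbert function of the *canonical module** of a standard graded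
Cohen–Macaulay ring of dimension `≥ 2` from degree `-a(R)` on. -/
theorem finrank_comp_lt_succ (hC : IsStarCanonical 𝒜 𝒞 𝓔 m n I) (j : ℤ) (hj : -a ≤ j) :
    Module.finrank (deg0 𝒜) (comp 𝒜 𝒞 j) < Module.finrank (deg0 𝒜) (comp 𝒜 𝒞 (j + 1)) := by
  obtain ⟨hfin, φ, hφ⟩ := hC
  haveI := hfin
  obtain ⟨y₁, y₂, δ₁, δ₂, hy1, hy2, hreg1, hreg2⟩ :=
    exists_regular_pair 𝒜 hpos m hm hmsp n hn h2
  obtain ⟨hU1, hU2⟩ := hside 𝒜 m I n hn h2 y₁ y₂ hreg1 hreg2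
  set P := pair 𝒜 hpos h0 m hmsp 𝓔 e he n I φ with hP
  have hbal : ∀ (r : R) (h : I.H m n) (c : C), P (r • h) c = P h (r • c) :=
    fun r h c => pair_smul 𝒜 hpos h0 m hmsp 𝓔 e he n I φ r h c
  have hnd : ∀ (d : ℤ) (c : C), c ∈ 𝒞 (-d) → (∀ h ∈ I.Hgr m n d, P h c = 0) → c = 0 :=
    fun d c hc hz => eq_zero_of_pair_right 𝒜 hpos h0 m hmsp 𝓔 e he 𝒞 n I φ hφ hc hz
  have hrep : ∀ (d : ℤ) (μ : I.H m n →ₗ[deg0 𝒜] deg0 𝒜), ∃ c ∈ 𝒞 (-d),
      ∀ h ∈ I.Hgr m n d, P h c = μ h := by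
    intro d μ
    obtain ⟨c, hc, h⟩ := exists_pair_right 𝒜 hpos h0 m hmsp 𝓔 e he 𝒞 n I φ hφ (d := d)
      (μ ∘ₗ (I.Hcomp m n d).subtype)
    exact ⟨c, hc, fun h' hh => h h' hh⟩
  have hr1 : ∀ c : C, y₁ • c = 0 → c = 0 :=
    Groth.Agent.Lib.GrDualReg.regular_of_divisible 𝒜 (I.Hgr m n) 𝒞 P hbal hnd hy1 hU1
  have hr2 : ∀ c c' : C, y₂ • c = y₁ • c' → ∃ u, c = y₁ • u :=
    Groth.Agent.Lib.GrDualReg.quot_regular_of_dual 𝒜 (I.Hgr m n) 𝒞 P hbal hnd h0 hrep hy1 hy2 hU2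
  have hb : ∀ i < -a, 𝒞 i = ⊥ := by
    intro i hi
    rw [eq_bot_iff]
    intro c hc
    rw [AddSubgroup.mem_bot]
    apply hnd (-i) c (by rw [neg_neg]; exact hc)
    intro h hh
    have h3 : I.Hgr m n (-i) = ⊥ := eq_bot_of_endDeg_lt _ a ha (-i) (by omega)
    rw [h3] at hh
    rw [(AddSubgroup.mem_bot).mp hh, map_zero, LinearMap.zero_apply]
  have hbne : 𝒞 (-a) ≠ ⊥ := by
    intro hbot
    have hne := Groth.Agent.S18656.ne_bot_of_endDeg_eq (I.Hgr m n) a ha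
    apply hne
    rw [eq_bot_iff]
    intro h hh
    rw [AddSubgroup.mem_bot]
    apply eq_zero_of_pair_left 𝒜 hpos h0 m hmsp 𝓔 e he 𝒞 n I φ hφ hh
    intro c hc
    rw [hbot] at hc
    rw [(AddSubgroup.mem_bot).mp hc, map_zero]
  exact Groth.Agent.Lib.GrGenericForm.finrank_lt_succ 𝒜 𝒞 h0 hstd δ₁ δ₂ y₁ y₂ hy1 hy2 hr1 hr2
    (-a) hb hbne j hj


include hpos h0 hmsp ha he in
theorem comp_neg_ne_bot (hC : IsStarCanonical 𝒜 𝒞 𝓔 m n I) : 𝒞 (-a) ≠ ⊥ := by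
  obtain ⟨hfin, φ, hφ⟩ := hC
  haveI := hfin
  intro hbot
  have hne := Groth.Agent.S18656.ne_bot_of_endDeg_eq (I.Hgr m n) a ha
  apply hne
  rw [eq_bot_iff]
  intro h hh
  rw [AddSubgroup.mem_bot]
  apply eq_zero_of_pair_left 𝒜 hpos h0 m hmsp 𝓔 e he 𝒞 n I φ hφ hh
  intro c hc
  rw [hbot] at hc
  rw [(AddSubgroup.mem_bot).mp hc, map_zero]

include hpos h0 hm hmsp hstd hn h2 ha he in
/-- `dim_k (K_R)_j ≥ 2` for `j > -a(R)` (standard graded Cohen–Macaulay of dimension `≥ 2`). -/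
theorem two_le_finrank (hC : IsStarCanonical 𝒜 𝒞 𝓔 m n I) (j : ℤ) (hj : -a < j) :
    2 ≤ Module.finrank (deg0 𝒜) (comp 𝒜 𝒞 j) := by
  have hne := comp_neg_ne_bot 𝒜 hpos h0 m hmsp n I a ha 𝓔 e he 𝒞 hC
  have hgrow := finrank_comp_lt_succ 𝒜 hpos h0 m hm hmsp hstd n hn h2 I a ha 𝓔 e he 𝒞 hC
  have hfin := hC.1
  have h1 : 1 ≤ Module.finrank (deg0 𝒜) (comp 𝒜 𝒞 (-a)) := by
    letI : Field (deg0 𝒜) := h0.toField
    haveI : IsNoetherian R C := isNoetherian_of_isNoetherianRing_of_finite R C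
    haveI : Module.Finite (deg0 𝒜) (comp 𝒜 𝒞 (-a)) := by
      haveI := Groth.Agent.Lib.H74GrFin.isNoetherian_comp 𝒜 𝒞 (-a)
      infer_instance
    obtain ⟨c, hc, hc0⟩ : ∃ c ∈ 𝒞 (-a), c ≠ 0 := by
      by_contra hcon
      push Not at hcon
      apply hne
      rw [eq_bot_iff]
      intro c hc
      exact (AddSubgroup.mem_bot).mpr (hcon c hc)
    have : 0 < Module.finrank (deg0 𝒜) (comp 𝒜 𝒞 (-a)) := by
      rw [Module.finrank_pos_iff_exists_ne_zero]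
      refine ⟨⟨c, hc⟩, fun h => hc0 ?_⟩
      exact congrArg Subtype.val h
    omega
  have key : ∀ t : ℕ, 2 ≤ Module.finrank (deg0 𝒜) (comp 𝒜 𝒞 (-a + 1 + t)) := by
    intro t
    induction t with
    | zero =>
      have := hgrow (-a) le_rfl
      have e : -a + 1 + ((0 : ℕ) : ℤ) = -a + 1 := by simp
      rw [e]
      omega
    | succ t ih =>
      have := hgrow (-a + 1 + t) (by omega)
      have e : -a + 1 + ((t + 1 : ℕ) : ℤ) = -a + 1 + t + 1 := by push_cast; ring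
      rw [e]
      omega
  have := key (j - (-a + 1)).toNat
  have e : -a + 1 + ((j - (-a + 1)).toNat : ℤ) = j := by
    rw [Int.toNat_of_nonneg (by omega)]; ring
  rwa [e] at this

end Final

end Groth.Agent.Lib.GrCanonDepth
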