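import Groth.Agent.Lib.H29LocalDualityCM
import Groth.Agent.Lib.H29Bass
import Groth.Agent.Lib.H29Depth
import Groth.Agent.S2089

/-!
# Canonical modules over Cohen–Macaulay local rings (helper29)

`R` Cohen–Macaulay local of dimension `n`, `E` an injective hull of the residue field `k`, `K` a
finite module with `eK : Hom(K, E) ≃ H^n_m(R)`.

* `subsingleton_ext_residue_of_ne`: `Ext^i(k, K) = 0` for `i ≠ n`;
* `dualExtResidueEquiv`: `Hom(Ext^n(k, K), E) ≃ k`; `nontrivial_ext_residue`;
* `hasInjectiveDimensionLT_canon`, `not_hasInjectiveDimensionLT_canon`: `injdim K = n`;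
* `depth_canon`: `depth K = n`; `nontrivial_canon`; `supportDim_canon`: `dim Supp K = n`.
-/

set_option autoImplicit false
universe u

open CategoryTheory Abelian IsLocalRing

namespace Groth.Agent.Lib.H29Canon

open Groth.Agent.Lib.H29LocalDualityCM

variable {R : Type u} [CommRing R] [LocCoh.IsCohenMacaulayLocalRing R] (n : ℕ)
  (hn : ringKrullDim R = n)
  {E : Type u} [AddCommGroup E] [Module R E]
  (f : ResidueField R →ₗ[R] E) (hf : InjHull.IsInjectiveHull f)
  {K : Type u} [AddCommGroup K] [Module R K]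
  (eK : (K →ₗ[R] E) ≃ₗ[R] LocCoh.H (maximalIdeal R) n R)

omit [LocCoh.IsCohenMacaulayLocalRing R] in
theorem isPowerTorsion_residue [IsLocalRing R] :
    LocCoh.IsPowerTorsion (maximalIdeal R) (R ⧸ maximalIdeal R) := by
  intro x
  refine ⟨1, fun a ha => ?_⟩
  rw [pow_one] at ha
  obtain ⟨b, rfl⟩ := Ideal.Quotient.mk_surjective x
  change Ideal.Quotient.mk _ (a * b) = 0
  exact Ideal.Quotient.eq_zero_iff_mem.mpr (Ideal.mul_mem_right _ _ ha)

include hn hf eK in
theorem subsingleton_ext_residue_of_ne (i : ℕ) (hi : i ≠ n) :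
    Subsingleton (Ext.{u} (ModuleCat.of R (R ⧸ maximalIdeal R)) (ModuleCat.of R K) i) := by
  rcases lt_or_gt_of_ne hi with hlt | hgt
  · obtain ⟨e⟩ := cm_localDuality n hn f hf eK i (n - i) (by omega) (R ⧸ maximalIdeal R)
    have : Subsingleton (LocCoh.H (maximalIdeal R) (n - i) (R ⧸ maximalIdeal R)) :=
      Groth.Agent.Lib.LocCohTorsion.subsingleton_H_of_isPowerTorsion (maximalIdeal R) (n - i)
        (by omega) _ isPowerTorsion_residue
    exact subsingleton_of_dual f hf _ e.symm.toEquiv.subsingleton
  · exact cm_subsingleton_ext_of_gt n hn f hf eK i hgt (R ⧸ maximalIdeal R)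

include hn hf eK in
/-- `Hom(Ext^n(k, K), E) ≃ k`. -/
theorem dualExtResidueEquiv :
    Nonempty ((Ext.{u} (ModuleCat.of R (R ⧸ maximalIdeal R)) (ModuleCat.of R K) n →ₗ[R] E)
      ≃ₗ[R] (R ⧸ maximalIdeal R)) := by
  obtain ⟨e⟩ := cm_localDuality n hn f hf eK n 0 (by omega) (R ⧸ maximalIdeal R)
  exact ⟨e.symm ≪≫ₗ Groth.Agent.Lib.LocCohH0.equivOfTorsion (maximalIdeal R) _
    isPowerTorsion_residue⟩

include hn hf eK in
theorem nontrivial_ext_residue :
    Nontrivial (Ext.{u} (ModuleCat.of R (R ⧸ maximalIdeal R)) (ModuleCat.of R K) n) := by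
  by_contra h
  rw [not_nontrivial_iff_subsingleton] at h
  obtain ⟨e⟩ := dualExtResidueEquiv n hn f hf eK
  have h1 : Subsingleton (Ext.{u} (ModuleCat.of R (R ⧸ maximalIdeal R)) (ModuleCat.of R K) n
      →ₗ[R] E) := inferInstance
  have h2 : Subsingleton (R ⧸ maximalIdeal R) := e.symm.toEquiv.subsingleton
  have : Nontrivial (R ⧸ maximalIdeal R) := Ideal.Quotient.nontrivial_iff.mpr
    (Ideal.IsPrime.ne_top inferInstance)
  exact not_subsingleton _ h2

include hn hf eK in
theorem nontrivial_canon : Nontrivial K := by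
  by_contra h
  rw [not_nontrivial_iff_subsingleton] at h
  have := nontrivial_ext_residue n hn f hf eK
  have hz : Limits.IsZero (ModuleCat.of R K) := ModuleCat.isZero_of_subsingleton _
  have hsub : Subsingleton
      (Ext.{u} (ModuleCat.of R (R ⧸ maximalIdeal R)) (ModuleCat.of R K) n) := by
    refine subsingleton_of_forall_eq 0 fun x => ?_
    have h0 : (𝟙 (ModuleCat.of R K)) = 0 := hz.eq_of_src _ _
    rw [← Ext.comp_mk₀_id x, h0, Ext.mk₀_zero, Ext.comp_zero]
  exact not_subsingleton _ hsub

include hn hf eK in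
theorem hasInjectiveDimensionLT_canon [Module.Finite R K] :
    HasInjectiveDimensionLT (ModuleCat.of R K) (n + 1) := by
  have : Module.Finite R (ModuleCat.of R K) := inferInstanceAs (Module.Finite R K)
  apply Groth.Agent.Lib.H29Bass.hasInjectiveDimensionLT_succ_of_ext n (ModuleCat.of R K)
  intro I
  exact Groth.Agent.Lib.H29Bass.subsingleton_ext_of_finite (ModuleCat.of R K) (n + 1)
    (fun i hi => subsingleton_ext_residue_of_ne n hn f hf eK i (by omega)) (R ⧸ I) (n + 1) le_rfl

include hn hf eK in
theorem not_hasInjectiveDimensionLT_canon :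
    ¬ HasInjectiveDimensionLT (ModuleCat.of R K) n := by
  intro h
  have := nontrivial_ext_residue n hn f hf eK
  have hsub : Subsingleton
      (Ext.{u} (ModuleCat.of R (R ⧸ maximalIdeal R)) (ModuleCat.of R K) n) :=
    HasInjectiveDimensionLT.subsingleton _ n n le_rfl _
  exact not_subsingleton _ hsub

include hn hf eK in
theorem depth_canon [Module.Finite R K] : LocCoh.depth R K = (n : ℕ∞) := by
  apply le_antisymm
  · by_contra hlt
    rw [not_le] at hlt
    have h1 : ((n + 1 : ℕ) : ℕ∞) ≤ LocCoh.idealDepth (maximalIdeal R) K := by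
      have := Order.add_one_le_of_lt hlt
      exact_mod_cast this
    have := (Groth.Agent.Lib.H29Depth.le_idealDepth_iff_ext' (maximalIdeal R) K (n + 1)).mp h1 n
      (Nat.lt_succ_self n)
    have := nontrivial_ext_residue n hn f hf eK
    exact not_subsingleton _ ‹Subsingleton _›
  · exact (Groth.Agent.Lib.H29Depth.le_idealDepth_iff_ext' (maximalIdeal R) K n).mpr
      (fun i hi => subsingleton_ext_residue_of_ne n hn f hf eK i (by omega))

include hn hf eK in
theorem supportDim_canon [Module.Finite R K] : Module.supportDim R K = (n : WithBot ℕ∞) := by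
  have := nontrivial_canon n hn f hf eK
  apply le_antisymm
  · rw [← hn]
    exact Module.supportDim_le_ringKrullDim R K
  · obtain ⟨p, hp⟩ := associatedPrimes.nonempty R K
    have h1 := Groth.Agent.S2089.result p hp
    rw [depth_canon n hn f hf eK] at h1
    have hpp : p.IsPrime := hp.isPrime
    have h2 : ringKrullDim (R ⧸ p) ≤ Module.supportDim R K := by
      rw [Module.supportDim_eq_ringKrullDim_quotient_annihilator]
      have hle : Module.annihilator R K ≤ p := by
        obtain ⟨x, hx⟩ := hp.2
        intro a ha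
        rw [hx]
        apply Ideal.le_radical
        rw [Submodule.mem_colon_singleton, Submodule.mem_bot]
        exact Module.mem_annihilator.mp ha x
      exact ringKrullDim_le_of_surjective (Ideal.Quotient.factor hle)
        (Ideal.Quotient.factor_surjective hle)
    exact h1.trans h2

end Groth.Agent.Lib.H29Canon
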