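import Mathlib
import Groth.Agent.Lib.GrCanonBridge
import Groth.Agent.S7700
import Groth.Agent.S18636
import Groth.Agent.Lib.H29Bass
import Groth.Agent.Lib.H26ExtLocIso
import Groth.Agent.Lib.CanonShift

set_option autoImplicit false
set_option linter.unusedSectionVars false
set_option linter.style.haveILetI false

universe u

namespace Groth.Agent.Lib.GrCanonInjDim

open CategoryTheory Abelian DirectSum GrLC IsLocalRing Groth.Agent.Lib.H26ExtLocIso

section Ungraded

variable {R : Type u} [CommRing R] [IsNoetherianRing R]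

/-- If `C_p` has injective dimension `< N` over `R_p` and `q ≤ p`, then `Ext^i_{R_q}(X_q, C_q) = 0`
for all `i ≥ N` and all finite `R`-modules `X`. -/
theorem subsingleton_ext_loc_of_le (p q : Ideal R) [p.IsPrime] [q.IsPrime] (hqp : q ≤ p)
    (C : Type u) [AddCommGroup C] [Module R C] (N : ℕ)
    (h : HasInjectiveDimensionLT (ModuleCat.of (Localization.AtPrime p)
      (LocalizedModule p.primeCompl C)) N) (i : ℕ) (hi : N ≤ i)
    (X : Type u) [AddCommGroup X] [Module R X] [Module.Finite R X] :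
    Subsingleton (Ext.{u} (ModuleCat.of (Localization.AtPrime q) (LocalizedModule q.primeCompl X))
      (ModuleCat.of (Localization.AtPrime q) (LocalizedModule q.primeCompl C)) i) := by
  refine subsingleton_of_forall_eq 0 fun y => ?_
  obtain ⟨x, s', hs'⟩ := exists_smul_eq_extLocFun q.primeCompl X C _
    (LocalizedModule.mkLinearMap q.primeCompl X) _ (LocalizedModule.mkLinearMap q.primeCompl C) i y
  haveI := HasInjectiveDimensionLT.subsingleton.{u} (ModuleCat.of (Localization.AtPrime p)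
      (LocalizedModule p.primeCompl C)) N i hi
      (ModuleCat.of (Localization.AtPrime p) (LocalizedModule p.primeCompl X))
  have hx0 : extLocFun p.primeCompl X C _ (LocalizedModule.mkLinearMap p.primeCompl X) _
      (LocalizedModule.mkLinearMap p.primeCompl C) i x = 0 := Subsingleton.elim _ _
  obtain ⟨s, hs⟩ := (extLocFun_eq_zero_iff p.primeCompl X C _ _ _ _ i x).mp hx0
  have hxq : extLocFun q.primeCompl X C _ (LocalizedModule.mkLinearMap q.primeCompl X) _
      (LocalizedModule.mkLinearMap q.primeCompl C) i x = 0 :=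
    (extLocFun_eq_zero_iff q.primeCompl X C _ _ _ _ i x).mpr
      ⟨⟨(s : R), fun hsq => s.2 (hqp hsq)⟩, hs⟩
  rw [hxq] at hs'
  have hu : IsUnit (algebraMap R (Localization.AtPrime q) (s' : R)) :=
    IsLocalization.map_units _ s'
  have h2 := congrArg (fun z => (hu.unit⁻¹ : (Localization.AtPrime q)ˣ).1 • z) hs'
  simp only [smul_zero] at h2
  rwa [← mul_smul, IsUnit.val_inv_mul, one_smul] at h2

end Ungraded

section Graded

variable {R : Type u} [CommRing R] [LocCoh.IsCohenMacaulayRing R]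
  (𝒜 : ℤ → AddSubgroup R) [GradedRing 𝒜]
  (hpos : ∀ n : ℤ, n < 0 → 𝒜 n = ⊥) (h0 : IsField (deg0 𝒜))
  (m : HomogeneousIdeal 𝒜) (hm : GrLC.IsStarLocal 𝒜 m)
  (hmsp : m.toIdeal = Ideal.span (⋃ n ∈ Set.Ioi (0 : ℤ), (𝒜 n : Set R)))
  (n : ℕ) (hn : ringKrullDim R = n) (I : GrLC.StarInjRes 𝒜 𝒜)
variable {E' : Type u} [AddCommGroup E'] [Module R E'] (𝓔 : ℤ → AddSubgroup E')
  [Decomposition 𝓔] [SetLike.GradedSMul 𝒜 𝓔]
  (e : (R ⧸ m.toIdeal) →ₗ[R] E') (he : IsStarInjHull 𝒜 (quotGr 𝒜 m) 𝓔 e)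
variable {C : Type u} [AddCommGroup C] [Module R C] (𝒞 : ℤ → AddSubgroup C)
  [Decomposition 𝒞] [SetLike.GradedSMul 𝒜 𝒞] (hC : IsStarCanonical 𝒜 𝒞 𝓔 m n I)

include hpos h0 hm hmsp hn he hC in
/-- the localization of the `*`canonical module at `m` has injective dimension `≤ n`. -/
theorem hasInjectiveDimensionLT_loc [m.toIdeal.IsPrime] :
    HasInjectiveDimensionLT (ModuleCat.of (Localization.AtPrime m.toIdeal)
      (LocalizedModule m.toIdeal.primeCompl C)) (n + 1) := by
  haveI := LocCoh.IsCohenMacaulayRing.isCohenMacaulayLocalRing_localization m.toIdeal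
  haveI : Module.Finite R C := hC.1
  obtain ⟨f, hf, ⟨eK⟩⟩ :=
    Groth.Agent.Lib.GrCanonBridge.exists_local 𝒜 hpos h0 m hmsp n I 𝓔 e he 𝒞 hC
  have hnA := Groth.Agent.Lib.GrCanonBridge.dim_loc 𝒜 hpos m hm n hn
  exact (Groth.Agent.S7700.result (Localization.AtPrime m.toIdeal) n hnA _ f hf _ eK).1

include hpos h0 hm hmsp hn he hC in
/-- Bass numbers of the `*`canonical module at homogeneous primes vanish above `n`. -/
theorem bassNum_eq_zero_of_isHomogeneous (q : Ideal R) [q.IsPrime] (hq : q.IsHomogeneous 𝒜)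
    (i : ℕ) (hi : n + 1 ≤ i) : GrLC.bassNum q C i = 0 := by
  haveI hmax : m.toIdeal.IsMaximal :=
    Groth.Agent.Lib.H74GrArt.isMaximal_of_isStarLocal 𝒜 hpos m hm
  haveI : Module.Finite R C := hC.1
  have hqm : q ≤ m.toIdeal := by
    have hne : (⟨q, hq⟩ : HomogeneousIdeal 𝒜) ≠ ⊤ := by
      intro h
      have h1 := congrArg HomogeneousIdeal.toIdeal h
      rw [HomogeneousIdeal.toIdeal_top] at h1
      exact (Ideal.IsPrime.ne_top inferInstance) h1
    exact Groth.Agent.Lib.CanonShift.le_of_isStarLocal 𝒜 hm ⟨q, hq⟩ hne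
  have hinj := hasInjectiveDimensionLT_loc 𝒜 hpos h0 m hm hmsp n hn I 𝓔 e he 𝒞 hC
  have hsub := subsingleton_ext_loc_of_le m.toIdeal q hqm C (n + 1) hinj i hi (R ⧸ q)
  unfold GrLC.bassNum GrLC.bassNumLocal
  rw [Module.length_eq_zero_iff]
  have e2 := extCongr (R := Localization.AtPrime q)
    (X := ModuleCat.of (Localization.AtPrime q) (LocalizedModule q.primeCompl (R ⧸ q)))
    (X' := ModuleCat.of (Localization.AtPrime q) (ResidueField (Localization.AtPrime q)))
    (Groth.Agent.Lib.H74BassCore.piLocEquiv 𝒜 q).toModuleIso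
    (Iso.refl (ModuleCat.of (Localization.AtPrime q) (LocalizedModule q.primeCompl C))) i
  exact e2.symm.toEquiv.subsingleton

include hpos h0 hm hmsp hn he hC in
/-- Bass numbers of the `*`canonical module at all primes vanish above `n + 1`. -/
theorem bassNum_eq_zero (q : Ideal R) [q.IsPrime] (i : ℕ) (hi : n + 2 ≤ i) :
    GrLC.bassNum q C i = 0 := by
  by_cases hq : q.IsHomogeneous 𝒜
  · exact bassNum_eq_zero_of_isHomogeneous 𝒜 hpos h0 m hm hmsp n hn I 𝓔 e he 𝒞 hC q hq i (by omega)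
  · haveI hc : (q.homogeneousCore 𝒜).toIdeal.IsPrime := Ideal.IsPrime.homogeneousCore inferInstance
    obtain ⟨j, rfl⟩ : ∃ j, i = j + 1 := ⟨i - 1, by omega⟩
    rw [(Groth.Agent.S18636.result R 𝒜 C 𝒞 q hq).2 j]
    exact bassNum_eq_zero_of_isHomogeneous 𝒜 hpos h0 m hm hmsp n hn I 𝓔 e he 𝒞 hC _
      (q.homogeneousCore 𝒜).isHomogeneous j (by omega)

end Graded

section Global

variable {R : Type u} [CommRing R] [IsNoetherianRing R]

/-- local-to-global for injective dimension via Bass numbers: if the Bass numbers of a finite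
module vanish at all maximal ideals in degrees `≥ N₀`, then it has injective dimension `≤ N₀`. -/
theorem hasInjectiveDimensionLT_of_bassNum (C : Type u) [AddCommGroup C] [Module R C]
    [Module.Finite R C] (N₀ : ℕ)
    (h : ∀ (q : Ideal R) [q.IsMaximal] (i : ℕ), N₀ ≤ i →
      GrLC.bassNum q C i = 0) :
    HasInjectiveDimensionLT (ModuleCat.of R C) (N₀ + 1) := by
  change HasInjectiveDimensionLE (ModuleCat.of R C) N₀
  rw [ModuleCat.hasInjectiveDimensionLE_iff_forall_maximalSpectrum]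
  intro q
  haveI := q.2
  have hk : ∀ i, N₀ ≤ i → Subsingleton (Ext.{u}
      (ModuleCat.of (Localization.AtPrime q.1)
        (Localization.AtPrime q.1 ⧸ maximalIdeal (Localization.AtPrime q.1)))
      (ModuleCat.of (Localization.AtPrime q.1) (LocalizedModule q.1.primeCompl C)) i) := by
    intro i hi
    have h1 := h q.1 i hi
    unfold GrLC.bassNum GrLC.bassNumLocal at h1
    rw [Module.length_eq_zero_iff] at h1
    exact h1
  haveI : Module.Finite (Localization.AtPrime q.1)
      (ModuleCat.of (Localization.AtPrime q.1) (LocalizedModule q.1.primeCompl C)) :=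
    inferInstanceAs (Module.Finite (Localization.AtPrime q.1) (LocalizedModule q.1.primeCompl C))
  have h2 := Groth.Agent.Lib.H29Bass.hasInjectiveDimensionLT_of_ext_residueField
    (ModuleCat.of (Localization.AtPrime q.1) (LocalizedModule q.1.primeCompl C)) N₀ hk
  let iso : (ModuleCat.of R C).localizedModule q.1.primeCompl ≅
      ModuleCat.of (Localization.AtPrime q.1) (LocalizedModule q.1.primeCompl C) :=
    (Shrink.linearEquiv (Localization q.1.primeCompl) (LocalizedModule q.1.primeCompl C)).toModuleIso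
  exact hasInjectiveDimensionLT_of_iso iso.symm (N₀ + 1)

end Global

section Main

variable {R : Type u} [CommRing R] [LocCoh.IsCohenMacaulayRing R]
  (𝒜 : ℤ → AddSubgroup R) [GradedRing 𝒜]
  (hpos : ∀ n : ℤ, n < 0 → 𝒜 n = ⊥) (h0 : IsField (deg0 𝒜))
  (m : HomogeneousIdeal 𝒜) (hm : GrLC.IsStarLocal 𝒜 m)
  (hmsp : m.toIdeal = Ideal.span (⋃ n ∈ Set.Ioi (0 : ℤ), (𝒜 n : Set R)))
  (n : ℕ) (hn : ringKrullDim R = n) (I : GrLC.StarInjRes 𝒜 𝒜)
variable {E' : Type u} [AddCommGroup E'] [Module R E'] (𝓔 : ℤ → AddSubgroup E')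
  [Decomposition 𝓔] [SetLike.GradedSMul 𝒜 𝓔]
  (e : (R ⧸ m.toIdeal) →ₗ[R] E') (he : IsStarInjHull 𝒜 (quotGr 𝒜 m) 𝓔 e)
variable {C : Type u} [AddCommGroup C] [Module R C] (𝒞 : ℤ → AddSubgroup C)
  [Decomposition 𝒞] [SetLike.GradedSMul 𝒜 𝒞] (hC : IsStarCanonical 𝒜 𝒞 𝓔 m n I)

include hpos h0 hm hmsp hn he hC in
/-- The `*`canonical module of a Cohen–Macaulay graded ring over a field has finite injective
dimension as an (ungraded) `R`-module. -/
theorem hasInjectiveDimensionLT_canon :
    HasInjectiveDimensionLT (ModuleCat.of R C) (n + 3) := by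
  haveI : Module.Finite R C := hC.1
  exact hasInjectiveDimensionLT_of_bassNum C (n + 2) (fun q _ i hi =>
    bassNum_eq_zero 𝒜 hpos h0 m hm hmsp n hn I 𝓔 e he 𝒞 hC q i hi)

end Main

end Groth.Agent.Lib.GrCanonInjDim
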