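import Groth.Agent.Lib.H26GorDual
import Groth.Agent.S0302
import Groth.Agent.S11681
import Groth.Agent.Lib.H29Matlis
import Groth.Agent.Lib.H29Canon

/-!
# Gorenstein local rings and canonical modules (helper29)

* `socle_eq`: the socle of the injective hull `E` of `k` is generated by `f 1`;
* `cyclic_of_dual_equiv`: finite `K` with `Hom(K, E) ≃ E` is cyclic;
* `nonempty_equiv_of_dual_equiv`: finite `K` with `Hom(K, E) ≃ E` is `≃ R`;
* `gorenstein_H_equiv`: for `R` Gorenstein local of dimension `n`, `H^n_m(R) ≃ E`.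
-/

set_option autoImplicit false
universe u

open CategoryTheory Abelian IsLocalRing

namespace Groth.Agent.Lib.H29GorCanon

section Socle

variable {R : Type u} [CommRing R] [IsLocalRing R]
  {E : Type u} [AddCommGroup E] [Module R E]
  (f : ResidueField R →ₗ[R] E) (hf : InjHull.IsInjectiveHull f)

theorem map_residue (r : R) : f (residue R r) = r • f 1 := by
  rw [← map_smul]
  congr 1
  rw [Algebra.smul_def, mul_one]
  rfl

include hf in
theorem f_one_ne_zero : f 1 ≠ 0 := by
  intro h
  have := hf.injective (h.trans (map_zero f).symm)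
  exact one_ne_zero this

theorem smul_f_one_eq_zero (a : R) (ha : a ∈ maximalIdeal R) : a • f 1 = 0 := by
  rw [← map_residue, (residue_eq_zero_iff a).mpr ha, map_zero]

include hf in
/-- the socle of `E` is generated by `f 1` -/
theorem socle_eq (z : E) (hz : ∀ a ∈ maximalIdeal R, a • z = 0) : ∃ c : R, z = c • f 1 := by
  by_cases h0 : z = 0
  · exact ⟨0, by rw [h0, zero_smul]⟩
  have hN : Submodule.span R {z} ≠ ⊥ := by
    rwa [Ne, Submodule.span_singleton_eq_bot]
  have hne := hf.essential _ hN
  obtain ⟨w, hw, hw0⟩ := Submodule.exists_mem_ne_zero_of_ne_bot hne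
  obtain ⟨hw1, ⟨y, rfl⟩⟩ := hw
  obtain ⟨c, hc⟩ := Submodule.mem_span_singleton.mp hw1
  have hcu : IsUnit c := by
    by_contra hnot
    have hcm : c ∈ maximalIdeal R := (mem_maximalIdeal c).mpr hnot
    rw [hz c hcm] at hc
    exact hw0 hc.symm
  obtain ⟨r, rfl⟩ := residue_surjective y
  rw [map_residue] at hc
  obtain ⟨u, rfl⟩ := hcu
  refine ⟨(↑u⁻¹ : R) * r, ?_⟩
  rw [mul_smul, ← hc, smul_smul, Units.inv_mul, one_smul]

end Socle

section Cyclic

variable {R : Type u} [CommRing R] [IsLocalRing R]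
  {E : Type u} [AddCommGroup E] [Module R E]
  (f : ResidueField R →ₗ[R] E) (hf : InjHull.IsInjectiveHull f)
  {K : Type u} [AddCommGroup K] [Module R K] [Module.Finite R K]
  (e : (K →ₗ[R] E) ≃ₗ[R] E)

include hf e in
/-- a finite module whose Matlis dual is `≃ E` is cyclic -/
theorem cyclic_of_dual_equiv : ∃ y : K, Submodule.span R {y} = ⊤ := by
  let φ₁ : K →ₗ[R] E := e.symm (f 1)
  have hφ₁ne : φ₁ ≠ 0 := by
    intro h
    apply f_one_ne_zero f hf
    have : e φ₁ = 0 := by rw [h, map_zero]
    rwa [LinearEquiv.apply_symm_apply] at this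
  have hφ₁W : ∀ a ∈ maximalIdeal R, a • φ₁ = 0 := by
    intro a ha
    show a • e.symm (f 1) = 0
    rw [← map_smul, smul_f_one_eq_zero f a ha, map_zero]
  have hW : ∀ ψ : K →ₗ[R] E, (∀ a ∈ maximalIdeal R, a • ψ = 0) → ∃ c : R, ψ = c • φ₁ := by
    intro ψ hψ
    obtain ⟨c, hc⟩ := socle_eq f hf (e ψ) (fun a ha => by rw [← map_smul, hψ a ha, map_zero])
    refine ⟨c, ?_⟩
    show ψ = c • e.symm (f 1)
    rw [← map_smul, ← hc, LinearEquiv.symm_apply_apply]
  obtain ⟨y, hy⟩ : ∃ y, φ₁ y ≠ 0 := by
    by_contra hcon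
    push_neg at hcon
    exact hφ₁ne (LinearMap.ext hcon)
  refine ⟨y, ?_⟩
  have hN : (⊤ : Submodule R K) ≤
      Submodule.span R {y} ⊔ (maximalIdeal R) • (⊤ : Submodule R K) := by
    by_contra hcon
    obtain ⟨x, -, hx⟩ := SetLike.not_le_iff_exists.mp hcon
    set N := Submodule.span R {y} ⊔ (maximalIdeal R) • (⊤ : Submodule R K) with hNdef
    have hx0 : N.mkQ x ≠ 0 := by
      rwa [Ne, Submodule.mkQ_apply, Submodule.Quotient.mk_eq_zero]
    obtain ⟨χ, hχ⟩ := Groth.Agent.Lib.H29Matlis.exists_dual_ne_zero f hf _ hx0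
    let ψ : K →ₗ[R] E := χ ∘ₗ N.mkQ
    have hψW : ∀ a ∈ maximalIdeal R, a • ψ = 0 := by
      intro a ha
      ext k
      show a • χ (N.mkQ k) = 0
      rw [← map_smul, ← map_smul]
      have : a • k ∈ N := le_sup_right (α := Submodule R K)
        (Submodule.smul_mem_smul ha Submodule.mem_top)
      rw [Submodule.mkQ_apply, (Submodule.Quotient.mk_eq_zero N).mpr this, map_zero]
    obtain ⟨c, hc⟩ := hW ψ hψW
    have hψy : ψ y = 0 := by
      show χ (N.mkQ y) = 0
      have : y ∈ N := le_sup_left (α := Submodule R K) (Submodule.mem_span_singleton_self y)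
      rw [Submodule.mkQ_apply, (Submodule.Quotient.mk_eq_zero N).mpr this, map_zero]
    have hcm : c ∈ maximalIdeal R := by
      rw [mem_maximalIdeal, mem_nonunits_iff]
      intro hcu
      apply hy
      rw [hc, LinearMap.smul_apply] at hψy
      obtain ⟨u, rfl⟩ := hcu
      have := congrArg (fun t => (↑u⁻¹ : R) • t) hψy
      simpa [smul_smul] using this
    apply hχ
    show ψ x = 0
    rw [hc, hφ₁W c hcm, LinearMap.zero_apply]
  have := Submodule.le_of_le_smul_of_le_jacobson_bot (Module.Finite.fg_top (R := R) (M := K))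
    (IsLocalRing.maximalIdeal_le_jacobson ⊥) hN
  exact top_le_iff.mp this

include hf e in
/-- a finite module over a Noetherian local ring whose Matlis dual is `≃ E` is `≃ R` -/
theorem nonempty_equiv_of_dual_equiv [IsNoetherianRing R] : Nonempty (K ≃ₗ[R] R) := by
  obtain ⟨y, hy⟩ := cyclic_of_dual_equiv f hf e
  have hsurj : Function.Surjective (LinearMap.toSpanSingleton R K y) := by
    intro k
    have : k ∈ Submodule.span R {y} := hy ▸ Submodule.mem_top
    obtain ⟨a, rfl⟩ := Submodule.mem_span_singleton.mp this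
    exact ⟨a, rfl⟩
  have hinj : Function.Injective (LinearMap.toSpanSingleton R K y) := by
    rw [← LinearMap.ker_eq_bot, eq_bot_iff]
    intro a ha
    rw [LinearMap.mem_ker, LinearMap.toSpanSingleton_apply] at ha
    rw [Submodule.mem_bot]
    have hS := Groth.Agent.S11681.result R E f hf
    -- a kills K
    have haK : a ∈ Module.annihilator R K := by
      rw [Module.mem_annihilator]
      intro k
      obtain ⟨b, rfl⟩ := hsurj k
      rw [LinearMap.toSpanSingleton_apply, smul_comm, ha, smul_zero]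
    rw [(hS.1 K).2, Module.mem_annihilator] at haK
    -- a kills E
    have haE : ∀ z : E, a • z = 0 := by
      intro z
      have := haK (e.symm z)
      rw [← map_smul] at this
      have h2 := congrArg e this
      rwa [LinearEquiv.apply_symm_apply, map_zero] at h2
    have haR : a ∈ Module.annihilator R R := by
      rw [(hS.1 R).2, Module.mem_annihilator]
      intro φ
      ext
      rw [LinearMap.smul_apply, haE, LinearMap.zero_apply]
    rw [Module.mem_annihilator] at haR
    simpa using haR 1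
  exact ⟨(LinearEquiv.ofBijective _ ⟨hinj, hsurj⟩).symm⟩

end Cyclic

section Gorenstein

variable (R : Type u) [CommRing R] [LocCoh.IsGorensteinLocalRing R] (n : ℕ)
  (hn : ringKrullDim R = n)
  {E : Type u} [AddCommGroup E] [Module R E]
  (f : ResidueField R →ₗ[R] E) (hf : InjHull.IsInjectiveHull f)

include hn hf in
/-- **For a Gorenstein local ring of dimension `n`, `H^n_m(R) ≃ E`.** -/
theorem gorenstein_H_equiv : Nonempty (LocCoh.H (maximalIdeal R) n R ≃ₗ[R] E) := by
  obtain ⟨g, hg⟩ := Groth.Agent.Lib.H26GorDual.gorenstein_exists_isInjectiveHull_H R n hn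
  obtain ⟨e, -⟩ := Groth.Agent.S0302.result R _ _ _ g hg f hf
  exact ⟨e⟩

end Gorenstein

end Groth.Agent.Lib.H29GorCanon
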