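import Mathlib
import Groth.Agent.Lib.GrCanonInjDim
import Groth.Agent.S7701

set_option autoImplicit false
set_option linter.unusedSectionVars false
set_option linter.style.haveILetI false

universe u

namespace Groth.Agent.Lib.GrCanonGor

open CategoryTheory Abelian DirectSum GrLC IsLocalRing

section Ungraded

variable {R : Type u} [CommRing R] [IsNoetherianRing R]

/-- A Noetherian ring of finite self-injective dimension is Gorenstein. -/
theorem isGorensteinRing_of_hasInjectiveDimensionLT (N : ℕ)
    (h : HasInjectiveDimensionLT (ModuleCat.of R R) (N + 1)) : LocCoh.IsGorensteinRing R where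
  isGorensteinLocalRing_localization p _ := by
    haveI : HasInjectiveDimensionLE (ModuleCat.of R R) N := h
    have h1 := ModuleCat.localizedModule_hasInjectiveDimensionLE N p.primeCompl (ModuleCat.of R R)
    let e4 : LocalizedModule p.primeCompl R ≃ₗ[Localization p.primeCompl] Localization p.primeCompl :=
      LinearEquiv.extendScalarsOfIsLocalization p.primeCompl (Localization p.primeCompl)
        (IsLocalizedModule.iso p.primeCompl (Algebra.linearMap R (Localization p.primeCompl)))
    let iso : (ModuleCat.of R R).localizedModule p.primeCompl ≅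
        ModuleCat.of (Localization.AtPrime p) (Localization.AtPrime p) :=
      ((Shrink.linearEquiv (Localization p.primeCompl) (LocalizedModule p.primeCompl R)).trans
        e4).toModuleIso
    exact { exists_hasInjectiveDimensionLT := ⟨N + 1, hasInjectiveDimensionLT_of_iso iso (N + 1)⟩ }

end Ungraded

section Graded

variable {R : Type u} [CommRing R] [LocCoh.IsCohenMacaulayRing R]
  (𝒜 : ℤ → AddSubgroup R) [GradedRing 𝒜]
  (hpos : ∀ n : ℤ, n < 0 → 𝒜 n = ⊥) (h0 : IsField (deg0 𝒜))
  (m : HomogeneousIdeal 𝒜) (hm : GrLC.IsStarLocal 𝒜 m)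
  (hmsp : m.toIdeal = Ideal.span (⋃ n ∈ Set.Ioi (0 : ℤ), (𝒜 n : Set R)))
  (n : ℕ) (hn : ringKrullDim R = n) (I : GrLC.StarInjRes 𝒜 𝒜)
variable {E' : Type u} [AddCommGroup E'] [Module R E'] (𝓔 : ℤ → AddSubgroup E')
  [Decomposition 𝓔] [SetLike.GradedSMul 𝒜 𝓔]
  (e : (R ⧸ m.toIdeal) →ₗ[R] E') (he : IsStarInjHull 𝒜 (quotGr 𝒜 m) 𝓔 e)
variable {C : Type u} [AddCommGroup C] [Module R C] (𝒞 : ℤ → AddSubgroup C)
  [Decomposition 𝒞] [SetLike.GradedSMul 𝒜 𝒞] (hC : IsStarCanonical 𝒜 𝒞 𝓔 m n I)

include hpos h0 hm hmsp hn he hC in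
/-- If `R` is Gorenstein then the `*`canonical module is a shift of `R`. -/
theorem exists_shift_of_gorenstein (hG : LocCoh.IsGorensteinRing R) :
    ∃ (a : ℤ) (f : R →ₗ[R] C), Function.Bijective f ∧ GrLC.IsGrHomDeg 𝒜 𝒞 f a := by
  classical
  haveI hmax : m.toIdeal.IsMaximal :=
    Groth.Agent.Lib.H74GrArt.isMaximal_of_isStarLocal 𝒜 hpos m hm
  haveI := LocCoh.IsCohenMacaulayRing.isCohenMacaulayLocalRing_localization m.toIdeal
  haveI : Module.Finite R C := hC.1
  obtain ⟨f, hf, ⟨eK⟩⟩ :=
    Groth.Agent.Lib.GrCanonBridge.exists_local 𝒜 hpos h0 m hmsp n I 𝓔 e he 𝒞 hC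
  have hnA := Groth.Agent.Lib.GrCanonBridge.dim_loc 𝒜 hpos m hm n hn
  have hGA : LocCoh.IsGorensteinLocalRing (Localization.AtPrime m.toIdeal) :=
    hG.isGorensteinLocalRing_localization m.toIdeal
  obtain ⟨θ⟩ := (Groth.Agent.S7701.result (Localization.AtPrime m.toIdeal) n hnA _ f hf _ eK).mp hGA
  -- a homogeneous element whose image is a unit
  have hex : ∃ (a : ℤ) (c : C), c ∈ 𝒞 a ∧
      θ (LocalizedModule.mk c 1) ∉ maximalIdeal (Localization.AtPrime m.toIdeal) := by
    by_contra hcon
    push Not at hcon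
    have h1 : ∀ c : C, θ (LocalizedModule.mk c (1 : m.toIdeal.primeCompl)) ∈
        maximalIdeal (Localization.AtPrime m.toIdeal) := by
      intro c
      have hlin : ∀ c : C, θ (LocalizedModule.mk c (1 : m.toIdeal.primeCompl)) =
          (θ.toLinearMap.restrictScalars R ∘ₗ LocalizedModule.mkLinearMap m.toIdeal.primeCompl C) c :=
        fun c => rfl
      rw [hlin, ← DirectSum.sum_support_decompose 𝒞 c, map_sum]
      refine Ideal.sum_mem _ fun a _ => ?_
      rw [← hlin]
      exact hcon a _ (decompose 𝒞 c a).2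
    have h2 : ∀ y : LocalizedModule m.toIdeal.primeCompl C,
        θ y ∈ maximalIdeal (Localization.AtPrime m.toIdeal) := by
      intro y
      induction y using LocalizedModule.induction_on with
      | h c s =>
        have h3 : LocalizedModule.mk c s =
            (Localization.mk 1 s : Localization m.toIdeal.primeCompl) •
              LocalizedModule.mk c (1 : m.toIdeal.primeCompl) := by
          rw [LocalizedModule.mk_smul_mk, one_smul, mul_one]
        rw [h3, map_smul, smul_eq_mul]
        exact Ideal.mul_mem_left _ _ (h1 c)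
    obtain ⟨y, hy⟩ := θ.surjective 1
    have := h2 y
    rw [hy] at this
    exact (Ideal.ne_top_iff_one _).mp (Ideal.IsPrime.ne_top inferInstance) this
  obtain ⟨a, c, hc, hu⟩ := hex
  have hunit : IsUnit (θ (LocalizedModule.mk c (1 : m.toIdeal.primeCompl))) := by
    by_contra hnu
    exact hu ((mem_maximalIdeal _).mpr hnu)
  let φ : R →ₗ[R] C := LinearMap.toSpanSingleton R C c
  have hφ : GrLC.IsGrHomDeg 𝒜 𝒞 φ a := by
    intro g r hr
    exact SetLike.GradedSMul.smul_mem hr hc
  have hmapmk : ∀ (r : R) (s : m.toIdeal.primeCompl),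
      θ (LocalizedModule.map m.toIdeal.primeCompl φ (LocalizedModule.mk r s)) =
        Localization.mk r s * θ (LocalizedModule.mk c (1 : m.toIdeal.primeCompl)) := by
    intro r s
    rw [LocalizedModule.map_mk]
    have h3 : LocalizedModule.mk (φ r) s =
        (Localization.mk r s : Localization m.toIdeal.primeCompl) •
          LocalizedModule.mk c (1 : m.toIdeal.primeCompl) := by
      rw [LocalizedModule.mk_smul_mk, mul_one]
      rfl
    rw [h3, map_smul, smul_eq_mul]
  have hinj : Function.Injective (LocalizedModule.map m.toIdeal.primeCompl φ) := by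
    rw [injective_iff_map_eq_zero]
    intro x hx
    induction x using LocalizedModule.induction_on with
    | h r s =>
      have h4 := hmapmk r s
      rw [hx, map_zero] at h4
      have h5 : (Localization.mk r s : Localization m.toIdeal.primeCompl) = 0 :=
        (hunit.mul_left_eq_zero).mp h4.symm
      rw [Localization.mk_eq_mk'_apply, IsLocalization.mk'_eq_zero_iff] at h5
      obtain ⟨t, ht⟩ := h5
      rw [← LocalizedModule.zero_mk 1, LocalizedModule.mk_eq]
      refine ⟨t, ?_⟩
      simp only [one_smul, smul_zero]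
      exact ht
  have hsurj : Function.Surjective (LocalizedModule.map m.toIdeal.primeCompl φ) := by
    intro y
    obtain ⟨b, hb⟩ : ∃ b : Localization m.toIdeal.primeCompl,
        b * θ (LocalizedModule.mk c (1 : m.toIdeal.primeCompl)) = θ y :=
      ⟨θ y * hunit.unit⁻¹.1, by rw [mul_assoc, IsUnit.val_inv_mul, mul_one]⟩
    induction b using Localization.induction_on with
    | H rs =>
      refine ⟨LocalizedModule.mk rs.1 rs.2, ?_⟩
      apply θ.injective
      rw [hmapmk, hb]
  haveI : m.toIdeal.IsPrime := hmax.isPrime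
  exact ⟨a, φ, ⟨Groth.Agent.Lib.CanonShift.injective_of_localized 𝒜 hm hφ hinj,
    Groth.Agent.Lib.CanonShift.surjective_of_localized 𝒜 hm hφ hsurj⟩, hφ⟩

end Graded

end Groth.Agent.Lib.GrCanonGor
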