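import Mathlib
import Groth.Agent.Lib.H29Canon
import Groth.Agent.Lib.H26FinExt
import Groth.Agent.Lib.H26TopLC
import Groth.Agent.S5170
import Groth.Agent.Lib.H29CanonUniq
import Groth.Agent.Lib.H26FinLenExt
import Groth.Agent.Lib.H26ExtLocIso
import Groth.Agent.Lib.GrCanonBridge
import Groth.Prelude.Def_GrLC2

set_option autoImplicit false
set_option linter.unusedSectionVars false
set_option linter.style.haveILetI false

universe u

namespace Groth.Agent.Lib.GrCanonType

open CategoryTheory Abelian IsLocalRing TensorProduct DirectSum GrLC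

section Local

variable {A : Type u} [CommRing A] [LocCoh.IsCohenMacaulayLocalRing A] (n : ℕ)
  (hn : ringKrullDim A = n)
  {E : Type u} [AddCommGroup E] [Module A E]
  (f : ResidueField A →ₗ[A] E) (hf : InjHull.IsInjectiveHull f)
  {K : Type u} [AddCommGroup K] [Module A K] [Module.Finite A K]
  (eK : (K →ₗ[A] E) ≃ₗ[A] LocCoh.H (maximalIdeal A) n A)

omit [LocCoh.IsCohenMacaulayLocalRing A] in
/-- `Ext^i(k, K)` has finite length for finite `K`. -/
theorem isFiniteLength_ext_residue [IsNoetherianRing A] [IsLocalRing A] (i : ℕ) :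
    IsFiniteLength A (Ext.{u} (ModuleCat.of A (A ⧸ maximalIdeal A)) (ModuleCat.of A K) i) := by
  haveI := Groth.Agent.Lib.H26FinExt.finite_ext (R := A) K i (A ⧸ maximalIdeal A)
  apply Groth.Agent.Lib.H26TopLC.isFiniteLength_of_pow_smul 1
  rw [pow_one, Submodule.eq_bot_iff]
  intro x hx
  refine Submodule.smul_induction_on hx ?_ ?_
  · intro a ha y _
    apply Groth.Agent.Lib.H26FinExt.smul_ext_eq_zero_of_left (A ⧸ maximalIdeal A) _ a _ i y
    intro z
    obtain ⟨b, rfl⟩ := Ideal.Quotient.mk_surjective z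
    change Ideal.Quotient.mk _ (a * b) = 0
    exact Ideal.Quotient.eq_zero_iff_mem.mpr (Ideal.mul_mem_right _ _ ha)
  · intro y z hy hz
    rw [hy, hz, add_zero]

include hn hf eK in
/-- the canonical module has type one: `Ext^n(k, K)` has length one. -/
theorem length_ext_residue_canon :
    Module.length A (Ext.{u} (ModuleCat.of A (ResidueField A)) (ModuleCat.of A K) n) = 1 := by
  obtain ⟨d⟩ := Groth.Agent.Lib.H29Canon.dualExtResidueEquiv n hn f hf eK
  have hX := isFiniteLength_ext_residue (A := A) (K := K) n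
  have h1 := Groth.Agent.S5170.result A E f hf _ hX
  have h2 : Module.length A (A ⧸ maximalIdeal A) = 1 := by
    have : IsSimpleModule A (A ⧸ maximalIdeal A) :=
      isSimpleModule_iff_isCoatom.mpr (Ideal.isMaximal_def.mp inferInstance)
    exact Module.length_eq_one A (A ⧸ maximalIdeal A)
  rw [d.length_eq, h2] at h1
  exact h1.symm

include hn in
/-- `Ext^i(N, A) = 0` for `i < n` and `N` of finite length over a CM local ring of dimension `n`. -/
theorem subsingleton_ext_self_of_lt (N : Type u) [AddCommGroup N] [Module A N]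
    (hN : IsFiniteLength A N) (i : ℕ) (hi : i < n) :
    Subsingleton (Ext.{u} (ModuleCat.of A N) (ModuleCat.of A A) i) := by
  have hdepth := Groth.Agent.Lib.H29LocalDualityCM.cm_depth_eq (R := A) n hn
  have h1 := (Groth.Agent.Lib.H29Depth.le_idealDepth_iff_ext' (maximalIdeal A) A n).mp
    (by rw [hdepth]) i hi
  exact Groth.Agent.Lib.H26FinLenExt.subsingleton_ext_of_isFiniteLength _ i h1 N hN

include hn hf eK in
/-- the type of a CM local ring is the minimal number of generators of its canonical module. -/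
theorem length_ext_residue_self :
    Module.length A (Ext.{u} (ModuleCat.of A (ResidueField A)) (ModuleCat.of A A) n) =
      Module.length A (K ⧸ (maximalIdeal A) • (⊤ : Submodule A K)) := by
  have hV : ∀ (N : Type u) [AddCommGroup N] [Module A N], IsFiniteLength A N → ∀ i < n,
      Subsingleton (Abelian.Ext (ModuleCat.of A N) (ModuleCat.of A A) i) :=
    fun N _ _ hN i hi => subsingleton_ext_self_of_lt n hn N hN i hi
  -- `Ext^n(A/𝔪^1, A) ≃ H^n(A)[𝔪^1]`
  let e1 : Ext.{u} (Groth.Agent.Lib.LocCohConcrete.Q (maximalIdeal A) 1) (ModuleCat.of A A) n ≃ₗ[A]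
      Submodule.torsionBySet A (LocCoh.H (maximalIdeal A) n A)
        ((maximalIdeal A ^ 1 : Ideal A) : Set A) :=
    (LinearEquiv.ofInjective _ (Groth.Agent.Lib.H26TopLC.HιE_injective n A hV 1)).trans
      (LinearEquiv.ofEq _ _ (Groth.Agent.Lib.H26TopLC.range_HιE n A hV 1))
  let e2 := Groth.Agent.Lib.H29CanonUniq.torsionBySetEquiv eK.symm
    ((maximalIdeal A ^ 1 : Ideal A) : Set A)
  let e3 := Groth.Agent.Lib.H29CanonUniq.dualQuotEquiv (E := E) (maximalIdeal A ^ 1) K
  have hfl := Groth.Agent.Lib.H29CanonUniq.isFiniteLength_quot_pow_smul (R := A) K 1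
  have h5 := Groth.Agent.S5170.result A E f hf _ hfl
  have e6 : (K ⧸ (maximalIdeal A ^ 1) • (⊤ : Submodule A K)) ≃ₗ[A]
      (K ⧸ (maximalIdeal A) • (⊤ : Submodule A K)) :=
    Submodule.quotEquivOfEq _ _ (by rw [pow_one])
  have e7 : (A ⧸ maximalIdeal A ^ 1) ≃ₗ[A] (A ⧸ maximalIdeal A) :=
    Submodule.quotEquivOfEq _ _ (by rw [pow_one])
  have e8 := Groth.Agent.Lib.H26ExtLocIso.extCongr (R := A)
    (X := ModuleCat.of A (A ⧸ maximalIdeal A ^ 1)) (X' := ModuleCat.of A (ResidueField A))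
    e7.toModuleIso (Iso.refl (ModuleCat.of A A)) n
  rw [← e8.length_eq, e1.length_eq, e2.length_eq, ← e3.length_eq, h5, e6.length_eq]

end Local

section NuLocal

variable {R : Type u} [CommRing R] (p : Ideal R) [p.IsMaximal]
  (C : Type u) [AddCommGroup C] [Module R C] [Module.Finite R C]

/-- The minimal number of generators of `C` at the maximal ideal `p`, computed after
localization. -/
theorem length_quot_eq_finrank :
    Module.length (Localization.AtPrime p)
      (LocalizedModule p.primeCompl C ⧸ (maximalIdeal (Localization.AtPrime p)) •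
        (⊤ : Submodule (Localization.AtPrime p) (LocalizedModule p.primeCompl C))) =
      (Module.finrank (R ⧸ p) ((R ⧸ p) ⊗[R] C) : ℕ∞) := by
  let A := Localization.AtPrime p
  let κ := p.ResidueField
  let K := LocalizedModule p.primeCompl C
  -- step 1
  have e1 : (κ ⊗[A] K) ≃ₗ[A] K ⧸ (maximalIdeal A) • (⊤ : Submodule A K) :=
    TensorProduct.quotTensorEquivQuotSMul K (maximalIdeal A)
  -- step 2
  have hb1 : IsBaseChange A (LocalizedModule.mkLinearMap p.primeCompl C) :=
    IsLocalizedModule.isBaseChange p.primeCompl A _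
  have e2 : (κ ⊗[A] K) ≃ₗ[A] κ ⊗[R] C := hb1.tensorEquiv κ
  -- step 3
  have h3 : Module.length A (κ ⊗[R] C) = Module.length κ (κ ⊗[R] C) :=
    Module.length_eq_of_surjective (S := A) (R := κ) (M := κ ⊗[R] C)
      IsLocalRing.residue_surjective
  have h4 : Module.length κ (κ ⊗[R] C) = (Module.finrank κ (κ ⊗[R] C) : ℕ∞) :=
    Module.length_eq_finrank κ _
  -- step 5
  have hfree : Module.Free (R ⧸ p) ((R ⧸ p) ⊗[R] C) := by
    letI : Field (R ⧸ p) := Ideal.Quotient.field p
    exact Module.Free.of_divisionRing _ _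
  have e5 : κ ⊗[R ⧸ p] ((R ⧸ p) ⊗[R] C) ≃ₗ[κ] κ ⊗[R] C :=
    TensorProduct.AlgebraTensorModule.cancelBaseChange R (R ⧸ p) κ κ C
  have h6 : Module.finrank κ (κ ⊗[R ⧸ p] ((R ⧸ p) ⊗[R] C)) =
      Module.finrank (R ⧸ p) ((R ⧸ p) ⊗[R] C) := Module.finrank_baseChange
  rw [← e1.length_eq, e2.length_eq, h3, h4, ← e5.finrank_eq, h6]

end NuLocal


section Graded

variable {R : Type u} [CommRing R] [LocCoh.IsCohenMacaulayRing R]
  (𝒜 : ℤ → AddSubgroup R) [GradedRing 𝒜]
  (hpos : ∀ n : ℤ, n < 0 → 𝒜 n = ⊥) (h0 : IsField (deg0 𝒜))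
  (m : HomogeneousIdeal 𝒜) (hm : GrLC.IsStarLocal 𝒜 m)
  (hmsp : m.toIdeal = Ideal.span (⋃ n ∈ Set.Ioi (0 : ℤ), (𝒜 n : Set R)))
  (n : ℕ) (hn : ringKrullDim R = n) (I : GrLC.StarInjRes 𝒜 𝒜)
variable {E' : Type u} [AddCommGroup E'] [Module R E'] (𝓔 : ℤ → AddSubgroup E')
  [Decomposition 𝓔] [SetLike.GradedSMul 𝒜 𝓔]
  (e : (R ⧸ m.toIdeal) →ₗ[R] E') (he : IsStarInjHull 𝒜 (quotGr 𝒜 m) 𝓔 e)
variable {C : Type u} [AddCommGroup C] [Module R C] (𝒞 : ℤ → AddSubgroup C)
  [Decomposition 𝒞] [SetLike.GradedSMul 𝒜 𝒞] (hC : IsStarCanonical 𝒜 𝒞 𝓔 m n I)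

include hpos h0 hm hmsp hn he hC in
/-- the `*`canonical module has type one. -/
theorem bassNum_canon [m.toIdeal.IsMaximal] : GrLC.bassNum m.toIdeal C n = 1 := by
  haveI := LocCoh.IsCohenMacaulayRing.isCohenMacaulayLocalRing_localization m.toIdeal
  haveI : Module.Finite R C := hC.1
  obtain ⟨f, hf, ⟨eK⟩⟩ :=
    Groth.Agent.Lib.GrCanonBridge.exists_local 𝒜 hpos h0 m hmsp n I 𝓔 e he 𝒞 hC
  have hnA := Groth.Agent.Lib.GrCanonBridge.dim_loc 𝒜 hpos m hm n hn
  exact length_ext_residue_canon n hnA f hf eK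

include hpos h0 hm hmsp hn he hC in
/-- the type of `R` is the minimal number of generators of the `*`canonical module. -/
theorem bassNum_self [m.toIdeal.IsMaximal] :
    GrLC.bassNum m.toIdeal R n =
      (Module.finrank (R ⧸ m.toIdeal) ((R ⧸ m.toIdeal) ⊗[R] C) : ℕ∞) := by
  haveI := LocCoh.IsCohenMacaulayRing.isCohenMacaulayLocalRing_localization m.toIdeal
  haveI : Module.Finite R C := hC.1
  obtain ⟨f, hf, ⟨eK⟩⟩ :=
    Groth.Agent.Lib.GrCanonBridge.exists_local 𝒜 hpos h0 m hmsp n I 𝓔 e he 𝒞 hC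
  have hnA := Groth.Agent.Lib.GrCanonBridge.dim_loc 𝒜 hpos m hm n hn
  have h1 := length_ext_residue_self n hnA f hf eK
  have h2 := length_quot_eq_finrank m.toIdeal C
  let e4 : LocalizedModule m.toIdeal.primeCompl R ≃ₗ[Localization m.toIdeal.primeCompl]
      Localization m.toIdeal.primeCompl :=
    LinearEquiv.extendScalarsOfIsLocalization m.toIdeal.primeCompl
      (Localization m.toIdeal.primeCompl)
      (IsLocalizedModule.iso m.toIdeal.primeCompl
        (Algebra.linearMap R (Localization m.toIdeal.primeCompl)))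
  have e5 := Groth.Agent.Lib.H26ExtLocIso.extCongr (R := Localization.AtPrime m.toIdeal)
    (Iso.refl (ModuleCat.of (Localization.AtPrime m.toIdeal)
      (ResidueField (Localization.AtPrime m.toIdeal))))
    (Y := ModuleCat.of (Localization.AtPrime m.toIdeal) (LocalizedModule m.toIdeal.primeCompl R))
    (Y' := ModuleCat.of (Localization.AtPrime m.toIdeal) (Localization.AtPrime m.toIdeal))
    e4.toModuleIso n
  unfold GrLC.bassNum GrLC.bassNumLocal
  rw [e5.length_eq, h1, h2]

end Graded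

end Groth.Agent.Lib.GrCanonType
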