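import Mathlib
import Groth.Prelude.Def_GrSyz
import Groth.Prelude.Def_GrLC

/-!
# Mapping cone of a degree-one element on a graded free resolution (helper12)

`QRes 𝒜 ℳ P` is the data of a graded free resolution (as in `GrSyz.FreeRes`) of the quotient `M ⧸ P` of the graded
module `M`, expressed without forming the quotient: the augmentation maps to `M` and the image of `d 0` is the
preimage of `P`.

* `QRes.ofFreeRes`, `QRes.toFreeRes` (along a surjective graded map `π : M → N` with kernel `P`).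
* `QRes.cone Q y`: for `y ∈ 𝒜 1` regular modulo `P`, the mapping cone of `y` on `Q`: a `QRes` for `P ⊔ (y) • ⊤`, with
  terms `C_0 = Q_0`, `C_{i+1} = Q_{i+1} ⊕ Q_i(-1)`.
* `exists_freeRes_of_isWeaklyRegular`: for a weakly regular sequence `ys` of degree-one elements on `M` and
  `π : M → N` surjective graded with kernel `(ys) M`: a resolution `F` of `M`, minimal for `I ∋ ys`, gives a resolution `G`
  of `N`, minimal for `I`, with `G.IsGenLE r ↔ F.IsGenLE r` for all `r`.
-/

set_option autoImplicit false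
set_option linter.unusedSectionVars false

open DirectSum

namespace Groth.Agent.Lib.GrCone

universe u

section Blocks

variable {R : Type u} [CommRing R]

/-- the first block of a vector -/
def vl {c d : ℕ} (v : Fin (c + d) → R) : Fin c → R := fun j => v (Fin.castAdd d j)

/-- the second block of a vector -/
def vr {c d : ℕ} (v : Fin (c + d) → R) : Fin d → R := fun j => v (Fin.natAdd c j)

@[simp] lemma vl_append {c d : ℕ} (u : Fin c → R) (w : Fin d → R) : vl (Fin.append u w) = u := by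
  funext j; simp [vl]

@[simp] lemma vr_append {c d : ℕ} (u : Fin c → R) (w : Fin d → R) : vr (Fin.append u w) = w := by
  funext j; simp [vr]

lemma append_vl_vr {c d : ℕ} (v : Fin (c + d) → R) : Fin.append (vl v) (vr v) = v :=
  Fin.append_castAdd_natAdd

lemma vec_ext {c d : ℕ} {v v' : Fin (c + d) → R} (h1 : vl v = vl v') (h2 : vr v = vr v') : v = v' := by
  rw [← append_vl_vr v, ← append_vl_vr v', h1, h2]

/-- `[A | B]` -/
def hblk {a c d : ℕ} (A : Matrix (Fin a) (Fin c) R) (B : Matrix (Fin a) (Fin d) R) :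
    Matrix (Fin a) (Fin (c + d)) R :=
  Matrix.of fun i j => Fin.addCases (fun j1 => A i j1) (fun j2 => B i j2) j

/-- `[[A, B], [0, D]]` -/
def blk {a b c d : ℕ} (A : Matrix (Fin a) (Fin c) R) (B : Matrix (Fin a) (Fin d) R)
    (D : Matrix (Fin b) (Fin d) R) : Matrix (Fin (a + b)) (Fin (c + d)) R :=
  Matrix.of fun i j => Fin.addCases
    (fun i1 => Fin.addCases (fun j1 => A i1 j1) (fun j2 => B i1 j2) j)
    (fun i2 => Fin.addCases (fun _ => 0) (fun j2 => D i2 j2) j) i

lemma hblk_mulVec {a c d : ℕ} (A : Matrix (Fin a) (Fin c) R) (B : Matrix (Fin a) (Fin d) R)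
    (v : Fin (c + d) → R) : (hblk A B).mulVec v = A.mulVec (vl v) + B.mulVec (vr v) := by
  funext i
  simp only [Matrix.mulVec, dotProduct, Pi.add_apply]
  rw [Fin.sum_univ_add]
  simp [hblk, vl, vr]

lemma vl_blk_mulVec {a b c d : ℕ} (A : Matrix (Fin a) (Fin c) R) (B : Matrix (Fin a) (Fin d) R)
    (D : Matrix (Fin b) (Fin d) R) (v : Fin (c + d) → R) :
    vl ((blk A B D).mulVec v) = A.mulVec (vl v) + B.mulVec (vr v) := by
  funext i
  simp only [vl, Matrix.mulVec, dotProduct, Pi.add_apply]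
  rw [Fin.sum_univ_add]
  simp [blk, vr]

lemma vr_blk_mulVec {a b c d : ℕ} (A : Matrix (Fin a) (Fin c) R) (B : Matrix (Fin a) (Fin d) R)
    (D : Matrix (Fin b) (Fin d) R) (v : Fin (c + d) → R) :
    vr ((blk A B D).mulVec v) = D.mulVec (vr v) := by
  funext i
  simp only [vr, Matrix.mulVec, dotProduct]
  rw [Fin.sum_univ_add]
  simp [blk]

lemma smul_one_mulVec {a : ℕ} (y : R) (w : Fin a → R) :
    (y • (1 : Matrix (Fin a) (Fin a) R)).mulVec w = y • w := by
  rw [Matrix.smul_mulVec, Matrix.one_mulVec]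

end Blocks

section QRes

variable {R : Type u} [CommRing R] {σ' : Type u} [SetLike σ' R] [AddSubgroupClass σ' R]
  {M : Type u} [AddCommGroup M] [Module R M] {τ : Type u} [SetLike τ M] [AddSubgroupClass τ M]

/-- graded free resolution of `M ⧸ P`, without forming the quotient -/
structure QRes (𝒜 : ℤ → σ') (ℳ : ℤ → τ) (P : Submodule R M) : Type u where
  rk : ℕ → ℕ
  deg : (i : ℕ) → Fin (rk i) → ℤ
  d : (i : ℕ) → Matrix (Fin (rk i)) (Fin (rk (i + 1))) R
  aug : Fin (rk 0) → M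
  d_mem : ∀ (i : ℕ) (a : Fin (rk i)) (b : Fin (rk (i + 1))), d i a b ∈ 𝒜 (deg (i + 1) b - deg i a)
  aug_mem : ∀ b : Fin (rk 0), aug b ∈ ℳ (deg 0 b)
  aug_surjective : Function.Surjective (Fintype.linearCombination R aug)
  exact_zero : P.comap (Fintype.linearCombination R aug) = LinearMap.range (Matrix.mulVecLin (d 0))
  exact_succ : ∀ i : ℕ,
    LinearMap.ker (Matrix.mulVecLin (d i)) = LinearMap.range (Matrix.mulVecLin (d (i + 1)))

namespace QRes

variable {𝒜 : ℤ → σ'} {ℳ : ℤ → τ} {P : Submodule R M}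

def IsGenLE (Q : QRes 𝒜 ℳ P) (r : ℤ) : Prop := ∀ (i : ℕ) (b : Fin (Q.rk i)), Q.deg i b ≤ r + i

def IsMinimal (Q : QRes 𝒜 ℳ P) (I : Ideal R) : Prop :=
  ∀ (i : ℕ) (a : Fin (Q.rk i)) (b : Fin (Q.rk (i + 1))), Q.d i a b ∈ I

lemma d_d (Q : QRes 𝒜 ℳ P) (i : ℕ) (v : Fin (Q.rk (i + 1 + 1)) → R) :
    (Q.d i).mulVec ((Q.d (i + 1)).mulVec v) = 0 := by
  have : (Q.d (i + 1)).mulVec v ∈ LinearMap.ker (Matrix.mulVecLin (Q.d i)) := by
    rw [Q.exact_succ i]; exact ⟨v, rfl⟩
  exact this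

lemma aug_d (Q : QRes 𝒜 ℳ P) (v : Fin (Q.rk 1) → R) :
    Fintype.linearCombination R Q.aug ((Q.d 0).mulVec v) ∈ P := by
  have : (Q.d 0).mulVec v ∈ P.comap (Fintype.linearCombination R Q.aug) := by
    rw [Q.exact_zero]; exact ⟨v, rfl⟩
  exact this

/-- a resolution of `M` is a `QRes` for `⊥` -/
def ofFreeRes [GradedRing 𝒜] [Decomposition ℳ] [SetLike.GradedSMul 𝒜 ℳ] (F : GrSyz.FreeRes 𝒜 ℳ) :
    QRes 𝒜 ℳ (⊥ : Submodule R M) where
  rk := F.rk
  deg := F.deg
  d := F.d
  aug := F.aug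
  d_mem := F.d_mem
  aug_mem := F.aug_mem
  aug_surjective := F.aug_surjective
  exact_zero := by
    rw [Submodule.comap_bot]
    exact F.exact_zero
  exact_succ := F.exact_succ

variable {N : Type u} [AddCommGroup N] [Module R N] {τ' : Type u} [SetLike τ' N] [AddSubgroupClass τ' N]
  {𝒩 : ℤ → τ'}

lemma linearCombination_comp {n : ℕ} (π : M →ₗ[R] N) (aug : Fin n → M) (v : Fin n → R) :
    Fintype.linearCombination R (fun b => π (aug b)) v = π (Fintype.linearCombination R aug v) := by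
  rw [Fintype.linearCombination_apply, Fintype.linearCombination_apply, map_sum]
  simp

/-- push a `QRes` for `P` along a surjective graded map with kernel `P` -/
def toFreeRes [Decomposition 𝒩] [SetLike.GradedSMul 𝒜 𝒩] (Q : QRes 𝒜 ℳ P) (π : M →ₗ[R] N)
    (hπ : Function.Surjective π) (hπg : ∀ (g : ℤ) (m : M), m ∈ ℳ g → π m ∈ 𝒩 g)
    (hker : LinearMap.ker π = P) : GrSyz.FreeRes 𝒜 𝒩 where
  rk := Q.rk
  deg := Q.deg
  d := Q.d
  aug := fun b => π (Q.aug b)
  d_mem := Q.d_mem
  aug_mem := fun b => hπg _ _ (Q.aug_mem b)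
  aug_surjective := by
    intro x
    obtain ⟨m, rfl⟩ := hπ x
    obtain ⟨v, rfl⟩ := Q.aug_surjective m
    exact ⟨v, linearCombination_comp π Q.aug v⟩
  exact_zero := by
    subst hker
    rw [← Q.exact_zero]
    ext v
    rw [LinearMap.mem_ker, Submodule.mem_comap, LinearMap.mem_ker, linearCombination_comp]
  exact_succ := Q.exact_succ

section Cone

variable [GradedRing 𝒜] (Q : QRes 𝒜 ℳ P) (y : R)

/-- generator degrees of the cone in positive homological degree -/
def cdegS (i : ℕ) : Fin (Q.rk (i + 1) + Q.rk i) → ℤ :=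
  Fin.append (Q.deg (i + 1)) (fun a => Q.deg i a + 1)

/-- first differential of the cone -/
def cd0 : Matrix (Fin (Q.rk 0)) (Fin (Q.rk 1 + Q.rk 0)) R :=
  hblk (Q.d 0) (y • (1 : Matrix (Fin (Q.rk 0)) (Fin (Q.rk 0)) R))

/-- higher differentials of the cone -/
def cdS (i : ℕ) : Matrix (Fin (Q.rk (i + 1) + Q.rk i)) (Fin (Q.rk (i + 1 + 1) + Q.rk (i + 1))) R :=
  blk (Q.d (i + 1)) (y • (1 : Matrix (Fin (Q.rk (i + 1))) (Fin (Q.rk (i + 1))) R)) (-(Q.d i))

lemma cd0_mulVec (v : Fin (Q.rk 1 + Q.rk 0) → R) :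
    (cd0 Q y).mulVec v = (Q.d 0).mulVec (vl v) + y • vr v := by
  unfold cd0
  rw [hblk_mulVec, smul_one_mulVec]

lemma vl_cdS_mulVec (i : ℕ) (v : Fin (Q.rk (i + 1 + 1) + Q.rk (i + 1)) → R) :
    vl ((cdS Q y i).mulVec v) = (Q.d (i + 1)).mulVec (vl v) + y • vr v := by
  unfold cdS
  rw [vl_blk_mulVec, smul_one_mulVec]

lemma vr_cdS_mulVec (i : ℕ) (v : Fin (Q.rk (i + 1 + 1) + Q.rk (i + 1)) → R) :
    vr ((cdS Q y i).mulVec v) = -((Q.d i).mulVec (vr v)) := by
  unfold cdS
  rw [vr_blk_mulVec, Matrix.neg_mulVec]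

lemma cd0_mem (hy : y ∈ 𝒜 1) (a : Fin (Q.rk 0)) (b : Fin (Q.rk 1 + Q.rk 0)) :
    cd0 Q y a b ∈ 𝒜 (cdegS Q 0 b - Q.deg 0 a) := by
  classical
  revert b
  refine Fin.addCases (fun b1 => ?_) (fun b2 => ?_)
  · simp only [cd0, cdegS, hblk, Matrix.of_apply, Fin.addCases_left, Fin.append_left]
    exact Q.d_mem 0 a b1
  · simp only [cd0, cdegS, hblk, Matrix.of_apply, Fin.addCases_right, Fin.append_right,
      Matrix.smul_apply, Matrix.one_apply, smul_eq_mul]
    split_ifs with h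
    · subst h
      have : Q.deg 0 a + 1 - Q.deg 0 a = 1 := by ring
      rw [this, mul_one]
      exact hy
    · rw [mul_zero]
      exact zero_mem _

lemma cdS_mem (hy : y ∈ 𝒜 1) (i : ℕ) (a : Fin (Q.rk (i + 1) + Q.rk i))
    (b : Fin (Q.rk (i + 1 + 1) + Q.rk (i + 1))) :
    cdS Q y i a b ∈ 𝒜 (cdegS Q (i + 1) b - cdegS Q i a) := by
  classical
  revert a b
  refine Fin.addCases (fun a1 => ?_) (fun a2 => ?_)
  · refine Fin.addCases (fun b1 => ?_) (fun b2 => ?_)
    · simp only [cdS, cdegS, blk, Matrix.of_apply, Fin.addCases_left, Fin.append_left]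
      exact Q.d_mem (i + 1) a1 b1
    · simp only [cdS, cdegS, blk, Matrix.of_apply, Fin.addCases_left, Fin.addCases_right,
        Fin.append_left, Fin.append_right, Matrix.smul_apply, Matrix.one_apply, smul_eq_mul]
      split_ifs with h
      · subst h
        have : Q.deg (i + 1) a1 + 1 - Q.deg (i + 1) a1 = 1 := by ring
        rw [this, mul_one]
        exact hy
      · rw [mul_zero]
        exact zero_mem _
  · refine Fin.addCases (fun b1 => ?_) (fun b2 => ?_)
    · simp only [cdS, blk, Matrix.of_apply, Fin.addCases_left, Fin.addCases_right]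
      exact zero_mem _
    · simp only [cdS, cdegS, blk, Matrix.of_apply, Fin.addCases_right, Fin.append_right,
        Matrix.neg_apply]
      have : Q.deg (i + 1) b2 + 1 - (Q.deg i a2 + 1) = Q.deg (i + 1) b2 - Q.deg i a2 := by ring
      rw [this]
      exact neg_mem (Q.d_mem i a2 b2)

lemma cone_exact_zero :
    (P ⊔ Ideal.span {y} • (⊤ : Submodule R M)).comap (Fintype.linearCombination R Q.aug) =
      LinearMap.range (Matrix.mulVecLin (cd0 Q y)) := by
  rw [Submodule.ideal_span_singleton_smul]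
  ext v
  rw [Submodule.mem_comap, LinearMap.mem_range]
  constructor
  · intro hv
    obtain ⟨p, hp, z, hz, hsum⟩ := Submodule.mem_sup.1 hv
    obtain ⟨m, _, rfl⟩ := (Submodule.mem_smul_pointwise_iff_exists _ _ _).1 hz
    obtain ⟨w, rfl⟩ := Q.aug_surjective m
    have h1 : v - y • w ∈ P.comap (Fintype.linearCombination R Q.aug) := by
      rw [Submodule.mem_comap, map_sub, map_smul, ← hsum]
      simpa using hp
    rw [Q.exact_zero] at h1
    obtain ⟨u, hu⟩ := h1
    refine ⟨Fin.append u w, ?_⟩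
    rw [Matrix.mulVecLin_apply] at hu ⊢
    rw [cd0_mulVec, vl_append, vr_append, hu]
    abel
  · rintro ⟨x, rfl⟩
    rw [Matrix.mulVecLin_apply, cd0_mulVec, map_add, map_smul]
    exact Submodule.add_mem_sup (Q.aug_d _)
      ((Submodule.mem_smul_pointwise_iff_exists _ _ _).2 ⟨_, Submodule.mem_top, rfl⟩)

lemma cone_exact_one (hreg : ∀ m : M, y • m ∈ P → m ∈ P) :
    LinearMap.ker (Matrix.mulVecLin (cd0 Q y)) = LinearMap.range (Matrix.mulVecLin (cdS Q y 0)) := by
  ext v
  rw [LinearMap.mem_ker, LinearMap.mem_range, Matrix.mulVecLin_apply, cd0_mulVec]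
  constructor
  · intro hv
    -- `vr v` lies in the image of `d 0`
    have h1 : y • Fintype.linearCombination R Q.aug (vr v) ∈ P := by
      have h2 : y • Fintype.linearCombination R Q.aug (vr v) =
          -Fintype.linearCombination R Q.aug ((Q.d 0).mulVec (vl v)) := by
        have := congrArg (Fintype.linearCombination R Q.aug) hv
        rw [map_add, map_smul, map_zero] at this
        exact eq_neg_of_add_eq_zero_right this
      rw [h2]
      exact P.neg_mem (Q.aug_d _)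
    have h3 : vr v ∈ P.comap (Fintype.linearCombination R Q.aug) := hreg _ h1
    rw [Q.exact_zero] at h3
    obtain ⟨w', hw'⟩ := h3
    rw [Matrix.mulVecLin_apply] at hw'
    have h4 : vl v + y • w' ∈ LinearMap.ker (Matrix.mulVecLin (Q.d 0)) := by
      rw [LinearMap.mem_ker, Matrix.mulVecLin_apply, Matrix.mulVec_add, Matrix.mulVec_smul, hw']
      exact hv
    rw [Q.exact_succ 0] at h4
    obtain ⟨u', hu'⟩ := h4
    rw [Matrix.mulVecLin_apply] at hu'
    refine ⟨Fin.append u' (-w'), ?_⟩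
    rw [Matrix.mulVecLin_apply]
    apply vec_ext
    · rw [vl_cdS_mulVec, vl_append, vr_append, hu']
      simp
    · rw [vr_cdS_mulVec, vr_append, Matrix.mulVec_neg, neg_neg, hw']
  · rintro ⟨x, rfl⟩
    rw [Matrix.mulVecLin_apply, vl_cdS_mulVec, vr_cdS_mulVec, Matrix.mulVec_add,
      Matrix.mulVec_smul, Q.d_d 0, smul_neg]
    abel

lemma cone_exact_succ (i : ℕ) :
    LinearMap.ker (Matrix.mulVecLin (cdS Q y i)) =
      LinearMap.range (Matrix.mulVecLin (cdS Q y (i + 1))) := by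
  ext v
  rw [LinearMap.mem_ker, LinearMap.mem_range, Matrix.mulVecLin_apply]
  constructor
  · intro hv
    have hl : (Q.d (i + 1)).mulVec (vl v) + y • vr v = 0 := by
      rw [← vl_cdS_mulVec, hv]; rfl
    have hr : (Q.d i).mulVec (vr v) = 0 := by
      have : -((Q.d i).mulVec (vr v)) = 0 := by
        rw [← vr_cdS_mulVec Q y, hv]; rfl
      exact neg_eq_zero.1 this
    have h3 : vr v ∈ LinearMap.ker (Matrix.mulVecLin (Q.d i)) := hr
    rw [Q.exact_succ i] at h3
    obtain ⟨w', hw'⟩ := h3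
    rw [Matrix.mulVecLin_apply] at hw'
    have h4 : vl v + y • w' ∈ LinearMap.ker (Matrix.mulVecLin (Q.d (i + 1))) := by
      rw [LinearMap.mem_ker, Matrix.mulVecLin_apply, Matrix.mulVec_add, Matrix.mulVec_smul, hw']
      exact hl
    rw [Q.exact_succ (i + 1)] at h4
    obtain ⟨u', hu'⟩ := h4
    rw [Matrix.mulVecLin_apply] at hu'
    refine ⟨Fin.append u' (-w'), ?_⟩
    rw [Matrix.mulVecLin_apply]
    apply vec_ext
    · rw [vl_cdS_mulVec, vl_append, vr_append, hu']
      simp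
    · rw [vr_cdS_mulVec, vr_append, Matrix.mulVec_neg, neg_neg, hw']
  · rintro ⟨x, rfl⟩
    rw [Matrix.mulVecLin_apply]
    apply vec_ext
    · rw [vl_cdS_mulVec, vl_cdS_mulVec, vr_cdS_mulVec, Matrix.mulVec_add,
        Matrix.mulVec_smul, Q.d_d (i + 1), smul_neg]
      show _ = (0 : Fin _ → R)
      abel
    · rw [vr_cdS_mulVec, vr_cdS_mulVec, Matrix.mulVec_neg, Q.d_d i]
      show _ = (0 : Fin _ → R)
      simp

/-- ranks of the cone -/
def crk : ℕ → ℕ
  | 0 => Q.rk 0
  | (i + 1) => Q.rk (i + 1) + Q.rk i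

/-- generator degrees of the cone -/
def cdeg : (i : ℕ) → Fin (crk Q i) → ℤ
  | 0 => Q.deg 0
  | (i + 1) => cdegS Q i

/-- differentials of the cone -/
def cd : (i : ℕ) → Matrix (Fin (crk Q i)) (Fin (crk Q (i + 1))) R
  | 0 => cd0 Q y
  | (i + 1) => cdS Q y i

/-- the mapping cone of `y` -/
def cone (hy : y ∈ 𝒜 1) (hreg : ∀ m : M, y • m ∈ P → m ∈ P) :
    QRes 𝒜 ℳ (P ⊔ Ideal.span {y} • (⊤ : Submodule R M)) where
  rk := crk Q
  deg := cdeg Q
  d := cd Q y
  aug := Q.aug
  d_mem := fun i => by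
    cases i with
    | zero => exact cd0_mem Q y hy
    | succ i => exact cdS_mem Q y hy i
  aug_mem := Q.aug_mem
  aug_surjective := Q.aug_surjective
  exact_zero := cone_exact_zero Q y
  exact_succ := fun i => by
    cases i with
    | zero => exact cone_exact_one Q y hreg
    | succ i => exact cone_exact_succ Q y i

lemma cone_isGenLE_iff (hy : y ∈ 𝒜 1) (hreg : ∀ m : M, y • m ∈ P → m ∈ P) (r : ℤ) :
    (cone Q y hy hreg).IsGenLE r ↔ Q.IsGenLE r := by
  constructor
  · intro h i b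
    cases i with
    | zero => exact h 0 b
    | succ i =>
      have h2 : cdegS Q i (Fin.castAdd _ b) ≤ r + ((i + 1 : ℕ) : ℤ) := h (i + 1) (Fin.castAdd _ b)
      unfold cdegS at h2
      rw [Fin.append_left] at h2
      exact h2
  · intro h i
    cases i with
    | zero => exact fun b => h 0 b
    | succ i =>
      show ∀ b : Fin (Q.rk (i + 1) + Q.rk i), cdegS Q i b ≤ r + ((i + 1 : ℕ) : ℤ)
      refine Fin.addCases (fun b1 => ?_) (fun b2 => ?_)
      · unfold cdegS
        rw [Fin.append_left]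
        exact h (i + 1) b1
      · unfold cdegS
        rw [Fin.append_right]
        have := h i b2
        push_cast
        omega

lemma cd0_mem_ideal (I : Ideal R) (hQ : Q.IsMinimal I) (hyI : y ∈ I) (a : Fin (Q.rk 0))
    (b : Fin (Q.rk 1 + Q.rk 0)) : cd0 Q y a b ∈ I := by
  classical
  revert b
  refine Fin.addCases (fun b1 => ?_) (fun b2 => ?_)
  · simp only [cd0, hblk, Matrix.of_apply, Fin.addCases_left]
    exact hQ 0 a b1
  · simp only [cd0, hblk, Matrix.of_apply, Fin.addCases_right, Matrix.smul_apply, smul_eq_mul]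
    exact I.mul_mem_right _ hyI

lemma cdS_mem_ideal (I : Ideal R) (hQ : Q.IsMinimal I) (hyI : y ∈ I) (i : ℕ)
    (a : Fin (Q.rk (i + 1) + Q.rk i)) (b : Fin (Q.rk (i + 1 + 1) + Q.rk (i + 1))) :
    cdS Q y i a b ∈ I := by
  classical
  revert a b
  refine Fin.addCases (fun a1 => ?_) (fun a2 => ?_)
  · refine Fin.addCases (fun b1 => ?_) (fun b2 => ?_)
    · simp only [cdS, blk, Matrix.of_apply, Fin.addCases_left]
      exact hQ (i + 1) a1 b1
    · simp only [cdS, blk, Matrix.of_apply, Fin.addCases_left, Fin.addCases_right, Matrix.smul_apply,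
        smul_eq_mul]
      exact I.mul_mem_right _ hyI
  · refine Fin.addCases (fun b1 => ?_) (fun b2 => ?_)
    · simp only [cdS, blk, Matrix.of_apply, Fin.addCases_left, Fin.addCases_right]
      exact I.zero_mem
    · simp only [cdS, blk, Matrix.of_apply, Fin.addCases_right, Matrix.neg_apply]
      exact I.neg_mem (hQ i a2 b2)

lemma cone_isMinimal (hy : y ∈ 𝒜 1) (hreg : ∀ m : M, y • m ∈ P → m ∈ P) (I : Ideal R)
    (hQ : Q.IsMinimal I) (hyI : y ∈ I) : (cone Q y hy hreg).IsMinimal I := by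
  intro i
  cases i with
  | zero => exact cd0_mem_ideal Q y I hQ hyI
  | succ i => exact cdS_mem_ideal Q y I hQ hyI i

end Cone

end QRes

section Main

variable {𝒜 : ℤ → σ'} [GradedRing 𝒜] {ℳ : ℤ → τ} [Decomposition ℳ] [SetLike.GradedSMul 𝒜 ℳ]

theorem exists_qres_take (F : GrSyz.FreeRes 𝒜 ℳ) (I : Ideal R) (hF : F.IsMinimal I) (ys : List R)
    (h1 : ∀ y ∈ ys, y ∈ 𝒜 1) (hI : ∀ y ∈ ys, y ∈ I)
    (hreg : RingTheory.Sequence.IsWeaklyRegular M ys) :
    ∀ s, s ≤ ys.length → ∃ Q : QRes 𝒜 ℳ (Ideal.ofList (ys.take s) • (⊤ : Submodule R M)),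
      Q.IsMinimal I ∧ ∀ r, Q.IsGenLE r ↔ F.IsGenLE r := by
  intro s
  induction s with
  | zero =>
    intro _
    have h : Ideal.ofList (ys.take 0) • (⊤ : Submodule R M) = ⊥ := by
      rw [List.take_zero, Ideal.ofList_nil, Submodule.bot_smul]
    rw [h]
    exact ⟨QRes.ofFreeRes F, hF, fun r => Iff.rfl⟩
  | succ s ih =>
    intro hs
    have hs' : s < ys.length := by omega
    obtain ⟨Q, hQ, hQr⟩ := ih (by omega)
    have hy1 : ys[s] ∈ 𝒜 1 := h1 _ (List.getElem_mem hs')
    have hyI : ys[s] ∈ I := hI _ (List.getElem_mem hs')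
    have hr : ∀ m : M, ys[s] • m ∈ Ideal.ofList (ys.take s) • (⊤ : Submodule R M) →
        m ∈ Ideal.ofList (ys.take s) • (⊤ : Submodule R M) :=
      (isSMulRegular_quotient_iff_mem_of_smul_mem _ _).1 (hreg.regular_mod_prev s hs')
    have h : Ideal.ofList (ys.take (s + 1)) • (⊤ : Submodule R M) =
        Ideal.ofList (ys.take s) • (⊤ : Submodule R M) ⊔ Ideal.span {ys[s]} • (⊤ : Submodule R M) := by
      rw [List.take_succ_eq_append_getElem hs', Ideal.ofList_append, Ideal.ofList_singleton,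
        Submodule.sup_smul]
    rw [h]
    exact ⟨Q.cone ys[s] hy1 hr, Q.cone_isMinimal _ hy1 hr I hQ hyI,
      fun r => (Q.cone_isGenLE_iff _ hy1 hr r).trans (hQr r)⟩

variable {N : Type u} [AddCommGroup N] [Module R N] {τ' : Type u} [SetLike τ' N] [AddSubgroupClass τ' N]
  {𝒩 : ℤ → τ'} [Decomposition 𝒩] [SetLike.GradedSMul 𝒜 𝒩]

/-- a resolution of `M`, minimal for `I`, and a weakly regular sequence of degree-one elements of `I` give a
resolution of `N = M/(ys)M` with the same regularity, minimal for `I` -/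
theorem exists_freeRes_of_isWeaklyRegular (F : GrSyz.FreeRes 𝒜 ℳ) (I : Ideal R) (hF : F.IsMinimal I)
    (ys : List R) (h1 : ∀ y ∈ ys, y ∈ 𝒜 1) (hI : ∀ y ∈ ys, y ∈ I)
    (hreg : RingTheory.Sequence.IsWeaklyRegular M ys)
    (π : M →ₗ[R] N) (hπ : Function.Surjective π) (hπg : GrLC.IsGrHom ℳ 𝒩 π)
    (hker : LinearMap.ker π = Ideal.ofList ys • (⊤ : Submodule R M)) :
    ∃ G : GrSyz.FreeRes 𝒜 𝒩, G.IsMinimal I ∧ ∀ r, G.IsGenLE r ↔ F.IsGenLE r := by
  have h := exists_qres_take F I hF ys h1 hI hreg ys.length le_rfl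
  rw [List.take_length] at h
  obtain ⟨Q, hQ, hQr⟩ := h
  exact ⟨Q.toFreeRes π hπ hπg hker, hQ, hQr⟩

end Main

end QRes

end Groth.Agent.Lib.GrCone
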