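import Mathlib

/-!
# ℤ-graded rings with a homogeneous unit `t` of positive degree `N` (helper12)

Part a: inverse of a homogeneous unit is homogeneous, powers, no units in degrees not divisible
by `N` (when `N` is minimal), reduction of an arbitrary element modulo `(t - 1)` and the pieces of
degree not divisible by `N` to a degree-zero element; `t - 1` is not a unit.
-/

set_option autoImplicit false
set_option linter.unusedSectionVars false
set_option linter.style.haveILetI false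
universe u

namespace Groth.Agent.Lib.GrCyc12

open DirectSum

variable {R : Type u} [CommRing R] (𝒜 : ℤ → AddSubgroup R) [GradedRing 𝒜]

theorem coe_decompose_one_zero : ((decompose 𝒜 (1 : R) 0 : 𝒜 0) : R) = 1 :=
  decompose_of_mem_same 𝒜 SetLike.GradedOne.one_mem

/-- The inverse of a homogeneous unit is homogeneous. -/
theorem inv_mem {i : ℤ} (u : Rˣ) (hu : (u : R) ∈ 𝒜 i) : ((u⁻¹ : Rˣ) : R) ∈ 𝒜 (-i) := by
  have h1 : (u : R) * ((u⁻¹ : Rˣ) : R) = 1 := by simp
  have h2 := coe_decompose_mul_add_of_left_mem 𝒜 (i := i) (j := -i) (b := ((u⁻¹ : Rˣ) : R)) hu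
  rw [h1] at h2
  have h3 : i + -i = 0 := by ring
  rw [h3, coe_decompose_one_zero] at h2
  have h4 : ((u⁻¹ : Rˣ) : R) = ((decompose 𝒜 ((u⁻¹ : Rˣ) : R) (-i) : 𝒜 (-i)) : R) := by
    have : ((u⁻¹ : Rˣ) : R) * 1 =
        ((u⁻¹ : Rˣ) : R) * ((u : R) * ((decompose 𝒜 ((u⁻¹ : Rˣ) : R) (-i) : 𝒜 (-i)) : R)) := by
      rw [← h2]
    rw [mul_one, ← mul_assoc] at this
    simpa using this
  rw [h4]
  exact SetLike.coe_mem _

/-- Integer powers of a homogeneous unit are homogeneous. -/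
theorem zpow_mem {i : ℤ} (u : Rˣ) (hu : (u : R) ∈ 𝒜 i) (j : ℤ) :
    ((u ^ j : Rˣ) : R) ∈ 𝒜 (j * i) := by
  obtain ⟨n, rfl | rfl⟩ := Int.eq_nat_or_neg j
  · rw [zpow_natCast, Units.val_pow_eq_pow_val]
    have := SetLike.pow_mem_graded n hu
    simpa using this
  · rw [zpow_neg, zpow_natCast, ← inv_pow, Units.val_pow_eq_pow_val]
    have := SetLike.pow_mem_graded n (inv_mem 𝒜 u hu)
    have h : n • (-i) = -(n : ℤ) * i := by simp
    rwa [h] at this

theorem zpow_sub_one_mem (u : Rˣ) (j : ℤ) :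
    ((u ^ j : Rˣ) : R) - 1 ∈ Ideal.span {(u : R) - 1} := by
  rw [← Ideal.Quotient.eq_zero_iff_mem, map_sub, map_one, sub_eq_zero]
  have h1 : Units.map (Ideal.Quotient.mk (Ideal.span {(u : R) - 1})).toMonoidHom u = 1 := by
    ext
    rw [Units.coe_map, Units.val_one]
    have : (u : R) - 1 ∈ Ideal.span {(u : R) - 1} := Ideal.subset_span rfl
    rw [← Ideal.Quotient.eq_zero_iff_mem, map_sub, map_one, sub_eq_zero] at this
    exact this
  have h2 : Units.map (Ideal.Quotient.mk (Ideal.span {(u : R) - 1})).toMonoidHom (u ^ j) = 1 := by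
    rw [map_zpow, h1, one_zpow]
  have h3 := congrArg Units.val h2
  rwa [Units.coe_map, Units.val_one] at h3

section Min

variable (N : ℕ) (hN : 0 < N) (u : Rˣ) (hu : (u : R) ∈ 𝒜 (N : ℤ))
  (hmin : ∀ n : ℤ, 0 < n → n < (N : ℤ) → ∀ s ∈ 𝒜 n, ¬ IsUnit s)

include hN hu hmin in
/-- When `N` is the least positive degree of a unit, there is no unit in degrees not divisible
by `N`. -/
theorem not_isUnit_of_not_dvd {i : ℤ} (hi : ¬ (N : ℤ) ∣ i) {a : R} (ha : a ∈ 𝒜 i) :
    ¬ IsUnit a := by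
  intro hau
  have hNpos : (0 : ℤ) < N := by exact_mod_cast hN
  have hr0 : 0 < i % (N : ℤ) := by
    rcases (Int.emod_nonneg i hNpos.ne').lt_or_eq with h | h
    · exact h
    · exact absurd (Int.dvd_of_emod_eq_zero h.symm) hi
  have hrN : i % (N : ℤ) < N := Int.emod_lt_of_pos i hNpos
  have hmem : a * ((u ^ (-(i / (N : ℤ))) : Rˣ) : R) ∈ 𝒜 (i % (N : ℤ)) := by
    have h1 := SetLike.mul_mem_graded ha (zpow_mem 𝒜 u hu (-(i / (N : ℤ))))
    have h2 : i + -(i / (N : ℤ)) * (N : ℤ) = i % (N : ℤ) := by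
      have := Int.emod_add_mul_ediv i (N : ℤ)
      linarith
    rwa [h2] at h1
  exact hmin _ hr0 hrN _ hmem (hau.mul (Units.isUnit _))

/-- The ideal generated by `t - 1` and the homogeneous elements of degree not divisible by `N`. -/
def K : Ideal R :=
  Ideal.span {(u : R) - 1} ⊔ Ideal.span {a | ∃ i : ℤ, ¬ (N : ℤ) ∣ i ∧ a ∈ 𝒜 i}

include hu in
/-- Every element is congruent modulo `K` to an element of degree zero. -/
theorem exists_sub_mem_K (r : R) : ∃ c ∈ 𝒜 0, r - c ∈ K 𝒜 N u := by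
  induction r using DirectSum.Decomposition.inductionOn 𝒜 with
  | zero => exact ⟨0, zero_mem _, by simp⟩
  | homogeneous a =>
    rename_i i
    by_cases hi : (N : ℤ) ∣ i
    · obtain ⟨j, rfl⟩ := hi
      refine ⟨(a : R) * ((u ^ (-j) : Rˣ) : R), ?_, ?_⟩
      · have h1 := SetLike.mul_mem_graded a.2 (zpow_mem 𝒜 u hu (-j))
        have h2 : (N : ℤ) * j + -j * (N : ℤ) = 0 := by ring
        rwa [h2] at h1
      · have h1 : (a : R) - (a : R) * ((u ^ (-j) : Rˣ) : R) =
            -(a : R) * (((u ^ (-j) : Rˣ) : R) - 1) := by ring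
        rw [h1]
        exact Ideal.mem_sup_left (Ideal.mul_mem_left _ _ (zpow_sub_one_mem u (-j)))
    · refine ⟨0, zero_mem _, ?_⟩
      rw [sub_zero]
      exact Ideal.mem_sup_right (Ideal.subset_span ⟨i, hi, a.2⟩)
  | add a b ha hb =>
    obtain ⟨c, hc, hc'⟩ := ha
    obtain ⟨d, hd, hd'⟩ := hb
    refine ⟨c + d, add_mem hc hd, ?_⟩
    have : a + b - (c + d) = (a - c) + (b - d) := by ring
    rw [this]
    exact add_mem hc' hd'

end Min

end Groth.Agent.Lib.GrCyc12
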