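import Groth.Agent.Lib.GrCyc12a

/-!
# ℤ-graded rings with a homogeneous unit `t` of positive degree `N` (helper12), part b

`t - 1` is not a unit; maximal ideals containing `t - 1`; `R/(t - 1)` is local when `R_0` is
local and `N` is minimal.
-/

set_option autoImplicit false
set_option linter.unusedSectionVars false
set_option linter.style.haveILetI false
universe u

namespace Groth.Agent.Lib.GrCyc12

open DirectSum IsLocalRing

variable {R : Type u} [CommRing R] (𝒜 : ℤ → AddSubgroup R) [GradedRing 𝒜]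
  (N : ℕ) (hN : 0 < N) (u : Rˣ) (hu : (u : R) ∈ 𝒜 (N : ℤ))

include hN hu in
/-- `t - 1` is not a unit. -/
theorem not_isUnit_sub_one [Nontrivial R] : ¬ IsUnit ((u : R) - 1) := by
  classical
  intro hunit
  obtain ⟨s, hs⟩ := hunit.exists_right_inv
  have hNpos : (0 : ℤ) < N := by exact_mod_cast hN
  -- the relation on components
  have hrel : ∀ i : ℤ, (u : R) * (decompose 𝒜 s (i - N) : R) - (decompose 𝒜 s i : R) =
      (decompose 𝒜 (1 : R) i : R) := by
    intro i
    rw [← hs, sub_mul, one_mul, decompose_sub, DirectSum.sub_apply, AddSubgroup.coe_sub]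
    congr 1
    have := coe_decompose_mul_add_of_left_mem 𝒜 (i := (N : ℤ)) (j := i - N) (b := s) hu
    have h2 : (N : ℤ) + (i - N) = i := by ring
    rw [h2] at this
    exact this.symm
  have hone : ∀ i : ℤ, i ≠ 0 → (decompose 𝒜 (1 : R) i : R) = 0 := by
    intro i hi
    exact decompose_of_mem_ne 𝒜 SetLike.GradedOne.one_mem (Ne.symm hi)
  have hs0 : s ≠ 0 := by
    rintro rfl
    rw [mul_zero] at hs
    exact zero_ne_one hs
  have hsupp : (decompose 𝒜 s).support.Nonempty := by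
    rw [Finset.nonempty_iff_ne_empty]
    intro h
    apply hs0
    have : decompose 𝒜 s = 0 := by
      rw [← DFinsupp.support_eq_empty]; exact h
    have h2 := congrArg (decompose 𝒜).symm this
    simpa using h2
  set m := (decompose 𝒜 s).support.min' hsupp with hm
  set M := (decompose 𝒜 s).support.max' hsupp with hM
  have hmM : m ≤ M := Finset.min'_le _ _ (Finset.max'_mem _ hsupp)
  have hfm : (decompose 𝒜 s m : R) ≠ 0 := by
    have := Finset.min'_mem _ hsupp
    rw [DFinsupp.mem_support_iff] at this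
    intro h
    exact this (Subtype.ext h)
  have hfM : (decompose 𝒜 s M : R) ≠ 0 := by
    have := Finset.max'_mem _ hsupp
    rw [DFinsupp.mem_support_iff] at this
    intro h
    exact this (Subtype.ext h)
  have hlow : (decompose 𝒜 s (m - N) : R) = 0 := by
    by_contra h
    have hmem : m - N ∈ (decompose 𝒜 s).support := by
      rw [DFinsupp.mem_support_iff]
      intro h0
      exact h (by rw [h0]; rfl)
    have := Finset.min'_le _ _ hmem
    rw [← hm] at this
    linarith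
  have hhigh : (decompose 𝒜 s (M + N) : R) = 0 := by
    by_contra h
    have hmem : M + N ∈ (decompose 𝒜 s).support := by
      rw [DFinsupp.mem_support_iff]
      intro h0
      exact h (by rw [h0]; rfl)
    have := Finset.le_max' _ _ hmem
    rw [← hM] at this
    linarith
  -- m = 0
  have hm0 : m = 0 := by
    by_contra h
    have h1 := hrel m
    rw [hlow, mul_zero, zero_sub, hone m h, neg_eq_zero] at h1
    exact hfm h1
  -- M + N = 0
  have hMN : M + N = 0 := by
    by_contra h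
    have h1 := hrel (M + N)
    have h2 : M + (N : ℤ) - N = M := by ring
    rw [h2, hhigh, sub_zero, hone _ h] at h1
    exact hfM ((Units.mul_right_eq_zero u).1 h1)
  linarith

section Max

variable [IsLocalRing (SetLike.GradeZero.subring 𝒜)]
  (hmin : ∀ n : ℤ, 0 < n → n < (N : ℤ) → ∀ s ∈ 𝒜 n, ¬ IsUnit s)
  (𝔮 : Ideal R) [h𝔮 : 𝔮.IsMaximal] (h1 : (u : R) - 1 ∈ 𝔮)

include hN hu h1 in
theorem isIntegral_comp :
    ((Ideal.Quotient.mk 𝔮).comp (SetLike.GradeZero.subring 𝒜).subtype).IsIntegral := by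
  have hNpos : (0 : ℤ) < N := by exact_mod_cast hN
  have hle : Ideal.span {(u : R) - 1} ≤ 𝔮 := by
    rw [Ideal.span_le, Set.singleton_subset_iff]; exact h1
  intro z
  obtain ⟨r, rfl⟩ := Ideal.Quotient.mk_surjective z
  induction r using DirectSum.Decomposition.inductionOn 𝒜 with
  | zero => rw [map_zero]; exact RingHom.isIntegralElem_zero _
  | homogeneous a =>
    rename_i i
    -- `a ^ N = c` modulo `𝔮`, with `c = a ^ N * u ^ (-i)` of degree zero
    have hc : (a : R) ^ N * ((u ^ (-i) : Rˣ) : R) ∈ 𝒜 0 := by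
      have h2 := SetLike.mul_mem_graded (SetLike.pow_mem_graded N a.2) (zpow_mem 𝒜 u hu (-i))
      have h3 : N • i + -i * (N : ℤ) = 0 := by
        rw [nsmul_eq_mul]; ring
      rwa [h3] at h2
    refine ⟨Polynomial.X ^ N - Polynomial.C ⟨(a : R) ^ N * ((u ^ (-i) : Rˣ) : R), hc⟩,
      Polynomial.monic_X_pow_sub_C _ hN.ne', ?_⟩
    rw [Polynomial.eval₂_sub, Polynomial.eval₂_pow, Polynomial.eval₂_X, Polynomial.eval₂_C,
      sub_eq_zero, RingHom.comp_apply, Subring.coe_subtype, ← map_pow, eq_comm]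
    rw [Ideal.Quotient.mk_eq_mk_iff_sub_mem]
    have h4 : (a : R) ^ N * ((u ^ (-i) : Rˣ) : R) - (a : R) ^ N =
        (a : R) ^ N * (((u ^ (-i) : Rˣ) : R) - 1) := by ring
    rw [h4]
    exact Ideal.mul_mem_left _ _ (hle (zpow_sub_one_mem u (-i)))
  | add a b ha hb =>
    rw [map_add]
    exact RingHom.IsIntegralElem.add _ ha hb

include hN hu h1 in
/-- A degree-zero element lies in a maximal ideal containing `t - 1` iff it is a non-unit. -/
theorem coe_mem_iff (c : SetLike.GradeZero.subring 𝒜) :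
    (c : R) ∈ 𝔮 ↔ c ∈ maximalIdeal (SetLike.GradeZero.subring 𝒜) := by
  haveI : (⊥ : Ideal (R ⧸ 𝔮)).IsMaximal := by
    letI := Ideal.Quotient.field 𝔮
    exact Ideal.bot_isMaximal
  have hmax := Ideal.isMaximal_comap_of_isIntegral_of_isMaximal'
    ((Ideal.Quotient.mk 𝔮).comp (SetLike.GradeZero.subring 𝒜).subtype)
    (isIntegral_comp 𝒜 N hN u hu 𝔮 h1) ⊥
  have heq := IsLocalRing.eq_maximalIdeal hmax
  rw [← heq, Ideal.mem_comap, Ideal.mem_bot, RingHom.comp_apply, Subring.coe_subtype,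
    Ideal.Quotient.eq_zero_iff_mem]

include hN hu h1 hmin in
theorem mem_of_not_dvd {i : ℤ} (hi : ¬ (N : ℤ) ∣ i) {a : R} (ha : a ∈ 𝒜 i) : a ∈ 𝔮 := by
  have hc : a ^ N * ((u ^ (-i) : Rˣ) : R) ∈ 𝒜 0 := by
    have h2 := SetLike.mul_mem_graded (SetLike.pow_mem_graded N ha) (zpow_mem 𝒜 u hu (-i))
    have h3 : N • i + -i * (N : ℤ) = 0 := by
      rw [nsmul_eq_mul]; ring
    rwa [h3] at h2
  have hnu : (⟨a ^ N * ((u ^ (-i) : Rˣ) : R), hc⟩ : SetLike.GradeZero.subring 𝒜) ∈
      maximalIdeal (SetLike.GradeZero.subring 𝒜) := by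
    rw [IsLocalRing.mem_maximalIdeal, mem_nonunits_iff]
    intro hunit
    have h2 : IsUnit (a ^ N * ((u ^ (-i) : Rˣ) : R)) :=
      hunit.map (SetLike.GradeZero.subring 𝒜).subtype
    have h3 : IsUnit (a ^ N) := by
      have := h2.mul (Units.isUnit (u ^ (-i))⁻¹)
      rwa [mul_assoc, Units.mul_inv, mul_one] at this
    exact not_isUnit_of_not_dvd 𝒜 N hN u hu hmin hi ha ((isUnit_pow_iff hN.ne').1 h3)
  have h4 := (coe_mem_iff 𝒜 N hN u hu 𝔮 h1 _).2 hnu
  have h5 : a ^ N ∈ 𝔮 := by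
    have := Ideal.mul_mem_right (((u ^ (-i))⁻¹ : Rˣ) : R) 𝔮 h4
    simpa [mul_assoc] using this
  exact h𝔮.isPrime.mem_of_pow_mem _ h5

include hN hu h1 hmin in
theorem K_le : K 𝒜 N u ≤ 𝔮 := by
  unfold K
  rw [sup_le_iff, Ideal.span_le, Ideal.span_le, Set.singleton_subset_iff]
  refine ⟨h1, ?_⟩
  rintro a ⟨i, hi, ha⟩
  exact mem_of_not_dvd 𝒜 N hN u hu hmin 𝔮 h1 hi ha

end Max

section Local

variable [IsLocalRing (SetLike.GradeZero.subring 𝒜)]
  (hmin : ∀ n : ℤ, 0 < n → n < (N : ℤ) → ∀ s ∈ 𝒜 n, ¬ IsUnit s)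

include hN hu hmin in
/-- Two maximal ideals containing `t - 1` coincide. -/
theorem maximal_unique (𝔮 𝔮' : Ideal R) [h𝔮 : 𝔮.IsMaximal] [h𝔮' : 𝔮'.IsMaximal]
    (h1 : (u : R) - 1 ∈ 𝔮) (h1' : (u : R) - 1 ∈ 𝔮') : 𝔮 = 𝔮' := by
  apply h𝔮.eq_of_le h𝔮'.ne_top
  intro r hr
  obtain ⟨c, hc, hk⟩ := exists_sub_mem_K 𝒜 N u hu r
  have hc𝔮 : c ∈ 𝔮 := by
    have := 𝔮.sub_mem hr (K_le 𝒜 N hN u hu hmin 𝔮 h1 hk)
    simpa using this
  have h2 := (coe_mem_iff 𝒜 N hN u hu 𝔮 h1 ⟨c, hc⟩).1 hc𝔮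
  have h3 : c ∈ 𝔮' := (coe_mem_iff 𝒜 N hN u hu 𝔮' h1' ⟨c, hc⟩).2 h2
  have := 𝔮'.add_mem (K_le 𝒜 N hN u hu hmin 𝔮' h1' hk) h3
  simpa using this

include hN hu hmin in
/-- `R/(t - 1)` is a local ring. -/
theorem isLocalRing_quotient : IsLocalRing (R ⧸ Ideal.span {(u : R) - 1}) := by
  haveI : Nontrivial R := by
    haveI : Nontrivial (SetLike.GradeZero.subring 𝒜) := inferInstance
    exact (Subtype.coe_injective (p := fun x => x ∈ SetLike.GradeZero.subring 𝒜)).nontrivial
  haveI : Nontrivial (R ⧸ Ideal.span {(u : R) - 1}) := by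
    rw [Ideal.Quotient.nontrivial_iff, Ne, Ideal.span_singleton_eq_top]
    exact not_isUnit_sub_one 𝒜 N hN u hu
  apply IsLocalRing.of_unique_max_ideal
  obtain ⟨I, hI⟩ := Ideal.exists_maximal (R ⧸ Ideal.span {(u : R) - 1})
  refine ⟨I, hI, fun J hJ => ?_⟩
  have hsurj : Function.Surjective (Ideal.Quotient.mk (Ideal.span {(u : R) - 1})) :=
    Ideal.Quotient.mk_surjective
  haveI := Ideal.comap_isMaximal_of_surjective _ hsurj (K := I)
  haveI := Ideal.comap_isMaximal_of_surjective _ hsurj (K := J)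
  have hmem : ∀ L : Ideal (R ⧸ Ideal.span {(u : R) - 1}),
      (u : R) - 1 ∈ L.comap (Ideal.Quotient.mk (Ideal.span {(u : R) - 1})) := by
    intro L
    rw [Ideal.mem_comap]
    have : (Ideal.Quotient.mk (Ideal.span {(u : R) - 1})) ((u : R) - 1) = 0 :=
      Ideal.Quotient.eq_zero_iff_mem.2 (Ideal.subset_span rfl)
    rw [this]; exact L.zero_mem
  have := maximal_unique 𝒜 N hN u hu hmin _ _ (hmem J) (hmem I)
  exact Ideal.comap_injective_of_surjective _ hsurj this

end Local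

end Groth.Agent.Lib.GrCyc12
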