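import Groth.Agent.Lib.GrCyc12b
import Groth.Agent.Lib.RegularLocal
import Groth.Agent.Lib.GorQuotLoc12

/-!
# ℤ-graded rings with a homogeneous unit `t` of positive degree `N` (helper12), part c

If `R` is Noetherian with regular localizations, `R_0` is local and `N` is the least positive
degree of a unit, then `R/(t - 1)` is a regular local ring.
-/

set_option autoImplicit false
set_option linter.unusedSectionVars false
set_option linter.style.haveILetI false
universe u

namespace Groth.Agent.Lib.GrCyc12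

open DirectSum IsLocalRing

variable {R : Type u} [CommRing R] (𝒜 : ℤ → AddSubgroup R) [GradedRing 𝒜]
  (N : ℕ) (hN : 0 < N) (u : Rˣ) (hu : (u : R) ∈ 𝒜 (N : ℤ))
  [IsLocalRing (SetLike.GradeZero.subring 𝒜)]
  (hmin : ∀ n : ℤ, 0 < n → n < (N : ℤ) → ∀ s ∈ 𝒜 n, ¬ IsUnit s)

include hN hu in
theorem sub_one_notMem_core (P : Ideal R) [hP : P.IsPrime] :
    (u : R) - 1 ∉ (P.homogeneousCore 𝒜).toIdeal := by
  intro hmem
  have hNne : (N : ℤ) ≠ 0 := by exact_mod_cast hN.ne'
  have h0 := (P.homogeneousCore 𝒜).isHomogeneous 0 hmem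
  rw [decompose_sub, DirectSum.sub_apply, AddSubgroup.coe_sub,
    decompose_of_mem_ne 𝒜 hu hNne, coe_decompose_one_zero, zero_sub] at h0
  have h1 : (1 : R) ∈ P := by
    have := Ideal.toIdeal_homogeneousCore_le 𝒜 P h0
    simpa using P.neg_mem this
  exact hP.ne_top ((Ideal.eq_top_iff_one P).2 h1)

include hN hu hmin in
theorem le_core_sup (P : Ideal R) [hP : P.IsMaximal] (h1 : (u : R) - 1 ∈ P) :
    P ≤ (P.homogeneousCore 𝒜).toIdeal ⊔ Ideal.span {(u : R) - 1} := by
  intro r hr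
  obtain ⟨c, hc, hk⟩ := exists_sub_mem_K 𝒜 N u hu r
  have hKP := K_le 𝒜 N hN u hu hmin P h1
  have hcP : c ∈ P := by
    have := P.sub_mem hr (hKP hk)
    simpa using this
  have hcc : c ∈ (P.homogeneousCore 𝒜).toIdeal :=
    Ideal.mem_homogeneousCore_of_homogeneous_of_mem ⟨0, hc⟩ hcP
  have hKle : K 𝒜 N u ≤ (P.homogeneousCore 𝒜).toIdeal ⊔ Ideal.span {(u : R) - 1} := by
    unfold K
    rw [sup_le_iff]
    refine ⟨le_sup_right, ?_⟩
    rw [Ideal.span_le]
    rintro a ⟨i, hi, ha⟩
    exact Ideal.mem_sup_left (Ideal.mem_homogeneousCore_of_homogeneous_of_mem ⟨i, ha⟩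
      (mem_of_not_dvd 𝒜 N hN u hu hmin P h1 hi ha))
  have : r = (r - c) + c := by ring
  rw [this]
  exact add_mem (hKle hk) (Ideal.mem_sup_left hcc)

include hN hu hmin in
/-- `t - 1` is not in the square of a maximal ideal containing it, even locally. -/
theorem mul_notMem_sq (P : Ideal R) [hP : P.IsMaximal] (h1 : (u : R) - 1 ∈ P) (s : R)
    (hs : s ∉ P) : ((u : R) - 1) * s ∉ P ^ 2 := by
  intro hmem
  haveI hPp : P.IsPrime := hP.isPrime
  haveI hc : (P.homogeneousCore 𝒜).toIdeal.IsPrime := Ideal.IsPrime.homogeneousCore hPp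
  have hcle : (P.homogeneousCore 𝒜).toIdeal ≤ P := Ideal.toIdeal_homogeneousCore_le 𝒜 P
  generalize hPc : (P.homogeneousCore 𝒜).toIdeal = Pc at hc hcle
  have hy : Ideal.Quotient.mk Pc ((u : R) - 1) ≠ 0 := by
    rw [Ne, Ideal.Quotient.eq_zero_iff_mem, ← hPc]
    exact sub_one_notMem_core 𝒜 N hN u hu P
  have hle : P.map (Ideal.Quotient.mk Pc) ≤ Ideal.span {Ideal.Quotient.mk Pc ((u : R) - 1)} := by
    have h2 := Ideal.map_mono (f := Ideal.Quotient.mk Pc) (le_core_sup 𝒜 N hN u hu hmin P h1)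
    rw [hPc, Ideal.map_sup, Ideal.map_quotient_self, bot_sup_eq, Ideal.map_span,
      Set.image_singleton] at h2
    exact h2
  have h3 : Ideal.Quotient.mk Pc (((u : R) - 1) * s) ∈
      Ideal.span {Ideal.Quotient.mk Pc ((u : R) - 1) ^ 2} := by
    have h4 : Ideal.Quotient.mk Pc (((u : R) - 1) * s) ∈ (P ^ 2).map (Ideal.Quotient.mk Pc) :=
      Ideal.mem_map_of_mem _ hmem
    rw [Ideal.map_pow] at h4
    have h5 := Ideal.pow_right_mono hle 2 h4
    rwa [Ideal.span_singleton_pow] at h5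
  rw [Ideal.mem_span_singleton'] at h3
  obtain ⟨a, ha⟩ := h3
  rw [map_mul, pow_two, ← mul_assoc, mul_comm _ (Ideal.Quotient.mk Pc s)] at ha
  have h6 : a * Ideal.Quotient.mk Pc ((u : R) - 1) = Ideal.Quotient.mk Pc s :=
    mul_right_cancel₀ hy ha
  have h7 : Ideal.Quotient.mk Pc s ∈ P.map (Ideal.Quotient.mk Pc) := by
    rw [← h6]
    exact Ideal.mul_mem_left _ _ (Ideal.mem_map_of_mem _ h1)
  exact hs ((Ideal.mem_quotient_iff_mem hcle).1 h7)

include hN hu hmin in
/-- `R/(t - 1)` is a regular local ring. -/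
theorem isRegularLocalRing_quotient [IsNoetherianRing R]
    (hreg : ∀ (p : Ideal R) [p.IsPrime], IsRegularLocalRing (Localization.AtPrime p)) :
    IsRegularLocalRing (R ⧸ Ideal.span {(u : R) - 1}) := by
  haveI hloc := isLocalRing_quotient 𝒜 N hN u hu hmin
  have hsurj : Function.Surjective (Ideal.Quotient.mk (Ideal.span {(u : R) - 1})) :=
    Ideal.Quotient.mk_surjective
  haveI hPmax : ((maximalIdeal (R ⧸ Ideal.span {(u : R) - 1})).comap
      (Ideal.Quotient.mk (Ideal.span {(u : R) - 1}))).IsMaximal :=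
    Ideal.comap_isMaximal_of_surjective _ hsurj
  have hmapP : ((maximalIdeal (R ⧸ Ideal.span {(u : R) - 1})).comap
      (Ideal.Quotient.mk (Ideal.span {(u : R) - 1}))).map
        (Ideal.Quotient.mk (Ideal.span {(u : R) - 1})) =
      maximalIdeal (R ⧸ Ideal.span {(u : R) - 1}) :=
    Ideal.map_comap_of_surjective _ hsurj _
  generalize hPdef : (maximalIdeal (R ⧸ Ideal.span {(u : R) - 1})).comap
      (Ideal.Quotient.mk (Ideal.span {(u : R) - 1})) = P at hPmax hmapP
  haveI hPp : P.IsPrime := hPmax.isPrime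
  have hyP : (u : R) - 1 ∈ P := by
    rw [← hPdef, Ideal.mem_comap]
    have : (Ideal.Quotient.mk (Ideal.span {(u : R) - 1})) ((u : R) - 1) = 0 :=
      Ideal.Quotient.eq_zero_iff_mem.2 (Ideal.subset_span rfl)
    rw [this]; exact Ideal.zero_mem _
  haveI := hreg P
  have hx : algebraMap R (Localization.AtPrime P) ((u : R) - 1) ∈
      maximalIdeal (Localization.AtPrime P) :=
    (IsLocalization.AtPrime.to_map_mem_maximal_iff _ P _).2 hyP
  have hx2 : algebraMap R (Localization.AtPrime P) ((u : R) - 1) ∉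
      maximalIdeal (Localization.AtPrime P) ^ 2 := by
    intro hmem
    rw [← Localization.AtPrime.map_eq_maximalIdeal, ← Ideal.map_pow,
      IsLocalization.mem_map_algebraMap_iff P.primeCompl] at hmem
    obtain ⟨⟨p2, s⟩, h⟩ := hmem
    rw [← map_mul, IsLocalization.eq_iff_exists P.primeCompl] at h
    obtain ⟨c, hc⟩ := h
    have h3 : ((u : R) - 1) * ((s : R) * (c : R)) ∈ P ^ 2 := by
      have h4 : ((u : R) - 1) * ((s : R) * (c : R)) = (c : R) * (p2 : R) := by
        rw [← hc]; ring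
      rw [h4]
      exact Ideal.mul_mem_left _ _ p2.2
    exact mul_notMem_sq 𝒜 N hN u hu hmin P hyP _ (P.primeCompl.mul_mem s.2 c.2) h3
  obtain ⟨hregq, -⟩ := Groth.Agent.Lib.RegularLocal.isRegularLocalRing_quotient_of_spanFinrank hx
    (Groth.Agent.Lib.RegularLocal.spanFinrank_map_mk_add_one_le hx hx2)
  haveI hprime := Groth.Agent.Lib.GorQuotLoc12.isPrime_map ((u : R) - 1) P hyP
  haveI hL := Groth.Agent.Lib.GorQuotLoc12.isLocalization_quotient ((u : R) - 1) P hyP
  have hH : (P.map (Ideal.Quotient.mk (Ideal.span {(u : R) - 1}))).primeCompl ≤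
      IsUnit.submonoid (R ⧸ Ideal.span {(u : R) - 1}) := by
    intro z hz
    rw [IsUnit.mem_submonoid_iff]
    by_contra hnu
    apply hz
    change z ∈ P.map (Ideal.Quotient.mk (Ideal.span {(u : R) - 1}))
    rw [hmapP]
    exact hnu
  have e := IsLocalization.atUnits (R ⧸ Ideal.span {(u : R) - 1}) _
    (S := Localization.AtPrime P ⧸ (Ideal.span {(u : R) - 1}).map
      (algebraMap R (Localization.AtPrime P))) hH
  have e2 := Ideal.quotEquivOfEq
    (Groth.Agent.Lib.GorQuotLoc12.map_span_singleton ((u : R) - 1) P)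
  exact IsRegularLocalRing.of_ringEquiv (e.toRingEquiv.trans e2).symm

end Groth.Agent.Lib.GrCyc12
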