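import Groth.Agent.Lib.GrCyc12a

/-!
# ℤ-graded rings with a homogeneous unit `t` of positive degree `N` (helper12), part d

* `tw 𝒜 g v` : the ring hom `r ↦ Σ_i g(r_i) v^i` twisting a ring hom `g : R →+* S` by a unit `v`;
* `adjoinRootEquiv` : `R[U]/(U^N - t) ≃+* (R/(t - 1))[T;T⁻¹]`.
-/

set_option autoImplicit false
set_option linter.unusedSectionVars false
set_option linter.style.haveILetI false
universe u

namespace Groth.Agent.Lib.GrCyc12

open DirectSum Polynomial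

variable {R : Type u} [CommRing R] (𝒜 : ℤ → AddSubgroup R) [GradedRing 𝒜]

section Tw

variable {S : Type*} [CommRing S] (g : R →+* S) (v : Sˣ)

/-- The family defining the twisted hom. -/
noncomputable def twFam (i : ℤ) : 𝒜 i →+ S :=
  (AddMonoidHom.mulRight ((v ^ i : Sˣ) : S)).comp (g.toAddMonoidHom.comp (𝒜 i).subtype)

theorem twFam_apply (i : ℤ) (a : 𝒜 i) : twFam 𝒜 g v i a = g a * ((v ^ i : Sˣ) : S) := rfl

theorem twFam_one : twFam 𝒜 g v 0 (GradedMonoid.GOne.one (A := fun i => 𝒜 i)) = 1 := by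
  rw [twFam_apply, SetLike.coe_gOne, map_one, zpow_zero, Units.val_one, mul_one]

theorem twFam_mul {i j : ℤ} (ai : 𝒜 i) (aj : 𝒜 j) :
    twFam 𝒜 g v (i + j) (GradedMonoid.GMul.mul (A := fun i => 𝒜 i) ai aj) =
      twFam 𝒜 g v i ai * twFam 𝒜 g v j aj := by
  rw [twFam_apply, twFam_apply, twFam_apply, SetLike.coe_gMul, map_mul, zpow_add, Units.val_mul]
  ring

/-- The twisted hom `r ↦ Σ_i g(r_i) v^i`. -/
noncomputable def tw : R →+* S :=
  (DirectSum.toSemiring (twFam 𝒜 g v) (twFam_one 𝒜 g v) (twFam_mul 𝒜 g v)).comp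
    (DirectSum.decomposeRingEquiv 𝒜).toRingHom

theorem tw_of_mem {i : ℤ} {a : R} (ha : a ∈ 𝒜 i) : tw 𝒜 g v a = g a * ((v ^ i : Sˣ) : S) := by
  unfold tw
  rw [RingHom.comp_apply]
  have : (DirectSum.decomposeRingEquiv 𝒜).toRingHom a = DirectSum.of (fun i => 𝒜 i) i ⟨a, ha⟩ :=
    DirectSum.decompose_of_mem 𝒜 ha
  rw [this, DirectSum.toSemiring_of, twFam_apply]

/-- Two ring homs agreeing on homogeneous elements are equal. -/
theorem ringHom_ext_of_homogeneous {f₁ f₂ : R →+* S}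
    (h : ∀ (i : ℤ) (a : R), a ∈ 𝒜 i → f₁ a = f₂ a) : f₁ = f₂ := by
  ext r
  induction r using DirectSum.Decomposition.inductionOn 𝒜 with
  | zero => rw [map_zero, map_zero]
  | homogeneous a => exact h _ _ a.2
  | add a b ha hb => rw [map_add, map_add, ha, hb]

end Tw

section Iso

variable (N : ℕ) (hN : 0 < N) (u : Rˣ) (hu : (u : R) ∈ 𝒜 (N : ℤ))

local notation "Q" => R ⧸ Ideal.span {(u : R) - 1}
local notation "B" => AdjoinRoot (X ^ N - C (u : R))

theorem mk_u : Ideal.Quotient.mk (Ideal.span {(u : R) - 1}) (u : R) = 1 := by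
  have : (u : R) - 1 ∈ Ideal.span {(u : R) - 1} := Ideal.subset_span rfl
  rw [← Ideal.Quotient.eq_zero_iff_mem, map_sub, map_one, sub_eq_zero] at this
  exact this

/-- `T` as a unit of the Laurent polynomial ring. -/
noncomputable def Tu : (LaurentPolynomial Q)ˣ :=
  (LaurentPolynomial.isUnit_T 1).unit

theorem coe_Tu : ((Tu u : (LaurentPolynomial Q)ˣ) : LaurentPolynomial Q) = LaurentPolynomial.T 1 :=
  rfl

theorem coe_Tu_zpow (i : ℤ) :
    (((Tu u) ^ i : (LaurentPolynomial Q)ˣ) : LaurentPolynomial Q) = LaurentPolynomial.T i := by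
  obtain ⟨n, rfl | rfl⟩ := Int.eq_nat_or_neg i
  · rw [zpow_natCast, Units.val_pow_eq_pow_val, coe_Tu, LaurentPolynomial.T_pow, mul_one]
  · rw [zpow_neg, zpow_natCast]
    have h1 : (((Tu u) ^ n : (LaurentPolynomial Q)ˣ) : LaurentPolynomial Q) *
        LaurentPolynomial.T (-(n : ℤ)) = 1 := by
      rw [Units.val_pow_eq_pow_val, coe_Tu, LaurentPolynomial.T_pow, mul_one,
        ← LaurentPolynomial.T_add, add_neg_cancel, LaurentPolynomial.T_zero]
    exact (Units.inv_eq_of_mul_eq_one_right h1)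

/-- The coaction composed with the quotient map: `r ↦ Σ r̄_i T^i`. -/
noncomputable def fHom : R →+* LaurentPolynomial Q :=
  tw 𝒜 ((LaurentPolynomial.C).comp (Ideal.Quotient.mk (Ideal.span {(u : R) - 1}))) (Tu u)

theorem fHom_of_mem {i : ℤ} {a : R} (ha : a ∈ 𝒜 i) :
    fHom 𝒜 u a = LaurentPolynomial.C (Ideal.Quotient.mk (Ideal.span {(u : R) - 1}) a) *
      LaurentPolynomial.T i := by
  unfold fHom
  rw [tw_of_mem 𝒜 _ _ ha, coe_Tu_zpow, RingHom.comp_apply]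

include hu in
theorem fHom_u : fHom 𝒜 u (u : R) = LaurentPolynomial.T (N : ℤ) := by
  rw [fHom_of_mem 𝒜 u hu, mk_u, map_one, one_mul]

include hu in
theorem eval₂_fHom :
    (X ^ N - C (u : R)).eval₂ (fHom 𝒜 u) (LaurentPolynomial.T 1) = 0 := by
  rw [eval₂_sub, eval₂_pow, eval₂_X, eval₂_C, fHom_u 𝒜 N u hu, LaurentPolynomial.T_pow, mul_one,
    sub_self]

/-- `Φ : R[U]/(U^N - t) → (R/(t-1))[T;T⁻¹]`. -/
noncomputable def Phi : B →+* LaurentPolynomial Q :=
  AdjoinRoot.lift (fHom 𝒜 u) (LaurentPolynomial.T 1) (eval₂_fHom 𝒜 N u hu)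

theorem Phi_of (r : R) : Phi 𝒜 N u hu (AdjoinRoot.of _ r) = fHom 𝒜 u r := AdjoinRoot.lift_of _

theorem Phi_root : Phi 𝒜 N u hu (AdjoinRoot.root _) = LaurentPolynomial.T 1 :=
  AdjoinRoot.lift_root _

theorem root_pow : (AdjoinRoot.root (X ^ N - C (u : R))) ^ N = AdjoinRoot.of _ (u : R) := by
  have h := AdjoinRoot.eval₂_root (X ^ N - C (u : R))
  rw [eval₂_sub, eval₂_pow, eval₂_X, eval₂_C, sub_eq_zero] at h
  exact h

include hN in
theorem isUnit_root : IsUnit (AdjoinRoot.root (X ^ N - C (u : R))) := by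
  have h1 : IsUnit ((AdjoinRoot.root (X ^ N - C (u : R))) ^ N) := by
    rw [root_pow]
    exact (Units.isUnit u).map _
  exact (isUnit_pow_iff hN.ne').1 h1

/-- The root `U` as a unit. -/
noncomputable def Uu : Bˣ := (isUnit_root N hN u).unit

theorem coe_Uu : ((Uu N hN u : Bˣ) : B) = AdjoinRoot.root _ := rfl

theorem Uu_pow : ((Uu N hN u) ^ (N : ℤ) : Bˣ) = Units.map (AdjoinRoot.of (X ^ N - C (u : R))).toMonoidHom u := by
  ext
  rw [zpow_natCast, Units.val_pow_eq_pow_val, coe_Uu, root_pow, Units.coe_map]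
  rfl

/-- The twisted inclusion `r ↦ Σ r_i U^{-i}`. -/
noncomputable def gHom : R →+* B :=
  tw 𝒜 (AdjoinRoot.of (X ^ N - C (u : R))) (Uu N hN u)⁻¹

theorem gHom_of_mem {i : ℤ} {a : R} (ha : a ∈ 𝒜 i) :
    gHom 𝒜 N hN u a = AdjoinRoot.of _ a * ((((Uu N hN u)⁻¹) ^ i : Bˣ) : B) :=
  tw_of_mem 𝒜 _ _ ha

include hu in
theorem gHom_u : gHom 𝒜 N hN u (u : R) = 1 := by
  rw [gHom_of_mem 𝒜 N hN u hu, inv_zpow, Uu_pow]
  have : AdjoinRoot.of (X ^ N - C (u : R)) (u : R) =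
      ((Units.map (AdjoinRoot.of (X ^ N - C (u : R))).toMonoidHom u : Bˣ) : B) := rfl
  rw [this, Units.mul_inv]

include hu in
theorem gHom_mem (a : R) (ha : a ∈ Ideal.span {(u : R) - 1}) : gHom 𝒜 N hN u a = 0 := by
  rw [Ideal.mem_span_singleton'] at ha
  obtain ⟨b, rfl⟩ := ha
  rw [map_mul, map_sub, map_one, gHom_u 𝒜 N hN u hu, sub_self, mul_zero]

/-- `ḡ : R/(t-1) → R[U]/(U^N - t)`. -/
noncomputable def gBar : Q →+* B :=
  Ideal.Quotient.lift _ (gHom 𝒜 N hN u) (gHom_mem 𝒜 N hN u hu)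

theorem gBar_mk (r : R) : gBar 𝒜 N hN u hu (Ideal.Quotient.mk _ r) = gHom 𝒜 N hN u r :=
  Ideal.Quotient.lift_mk _ _ _

/-- `Ψ : (R/(t-1))[T;T⁻¹] → R[U]/(U^N - t)`. -/
noncomputable def Psi : LaurentPolynomial Q →+* B :=
  LaurentPolynomial.eval₂ (gBar 𝒜 N hN u hu) (Uu N hN u)

theorem Psi_comp_Phi : (Psi 𝒜 N hN u hu).comp (Phi 𝒜 N u hu) = RingHom.id B := by
  apply AdjoinRoot.ringHom_ext
  · apply ringHom_ext_of_homogeneous 𝒜
    intro i a ha
    rw [RingHom.comp_apply, RingHom.comp_apply, Phi_of, fHom_of_mem 𝒜 u ha]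
    unfold Psi
    rw [LaurentPolynomial.eval₂_C_mul_T, gBar_mk, gHom_of_mem 𝒜 N hN u ha, mul_assoc,
      ← Units.val_mul, inv_zpow, inv_mul_cancel, Units.val_one, mul_one]
    rfl
  · rw [RingHom.comp_apply, Phi_root]
    unfold Psi
    rw [LaurentPolynomial.eval₂_T, zpow_one, coe_Uu]
    rfl

theorem Phi_Uu_zpow (i : ℤ) :
    Phi 𝒜 N u hu ((((Uu N hN u)) ^ i : Bˣ) : B) = LaurentPolynomial.T i := by
  have h1 : Units.map (Phi 𝒜 N u hu).toMonoidHom (Uu N hN u) = Tu u := by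
    apply Units.ext
    rw [Units.coe_map, coe_Tu]
    exact Phi_root 𝒜 N u hu
  have h2 : Units.map (Phi 𝒜 N u hu).toMonoidHom ((Uu N hN u) ^ i) = (Tu u) ^ i := by
    rw [map_zpow, h1]
  have h3 := congrArg Units.val h2
  rw [Units.coe_map, coe_Tu_zpow] at h3
  exact h3

theorem Phi_comp_gBar :
    (Phi 𝒜 N u hu).comp (gBar 𝒜 N hN u hu) = LaurentPolynomial.C := by
  apply Ideal.Quotient.ringHom_ext
  apply ringHom_ext_of_homogeneous 𝒜
  intro i a ha
  rw [RingHom.comp_apply, RingHom.comp_apply, RingHom.comp_apply, gBar_mk,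
    gHom_of_mem 𝒜 N hN u ha, map_mul, Phi_of, fHom_of_mem 𝒜 u ha, inv_zpow, ← zpow_neg,
    Phi_Uu_zpow, mul_assoc, ← LaurentPolynomial.T_add, add_neg_cancel, LaurentPolynomial.T_zero,
    mul_one]

theorem Phi_comp_Psi :
    (Phi 𝒜 N u hu).comp (Psi 𝒜 N hN u hu) = RingHom.id (LaurentPolynomial Q) := by
  refine RingHom.ext fun p => ?_
  induction p using LaurentPolynomial.induction_on' with
  | add p q hp hq => rw [map_add, map_add, hp, hq]
  | C_mul_T n a =>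
    rw [RingHom.comp_apply, RingHom.id_apply]
    unfold Psi
    rw [LaurentPolynomial.eval₂_C_mul_T, map_mul, Phi_Uu_zpow]
    have := congrArg (fun f => f a) (Phi_comp_gBar 𝒜 N hN u hu)
    simp only [RingHom.comp_apply] at this
    rw [this]

/-- `R[U]/(U^N - t) ≃+* (R/(t-1))[T;T⁻¹]`. -/
noncomputable def adjoinRootEquiv : B ≃+* LaurentPolynomial Q :=
  RingEquiv.ofRingHom (Phi 𝒜 N u hu) (Psi 𝒜 N hN u hu) (Phi_comp_Psi 𝒜 N hN u hu)
    (Psi_comp_Phi 𝒜 N hN u hu)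

end Iso

end Groth.Agent.Lib.GrCyc12
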