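import Mathlib
import Groth.Agent.Lib.GrFree
import Groth.Agent.Lib.GrSyzBasic

/-!
# Hilbert functions from finite graded free resolutions (helper12)

* `piece 𝒜 deg t`: the degree `t` part of `⊕ A(-deg b)` as a `k`-subspace, `finrank_piece`.
* `dK`, `augK`: degree `t` parts of homogeneous matrices / augmentations; exactness passes to pieces.
* `hilbert`: `dim_k M_t = Σ_i (-1)^i Σ_b dim_k A_{t - deg i b}` for a finite graded free resolution.
* `finrank_stdGr`: `dim_k k[x_0..x_r]_j = C(r+j, r)`; `hilbert_stdGr`: the Hilbert function formula.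
-/

set_option autoImplicit false
set_option linter.unusedSectionVars false
open MvPolynomial DirectSum

namespace Groth.Agent.Lib.GrHilb

open Groth.Agent.Lib.GrFree

universe u

theorem stdGr_eq_restrictSupport (k : Type u) [CommRing k] (σ : Type*) (j : ℤ) :
    GrSyz.stdGr k σ j = restrictSupport k {d : σ →₀ ℕ | Finsupp.weight (fun _ : σ => (1 : ℤ)) d = j} :=
  weightedHomogeneousSubmodule_eq_finsupp_supported k _ j

theorem finrank_stdGr (k : Type u) [Field k] (r : ℕ) (j : ℤ) :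
    Module.finrank k (GrSyz.stdGr k (Fin (r + 1)) j) =
      if 0 ≤ j then Nat.choose (r + j.toNat) r else 0 := by
  classical
  rw [stdGr_eq_restrictSupport]
  rw [Module.finrank_eq_nat_card_basis (basisRestrictSupport k _)]
  split_ifs with hj
  · have hset : {d : Fin (r + 1) →₀ ℕ | Finsupp.weight (fun _ : Fin (r + 1) => (1 : ℤ)) d = j} =
        ↑((Finset.univ : Finset (Fin (r + 1))).finsuppAntidiag j.toNat) := by
      ext d
      simp only [Set.mem_ofPred_eq, Finset.mem_coe, Finset.mem_finsuppAntidiag', Finset.subset_univ,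
        and_true]
      rw [Groth.Agent.Lib.GrSyzBasic.weight_one_eq]
      constructor
      · intro h
        have : ((d.sum fun _ e => e : ℕ) : ℤ) = (j.toNat : ℤ) := by rw [h, Int.toNat_of_nonneg hj]
        exact_mod_cast this
      · intro h
        rw [h, Int.toNat_of_nonneg hj]
    rw [hset, Nat.card_coe_set_eq, Set.ncard_coe_finset, Finset.card_finsuppAntidiag_nat_eq_choose]
    simp only [Finset.card_univ, Fintype.card_fin]
    rw [show r + 1 + j.toNat - 1 = r + j.toNat by omega, Nat.choose_symm_add]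
  · have hset : {d : Fin (r + 1) →₀ ℕ | Finsupp.weight (fun _ : Fin (r + 1) => (1 : ℤ)) d = j} = ∅ := by
      ext d
      simp only [Set.mem_ofPred_eq, Set.mem_empty_iff_false, iff_false]
      intro h
      exact hj (h ▸ Groth.Agent.Lib.GrSyzBasic.weight_one_nonneg _ d)
    rw [hset]
    simp


section Generic

variable {k : Type u} [Field k] {A : Type u} [CommRing A] [Algebra k A]
  (𝒜 : ℤ → Submodule k A) [GradedAlgebra 𝒜]

/-- degree `t` piece of `⊕ A(-deg b)` -/
def piece {n : ℕ} (deg : Fin n → ℤ) (t : ℤ) : Submodule k (Fin n → A) where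
  carrier := {v | IsHomogVec 𝒜 deg t v}
  add_mem' hv hw := IsHomogVec.add 𝒜 _ hv hw
  zero_mem' := isHomogVec_zero 𝒜 _ t
  smul_mem' c _ hv := fun b => Submodule.smul_mem _ c (hv b)

lemma mem_piece {n : ℕ} (deg : Fin n → ℤ) (t : ℤ) (v : Fin n → A) :
    v ∈ piece 𝒜 deg t ↔ IsHomogVec 𝒜 deg t v := Iff.rfl

/-- the piece is a product of pieces of the ring -/
def pieceEquiv {n : ℕ} (deg : Fin n → ℤ) (t : ℤ) :
    piece 𝒜 deg t ≃ₗ[k] (∀ b, 𝒜 (t - deg b)) where
  toFun v b := ⟨v.1 b, v.2 b⟩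
  invFun w := ⟨fun b => (w b : A), fun b => (w b).2⟩
  map_add' _ _ := rfl
  map_smul' _ _ := rfl
  left_inv _ := rfl
  right_inv _ := rfl

instance [∀ j, Module.Finite k (𝒜 j)] {n : ℕ} (deg : Fin n → ℤ) (t : ℤ) : Module.Finite k (piece 𝒜 deg t) :=
  Module.Finite.equiv (pieceEquiv 𝒜 deg t).symm

theorem finrank_piece [∀ j, Module.Finite k (𝒜 j)] {n : ℕ} (deg : Fin n → ℤ) (t : ℤ) :
    Module.finrank k (piece 𝒜 deg t) = ∑ b, Module.finrank k (𝒜 (t - deg b)) := by
  rw [(pieceEquiv 𝒜 deg t).finrank_eq, Module.finrank_pi_fintype]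

/-- a matrix with homogeneous entries preserves the pieces -/
lemma mulVec_mem_piece {n n' : ℕ} (deg : Fin n → ℤ) (deg' : Fin n' → ℤ)
    (D : Matrix (Fin n) (Fin n') A) (hD : ∀ a b, D a b ∈ 𝒜 (deg' b - deg a)) (t : ℤ)
    (v : Fin n' → A) (hv : v ∈ piece 𝒜 deg' t) : D.mulVec v ∈ piece 𝒜 deg t := by
  rw [mem_piece] at hv ⊢
  rw [← comp_of_isHomogVec 𝒜 deg' hv, ← comp_mulVec 𝒜 deg deg' D hD]
  exact isHomogVec_comp 𝒜 deg t _

/-- the degree `t` part of a homogeneous matrix -/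
noncomputable def dK {n n' : ℕ} (deg : Fin n → ℤ) (deg' : Fin n' → ℤ)
    (D : Matrix (Fin n) (Fin n') A) (hD : ∀ a b, D a b ∈ 𝒜 (deg' b - deg a)) (t : ℤ) :
    piece 𝒜 deg' t →ₗ[k] piece 𝒜 deg t :=
  LinearMap.restrict (D.mulVecLin.restrictScalars k)
    (fun v hv => mulVec_mem_piece 𝒜 deg deg' D hD t v hv)

lemma dK_apply {n n' : ℕ} (deg : Fin n → ℤ) (deg' : Fin n' → ℤ)
    (D : Matrix (Fin n) (Fin n') A) (hD : ∀ a b, D a b ∈ 𝒜 (deg' b - deg a)) (t : ℤ)
    (v : piece 𝒜 deg' t) : (dK 𝒜 deg deg' D hD t v : Fin n → A) = D.mulVec v.1 := rfl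

/-- exactness passes to pieces -/
theorem range_dK_eq_ker {n n' n'' : ℕ} (deg : Fin n → ℤ) (deg' : Fin n' → ℤ) (deg'' : Fin n'' → ℤ)
    (D : Matrix (Fin n) (Fin n') A) (hD : ∀ a b, D a b ∈ 𝒜 (deg' b - deg a))
    (D' : Matrix (Fin n') (Fin n'') A) (hD' : ∀ a b, D' a b ∈ 𝒜 (deg'' b - deg' a))
    (hex : LinearMap.ker D.mulVecLin = LinearMap.range D'.mulVecLin) (t : ℤ) :
    LinearMap.range (dK 𝒜 deg' deg'' D' hD' t) = LinearMap.ker (dK 𝒜 deg deg' D hD t) := by
  ext x
  rw [LinearMap.mem_range, LinearMap.mem_ker]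
  constructor
  · rintro ⟨v, rfl⟩
    apply Subtype.ext
    rw [dK_apply, dK_apply]
    have : D'.mulVec v.1 ∈ LinearMap.ker D.mulVecLin := by
      rw [hex]; exact ⟨v.1, rfl⟩
    exact this
  · intro hx
    have hx' : x.1 ∈ LinearMap.ker D.mulVecLin := by
      rw [LinearMap.mem_ker, Matrix.mulVecLin_apply]
      exact congrArg Subtype.val hx
    rw [hex] at hx'
    obtain ⟨v, hv⟩ := hx'
    refine ⟨⟨comp 𝒜 deg'' t v, isHomogVec_comp 𝒜 deg'' t v⟩, ?_⟩
    apply Subtype.ext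
    rw [dK_apply]
    show D'.mulVec (comp 𝒜 deg'' t v) = x.1
    rw [← comp_mulVec 𝒜 deg' deg'' D' hD', ← Matrix.mulVecLin_apply, hv]
    exact comp_of_isHomogVec 𝒜 deg' x.2

theorem finrank_piece_eq_add [∀ j, Module.Finite k (𝒜 j)] {n n' n'' : ℕ} (deg : Fin n → ℤ) (deg' : Fin n' → ℤ)
    (deg'' : Fin n'' → ℤ)
    (D : Matrix (Fin n) (Fin n') A) (hD : ∀ a b, D a b ∈ 𝒜 (deg' b - deg a))
    (D' : Matrix (Fin n') (Fin n'') A) (hD' : ∀ a b, D' a b ∈ 𝒜 (deg'' b - deg' a))
    (hex : LinearMap.ker D.mulVecLin = LinearMap.range D'.mulVecLin) (t : ℤ) :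
    Module.finrank k (piece 𝒜 deg'' t) =
      Module.finrank k (LinearMap.ker (dK 𝒜 deg deg' D hD t)) +
        Module.finrank k (LinearMap.ker (dK 𝒜 deg' deg'' D' hD' t)) := by
  rw [← LinearMap.finrank_range_add_finrank_ker (dK 𝒜 deg' deg'' D' hD' t),
    range_dK_eq_ker 𝒜 deg deg' deg'' D hD D' hD' hex t]

section Module

variable {M : Type u} [AddCommGroup M] [Module k M] [Module A M] [IsScalarTower k A M]
  (ℳ : ℤ → Submodule k M) [Decomposition ℳ] [SetLike.GradedSMul 𝒜 ℳ]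

lemma linearCombination_mem {n : ℕ} (deg : Fin n → ℤ) (aug : Fin n → M)
    (haug : ∀ b, aug b ∈ ℳ (deg b)) (t : ℤ) (v : Fin n → A) (hv : v ∈ piece 𝒜 deg t) :
    Fintype.linearCombination A aug v ∈ ℳ t := by
  rw [Fintype.linearCombination_apply]
  refine Submodule.sum_mem _ fun b _ => ?_
  have h : t = (t - deg b) + deg b := by ring
  rw [h]
  exact SetLike.GradedSMul.smul_mem (hv b) (haug b)

/-- the degree `t` part of the augmentation -/
noncomputable def augK {n : ℕ} (deg : Fin n → ℤ) (aug : Fin n → M)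
    (haug : ∀ b, aug b ∈ ℳ (deg b)) (t : ℤ) : piece 𝒜 deg t →ₗ[k] ℳ t :=
  LinearMap.restrict ((Fintype.linearCombination A aug).restrictScalars k)
    (fun v hv => linearCombination_mem 𝒜 ℳ deg aug haug t v hv)

lemma augK_apply {n : ℕ} (deg : Fin n → ℤ) (aug : Fin n → M)
    (haug : ∀ b, aug b ∈ ℳ (deg b)) (t : ℤ) (v : piece 𝒜 deg t) :
    (augK 𝒜 ℳ deg aug haug t v : M) = Fintype.linearCombination A aug v.1 := rfl

theorem augK_surjective {n : ℕ} (deg : Fin n → ℤ) (aug : Fin n → M)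
    (haug : ∀ b, aug b ∈ ℳ (deg b))
    (hsurj : Function.Surjective (Fintype.linearCombination A aug)) (t : ℤ) :
    Function.Surjective (augK 𝒜 ℳ deg aug haug t) := by
  intro x
  obtain ⟨v, hv⟩ := hsurj x.1
  refine ⟨⟨comp 𝒜 deg t v, isHomogVec_comp 𝒜 deg t v⟩, ?_⟩
  apply Subtype.ext
  rw [augK_apply]
  show Fintype.linearCombination A aug (comp 𝒜 deg t v) = x.1
  rw [← decompose_linearCombination 𝒜 deg ℳ aug haug, hv]
  exact decompose_of_mem_same ℳ x.2

theorem range_dK_eq_ker_augK {n n' : ℕ} (deg : Fin n → ℤ) (deg' : Fin n' → ℤ)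
    (aug : Fin n → M) (haug : ∀ b, aug b ∈ ℳ (deg b))
    (D : Matrix (Fin n) (Fin n') A) (hD : ∀ a b, D a b ∈ 𝒜 (deg' b - deg a))
    (hex : LinearMap.ker (Fintype.linearCombination A aug) = LinearMap.range D.mulVecLin) (t : ℤ) :
    LinearMap.range (dK 𝒜 deg deg' D hD t) = LinearMap.ker (augK 𝒜 ℳ deg aug haug t) := by
  ext x
  rw [LinearMap.mem_range, LinearMap.mem_ker]
  constructor
  · rintro ⟨v, rfl⟩
    apply Subtype.ext
    rw [augK_apply, dK_apply]
    have : D.mulVec v.1 ∈ LinearMap.ker (Fintype.linearCombination A aug) := by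
      rw [hex]; exact ⟨v.1, rfl⟩
    exact this
  · intro hx
    have hx' : x.1 ∈ LinearMap.ker (Fintype.linearCombination A aug) := by
      rw [LinearMap.mem_ker]
      exact congrArg Subtype.val hx
    rw [hex] at hx'
    obtain ⟨v, hv⟩ := hx'
    refine ⟨⟨comp 𝒜 deg' t v, isHomogVec_comp 𝒜 deg' t v⟩, ?_⟩
    apply Subtype.ext
    rw [dK_apply]
    show D.mulVec (comp 𝒜 deg' t v) = x.1
    rw [← comp_mulVec 𝒜 deg deg' D hD, ← Matrix.mulVecLin_apply, hv]
    exact comp_of_isHomogVec 𝒜 deg x.2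

theorem finrank_piece_zero_eq_add [∀ j, Module.Finite k (𝒜 j)] {n : ℕ} (deg : Fin n → ℤ)
    (aug : Fin n → M) (haug : ∀ b, aug b ∈ ℳ (deg b))
    (hsurj : Function.Surjective (Fintype.linearCombination A aug)) (t : ℤ) :
    Module.finrank k (piece 𝒜 deg t) =
      Module.finrank k (ℳ t) + Module.finrank k (LinearMap.ker (augK 𝒜 ℳ deg aug haug t)) := by
  rw [← LinearMap.finrank_range_add_finrank_ker (augK 𝒜 ℳ deg aug haug t),
    LinearMap.range_eq_top.2 (augK_surjective 𝒜 ℳ deg aug haug hsurj t), finrank_top]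

theorem finrank_piece_one_eq_add [∀ j, Module.Finite k (𝒜 j)] {n n' : ℕ} (deg : Fin n → ℤ)
    (deg' : Fin n' → ℤ)
    (aug : Fin n → M) (haug : ∀ b, aug b ∈ ℳ (deg b))
    (D : Matrix (Fin n) (Fin n') A) (hD : ∀ a b, D a b ∈ 𝒜 (deg' b - deg a))
    (hex : LinearMap.ker (Fintype.linearCombination A aug) = LinearMap.range D.mulVecLin) (t : ℤ) :
    Module.finrank k (piece 𝒜 deg' t) =
      Module.finrank k (LinearMap.ker (augK 𝒜 ℳ deg aug haug t)) +
        Module.finrank k (LinearMap.ker (dK 𝒜 deg deg' D hD t)) := by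
  rw [← LinearMap.finrank_range_add_finrank_ker (dK 𝒜 deg deg' D hD t),
    range_dK_eq_ker_augK 𝒜 ℳ deg deg' aug haug D hD hex t]

end Module

section FreeRes

variable {M : Type u} [AddCommGroup M] [Module k M] [Module A M] [IsScalarTower k A M]
  (ℳ : ℤ → Submodule k M) [Decomposition ℳ] [SetLike.GradedSMul 𝒜 ℳ]
  (F : GrSyz.FreeRes 𝒜 ℳ) (t : ℤ)

/-- dimensions of the degree `t` parts of the syzygy modules -/
noncomputable def z : ℕ → ℕ
  | 0 => Module.finrank k (LinearMap.ker (augK 𝒜 ℳ (F.deg 0) F.aug F.aug_mem t))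
  | i + 1 => Module.finrank k
      (LinearMap.ker (dK 𝒜 (F.deg i) (F.deg (i + 1)) (F.d i) (F.d_mem i) t))

variable [∀ j, Module.Finite k (𝒜 j)]

theorem finrank_piece_succ (i : ℕ) :
    Module.finrank k (piece 𝒜 (F.deg (i + 1)) t) = z 𝒜 ℳ F t i + z 𝒜 ℳ F t (i + 1) := by
  cases i with
  | zero =>
    exact finrank_piece_one_eq_add 𝒜 ℳ (F.deg 0) (F.deg 1) F.aug F.aug_mem (F.d 0) (F.d_mem 0)
      F.exact_zero t
  | succ i =>
    exact finrank_piece_eq_add 𝒜 (F.deg i) (F.deg (i + 1)) (F.deg (i + 1 + 1)) (F.d i) (F.d_mem i)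
      (F.d (i + 1)) (F.d_mem (i + 1)) (F.exact_succ i) t

theorem altSum (N : ℕ) :
    ∑ i ∈ Finset.range (N + 1), (-1 : ℤ) ^ i * (Module.finrank k (piece 𝒜 (F.deg i) t) : ℤ) =
      (Module.finrank k (ℳ t) : ℤ) + (-1 : ℤ) ^ N * (z 𝒜 ℳ F t N : ℤ) := by
  induction N with
  | zero =>
    rw [Finset.sum_range_one, pow_zero, one_mul, one_mul]
    have := finrank_piece_zero_eq_add 𝒜 ℳ (F.deg 0) F.aug F.aug_mem F.aug_surjective t
    rw [this]
    push_cast
    rfl
  | succ N ih =>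
    rw [Finset.sum_range_succ, ih, finrank_piece_succ 𝒜 ℳ F t N]
    push_cast
    ring

theorem z_eq_zero {m : ℕ} (hF : F.HasLengthLE m) : z 𝒜 ℳ F t m = 0 := by
  have h := finrank_piece_succ 𝒜 ℳ F t m
  have h0 : F.rk (m + 1) = 0 := hF (m + 1) (Nat.lt_succ_self m)
  have : IsEmpty (Fin (F.rk (m + 1))) := ⟨fun x => by have := x.2; omega⟩
  rw [Module.finrank_zero_of_subsingleton] at h
  omega

theorem hilbert {m : ℕ} (hF : F.HasLengthLE m) :
    (Module.finrank k (ℳ t) : ℤ) =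
      ∑ i ∈ Finset.range (m + 1), (-1 : ℤ) ^ i *
        ∑ b : Fin (F.rk i), (Module.finrank k (𝒜 (t - F.deg i b)) : ℤ) := by
  have h := altSum 𝒜 ℳ F t m
  rw [z_eq_zero 𝒜 ℳ F t hF] at h
  simp only [Nat.cast_zero, mul_zero, add_zero] at h
  rw [← h]
  refine Finset.sum_congr rfl fun i _ => ?_
  rw [finrank_piece]
  push_cast
  rfl

end FreeRes

end Generic


section Std

theorem finite_weight_set (r : ℕ) (j : ℤ) :
    {d : Fin (r + 1) →₀ ℕ | Finsupp.weight (fun _ : Fin (r + 1) => (1 : ℤ)) d = j}.Finite := by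
  classical
  by_cases hj : 0 ≤ j
  · have hset : {d : Fin (r + 1) →₀ ℕ | Finsupp.weight (fun _ : Fin (r + 1) => (1 : ℤ)) d = j} =
        ↑((Finset.univ : Finset (Fin (r + 1))).finsuppAntidiag j.toNat) := by
      ext d
      simp only [Set.mem_ofPred_eq, Finset.mem_coe, Finset.mem_finsuppAntidiag', Finset.subset_univ,
        and_true]
      rw [Groth.Agent.Lib.GrSyzBasic.weight_one_eq]
      constructor
      · intro h
        have : ((d.sum fun _ e => e : ℕ) : ℤ) = (j.toNat : ℤ) := by rw [h, Int.toNat_of_nonneg hj]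
        exact_mod_cast this
      · intro h
        rw [h, Int.toNat_of_nonneg hj]
    rw [hset]
    exact Finset.finite_toSet _
  · have hset : {d : Fin (r + 1) →₀ ℕ | Finsupp.weight (fun _ : Fin (r + 1) => (1 : ℤ)) d = j} = ∅ := by
      ext d
      simp only [Set.mem_ofPred_eq, Set.mem_empty_iff_false, iff_false]
      intro h
      exact hj (h ▸ Groth.Agent.Lib.GrSyzBasic.weight_one_nonneg _ d)
    rw [hset]
    exact Set.finite_empty

instance finite_stdGr (k : Type u) [Field k] (r : ℕ) (j : ℤ) :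
    Module.Finite k (GrSyz.stdGr k (Fin (r + 1)) j) := by
  rw [stdGr_eq_restrictSupport]
  have := (finite_weight_set r j).to_subtype
  exact Module.Finite.of_basis (basisRestrictSupport k _)

/-- the Hilbert function of a graded module over `k[x_0..x_r]` with a finite graded free resolution -/
theorem hilbert_stdGr (k : Type u) [Field k] (r : ℕ)
    (M : Type u) [AddCommGroup M] [Module k M] [Module (MvPolynomial (Fin (r + 1)) k) M]
    [IsScalarTower k (MvPolynomial (Fin (r + 1)) k) M]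
    (ℳ : ℤ → Submodule k M) [DirectSum.Decomposition ℳ]
    [SetLike.GradedSMul (GrSyz.stdGr k (Fin (r + 1))) ℳ]
    (F : GrSyz.FreeRes (GrSyz.stdGr k (Fin (r + 1))) ℳ) (m : ℕ) (hF : F.HasLengthLE m) (d : ℤ) :
    (Module.finrank k ↥(ℳ d) : ℤ) =
      ∑ i ∈ Finset.range (m + 1), (-1 : ℤ) ^ i * ∑ b : Fin (F.rk i),
        (if F.deg i b ≤ d then ((Nat.choose (r + (d - F.deg i b).toNat) r : ℕ) : ℤ) else 0) := by
  rw [hilbert (GrSyz.stdGr k (Fin (r + 1))) ℳ F d hF]
  refine Finset.sum_congr rfl fun i _ => ?_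
  congr 1
  refine Finset.sum_congr rfl fun b _ => ?_
  rw [finrank_stdGr]
  simp only [sub_nonneg]
  split_ifs <;> simp

end Std

end Groth.Agent.Lib.GrHilb
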