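import Mathlib
import Groth.Agent.Lib.GrHilb

/-!
# Hilbert polynomial from a finite graded free resolution (helper12)
-/


set_option autoImplicit false
open Polynomial

namespace Groth.Agent.Lib.GrHilbPoly

universe u

/-- the polynomial `C(r + X - a, r)` -/
noncomputable def binomPoly (r : ℕ) (a : ℤ) : ℚ[X] :=
  (r.factorial : ℚ)⁻¹ • (ascPochhammer ℚ r).comp (X - C (a : ℚ) + 1)

theorem eval_binomPoly (r : ℕ) (a d : ℤ) (h : a - r ≤ d) :
    (binomPoly r a).eval (d : ℚ) =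
      (((if a ≤ d then ((Nat.choose (r + (d - a).toNat) r : ℕ) : ℤ) else 0 : ℤ)) : ℚ) := by
  have hne : (r.factorial : ℚ) ≠ 0 := by exact_mod_cast Nat.factorial_ne_zero r
  simp only [binomPoly, eval_smul, eval_comp, eval_add, eval_sub, eval_X, eval_C, eval_one,
    smul_eq_mul]
  split_ifs with had
  · obtain ⟨n, hn⟩ := Int.eq_ofNat_of_zero_le (sub_nonneg.2 had)
    have h1 : (d : ℚ) - a + 1 = ((n + 1 : ℕ) : ℚ) := by
      have : ((d - a : ℤ) : ℚ) = (n : ℚ) := by rw [hn]; simp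
      push_cast at this ⊢
      rw [this]
    rw [h1, ascPochhammer_nat_eq_natCast_ascFactorial, Nat.ascFactorial_eq_factorial_mul_choose, hn]
    simp only [Int.toNat_natCast, Nat.cast_mul, Int.cast_natCast]
    rw [← mul_assoc, inv_mul_cancel₀ hne, one_mul, add_comm]
  · push Not at had
    obtain ⟨j, hj⟩ := Int.eq_ofNat_of_zero_le (show 0 ≤ a - d - 1 by omega)
    have hjr : j < r := by omega
    have h1 : (d : ℚ) - a + 1 = -((j : ℕ) : ℚ) := by
      have : ((a - d - 1 : ℤ) : ℚ) = (j : ℚ) := by rw [hj]; simp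
      push_cast at this
      linarith
    rw [h1, ascPochhammer_eval_neg_coe_nat_of_lt hjr]
    simp

/-- the Hilbert polynomial from a finite graded free resolution -/
theorem exists_hilbertPoly (k : Type u) [Field k] (r : ℕ)
    (M : Type u) [AddCommGroup M] [Module k M] [Module (MvPolynomial (Fin (r + 1)) k) M]
    [IsScalarTower k (MvPolynomial (Fin (r + 1)) k) M]
    (ℳ : ℤ → Submodule k M) [DirectSum.Decomposition ℳ]
    [SetLike.GradedSMul (GrSyz.stdGr k (Fin (r + 1))) ℳ]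
    (F : GrSyz.FreeRes (GrSyz.stdGr k (Fin (r + 1))) ℳ) (m : ℕ) (hF : F.HasLengthLE m) :
    ∃ P : Polynomial ℚ, ∀ d : ℤ, (∀ (i : ℕ) (b : Fin (F.rk i)), F.deg i b - (r : ℤ) ≤ d) →
      ((Module.finrank k ↥(ℳ d) : ℤ) : ℚ) = P.eval (d : ℚ) := by
  refine ⟨∑ i ∈ Finset.range (m + 1), C ((-1 : ℚ) ^ i) * ∑ b : Fin (F.rk i),
    binomPoly r (F.deg i b), fun d hd => ?_⟩
  rw [Groth.Agent.Lib.GrHilb.hilbert_stdGr k r M ℳ F m hF d]
  rw [eval_finsetSum]
  push_cast
  refine Finset.sum_congr rfl fun i _ => ?_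
  rw [eval_mul, eval_C, eval_finsetSum]
  congr 1
  refine Finset.sum_congr rfl fun b _ => ?_
  rw [eval_binomPoly r (F.deg i b) d (hd i b)]
  push_cast
  rfl

end Groth.Agent.Lib.GrHilbPoly
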