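import Mathlib
import Groth.Agent.Lib.GrCmp

/-!
# Regularity via a minimal resolution (helper12)

`reg_eq`: `GrSyz.reg = ⨆ i, (maxGenDeg i - i)` for any minimal graded free resolution over `k[x_0..x_r]`;
`isRegLE_iff_isGenLE`, `isGenLE_iff`, `iInf_int_ge`.
-/


set_option autoImplicit false
set_option linter.unusedSectionVars false

namespace Groth.Agent.Lib.GrReg

universe u

lemma eq_bot_of_forall_le (x : WithBot (WithTop ℤ))
    (hle : ∀ r : ℤ, x ≤ ((r : WithTop ℤ) : WithBot (WithTop ℤ))) : x = ⊥ := by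
  induction x with
  | bot => rfl
  | coe y =>
    exfalso
    induction y with
    | top =>
      have := hle 0
      rw [WithBot.coe_le_coe, top_le_iff] at this
      exact WithTop.coe_ne_top this
    | coe z =>
      have := hle (z - 1)
      rw [WithBot.coe_le_coe, WithTop.coe_le_coe] at this
      omega

/-- an element of `WithBot (WithTop ℤ)` is the infimum of the integers above it -/
theorem iInf_int_ge (S : WithBot (WithTop ℤ)) :
    ⨅ (r : ℤ) (_ : S ≤ ((r : WithTop ℤ) : WithBot (WithTop ℤ))),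
      ((r : WithTop ℤ) : WithBot (WithTop ℤ)) = S := by
  apply le_antisymm
  · induction S with
    | bot =>
      refine le_of_eq (eq_bot_of_forall_le _ fun r => ?_)
      exact iInf₂_le (f := fun (r : ℤ) (_ : (⊥ : WithBot (WithTop ℤ)) ≤
          ((r : WithTop ℤ) : WithBot (WithTop ℤ))) => ((r : WithTop ℤ) : WithBot (WithTop ℤ))) r bot_le
    | coe y =>
      induction y with
      | top =>
        rw [WithBot.coe_top]
        exact le_top
      | coe s =>
        exact iInf₂_le (f := fun (r : ℤ) (_ : (((s : ℤ) : WithTop ℤ) : WithBot (WithTop ℤ)) ≤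
          ((r : WithTop ℤ) : WithBot (WithTop ℤ))) => ((r : WithTop ℤ) : WithBot (WithTop ℤ))) s le_rfl
  · exact le_iInf₂ fun r hr => hr

section

variable {R : Type u} [CommRing R] {σ' : Type u} [SetLike σ' R] [AddSubgroupClass σ' R]
  {𝒜 : ℤ → σ'}
  {M : Type u} [AddCommGroup M] [Module R M] {τ : Type u} [SetLike τ M] [AddSubgroupClass τ M]
  {ℳ : ℤ → τ} [DirectSum.Decomposition ℳ] [SetLike.GradedSMul 𝒜 ℳ] (F : GrSyz.FreeRes 𝒜 ℳ)

lemma map_le_iff (x : WithBot ℤ) (i : ℕ) (r : ℤ) :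
    WithBot.map (fun t : ℤ => ((t - (i : ℤ) : ℤ) : WithTop ℤ)) x ≤
      ((r : WithTop ℤ) : WithBot (WithTop ℤ)) ↔ x ≤ ((r + i : ℤ) : WithBot ℤ) := by
  induction x with
  | bot => simp
  | coe t =>
    rw [WithBot.map_coe, WithBot.coe_le_coe, WithTop.coe_le_coe, WithBot.coe_le_coe,
      sub_le_iff_le_add]

theorem isGenLE_iff (r : ℤ) :
    F.IsGenLE r ↔ (⨆ i : ℕ, WithBot.map (fun t : ℤ => ((t - (i : ℤ) : ℤ) : WithTop ℤ))
      (F.maxGenDeg i)) ≤ ((r : WithTop ℤ) : WithBot (WithTop ℤ)) := by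
  rw [iSup_le_iff]
  refine forall_congr' fun i => ?_
  rw [map_le_iff]
  unfold GrSyz.FreeRes.maxGenDeg
  rw [Finset.sup_le_iff]
  constructor
  · intro h b _
    exact WithBot.coe_le_coe.2 (h b)
  · intro h b
    exact WithBot.coe_le_coe.1 (h b (Finset.mem_univ b))

end

section Std

variable {k : Type u} [Field k] {r : ℕ}
  {M : Type u} [AddCommGroup M] [Module k M] [Module (MvPolynomial (Fin (r + 1)) k) M]
  {ℳ : ℤ → Submodule k M} [DirectSum.Decomposition ℳ]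
  [SetLike.GradedSMul (GrSyz.stdGr k (Fin (r + 1))) ℳ]

theorem isRegLE_iff_isGenLE (F : GrSyz.FreeRes (GrSyz.stdGr k (Fin (r + 1))) ℳ)
    (hF : F.IsMinimal (GrSyz.irrel (GrSyz.stdGr k (Fin (r + 1)))).toIdeal) (s : ℤ) :
    GrSyz.IsRegLE (GrSyz.stdGr k (Fin (r + 1))) ℳ
      (GrSyz.irrel (GrSyz.stdGr k (Fin (r + 1)))).toIdeal s ↔ F.IsGenLE s := by
  constructor
  · rintro ⟨G, _, hGs⟩ i b
    have h1 : 0 < F.betti i (F.deg i b) := by
      unfold GrSyz.FreeRes.betti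
      exact Finset.card_pos.2 ⟨b, Finset.mem_filter.2 ⟨Finset.mem_univ _, rfl⟩⟩
    have h2 : 0 < G.betti i (F.deg i b) :=
      lt_of_lt_of_le h1 (Groth.Agent.Lib.GrCmp.betti_le_stdGr F G hF i _)
    unfold GrSyz.FreeRes.betti at h2
    obtain ⟨c, hc⟩ := Finset.card_pos.1 h2
    rw [← (Finset.mem_filter.1 hc).2]
    exact hGs i c
  · intro h
    exact ⟨F, hF, h⟩

theorem reg_eq (F : GrSyz.FreeRes (GrSyz.stdGr k (Fin (r + 1))) ℳ)
    (hF : F.IsMinimal (GrSyz.irrel (GrSyz.stdGr k (Fin (r + 1)))).toIdeal) :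
    GrSyz.reg (GrSyz.stdGr k (Fin (r + 1))) ℳ (GrSyz.irrel (GrSyz.stdGr k (Fin (r + 1)))).toIdeal =
      ⨆ i : ℕ, WithBot.map (fun t : ℤ => ((t - (i : ℤ) : ℤ) : WithTop ℤ)) (F.maxGenDeg i) := by
  unfold GrSyz.reg
  rw [← iInf_int_ge (⨆ i : ℕ, WithBot.map (fun t : ℤ => ((t - (i : ℤ) : ℤ) : WithTop ℤ))
    (F.maxGenDeg i))]
  refine iInf_congr fun s => ?_
  refine iInf_congr_Prop ?_ fun _ => rfl
  rw [isRegLE_iff_isGenLE F hF, isGenLE_iff]

end Std

end Groth.Agent.Lib.GrReg
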