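import Mathlib
import Groth.Agent.Lib.GrVanish
import Groth.Agent.Lib.GrHilbPoly
import Groth.Agent.Lib.GrReg
import Groth.Prelude.Def_GrLC

/-!
# Regularity of graded modules of finite length (helper12)

* `eventually_eq_bot`: a graded `k[x_0..x_n]`-module that is Artinian has `M_d = 0` for `d ≫ 0`.
* `finite_piece`: the graded pieces of a module with a graded free resolution are finite dimensional.
* `eq_bot_of_isGenLE`: if `M` is Artinian with a minimal resolution generated in degrees `≤ s + i`, then `M_d = 0`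
  for `d > s` (Hilbert polynomial argument).
* `isGenLE_iff`: for Artinian `M` and minimal `F`: `F.IsGenLE s ↔ ∀ d > s, M_d = 0`.
* `reg_eq_endDeg`: `GrSyz.reg = GrLC.endDeg` for finite length `M`.
-/

set_option autoImplicit false
set_option linter.unusedSectionVars false

open DirectSum

namespace Groth.Agent.Lib.GrFinLen

open Groth.Agent.Lib.GrFree

universe u

variable {k : Type u} [Field k] {n : ℕ}
  {M : Type u} [AddCommGroup M] [Module k M] [Module (MvPolynomial (Fin (n + 1)) k) M]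
  [IsScalarTower k (MvPolynomial (Fin (n + 1)) k) M]
  {ℳ : ℤ → Submodule k M} [DirectSum.Decomposition ℳ]
  [SetLike.GradedSMul (GrSyz.stdGr k (Fin (n + 1))) ℳ]

/-- the submodule generated by the pieces of degree `≥ d` -/
noncomputable def tail (ℳ : ℤ → Submodule k M) (d : ℤ) : Submodule (MvPolynomial (Fin (n + 1)) k) M :=
  Submodule.span _ (⋃ j : {j : ℤ // d ≤ j}, (ℳ j.1 : Set M))

lemma tail_anti {d d' : ℤ} (h : d ≤ d') : tail (n := n) ℳ d' ≤ tail (n := n) ℳ d := by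
  apply Submodule.span_mono
  intro x hx
  rw [Set.mem_iUnion] at hx ⊢
  obtain ⟨⟨j, hj⟩, hx⟩ := hx
  exact ⟨⟨j, le_trans h hj⟩, hx⟩

lemma mem_tail {d : ℤ} {x : M} (hx : x ∈ ℳ d) : x ∈ tail (n := n) ℳ d :=
  Submodule.subset_span (Set.mem_iUnion.2 ⟨⟨d, le_rfl⟩, hx⟩)

/-- elements of `tail (d+1)` have no component in degree `d` -/
lemma decompose_eq_zero_of_mem_tail {d : ℤ} {z : M} (hz : z ∈ tail (n := n) ℳ (d + 1)) :
    (decompose ℳ z d : M) = 0 := by
  classical
  obtain ⟨N, f, g, rfl⟩ := Submodule.mem_span_set'.1 hz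
  rw [decompose_sum, DFinsupp.finsetSum_apply, AddSubmonoidClass.coe_finsetSum]
  refine Finset.sum_eq_zero fun i _ => ?_
  obtain ⟨⟨j, hj⟩, hgj⟩ := Set.mem_iUnion.1 (g i).2
  rw [decompose_smul_of_mem (GrSyz.stdGr k (Fin (n + 1))) ℳ hgj]
  have : ((decompose (GrSyz.stdGr k (Fin (n + 1))) (f i) (d - j) :
      GrSyz.stdGr k (Fin (n + 1)) (d - j)) : MvPolynomial (Fin (n + 1)) k) = 0 :=
    Groth.Agent.Lib.GrSyzBasic.eq_zero_of_mem_stdGr_neg k (Fin (n + 1)) (by omega)
      (decompose (GrSyz.stdGr k (Fin (n + 1))) (f i) (d - j)).2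
  rw [this, zero_smul]

theorem eventually_eq_bot [IsArtinian (MvPolynomial (Fin (n + 1)) k) M] :
    ∃ d₀ : ℤ, ∀ d : ℤ, d₀ ≤ d → ℳ d = ⊥ := by
  let f : ℕ →o (Submodule (MvPolynomial (Fin (n + 1)) k) M)ᵒᵈ :=
    ⟨fun m => OrderDual.toDual (tail (n := n) ℳ (m : ℤ)), fun a b hab =>
      OrderDual.toDual_le_toDual.2 (tail_anti (by exact_mod_cast hab))⟩
  obtain ⟨N, hN⟩ := IsArtinian.monotone_stabilizes f
  refine ⟨N, fun d hd => ?_⟩
  rw [eq_bot_iff]
  intro y hy
  rw [Submodule.mem_bot]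
  obtain ⟨m, rfl⟩ : ∃ m : ℕ, d = (m : ℤ) := ⟨d.toNat, by omega⟩
  have hNm : N ≤ m := by exact_mod_cast hd
  have h1 : tail (n := n) ℳ (N : ℤ) = tail (n := n) ℳ (m : ℤ) := by
    have := hN m hNm
    exact OrderDual.toDual.injective this
  have h2 : tail (n := n) ℳ (N : ℤ) = tail (n := n) ℳ ((m + 1 : ℕ) : ℤ) := by
    have := hN (m + 1) (by omega)
    exact OrderDual.toDual.injective this
  have h3 : y ∈ tail (n := n) ℳ ((m : ℤ) + 1) := by
    have : y ∈ tail (n := n) ℳ (m : ℤ) := mem_tail hy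
    rw [← h1, h2] at this
    exact_mod_cast this
  rw [← decompose_of_mem_same ℳ hy]
  exact decompose_eq_zero_of_mem_tail h3

/-- the graded pieces of a module with a graded free resolution are finite dimensional -/
theorem finite_piece (F : GrSyz.FreeRes (GrSyz.stdGr k (Fin (n + 1))) ℳ) (d : ℤ) :
    Module.Finite k (ℳ d) :=
  Module.Finite.of_surjective
    (Groth.Agent.Lib.GrHilb.augK (GrSyz.stdGr k (Fin (n + 1))) ℳ (F.deg 0) F.aug F.aug_mem d)
    (Groth.Agent.Lib.GrHilb.augK_surjective (GrSyz.stdGr k (Fin (n + 1))) ℳ (F.deg 0) F.aug F.aug_mem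
      F.aug_surjective d)

theorem eq_bot_of_isGenLE [Module.Finite (MvPolynomial (Fin (n + 1)) k) M]
    [IsArtinian (MvPolynomial (Fin (n + 1)) k) M]
    (F : GrSyz.FreeRes (GrSyz.stdGr k (Fin (n + 1))) ℳ)
    (hF : F.IsMinimal (GrSyz.irrel (GrSyz.stdGr k (Fin (n + 1)))).toIdeal) (s : ℤ)
    (hs : F.IsGenLE s) (d : ℤ) (hd : s < d) : ℳ d = ⊥ := by
  have hlen := Groth.Agent.Lib.GrSyzygy.hasLengthLE_of_isMinimal k n M ℳ F hF
  obtain ⟨P, hP⟩ := Groth.Agent.Lib.GrHilbPoly.exists_hilbertPoly k n M ℳ F (n + 1) hlen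
  have hcond : ∀ e : ℤ, s < e → ∀ (i : ℕ) (b : Fin (F.rk i)), F.deg i b - (n : ℤ) ≤ e := by
    intro e he i b
    have h1 := hs i b
    by_cases hi : n + 1 < i
    · exact Fin.elim0 (hlen i hi ▸ b)
    · have : (i : ℤ) ≤ n + 1 := by exact_mod_cast (not_lt.1 hi)
      omega
  obtain ⟨d₀, hd₀⟩ := eventually_eq_bot (n := n) (ℳ := ℳ)
  have hP0 : P = 0 := by
    apply Polynomial.eq_zero_of_infinite_isRoot
    let D : ℤ := max d₀ (s + 1)
    refine Set.infinite_of_injective_forall_mem (f := fun m : ℕ => ((D + m : ℤ) : ℚ)) ?_ ?_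
    · intro a b hab
      simp only [Int.cast_add, Int.cast_natCast, add_right_inj, Nat.cast_inj] at hab
      exact hab
    · intro m
      show Polynomial.IsRoot P _
      rw [Polynomial.IsRoot.def, ← hP (D + m) (hcond _ (by omega))]
      rw [hd₀ (D + m) (by omega)]
      simp
  have h1 := hP d (hcond d hd)
  rw [hP0, Polynomial.eval_zero] at h1
  have h2 : Module.finrank k (ℳ d) = 0 := by exact_mod_cast h1
  have := finite_piece F d
  exact Submodule.finrank_eq_zero.1 h2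

theorem isGenLE_iff [Module.Finite (MvPolynomial (Fin (n + 1)) k) M]
    [IsArtinian (MvPolynomial (Fin (n + 1)) k) M]
    (F : GrSyz.FreeRes (GrSyz.stdGr k (Fin (n + 1))) ℳ)
    (hF : F.IsMinimal (GrSyz.irrel (GrSyz.stdGr k (Fin (n + 1)))).toIdeal) (s : ℤ) :
    F.IsGenLE s ↔ ∀ d : ℤ, s < d → ℳ d = ⊥ :=
  ⟨fun hs d hd => eq_bot_of_isGenLE F hF s hs d hd,
    fun h => Groth.Agent.Lib.GrVanish.isGenLE_of_forall_eq_bot F hF s h⟩

lemma endDeg_le_iff (s : ℤ) :
    GrLC.endDeg (fun d => (ℳ d).toAddSubgroup) ≤ ((s : WithTop ℤ) : WithBot (WithTop ℤ)) ↔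
      ∀ d : ℤ, s < d → ℳ d = ⊥ := by
  unfold GrLC.endDeg
  rw [iSup₂_le_iff]
  constructor
  · intro h d hd
    by_contra hne
    have := h d (by
      intro h0
      apply hne
      apply Submodule.toAddSubgroup_injective
      rw [Submodule.bot_toAddSubgroup]
      exact h0)
    rw [WithBot.coe_le_coe, WithTop.coe_le_coe] at this
    omega
  · intro h d hne
    rw [WithBot.coe_le_coe, WithTop.coe_le_coe]
    by_contra hlt
    push Not at hlt
    apply hne
    show (ℳ d).toAddSubgroup = ⊥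
    rw [h d hlt, Submodule.bot_toAddSubgroup]

theorem reg_eq_endDeg [Module.Finite (MvPolynomial (Fin (n + 1)) k) M]
    [IsArtinian (MvPolynomial (Fin (n + 1)) k) M] :
    GrSyz.reg (GrSyz.stdGr k (Fin (n + 1))) ℳ (GrSyz.irrel (GrSyz.stdGr k (Fin (n + 1)))).toIdeal =
      GrLC.endDeg (fun d => (ℳ d).toAddSubgroup) := by
  obtain ⟨F, hF⟩ := Groth.Agent.Lib.GrFreeRes.exists_freeRes_isMinimal k n M ℳ
  unfold GrSyz.reg
  rw [← Groth.Agent.Lib.GrReg.iInf_int_ge (GrLC.endDeg (fun d => (ℳ d).toAddSubgroup))]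
  refine iInf_congr fun s => ?_
  refine iInf_congr_Prop ?_ fun _ => rfl
  rw [Groth.Agent.Lib.GrReg.isRegLE_iff_isGenLE F hF, isGenLE_iff F hF, endDeg_le_iff]

end Groth.Agent.Lib.GrFinLen
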