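import Mathlib
import Groth.Agent.Lib.GrFinLen

/-!
# Length of a graded module over `k[x_0..x_n]` via its graded pieces (helper12)

`tail 𝒩 j` (from `GrFinLen`) is the submodule generated by the pieces of degree `≥ j`.

* `coe_decompose_zero`: the degree-zero component of a polynomial is its constant term.
* `decompose_smul_of_mem_tail`: for `x ∈ tail j`, `(s • x)_j = s(0) • x_j`.
* `length_tail`: `length (tail j) = length (tail (j+1)) + dim_k N_j`.
* `length_tail_sum`: `length (tail a) = length (tail (a + m)) + ∑_{i<m} dim_k N_{a+i}`.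
* `tail_eq_top`, `tail_eq_bot`.
-/

set_option autoImplicit false
set_option linter.unusedSectionVars false

open DirectSum MvPolynomial

namespace Groth.Agent.Lib.GrLength

open Groth.Agent.Lib.GrFree Groth.Agent.Lib.GrFinLen

universe u

variable {k : Type u} [Field k] {n : ℕ}
  {N : Type u} [AddCommGroup N] [Module k N] [Module (MvPolynomial (Fin (n + 1)) k) N]
  [IsScalarTower k (MvPolynomial (Fin (n + 1)) k) N]
  {𝒩 : ℤ → Submodule k N} [DirectSum.Decomposition 𝒩]
  [SetLike.GradedSMul (GrSyz.stdGr k (Fin (n + 1))) 𝒩]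

/-- the degree-zero component of a polynomial is its constant term -/
lemma coe_decompose_zero (p : MvPolynomial (Fin (n + 1)) k) :
    ((decompose (GrSyz.stdGr k (Fin (n + 1))) p 0 : GrSyz.stdGr k (Fin (n + 1)) 0) :
      MvPolynomial (Fin (n + 1)) k) = C (constantCoeff p) := by
  classical
  have h0 := Groth.Agent.Lib.GrSyzBasic.eq_C_of_mem_stdGr_zero k (Fin (n + 1))
    (decompose (GrSyz.stdGr k (Fin (n + 1))) p 0).2
  rw [h0]
  congr 1
  conv_rhs => rw [← sum_support_decompose (GrSyz.stdGr k (Fin (n + 1))) p]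
  rw [map_sum]
  by_cases hs : (0 : ℤ) ∈ (decompose (GrSyz.stdGr k (Fin (n + 1))) p).support
  · rw [Finset.sum_eq_single_of_mem 0 hs]
    intro i _ hi
    exact Groth.Agent.Lib.GrSyzBasic.constantCoeff_eq_zero_of_mem_stdGr k (Fin (n + 1)) hi
      (decompose (GrSyz.stdGr k (Fin (n + 1))) p i).2
  · rw [DFinsupp.notMem_support_iff] at hs
    rw [hs, Finset.sum_eq_zero]
    · simp
    · intro i hi
      have hi0 : i ≠ 0 := by
        rintro rfl
        exact (DFinsupp.mem_support_iff.1 hi) hs
      exact Groth.Agent.Lib.GrSyzBasic.constantCoeff_eq_zero_of_mem_stdGr k (Fin (n + 1)) hi0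
        (decompose (GrSyz.stdGr k (Fin (n + 1))) p i).2

lemma C_smul' (c : k) (x : N) : (C c : MvPolynomial (Fin (n + 1)) k) • x = c • x := by
  rw [← MvPolynomial.algebraMap_eq, algebraMap_smul]

/-- for `x` in the `j`-th tail, the degree `j` component of `s • x` is `s(0) • x_j` -/
lemma decompose_smul_of_mem_tail {j : ℤ} {x : N} (hx : x ∈ tail (n := n) 𝒩 j)
    (s : MvPolynomial (Fin (n + 1)) k) :
    (decompose 𝒩 (s • x) j : N) = constantCoeff s • (decompose 𝒩 x j : N) := by
  classical
  obtain ⟨m, f, g, rfl⟩ := Submodule.mem_span_set'.1 hx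
  rw [Finset.smul_sum, decompose_sum, decompose_sum, DFinsupp.finsetSum_apply,
    DFinsupp.finsetSum_apply, AddSubmonoidClass.coe_finsetSum, AddSubmonoidClass.coe_finsetSum,
    Finset.smul_sum]
  refine Finset.sum_congr rfl fun i _ => ?_
  obtain ⟨⟨e, he⟩, hge⟩ := Set.mem_iUnion.1 (g i).2
  rw [smul_smul, decompose_smul_of_mem (GrSyz.stdGr k (Fin (n + 1))) 𝒩 hge,
    decompose_smul_of_mem (GrSyz.stdGr k (Fin (n + 1))) 𝒩 hge]
  by_cases hej : e = j
  · subst hej
    rw [sub_self, coe_decompose_zero, coe_decompose_zero, map_mul, C_smul', C_smul', mul_smul]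
  · have hneg : j - e < 0 := by omega
    have h1 := Groth.Agent.Lib.GrSyzBasic.eq_zero_of_mem_stdGr_neg k (Fin (n + 1)) hneg
      (decompose (GrSyz.stdGr k (Fin (n + 1))) (s * f i) (j - e)).2
    have h2 := Groth.Agent.Lib.GrSyzBasic.eq_zero_of_mem_stdGr_neg k (Fin (n + 1)) hneg
      (decompose (GrSyz.stdGr k (Fin (n + 1))) (f i) (j - e)).2
    rw [h1, h2, zero_smul, smul_zero]

/-- an element of the `j`-th tail whose degree `j` component vanishes lies in the `(j+1)`-st tail -/
lemma mem_tail_succ {j : ℤ} {x : N} (hx : x ∈ tail (n := n) 𝒩 j)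
    (h0 : (decompose 𝒩 x j : N) = 0) : x ∈ tail (n := n) 𝒩 (j + 1) := by
  classical
  rw [← sum_support_decompose 𝒩 x]
  refine Submodule.sum_mem _ fun i hi => ?_
  by_cases hij : j + 1 ≤ i
  · exact tail_anti hij (mem_tail (decompose 𝒩 x i).2)
  · exfalso
    apply DFinsupp.mem_support_iff.1 hi
    apply Subtype.ext
    rw [ZeroMemClass.coe_zero]
    by_cases hji : i = j
    · rw [hji]; exact h0
    · -- `i < j`: no component
      have hlt : i < j := by omega
      have hx' : x ∈ tail (n := n) 𝒩 (i + 1) := tail_anti (by omega) hx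
      exact decompose_eq_zero_of_mem_tail hx'

theorem length_tail (j : ℤ) [Module.Finite k (𝒩 j)] :
    Module.length (MvPolynomial (Fin (n + 1)) k) (tail (n := n) 𝒩 j) =
      Module.length (MvPolynomial (Fin (n + 1)) k) (tail (n := n) 𝒩 (j + 1)) +
        (Module.finrank k (𝒩 j) : ℕ∞) := by
  classical
  let inst : Module (MvPolynomial (Fin (n + 1)) k) (𝒩 j) :=
    Module.compHom (𝒩 j) (constantCoeff : MvPolynomial (Fin (n + 1)) k →+* k)
  have hsmul : ∀ (s : MvPolynomial (Fin (n + 1)) k) (y : 𝒩 j), s • y = constantCoeff s • y :=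
    fun _ _ => rfl
  let f : tail (n := n) 𝒩 (j + 1) →ₗ[MvPolynomial (Fin (n + 1)) k] tail (n := n) 𝒩 j :=
    Submodule.inclusion (tail_anti (by omega))
  let g : tail (n := n) 𝒩 j →ₗ[MvPolynomial (Fin (n + 1)) k] 𝒩 j :=
    { toFun := fun x => decompose 𝒩 x.1 j
      map_add' := fun x y => by
        rw [Submodule.coe_add, decompose_add, DirectSum.add_apply]
      map_smul' := fun s x => by
        apply Subtype.ext
        rw [RingHom.id_apply, hsmul, Submodule.coe_smul, Submodule.coe_smul]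
        exact decompose_smul_of_mem_tail x.2 s }
  have hf : Function.Injective f := Submodule.inclusion_injective _
  have hg : Function.Surjective g := by
    intro y
    refine ⟨⟨y.1, mem_tail y.2⟩, ?_⟩
    apply Subtype.ext
    show (decompose 𝒩 y.1 j : N) = y.1
    exact decompose_of_mem_same 𝒩 y.2
  have hex : Function.Exact f g := by
    intro x
    constructor
    · intro hx
      have h0 : (decompose 𝒩 x.1 j : N) = 0 := congrArg Subtype.val hx
      exact ⟨⟨x.1, mem_tail_succ x.2 h0⟩, Subtype.ext rfl⟩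
    · rintro ⟨y, rfl⟩
      apply Subtype.ext
      show (decompose 𝒩 y.1 j : N) = 0
      exact decompose_eq_zero_of_mem_tail y.2
  rw [Module.length_eq_add_of_exact f g hf hg hex]
  congr 1
  let alg : Algebra (MvPolynomial (Fin (n + 1)) k) k :=
    (constantCoeff : MvPolynomial (Fin (n + 1)) k →+* k).toAlgebra
  have : IsScalarTower (MvPolynomial (Fin (n + 1)) k) k (𝒩 j) :=
    ⟨fun s c y => by
      rw [hsmul]
      show (constantCoeff s * c) • y = constantCoeff s • c • y
      rw [mul_smul]⟩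
  have hsurj : Function.Surjective (algebraMap (MvPolynomial (Fin (n + 1)) k) k) := by
    intro c
    exact ⟨C c, constantCoeff_C _ c⟩
  rw [Module.length_eq_of_surjective (S := MvPolynomial (Fin (n + 1)) k) (R := k) (M := 𝒩 j) hsurj,
    Module.length_eq_finrank]

theorem length_tail_sum (a : ℤ) (m : ℕ) [∀ j, Module.Finite k (𝒩 j)] :
    Module.length (MvPolynomial (Fin (n + 1)) k) (tail (n := n) 𝒩 a) =
      Module.length (MvPolynomial (Fin (n + 1)) k) (tail (n := n) 𝒩 (a + m)) +
        ((∑ i ∈ Finset.range m, Module.finrank k (𝒩 (a + i)) : ℕ) : ℕ∞) := by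
  induction m with
  | zero =>
    have h : a + ((0 : ℕ) : ℤ) = a := by simp
    rw [h]
    simp
  | succ m ih =>
    rw [ih, length_tail (a + m), Finset.sum_range_succ]
    push_cast
    have : a + (m : ℤ) + 1 = a + ((m : ℤ) + 1) := by ring
    rw [this]
    ring

lemma tail_eq_top (a : ℤ) (h : ∀ j, j < a → 𝒩 j = ⊥) : tail (n := n) 𝒩 a = ⊤ := by
  classical
  rw [eq_top_iff]
  intro x _
  rw [← sum_support_decompose 𝒩 x]
  refine Submodule.sum_mem _ fun i hi => ?_
  by_cases hia : a ≤ i
  · exact tail_anti hia (mem_tail (decompose 𝒩 x i).2)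
  · have h0 : (decompose 𝒩 x i : N) ∈ (⊥ : Submodule k N) := h i (by omega) ▸ (decompose 𝒩 x i).2
    rw [(Submodule.mem_bot k).1 h0]
    exact Submodule.zero_mem _

lemma tail_eq_bot (b : ℤ) (h : ∀ j, b ≤ j → 𝒩 j = ⊥) : tail (n := n) 𝒩 b = ⊥ := by
  rw [eq_bot_iff]
  apply Submodule.span_le.2
  intro x hx
  obtain ⟨⟨j, hj⟩, hxj⟩ := Set.mem_iUnion.1 hx
  have : x ∈ (⊥ : Submodule k N) := h j hj ▸ hxj
  rw [(Submodule.mem_bot k).1 this]
  exact Submodule.zero_mem _

/-- the length of a graded module concentrated in degrees `[a, a + m)` is the sum of the dimensions of its pieces -/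
theorem length_eq_sum (a : ℤ) (m : ℕ) [∀ j, Module.Finite k (𝒩 j)]
    (hlow : ∀ j, j < a → 𝒩 j = ⊥) (hhigh : ∀ j, a + m ≤ j → 𝒩 j = ⊥) :
    Module.length (MvPolynomial (Fin (n + 1)) k) N =
      ((∑ i ∈ Finset.range m, Module.finrank k (𝒩 (a + i)) : ℕ) : ℕ∞) := by
  rw [← Module.length_top (R := MvPolynomial (Fin (n + 1)) k) (M := N), ← tail_eq_top a hlow,
    length_tail_sum a m, tail_eq_bot _ hhigh, Module.length_bot, zero_add]

end Groth.Agent.Lib.GrLength
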