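import Mathlib
import Groth.Agent.Lib.GrLength

/-!
# Cyclic graded modules over `k[x_0..x_n]` generated in degree zero (helper12)

`N` is a graded module generated by `ν ∈ N_0` (a standard graded algebra quotient of the polynomial ring).

* `exists_smul_of_mem`: `N_j = S_j • ν`.
* `eq_bot_of_neg`, `eq_bot_succ`, `eq_bot_of_le`: `N_j = 0` for `j < 0`; `N_j = 0 ⇒ N_{j'} = 0` for `j' ≥ j ≥ 0`.
* `exists_X_decomp`: a form of degree `j + 1` is `∑ X_i q_i` with `q_i` of degree `j`.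
* `le_finrank_one`: `n + 1 - dim V ≤ dim N_1` if the linear forms killing `ν` lie in `V`.
* `add_le_length`: `d + c ≤ length N` when `N_d ≠ 0` is the top degree and `c ≤ dim N_1`.
-/

set_option autoImplicit false
set_option linter.unusedSectionVars false

open DirectSum MvPolynomial

namespace Groth.Agent.Lib.GrCyclic

open Groth.Agent.Lib.GrFree Groth.Agent.Lib.GrFinLen Groth.Agent.Lib.GrLength

universe u

variable {k : Type u} [Field k] {n : ℕ}
  {N : Type u} [AddCommGroup N] [Module k N] [Module (MvPolynomial (Fin (n + 1)) k) N]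
  [IsScalarTower k (MvPolynomial (Fin (n + 1)) k) N]
  {𝒩 : ℤ → Submodule k N} [DirectSum.Decomposition 𝒩]
  [SetLike.GradedSMul (GrSyz.stdGr k (Fin (n + 1))) 𝒩]

/-- a form of degree `j + 1` is a combination of the variables with coefficients of degree `j` -/
theorem exists_X_decomp {j : ℤ} (hj : 0 ≤ j) {p : MvPolynomial (Fin (n + 1)) k}
    (hp : p ∈ GrSyz.stdGr k (Fin (n + 1)) (j + 1)) :
    ∃ q : Fin (n + 1) → MvPolynomial (Fin (n + 1)) k, (∀ i, q i ∈ GrSyz.stdGr k (Fin (n + 1)) j) ∧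
      p = ∑ i, X i * q i := by
  classical
  have h0 : constantCoeff p = 0 :=
    Groth.Agent.Lib.GrSyzBasic.constantCoeff_eq_zero_of_mem_stdGr k (Fin (n + 1)) (by omega) hp
  have h1 : p ∈ Groth.Agent.Lib.GrSyzygy.Ij k n (n + 1) := by
    rw [Groth.Agent.Lib.GrSyzygy.Ij_top]; exact h0
  unfold Groth.Agent.Lib.GrSyzygy.Ij at h1
  have hset : {i : Fin (n + 1) | i.val < n + 1} = Set.univ := by
    ext i
    simp only [Set.mem_ofPred_eq, Set.mem_univ, iff_true]
    exact i.2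
  rw [hset, Set.image_univ] at h1
  obtain ⟨c, hc⟩ := Ideal.mem_span_range_iff_exists_fun.1 h1
  refine ⟨fun i => (decompose (GrSyz.stdGr k (Fin (n + 1))) (c i) j : MvPolynomial (Fin (n + 1)) k),
    fun i => (decompose (GrSyz.stdGr k (Fin (n + 1))) (c i) j).2, ?_⟩
  have hX : ∀ i : Fin (n + 1), (X i : MvPolynomial (Fin (n + 1)) k) ∈ GrSyz.stdGr k (Fin (n + 1)) 1 :=
    fun i => MvPolynomial.isWeightedHomogeneous_X k (fun _ : Fin (n + 1) => (1 : ℤ)) i
  calc p = (decompose (GrSyz.stdGr k (Fin (n + 1))) p (j + 1) : MvPolynomial (Fin (n + 1)) k) :=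
        (decompose_of_mem_same _ hp).symm
    _ = ∑ i, (decompose (GrSyz.stdGr k (Fin (n + 1))) (c i * X i) (j + 1) :
          MvPolynomial (Fin (n + 1)) k) := by
        rw [← hc, decompose_sum, DFinsupp.finsetSum_apply, AddSubmonoidClass.coe_finsetSum]
    _ = ∑ i, X i * (decompose (GrSyz.stdGr k (Fin (n + 1))) (c i) j : MvPolynomial (Fin (n + 1)) k) := by
        refine Finset.sum_congr rfl fun i _ => ?_
        rw [mul_comm (c i), add_comm j 1]
        exact coe_decompose_mul_add_of_left_mem _ (hX i)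

variable (ν : N) (hν0 : ν ∈ 𝒩 0) (hν : ∀ x : N, ∃ s : MvPolynomial (Fin (n + 1)) k, s • ν = x)

include hν0 hν in
theorem exists_smul_of_mem {j : ℤ} {x : N} (hx : x ∈ 𝒩 j) :
    ∃ p ∈ GrSyz.stdGr k (Fin (n + 1)) j, p • ν = x := by
  obtain ⟨s, rfl⟩ := hν x
  refine ⟨(decompose (GrSyz.stdGr k (Fin (n + 1))) s j : MvPolynomial (Fin (n + 1)) k),
    (decompose (GrSyz.stdGr k (Fin (n + 1))) s j).2, ?_⟩
  have h := decompose_smul_of_mem (GrSyz.stdGr k (Fin (n + 1))) 𝒩 hν0 s j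
  rw [sub_zero] at h
  rw [← h]
  exact decompose_of_mem_same 𝒩 hx

include hν0 hν in
theorem eq_bot_of_neg {j : ℤ} (hj : j < 0) : 𝒩 j = ⊥ := by
  rw [eq_bot_iff]
  intro x hx
  obtain ⟨p, hp, rfl⟩ := exists_smul_of_mem ν hν0 hν hx
  rw [Groth.Agent.Lib.GrSyzBasic.eq_zero_of_mem_stdGr_neg k (Fin (n + 1)) hj hp, zero_smul]
  exact Submodule.zero_mem _

include hν0 hν in
theorem eq_bot_succ {j : ℤ} (hj : 0 ≤ j) (h : 𝒩 j = ⊥) : 𝒩 (j + 1) = ⊥ := by
  rw [eq_bot_iff]
  intro x hx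
  obtain ⟨p, hp, rfl⟩ := exists_smul_of_mem ν hν0 hν hx
  obtain ⟨q, hq, rfl⟩ := exists_X_decomp hj hp
  rw [Submodule.mem_bot, Finset.sum_smul]
  refine Finset.sum_eq_zero fun i _ => ?_
  have h1 : q i • ν ∈ 𝒩 j := by
    have := SetLike.GradedSMul.smul_mem (A := GrSyz.stdGr k (Fin (n + 1))) (B := 𝒩) (hq i) hν0
    rwa [vadd_eq_add, add_zero] at this
  rw [h, Submodule.mem_bot] at h1
  rw [mul_smul, h1, smul_zero]

include hν0 hν in
theorem eq_bot_of_le {j : ℤ} (hj : 0 ≤ j) (h : 𝒩 j = ⊥) {j' : ℤ} (hjj : j ≤ j') : 𝒩 j' = ⊥ := by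
  obtain ⟨m, rfl⟩ : ∃ m : ℕ, j' = j + m := ⟨(j' - j).toNat, by omega⟩
  clear hjj
  induction m with
  | zero => simpa using h
  | succ m ih =>
    have := eq_bot_succ ν hν0 hν (j := j + m) (by omega) ih
    have h2 : j + ((m + 1 : ℕ) : ℤ) = j + m + 1 := by push_cast; ring
    rw [h2]; exact this

/-- the `k`-linear map `S_1 → N_1`, `p ↦ p • ν` -/
noncomputable def toOne : GrSyz.stdGr k (Fin (n + 1)) 1 →ₗ[k] 𝒩 1 where
  toFun p := ⟨p.1 • ν, by
    have := SetLike.GradedSMul.smul_mem (A := GrSyz.stdGr k (Fin (n + 1))) (B := 𝒩) p.2 hν0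
    rwa [vadd_eq_add, add_zero] at this⟩
  map_add' p q := by
    apply Subtype.ext
    simp [add_smul]
  map_smul' c p := by
    apply Subtype.ext
    simp [smul_assoc]

include hν in
theorem toOne_surjective : Function.Surjective (toOne (n := n) ν hν0) := by
  intro x
  obtain ⟨p, hp, hpx⟩ := exists_smul_of_mem ν hν0 hν x.2
  exact ⟨⟨p, hp⟩, Subtype.ext hpx⟩

include hν0 hν in
/-- if the linear forms killing `ν` lie in the subspace `V`, then `n + 1 - dim V ≤ dim N_1` -/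
theorem le_finrank_one (V : Submodule k (MvPolynomial (Fin (n + 1)) k)) [Module.Finite k V]
    (hV : ∀ p ∈ GrSyz.stdGr k (Fin (n + 1)) 1, p • ν = 0 → p ∈ V) :
    n + 1 ≤ Module.finrank k (𝒩 1) + Module.finrank k V := by
  have h1 := LinearMap.finrank_range_add_finrank_ker (toOne (n := n) ν hν0)
  rw [LinearMap.range_eq_top.2 (toOne_surjective (n := n) ν hν0 hν), finrank_top] at h1
  have h2 : Module.finrank k (GrSyz.stdGr k (Fin (n + 1)) 1) = n + 1 := by
    rw [Groth.Agent.Lib.GrHilb.finrank_stdGr]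
    simp
  have h3 : Module.finrank k (LinearMap.ker (toOne (n := n) ν hν0)) ≤ Module.finrank k V := by
    let ι : LinearMap.ker (toOne (n := n) ν hν0) →ₗ[k] V :=
      { toFun := fun p => ⟨p.1.1, hV p.1.1 p.1.2 (by
          have := p.2
          rw [LinearMap.mem_ker] at this
          exact congrArg Subtype.val this)⟩
        map_add' := fun p q => rfl
        map_smul' := fun c p => rfl }
    apply LinearMap.finrank_le_finrank_of_injective (f := ι)
    intro p q hpq
    apply Subtype.ext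
    apply Subtype.ext
    have := congrArg (fun z : V => (z : MvPolynomial (Fin (n + 1)) k)) hpq
    exact this
  omega

include hν0 hν in
/-- lower bound for the length of a cyclic graded module with top degree `d` -/
theorem add_le_length [∀ j, Module.Finite k (𝒩 j)] (d : ℕ) (hd : 𝒩 d ≠ ⊥)
    (htop : ∀ j : ℤ, (d : ℤ) < j → 𝒩 j = ⊥) (ℓ : ℕ)
    (hℓ : Module.length (MvPolynomial (Fin (n + 1)) k) N = (ℓ : ℕ∞)) :
    d + Module.finrank k (𝒩 1) ≤ ℓ := by
  classical
  have hlen := length_eq_sum (n := n) (𝒩 := 𝒩) 0 (d + 1) (fun j hj => eq_bot_of_neg ν hν0 hν hj)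
    (fun j hj => htop j (by push_cast at hj; omega))
  rw [hℓ] at hlen
  have hsum : ℓ = ∑ i ∈ Finset.range (d + 1), Module.finrank k (𝒩 ((0 : ℤ) + i)) := by
    exact_mod_cast hlen
  have hpos : ∀ i ∈ Finset.range (d + 1), 1 ≤ Module.finrank k (𝒩 ((0 : ℤ) + i)) := by
    intro i hi
    rw [Finset.mem_range] at hi
    rw [Nat.one_le_iff_ne_zero]
    intro h0
    have hbot : 𝒩 ((0 : ℤ) + i) = ⊥ := Submodule.finrank_eq_zero.1 h0
    exact hd (eq_bot_of_le ν hν0 hν (by omega) hbot (by omega))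
  by_cases hd0 : d = 0
  · subst hd0
    have h1 : 𝒩 1 = ⊥ := htop 1 (by simp)
    have : Module.finrank k (𝒩 1) = 0 := by rw [h1]; exact finrank_bot k N
    omega
  · have hmem : 1 ∈ Finset.range (d + 1) := Finset.mem_range.2 (by omega)
    rw [hsum, ← Finset.sum_erase_add _ _ hmem]
    have h2 : ((Finset.range (d + 1)).erase 1).card • 1 ≤
        ∑ i ∈ (Finset.range (d + 1)).erase 1, Module.finrank k (𝒩 ((0 : ℤ) + i)) :=
      Finset.card_nsmul_le_sum _ _ 1 fun i hi => hpos i (Finset.mem_of_mem_erase hi)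
    rw [Finset.card_erase_of_mem hmem, Finset.card_range, smul_eq_mul, mul_one] at h2
    have h3 : (0 : ℤ) + ((1 : ℕ) : ℤ) = 1 := by simp
    rw [h3]
    omega

end Groth.Agent.Lib.GrCyclic
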