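import Groth.Agent.Lib.GrNoether20

/-!
# A Noetherian positively `ℤ`-graded `k`-algebra with `T_0 = k` is of finite type (helper12)
-/

set_option autoImplicit false
set_option linter.unusedSectionVars false
universe u

namespace Groth.Agent.Lib.GrFTNoeth

open DirectSum Groth.Agent.Lib.GrNoether20

variable {k : Type u} [Field k] {T : Type u} [CommRing T] [Algebra k T] (𝒯 : ℤ → Submodule k T)
  [GradedAlgebra 𝒯] (hpos : ∀ n : ℤ, n < 0 → 𝒯 n = ⊥) (h0 : 𝒯 0 = Submodule.span k {(1 : T)})

include hpos h0 in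
theorem finiteType_of_isNoetherianRing [IsNoetherianRing T] : Algebra.FiniteType k T := by
  classical
  have hfg : (irr 𝒯).FG := IsNoetherian.noetherian _
  unfold irr at hfg
  obtain ⟨F, hFsub, hFspan⟩ := (Submodule.fg_span_iff_fg_span_finset_subset _).1 hfg
  refine ⟨⟨F, ?_⟩⟩
  have hneg : ∀ (i : ℤ), i < 0 → ∀ y ∈ 𝒯 i, y = 0 := by
    intro i hi y hy
    rw [hpos i hi] at hy
    exact (Submodule.mem_bot k).1 hy
  have key : ∀ n : ℕ, ∀ y ∈ 𝒯 (n : ℤ), y ∈ Algebra.adjoin k (F : Set T) := by
    intro n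
    induction n using Nat.strong_induction_on with
    | _ n ih =>
      intro y hy
      rcases Nat.eq_zero_or_pos n with rfl | hn
      · rw [Nat.cast_zero, h0] at hy
        obtain ⟨c, rfl⟩ := Submodule.mem_span_singleton.1 hy
        rw [Algebra.smul_def, mul_one]
        exact Subalgebra.algebraMap_mem _ c
      · have hy' : y ∈ Submodule.span T (F : Set T) := by
          rw [← hFspan]
          exact Submodule.subset_span ⟨n, by exact_mod_cast hn, hy⟩
        obtain ⟨c, -, hc⟩ := (Submodule.mem_span_finset).1 hy'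
        have hy2 : y = ∑ a ∈ F, (decompose 𝒯 (c a * a) (n : ℤ) : T) := by
          conv_lhs => rw [← decompose_of_mem_same 𝒯 hy, ← hc]
          rw [decompose_sum, DFinsupp.finsetSum_apply, AddSubmonoidClass.coe_finsetSum]
          rfl
        rw [hy2]
        refine Subalgebra.sum_mem _ fun a ha => ?_
        obtain ⟨d, hd, had⟩ := hFsub ha
        have h1 := DirectSum.coe_decompose_mul_add_of_right_mem 𝒯 (i := (n : ℤ) - d) (j := d)
          (a := c a) had
        rw [sub_add_cancel] at h1
        rw [h1]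
        refine Subalgebra.mul_mem _ ?_ (Algebra.subset_adjoin ha)
        by_cases hnd : (n : ℤ) - d < 0
        · rw [hneg _ hnd _ (decompose 𝒯 (c a) ((n : ℤ) - d)).2]
          exact zero_mem _
        · push Not at hnd
          obtain ⟨m, hm⟩ := Int.eq_ofNat_of_zero_le hnd
          have hmn : m < n := by omega
          have h2 : ((decompose 𝒯 (c a) ((n : ℤ) - d) : 𝒯 ((n : ℤ) - d)) : T) ∈ 𝒯 (m : ℤ) := by
            rw [← hm]
            exact (decompose 𝒯 (c a) ((n : ℤ) - d)).2
          exact ih m hmn _ h2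
  rw [eq_top_iff]
  rintro y -
  rw [← DirectSum.sum_support_decompose 𝒯 y]
  refine Subalgebra.sum_mem _ fun i _ => ?_
  by_cases hi : i < 0
  · rw [hneg i hi _ (decompose 𝒯 y i).2]
    exact zero_mem _
  · push Not at hi
    obtain ⟨m, rfl⟩ := Int.eq_ofNat_of_zero_le hi
    exact key m _ (decompose 𝒯 y m).2

end Groth.Agent.Lib.GrFTNoeth
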