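import Groth.Agent.Lib.RelCartier
import Groth.Agent.Lib.FlatCrit

/-!
# Graded flatness criterion: algebraic core (helper88)

* `flat_quotient_pow_smul_top_of_gr`: if all `JᵏM/Jᵏ⁺¹M` are flat then all `M/JᵏM` are flat.
* `flat_quotient_of_forall_surjection`: Noetherian `J`-adic criterion in quotient form: `X` finite
  over a Noetherian `R`-algebra `C`, `𝔍 ≤ rad C`, surjections `X → Y k` with kernels inside `𝔍ᵏX`
  and `(R/K) ⊗ Y k` flat over `R/K` for all `k` ⇒ `(R/K) ⊗ X` flat over `R/K`.
* `flat_quotient_localizedModule_of_forall_surjection`: the same after localizing at a prime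
  containing `J`.
-/

set_option autoImplicit false
set_option maxHeartbeats 400000
set_option linter.unusedSectionVars false
set_option linter.style.haveILetI false
universe u

namespace Groth.Agent.Lib.GrFlatA88

open TensorProduct Function Groth.Agent.Lib.FlatCrit

section C1

variable {A B : Type*} [CommRing A] [CommRing B] [Algebra A B] {M : Type*} [AddCommGroup M]
  [Module B M] [Module A M] [IsScalarTower A B M] (J : Ideal B)

/-- If all graded pieces `JᵏM/Jᵏ⁺¹M` are flat then all truncations `M/JᵏM` are flat. -/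
theorem flat_quotient_pow_smul_top_of_gr
    (hgr : ∀ k : ℕ, Module.Flat A
      (↥(J ^ k • (⊤ : Submodule B M)) ⧸
        Submodule.comap (J ^ k • (⊤ : Submodule B M)).subtype (J ^ (k + 1) • ⊤))) :
    ∀ k : ℕ, Module.Flat A (M ⧸ (J ^ k • (⊤ : Submodule B M))) := by
  intro k
  induction k with
  | zero =>
    have h : J ^ 0 • (⊤ : Submodule B M) = ⊤ := by
      rw [pow_zero, Ideal.one_eq_top, Submodule.top_smul]
    haveI : Subsingleton (M ⧸ (J ^ 0 • (⊤ : Submodule B M))) :=
      Submodule.Quotient.subsingleton_iff.mpr h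
    infer_instance
  | succ k ih =>
    set N₁ := J ^ k • (⊤ : Submodule B M) with hN₁
    set N₂ := J ^ (k + 1) • (⊤ : Submodule B M) with hN₂
    have hle : N₂ ≤ N₁ := Submodule.smul_mono_left (Ideal.pow_le_pow_right (Nat.le_succ k))
    let i : (↥N₁ ⧸ Submodule.comap N₁.subtype N₂) →ₗ[B] M ⧸ N₂ :=
      Submodule.mapQ _ N₂ N₁.subtype le_rfl
    let p : (M ⧸ N₂) →ₗ[B] M ⧸ N₁ := Submodule.mapQ N₂ N₁ LinearMap.id hle
    have hi : Injective i := by
      rw [injective_iff_map_eq_zero]
      intro x hx
      obtain ⟨y, rfl⟩ := Submodule.Quotient.mk_surjective _ x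
      rw [Submodule.mapQ_apply, Submodule.Quotient.mk_eq_zero] at hx
      rw [Submodule.Quotient.mk_eq_zero]
      exact hx
    have hp : Surjective p := by
      intro x
      obtain ⟨y, rfl⟩ := Submodule.Quotient.mk_surjective _ x
      exact ⟨Submodule.Quotient.mk y, rfl⟩
    have hex : Function.Exact i p := by
      intro x
      constructor
      · intro hx
        obtain ⟨y, rfl⟩ := Submodule.Quotient.mk_surjective _ x
        rw [Submodule.mapQ_apply, LinearMap.id_apply, Submodule.Quotient.mk_eq_zero] at hx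
        exact ⟨Submodule.Quotient.mk ⟨y, hx⟩, rfl⟩
      · rintro ⟨y, rfl⟩
        obtain ⟨z, rfl⟩ := Submodule.Quotient.mk_surjective _ y
        rw [Submodule.mapQ_apply, Submodule.mapQ_apply, LinearMap.id_apply,
          Submodule.Quotient.mk_eq_zero]
        exact z.2
    haveI := hgr k
    haveI := ih
    exact Groth.Agent.Lib.RelCartier.flat_of_exact_left_right (i.restrictScalars A)
      (p.restrictScalars A) hi hp hex

end C1

section Crit

variable {R : Type u} [CommRing R] {C : Type*} [CommRing C] [Algebra R C] [IsNoetherianRing C]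
  {X : Type*} [AddCommGroup X] [Module R X] [Module C X] [IsScalarTower R C X] [Module.Finite C X]

/-- Noetherian `𝔍`-adic flatness criterion, quotient form. -/
theorem flat_quotient_of_forall_surjection (𝔍 : Ideal C) (h𝔍 : 𝔍 ≤ Ideal.jacobson ⊥) (K : Ideal R)
    (Y : ℕ → Type*) [∀ k, AddCommGroup (Y k)] [∀ k, Module R (Y k)]
    (π : ∀ k, X →ₗ[R] Y k) (hπ : ∀ k, Surjective (π k))
    (hker : ∀ k x, π k x = 0 → x ∈ 𝔍 ^ k • (⊤ : Submodule C X))
    (h : ∀ k, Module.Flat (R ⧸ K) ((R ⧸ K) ⊗[R] Y k)) :
    Module.Flat (R ⧸ K) ((R ⧸ K) ⊗[R] X) := by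
  set A := R ⧸ K with hA
  rw [Module.Flat.iff_rTensor_injective]
  intro 𝔞 h𝔞
  rw [injective_iff_map_eq_zero]
  intro x hx
  let e := AlgebraTensorModule.cancelBaseChange R A A 𝔞 X
  haveI : Module.Finite A 𝔞 := Module.Finite.iff_fg.mpr h𝔞
  haveI : Module.Finite R A :=
    Module.Finite.of_surjective (Ideal.Quotient.mkₐ R K).toLinearMap Ideal.Quotient.mk_surjective
  haveI hfin : Module.Finite R 𝔞 := Module.Finite.trans A 𝔞
  suffices h0 : e x = 0 from e.map_eq_zero_iff.mp h0
  suffices h1 : (TensorProduct.comm R 𝔞 X) (e x) = 0 by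
    simpa using h1
  haveI hfinC : Module.Finite C (X ⊗[R] 𝔞) := finite_tensorProduct_left
  have hkrull := Ideal.iInf_pow_smul_eq_bot_of_le_jacobson (M := X ⊗[R] 𝔞) 𝔍 h𝔍
  rw [← Submodule.mem_bot C, ← hkrull, Submodule.mem_iInf]
  intro k
  -- the image of `e x` in `𝔞 ⊗ Y k` vanishes
  have h2 : (LinearMap.lTensor 𝔞 (π k)) (e x) = 0 := by
    let ek := AlgebraTensorModule.cancelBaseChange R A A 𝔞 (Y k)
    set x' := LinearMap.lTensor 𝔞 ((π k).baseChange A) x with hx'
    have hnat : ∀ z : 𝔞 ⊗[A] (A ⊗[R] X),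
        ek (LinearMap.lTensor 𝔞 ((π k).baseChange A) z) = LinearMap.lTensor 𝔞 (π k) (e z) := by
      intro z
      induction z with
      | zero => simp
      | add z₁ z₂ h₁ h₂ => simp only [map_add, h₁, h₂]
      | tmul a w =>
        induction w with
        | zero => simp
        | add w₁ w₂ h₁ h₂ => simp only [tmul_add, map_add, h₁, h₂]
        | tmul b m =>
          simp only [LinearMap.lTensor_tmul, LinearMap.baseChange_tmul, e, ek,
            AlgebraTensorModule.cancelBaseChange_tmul]
    have h3 : (LinearMap.rTensor (A ⊗[R] Y k) 𝔞.subtype) x' = 0 := by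
      have : (LinearMap.rTensor (A ⊗[R] Y k) 𝔞.subtype) x' =
          LinearMap.lTensor A ((π k).baseChange A)
            ((LinearMap.rTensor (A ⊗[R] X) 𝔞.subtype) x) := by
        rw [hx', ← LinearMap.comp_apply, ← LinearMap.comp_apply, LinearMap.rTensor_comp_lTensor,
          LinearMap.lTensor_comp_rTensor]
      rw [this, hx, map_zero]
    haveI := h k
    have h4 : x' = 0 := (injective_iff_map_eq_zero _).mp
      (Module.Flat.rTensor_preserves_injective_linearMap (M := A ⊗[R] Y k) 𝔞.subtype
        𝔞.subtype_injective) _ h3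
    rw [← hnat, ← hx', h4, map_zero]
  have hex : Function.Exact (LinearMap.ker (π k)).subtype (π k) :=
    LinearMap.exact_subtype_ker_map (π k)
  obtain ⟨w, hw⟩ := (lTensor_exact 𝔞 hex (hπ k) (e x)).mp h2
  rw [← hw]
  clear hw
  induction w with
  | zero => simp
  | add w₁ w₂ h₁ h₂ =>
    rw [map_add, map_add]
    exact Submodule.add_mem _ h₁ h₂
  | tmul a y =>
    rw [LinearMap.lTensor_tmul, TensorProduct.comm_tmul]
    have hy := hker k y.1 y.2
    change (y : X) ⊗ₜ[R] a ∈ _
    refine Submodule.smul_induction_on hy ?_ ?_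
    · intro c hc m _
      rw [← TensorProduct.smul_tmul']
      exact Submodule.smul_mem_smul hc Submodule.mem_top
    · intro m₁ m₂ h₁ h₂
      rw [add_tmul]
      exact Submodule.add_mem _ h₁ h₂

end Crit

section Loc

open IsLocalRing

variable {R : Type u} [CommRing R] {S : Type*} [CommRing S] [Algebra R S] [IsNoetherianRing S]
  {M : Type*} [AddCommGroup M] [Module R M] [Module S M] [IsScalarTower R S M] [Module.Finite S M]

/-- Noetherian `J`-adic flatness criterion at a prime containing `J`, quotient form. -/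
theorem flat_quotient_localizedModule_of_forall_surjection (J : Ideal S) (Q : Ideal S) [Q.IsPrime]
    (hJQ : J ≤ Q) (K : Ideal R)
    (N : ℕ → Type*) [∀ k, AddCommGroup (N k)] [∀ k, Module R (N k)] [∀ k, Module S (N k)]
    [∀ k, IsScalarTower R S (N k)]
    (ρ : ∀ k, M →ₗ[S] N k) (hρ : ∀ k, Surjective (ρ k))
    (hker : ∀ k x, ρ k x = 0 → x ∈ J ^ k • (⊤ : Submodule S M))
    (h : ∀ k, Module.Flat (R ⧸ K) ((R ⧸ K) ⊗[R] LocalizedModule Q.primeCompl (N k))) :
    Module.Flat (R ⧸ K) ((R ⧸ K) ⊗[R] LocalizedModule Q.primeCompl M) := by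
  haveI : IsNoetherianRing (Localization.AtPrime Q) :=
    IsLocalization.isNoetherianRing Q.primeCompl _ inferInstance
  set 𝔍 : Ideal (Localization.AtPrime Q) := J.map (algebraMap S (Localization.AtPrime Q)) with h𝔍
  have h𝔍le : 𝔍 ≤ Ideal.jacobson ⊥ := by
    rw [IsLocalRing.jacobson_eq_maximalIdeal ⊥ bot_ne_top, ← Localization.AtPrime.map_eq_maximalIdeal]
    exact Ideal.map_mono hJQ
  refine flat_quotient_of_forall_surjection (C := Localization.AtPrime Q)
    (X := LocalizedModule Q.primeCompl M) 𝔍 h𝔍le K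
    (fun k => LocalizedModule Q.primeCompl (N k))
    (fun k => (LocalizedModule.map Q.primeCompl (ρ k)).restrictScalars R) ?_ ?_ h
  · intro k
    exact LocalizedModule.map_surjective Q.primeCompl (ρ k) (hρ k)
  · intro k x hx
    induction x using LocalizedModule.induction_on with
    | h m s =>
      change LocalizedModule.map Q.primeCompl (ρ k) (LocalizedModule.mk m s) = 0 at hx
      rw [LocalizedModule.map_mk, ← LocalizedModule.zero_mk 1, LocalizedModule.mk_eq] at hx
      obtain ⟨t, ht⟩ := hx
      rw [smul_zero, smul_zero, one_smul] at ht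
      replace ht : (t : S) • ρ k m = 0 := ht
      have h1 : ρ k ((t : S) • m) = 0 := by
        rw [map_smul]; exact ht
      have h2 := hker k _ h1
      have h3 : LocalizedModule.mk m s =
          (Localization.mk (1 : S) (t * s)) •
            LocalizedModule.mkLinearMap Q.primeCompl M ((t : S) • m) := by
        rw [LocalizedModule.mkLinearMap_apply, LocalizedModule.mk_smul_mk, one_smul, mul_one,
          LocalizedModule.mk_eq]
        refine ⟨1, ?_⟩
        simp only [one_smul, Submonoid.smul_def, Submonoid.coe_mul, mul_smul]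
        rw [smul_comm]
      rw [h3]
      refine Submodule.smul_mem _ _ ?_
      refine Submodule.smul_induction_on h2 ?_ ?_
      · intro c hc m' _
        rw [map_smul, ← algebraMap_smul (Localization.AtPrime Q) c]
        refine Submodule.smul_mem_smul ?_ Submodule.mem_top
        rw [h𝔍, ← Ideal.map_pow]
        exact Ideal.mem_map_of_mem _ hc
      · intro m₁ m₂ h₁ h₂
        rw [map_add]
        exact Submodule.add_mem _ h₁ h₂

end Loc

end Groth.Agent.Lib.GrFlatA88
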