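import Groth.Agent.Lib.GrFlatA88
import Groth.Agent.Lib.FlattenIdealC88
import Groth.Agent.Lib.StageAbs88

/-!
# Graded flatness criterion over a local algebra of a complete Noetherian local ring (helper88)

`flatAt_tensor_of_forall_quotient_pow`: `R` complete Noetherian local `k`-algebra, `R'` a local
`R`-algebra (local homomorphism, no finiteness), `S₀` of finite type over `k`, `M₀` finite over `S₀`,
`J₀ ⊆ S₀`.  If `R' ⊗ M₀/J₀ⁿM₀` is `R'`-flat for all `n`, then `R' ⊗ M₀` is `R'`-flat at the primes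
of `R' ⊗ S₀` above `𝔪_{R'}` containing `J₀`.
-/

set_option autoImplicit false
set_option maxHeartbeats 400000
set_option linter.unusedSectionVars false
set_option linter.style.haveILetI false
universe u

namespace Groth.Agent.Lib.GrFlatB88

open TensorProduct Function IsLocalRing Groth.Agent.Lib.FlatLimStage88
  Groth.Agent.Lib.FlattenIdealA88 Groth.Agent.Lib.FlattenIdealB88 Groth.Agent.Lib.FlattenIdealC88
  Groth.Agent.Lib.GrFlatA88
open scoped Groth.Agent.Lib.FlatLimStage88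

section Single

variable {R S R' S' : Type u} [CommRing R] [CommRing S]
  [CommRing R'] [CommRing S']
  [Algebra R S] [Algebra R R'] [Algebra S S'] [Algebra R' S']
  [Algebra R S'] [IsScalarTower R S S'] [IsScalarTower R R' S'] [Algebra.IsPushout R S R' S']
  {M M' : Type u} [AddCommGroup M] [Module S M] [Module R M] [IsScalarTower R S M]
  [AddCommGroup M'] [Module S' M'] [Module R' M'] [IsScalarTower R' S' M'] [Module S M']
  [IsScalarTower S S' M']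

/-- Single-prime form of `flatAt_of_le_ker`. -/
theorem flatAt_of_le_ker_at (f : M →ₗ[S] M') (hf : IsBaseChange S' f) (I : Ideal R)
    (hle : I ≤ RingHom.ker (algebraMap R R'))
    (q' : Ideal S') [q'.IsPrime] (q : Ideal S) [q.IsPrime] (hq : q'.comap (algebraMap S S') = q)
    (h1 : Module.Flat (R ⧸ I) ((R ⧸ I) ⊗[R] LocalizedModule q.primeCompl M)) :
    Module.Flat R' (LocalizedModule q'.primeCompl M') := by
  let g : R ⧸ I →+* R' := Ideal.Quotient.lift I (algebraMap R R') (fun a ha => hle ha)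
  letI : Algebra (R ⧸ I) R' := g.toAlgebra
  haveI : IsScalarTower R (R ⧸ I) R' := IsScalarTower.of_algebraMap_eq (fun x => rfl)
  have h2 : Module.Flat R' (R' ⊗[R] LocalizedModule q.primeCompl M) :=
    Module.Flat.of_linearEquiv
      (TensorProduct.AlgebraTensorModule.cancelBaseChange R (R ⧸ I) R' R'
        (LocalizedModule q.primeCompl M)).symm
  exact flatAt_baseChange' f hf q' q hq h2

end Single

section Ker

variable {k A S₀ M₀ : Type u} [CommRing k] [CommRing A] [Algebra k A]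
  [CommRing S₀] [Algebra k S₀]
  [AddCommGroup M₀] [Module k M₀] [Module S₀ M₀] [IsScalarTower k S₀ M₀]

/-- The kernel of `A ⊗ M₀ → A ⊗ M₀/J₀ⁿM₀` lies in `(J₀(A ⊗ S₀))ⁿ (A ⊗ M₀)`. -/
theorem mem_pow_smul_top_of_stageMap_eq_zero (J₀ : Ideal S₀) (n : ℕ) (y : A ⊗[k] M₀)
    (hy : stageMap k A (J₀ ^ n • (⊤ : Submodule S₀ M₀)).mkQ y = 0) :
    y ∈ (J₀.map (Algebra.TensorProduct.includeRight : S₀ →ₐ[k] A ⊗[k] S₀)) ^ n •
      (⊤ : Submodule (A ⊗[k] S₀) (A ⊗[k] M₀)) := by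
  set N := J₀ ^ n • (⊤ : Submodule S₀ M₀) with hN
  have hex : Function.Exact (N.subtype.restrictScalars k) (N.mkQ.restrictScalars k) := by
    intro m
    change N.mkQ m = 0 ↔ m ∈ Set.range N.subtype
    rw [Submodule.mkQ_apply, Submodule.Quotient.mk_eq_zero]
    simp
  have hsurj : Surjective (N.mkQ.restrictScalars k) := N.mkQ_surjective
  rw [stageMap_apply] at hy
  obtain ⟨w, rfl⟩ := (lTensor_exact A hex hsurj y).mp hy
  clear hy
  induction w with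
  | zero => simp
  | add w₁ w₂ h₁ h₂ =>
    rw [map_add]
    exact Submodule.add_mem _ h₁ h₂
  | tmul a m =>
    rw [LinearMap.lTensor_tmul]
    change a ⊗ₜ[k] (m : M₀) ∈ _
    have hm : (m : M₀) ∈ J₀ ^ n • (⊤ : Submodule S₀ M₀) := m.2
    refine Submodule.smul_induction_on hm ?_ ?_
    · intro c hc m' _
      have h1 : a ⊗ₜ[k] (c • m') = ((1 : A) ⊗ₜ[k] c) • (a ⊗ₜ[k] m') := by
        rw [tmul_smul_tmul, one_mul]
      rw [h1]
      refine Submodule.smul_mem_smul ?_ Submodule.mem_top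
      rw [← Ideal.map_pow]
      exact Ideal.mem_map_of_mem _ hc
    · intro m₁ m₂ h₁ h₂
      rw [tmul_add]
      exact Submodule.add_mem _ h₁ h₂

theorem stageMap_mkQ_surjective (N : Submodule S₀ M₀) : Surjective (stageMap k A N.mkQ) := by
  intro y
  obtain ⟨x, hx⟩ := LinearMap.lTensor_surjective A (g := N.mkQ.restrictScalars k) N.mkQ_surjective y
  exact ⟨x, hx⟩

end Ker

section Main

variable {k R R' S₀ : Type u} [CommRing k] [CommRing R] [IsLocalRing R] [IsNoetherianRing R]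
  [Algebra k R]
  [CommRing R'] [IsLocalRing R'] [Algebra k R'] [Algebra R R'] [IsScalarTower k R R']
  [IsLocalHom (algebraMap R R')]
  [CommRing S₀] [Algebra k S₀] [Algebra.FiniteType k S₀]

theorem isNoetherianRing_stage : IsNoetherianRing (R ⊗[k] S₀) :=
  Algebra.FiniteType.isNoetherianRing R (R ⊗[k] S₀)

attribute [local instance] isNoetherianRing_stage

variable (P : Type u) [AddCommGroup P] [Module k P] [Module S₀ P] [IsScalarTower k S₀ P]

set_option synthInstance.maxHeartbeats 400000 in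
/-- `le_ker_of_flatAt_of_finiteType` for tensor stages. -/
theorem le_ker_of_flat_stage [Module.Finite S₀ P] [Module.Flat R' (R' ⊗[k] P)]
    (I : Ideal R) (hmin : ∀ J : Ideal R, FlatModAt R (R ⊗[k] S₀) (R ⊗[k] P) J → I ≤ J) :
    I ≤ RingHom.ker (algebraMap R R') := by
  letI aS : Algebra (R ⊗[k] S₀) (R' ⊗[k] S₀) :=
    StageAbs88.stageAlgebra (AlgEquiv.refl : R' ⊗[k] S₀ ≃ₐ[R'] R' ⊗[k] S₀) R
  haveI tS : IsScalarTower R (R ⊗[k] S₀) (R' ⊗[k] S₀) :=
    StageAbs88.isScalarTower_stage (AlgEquiv.refl : R' ⊗[k] S₀ ≃ₐ[R'] R' ⊗[k] S₀) R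
  haveI pS : Algebra.IsPushout R R' (R ⊗[k] S₀) (R' ⊗[k] S₀) :=
    StageAbs88.isPushout_stage (AlgEquiv.refl : R' ⊗[k] S₀ ≃ₐ[R'] R' ⊗[k] S₀) R
  haveI pS' : Algebra.IsPushout R (R ⊗[k] S₀) R' (R' ⊗[k] S₀) := pS.symm
  letI mT : Module (R ⊗[k] S₀) (R' ⊗[k] P) :=
    StageAbs88.stageModuleTop (AlgEquiv.refl : R' ⊗[k] S₀ ≃ₐ[R'] R' ⊗[k] S₀) R
  haveI tT : IsScalarTower (R ⊗[k] S₀) (R' ⊗[k] S₀) (R' ⊗[k] P) :=
    StageAbs88.isScalarTower_stageModuleTop (AlgEquiv.refl : R' ⊗[k] S₀ ≃ₐ[R'] R' ⊗[k] S₀) R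
  let ψ : R ⊗[k] P →ₗ[R ⊗[k] S₀] R' ⊗[k] P :=
    StageAbs88.stageMap (AlgEquiv.refl : R' ⊗[k] S₀ ≃ₐ[R'] R' ⊗[k] S₀)
      (LinearEquiv.refl R' (R' ⊗[k] P)) (fun _ _ => rfl) R
  have hψ : IsBaseChange (R' ⊗[k] S₀) ψ :=
    StageAbs88.isBaseChange_stageMap (AlgEquiv.refl : R' ⊗[k] S₀ ≃ₐ[R'] R' ⊗[k] S₀)
      (LinearEquiv.refl R' (R' ⊗[k] P)) (fun _ _ => rfl) R
  refine le_ker_of_flatAt_of_finiteType ψ hψ ?_ I hmin
  intro q' _ _
  exact Groth.Agent.Lib.H77GenFlatAlg.flat_of_isLocalizedModule R' (M := R' ⊗[k] P)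
    (N := LocalizedModule q'.primeCompl (R' ⊗[k] P)) q'.primeCompl
    (LocalizedModule.mkLinearMap q'.primeCompl (R' ⊗[k] P))

omit [IsLocalRing R] [IsNoetherianRing R] [IsLocalRing R'] [IsLocalHom (algebraMap R R')]
  [Algebra.FiniteType k S₀] in
set_option synthInstance.maxHeartbeats 400000 in
/-- `flatAt_of_le_ker_at` for tensor stages. -/
theorem flatAt_stage_of_le_ker_at (I : Ideal R) (hle : I ≤ RingHom.ker (algebraMap R R'))
    (q' : Ideal (R' ⊗[k] S₀)) [q'.IsPrime] (q : Ideal (R ⊗[k] S₀)) [q.IsPrime]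
    (hq : q'.comap (sMap (IsScalarTower.toAlgHom k R R') S₀) = q)
    (h1 : Module.Flat (R ⧸ I) ((R ⧸ I) ⊗[R] LocalizedModule q.primeCompl (R ⊗[k] P))) :
    Module.Flat R' (LocalizedModule q'.primeCompl (R' ⊗[k] P)) := by
  letI aS : Algebra (R ⊗[k] S₀) (R' ⊗[k] S₀) :=
    StageAbs88.stageAlgebra (AlgEquiv.refl : R' ⊗[k] S₀ ≃ₐ[R'] R' ⊗[k] S₀) R
  haveI tS : IsScalarTower R (R ⊗[k] S₀) (R' ⊗[k] S₀) :=
    StageAbs88.isScalarTower_stage (AlgEquiv.refl : R' ⊗[k] S₀ ≃ₐ[R'] R' ⊗[k] S₀) R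
  haveI pS : Algebra.IsPushout R R' (R ⊗[k] S₀) (R' ⊗[k] S₀) :=
    StageAbs88.isPushout_stage (AlgEquiv.refl : R' ⊗[k] S₀ ≃ₐ[R'] R' ⊗[k] S₀) R
  haveI pS' : Algebra.IsPushout R (R ⊗[k] S₀) R' (R' ⊗[k] S₀) := pS.symm
  letI mT : Module (R ⊗[k] S₀) (R' ⊗[k] P) :=
    StageAbs88.stageModuleTop (AlgEquiv.refl : R' ⊗[k] S₀ ≃ₐ[R'] R' ⊗[k] S₀) R
  haveI tT : IsScalarTower (R ⊗[k] S₀) (R' ⊗[k] S₀) (R' ⊗[k] P) :=
    StageAbs88.isScalarTower_stageModuleTop (AlgEquiv.refl : R' ⊗[k] S₀ ≃ₐ[R'] R' ⊗[k] S₀) R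
  let ψ : R ⊗[k] P →ₗ[R ⊗[k] S₀] R' ⊗[k] P :=
    StageAbs88.stageMap (AlgEquiv.refl : R' ⊗[k] S₀ ≃ₐ[R'] R' ⊗[k] S₀)
      (LinearEquiv.refl R' (R' ⊗[k] P)) (fun _ _ => rfl) R
  have hψ : IsBaseChange (R' ⊗[k] S₀) ψ :=
    StageAbs88.isBaseChange_stageMap (AlgEquiv.refl : R' ⊗[k] S₀ ≃ₐ[R'] R' ⊗[k] S₀)
      (LinearEquiv.refl R' (R' ⊗[k] P)) (fun _ _ => rfl) R
  exact flatAt_of_le_ker_at ψ hψ I hle q' q hq h1

variable {M₀ : Type u} [AddCommGroup M₀] [Module k M₀] [Module S₀ M₀] [IsScalarTower k S₀ M₀]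
  [Module.Finite S₀ M₀]

set_option synthInstance.maxHeartbeats 400000 in
/-- **Graded flatness criterion over a local algebra of a complete Noetherian local ring.** -/
theorem flatAt_tensor_of_forall_quotient_pow [IsAdicComplete (maximalIdeal R) R] (J₀ : Ideal S₀)
    (H : ∀ n : ℕ, Module.Flat R' (R' ⊗[k] (M₀ ⧸ (J₀ ^ n • (⊤ : Submodule S₀ M₀)))))
    (q' : Ideal (R' ⊗[k] S₀)) [q'.IsPrime]
    (hq' : q'.comap (algebraMap R' (R' ⊗[k] S₀)) = maximalIdeal R')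
    (hJ : J₀.map (Algebra.TensorProduct.includeRight : S₀ →ₐ[k] R' ⊗[k] S₀) ≤ q') :
    Module.Flat R' (LocalizedModule q'.primeCompl (R' ⊗[k] M₀)) := by
  set K := RingHom.ker (algebraMap R R') with hK
  -- all truncations are flat modulo `K` at the primes over `𝔪`
  have hFM : ∀ n : ℕ, FlatModAt R (R ⊗[k] S₀)
      (R ⊗[k] (M₀ ⧸ (J₀ ^ n • (⊤ : Submodule S₀ M₀)))) K := by
    intro n
    obtain ⟨I, -, hI, hmin⟩ := exists_smallest_ideal_flat_localizations (R := R)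
      (S := R ⊗[k] S₀) (M := R ⊗[k] (M₀ ⧸ (J₀ ^ n • (⊤ : Submodule S₀ M₀))))
    haveI := H n
    exact hI.mono (le_ker_of_flat_stage (R' := R') _ I hmin)
  -- the contracted prime
  set φ := sMap (IsScalarTower.toAlgHom k R R') S₀ with hφ
  set q : Ideal (R ⊗[k] S₀) := q'.comap φ with hqdef
  haveI : q.IsPrime := Ideal.comap_isPrime _ _
  have hq : q.comap (algebraMap R (R ⊗[k] S₀)) = maximalIdeal R := by
    ext x
    rw [hqdef, Ideal.mem_comap, Ideal.mem_comap]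
    have h1 : φ (algebraMap R (R ⊗[k] S₀) x) = algebraMap R' (R' ⊗[k] S₀) (algebraMap R R' x) := by
      rw [Algebra.TensorProduct.algebraMap_apply, Algebra.TensorProduct.algebraMap_apply, hφ,
        sMap_tmul]
      rfl
    rw [h1, ← Ideal.mem_comap, hq', mem_maximalIdeal, mem_maximalIdeal, map_mem_nonunits_iff]
  have hJq : J₀.map (Algebra.TensorProduct.includeRight : S₀ →ₐ[k] R ⊗[k] S₀) ≤ q := by
    rw [Ideal.map_le_iff_le_comap]
    intro j hj
    rw [Ideal.mem_comap, hqdef, Ideal.mem_comap]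
    have h1 : φ ((Algebra.TensorProduct.includeRight : S₀ →ₐ[k] R ⊗[k] S₀) j) =
        (Algebra.TensorProduct.includeRight : S₀ →ₐ[k] R' ⊗[k] S₀) j := by
      rw [Algebra.TensorProduct.includeRight_apply, hφ, sMap_tmul, map_one]
      rfl
    rw [h1]
    exact hJ (Ideal.mem_map_of_mem _ hj)
  have h2 : Module.Flat (R ⧸ K) ((R ⧸ K) ⊗[R] LocalizedModule q.primeCompl (R ⊗[k] M₀)) :=
    flat_quotient_localizedModule_of_forall_surjection (R := R) (S := R ⊗[k] S₀)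
      (M := R ⊗[k] M₀) (J₀.map (Algebra.TensorProduct.includeRight : S₀ →ₐ[k] R ⊗[k] S₀)) q hJq K
      (fun n => R ⊗[k] (M₀ ⧸ (J₀ ^ n • (⊤ : Submodule S₀ M₀))))
      (fun n => stageMap k R (J₀ ^ n • (⊤ : Submodule S₀ M₀)).mkQ)
      (fun n => stageMap_mkQ_surjective _)
      (fun n x hx => mem_pow_smul_top_of_stageMap_eq_zero J₀ n x hx)
      (fun n => hFM n q hq)
  exact flatAt_stage_of_le_ker_at (R' := R') M₀ K le_rfl q' q rfl h2

end Main

end Groth.Agent.Lib.GrFlatB88
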