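import Groth.Agent.Lib.GrFlatB88
import Groth.Agent.Lib.CritFibB88
import Groth.Agent.Lib.SrcLocalRing
import Groth.Agent.Lib.AdicNoeth

/-!
# Graded flatness criterion, non-Noetherian base, tensor form (helper88)

`flatAt_tensor_of_forall_quotient_pow_base`: `k` Noetherian, `A` any `k`-algebra, `S₀` of finite
type over `k`, `M₀` finite over `S₀`, `J₀ ⊆ S₀`.  If `A ⊗ M₀/J₀ⁿM₀` is `A`-flat for all `n` then
`A ⊗ M₀` is `A`-flat at every prime of `A ⊗ S₀` containing `J₀`.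
-/

set_option autoImplicit false
set_option maxHeartbeats 400000
set_option linter.unusedSectionVars false
set_option linter.style.haveILetI false
universe u

namespace Groth.Agent.Lib.GrFlatC88

open TensorProduct Function IsLocalRing Groth.Agent.Lib.FlatLimStage88
  Groth.Agent.Lib.FlatLimGlobal88 Groth.Agent.Lib.CritFibA88 Groth.Agent.Lib.GrFlatB88
open scoped Groth.Agent.Lib.FlatLimStage88

section Desc

variable {k X Y S₀ M₀ : Type u} [CommRing k] [CommRing X] [CommRing Y] [Algebra k X]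
  [Algebra k Y] [Algebra X Y] [IsScalarTower k X Y] [CommRing S₀] [Algebra k S₀]
  [AddCommGroup M₀] [Module k M₀] [Module S₀ M₀] [IsScalarTower k S₀ M₀]

set_option synthInstance.maxHeartbeats 400000 in
/-- Descent of flatness over the base along a flat map of bases, for tensor stages. -/
theorem desc_stage_base [Module.Flat X Y] (QY : Ideal (Y ⊗[k] S₀)) [QY.IsPrime]
    (QX : Ideal (X ⊗[k] S₀)) [QX.IsPrime]
    (hQ : QY.comap (sMap (IsScalarTower.toAlgHom k X Y) S₀) = QX)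
    (h : Module.Flat Y (LocalizedModule QY.primeCompl (Y ⊗[k] M₀))) :
    Module.Flat X (LocalizedModule QX.primeCompl (X ⊗[k] M₀)) := by
  letI aS : Algebra (X ⊗[k] S₀) (Y ⊗[k] S₀) :=
    StageAbs88.stageAlgebra (AlgEquiv.refl : Y ⊗[k] S₀ ≃ₐ[Y] Y ⊗[k] S₀) X
  haveI tS : IsScalarTower X (X ⊗[k] S₀) (Y ⊗[k] S₀) :=
    StageAbs88.isScalarTower_stage (AlgEquiv.refl : Y ⊗[k] S₀ ≃ₐ[Y] Y ⊗[k] S₀) X
  haveI pS : Algebra.IsPushout X Y (X ⊗[k] S₀) (Y ⊗[k] S₀) :=
    StageAbs88.isPushout_stage (AlgEquiv.refl : Y ⊗[k] S₀ ≃ₐ[Y] Y ⊗[k] S₀) X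
  letI mT : Module (X ⊗[k] S₀) (Y ⊗[k] M₀) :=
    StageAbs88.stageModuleTop (AlgEquiv.refl : Y ⊗[k] S₀ ≃ₐ[Y] Y ⊗[k] S₀) X
  haveI tT : IsScalarTower (X ⊗[k] S₀) (Y ⊗[k] S₀) (Y ⊗[k] M₀) :=
    StageAbs88.isScalarTower_stageModuleTop (AlgEquiv.refl : Y ⊗[k] S₀ ≃ₐ[Y] Y ⊗[k] S₀) X
  let ψ : X ⊗[k] M₀ →ₗ[X ⊗[k] S₀] Y ⊗[k] M₀ :=
    StageAbs88.stageMap (AlgEquiv.refl : Y ⊗[k] S₀ ≃ₐ[Y] Y ⊗[k] S₀)
      (LinearEquiv.refl Y (Y ⊗[k] M₀)) (fun _ _ => rfl) X
  have hψ : IsBaseChange (Y ⊗[k] S₀) ψ :=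
    StageAbs88.isBaseChange_stageMap (AlgEquiv.refl : Y ⊗[k] S₀ ≃ₐ[Y] Y ⊗[k] S₀)
      (LinearEquiv.refl Y (Y ⊗[k] M₀)) (fun _ _ => rfl) X
  haveI fC : Module.Flat (X ⊗[k] S₀) (Y ⊗[k] S₀) :=
    Module.Flat.isBaseChange X (X ⊗[k] S₀) Y (Y ⊗[k] S₀) pS.symm.out
  exact flatAt_descend ψ hψ QY QX hQ h

end Desc

section Aux

variable {k A R S₀ M₀ : Type u} [CommRing k] [CommRing A] [Algebra k A]
  [CommRing R] [IsLocalRing R] [IsNoetherianRing R] [IsAdicComplete (maximalIdeal R) R]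
  [Algebra k R] [Module.Flat k R]
  [CommRing S₀] [Algebra k S₀] [Algebra.FiniteType k S₀]
  [AddCommGroup M₀] [Module k M₀] [Module S₀ M₀] [IsScalarTower k S₀ M₀] [Module.Finite S₀ M₀]

set_option synthInstance.maxHeartbeats 400000 in
/-- The criterion over an arbitrary base `A`, given a complete Noetherian local flat `k`-algebra
`R` whose closed point lies over the same prime of `k` as `q`. -/
theorem flatAt_tensor_of_forall_quotient_pow_aux (J₀ : Ideal S₀)
    (H : ∀ n : ℕ, Module.Flat A (A ⊗[k] (M₀ ⧸ (J₀ ^ n • (⊤ : Submodule S₀ M₀)))))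
    (q : Ideal (A ⊗[k] S₀)) [q.IsPrime]
    (hJ : J₀.map (Algebra.TensorProduct.includeRight : S₀ →ₐ[k] A ⊗[k] S₀) ≤ q)
    (hR : (maximalIdeal R).comap (algebraMap k R) =
      (q.comap (algebraMap A (A ⊗[k] S₀))).comap (algebraMap k A)) :
    Module.Flat A (LocalizedModule q.primeCompl (A ⊗[k] M₀)) := by
  set p : Ideal A := q.comap (algebraMap A (A ⊗[k] S₀)) with hp
  haveI : p.IsPrime := Ideal.comap_isPrime _ _
  -- a prime of `A ⊗ R` over `p` and `𝔪_R`
  obtain ⟨z, hz1, hz2⟩ := Groth.Agent.Lib.SrcLocalRing.exists_prime_tensorProduct (R := k)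
    (S := A) (T := R) ⟨p, inferInstance⟩ ⟨maximalIdeal R, inferInstance⟩
    (PrimeSpectrum.ext hR.symm)
  set 𝔫 : Ideal (A ⊗[k] R) := z.asIdeal with h𝔫
  haveI : 𝔫.IsPrime := z.isPrime
  have h𝔫A : 𝔫.comap (algebraMap A (A ⊗[k] R)) = p := congrArg PrimeSpectrum.asIdeal hz1
  have h𝔫R : 𝔫.comap (Algebra.TensorProduct.includeRight : R →ₐ[k] A ⊗[k] R).toRingHom =
      maximalIdeal R := congrArg PrimeSpectrum.asIdeal hz2
  -- the local ring `A'`
  letI aRT : Algebra R (A ⊗[k] R) :=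
    (Algebra.TensorProduct.includeRight : R →ₐ[k] A ⊗[k] R).toRingHom.toAlgebra
  haveI tkRT : IsScalarTower k R (A ⊗[k] R) := IsScalarTower.of_algebraMap_eq fun c =>
    ((Algebra.TensorProduct.includeRight : R →ₐ[k] A ⊗[k] R).commutes c).symm
  haveI tRTA' : IsScalarTower R (A ⊗[k] R) (Localization.AtPrime 𝔫) := inferInstance
  haveI tkRA' : IsScalarTower k R (Localization.AtPrime 𝔫) := IsScalarTower.of_algebraMap_eq fun c => by
    rw [IsScalarTower.algebraMap_apply R (A ⊗[k] R) (Localization.AtPrime 𝔫),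
      ← IsScalarTower.algebraMap_apply k R (A ⊗[k] R),
      ← IsScalarTower.algebraMap_apply k (A ⊗[k] R) (Localization.AtPrime 𝔫)]
  haveI tkAA' : IsScalarTower k A (Localization.AtPrime 𝔫) := IsScalarTower.of_algebraMap_eq fun c => by
    rw [IsScalarTower.algebraMap_apply A (A ⊗[k] R) (Localization.AtPrime 𝔫),
      ← IsScalarTower.algebraMap_apply k A (A ⊗[k] R),
      ← IsScalarTower.algebraMap_apply k (A ⊗[k] R) (Localization.AtPrime 𝔫)]
  have hmA' : (maximalIdeal (Localization.AtPrime 𝔫)).comap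
      (algebraMap (A ⊗[k] R) (Localization.AtPrime 𝔫)) = 𝔫 :=
    Localization.AtPrime.under_maximalIdeal
  haveI lRA' : IsLocalHom (algebraMap R (Localization.AtPrime 𝔫)) := by
    refine ((local_hom_TFAE _).out 0 4).mpr ?_
    rw [IsScalarTower.algebraMap_eq R (A ⊗[k] R) (Localization.AtPrime 𝔫), ← Ideal.comap_comap,
      hmA']
    exact h𝔫R
  haveI fAT : Module.Flat A (A ⊗[k] R) := inferInstance
  haveI fAA' : Module.Flat A (Localization.AtPrime 𝔫) :=
    Module.Flat.trans A (A ⊗[k] R) (Localization.AtPrime 𝔫)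
  have hmA'A : (maximalIdeal (Localization.AtPrime 𝔫)).comap
      (algebraMap A (Localization.AtPrime 𝔫)) = p := by
    rw [IsScalarTower.algebraMap_eq A (A ⊗[k] R) (Localization.AtPrime 𝔫), ← Ideal.comap_comap,
      hmA', h𝔫A]
  -- the flatness hypotheses over `A'`
  have H' : ∀ n : ℕ, Module.Flat (Localization.AtPrime 𝔫)
      ((Localization.AtPrime 𝔫) ⊗[k] (M₀ ⧸ (J₀ ^ n • (⊤ : Submodule S₀ M₀)))) := by
    intro n
    haveI := H n
    haveI : Module.Flat (Localization.AtPrime 𝔫) ((Localization.AtPrime 𝔫) ⊗[A]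
        (A ⊗[k] (M₀ ⧸ (J₀ ^ n • (⊤ : Submodule S₀ M₀))))) := inferInstance
    exact Module.Flat.of_linearEquiv
      (AlgebraTensorModule.cancelBaseChange k A (Localization.AtPrime 𝔫) (Localization.AtPrime 𝔫)
        (M₀ ⧸ (J₀ ^ n • (⊤ : Submodule S₀ M₀)))).symm
  -- a prime of `A' ⊗ S₀` over `q` and `𝔪_{A'}`
  obtain ⟨z', hz'1, hz'2⟩ := Groth.Agent.Lib.SrcLocalRing.exists_prime_tensorProduct (R := A)
    (S := Localization.AtPrime 𝔫) (T := A ⊗[k] S₀)
    ⟨maximalIdeal (Localization.AtPrime 𝔫), inferInstance⟩ ⟨q, inferInstance⟩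
    (PrimeSpectrum.ext hmA'A)
  have hz'1' : z'.asIdeal.comap (algebraMap (Localization.AtPrime 𝔫)
      ((Localization.AtPrime 𝔫) ⊗[A] (A ⊗[k] S₀))) = maximalIdeal (Localization.AtPrime 𝔫) :=
    congrArg PrimeSpectrum.asIdeal hz'1
  have hz'2' : z'.asIdeal.comap (Algebra.TensorProduct.includeRight :
      A ⊗[k] S₀ →ₐ[A] (Localization.AtPrime 𝔫) ⊗[A] (A ⊗[k] S₀)).toRingHom = q :=
    congrArg PrimeSpectrum.asIdeal hz'2
  let ec := Algebra.TensorProduct.cancelBaseChange k A (Localization.AtPrime 𝔫)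
    (Localization.AtPrime 𝔫) S₀
  set q' : Ideal ((Localization.AtPrime 𝔫) ⊗[k] S₀) := z'.asIdeal.comap ec.symm.toRingEquiv
    with hq'def
  haveI : q'.IsPrime := Ideal.comap_isPrime _ _
  have hq'1 : q'.comap (algebraMap (Localization.AtPrime 𝔫) ((Localization.AtPrime 𝔫) ⊗[k] S₀)) =
      maximalIdeal (Localization.AtPrime 𝔫) := by
    rw [← hz'1']
    ext x
    rw [Ideal.mem_comap, Ideal.mem_comap, Ideal.mem_comap]
    change ec.symm (algebraMap _ _ x) ∈ _ ↔ _
    rw [AlgEquiv.commutes]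
  have hq'2 : q'.comap (sMap (IsScalarTower.toAlgHom k A (Localization.AtPrime 𝔫)) S₀) = q := by
    rw [← hz'2']
    ext x
    rw [Ideal.mem_comap, Ideal.mem_comap, Ideal.mem_comap]
    change ec.symm (sMap _ S₀ x) ∈ _ ↔ _
    rw [← cancelBaseChange_one_tmul', AlgEquiv.symm_apply_apply]
    rfl
  have hJ' : J₀.map (Algebra.TensorProduct.includeRight :
      S₀ →ₐ[k] (Localization.AtPrime 𝔫) ⊗[k] S₀) ≤ q' := by
    rw [Ideal.map_le_iff_le_comap]
    intro j hj
    rw [Ideal.mem_comap]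
    have h1 : (Algebra.TensorProduct.includeRight :
        S₀ →ₐ[k] (Localization.AtPrime 𝔫) ⊗[k] S₀) j =
        sMap (IsScalarTower.toAlgHom k A (Localization.AtPrime 𝔫)) S₀
          ((Algebra.TensorProduct.includeRight : S₀ →ₐ[k] A ⊗[k] S₀) j) := by
      rw [Algebra.TensorProduct.includeRight_apply, Algebra.TensorProduct.includeRight_apply,
        sMap_tmul, map_one]
    rw [h1, ← Ideal.mem_comap, hq'2]
    exact hJ (Ideal.mem_map_of_mem _ hj)
  have key := flatAt_tensor_of_forall_quotient_pow (R := R) (R' := Localization.AtPrime 𝔫)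
    (M₀ := M₀) J₀ H' q' hq'1 hJ'
  exact desc_stage_base (X := A) (Y := Localization.AtPrime 𝔫) q' q hq'2 key

end Aux

section Base

variable {k A S₀ M₀ : Type u} [CommRing k] [IsNoetherianRing k] [CommRing A] [Algebra k A]
  [CommRing S₀] [Algebra k S₀] [Algebra.FiniteType k S₀]
  [AddCommGroup M₀] [Module k M₀] [Module S₀ M₀] [IsScalarTower k S₀ M₀] [Module.Finite S₀ M₀]

set_option synthInstance.maxHeartbeats 400000 in
/-- **Graded flatness criterion over an arbitrary base, tensor form** (EGA IV 11.3.?): `k`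
Noetherian, `A` any `k`-algebra; if all `A ⊗ M₀/J₀ⁿM₀` are `A`-flat then `A ⊗ M₀` is `A`-flat at all
primes of `A ⊗ S₀` containing `J₀`. -/
theorem flatAt_tensor_of_forall_quotient_pow_base (J₀ : Ideal S₀)
    (H : ∀ n : ℕ, Module.Flat A (A ⊗[k] (M₀ ⧸ (J₀ ^ n • (⊤ : Submodule S₀ M₀)))))
    (q : Ideal (A ⊗[k] S₀)) [q.IsPrime]
    (hJ : J₀.map (Algebra.TensorProduct.includeRight : S₀ →ₐ[k] A ⊗[k] S₀) ≤ q) :
    Module.Flat A (LocalizedModule q.primeCompl (A ⊗[k] M₀)) := by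
  set p₀ : Ideal k := (q.comap (algebraMap A (A ⊗[k] S₀))).comap (algebraMap k A) with hp₀
  haveI : (q.comap (algebraMap A (A ⊗[k] S₀))).IsPrime := Ideal.comap_isPrime _ _
  haveI : p₀.IsPrime := Ideal.comap_isPrime _ _
  haveI : IsNoetherianRing (Localization.AtPrime p₀) :=
    IsLocalization.isNoetherianRing p₀.primeCompl _ inferInstance
  haveI : IsNoetherianRing (AdicCompletion (maximalIdeal (Localization.AtPrime p₀))
      (Localization.AtPrime p₀)) :=
    Groth.Agent.Lib.AdicNoeth.isNoetherianRing_adicCompletion _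
  haveI : IsScalarTower k (Localization.AtPrime p₀) (AdicCompletion
      (maximalIdeal (Localization.AtPrime p₀)) (Localization.AtPrime p₀)) :=
    IsScalarTower.of_algebraMap_eq fun _ => rfl
  haveI : Module.Flat k (AdicCompletion (maximalIdeal (Localization.AtPrime p₀))
      (Localization.AtPrime p₀)) :=
    Module.Flat.trans k (Localization.AtPrime p₀) _
  refine flatAt_tensor_of_forall_quotient_pow_aux (R := AdicCompletion
    (maximalIdeal (Localization.AtPrime p₀)) (Localization.AtPrime p₀)) J₀ H q hJ ?_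
  rw [IsScalarTower.algebraMap_eq k (Localization.AtPrime p₀) (AdicCompletion
    (maximalIdeal (Localization.AtPrime p₀)) (Localization.AtPrime p₀)), ← Ideal.comap_comap,
    IsLocalRing.maximalIdeal_comap]
  exact Localization.AtPrime.under_maximalIdeal

end Base

end Groth.Agent.Lib.GrFlatC88
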