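import Groth.Agent.Lib.GrFlatC88
import Groth.Agent.Lib.FlatLimDirected88

/-!
# EGA IV graded flatness criterion over an arbitrary base (helper88)

`flat_localizedModule_of_gr_flat`: `A` any ring, `B` a finitely presented `A`-algebra, `J ⊆ B`
finitely generated, `M` a finitely presented `B`-module.  If all `JᵏM/Jᵏ⁺¹M` are `A`-flat then
`M_q` is `A`-flat for every prime `q ⊇ J`.
-/

set_option autoImplicit false
set_option maxHeartbeats 400000
set_option linter.unusedSectionVars false
set_option linter.style.haveILetI false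
universe u

namespace Groth.Agent.Lib.GrFlatD88

open TensorProduct Function Groth.Agent.Lib.FlatLimStage88
  Groth.Agent.Lib.FlatLimGlobal88 Groth.Agent.Lib.FlatLimModel88 Groth.Agent.Lib.GrFlatA88
  Groth.Agent.Lib.GrFlatB88 Groth.Agent.Lib.GrFlatC88 Groth.Agent.Lib.FlatLimOpenBC88
open scoped Groth.Agent.Lib.FlatLimStage88

/-- A Noetherian model of a finitely presented algebra with lifts of a finite matrix and a finite
vector of elements. -/
theorem exists_model_data₂ {R S : Type u} [CommRing R] [CommRing S] [Algebra R S]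
    [Algebra.FinitePresentation R S] {n m r : ℕ} (u : Fin m → Fin n → S) (v : Fin r → S) :
    ∃ (k : Type u) (_ : CommRing k) (_ : Algebra k R) (S₀ : Type u) (_ : CommRing S₀)
      (_ : Algebra k S₀) (e : R ⊗[k] S₀ ≃ₐ[R] S) (ub : Fin m → Fin n → S₀) (vb : Fin r → S₀),
      Algebra.FiniteType ℤ k ∧ Algebra.FiniteType k S₀ ∧
        (∀ j i, iota0 e (ub j i) = u j i) ∧ ∀ l, iota0 e (vb l) = v l := by
  classical
  let P := Algebra.Presentation.ofFinitePresentation R S
  choose ut hut using fun (j : Fin m) (i : Fin n) => P.algebraMap_surjective (u j i)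
  choose vt hvt using fun (l : Fin r) => P.algebraMap_surjective (v l)
  let s : Set R := (⋃ j, ⋃ i, ((ut j i).coeffs : Set R)) ∪ ⋃ l, ((vt l).coeffs : Set R)
  have hs : s.Finite :=
    (Set.finite_iUnion fun j => Set.finite_iUnion fun i => Finset.finite_toSet _).union
      (Set.finite_iUnion fun l => Finset.finite_toSet _)
  let k := Algebra.adjoin P.Core s
  have : Algebra.FiniteType P.Core k := (Subalgebra.fg_iff_finiteType _).mp
    (Subalgebra.fg_def.mpr ⟨s, hs, rfl⟩)
  have hk : Algebra.FiniteType ℤ k :=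
    Algebra.FiniteType.trans (S := P.Core) inferInstance inferInstance
  have hw : ∀ j i, ∃ w : MvPolynomial _ k, MvPolynomial.map (algebraMap k R) w = ut j i := by
    intro j i
    have : ut j i ∈ Set.range (MvPolynomial.map (algebraMap k R)) := by
      rw [MvPolynomial.mem_range_map_iff_coeffs_subset]
      intro c hc
      have hcs : c ∈ s := Or.inl (Set.mem_iUnion.mpr ⟨j, Set.mem_iUnion.mpr ⟨i, hc⟩⟩)
      exact ⟨⟨c, Algebra.subset_adjoin hcs⟩, rfl⟩
    exact this
  have hw' : ∀ l, ∃ w : MvPolynomial _ k, MvPolynomial.map (algebraMap k R) w = vt l := by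
    intro l
    have : vt l ∈ Set.range (MvPolynomial.map (algebraMap k R)) := by
      rw [MvPolynomial.mem_range_map_iff_coeffs_subset]
      intro c hc
      have hcs : c ∈ s := Or.inr (Set.mem_iUnion.mpr ⟨l, hc⟩)
      exact ⟨⟨c, Algebra.subset_adjoin hcs⟩, rfl⟩
    exact this
  choose w hw using hw
  choose w' hw' using hw'
  let S₀ := P.ModelOfHasCoeffs k
  let e : R ⊗[k] S₀ ≃ₐ[R] S := P.tensorModelOfHasCoeffsEquiv k
  let ub : Fin m → Fin n → S₀ := fun j i => Ideal.Quotient.mk _ (w j i)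
  let vb : Fin r → S₀ := fun l => Ideal.Quotient.mk _ (w' l)
  have hub : ∀ j i, iota0 e (ub j i) = u j i := by
    intro j i
    rw [iota0_apply]
    change P.tensorModelOfHasCoeffsEquiv k ((1 : R) ⊗ₜ[k] Ideal.Quotient.mk _ (w j i)) = _
    rw [Algebra.Presentation.tensorModelOfHasCoeffsEquiv_tmul, map_one, one_mul,
      ← MvPolynomial.aeval_map_algebraMap R, hw, ← hut j i, Algebra.Generators.algebraMap_apply]
  have hvb : ∀ l, iota0 e (vb l) = v l := by
    intro l
    rw [iota0_apply]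
    change P.tensorModelOfHasCoeffsEquiv k ((1 : R) ⊗ₜ[k] Ideal.Quotient.mk _ (w' l)) = _
    rw [Algebra.Presentation.tensorModelOfHasCoeffsEquiv_tmul, map_one, one_mul,
      ← MvPolynomial.aeval_map_algebraMap R, hw', ← hvt l, Algebra.Generators.algebraMap_apply]
  exact ⟨k, inferInstance, inferInstance, S₀, inferInstance, inferInstance, e, ub, vb, hk,
    inferInstance, hub, hvb⟩

section Transfer

variable {k A S₀ B M₀ M : Type u} [CommRing k] [CommRing A] [Algebra k A] [CommRing S₀]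
  [Algebra k S₀] [CommRing B] [Algebra A B]
  [AddCommGroup M₀] [Module k M₀] [Module S₀ M₀] [IsScalarTower k S₀ M₀]
  [AddCommGroup M] [Module B M] [Module A M] [IsScalarTower A B M]
  (e : A ⊗[k] S₀ ≃ₐ[A] B) (ε : A ⊗[k] M₀ ≃ₗ[A] M)
  (hε : ∀ (c : A ⊗[k] S₀) (y : A ⊗[k] M₀), ε (c • y) = e c • ε y)
  (J₀ : Ideal S₀) (J : Ideal B) (hJ : J = J₀.map (iota0 e))

include hJ in
theorem map_includeRight_pow_eq (n : ℕ) :
    ((J₀.map (Algebra.TensorProduct.includeRight : S₀ →ₐ[k] A ⊗[k] S₀)) ^ n).map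
      (e : A ⊗[k] S₀ →+* B) = J ^ n := by
  rw [Ideal.map_pow, hJ]
  congr 1
  rw [iota0, ← Ideal.map_map]
  rfl

omit [Algebra A B] in
/-- `(J₀(A ⊗ S₀))ⁿ` kills `A ⊗ M₀/J₀ⁿM₀`. -/
theorem pow_smul_tensor_quotient_eq_zero (n : ℕ) (c : A ⊗[k] S₀)
    (hc : c ∈ (J₀.map (Algebra.TensorProduct.includeRight : S₀ →ₐ[k] A ⊗[k] S₀)) ^ n)
    (w : A ⊗[k] (M₀ ⧸ (J₀ ^ n • (⊤ : Submodule S₀ M₀)))) : c • w = 0 := by
  rw [← Ideal.map_pow, Ideal.map] at hc
  refine Submodule.span_induction ?_ ?_ ?_ ?_ hc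
  · rintro _ ⟨j, hj, rfl⟩
    rw [Algebra.TensorProduct.includeRight_apply]
    induction w with
    | zero => simp
    | add w₁ w₂ h₁ h₂ => rw [smul_add, h₁, h₂, add_zero]
    | tmul a x =>
      obtain ⟨m, rfl⟩ := Submodule.Quotient.mk_surjective _ x
      rw [tmul_smul_tmul, ← Submodule.Quotient.mk_smul,
        (Submodule.Quotient.mk_eq_zero _).mpr (Submodule.smul_mem_smul hj Submodule.mem_top),
        tmul_zero]
  · exact zero_smul _ _
  · intro c₁ c₂ _ _ h₁ h₂
    rw [add_smul, h₁, h₂, add_zero]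
  · intro c' c₁ _ h₁
    rw [smul_eq_mul, mul_smul, h₁, smul_zero]

include hε hJ in
/-- Transfer of the truncation hypothesis to the tensor form. -/
theorem flat_tensor_quotient_of_flat_quotient (n : ℕ)
    [Module.Flat A (M ⧸ (J ^ n • (⊤ : Submodule B M)))] :
    Module.Flat A (A ⊗[k] (M₀ ⧸ (J₀ ^ n • (⊤ : Submodule S₀ M₀)))) := by
  set I₀ := J₀.map (Algebra.TensorProduct.includeRight : S₀ →ₐ[k] A ⊗[k] S₀) with hI₀
  have hmap := map_includeRight_pow_eq e J₀ J hJ n
  have hεsymm : ∀ (c : A ⊗[k] S₀) (x : M), ε.symm (e c • x) = c • ε.symm x := by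
    intro c x
    apply ε.injective
    rw [LinearEquiv.apply_symm_apply, hε, LinearEquiv.apply_symm_apply]
  let φ : M →ₗ[A] A ⊗[k] (M₀ ⧸ (J₀ ^ n • (⊤ : Submodule S₀ M₀))) :=
    ((stageMap k A (J₀ ^ n • (⊤ : Submodule S₀ M₀)).mkQ).restrictScalars A) ∘ₗ ε.symm.toLinearMap
  have hφ : Surjective φ :=
    (stageMap_mkQ_surjective (J₀ ^ n • (⊤ : Submodule S₀ M₀))).comp ε.symm.surjective
  have hker : LinearMap.ker φ = (J ^ n • (⊤ : Submodule B M)).restrictScalars A := by
    ext x
    rw [LinearMap.mem_ker, Submodule.restrictScalars_mem]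
    constructor
    · intro hx
      have h1 : stageMap k A (J₀ ^ n • (⊤ : Submodule S₀ M₀)).mkQ (ε.symm x) = 0 := hx
      have h2 := mem_pow_smul_top_of_stageMap_eq_zero J₀ n _ h1
      rw [← ε.apply_symm_apply x]
      refine Submodule.smul_induction_on h2 ?_ ?_
      · intro c hc y _
        rw [hε]
        refine Submodule.smul_mem_smul ?_ Submodule.mem_top
        rw [← hmap]
        exact Ideal.mem_map_of_mem _ hc
      · intro y₁ y₂ h₁ h₂
        rw [map_add]
        exact Submodule.add_mem _ h₁ h₂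
    · intro hx
      refine Submodule.smul_induction_on hx ?_ ?_
      · intro b hb m _
        rw [← hmap] at hb
        obtain ⟨c, hc, rfl⟩ := (Ideal.mem_map_iff_of_surjective (e : A ⊗[k] S₀ →+* B)
          e.surjective).mp hb
        change stageMap k A (J₀ ^ n • (⊤ : Submodule S₀ M₀)).mkQ (ε.symm (e c • m)) = 0
        rw [hεsymm, map_smul]
        exact pow_smul_tensor_quotient_eq_zero J₀ n c hc _
      · intro m₁ m₂ h₁ h₂
        rw [map_add, h₁, h₂, add_zero]
  let E : (A ⊗[k] (M₀ ⧸ (J₀ ^ n • (⊤ : Submodule S₀ M₀)))) ≃ₗ[A]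
      M ⧸ (J ^ n • (⊤ : Submodule B M)) :=
    (φ.quotKerEquivOfSurjective hφ).symm ≪≫ₗ Submodule.quotEquivOfEq _ _ hker ≪≫ₗ
      Submodule.Quotient.restrictScalarsEquiv A (J ^ n • (⊤ : Submodule B M))
  exact Module.Flat.of_linearEquiv E

end Transfer

set_option synthInstance.maxHeartbeats 400000 in
/-- **EGA IV graded flatness criterion** over an arbitrary base ring. -/
theorem flat_localizedModule_of_gr_flat {A B : Type u} [CommRing A] [CommRing B] [Algebra A B]
    [Algebra.FinitePresentation A B] (J : Ideal B) (hJ : J.FG)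
    (M : Type u) [AddCommGroup M] [Module B M] [Module A M] [IsScalarTower A B M]
    [Module.FinitePresentation B M]
    (hgr : ∀ k : ℕ, Module.Flat A
      (↥(J ^ k • (⊤ : Submodule B M)) ⧸
        Submodule.comap (J ^ k • (⊤ : Submodule B M)).subtype (J ^ (k + 1) • ⊤)))
    (q : Ideal B) [q.IsPrime] (hq : J ≤ q) :
    Module.Flat A (LocalizedModule q.primeCompl M) := by
  classical
  have hk := flat_quotient_pow_smul_top_of_gr J hgr
  -- presentation of the module
  obtain ⟨n, m, f, gg, hf, hex⟩ := Module.FinitePresentation.exists_fin' B M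
  let u : Fin m → Fin n → B := fun j => gg (Pi.single j 1)
  have hu : LinearMap.ker f = Submodule.span B (Set.range u) := by
    rw [(LinearMap.exact_iff).mp hex, LinearMap.range_eq_map, ← (Pi.basisFun B (Fin m)).span_eq,
      Submodule.map_span, ← Set.range_comp]
    congr 2
    funext j
    simp [u, Pi.basisFun_apply]
  obtain ⟨r, v, hv⟩ := Submodule.fg_iff_exists_fin_generating_family.mp hJ
  obtain ⟨k, _, _, S₀, _, _, e, ub, vb, hkft, hS₀, hub, hvb⟩ :=
    exists_model_data₂ (R := A) (S := B) u v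
  haveI : IsNoetherianRing k := Algebra.FiniteType.isNoetherianRing ℤ k
  letI : Module k M := Module.compHom M (algebraMap k A)
  haveI : IsScalarTower k A M := IsScalarTower.of_algebraMap_smul fun _ _ => rfl
  let ε : A ⊗[k] Model0 ub ≃ₗ[A] M := modelEquiv e f u hub hu hf
  have hε : ∀ (c : A ⊗[k] S₀) (y : A ⊗[k] Model0 ub), ε (c • y) = e c • ε y :=
    fun c y => modelEquiv_smul e f u hub hu hf c y
  set J₀ : Ideal S₀ := Ideal.span (Set.range vb) with hJ₀
  have hJJ₀ : J = J₀.map (iota0 e) := by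
    rw [hJ₀, Ideal.map_span, ← Set.range_comp, ← hv]
    congr 2
    funext l
    exact (hvb l).symm
  have H : ∀ n : ℕ, Module.Flat A
      (A ⊗[k] (Model0 ub ⧸ (J₀ ^ n • (⊤ : Submodule S₀ (Model0 ub))))) := fun n => by
    haveI := hk n
    exact flat_tensor_quotient_of_flat_quotient e ε hε J₀ J hJJ₀ n
  have hJq : J₀.map (Algebra.TensorProduct.includeRight : S₀ →ₐ[k] A ⊗[k] S₀) ≤
      q.comap e.toRingEquiv := by
    rw [Ideal.map_le_iff_le_comap]
    intro j hj
    rw [Ideal.mem_comap, Ideal.mem_comap]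
    apply hq
    rw [hJJ₀]
    exact Ideal.mem_map_of_mem (iota0 e) hj
  have key := flatAt_tensor_of_forall_quotient_pow_base (k := k) (A := A) (S₀ := S₀)
    (M₀ := Model0 ub) J₀ H (q.comap e.toRingEquiv) hJq
  exact flat_localizedModule_of_semilinearEquiv e.toRingEquiv ε hε q key

end Groth.Agent.Lib.GrFlatD88
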