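import Mathlib
import Groth.Agent.Lib.HilbSerre99

/-!
# Graded ℤ-algebras: regularity and freeness of `R/fR` from regularity mod all primes (helper99)
-/

set_option autoImplicit false
universe u
open scoped BigOperators

namespace Groth.Agent.Lib.GrFreeZ99

open MvPolynomial

section fg

variable {R : Type u} [CommRing R] (𝒜 : ℕ → Submodule ℤ R) [GradedAlgebra 𝒜]

/-- graded pieces of a finitely generated (in positive degrees) graded `ℤ`-algebra are f.g. -/
theorem piece_fg (S : Finset R) (hgen : Algebra.adjoin ℤ (S : Set R) = ⊤)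
    (hpos : ∀ s ∈ S, ∃ n : ℕ, 0 < n ∧ s ∈ 𝒜 n) (u : ℕ) : (𝒜 u).FG := by
  classical
  choose! w hw using hpos
  let ι := {s // s ∈ S}
  let wt : ι → ℕ := fun s => w s.1
  let φ : MvPolynomial ι ℤ →ₐ[ℤ] R := MvPolynomial.aeval (fun s : ι => s.1)
  have hφsurj : Function.Surjective φ := by
    rw [← AlgHom.range_eq_top, ← Algebra.adjoin_range_eq_range_aeval]
    convert hgen
    ext x
    simp [ι]
  have hmono : ∀ (d : ι →₀ ℕ) (c : ℤ), φ (monomial d c) ∈ 𝒜 (Finsupp.weight wt d) := by
    intro d c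
    rw [aeval_monomial, ← Algebra.smul_def]
    apply Submodule.smul_mem
    rw [Finsupp.prod, Finsupp.weight_apply, Finsupp.sum]
    exact SetLike.prod_pow_mem_graded 𝒜 wt (fun s : ι => s.1) d (fun s _ => (hw s.1 s.2).2)
  have hcomm : ∀ P : MvPolynomial ι ℤ,
      GradedRing.proj 𝒜 u (φ P) = φ (weightedHomogeneousComponent wt u P) := by
    intro P
    induction P using MvPolynomial.induction_on' with
    | monomial d c =>
      have h1 := isWeightedHomogeneous_monomial wt d c (m := Finsupp.weight wt d) rfl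
      rw [GradedRing.proj_apply]
      by_cases hdu : Finsupp.weight wt d = u
      · rw [← hdu, h1.weightedHomogeneousComponent_same,
          DirectSum.decompose_of_mem_same 𝒜 (hmono d c)]
      · rw [h1.weightedHomogeneousComponent_ne u (Ne.symm hdu), map_zero,
          DirectSum.decompose_of_mem_ne 𝒜 (hmono d c) hdu]
    | add p q hp hq =>
      rw [map_add, map_add, map_add, map_add, hp, hq]
  have himg : 𝒜 u = (weightedHomogeneousSubmodule ℤ wt u).map φ.toLinearMap := by
    apply le_antisymm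
    · intro x hx
      obtain ⟨P, rfl⟩ := hφsurj x
      refine ⟨weightedHomogeneousComponent wt u P, weightedHomogeneousComponent_mem wt P u, ?_⟩
      change φ _ = _
      rw [← hcomm P, GradedRing.proj_apply, DirectSum.decompose_of_mem_same 𝒜 hx]
    · rintro _ ⟨P, hP, rfl⟩
      change φ P ∈ 𝒜 u
      have h1 := hcomm P
      rw [(show IsWeightedHomogeneous wt P u from hP).weightedHomogeneousComponent_same] at h1
      rw [← h1, GradedRing.proj_apply]
      exact SetLike.coe_mem _
  rw [himg]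
  exact (weightedHomogeneousSubmodule_fg ℤ wt (fun s => (hw s.1 s.2).1.ne') u).map _

end fg

section main

variable {R : Type u} [CommRing R]

lemma dvd_of_dvd_mul (f : R) (p : ℕ)
    (hp : IsSMulRegular (R ⧸ Ideal.span {(p : R)}) (Ideal.Quotient.mk (Ideal.span {(p : R)}) f))
    (y : R) (h : (p : R) ∣ f * y) : (p : R) ∣ y := by
  rw [← Ideal.mem_span_singleton] at h ⊢
  rw [← Ideal.Quotient.eq_zero_iff_mem] at h ⊢
  apply hp
  beta_reduce
  rw [smul_zero, smul_eq_mul, ← map_mul]
  exact h

lemma int_eq_zero_of_two_pow_dvd (c : ℤ) (h : ∀ j : ℕ, (2 : ℤ) ^ j ∣ c) : c = 0 := by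
  by_contra hc
  have h1 := Int.natAbs_dvd_natAbs.mpr (h c.natAbs)
  rw [Int.natAbs_pow] at h1
  have h2 := Nat.le_of_dvd (Int.natAbs_pos.mpr hc) h1
  have h3 : c.natAbs < 2 ^ c.natAbs := Nat.lt_two_pow_self
  have : Int.natAbs 2 = 2 := rfl
  rw [this] at h2
  omega

lemma natCast_mul_eq_zero [Module.Free ℤ R] (n : ℕ) (hn : 0 < n) (z : R)
    (h : (n : R) * z = 0) : z = 0 := by
  have h1 : (n : ℤ) • z = 0 := by
    rw [zsmul_eq_mul]
    exact_mod_cast h
  exact (smul_eq_zero_iff_right (by exact_mod_cast hn.ne')).mp h1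

theorem regular [Module.Free ℤ R] (f : R)
    (h2 : ∀ y : R, ((2 : ℕ) : R) ∣ f * y → ((2 : ℕ) : R) ∣ y) : IsSMulRegular R f := by
  have step : ∀ j : ℕ, ∀ x : R, f * x = 0 → ∃ y, x = ((2 : ℕ) : R) ^ j * y ∧ f * y = 0 := by
    intro j
    induction j with
    | zero => intro x hx; exact ⟨x, by simp, hx⟩
    | succ j ih =>
      intro x hx
      obtain ⟨y, rfl, hy⟩ := ih x hx
      obtain ⟨y', rfl⟩ := h2 y (by rw [hy]; exact dvd_zero _)
      refine ⟨y', by ring, ?_⟩
      apply natCast_mul_eq_zero 2 (by norm_num)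
      rw [← hy]
      ring
  have key : ∀ x : R, f * x = 0 → x = 0 := by
    intro x hx
    let b := Module.Free.chooseBasis ℤ R
    apply b.repr.injective
    rw [map_zero]
    ext i
    rw [Finsupp.zero_apply]
    apply int_eq_zero_of_two_pow_dvd
    intro j
    obtain ⟨y, rfl, -⟩ := step j x hx
    have : ((2 : ℕ) : R) ^ j * y = ((2 : ℤ) ^ j) • y := by
      rw [zsmul_eq_mul]
      push_cast
      rfl
    rw [this, map_smul, Finsupp.smul_apply, smul_eq_mul]
    exact dvd_mul_right _ _
  intro a b hab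
  have : f * (a - b) = 0 := by
    simp only [smul_eq_mul] at hab
    rw [mul_sub, hab, sub_self]
  exact sub_eq_zero.mp (key _ this)

lemma mem_span_of_prime_mul [Module.Free ℤ R] (f : R) (p : ℕ) (hp0 : 0 < p)
    (hp : ∀ y : R, (p : R) ∣ f * y → (p : R) ∣ y) (x : R)
    (h : (p : R) * x ∈ Ideal.span {f}) : x ∈ Ideal.span {f} := by
  rw [Ideal.mem_span_singleton] at h ⊢
  obtain ⟨y, hy⟩ := h
  obtain ⟨y', rfl⟩ := hp y ⟨x, hy.symm⟩
  refine ⟨y', ?_⟩
  have : (p : R) * (x - f * y') = 0 := by rw [mul_sub, hy]; ring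
  exact sub_eq_zero.mp (natCast_mul_eq_zero p hp0 _ this)

lemma mem_span_of_nat_mul [Module.Free ℤ R] (f : R)
    (hp : ∀ p : ℕ, p.Prime → ∀ y : R, (p : R) ∣ f * y → (p : R) ∣ y) :
    ∀ n : ℕ, 0 < n → ∀ x : R, (n : R) * x ∈ Ideal.span {f} → x ∈ Ideal.span {f} := by
  intro n
  induction n using Nat.strong_induction_on with
  | _ n ih =>
    intro hn x hx
    rcases Nat.lt_or_ge n 2 with h | h
    · have : n = 1 := by omega
      subst this
      simpa using hx
    · have hpr := Nat.minFac_prime (show n ≠ 1 by omega)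
      obtain ⟨m, hm⟩ := Nat.minFac_dvd n
      have hmpos : 0 < m := by
        rcases Nat.eq_zero_or_pos m with h0 | h0
        · rw [h0, mul_zero] at hm; omega
        · exact h0
      have hmlt : m < n := by
        have := hpr.two_le
        nlinarith
      apply ih m hmlt hmpos x
      apply mem_span_of_prime_mul f n.minFac hpr.pos (hp _ hpr)
      rw [← mul_assoc]
      have : ((n.minFac : ℕ) : R) * (m : R) = (n : R) := by
        rw [← Nat.cast_mul, ← hm]
      rw [this]
      exact hx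

theorem main (𝒜 : ℕ → Submodule ℤ R) [GradedAlgebra 𝒜] (S : Finset R)
    (hgen : Algebra.adjoin ℤ (S : Set R) = ⊤) (hpos : ∀ s ∈ S, ∃ n : ℕ, 0 < n ∧ s ∈ 𝒜 n)
    [Module.Free ℤ R] (f : R) (m : ℕ) (hf : f ∈ 𝒜 m)
    (hp : ∀ p : ℕ, p.Prime →
      IsSMulRegular (R ⧸ Ideal.span {(p : R)}) (Ideal.Quotient.mk (Ideal.span {(p : R)}) f)) :
    IsSMulRegular R f ∧ Module.Free ℤ (R ⧸ Ideal.span {f}) := by
  classical
  have hdvd : ∀ p : ℕ, p.Prime → ∀ y : R, (p : R) ∣ f * y → (p : R) ∣ y :=
    fun p hpp => dvd_of_dvd_mul f p (hp p hpp)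
  refine ⟨regular f (hdvd 2 Nat.prime_two), ?_⟩
  set I : Ideal R := Ideal.span {f} with hI
  have hIh : I.IsHomogeneous 𝒜 := by
    apply Ideal.homogeneous_span
    rintro _ rfl
    exact ⟨m, hf⟩
  -- torsion-freeness of the quotient
  have htf : Module.IsTorsionFree ℤ (R ⧸ I) := by
    constructor
    intro r hr a b hab
    have hr0 : r ≠ 0 := hr.ne_zero
    obtain ⟨x, hx⟩ := Ideal.Quotient.mk_surjective (a - b)
    have h1 : r • (a - b) = 0 := by
      simp only at hab
      rw [smul_sub, hab, sub_self]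
    rw [← hx] at h1
    have h2 : ((r.natAbs : ℕ) : R) * x ∈ I := by
      have h3 : (r : R) * x ∈ I := by
        rw [← Ideal.Quotient.eq_zero_iff_mem, map_mul, ← h1, zsmul_eq_mul]
        simp
      rcases Int.natAbs_eq r with h | h
      · have : ((r.natAbs : ℕ) : R) = (r : R) := by
          conv_rhs => rw [h]
          simp
        rw [this]; exact h3
      · have : ((r.natAbs : ℕ) : R) = -(r : R) := by
          conv_rhs => rw [h]
          simp
        rw [this, neg_mul]; exact I.neg_mem h3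
    have h4 := mem_span_of_nat_mul f hdvd r.natAbs (Int.natAbs_pos.mpr hr0) x h2
    have h5 : a - b = 0 := by
      rw [← hx]
      exact Ideal.Quotient.eq_zero_iff_mem.mpr h4
    exact sub_eq_zero.mp h5
  set π : R →ₗ[ℤ] (R ⧸ I) := (Submodule.mkQ I).restrictScalars ℤ with hπ
  have hint := DirectSum.Decomposition.isInternal 𝒜
  have hker : LinearMap.ker π = ⨆ l, I.restrictScalars ℤ ⊓ 𝒜 l := by
    rw [hπ, LinearMap.ker_restrictScalars, Submodule.ker_mkQ]
    apply le_antisymm
    · intro a ha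
      rw [← DirectSum.sum_support_decompose 𝒜 a]
      refine Submodule.sum_mem _ fun i _ => ?_
      exact (le_iSup (fun l => I.restrictScalars ℤ ⊓ 𝒜 l) i) ⟨hIh i ha, SetLike.coe_mem _⟩
    · exact iSup_le fun l => inf_le_left
  have hind := Groth.Agent.Lib.HilbSerre99.indep_map_of_ker_eq 𝒜 hint.submodule_iSupIndep
    (fun l => I.restrictScalars ℤ ⊓ 𝒜 l) (fun l => inf_le_right) π hker
  have hsup : ⨆ i, (𝒜 i).map π = ⊤ := by
    rw [← Submodule.map_iSup, hint.submodule_iSup_eq_top, Submodule.map_top,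
      LinearMap.range_eq_top]
    exact Submodule.mkQ_surjective I
  have hfree : ∀ i, Module.Free ℤ ((𝒜 i).map π) := by
    intro i
    have : Module.Finite ℤ ((𝒜 i).map π) :=
      Module.Finite.iff_fg.mpr ((piece_fg 𝒜 S hgen hpos i).map π)
    exact Module.free_of_finite_type_torsion_free'
  have hinternal := DirectSum.isInternal_submodule_of_iSupIndep_of_iSup_eq_top hind hsup
  exact Module.Free.of_equiv (LinearEquiv.ofBijective (DirectSum.coeLinearMap _) hinternal)

end main

end Groth.Agent.Lib.GrFreeZ99
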