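import Groth.Agent.Lib.GrHilbert

/-!
# Finite generation of stable graded subobjects (helper22)

In the setting of the abstract Hilbert basis theorem (`GrHilbert.acc_of_noetherian`): a graded
family `K` of subobjects stable under the operators `T j` is generated in bounded degree:
`K_{q+1} = ∑_j T_j K_q` for `q` large (`exists_bound`).
-/

set_option autoImplicit false
set_option linter.unusedSectionVars false

namespace Groth.Agent.Lib.GrGen22

open CategoryTheory CategoryTheory.Limits Groth.Agent.Lib.H86SubobjElem Groth.Agent.Lib.GrHilbert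

universe v u

variable {𝒜 : Type u} [Category.{v} 𝒜] [Abelian 𝒜]

attribute [local instance] Abelian.hasFiniteBiproducts

variable {G : ℕ → 𝒜} {r : ℕ} (T : Fin r → ∀ q : ℕ, G q ⟶ G (q + 1))

/-- The map `⨁_j S ⟶ G_{q+1}` given by the operators. -/
noncomputable def sgMap {q : ℕ} (S : Subobject (G q)) :
    (⨁ fun _ : Fin r => (S : 𝒜)) ⟶ G (q + 1) :=
  biproduct.desc fun j => S.arrow ≫ T j q

/-- `∑_j T_j S` as a subobject of `G_{q+1}`. -/
noncomputable def Sg {q : ℕ} (S : Subobject (G q)) : Subobject (G (q + 1)) :=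
  imageSubobject (sgMap T S)

theorem Sg_factors_of_factors {q : ℕ} (S : Subobject (G q)) (j : Fin r) {W : 𝒜} (x : W ⟶ G q)
    (hx : S.Factors x) : (Sg T S).Factors (x ≫ T j q) := by
  have e : x ≫ T j q = (S.factorThru x hx ≫ biproduct.ι (fun _ : Fin r => (S : 𝒜)) j) ≫
      sgMap T S := by
    rw [Category.assoc, sgMap, biproduct.ι_desc, ← Category.assoc, Subobject.factorThru_arrow]
  rw [e]
  exact imageSubobject_factors_comp_self (f := sgMap T S) _

/-- Elementwise description of `Sg`. -/
theorem Sg_factors_iff {q : ℕ} (S : Subobject (G q)) {W : 𝒜} (z : W ⟶ G (q + 1)) :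
    (Sg T S).Factors z ↔ ∃ (W' : 𝒜) (π : W' ⟶ W) (_ : Epi π) (y : Fin r → (W' ⟶ G q)),
      (∀ j, S.Factors (y j)) ∧ π ≫ z = ∑ j, y j ≫ T j q := by
  unfold Sg
  rw [imageSubobject_factors_iff]
  constructor
  · rintro ⟨W', π, hπ, x, hx⟩
    refine ⟨W', π, hπ, fun j => (x ≫ biproduct.π _ j) ≫ S.arrow,
      fun j => Subobject.factors_comp_arrow _, ?_⟩
    rw [hx]
    calc x ≫ sgMap T S = (x ≫ ∑ j, biproduct.π (fun _ : Fin r => (S : 𝒜)) j ≫
          biproduct.ι (fun _ : Fin r => (S : 𝒜)) j) ≫ sgMap T S := by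
          rw [biproduct.total, Category.comp_id]
      _ = ∑ j, ((x ≫ biproduct.π (fun _ : Fin r => (S : 𝒜)) j) ≫ S.arrow) ≫ T j q := by
          rw [Preadditive.comp_sum, Preadditive.sum_comp]
          refine Finset.sum_congr rfl fun j _ => ?_
          simp only [Category.assoc, sgMap, biproduct.ι_desc]
  · rintro ⟨W', π, hπ, y, hy, hz⟩
    refine ⟨W', π, hπ, biproduct.lift fun j => S.factorThru (y j) (hy j), ?_⟩
    rw [hz]
    symm
    calc biproduct.lift (fun j => S.factorThru (y j) (hy j)) ≫ sgMap T S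
        = (biproduct.lift (fun j => S.factorThru (y j) (hy j)) ≫
            ∑ j, biproduct.π (fun _ : Fin r => (S : 𝒜)) j ≫
              biproduct.ι (fun _ : Fin r => (S : 𝒜)) j) ≫ sgMap T S := by
          rw [biproduct.total, Category.comp_id]
      _ = ∑ j, y j ≫ T j q := by
          rw [Preadditive.comp_sum, Preadditive.sum_comp]
          refine Finset.sum_congr rfl fun j _ => ?_
          simp only [Category.assoc, sgMap, biproduct.ι_desc, biproduct.lift_π_assoc,
            Subobject.factorThru_arrow_assoc]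

theorem Sg_mono {q : ℕ} {S S' : Subobject (G q)} (h : S ≤ S') : Sg T S ≤ Sg T S' := by
  rw [le_iff_forall_factors]
  intro W z hz
  rw [Sg_factors_iff] at hz ⊢
  obtain ⟨W', π, hπ, y, hy, hz⟩ := hz
  exact ⟨W', π, hπ, y, fun j => Subobject.factors_of_le _ h (hy j), hz⟩

variable {T}

theorem Sg_le_of_stable {K : Fam G} (hK : ∀ j, Stable (T j) K) (q : ℕ) :
    Sg T (K q) ≤ K (q + 1) := by
  rw [le_iff_forall_factors]
  intro W z hz
  rw [Sg_factors_iff] at hz
  obtain ⟨W', π, hπ, y, hy, hz⟩ := hz
  apply factors_of_epi_comp _ π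
  rw [hz]
  refine Subobject.factors_of_le _ le_rfl ?_
  have : ∀ s : Finset (Fin r), (K (q + 1)).Factors (∑ j ∈ s, y j ≫ T j q) := by
    intro s
    induction s using Finset.induction_on with
    | empty => rw [Finset.sum_empty]; exact Subobject.factors_zero
    | insert a s ha ih =>
      rw [Finset.sum_insert ha]
      exact Subobject.factors_add _ _ ((stable_iff (T a) K).1 (hK a) q W' (y a) (hy a)) ih
  exact this Finset.univ

variable (T)

/-- The family generated by `K` in degrees `≤ k`. -/
noncomputable def genFam (K : Fam G) (k : ℕ) : ∀ q : ℕ, Subobject (G q)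
  | 0 => K 0
  | q + 1 => if q + 1 ≤ k then K (q + 1) else Sg T (genFam K k q)

theorem genFam_zero (K : Fam G) (k : ℕ) : genFam T K k 0 = K 0 := rfl

theorem genFam_succ_of_le (K : Fam G) {k q : ℕ} (h : q + 1 ≤ k) :
    genFam T K k (q + 1) = K (q + 1) := by
  simp only [genFam, if_pos h]

theorem genFam_succ_of_lt (K : Fam G) {k q : ℕ} (h : k < q + 1) :
    genFam T K k (q + 1) = Sg T (genFam T K k q) := by
  simp only [genFam, if_neg (not_le.mpr h)]

theorem genFam_of_le (K : Fam G) {k q : ℕ} (h : q ≤ k) : genFam T K k q = K q := by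
  cases q with
  | zero => rfl
  | succ q => exact genFam_succ_of_le T K h

variable {T}

theorem genFam_le {K : Fam G} (hK : ∀ j, Stable (T j) K) (k q : ℕ) : genFam T K k q ≤ K q := by
  induction q with
  | zero => exact le_rfl
  | succ q ih =>
    by_cases h : q + 1 ≤ k
    · rw [genFam_succ_of_le T K h]
    · rw [genFam_succ_of_lt T K (not_le.mp h)]
      exact (Sg_mono T ih).trans (Sg_le_of_stable hK q)

theorem stable_genFam {K : Fam G} (hK : ∀ j, Stable (T j) K) (k : ℕ) (j : Fin r) :
    Stable (T j) (genFam T K k) := by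
  rw [stable_iff]
  intro q W x hx
  by_cases h : q + 1 ≤ k
  · rw [genFam_succ_of_le T K h]
    rw [genFam_of_le T K (by omega : q ≤ k)] at hx
    exact (stable_iff (T j) K).1 (hK j) q W x hx
  · rw [genFam_succ_of_lt T K (not_le.mp h)]
    exact Sg_factors_of_factors T _ j x hx

theorem genFam_le_succ {K : Fam G} (hK : ∀ j, Stable (T j) K) (k q : ℕ) :
    genFam T K k q ≤ genFam T K (k + 1) q := by
  induction q with
  | zero => exact le_rfl
  | succ q ih =>
    by_cases h : q + 1 ≤ k
    · rw [genFam_succ_of_le T K h, genFam_succ_of_le T K (by omega : q + 1 ≤ k + 1)]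
    · by_cases h' : q + 1 ≤ k + 1
      · rw [genFam_succ_of_le T K h']
        exact genFam_le hK k (q + 1)
      · rw [genFam_succ_of_lt T K (not_le.mp h), genFam_succ_of_lt T K (not_le.mp h')]
        exact Sg_mono T ih

/-- **Bounded generation** of a stable graded family. -/
theorem exists_bound (hcomm : ∀ i j q, T i q ≫ T j (q + 1) = T j q ≫ T i (q + 1)) (hgen : Gen T)
    (h0 : IsNoetherianObject (G 0)) {K : Fam G} (hK : ∀ j, Stable (T j) K) :
    ∃ i₀ : ℕ, ∀ q : ℕ, i₀ ≤ q → K (q + 1) = Sg T (K q) := by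
  obtain ⟨i₀, hi₀⟩ := acc_of_noetherian r G T hcomm hgen h0 (fun k => genFam T K k)
    (monotone_nat_of_le_succ fun k q => genFam_le_succ hK k q)
    (fun k j => stable_genFam hK k j)
  refine ⟨i₀, fun q hq => ?_⟩
  have e1 : genFam T K (q + 1) = genFam T K i₀ := hi₀ (q + 1) (by omega)
  have e2 : genFam T K q = genFam T K i₀ := hi₀ q hq
  calc K (q + 1) = genFam T K (q + 1) (q + 1) := (genFam_of_le T K le_rfl).symm
    _ = genFam T K i₀ (q + 1) := by rw [e1]
    _ = Sg T (genFam T K i₀ q) := genFam_succ_of_lt T K (by omega)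
    _ = Sg T (genFam T K q q) := by rw [e2]
    _ = Sg T (K q) := by rw [genFam_of_le T K le_rfl]

end Groth.Agent.Lib.GrGen22
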