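import Mathlib
import Groth.Agent.Lib.GrGenericForm2

set_option autoImplicit false
set_option linter.unusedSectionVars false
set_option linter.style.haveILetI false

universe u

namespace Groth.Agent.Lib.GrGenericForm

open Polynomial DirectSum GrLC

variable {R : Type u} [CommRing R] (𝒜 : ℤ → AddSubgroup R) [GradedRing 𝒜]
  {M : Type u} [AddCommGroup M] [Module R M] (ℳ : ℤ → AddSubgroup M) [Decomposition ℳ]
  [SetLike.GradedSMul 𝒜 ℳ]

/-- **Weak growth of the Hilbert function** of a finitely generated graded module of depth `≥ 1`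
over a standard graded ring over a field: `dim M_j ≤ dim M_{j+1}`. -/
theorem finrank_le_succ [IsNoetherianRing R] [Module.Finite R M]
    (h0 : IsField (deg0 𝒜))
    (hstd : Ideal.span (⋃ n ∈ Set.Ioi (0 : ℤ), (𝒜 n : Set R)) =
      Ideal.span ((𝒜 1 : AddSubgroup R) : Set R))
    (δ₁ : ℕ) (y₁ : R) (hy1 : y₁ ∈ 𝒜 ((δ₁ : ℤ) + 1))
    (hr1 : ∀ c : M, y₁ • c = 0 → c = 0) (j : ℤ) :
    Module.finrank (deg0 𝒜) (comp 𝒜 ℳ j) ≤ Module.finrank (deg0 𝒜) (comp 𝒜 ℳ (j + 1)) := by
  classical
  letI : Field (deg0 𝒜) := h0.toField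
  haveI : IsNoetherian R R := inferInstance
  haveI : IsNoetherian R M := isNoetherian_of_isNoetherianRing_of_finite R M
  have hfin : ∀ i : ℤ, Module.Finite (deg0 𝒜) (comp 𝒜 ℳ i) := fun i => by
    haveI := Groth.Agent.Lib.H74GrFin.isNoetherian_comp 𝒜 ℳ i
    infer_instance
  haveI := hfin j
  haveI := hfin (j + 1)
  haveI : Module.Finite (deg0 𝒜) (comp 𝒜 𝒜 1) := by
    haveI := Groth.Agent.Lib.H74GrFin.isNoetherian_comp 𝒜 𝒜 1
    infer_instance
  obtain ⟨r, x', hx'⟩ := Module.Finite.exists_fin (R := deg0 𝒜) (M := comp 𝒜 𝒜 1)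
  set F : R[X] := ofFn r (fun i => (x' i : R)) with hFdef
  have hF : ∀ i, F.coeff i ∈ 𝒜 1 := by
    intro i
    rcases Nat.lt_or_ge i r with h | h
    · rw [hFdef, ofFn_coeff_eq_val_of_lt _ h]
      exact (x' _).2
    · rw [hFdef, ofFn_coeff_eq_zero_of_ge _ h]
      exact zero_mem _
  have hFr : ∀ i, r ≤ i → F.coeff i = 0 := fun i hi => ofFn_coeff_eq_zero_of_ge _ hi
  have hreg : ∀ v : PolynomialModule R M, F • v = 0 → v = 0 :=
    generic_regular 𝒜 hstd x' hx' δ₁ y₁ hy1 hr1
  set a := Module.finrank (deg0 𝒜) (comp 𝒜 ℳ j) with ha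
  set b := Module.finrank (deg0 𝒜) (comp 𝒜 ℳ (j + 1)) with hb
  by_contra hcon
  push Not at hcon
  set D := r * b + 1 with hD
  have hinj : Function.Injective (mu 𝒜 ℳ F hF j D r) := by
    rw [injective_iff_map_eq_zero]
    intro v hv
    have hw0 : toPM (R := R) (fun q => (v q : M)) = 0 := by
      apply hreg
      rw [← PolynomialModule.coeff_inj]
      ext p
      rcases Nat.lt_or_ge p (D + r) with hp | hp
      · have h1 := congrArg Subtype.val (congrFun hv ⟨p, hp⟩)
        rw [mu_apply] at h1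
        rw [h1]
        rfl
      · rw [coeff_smul_toPM_eq_zero F hFr _ hp]
        rfl
    have := toPM_eq_zero (R := R) _ hw0
    funext q
    apply Subtype.ext
    exact congrFun this q
  have hle := LinearMap.finrank_le_finrank_of_injective hinj
  rw [Module.finrank_pi_fintype, Module.finrank_pi_fintype] at hle
  simp only [Finset.sum_const, Finset.card_univ, Fintype.card_fin, smul_eq_mul, ← ha, ← hb] at hle
  have h3 : D * (b + 1) ≤ D * a := Nat.mul_le_mul_left _ hcon
  have h4 : (D + r) * b = D * b + r * b := by ring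
  have h5 : D * (b + 1) = D * b + D := by ring
  omega

end Groth.Agent.Lib.GrGenericForm
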