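import Mathlib
import Groth.Prelude.Def_Wider

set_option autoImplicit false
set_option linter.unusedSectionVars false
set_option linter.style.haveILetI false

universe u

namespace Groth.Agent.Lib.GrTorsLoc

section

variable {R : Type u} [CommRing R] (p : Ideal R) [hp : p.IsMaximal]
  {N : Type u} [AddCommGroup N] [Module R N]

include hp in
/-- for `s ∉ p` (`p` maximal) and `t`, there are `a` and `b ∈ p^t` with `a * s + b = 1`. -/
theorem exists_inv_mod_pow {s : R} (hs : s ∉ p) (t : ℕ) :
    ∃ a b : R, b ∈ p ^ t ∧ a * s + b = 1 := by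
  have h1 : Ideal.span {s} ⊔ p = ⊤ := by
    apply hp.1.2
    refine lt_of_le_of_ne le_sup_right ?_
    intro h
    apply hs
    rw [h]
    exact Ideal.mem_sup_left (Ideal.mem_span_singleton_self s)
  have h2 : Ideal.span {s} ⊔ p ^ t = ⊤ := Ideal.sup_pow_eq_top h1
  have h3 : (1 : R) ∈ Ideal.span {s} ⊔ p ^ t := by rw [h2]; trivial
  obtain ⟨x, hx, b, hb, hxb⟩ := Submodule.mem_sup.mp h3
  obtain ⟨a, rfl⟩ := Ideal.mem_span_singleton'.mp hx
  exact ⟨a, b, hb, hxb⟩

include hp in
/-- elements outside a maximal ideal `p` act bijectively on `p`-power torsion modules. -/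
theorem smul_bijective_of_torsion (htors : LocCoh.IsPowerTorsion p N) {s : R} (hs : s ∉ p) :
    Function.Bijective (fun y : N => s • y) := by
  constructor
  · intro y y' hyy'
    have h0 : s • (y - y') = 0 := by
      have : s • y = s • y' := hyy'
      rw [smul_sub, this, sub_self]
    obtain ⟨t, ht⟩ := htors (y - y')
    obtain ⟨a, b, hb, hab⟩ := exists_inv_mod_pow p hs t
    have h1 : y - y' = (a * s + b) • (y - y') := by rw [hab, one_smul]
    rw [add_smul, mul_smul, h0, smul_zero, ht b hb, add_zero] at h1
    exact sub_eq_zero.mp h1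
  · intro y
    obtain ⟨t, ht⟩ := htors y
    obtain ⟨a, b, hb, hab⟩ := exists_inv_mod_pow p hs t
    refine ⟨a • y, ?_⟩
    show s • a • y = y
    have h1 : y = (a * s + b) • y := by rw [hab, one_smul]
    rw [add_smul, ht b hb, add_zero, mul_comm, mul_smul] at h1
    exact h1.symm

include hp in
theorem mkLinearMap_bijective (htors : LocCoh.IsPowerTorsion p N) :
    Function.Bijective (LocalizedModule.mkLinearMap p.primeCompl N) := by
  constructor
  · rw [injective_iff_map_eq_zero]
    intro y hy
    rw [IsLocalizedModule.eq_zero_iff p.primeCompl] at hy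
    obtain ⟨c, hc⟩ := hy
    have := (smul_bijective_of_torsion p htors c.2).1
    exact this (by show (c : R) • y = (c : R) • 0; rw [smul_zero]; exact hc)
  · intro z
    induction z using LocalizedModule.induction_on with
    | h y s =>
      obtain ⟨y', hy'⟩ := (smul_bijective_of_torsion p htors s.2).2 y
      refine ⟨y', ?_⟩
      rw [LocalizedModule.mkLinearMap_apply, LocalizedModule.mk_eq]
      refine ⟨1, ?_⟩
      simp only [one_smul]
      have : (s : R) • y' = y := hy'
      rw [← this]
      rfl

/-- a `p`-power torsion module is its own localization at the maximal ideal `p`. -/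
noncomputable def torsLocEquiv (htors : LocCoh.IsPowerTorsion p N) :
    N ≃ₗ[R] LocalizedModule p.primeCompl N :=
  LinearEquiv.ofBijective (LocalizedModule.mkLinearMap p.primeCompl N)
    (mkLinearMap_bijective p htors)

end

end Groth.Agent.Lib.GrTorsLoc
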