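import Mathlib
import Groth.Agent.Lib.GrTorsLoc
import Groth.Agent.Lib.GrCanonBridge
import Groth.Agent.Lib.H29GorCanon
import Groth.Agent.Lib.H29LocCohReg
import Groth.Agent.Lib.H26CMDim

set_option autoImplicit false
set_option linter.unusedSectionVars false
set_option linter.style.haveILetI false

universe u

namespace Groth.Agent.Lib.GrGorDual

open DirectSum GrLC IsLocalRing Groth.Agent.Lib.GrBridgeLocal Groth.Agent.Lib.LocCohLocalization
  Groth.Agent.Lib.GrTorsLoc

section Ungraded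

variable {R : Type u} [CommRing R] [IsNoetherianRing R] (p : Ideal R) [hp : p.IsMaximal]
  {E' : Type u} [AddCommGroup E'] [Module R E'] (e : (R ⧸ p) →ₗ[R] E')
  (he : InjHull.IsInjectiveHull e) (htE : LocCoh.IsPowerTorsion p E')

include he htE in
/-- If `R_p` (`p` maximal) is Gorenstein of dimension `n`, then `H^n_p(R)` is isomorphic to the
injective hull of `R/p` (provided the latter is `p`-power torsion). -/
theorem nonempty_H_equiv_hull (n : ℕ) (hn : ringKrullDim (Localization.AtPrime p) = n)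
    [LocCoh.IsCohenMacaulayLocalRing (Localization.AtPrime p)]
    [LocCoh.IsGorensteinLocalRing (Localization.AtPrime p)] :
    Nonempty (LocCoh.H p n R ≃ₗ[R] E') := by
  have hf := isInjectiveHull_fA p e he
  obtain ⟨g⟩ := Groth.Agent.Lib.H29GorCanon.gorenstein_H_equiv (Localization.AtPrime p) n hn
    (fA p e) hf
  -- `H^n_p(R)_p ≃ H^n_{max}(R_p)`
  have h2 : Nonempty (LocalizedModule p.primeCompl (LocCoh.H p n R) ≃ₗ[Localization.AtPrime p]
      LocCoh.H (maximalIdeal (Localization.AtPrime p)) n (Localization.AtPrime p)) := by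
    rw [← Localization.AtPrime.map_eq_maximalIdeal]
    let e3 := localizedEquiv p p.primeCompl R n
    let e4 : LocalizedModule p.primeCompl R ≃ₗ[Localization p.primeCompl]
        Localization p.primeCompl :=
      LinearEquiv.extendScalarsOfIsLocalization p.primeCompl (Localization p.primeCompl)
        (IsLocalizedModule.iso p.primeCompl (Algebra.linearMap R (Localization p.primeCompl)))
    exact ⟨e3.trans (Hcongr _ e4 n)⟩
  obtain ⟨e2⟩ := h2
  have htH := Groth.Agent.Lib.H29LocCohReg.isPowerTorsion_H p R n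
  exact ⟨(torsLocEquiv p htH).trans (((e2.trans g).restrictScalars R).trans
    (torsLocEquiv p htE).symm)⟩

end Ungraded

/-- A Gorenstein ring is Cohen–Macaulay. -/
theorem isCohenMacaulayRing_of_isGorensteinRing (R : Type u) [CommRing R]
    [h : LocCoh.IsGorensteinRing R] : LocCoh.IsCohenMacaulayRing R := by
  haveI : IsNoetherianRing R := inferInstance
  refine { isCohenMacaulayLocalRing_localization := fun p _ => ?_ }
  haveI := h.isGorensteinLocalRing_localization p
  exact Groth.Agent.Lib.H26CMDim.isCohenMacaulayLocalRing_of_gorenstein _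

section Graded

variable {R : Type u} [CommRing R] [hG : LocCoh.IsGorensteinRing R]
  (𝒜 : ℤ → AddSubgroup R) [GradedRing 𝒜]
  (hpos : ∀ n : ℤ, n < 0 → 𝒜 n = ⊥) (h0 : IsField (deg0 𝒜))
  (m : HomogeneousIdeal 𝒜) (hm : GrLC.IsStarLocal 𝒜 m)
  (hmsp : m.toIdeal = Ideal.span (⋃ n ∈ Set.Ioi (0 : ℤ), (𝒜 n : Set R)))
  (n : ℕ) (hn : ringKrullDim R = n) (I : GrLC.StarInjRes 𝒜 𝒜)
variable {E' : Type u} [AddCommGroup E'] [Module R E'] (𝓔 : ℤ → AddSubgroup E')
  [Decomposition 𝓔] [SetLike.GradedSMul 𝒜 𝓔]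
  (e : (R ⧸ m.toIdeal) →ₗ[R] E') (he : IsStarInjHull 𝒜 (quotGr 𝒜 m) 𝓔 e)

include hpos hmsp he in
/-- `*E(R/m)` is `m`-power torsion. -/
theorem isPowerTorsion_E : LocCoh.IsPowerTorsion m.toIdeal E' := by
  intro y
  obtain ⟨t, ht⟩ := Groth.Agent.Lib.GrEInj.exists_ge_smul_eq_zero 𝒜 hpos m hmsp 𝓔 e he y
  exact ⟨t, fun a ha => ht a (Groth.Agent.Lib.GrEInj.pow_le_ge 𝒜 hpos m.toIdeal hmsp t ha)⟩

include hpos h0 hm hmsp hn he in
/-- For a Gorenstein graded ring over a field, the top local cohomology `H^n_m(R)` is isomorphic (as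
an ungraded module) to `*E(R/m)`. -/
theorem nonempty_H_equiv : Nonempty (I.H m n ≃ₗ[R] E') := by
  haveI hCM : LocCoh.IsCohenMacaulayRing R := isCohenMacaulayRing_of_isGorensteinRing R
  haveI hmax : m.toIdeal.IsMaximal :=
    Groth.Agent.Lib.H74GrArt.isMaximal_of_isStarLocal 𝒜 hpos m hm
  haveI := hG.isGorensteinLocalRing_localization m.toIdeal
  haveI := LocCoh.IsCohenMacaulayRing.isCohenMacaulayLocalRing_localization m.toIdeal
  have hnA := Groth.Agent.Lib.GrCanonBridge.dim_loc 𝒜 hpos m hm n hn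
  obtain ⟨ψ⟩ := Groth.Agent.S13224.main m I n
  obtain ⟨θ⟩ := nonempty_H_equiv_hull m.toIdeal e
    (Groth.Agent.Lib.GrCanonBridge.isInjectiveHull_e 𝒜 hpos h0 m hmsp 𝓔 e he)
    (isPowerTorsion_E 𝒜 hpos m hmsp 𝓔 e he) n hnA
  exact ⟨ψ.trans θ⟩

end Graded

end Groth.Agent.Lib.GrGorDual
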