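import Mathlib
import Groth.Agent.Lib.GrEInj

set_option autoImplicit false
set_option linter.unusedSectionVars false
set_option linter.style.haveILetI false

universe u

namespace Groth.Agent.Lib.GrPerf

open DirectSum GrLC Groth.Agent.Lib.H74Matlis Groth.Agent.S13229 Groth.Agent.Lib.H87GrMod

section Defs

variable {R : Type u} [CommRing R] (𝒜 : ℤ → AddSubgroup R) [GradedRing 𝒜]
variable {X : Type u} [AddCommGroup X] [Module R X] (ℋ : ℤ → AddSubgroup X)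
  [Decomposition ℋ] [SetLike.GradedSMul 𝒜 ℋ]

/-- A graded module `X` (bounded above by `a`) together with a `k`-linear functional `τ`
concentrated in degree `a` inducing perfect pairings `X_d × R_{a-d} → k`. -/
structure PerfData (a : ℤ) (τ : X →ₗ[deg0 𝒜] deg0 𝒜) : Prop where
  top : ∀ d, a < d → ℋ d = ⊥
  tau_ne : ∀ d, d ≠ a → ∀ x ∈ ℋ d, τ x = 0
  left : ∀ d, ∀ x ∈ ℋ d, x ≠ 0 → ∃ r ∈ 𝒜 (a - d), τ (r • x) ≠ 0
  right : ∀ d, ∀ r ∈ 𝒜 (a - d), r ≠ 0 → ∃ x ∈ ℋ d, τ (r • x) ≠ 0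

/-- The projection onto the degree-`a` component, `k`-linear. -/
def projDeg (a : ℤ) : X →ₗ[deg0 𝒜] X where
  toFun y := (decompose ℋ y a : X)
  map_add' y y' := by
    rw [decompose_add, DirectSum.add_apply, AddSubgroup.coe_add]
  map_smul' c y := by
    show (decompose ℋ ((c : R) • y) a : X) = (c : R) • (decompose ℋ y a : X)
    have := decompose_smul_of_mem_left ℋ 𝒜 c.2 y a
    rwa [zero_add] at this

theorem projDeg_of_mem {a : ℤ} {x : X} (hx : x ∈ ℋ a) : projDeg 𝒜 ℋ a x = x :=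
  decompose_of_mem_same ℋ hx

theorem projDeg_of_mem_ne {a d : ℤ} (hd : d ≠ a) {x : X} (hx : x ∈ ℋ d) :
    projDeg 𝒜 ℋ a x = 0 :=
  decompose_of_mem_ne ℋ hx hd

end Defs

section FromEquiv

variable {R : Type u} [CommRing R] (𝒜 : ℤ → AddSubgroup R) [GradedRing 𝒜]
  (hpos : ∀ n : ℤ, n < 0 → 𝒜 n = ⊥) (h0 : IsField (deg0 𝒜))
  (m : HomogeneousIdeal 𝒜)
  (hmsp : m.toIdeal = Ideal.span (⋃ n ∈ Set.Ioi (0 : ℤ), (𝒜 n : Set R)))
variable {E' : Type u} [AddCommGroup E'] [Module R E'] (𝓔 : ℤ → AddSubgroup E')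
  [Decomposition 𝓔] [SetLike.GradedSMul 𝒜 𝓔]
  (e : (R ⧸ m.toIdeal) →ₗ[R] E') (he : IsStarInjHull 𝒜 (quotGr 𝒜 m) 𝓔 e)
variable {X : Type u} [AddCommGroup X] [Module R X] (ℋ : ℤ → AddSubgroup X)
  [Decomposition ℋ] [SetLike.GradedSMul 𝒜 ℋ]

include hpos h0 hmsp he in
/-- The socle of `*E(R/m)` is `e(R/m)`. -/
theorem mem_range_of_smul_eq_zero {y : E'} (hy : ∀ r ∈ m.toIdeal, r • y = 0) :
    y ∈ LinearMap.range e := by
  by_cases hy0 : y = 0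
  · rw [hy0]; exact zero_mem _
  obtain ⟨r, hr0, hrmem⟩ :=
    Groth.Agent.Lib.GrEInj.exists_smul_ne_zero_general 𝒜 hpos m hmsp 𝓔 e he hy0
  have h1 : r • y = (decompose 𝒜 r 0 : R) • y := by
    have h2 := hy _ (sub_decompose_zero_mem 𝒜 hpos m hmsp r)
    rw [sub_smul, sub_eq_zero] at h2
    exact h2
  rw [h1] at hr0 hrmem
  have hc0 : (⟨(decompose 𝒜 r 0 : R), (decompose 𝒜 r 0).2⟩ : deg0 𝒜) ≠ 0 := by
    intro h
    apply hr0
    have : (decompose 𝒜 r 0 : R) = 0 := congrArg Subtype.val h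
    rw [this, zero_smul]
  obtain ⟨b, hb⟩ := h0.mul_inv_cancel hc0
  have hb' : (decompose 𝒜 r 0 : R) * (b : R) = 1 := congrArg Subtype.val hb
  have : y = (b : R) • ((decompose 𝒜 r 0 : R) • y) := by
    rw [← mul_smul, mul_comm, hb', one_smul]
  rw [this]
  exact Submodule.smul_mem _ _ hrmem

include hpos hmsp in
/-- elements of the top degree are killed by `m`. -/
theorem smul_eq_zero_of_top {a : ℤ} (htop : ∀ d, a < d → ℋ d = ⊥) {z : X} (hz : z ∈ ℋ a)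
    {r : R} (hr : r ∈ m.toIdeal) : r • z = 0 := by
  rw [hmsp] at hr
  refine Submodule.span_induction ?_ ?_ ?_ ?_ hr
  · intro s hs
    obtain ⟨j, hj, hsj⟩ := Set.mem_iUnion₂.mp hs
    have h1 : s • z ∈ ℋ (j + a) := SetLike.GradedSMul.smul_mem hsj hz
    have hj' : 0 < j := hj
    have h2 : s • z ∈ (⊥ : AddSubgroup X) := by rw [← htop (j + a) (by omega)]; exact h1
    exact (AddSubgroup.mem_bot).mp h2
  · exact zero_smul _ _
  · intro s s' _ _ hs hs'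
    rw [add_smul, hs, hs', add_zero]
  · intro c s _ hs
    rw [smul_eq_mul, mul_smul, hs, smul_zero]

variable (Θ : X ≃ₗ[R] E')

/-- the functional `τ = ε ∘ Θ ∘ pr_a`. -/
noncomputable def tau (a : ℤ) : X →ₗ[deg0 𝒜] deg0 𝒜 :=
  eps 𝒜 hpos h0 m hmsp 𝓔 e he ∘ₗ (Θ.toLinearMap.restrictScalars (deg0 𝒜)) ∘ₗ projDeg 𝒜 ℋ a

theorem tau_apply (a : ℤ) (x : X) :
    tau 𝒜 hpos h0 m hmsp 𝓔 e he ℋ Θ a x =
      eps 𝒜 hpos h0 m hmsp 𝓔 e he (Θ (projDeg 𝒜 ℋ a x)) := rfl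

include hpos h0 hmsp he in
/-- a nonzero element of `X` killed by `m` has nonzero `ε ∘ Θ`. -/
theorem eps_ne_zero_of_soc {z : X} (hz0 : z ≠ 0) (hz : ∀ r ∈ m.toIdeal, r • z = 0) :
    eps 𝒜 hpos h0 m hmsp 𝓔 e he (Θ z) ≠ 0 := by
  have h1 : Θ z ∈ LinearMap.range e :=
    mem_range_of_smul_eq_zero 𝒜 hpos h0 m hmsp 𝓔 e he (fun r hr => by
      rw [← map_smul, hz r hr, map_zero])
  have h2 : Θ z ∈ 𝓔 0 := range_e_le 𝒜 hpos m hmsp 𝓔 e he _ h1
  intro h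
  have h3 := eq_zero_of_eps_eq_zero 𝒜 hpos h0 m hmsp 𝓔 e he h2 h
  exact hz0 (Θ.injective (h3.trans (map_zero Θ).symm))

include hpos h0 hmsp he Θ in
/-- the socle of `X ≅ *E(R/m)` is concentrated in the top degree. -/
theorem deg_eq_of_soc {a d' : ℤ} (htop : ∀ d, a < d → ℋ d = ⊥) {z : X} (hz : z ∈ ℋ a)
    (hz0 : z ≠ 0) {y : X} (hy : y ∈ ℋ d') (hy0 : y ≠ 0) (hym : ∀ r ∈ m.toIdeal, r • y = 0) :
    d' = a := by
  by_contra hne
  have hzm : ∀ r ∈ m.toIdeal, r • z = 0 := fun r hr =>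
    smul_eq_zero_of_top 𝒜 hpos m hmsp ℋ htop hz hr
  have hcz := eps_ne_zero_of_soc 𝒜 hpos h0 m hmsp 𝓔 e he Θ hz0 hzm
  have hcy := eps_ne_zero_of_soc 𝒜 hpos h0 m hmsp 𝓔 e he Θ hy0 hym
  have hz1 : Θ z ∈ 𝓔 0 := range_e_le 𝒜 hpos m hmsp 𝓔 e he _
    (mem_range_of_smul_eq_zero 𝒜 hpos h0 m hmsp 𝓔 e he (fun r hr => by
      rw [← map_smul, hzm r hr, map_zero]))
  have hy1 : Θ y ∈ 𝓔 0 := range_e_le 𝒜 hpos m hmsp 𝓔 e he _
    (mem_range_of_smul_eq_zero 𝒜 hpos h0 m hmsp 𝓔 e he (fun r hr => by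
      rw [← map_smul, hym r hr, map_zero]))
  set c := eps 𝒜 hpos h0 m hmsp 𝓔 e he (Θ z) with hc
  set c' := eps 𝒜 hpos h0 m hmsp 𝓔 e he (Θ y) with hc'
  have e1 : (c : R) • u 𝒜 m e = Θ z := eps_smul_u_of_mem_zero 𝒜 hpos h0 m hmsp 𝓔 e he hz1
  have e2 : (c' : R) • u 𝒜 m e = Θ y := eps_smul_u_of_mem_zero 𝒜 hpos h0 m hmsp 𝓔 e he hy1
  have e3 : Θ ((c' : R) • z) = Θ ((c : R) • y) := by
    rw [map_smul, map_smul, ← e1, ← e2, ← mul_smul, ← mul_smul, mul_comm]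
  have e4 : (c' : R) • z = (c : R) • y := Θ.injective e3
  have h5 : (c' : R) • z ∈ ℋ a := by
    have := SetLike.GradedSMul.smul_mem (A := 𝒜) (B := ℋ) c'.2 hz
    rwa [vadd_eq_add, zero_add] at this
  have h6 : (c : R) • y ∈ ℋ d' := by
    have := SetLike.GradedSMul.smul_mem (A := 𝒜) (B := ℋ) c.2 hy
    rwa [vadd_eq_add, zero_add] at this
  have h7 : (c' : R) • z = 0 := by
    have h8 := decompose_of_mem_same ℋ h5
    rw [e4, decompose_of_mem_ne ℋ h6 hne] at h8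
    rw [← e4] at h8
    exact h8.symm
  obtain ⟨b, hb⟩ := h0.mul_inv_cancel hcy
  have hb' : (c' : R) * (b : R) = 1 := congrArg Subtype.val hb
  apply hz0
  have : z = (b : R) • ((c' : R) • z) := by rw [← mul_smul, mul_comm, hb', one_smul]
  rw [this, h7, smul_zero]

include hpos hmsp in
/-- the socle is a graded submodule. -/
theorem soc_component {w : X} (hw : ∀ r ∈ m.toIdeal, r • w = 0) (g : ℤ) :
    ∀ r ∈ m.toIdeal, r • (decompose ℋ w g : X) = 0 := by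
  intro r hr
  rw [hmsp] at hr
  refine Submodule.span_induction ?_ ?_ ?_ ?_ hr
  · intro s hs
    obtain ⟨j, hj, hsj⟩ := Set.mem_iUnion₂.mp hs
    have hsm : s ∈ m.toIdeal := mem_m_of_pos 𝒜 m hmsp hj hsj
    rw [← decompose_smul_of_mem_left ℋ 𝒜 hsj w g, hw s hsm, decompose_zero,
      DirectSum.zero_apply, ZeroMemClass.coe_zero]
  · exact zero_smul _ _
  · intro s s' _ _ hs hs'
    rw [add_smul, hs, hs', add_zero]
  · intro c s _ hs
    rw [smul_eq_mul, mul_smul, hs, smul_zero]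

include hpos h0 hmsp he in
/-- **left nondegeneracy** -/
theorem left_nondeg {a : ℤ} (htop : ∀ d, a < d → ℋ d = ⊥) (hne : ℋ a ≠ ⊥) (d : ℤ) {x : X}
    (hx : x ∈ ℋ d) (hx0 : x ≠ 0) :
    ∃ r ∈ 𝒜 (a - d), tau 𝒜 hpos h0 m hmsp 𝓔 e he ℋ Θ a (r • x) ≠ 0 := by
  classical
  obtain ⟨z, hz, hz0⟩ : ∃ z ∈ ℋ a, z ≠ 0 := by
    by_contra hcon
    push Not at hcon
    apply hne
    rw [eq_bot_iff]
    intro z hz
    exact (AddSubgroup.mem_bot).mpr (hcon z hz)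
  have hΘx : Θ x ≠ 0 := fun h => hx0 (Θ.injective (h.trans (map_zero Θ).symm))
  obtain ⟨r, hr0, hrmem⟩ :=
    Groth.Agent.Lib.GrEInj.exists_smul_ne_zero_general 𝒜 hpos m hmsp 𝓔 e he hΘx
  -- `w = r • x` is a nonzero socle element
  have hw0 : r • x ≠ 0 := by
    intro h
    apply hr0
    rw [← map_smul, h, map_zero]
  have hwm : ∀ s ∈ m.toIdeal, s • (r • x) = 0 := by
    intro s hs
    apply Θ.injective
    rw [map_smul, map_smul, map_zero]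
    obtain ⟨q, hq⟩ := hrmem
    rw [← hq, ← map_smul]
    obtain ⟨q', rfl⟩ := Ideal.Quotient.mk_surjective q
    have : s • (Ideal.Quotient.mk m.toIdeal q') = 0 := by
      change Ideal.Quotient.mk m.toIdeal (s * q') = 0
      exact Ideal.Quotient.eq_zero_iff_mem.mpr (Ideal.mul_mem_right _ _ hs)
    rw [this, map_zero]
  -- a nonzero component
  obtain ⟨g, hg⟩ : ∃ g, (decompose ℋ (r • x) g : X) ≠ 0 := by
    by_contra hcon
    push Not at hcon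
    apply hw0
    rw [← sum_support_decompose ℋ (r • x)]
    exact Finset.sum_eq_zero fun g _ => hcon g
  have hgd : g = (g - d) + d := by ring
  have hcomp : (decompose ℋ (r • x) g : X) = (decompose 𝒜 r (g - d) : R) • x := by
    conv_lhs => rw [hgd]
    exact decompose_smul_of_mem_right ℋ 𝒜 hx r (g - d)
  have hga : g = a := deg_eq_of_soc 𝒜 hpos h0 m hmsp 𝓔 e he ℋ Θ htop hz hz0
    (decompose ℋ (r • x) g).2 hg (soc_component 𝒜 hpos m hmsp ℋ hwm g)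
  subst hga
  refine ⟨(decompose 𝒜 r (g - d) : R), (decompose 𝒜 r (g - d)).2, ?_⟩
  rw [tau_apply, ← hcomp, projDeg_of_mem 𝒜 ℋ (decompose ℋ (r • x) g).2]
  exact eps_ne_zero_of_soc 𝒜 hpos h0 m hmsp 𝓔 e he Θ hg (soc_component 𝒜 hpos m hmsp ℋ hwm g)

include hpos h0 hmsp he in
/-- `*E(R/m)` is a faithful module (on homogeneous elements). -/
theorem exists_smul_ne_zero_of_ne_zero {j : ℤ} {r : R} (hr : r ∈ 𝒜 j) (hr0 : r ≠ 0) :
    ∃ ε : E', r • ε ≠ 0 := by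
  letI : Field (deg0 𝒜) := h0.toField
  have hr' : r ∈ 𝒜 (-(-j)) := by rw [neg_neg]; exact hr
  have hv : (⟨r, hr'⟩ : comp 𝒜 𝒜 (-(-j))) ≠ 0 := fun h => hr0 (congrArg Subtype.val h)
  obtain ⟨lf, hlf⟩ := Module.Projective.exists_dual_ne_zero (deg0 𝒜) hv
  obtain ⟨f, hf, hfe⟩ := exists_hom_of_functional 𝒜 hpos h0 m hmsp 𝓔 e he 𝒜 (d := -j) lf
  refine ⟨f 1, fun h => hlf ?_⟩
  have h2 : f r = r • f 1 := by rw [← map_smul, smul_eq_mul, mul_one]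
  rw [← hfe r hr', h2, h, map_zero]

include hpos h0 hmsp he in
/-- **right nondegeneracy** -/
theorem right_nondeg {a : ℤ} (htop : ∀ d, a < d → ℋ d = ⊥) (hne : ℋ a ≠ ⊥) (d : ℤ) {r : R}
    (hr : r ∈ 𝒜 (a - d)) (hr0 : r ≠ 0) :
    ∃ x ∈ ℋ d, tau 𝒜 hpos h0 m hmsp 𝓔 e he ℋ Θ a (r • x) ≠ 0 := by
  classical
  obtain ⟨ε, hε⟩ := exists_smul_ne_zero_of_ne_zero 𝒜 hpos h0 m hmsp 𝓔 e he hr hr0
  have h1 : r • Θ.symm ε ≠ 0 := by
    intro h
    apply hε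
    rw [← Θ.apply_symm_apply ε, ← map_smul, h, map_zero]
  obtain ⟨i, hi⟩ : ∃ i, r • (decompose ℋ (Θ.symm ε) i : X) ≠ 0 := by
    by_contra hcon
    push Not at hcon
    apply h1
    rw [← sum_support_decompose ℋ (Θ.symm ε), Finset.smul_sum]
    exact Finset.sum_eq_zero fun i _ => hcon i
  have hmem : r • (decompose ℋ (Θ.symm ε) i : X) ∈ ℋ (a - d + i) :=
    SetLike.GradedSMul.smul_mem hr (decompose ℋ (Θ.symm ε) i).2
  obtain ⟨s, hs, hτ⟩ := left_nondeg 𝒜 hpos h0 m hmsp 𝓔 e he ℋ Θ htop hne (a - d + i) hmem hi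
  refine ⟨s • (decompose ℋ (Θ.symm ε) i : X), ?_, ?_⟩
  · have := SetLike.GradedSMul.smul_mem (A := 𝒜) (B := ℋ) hs (decompose ℋ (Θ.symm ε) i).2
    have e1 : a - (a - d + i) + i = d := by ring
    rwa [vadd_eq_add, e1] at this
  · rw [smul_comm]
    exact hτ

include hpos h0 hmsp he in
/-- **Perfect pairing from an ungraded isomorphism with `*E(R/m)`.** -/
theorem perfData_of_equiv {a : ℤ} (htop : ∀ d, a < d → ℋ d = ⊥) (hne : ℋ a ≠ ⊥) :
    PerfData 𝒜 ℋ a (tau 𝒜 hpos h0 m hmsp 𝓔 e he ℋ Θ a) where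
  top := htop
  tau_ne d hd x hx := by
    rw [tau_apply, projDeg_of_mem_ne 𝒜 ℋ hd hx, map_zero, map_zero]
  left d x hx hx0 := left_nondeg 𝒜 hpos h0 m hmsp 𝓔 e he ℋ Θ htop hne d hx hx0
  right d r hr hr0 := right_nondeg 𝒜 hpos h0 m hmsp 𝓔 e he ℋ Θ htop hne d hr hr0

end FromEquiv

end Groth.Agent.Lib.GrPerf
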