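import Mathlib
import Groth.Agent.Lib.GrPerf1
import Groth.Agent.Lib.H74GrFin

set_option autoImplicit false
set_option linter.unusedSectionVars false
set_option linter.style.haveILetI false

universe u

namespace Groth.Agent.Lib.GrPerf

open DirectSum GrLC Groth.Agent.Lib.H74Matlis Groth.Agent.S13229 Groth.Agent.Lib.H87GrMod

section LinAlg

/-- a right-nondegenerate pairing with a finite-dimensional space is surjective onto its dual. -/
theorem surjective_of_right_nondeg {K : Type*} [Field K] {V Y : Type*} [AddCommGroup V]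
    [Module K V] [Module.Finite K V] [AddCommGroup Y] [Module K Y]
    (P : Y →ₗ[K] Module.Dual K V) (h : ∀ v : V, v ≠ 0 → ∃ y, P y v ≠ 0) :
    Function.Surjective P := by
  rw [← LinearMap.range_eq_top]
  have h1 : (LinearMap.range P).dualCoannihilator = ⊥ := by
    rw [eq_bot_iff]
    intro v hv
    rw [Submodule.mem_bot]
    by_contra hv0
    obtain ⟨y, hy⟩ := h v hv0
    apply hy
    rw [Submodule.mem_dualCoannihilator] at hv
    exact hv (P y) ⟨y, rfl⟩
  have h2 := Subspace.dualCoannihilator_dualAnnihilator_eq (W := LinearMap.range P)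
  rw [h1, Submodule.dualAnnihilator_bot] at h2
  exact h2.symm

end LinAlg

section Criterion

variable {R : Type u} [CommRing R] [IsNoetherianRing R] (𝒜 : ℤ → AddSubgroup R) [GradedRing 𝒜]
  (hpos : ∀ n : ℤ, n < 0 → 𝒜 n = ⊥) (h0 : IsField (deg0 𝒜))
  (m : HomogeneousIdeal 𝒜)
  (hmsp : m.toIdeal = Ideal.span (⋃ n ∈ Set.Ioi (0 : ℤ), (𝒜 n : Set R)))
variable {E' : Type u} [AddCommGroup E'] [Module R E'] (𝓔 : ℤ → AddSubgroup E')
  [Decomposition 𝓔] [SetLike.GradedSMul 𝒜 𝓔]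
  (e : (R ⧸ m.toIdeal) →ₗ[R] E') (he : IsStarInjHull 𝒜 (quotGr 𝒜 m) 𝓔 e)
variable {X : Type u} [AddCommGroup X] [Module R X] (ℋ : ℤ → AddSubgroup X)
  [Decomposition ℋ] [SetLike.GradedSMul 𝒜 ℋ]
variable {a : ℤ} {τ : X →ₗ[deg0 𝒜] deg0 𝒜} (hP : PerfData 𝒜 ℋ a τ)

/-- the functional `r ↦ τ (r • x)`. -/
def lam (τ : X →ₗ[deg0 𝒜] deg0 𝒜) (x : X) : R →ₗ[deg0 𝒜] deg0 𝒜 where
  toFun r := τ (r • x)
  map_add' r r' := by rw [add_smul, map_add]
  map_smul' c r := by
    have : (c • r) • x = c • (r • x) := by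
      show ((c : R) * r) • x = (c : R) • (r • x)
      rw [mul_smul]
    rw [this, map_smul]
    rfl

theorem lam_apply (x : X) (r : R) : lam 𝒜 τ x r = τ (r • x) := rfl

include hP in
/-- `τ (r • x) = 0` for homogeneous `r`, `x` unless the degrees add up to `a`. -/
theorem tau_smul_eq_zero {j d : ℤ} (hjd : j + d ≠ a) {r : R} (hr : r ∈ 𝒜 j) {x : X}
    (hx : x ∈ ℋ d) : τ (r • x) = 0 :=
  hP.tau_ne (j + d) hjd _ (SetLike.GradedSMul.smul_mem hr hx)

include hP in
/-- `r ↦ τ (r • x)` vanishes on `R_{≥ T}` for `T ≫ 0`. -/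
theorem lam_vanish (x : X) : ∃ T : ℕ, ∀ r ∈ ge 𝒜 𝒜 hpos (T : ℤ), lam 𝒜 τ x r = 0 := by
  classical
  by_cases hx : x = 0
  · exact ⟨0, fun r _ => by rw [lam_apply, hx, smul_zero, map_zero]⟩
  have hsupp : (decompose ℋ x).support.Nonempty := by
    rw [Finset.nonempty_iff_ne_empty]
    intro hempty
    apply hx
    rw [← sum_support_decompose ℋ x, hempty, Finset.sum_empty]
  set g₀ := (decompose ℋ x).support.min' hsupp with hg₀
  refine ⟨(a - g₀ + 1).toNat, fun r hr => ?_⟩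
  rw [lam_apply, ← sum_support_decompose 𝒜 r, Finset.sum_smul, map_sum]
  refine Finset.sum_eq_zero fun j _ => ?_
  by_cases hj : j < ((a - g₀ + 1).toNat : ℤ)
  · rw [hr j hj, zero_smul, map_zero]
  · rw [← sum_support_decompose ℋ x, Finset.smul_sum, map_sum]
    refine Finset.sum_eq_zero fun d hd => ?_
    have hle : g₀ ≤ d := Finset.min'_le _ d hd
    refine tau_smul_eq_zero 𝒜 ℋ hP ?_ (decompose 𝒜 r j).2 (decompose ℋ x d).2
    have := Int.self_le_toNat (a - g₀ + 1)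
    omega

include hpos h0 hmsp he in
/-- uniqueness of representing elements -/
theorem rep_unique {ε ε' : E'}
    (h : ∀ r : R, eps 𝒜 hpos h0 m hmsp 𝓔 e he (r • ε) = eps 𝒜 hpos h0 m hmsp 𝓔 e he (r • ε')) :
    ε = ε' := by
  have h1 := Groth.Agent.Lib.GrEInj.eq_zero_of_eps_comp_eq_zero 𝒜 hpos h0 m hmsp 𝓔 e he
    (LinearMap.toSpanSingleton R E' (ε - ε')) (fun r => by
      rw [LinearMap.toSpanSingleton_apply, smul_sub, map_sub, h r, sub_self])
  have h2 := LinearMap.congr_fun h1 1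
  rw [LinearMap.toSpanSingleton_apply, one_smul, LinearMap.zero_apply] at h2
  exact sub_eq_zero.mp h2

include hpos h0 hmsp he hP in
theorem exists_rep (x : X) :
    ∃ ε : E', ∀ r : R, eps 𝒜 hpos h0 m hmsp 𝓔 e he (r • ε) = τ (r • x) := by
  obtain ⟨T, hT⟩ := lam_vanish 𝒜 hpos ℋ hP x
  exact Groth.Agent.Lib.GrEInj.exists_eps_eq 𝒜 hpos h0 m hmsp 𝓔 e he T (lam 𝒜 τ x) hT

/-- the comparison map `X → *E(R/m)`. -/
noncomputable def repMap : X →ₗ[R] E' where
  toFun x := Classical.choose (exists_rep 𝒜 hpos h0 m hmsp 𝓔 e he ℋ hP x)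
  map_add' x y := by
    apply rep_unique 𝒜 hpos h0 m hmsp 𝓔 e he
    intro r
    have hxy := Classical.choose_spec (exists_rep 𝒜 hpos h0 m hmsp 𝓔 e he ℋ hP (x + y)) r
    have hx := Classical.choose_spec (exists_rep 𝒜 hpos h0 m hmsp 𝓔 e he ℋ hP x) r
    have hy := Classical.choose_spec (exists_rep 𝒜 hpos h0 m hmsp 𝓔 e he ℋ hP y) r
    rw [hxy, smul_add r (Classical.choose (exists_rep 𝒜 hpos h0 m hmsp 𝓔 e he ℋ hP x)), map_add,
      hx, hy, smul_add, map_add]
  map_smul' s x := by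
    apply rep_unique 𝒜 hpos h0 m hmsp 𝓔 e he
    intro r
    have hsx := Classical.choose_spec (exists_rep 𝒜 hpos h0 m hmsp 𝓔 e he ℋ hP (s • x)) r
    have hx := Classical.choose_spec (exists_rep 𝒜 hpos h0 m hmsp 𝓔 e he ℋ hP x) (r * s)
    rw [hsx, RingHom.id_apply, ← mul_smul r s (Classical.choose
      (exists_rep 𝒜 hpos h0 m hmsp 𝓔 e he ℋ hP x)), hx, mul_smul]

theorem repMap_spec (x : X) (r : R) :
    eps 𝒜 hpos h0 m hmsp 𝓔 e he (r • repMap 𝒜 hpos h0 m hmsp 𝓔 e he ℋ hP x) = τ (r • x) :=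
  Classical.choose_spec (exists_rep 𝒜 hpos h0 m hmsp 𝓔 e he ℋ hP x) r

theorem repMap_injective : Function.Injective (repMap 𝒜 hpos h0 m hmsp 𝓔 e he ℋ hP) := by
  classical
  rw [injective_iff_map_eq_zero]
  intro x hx
  by_contra hx0
  obtain ⟨d, hd⟩ : ∃ d, (decompose ℋ x d : X) ≠ 0 := by
    by_contra hcon
    push Not at hcon
    apply hx0
    rw [← sum_support_decompose ℋ x]
    exact Finset.sum_eq_zero fun g _ => hcon g
  obtain ⟨r, hr, hτ⟩ := hP.left d _ (decompose ℋ x d).2 hd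
  apply hτ
  have h1 : τ (r • x) = τ (r • (decompose ℋ x d : X)) := by
    conv_lhs => rw [← sum_support_decompose ℋ x, Finset.smul_sum, map_sum]
    by_cases hmem : d ∈ (decompose ℋ x).support
    · rw [Finset.sum_eq_single d]
      · intro d' _ hne
        exact tau_smul_eq_zero 𝒜 ℋ hP (by omega) hr (decompose ℋ x d').2
      · intro h; exact absurd hmem h
    · exfalso
      apply hd
      have := DFinsupp.notMem_support_iff.mp hmem
      rw [this]; rfl
  rw [← h1, ← repMap_spec 𝒜 hpos h0 m hmsp 𝓔 e he ℋ hP x r, hx, smul_zero, map_zero]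

/-- the pairing map `X_{a-j} → (R_j)^*`. -/
def pairMap (τ : X →ₗ[deg0 𝒜] deg0 𝒜) (d j : ℤ) :
    comp 𝒜 ℋ d →ₗ[deg0 𝒜] Module.Dual (deg0 𝒜) (comp 𝒜 𝒜 j) where
  toFun y := (lam 𝒜 τ (y : X)) ∘ₗ (comp 𝒜 𝒜 j).subtype
  map_add' y y' := by
    apply LinearMap.ext
    intro r
    show τ ((r : R) • ((y + y' : comp 𝒜 ℋ d) : X)) = τ ((r : R) • (y : X)) + τ ((r : R) • (y' : X))
    rw [Submodule.coe_add, smul_add, map_add]
  map_smul' c y := by
    apply LinearMap.ext
    intro r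
    show τ ((r : R) • ((c • y : comp 𝒜 ℋ d) : X)) = c • τ ((r : R) • (y : X))
    rw [Submodule.coe_smul, smul_comm, map_smul]

theorem pairMap_apply (d j : ℤ) (y : comp 𝒜 ℋ d) (r : comp 𝒜 𝒜 j) :
    pairMap 𝒜 ℋ τ d j y r = τ ((r : R) • (y : X)) := rfl

include h0 hP in
theorem pairMap_surjective (j : ℤ) : Function.Surjective (pairMap 𝒜 ℋ τ (a - j) j) := by
  letI : Field (deg0 𝒜) := h0.toField
  haveI : IsNoetherian (deg0 𝒜) (comp 𝒜 𝒜 j) := Groth.Agent.Lib.H74GrFin.isNoetherian_comp 𝒜 𝒜 j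
  haveI : Module.Finite (deg0 𝒜) (comp 𝒜 𝒜 j) := Module.IsNoetherian.finite _ _
  apply surjective_of_right_nondeg
  intro v hv
  have hv0 : (v : R) ≠ 0 := fun h => hv (Subtype.ext h)
  have hvmem : (v : R) ∈ 𝒜 (a - (a - j)) := by
    have e1 : a - (a - j) = j := by ring
    rw [e1]; exact v.2
  obtain ⟨x, hx, hτ⟩ := hP.right (a - j) (v : R) hvmem hv0
  exact ⟨⟨x, hx⟩, hτ⟩

include hP in
theorem repMap_surjective : Function.Surjective (repMap 𝒜 hpos h0 m hmsp 𝓔 e he ℋ hP) := by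
  classical
  intro ε
  obtain ⟨T, hT⟩ := Groth.Agent.Lib.GrEInj.exists_ge_smul_eq_zero 𝒜 hpos m hmsp 𝓔 e he ε
  -- the functional `r ↦ eps (r • ε)` on `R_j`
  let Λ : ∀ j : ℤ, Module.Dual (deg0 𝒜) (comp 𝒜 𝒜 j) := fun j =>
    { toFun := fun r => eps 𝒜 hpos h0 m hmsp 𝓔 e he ((r : R) • ε)
      map_add' := fun r r' => by rw [Submodule.coe_add, add_smul, map_add]
      map_smul' := fun c r => by
        have : ((c • r : comp 𝒜 𝒜 j) : R) • ε = c • ((r : R) • ε) := by
          show ((c : R) * (r : R)) • ε = (c : R) • ((r : R) • ε)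
          rw [mul_smul]
        rw [this, map_smul]
        rfl }
  have key : ∀ j : ℤ, ∃ y ∈ ℋ (a - j), ∀ r ∈ 𝒜 j,
      τ (r • y) = eps 𝒜 hpos h0 m hmsp 𝓔 e he (r • ε) := by
    intro j
    obtain ⟨y, hy⟩ := pairMap_surjective 𝒜 h0 ℋ hP j (Λ j)
    refine ⟨(y : X), y.2, fun r hr => ?_⟩
    have := LinearMap.congr_fun hy ⟨r, hr⟩
    exact this
  choose y hy hy' using key
  refine ⟨∑ i ∈ Finset.range T, y (i : ℤ), ?_⟩
  apply rep_unique 𝒜 hpos h0 m hmsp 𝓔 e he
  intro r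
  rw [repMap_spec]
  induction r using Decomposition.inductionOn 𝒜 with
  | zero => rw [zero_smul, zero_smul, map_zero, map_zero]
  | @homogeneous j c =>
    rw [Finset.smul_sum, map_sum]
    have hterm : ∀ i : ℕ, (i : ℤ) ≠ j → τ ((c : R) • y (i : ℤ)) = 0 := by
      intro i hij
      exact tau_smul_eq_zero 𝒜 ℋ hP (by omega) c.2 (hy (i : ℤ))
    rcases lt_or_ge j 0 with hj | hj
    · have hc0 : (c : R) = 0 := by
        have h1 : (c : R) ∈ (⊥ : AddSubgroup R) := by rw [← hpos j hj]; exact c.2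
        exact (AddSubgroup.mem_bot).mp h1
      rw [hc0, zero_smul, map_zero]
      refine Finset.sum_eq_zero fun i _ => ?_
      rw [zero_smul, map_zero]
    · obtain ⟨i₀, rfl⟩ := Int.eq_ofNat_of_zero_le hj
      by_cases hiT : i₀ < T
      · rw [Finset.sum_eq_single i₀]
        · exact hy' (i₀ : ℤ) (c : R) c.2
        · intro i _ hne
          exact hterm i (by exact_mod_cast hne)
        · intro h
          exact absurd (Finset.mem_range.mpr hiT) h
      · have hcge : (c : R) ∈ ge 𝒜 𝒜 hpos (T : ℤ) := by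
          intro n hn
          exact decompose_of_mem_ne 𝒜 c.2 (by omega)
        rw [hT _ hcge, map_zero]
        refine Finset.sum_eq_zero fun i hi => ?_
        have := Finset.mem_range.mp hi
        exact hterm i (by omega)
  | add s s' h h' => rw [add_smul, add_smul, map_add, map_add, h, h']

include hpos h0 hmsp e he hP in
/-- **Duality criterion**: a graded module with a perfect pairing against `R` is isomorphic to
`*E(R/m)`. -/
theorem nonempty_equiv_of_perfData : Nonempty (X ≃ₗ[R] E') :=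
  ⟨LinearEquiv.ofBijective (repMap 𝒜 hpos h0 m hmsp 𝓔 e he ℋ hP)
    ⟨repMap_injective 𝒜 hpos h0 m hmsp 𝓔 e he ℋ hP,
      repMap_surjective 𝒜 hpos h0 m hmsp 𝓔 e he ℋ hP⟩⟩

end Criterion

end Groth.Agent.Lib.GrPerf
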