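import Mathlib
import Groth.Agent.Lib.GrPerf2

set_option autoImplicit false
set_option linter.unusedSectionVars false
set_option linter.style.haveILetI false

universe u

namespace Groth.Agent.Lib.GrHalfPerf

open DirectSum GrLC Groth.Agent.Lib.GrPerf Groth.Agent.Lib.H87GrMod

section LinAlg

/-- extension of functionals through a linear map (over a field). -/
theorem exists_functional {K V W : Type*} [Field K] [AddCommGroup V] [Module K V]
    [AddCommGroup W] [Module K W] (F : V →ₗ[K] W) (G : V →ₗ[K] K)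
    (h : ∀ v, F v = 0 → G v = 0) : ∃ ℓ : W →ₗ[K] K, ∀ v, ℓ (F v) = G v := by
  have h1 : G ∈ (LinearMap.ker F).dualAnnihilator := by
    rw [Submodule.mem_dualAnnihilator]
    intro w hw
    exact h w (LinearMap.mem_ker.mp hw)
  rw [← LinearMap.range_dualMap_eq_dualAnnihilator_ker] at h1
  obtain ⟨ℓ, hℓ⟩ := h1
  exact ⟨ℓ, fun v => by rw [← hℓ]; rfl⟩

end LinAlg

section Main

variable {R : Type u} [CommRing R] [IsNoetherianRing R] (𝒜 : ℤ → AddSubgroup R) [GradedRing 𝒜]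
  (hpos : ∀ n : ℤ, n < 0 → 𝒜 n = ⊥) (h0 : IsField (deg0 𝒜))
variable {X : Type u} [AddCommGroup X] [Module R X] (ℋ : ℤ → AddSubgroup X)
  [Decomposition ℋ] [SetLike.GradedSMul 𝒜 ℋ]
variable (A : ℤ) (x₀ : X) (hx₀ : x₀ ∈ ℋ A) (hx₀ne : x₀ ≠ 0)
  (hone : ∀ y ∈ ℋ A, ∃ c : deg0 𝒜, y = (c : R) • x₀)
  (hright : ∀ t, ∀ r ∈ 𝒜 t, r ≠ 0 → ∃ x ∈ ℋ (A - t), r • x ≠ 0)
  (Q : ℕ)
  (hZ : ∀ d, ∀ x ∈ ℋ d, (∀ r ∈ 𝒜 (A - d), r • x = 0) →
    ∀ j : ℤ, (Q : ℤ) ≤ j → ∀ r ∈ 𝒜 j, r • x = 0)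
  (y₁ y₂ : R) (δ₁ δ₂ : ℤ) (hδ₁ : 0 < δ₁) (hδ₂ : 0 < δ₂) (hy₁ : y₁ ∈ 𝒜 δ₁) (hy₂ : y₂ ∈ 𝒜 δ₂)
  (hreg : ∀ r s : R, y₂ * r = y₁ * s → ∃ r', r = y₁ * r')
  (hdiv : ∀ d, ∀ x ∈ ℋ d, ∃ x' ∈ ℋ (d - δ₁), y₁ • x' = x)

include hpos h0 hx₀ hx₀ne hone hright hZ hδ₁ hδ₂ hy₁ hy₂ hreg hdiv in
/-- **Half-perfect pairings are perfect**: a graded module `X`, with one-dimensional piece in
degree `A`, faithful in the graded sense against `R` (`hright`), whose graded "radical"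
`Z = {x : R_{A - deg x} x = 0}` is killed by `R_{≥ Q}` (`hZ`), and divisible by `y₁` where `y₁, y₂`
is a homogeneous regular sequence of positive degrees, carries a perfect pairing. -/
theorem exists_perfData : ∃ τ : X →ₗ[deg0 𝒜] deg0 𝒜, PerfData 𝒜 ℋ A τ := by
  classical
  letI : Field (deg0 𝒜) := h0.toField
  obtain ⟨τ₀, hτ₀⟩ := Module.Projective.exists_dual_ne_zero (deg0 𝒜) hx₀ne
  set τ : X →ₗ[deg0 𝒜] deg0 𝒜 := τ₀ ∘ₗ projDeg 𝒜 ℋ A with hτdef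
  have tau_ne : ∀ d, d ≠ A → ∀ x ∈ ℋ d, τ x = 0 := by
    intro d hd x hx
    show τ₀ (projDeg 𝒜 ℋ A x) = 0
    rw [projDeg_of_mem_ne 𝒜 ℋ hd hx, map_zero]
  have tau_A : ∀ y ∈ ℋ A, τ y = 0 → y = 0 := by
    intro y hy hτy
    obtain ⟨c, rfl⟩ := hone y hy
    have h1 : τ ((c : R) • x₀) = c • τ₀ x₀ := by
      show τ₀ (projDeg 𝒜 ℋ A ((c : R) • x₀)) = _
      rw [projDeg_of_mem 𝒜 ℋ hy]
      exact map_smul τ₀ c x₀
    rw [h1, smul_eq_mul, mul_eq_zero] at hτy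
    rcases hτy with h | h
    · rw [h]; simp
    · exact absurd h hτ₀
  have tau_smul_zero : ∀ d, ∀ z ∈ ℋ d, (∀ r ∈ 𝒜 (A - d), r • z = 0) →
      ∀ r : R, τ (r • z) = 0 := by
    intro d z hz hzc r
    rw [← sum_support_decompose 𝒜 r, Finset.sum_smul, map_sum]
    refine Finset.sum_eq_zero fun j _ => ?_
    by_cases hj : j + d = A
    · have hj' : j = A - d := by omega
      rw [hzc _ (hj' ▸ (decompose 𝒜 r j).2), map_zero]
    · exact tau_ne (j + d) hj _ (SetLike.GradedSMul.smul_mem (decompose 𝒜 r j).2 hz)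
  have hsurj : ∀ j, Function.Surjective (pairMap 𝒜 ℋ τ (A - j) j) := by
    intro j
    haveI : IsNoetherian (deg0 𝒜) (comp 𝒜 𝒜 j) := Groth.Agent.Lib.H74GrFin.isNoetherian_comp 𝒜 𝒜 j
    haveI : Module.Finite (deg0 𝒜) (comp 𝒜 𝒜 j) := Module.IsNoetherian.finite _ _
    apply surjective_of_right_nondeg
    intro v hv
    have hv0 : (v : R) ≠ 0 := fun h => hv (Subtype.ext h)
    obtain ⟨x, hx, hne⟩ := hright j (v : R) v.2 hv0
    refine ⟨⟨x, hx⟩, ?_⟩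
    rw [pairMap_apply]
    intro h
    apply hne
    refine tau_A _ ?_ h
    have := SetLike.GradedSMul.smul_mem (A := 𝒜) (B := ℋ) v.2 hx
    rw [vadd_eq_add] at this
    have e1 : j + (A - j) = A := by ring
    rwa [e1] at this
  have hregQ : ∀ N : ℕ, ∀ r s : R, y₂ ^ N * r = y₁ * s → ∃ r', r = y₁ * r' := by
    intro N
    induction N with
    | zero => intro r s h; exact ⟨s, by simpa using h⟩
    | succ N ih =>
      intro r s h
      have h' : y₂ * (y₂ ^ N * r) = y₁ * s := by rw [← h]; ring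
      obtain ⟨r₁, hr₁⟩ := hreg _ _ h'
      exact ih r r₁ hr₁
  have step : ∀ d, ∀ z ∈ ℋ d, (∀ r ∈ 𝒜 (A - d), r • z = 0) →
      ∃ z' ∈ ℋ (d - δ₁), (∀ r ∈ 𝒜 (A - (d - δ₁)), r • z' = 0) ∧ y₁ • z' = z := by
    intro d z hz hzc
    obtain ⟨h, hh, hyh⟩ := hdiv d z hz
    set s := A - (d - δ₁) + (Q : ℤ) * δ₂ with hs
    let mulL : R → (R →ₗ[deg0 𝒜] R) := fun y =>
      { toFun := fun r => y * r
        map_add' := mul_add y
        map_smul' := fun c r => by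
          show y * ((c : R) * r) = (c : R) * (y * r)
          ring }
    let F : (R × R) →ₗ[deg0 𝒜] R := (mulL (y₂ ^ Q)).coprod (mulL y₁)
    let G : (R × R) →ₗ[deg0 𝒜] deg0 𝒜 := (lam 𝒜 τ h) ∘ₗ (LinearMap.fst _ _ _)
    have hFG : ∀ v, F v = 0 → G v = 0 := by
      rintro ⟨r, r'⟩ hv
      have hv' : y₂ ^ Q * r + y₁ * r' = 0 := hv
      have h3 : y₂ ^ Q * r = y₁ * (-r') := by linear_combination hv'
      obtain ⟨r'', rfl⟩ := hregQ Q r (-r') h3
      show τ ((y₁ * r'') • h) = 0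
      rw [mul_comm, mul_smul, hyh]
      exact tau_smul_zero d z hz hzc r''
    obtain ⟨ℓ, hℓ⟩ := exists_functional F G hFG
    have hℓ' : ∀ r r' : R, ℓ (y₂ ^ Q * r + y₁ * r') = τ (r • h) := fun r r' => hℓ (r, r')
    let Λ : Module.Dual (deg0 𝒜) (comp 𝒜 𝒜 s) := ℓ ∘ₗ (comp 𝒜 𝒜 s).subtype
    obtain ⟨h', hh'⟩ := hsurj s Λ
    have hrep : ∀ r ∈ 𝒜 s, τ (r • (h' : X)) = ℓ r := by
      intro r hr
      have := LinearMap.congr_fun hh' ⟨r, hr⟩
      exact this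
    have hh'mem : (h' : X) ∈ ℋ (A - s) := h'.2
    have hy2Q : y₂ ^ Q ∈ 𝒜 ((Q : ℤ) * δ₂) := by
      have := SetLike.pow_mem_graded Q hy₂
      rwa [nsmul_eq_mul] at this
    have hyh' : y₁ • (h' : X) ∈ ℋ (δ₁ + (A - s)) := SetLike.GradedSMul.smul_mem hy₁ hh'mem
    have hyh'Z : ∀ r ∈ 𝒜 (A - (δ₁ + (A - s))), r • (y₁ • (h' : X)) = 0 := by
      intro r hr
      have hmem : r • (y₁ • (h' : X)) ∈ ℋ A := by
        have := SetLike.GradedSMul.smul_mem (A := 𝒜) (B := ℋ) hr hyh'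
        rw [vadd_eq_add] at this
        have e1 : A - (δ₁ + (A - s)) + (δ₁ + (A - s)) = A := by ring
        rwa [e1] at this
      apply tau_A _ hmem
      rw [← mul_smul]
      have hrs : r * y₁ ∈ 𝒜 s := by
        have := SetLike.GradedMul.mul_mem (A := 𝒜) hr hy₁
        have e1 : A - (δ₁ + (A - s)) + δ₁ = s := by ring
        rwa [e1] at this
      rw [hrep _ hrs]
      have := hℓ' 0 r
      rw [mul_zero, zero_add, zero_smul, map_zero] at this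
      rw [mul_comm]; exact this
    have hkill : y₂ ^ Q • (y₁ • (h' : X)) = 0 :=
      hZ _ _ hyh' hyh'Z ((Q : ℤ) * δ₂) (by nlinarith [Nat.cast_nonneg (α := ℤ) Q]) _ hy2Q
    refine ⟨h - y₂ ^ Q • (h' : X), ?_, ?_, ?_⟩
    · refine sub_mem hh ?_
      have := SetLike.GradedSMul.smul_mem (A := 𝒜) (B := ℋ) hy2Q hh'mem
      rw [vadd_eq_add] at this
      have e1 : (Q : ℤ) * δ₂ + (A - s) = d - δ₁ := by rw [hs]; ring
      rwa [e1] at this
    · intro r hr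
      have hrs : r * y₂ ^ Q ∈ 𝒜 s := SetLike.GradedMul.mul_mem (A := 𝒜) hr hy2Q
      have hmem : r • (h - y₂ ^ Q • (h' : X)) ∈ ℋ A := by
        have h1 : r • h ∈ ℋ A := by
          have := SetLike.GradedSMul.smul_mem (A := 𝒜) (B := ℋ) hr hh
          rw [vadd_eq_add] at this
          have e1 : A - (d - δ₁) + (d - δ₁) = A := by ring
          rwa [e1] at this
        have h2 : (r * y₂ ^ Q) • (h' : X) ∈ ℋ A := by
          have := SetLike.GradedSMul.smul_mem (A := 𝒜) (B := ℋ) hrs hh'mem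
          rw [vadd_eq_add] at this
          have e1 : s + (A - s) = A := by ring
          rwa [e1] at this
        rw [smul_sub, ← mul_smul]
        exact sub_mem h1 h2
      apply tau_A _ hmem
      rw [smul_sub, map_sub, ← mul_smul, hrep _ hrs]
      have := hℓ' r 0
      rw [mul_zero, add_zero] at this
      rw [mul_comm, this, sub_self]
    · rw [smul_sub, hyh, smul_comm, hkill, sub_zero]
  have iter : ∀ N : ℕ, ∀ d, ∀ z ∈ ℋ d, (∀ r ∈ 𝒜 (A - d), r • z = 0) →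
      ∃ z' ∈ ℋ (d - (N : ℤ) * δ₁), (∀ r ∈ 𝒜 (A - (d - (N : ℤ) * δ₁)), r • z' = 0) ∧
        y₁ ^ N • z' = z := by
    intro N
    induction N with
    | zero =>
      intro d z hz hzc
      refine ⟨z, by simpa using hz, by simpa using hzc, by simp⟩
    | succ N ih =>
      intro d z hz hzc
      obtain ⟨z₁, hz₁, hz₁c, hz₁e⟩ := step d z hz hzc
      obtain ⟨z₂, hz₂, hz₂c, hz₂e⟩ := ih (d - δ₁) z₁ hz₁ hz₁c
      have e1 : d - δ₁ - (N : ℤ) * δ₁ = d - ((N + 1 : ℕ) : ℤ) * δ₁ := by push_cast; ring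
      refine ⟨z₂, e1 ▸ hz₂, ?_, ?_⟩
      · rw [← e1]; exact hz₂c
      · rw [pow_succ', mul_smul, hz₂e, hz₁e]
  have hZ0 : ∀ d, ∀ z ∈ ℋ d, (∀ r ∈ 𝒜 (A - d), r • z = 0) → z = 0 := by
    intro d z hz hzc
    obtain ⟨z', hz', hz'c, hz'e⟩ := iter Q d z hz hzc
    rw [← hz'e]
    have hyQ : y₁ ^ Q ∈ 𝒜 ((Q : ℤ) * δ₁) := by
      have := SetLike.pow_mem_graded Q hy₁
      rwa [nsmul_eq_mul] at this
    exact hZ _ _ hz' hz'c _ (by nlinarith [Nat.cast_nonneg (α := ℤ) Q]) _ hyQ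
  have left : ∀ d, ∀ x ∈ ℋ d, x ≠ 0 → ∃ r ∈ 𝒜 (A - d), τ (r • x) ≠ 0 := by
    intro d x hx hx0
    by_contra hcon
    push Not at hcon
    apply hx0
    apply hZ0 d x hx
    intro r hr
    have hmem : r • x ∈ ℋ A := by
      have := SetLike.GradedSMul.smul_mem (A := 𝒜) (B := ℋ) hr hx
      rw [vadd_eq_add] at this
      have e1 : A - d + d = A := by ring
      rwa [e1] at this
    exact tau_A _ hmem (hcon r hr)
  refine ⟨τ, ⟨?_, tau_ne, left, ?_⟩⟩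
  · intro d hd
    rw [eq_bot_iff]
    intro x hx
    rw [AddSubgroup.mem_bot]
    by_contra hx0
    obtain ⟨r, hr, hτ⟩ := left d x hx hx0
    have hr0 : r = 0 := by
      have h1 : r ∈ (⊥ : AddSubgroup R) := by rw [← hpos (A - d) (by omega)]; exact hr
      exact AddSubgroup.mem_bot.mp h1
    apply hτ
    rw [hr0, zero_smul, map_zero]
  · intro d r hr hr0
    obtain ⟨x, hx, hne⟩ := hright (A - d) r hr hr0
    have e1 : A - (A - d) = d := by ring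
    rw [e1] at hx
    refine ⟨x, hx, fun h => hne (tau_A _ ?_ h)⟩
    have := SetLike.GradedSMul.smul_mem (A := 𝒜) (B := ℋ) hr hx
    rw [vadd_eq_add] at this
    have e2 : A - d + d = A := by ring
    rwa [e2] at this

end Main

end Groth.Agent.Lib.GrHalfPerf
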