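import Mathlib
import Groth.Agent.Lib.GrHilb

/-!
# Hilbert function in terms of graded Betti numbers (helper12)
-/


set_option autoImplicit false
set_option linter.unusedSectionVars false

namespace Groth.Agent.Lib.GrHilbBetti

universe u

section

variable {k : Type u} [Field k] {r : ℕ}
  {M : Type u} [AddCommGroup M] [Module k M] [Module (MvPolynomial (Fin (r + 1)) k) M]
  [IsScalarTower k (MvPolynomial (Fin (r + 1)) k) M]
  {ℳ : ℤ → Submodule k M} [DirectSum.Decomposition ℳ]
  [SetLike.GradedSMul (GrSyz.stdGr k (Fin (r + 1))) ℳ]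
  (F : GrSyz.FreeRes (GrSyz.stdGr k (Fin (r + 1))) ℳ)

/-- the finite set of all degrees of basis vectors of the terms up to `m` -/
noncomputable def allDegs (m : ℕ) : Finset ℤ :=
  (Finset.range (m + 1)).biUnion fun i => Finset.univ.image (F.deg i)

lemma betti_eq_zero_of_notMem {m : ℕ} {i : ℕ} (hi : i ∈ Finset.range (m + 1)) {j : ℤ}
    (hj : j ∉ allDegs F m) : F.betti i j = 0 := by
  unfold GrSyz.FreeRes.betti
  rw [Finset.card_eq_zero, Finset.filter_eq_empty_iff]
  intro b _ hb
  exact hj (Finset.mem_biUnion.2 ⟨i, hi, Finset.mem_image.2 ⟨b, Finset.mem_univ _, hb⟩⟩)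

/-- summing over the basis vectors = summing over degrees with multiplicities -/
lemma sum_deg_eq {m : ℕ} {i : ℕ} (hi : i ∈ Finset.range (m + 1)) (f : ℤ → ℤ) :
    ∑ b : Fin (F.rk i), f (F.deg i b) = ∑ j ∈ allDegs F m, (F.betti i j : ℤ) * f j := by
  classical
  have h1 : ∀ b : Fin (F.rk i), f (F.deg i b) =
      ∑ j ∈ allDegs F m, if F.deg i b = j then f j else 0 := by
    intro b
    rw [Finset.sum_ite_eq]
    rw [if_pos]
    exact Finset.mem_biUnion.2 ⟨i, hi, Finset.mem_image.2 ⟨b, Finset.mem_univ _, rfl⟩⟩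
  rw [Finset.sum_congr rfl fun b _ => h1 b, Finset.sum_comm]
  refine Finset.sum_congr rfl fun j _ => ?_
  unfold GrSyz.FreeRes.betti
  rw [Finset.card_filter, Nat.cast_sum, Finset.sum_mul]
  refine Finset.sum_congr rfl fun b _ => ?_
  split_ifs <;> simp

/-- the alternating sums of Betti numbers -/
noncomputable def B (m : ℕ) (j : ℤ) : ℤ :=
  ∑ i ∈ Finset.range (m + 1), (-1 : ℤ) ^ i * (F.betti i j : ℤ)

lemma B_eq_zero_of_notMem {m : ℕ} {j : ℤ} (hj : j ∉ allDegs F m) : B F m j = 0 := by
  unfold B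
  refine Finset.sum_eq_zero fun i hi => ?_
  rw [betti_eq_zero_of_notMem F hi hj]
  simp

theorem hilbert_betti (m : ℕ) (hF : F.HasLengthLE m) (d : ℤ) :
    (Module.finrank k ↥(ℳ d) : ℤ) =
      ∑ᶠ j : ℤ, B F m j *
        (if j ≤ d then ((Nat.choose (r + (d - j).toNat) r : ℕ) : ℤ) else 0) := by
  rw [Groth.Agent.Lib.GrHilb.hilbert_stdGr k r M ℳ F m hF d]
  rw [finsum_eq_sum_of_support_subset (s := allDegs F m)]
  · have : ∀ i ∈ Finset.range (m + 1), (-1 : ℤ) ^ i * ∑ b : Fin (F.rk i),
        (if F.deg i b ≤ d then ((Nat.choose (r + (d - F.deg i b).toNat) r : ℕ) : ℤ) else 0) =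
        ∑ j ∈ allDegs F m, (-1 : ℤ) ^ i * (F.betti i j : ℤ) *
          (if j ≤ d then ((Nat.choose (r + (d - j).toNat) r : ℕ) : ℤ) else 0) := by
      intro i hi
      rw [sum_deg_eq F hi (fun j => if j ≤ d then ((Nat.choose (r + (d - j).toNat) r : ℕ) : ℤ) else 0),
        Finset.mul_sum]
      refine Finset.sum_congr rfl fun j _ => ?_
      ring
    rw [Finset.sum_congr rfl this, Finset.sum_comm]
    refine Finset.sum_congr rfl fun j _ => ?_
    unfold B
    rw [Finset.sum_mul]
  · intro j hj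
    by_contra hnot
    rw [Function.mem_support, B_eq_zero_of_notMem F hnot, zero_mul] at hj
    exact hj rfl

theorem betti_recursion (m : ℕ) (hF : F.HasLengthLE m) (j : ℤ) :
    B F m j = (Module.finrank k ↥(ℳ j) : ℤ) -
      ∑ᶠ n : ℤ, (if n < j then B F m n * ((Nat.choose (r + (j - n).toNat) r : ℕ) : ℤ) else 0) := by
  classical
  rw [hilbert_betti F m hF j]
  have hpt : ∀ n : ℤ, B F m n *
      (if n ≤ j then ((Nat.choose (r + (j - n).toNat) r : ℕ) : ℤ) else 0) =
      (if n < j then B F m n * ((Nat.choose (r + (j - n).toNat) r : ℕ) : ℤ) else 0) +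
        (if n = j then B F m j else 0) := by
    intro n
    rcases lt_trichotomy n j with h | h | h
    · rw [if_pos h.le, if_pos h, if_neg h.ne, add_zero]
    · subst h
      simp
    · rw [if_neg (not_le.2 h), if_neg (not_lt.2 h.le), if_neg h.ne', mul_zero, add_zero]
  rw [finsum_congr hpt, finsum_add_distrib, finsum_eq_single _ j (fun n hn => if_neg hn), if_pos rfl]
  · ring
  · refine (allDegs F m).finite_toSet.subset ?_
    intro n hn
    by_contra hnot
    rw [Function.mem_support, B_eq_zero_of_notMem F hnot] at hn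
    simp at hn
  · exact (Set.finite_singleton j).subset (fun n hn => by
      by_contra hnot
      have hnj : n ≠ j := fun h => hnot (by rw [h]; exact Set.mem_singleton j)
      rw [Function.mem_support, if_neg hnj] at hn
      exact hn rfl)

end

end Groth.Agent.Lib.GrHilbBetti
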