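import Mathlib
import Groth.Agent.Lib.GrSyzBasic
import Groth.Agent.Lib.GrCmp
import Groth.Agent.Lib.GrTor
import Groth.Agent.Lib.GrHilb
import Groth.Prelude.Def_GrLC

/-!
# Degrees in the Hilbert–Burch resolution of a set of points in the plane (helper12)

Elementary route (no Hilbert–Burch theorem needed):
* `block_vanish` : linear algebra over a domain: a `(t+1) × t` matrix with independent columns and
  a zero block in rows `≤ i`, columns `≥ i` forces a row vector killing it to vanish at `i+1`;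
* `one_le_deg_sub` : in a minimal resolution `0 → F_2 → F_1 → F_0` with ranks `t, t+1` and ordered
  bases, the diagonal degrees `b_i - a_i` are `≥ 1`;
* `rk_zero_of_cyclic` : `F_0 = S` for a cyclic module generated in degree `0`;
* `finrank_le_card` : the Hilbert function of the coordinate ring of finitely many points is bounded;
* `sum_deg_eq` : bounded Hilbert function forces `Σ a_i = Σ b_j`.
-/

set_option autoImplicit false
set_option linter.unusedSectionVars false
universe u
open Matrix DirectSum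

namespace Groth.Agent.Lib.GrHilbBurch

/-- sum over `Fin t` of a function vanishing below `i`, as a sum over the subtype -/
lemma sum_subtype_ge {S : Type*} [AddCommMonoid S] {t : ℕ} (i : Fin t) (f : Fin t → S)
    (hf : ∀ q : Fin t, ¬ i.val ≤ q.val → f q = 0) :
    ∑ q, f q = ∑ b : {q : Fin t // i.val ≤ q.val}, f b.1 := by
  classical
  rw [← Finset.sum_subtype (Finset.univ.filter fun q : Fin t => i.val ≤ q.val)
    (fun x => by simp) f]
  rw [Finset.sum_filter]
  refine Finset.sum_congr rfl fun q _ => ?_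
  split_ifs with h
  · rfl
  · exact hf q h

/-- the key linear algebra step: a `(t+1) × t` matrix with independent columns over a domain, with a
zero block in rows `≤ i`, columns `≥ i`, forces a row vector killing it to vanish at `i+1`. -/
theorem block_vanish {S : Type*} [CommRing S] [IsDomain S] {t : ℕ}
    (A : Matrix (Fin (t + 1)) (Fin t) S) (hinj : ∀ v : Fin t → S, A *ᵥ v = 0 → v = 0)
    (g : Fin (t + 1) → S) (hg : g ᵥ* A = 0)
    (i : Fin t)
    (hzero : ∀ (p : Fin (t + 1)) (q : Fin t), p.val ≤ i.val → i.val ≤ q.val → A p q = 0) :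
    g i.succ = 0 := by
  classical
  let J := {q : Fin t // i.val ≤ q.val}
  let C : Matrix J J S := fun a b => A a.1.succ b.1
  by_cases hdet : C.det = 0
  · exfalso
    obtain ⟨v, hv, hCv⟩ := Matrix.exists_mulVec_eq_zero_iff.mpr hdet
    let v' : Fin t → S := fun q => if h : i.val ≤ q.val then v ⟨q, h⟩ else 0
    have hv' : A *ᵥ v' = 0 := by
      funext p
      show ∑ q, A p q * v' q = 0
      rw [sum_subtype_ge i (fun q => A p q * v' q)
        (fun q hq => by simp only [v', dif_neg hq, mul_zero])]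
      by_cases hp : p.val ≤ i.val
      · refine Finset.sum_eq_zero fun b _ => ?_
        rw [hzero p b.1 hp b.2, zero_mul]
      · have hp0 : p ≠ 0 := by
          intro h0
          apply hp
          rw [h0]
          simp
        obtain ⟨a, rfl⟩ := Fin.exists_succ_eq.mpr hp0
        have ha : i.val ≤ a.val := by
          have : ¬ (a.val + 1 ≤ i.val) := by simpa using hp
          omega
        have := congrFun hCv ⟨a, ha⟩
        simp only [Matrix.mulVec, dotProduct, Pi.zero_apply] at this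
        rw [← this]
        refine Finset.sum_congr rfl fun b _ => ?_
        simp only [v', dif_pos b.2, C]
    have h0 := hinj v' hv'
    apply hv
    funext b
    have := congrFun h0 b.1
    simp only [v', dif_pos b.2, Pi.zero_apply] at this
    exact this
  · let w : J → S := fun a => g a.1.succ
    have hw : w ᵥ* C = 0 := by
      funext b
      have := congrFun hg b.1
      simp only [Matrix.vecMul, dotProduct, Pi.zero_apply] at this ⊢
      rw [Fin.sum_univ_succ, hzero 0 b.1 (by simp) b.2, mul_zero, zero_add] at this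
      rw [sum_subtype_ge i (fun a : Fin t => g a.succ * A a.succ b.1)] at this
      · exact this
      · intro a ha
        rw [hzero a.succ b.1 (by simp only [Fin.val_succ]; omega) b.2, mul_zero]
    have hw0 : w = 0 := by
      by_contra hne
      exact hdet (Matrix.exists_vecMul_eq_zero_iff.mp ⟨w, hne, hw⟩)
    exact congrFun hw0 ⟨i, le_rfl⟩

section Gen

variable {R : Type u} [CommRing R]
variable {M : Type u} [AddCommGroup M] [Module R M] {σ : Type u} [SetLike σ M] [AddSubgroupClass σ M]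
  (ℳ : ℤ → σ)
variable {N : Type u} [AddCommGroup N] [Module R N] {τ : Type u} [SetLike τ N] [AddSubgroupClass τ N]
  (𝒩 : ℤ → τ)

/-- A homogeneous map commutes with taking homogeneous components (any `SetLike` gradings). -/
theorem decompose_map' [Decomposition ℳ] [Decomposition 𝒩] {f : M →ₗ[R] N}
    (hf : GrLC.IsGrHom ℳ 𝒩 f) (m : M) (g : ℤ) :
    (decompose 𝒩 (f m) g : N) = f (decompose ℳ m g : M) := by
  induction m using Decomposition.inductionOn ℳ with
  | zero => simp
  | @homogeneous i m =>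
    have hfm : f (m : M) ∈ 𝒩 i := hf i m m.2
    by_cases hig : i = g
    · subst hig
      rw [decompose_of_mem_same 𝒩 hfm, decompose_of_mem_same ℳ m.2]
    · rw [decompose_of_mem_ne 𝒩 hfm hig, decompose_of_mem_ne ℳ m.2 hig, map_zero]
  | add m m' hm hm' =>
    rw [map_add, decompose_add, decompose_add, DirectSum.add_apply, DirectSum.add_apply,
      AddMemClass.coe_add, AddMemClass.coe_add, map_add, hm, hm']

/-- a surjective homogeneous map is surjective on each piece -/
theorem exists_mem_of_surjective [Decomposition ℳ] [Decomposition 𝒩] {f : M →ₗ[R] N}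
    (hf : GrLC.IsGrHom ℳ 𝒩 f) (hs : Function.Surjective f) {d : ℤ} {y : N} (hy : y ∈ 𝒩 d) :
    ∃ x ∈ ℳ d, f x = y := by
  obtain ⟨x₀, hx₀⟩ := hs y
  refine ⟨(decompose ℳ x₀ d : M), SetLike.coe_mem _, ?_⟩
  rw [← decompose_map' ℳ 𝒩 hf, hx₀, decompose_of_mem_same 𝒩 hy]

end Gen

section B

variable {k : Type u} [Field k] {m : ℕ}
  {M : Type u} [AddCommGroup M] [Module k M] [Module (MvPolynomial (Fin m) k) M]
  [IsScalarTower k (MvPolynomial (Fin m) k) M]
  {ℳ : ℤ → Submodule k M} [DirectSum.Decomposition ℳ]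
  [SetLike.GradedSMul (GrSyz.stdGr k (Fin m)) ℳ]

/-- in a minimal resolution no column of a differential vanishes -/
theorem col_ne_zero (F : GrSyz.FreeRes (GrSyz.stdGr k (Fin m)) ℳ)
    (hF : F.IsMinimal (GrSyz.irrel (GrSyz.stdGr k (Fin m))).toIdeal) (j : ℕ)
    (p : Fin (F.rk (j + 1))) : ¬ ∀ r, F.d j r p = 0 := by
  classical
  intro h
  have hker : (Pi.single p 1 : Fin (F.rk (j + 1)) → MvPolynomial (Fin m) k) ∈
      LinearMap.ker (Matrix.mulVecLin (F.d j)) := by
    rw [LinearMap.mem_ker, Matrix.mulVecLin_apply, Matrix.mulVec_single_one]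
    funext r
    exact h r
  rw [F.exact_succ j] at hker
  obtain ⟨v, hv⟩ := hker
  have h1 := congrFun hv p
  rw [Matrix.mulVecLin_apply, Pi.single_eq_same] at h1
  apply Groth.Agent.Lib.GrSyzBasic.one_notMem_irrel k (Fin m)
  rw [← h1]
  simp only [Matrix.mulVec, dotProduct]
  exact Ideal.sum_mem _ fun q _ => Ideal.mul_mem_right _ _ (hF (j + 1) p q)

/-- entries of nonpositive degree of a minimal differential vanish -/
theorem d_eq_zero_of_deg_le (F : GrSyz.FreeRes (GrSyz.stdGr k (Fin m)) ℳ)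
    (hF : F.IsMinimal (GrSyz.irrel (GrSyz.stdGr k (Fin m))).toIdeal) (j : ℕ)
    (a : Fin (F.rk j)) (b : Fin (F.rk (j + 1))) (h : F.deg (j + 1) b ≤ F.deg j a) :
    F.d j a b = 0 :=
  Groth.Agent.Lib.GrSyzBasic.eq_zero_of_mem_stdGr_of_mem_irrel k (Fin m)
    (sub_nonpos.mpr h) (F.d_mem j a b) (hF j a b)

/-- the last differential of a resolution of length `≤ ℓ` is injective -/
theorem d_injective_of_hasLengthLE (F : GrSyz.FreeRes (GrSyz.stdGr k (Fin m)) ℳ) (ℓ : ℕ)
    (hlen : F.HasLengthLE (ℓ + 1)) (v : Fin (F.rk (ℓ + 1)) → MvPolynomial (Fin m) k)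
    (hv : F.d ℓ *ᵥ v = 0) : v = 0 := by
  have hker : v ∈ LinearMap.ker (Matrix.mulVecLin (F.d ℓ)) := by
    rw [LinearMap.mem_ker, Matrix.mulVecLin_apply, hv]
  rw [F.exact_succ ℓ] at hker
  obtain ⟨w, hw⟩ := hker
  have h0 : F.rk (ℓ + 1 + 1) = 0 := hlen _ (by omega)
  have hw0 : w = 0 := by
    funext q
    exact Fin.elim0 (h0 ▸ q)
  rw [← hw, hw0, map_zero]

/-- **Degrees on the principal diagonal of a Hilbert–Burch matrix are positive.** -/
theorem one_le_deg_sub (F : GrSyz.FreeRes (GrSyz.stdGr k (Fin m)) ℳ)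
    (hF : F.IsMinimal (GrSyz.irrel (GrSyz.stdGr k (Fin m))).toIdeal) (hlen : F.HasLengthLE 2)
    (t : ℕ) (h1 : F.rk 1 = t + 1) (h2 : F.rk 2 = t)
    (ha : ∀ i j : Fin (t + 1), i ≤ j → F.deg 1 (Fin.cast h1.symm j) ≤ F.deg 1 (Fin.cast h1.symm i))
    (hb : ∀ i j : Fin t, i ≤ j → F.deg 2 (Fin.cast h2.symm j) ≤ F.deg 2 (Fin.cast h2.symm i))
    (i : Fin t) :
    1 ≤ F.deg 2 (Fin.cast h2.symm i) - F.deg 1 (Fin.cast h1.symm i.castSucc) := by
  classical
  by_contra hcon
  have hle : F.deg 2 (Fin.cast h2.symm i) ≤ F.deg 1 (Fin.cast h1.symm i.castSucc) := by omega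
  -- the reindexed matrix
  let A : Matrix (Fin (t + 1)) (Fin t) (MvPolynomial (Fin m) k) :=
    (F.d 1).submatrix (Fin.cast h1.symm) (Fin.cast h2.symm)
  have hzero : ∀ (p : Fin (t + 1)) (q : Fin t), p.val ≤ i.val → i.val ≤ q.val → A p q = 0 := by
    intro p q hp hq
    apply d_eq_zero_of_deg_le F hF 1
    show F.deg 2 (Fin.cast h2.symm q) ≤ F.deg 1 (Fin.cast h1.symm p)
    have h3 := ha p i.castSucc (by rw [Fin.le_def]; simpa using hp)
    have h4 := hb i q (by rw [Fin.le_def]; exact hq)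
    omega
  have hinj : ∀ v : Fin t → MvPolynomial (Fin m) k, A *ᵥ v = 0 → v = 0 := by
    intro v hv
    have h5 : F.d 1 *ᵥ (v ∘ (finCongr h2.symm).symm) = 0 := by
      have h6 := Matrix.submatrix_mulVec_equiv (F.d 1) v (Fin.cast h1.symm) (finCongr h2.symm)
      funext p
      have h7 := congrFun h6 ((finCongr h1.symm).symm p)
      have h8 : A *ᵥ v = 0 := hv
      simp only [Function.comp_apply] at h7
      have h9 : Fin.cast h1.symm ((finCongr h1.symm).symm p) = p := by
        ext; simp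
      rw [h9] at h7
      rw [← h7]
      exact congrFun h8 _
    have h10 := d_injective_of_hasLengthLE F 1 hlen _ h5
    funext q
    have := congrFun h10 (finCongr h2.symm q)
    simpa using this
  -- each row of `d 0` kills `A`
  have hcol : ∀ r, F.d 0 r (Fin.cast h1.symm i.succ) = 0 := by
    intro r
    let g : Fin (t + 1) → MvPolynomial (Fin m) k := fun p => F.d 0 r (Fin.cast h1.symm p)
    have hg : g ᵥ* A = 0 := by
      funext q
      have h11 := Groth.Agent.Lib.GrCmp.d_mul_d F 0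
      have h12 := congrFun (congrFun h11 r) (Fin.cast h2.symm q)
      simp only [Matrix.mul_apply, Matrix.zero_apply] at h12
      simp only [Matrix.vecMul, dotProduct, Pi.zero_apply]
      rw [← h12]
      exact Fintype.sum_equiv (finCongr h1.symm) _ _ (fun p => rfl)
    exact block_vanish A hinj g hg i hzero
  exact col_ne_zero F hF 0 _ hcol

/-- the kernel of the augmentation of a minimal resolution has coordinates in the irrelevant ideal -/
theorem coord_mem_of_aug_eq_zero (F : GrSyz.FreeRes (GrSyz.stdGr k (Fin m)) ℳ)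
    (hF : F.IsMinimal (GrSyz.irrel (GrSyz.stdGr k (Fin m))).toIdeal)
    (v : Fin (F.rk 0) → MvPolynomial (Fin m) k) (hv : F.augLin v = 0) (c : Fin (F.rk 0)) :
    v c ∈ (GrSyz.irrel (GrSyz.stdGr k (Fin m))).toIdeal := by
  have hker : v ∈ LinearMap.ker F.augLin := hv
  rw [F.exact_zero] at hker
  obtain ⟨w, hw⟩ := hker
  rw [← hw, Matrix.mulVecLin_apply]
  simp only [Matrix.mulVec, dotProduct]
  exact Ideal.sum_mem _ fun q _ => Ideal.mul_mem_right _ _ (hF 0 c q)

/-- the first term of a minimal resolution of a cyclic module generated in degree `0` is `S`. -/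
theorem rk_zero_of_cyclic (F : GrSyz.FreeRes (GrSyz.stdGr k (Fin m)) ℳ)
    (hF : F.IsMinimal (GrSyz.irrel (GrSyz.stdGr k (Fin m))).toIdeal)
    (π : MvPolynomial (Fin m) k →ₗ[MvPolynomial (Fin m) k] M) (hπ : Function.Surjective π)
    (hπg : GrLC.IsGrHom (GrSyz.stdGr k (Fin m)) ℳ π) (hπ1 : π 1 ≠ 0) :
    F.rk 0 = 1 ∧ ∀ b : Fin (F.rk 0), F.deg 0 b = 0 := by
  classical
  obtain ⟨s, hs⟩ := F.aug_surjective (π 1)
  have hg : ∀ b : Fin (F.rk 0), ∃ g ∈ GrSyz.stdGr k (Fin m) (F.deg 0 b), π g = F.aug b :=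
    fun b => exists_mem_of_surjective (GrSyz.stdGr k (Fin m)) ℳ hπg hπ (F.aug_mem b)
  choose g hgmem hgb using hg
  have hirr := Groth.Agent.Lib.GrTor.irrel_eq_ker k (Fin m)
  -- the key relation
  have hrel : ∀ b c : Fin (F.rk 0),
      MvPolynomial.constantCoeff (g b) * MvPolynomial.constantCoeff (s c) =
        if b = c then 1 else 0 := by
    intro b c
    have h0 : F.augLin (Pi.single b 1 - g b • s) = 0 := by
      rw [map_sub, map_smul]
      change Fintype.linearCombination _ F.aug (Pi.single b 1) - g b • Fintype.linearCombination _ F.aug s = 0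
      rw [hs, Fintype.linearCombination_apply_single, one_smul, ← hgb b, ← map_smul, smul_eq_mul,
        mul_one, sub_self]
    have h1 := coord_mem_of_aug_eq_zero F hF _ h0 c
    rw [hirr, RingHom.mem_ker] at h1
    simp only [Pi.sub_apply, Pi.smul_apply, smul_eq_mul, map_sub, map_mul, Pi.single_apply] at h1
    have h2 : MvPolynomial.constantCoeff (if c = b then (1 : MvPolynomial (Fin m) k) else 0) =
        if b = c then (1 : k) else 0 := by
      by_cases hbc : b = c
      · subst hbc; simp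
      · rw [if_neg hbc, if_neg (Ne.symm hbc), map_zero]
    rw [h2] at h1
    exact (sub_eq_zero.mp h1).symm
  have hne : F.rk 0 ≠ 0 := by
    intro h0
    apply hπ1
    rw [← hs]
    have : s = 0 := by
      funext q
      exact Fin.elim0 (h0 ▸ q)
    rw [this, map_zero]
  have hle : F.rk 0 ≤ 1 := by
    by_contra hcon
    have h2 : 2 ≤ F.rk 0 := by omega
    let b : Fin (F.rk 0) := ⟨0, by omega⟩
    let c : Fin (F.rk 0) := ⟨1, by omega⟩
    have hbc : b ≠ c := by
      intro h
      have := congrArg Fin.val h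
      simp [b, c] at this
    have h3 := hrel b c
    rw [if_neg hbc] at h3
    have h4 := hrel b b
    have h5 := hrel c c
    rw [if_pos rfl] at h4 h5
    rcases mul_eq_zero.mp h3 with h | h
    · rw [h, zero_mul] at h4
      exact zero_ne_one h4
    · rw [h, mul_zero] at h5
      exact zero_ne_one h5
  refine ⟨by omega, fun b => ?_⟩
  by_contra hdeg
  have h6 := Groth.Agent.Lib.GrSyzBasic.constantCoeff_eq_zero_of_mem_stdGr k (Fin m) hdeg (hgmem b)
  have h7 := hrel b b
  rw [if_pos rfl, h6, zero_mul] at h7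
  exact zero_ne_one h7

end B

section D1

variable {k : Type u} [Field k] {r : ℕ}
  {M : Type u} [AddCommGroup M] [Module k M] [Module (MvPolynomial (Fin (r + 1)) k) M]
  [IsScalarTower k (MvPolynomial (Fin (r + 1)) k) M]
  {ℳ : ℤ → Submodule k M} [DirectSum.Decomposition ℳ]
  [SetLike.GradedSMul (GrSyz.stdGr k (Fin (r + 1))) ℳ]

theorem isHomogeneous_of_mem_stdGr {d : ℕ} {f : MvPolynomial (Fin (r + 1)) k}
    (hf : f ∈ GrSyz.stdGr k (Fin (r + 1)) (d : ℤ)) : f.IsHomogeneous d := by
  intro dd hdd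
  have h := hf hdd
  rw [Groth.Agent.Lib.GrSyzBasic.weight_one_eq] at h
  have h2 : Finsupp.weight (1 : Fin (r + 1) → ℕ) dd = dd.sum fun _ e => e := by
    rw [show (1 : Fin (r + 1) → ℕ) = fun _ => 1 from rfl, ← Finsupp.degree_eq_weight_one]
    rfl
  rw [h2]
  exact_mod_cast h

/-- a homogeneous polynomial vanishing on `Z` lies in the vanishing ideal -/
theorem mem_of_eval_eq_zero (Z : Finset (Fin (r + 1) → k)) (I : Ideal (MvPolynomial (Fin (r + 1)) k))
    (hI : ∀ f : MvPolynomial (Fin (r + 1)) k, f ∈ I ↔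
      ∀ p ∈ Z, ∀ j : ℕ, MvPolynomial.eval p (MvPolynomial.homogeneousComponent j f) = 0)
    {d : ℤ} {f : MvPolynomial (Fin (r + 1)) k} (hf : f ∈ GrSyz.stdGr k (Fin (r + 1)) d)
    (h0 : ∀ p ∈ Z, MvPolynomial.eval p f = 0) : f ∈ I := by
  rcases lt_or_ge d 0 with hd | hd
  · rw [Groth.Agent.Lib.GrSyzBasic.eq_zero_of_mem_stdGr_neg k _ hd hf]
    exact Ideal.zero_mem _
  · obtain ⟨e, rfl⟩ := Int.eq_ofNat_of_zero_le hd
    rw [hI]
    intro p hp j
    rw [MvPolynomial.homogeneousComponent_of_mem (isHomogeneous_of_mem_stdGr hf)]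
    split_ifs
    · exact h0 p hp
    · rw [map_zero]

/-- the Hilbert function of the coordinate ring of a finite set of points is bounded by the number
of points -/
theorem finrank_le_card (Z : Finset (Fin (r + 1) → k)) (I : Ideal (MvPolynomial (Fin (r + 1)) k))
    (hI : ∀ f : MvPolynomial (Fin (r + 1)) k, f ∈ I ↔
      ∀ p ∈ Z, ∀ j : ℕ, MvPolynomial.eval p (MvPolynomial.homogeneousComponent j f) = 0)
    (π : MvPolynomial (Fin (r + 1)) k →ₗ[MvPolynomial (Fin (r + 1)) k] M)
    (hπ : Function.Surjective π)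
    (hπg : GrLC.IsGrHom (GrSyz.stdGr k (Fin (r + 1))) ℳ π) (hker : LinearMap.ker π = I) (d : ℤ) :
    Module.finrank k (ℳ d) ≤ Z.card := by
  classical
  let V : Submodule k (MvPolynomial (Fin (r + 1)) k) := GrSyz.stdGr k (Fin (r + 1)) d
  have : Module.Finite k V := Groth.Agent.Lib.GrHilb.finite_stdGr k r d
  let ψ : MvPolynomial (Fin (r + 1)) k →ₗ[k] (Z → k) :=
    LinearMap.pi fun p => (MvPolynomial.aeval (R := k) (p.1 : Fin (r + 1) → k)).toLinearMap
  let φ : MvPolynomial (Fin (r + 1)) k →ₗ[k] M := π.restrictScalars k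
  have hψ : ∀ f (p : Z), ψ f p = MvPolynomial.eval p.1 f := by
    intro f p
    simp [ψ, MvPolynomial.aeval_eq_eval]
  have hkerle : LinearMap.ker (ψ.domRestrict V) ≤ LinearMap.ker (φ.domRestrict V) := by
    intro f hf
    rw [LinearMap.mem_ker, LinearMap.domRestrict_apply] at hf ⊢
    have hfI : (f : MvPolynomial (Fin (r + 1)) k) ∈ I := by
      apply mem_of_eval_eq_zero Z I hI f.2
      intro p hp
      rw [← hψ f.1 ⟨p, hp⟩, hf]
      rfl
    rw [← hker, LinearMap.mem_ker] at hfI
    exact hfI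
  have hrange : LinearMap.range (φ.domRestrict V) = ℳ d := by
    rw [LinearMap.range_domRestrict]
    apply le_antisymm
    · rintro _ ⟨f, hf, rfl⟩
      exact hπg d f hf
    · intro y hy
      obtain ⟨f, hf, hfy⟩ := exists_mem_of_surjective (GrSyz.stdGr k (Fin (r + 1))) ℳ hπg hπ hy
      exact ⟨f, hf, hfy⟩
  have h1 := LinearMap.finrank_range_add_finrank_ker (φ.domRestrict V)
  have h2 := LinearMap.finrank_range_add_finrank_ker (ψ.domRestrict V)
  have h3 := Submodule.finrank_mono hkerle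
  have h4 : Module.finrank k (LinearMap.range (ψ.domRestrict V)) ≤ Z.card := by
    have := Submodule.finrank_le (LinearMap.range (ψ.domRestrict V))
    rw [Module.finrank_fintype_fun_eq_card] at this
    simpa using this
  rw [← hrange]
  omega

end D1

section D2

variable {k : Type u} [Field k]
  {M : Type u} [AddCommGroup M] [Module k M] [Module (MvPolynomial (Fin (2 + 1)) k) M]
  [IsScalarTower k (MvPolynomial (Fin (2 + 1)) k) M]
  {ℳ : ℤ → Submodule k M} [DirectSum.Decomposition ℳ]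
  [SetLike.GradedSMul (GrSyz.stdGr k (Fin (2 + 1))) ℳ]

lemma choose_two_succ_sub (x : ℕ) :
    ((Nat.choose (2 + (x + 1)) 2 : ℕ) : ℤ) - ((Nat.choose (2 + x) 2 : ℕ) : ℤ) = (x : ℤ) + 2 := by
  have h : Nat.choose (2 + (x + 1)) 2 = Nat.choose (2 + x) 1 + Nat.choose (2 + x) 2 := by
    rw [show 2 + (x + 1) = (2 + x) + 1 from by ring, Nat.choose_succ_succ' (2 + x) 1]
  rw [h, Nat.choose_one_right]
  push_cast
  ring

/-- first difference of the Hilbert function in large degrees -/
theorem hilb_diff (F : GrSyz.FreeRes (GrSyz.stdGr k (Fin (2 + 1))) ℳ) (hlen : F.HasLengthLE 2)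
    (d : ℤ) (hd : ∀ i ∈ Finset.range 3, ∀ b : Fin (F.rk i), F.deg i b ≤ d) :
    (Module.finrank k (ℳ (d + 1)) : ℤ) - (Module.finrank k (ℳ d) : ℤ) =
      ∑ i ∈ Finset.range 3, (-1 : ℤ) ^ i * ∑ b : Fin (F.rk i), (d - F.deg i b + 2) := by
  rw [Groth.Agent.Lib.GrHilb.hilbert_stdGr k 2 M ℳ F 2 hlen d,
    Groth.Agent.Lib.GrHilb.hilbert_stdGr k 2 M ℳ F 2 hlen (d + 1), ← Finset.sum_sub_distrib]
  refine Finset.sum_congr rfl fun i hi => ?_
  rw [← mul_sub, ← Finset.sum_sub_distrib]
  congr 1
  refine Finset.sum_congr rfl fun b _ => ?_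
  have h1 := hd i hi b
  rw [if_pos h1, if_pos (by omega)]
  obtain ⟨x, hx⟩ := Int.eq_ofNat_of_zero_le (show 0 ≤ d - F.deg i b by omega)
  have h2 : d + 1 - F.deg i b = ((x + 1 : ℕ) : ℤ) := by push_cast; omega
  rw [h2, hx, Int.toNat_natCast, Int.toNat_natCast, choose_two_succ_sub]

theorem hilb_diff' (F : GrSyz.FreeRes (GrSyz.stdGr k (Fin (2 + 1))) ℳ) (hlen : F.HasLengthLE 2)
    (h0 : F.rk 0 = 1) (hdeg0 : ∀ b : Fin (F.rk 0), F.deg 0 b = 0)
    (t : ℕ) (h1 : F.rk 1 = t + 1) (h2 : F.rk 2 = t)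
    (d : ℤ) (hd : ∀ i ∈ Finset.range 3, ∀ b : Fin (F.rk i), F.deg i b ≤ d) :
    (Module.finrank k (ℳ (d + 1)) : ℤ) - (Module.finrank k (ℳ d) : ℤ) =
      ∑ p : Fin (F.rk 1), F.deg 1 p - ∑ q : Fin (F.rk 2), F.deg 2 q := by
  rw [hilb_diff F hlen d hd]
  have hs : ∀ i : ℕ, ∑ b : Fin (F.rk i), (d - F.deg i b + 2) =
      (F.rk i : ℤ) * (d + 2) - ∑ b : Fin (F.rk i), F.deg i b := by
    intro i
    rw [Finset.sum_add_distrib, Finset.sum_sub_distrib, Finset.sum_const, Finset.sum_const,
      Finset.card_univ, Fintype.card_fin]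
    simp only [nsmul_eq_mul]
    ring
  rw [Finset.sum_range_succ, Finset.sum_range_succ, Finset.sum_range_succ, Finset.sum_range_zero,
    hs 0, hs 1, hs 2]
  have e0 : (F.rk 0 : ℤ) = 1 := by exact_mod_cast h0
  have e1 : (F.rk 1 : ℤ) = t + 1 := by exact_mod_cast h1
  have e2 : (F.rk 2 : ℤ) = t := by exact_mod_cast h2
  have e3 : ∑ b : Fin (F.rk 0), F.deg 0 b = 0 :=
    Finset.sum_eq_zero fun b _ => hdeg0 b
  rw [e0, e1, e2, e3]
  ring

/-- the alternating sum of generator degrees vanishes when the Hilbert function is bounded -/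
theorem sum_deg_eq (F : GrSyz.FreeRes (GrSyz.stdGr k (Fin (2 + 1))) ℳ) (hlen : F.HasLengthLE 2)
    (h0 : F.rk 0 = 1) (hdeg0 : ∀ b : Fin (F.rk 0), F.deg 0 b = 0)
    (t : ℕ) (h1 : F.rk 1 = t + 1) (h2 : F.rk 2 = t)
    (N : ℕ) (hN : ∀ d : ℤ, Module.finrank k (ℳ d) ≤ N) :
    ∑ p : Fin (F.rk 1), F.deg 1 p = ∑ q : Fin (F.rk 2), F.deg 2 q := by
  classical
  -- a bound for all degrees
  obtain ⟨D, hD⟩ : ∃ D : ℤ, ∀ i ∈ Finset.range 3, ∀ b : Fin (F.rk i), F.deg i b ≤ D := by
    refine ⟨∑ i ∈ Finset.range 3, ∑ b : Fin (F.rk i), |F.deg i b|, fun i hi b => ?_⟩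
    calc F.deg i b ≤ |F.deg i b| := le_abs_self _
      _ ≤ ∑ b : Fin (F.rk i), |F.deg i b| :=
        Finset.single_le_sum (f := fun b => |F.deg i b|) (fun _ _ => abs_nonneg _)
          (Finset.mem_univ b)
      _ ≤ _ := Finset.single_le_sum (f := fun i => ∑ b : Fin (F.rk i), |F.deg i b|)
          (fun _ _ => Finset.sum_nonneg fun _ _ => abs_nonneg _) hi
  set s : ℤ := ∑ p : Fin (F.rk 1), F.deg 1 p - ∑ q : Fin (F.rk 2), F.deg 2 q with hs
  have hstep : ∀ j : ℕ, (Module.finrank k (ℳ (D + j)) : ℤ) =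
      (Module.finrank k (ℳ D) : ℤ) + j * s := by
    intro j
    induction j with
    | zero =>
      rw [Nat.cast_zero, add_zero, zero_mul, add_zero]
    | succ j ih =>
      have := hilb_diff' F hlen h0 hdeg0 t h1 h2 (D + j)
        (fun i hi b => le_trans (hD i hi b) (by omega))
      rw [← hs] at this
      have e : D + ((j + 1 : ℕ) : ℤ) = D + j + 1 := by push_cast; ring
      rw [e]
      push_cast
      linarith
  have hs0 : s = 0 := by
    rcases lt_trichotomy s 0 with hneg | hz | hpos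
    · exfalso
      have h3 := hstep (Module.finrank k (ℳ D) + 1)
      have h4 : (0 : ℤ) ≤ (Module.finrank k (ℳ (D + ((Module.finrank k (ℳ D) + 1 : ℕ) : ℤ))) : ℤ) :=
        Int.natCast_nonneg _
      push_cast at h3 h4
      nlinarith
    · exact hz
    · exfalso
      have h3 := hstep (N + 1)
      have h4 : (Module.finrank k (ℳ (D + ((N + 1 : ℕ) : ℤ))) : ℤ) ≤ N := by
        exact_mod_cast hN _
      have h5 : (0 : ℤ) ≤ (Module.finrank k (ℳ D) : ℤ) := Int.natCast_nonneg _
      push_cast at h3 h4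
      nlinarith
  linarith

end D2

end Groth.Agent.Lib.GrHilbBurch
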