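import Mathlib
import Groth.Agent.Lib.GrHilbBurch

/-!
# Hilbert–Burch degrees, part 2 (helper12)

* `one_le_deg_sub'` : version of `one_le_deg_sub` with bases reindexed by arbitrary equivalences;
* `rk_alt_eq_zero` : bounded Hilbert function forces `rk F_0 - rk F_1 + rk F_2 = 0`.
-/

set_option autoImplicit false
set_option linter.unusedSectionVars false
universe u
open Matrix DirectSum

namespace Groth.Agent.Lib.GrHilbBurch

section B2

variable {k : Type u} [Field k] {m : ℕ}
  {M : Type u} [AddCommGroup M] [Module k M] [Module (MvPolynomial (Fin m) k) M]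
  [IsScalarTower k (MvPolynomial (Fin m) k) M]
  {ℳ : ℤ → Submodule k M} [DirectSum.Decomposition ℳ]
  [SetLike.GradedSMul (GrSyz.stdGr k (Fin m)) ℳ]

/-- injectivity of the reindexed last differential -/
theorem submatrix_injective (F : GrSyz.FreeRes (GrSyz.stdGr k (Fin m)) ℳ) (hlen : F.HasLengthLE 2)
    {t : ℕ} (e1 : Fin (t + 1) ≃ Fin (F.rk 1)) (e2 : Fin t ≃ Fin (F.rk 2))
    (v : Fin t → MvPolynomial (Fin m) k) (hv : (F.d 1).submatrix e1 e2 *ᵥ v = 0) : v = 0 := by
  have h5 : F.d 1 *ᵥ (v ∘ e2.symm) = 0 := by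
    have h6 := Matrix.submatrix_mulVec_equiv (F.d 1) v e1 e2
    funext p
    have h7 := congrFun h6 (e1.symm p)
    simp only [Function.comp_apply, Equiv.apply_symm_apply] at h7
    rw [← h7]
    exact congrFun hv _
  have h10 := d_injective_of_hasLengthLE F 1 hlen _ h5
  funext q
  have := congrFun h10 (e2 q)
  simpa using this

/-- **Degrees on the principal diagonal of a Hilbert–Burch matrix are positive** (bases reindexed by
arbitrary equivalences making the degrees non-increasing). -/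
theorem one_le_deg_sub' (F : GrSyz.FreeRes (GrSyz.stdGr k (Fin m)) ℳ)
    (hF : F.IsMinimal (GrSyz.irrel (GrSyz.stdGr k (Fin m))).toIdeal) (hlen : F.HasLengthLE 2)
    {t : ℕ} (e1 : Fin (t + 1) ≃ Fin (F.rk 1)) (e2 : Fin t ≃ Fin (F.rk 2))
    (ha : ∀ i j : Fin (t + 1), i ≤ j → F.deg 1 (e1 j) ≤ F.deg 1 (e1 i))
    (hb : ∀ i j : Fin t, i ≤ j → F.deg 2 (e2 j) ≤ F.deg 2 (e2 i))
    (i : Fin t) :
    1 ≤ F.deg 2 (e2 i) - F.deg 1 (e1 i.castSucc) := by
  classical
  by_contra hcon
  have hle : F.deg 2 (e2 i) ≤ F.deg 1 (e1 i.castSucc) := by omega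
  let A : Matrix (Fin (t + 1)) (Fin t) (MvPolynomial (Fin m) k) := (F.d 1).submatrix e1 e2
  have hzero : ∀ (p : Fin (t + 1)) (q : Fin t), p.val ≤ i.val → i.val ≤ q.val → A p q = 0 := by
    intro p q hp hq
    apply d_eq_zero_of_deg_le F hF 1
    show F.deg 2 (e2 q) ≤ F.deg 1 (e1 p)
    have h3 := ha p i.castSucc (by rw [Fin.le_def]; simpa using hp)
    have h4 := hb i q (by rw [Fin.le_def]; exact hq)
    omega
  have hinj : ∀ v : Fin t → MvPolynomial (Fin m) k, A *ᵥ v = 0 → v = 0 :=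
    fun v hv => submatrix_injective F hlen e1 e2 v hv
  have hcol : ∀ r, F.d 0 r (e1 i.succ) = 0 := by
    intro r
    let g : Fin (t + 1) → MvPolynomial (Fin m) k := fun p => F.d 0 r (e1 p)
    have hg : g ᵥ* A = 0 := by
      funext q
      have h11 := Groth.Agent.Lib.GrCmp.d_mul_d F 0
      have h12 := congrFun (congrFun h11 r) (e2 q)
      simp only [Matrix.mul_apply, Matrix.zero_apply] at h12
      simp only [Matrix.vecMul, dotProduct, Pi.zero_apply]
      rw [← h12]
      exact Fintype.sum_equiv e1 _ _ (fun p => rfl)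
    exact block_vanish A hinj g hg i hzero
  exact col_ne_zero F hF 0 _ hcol

end B2

section D3

variable {k : Type u} [Field k]
  {M : Type u} [AddCommGroup M] [Module k M] [Module (MvPolynomial (Fin (2 + 1)) k) M]
  [IsScalarTower k (MvPolynomial (Fin (2 + 1)) k) M]
  {ℳ : ℤ → Submodule k M} [DirectSum.Decomposition ℳ]
  [SetLike.GradedSMul (GrSyz.stdGr k (Fin (2 + 1))) ℳ]

/-- the alternating sum of the ranks vanishes when the Hilbert function is bounded -/
theorem rk_alt_eq_zero (F : GrSyz.FreeRes (GrSyz.stdGr k (Fin (2 + 1))) ℳ) (hlen : F.HasLengthLE 2)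
    (N : ℕ) (hN : ∀ d : ℤ, Module.finrank k (ℳ d) ≤ N) :
    (F.rk 0 : ℤ) - F.rk 1 + F.rk 2 = 0 := by
  classical
  obtain ⟨D, hD⟩ : ∃ D : ℤ, ∀ i ∈ Finset.range 3, ∀ b : Fin (F.rk i), F.deg i b ≤ D := by
    refine ⟨∑ i ∈ Finset.range 3, ∑ b : Fin (F.rk i), |F.deg i b|, fun i hi b => ?_⟩
    calc F.deg i b ≤ |F.deg i b| := le_abs_self _
      _ ≤ ∑ b : Fin (F.rk i), |F.deg i b| :=
        Finset.single_le_sum (f := fun b => |F.deg i b|) (fun _ _ => abs_nonneg _)
          (Finset.mem_univ b)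
      _ ≤ _ := Finset.single_le_sum (f := fun i => ∑ b : Fin (F.rk i), |F.deg i b|)
          (fun _ _ => Finset.sum_nonneg fun _ _ => abs_nonneg _) hi
  set ρ : ℤ := (F.rk 0 : ℤ) - F.rk 1 + F.rk 2 with hρ
  set c : ℤ := ∑ b : Fin (F.rk 0), F.deg 0 b - ∑ b : Fin (F.rk 1), F.deg 1 b +
    ∑ b : Fin (F.rk 2), F.deg 2 b with hc
  -- first difference
  have hdiff : ∀ d : ℤ, D ≤ d →
      (Module.finrank k (ℳ (d + 1)) : ℤ) - (Module.finrank k (ℳ d) : ℤ) = ρ * (d + 2) - c := by
    intro d hd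
    rw [hilb_diff F hlen d (fun i hi b => le_trans (hD i hi b) hd)]
    have hs : ∀ i : ℕ, ∑ b : Fin (F.rk i), (d - F.deg i b + 2) =
        (F.rk i : ℤ) * (d + 2) - ∑ b : Fin (F.rk i), F.deg i b := by
      intro i
      rw [Finset.sum_add_distrib, Finset.sum_sub_distrib, Finset.sum_const, Finset.sum_const,
        Finset.card_univ, Fintype.card_fin]
      simp only [nsmul_eq_mul]
      ring
    rw [Finset.sum_range_succ, Finset.sum_range_succ, Finset.sum_range_succ, Finset.sum_range_zero,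
      hs 0, hs 1, hs 2, hρ, hc]
    ring
  -- the first difference is bounded by `N`
  have hbd : ∀ d : ℤ, D ≤ d → |ρ * (d + 2) - c| ≤ N := by
    intro d hd
    rw [← hdiff d hd, abs_le]
    have h1 : (Module.finrank k (ℳ (d + 1)) : ℤ) ≤ N := by exact_mod_cast hN _
    have h2 : (Module.finrank k (ℳ d) : ℤ) ≤ N := by exact_mod_cast hN _
    have h3 : (0 : ℤ) ≤ (Module.finrank k (ℳ (d + 1)) : ℤ) := Int.natCast_nonneg _
    have h4 : (0 : ℤ) ≤ (Module.finrank k (ℳ d) : ℤ) := Int.natCast_nonneg _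
    constructor <;> linarith
  by_contra hne
  -- choose d large
  have h1 := hbd (D + |c| + N + 1 + |D|) (by
    have := abs_nonneg c
    have := abs_nonneg D
    have : (0 : ℤ) ≤ N := Int.natCast_nonneg _
    linarith)
  have h5 : 1 ≤ |ρ| := Int.one_le_abs hne
  have h6 : |ρ * (D + |c| + N + 1 + |D| + 2)| ≤ |ρ * (D + |c| + N + 1 + |D| + 2) - c| + |c| := by
    have := abs_add_le (ρ * (D + |c| + N + 1 + |D| + 2) - c) c
    simpa using this
  rw [abs_mul] at h6
  have h7 : (0 : ℤ) ≤ D + |D| := by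
    have := neg_abs_le D
    linarith
  have h8 : |D + |c| + N + 1 + |D| + 2| = D + |c| + N + 1 + |D| + 2 := by
    apply abs_of_nonneg
    have := abs_nonneg c
    have : (0 : ℤ) ≤ N := Int.natCast_nonneg _
    linarith
  rw [h8] at h6
  have h9 : (0 : ℤ) ≤ N := Int.natCast_nonneg _
  have h10 := abs_nonneg c
  nlinarith

end D3

end Groth.Agent.Lib.GrHilbBurch
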