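import Mathlib
import Groth.Prelude.Def_GrLC
import Groth.Agent.Lib.H74GrFin
import Groth.Agent.Lib.H74GrCM
import Groth.Agent.Lib.H74GrDim3
import Groth.Agent.Lib.DepthRees

/-!
# Monotonicity of the Hilbert function of a graded ring without socle (helper12)

* `finrank_le_succ_of_socle` : `R` Noetherian ℤ-graded with `R_0` a field; if no nonzero element of `R`
  is killed by `R_1` then `dim R_n ≤ dim R_{n+1}` for all `n`.  Proof: choose a spanning family
  `x_0..x_{r-1}` of `R_1`; by McCoy's theorem the polynomial `Σ x_i T^i` is a non-zero-divisor of `R[T]`;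
  multiplication by it embeds polynomials of degree `< D` with coefficients in `R_n` into those of
  degree `< D + r` with coefficients in `R_{n+1}`, so `D · dim R_n ≤ (D + r) · dim R_{n+1}` for all `D`.
  (No infinite-field hypothesis, no base change.)
* `isStarLocal_irr` : positively graded with `R_0` a field is `*`local with `*`maximal ideal `R_+`;
* `socle_eq_zero` : Cohen–Macaulay of positive dimension, generated in degree one ⇒ no socle.
-/

set_option autoImplicit false
set_option linter.unusedSectionVars false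
set_option linter.style.haveILetI false
universe u
open Polynomial DirectSum

namespace Groth.Agent.Lib.GrHilbMono

section Poly

variable {R : Type u} [CommRing R] [DecidableEq R] (𝒜 : ℤ → AddSubgroup R) [GradedRing 𝒜]

/-- coefficients of a product of polynomials with homogeneous coefficients -/
lemma coeff_mul_mem {f p : R[X]} {a b e : ℤ} (hab : a + b = e) (hf : ∀ i, f.coeff i ∈ 𝒜 a)
    (hp : ∀ j, p.coeff j ∈ 𝒜 b) (m : ℕ) : (f * p).coeff m ∈ 𝒜 e := by
  rw [coeff_mul]
  refine sum_mem fun ij _ => ?_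
  rw [← hab]
  exact SetLike.GradedMul.mul_mem (hf ij.1) (hp ij.2)

lemma ofFn_coeff_mem {D : ℕ} {a : ℤ} (c : Fin D → R) (hc : ∀ j, c j ∈ 𝒜 a) (j : ℕ) :
    (ofFn D c).coeff j ∈ 𝒜 a := by
  rcases Nat.lt_or_ge j D with h | h
  · rw [ofFn_coeff_eq_val_of_lt c h]
    exact hc _
  · rw [ofFn_coeff_eq_zero_of_ge c h]
    exact zero_mem _

/-- a product `ofFn r x * ofFn D c` has no coefficients in degrees `≥ D + r` -/
lemma coeff_ofFn_mul_ofFn_eq_zero {r D : ℕ} (x : Fin r → R) (c : Fin D → R) (m : ℕ)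
    (hm : D + r ≤ m) : (ofFn r x * ofFn D c).coeff m = 0 := by
  rw [coeff_mul]
  refine Finset.sum_eq_zero fun ij hij => ?_
  have h : ij.1 + ij.2 = m := by simpa using hij
  rcases Nat.lt_or_ge ij.1 r with h1 | h1
  · have h2 : D ≤ ij.2 := by omega
    rw [ofFn_coeff_eq_zero_of_ge c h2, mul_zero]
  · rw [ofFn_coeff_eq_zero_of_ge x h1, zero_mul]

open GrLC

/-- multiplication by the polynomial `ofFn r x` with coefficients in `𝒜 1` on polynomials of
degree `< D` with coefficients in `𝒜 n`, on coefficient vectors -/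
noncomputable def mulMap {r : ℕ} (x : Fin r → R) (hx : ∀ i, x i ∈ 𝒜 1) (n : ℤ) (D : ℕ) :
    (Fin D → comp 𝒜 𝒜 n) →ₗ[deg0 𝒜] (Fin (D + r) → comp 𝒜 𝒜 (n + 1)) where
  toFun c := fun m => ⟨(ofFn r x * ofFn D (fun j => (c j : R))).coeff m,
    coeff_mul_mem 𝒜 (add_comm 1 n) (ofFn_coeff_mem 𝒜 x hx) 
      (ofFn_coeff_mem 𝒜 _ (fun j => (c j).2)) m⟩
  map_add' c c' := by
    funext m
    apply Subtype.ext
    have : (fun j => ((c + c') j : R)) = (fun j => (c j : R)) + (fun j => (c' j : R)) := by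
      funext j
      rfl
    simp only [this, map_add, mul_add, coeff_add]
    rfl
  map_smul' k c := by
    funext m
    apply Subtype.ext
    have : (fun j => ((k • c) j : R)) = (k : R) • (fun j => (c j : R)) := by
      funext j
      rfl
    simp only [this, map_smul, mul_smul_comm, coeff_smul]
    rfl

lemma mulMap_injective {r : ℕ} (x : Fin r → R) (hx : ∀ i, x i ∈ 𝒜 1)
    (hf : ofFn r x ∈ nonZeroDivisors R[X]) (n : ℤ) (D : ℕ) :
    Function.Injective (mulMap 𝒜 x hx n D) := by
  rw [injective_iff_map_eq_zero]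
  intro c hc
  have h1 : ofFn r x * ofFn D (fun j => (c j : R)) = 0 := by
    ext m
    rw [coeff_zero]
    rcases Nat.lt_or_ge m (D + r) with hm | hm
    · have := congrFun hc ⟨m, hm⟩
      exact congrArg Subtype.val this
    · exact coeff_ofFn_mul_ofFn_eq_zero x _ m hm
  have h2 : ofFn D (fun j => (c j : R)) = 0 := by
    have := (mul_left_mem_nonZeroDivisors_eq_zero_iff hf).mp h1
    exact this
  funext j
  apply Subtype.ext
  have := congrArg (fun p => p.coeff j.val) h2
  simp only [coeff_zero] at this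
  rw [ofFn_coeff_eq_val_of_lt _ j.2] at this
  exact this

end Poly

section Main

open GrLC

variable {R : Type u} [CommRing R] (𝒜 : ℤ → AddSubgroup R) [GradedRing 𝒜]

/-- **The Hilbert function is non-decreasing when no nonzero element is killed by `R_1`.** -/
theorem finrank_le_succ_of_socle [IsNoetherianRing R] (h0 : IsField (deg0 𝒜))
    (hsoc : ∀ c : R, (∀ y ∈ 𝒜 1, y * c = 0) → c = 0) (n : ℤ) :
    Module.finrank (deg0 𝒜) (comp 𝒜 𝒜 n) ≤ Module.finrank (deg0 𝒜) (comp 𝒜 𝒜 (n + 1)) := by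
  classical
  letI : Field (deg0 𝒜) := h0.toField
  have hfin : ∀ e : ℤ, Module.Finite (deg0 𝒜) (comp 𝒜 𝒜 e) := fun e => by
    haveI := Groth.Agent.Lib.H74GrFin.isNoetherian_comp 𝒜 𝒜 e
    infer_instance
  haveI := hfin n
  haveI := hfin (n + 1)
  haveI := hfin 1
  obtain ⟨r, x', hx'⟩ := Module.Finite.exists_fin (R := deg0 𝒜) (M := comp 𝒜 𝒜 1)
  let x : Fin r → R := fun i => (x' i : R)
  have hx : ∀ i, x i ∈ 𝒜 1 := fun i => (x' i).2
  -- McCoy
  have hf : ofFn r x ∈ nonZeroDivisors R[X] := by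
    rw [Polynomial.mem_nonZeroDivisors_iff]
    intro a ha
    apply hsoc
    have h1 : ∀ i, x i * a = 0 := by
      intro i
      have := congrArg (fun p => p.coeff i.val) ha
      simp only [coeff_smul, coeff_zero, smul_eq_mul] at this
      rw [ofFn_coeff_eq_val_of_lt _ i.2, mul_comm] at this
      exact this
    intro y hy
    have hy' : (⟨y, hy⟩ : comp 𝒜 𝒜 1) ∈ Submodule.span (deg0 𝒜) (Set.range x') := by
      rw [hx']
      trivial
    have key : ∀ z : comp 𝒜 𝒜 1, z ∈ Submodule.span (deg0 𝒜) (Set.range x') → (z : R) * a = 0 := by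
      intro z hz
      induction hz using Submodule.span_induction with
      | mem z hz =>
        obtain ⟨i, rfl⟩ := hz
        exact h1 i
      | zero => simp
      | add z z' _ _ hz hz' =>
        rw [Submodule.coe_add, add_mul, hz, hz', add_zero]
      | smul k z _ hz =>
        have : ((k • z : comp 𝒜 𝒜 1) : R) = (k : R) * (z : R) := rfl
        rw [this, mul_assoc, hz, mul_zero]
    exact key ⟨y, hy⟩ hy'
  -- dimension count
  have hcount : ∀ D : ℕ, D * Module.finrank (deg0 𝒜) (comp 𝒜 𝒜 n) ≤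
      (D + r) * Module.finrank (deg0 𝒜) (comp 𝒜 𝒜 (n + 1)) := by
    intro D
    have h1 := LinearMap.finrank_le_finrank_of_injective (mulMap_injective 𝒜 x hx hf n D)
    rw [Module.finrank_pi_fintype, Module.finrank_pi_fintype] at h1
    simpa using h1
  by_contra hcon
  push Not at hcon
  set a := Module.finrank (deg0 𝒜) (comp 𝒜 𝒜 n) with ha
  set b := Module.finrank (deg0 𝒜) (comp 𝒜 𝒜 (n + 1)) with hb
  have h2 := hcount (r * b + 1)
  have h3 : (r * b + 1) * (b + 1) ≤ (r * b + 1) * a := Nat.mul_le_mul_left _ hcon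
  nlinarith

end Main

section Local

open GrLC Groth.Agent.Lib.H74GrArt

variable {R : Type u} [CommRing R] (𝒜 : ℤ → AddSubgroup R) [GradedRing 𝒜]

/-- a proper homogeneous ideal of a positively graded ring with `R_0` a field lies in `R_+` -/
theorem le_irr_of_ne_top (hpos : ∀ n : ℤ, n < 0 → 𝒜 n = ⊥) (h0 : IsField (deg0 𝒜))
    (J : HomogeneousIdeal 𝒜) (hJ : J ≠ ⊤) : J ≤ irr 𝒜 := by
  classical
  intro x hx
  have hxJ : x ∈ J.toIdeal := hx
  rw [← DirectSum.sum_support_decompose 𝒜 x]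
  refine Ideal.sum_mem _ fun i _ => ?_
  have hi : (decompose 𝒜 x i : R) ∈ J.toIdeal := J.isHomogeneous i hxJ
  rcases lt_trichotomy i 0 with h | h | h
  · have h2 : ∀ y : R, y ∈ 𝒜 i → y = 0 := by
      intro y hy
      rw [hpos i h] at hy
      exact (AddSubgroup.mem_bot).mp hy
    rw [h2 _ (SetLike.coe_mem _)]
    exact Ideal.zero_mem _
  · subst h
    by_contra hne
    have hne0 : (decompose 𝒜 x 0 : R) ≠ 0 := by
      intro h0'
      apply hne
      rw [h0']
      exact Ideal.zero_mem _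
    let y : deg0 𝒜 := ⟨(decompose 𝒜 x 0 : R), SetLike.coe_mem _⟩
    have hy : y ≠ 0 := by
      intro h
      apply hne0
      exact congrArg Subtype.val h
    obtain ⟨z, hz⟩ := h0.mul_inv_cancel hy
    apply hJ
    apply HomogeneousIdeal.toIdeal_injective
    rw [HomogeneousIdeal.toIdeal_top, Ideal.eq_top_iff_one]
    have h1 : (1 : R) = (decompose 𝒜 x 0 : R) * (z : R) := by
      have := congrArg Subtype.val hz
      exact this.symm
    rw [h1]
    exact Ideal.mul_mem_right _ _ hi
  · exact Ideal.subset_span (Set.mem_iUnion₂.mpr ⟨i, h, SetLike.coe_mem _⟩)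

theorem one_notMem_irr (hpos : ∀ n : ℤ, n < 0 → 𝒜 n = ⊥) [Nontrivial R] :
    (1 : R) ∉ (irr 𝒜).toIdeal := by
  intro h
  have h1 := decompose_zero_of_mem_irr 𝒜 hpos h
  rw [DirectSum.decompose_of_mem_same 𝒜 (SetLike.GradedOne.one_mem)] at h1
  exact one_ne_zero h1

/-- a positively graded ring with `R_0` a field is `*`local with `*`maximal ideal `R_+` -/
theorem isStarLocal_irr (hpos : ∀ n : ℤ, n < 0 → 𝒜 n = ⊥) (h0 : IsField (deg0 𝒜)) :
    IsStarLocal 𝒜 (irr 𝒜) := by
  haveI : Nontrivial R := by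
    obtain ⟨a, b, hab⟩ := h0.exists_pair_ne
    exact ⟨⟨a, b, fun h => hab (Subtype.ext h)⟩⟩
  have hne : irr 𝒜 ≠ ⊤ := by
    intro h
    apply one_notMem_irr 𝒜 hpos
    rw [h, HomogeneousIdeal.toIdeal_top]
    trivial
  refine ⟨⟨hne, fun b hb => ?_⟩, fun n hn => ?_⟩
  · by_contra hbt
    exact absurd (le_irr_of_ne_top 𝒜 hpos h0 b hbt) (not_le_of_gt hb)
  · have h1 := le_irr_of_ne_top 𝒜 hpos h0 n hn.1
    rcases eq_or_lt_of_le h1 with h | h
    · exact h
    · exact absurd (hn.2 _ h) hne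

/-- In a positively graded Cohen–Macaulay ring of positive dimension with `R_0` a field, generated
in degree one, no nonzero element is killed by `R_1`. -/
theorem socle_eq_zero [LocCoh.IsCohenMacaulayRing R] (hpos : ∀ n : ℤ, n < 0 → 𝒜 n = ⊥)
    (h0 : IsField (deg0 𝒜))
    (hstd : Ideal.span (⋃ n ∈ Set.Ioi (0 : ℤ), (𝒜 n : Set R)) =
      Ideal.span ((𝒜 1 : AddSubgroup R) : Set R))
    (h1 : 1 ≤ ringKrullDim R) (c : R) (hc : ∀ y ∈ 𝒜 1, y * c = 0) : c = 0 := by
  have hm := isStarLocal_irr 𝒜 hpos h0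
  have hmax : (irr 𝒜).toIdeal.IsMaximal := isMaximal_of_isStarLocal 𝒜 hpos (irr 𝒜) hm
  have hdim := Groth.Agent.Lib.H74GrDim.ringKrullDim_eq_height 𝒜 hpos (irr 𝒜) hm
  have hfin : (irr 𝒜).toIdeal.height ≠ ⊤ := by
    have := Ideal.height_le_spanFinrank (irr 𝒜).toIdeal hmax.ne_top
    intro h
    rw [h] at this
    exact absurd this (by simp)
  obtain ⟨d, hd⟩ := ENat.ne_top_iff_exists.mp hfin
  have hdimd : ringKrullDim R = (d : ℕ) := by
    rw [hdim, ← hd]
    rfl
  have hd1 : 1 ≤ d := by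
    rw [hdimd] at h1
    exact_mod_cast h1
  have hdepth := Groth.Agent.Lib.H74GrCM.idealDepth_eq_dim 𝒜 hpos (irr 𝒜) hm d hdimd
  have hI : (irr 𝒜).toIdeal • (⊤ : Submodule R R) ≠ ⊤ :=
    Groth.Agent.Lib.H8CM.smul_top_self_ne_top hmax.ne_top
  have h2 : ((1 : ℕ) : ℕ∞) ≤ LocCoh.idealDepth (irr 𝒜).toIdeal R := by
    rw [hdepth]
    exact_mod_cast hd1
  obtain ⟨rs, hlen, hmem, hreg⟩ :=
    (Groth.Agent.Lib.DepthRees.natCast_le_idealDepth_iff (irr 𝒜).toIdeal R hI 1).mp h2
  obtain ⟨a, rfl⟩ := List.length_eq_one_iff.mp hlen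
  have ha : a ∈ (irr 𝒜).toIdeal := hmem a (by simp)
  have hareg : IsSMulRegular R a := (RingTheory.Sequence.isWeaklyRegular_singleton_iff R a).mp hreg
  -- `c` is killed by the irrelevant ideal
  have key : ∀ s ∈ Ideal.span ((𝒜 1 : AddSubgroup R) : Set R), s * c = 0 := by
    intro s hs'
    induction hs' using Submodule.span_induction with
    | mem y hy => exact hc y hy
    | zero => simp
    | add y z _ _ hy hz => rw [add_mul, hy, hz, add_zero]
    | smul t y _ hy => rw [smul_eq_mul, mul_assoc, hy, mul_zero]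
  have hkill : ∀ s ∈ (irr 𝒜).toIdeal, s * c = 0 := by
    intro s hs
    apply key
    rw [← hstd]
    exact hs
  have hac : a • c = a • (0 : R) := by
    rw [smul_zero, smul_eq_mul]
    exact hkill a ha
  exact hareg hac

end Local

end Groth.Agent.Lib.GrHilbMono
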