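import Groth.Agent.Lib.H74Core3

/-! The quotient of a graded ring by a homogeneous ideal as a graded ring; cores in the quotient. -/

set_option autoImplicit false
set_option linter.unusedSectionVars false
universe u

namespace Groth.Agent.Lib.H74QuotGr

open DirectSum

section Quot

variable {ι : Type} [AddCommGroup ι] [DecidableEq ι]
variable {R : Type u} [CommRing R] (𝒜 : ι → AddSubgroup R) [GradedRing 𝒜] (I : Ideal R)

/-- The pieces of `R ⧸ I`. -/
def quotPiece (g : ι) : AddSubgroup (R ⧸ I) := (𝒜 g).map (Ideal.Quotient.mk I).toAddMonoidHom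

theorem mem_quotPiece {g : ι} {x : R ⧸ I} :
    x ∈ quotPiece 𝒜 I g ↔ ∃ r ∈ 𝒜 g, Ideal.Quotient.mk I r = x := Iff.rfl

theorem mk_mem_quotPiece {g : ι} {r : R} (hr : r ∈ 𝒜 g) :
    Ideal.Quotient.mk I r ∈ quotPiece 𝒜 I g := ⟨r, hr, rfl⟩

theorem quotPiece_gradedMonoid : SetLike.GradedMonoid (quotPiece 𝒜 I) where
  one_mem := ⟨1, SetLike.GradedOne.one_mem (A := 𝒜), map_one (Ideal.Quotient.mk I)⟩
  mul_mem := by
    rintro i j _ _ ⟨a, ha, rfl⟩ ⟨b, hb, rfl⟩
    exact ⟨a * b, SetLike.GradedMul.mul_mem (A := 𝒜) ha hb, map_mul (Ideal.Quotient.mk I) a b⟩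

variable {I}

theorem isInternal_quotPiece (hI : I.IsHomogeneous 𝒜) :
    DirectSum.IsInternal (quotPiece 𝒜 I) := by
  classical
  constructor
  · rw [injective_iff_map_eq_zero]
    intro v hv
    have hrep : ∀ g, ∃ z : R, z ∈ 𝒜 g ∧ Ideal.Quotient.mk I z = (v g : R ⧸ I) :=
      fun g => (v g).2
    choose z hzdeg hzv using hrep
    rw [DirectSum.coeAddMonoidHom_eq_dfinsuppSum, DFinsupp.sum] at hv
    have h1 : Ideal.Quotient.mk I (∑ g ∈ v.support, z g) = 0 := by
      rw [map_sum]; simp_rw [hzv]; exact hv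
    rw [Ideal.Quotient.eq_zero_iff_mem] at h1
    apply DFinsupp.ext
    intro g
    by_cases hg : g ∈ v.support
    · have h2 := hI g h1
      have h3 : (decompose 𝒜 (∑ g' ∈ v.support, z g') g : R) = z g := by
        rw [decompose_sum, DFinsupp.finsetSum_apply, AddSubmonoidClass.coe_finsetSum,
          Finset.sum_eq_single g]
        · exact decompose_of_mem_same 𝒜 (hzdeg g)
        · intro g' _ hne
          exact decompose_of_mem_ne 𝒜 (hzdeg g') hne
        · intro hg'; exact absurd hg hg'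
      rw [h3] at h2
      have h4 : ((v g : _) : R ⧸ I) = 0 := by
        rw [← hzv, Ideal.Quotient.eq_zero_iff_mem]
        exact h2
      exact Subtype.ext h4
    · rw [DFinsupp.notMem_support_iff] at hg
      rw [hg]; rfl
  · intro x
    obtain ⟨r, rfl⟩ := Ideal.Quotient.mk_surjective x
    rw [← DirectSum.sum_support_decompose 𝒜 r, map_sum]
    have hmem : ∀ g, Ideal.Quotient.mk I (decompose 𝒜 r g : R)
        ∈ (DirectSum.coeAddMonoidHom (quotPiece 𝒜 I)).range := by
      intro g
      have hg : Ideal.Quotient.mk I (decompose 𝒜 r g : R) ∈ quotPiece 𝒜 I g :=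
        mk_mem_quotPiece 𝒜 I (decompose 𝒜 r g).2
      exact ⟨DirectSum.of (fun i => quotPiece 𝒜 I i) g ⟨_, hg⟩,
        DirectSum.coeAddMonoidHom_of (quotPiece 𝒜 I) g _⟩
    exact sum_mem (fun g _ => hmem g)

/-- The quotient graded ring. -/
@[instance_reducible]
noncomputable def quotGradedRing (hI : I.IsHomogeneous 𝒜) : GradedRing (quotPiece 𝒜 I) :=
  { quotPiece_gradedMonoid 𝒜 I, (isInternal_quotPiece 𝒜 hI).chooseDecomposition with }

end Quot

end Groth.Agent.Lib.H74QuotGr
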