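import Mathlib

/-!
# Hilbert polynomial of a hypersurface section: `Q = P - P(X - d)` (helper99)
-/

set_option autoImplicit false
universe u

namespace Groth.Agent.Lib.HilbDiff99

open Polynomial Finset

section poly

lemma coeff_comp_X_add_C (P : ℚ[X]) (r : ℚ) (n : ℕ) :
    (P.comp (X + C r)).coeff n =
      ∑ i ∈ range (P.natDegree + 1), P.coeff i * (r ^ (i - n) * (i.choose n : ℚ)) := by
  rw [comp_eq_sum_left, Polynomial.sum_over_range' _ (fun n => by simp) (P.natDegree + 1)
    (Nat.lt_succ_self _), finsetSum_coeff]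
  apply Finset.sum_congr rfl
  intro i _
  rw [coeff_C_mul, coeff_X_add_C_pow]

lemma coeff_comp_ge (P : ℚ[X]) (r : ℚ) (n : ℕ) (hn : P.natDegree ≤ n) :
    (P.comp (X + C r)).coeff n = P.coeff n := by
  rw [coeff_comp_X_add_C]
  rcases Nat.eq_or_lt_of_le hn with h | h
  · subst h
    rw [Finset.sum_range_succ, Finset.sum_eq_zero, zero_add]
    · simp
    · intro i hi
      rw [Nat.choose_eq_zero_of_lt (Finset.mem_range.mp hi)]
      simp
  · rw [Finset.sum_eq_zero, coeff_eq_zero_of_natDegree_lt h]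
    intro i hi
    have : i < n := lt_of_le_of_lt (Nat.lt_succ_iff.mp (Finset.mem_range.mp hi)) h
    rw [Nat.choose_eq_zero_of_lt this]
    simp

lemma coeff_comp_pred (P : ℚ[X]) (r : ℚ) (q : ℕ) (hq : P.natDegree = q + 1) :
    (P.comp (X + C r)).coeff q = P.coeff q + P.coeff (q + 1) * (r * (q + 1)) := by
  rw [coeff_comp_X_add_C, hq, Finset.sum_range_succ, Finset.sum_range_succ, Finset.sum_eq_zero,
    zero_add]
  · simp
  · intro i hi
    rw [Nat.choose_eq_zero_of_lt (Finset.mem_range.mp hi)]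
    simp

/-- the degree and leading coefficient of `P - P(X - d)` -/
theorem natDegree_sub_comp (P : ℚ[X]) (d : ℕ) (hd : 0 < d) (hP : 1 ≤ P.natDegree) :
    (P - P.comp (X - C (d : ℚ))).natDegree + 1 = P.natDegree ∧
      (P - P.comp (X - C (d : ℚ))).leadingCoeff = d * P.natDegree * P.leadingCoeff := by
  obtain ⟨q, hq⟩ : ∃ q, P.natDegree = q + 1 := ⟨P.natDegree - 1, by omega⟩
  have hX : (X - C (d : ℚ) : ℚ[X]) = X + C (-(d : ℚ)) := by rw [C_neg, sub_eq_add_neg]
  rw [hX]
  set Q := P - P.comp (X + C (-(d : ℚ))) with hQ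
  have hlc : P.coeff (q + 1) ≠ 0 := by
    rw [← hq]
    exact leadingCoeff_ne_zero.mpr (fun h => by rw [h] at hP; simp at hP)
  have h1 : Q.coeff q = d * (q + 1) * P.coeff (q + 1) := by
    rw [hQ, coeff_sub, coeff_comp_pred P _ q hq]
    ring
  have h2 : Q.natDegree ≤ q := by
    rw [natDegree_le_iff_coeff_eq_zero]
    intro N hN
    rw [hQ, coeff_sub, coeff_comp_ge P _ N (by omega), sub_self]
  have h3 : Q.coeff q ≠ 0 := by
    rw [h1]
    have : (d : ℚ) ≠ 0 := by exact_mod_cast hd.ne'
    have h4 : ((q : ℚ) + 1) ≠ 0 := by positivity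
    exact mul_ne_zero (mul_ne_zero this h4) hlc
  have h5 : Q.natDegree = q := natDegree_eq_of_le_of_coeff_ne_zero h2 h3
  refine ⟨by rw [h5, hq], ?_⟩
  rw [leadingCoeff, h5, h1, leadingCoeff, hq]
  push_cast
  ring

end poly

section graded

open MvPolynomial

variable {k : Type u} [Field k] {σ : Type*} [Finite σ]

attribute [local instance] MvPolynomial.gradedAlgebra

lemma finite_homog (m : ℕ) : FiniteDimensional k (homogeneousSubmodule σ k m) :=
  Module.Finite.iff_fg.mpr (homogeneousSubmodule_fg σ k m)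

/-- `dim (I + (f))_m + dim I_{m-d} = dim I_m + dim R_{m-d}` for `f ∉ I` homogeneous of degree
`d ≤ m`, `I` a homogeneous prime. -/
theorem finrank_sup_span (I : Ideal (MvPolynomial σ k))
    (hIh : I.IsHomogeneous (homogeneousSubmodule σ k)) [I.IsPrime]
    (f : MvPolynomial σ k) (d : ℕ) (hf : f.IsHomogeneous d) (hfI : f ∉ I) (m : ℕ) (hm : d ≤ m) :
    Module.finrank k ↥(Submodule.restrictScalars k (I ⊔ Ideal.span {f}) ⊓
        homogeneousSubmodule σ k m) +
      Module.finrank k ↥(Submodule.restrictScalars k I ⊓ homogeneousSubmodule σ k (m - d)) =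
    Module.finrank k ↥(Submodule.restrictScalars k I ⊓ homogeneousSubmodule σ k m) +
      Module.finrank k ↥(homogeneousSubmodule σ k (m - d)) := by
  classical
  have hf0 : f ≠ 0 := fun h => hfI (h ▸ I.zero_mem)
  let μ : MvPolynomial σ k →ₗ[k] MvPolynomial σ k := LinearMap.mulLeft k f
  have hμ : Function.Injective μ := mul_right_injective₀ hf0
  have hμmem : ∀ b ∈ homogeneousSubmodule σ k (m - d), μ b ∈ homogeneousSubmodule σ k m := by
    intro b hb
    have h1 : (f * b).IsHomogeneous (d + (m - d)) := hf.mul hb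
    rw [Nat.add_sub_cancel' hm] at h1
    exact h1
  set A := Submodule.restrictScalars k I ⊓ homogeneousSubmodule σ k m with hA
  set B := (homogeneousSubmodule σ k (m - d)).map μ with hB
  have claim1 : A ⊔ B = Submodule.restrictScalars k (I ⊔ Ideal.span {f}) ⊓
      homogeneousSubmodule σ k m := by
    apply le_antisymm
    · apply sup_le
      · exact inf_le_inf (fun y hy => Ideal.mem_sup_left hy) le_rfl
      · rintro _ ⟨b, hb, rfl⟩
        refine ⟨?_, hμmem b hb⟩
        exact Ideal.mem_sup_right (Ideal.mul_mem_right b _ (Ideal.mem_span_singleton_self f))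
    · rintro y ⟨hy1, hy2⟩
      obtain ⟨a, ha, c, hc, rfl⟩ := Submodule.mem_sup.mp hy1
      obtain ⟨b, rfl⟩ := Ideal.mem_span_singleton'.mp hc
      have e1 : a + b * f =
          (DirectSum.decompose (homogeneousSubmodule σ k) a m : MvPolynomial σ k) +
            f * (DirectSum.decompose (homogeneousSubmodule σ k) b (m - d) : MvPolynomial σ k) := by
        conv_lhs => rw [← DirectSum.decompose_of_mem_same (homogeneousSubmodule σ k) hy2]
        rw [DirectSum.decompose_add, DirectSum.add_apply, Submodule.coe_add, mul_comm b f,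
          DirectSum.coe_decompose_mul_of_left_mem_of_le (homogeneousSubmodule σ k)
            (show f ∈ homogeneousSubmodule σ k d from hf) hm]
      rw [e1]
      refine Submodule.add_mem_sup ⟨hIh m ha, SetLike.coe_mem _⟩ ?_
      exact ⟨_, SetLike.coe_mem _, rfl⟩
  have claim2 : A ⊓ B =
      (Submodule.restrictScalars k I ⊓ homogeneousSubmodule σ k (m - d)).map μ := by
    apply le_antisymm
    · rintro y ⟨⟨hy1, -⟩, ⟨b, hb, rfl⟩⟩
      have : f * b ∈ I := hy1
      rcases Ideal.IsPrime.mem_or_mem ‹I.IsPrime› this with h | h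
      · exact absurd h hfI
      · exact ⟨b, ⟨h, hb⟩, rfl⟩
    · rintro _ ⟨b, ⟨hb1, hb2⟩, rfl⟩
      exact ⟨⟨I.mul_mem_left f hb1, hμmem b hb2⟩, ⟨b, hb2, rfl⟩⟩
  have : FiniteDimensional k (homogeneousSubmodule σ k m) := finite_homog m
  have : FiniteDimensional k (homogeneousSubmodule σ k (m - d)) := finite_homog (m - d)
  have hAfin : FiniteDimensional k A := Submodule.finiteDimensional_of_le inf_le_right
  have eB := Submodule.equivMapOfInjective μ hμ (homogeneousSubmodule σ k (m - d))
  have hBfin : FiniteDimensional k B := LinearEquiv.finiteDimensional eB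
  have key := Submodule.finrank_sup_add_finrank_inf_eq A B
  rw [claim1, claim2] at key
  have e2 := Submodule.equivMapOfInjective μ hμ
    (Submodule.restrictScalars k I ⊓ homogeneousSubmodule σ k (m - d))
  rw [← e2.finrank_eq] at key
  rw [key, hB, ← eB.finrank_eq]

end graded

section final

attribute [local instance] MvPolynomial.gradedAlgebra

theorem hilb_hypersurface (k : Type u) [Field k] (n : ℕ)
    (I : Ideal (MvPolynomial (Fin (n + 1)) k))
    (hIh : I.IsHomogeneous (MvPolynomial.homogeneousSubmodule (Fin (n + 1)) k)) [I.IsPrime]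
    (f : MvPolynomial (Fin (n + 1)) k) (d : ℕ) (hd : 0 < d) (hf : f.IsHomogeneous d) (hfI : f ∉ I)
    (P Q : ℚ[X])
    (hP : ∃ m₀ : ℕ, ∀ m : ℕ, m₀ ≤ m → P.eval (m : ℚ) =
      (Module.finrank k ↥(MvPolynomial.homogeneousSubmodule (Fin (n + 1)) k m) : ℚ) -
        Module.finrank k ↥(Submodule.restrictScalars k I ⊓ MvPolynomial.homogeneousSubmodule (Fin (n + 1)) k m))
    (hQ : ∃ m₀ : ℕ, ∀ m : ℕ, m₀ ≤ m → Q.eval (m : ℚ) =
      (Module.finrank k ↥(MvPolynomial.homogeneousSubmodule (Fin (n + 1)) k m) : ℚ) -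
        Module.finrank k ↥(Submodule.restrictScalars k (I ⊔ Ideal.span {f}) ⊓
          MvPolynomial.homogeneousSubmodule (Fin (n + 1)) k m))
    (hdim : 1 ≤ P.natDegree) :
    Q.natDegree + 1 = P.natDegree ∧
      (Q.natDegree.factorial : ℚ) * Q.leadingCoeff =
        d * ((P.natDegree.factorial : ℚ) * P.leadingCoeff) := by
  obtain ⟨m₀, hm₀⟩ := hP
  obtain ⟨m₁, hm₁⟩ := hQ
  set M := max (m₀ + d) m₁ with hM
  have hev : ∀ m : ℕ, M ≤ m →
      Q.eval (m : ℚ) = (P - P.comp (X - C (d : ℚ))).eval (m : ℚ) := by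
    intro m hm
    have hdm : d ≤ m := by omega
    have key := finrank_sup_span I hIh f d hf hfI m hdm
    have key' : (Module.finrank k ↥(Submodule.restrictScalars k (I ⊔ Ideal.span {f}) ⊓
        MvPolynomial.homogeneousSubmodule (Fin (n + 1)) k m) : ℚ) +
      Module.finrank k ↥(Submodule.restrictScalars k I ⊓
        MvPolynomial.homogeneousSubmodule (Fin (n + 1)) k (m - d)) =
      Module.finrank k ↥(Submodule.restrictScalars k I ⊓ MvPolynomial.homogeneousSubmodule (Fin (n + 1)) k m) +
      Module.finrank k ↥(MvPolynomial.homogeneousSubmodule (Fin (n + 1)) k (m - d)) := by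
      exact_mod_cast key
    rw [eval_sub, eval_comp, eval_sub, eval_X, eval_C, hm₁ m (by omega), hm₀ m (by omega)]
    have e1 : ((m : ℚ) - (d : ℚ)) = ((m - d : ℕ) : ℚ) := by rw [Nat.cast_sub hdm]
    rw [e1, hm₀ (m - d) (by omega)]
    linarith
  have hQeq : Q = P - P.comp (X - C (d : ℚ)) := by
    apply Polynomial.eq_of_infinite_eval_eq
    apply Set.infinite_of_injective_forall_mem (f := fun i : ℕ => ((i + M : ℕ) : ℚ))
    · intro a b hab
      have hab' : ((a + M : ℕ) : ℚ) = ((b + M : ℕ) : ℚ) := hab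
      have : (a + M : ℕ) = b + M := by exact_mod_cast hab'
      omega
    · intro i
      exact hev (i + M) (by omega)
  obtain ⟨h1, h2⟩ := natDegree_sub_comp P d hd hdim
  rw [← hQeq] at h1 h2
  refine ⟨h1, ?_⟩
  rw [h2, ← h1, Nat.factorial_succ]
  push_cast
  ring

end final

end Groth.Agent.Lib.HilbDiff99
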