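/-
helper7: Lib/HilbDim7 — the Hilbert polynomial of a standard graded `*`local ring with Artinian `R_0`
has degree EXACTLY `dim R - 1` (`exists_hilbPoly_exact`; refinement of helper74/helper25's
`GrHilbSamuel.exists_hilbPoly`, which only records `degree < dim R`).
-/
import Mathlib
import Groth.Agent.Lib.GrHilbSamuel
import Groth.Agent.Lib.GrHilbMono
import Groth.Agent.Lib.H74QuotGr1
import Groth.Agent.Lib.GrLCBridge
import Groth.Agent.Lib.HilbDiff99

set_option autoImplicit false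
set_option linter.unusedSectionVars false
set_option linter.style.haveILetI false

universe u

namespace Groth.Agent.Lib.HilbDim7

open DirectSum GrLC Polynomial Groth.Agent.Lib.H74GrArt Groth.Agent.S13229
  Groth.Agent.Lib.GrHilbSamuel Groth.Agent.Lib.HilbertSamuel

section General

variable {R : Type u} [CommRing R] (𝒜 : ℤ → AddSubgroup R) [GradedRing 𝒜]
variable [IsNoetherianRing R] [IsArtinianRing (deg0 𝒜)]

theorem taylor_sub_eq (Q : ℚ[X]) :
    taylor 1 Q - Q = taylor 1 Q - (taylor 1 Q).comp (X - C ((1 : ℕ) : ℚ)) := by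
  congr 1
  rw [taylor_apply, comp_assoc]
  simp

/-- **Hilbert polynomial** of a standard graded `*`local ring with Artinian `R_0`: it exists and
has degree exactly `dim R - 1` (and is zero when `dim R = 0`). -/
theorem exists_hilbPoly_exact (hpos : ∀ n : ℤ, n < 0 → 𝒜 n = ⊥)
    (hstd : Ideal.span (⋃ n ∈ Set.Ioi (0 : ℤ), (𝒜 n : Set R)) =
      Ideal.span ((𝒜 1 : AddSubgroup R) : Set R))
    (m : HomogeneousIdeal 𝒜) (hm : GrLC.IsStarLocal 𝒜 m) (d : ℕ) (hd : ringKrullDim R = d) :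
    ∃ P : ℚ[X], (d = 0 → P = 0) ∧ (1 ≤ d → P.natDegree + 1 = d) ∧ ∃ N : ℤ, ∀ n : ℤ, N ≤ n →
      P.eval (n : ℚ) = ((Module.length (deg0 𝒜) (comp 𝒜 𝒜 n)).toNat : ℚ) := by
  classical
  haveI hmax : m.toIdeal.IsMaximal := isMaximal_of_isStarLocal 𝒜 hpos m hm
  set A := Localization.AtPrime m.toIdeal with hA
  obtain ⟨PA, ⟨NA, hNA⟩, hdeg⟩ := exists_hilbertSamuel_natDegree_eq (A := A) A
  have hPAd : PA.natDegree = d := by
    rw [Module.supportDim_self_eq_ringKrullDim,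
      IsLocalization.AtPrime.ringKrullDim_eq_height m.toIdeal A,
      ← Groth.Agent.Lib.H74GrDim.ringKrullDim_eq_height 𝒜 hpos m hm, hd] at hdeg
    exact_mod_cast hdeg
  obtain ⟨hfin, Q, NQ, hNQ⟩ := exists_samuel_irr 𝒜 hpos hstd
  obtain ⟨s0, hs0⟩ := Groth.Agent.S17770.exists_pow_le_irr 𝒜 hpos m hm
  have hirr := Groth.Agent.S17770.irr_le_of_isStarLocal 𝒜 hpos m hm
  have hs : m.toIdeal ^ (s0 + 1) ≤ (irr 𝒜).toIdeal :=
    (Ideal.pow_le_pow_right (Nat.le_succ s0)).trans hs0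
  have hlenA : ∀ n : ℕ, NA ≤ n → ∃ ℓ : ℕ, Module.length R (R ⧸ m.toIdeal ^ n) = ℓ ∧
      (ℓ : ℚ) = PA.eval (n : ℚ) := by
    intro n hn
    obtain ⟨ℓ, h1, h2⟩ := hNA n hn
    rw [length_localization_quot_pow] at h1
    exact ⟨ℓ, h1, h2⟩
  have hfinm : ∀ n : ℕ, Module.length R (R ⧸ m.toIdeal ^ n) ≠ ⊤ := by
    intro n
    obtain ⟨ℓ, h1, -⟩ := hlenA (max n NA) (le_max_right _ _)
    have h2 := length_quot_le_of_le' (Ideal.pow_le_pow_right (le_max_left n NA) :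
      m.toIdeal ^ (max n NA) ≤ m.toIdeal ^ n)
    rw [h1] at h2
    exact ne_top_of_le_ne_top (ENat.natCast_ne_top ℓ) h2
  have hfing : ∀ n : ℕ, Module.length R (R ⧸ ge 𝒜 𝒜 hpos (n : ℤ)) ≠ ⊤ :=
    fun n => Module.length_ne_top_iff.mpr (hfin n)
  have hQd : Q.natDegree = d := by
    rw [← hPAd]
    symm
    apply natDegree_eq_of_sandwich PA Q
      (fun n => (Module.length R (R ⧸ m.toIdeal ^ n)).toNat)
      (fun n => (Module.length R (R ⧸ ge 𝒜 𝒜 hpos (n : ℤ))).toNat)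
      ⟨NA, fun n hn => ?_⟩ ⟨NQ, hNQ⟩ (fun n => ?_) (s0 + 1) (Nat.succ_pos s0) (fun n => ?_)
    · obtain ⟨ℓ, h1, h2⟩ := hlenA n hn
      show (((Module.length R (R ⧸ m.toIdeal ^ n)).toNat : ℕ) : ℚ) = _
      rw [h1, ENat.toNat_natCast, h2]
    · apply ENat.toNat_le_toNat _ (hfing n)
      rw [← irr_pow_eq_ge 𝒜 hpos hstd n]
      exact length_quot_le_of_le' (Ideal.pow_right_mono hirr n)
    · apply ENat.toNat_le_toNat _ (hfinm _)
      rw [← irr_pow_eq_ge 𝒜 hpos hstd n]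
      apply length_quot_le_of_le'
      rw [pow_mul]
      exact Ideal.pow_right_mono hs n
  refine ⟨taylor 1 Q - Q, ?_, ?_, (NQ : ℤ), fun n hn => ?_⟩
  · intro hd0
    rw [hd0] at hQd
    rw [eq_C_of_natDegree_eq_zero hQd, taylor_C, sub_self]
  · intro hd1
    rw [taylor_sub_eq]
    have h := (Groth.Agent.Lib.HilbDiff99.natDegree_sub_comp (taylor 1 Q) 1 Nat.one_pos
      (by rw [natDegree_taylor, hQd]; exact hd1)).1
    rw [h, natDegree_taylor, hQd]
  · have hn0 : (0 : ℤ) ≤ n := le_trans (Int.natCast_nonneg NQ) hn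
    obtain ⟨k, rfl⟩ := Int.eq_ofNat_of_zero_le hn0
    have hk : NQ ≤ k := by exact_mod_cast hn
    rw [eval_sub, taylor_eval]
    have e1 : ((k : ℤ) : ℚ) + 1 = ((k + 1 : ℕ) : ℚ) := by push_cast; ring
    have e2 : ((k : ℤ) : ℚ) = ((k : ℕ) : ℚ) := by push_cast; ring
    rw [e1, e2, ← hNQ (k + 1) (by omega), ← hNQ k hk]
    have h3 := length_quot_ge_succ 𝒜 hpos (k : ℤ)
    have e3 : ((k : ℤ) + 1) = ((k + 1 : ℕ) : ℤ) := by push_cast; ring
    rw [e3] at h3
    have hfc : Module.length (deg0 𝒜) (comp 𝒜 𝒜 (k : ℤ)) ≠ ⊤ := by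
      intro h
      rw [h, top_add] at h3
      exact hfing (k + 1) h3
    rw [h3, ENat.toNat_add hfc (hfing k)]
    push_cast
    ring

end General

end Groth.Agent.Lib.HilbDim7
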