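import Mathlib
import Groth.Agent.Lib.GrHilbMod1
import Groth.Agent.Lib.HilbDim7
import Groth.Agent.Lib.H74QuotGr2
import Groth.Agent.Lib.GrHilbMono

/-!
# Hilbert polynomials of finitely generated graded modules II: the degree (helper12)

`R` Noetherian positively `ℤ`-graded, standard graded, `R_0` a field, `M` a finitely generated
graded module with Hilbert polynomial `Q`.  Then `Q = 0 → dim M ≤ 0` and
`Q ≠ 0 → dim M = deg Q + 1` (`exists_hilbPoly_module_exact`).  The degree is obtained by a sandwich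
with the Hilbert polynomial of the graded ring `R / ann M` (helper7's `exists_hilbPoly_exact`).
-/

set_option autoImplicit false
set_option linter.unusedSectionVars false
set_option linter.style.haveILetI false

universe u

namespace Groth.Agent.Lib.GrHilbMod

open DirectSum GrLC Polynomial Groth.Agent.Lib.H74GrArt Groth.Agent.S13229
  Groth.Agent.Lib.GrHilbSamuel Groth.Agent.Lib.H74GrSerre Groth.Agent.Lib.H74QuotGr

section Semilinear

/-- Length is invariant under a bijective semilinear map over a surjective ring homomorphism. -/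
theorem length_eq_of_semilinear {A B : Type*} [Ring A] [Ring B] (σ : A →+* B)
    (hσ : Function.Surjective σ) {X Y : Type*} [AddCommGroup X] [Module A X] [AddCommGroup Y]
    [Module B Y] (f : X →ₛₗ[σ] Y) (hf : Function.Bijective f) :
    Module.length A X = Module.length B Y := by
  haveI : RingHomSurjective σ := ⟨hσ⟩
  rw [Module.length, Module.length, WithBot.unbot_inj,
    Order.krullDim_eq_of_orderIso (Submodule.orderIsoMapComapOfBijective f hf)]

end Semilinear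

section Quot

variable {R : Type u} [CommRing R] (𝒜 : ℤ → AddSubgroup R) [GradedRing 𝒜] (I : Ideal R)

instance gradedSMul_quotPiece : SetLike.GradedSMul 𝒜 (quotPiece 𝒜 I) where
  smul_mem := by
    rintro i j r _ hr ⟨y, hy, rfl⟩
    refine ⟨r * y, SetLike.GradedMul.mul_mem (A := 𝒜) hr hy, ?_⟩
    show Ideal.Quotient.mk I (r * y) = r • Ideal.Quotient.mk I y
    rw [Algebra.smul_def, map_mul]
    rfl

theorem quot_hpos (hpos : ∀ n : ℤ, n < 0 → 𝒜 n = ⊥) :
    ∀ j : ℤ, j < 0 → quotPiece 𝒜 I j = ⊥ := by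
  intro j hj
  rw [eq_bot_iff]
  rintro _ ⟨p, hp, rfl⟩
  rw [hpos j hj] at hp
  have hp0 : p = 0 := hp
  rw [hp0, AddSubgroup.mem_bot]
  simp

theorem quot_hstd
    (hstd : Ideal.span (⋃ n ∈ Set.Ioi (0 : ℤ), (𝒜 n : Set R)) =
      Ideal.span ((𝒜 1 : AddSubgroup R) : Set R)) :
    Ideal.span (⋃ j ∈ Set.Ioi (0 : ℤ), (quotPiece 𝒜 I j : Set (R ⧸ I))) =
      Ideal.span ((quotPiece 𝒜 I 1 : AddSubgroup (R ⧸ I)) : Set (R ⧸ I)) := by
  apply le_antisymm
  · rw [Ideal.span_le]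
    intro x hx
    obtain ⟨j, hj, hxj⟩ := Set.mem_iUnion₂.mp hx
    obtain ⟨p, hp, rfl⟩ := hxj
    have hmem : p ∈ Ideal.span ((𝒜 1 : AddSubgroup R) : Set R) := by
      rw [← hstd]
      exact Ideal.subset_span (Set.mem_iUnion₂.mpr ⟨j, hj, hp⟩)
    have h2 : Ideal.Quotient.mk I p ∈ (Ideal.span ((𝒜 1 : AddSubgroup R) : Set R)).map
        (Ideal.Quotient.mk I) := Ideal.mem_map_of_mem _ hmem
    rw [Ideal.map_span] at h2
    refine Ideal.span_mono ?_ h2
    rintro _ ⟨y, hy, rfl⟩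
    exact mk_mem_quotPiece 𝒜 I hy
  · apply Ideal.span_mono
    intro x hx
    exact Set.mem_iUnion₂.mpr ⟨1, by simp, hx⟩

variable {I}

/-- The surjection `R_0 → (R/I)_0`. -/
noncomputable def pi0 (hI : I.IsHomogeneous 𝒜) :
    letI := quotGradedRing 𝒜 hI
    deg0 𝒜 →+* deg0 (quotPiece 𝒜 I) :=
  letI := quotGradedRing 𝒜 hI
  RingHom.codRestrict ((Ideal.Quotient.mk I).comp (deg0 𝒜).subtype) (deg0 (quotPiece 𝒜 I))
    (fun a => mk_mem_quotPiece 𝒜 I a.2)

theorem pi0_surjective (hI : I.IsHomogeneous 𝒜) : Function.Surjective (pi0 𝒜 hI) := by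
  letI := quotGradedRing 𝒜 hI
  rintro ⟨y, hy⟩
  have hy' : y ∈ quotPiece 𝒜 I 0 := hy
  obtain ⟨p, hp, rfl⟩ := hy'
  exact ⟨⟨p, hp⟩, Subtype.ext rfl⟩

theorem isField_deg0_quot (hI : I.IsHomogeneous 𝒜) (h0 : IsField (deg0 𝒜)) (hne : I ≠ ⊤) :
    letI := quotGradedRing 𝒜 hI
    IsField (deg0 (quotPiece 𝒜 I)) := by
  letI := quotGradedRing 𝒜 hI
  haveI : Nontrivial (R ⧸ I) := Ideal.Quotient.nontrivial_iff.mpr hne
  letI : Field (deg0 𝒜) := h0.toField
  have hinj : Function.Injective (pi0 𝒜 hI) := (pi0 𝒜 hI).injective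
  exact MulEquiv.isField h0
    (RingEquiv.ofBijective (pi0 𝒜 hI) ⟨hinj, pi0_surjective 𝒜 hI⟩).symm.toMulEquiv

/-- The pieces of `R/I` have the same length over `(R/I)_0` and over `R_0`. -/
theorem length_comp_quot_eq (hI : I.IsHomogeneous 𝒜) (n : ℤ) :
    letI := quotGradedRing 𝒜 hI
    Module.length (deg0 (quotPiece 𝒜 I)) (comp (quotPiece 𝒜 I) (quotPiece 𝒜 I) n) =
      Module.length (deg0 𝒜) (comp 𝒜 (quotPiece 𝒜 I) n) := by
  letI := quotGradedRing 𝒜 hI
  symm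
  let f : comp 𝒜 (quotPiece 𝒜 I) n →ₛₗ[pi0 𝒜 hI] comp (quotPiece 𝒜 I) (quotPiece 𝒜 I) n :=
    { toFun := fun x => ⟨x.1, x.2⟩
      map_add' := fun x y => rfl
      map_smul' := fun a x => by
        apply Subtype.ext
        show (a : R) • (x.1 : R ⧸ I) = Ideal.Quotient.mk I (a : R) * x.1
        rw [Algebra.smul_def]
        rfl }
  apply length_eq_of_semilinear (pi0 𝒜 hI) (pi0_surjective 𝒜 hI) f
  constructor
  · intro x y hxy
    apply Subtype.ext
    exact congrArg Subtype.val hxy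
  · rintro ⟨y, hy⟩
    exact ⟨⟨y, hy⟩, rfl⟩

variable [IsNoetherianRing R]

/-- Hilbert polynomial of `R/I` as a graded `R`-module, with exact degree. -/
theorem exists_hilbPoly_quot (hpos : ∀ n : ℤ, n < 0 → 𝒜 n = ⊥)
    (hstd : Ideal.span (⋃ n ∈ Set.Ioi (0 : ℤ), (𝒜 n : Set R)) =
      Ideal.span ((𝒜 1 : AddSubgroup R) : Set R))
    (h0 : IsField (deg0 𝒜)) (hI : I.IsHomogeneous 𝒜) (hne : I ≠ ⊤) :
    ∃ (d : ℕ) (P : ℚ[X]), ringKrullDim (R ⧸ I) = d ∧ (d = 0 → P = 0) ∧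
      (1 ≤ d → P.natDegree + 1 = d) ∧ ∃ N : ℤ, ∀ n : ℤ, N ≤ n →
        P.eval (n : ℚ) = ((Module.length (deg0 𝒜) (comp 𝒜 (quotPiece 𝒜 I) n)).toNat : ℚ) := by
  letI := quotGradedRing 𝒜 hI
  have h0' := isField_deg0_quot 𝒜 hI h0 hne
  letI : Field (deg0 (quotPiece 𝒜 I)) := h0'.toField
  haveI : IsArtinianRing (deg0 (quotPiece 𝒜 I)) := inferInstance
  have hloc := Groth.Agent.Lib.GrHilbMono.isStarLocal_irr (quotPiece 𝒜 I) (quot_hpos 𝒜 I hpos) h0'
  obtain ⟨d, hd⟩ : ∃ d : ℕ, ringKrullDim (R ⧸ I) = d := by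
    haveI : Nontrivial (R ⧸ I) := Ideal.Quotient.nontrivial_iff.mpr hne
    have h1 := Groth.Agent.Lib.H74GrDim.ringKrullDim_eq_height (quotPiece 𝒜 I)
      (quot_hpos 𝒜 I hpos) _ hloc
    haveI hmax : (irr (quotPiece 𝒜 I)).toIdeal.IsMaximal :=
      isMaximal_of_isStarLocal (quotPiece 𝒜 I) (quot_hpos 𝒜 I hpos) _ hloc
    have h2 : (irr (quotPiece 𝒜 I)).toIdeal.height ≠ ⊤ :=
      Ideal.height_ne_top (hmax.ne_top)
    obtain ⟨d, hd⟩ := ENat.ne_top_iff_exists.mp h2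
    exact ⟨d, by rw [h1, ← hd]; rfl⟩
  obtain ⟨P, hP0, hP1, N, hN⟩ := Groth.Agent.Lib.HilbDim7.exists_hilbPoly_exact (quotPiece 𝒜 I)
    (quot_hpos 𝒜 I hpos) (quot_hstd 𝒜 I hstd) _ hloc d hd
  refine ⟨d, P, hd, hP0, hP1, N, fun n hn => ?_⟩
  rw [hN n hn, length_comp_quot_eq 𝒜 hI n]

end Quot

section Module

variable {R : Type u} [CommRing R] (𝒜 : ℤ → AddSubgroup R) [GradedRing 𝒜]
variable {M : Type u} [AddCommGroup M] [Module R M] (ℳ : ℤ → AddSubgroup M) [Decomposition ℳ]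
  [SetLike.GradedSMul 𝒜 ℳ]

/-- Multiplication on a fixed element, descended to `R / ann M`. -/
noncomputable def mu (g : M) : (R ⧸ Module.annihilator R M) →ₗ[R] M :=
  Submodule.liftQ (Module.annihilator R M) (LinearMap.toSpanSingleton R M g) (by
    intro r hr
    rw [LinearMap.mem_ker, LinearMap.toSpanSingleton_apply]
    exact Module.mem_annihilator.mp hr g)

@[simp] theorem mu_mk (g : M) (r : R) :
    mu (R := R) g (Ideal.Quotient.mk (Module.annihilator R M) r) = r • g := rfl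

theorem mu_mem {g : M} {e j : ℤ} (hg : g ∈ ℳ e) {x : R ⧸ Module.annihilator R M}
    (hx : x ∈ quotPiece 𝒜 (Module.annihilator R M) j) : mu (R := R) g x ∈ ℳ (j + e) := by
  obtain ⟨r, hr, rfl⟩ := hx
  show mu (R := R) g (Ideal.Quotient.mk _ r) ∈ ℳ (j + e)
  rw [mu_mk]
  exact SetLike.GradedSMul.smul_mem hr hg

variable [IsNoetherianRing R] [Module.Finite R M]

/-- The two inequalities between the Hilbert functions of `M` and of `R / ann M`. -/
theorem hilb_sandwich (h0 : IsField (deg0 𝒜)) :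
    ∃ (S : Finset M) (deg : M → ℤ),
      (∀ n : ℤ, (Module.length (deg0 𝒜) (comp 𝒜 ℳ n)).toNat ≤
        ∑ s ∈ S, (Module.length (deg0 𝒜)
          (comp 𝒜 (quotPiece 𝒜 (Module.annihilator R M)) (n - deg s))).toNat) ∧
      (∀ n : ℤ, (Module.length (deg0 𝒜)
          (comp 𝒜 (quotPiece 𝒜 (Module.annihilator R M)) n)).toNat ≤
        ∑ s ∈ S, (Module.length (deg0 𝒜) (comp 𝒜 ℳ (n + deg s))).toNat) := by
  classical
  letI : Field (deg0 𝒜) := h0.toField
  haveI : IsArtinianRing (deg0 𝒜) := inferInstance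
  set I := Module.annihilator R M with hIdef
  have hI : I.IsHomogeneous 𝒜 := isHomogeneous_annihilator 𝒜 ℳ
  letI := quotGradedRing 𝒜 hI
  obtain ⟨S, deg, hdeg, hspan⟩ := exists_homog_gens (R := R) ℳ
  have hfinM : ∀ n, Module.length (deg0 𝒜) (comp 𝒜 ℳ n) ≠ ⊤ := fun n =>
    length_comp_ne_top 𝒜 ℳ n
  have hfinQ : ∀ n, Module.length (deg0 𝒜) (comp 𝒜 (quotPiece 𝒜 I) n) ≠ ⊤ := fun n =>
    length_comp_ne_top 𝒜 (quotPiece 𝒜 I) n
  refine ⟨S, deg, fun n => ?_, fun n => ?_⟩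
  · -- the surjection `⊕ (R/I)_{n - deg s} → M_n`
    let Φ₀ : (∀ s : S, comp 𝒜 (quotPiece 𝒜 I) (n - deg s.1)) →ₗ[deg0 𝒜] M :=
      ∑ s : S, ((mu (R := R) (s.1 : M)).restrictScalars (deg0 𝒜)) ∘ₗ
        (comp 𝒜 (quotPiece 𝒜 I) (n - deg s.1)).subtype ∘ₗ LinearMap.proj s
    have hΦ₀ : ∀ f, Φ₀ f = ∑ s : S, mu (R := R) (s.1 : M) (f s).1 := by
      intro f
      simp [Φ₀, LinearMap.sum_apply]
    have hmem : ∀ f, Φ₀ f ∈ comp 𝒜 ℳ n := by
      intro f
      rw [hΦ₀]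
      refine Submodule.sum_mem _ fun s _ => ?_
      have := mu_mem 𝒜 ℳ (hdeg s.1 s.2) (f s).2
      rw [sub_add_cancel] at this
      exact this
    let Φ : (∀ s : S, comp 𝒜 (quotPiece 𝒜 I) (n - deg s.1)) →ₗ[deg0 𝒜] comp 𝒜 ℳ n :=
      LinearMap.codRestrict _ Φ₀ hmem
    have hΦs : Function.Surjective Φ := by
      rintro ⟨m, hm⟩
      have hmn : m ∈ ℳ n := hm
      have hmS : m ∈ Submodule.span R (S : Set M) := by rw [hspan]; trivial
      obtain ⟨f, -, hsum⟩ := Submodule.mem_span_finset.mp hmS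
      have key : m = ∑ s ∈ S, (decompose 𝒜 (f s) (n - deg s) : R) • s := by
        calc m = (decompose ℳ m n : M) := (decompose_of_mem_same ℳ hmn).symm
          _ = (decompose ℳ (∑ s ∈ S, f s • s) n : M) := by rw [hsum]
          _ = ∑ s ∈ S, (decompose ℳ (f s • s) n : M) := by
              rw [decompose_sum, DFinsupp.finsetSum_apply, AddSubmonoidClass.coe_finsetSum]
          _ = ∑ s ∈ S, (decompose 𝒜 (f s) (n - deg s) : R) • s := by
              refine Finset.sum_congr rfl fun s hs => ?_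
              exact decompose_smul_right' 𝒜 ℳ (hdeg s hs) (f s) n
      refine ⟨fun s => ⟨Ideal.Quotient.mk I (decompose 𝒜 (f s.1) (n - deg s.1) : R),
        mk_mem_quotPiece 𝒜 I (decompose 𝒜 (f s.1) (n - deg s.1)).2⟩, ?_⟩
      apply Subtype.ext
      show Φ₀ _ = m
      rw [hΦ₀, key, ← Finset.sum_coe_sort S]
      rfl
    have h1 := Module.length_le_of_surjective Φ hΦs
    rw [Module.length_pi_of_fintype] at h1
    have h2 : ∀ s : S, Module.length (deg0 𝒜) (comp 𝒜 (quotPiece 𝒜 I) (n - deg s.1)) =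
        (((Module.length (deg0 𝒜) (comp 𝒜 (quotPiece 𝒜 I) (n - deg s.1))).toNat : ℕ) : ℕ∞) :=
      fun s => (ENat.natCast_toNat (hfinQ _)).symm
    rw [← ENat.natCast_toNat (hfinM n), Finset.sum_congr rfl (fun s _ => h2 s),
      ← Nat.cast_sum] at h1
    have h3 : (Module.length (deg0 𝒜) (comp 𝒜 ℳ n)).toNat ≤
        ∑ s : S, (Module.length (deg0 𝒜) (comp 𝒜 (quotPiece 𝒜 I) (n - deg s.1))).toNat := by
      exact_mod_cast h1
    rw [Finset.sum_coe_sort S (fun s => (Module.length (deg0 𝒜)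
      (comp 𝒜 (quotPiece 𝒜 I) (n - deg s))).toNat)] at h3
    exact h3
  · -- the injection `(R/I)_n → ⊕ M_{n + deg s}`
    let Ψ : comp 𝒜 (quotPiece 𝒜 I) n →ₗ[deg0 𝒜] (∀ s : S, comp 𝒜 ℳ (n + deg s.1)) :=
      LinearMap.pi fun s => LinearMap.codRestrict _
        (((mu (R := R) (s.1 : M)).restrictScalars (deg0 𝒜)) ∘ₗ
          (comp 𝒜 (quotPiece 𝒜 I) n).subtype)
        (fun x => mu_mem 𝒜 ℳ (hdeg s.1 s.2) x.2)
    have hΨ : ∀ x s, ((Ψ x s : comp 𝒜 ℳ (n + deg s.1)) : M) = mu (R := R) (s.1 : M) x.1 :=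
      fun x s => rfl
    have hΨi : Function.Injective Ψ := by
      rw [← LinearMap.ker_eq_bot, eq_bot_iff]
      rintro ⟨x, hx⟩ hker
      rw [LinearMap.mem_ker] at hker
      rw [Submodule.mem_bot]
      apply Subtype.ext
      show x = 0
      obtain ⟨r, hr, rfl⟩ := (hx : x ∈ quotPiece 𝒜 I n)
      show Ideal.Quotient.mk I r = 0
      rw [Ideal.Quotient.eq_zero_iff_mem, hIdef, Module.mem_annihilator]
      intro m
      have hmS : m ∈ Submodule.span R (S : Set M) := by rw [hspan]; trivial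
      induction hmS using Submodule.span_induction with
      | mem s hs =>
        have h1 := congrFun hker ⟨s, hs⟩
        have h2 := congrArg Subtype.val h1
        rw [hΨ] at h2
        exact h2
      | zero => rw [smul_zero]
      | add a b _ _ ha hb => rw [smul_add, ha, hb, add_zero]
      | smul c a _ ha => rw [smul_comm, ha, smul_zero]
    have h1 := Module.length_le_of_injective Ψ hΨi
    rw [Module.length_pi_of_fintype] at h1
    have h2 : ∀ s : S, Module.length (deg0 𝒜) (comp 𝒜 ℳ (n + deg s.1)) =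
        (((Module.length (deg0 𝒜) (comp 𝒜 ℳ (n + deg s.1))).toNat : ℕ) : ℕ∞) :=
      fun s => (ENat.natCast_toNat (hfinM _)).symm
    rw [← ENat.natCast_toNat (hfinQ n), Finset.sum_congr rfl (fun s _ => h2 s),
      ← Nat.cast_sum] at h1
    have h3 : (Module.length (deg0 𝒜) (comp 𝒜 (quotPiece 𝒜 I) n)).toNat ≤
        ∑ s : S, (Module.length (deg0 𝒜) (comp 𝒜 ℳ (n + deg s.1))).toNat := by
      exact_mod_cast h1
    rw [Finset.sum_coe_sort S (fun s => (Module.length (deg0 𝒜)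
      (comp 𝒜 ℳ (n + deg s))).toNat)] at h3
    exact h3

end Module

end Groth.Agent.Lib.GrHilbMod
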