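import Mathlib
import Groth.Agent.Lib.GrHilbMod2
import Groth.Agent.Lib.EvPoly
import Groth.Agent.Lib.FiniteLengthSupport

/-!
# Hilbert polynomials of finitely generated graded modules III: exact degree (helper12)

`exists_hilbPoly_module_exact`: for `R` Noetherian, positively and standard `ℤ`-graded with `R_0` a
field and `M` a finitely generated graded module there is `Q : ℚ[X]` with
`Q(n) = ℓ_{R_0}(M_n)` for `n ≫ 0`, `Q = 0 → dim M ≤ 0` and `Q ≠ 0 → dim M = deg Q + 1`.
-/

set_option autoImplicit false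
set_option linter.unusedSectionVars false
set_option linter.style.haveILetI false

universe u

namespace Groth.Agent.Lib.GrHilbMod

open DirectSum GrLC Polynomial Groth.Agent.Lib.H74GrArt Groth.Agent.S13229
  Groth.Agent.Lib.GrHilbSamuel Groth.Agent.Lib.H74GrSerre Groth.Agent.Lib.H74QuotGr

section Poly

/-- A polynomial vanishing at all large naturals is zero. -/
theorem eq_zero_of_eventually_eval_eq_zero (P : ℚ[X]) (N : ℕ)
    (h : ∀ n : ℕ, N ≤ n → P.eval (n : ℚ) = 0) : P = 0 := by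
  apply Polynomial.eq_zero_of_infinite_isRoot
  have hinj : Function.Injective (fun n : ℕ => ((n + N : ℕ) : ℚ)) := by
    intro a b hab
    have : ((a + N : ℕ) : ℚ) = ((b + N : ℕ) : ℚ) := hab
    have h2 : (a + N : ℕ) = b + N := by exact_mod_cast this
    omega
  refine Set.Infinite.mono ?_ (Set.infinite_range_of_injective hinj)
  rintro _ ⟨n, rfl⟩
  exact h (n + N) (by omega)

theorem natDegree_sum_comp_le (P : ℚ[X]) {σ : Type*} (S : Finset σ) (c : σ → ℚ) :
    (∑ s ∈ S, P.comp (X + C (c s))).natDegree ≤ P.natDegree := by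
  apply natDegree_sum_le_of_forall_le
  intro s _
  refine le_trans natDegree_comp_le ?_
  rw [natDegree_X_add_C, mul_one]

end Poly

section Module

variable {R : Type u} [CommRing R] (𝒜 : ℤ → AddSubgroup R) [GradedRing 𝒜]
variable {M : Type u} [AddCommGroup M] [Module R M] (ℳ : ℤ → AddSubgroup M) [Decomposition ℳ]
  [SetLike.GradedSMul 𝒜 ℳ]

/-- If all pieces in degrees `≥ N` vanish then `M_{≥ N} = 0`. -/
theorem ge_eq_bot (hpos : ∀ n : ℤ, n < 0 → 𝒜 n = ⊥) (N : ℤ) (h : ∀ n : ℤ, N ≤ n → ℳ n = ⊥) :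
    ge 𝒜 ℳ hpos N = ⊥ := by
  rw [eq_bot_iff]
  intro m hm
  rw [Submodule.mem_bot]
  apply (decompose ℳ).injective
  rw [decompose_zero]
  ext n
  rw [DirectSum.zero_apply]
  by_cases hn : n < N
  · exact hm n hn
  · have h1 : ((decompose ℳ m n : ℳ n) : M) ∈ ℳ n := (decompose ℳ m n).2
    have h2 : ((decompose ℳ m n : ℳ n) : M) ∈ (⊥ : AddSubgroup M) := by
      rw [← h n (by omega)]; exact h1
    exact h2

variable [IsNoetherianRing R] [Module.Finite R M]

/-- If the pieces of `M` vanish in large degrees, every prime of the support is maximal. -/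
theorem isMaximal_of_mem_support_of_eventually_bot [IsArtinianRing (deg0 𝒜)]
    (hpos : ∀ n : ℤ, n < 0 → 𝒜 n = ⊥) (N : ℤ)
    (h : ∀ n : ℤ, N ≤ n → ℳ n = ⊥) (p : PrimeSpectrum R) (hp : p ∈ Module.support R M) :
    p.asIdeal.IsMaximal := by
  obtain ⟨d₀, hd₀⟩ := exists_top_le_ge 𝒜 ℳ hpos (R := R)
  have hle := pow_smul_top_le_ge 𝒜 ℳ hpos (irr 𝒜).toIdeal rfl hd₀ (N - d₀).toNat
  have hbot : (irr 𝒜).toIdeal ^ (N - d₀).toNat • (⊤ : Submodule R M) = ⊥ := by
    rw [eq_bot_iff]
    refine hle.trans ?_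
    rw [← ge_eq_bot 𝒜 ℳ hpos N h]
    exact ge_anti (by omega)
  have hann : (irr 𝒜).toIdeal ^ (N - d₀).toNat ≤ Module.annihilator R M := by
    intro r hr
    rw [Module.mem_annihilator]
    intro m
    have : r • m ∈ (irr 𝒜).toIdeal ^ (N - d₀).toNat • (⊤ : Submodule R M) :=
      Submodule.smul_mem_smul hr Submodule.mem_top
    rw [hbot] at this
    exact this
  have hpa : Module.annihilator R M ≤ p.asIdeal := by
    rw [Module.support_eq_zeroLocus] at hp
    exact hp
  have hirr : (irr 𝒜).toIdeal ≤ p.asIdeal :=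
    p.2.le_of_pow_le (hann.trans hpa)
  exact isMaximal_of_irr_le 𝒜 hpos p.asIdeal hirr

/-- If the pieces of `M` vanish in large degrees, `dim M ≤ 0`. -/
theorem supportDim_le_zero_of_eventually_bot [IsArtinianRing (deg0 𝒜)]
    (hpos : ∀ n : ℤ, n < 0 → 𝒜 n = ⊥) (N : ℤ)
    (h : ∀ n : ℤ, N ≤ n → ℳ n = ⊥) : Module.supportDim R M ≤ 0 := by
  rw [Module.supportDim, Order.krullDim_nonpos_iff_forall_isMax]
  rintro ⟨p, hp⟩ ⟨q, hq⟩ hpq
  have hmax : p.asIdeal.IsMaximal :=
    isMaximal_of_mem_support_of_eventually_bot 𝒜 ℳ hpos N h p hp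
  have hpq' : p.asIdeal ≤ q.asIdeal := hpq
  have := hmax.eq_of_le q.2.ne_top hpq'
  show q ≤ p
  exact le_of_eq (PrimeSpectrum.ext this.symm)

/-- If the pieces of `M` vanish in large degrees, `M` is Artinian. -/
theorem isArtinian_of_eventually_bot [IsArtinianRing (deg0 𝒜)]
    (hpos : ∀ n : ℤ, n < 0 → 𝒜 n = ⊥) (N : ℤ)
    (h : ∀ n : ℤ, N ≤ n → ℳ n = ⊥) : IsArtinian R M := by
  have hfl : IsFiniteLength R M :=
    Groth.Agent.Lib.FiniteLengthSupport.isFiniteLength_of_support_isMaximal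
      (fun p hp => isMaximal_of_mem_support_of_eventually_bot 𝒜 ℳ hpos N h p hp)
  exact (isFiniteLength_iff_isNoetherian_isArtinian.mp hfl).2

/-- **Hilbert polynomial with exact degree** of a finitely generated graded module. -/
theorem exists_hilbPoly_module_exact (hpos : ∀ n : ℤ, n < 0 → 𝒜 n = ⊥)
    (hstd : Ideal.span (⋃ n ∈ Set.Ioi (0 : ℤ), (𝒜 n : Set R)) =
      Ideal.span ((𝒜 1 : AddSubgroup R) : Set R))
    (h0 : IsField (deg0 𝒜)) :
    ∃ Q : ℚ[X], (∃ N : ℤ, ∀ n : ℤ, N ≤ n →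
        Q.eval (n : ℚ) = ((Module.length (deg0 𝒜) (comp 𝒜 ℳ n)).toNat : ℚ)) ∧
      (Q = 0 → IsArtinian R M ∧ Module.supportDim R M ≤ 0) ∧
      (Q ≠ 0 → Module.supportDim R M = ((Q.natDegree + 1 : ℕ) : WithBot ℕ∞)) := by
  classical
  letI : Field (deg0 𝒜) := h0.toField
  haveI : IsArtinianRing (deg0 𝒜) := inferInstance
  obtain ⟨Q, N, hN⟩ := exists_hilbPoly_module 𝒜 ℳ hpos hstd
  refine ⟨Q, ⟨N, hN⟩, ?_, ?_⟩
  · -- `Q = 0`: the pieces vanish in large degree
    intro hQ
    have hbot : ∀ n : ℤ, N ≤ n → ℳ n = ⊥ := ?_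
    · exact ⟨isArtinian_of_eventually_bot 𝒜 ℳ hpos N hbot,
        supportDim_le_zero_of_eventually_bot 𝒜 ℳ hpos N hbot⟩
    intro n hn
    have h1 := hN n hn
    rw [hQ, eval_zero] at h1
    have h2 : (Module.length (deg0 𝒜) (comp 𝒜 ℳ n)).toNat = 0 := by exact_mod_cast h1.symm
    have h3 : Module.length (deg0 𝒜) (comp 𝒜 ℳ n) = 0 := by
      rcases (ENat.toNat_eq_zero.mp h2) with h | h
      · exact h
      · exact absurd h (length_comp_ne_top 𝒜 ℳ n)
    rw [Module.length_eq_zero_iff] at h3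
    rw [eq_bot_iff]
    intro x hx
    have : (⟨x, hx⟩ : comp 𝒜 ℳ n) = 0 := Subsingleton.elim _ _
    rw [AddSubgroup.mem_bot]
    exact congrArg Subtype.val this
  · intro hQ
    -- `M` is nontrivial
    have hne : Module.annihilator R M ≠ ⊤ := by
      intro htop
      apply hQ
      have hsub : Subsingleton M := by
        rw [← Module.annihilator_eq_top_iff (R := R)]
        exact htop
      apply eq_zero_of_eventually_eval_eq_zero Q N.toNat
      intro n hn
      have h1 := hN (n : ℤ) (by omega)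
      have h2 : ((n : ℤ) : ℚ) = (n : ℚ) := by push_cast; rfl
      rw [h2] at h1
      rw [h1]
      haveI : Subsingleton (comp 𝒜 ℳ n) := by
        refine ⟨fun a b => ?_⟩
        apply Subtype.ext
        exact Subsingleton.elim _ _
      rw [Module.length_eq_zero]
      simp
    have hI := Groth.Agent.Lib.H74QuotGr.isHomogeneous_annihilator 𝒜 ℳ
    obtain ⟨d, P, hd, hP0, hP1, NP, hNP⟩ := exists_hilbPoly_quot 𝒜 hpos hstd h0 hI hne
    obtain ⟨S, deg, hs1, hs2⟩ := hilb_sandwich 𝒜 ℳ h0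
    obtain ⟨b, hb⟩ : ∃ b : ℤ, ∀ s ∈ S, |deg s| ≤ b := by
      obtain ⟨d, hd⟩ := (S.image (fun s => |deg s|)).bddAbove
      exact ⟨d, fun s hs => hd (Finset.mem_coe.mpr
        (Finset.mem_image_of_mem (fun s => |deg s|) hs))⟩
    have hdim : Module.supportDim R M = (d : WithBot ℕ∞) := by
      rw [Module.supportDim_eq_ringKrullDim_quotient_annihilator, hd]
    -- abbreviations
    set HM : ℤ → ℕ := fun n => (Module.length (deg0 𝒜) (comp 𝒜 ℳ n)).toNat with hHM
    set HR : ℤ → ℕ := fun n => (Module.length (deg0 𝒜)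
      (comp 𝒜 (quotPiece 𝒜 (Module.annihilator R M)) n)).toNat with hHR
    set N₁ : ℕ := (max N NP).toNat + b.toNat with hN₁
    have hcast : ∀ n : ℕ, ((n : ℤ) : ℚ) = (n : ℚ) := fun n => by push_cast; rfl
    -- evaluation of the shifted sums
    have hevP : ∀ n : ℕ, N₁ ≤ n →
        (∑ s ∈ S, P.comp (X + C ((-deg s : ℤ) : ℚ))).eval (n : ℚ) =
          ((∑ s ∈ S, HR ((n : ℤ) - deg s) : ℕ) : ℚ) := by
      intro n hn
      rw [eval_finset_sum, Nat.cast_sum]
      refine Finset.sum_congr rfl fun s hs => ?_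
      have hbs := hb s hs
      have habs := abs_le.mp hbs
      have h1 := hNP ((n : ℤ) - deg s) (by omega)
      rw [eval_comp, eval_add, eval_X, eval_C, ← h1]
      congr 1
      push_cast
      ring
    have hevQ : ∀ n : ℕ, N₁ ≤ n →
        (∑ s ∈ S, Q.comp (X + C ((deg s : ℤ) : ℚ))).eval (n : ℚ) =
          ((∑ s ∈ S, HM ((n : ℤ) + deg s) : ℕ) : ℚ) := by
      intro n hn
      rw [eval_finset_sum, Nat.cast_sum]
      refine Finset.sum_congr rfl fun s hs => ?_
      have hbs := hb s hs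
      have habs := abs_le.mp hbs
      have h1 := hN ((n : ℤ) + deg s) (by omega)
      rw [eval_comp, eval_add, eval_X, eval_C, ← h1]
      congr 1
      push_cast
      ring
    have hQn : ∀ n : ℕ, N₁ ≤ n → Q.eval (n : ℚ) = (HM n : ℚ) := by
      intro n hn
      have h1 := hN (n : ℤ) (by omega)
      rwa [hcast] at h1
    have hPn : ∀ n : ℕ, N₁ ≤ n → P.eval (n : ℚ) = (HR n : ℚ) := by
      intro n hn
      have h1 := hNP (n : ℤ) (by omega)
      rwa [hcast] at h1
    -- `P ≠ 0`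
    have hPne : P ≠ 0 := by
      intro hP
      apply hQ
      apply eq_zero_of_eventually_eval_eq_zero Q N₁
      intro n hn
      have h1 := hevP n hn
      rw [hP] at h1
      simp only [zero_comp, Finset.sum_const_zero, eval_zero] at h1
      have h2 : (∑ s ∈ S, HR ((n : ℤ) - deg s) : ℕ) = 0 := by exact_mod_cast h1.symm
      have h3 := hs1 (n : ℤ)
      rw [hQn n hn]
      have : HM n = 0 := by
        have : HM n ≤ 0 := by rw [← h2]; exact h3
        omega
      exact_mod_cast this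
    have hd1 : 1 ≤ d := by
      by_contra hlt
      exact hPne (hP0 (by omega))
    have hdeg1 : Q.natDegree ≤ P.natDegree := by
      refine le_trans (Groth.Agent.Lib.EvPoly.natDegree_le_of_eventually_le Q
        (∑ s ∈ S, P.comp (X + C ((-deg s : ℤ) : ℚ))) ?_ ?_) (natDegree_sum_comp_le P S _)
      · refine Filter.eventually_atTop.mpr ⟨N₁, fun n hn => ?_⟩
        rw [hQn n hn]
        exact Nat.cast_nonneg _
      · refine Filter.eventually_atTop.mpr ⟨N₁, fun n hn => ?_⟩
        rw [hQn n hn, hevP n hn]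
        exact_mod_cast hs1 (n : ℤ)
    have hdeg2 : P.natDegree ≤ Q.natDegree := by
      refine le_trans (Groth.Agent.Lib.EvPoly.natDegree_le_of_eventually_le P
        (∑ s ∈ S, Q.comp (X + C ((deg s : ℤ) : ℚ))) ?_ ?_) (natDegree_sum_comp_le Q S _)
      · refine Filter.eventually_atTop.mpr ⟨N₁, fun n hn => ?_⟩
        rw [hPn n hn]
        exact Nat.cast_nonneg _
      · refine Filter.eventually_atTop.mpr ⟨N₁, fun n hn => ?_⟩
        rw [hPn n hn, hevQ n hn]
        exact_mod_cast hs2 (n : ℤ)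
    rw [hdim, ← hP1 hd1, le_antisymm hdeg1 hdeg2]

end Module

end Groth.Agent.Lib.GrHilbMod
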