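import Mathlib
import Groth.Agent.Lib.GrHilbSamuel
import Groth.Agent.S17772

set_option autoImplicit false
set_option linter.unusedSectionVars false
set_option linter.style.haveILetI false

universe u

namespace Groth.Agent.Lib.GrHilbSamuel2

open DirectSum GrLC Polynomial Groth.Agent.Lib.H74GrArt Groth.Agent.S13229
  Groth.Agent.Lib.GrHilbSamuel

/-- the polynomial `C(X + r, r)`. -/
noncomputable def binomP (r : ℕ) : ℚ[X] :=
  (r.factorial : ℚ)⁻¹ • (ascPochhammer ℚ r).comp (X + 1)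

theorem eval_binomP_nat (r n : ℕ) : (binomP r).eval (n : ℚ) = ((r + n).choose r : ℚ) := by
  have hne : (r.factorial : ℚ) ≠ 0 := by exact_mod_cast Nat.factorial_ne_zero r
  simp only [binomP, eval_smul, eval_comp, eval_add, eval_X, eval_one, smul_eq_mul]
  have h1 : (n : ℚ) + 1 = ((n + 1 : ℕ) : ℚ) := by push_cast; ring
  rw [h1, ascPochhammer_nat_eq_natCast_ascFactorial, Nat.ascFactorial_eq_factorial_mul_choose]
  push_cast
  rw [← mul_assoc, inv_mul_cancel₀ hne, one_mul, add_comm]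

theorem eval_binomP_neg (r i : ℕ) (hi1 : 1 ≤ i) (hi : i ≤ r) :
    (binomP r).eval (-(i : ℚ)) = 0 := by
  simp only [binomP, eval_smul, eval_comp, eval_add, eval_X, eval_one, smul_eq_mul]
  obtain ⟨j, rfl⟩ : ∃ j, i = j + 1 := ⟨i - 1, by omega⟩
  have h1 : -((j + 1 : ℕ) : ℚ) + 1 = -((j : ℕ) : ℚ) := by push_cast; ring
  rw [h1, ascPochhammer_eval_neg_coe_nat_of_lt (by omega)]
  simp

theorem eval_binomP_pred (r : ℕ) : (binomP r).eval (-((r : ℚ) + 1)) = (-1 : ℚ) ^ r := by
  have hne : (r.factorial : ℚ) ≠ 0 := by exact_mod_cast Nat.factorial_ne_zero r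
  simp only [binomP, eval_smul, eval_comp, eval_add, eval_X, eval_one, smul_eq_mul]
  have h1 : -((r : ℚ) + 1) + 1 = -((r : ℕ) : ℚ) := by ring
  rw [h1, ascPochhammer_eval_neg_eq_descPochhammer, descPochhammer_eval_eq_descFactorial,
    Nat.descFactorial_self]
  field_simp

theorem degree_binomP_le (r : ℕ) : (binomP r).degree ≤ (r : WithBot ℕ) := by
  unfold binomP
  refine (degree_smul_le _ _).trans ?_
  refine degree_le_of_natDegree_le ?_
  refine natDegree_comp_le.trans ?_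
  rw [ascPochhammer_natDegree]
  have : (X + 1 : ℚ[X]).natDegree ≤ 1 := by
    have h := natDegree_X_add_C (1 : ℚ)
    rw [map_one] at h
    rw [h]
  calc r * (X + 1 : ℚ[X]).natDegree ≤ r * 1 := Nat.mul_le_mul_left _ this
    _ = r := mul_one _

theorem eq_zero_of_roots (P : ℚ[X]) (d : ℕ) (a : ℤ) (hdeg : P.degree < (d : WithBot ℕ))
    (h : ∀ i : ℕ, i < d → P.eval (((a - i : ℤ)) : ℚ) = 0) : P = 0 := by
  classical
  let s : Finset ℚ := (Finset.range d).image (fun i : ℕ => (((a - i : ℤ)) : ℚ))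
  have hcard : s.card = d := by
    rw [Finset.card_image_of_injective, Finset.card_range]
    intro i j hij
    have h2 : (((a - i : ℤ)) : ℚ) = (((a - j : ℤ)) : ℚ) := hij
    have : (a - i : ℤ) = (a - j : ℤ) := Int.cast_injective h2
    omega
  apply Polynomial.eq_zero_of_degree_lt_of_eval_finset_eq_zero s
  · rw [hcard]; exact hdeg
  · intro x hx
    obtain ⟨i, hi, rfl⟩ := Finset.mem_image.mp hx
    exact h i (Finset.mem_range.mp hi)


section Hilb

variable {R : Type u} [CommRing R] (𝒜 : ℤ → AddSubgroup R) [GradedRing 𝒜]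

/-- The Hilbert function `n ↦ ℓ_{R_0}(R_n)`. -/
noncomputable def hilb (n : ℤ) : ℕ := (Module.length (deg0 𝒜) (comp 𝒜 𝒜 n)).toNat

theorem hilb_neg (hpos : ∀ n : ℤ, n < 0 → 𝒜 n = ⊥) {n : ℤ} (hn : n < 0) : hilb 𝒜 n = 0 := by
  have h1 : Subsingleton (comp 𝒜 𝒜 n) := by
    refine ⟨fun x y => Subtype.ext ?_⟩
    have hx : (x : R) ∈ 𝒜 n := x.2
    have hy : (y : R) ∈ 𝒜 n := y.2
    rw [hpos n hn] at hx hy
    rw [AddSubgroup.mem_bot] at hx hy
    rw [hx, hy]
  unfold hilb
  rw [Module.length_eq_zero]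
  simp

/-- `R_0` as a module over itself is the degree zero piece. -/
noncomputable def compZeroEquiv : comp 𝒜 𝒜 0 ≃ₗ[deg0 𝒜] deg0 𝒜 where
  toFun x := ⟨(x : R), x.2⟩
  invFun x := ⟨(x : R), x.2⟩
  map_add' _ _ := rfl
  map_smul' _ _ := rfl
  left_inv _ := rfl
  right_inv _ := rfl

theorem length_comp_zero :
    Module.length (deg0 𝒜) (comp 𝒜 𝒜 0) = Module.length (deg0 𝒜) (deg0 𝒜) :=
  (compZeroEquiv 𝒜).length_eq

theorem length_comp_zero_ne_top [IsArtinianRing (deg0 𝒜)] :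
    Module.length (deg0 𝒜) (comp 𝒜 𝒜 0) ≠ ⊤ := by
  rw [length_comp_zero]
  exact Module.length_ne_top

theorem hilb_zero_pos [IsArtinianRing (deg0 𝒜)] [Nontrivial R] : 0 < hilb 𝒜 0 := by
  have hnt0 : Nontrivial (comp 𝒜 𝒜 0) := by
    refine ⟨⟨⟨1, (SetLike.GradedOne.one_mem : (1 : R) ∈ 𝒜 0)⟩, 0, fun h => ?_⟩⟩
    exact one_ne_zero (congrArg Subtype.val h)
  have hpos0 : 0 < Module.length (deg0 𝒜) (comp 𝒜 𝒜 0) := Module.length_pos
  unfold hilb
  rcases Nat.eq_zero_or_pos (Module.length (deg0 𝒜) (comp 𝒜 𝒜 0)).toNat with h | h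
  · rcases ENat.toNat_eq_zero.mp h with h | h
    · exact absurd h (ne_of_gt hpos0)
    · exact absurd h (length_comp_zero_ne_top 𝒜)
  · exact h

end Hilb

section Main

variable {R : Type u} [CommRing R] [LocCoh.IsCohenMacaulayRing R] (𝒜 : ℤ → AddSubgroup R)
  [GradedRing 𝒜] [IsArtinianRing (deg0 𝒜)]

theorem nontrivial_of_dim {d : ℕ} (hd : ringKrullDim R = d) : Nontrivial R := by
  by_contra hne
  rw [not_nontrivial_iff_subsingleton] at hne
  rw [ringKrullDim_eq_bot_of_subsingleton] at hd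
  exact absurd hd (by simp)

/-- If `a(R) = -dim R` then `H_R(n) = H_R(0) · #{monomials of degree n in d variables}`. -/
theorem hilb_eq_of_endDeg (hpos : ∀ n : ℤ, n < 0 → 𝒜 n = ⊥)
    (hstd : Ideal.span (⋃ n ∈ Set.Ioi (0 : ℤ), (𝒜 n : Set R)) =
      Ideal.span ((𝒜 1 : AddSubgroup R) : Set R))
    (m : HomogeneousIdeal 𝒜) (hm : GrLC.IsStarLocal 𝒜 m) (d : ℕ) (hd : ringKrullDim R = d)
    (I : GrLC.StarInjRes 𝒜 𝒜)
    (ha : GrLC.endDeg (I.Hgr m d) = (((-(d : ℤ) : ℤ) : WithTop ℤ) : WithBot (WithTop ℤ)))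
    (n : ℕ) : hilb 𝒜 n = hilb 𝒜 0 * Nat.multichoose d n := by
  have : IsNoetherianRing R := inferInstance
  obtain ⟨P, hdeg, hP⟩ := exists_hilbPoly 𝒜 hpos hstd m hm d hd
  have hS := Groth.Agent.S17772.result R 𝒜 hpos hstd m hm d hd I P hP
  rw [ha] at hS
  have heq : ∀ n : ℤ, -(d : ℤ) < n → P.eval (n : ℚ) = (hilb 𝒜 n : ℚ) := by
    intro n hn
    by_contra hne
    have h1 := le_iSup₂ (f := fun (n : ℤ) (_ : P.eval (n : ℚ) ≠
      ((Module.length (GrLC.deg0 𝒜) (GrLC.comp 𝒜 𝒜 n)).toNat : ℚ)) =>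
      ((n : WithTop ℤ) : WithBot (WithTop ℤ))) n hne
    rw [← hS] at h1
    have h2 : n ≤ -(d : ℤ) := by exact_mod_cast h1
    omega
  cases d with
  | zero =>
    have hP0 : P = 0 := by
      rw [← degree_eq_bot]
      exact Nat.WithBot.lt_zero_iff.mp hdeg
    cases n with
    | zero => simp
    | succ k =>
      have h1 := heq ((k + 1 : ℕ) : ℤ) (by push_cast; omega)
      rw [hP0, eval_zero] at h1
      have h2 : hilb 𝒜 ((k + 1 : ℕ) : ℤ) = 0 := by exact_mod_cast h1.symm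
      rw [h2, Nat.multichoose_zero_succ, mul_zero]
  | succ r =>
    have hPeq : P = C (hilb 𝒜 0 : ℚ) * binomP r := by
      rw [← sub_eq_zero]
      apply eq_zero_of_roots _ (r + 1) 0
      · refine lt_of_le_of_lt (degree_sub_le _ _) (max_lt hdeg ?_)
        rw [C_mul']
        refine lt_of_le_of_lt (degree_smul_le _ _) ?_
        refine lt_of_le_of_lt (degree_binomP_le r) ?_
        exact_mod_cast Nat.lt_succ_self r
      · intro i hi
        rw [eval_sub, eval_mul, eval_C]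
        cases i with
        | zero =>
          have h1 := heq 0 (by push_cast; omega)
          have h2 := eval_binomP_nat r 0
          simp only [Nat.cast_zero, add_zero, Nat.choose_self, Nat.cast_one] at h2
          simp only [Nat.cast_zero, sub_zero, Int.cast_zero] at h1 ⊢
          rw [h1, h2]
          ring
        | succ j =>
          have h1 := heq (0 - ((j + 1 : ℕ) : ℤ)) (by push_cast; omega)
          rw [hilb_neg 𝒜 hpos (by push_cast; omega)] at h1
          have h2 := eval_binomP_neg r (j + 1) (by omega) (by omega)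
          have e1 : (((0 - ((j + 1 : ℕ) : ℤ) : ℤ)) : ℚ) = -((j + 1 : ℕ) : ℚ) := by push_cast; ring
          rw [e1] at h1 ⊢
          rw [h1, h2]
          simp
    have h1 := heq (n : ℤ) (by omega)
    rw [hPeq, eval_mul, eval_C] at h1
    have e2 : ((n : ℤ) : ℚ) = ((n : ℕ) : ℚ) := by push_cast; ring
    rw [e2, eval_binomP_nat] at h1
    have h3 : Nat.multichoose (r + 1) n = (r + n).choose r := by
      rw [Nat.multichoose_eq]
      have : r + 1 + n - 1 = r + n := by omega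
      rw [this, add_comm r n, Nat.choose_symm_add]
    rw [h3]
    have h4 : ((hilb 𝒜 (n : ℤ) : ℕ) : ℚ) = ((hilb 𝒜 0 * (r + n).choose r : ℕ) : ℚ) := by
      rw [← h1]; push_cast; ring
    exact_mod_cast h4

/-- Conversely the Hilbert function of a polynomial ring forces `a(R) = -dim R`. -/
theorem endDeg_eq_of_hilb (hpos : ∀ n : ℤ, n < 0 → 𝒜 n = ⊥)
    (hstd : Ideal.span (⋃ n ∈ Set.Ioi (0 : ℤ), (𝒜 n : Set R)) =
      Ideal.span ((𝒜 1 : AddSubgroup R) : Set R))
    (m : HomogeneousIdeal 𝒜) (hm : GrLC.IsStarLocal 𝒜 m) (d : ℕ) (hd : ringKrullDim R = d)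
    (I : GrLC.StarInjRes 𝒜 𝒜)
    (h : ∀ n : ℕ, hilb 𝒜 n = hilb 𝒜 0 * Nat.multichoose d n) :
    GrLC.endDeg (I.Hgr m d) = (((-(d : ℤ) : ℤ) : WithTop ℤ) : WithBot (WithTop ℤ)) := by
  have : IsNoetherianRing R := inferInstance
  haveI : Nontrivial R := nontrivial_of_dim hd
  have h0 : (0 : ℚ) < (hilb 𝒜 0 : ℚ) := by exact_mod_cast hilb_zero_pos 𝒜
  cases d with
  | zero =>
    have hP : ∃ N : ℤ, ∀ n : ℤ, N ≤ n → (0 : ℚ[X]).eval (n : ℚ) =
        ((Module.length (GrLC.deg0 𝒜) (GrLC.comp 𝒜 𝒜 n)).toNat : ℚ) := by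
      refine ⟨1, fun n hn => ?_⟩
      obtain ⟨k, rfl⟩ := Int.eq_ofNat_of_zero_le (show (0 : ℤ) ≤ n by omega)
      obtain ⟨j, rfl⟩ : ∃ j, k = j + 1 := ⟨k - 1, by omega⟩
      have := h (j + 1)
      rw [Nat.multichoose_zero_succ, mul_zero] at this
      unfold hilb at this
      rw [this, eval_zero]
      simp
    rw [Groth.Agent.S17772.result R 𝒜 hpos hstd m hm 0 hd I 0 hP]
    apply le_antisymm
    · refine iSup₂_le fun n hne => ?_
      have hn : n ≤ 0 := by
        by_contra hcon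
        rw [not_le] at hcon
        apply hne
        obtain ⟨N, hN⟩ := hP
        obtain ⟨k, rfl⟩ := Int.eq_ofNat_of_zero_le (show (0 : ℤ) ≤ n by omega)
        obtain ⟨j, rfl⟩ : ∃ j, k = j + 1 := ⟨k - 1, by omega⟩
        have := h (j + 1)
        rw [Nat.multichoose_zero_succ, mul_zero] at this
        unfold hilb at this
        rw [this, eval_zero]
        simp
      exact_mod_cast hn
    · refine le_trans ?_ (le_iSup₂ (f := fun (n : ℤ) (_ : (0 : ℚ[X]).eval (n : ℚ) ≠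
        ((Module.length (GrLC.deg0 𝒜) (GrLC.comp 𝒜 𝒜 n)).toNat : ℚ)) =>
        ((n : WithTop ℤ) : WithBot (WithTop ℤ))) 0 ?_)
      · simp
      · rw [eval_zero]
        exact ne_of_lt h0
  | succ r =>
    set P : ℚ[X] := C (hilb 𝒜 0 : ℚ) * binomP r with hPdef
    have hnat : ∀ k : ℕ, P.eval ((k : ℤ) : ℚ) = (hilb 𝒜 (k : ℤ) : ℚ) := by
      intro k
      have e2 : ((k : ℤ) : ℚ) = ((k : ℕ) : ℚ) := by push_cast; ring
      rw [hPdef, eval_mul, eval_C, e2, eval_binomP_nat, h k]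
      have h3 : Nat.multichoose (r + 1) k = (r + k).choose r := by
        rw [Nat.multichoose_eq]
        have : r + 1 + k - 1 = r + k := by omega
        rw [this, add_comm r k, Nat.choose_symm_add]
      rw [h3]
      push_cast
      ring
    have hP : ∃ N : ℤ, ∀ n : ℤ, N ≤ n → P.eval (n : ℚ) =
        ((Module.length (GrLC.deg0 𝒜) (GrLC.comp 𝒜 𝒜 n)).toNat : ℚ) := by
      refine ⟨0, fun n hn => ?_⟩
      obtain ⟨k, rfl⟩ := Int.eq_ofNat_of_zero_le hn
      exact hnat k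
    rw [Groth.Agent.S17772.result R 𝒜 hpos hstd m hm (r + 1) hd I P hP]
    apply le_antisymm
    · refine iSup₂_le fun n hne => ?_
      have hn : n ≤ -((r + 1 : ℕ) : ℤ) := by
        by_contra hcon
        rw [not_le] at hcon
        apply hne
        rcases lt_or_ge n 0 with hn0 | hn0
        · obtain ⟨i, hi⟩ := Int.eq_ofNat_of_zero_le (show (0 : ℤ) ≤ -n by omega)
          have hn' : n = -(i : ℤ) := by omega
          have hi1 : 1 ≤ i := by omega
          have hir : i ≤ r := by push_cast at hcon; omega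
          have h5 : ((Module.length (GrLC.deg0 𝒜) (GrLC.comp 𝒜 𝒜 n)).toNat : ℚ) = 0 := by
            have := hilb_neg 𝒜 hpos hn0
            unfold hilb at this
            rw [this]; simp
          rw [h5, hPdef, eval_mul, eval_C]
          have e1 : ((n : ℤ) : ℚ) = -((i : ℕ) : ℚ) := by rw [hn']; push_cast; ring
          rw [e1, eval_binomP_neg r i hi1 hir, mul_zero]
        · obtain ⟨k, rfl⟩ := Int.eq_ofNat_of_zero_le hn0
          exact hnat k
      exact_mod_cast hn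
    · refine le_trans ?_ (le_iSup₂ (f := fun (n : ℤ) (_ : P.eval (n : ℚ) ≠
        ((Module.length (GrLC.deg0 𝒜) (GrLC.comp 𝒜 𝒜 n)).toNat : ℚ)) =>
        ((n : WithTop ℤ) : WithBot (WithTop ℤ))) (-((r + 1 : ℕ) : ℤ)) ?_)
      · exact le_refl _
      · have h5 : ((Module.length (GrLC.deg0 𝒜) (GrLC.comp 𝒜 𝒜 (-((r + 1 : ℕ) : ℤ)))).toNat : ℚ)
            = 0 := by
          have := hilb_neg 𝒜 hpos (show -((r + 1 : ℕ) : ℤ) < 0 by push_cast; omega)
          unfold hilb at this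
          rw [this]; simp
        rw [h5, hPdef, eval_mul, eval_C]
        have e1 : (((-((r + 1 : ℕ) : ℤ) : ℤ)) : ℚ) = -((r : ℚ) + 1) := by push_cast; ring
        rw [e1, eval_binomP_pred]
        exact mul_ne_zero (ne_of_gt h0) (pow_ne_zero _ (by norm_num))

end Main

end Groth.Agent.Lib.GrHilbSamuel2
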