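import Mathlib
import Groth.Agent.Lib.GrHilbSamuel2

set_option autoImplicit false
set_option linter.unusedSectionVars false
set_option linter.style.haveILetI false

universe u

namespace Groth.Agent.Lib.GrHilbSamuel3

open DirectSum GrLC Groth.Agent.Lib.H74GrArt Groth.Agent.S13229
  Groth.Agent.Lib.GrHilbSamuel Groth.Agent.Lib.GrHilbSamuel2

variable {R : Type u} [CommRing R] (𝒜 : ℤ → AddSubgroup R) [GradedRing 𝒜]

/-- number of monomials of degree `n` in `d` variables. -/
theorem card_degree_eq (d n : ℕ) :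
    ENat.card {e : Fin d →₀ ℕ | e.degree = n} = (Nat.multichoose d n : ℕ∞) := by
  classical
  have h1 : {e : Fin d →₀ ℕ | e.degree = n} =
      ((Finset.univ : Finset (Fin d)).finsuppAntidiag n : Set (Fin d →₀ ℕ)) := by
    ext e
    simp only [Set.mem_ofPred_eq, Finset.mem_coe, Finset.mem_finsuppAntidiag, Finset.subset_univ,
      and_true]
    rw [Finsupp.degree_eq_sum]
  rw [h1, ENat.card_eq_coe_natCard, Nat.card_eq_fintype_card]
  simp only [Finset.coe_sort_coe, Fintype.card_coe]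
  rw [Finset.card_finsuppAntidiag_nat_eq_multichoose, Finset.card_univ, Fintype.card_fin]

/-- length of the piece of degree `n` of a polynomial ring. -/
theorem length_homogeneousSubmodule (A : Type u) [CommRing A] (d n : ℕ) :
    Module.length A (MvPolynomial.homogeneousSubmodule (Fin d) A n) =
      (Nat.multichoose d n : ℕ∞) * Module.length A A := by
  rw [MvPolynomial.homogeneousSubmodule_eq_finsupp_supported,
    (AddMonoidAlgebra.supportedEquivFinsupp (R := A) (S := A)
      {e : Fin d →₀ ℕ | e.degree = n}).length_eq,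
    Module.length_finsupp, card_degree_eq]


section Aeval

variable {d : ℕ} (y : Fin d → R)

/-- monomials in degree one elements are homogeneous. -/
theorem prod_pow_mem (hy : ∀ t, y t ∈ 𝒜 1) (e : Fin d →₀ ℕ) :
    (e.prod fun i k => y i ^ k) ∈ 𝒜 ((e.degree : ℕ) : ℤ) := by
  classical
  rw [Finsupp.prod, Finsupp.degree_apply]
  have h := SetLike.prod_mem_graded 𝒜 (fun i => (e i : ℤ)) (fun i => y i ^ e i) (F := e.support)
    (fun i _ => by
      have h1 := SetLike.pow_mem_graded (A := 𝒜) (e i) (hy i)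
      rwa [nsmul_eq_mul, mul_one] at h1)
  convert h using 2
  push_cast
  rfl

theorem aeval_mem (hy : ∀ t, y t ∈ 𝒜 1) {n : ℕ} {f : MvPolynomial (Fin d) (deg0 𝒜)}
    (hf : f ∈ MvPolynomial.homogeneousSubmodule (Fin d) (deg0 𝒜) n) :
    MvPolynomial.aeval y f ∈ 𝒜 (n : ℤ) := by
  classical
  rw [MvPolynomial.mem_homogeneousSubmodule] at hf
  rw [f.as_sum, map_sum]
  refine sum_mem fun e he => ?_
  rw [MvPolynomial.aeval_monomial]
  have hdeg : e.degree = n := by
    have := hf (MvPolynomial.mem_support_iff.mp he)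
    rw [Finsupp.degree_eq_weight_one]
    exact this
  have h1 := prod_pow_mem 𝒜 y hy e
  rw [hdeg] at h1
  have h2 : (algebraMap (deg0 𝒜) R (MvPolynomial.coeff e f)) ∈ 𝒜 0 := (MvPolynomial.coeff e f).2
  have h3 := SetLike.mul_mem_graded h2 h1
  rwa [zero_add] at h3

/-- every homogeneous element of nonnegative degree is the value of a homogeneous polynomial. -/
theorem exists_aeval_eq (hstd : Ideal.span (⋃ n ∈ Set.Ioi (0 : ℤ), (𝒜 n : Set R)) =
      Ideal.span ((𝒜 1 : AddSubgroup R) : Set R)) (hy : ∀ t, y t ∈ 𝒜 1)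
    (hgen : ∀ x ∈ 𝒜 1, x ∈ Submodule.span (deg0 𝒜) (Set.range y)) (n : ℕ) :
    ∀ x ∈ 𝒜 (n : ℤ), ∃ f ∈ MvPolynomial.homogeneousSubmodule (Fin d) (deg0 𝒜) n,
      MvPolynomial.aeval y f = x := by
  classical
  induction n with
  | zero =>
    intro x hx
    refine ⟨MvPolynomial.C ⟨x, hx⟩, ?_, ?_⟩
    · rw [MvPolynomial.mem_homogeneousSubmodule]
      exact MvPolynomial.isHomogeneous_C _ _
    · rw [MvPolynomial.aeval_C]; rfl
  | succ n ih =>
    intro x hx
    have hx' : x ∈ 𝒜 ((n : ℤ) + 1) := by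
      have : ((n + 1 : ℕ) : ℤ) = (n : ℤ) + 1 := by push_cast; ring
      rwa [this] at hx
    have hxa : x ∈ Ideal.span (Set.range y) := by
      have h1 : x ∈ Ideal.span (⋃ n ∈ Set.Ioi (0 : ℤ), (𝒜 n : Set R)) :=
        Ideal.subset_span (Set.mem_iUnion₂.mpr ⟨(n : ℤ) + 1, by
          show (0 : ℤ) < (n : ℤ) + 1
          omega, hx'⟩)
      rw [hstd] at h1
      refine (Ideal.span_le.mpr ?_) h1
      intro z hz
      have h2 := hgen z hz
      refine (Submodule.span_le.mpr ?_ : Submodule.span (deg0 𝒜) (Set.range y) ≤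
        (Ideal.span (Set.range y)).restrictScalars (deg0 𝒜)) h2
      intro w hw
      exact Ideal.subset_span hw
    obtain ⟨b, hb⟩ := (Ideal.mem_span_range_iff_exists_fun).mp hxa
    have key : x = ∑ t, (decompose 𝒜 (b t) n : R) * y t := by
      calc x = (decompose 𝒜 x ((n : ℤ) + 1) : R) := (decompose_of_mem_same 𝒜 hx').symm
        _ = (decompose 𝒜 (∑ t, b t * y t) ((n : ℤ) + 1) : R) := by rw [hb]
        _ = ∑ t, (decompose 𝒜 (b t * y t) ((n : ℤ) + 1) : R) := by
            rw [decompose_sum, DFinsupp.finsetSum_apply, AddSubmonoidClass.coe_finsetSum]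
        _ = ∑ t, (decompose 𝒜 (b t) n : R) * y t := by
            refine Finset.sum_congr rfl fun t _ => ?_
            have h := decompose_smul_right' 𝒜 𝒜 (hy t) (b t) ((n : ℤ) + 1)
            rw [add_sub_cancel_right] at h
            exact h
    choose g hg hgx using fun t => ih _ (decompose 𝒜 (b t) n).2
    refine ⟨∑ t, g t * MvPolynomial.X t, ?_, ?_⟩
    · refine Submodule.sum_mem _ fun t _ => ?_
      rw [MvPolynomial.mem_homogeneousSubmodule]
      exact ((MvPolynomial.mem_homogeneousSubmodule _ _).mp (hg t)).mul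
        (MvPolynomial.isHomogeneous_X _ t)
    · rw [map_sum, key]
      refine Finset.sum_congr rfl fun t _ => ?_
      rw [map_mul, MvPolynomial.aeval_X, hgx t]

theorem aeval_surjective (hpos : ∀ n : ℤ, n < 0 → 𝒜 n = ⊥)
    (hstd : Ideal.span (⋃ n ∈ Set.Ioi (0 : ℤ), (𝒜 n : Set R)) =
      Ideal.span ((𝒜 1 : AddSubgroup R) : Set R)) (hy : ∀ t, y t ∈ 𝒜 1)
    (hgen : ∀ x ∈ 𝒜 1, x ∈ Submodule.span (deg0 𝒜) (Set.range y)) :
    Function.Surjective (MvPolynomial.aeval y : MvPolynomial (Fin d) (deg0 𝒜) →ₐ[deg0 𝒜] R) := by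
  classical
  intro x
  rw [← AlgHom.mem_range, ← sum_support_decompose 𝒜 x]
  refine Subalgebra.sum_mem _ fun j _ => ?_
  rcases lt_or_ge j 0 with hj | hj
  · have h1 : (decompose 𝒜 x j : R) ∈ (⊥ : AddSubgroup R) := by
      rw [← hpos j hj]; exact (decompose 𝒜 x j).2
    rw [AddSubgroup.mem_bot] at h1
    rw [h1]
    exact Subalgebra.zero_mem _
  · obtain ⟨k, rfl⟩ := Int.eq_ofNat_of_zero_le hj
    obtain ⟨f, -, hf⟩ := exists_aeval_eq 𝒜 y hstd hy hgen k _ (decompose 𝒜 x (k : ℤ)).2
    exact ⟨f, hf⟩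

/-- injectivity from equality of Hilbert functions. -/
theorem aeval_injective (hpos : ∀ n : ℤ, n < 0 → 𝒜 n = ⊥)
    (hstd : Ideal.span (⋃ n ∈ Set.Ioi (0 : ℤ), (𝒜 n : Set R)) =
      Ideal.span ((𝒜 1 : AddSubgroup R) : Set R)) (hy : ∀ t, y t ∈ 𝒜 1)
    (hgen : ∀ x ∈ 𝒜 1, x ∈ Submodule.span (deg0 𝒜) (Set.range y))
    (hfin : Module.length (deg0 𝒜) (deg0 𝒜) ≠ ⊤)
    (hH : ∀ n : ℕ, Module.length (deg0 𝒜) (comp 𝒜 𝒜 (n : ℤ)) =
      (Nat.multichoose d n : ℕ∞) * Module.length (deg0 𝒜) (deg0 𝒜)) :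
    Function.Injective (MvPolynomial.aeval y : MvPolynomial (Fin d) (deg0 𝒜) →ₐ[deg0 𝒜] R) := by
  classical
  set φ := (MvPolynomial.aeval y : MvPolynomial (Fin d) (deg0 𝒜) →ₐ[deg0 𝒜] R) with hφ
  -- the map on pieces
  have hpiece : ∀ (n : ℕ) (f : MvPolynomial (Fin d) (deg0 𝒜)),
      f ∈ MvPolynomial.homogeneousSubmodule (Fin d) (deg0 𝒜) n → φ f = 0 → f = 0 := by
    intro n f hf h0
    have hmap : (MvPolynomial.homogeneousSubmodule (Fin d) (deg0 𝒜) n).map φ.toLinearMap =
        comp 𝒜 𝒜 (n : ℤ) := by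
      ext x
      constructor
      · rintro ⟨g, hg, rfl⟩
        exact aeval_mem 𝒜 y hy hg
      · intro hx
        obtain ⟨g, hg, hgx⟩ := exists_aeval_eq 𝒜 y hstd hy hgen n x hx
        exact ⟨g, hg, hgx⟩
    have hlen := Groth.Agent.Lib.H74GrSerre.length_eq_ker_add_map φ.toLinearMap
      (MvPolynomial.homogeneousSubmodule (Fin d) (deg0 𝒜) n)
    rw [hmap, length_homogeneousSubmodule, hH n] at hlen
    have hne : (Nat.multichoose d n : ℕ∞) * Module.length (deg0 𝒜) (deg0 𝒜) ≠ ⊤ :=
      WithTop.mul_ne_top (ENat.natCast_ne_top _) hfin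
    have hk0 : Module.length (deg0 𝒜) ↥(MvPolynomial.homogeneousSubmodule (Fin d) (deg0 𝒜) n ⊓
        LinearMap.ker φ.toLinearMap) = 0 := by
      have h2 : Module.length (deg0 𝒜) ↥(MvPolynomial.homogeneousSubmodule (Fin d) (deg0 𝒜) n ⊓
          LinearMap.ker φ.toLinearMap) +
          (Nat.multichoose d n : ℕ∞) * Module.length (deg0 𝒜) (deg0 𝒜) =
          0 + (Nat.multichoose d n : ℕ∞) * Module.length (deg0 𝒜) (deg0 𝒜) := by
        rw [zero_add]; exact hlen.symm
      exact (ENat.add_left_injective_of_ne_top hne) h2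
    rw [Module.length_eq_zero_iff] at hk0
    have hmem : f ∈ MvPolynomial.homogeneousSubmodule (Fin d) (deg0 𝒜) n ⊓
        LinearMap.ker φ.toLinearMap := ⟨hf, h0⟩
    have := hk0.elim ⟨f, hmem⟩ 0
    exact congrArg Subtype.val this
  rw [injective_iff_map_eq_zero]
  intro f hf0
  -- decompose into homogeneous components
  have hcomp : ∀ n : ℕ, φ (MvPolynomial.homogeneousComponent n f) = 0 := by
    intro n
    have hsum : φ f = ∑ i ∈ Finset.range (f.totalDegree + 1),
        φ (MvPolynomial.homogeneousComponent i f) := by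
      conv_lhs => rw [← MvPolynomial.sum_homogeneousComponent f]
      rw [map_sum]
    have hmem : ∀ i : ℕ, φ (MvPolynomial.homogeneousComponent i f) ∈ 𝒜 (i : ℤ) := fun i =>
      aeval_mem 𝒜 y hy ((MvPolynomial.mem_homogeneousSubmodule _ _).mpr
        (MvPolynomial.homogeneousComponent_isHomogeneous i f))
    by_cases hn : n ∈ Finset.range (f.totalDegree + 1)
    · have h1 : (decompose 𝒜 (φ f) (n : ℤ) : R) = φ (MvPolynomial.homogeneousComponent n f) := by
        rw [hsum, decompose_sum, DFinsupp.finsetSum_apply, AddSubmonoidClass.coe_finsetSum]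
        rw [Finset.sum_eq_single n]
        · exact decompose_of_mem_same 𝒜 (hmem n)
        · intro i _ hin
          exact decompose_of_mem_ne 𝒜 (hmem i) (by exact_mod_cast hin)
        · intro h; exact absurd hn h
      rw [← h1, hf0, decompose_zero]
      rfl
    · have : MvPolynomial.homogeneousComponent n f = 0 := by
        apply MvPolynomial.homogeneousComponent_eq_zero
        rw [Finset.mem_range, not_lt] at hn
        omega
      rw [this, map_zero]
  rw [← MvPolynomial.sum_homogeneousComponent f]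
  refine Finset.sum_eq_zero fun n _ => ?_
  exact hpiece n _ ((MvPolynomial.mem_homogeneousSubmodule _ _).mpr
    (MvPolynomial.homogeneousComponent_isHomogeneous n f)) (hcomp n)

end Aeval

end Groth.Agent.Lib.GrHilbSamuel3
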