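import Mathlib
import Groth.Agent.Lib.GrHilbSamuel3

set_option autoImplicit false
set_option linter.unusedSectionVars false
set_option linter.style.haveILetI false

universe u

namespace Groth.Agent.Lib.GrHilbSamuel4

open DirectSum GrLC IsLocalRing Groth.Agent.Lib.H74GrArt Groth.Agent.S13229
  Groth.Agent.Lib.GrHilbSamuel Groth.Agent.Lib.GrHilbSamuel2 Groth.Agent.Lib.GrHilbSamuel3

/-- `ℓ(A/𝔪²) = dim 𝔪/𝔪² + 1`. -/
theorem length_quot_sq (A : Type u) [CommRing A] [IsLocalRing A] [IsNoetherianRing A] :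
    Module.length A (A ⧸ maximalIdeal A ^ 2) =
      (Module.finrank (ResidueField A) (CotangentSpace A) : ℕ∞) + 1 := by
  set 𝔪 := maximalIdeal A with h𝔪
  have hle : 𝔪 ^ 2 ≤ 𝔪 := Ideal.pow_le_self two_ne_zero
  let g : (A ⧸ 𝔪 ^ 2) →ₗ[A] (A ⧸ 𝔪) := Submodule.factor hle
  have hg : Function.Surjective g := Submodule.factor_surjective hle
  have hf : Function.Injective 𝔪.cotangentToQuotientSquare :=
    Ideal.cotangentToQuotientSquare_injective 𝔪
  have hex : Function.Exact 𝔪.cotangentToQuotientSquare g := by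
    rw [LinearMap.exact_iff, Ideal.range_cotangentToQuotientSquare]
    ext z
    obtain ⟨a, rfl⟩ := Ideal.Quotient.mk_surjective z
    rw [LinearMap.mem_ker, Submodule.restrictScalars_mem, Ideal.mk_mem_cotangentIdeal]
    have e1 : g (Ideal.Quotient.mk (𝔪 ^ 2) a) = Ideal.Quotient.mk 𝔪 a := rfl
    rw [e1, Ideal.Quotient.eq_zero_iff_mem]
  rw [Module.length_eq_add_of_exact _ g hf hg hex]
  have h1 : Module.length A (A ⧸ 𝔪) = 1 := by
    have : IsSimpleModule A (A ⧸ 𝔪) := by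
      rw [isSimpleModule_iff_isCoatom, ← Ideal.isMaximal_def]
      exact maximalIdeal.isMaximal A
    exact Module.length_eq_one A (A ⧸ 𝔪)
  rw [h1]
  congr 1
  have h2 : Module.length A 𝔪.Cotangent = Module.length (ResidueField A) (CotangentSpace A) :=
    Module.length_eq_of_surjective (S := A) (R := ResidueField A) (M := CotangentSpace A)
      Ideal.Quotient.mk_surjective
  rw [h2, Module.length_eq_finrank]

variable {R : Type u} [CommRing R]

theorem length_localization_quot_pow' (m : Ideal R) [hm : m.IsMaximal] (n : ℕ) :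
    Module.length (Localization.AtPrime m)
      (Localization.AtPrime m ⧸ maximalIdeal (Localization.AtPrime m) ^ n) =
    Module.length R (R ⧸ m ^ n) := by
  set A := Localization.AtPrime m with hA
  have e := IsLocalization.AtPrime.equivQuotMaximalIdealPow m A n
  rw [e.toLinearEquiv.length_eq]
  have hsurj : Function.Surjective (algebraMap R (A ⧸ IsLocalRing.maximalIdeal A ^ n)) := by
    intro y
    obtain ⟨x, rfl⟩ := e.surjective y
    obtain ⟨r, rfl⟩ := Ideal.Quotient.mk_surjective x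
    exact ⟨r, by simp⟩
  rw [Module.length_eq_of_surjective (S := R) (R := A ⧸ IsLocalRing.maximalIdeal A ^ n) hsurj]
  exact (Module.length_eq_of_surjective (S := A) (R := A ⧸ IsLocalRing.maximalIdeal A ^ n)
    Ideal.Quotient.mk_surjective)

variable (𝒜 : ℤ → AddSubgroup R) [GradedRing 𝒜]

theorem length_self_of_isField (h0 : IsField (deg0 𝒜)) :
    Module.length (deg0 𝒜) (deg0 𝒜) = 1 := by
  letI := h0.toField
  have := Module.length_eq_finrank (deg0 𝒜) (deg0 𝒜)
  rw [Module.finrank_self] at this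
  exact_mod_cast this

/-- For a regular standard graded ring over a field, `dim_k R_1 = dim R`. -/
theorem length_comp_one_of_regular [IsRegularRing R] (hpos : ∀ n : ℤ, n < 0 → 𝒜 n = ⊥)
    (hstd : Ideal.span (⋃ n ∈ Set.Ioi (0 : ℤ), (𝒜 n : Set R)) =
      Ideal.span ((𝒜 1 : AddSubgroup R) : Set R)) (h0 : IsField (deg0 𝒜))
    (m : HomogeneousIdeal 𝒜) (hm : GrLC.IsStarLocal 𝒜 m)
    (hmsp : m.toIdeal = Ideal.span (⋃ n ∈ Set.Ioi (0 : ℤ), (𝒜 n : Set R)))
    (r : ℕ) (hr : ringKrullDim R = r) :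
    Module.length (deg0 𝒜) (comp 𝒜 𝒜 1) = r := by
  haveI hmax : m.toIdeal.IsMaximal := isMaximal_of_isStarLocal 𝒜 hpos m hm
  set A := Localization.AtPrime m.toIdeal with hA
  haveI : IsRegularLocalRing A := IsRegularRing.isRegularLocalRing_localization m.toIdeal
  have hfr : Module.finrank (ResidueField A) (CotangentSpace A) = r := by
    have h1 := (IsRegularLocalRing.iff_finrank_cotangentSpace A).mp inferInstance
    rw [IsLocalization.AtPrime.ringKrullDim_eq_height m.toIdeal A,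
      ← Groth.Agent.Lib.H74GrDim.ringKrullDim_eq_height 𝒜 hpos m hm, hr] at h1
    exact_mod_cast h1
  have hA2 := length_quot_sq A
  rw [hfr, length_localization_quot_pow' m.toIdeal 2] at hA2
  have hm2 : m.toIdeal ^ 2 = ge 𝒜 𝒜 hpos ((2 : ℕ) : ℤ) := by
    rw [← irr_pow_eq_ge 𝒜 hpos hstd 2, hmsp]
    rfl
  rw [hm2] at hA2
  have h2 := length_quot_ge_succ 𝒜 hpos 1
  have h1 := length_quot_ge_succ 𝒜 hpos 0
  have hge0 : ge 𝒜 𝒜 hpos 0 = ⊤ := by
    rw [eq_top_iff]
    intro x _ k hk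
    have h1 := (decompose 𝒜 x k).2
    have h2 : (decompose 𝒜 x k : R) ∈ (⊥ : AddSubgroup R) := by
      rw [← hpos k hk]; exact h1
    exact h2
  have h3 : Module.length R (R ⧸ ge 𝒜 𝒜 hpos 0) = 0 := by
    rw [Module.length_eq_zero_iff, hge0]
    exact Submodule.Quotient.subsingleton_iff.mpr rfl
  rw [h3, add_zero, length_comp_zero, length_self_of_isField 𝒜 h0] at h1
  have e1 : ((2 : ℕ) : ℤ) = 1 + 1 := by norm_num
  have e0 : (1 : ℤ) = 0 + 1 := by norm_num
  rw [e1, h2] at hA2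
  rw [e0] at hA2
  rw [h1] at hA2
  rw [← e0] at hA2
  exact ((ENat.add_left_injective_of_ne_top ENat.one_ne_top) hA2)


/-- over a field, `R_1` has a basis. -/
theorem exists_gens_of_field (h0 : IsField (deg0 𝒜)) (r : ℕ)
    (h1 : Module.length (deg0 𝒜) (comp 𝒜 𝒜 1) = r) :
    ∃ y : Fin r → R, (∀ t, y t ∈ 𝒜 1) ∧
      ∀ x ∈ 𝒜 1, x ∈ Submodule.span (deg0 𝒜) (Set.range y) := by
  letI := h0.toField
  haveI : Module.Finite (deg0 𝒜) (comp 𝒜 𝒜 1) := by
    have hfl : IsFiniteLength (deg0 𝒜) (comp 𝒜 𝒜 1) :=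
      Module.length_ne_top_iff.mp (by rw [h1]; exact ENat.natCast_ne_top r)
    obtain ⟨hN, -⟩ := isFiniteLength_iff_isNoetherian_isArtinian.mp hfl
    exact Module.IsNoetherian.finite _ _
  have hfr : Module.finrank (deg0 𝒜) (comp 𝒜 𝒜 1) = r := by
    have := Module.length_eq_finrank (deg0 𝒜) (comp 𝒜 𝒜 1)
    rw [h1] at this
    exact_mod_cast this.symm
  let b := Module.finBasisOfFinrankEq (deg0 𝒜) (comp 𝒜 𝒜 1) hfr
  refine ⟨fun t => (b t : R), fun t => (b t).2, fun x hx => ?_⟩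
  have hmem : (⟨x, hx⟩ : comp 𝒜 𝒜 1) ∈ Submodule.span (deg0 𝒜) (Set.range b) := by
    rw [b.span_eq]; trivial
  have h2 := Submodule.mem_map_of_mem (f := (comp 𝒜 𝒜 1).subtype) hmem
  rw [Submodule.map_span, ← Set.range_comp] at h2
  exact h2

section CM

variable [LocCoh.IsCohenMacaulayRing R]

/-- `a(R) = -dim R` implies `R` is a polynomial ring (over a field `R_0`). -/
theorem nonempty_ringEquiv_of_endDeg (hpos : ∀ n : ℤ, n < 0 → 𝒜 n = ⊥) (h0 : IsField (deg0 𝒜))
    (hstd : Ideal.span (⋃ n ∈ Set.Ioi (0 : ℤ), (𝒜 n : Set R)) =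
      Ideal.span ((𝒜 1 : AddSubgroup R) : Set R))
    (m : HomogeneousIdeal 𝒜) (hm : GrLC.IsStarLocal 𝒜 m) (r : ℕ) (hr : ringKrullDim R = r)
    (I : GrLC.StarInjRes 𝒜 𝒜)
    (ha : GrLC.endDeg (I.Hgr m r) = (((-(r : ℤ) : ℤ) : WithTop ℤ) : WithBot (WithTop ℤ))) :
    Nonempty (R ≃+* MvPolynomial (Fin r) (deg0 𝒜)) := by
  haveI : IsArtinianRing (deg0 𝒜) := by
    letI := h0.toField
    exact inferInstance
  have : IsNoetherianRing R := inferInstance
  have hH := hilb_eq_of_endDeg 𝒜 hpos hstd m hm r hr I ha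
  have hfin : ∀ n : ℤ, Module.length (deg0 𝒜) (comp 𝒜 𝒜 n) ≠ ⊤ :=
    fun n => Groth.Agent.Lib.H74GrSerre.length_comp_ne_top 𝒜 𝒜 n
  have hlen : ∀ n : ℕ, Module.length (deg0 𝒜) (comp 𝒜 𝒜 (n : ℤ)) =
      (Nat.multichoose r n : ℕ∞) * Module.length (deg0 𝒜) (deg0 𝒜) := by
    intro n
    have h1 := hH n
    unfold hilb at h1
    rw [← ENat.natCast_toNat (hfin n), h1, ← length_comp_zero, ← ENat.natCast_toNat (hfin 0)]
    push_cast
    rw [mul_comm]
    rfl
  have h1 : Module.length (deg0 𝒜) (comp 𝒜 𝒜 1) = r := by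
    have := hlen 1
    rw [Nat.multichoose_one_right, length_self_of_isField 𝒜 h0, mul_one] at this
    exact_mod_cast this
  obtain ⟨y, hy, hgen⟩ := exists_gens_of_field 𝒜 h0 r h1
  have hsurj := aeval_surjective 𝒜 y hpos hstd hy hgen
  have hinj := aeval_injective 𝒜 y hpos hstd hy hgen
    (by rw [length_self_of_isField 𝒜 h0]; exact ENat.one_ne_top) hlen
  exact ⟨(AlgEquiv.ofBijective _ ⟨hinj, hsurj⟩).symm.toRingEquiv⟩


/-- The image of the degree `n` polynomials is `R_n`. -/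
theorem map_homogeneousSubmodule {d : ℕ} (y : Fin d → R)
    (hstd : Ideal.span (⋃ n ∈ Set.Ioi (0 : ℤ), (𝒜 n : Set R)) =
      Ideal.span ((𝒜 1 : AddSubgroup R) : Set R)) (hy : ∀ t, y t ∈ 𝒜 1)
    (hgen : ∀ x ∈ 𝒜 1, x ∈ Submodule.span (deg0 𝒜) (Set.range y)) (n : ℕ) :
    (MvPolynomial.homogeneousSubmodule (Fin d) (deg0 𝒜) n).map
      (MvPolynomial.aeval y : MvPolynomial (Fin d) (deg0 𝒜) →ₐ[deg0 𝒜] R).toLinearMap =
        comp 𝒜 𝒜 (n : ℤ) := by
  ext x
  constructor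
  · rintro ⟨g, hg, rfl⟩
    exact aeval_mem 𝒜 y hy hg
  · intro hx
    obtain ⟨g, hg, hgx⟩ := exists_aeval_eq 𝒜 y hstd hy hgen n x hx
    exact ⟨g, hg, hgx⟩

/-- A standard graded ring over a field which is abstractly a polynomial ring in `dim R`
variables has `a(R) = -dim R`. -/
theorem endDeg_of_ringEquiv (hpos : ∀ n : ℤ, n < 0 → 𝒜 n = ⊥) (h0 : IsField (deg0 𝒜))
    (hstd : Ideal.span (⋃ n ∈ Set.Ioi (0 : ℤ), (𝒜 n : Set R)) =
      Ideal.span ((𝒜 1 : AddSubgroup R) : Set R))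
    (m : HomogeneousIdeal 𝒜) (hm : GrLC.IsStarLocal 𝒜 m)
    (hmsp : m.toIdeal = Ideal.span (⋃ n ∈ Set.Ioi (0 : ℤ), (𝒜 n : Set R)))
    (r : ℕ) (hr : ringKrullDim R = r)
    (I : GrLC.StarInjRes 𝒜 𝒜) (e : R ≃+* MvPolynomial (Fin r) (deg0 𝒜)) :
    GrLC.endDeg (I.Hgr m r) = (((-(r : ℤ) : ℤ) : WithTop ℤ) : WithBot (WithTop ℤ)) := by
  haveI : IsArtinianRing (deg0 𝒜) := by
    letI := h0.toField
    exact inferInstance
  haveI : IsDomain (deg0 𝒜) := h0.isDomain
  haveI : IsNoetherianRing (deg0 𝒜) := inferInstance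
  have : IsNoetherianRing R := inferInstance
  haveI : IsRegularRing (deg0 𝒜) := by
    letI := h0.toField
    exact inferInstance
  haveI : IsRegularRing R := IsRegularRing.of_ringEquiv e.symm
  have h1 := length_comp_one_of_regular 𝒜 hpos hstd h0 m hm hmsp r hr
  obtain ⟨y, hy, hgen⟩ := exists_gens_of_field 𝒜 h0 r h1
  have hsurj := aeval_surjective 𝒜 y hpos hstd hy hgen
  set φ := (MvPolynomial.aeval y : MvPolynomial (Fin r) (deg0 𝒜) →ₐ[deg0 𝒜] R) with hφ
  have hinj : Function.Injective φ := by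
    rw [injective_iff_map_eq_zero]
    intro f hf
    by_contra hne
    have hmem : f ∈ nonZeroDivisors (MvPolynomial (Fin r) (deg0 𝒜)) :=
      mem_nonZeroDivisors_of_ne_zero hne
    have hd1 := ringKrullDim_quotient_succ_le_of_nonZeroDivisor hmem
    rw [MvPolynomial.ringKrullDim_of_isNoetherianRing, ringKrullDim_eq_zero_of_isField h0,
      zero_add, Nat.card_eq_fintype_card, Fintype.card_fin] at hd1
    have hle : Ideal.span {f} ≤ RingHom.ker φ.toRingHom := by
      rw [Ideal.span_le]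
      rintro _ rfl
      exact hf
    have hd2 : ringKrullDim R ≤
        ringKrullDim (MvPolynomial (Fin r) (deg0 𝒜) ⧸ Ideal.span {f}) :=
      ringKrullDim_le_of_surjective (Ideal.Quotient.lift (Ideal.span {f}) φ.toRingHom
        (fun a ha => hle ha)) (Ideal.Quotient.lift_surjective_of_surjective _ _ hsurj)
    rw [hr] at hd2
    have hd3 : ((r : ℕ) : WithBot ℕ∞) + 1 ≤ (r : WithBot ℕ∞) :=
      le_trans (add_le_add_left hd2 1) hd1
    have hd4 : ((r + 1 : ℕ) : WithBot ℕ∞) ≤ ((r : ℕ) : WithBot ℕ∞) := by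
      push_cast
      exact hd3
    have hd5 : r + 1 ≤ r := by exact_mod_cast hd4
    omega
  have hlen : ∀ n : ℕ, Module.length (deg0 𝒜) (comp 𝒜 𝒜 (n : ℤ)) =
      (Nat.multichoose r n : ℕ∞) * Module.length (deg0 𝒜) (deg0 𝒜) := by
    intro n
    rw [← map_homogeneousSubmodule 𝒜 y hstd hy hgen n,
      Groth.Agent.Lib.H74GrSerre.length_map_of_injOn, length_homogeneousSubmodule]
    intro z _ hz
    exact hinj (by rw [map_zero]; exact hz)
  apply endDeg_eq_of_hilb 𝒜 hpos hstd m hm r hr I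
  intro n
  unfold hilb
  rw [hlen n, length_comp_zero, length_self_of_isField 𝒜 h0, mul_one]
  simp

end CM

end Groth.Agent.Lib.GrHilbSamuel4
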