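import Groth.Agent.Lib.H74GrLES3

/-!
# The long exact sequence of graded local cohomology (helper74)

* `exists_les`: for a short exact sequence of graded modules `0 → M' → M → M'' → 0` with
  homogeneous maps and arbitrary *injective resolutions `E'`, `E`, `E''`, and arbitrary chain lifts
  `cf`, `cg` of the maps, there are connecting homomorphisms `δ i : E''.H a i → E'.H a (i+1)`
  preserving degrees, and the resulting sequence is exact.
* `shiftRes`: the shifted resolution; `exists_les_smul`: the long exact sequence for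
  `0 → M(-k) --x--> M → M/xM → 0` with `x ∈ 𝒜 k` an `M`-regular element.
-/

set_option autoImplicit false
set_option linter.unusedSectionVars false
universe u

namespace Groth.Agent.Lib.H74GrLES

open DirectSum GrLC Groth.Agent.Lib.H87GrMod Groth.Agent.Lib.H87GrMod2 Groth.Agent.Lib.H87GrShift
  Groth.Agent.S18662 Groth.Agent.S18661

variable {ι : Type} [AddCommGroup ι] [DecidableEq ι]
variable {R : Type u} [CommRing R] {𝒜 : ι → AddSubgroup R} [GradedRing 𝒜]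

section LES

variable {M' : Type u} [AddCommGroup M'] [Module R M'] {ℳ' : ι → AddSubgroup M'}
  [Decomposition ℳ'] [SetLike.GradedSMul 𝒜 ℳ']
variable {M : Type u} [AddCommGroup M] [Module R M] {ℳ : ι → AddSubgroup M}
  [Decomposition ℳ] [SetLike.GradedSMul 𝒜 ℳ]
variable {M'' : Type u} [AddCommGroup M''] [Module R M''] {ℳ'' : ι → AddSubgroup M''}
  [Decomposition ℳ''] [SetLike.GradedSMul 𝒜 ℳ'']

/-- The long exact sequence of graded local cohomology. -/
theorem exists_les (E' : StarInjRes 𝒜 ℳ') (E : StarInjRes 𝒜 ℳ) (E'' : StarInjRes 𝒜 ℳ'')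
    {f : M' →ₗ[R] M} {g : M →ₗ[R] M''} (hf : IsGrHom ℳ' ℳ f) (hg : IsGrHom ℳ ℳ'' g)
    (hfinj : Function.Injective f) (hfg : Function.Exact f g) (hgsurj : Function.Surjective g)
    (a : HomogeneousIdeal 𝒜)
    (cf : CMap E' E 0) (hcf : ∀ m', cf.φ 0 (E'.ε m') = E.ε (f m'))
    (cg : CMap E E'' 0) (hcg : ∀ m, cg.φ 0 (E.ε m) = E''.ε (g m)) :
    ∃ δ : ∀ i, E''.H a i →ₗ[R] E'.H a (i + 1),
      (∀ i n ξ, ξ ∈ E''.Hcomp a i n → δ i ξ ∈ E'.Hcomp a (i + 1) n) ∧
      (∀ i (ξ : E.H a i), cg.Hmap a i ξ = 0 ↔ ξ ∈ LinearMap.range (cf.Hmap a i)) ∧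
      (∀ i (η : E''.H a i), δ i η = 0 ↔ η ∈ LinearMap.range (cg.Hmap a i)) ∧
      (∀ i (η : E'.H a (i + 1)), cf.Hmap a (i + 1) η = 0 ↔ η ∈ LinearMap.range (δ i)) := by
  obtain ⟨h⟩ := exists_hdata (ℳ := ℳ) E' E'' hf hg hfinj hfg hgsurj
  have hid : IsGrHomDeg ℳ ℳ (LinearMap.id : M →ₗ[R] M) 0 := fun k m hm => by
    rw [add_zero]; exact hm
  obtain ⟨c, hc⟩ := exists_cmap E (h.res hg hfinj hfg hgsurj) hid
  obtain ⟨c', hc'⟩ := exists_cmap (h.res hg hfinj hfg hgsurj) E hid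
  have hcc' : ∀ i, c'.Hmap a i ∘ₗ c.Hmap a i = LinearMap.id := by
    intro i
    rw [← CMap.Hmap_comp a c c' 0 (add_zero 0), ← CMap.Hmap_id (E := E) a i]
    apply CMap.Hmap_eq_of_ε
    intro m
    show c'.φ 0 (c.φ 0 (E.ε m)) = E.ε m
    rw [hc, LinearMap.id_apply, hc', LinearMap.id_apply]
  have hc'c : ∀ i, c.Hmap a i ∘ₗ c'.Hmap a i = LinearMap.id := by
    intro i
    rw [← CMap.Hmap_comp a c' c 0 (add_zero 0),
      ← CMap.Hmap_id (E := h.res hg hfinj hfg hgsurj) a i]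
    apply CMap.Hmap_eq_of_ε
    intro m
    show c.φ 0 (c'.φ 0 ((h.res hg hfinj hfg hgsurj).ε m)) = (h.res hg hfinj hfg hgsurj).ε m
    rw [hc', LinearMap.id_apply, hc, LinearMap.id_apply]
  have hcinj : ∀ i, Function.Injective (c.Hmap a i) := fun i =>
    Function.LeftInverse.injective (g := c'.Hmap a i) (fun ξ => LinearMap.congr_fun (hcc' i) ξ)
  have hcsurj : ∀ i, Function.Surjective (c.Hmap a i) := fun i =>
    Function.RightInverse.surjective (g := c'.Hmap a i)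
      (fun ξ => LinearMap.congr_fun (hc'c i) ξ)
  -- (R1)
  have hR1 : ∀ i, c.Hmap a i ∘ₗ cf.Hmap a i = (h.inlC hg hfinj hfg hgsurj).Hmap a i := by
    intro i
    rw [← CMap.Hmap_comp a cf c 0 (add_zero 0)]
    apply CMap.Hmap_eq_of_ε
    intro m'
    show c.φ 0 (cf.φ 0 (E'.ε m')) = ((E'.ε m', 0) : (E'.X 0).carrier × (E''.X 0).carrier)
    rw [hcf, hc, LinearMap.id_apply]
    exact h.ee_f hfg m'
  -- (R2)
  have hR2 : ∀ i, (h.sndC hg hfinj hfg hgsurj).Hmap a i ∘ₗ c.Hmap a i = cg.Hmap a i := by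
    intro i
    rw [← CMap.Hmap_comp a c (h.sndC hg hfinj hfg hgsurj) 0 (add_zero 0)]
    apply CMap.Hmap_eq_of_ε
    intro m
    show ((c.φ 0 (E.ε m) : (E'.X 0).carrier × (E''.X 0).carrier)).2 = cg.φ 0 (E.ε m)
    rw [hc, LinearMap.id_apply, hcg]
    rfl
  refine ⟨fun i => h.δ a i, fun i n ξ hξ => h.δ_mem_Hcomp a i hξ, ?_, ?_, ?_⟩
  · intro i ξ
    have e1 : cg.Hmap a i ξ = (h.sndC hg hfinj hfg hgsurj).Hmap a i (c.Hmap a i ξ) := by
      rw [← hR2 i]; rfl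
    rw [e1, h.exact_mid hg hfinj hfg hgsurj a i]
    constructor
    · rintro ⟨η, hη⟩
      refine ⟨η, hcinj i ?_⟩
      rw [← hη, ← hR1 i]; rfl
    · rintro ⟨η, rfl⟩
      refine ⟨η, ?_⟩
      rw [← hR1 i]; rfl
  · intro i η
    show h.δ a i η = 0 ↔ _
    rw [h.exact_right hg hfinj hfg hgsurj a i]
    constructor
    · rintro ⟨ξ, rfl⟩
      obtain ⟨ξ', rfl⟩ := hcsurj i ξ
      refine ⟨ξ', ?_⟩
      rw [← hR2 i]; rfl
    · rintro ⟨ξ, rfl⟩
      refine ⟨c.Hmap a i ξ, ?_⟩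
      rw [← hR2 i]; rfl
  · intro i η
    show _ ↔ η ∈ LinearMap.range (h.δ a i)
    rw [← h.exact_left hg hfinj hfg hgsurj a i, ← hR1 (i + 1)]
    show _ ↔ c.Hmap a (i + 1) (cf.Hmap a (i + 1) η) = 0
    constructor
    · intro h0; rw [h0, map_zero]
    · intro h0
      apply hcinj (i + 1)
      rw [h0, map_zero]

end LES

section Shift

variable {X : Type u} [AddCommGroup X] [Module R X] (𝒳 : ι → AddSubgroup X) [Decomposition 𝒳]
  [SetLike.GradedSMul 𝒜 𝒳]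

noncomputable instance instDecompositionShiftGr (d : ι) : Decomposition (shiftGr 𝒳 d) :=
  shiftDecomposition 𝒳 d

instance instGradedSMulShiftGr (d : ι) : SetLike.GradedSMul 𝒜 (shiftGr 𝒳 d) :=
  gradedSMul_shiftGr 𝒳 𝒜 d

theorem isStarInj_shift (h : IsStarInj 𝒜 𝒳) (d : ι) : IsStarInj 𝒜 (shiftGr 𝒳 d) := by
  intro A B f hf hinj g hg
  have hg' : IsGrHomDeg A.gr 𝒳 g d := fun k x hx => hg k x hx
  obtain ⟨h', hh', hh'f⟩ := extend_deg' 𝒜 A.gr B.gr 𝒳 h hf hinj hg'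
  exact ⟨h', fun k x hx => hh' k x hx, hh'f⟩

variable {M : Type u} [AddCommGroup M] [Module R M] {ℳ : ι → AddSubgroup M}
  [Decomposition ℳ] [SetLike.GradedSMul 𝒜 ℳ]
variable {N : Type u} [AddCommGroup N] [Module R N] {𝒩 : ι → AddSubgroup N}
  [Decomposition 𝒩] [SetLike.GradedSMul 𝒜 𝒩]

/-- The shifted resolution: a resolution of the shifted module `M(d)`. -/
noncomputable def shiftRes (E : StarInjRes 𝒜 ℳ) (d : ι) : StarInjRes 𝒜 (shiftGr ℳ d) where
  X n := shiftGMod (E.X n).gr 𝒜 d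
  d := E.d
  ε := E.ε
  d_grHom n := fun _ x hx => E.d_grHom n _ x hx
  ε_grHom := fun _ m hm => E.ε_grHom _ m hm
  ε_injective := E.ε_injective
  exact_zero := E.exact_zero
  exact_succ := E.exact_succ
  starInj n := isStarInj_shift _ (E.starInj n) d

theorem smul_mem_shift {k g : ι} {x : R} (hx : x ∈ 𝒜 k) {y : X} (hy : y ∈ 𝒳 (g + -k)) :
    (x • (LinearMap.id : X →ₗ[R] X)) y ∈ 𝒳 (g + 0) := by
  have := SetLike.GradedSMul.smul_mem (A := 𝒜) (B := 𝒳) hx hy
  rw [vadd_eq_add] at this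
  have e : k + (g + -k) = g + 0 := by abel
  rw [e] at this
  exact this

theorem smul_id_comm {X Y : Type u} [AddCommGroup X] [Module R X] [AddCommGroup Y] [Module R Y]
    (d : X →ₗ[R] Y) (x : R) (y : X) :
    (x • (LinearMap.id : Y →ₗ[R] Y)) (d y) = d ((x • (LinearMap.id : X →ₗ[R] X)) y) := by
  simp

/-- Multiplication by a homogeneous element of degree `k` as a chain map `E(-k) → E`. -/
noncomputable def smulShift (E : StarInjRes 𝒜 ℳ) {k : ι} {x : R} (hx : x ∈ 𝒜 k) :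
    CMap (shiftRes E (-k)) E 0 where
  φ n := (x • LinearMap.id : (E.X n).carrier →ₗ[R] (E.X n).carrier)
  deg n := fun g y hy => smul_mem_shift (E.X n).gr hx hy
  comm n y := smul_id_comm (E.d n) x y

/-- The long exact sequence for multiplication by a homogeneous regular element. -/
theorem exists_les_smul (E : StarInjRes 𝒜 ℳ) (F : StarInjRes 𝒜 𝒩) {x : R} {k : ι}
    (hx : x ∈ 𝒜 k) (hreg : IsSMulRegular M x) {π : M →ₗ[R] N} (hπ : IsGrHom ℳ 𝒩 π)
    (hπs : Function.Surjective π)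
    (hker : LinearMap.ker π = LinearMap.range (x • (LinearMap.id : M →ₗ[R] M)))
    (a : HomogeneousIdeal 𝒜) (cπ : CMap E F 0) (hcπ : ∀ m, cπ.φ 0 (E.ε m) = F.ε (π m)) :
    ∃ δ : ∀ i, F.H a i →ₗ[R] E.H a (i + 1),
      (∀ i n ξ, ξ ∈ F.Hcomp a i n → δ i ξ ∈ E.Hcomp a (i + 1) (n + -k)) ∧
      (∀ i (ξ : E.H a i), cπ.Hmap a i ξ = 0 ↔ ∃ η : E.H a i, x • η = ξ) ∧
      (∀ i (η : F.H a i), δ i η = 0 ↔ η ∈ LinearMap.range (cπ.Hmap a i)) ∧
      (∀ i (η : E.H a (i + 1)), x • η = 0 ↔ η ∈ LinearMap.range (δ i)) := by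
  have hf : IsGrHom (shiftGr ℳ (-k)) ℳ (x • (LinearMap.id : M →ₗ[R] M)) := by
    intro g m hm
    have hm' : m ∈ ℳ (g + -k) := hm
    have := SetLike.GradedSMul.smul_mem (A := 𝒜) (B := ℳ) hx hm'
    rw [vadd_eq_add] at this
    have e : k + (g + -k) = g := by abel
    rw [e] at this
    exact this
  have hfinj : Function.Injective (x • (LinearMap.id : M →ₗ[R] M)) := fun m₁ m₂ h12 => hreg h12
  have hfg : Function.Exact (x • (LinearMap.id : M →ₗ[R] M)) π :=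
    LinearMap.exact_iff.mpr hker
  obtain ⟨δ, hδ, h1, h2, h3⟩ := exists_les (shiftRes E (-k)) E F hf hπ hfinj hfg hπs a
    (smulShift E hx) (fun m => by
      show x • E.ε m = E.ε (x • m)
      rw [map_smul]) cπ hcπ
  have hsm : ∀ i (η : E.H a i), (smulShift E hx).Hmap a i η = x • η := by
    intro i η
    obtain ⟨z, rfl⟩ := toH_surjective a E i η
    rfl
  refine ⟨δ, fun i n ξ hξ => hδ i n ξ hξ, ?_, h2, ?_⟩
  · intro i ξ
    rw [h1 i ξ]
    constructor
    · rintro ⟨η, rfl⟩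
      exact ⟨η, (hsm i η).symm⟩
    · rintro ⟨η, rfl⟩
      exact ⟨η, hsm i η⟩
  · intro i η
    constructor
    · intro h0
      exact (h3 i η).mp (by rw [hsm]; exact h0)
    · intro hr
      have := (h3 i η).mpr hr
      rwa [hsm] at this

end Shift

end Groth.Agent.Lib.H74GrLES
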