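import Mathlib
import Groth.Agent.Lib.H74GrLES4
import Groth.Agent.Lib.H74GrArt

set_option autoImplicit false
set_option linter.unusedSectionVars false
set_option linter.style.haveILetI false

universe u

namespace Groth.Agent.Lib.H74GrReg

open DirectSum GrLC Groth.Agent.Lib.H74GrArt Groth.Agent.Lib.H74GrLES
  Groth.Agent.Lib.H87GrShift

section EndDeg

variable {M : Type u} [AddCommGroup M] {N : Type u} [AddCommGroup N]

theorem coe_le_endDeg (ℳ : ℤ → AddSubgroup M) {n : ℤ} (hn : ℳ n ≠ ⊥) :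
    ((n : WithTop ℤ) : WithBot (WithTop ℤ)) ≤ endDeg ℳ := by
  unfold endDeg
  exact le_iSup₂_of_le n hn le_rfl

theorem add_neg_add (c : WithBot (WithTop ℤ)) (k : ℤ) :
    c + (((-k : ℤ) : WithTop ℤ) : WithBot (WithTop ℤ)) + ((k : WithTop ℤ) : WithBot (WithTop ℤ))
      = c := by
  induction c using WithBot.recBotCoe with
  | bot => rfl
  | coe c =>
    induction c using WithTop.recTopCoe with
    | top => rfl
    | coe c =>
      have : c + -k + k = c := by ring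
      exact_mod_cast this

theorem endDeg_le_add (ℳ : ℤ → AddSubgroup M) (𝒩 : ℤ → AddSubgroup N) (k : ℤ)
    (h : ∀ n, 𝒩 n ≠ ⊥ → ∃ n', n ≤ n' + k ∧ ℳ n' ≠ ⊥) :
    endDeg 𝒩 ≤ endDeg ℳ + ((k : WithTop ℤ) : WithBot (WithTop ℤ)) := by
  unfold endDeg
  refine iSup_le fun n => iSup_le fun hn => ?_
  obtain ⟨n', hnn', hn'⟩ := h n hn
  have h1 : ((n : WithTop ℤ) : WithBot (WithTop ℤ)) ≤
      ((n' : WithTop ℤ) : WithBot (WithTop ℤ)) + ((k : WithTop ℤ) : WithBot (WithTop ℤ)) := by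
    exact_mod_cast hnn'
  exact h1.trans (add_le_add_left (coe_le_endDeg ℳ hn') _)

theorem add_le_endDeg (ℳ : ℤ → AddSubgroup M) (𝒩 : ℤ → AddSubgroup N) (k : ℤ)
    (h : ∀ n, ℳ n ≠ ⊥ → ∃ n', n + k ≤ n' ∧ 𝒩 n' ≠ ⊥) :
    endDeg ℳ + ((k : WithTop ℤ) : WithBot (WithTop ℤ)) ≤ endDeg 𝒩 := by
  have h1 : endDeg ℳ ≤ endDeg 𝒩 + (((-k : ℤ) : WithTop ℤ) : WithBot (WithTop ℤ)) := by
    unfold endDeg
    refine iSup_le fun n => iSup_le fun hn => ?_
    obtain ⟨n', hnn', hn'⟩ := h n hn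
    have h2 : ((n : WithTop ℤ) : WithBot (WithTop ℤ)) ≤
        ((n' : WithTop ℤ) : WithBot (WithTop ℤ)) + (((-k : ℤ) : WithTop ℤ) : WithBot (WithTop ℤ)) := by
      have : n ≤ n' + -k := by omega
      exact_mod_cast this
    exact h2.trans (add_le_add_left (coe_le_endDeg 𝒩 hn') _)
  calc endDeg ℳ + ((k : WithTop ℤ) : WithBot (WithTop ℤ))
      ≤ endDeg 𝒩 + (((-k : ℤ) : WithTop ℤ) : WithBot (WithTop ℤ)) +
          ((k : WithTop ℤ) : WithBot (WithTop ℤ)) := add_le_add_left h1 _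
    _ = endDeg 𝒩 := add_neg_add _ k

theorem endDeg_eq_bot_of_subsingleton [Subsingleton M] (ℳ : ℤ → AddSubgroup M) :
    endDeg ℳ = ⊥ := by
  unfold endDeg
  rw [eq_bot_iff]
  refine iSup_le fun n => iSup_le fun hn => ?_
  exact absurd (Subsingleton.elim _ _) hn

end EndDeg

section Torsion

variable {R : Type u} [CommRing R] (𝒜 : ℤ → AddSubgroup R) [GradedRing 𝒜]
variable {H : Type u} [AddCommGroup H] [Module R H] (ℋ : ℤ → AddSubgroup H)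
  [SetLike.GradedSMul 𝒜 ℋ]

/-- In an `x`-power torsion graded module, above every nonzero degree there is a nonzero
homogeneous element killed by `x` (`x` homogeneous of degree `k ≥ 0`). -/
theorem exists_killed {x : R} {k : ℤ} (hk : 0 ≤ k) (hx : x ∈ 𝒜 k)
    (htors : ∀ h : H, ∃ s : ℕ, x ^ s • h = 0) {j : ℤ} (hj : ℋ j ≠ ⊥) :
    ∃ j' : ℤ, j ≤ j' ∧ ∃ h' : H, h' ∈ ℋ j' ∧ h' ≠ 0 ∧ x • h' = 0 := by
  classical
  obtain ⟨h, hh, hh0⟩ : ∃ h ∈ ℋ j, h ≠ 0 := by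
    by_contra hcon
    push Not at hcon
    apply hj
    rw [eq_bot_iff]
    intro h hh
    exact hcon h hh
  have hex := htors h
  have hs := Nat.find_spec hex
  have hmin := fun t ht => Nat.find_min hex (m := t) ht
  set s := Nat.find hex with hsdef
  have hs0 : s ≠ 0 := by
    intro h0
    rw [h0, pow_zero, one_smul] at hs
    exact hh0 hs
  obtain ⟨t, ht⟩ : ∃ t, s = t + 1 := ⟨s - 1, by omega⟩
  refine ⟨t • k + j, ?_, x ^ t • h, ?_, ?_, ?_⟩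
  · have : 0 ≤ t • k := nsmul_nonneg hk t
    omega
  · have h1 : x ^ t ∈ 𝒜 (t • k) := SetLike.pow_mem_graded t hx
    exact SetLike.GradedSMul.smul_mem (A := 𝒜) (B := ℋ) h1 hh
  · exact hmin t (by omega)
  · rw [← mul_smul, ← pow_succ', ← ht]
    exact hs

end Torsion


section Step

variable {R : Type u} [CommRing R] {𝒜 : ℤ → AddSubgroup R} [GradedRing 𝒜]
variable {M : Type u} [AddCommGroup M] [Module R M] {ℳ : ℤ → AddSubgroup M}
  [Decomposition ℳ] [SetLike.GradedSMul 𝒜 ℳ]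
variable {N : Type u} [AddCommGroup N] [Module R N] {𝒩 : ℤ → AddSubgroup N}
  [Decomposition 𝒩] [SetLike.GradedSMul 𝒜 𝒩]

theorem exists_pow_smul_eq_zero (a : HomogeneousIdeal 𝒜) (E : StarInjRes 𝒜 ℳ) (i : ℕ) {x : R}
    (hx : x ∈ a.toIdeal) (ξ : E.H a i) : ∃ s : ℕ, x ^ s • ξ = 0 := by
  obtain ⟨⟨z, hz, hzd⟩, rfl⟩ := toH_surjective a E i ξ
  obtain ⟨n, hn⟩ := hz
  refine ⟨n, ?_⟩
  rw [← map_smul]
  have : x ^ n • (⟨z, ⟨n, hn⟩, hzd⟩ : E.cocyc a i) = 0 :=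
    Subtype.ext (hn _ (Ideal.pow_mem_pow hx n))
  rw [this, map_zero]

theorem Hgr_ne_bot_of_mem (a : HomogeneousIdeal 𝒜) (E : StarInjRes 𝒜 ℳ) (i : ℕ) {n : ℤ}
    {ξ : E.H a i} (hξ : ξ ∈ E.Hgr a i n) (h0 : ξ ≠ 0) : E.Hgr a i n ≠ ⊥ := by
  intro hbot
  rw [hbot] at hξ
  exact h0 hξ

theorem exists_mem_ne_zero (a : HomogeneousIdeal 𝒜) (E : StarInjRes 𝒜 ℳ) (i : ℕ) {n : ℤ}
    (h : E.Hgr a i n ≠ ⊥) : ∃ ξ ∈ E.Hgr a i n, ξ ≠ 0 := by
  by_contra hcon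
  push Not at hcon
  apply h
  rw [eq_bot_iff]
  intro ξ hξ
  exact hcon ξ hξ

/-- The end of `H^e(M/xM)` is the end of `H^{e+1}(M)` plus `deg x` when `H^e(M) = 0`. -/
theorem step (E : StarInjRes 𝒜 ℳ) (F : StarInjRes 𝒜 𝒩) (m : HomogeneousIdeal 𝒜) {x : R} {k : ℤ}
    (hk : 0 ≤ k) (hx : x ∈ 𝒜 k) (hxm : x ∈ m.toIdeal) (hreg : IsSMulRegular M x)
    {π : M →ₗ[R] N} (hπ : IsGrHom ℳ 𝒩 π) (hπs : Function.Surjective π)
    (hker : LinearMap.ker π = LinearMap.range (x • (LinearMap.id : M →ₗ[R] M)))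
    (e : ℕ) (hlow : Subsingleton (E.H m e)) :
    endDeg (F.Hgr m e) = endDeg (E.Hgr m (e + 1)) + ((k : WithTop ℤ) : WithBot (WithTop ℤ)) := by
  obtain ⟨cπ, hcπ⟩ := exists_cmap E F (isGrHomDeg_zero_of hπ)
  obtain ⟨δ, hδ, -, h2, h3⟩ := exists_les_smul E F hx hreg hπ hπs hker m cπ hcπ
  have hinj : ∀ η : F.H m e, δ e η = 0 → η = 0 := by
    intro η hη
    obtain ⟨ξ, rfl⟩ := (h2 e η).mp hη
    rw [Subsingleton.elim ξ 0, map_zero]
  apply le_antisymm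
  · apply endDeg_le_add
    intro n hn
    obtain ⟨η, hη, hη0⟩ := exists_mem_ne_zero m F e hn
    refine ⟨n + -k, by omega, ?_⟩
    exact Hgr_ne_bot_of_mem m E (e + 1) (hδ e n η hη) (fun h0 => hη0 (hinj η h0))
  · apply add_le_endDeg
    intro n hn
    obtain ⟨j', hj', h', hh', hh'0, hxh'⟩ := exists_killed 𝒜 (E.Hgr m (e + 1)) hk hx
      (fun h => exists_pow_smul_eq_zero m E (e + 1) hxm h) hn
    obtain ⟨η, rfl⟩ := (h3 e h').mp hxh'
    letI := decompositionHgr 𝒜 ℳ m E (e + 1)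
    letI := decompositionHgr 𝒜 𝒩 m F e
    have hdeg : IsGrHomDeg (F.Hgr m e) (E.Hgr m (e + 1)) (δ e) (-k) := fun g ξ hξ => hδ e g ξ hξ
    have key := decompose_map_deg (F.Hgr m e) (E.Hgr m (e + 1)) hdeg η (j' + k)
    have e1 : j' + k + -k = j' := by ring
    rw [e1, decompose_of_mem_same _ hh'] at key
    refine ⟨j' + k, by omega, ?_⟩
    refine Hgr_ne_bot_of_mem m F e (decompose (F.Hgr m e) η (j' + k)).2 ?_
    intro h0
    rw [h0, map_zero] at key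
    exact hh'0 key

/-- Vanishing of `H^i(M/xM)` from that of `H^i(M)` and `H^{i+1}(M)`. -/
theorem subsingleton_of_les (E : StarInjRes 𝒜 ℳ) (F : StarInjRes 𝒜 𝒩) (m : HomogeneousIdeal 𝒜)
    {x : R} {k : ℤ} (hx : x ∈ 𝒜 k) (hreg : IsSMulRegular M x)
    {π : M →ₗ[R] N} (hπ : IsGrHom ℳ 𝒩 π) (hπs : Function.Surjective π)
    (hker : LinearMap.ker π = LinearMap.range (x • (LinearMap.id : M →ₗ[R] M)))
    (i : ℕ) (h1 : Subsingleton (E.H m i)) (h2 : Subsingleton (E.H m (i + 1))) :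
    Subsingleton (F.H m i) := by
  obtain ⟨cπ, hcπ⟩ := exists_cmap E F (isGrHomDeg_zero_of hπ)
  obtain ⟨δ, -, -, h2', -⟩ := exists_les_smul E F hx hreg hπ hπs hker m cπ hcπ
  refine subsingleton_of_forall_eq 0 fun η => ?_
  obtain ⟨ξ, rfl⟩ := (h2' i η).mp (Subsingleton.elim _ _)
  rw [Subsingleton.elim ξ 0, map_zero]

end Step

end Groth.Agent.Lib.H74GrReg
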