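import Mathlib
import Groth.Agent.Lib.H74GrReg1
import Groth.Agent.S13215
import Groth.Agent.S13229

set_option autoImplicit false
set_option linter.unusedSectionVars false
set_option linter.style.haveILetI false

universe u

namespace Groth.Agent.Lib.H74GrReg

open DirectSum GrLC Groth.Agent.Lib.H74GrArt Groth.Agent.Lib.H74GrLES
  Groth.Agent.Lib.H87GrShift Groth.Agent.Lib.H87GrMod

section Aux

variable {R : Type u} [CommRing R] {𝒜 : ℤ → AddSubgroup R} [GradedRing 𝒜]
variable {M : Type u} [AddCommGroup M] [Module R M] {ℳ : ℤ → AddSubgroup M}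
  [Decomposition ℳ] [SetLike.GradedSMul 𝒜 ℳ]
variable {N : Type u} [AddCommGroup N] [Module R N] {𝒩 : ℤ → AddSubgroup N}
  [Decomposition 𝒩] [SetLike.GradedSMul 𝒜 𝒩]

theorem isHomogeneous_range_smul {x : R} {k : ℤ} (hx : x ∈ 𝒜 k) :
    (LinearMap.range (x • (LinearMap.id : M →ₗ[R] M))).IsHomogeneous ℳ := by
  intro i z hz
  obtain ⟨y, rfl⟩ := hz
  refine ⟨(decompose ℳ y (i - k) : M), ?_⟩
  show x • (decompose ℳ y (i - k) : M) = (decompose ℳ (x • y) i : M)
  rw [Groth.Agent.S13229.decompose_smul_left' 𝒜 ℳ hx y i]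

/-- Factor a map through a surjection. -/
theorem exists_factor {M₁ : Type u} [AddCommGroup M₁] [Module R M₁] (q : M →ₗ[R] M₁)
    (hq : Function.Surjective q) (π : M →ₗ[R] N) (h : LinearMap.ker q ≤ LinearMap.ker π) :
    ∃ π₁ : M₁ →ₗ[R] N, ∀ z, π₁ (q z) = π z := by
  refine ⟨(LinearMap.ker q).liftQ π h ∘ₗ (q.quotKerEquivOfSurjective hq).symm.toLinearMap, ?_⟩
  intro z
  have : (q.quotKerEquivOfSurjective hq).symm (q z) = Submodule.Quotient.mk z := by
    rw [LinearEquiv.symm_apply_eq]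
    rfl
  simp only [LinearMap.coe_comp, LinearEquiv.coe_coe, Function.comp_apply, this]
  rfl

/-- A graded bijection induces the same ends of local cohomology. -/
theorem endDeg_eq_of_bijective (E : StarInjRes 𝒜 ℳ) (F : StarInjRes 𝒜 𝒩) (m : HomogeneousIdeal 𝒜)
    {π : M →ₗ[R] N} (hπ : IsGrHom ℳ 𝒩 π) (hbij : Function.Bijective π) (e : ℕ) :
    endDeg (F.Hgr m e) = endDeg (E.Hgr m e) := by
  let φ : M ≃ₗ[R] N := LinearEquiv.ofBijective π hbij
  have hφ : ∀ z, φ z = π z := fun z => rfl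
  have hinv : IsGrHom 𝒩 ℳ φ.symm.toLinearMap := by
    intro g y hy
    obtain ⟨z, rfl⟩ := hbij.2 y
    have h1 : π (decompose ℳ z g : M) = π z := by
      have := decompose_map (ℳ := ℳ) (𝒩 := 𝒩) hπ z g
      rw [← this, decompose_of_mem_same 𝒩 hy]
    have h2 : (decompose ℳ z g : M) = z := hbij.1 h1
    show φ.symm (π z) ∈ ℳ g
    rw [← hφ, LinearEquiv.symm_apply_apply, ← h2]
    exact (decompose ℳ z g).2
  obtain ⟨c, hc⟩ := exists_cmap E F (isGrHomDeg_zero_of hπ)
  obtain ⟨c', hc'⟩ := exists_cmap F E (isGrHomDeg_zero_of hinv)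
  have hcc' : ∀ i, c'.Hmap m i ∘ₗ c.Hmap m i = LinearMap.id := by
    intro i
    rw [← CMap.Hmap_comp m c c' 0 (add_zero 0), ← CMap.Hmap_id (E := E) m i]
    apply CMap.Hmap_eq_of_ε
    intro z
    show c'.φ 0 (c.φ 0 (E.ε z)) = E.ε z
    rw [hc, hc']
    show E.ε (φ.symm (π z)) = E.ε z
    rw [← hφ, LinearEquiv.symm_apply_apply]
  have hc'c : ∀ i, c.Hmap m i ∘ₗ c'.Hmap m i = LinearMap.id := by
    intro i
    rw [← CMap.Hmap_comp m c' c 0 (add_zero 0), ← CMap.Hmap_id (E := F) m i]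
    apply CMap.Hmap_eq_of_ε
    intro z
    show c.φ 0 (c'.φ 0 (F.ε z)) = F.ε z
    rw [hc', hc]
    show F.ε (π (φ.symm z)) = F.ε z
    rw [← hφ, LinearEquiv.apply_symm_apply]
  have e0 : ∀ c : WithBot (WithTop ℤ), c + (((0 : ℤ) : WithTop ℤ) : WithBot (WithTop ℤ)) = c := by
    intro c
    have : (((0 : ℤ) : WithTop ℤ) : WithBot (WithTop ℤ)) = 0 := rfl
    rw [this, add_zero]
  apply le_antisymm
  · rw [← e0 (endDeg (E.Hgr m e))]
    apply endDeg_le_add
    intro n hn
    obtain ⟨η, hη, hη0⟩ := exists_mem_ne_zero m F e hn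
    refine ⟨n, by omega, ?_⟩
    have h1 := CMap.Hmap_mem_Hcomp m c' e hη
    rw [add_zero] at h1
    refine Hgr_ne_bot_of_mem m E e h1 ?_
    intro h0
    apply hη0
    have := LinearMap.congr_fun (hc'c e) η
    simp only [LinearMap.coe_comp, Function.comp_apply, LinearMap.id_coe, id_eq] at this
    rw [← this, h0, map_zero]
  · rw [← e0 (endDeg (F.Hgr m e))]
    apply endDeg_le_add
    intro n hn
    obtain ⟨η, hη, hη0⟩ := exists_mem_ne_zero m E e hn
    refine ⟨n, by omega, ?_⟩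
    have h1 := CMap.Hmap_mem_Hcomp m c e hη
    rw [add_zero] at h1
    refine Hgr_ne_bot_of_mem m F e h1 ?_
    intro h0
    apply hη0
    have := LinearMap.congr_fun (hcc' e) η
    simp only [LinearMap.coe_comp, Function.comp_apply, LinearMap.id_coe, id_eq] at this
    rw [← this, h0, map_zero]

end Aux

end Groth.Agent.Lib.H74GrReg
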