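import Mathlib
import Groth.Agent.Lib.GrHilbSamuel3
import Groth.Agent.Lib.H74Avoid
import Groth.Agent.Lib.DepthRees
import Groth.Prelude.Def_GrQuotMod
import Groth.Agent.Lib.H74GrReg2
import Groth.Agent.Lib.H74GrCM

set_option autoImplicit false
set_option linter.unusedSectionVars false
set_option linter.style.haveILetI false

universe u

namespace Groth.Agent.Lib.GrHilbSamuel5

open DirectSum GrLC IsLocalRing Groth.Agent.Lib.H74GrArt Groth.Agent.S13229
  Groth.Agent.Lib.GrHilbSamuel Groth.Agent.Lib.GrHilbSamuel2 Groth.Agent.Lib.GrHilbSamuel3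
open scoped Pointwise

section Avoid

variable {A₀ : Type u} [CommRing A₀] [IsLocalRing A₀]
variable {M : Type u} [AddCommGroup M] [Module A₀ M] (N : Submodule A₀ M)

/-- A f.g. module over a local ring with infinite residue field is not a finite union of proper
submodules. -/
theorem exists_notMem_of_finite (hinf : Infinite (ResidueField A₀)) (hN : N.FG)
    {ι : Type*} [Finite ι] (U : ι → Submodule A₀ N) (hU : ∀ i, U i ≠ ⊤) :
    ∃ z : N, ∀ i, z ∉ U i := by
  classical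
  by_contra hcon
  push Not at hcon
  let π := ((maximalIdeal A₀) • (⊤ : Submodule A₀ N)).mkQ
  let p : ι → Subspace (ResidueField A₀) (Groth.Agent.Lib.H74Avoid.W N) :=
    fun i => Groth.Agent.Lib.H74Avoid.liftSub N ((U i).map π)
  have hcov : ⋃ i, (p i : Set (Groth.Agent.Lib.H74Avoid.W N)) = Set.univ := by
    rw [Set.eq_univ_iff_forall]
    intro w
    obtain ⟨z, rfl⟩ := Submodule.mkQ_surjective _ w
    obtain ⟨i, hi⟩ := hcon z
    exact Set.mem_iUnion.mpr ⟨i, ⟨z, hi, rfl⟩⟩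
  obtain ⟨i, hi⟩ := Subspace.exists_eq_top_of_iUnion_eq_univ hcov
  exact Groth.Agent.Lib.H74Avoid.liftSub_map_ne_top N hN (U i) (hU i) hi

end Avoid


section Deg0

variable {R : Type u} [CommRing R] (𝒜 : ℤ → AddSubgroup R) [GradedRing 𝒜]

theorem isUnit_deg0_of_notMem (hpos : ∀ n : ℤ, n < 0 → 𝒜 n = ⊥) (m : HomogeneousIdeal 𝒜)
    (hm : GrLC.IsStarLocal 𝒜 m) (a : deg0 𝒜) (ha : (a : R) ∉ m.toIdeal) : IsUnit a := by
  classical
  let Q : Ideal R := Ideal.span {(a : R)} ⊔ (irr 𝒜).toIdeal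
  have hQh : Q.IsHomogeneous 𝒜 :=
    Groth.Agent.S17770.isHomogeneous_of_irr_le 𝒜 hpos Q le_sup_right
  have hQtop : Q = ⊤ := by
    by_contra hne
    have := Groth.Agent.Lib.H74GrDim.le_of_isStarLocal 𝒜 hpos m hm Q hQh hne
    exact ha (this (Ideal.mem_sup_left (Ideal.subset_span rfl)))
  have h1 : (1 : R) ∈ Q := by rw [hQtop]; trivial
  obtain ⟨u, hu, c, hc, huc⟩ := Submodule.mem_sup.mp h1
  obtain ⟨b, rfl⟩ := Ideal.mem_span_singleton'.mp hu
  have h0 : (decompose 𝒜 (1 : R) 0 : R) = 1 :=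
    decompose_of_mem_same 𝒜 (SetLike.GradedOne.one_mem)
  have h2 : (decompose 𝒜 (b * (a : R)) 0 : R) = (decompose 𝒜 b 0 : R) * (a : R) := by
    have := decompose_smul_right' 𝒜 𝒜 (show (a : R) ∈ 𝒜 0 from a.2) b 0
    rwa [sub_zero] at this
  have h3 : (decompose 𝒜 b 0 : R) * (a : R) = 1 := by
    rw [← h2, ← h0, ← huc, decompose_add, DirectSum.add_apply, AddSubgroup.coe_add,
      decompose_zero_of_mem_irr 𝒜 hpos hc, add_zero]
  refine IsUnit.of_mul_eq_one (⟨(decompose 𝒜 b 0 : R), (decompose 𝒜 b 0).2⟩ : deg0 𝒜) ?_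
  apply Subtype.ext
  show (a : R) * (decompose 𝒜 b 0 : R) = 1
  rw [mul_comm]; exact h3

theorem isLocalRing_deg0 [Nontrivial R] (hpos : ∀ n : ℤ, n < 0 → 𝒜 n = ⊥)
    (m : HomogeneousIdeal 𝒜) (hm : GrLC.IsStarLocal 𝒜 m) : IsLocalRing (deg0 𝒜) := by
  have hmax : m.toIdeal.IsMaximal := isMaximal_of_isStarLocal 𝒜 hpos m hm
  have hnon : ∀ a : deg0 𝒜, a ∈ nonunits (deg0 𝒜) ↔ (a : R) ∈ m.toIdeal := by
    intro a
    constructor
    · intro ha
      by_contra hcon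
      exact ha (isUnit_deg0_of_notMem 𝒜 hpos m hm a hcon)
    · intro ha hu
      apply hmax.ne_top
      rw [Ideal.eq_top_iff_one]
      obtain ⟨b, hb⟩ := hu.exists_right_inv
      have : (a : R) * (b : R) = 1 := congrArg Subtype.val hb
      rw [← this]
      exact Ideal.mul_mem_right _ _ ha
  refine IsLocalRing.of_nonunits_add ?_
  intro a b ha hb
  rw [hnon] at ha hb ⊢
  exact add_mem ha hb

theorem mem_maximalIdeal_deg0_iff [Nontrivial R] (hpos : ∀ n : ℤ, n < 0 → 𝒜 n = ⊥)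
    (m : HomogeneousIdeal 𝒜) (hm : GrLC.IsStarLocal 𝒜 m) [IsLocalRing (deg0 𝒜)] (a : deg0 𝒜) :
    a ∈ maximalIdeal (deg0 𝒜) ↔ (a : R) ∈ m.toIdeal := by
  have hmax : m.toIdeal.IsMaximal := isMaximal_of_isStarLocal 𝒜 hpos m hm
  rw [IsLocalRing.mem_maximalIdeal]
  constructor
  · intro ha
    by_contra hcon
    exact ha (isUnit_deg0_of_notMem 𝒜 hpos m hm a hcon)
  · intro ha hu
    apply hmax.ne_top
    rw [Ideal.eq_top_iff_one]
    obtain ⟨b, hb⟩ := hu.exists_right_inv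
    have : (a : R) * (b : R) = 1 := congrArg Subtype.val hb
    rw [← this]
    exact Ideal.mul_mem_right _ _ ha

theorem infinite_residueField [Nontrivial R] (hpos : ∀ n : ℤ, n < 0 → 𝒜 n = ⊥)
    (m : HomogeneousIdeal 𝒜) (hm : GrLC.IsStarLocal 𝒜 m) [IsLocalRing (deg0 𝒜)]
    (hinf : Infinite (R ⧸ m.toIdeal)) : Infinite (ResidueField (deg0 𝒜)) := by
  let φ : (deg0 𝒜) →+* R ⧸ m.toIdeal :=
    (Ideal.Quotient.mk m.toIdeal).comp (deg0 𝒜).subtype
  have hφ : Function.Surjective φ := by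
    intro y
    obtain ⟨r, rfl⟩ := Ideal.Quotient.mk_surjective y
    refine ⟨⟨(decompose 𝒜 r 0 : R), (decompose 𝒜 r 0).2⟩, ?_⟩
    show Ideal.Quotient.mk _ (decompose 𝒜 r 0 : R) = Ideal.Quotient.mk _ r
    rw [eq_comm, Ideal.Quotient.eq]
    exact Groth.Agent.S17770.irr_le_of_isStarLocal 𝒜 hpos m hm
      (sub_decompose_zero_mem_irr 𝒜 hpos r)
  let ψ : ResidueField (deg0 𝒜) →+* R ⧸ m.toIdeal :=
    Ideal.Quotient.lift (maximalIdeal (deg0 𝒜)) φ (by
      intro a ha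
      rw [mem_maximalIdeal_deg0_iff 𝒜 hpos m hm] at ha
      exact Ideal.Quotient.eq_zero_iff_mem.mpr ha)
  have hψ : Function.Surjective ψ := Ideal.Quotient.lift_surjective_of_surjective _ _ hφ
  exact Infinite.of_surjective ψ hψ

end Deg0


section Regular

open RingTheory.Sequence

variable {R : Type u} [CommRing R] [IsNoetherianRing R] (𝒜 : ℤ → AddSubgroup R) [GradedRing 𝒜]
  [IsArtinianRing (deg0 𝒜)]

/-- one linear regular element. -/
theorem exists_linear_regular_elt [Nontrivial R] (hpos : ∀ n : ℤ, n < 0 → 𝒜 n = ⊥)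
    (hstd : Ideal.span (⋃ n ∈ Set.Ioi (0 : ℤ), (𝒜 n : Set R)) =
      Ideal.span ((𝒜 1 : AddSubgroup R) : Set R))
    (m : HomogeneousIdeal 𝒜) (hm : GrLC.IsStarLocal 𝒜 m) (hinf : Infinite (R ⧸ m.toIdeal))
    (M : Type u) [AddCommGroup M] [Module R M] [Module.Finite R M]
    (hne : m.toIdeal • (⊤ : Submodule R M) ≠ ⊤)
    (hdepth : (1 : ℕ∞) ≤ LocCoh.idealDepth m.toIdeal M) :
    ∃ z ∈ 𝒜 1, IsSMulRegular M z := by
  classical
  haveI := isLocalRing_deg0 𝒜 hpos m hm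
  have hinf' := infinite_residueField 𝒜 hpos m hm hinf
  -- a regular element in `m`
  obtain ⟨rs, hlen, hmem, hreg⟩ :=
    (Groth.Agent.Lib.DepthRees.natCast_le_idealDepth_iff m.toIdeal M hne 1).mp
      (by exact_mod_cast hdepth)
  obtain ⟨x, rfl⟩ : ∃ x, rs = [x] := List.length_eq_one_iff.mp hlen
  have hxm : x ∈ m.toIdeal := hmem x (by simp)
  have hxreg : IsSMulRegular M x := ((isWeaklyRegular_cons_iff M x []).mp hreg).1
  have hfin : (associatedPrimes R M).Finite := associatedPrimes.finite R M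
  haveI : Finite ↥(associatedPrimes R M) := hfin.to_subtype
  have hnotle : ∀ p ∈ associatedPrimes R M, ∃ w ∈ 𝒜 1, w ∉ p := by
    intro p hp
    by_contra hcon
    push Not at hcon
    haveI : p.IsPrime := hp.isPrime
    have hirr : (irr 𝒜).toIdeal ≤ p := by
      show Ideal.span (⋃ n ∈ Set.Ioi (0 : ℤ), (𝒜 n : Set R)) ≤ p
      rw [hstd, Ideal.span_le]
      exact fun w hw => hcon w hw
    have hpmax := isMaximal_of_irr_le 𝒜 hpos p hirr
    have hpm := Groth.Agent.S17770.eq_of_isMaximal_of_irr_le 𝒜 hpos m hm p hpmax hirr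
    have hxp : x ∈ p := hpm ▸ hxm
    have hx2 : x ∈ ⋃ p ∈ associatedPrimes R M, (p : Set R) :=
      Set.mem_iUnion₂.mpr ⟨p, hp, hxp⟩
    rw [biUnion_associatedPrimes_eq_compl_regular] at hx2
    exact hx2 hxreg
  -- avoidance in `R_1`
  haveI : IsNoetherian (deg0 𝒜) (comp 𝒜 𝒜 1) := Groth.Agent.Lib.H74GrFin.isNoetherian_comp 𝒜 𝒜 1
  have hFG : (comp 𝒜 𝒜 1).FG := Module.Finite.iff_fg.mp (Module.IsNoetherian.finite _ _)
  let U : ↥(associatedPrimes R M) → Submodule (deg0 𝒜) (comp 𝒜 𝒜 1) := fun p =>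
    (p.1.restrictScalars (deg0 𝒜)).comap (comp 𝒜 𝒜 1).subtype
  have hU : ∀ p, U p ≠ ⊤ := by
    intro p htop
    obtain ⟨w, hw, hwp⟩ := hnotle p.1 p.2
    apply hwp
    have : (⟨w, hw⟩ : comp 𝒜 𝒜 1) ∈ U p := by rw [htop]; trivial
    exact this
  obtain ⟨z, hz⟩ := exists_notMem_of_finite (comp 𝒜 𝒜 1) hinf' hFG U hU
  refine ⟨(z : R), z.2, ?_⟩
  by_contra hzreg
  have hz2 : (z : R) ∈ ({ r : R | IsSMulRegular M r }ᶜ : Set R) := hzreg
  rw [← biUnion_associatedPrimes_eq_compl_regular] at hz2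
  obtain ⟨p, hp, hzp⟩ := Set.mem_iUnion₂.mp hz2
  exact hz ⟨p, hp⟩ hzp

/-- a linear regular sequence of length `k` when the depth is at least `k`. -/
theorem exists_linear_regular [Nontrivial R] (hpos : ∀ n : ℤ, n < 0 → 𝒜 n = ⊥)
    (hstd : Ideal.span (⋃ n ∈ Set.Ioi (0 : ℤ), (𝒜 n : Set R)) =
      Ideal.span ((𝒜 1 : AddSubgroup R) : Set R))
    (m : HomogeneousIdeal 𝒜) (hm : GrLC.IsStarLocal 𝒜 m) (hinf : Infinite (R ⧸ m.toIdeal))
    (k : ℕ) : ∀ (M : Type u) [AddCommGroup M] [Module R M] [Module.Finite R M],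
    m.toIdeal • (⊤ : Submodule R M) ≠ ⊤ → (k : ℕ∞) ≤ LocCoh.idealDepth m.toIdeal M →
    ∃ rs : List R, rs.length = k ∧ (∀ r ∈ rs, r ∈ 𝒜 1) ∧ IsWeaklyRegular M rs := by
  induction k with
  | zero =>
    intro M _ _ _ _ _
    exact ⟨[], rfl, by simp, IsWeaklyRegular.nil R M⟩
  | succ k ih =>
    intro M _ _ _ hne hdepth
    have h1 : (1 : ℕ∞) ≤ LocCoh.idealDepth m.toIdeal M := by
      refine le_trans ?_ hdepth
      exact_mod_cast Nat.succ_le_succ (Nat.zero_le k)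
    obtain ⟨z, hz1, hzreg⟩ := exists_linear_regular_elt 𝒜 hpos hstd m hm hinf M hne h1
    have hzm : z ∈ m.toIdeal := by
      apply Groth.Agent.S17770.irr_le_of_isStarLocal 𝒜 hpos m hm
      exact Ideal.subset_span (Set.mem_iUnion₂.mpr ⟨1, by show (0 : ℤ) < 1; norm_num, hz1⟩)
    have hne' := Groth.Agent.Lib.DepthRees.smul_top_quotSMulTop_ne_top hzm hne
    have hd := Groth.Agent.Lib.DepthRees.idealDepth_quotSMulTop_add_one m.toIdeal M hne hzm hzreg
    have hdepth' : (k : ℕ∞) ≤ LocCoh.idealDepth m.toIdeal (QuotSMulTop z M) := by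
      rw [← hd] at hdepth
      push_cast at hdepth
      exact (ENat.add_le_add_iff_right ENat.one_ne_top).mp hdepth
    obtain ⟨rs, hlen, hmem, hreg⟩ := ih (QuotSMulTop z M) hne' hdepth'
    refine ⟨z :: rs, by simp [hlen], ?_, ?_⟩
    · intro r hr
      rcases List.mem_cons.mp hr with rfl | hr
      · exact hz1
      · exact hmem r hr
    · exact (isWeaklyRegular_cons_iff M z rs).mpr ⟨hzreg, hreg⟩

end Regular


section HilbSeq

open RingTheory.Sequence

variable {R : Type u} [CommRing R] (𝒜 : ℤ → AddSubgroup R) [GradedRing 𝒜]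

theorem length_comp_eq_zero_of_bot {M : Type u} [AddCommGroup M] [Module R M]
    (ℳ : ℤ → AddSubgroup M) [SetLike.GradedSMul 𝒜 ℳ] {n : ℤ} (h : ℳ n = ⊥) :
    Module.length (deg0 𝒜) (comp 𝒜 ℳ n) = 0 := by
  rw [Module.length_eq_zero_iff]
  refine ⟨fun x y => Subtype.ext ?_⟩
  have hx : (x : M) ∈ ℳ n := x.2
  have hy : (y : M) ∈ ℳ n := y.2
  rw [h, AddSubgroup.mem_bot] at hx hy
  rw [hx, hy]

/-- Along a linear regular sequence of length `k` on a graded module with the Hilbert function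
`c · multichoose k n`, the degree one piece lies in `(rs) M`. -/
theorem mem_ofList_smul_of_hilb (k : ℕ) : ∀ (M : Type u) [AddCommGroup M] [Module R M]
    (ℳ : ℤ → AddSubgroup M) [Decomposition ℳ] [SetLike.GradedSMul 𝒜 ℳ] (rs : List R),
    rs.length = k → (∀ r ∈ rs, r ∈ 𝒜 1) → IsWeaklyRegular M rs → ∀ (c : ℕ∞), c ≠ ⊤ →
    (∀ n : ℤ, n < 0 → ℳ n = ⊥) →
    (∀ n : ℕ, Module.length (deg0 𝒜) (comp 𝒜 ℳ (n : ℤ)) = (Nat.multichoose k n : ℕ∞) * c) →
    ∀ x ∈ ℳ 1, x ∈ (Ideal.ofList rs • ⊤ : Submodule R M) := by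
  induction k with
  | zero =>
    intro M _ _ ℳ _ _ rs hlen _ _ c _ _ hH x hx
    have h1 := hH 1
    rw [Nat.multichoose_zero_succ, Nat.cast_zero, zero_mul, Module.length_eq_zero_iff] at h1
    have : (⟨x, hx⟩ : comp 𝒜 ℳ ((1 : ℕ) : ℤ)) = 0 := Subsingleton.elim _ _
    have hx0 : x = 0 := congrArg Subtype.val this
    rw [hx0]
    exact zero_mem _
  | succ k ih =>
    intro M _ _ ℳ _ _ rs hlen hmem hreg c hc hneg hH x hx
    obtain ⟨z, rs', rfl⟩ : ∃ z rs', rs = z :: rs' := by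
      cases rs with
      | nil => simp at hlen
      | cons z rs' => exact ⟨z, rs', rfl⟩
    have hlen' : rs'.length = k := by simpa using hlen
    obtain ⟨hzreg, hreg'⟩ := (isWeaklyRegular_cons_iff M z rs').mp hreg
    have hz1 : z ∈ 𝒜 1 := hmem z (by simp)
    set P : Submodule R M := z • (⊤ : Submodule R M) with hP
    have hPrange : P = LinearMap.range (z • (LinearMap.id : M →ₗ[R] M)) := by
      ext w
      rw [hP, Submodule.mem_smul_pointwise_iff_exists]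
      constructor
      · rintro ⟨b, -, rfl⟩; exact ⟨b, rfl⟩
      · rintro ⟨b, rfl⟩; exact ⟨b, trivial, rfl⟩
    haveI : GrQuot.IsHomogSub ℳ P := by
      rw [GrQuot.isHomogSub_iff, hPrange]
      exact Groth.Agent.Lib.H74GrReg.isHomogeneous_range_smul hz1
    -- Hilbert function of the quotient
    have hπ : IsGrHom ℳ (GrQuot.quotM ℳ P) P.mkQ := fun g w hw => GrQuot.mk_mem_quotM ℳ P hw
    have hcount := fun n : ℤ => Groth.Agent.Lib.H74GrSerre.hilb_count (𝒜 := 𝒜) (ℳ := ℳ)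
      (𝒩 := GrQuot.quotM ℳ P) hz1 hzreg hπ (Submodule.mkQ_surjective P)
      (by rw [Submodule.ker_mkQ, hPrange]) n
    have hneg' : ∀ n : ℤ, n < 0 → GrQuot.quotM ℳ P n = ⊥ := by
      intro n hn
      rw [eq_bot_iff]
      rintro w ⟨v, hv, rfl⟩
      have hv' : v ∈ ℳ n := hv
      rw [hneg n hn, AddSubgroup.mem_bot] at hv'
      rw [hv']
      simp
    have hH' : ∀ n : ℕ, Module.length (deg0 𝒜) (comp 𝒜 (GrQuot.quotM ℳ P) (n : ℤ)) =
        (Nat.multichoose k n : ℕ∞) * c := by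
      intro n
      cases n with
      | zero =>
        have h1 := hcount ((0 : ℕ) : ℤ)
        rw [hH 0, length_comp_eq_zero_of_bot 𝒜 ℳ (hneg _ (by norm_num)), zero_add] at h1
        rw [← h1, Nat.multichoose_zero_right, Nat.multichoose_zero_right]
      | succ j =>
        have h1 := hcount ((j + 1 : ℕ) : ℤ)
        have e1 : ((j + 1 : ℕ) : ℤ) - 1 = (j : ℤ) := by push_cast; ring
        rw [e1, hH (j + 1), hH j, Nat.multichoose_succ_succ] at h1
        push_cast at h1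
        rw [add_mul, add_comm] at h1
        have hfin : (Nat.multichoose (k + 1) j : ℕ∞) * c ≠ ⊤ :=
          WithTop.mul_ne_top (ENat.natCast_ne_top _) hc
        exact ((ENat.add_right_injective_of_ne_top hfin) h1).symm
    have key := ih (QuotSMulTop z M) (GrQuot.quotM ℳ P) rs' hlen'
      (fun r hr => hmem r (List.mem_cons_of_mem _ hr)) hreg' c hc hneg' hH'
      (Submodule.Quotient.mk x) (GrQuot.mk_mem_quotM ℳ P hx)
    -- pull back
    have hmap : (Ideal.ofList rs' • ⊤ : Submodule R (QuotSMulTop z M)) =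
        (Ideal.ofList rs' • ⊤ : Submodule R M).map P.mkQ := by
      rw [Submodule.map_smul'', Submodule.map_top, Submodule.range_mkQ]
    rw [hmap] at key
    obtain ⟨w, hw, hwx⟩ := key
    have hsub : x - w ∈ P := by
      have : P.mkQ (x - w) = 0 := by
        rw [map_sub, hwx]
        exact sub_self _
      rwa [Submodule.mkQ_apply, Submodule.Quotient.mk_eq_zero] at this
    rw [Ideal.ofList_cons, Submodule.sup_smul, Submodule.ideal_span_singleton_smul]
    have : x = (x - w) + w := by abel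
    rw [this]
    exact Submodule.add_mem_sup hsub hw

end HilbSeq


section Final

variable {R : Type u} [CommRing R] [LocCoh.IsCohenMacaulayRing R] (𝒜 : ℤ → AddSubgroup R)
  [GradedRing 𝒜] [IsArtinianRing (deg0 𝒜)]

/-- `a(R) = -dim R` with infinite residue field implies `R = R_0[T_1, …, T_d]`. -/
theorem exists_algEquiv_of_endDeg (hpos : ∀ n : ℤ, n < 0 → 𝒜 n = ⊥)
    (hstd : Ideal.span (⋃ n ∈ Set.Ioi (0 : ℤ), (𝒜 n : Set R)) =
      Ideal.span ((𝒜 1 : AddSubgroup R) : Set R))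
    (m : HomogeneousIdeal 𝒜) (hm : GrLC.IsStarLocal 𝒜 m) (hinf : Infinite (R ⧸ m.toIdeal))
    (d : ℕ) (hd : ringKrullDim R = d) (I : GrLC.StarInjRes 𝒜 𝒜)
    (ha : GrLC.endDeg (I.Hgr m d) = (((-(d : ℤ) : ℤ) : WithTop ℤ) : WithBot (WithTop ℤ))) :
    ∃ e : MvPolynomial (Fin d) (GrLC.deg0 𝒜) ≃ₐ[GrLC.deg0 𝒜] R,
      ∀ t : Fin d, e (MvPolynomial.X t) ∈ 𝒜 1 := by
  classical
  have : IsNoetherianRing R := inferInstance
  haveI : Nontrivial R := nontrivial_of_dim hd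
  have hH := hilb_eq_of_endDeg 𝒜 hpos hstd m hm d hd I ha
  have hfin : ∀ n : ℤ, Module.length (deg0 𝒜) (comp 𝒜 𝒜 n) ≠ ⊤ :=
    fun n => Groth.Agent.Lib.H74GrSerre.length_comp_ne_top 𝒜 𝒜 n
  have hc : Module.length (deg0 𝒜) (deg0 𝒜) ≠ ⊤ := Module.length_ne_top
  have hlen : ∀ n : ℕ, Module.length (deg0 𝒜) (comp 𝒜 𝒜 (n : ℤ)) =
      (Nat.multichoose d n : ℕ∞) * Module.length (deg0 𝒜) (deg0 𝒜) := by
    intro n
    have h1 := hH n
    unfold hilb at h1
    rw [← ENat.natCast_toNat (hfin n), h1, ← length_comp_zero, ← ENat.natCast_toNat (hfin 0)]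
    push_cast
    rw [mul_comm]
    rfl
  have hmax : m.toIdeal.IsMaximal := isMaximal_of_isStarLocal 𝒜 hpos m hm
  have hne : m.toIdeal • (⊤ : Submodule R R) ≠ ⊤ :=
    Groth.Agent.Lib.H8CM.smul_top_self_ne_top hmax.ne_top
  have hdepth := Groth.Agent.Lib.H74GrCM.idealDepth_eq_dim 𝒜 hpos m hm d hd
  obtain ⟨rs, hrl, hmem, hreg⟩ := exists_linear_regular 𝒜 hpos hstd m hm hinf d R hne
    (le_of_eq hdepth.symm)
  have key := mem_ofList_smul_of_hilb 𝒜 d R 𝒜 rs hrl hmem hreg _ hc hpos hlen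
  let y : Fin d → R := fun t => rs.get (Fin.cast hrl.symm t)
  have hy : ∀ t, y t ∈ 𝒜 1 := fun t => hmem _ (List.get_mem _ _)
  have hgen : ∀ x ∈ 𝒜 1, x ∈ Submodule.span (deg0 𝒜) (Set.range y) := by
    intro x hx
    have h1 := key x hx
    rw [smul_eq_mul, Ideal.mul_top] at h1
    have h2 : x ∈ Ideal.span (Set.range y) := by
      refine (Ideal.span_mono ?_) h1
      intro r hr
      obtain ⟨i, rfl⟩ := List.mem_iff_get.mp hr
      exact ⟨Fin.cast hrl i, by simp [y]⟩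
    obtain ⟨b, hb⟩ := (Ideal.mem_span_range_iff_exists_fun).mp h2
    have hx' : x ∈ 𝒜 ((0 : ℤ) + 1) := by rwa [zero_add]
    have hkey : x = ∑ t, (decompose 𝒜 (b t) 0 : R) * y t := by
      calc x = (decompose 𝒜 x ((0 : ℤ) + 1) : R) := (decompose_of_mem_same 𝒜 hx').symm
        _ = (decompose 𝒜 (∑ t, b t * y t) ((0 : ℤ) + 1) : R) := by rw [hb]
        _ = ∑ t, (decompose 𝒜 (b t * y t) ((0 : ℤ) + 1) : R) := by
            rw [decompose_sum, DFinsupp.finsetSum_apply, AddSubmonoidClass.coe_finsetSum]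
        _ = ∑ t, (decompose 𝒜 (b t) 0 : R) * y t := by
            refine Finset.sum_congr rfl fun t _ => ?_
            have h := decompose_smul_right' 𝒜 𝒜 (hy t) (b t) ((0 : ℤ) + 1)
            rw [add_sub_cancel_right] at h
            exact h
    rw [hkey]
    refine Submodule.sum_mem _ fun t _ => ?_
    have : (decompose 𝒜 (b t) 0 : R) * y t =
        (⟨(decompose 𝒜 (b t) 0 : R), (decompose 𝒜 (b t) 0).2⟩ : deg0 𝒜) • y t := rfl
    rw [this]
    exact Submodule.smul_mem _ _ (Submodule.subset_span ⟨t, rfl⟩)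
  have hsurj := aeval_surjective 𝒜 y hpos hstd hy hgen
  have hinj := aeval_injective 𝒜 y hpos hstd hy hgen hc hlen
  refine ⟨AlgEquiv.ofBijective _ ⟨hinj, hsurj⟩, fun t => ?_⟩
  rw [AlgEquiv.ofBijective_apply, MvPolynomial.aeval_X]
  exact hy t

end Final

end Groth.Agent.Lib.GrHilbSamuel5
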