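import Groth.Agent.Lib.NoethSerre
import Mathlib.Algebra.BigOperators.Fin

/-!
# An abstract Hilbert basis theorem

In an abelian category, let `G = (G_q)_{q ∈ ℕ}` be a graded object with `r` commuting operators
`T_j : G_q ⟶ G_{q+1}` such that `G` is generated in degree `0` (`G_{q+1} = ∑_j T_j G_q`).
If `G_0` is Noetherian, every increasing sequence of graded subobjects stable under the `T_j` is
stationary.
-/

namespace Groth.Agent.Lib.GrHilbert

open CategoryTheory CategoryTheory.Limits Groth.Agent.Lib.H86SubobjElem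

universe v u

variable {𝒜 : Type u} [Category.{v} 𝒜] [Abelian 𝒜]

/-- Graded families of subobjects. -/
abbrev Fam (G : ℕ → 𝒜) := ∀ q : ℕ, Subobject (G q)

section OneOperator

variable {G : ℕ → 𝒜} (T : ∀ q : ℕ, G q ⟶ G (q + 1))

/-- The preimage family `(T⁻¹ N)_q = T_q⁻¹(N_{q+1})`. -/
noncomputable def D (N : Fam G) : Fam G := fun q => (Subobject.pullback (T q)).obj (N (q + 1))

theorem D_factors_iff (N : Fam G) (q : ℕ) {W : 𝒜} (x : W ⟶ G q) :
    (D T N q).Factors x ↔ (N (q + 1)).Factors (x ≫ T q) :=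
  pullback_factors_iff (T q) (N (q + 1)) x

/-- Stability of a graded family under the operator. -/
def Stable (N : Fam G) : Prop := N ≤ D T N

theorem stable_iff (N : Fam G) :
    Stable T N ↔ ∀ (q : ℕ) (W : 𝒜) (x : W ⟶ G q), (N q).Factors x →
      (N (q + 1)).Factors (x ≫ T q) := by
  constructor
  · intro h q W x hx
    rw [← D_factors_iff]
    exact Subobject.factors_of_le x (h q) hx
  · intro h q
    rw [le_iff_forall_factors]
    intro W x hx
    rw [D_factors_iff]
    exact h q W x hx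

theorem D_mono {N N' : Fam G} (h : N ≤ N') : D T N ≤ D T N' :=
  fun q => (Subobject.pullback (T q)).monotone (h (q + 1))

theorem iterate_D_mono (k : ℕ) {N N' : Fam G} (h : N ≤ N') : (D T)^[k] N ≤ (D T)^[k] N' := by
  induction k generalizing N N' with
  | zero => exact h
  | succ k ih =>
    rw [Function.iterate_succ_apply, Function.iterate_succ_apply]
    exact ih (D_mono T h)

theorem stable_D {N : Fam G} (h : Stable T N) : Stable T (D T N) := D_mono T h

theorem stable_iterate_D (k : ℕ) {N : Fam G} (h : Stable T N) : Stable T ((D T)^[k] N) := by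
  induction k generalizing N with
  | zero => exact h
  | succ k ih =>
    rw [Function.iterate_succ_apply]
    exact ih (stable_D T h)

theorem iterate_D_le_succ (k : ℕ) {N : Fam G} (h : Stable T N) :
    (D T)^[k] N ≤ (D T)^[k + 1] N := by
  rw [Function.iterate_succ_apply']
  exact stable_iterate_D T k h

theorem iterate_D_le_of_le {k k' : ℕ} (hk : k ≤ k') {N : Fam G} (h : Stable T N) :
    (D T)^[k] N ≤ (D T)^[k'] N := by
  induction hk with
  | refl => exact le_rfl
  | step _ ih => exact ih.trans (iterate_D_le_succ T _ h)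

/-- The quotient graded object `G / T G`. -/
noncomputable def Gbar : ℕ → 𝒜
  | 0 => G 0
  | q + 1 => cokernel (T q)

/-- The projection `G ⟶ G / T G`. -/
noncomputable def proj : ∀ q : ℕ, G q ⟶ Gbar T q
  | 0 => 𝟙 (G 0)
  | q + 1 => cokernel.π (T q)

instance (q : ℕ) : Epi (proj T q) := by
  cases q with
  | zero => exact inferInstanceAs (Epi (𝟙 (G 0)))
  | succ q => exact inferInstanceAs (Epi (cokernel.π (T q)))

@[reassoc]
theorem T_proj (q : ℕ) : T q ≫ proj T (q + 1) = 0 := cokernel.condition (T q)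

/-- Elements killed by the projection in positive degree come from `T`. -/
theorem exists_of_proj_eq_zero (q : ℕ) {W : 𝒜} (z : W ⟶ G (q + 1))
    (hz : z ≫ proj T (q + 1) = 0) :
    ∃ (W' : 𝒜) (π : W' ⟶ W) (_ : Epi π) (g : W' ⟶ G q), π ≫ z = g ≫ T q := by
  have hex : (ShortComplex.mk (T q) (cokernel.π (T q)) (cokernel.condition _)).Exact :=
    ShortComplex.exact_cokernel _
  exact hex.exact_up_to_refinements z hz

/-- The image of a graded family in `G / T G`. -/
noncomputable def L (N : Fam G) : Fam (Gbar T) :=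
  fun q => imageSubobject ((N q).arrow ≫ proj T q)

theorem L_factors_iff (N : Fam G) (q : ℕ) {W : 𝒜} (y : W ⟶ Gbar T q) :
    (L T N q).Factors y ↔ ∃ (W' : 𝒜) (π : W' ⟶ W) (_ : Epi π) (x : W' ⟶ G q),
      (N q).Factors x ∧ π ≫ y = x ≫ proj T q := by
  rw [L, imageSubobject_factors_iff]
  constructor
  · rintro ⟨W', π, hπ, x', hx'⟩
    exact ⟨W', π, hπ, x' ≫ (N q).arrow, Subobject.factors_comp_arrow x', by
      rw [hx', Category.assoc]⟩
  · rintro ⟨W', π, hπ, x, hx, hxy⟩
    refine ⟨W', π, hπ, (N q).factorThru x hx, ?_⟩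
    rw [← Category.assoc, Subobject.factorThru_arrow, hxy]

theorem L_mono {N N' : Fam G} (h : N ≤ N') : L T N ≤ L T N' := by
  intro q
  rw [le_iff_forall_factors]
  intro W y hy
  rw [L_factors_iff] at hy ⊢
  obtain ⟨W', π, hπ, x, hx, hxy⟩ := hy
  exact ⟨W', π, hπ, x, Subobject.factors_of_le x (h q) hx, hxy⟩

/-- Comparison: two families `N ≤ N'` with the same leading-coefficient families are equal. -/
theorem iterate_D_le_of_L_eq {N N' : Fam G} (h : N ≤ N')
    (hL : ∀ k : ℕ, L T ((D T)^[k] N') ≤ L T ((D T)^[k] N)) :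
    ∀ (m k : ℕ), (D T)^[k] N' m ≤ (D T)^[k] N m := by
  intro m
  induction m with
  | zero =>
    intro k
    rw [le_iff_forall_factors]
    intro W x hx
    have h1 : (L T ((D T)^[k] N') 0).Factors (x ≫ proj T 0) := by
      rw [L_factors_iff]
      exact ⟨W, 𝟙 W, inferInstance, x, hx, Category.id_comp _⟩
    have h2 := Subobject.factors_of_le _ (hL k 0) h1
    rw [L_factors_iff] at h2
    obtain ⟨W', π, hπ, x', hx', hxx'⟩ := h2
    have e : π ≫ x = x' := by
      have e2 : π ≫ x ≫ 𝟙 (G 0) = x' ≫ 𝟙 (G 0) := hxx'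
      rw [Category.comp_id, Category.comp_id] at e2
      exact e2
    apply factors_of_epi_comp _ π x
    rw [e]; exact hx'
  | succ m ih =>
    intro k
    rw [le_iff_forall_factors]
    intro W x hx
    have h1 : (L T ((D T)^[k] N') (m + 1)).Factors (x ≫ proj T (m + 1)) := by
      rw [L_factors_iff]
      exact ⟨W, 𝟙 W, inferInstance, x, hx, Category.id_comp _⟩
    have h2 := Subobject.factors_of_le _ (hL k (m + 1)) h1
    rw [L_factors_iff] at h2
    obtain ⟨W₁, π₁, hπ₁, x', hx', hxx'⟩ := h2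
    have hz : (π₁ ≫ x - x') ≫ proj T (m + 1) = 0 := by
      rw [Preadditive.sub_comp, sub_eq_zero, Category.assoc]
      exact hxx'
    obtain ⟨W₂, π₂, hπ₂, g, hg⟩ := exists_of_proj_eq_zero T m _ hz
    -- `g ≫ T m` lies in `D^k N'`
    have hx'' : ((D T)^[k] N' (m + 1)).Factors x' :=
      Subobject.factors_of_le x' (iterate_D_mono T k h (m + 1)) hx'
    have hgT' : ((D T)^[k] N' (m + 1)).Factors (g ≫ T m) := by
      rw [← hg, Preadditive.comp_sub, sub_eq_add_neg]
      apply Subobject.factors_add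
      · rw [← Category.assoc]
        exact Subobject.factors_of_factors_right _ hx
      · rw [← Preadditive.neg_comp]
        exact Subobject.factors_of_factors_right _ hx''
    have hg' : ((D T)^[k + 1] N' m).Factors g := by
      rw [Function.iterate_succ_apply', D_factors_iff]
      exact hgT'
    have hg'' : ((D T)^[k + 1] N m).Factors g := Subobject.factors_of_le g (ih (k + 1)) hg'
    have hgT : ((D T)^[k] N (m + 1)).Factors (g ≫ T m) := by
      rw [Function.iterate_succ_apply', D_factors_iff] at hg''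
      exact hg''
    -- conclude
    apply factors_of_epi_comp _ (π₂ ≫ π₁) x
    have e : (π₂ ≫ π₁) ≫ x = g ≫ T m + π₂ ≫ x' := by
      rw [← hg, Preadditive.comp_sub, Category.assoc]
      abel
    rw [e]
    exact Subobject.factors_add _ _ hgT (Subobject.factors_of_factors_right _ hx')

theorem le_of_L_le {N N' : Fam G} (h : N ≤ N')
    (hL : ∀ k : ℕ, L T ((D T)^[k] N') ≤ L T ((D T)^[k] N)) : N' ≤ N :=
  fun m => iterate_D_le_of_L_eq T h hL m 0

end OneOperator

section Diagonal

/-- The diagonal argument: a doubly monotone family in an order where the relevant monotone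
sequences are stationary is eventually constant in the first variable, uniformly in the second. -/
theorem diag {α : Type*} [PartialOrder α] (P : ℕ → ℕ → α)
    (h₁ : ∀ k, Monotone (fun i => P i k)) (h₂ : ∀ i, Monotone (P i))
    (hacc : ∀ f : ℕ → α, Monotone f → (∀ n, ∃ i k, f n = P i k) →
      ∃ n₀, ∀ n, n₀ ≤ n → f n = f n₀) :
    ∃ i₁, ∀ i, i₁ ≤ i → ∀ k, P i k = P i₁ k := by
  -- the diagonal stabilizes
  obtain ⟨i₀, hi₀⟩ := hacc (fun i => P i i)
    (fun i i' h => (h₁ i h).trans (h₂ i' h)) (fun n => ⟨n, n, rfl⟩)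
  -- finitely many columns stabilize
  have hfin : ∀ K : ℕ, ∃ I, ∀ k, k < K → ∀ i, I ≤ i → P i k = P I k := by
    intro K
    induction K with
    | zero => exact ⟨0, fun k hk => absurd hk (Nat.not_lt_zero k)⟩
    | succ K ih =>
      obtain ⟨I, hI⟩ := ih
      obtain ⟨I', hI'⟩ := hacc (fun i => P i K) (h₁ K) (fun n => ⟨n, K, rfl⟩)
      refine ⟨max I I', fun k hk i hi => ?_⟩
      rcases Nat.lt_succ_iff_lt_or_eq.mp hk with hk' | rfl
      · rw [hI k hk' i ((le_max_left _ _).trans hi), hI k hk' _ (le_max_left _ _)]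
      · have e1 : P i k = P I' k := hI' i ((le_max_right _ _).trans hi)
        have e2 : P (max I I') k = P I' k := hI' _ (le_max_right _ _)
        rw [e1, e2]
  obtain ⟨I, hI⟩ := hfin i₀
  refine ⟨max i₀ I, fun i hi k => ?_⟩
  have hi₀' : i₀ ≤ i := (le_max_left _ _).trans hi
  have hI' : I ≤ i := (le_max_right _ _).trans hi
  by_cases hk : k < i₀
  · rw [hI k hk i hI', hI k hk _ (le_max_right _ _)]
  · have hk' : i₀ ≤ k := not_lt.mp hk
    -- everything equals the stable diagonal value
    have key : ∀ i', i₀ ≤ i' → P i' k = P i₀ i₀ := by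
      intro i' hi'
      apply le_antisymm
      · have e : P (max i' k) (max i' k) = P i₀ i₀ := hi₀ _ (hi'.trans (le_max_left _ _))
        rw [← e]
        exact (h₁ k (le_max_left i' k)).trans (h₂ _ (le_max_right i' k))
      · exact (h₁ i₀ hi').trans (h₂ i' hk')
    rw [key i hi₀', key _ (le_max_left _ _)]

end Diagonal

section Step

variable {G : ℕ → 𝒜} (T : ∀ q : ℕ, G q ⟶ G (q + 1))

/-- One step of the induction: ACC for stable families follows from ACC for (a class containing)
their leading-coefficient families in `G / T G`. -/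
theorem acc_step (Adm : Fam (Gbar T) → Prop)
    (hacc : ∀ f : ℕ → Fam (Gbar T), Monotone f → (∀ n, Adm (f n)) →
      ∃ n₀, ∀ n, n₀ ≤ n → f n = f n₀)
    (N : ℕ → Fam G) (hN : Monotone N) (hst : ∀ i, Stable T (N i))
    (hP : ∀ i k, Adm (L T ((D T)^[k] (N i)))) :
    ∃ i₀, ∀ i, i₀ ≤ i → N i = N i₀ := by
  obtain ⟨i₁, hi₁⟩ := diag (fun i k => L T ((D T)^[k] (N i)))
    (fun k i i' h => L_mono T (iterate_D_mono T k (hN h)))
    (fun i k k' h => L_mono T (iterate_D_le_of_le T h (hst i)))
    (fun f hf hfP => hacc f hf (fun n => by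
      obtain ⟨i, k, e⟩ := hfP n
      rw [e]; exact hP i k))
  refine ⟨i₁, fun i hi => le_antisymm ?_ (hN hi)⟩
  exact le_of_L_le T (hN hi) (fun k => le_of_eq (hi₁ i hi k))

end Step

section Several

variable {G : ℕ → 𝒜}

/-- The operator induced on `G / T G` by an operator `S` commuting with `T`. -/
noncomputable def Tbar (T S : ∀ q : ℕ, G q ⟶ G (q + 1))
    (hcomm : ∀ q, T q ≫ S (q + 1) = S q ≫ T (q + 1)) : ∀ q : ℕ, Gbar T q ⟶ Gbar T (q + 1)
  | 0 => S 0 ≫ proj T 1
  | q + 1 => cokernel.desc (T q) (S (q + 1) ≫ proj T (q + 2)) (by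
      rw [← Category.assoc, hcomm q, Category.assoc, T_proj, comp_zero])

@[reassoc]
theorem proj_Tbar (T S : ∀ q : ℕ, G q ⟶ G (q + 1))
    (hcomm : ∀ q, T q ≫ S (q + 1) = S q ≫ T (q + 1)) (q : ℕ) :
    proj T q ≫ Tbar T S hcomm q = S q ≫ proj T (q + 1) := by
  cases q with
  | zero => exact Category.id_comp _
  | succ q => exact cokernel.π_desc _ _ _

theorem stable_D_of_comm (T S : ∀ q : ℕ, G q ⟶ G (q + 1))
    (hcomm : ∀ q, T q ≫ S (q + 1) = S q ≫ T (q + 1)) {N : Fam G} (h : Stable S N) :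
    Stable S (D T N) := by
  rw [stable_iff] at h ⊢
  intro q W x hx
  rw [D_factors_iff] at hx ⊢
  rw [Category.assoc, ← hcomm q, ← Category.assoc]
  exact h (q + 1) W _ hx

theorem stable_iterate_D_of_comm (T S : ∀ q : ℕ, G q ⟶ G (q + 1))
    (hcomm : ∀ q, T q ≫ S (q + 1) = S q ≫ T (q + 1)) (k : ℕ) {N : Fam G} (h : Stable S N) :
    Stable S ((D T)^[k] N) := by
  induction k generalizing N with
  | zero => exact h
  | succ k ih =>
    rw [Function.iterate_succ_apply]
    exact ih (stable_D_of_comm T S hcomm h)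

theorem stable_L (T S : ∀ q : ℕ, G q ⟶ G (q + 1))
    (hcomm : ∀ q, T q ≫ S (q + 1) = S q ≫ T (q + 1)) {N : Fam G} (h : Stable S N) :
    Stable (Tbar T S hcomm) (L T N) := by
  rw [stable_iff] at h ⊢
  intro q W y hy
  rw [L_factors_iff] at hy ⊢
  obtain ⟨W', π, hπ, x, hx, hxy⟩ := hy
  refine ⟨W', π, hπ, x ≫ S q, h q W' x hx, ?_⟩
  rw [reassoc_of% hxy, proj_Tbar, Category.assoc]

/-- Generation in degree zero (refinement form): `G_{q+1} = ∑_j T_j G_q`. -/
def Gen {r : ℕ} (T : Fin r → ∀ q : ℕ, G q ⟶ G (q + 1)) : Prop :=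
  ∀ (q : ℕ) (W : 𝒜) (x : W ⟶ G (q + 1)), ∃ (W' : 𝒜) (π : W' ⟶ W) (_ : Epi π)
    (y : Fin r → (W' ⟶ G q)), π ≫ x = ∑ j, y j ≫ T j q

end Several

/-- The abstract Hilbert basis theorem. -/
theorem acc_of_noetherian : ∀ (r : ℕ) (G : ℕ → 𝒜) (T : Fin r → ∀ q : ℕ, G q ⟶ G (q + 1)),
    (∀ i j q, T i q ≫ T j (q + 1) = T j q ≫ T i (q + 1)) → Gen T → IsNoetherianObject (G 0) →
    ∀ N : ℕ → Fam G, Monotone N → (∀ i j, Stable (T j) (N i)) →
      ∃ i₀, ∀ i, i₀ ≤ i → N i = N i₀ := by
  intro r
  induction r with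
  | zero =>
    intro G T _ hgen hG0 N hN _
    have hz : ∀ q, IsZero (G (q + 1)) := by
      intro q
      rw [IsZero.iff_id_eq_zero]
      obtain ⟨W', π, hπ, y, hy⟩ := hgen q _ (𝟙 (G (q + 1)))
      rw [Finset.univ_eq_empty, Finset.sum_empty] at hy
      rw [← cancel_epi π, hy, comp_zero]
    obtain ⟨n, hn⟩ := monotone_chain_condition_of_isNoetherianObject
      ⟨fun i => N i 0, fun i i' h => hN h 0⟩
    refine ⟨n, fun i hi => ?_⟩
    funext q
    cases q with
    | zero => exact (hn i hi).symm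
    | succ q =>
      have := Subobject.subsingleton_of_isZero (hz q)
      exact Subsingleton.elim _ _
  | succ r ih =>
    intro G T hcomm hgen hG0 N hN hst
    set Tl := T (Fin.last r) with hTl
    have hc : ∀ j : Fin r, ∀ q, Tl q ≫ T j.castSucc (q + 1) = T j.castSucc q ≫ Tl (q + 1) :=
      fun j q => hcomm _ _ q
    set Tb : Fin r → ∀ q : ℕ, Gbar Tl q ⟶ Gbar Tl (q + 1) :=
      fun j => Tbar Tl (T j.castSucc) (hc j) with hTb
    -- commutativity
    have hcb : ∀ i j q, Tb i q ≫ Tb j (q + 1) = Tb j q ≫ Tb i (q + 1) := by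
      intro i j q
      rw [← cancel_epi (proj Tl q), hTb]
      simp only []
      rw [proj_Tbar_assoc, proj_Tbar, proj_Tbar_assoc, proj_Tbar, ← Category.assoc,
        ← Category.assoc, hcomm]
    -- generation
    have hgb : Gen Tb := by
      intro q W x
      obtain ⟨W₁, π₁, hπ₁, x', hx'⟩ := surjective_up_to_refinements_of_epi (proj Tl (q + 1)) x
      obtain ⟨W₂, π₂, hπ₂, y, hy⟩ := hgen q W₁ x'
      refine ⟨W₂, π₂ ≫ π₁, epi_comp _ _, fun j => y j.castSucc ≫ proj Tl q, ?_⟩
      rw [Category.assoc, hx', ← Category.assoc, hy, Preadditive.sum_comp,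
        Fin.sum_univ_castSucc]
      have e : (y (Fin.last r) ≫ T (Fin.last r) q) ≫ proj Tl (q + 1) = 0 := by
        rw [Category.assoc, ← hTl, T_proj, comp_zero]
      rw [e, add_zero]
      apply Finset.sum_congr rfl
      intro j _
      rw [Category.assoc, Category.assoc, hTb]
      simp only []
      rw [proj_Tbar]
    have hG0' : IsNoetherianObject (Gbar Tl 0) := hG0
    apply acc_step Tl (fun P => ∀ j, Stable (Tb j) P)
      (fun f hf hfP => ih (Gbar Tl) Tb hcb hgb hG0' f hf hfP) N hN (fun i => hst i _)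
    intro i k j
    exact stable_L Tl (T j.castSucc) (hc j)
      (stable_iterate_D_of_comm Tl (T j.castSucc) (hc j) k (hst i _))

end Groth.Agent.Lib.GrHilbert
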