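import Mathlib
import Groth.Agent.S13213
import Groth.Agent.Lib.H74QuotGr1

set_option autoImplicit false
set_option linter.unusedSectionVars false
set_option linter.style.haveILetI false

universe u

namespace Groth.Agent.Lib.GrHullEx

open DirectSum GrLC

variable {R : Type u} [CommRing R] [IsNoetherianRing R] (𝒜 : ℤ → AddSubgroup R) [GradedRing 𝒜]
  (m : HomogeneousIdeal 𝒜)

/-- Existence of a `*`injective hull of `R/m` with its quotient grading. -/
theorem exists_hull : ∃ (E : GMod.{u} 𝒜) (f : (R ⧸ m.toIdeal) →ₗ[R] E.carrier),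
    IsStarInjHull 𝒜 (quotGr 𝒜 m) E.gr f := by
  letI dec : Decomposition (quotGr 𝒜 m) :=
    (Groth.Agent.Lib.H74QuotGr.isInternal_quotPiece 𝒜 m.isHomogeneous).chooseDecomposition
  letI gs : SetLike.GradedSMul 𝒜 (quotGr 𝒜 m) :=
    { smul_mem := by
        rintro i j r _ hr ⟨b, hb, rfl⟩
        exact ⟨r * b, SetLike.GradedMul.mul_mem (A := 𝒜) hr hb, rfl⟩ }
  exact Groth.Agent.S13213.exists_starInjHull 𝒜 (quotGr 𝒜 m)

end Groth.Agent.Lib.GrHullEx
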