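import Mathlib
import Groth.Agent.Lib.GrCanonInjDim
import Groth.Agent.Lib.GrCanonGor

set_option autoImplicit false
set_option linter.unusedSectionVars false
set_option linter.style.haveILetI false

universe u

namespace Groth.Agent.Lib.GrInjDimGlobal

open CategoryTheory Abelian DirectSum GrLC IsLocalRing Groth.Agent.Lib.H26ExtLocIso
  Groth.Agent.Lib.GrCanonInjDim

section Graded

variable {R : Type u} [CommRing R] [IsNoetherianRing R]
  (𝒜 : ℤ → AddSubgroup R) [GradedRing 𝒜]
  (m : HomogeneousIdeal 𝒜) (hm : GrLC.IsStarLocal 𝒜 m) [hmax : m.toIdeal.IsMaximal]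
variable {C : Type u} [AddCommGroup C] [Module R C] [Module.Finite R C] (𝒞 : ℤ → AddSubgroup C)
  [Decomposition 𝒞] [SetLike.GradedSMul 𝒜 𝒞]
  (N : ℕ) (hinj : HasInjectiveDimensionLT (ModuleCat.of (Localization.AtPrime m.toIdeal)
      (LocalizedModule m.toIdeal.primeCompl C)) N)

include hm hinj in
/-- Bass numbers of a graded module at homogeneous primes vanish above the injective dimension of its
localization at the `*`maximal ideal. -/
theorem bassNum_eq_zero_of_isHomogeneous (q : Ideal R) [q.IsPrime] (hq : q.IsHomogeneous 𝒜)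
    (i : ℕ) (hi : N ≤ i) : GrLC.bassNum q C i = 0 := by
  have hqm : q ≤ m.toIdeal := by
    have hne : (⟨q, hq⟩ : HomogeneousIdeal 𝒜) ≠ ⊤ := by
      intro h
      have h1 := congrArg HomogeneousIdeal.toIdeal h
      rw [HomogeneousIdeal.toIdeal_top] at h1
      exact (Ideal.IsPrime.ne_top inferInstance) h1
    exact Groth.Agent.Lib.CanonShift.le_of_isStarLocal 𝒜 hm ⟨q, hq⟩ hne
  have hsub := subsingleton_ext_loc_of_le m.toIdeal q hqm C N hinj i hi (R ⧸ q)
  unfold GrLC.bassNum GrLC.bassNumLocal
  rw [Module.length_eq_zero_iff]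
  have e2 := extCongr (R := Localization.AtPrime q)
    (X := ModuleCat.of (Localization.AtPrime q) (LocalizedModule q.primeCompl (R ⧸ q)))
    (X' := ModuleCat.of (Localization.AtPrime q) (ResidueField (Localization.AtPrime q)))
    (Groth.Agent.Lib.H74BassCore.piLocEquiv 𝒜 q).toModuleIso
    (Iso.refl (ModuleCat.of (Localization.AtPrime q) (LocalizedModule q.primeCompl C))) i
  exact e2.symm.toEquiv.subsingleton

include hm hinj 𝒞 in
theorem bassNum_eq_zero (q : Ideal R) [q.IsPrime] (i : ℕ) (hi : N + 1 ≤ i) :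
    GrLC.bassNum q C i = 0 := by
  by_cases hq : q.IsHomogeneous 𝒜
  · exact bassNum_eq_zero_of_isHomogeneous 𝒜 m hm N hinj q hq i (by omega)
  · haveI hc : (q.homogeneousCore 𝒜).toIdeal.IsPrime := Ideal.IsPrime.homogeneousCore inferInstance
    obtain ⟨j, rfl⟩ : ∃ j, i = j + 1 := ⟨i - 1, by omega⟩
    rw [(Groth.Agent.S18636.result R 𝒜 C 𝒞 q hq).2 j]
    exact bassNum_eq_zero_of_isHomogeneous 𝒜 m hm N hinj _
      (q.homogeneousCore 𝒜).isHomogeneous j (by omega)

include hm hinj 𝒞 in
/-- A finite graded module over a `*`local ring whose localization at the `*`maximal ideal has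
finite injective dimension has finite injective dimension. -/
theorem hasInjectiveDimensionLT_of_loc :
    HasInjectiveDimensionLT (ModuleCat.of R C) (N + 2) :=
  hasInjectiveDimensionLT_of_bassNum C (N + 1) (fun q _ i hi =>
    bassNum_eq_zero 𝒜 m hm 𝒞 N hinj q i hi)

end Graded

section Ring

variable {R : Type u} [CommRing R] [IsNoetherianRing R]
  (𝒜 : ℤ → AddSubgroup R) [GradedRing 𝒜]
  (m : HomogeneousIdeal 𝒜) (hm : GrLC.IsStarLocal 𝒜 m) [hmax : m.toIdeal.IsMaximal]

include hm in
/-- A Noetherian `*`local graded ring (with `m` maximal) which is Gorenstein at `m` is Gorenstein. -/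
theorem isGorensteinRing_of_loc
    [hG : LocCoh.IsGorensteinLocalRing (Localization.AtPrime m.toIdeal)] :
    LocCoh.IsGorensteinRing R := by
  obtain ⟨N, hN⟩ := hG.exists_hasInjectiveDimensionLT
  let e4 : LocalizedModule m.toIdeal.primeCompl R ≃ₗ[Localization m.toIdeal.primeCompl]
      Localization m.toIdeal.primeCompl :=
    LinearEquiv.extendScalarsOfIsLocalization m.toIdeal.primeCompl
      (Localization m.toIdeal.primeCompl)
      (IsLocalizedModule.iso m.toIdeal.primeCompl
        (Algebra.linearMap R (Localization m.toIdeal.primeCompl)))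
  have hN' : HasInjectiveDimensionLT (ModuleCat.of (Localization.AtPrime m.toIdeal)
      (LocalizedModule m.toIdeal.primeCompl R)) N :=
    hasInjectiveDimensionLT_of_iso e4.toModuleIso.symm N
  exact Groth.Agent.Lib.GrCanonGor.isGorensteinRing_of_hasInjectiveDimensionLT (N + 1)
    (hasInjectiveDimensionLT_of_loc 𝒜 m hm 𝒜 N hN')

end Ring

end Groth.Agent.Lib.GrInjDimGlobal
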