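import Groth.Agent.Lib.GrLCBridge
import Groth.Agent.S13215

/-!
# Bridge, continued: existence of *injective resolutions for gradings valued in any `SetLike`
(helper12)

* `isStarInj_of_asGr`, `ofSRes` : back from `asGr 𝒜` to `𝒜`;
* `exists_starInjRes` : every graded module over a graded ring (pieces in arbitrary `SetLike`
  types) has a *injective resolution (from helper74's `S13215.res`).
-/

set_option autoImplicit false
set_option linter.unusedSectionVars false
universe u

namespace Groth.Agent.Lib.GrLCBridge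

open DirectSum GrLC

variable {ι : Type} [AddCommGroup ι] [DecidableEq ι]
variable {R : Type u} [CommRing R] {σ : Type u} [SetLike σ R] [AddSubgroupClass σ R]
variable {M : Type u} [AddCommGroup M] [Module R M] {τ : Type u} [SetLike τ M]
  [AddSubgroupClass τ M]
variable (𝒜 : ι → σ) [GradedRing 𝒜]

theorem isStarInj_of_asGr (X : GMod.{u} (asGr 𝒜)) (h : IsStarInj (asGr 𝒜) X.gr) :
    IsStarInj 𝒜 (ofSMod 𝒜 X).gr := by
  intro A B f hf hinj g hg
  exact h (toSMod 𝒜 A) (toSMod 𝒜 B) f hf hinj g hg

variable {𝒜}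
variable {ℳ : ι → τ} [Decomposition ℳ] [SetLike.GradedSMul 𝒜 ℳ]

/-- A resolution over `asGr 𝒜` as a resolution over `𝒜`. -/
def ofSRes (E : StarInjRes (asGr 𝒜) (asGr ℳ)) : StarInjRes 𝒜 ℳ where
  X n := ofSMod 𝒜 (E.X n)
  d n := E.d n
  ε := E.ε
  d_grHom := E.d_grHom
  ε_grHom := E.ε_grHom
  ε_injective := E.ε_injective
  exact_zero := E.exact_zero
  exact_succ := E.exact_succ
  starInj n := isStarInj_of_asGr 𝒜 (E.X n) (E.starInj n)

variable (𝒜 ℳ)

/-- Existence of *injective resolutions. -/
theorem exists_starInjRes : Nonempty (StarInjRes 𝒜 ℳ) :=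
  ⟨ofSRes (Groth.Agent.S13215.res (asGr ℳ))⟩

end Groth.Agent.Lib.GrLCBridge
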