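import Groth.Prelude.Def_GrLC
import Mathlib.Order.WithBot
import Mathlib.Algebra.Order.Monoid.WithTop
import Mathlib.Algebra.Order.Group.Int

/-!
# Arithmetic of `GrLC.endDeg` (helper12)

`endDeg 𝒢 ≤ s ↔ ∀ d > s, 𝒢 d = ⊥` and `endDeg 𝒢 + i ≤ s ↔ ∀ d, 𝒢 d ≠ ⊥ → d + i ≤ s` in
`WithBot (WithTop ℤ)`.
-/

set_option autoImplicit false
universe u

namespace Groth.Agent.Lib.GrLCEnd

variable {G : Type u} [AddCommGroup G]

/-- Integers inside `WithBot (WithTop ℤ)`. -/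
abbrev c (n : ℤ) : WithBot (WithTop ℤ) := ((n : WithTop ℤ) : WithBot (WithTop ℤ))

theorem c_le_c {m n : ℤ} : c m ≤ c n ↔ m ≤ n := by
  unfold c
  rw [WithBot.coe_le_coe, WithTop.coe_le_coe]

theorem c_add (m n : ℤ) : c m + c n = c (m + n) := by
  unfold c
  rw [← WithBot.coe_add, ← WithTop.coe_add]

theorem le_endDeg (𝒢 : ℤ → AddSubgroup G) {d : ℤ} (hd : 𝒢 d ≠ ⊥) : c d ≤ GrLC.endDeg 𝒢 := by
  unfold GrLC.endDeg
  exact le_iSup₂ (f := fun (n : ℤ) (_ : 𝒢 n ≠ ⊥) => c n) d hd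

theorem endDeg_le_iff (𝒢 : ℤ → AddSubgroup G) (s : ℤ) :
    GrLC.endDeg 𝒢 ≤ c s ↔ ∀ d : ℤ, s < d → 𝒢 d = ⊥ := by
  unfold GrLC.endDeg
  rw [iSup₂_le_iff]
  constructor
  · intro h d hd
    by_contra hne
    have := c_le_c.mp (h d hne)
    omega
  · intro h d hne
    rw [c_le_c]
    by_contra hlt
    exact hne (h d (not_le.mp hlt))

theorem endDeg_add_le_iff (𝒢 : ℤ → AddSubgroup G) (i s : ℤ) :
    GrLC.endDeg 𝒢 + c i ≤ c s ↔ ∀ d : ℤ, 𝒢 d ≠ ⊥ → d + i ≤ s := by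
  constructor
  · intro h d hd
    have h1 : c d + c i ≤ GrLC.endDeg 𝒢 + c i := add_le_add_left (le_endDeg 𝒢 hd) (c i)
    have h2 := h1.trans h
    rw [c_add, c_le_c] at h2
    exact h2
  · intro h
    have h1 : GrLC.endDeg 𝒢 ≤ c (s - i) := by
      rw [endDeg_le_iff]
      intro d hd
      by_contra hne
      have := h d hne
      omega
    calc GrLC.endDeg 𝒢 + c i ≤ c (s - i) + c i := add_le_add_left h1 (c i)
      _ = c s := by rw [c_add, sub_add_cancel]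

theorem endDeg_add_le_iff' (𝒢 : ℤ → AddSubgroup G) (i s : ℤ) :
    GrLC.endDeg 𝒢 + c i ≤ c s ↔ ∀ d : ℤ, s < d + i → 𝒢 d = ⊥ := by
  rw [endDeg_add_le_iff]
  constructor
  · intro h d hd
    by_contra hne
    have := h d hne
    omega
  · intro h d hne
    by_contra hlt
    exact hne (h d (not_le.mp hlt))

end Groth.Agent.Lib.GrLCEnd
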