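import Mathlib
import Groth.Agent.Lib.GrLength
import Groth.Prelude.Def_GrLC

/-!
# Finite length submodules of graded modules over a polynomial ring are `𝔪`-torsion (helper12)

`k` a field, `S = k[x_0..x_n]` with the standard grading, `𝔪` the irrelevant ideal, `M` a
ℤ-graded `S`-module.

* `eq_zero_of_smul_eq_zero` : graded Nakayama, elementwise: `r • l = 0` with `r(0) = 1` forces
  `l = 0`;
* `le_gam_of_isFiniteLength` : a submodule of `M` of finite length is contained in `Γ_𝔪(M)`.
-/

set_option autoImplicit false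
universe u

open DirectSum MvPolynomial

namespace Groth.Agent.Lib.GrLCFinLen

open Groth.Agent.Lib.GrFree Groth.Agent.Lib.GrFinLen Groth.Agent.Lib.GrLength

variable {k : Type u} [Field k] {n : ℕ}
  {M : Type u} [AddCommGroup M] [Module k M] [Module (MvPolynomial (Fin (n + 1)) k) M]
  [IsScalarTower k (MvPolynomial (Fin (n + 1)) k) M]
  {ℳ : ℤ → Submodule k M} [DirectSum.Decomposition ℳ]
  [SetLike.GradedSMul (GrSyz.stdGr k (Fin (n + 1))) ℳ]

include ℳ in
/-- Graded Nakayama, elementwise. -/
theorem eq_zero_of_smul_eq_zero {r : MvPolynomial (Fin (n + 1)) k} (hr : constantCoeff r = 1)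
    {l : M} (h : r • l = 0) : l = 0 := by
  classical
  by_contra hl
  have hne : (decompose ℳ l).support.Nonempty := by
    rw [Finset.nonempty_iff_ne_empty]
    intro he
    apply hl
    rw [← sum_support_decompose ℳ l, he, Finset.sum_empty]
  set e₀ := (decompose ℳ l).support.min' hne with he₀
  have hmem : l ∈ tail (n := n) ℳ e₀ := by
    rw [← sum_support_decompose ℳ l]
    refine Submodule.sum_mem _ fun i hi => ?_
    exact tail_anti (Finset.min'_le _ i hi) (mem_tail (decompose ℳ l i).2)
  have h1 := decompose_smul_of_mem_tail (n := n) hmem r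
  rw [h, decompose_zero, DirectSum.zero_apply, ZeroMemClass.coe_zero, hr, one_smul] at h1
  have h2 : e₀ ∈ (decompose ℳ l).support := Finset.min'_mem _ hne
  exact (DFinsupp.mem_support_iff.1 h2) (Subtype.ext h1.symm)

include ℳ in
/-- A finite length submodule of a graded module over the polynomial ring is `𝔪`-torsion. -/
theorem le_gam_of_isFiniteLength (K : Submodule (MvPolynomial (Fin (n + 1)) k) M)
    (hK : IsFiniteLength (MvPolynomial (Fin (n + 1)) k) K) :
    K ≤ GrLC.gam (GrSyz.irrel (GrSyz.stdGr k (Fin (n + 1)))).toIdeal M := by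
  classical
  obtain ⟨hNoeth, hArt⟩ := isFiniteLength_iff_isNoetherian_isArtinian.mp hK
  set 𝔪 := (GrSyz.irrel (GrSyz.stdGr k (Fin (n + 1)))).toIdeal with h𝔪
  have hle : ∀ m : ℕ, 𝔪 ^ m • K ≤ K := fun m => Submodule.smul_le_right
  let f : ℕ →o (Submodule (MvPolynomial (Fin (n + 1)) k) K)ᵒᵈ :=
    ⟨fun m => OrderDual.toDual ((𝔪 ^ m • K).comap K.subtype), fun a b hab =>
      OrderDual.toDual_le_toDual.2 (Submodule.comap_mono
        (Submodule.smul_mono_left (Ideal.pow_le_pow_right hab)))⟩
  obtain ⟨N, hN⟩ := IsArtinian.monotone_stabilizes f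
  have hstab : 𝔪 ^ N • K = 𝔪 ^ (N + 1) • K := by
    have h1 : (𝔪 ^ N • K).comap K.subtype = (𝔪 ^ (N + 1) • K).comap K.subtype :=
      OrderDual.toDual.injective (hN (N + 1) (Nat.le_succ N))
    have h2 := congrArg (Submodule.map K.subtype) h1
    rw [Submodule.map_comap_subtype, Submodule.map_comap_subtype,
      inf_eq_right.mpr (hle N), inf_eq_right.mpr (hle (N + 1))] at h2
    exact h2
  set L := 𝔪 ^ N • K with hL
  have hLfg : L.FG := by
    have h1 : ((L.comap K.subtype).map K.subtype) = L := by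
      rw [Submodule.map_comap_subtype, inf_eq_right.mpr (hle N)]
    rw [← h1]
    exact (IsNoetherian.noetherian _).map _
  have hLL : L ≤ 𝔪 • L := by
    rw [hL, ← Submodule.mul_smul, ← pow_succ', ← hstab]
  obtain ⟨r, hr1, hr⟩ := Submodule.exists_sub_one_mem_and_smul_eq_zero_of_fg_of_le_smul 𝔪 L hLfg hLL
  have hr0 : constantCoeff r = 1 := by
    have h1 : r - 1 ∈ RingHom.ker (constantCoeff (R := k) (σ := Fin (n + 1))) := by
      rw [← Groth.Agent.Lib.GrTor.irrel_eq_ker]
      exact hr1
    rw [RingHom.mem_ker, map_sub, map_one, sub_eq_zero] at h1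
    exact h1
  have hL0 : L = ⊥ := by
    rw [eq_bot_iff]
    intro l hl
    rw [Submodule.mem_bot]
    exact eq_zero_of_smul_eq_zero (ℳ := ℳ) hr0 (hr l hl)
  intro z hz
  refine ⟨N, fun s hs => ?_⟩
  have : s • z ∈ L := Submodule.smul_mem_smul hs hz
  rw [hL0, Submodule.mem_bot] at this
  exact this

end Groth.Agent.Lib.GrLCFinLen
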