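import Mathlib
import Groth.Agent.Lib.GrLCAB2
import Groth.Agent.Lib.GrHilbPoly
import Groth.Agent.Lib.LocCohVanishing

/-!
# Sharpness of the Hilbert function/polynomial bound for Cohen–Macaulay modules (helper12)

`k` a field, `S = k[x_0..x_n]`, `M` a finitely generated graded Cohen–Macaulay `S`-module with a
minimal graded free resolution `F` of length exactly `ℓ` and regularity `ρ`.

* `exists_top_deg_of_cm` : the regularity is attained at the last step: some basis vector of `F_ℓ`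
  has degree `ρ + ℓ`;

(see `GrLCHilbCM2` for `finrank_ne_eval`, S16324).
-/

set_option autoImplicit false
set_option linter.unusedSectionVars false
universe u

open DirectSum MvPolynomial

namespace Groth.Agent.Lib.GrLCHilbCM

open GrLC Groth.Agent.Lib.GrLCMap Groth.Agent.Lib.GrLCBridge Groth.Agent.Lib.GrLCPoly
  Groth.Agent.Lib.GrLCSyz Groth.Agent.Lib.GrLCAB Groth.Agent.S13215

variable {k : Type u} [Field k] {n : ℕ}
  {M : Type u} [AddCommGroup M] [Module k M] [Module (MvPolynomial (Fin (n + 1)) k) M]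
  [IsScalarTower k (MvPolynomial (Fin (n + 1)) k) M]
  [Module.Finite (MvPolynomial (Fin (n + 1)) k) M]
  {ℳ : ℤ → Submodule k M} [DirectSum.Decomposition ℳ]
  [SetLike.GradedSMul (GrSyz.stdGr k (Fin (n + 1))) ℳ]

/-- For a Cohen–Macaulay module the regularity is attained at the last step of the minimal
resolution. -/
theorem exists_top_deg_of_cm
    (hCM : Module.supportDim (MvPolynomial (Fin (n + 1)) k) M =
      ((LocCoh.idealDepth (GrSyz.irrel (GrSyz.stdGr k (Fin (n + 1)))).toIdeal M : ℕ∞) :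
        WithBot ℕ∞))
    (F : GrSyz.FreeRes (GrSyz.stdGr k (Fin (n + 1))) ℳ)
    (hF : F.IsMinimal (GrSyz.irrel (GrSyz.stdGr k (Fin (n + 1)))).toIdeal)
    (ℓ : ℕ) (hℓ : F.HasLengthLE ℓ) (hℓ' : F.rk ℓ ≠ 0)
    (ρ : ℤ) (hρ : F.IsGenLE ρ) (hρ' : ∃ (i : ℕ) (b : Fin (F.rk i)), F.deg i b = ρ + i) :
    ∃ b : Fin (F.rk ℓ), F.deg ℓ b = ρ + ℓ := by
  classical
  have hlen' : F.HasLengthLE (n + 1) :=
    Groth.Agent.Lib.GrSyzygy.hasLengthLE_of_isMinimal k n M ℳ F hF
  have hℓn : ℓ ≤ n + 1 := by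
    by_contra hcon
    exact hℓ' (hlen' ℓ (by omega))
  have hAB := length_add_idealDepth F hF ℓ hℓ hℓ'
  -- the depth is `n + 1 - ℓ`
  have hdepth : LocCoh.idealDepth (GrSyz.irrel (GrSyz.stdGr k (Fin (n + 1)))).toIdeal M =
      ((n + 1 - ℓ : ℕ) : ℕ∞) := by
    have hne : LocCoh.idealDepth (GrSyz.irrel (GrSyz.stdGr k (Fin (n + 1)))).toIdeal M ≠ ⊤ := by
      intro h
      rw [h, add_top] at hAB
      exact ENat.top_ne_natCast _ hAB
    obtain ⟨δ, hδ⟩ := ENat.ne_top_iff_exists.mp hne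
    rw [← hδ] at hAB ⊢
    have h1 : ℓ + δ = n + 1 := by exact_mod_cast hAB
    congr 1
    omega
  -- the last index where the regularity is attained
  let P : ℕ → Prop := fun i => ∃ b : Fin (F.rk i), F.deg i b = ρ + i
  have hPle : ∀ i, P i → i ≤ ℓ := by
    rintro i ⟨b, -⟩
    by_contra hcon
    exact Fin.elim0 ((hℓ i (by omega)) ▸ b)
  obtain ⟨i₁, hi₁⟩ : ∃ i, P i := hρ'
  set i₀ := Nat.findGreatest P ℓ with hi₀def
  have hPi₀ : P i₀ := Nat.findGreatest_spec (hPle i₁ hi₁) hi₁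
  have hi₀ℓ : i₀ ≤ ℓ := Nat.findGreatest_le ℓ
  obtain ⟨b₀, hb₀⟩ := hPi₀
  have hlast : ∀ i : ℕ, i₀ < i → ∀ b : Fin (F.rk i), F.deg i b < ρ + i := by
    intro i hi b
    have h1 := hρ i b
    rcases lt_or_eq_of_le h1 with h | h
    · exact h
    · exfalso
      have hPi : P i := ⟨b, h⟩
      exact Nat.findGreatest_is_greatest hi (hPle i hPi) hPi
  obtain ⟨E⟩ : Nonempty (StarInjRes (stdS k n) (asGr ℳ)) := ⟨res (asGr ℳ)⟩
  have hne := Hcomp_ne_bot_of_last F hF ρ i₀ (by omega) b₀ hb₀ hρ hlast E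
  -- Grothendieck vanishing forces `i₀ = ℓ`
  have hi₀ : i₀ = ℓ := by
    by_contra hcon
    have hlt : i₀ < ℓ := lt_of_le_of_ne hi₀ℓ hcon
    apply hne
    have hdim : Module.supportDim (MvPolynomial (Fin (n + 1)) k) M <
        ((n + 1 - i₀ : ℕ) : WithBot ℕ∞) := by
      rw [hCM, hdepth]
      have h1 : ((n + 1 - ℓ : ℕ) : ℕ∞) < ((n + 1 - i₀ : ℕ) : ℕ∞) := by
        exact_mod_cast (show n + 1 - ℓ < n + 1 - i₀ by omega)
      exact WithBot.coe_lt_coe.mpr h1
    have hsub := Groth.Agent.Lib.LocCohVanishing.subsingleton_H_of_supportDim_lt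
      (GrSyz.irrel (GrSyz.stdGr k (Fin (n + 1)))).toIdeal M (n + 1 - i₀) hdim
    obtain ⟨eq⟩ := Groth.Agent.S13224.result (MvPolynomial (Fin (n + 1)) k) (stdS k n) (irrS k n)
      M (asGr ℳ) E (n + 1 - i₀)
    haveI : Subsingleton (E.H (irrS k n) (n + 1 - i₀)) := @Equiv.subsingleton _ _ eq.toEquiv hsub
    rw [Hcomp_eq_bot_iff_forall_mem]
    intro y _
    exact Subsingleton.elim _ _
  have hPℓ : P ℓ := by
    rw [← hi₀]
    exact ⟨b₀, hb₀⟩
  exact hPℓ

end Groth.Agent.Lib.GrLCHilbCM
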