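import Mathlib
import Groth.Agent.Lib.GrLCHilbCM

/-!
# Sharpness of the Hilbert function/polynomial bound for Cohen–Macaulay modules, part 2 (helper12)

* `eval_binomPoly_pred` : `C(n + X - a, n)` evaluated at `a - n - 1` is `(-1)^n`;
* `hilbPoly`, `eval_hilbPoly`, `eq_hilbPoly` : the Hilbert polynomial of a resolution;
* `eval_hilbPoly_crit` : its value at the critical degree `ρ + ℓ - n - 1`;
* `finrank_ne_eval` : `dim_k M_d ≠ P(d)` for `d = ρ + ℓ - n - 1` (S16324).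
-/

set_option autoImplicit false
set_option linter.unusedSectionVars false
universe u

namespace Groth.Agent.Lib.GrLCHilbCM

open Polynomial Groth.Agent.Lib.GrHilbPoly

theorem eval_binomPoly_pred (n : ℕ) (a : ℤ) :
    (binomPoly n a).eval (((a - n - 1 : ℤ)) : ℚ) = (-1 : ℚ) ^ n := by
  have hne : (n.factorial : ℚ) ≠ 0 := by exact_mod_cast Nat.factorial_ne_zero n
  simp only [binomPoly, eval_smul, eval_comp, eval_add, eval_sub, eval_X, eval_C, eval_one,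
    smul_eq_mul]
  have h1 : (((a - n - 1 : ℤ)) : ℚ) - (a : ℚ) + 1 = -((n : ℕ) : ℚ) := by
    push_cast; ring
  rw [h1, ascPochhammer_eval_neg_eq_descPochhammer, descPochhammer_eval_eq_descFactorial,
    Nat.descFactorial_self]
  field_simp

variable {k : Type u} [Field k] {n : ℕ}
  {M : Type u} [AddCommGroup M] [Module k M] [Module (MvPolynomial (Fin (n + 1)) k) M]
  [IsScalarTower k (MvPolynomial (Fin (n + 1)) k) M]
  [Module.Finite (MvPolynomial (Fin (n + 1)) k) M]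
  {ℳ : ℤ → Submodule k M} [DirectSum.Decomposition ℳ]
  [SetLike.GradedSMul (GrSyz.stdGr k (Fin (n + 1))) ℳ]

/-- the Hilbert polynomial attached to a resolution of length `≤ ℓ` -/
noncomputable def hilbPoly (F : GrSyz.FreeRes (GrSyz.stdGr k (Fin (n + 1))) ℳ) (ℓ : ℕ) : ℚ[X] :=
  ∑ i ∈ Finset.range (ℓ + 1), C ((-1 : ℚ) ^ i) * ∑ b : Fin (F.rk i), binomPoly n (F.deg i b)

/-- value of a single binomial term at the critical degree `ρ + ℓ - n - 1` -/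
theorem eval_binomPoly_crit (n : ℕ) (a s : ℤ) (ha : a ≤ s) :
    (binomPoly n a).eval (((s - n - 1 : ℤ)) : ℚ) =
      (((if a ≤ s - n - 1 then ((Nat.choose (n + (s - n - 1 - a).toNat) n : ℕ) : ℤ) else 0 : ℤ)) : ℚ)
        + (if a = s then (-1 : ℚ) ^ n else 0) := by
  by_cases h : a = s
  · subst h
    rw [eval_binomPoly_pred, if_neg (by omega), if_pos rfl]
    simp
  · rw [if_neg h, add_zero]
    exact eval_binomPoly n a (s - n - 1) (by omega)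

theorem eval_hilbPoly_crit (F : GrSyz.FreeRes (GrSyz.stdGr k (Fin (n + 1))) ℳ) (ℓ : ℕ)
    (hℓ : F.HasLengthLE ℓ) (ρ : ℤ) (hρ : F.IsGenLE ρ) :
    (hilbPoly F ℓ).eval (((ρ + ℓ - n - 1 : ℤ)) : ℚ) =
      ((Module.finrank k ↥(ℳ (ρ + ℓ - n - 1)) : ℤ) : ℚ) +
        (-1 : ℚ) ^ ℓ * ((-1 : ℚ) ^ n *
          ((Finset.univ.filter fun b : Fin (F.rk ℓ) => F.deg ℓ b = ρ + ℓ).card : ℚ)) := by
  classical
  rw [Groth.Agent.Lib.GrHilb.hilbert_stdGr k n M ℳ F ℓ hℓ (ρ + ℓ - n - 1), hilbPoly]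
  rw [eval_finsetSum]
  push_cast
  have hterm : ∀ i ∈ Finset.range (ℓ + 1),
      eval ((ρ : ℚ) + ℓ - n - 1) (C ((-1 : ℚ) ^ i) * ∑ b : Fin (F.rk i), binomPoly n (F.deg i b)) =
      (-1 : ℚ) ^ i * ∑ b : Fin (F.rk i),
        (((if F.deg i b ≤ ρ + ℓ - n - 1 then
          ((Nat.choose (n + (ρ + ℓ - n - 1 - F.deg i b).toNat) n : ℕ) : ℤ) else 0 : ℤ)) : ℚ)
      + (if i = ℓ then (-1 : ℚ) ^ ℓ * ((-1 : ℚ) ^ n *
          ((Finset.univ.filter fun b : Fin (F.rk ℓ) => F.deg ℓ b = ρ + ℓ).card : ℚ)) else 0) := by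
    intro i hi
    have hiℓ : i ≤ ℓ := by
      have := Finset.mem_range.mp hi
      omega
    rw [eval_mul, eval_C, eval_finsetSum]
    have hcast : ((ρ : ℚ) + ℓ - n - 1) = (((ρ + ℓ - n - 1 : ℤ)) : ℚ) := by push_cast; ring
    rw [hcast]
    have hb : ∀ b : Fin (F.rk i), eval (((ρ + ℓ - n - 1 : ℤ)) : ℚ) (binomPoly n (F.deg i b)) =
        (((if F.deg i b ≤ ρ + ℓ - n - 1 then
          ((Nat.choose (n + (ρ + ℓ - n - 1 - F.deg i b).toNat) n : ℕ) : ℤ) else 0 : ℤ)) : ℚ)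
        + (if F.deg i b = ρ + ℓ then (-1 : ℚ) ^ n else 0) := by
      intro b
      apply eval_binomPoly_crit
      have h1 := hρ i b
      have : (i : ℤ) ≤ ℓ := by exact_mod_cast hiℓ
      omega
    rw [Finset.sum_congr rfl fun b _ => hb b, Finset.sum_add_distrib, mul_add]
    congr 1
    by_cases hi' : i = ℓ
    · subst hi'
      rw [if_pos rfl]
      congr 1
      rw [← Finset.sum_filter, Finset.sum_const, nsmul_eq_mul, mul_comm]
    · rw [if_neg hi']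
      have hlt : i < ℓ := lt_of_le_of_ne hiℓ hi'
      have : ∀ b : Fin (F.rk i), (if F.deg i b = ρ + ℓ then (-1 : ℚ) ^ n else 0) = 0 := by
        intro b
        rw [if_neg]
        have h1 := hρ i b
        have : (i : ℤ) < ℓ := by exact_mod_cast hlt
        omega
      rw [Finset.sum_congr rfl fun b _ => this b]
      simp
  rw [Finset.sum_congr rfl hterm, Finset.sum_add_distrib]
  congr 1
  · refine Finset.sum_congr rfl fun i _ => ?_
    congr 1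
    refine Finset.sum_congr rfl fun b _ => ?_
    push_cast
    rfl
  · rw [Finset.sum_ite_eq' (Finset.range (ℓ + 1)) ℓ]
    rw [if_pos (Finset.mem_range.mpr (by omega))]

theorem eval_hilbPoly (F : GrSyz.FreeRes (GrSyz.stdGr k (Fin (n + 1))) ℳ) (ℓ : ℕ)
    (hℓ : F.HasLengthLE ℓ) (d : ℤ)
    (hd : ∀ (i : ℕ) (b : Fin (F.rk i)), F.deg i b - (n : ℤ) ≤ d) :
    ((Module.finrank k ↥(ℳ d) : ℤ) : ℚ) = (hilbPoly F ℓ).eval (d : ℚ) := by
  rw [Groth.Agent.Lib.GrHilb.hilbert_stdGr k n M ℳ F ℓ hℓ d, hilbPoly]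
  rw [eval_finsetSum]
  push_cast
  refine Finset.sum_congr rfl fun i _ => ?_
  rw [eval_mul, eval_C, eval_finsetSum]
  congr 1
  refine Finset.sum_congr rfl fun b _ => ?_
  rw [eval_binomPoly n (F.deg i b) d (hd i b)]
  push_cast
  rfl

theorem eq_hilbPoly (F : GrSyz.FreeRes (GrSyz.stdGr k (Fin (n + 1))) ℳ) (ℓ : ℕ)
    (hℓ : F.HasLengthLE ℓ) (ρ : ℤ) (hρ : F.IsGenLE ρ)
    (P : Polynomial ℚ)
    (hP : ∃ d₁ : ℤ, ∀ d : ℤ, d₁ ≤ d → ((Module.finrank k ↥(ℳ d) : ℤ) : ℚ) = P.eval (d : ℚ)) :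
    P = hilbPoly F ℓ := by
  obtain ⟨d₁, hd₁⟩ := hP
  apply Polynomial.eq_of_infinite_eval_eq
  have hsub : ((fun d : ℤ => (d : ℚ)) '' Set.Ici (max d₁ (ρ + ℓ - n))) ⊆
      {x | eval x P = eval x (hilbPoly F ℓ)} := by
    rintro _ ⟨d, hd, rfl⟩
    have hd' : max d₁ (ρ + ℓ - n) ≤ d := hd
    show eval _ P = eval _ (hilbPoly F ℓ)
    rw [← hd₁ d (le_trans (le_max_left _ _) hd')]
    apply eval_hilbPoly F ℓ hℓ d
    intro i b
    have h1 := hρ i b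
    have hi : i ≤ ℓ := by
      by_contra hcon
      exact Fin.elim0 ((hℓ i (by omega)) ▸ b)
    have h2 := le_trans (le_max_right d₁ (ρ + ℓ - n)) hd'
    have : (i : ℤ) ≤ ℓ := by exact_mod_cast hi
    omega
  refine Set.Infinite.mono hsub ?_
  exact Set.Infinite.image (Int.cast_injective.injOn) (Set.Ici_infinite _)


/-- **Sharpness of the Hilbert polynomial bound for Cohen–Macaulay modules.** -/
theorem finrank_ne_eval
    (hCM : Module.supportDim (MvPolynomial (Fin (n + 1)) k) M =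
      ((LocCoh.idealDepth (GrSyz.irrel (GrSyz.stdGr k (Fin (n + 1)))).toIdeal M : ℕ∞) :
        WithBot ℕ∞))
    (F : GrSyz.FreeRes (GrSyz.stdGr k (Fin (n + 1))) ℳ)
    (hF : F.IsMinimal (GrSyz.irrel (GrSyz.stdGr k (Fin (n + 1)))).toIdeal)
    (ℓ : ℕ) (hℓ : F.HasLengthLE ℓ) (hℓ' : F.rk ℓ ≠ 0)
    (ρ : ℤ) (hρ : F.IsGenLE ρ) (hρ' : ∃ (i : ℕ) (b : Fin (F.rk i)), F.deg i b = ρ + i)
    (P : Polynomial ℚ)
    (hP : ∃ d₁ : ℤ, ∀ d : ℤ, d₁ ≤ d → ((Module.finrank k ↥(ℳ d) : ℤ) : ℚ) = P.eval (d : ℚ)) :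
    ((Module.finrank k ↥(ℳ (ρ + ℓ - n - 1)) : ℤ) : ℚ) ≠ P.eval ((ρ + ℓ - n - 1 : ℤ) : ℚ) := by
  classical
  obtain ⟨b₀, hb₀⟩ := exists_top_deg_of_cm hCM F hF ℓ hℓ hℓ' ρ hρ hρ'
  rw [eq_hilbPoly F ℓ hℓ ρ hρ P hP, eval_hilbPoly_crit F ℓ hℓ ρ hρ]
  intro h
  have hcard : ((Finset.univ.filter fun b : Fin (F.rk ℓ) => F.deg ℓ b = ρ + ℓ).card : ℚ) ≠ 0 := by
    have : 0 < (Finset.univ.filter fun b : Fin (F.rk ℓ) => F.deg ℓ b = ρ + ℓ).card :=
      Finset.card_pos.mpr ⟨b₀, Finset.mem_filter.mpr ⟨Finset.mem_univ _, hb₀⟩⟩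
    exact_mod_cast this.ne'
  have h0 : (-1 : ℚ) ^ ℓ * ((-1 : ℚ) ^ n *
      ((Finset.univ.filter fun b : Fin (F.rk ℓ) => F.deg ℓ b = ρ + ℓ).card : ℚ)) = 0 := by
    linarith
  rcases mul_eq_zero.mp h0 with h1 | h1
  · exact pow_ne_zero _ (by norm_num) h1
  · rcases mul_eq_zero.mp h1 with h2 | h2
    · exact pow_ne_zero _ (by norm_num) h2
    · exact hcard h2

end Groth.Agent.Lib.GrLCHilbCM
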