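import Groth.Agent.Lib.GrLCMap

/-!
# The long exact sequence of graded local cohomology (helper12)

Graded local cohomology `E.H a i` is computed from *injective resolutions (`GrLC.StarInjRes`).
For a short exact sequence `0 → M₁ --f--> M₂ --g--> M₃ → 0` of graded modules, `f` homogeneous of
degree `δ` and `g` of degree `0`, and ARBITRARY resolutions `E₁`, `E₂`, `E₃`:

* `exists_les` : connecting maps `cn i : E₃.H a i → E₁.H a (i+1)` of degree `-δ`, injectivity of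
  `Hmap f` on `H^0`, and exactness at all three spots (`ker = range`);
* graded/vanishing corollaries: `exists_of_Hmap_eq_zero`, `Hcomp_eq_bot_mid`,
  `Hcomp_eq_bot_right`, `Hcomp_eq_bot_left`, `Hcomp_eq_bot_left_zero`,
  `exists_of_Hcomp_succ_eq_bot`, `eq_zero_of_Hmap_eq_zero`;
* `Hcomp_eq_bot_of_smul_injective` : torsion argument (injective multiplication by `r ∈ a`
  kills the pieces);
* tools: product of graded modules (`prodGr`, instances, `isStarInj_prodGr`), shifted *injective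
  (`isStarInj_shiftGr`), the horseshoe resolution (`HSData`, `exists_hsData`, `HSData.res`),
  `exists_mem_of_mem_range` (homogeneous preimages).
-/

set_option autoImplicit false
set_option linter.unusedSectionVars false
universe u

namespace Groth.Agent.Lib.GrLCLES

open DirectSum GrLC Groth.Agent.Lib.H87GrMod Groth.Agent.Lib.H87GrMod2
  Groth.Agent.Lib.H87GrShift Groth.Agent.S18662 Groth.Agent.S18661 Groth.Agent.Lib.GrLCMap

variable {ι : Type} [AddCommGroup ι] [DecidableEq ι]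
variable {R : Type u} [CommRing R] (𝒜 : ι → AddSubgroup R) [GradedRing 𝒜]

section Prod

variable {X Y : Type u} [AddCommGroup X] [Module R X] [AddCommGroup Y] [Module R Y]
  (𝒳 : ι → AddSubgroup X) (𝒴 : ι → AddSubgroup Y)

/-- The pieces of a product. -/
def prodGr : ι → AddSubgroup (X × Y) := fun g => (𝒳 g).prod (𝒴 g)

theorem mem_prodGr {g : ι} {p : X × Y} : p ∈ prodGr 𝒳 𝒴 g ↔ p.1 ∈ 𝒳 g ∧ p.2 ∈ 𝒴 g :=
  AddSubgroup.mem_prod

/-- Inclusion of the left pieces. -/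
def inlPiece (g : ι) : 𝒳 g →+ prodGr 𝒳 𝒴 g where
  toFun x := ⟨((x : X), 0), (mem_prodGr 𝒳 𝒴).mpr ⟨x.2, zero_mem _⟩⟩
  map_zero' := rfl
  map_add' x y := Subtype.ext (by simp)

/-- Inclusion of the right pieces. -/
def inrPiece (g : ι) : 𝒴 g →+ prodGr 𝒳 𝒴 g where
  toFun y := ⟨(0, (y : Y)), (mem_prodGr 𝒳 𝒴).mpr ⟨zero_mem _, y.2⟩⟩
  map_zero' := rfl
  map_add' x y := Subtype.ext (by simp)

variable [Decomposition 𝒳] [Decomposition 𝒴]

/-- The decomposition map of a product. -/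
noncomputable def prodDecomp : X × Y →+ ⨁ g, prodGr 𝒳 𝒴 g :=
  ((DirectSum.map (inlPiece 𝒳 𝒴)).comp (decomposeAddEquiv 𝒳).toAddMonoidHom).comp
      (AddMonoidHom.fst X Y) +
    ((DirectSum.map (inrPiece 𝒳 𝒴)).comp (decomposeAddEquiv 𝒴).toAddMonoidHom).comp
      (AddMonoidHom.snd X Y)

theorem prodDecomp_apply (p : X × Y) :
    prodDecomp 𝒳 𝒴 p = DirectSum.map (inlPiece 𝒳 𝒴) (decompose 𝒳 p.1) +
      DirectSum.map (inrPiece 𝒳 𝒴) (decompose 𝒴 p.2) := rfl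

theorem coe_map_inl (x : X) :
    DirectSum.coeAddMonoidHom (prodGr 𝒳 𝒴) (DirectSum.map (inlPiece 𝒳 𝒴) (decompose 𝒳 x)) =
      (x, 0) := by
  induction x using Decomposition.inductionOn 𝒳 with
  | zero => rw [decompose_zero, map_zero, map_zero]; rfl
  | @homogeneous i x =>
    rw [decompose_coe, DirectSum.map_of, DirectSum.coeAddMonoidHom_of]
    rfl
  | add x x' hx hx' =>
    rw [decompose_add, map_add, map_add, hx, hx']
    simp

theorem coe_map_inr (y : Y) :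
    DirectSum.coeAddMonoidHom (prodGr 𝒳 𝒴) (DirectSum.map (inrPiece 𝒳 𝒴) (decompose 𝒴 y)) =
      (0, y) := by
  induction y using Decomposition.inductionOn 𝒴 with
  | zero => rw [decompose_zero, map_zero, map_zero]; rfl
  | @homogeneous i x =>
    rw [decompose_coe, DirectSum.map_of, DirectSum.coeAddMonoidHom_of]
    rfl
  | add x x' hx hx' =>
    rw [decompose_add, map_add, map_add, hx, hx']
    simp

noncomputable instance prodDecomposition : Decomposition (prodGr 𝒳 𝒴) :=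
  Decomposition.ofAddHom (prodGr 𝒳 𝒴) (prodDecomp 𝒳 𝒴)
    (by
      apply AddMonoidHom.ext
      intro p
      rw [AddMonoidHom.comp_apply, prodDecomp_apply, map_add, coe_map_inl, coe_map_inr]
      simp)
    (by
      refine DirectSum.addHom_ext (fun g p => ?_)
      obtain ⟨⟨x, y⟩, hp⟩ := p
      have hx : x ∈ 𝒳 g := ((mem_prodGr 𝒳 𝒴).mp hp).1
      have hy : y ∈ 𝒴 g := ((mem_prodGr 𝒳 𝒴).mp hp).2
      rw [AddMonoidHom.comp_apply, DirectSum.coeAddMonoidHom_of, prodDecomp_apply]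
      show DirectSum.map (inlPiece 𝒳 𝒴) (decompose 𝒳 x) +
        DirectSum.map (inrPiece 𝒳 𝒴) (decompose 𝒴 y) = _
      rw [decompose_of_mem 𝒳 hx, decompose_of_mem 𝒴 hy, DirectSum.map_of, DirectSum.map_of,
        ← map_add, AddMonoidHom.id_apply]
      refine congrArg _ (Subtype.ext ?_)
      show ((x, 0) : X × Y) + (0, y) = (x, y)
      simp)

instance prodGradedSMul [SetLike.GradedSMul 𝒜 𝒳] [SetLike.GradedSMul 𝒜 𝒴] :
    SetLike.GradedSMul 𝒜 (prodGr 𝒳 𝒴) where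
  smul_mem := by
    intro i j r p hr hp
    rw [mem_prodGr] at hp ⊢
    exact ⟨SetLike.GradedSMul.smul_mem (A := 𝒜) (B := 𝒳) hr hp.1,
      SetLike.GradedSMul.smul_mem (A := 𝒜) (B := 𝒴) hr hp.2⟩

theorem isStarInj_prodGr [SetLike.GradedSMul 𝒜 𝒳] [SetLike.GradedSMul 𝒜 𝒴]
    (hX : IsStarInj 𝒜 𝒳) (hY : IsStarInj 𝒜 𝒴) : IsStarInj 𝒜 (prodGr 𝒳 𝒴) := by
  intro A B f hf hinj g hg
  obtain ⟨h1, hh1, hh1f⟩ := hX A B f hf hinj (LinearMap.fst R X Y ∘ₗ g)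
    (fun k x hx => ((mem_prodGr 𝒳 𝒴).mp (hg k x hx)).1)
  obtain ⟨h2, hh2, hh2f⟩ := hY A B f hf hinj (LinearMap.snd R X Y ∘ₗ g)
    (fun k x hx => ((mem_prodGr 𝒳 𝒴).mp (hg k x hx)).2)
  refine ⟨h1.prod h2, fun k x hx => (mem_prodGr 𝒳 𝒴).mpr ⟨hh1 k x hx, hh2 k x hx⟩, ?_⟩
  apply LinearMap.ext
  intro x
  have e1 := LinearMap.congr_fun hh1f x
  have e2 := LinearMap.congr_fun hh2f x
  rw [LinearMap.comp_apply] at e1 e2
  rw [LinearMap.comp_apply]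
  exact Prod.ext e1 e2

theorem isStarInj_shiftGr [SetLike.GradedSMul 𝒜 𝒳] (hX : IsStarInj 𝒜 𝒳) (d : ι) :
    letI := shiftDecomposition 𝒳 d
    letI := gradedSMul_shiftGr 𝒳 𝒜 d
    IsStarInj 𝒜 (shiftGr 𝒳 d) := by
  intro A B f hf hinj g hg
  have hg' : IsGrHomDeg A.gr 𝒳 g d := fun k x hx => hg k x hx
  obtain ⟨h, hh, hhf⟩ := extend_deg' 𝒜 A.gr B.gr 𝒳 hX hf hinj hg'
  exact ⟨h, fun k x hx => hh k x hx, hhf⟩

end Prod

section Horseshoe

variable {𝒜}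
variable {M₁ M₂ M₃ : Type u} [AddCommGroup M₁] [Module R M₁] [AddCommGroup M₂] [Module R M₂]
  [AddCommGroup M₃] [Module R M₃]
  {ℳ₁ : ι → AddSubgroup M₁} {ℳ₂ : ι → AddSubgroup M₂} {ℳ₃ : ι → AddSubgroup M₃}
  [Decomposition ℳ₁] [SetLike.GradedSMul 𝒜 ℳ₁] [Decomposition ℳ₂] [SetLike.GradedSMul 𝒜 ℳ₂]
  [Decomposition ℳ₃] [SetLike.GradedSMul 𝒜 ℳ₃]

/-- The terms of the horseshoe resolution: `X₁(-δ) × X₃`. -/
noncomputable def hsX (X₁ X₃ : GMod.{u} 𝒜) (δ : ι) : GMod.{u} 𝒜 :=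
  letI := shiftDecomposition X₁.gr (-δ)
  letI := gradedSMul_shiftGr X₁.gr 𝒜 (-δ)
  GMod.of 𝒜 (X₁.carrier × X₃.carrier) (prodGr (shiftGr X₁.gr (-δ)) X₃.gr)

theorem mem_hsX_gr {X₁ X₃ : GMod.{u} 𝒜} {δ k : ι} {p : X₁.carrier × X₃.carrier} :
    p ∈ (hsX X₁ X₃ δ).gr k ↔ p.1 ∈ X₁.gr (k + -δ) ∧ p.2 ∈ X₃.gr k :=
  mem_prodGr _ _

theorem isStarInj_hsX {X₁ X₃ : GMod.{u} 𝒜} (δ : ι) (h₁ : IsStarInj 𝒜 X₁.gr)
    (h₃ : IsStarInj 𝒜 X₃.gr) : IsStarInj 𝒜 (hsX X₁ X₃ δ).gr := by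
  let _ := shiftDecomposition X₁.gr (-δ)
  let _ := gradedSMul_shiftGr X₁.gr 𝒜 (-δ)
  exact isStarInj_prodGr 𝒜 (shiftGr X₁.gr (-δ)) X₃.gr (isStarInj_shiftGr 𝒜 X₁.gr h₁ (-δ)) h₃

/-- The data of a horseshoe: the twisting maps. -/
structure HSData (E₁ : StarInjRes 𝒜 ℳ₁) (E₃ : StarInjRes 𝒜 ℳ₃) (ℳ₂ : ι → AddSubgroup M₂)
    (f : M₁ →ₗ[R] M₂) (g : M₂ →ₗ[R] M₃) (δ : ι) where
  σ : M₂ →ₗ[R] (E₁.X 0).carrier
  τ : ∀ n, (E₃.X n).carrier →ₗ[R] (E₁.X (n + 1)).carrier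
  σ_deg : IsGrHomDeg ℳ₂ (E₁.X 0).gr σ (-δ)
  τ_deg : ∀ n, IsGrHomDeg (E₃.X n).gr (E₁.X (n + 1)).gr (τ n) (-δ)
  σ_f : ∀ m, σ (f m) = E₁.ε m
  h0 : ∀ m, E₁.d 0 (σ m) + τ 0 (E₃.ε (g m)) = 0
  hτ : ∀ n x, E₁.d (n + 1) (τ n x) + τ (n + 1) (E₃.d n x) = 0

theorem exists_hsData (E₁ : StarInjRes 𝒜 ℳ₁) (E₃ : StarInjRes 𝒜 ℳ₃) {f : M₁ →ₗ[R] M₂}
    {g : M₂ →ₗ[R] M₃} {δ : ι} (hf : IsGrHomDeg ℳ₁ ℳ₂ f δ) (hg : IsGrHom ℳ₂ ℳ₃ g)
    (hinj : Function.Injective f) (hsurj : Function.Surjective g)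
    (hex : LinearMap.ker g = LinearMap.range f) : Nonempty (HSData E₁ E₃ ℳ₂ f g δ) := by
  obtain ⟨σ, hσ, hσf⟩ := IsStarInj.extend_deg 𝒜 ℳ₁ ℳ₂ (E₁.X 0).gr (E₁.starInj 0) hf hinj
    E₁.ε_grHom
  have hσf' : ∀ m, σ (f m) = E₁.ε m := fun m => LinearMap.congr_fun hσf m
  -- τ 0
  have hd0 : IsGrHom ℳ₂ (E₃.X 0).gr (E₃.ε ∘ₗ g) := fun k m hm => E₃.ε_grHom k _ (hg k m hm)
  have hφ0 : IsGrHomDeg ℳ₂ (E₁.X 1).gr (-(E₁.d 0 ∘ₗ σ)) (-δ) := by
    intro k m hm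
    rw [LinearMap.neg_apply, LinearMap.comp_apply]
    exact neg_mem (E₁.d_grHom 0 _ _ (hσ k m hm))
  have hker0 : LinearMap.ker (E₃.ε ∘ₗ g) ≤ LinearMap.ker (-(E₁.d 0 ∘ₗ σ)) := by
    intro m hm
    rw [LinearMap.mem_ker, LinearMap.comp_apply] at hm
    have hgm : g m = 0 := E₃.ε_injective (by rw [hm, map_zero])
    have : m ∈ LinearMap.range f := by rw [← hex]; exact hgm
    obtain ⟨m₁, rfl⟩ := this
    rw [LinearMap.mem_ker, LinearMap.neg_apply, LinearMap.comp_apply, hσf', d_comp_ε, neg_zero]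
  obtain ⟨τ0, hτ0, hτ0d⟩ := extend_through 𝒜 ℳ₂ (E₃.X 0).gr (E₁.X 1).gr (E₁.starInj 1) hd0
    hφ0 hker0
  have hτ0' : ∀ m, τ0 (E₃.ε (g m)) = -(E₁.d 0 (σ m)) := fun m => LinearMap.congr_fun hτ0d m
  obtain ⟨τ, hτ0eq, hτP, hτrel⟩ := exists_dep_seq
    (α := fun n => (E₃.X n).carrier →ₗ[R] (E₁.X (n + 1)).carrier)
    (fun n τ => IsGrHomDeg (E₃.X n).gr (E₁.X (n + 1)).gr τ (-δ) ∧
      LinearMap.ker (E₃.d n) ≤ LinearMap.ker (E₁.d (n + 1) ∘ₗ τ))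
    (fun n τ τ' => ∀ x, E₁.d (n + 1) (τ x) + τ' (E₃.d n x) = 0)
    τ0 ⟨hτ0, by
      intro x hx
      rw [E₃.exact_zero] at hx
      obtain ⟨m₃, rfl⟩ := hx
      obtain ⟨m₂, rfl⟩ := hsurj m₃
      rw [LinearMap.mem_ker, LinearMap.comp_apply, hτ0', map_neg, d_comp_d, neg_zero]⟩
    (by
      rintro n τn ⟨hτn, hτnker⟩
      have hφ : IsGrHomDeg (E₃.X n).gr (E₁.X (n + 2)).gr (-(E₁.d (n + 1) ∘ₗ τn)) (-δ) := by
        intro k x hx
        rw [LinearMap.neg_apply, LinearMap.comp_apply]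
        exact neg_mem (E₁.d_grHom (n + 1) _ _ (hτn k x hx))
      have hker : LinearMap.ker (E₃.d n) ≤ LinearMap.ker (-(E₁.d (n + 1) ∘ₗ τn)) := by
        intro x hx
        have := hτnker hx
        rw [LinearMap.mem_ker] at this ⊢
        rw [LinearMap.neg_apply, this, neg_zero]
      obtain ⟨τ', hτ', hτ'd⟩ := extend_through 𝒜 (E₃.X n).gr (E₃.X (n + 1)).gr
        (E₁.X (n + 2)).gr (E₁.starInj (n + 2)) (E₃.d_grHom n) hφ hker
      have hτ'x : ∀ x, τ' (E₃.d n x) = -(E₁.d (n + 1) (τn x)) := fun x =>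
        LinearMap.congr_fun hτ'd x
      refine ⟨τ', ⟨hτ', ?_⟩, fun x => ?_⟩
      · intro x hx
        rw [E₃.exact_succ] at hx
        obtain ⟨y, rfl⟩ := hx
        rw [LinearMap.mem_ker, LinearMap.comp_apply, hτ'x, map_neg, d_comp_d, neg_zero]
      · rw [hτ'x, add_neg_cancel])
  refine ⟨⟨σ, τ, hσ, fun n => (hτP n).1, hσf', ?_, hτrel⟩⟩
  intro m
  rw [hτ0eq, hτ0', add_neg_cancel]

variable {E₁ : StarInjRes 𝒜 ℳ₁} {E₃ : StarInjRes 𝒜 ℳ₃} {f : M₁ →ₗ[R] M₂} {g : M₂ →ₗ[R] M₃}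
  {δ : ι}

/-- The differential of the horseshoe resolution. -/
def HSData.D (D : HSData E₁ E₃ ℳ₂ f g δ) (n : ℕ) :
    ((E₁.X n).carrier × (E₃.X n).carrier) →ₗ[R] ((E₁.X (n + 1)).carrier × (E₃.X (n + 1)).carrier) :=
  ((E₁.d n).coprod (D.τ n)).prod (E₃.d n ∘ₗ LinearMap.snd R _ _)

theorem HSData.D_apply (D : HSData E₁ E₃ ℳ₂ f g δ) (n : ℕ)
    (p : (E₁.X n).carrier × (E₃.X n).carrier) :
    D.D n p = (E₁.d n p.1 + D.τ n p.2, E₃.d n p.2) := rfl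

/-- The augmentation of the horseshoe resolution. -/
def HSData.aug (D : HSData E₁ E₃ ℳ₂ f g δ) : M₂ →ₗ[R] ((E₁.X 0).carrier × (E₃.X 0).carrier) :=
  D.σ.prod (E₃.ε ∘ₗ g)

theorem HSData.aug_apply (D : HSData E₁ E₃ ℳ₂ f g δ) (m : M₂) :
    D.aug m = (D.σ m, E₃.ε (g m)) := rfl

/-- The horseshoe resolution of the middle term of a short exact sequence. -/
noncomputable def HSData.res (D : HSData E₁ E₃ ℳ₂ f g δ) (hg : IsGrHom ℳ₂ ℳ₃ g)
    (hsurj : Function.Surjective g)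
    (hex : LinearMap.ker g = LinearMap.range f) :
    StarInjRes 𝒜 ℳ₂ where
  X n := hsX (E₁.X n) (E₃.X n) δ
  d n := D.D n
  ε := D.aug
  d_grHom n := by
    intro k p hp
    have hp' := mem_hsX_gr.mp hp
    exact mem_hsX_gr.mpr ⟨add_mem (E₁.d_grHom n _ _ hp'.1) (D.τ_deg n k _ hp'.2),
      E₃.d_grHom n _ _ hp'.2⟩
  ε_grHom := by
    intro k m hm
    exact mem_hsX_gr.mpr ⟨D.σ_deg k m hm, E₃.ε_grHom k _ (hg k m hm)⟩
  ε_injective := by
    intro m m' h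
    have h' : (D.σ m, E₃.ε (g m)) = (D.σ m', E₃.ε (g m')) := h
    rw [Prod.mk.injEq] at h'
    have h2 : g (m - m') = 0 := by
      rw [map_sub, sub_eq_zero]
      exact E₃.ε_injective h'.2
    have : m - m' ∈ LinearMap.range f := by rw [← hex]; exact h2
    obtain ⟨m₁, hm₁⟩ := this
    have h1 : D.σ (m - m') = 0 := by rw [map_sub, h'.1, sub_self]
    rw [← hm₁, D.σ_f] at h1
    have : m₁ = 0 := E₁.ε_injective (by rw [h1, map_zero])
    rw [this, map_zero] at hm₁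
    exact (sub_eq_zero.mp hm₁.symm)
  exact_zero := by
    apply le_antisymm
    · rintro ⟨x, c⟩ hp
      have hp' : (E₁.d 0 x + D.τ 0 c, E₃.d 0 c) = 0 := hp
      rw [Prod.mk_eq_zero] at hp'
      obtain ⟨h1, h2⟩ := hp'
      have hc : c ∈ LinearMap.range E₃.ε := by rw [← E₃.exact_zero]; exact h2
      obtain ⟨m₃, rfl⟩ := hc
      obtain ⟨m₂, rfl⟩ := hsurj m₃
      have h3 : E₁.d 0 (x - D.σ m₂) = 0 := by
        rw [map_sub, sub_eq_zero]
        have := D.h0 m₂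
        rw [add_eq_zero_iff_eq_neg] at this h1
        rw [h1, this]
      have h4 : x - D.σ m₂ ∈ LinearMap.range E₁.ε := by rw [← E₁.exact_zero]; exact h3
      obtain ⟨m₁, hm₁⟩ := h4
      refine ⟨m₂ + f m₁, ?_⟩
      show (D.σ (m₂ + f m₁), E₃.ε (g (m₂ + f m₁))) = (x, E₃.ε (g m₂))
      have hgf : g (f m₁) = 0 := by
        have : f m₁ ∈ LinearMap.ker g := by rw [hex]; exact ⟨m₁, rfl⟩
        exact this
      rw [map_add, map_add, D.σ_f, hm₁, hgf, add_zero, add_sub_cancel]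
    · rintro _ ⟨m, rfl⟩
      show (E₁.d 0 (D.σ m) + D.τ 0 (E₃.ε (g m)), E₃.d 0 (E₃.ε (g m))) = 0
      rw [D.h0, d_comp_ε]
      rfl
  exact_succ n := by
    apply le_antisymm
    · rintro ⟨x, c⟩ hp
      have hp' : (E₁.d (n + 1) x + D.τ (n + 1) c, E₃.d (n + 1) c) = 0 := hp
      rw [Prod.mk_eq_zero] at hp'
      obtain ⟨h1, h2⟩ := hp'
      have hc : c ∈ LinearMap.range (E₃.d n) := by rw [← E₃.exact_succ]; exact h2
      obtain ⟨c', rfl⟩ := hc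
      have h3 : E₁.d (n + 1) (x - D.τ n c') = 0 := by
        rw [map_sub, sub_eq_zero]
        have := D.hτ n c'
        rw [add_eq_zero_iff_eq_neg] at this h1
        rw [h1, this]
      have h4 : x - D.τ n c' ∈ LinearMap.range (E₁.d n) := by rw [← E₁.exact_succ]; exact h3
      obtain ⟨x', hx'⟩ := h4
      refine ⟨(x', c'), ?_⟩
      show (E₁.d n x' + D.τ n c', E₃.d n c') = (x, E₃.d n c')
      rw [hx', sub_add_cancel]
    · rintro _ ⟨⟨x, c⟩, rfl⟩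
      show (E₁.d (n + 1) (E₁.d n x + D.τ n c) + D.τ (n + 1) (E₃.d n c),
        E₃.d (n + 1) (E₃.d n c)) = 0
      rw [map_add, d_comp_d, zero_add, D.hτ, d_comp_d]
      rfl
  starInj n := isStarInj_hsX δ (E₁.starInj n) (E₃.starInj n)

end Horseshoe

section LES

variable {𝒜}
variable {M₁ M₂ M₃ : Type u} [AddCommGroup M₁] [Module R M₁] [AddCommGroup M₂] [Module R M₂]
  [AddCommGroup M₃] [Module R M₃]
  {ℳ₁ : ι → AddSubgroup M₁} {ℳ₂ : ι → AddSubgroup M₂} {ℳ₃ : ι → AddSubgroup M₃}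
  [Decomposition ℳ₁] [SetLike.GradedSMul 𝒜 ℳ₁] [Decomposition ℳ₂] [SetLike.GradedSMul 𝒜 ℳ₂]
  [Decomposition ℳ₃] [SetLike.GradedSMul 𝒜 ℳ₃]
variable {E₁ : StarInjRes 𝒜 ℳ₁} {E₃ : StarInjRes 𝒜 ℳ₃} {f : M₁ →ₗ[R] M₂} {g : M₂ →ₗ[R] M₃}
  {δ : ι}

theorem mem_gam_prod {X Y : Type u} [AddCommGroup X] [Module R X] [AddCommGroup Y] [Module R Y]
    (a : Ideal R) (p : X × Y) : p ∈ gam a (X × Y) ↔ p.1 ∈ gam a X ∧ p.2 ∈ gam a Y := by
  constructor
  · intro h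
    exact ⟨map_mem_gam (LinearMap.fst R X Y) h, map_mem_gam (LinearMap.snd R X Y) h⟩
  · rintro ⟨h1, h2⟩
    have : p = LinearMap.inl R X Y p.1 + LinearMap.inr R X Y p.2 := by
      apply Prod.ext <;> simp
    rw [this]
    exact add_mem (map_mem_gam _ h1) (map_mem_gam _ h2)

variable (D : HSData E₁ E₃ ℳ₂ f g δ) (hg : IsGrHom ℳ₂ ℳ₃ g) (hsurj : Function.Surjective g)
  (hex : LinearMap.ker g = LinearMap.range f)

/-- The inclusion of the first resolution into the horseshoe. -/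
def HSData.inlMap (n : ℕ) : (E₁.X n).carrier →ₗ[R] ((D.res hg hsurj hex).X n).carrier :=
  LinearMap.inl R (E₁.X n).carrier (E₃.X n).carrier

/-- The projection of the horseshoe onto the third resolution. -/
def HSData.sndMap (n : ℕ) : ((D.res hg hsurj hex).X n).carrier →ₗ[R] (E₃.X n).carrier :=
  LinearMap.snd R (E₁.X n).carrier (E₃.X n).carrier

theorem HSData.isLift_inl :
    IsLift E₁ (D.res hg hsurj hex) f δ (D.inlMap hg hsurj hex) where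
  comm n x := by
    show (E₁.d n x, (0 : (E₃.X (n + 1)).carrier)) = (E₁.d n x + D.τ n 0, E₃.d n 0)
    rw [map_zero, map_zero, add_zero]
  deg n := by
    intro k x hx
    refine mem_hsX_gr.mpr ⟨?_, zero_mem _⟩
    show x ∈ (E₁.X n).gr (k + δ + -δ)
    rwa [add_neg_cancel_right]
  aug m := by
    show (E₁.ε m, (0 : (E₃.X 0).carrier)) = (D.σ (f m), E₃.ε (g (f m)))
    have hgf : g (f m) = 0 := by
      have : f m ∈ LinearMap.ker g := by rw [hex]; exact ⟨m, rfl⟩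
      exact this
    rw [D.σ_f, hgf, map_zero]

theorem HSData.isLift_snd :
    IsLift (D.res hg hsurj hex) E₃ g 0 (D.sndMap hg hsurj hex) where
  comm n x := rfl
  deg n := by
    intro k p hp
    rw [add_zero]
    exact (mem_hsX_gr.mp hp).2
  aug m := rfl

theorem HSData.τ_mem_cocyc (a : HomogeneousIdeal 𝒜) (i : ℕ) {z : (E₃.X i).carrier}
    (hz : z ∈ E₃.cocyc a i) : D.τ i z ∈ E₁.cocyc a (i + 1) := by
  refine ⟨map_mem_gam (D.τ i) hz.1, ?_⟩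
  have hz2 : E₃.d i z = 0 := hz.2
  show E₁.d (i + 1) (D.τ i z) = 0
  have := D.hτ i z
  rw [hz2, map_zero, add_zero] at this
  exact this

theorem HSData.τ_mem_cobdy (a : HomogeneousIdeal 𝒜) (i : ℕ) {z : (E₃.X i).carrier}
    (hz : z ∈ E₃.cobdy a i) : D.τ i z ∈ E₁.cobdy a (i + 1) := by
  cases i with
  | zero =>
    have h0 : z = 0 := (Submodule.mem_bot R).mp hz
    rw [h0, map_zero]
    exact Submodule.zero_mem _
  | succ n =>
    obtain ⟨t, ht, rfl⟩ := hz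
    refine ⟨-(D.τ n t), neg_mem (map_mem_gam (D.τ n) ht), ?_⟩
    have := D.hτ n t
    rw [map_neg]
    exact (eq_neg_of_add_eq_zero_right this).symm

/-- The connecting map on cocycles. -/
def HSData.connCocyc (a : HomogeneousIdeal 𝒜) (i : ℕ) : E₃.cocyc a i →ₗ[R] E₁.cocyc a (i + 1) :=
  (D.τ i).restrict (fun _ hx => D.τ_mem_cocyc a i hx)

/-- The connecting homomorphism of the horseshoe. -/
def HSData.conn (a : HomogeneousIdeal 𝒜) (i : ℕ) : E₃.H a i →ₗ[R] E₁.H a (i + 1) :=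
  Submodule.mapQ _ _ (D.connCocyc a i) (by
    intro z hz
    rw [Submodule.mem_comap] at hz ⊢
    rw [Submodule.mem_comap]
    exact D.τ_mem_cobdy a i hz)

theorem HSData.conn_toH (a : HomogeneousIdeal 𝒜) (i : ℕ) (z : E₃.cocyc a i) :
    D.conn a i (E₃.toH a i z) = E₁.toH a (i + 1) (D.connCocyc a i z) := rfl

theorem HSData.conn_mem (a : HomogeneousIdeal 𝒜) (i : ℕ) {k : ι} {x : E₃.H a i}
    (hx : x ∈ E₃.Hcomp a i k) : D.conn a i x ∈ E₁.Hcomp a (i + 1) (k + -δ) := by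
  obtain ⟨z, hz, rfl⟩ := hx
  exact ⟨D.connCocyc a i z, D.τ_deg i k _ hz, rfl⟩


theorem HSData.mem_cocyc_res (a : HomogeneousIdeal 𝒜) (i : ℕ)
    (p : (E₁.X i).carrier × (E₃.X i).carrier) :
    p ∈ (D.res hg hsurj hex).cocyc a i ↔
      (p.1 ∈ gam a.toIdeal (E₁.X i).carrier ∧ p.2 ∈ gam a.toIdeal (E₃.X i).carrier) ∧
        E₁.d i p.1 + D.τ i p.2 = 0 ∧ E₃.d i p.2 = 0 := by
  have h1 : p ∈ (D.res hg hsurj hex).cocyc a i ↔
      p ∈ gam a.toIdeal ((E₁.X i).carrier × (E₃.X i).carrier) ∧ D.D i p = 0 := Iff.rfl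
  rw [h1, mem_gam_prod, D.D_apply, Prod.mk_eq_zero]

theorem HSData.inl_injective (a : HomogeneousIdeal 𝒜) :
    Function.Injective (HmapOf (D.isLift_inl hg hsurj hex).toIsChain a 0) := by
  rw [injective_iff_map_eq_zero]
  intro x hx
  obtain ⟨z, rfl⟩ := toH_surjective E₁ a 0 x
  rw [HmapOf_toH, toH_eq_zero_iff_zero] at hx
  rw [toH_eq_zero_iff_zero]
  have hx' : ((z : (E₁.X 0).carrier), (0 : (E₃.X 0).carrier)) = 0 := hx
  exact (Prod.mk_eq_zero.mp hx').1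

theorem HSData.ker_snd (a : HomogeneousIdeal 𝒜) (i : ℕ) :
    LinearMap.ker (HmapOf (D.isLift_snd hg hsurj hex).toIsChain a i) =
      LinearMap.range (HmapOf (D.isLift_inl hg hsurj hex).toIsChain a i) := by
  apply le_antisymm
  · intro y hy
    obtain ⟨⟨p, hp⟩, rfl⟩ := toH_surjective (D.res hg hsurj hex) a i y
    rw [LinearMap.mem_ker, HmapOf_toH] at hy
    obtain ⟨⟨hx1, hc1⟩, hd1, hd3⟩ := (D.mem_cocyc_res hg hsurj hex a i p).mp hp
    cases i with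
    | zero =>
      rw [toH_eq_zero_iff_zero] at hy
      have hc : p.2 = 0 := hy
      have hx : p.1 ∈ E₁.cocyc a 0 := by
        refine ⟨hx1, ?_⟩
        show E₁.d 0 p.1 = 0
        rw [hc, map_zero, add_zero] at hd1
        exact hd1
      refine ⟨E₁.toH a 0 ⟨p.1, hx⟩, ?_⟩
      rw [HmapOf_toH]
      congr 1
      apply Subtype.ext
      show (p.1, (0 : (E₃.X 0).carrier)) = p
      rw [← hc]
      rfl
    | succ n =>
      rw [toH_eq_zero_iff_succ] at hy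
      obtain ⟨t, ht, htc⟩ := hy
      have htc' : E₃.d n t = p.2 := htc
      have hx : p.1 - D.τ n t ∈ E₁.cocyc a (n + 1) := by
        refine ⟨sub_mem hx1 (map_mem_gam _ ht), ?_⟩
        show E₁.d (n + 1) (p.1 - D.τ n t) = 0
        have h2 := D.hτ n t
        rw [htc'] at h2
        rw [map_sub, sub_eq_zero]
        rw [add_eq_zero_iff_eq_neg] at hd1 h2
        rw [hd1, h2]
      refine ⟨E₁.toH a (n + 1) ⟨p.1 - D.τ n t, hx⟩, ?_⟩
      rw [HmapOf_toH, eq_comm, ← sub_eq_zero, ← map_sub, toH_eq_zero_iff_succ]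
      refine ⟨((0 : (E₁.X n).carrier), t),
        (mem_gam_prod _ _).mpr ⟨Submodule.zero_mem _, ht⟩, ?_⟩
      apply Prod.ext
      · show E₁.d n 0 + D.τ n t = p.1 - (p.1 - D.τ n t)
        rw [map_zero]
        abel
      · show E₃.d n t = p.2 - 0
        rw [htc', sub_zero]
  · rintro _ ⟨x, rfl⟩
    obtain ⟨z, rfl⟩ := toH_surjective E₁ a i x
    rw [LinearMap.mem_ker, HmapOf_toH, HmapOf_toH]
    have : cocycMap (D.isLift_snd hg hsurj hex).toIsChain a i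
        (cocycMap (D.isLift_inl hg hsurj hex).toIsChain a i z) = 0 := Subtype.ext rfl
    rw [this, map_zero]


theorem HSData.ker_conn (a : HomogeneousIdeal 𝒜) (i : ℕ) :
    LinearMap.ker (D.conn a i) =
      LinearMap.range (HmapOf (D.isLift_snd hg hsurj hex).toIsChain a i) := by
  apply le_antisymm
  · intro z hz
    obtain ⟨⟨c, hc⟩, rfl⟩ := toH_surjective E₃ a i z
    rw [LinearMap.mem_ker, D.conn_toH, toH_eq_zero_iff_succ] at hz
    obtain ⟨t, ht, htc⟩ := hz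
    have htc' : E₁.d i t = D.τ i c := htc
    have hc2 : E₃.d i c = 0 := hc.2
    have hp : ((-t, c) : (E₁.X i).carrier × (E₃.X i).carrier) ∈
        (D.res hg hsurj hex).cocyc a i := by
      rw [D.mem_cocyc_res]
      refine ⟨⟨neg_mem ht, hc.1⟩, ?_, hc2⟩
      show E₁.d i (-t) + D.τ i c = 0
      rw [map_neg, htc', neg_add_cancel]
    refine ⟨(D.res hg hsurj hex).toH a i ⟨(-t, c), hp⟩, ?_⟩
    rw [HmapOf_toH]
    congr 1
  · rintro _ ⟨y, rfl⟩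
    obtain ⟨⟨p, hp⟩, rfl⟩ := toH_surjective (D.res hg hsurj hex) a i y
    obtain ⟨⟨hx1, hc1⟩, hd1, hd3⟩ := (D.mem_cocyc_res hg hsurj hex a i p).mp hp
    rw [LinearMap.mem_ker, HmapOf_toH, D.conn_toH, toH_eq_zero_iff_succ]
    refine ⟨-p.1, neg_mem hx1, ?_⟩
    show E₁.d i (-p.1) = D.τ i p.2
    rw [map_neg]
    exact (eq_neg_of_add_eq_zero_left hd1).symm ▸ (neg_neg _)

theorem HSData.ker_inl (a : HomogeneousIdeal 𝒜) (i : ℕ) :
    LinearMap.ker (HmapOf (D.isLift_inl hg hsurj hex).toIsChain a (i + 1)) =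
      LinearMap.range (D.conn a i) := by
  apply le_antisymm
  · intro x hx
    obtain ⟨⟨x, hxc⟩, rfl⟩ := toH_surjective E₁ a (i + 1) x
    rw [LinearMap.mem_ker, HmapOf_toH, toH_eq_zero_iff_succ] at hx
    obtain ⟨p, hp, hpx⟩ := hx
    have hp' := (mem_gam_prod a.toIdeal p).mp hp
    have hpx' : (E₁.d i p.1 + D.τ i p.2, E₃.d i p.2) = (x, (0 : (E₃.X (i + 1)).carrier)) := hpx
    rw [Prod.mk.injEq] at hpx'
    have hc : p.2 ∈ E₃.cocyc a i := ⟨hp'.2, hpx'.2⟩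
    refine ⟨E₃.toH a i ⟨p.2, hc⟩, ?_⟩
    rw [D.conn_toH, ← sub_eq_zero, ← map_sub, toH_eq_zero_iff_succ]
    refine ⟨-p.1, neg_mem hp'.1, ?_⟩
    show E₁.d i (-p.1) = D.τ i p.2 - x
    rw [map_neg, ← hpx'.1]
    abel
  · rintro _ ⟨z, rfl⟩
    obtain ⟨⟨c, hc⟩, rfl⟩ := toH_surjective E₃ a i z
    rw [LinearMap.mem_ker, D.conn_toH, HmapOf_toH, toH_eq_zero_iff_succ]
    have hc2 : E₃.d i c = 0 := hc.2
    refine ⟨((0 : (E₁.X i).carrier), c), (mem_gam_prod _ _).mpr ⟨Submodule.zero_mem _, hc.1⟩, ?_⟩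
    show (E₁.d i 0 + D.τ i c, E₃.d i c) = (D.τ i c, (0 : (E₃.X (i + 1)).carrier))
    rw [map_zero, zero_add, hc2]

end LES

section General

variable {𝒜}
variable {M₁ M₂ M₃ : Type u} [AddCommGroup M₁] [Module R M₁] [AddCommGroup M₂] [Module R M₂]
  [AddCommGroup M₃] [Module R M₃]
  {ℳ₁ : ι → AddSubgroup M₁} {ℳ₂ : ι → AddSubgroup M₂} {ℳ₃ : ι → AddSubgroup M₃}
  [Decomposition ℳ₁] [SetLike.GradedSMul 𝒜 ℳ₁] [Decomposition ℳ₂] [SetLike.GradedSMul 𝒜 ℳ₂]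
  [Decomposition ℳ₃] [SetLike.GradedSMul 𝒜 ℳ₃]

/-- A homogeneous element in the range of a map of degree `δ` between graded local cohomology
modules is the image of a homogeneous element. -/
theorem exists_mem_of_mem_range {E : StarInjRes 𝒜 ℳ₁} {E' : StarInjRes 𝒜 ℳ₂}
    (a : HomogeneousIdeal 𝒜) {i j : ℕ} (φ : E.H a i →ₗ[R] E'.H a j) {δ : ι}
    (hφ : ∀ k x, x ∈ E.Hcomp a i k → φ x ∈ E'.Hcomp a j (k + δ))
    {e : ι} {y : E'.H a j} (hy : y ∈ E'.Hcomp a j (e + δ)) (hr : y ∈ LinearMap.range φ) :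
    ∃ x ∈ E.Hcomp a i e, φ x = y := by
  let _ := (starInjRes_Hgr_isInternal 𝒜 ℳ₁ a E i).chooseDecomposition
  let _ := (starInjRes_Hgr_isInternal 𝒜 ℳ₂ a E' j).chooseDecomposition
  obtain ⟨x, rfl⟩ := hr
  have hφ' : IsGrHomDeg (E.Hgr a i) (E'.Hgr a j) φ δ := hφ
  refine ⟨(decompose (E.Hgr a i) x e : E.H a i), (decompose (E.Hgr a i) x e).2, ?_⟩
  rw [← decompose_map_deg (E.Hgr a i) (E'.Hgr a j) hφ' x e]
  exact decompose_of_mem_same (E'.Hgr a j) hy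

variable (E₁ : StarInjRes 𝒜 ℳ₁) (E₂ : StarInjRes 𝒜 ℳ₂) (E₃ : StarInjRes 𝒜 ℳ₃)
  (a : HomogeneousIdeal 𝒜) {f : M₁ →ₗ[R] M₂} {g : M₂ →ₗ[R] M₃} {δ : ι}

/-- **The long exact sequence of graded local cohomology** of a short exact sequence
`0 → M₁ → M₂ → M₃ → 0` of graded modules (`f` homogeneous of degree `δ`, `g` of degree `0`),
for arbitrary *injective resolutions of the three modules. -/
theorem exists_les (hf : IsGrHomDeg ℳ₁ ℳ₂ f δ) (hg : IsGrHomDeg ℳ₂ ℳ₃ g 0)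
    (hinj : Function.Injective f) (hsurj : Function.Surjective g)
    (hex : LinearMap.ker g = LinearMap.range f) :
    ∃ cn : ∀ i, E₃.H a i →ₗ[R] E₁.H a (i + 1),
      (∀ i k x, x ∈ E₃.Hcomp a i k → cn i x ∈ E₁.Hcomp a (i + 1) (k + -δ)) ∧
      Function.Injective (Hmap E₁ E₂ a hf 0) ∧
      (∀ i, LinearMap.ker (Hmap E₂ E₃ a hg i) = LinearMap.range (Hmap E₁ E₂ a hf i)) ∧
      (∀ i, LinearMap.ker (cn i) = LinearMap.range (Hmap E₂ E₃ a hg i)) ∧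
      (∀ i, LinearMap.ker (Hmap E₁ E₂ a hf (i + 1)) = LinearMap.range (cn i)) := by
  have hg' : IsGrHom ℳ₂ ℳ₃ g := (isGrHomDeg_zero_iff _ _ _).mp hg
  obtain ⟨D⟩ := exists_hsData E₁ E₃ hf hg' hinj hsurj hex
  have hι : ∀ i x, Hmap E₁ E₂ a hf i x = Hequiv (D.res hg' hsurj hex) E₂ a i
      (HmapOf (D.isLift_inl hg' hsurj hex).toIsChain a i x) := by
    intro i x
    rw [Hequiv_apply, ← Hmap_eq E₁ (D.res hg' hsurj hex) a hf (D.isLift_inl hg' hsurj hex) i]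
    exact Hmap_comp E₁ (D.res hg' hsurj hex) E₂ a hf isGrHomDeg_id hf
      (LinearMap.id_comp f).symm (add_zero δ).symm i x
  have hπ : ∀ i y, HmapOf (D.isLift_snd hg' hsurj hex).toIsChain a i y =
      Hmap E₂ E₃ a hg i (Hequiv (D.res hg' hsurj hex) E₂ a i y) := by
    intro i y
    rw [Hequiv_apply, ← Hmap_eq (D.res hg' hsurj hex) E₃ a hg (D.isLift_snd hg' hsurj hex) i]
    exact Hmap_comp (D.res hg' hsurj hex) E₂ E₃ a isGrHomDeg_id hg hg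
      (LinearMap.comp_id g).symm (zero_add 0).symm i y
  refine ⟨fun i => D.conn a i, fun i k x hx => D.conn_mem a i hx, ?_, ?_, ?_, ?_⟩
  · intro x x' h
    rw [hι, hι] at h
    exact D.inl_injective hg' hsurj hex a ((Hequiv _ E₂ a 0).injective h)
  · intro i
    ext y
    constructor
    · intro hy
      rw [LinearMap.mem_ker] at hy
      have h1 : (Hequiv (D.res hg' hsurj hex) E₂ a i).symm y ∈
          LinearMap.ker (HmapOf (D.isLift_snd hg' hsurj hex).toIsChain a i) := by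
        rw [LinearMap.mem_ker, hπ, LinearEquiv.apply_symm_apply, hy]
      rw [D.ker_snd hg' hsurj hex a i] at h1
      obtain ⟨x, hx⟩ := h1
      refine ⟨x, ?_⟩
      rw [hι, hx, LinearEquiv.apply_symm_apply]
    · rintro ⟨x, rfl⟩
      rw [LinearMap.mem_ker, hι, ← hπ]
      have : HmapOf (D.isLift_inl hg' hsurj hex).toIsChain a i x ∈
          LinearMap.ker (HmapOf (D.isLift_snd hg' hsurj hex).toIsChain a i) := by
        rw [D.ker_snd hg' hsurj hex a i]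
        exact ⟨x, rfl⟩
      exact this
  · intro i
    show LinearMap.ker (D.conn a i) = _
    rw [D.ker_conn hg' hsurj hex a i]
    ext z
    constructor
    · rintro ⟨y, rfl⟩
      exact ⟨_, (hπ i y).symm⟩
    · rintro ⟨y, rfl⟩
      refine ⟨(Hequiv (D.res hg' hsurj hex) E₂ a i).symm y, ?_⟩
      rw [hπ, LinearEquiv.apply_symm_apply]
  · intro i
    show _ = LinearMap.range (D.conn a i)
    rw [← D.ker_inl hg' hsurj hex a i]
    ext x
    rw [LinearMap.mem_ker, LinearMap.mem_ker, hι, LinearEquiv.map_eq_zero_iff]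

end General

section Corollaries

variable {𝒜}
variable {M₁ M₂ M₃ : Type u} [AddCommGroup M₁] [Module R M₁] [AddCommGroup M₂] [Module R M₂]
  [AddCommGroup M₃] [Module R M₃]
  {ℳ₁ : ι → AddSubgroup M₁} {ℳ₂ : ι → AddSubgroup M₂} {ℳ₃ : ι → AddSubgroup M₃}
  [Decomposition ℳ₁] [SetLike.GradedSMul 𝒜 ℳ₁] [Decomposition ℳ₂] [SetLike.GradedSMul 𝒜 ℳ₂]
  [Decomposition ℳ₃] [SetLike.GradedSMul 𝒜 ℳ₃]
variable (E₁ : StarInjRes 𝒜 ℳ₁) (E₂ : StarInjRes 𝒜 ℳ₂) (E₃ : StarInjRes 𝒜 ℳ₃)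
  (a : HomogeneousIdeal 𝒜) {f : M₁ →ₗ[R] M₂} {g : M₂ →ₗ[R] M₃} {δ : ι}

/-- Graded exactness at the middle term: a class of degree `e + δ` of `H^i(M₂)` which dies in
`H^i(M₃)` comes from a class of degree `e` of `H^i(M₁)`. -/
theorem exists_of_Hmap_eq_zero (hf : IsGrHomDeg ℳ₁ ℳ₂ f δ) (hg : IsGrHomDeg ℳ₂ ℳ₃ g 0)
    (hinj : Function.Injective f) (hsurj : Function.Surjective g)
    (hex : LinearMap.ker g = LinearMap.range f) (i : ℕ) {e : ι} {y : E₂.H a i}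
    (hy : y ∈ E₂.Hcomp a i (e + δ)) (hy0 : Hmap E₂ E₃ a hg i y = 0) :
    ∃ x ∈ E₁.Hcomp a i e, Hmap E₁ E₂ a hf i x = y := by
  obtain ⟨cn, -, -, h2, -, -⟩ := exists_les E₁ E₂ E₃ a hf hg hinj hsurj hex
  have hr : y ∈ LinearMap.range (Hmap E₁ E₂ a hf i) := by
    rw [← h2 i, LinearMap.mem_ker]
    exact hy0
  exact exists_mem_of_mem_range a (Hmap E₁ E₂ a hf i) (fun k x hx => Hmap_mem E₁ E₂ a hf i hx)
    hy hr

/-- Vanishing in the middle. -/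
theorem Hcomp_eq_bot_mid (hf : IsGrHomDeg ℳ₁ ℳ₂ f δ) (hg : IsGrHomDeg ℳ₂ ℳ₃ g 0)
    (hinj : Function.Injective f) (hsurj : Function.Surjective g)
    (hex : LinearMap.ker g = LinearMap.range f) (i : ℕ) (e : ι)
    (h1 : E₁.Hcomp a i e = ⊥) (h3 : E₃.Hcomp a i (e + δ) = ⊥) : E₂.Hcomp a i (e + δ) = ⊥ := by
  rw [Hcomp_eq_bot_iff_forall_mem] at h1 h3 ⊢
  intro y hy
  have h4 := Hmap_mem E₂ E₃ a hg i hy
  rw [add_zero] at h4
  obtain ⟨x, hx, rfl⟩ := exists_of_Hmap_eq_zero E₁ E₂ E₃ a hf hg hinj hsurj hex i hy (h3 _ h4)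
  rw [h1 x hx, map_zero]

/-- Vanishing on the right. -/
theorem Hcomp_eq_bot_right (hf : IsGrHomDeg ℳ₁ ℳ₂ f δ) (hg : IsGrHomDeg ℳ₂ ℳ₃ g 0)
    (hinj : Function.Injective f) (hsurj : Function.Surjective g)
    (hex : LinearMap.ker g = LinearMap.range f) (i : ℕ) (e : ι)
    (h2 : E₂.Hcomp a i (e + δ) = ⊥) (h1 : E₁.Hcomp a (i + 1) e = ⊥) :
    E₃.Hcomp a i (e + δ) = ⊥ := by
  obtain ⟨cn, hcn, -, -, h3, -⟩ := exists_les E₁ E₂ E₃ a hf hg hinj hsurj hex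
  rw [Hcomp_eq_bot_iff_forall_mem] at h1 h2 ⊢
  intro z hz
  have h4 := hcn i _ z hz
  rw [add_neg_cancel_right] at h4
  have hr : z ∈ LinearMap.range (Hmap E₂ E₃ a hg i) := by
    rw [← h3 i, LinearMap.mem_ker]
    exact h1 _ h4
  have hz' : z ∈ E₃.Hcomp a i (e + δ + 0) := by rwa [add_zero]
  obtain ⟨y, hy, rfl⟩ := exists_mem_of_mem_range a (Hmap E₂ E₃ a hg i)
    (fun k x hx => Hmap_mem E₂ E₃ a hg i hx) hz' hr
  rw [h2 y hy, map_zero]

/-- Vanishing on the left, positive cohomological degree. -/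
theorem Hcomp_eq_bot_left (hf : IsGrHomDeg ℳ₁ ℳ₂ f δ) (hg : IsGrHomDeg ℳ₂ ℳ₃ g 0)
    (hinj : Function.Injective f) (hsurj : Function.Surjective g)
    (hex : LinearMap.ker g = LinearMap.range f) (i : ℕ) (e : ι)
    (h3 : E₃.Hcomp a i (e + δ) = ⊥) (h2 : E₂.Hcomp a (i + 1) (e + δ) = ⊥) :
    E₁.Hcomp a (i + 1) e = ⊥ := by
  obtain ⟨cn, hcn, -, -, -, h4⟩ := exists_les E₁ E₂ E₃ a hf hg hinj hsurj hex
  rw [Hcomp_eq_bot_iff_forall_mem] at h2 h3 ⊢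
  intro x hx
  have hr : x ∈ LinearMap.range (cn i) := by
    rw [← h4 i, LinearMap.mem_ker]
    exact h2 _ (Hmap_mem E₁ E₂ a hf (i + 1) hx)
  have hx' : x ∈ E₁.Hcomp a (i + 1) (e + δ + -δ) := by rwa [add_neg_cancel_right]
  obtain ⟨z, hz, rfl⟩ := exists_mem_of_mem_range a (cn i) (fun k x hx => hcn i k x hx) hx' hr
  rw [h3 z hz, map_zero]

include E₃ in
/-- Vanishing on the left, cohomological degree zero. -/
theorem Hcomp_eq_bot_left_zero (hf : IsGrHomDeg ℳ₁ ℳ₂ f δ) (hg : IsGrHomDeg ℳ₂ ℳ₃ g 0)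
    (hinj : Function.Injective f) (hsurj : Function.Surjective g)
    (hex : LinearMap.ker g = LinearMap.range f) (e : ι)
    (h2 : E₂.Hcomp a 0 (e + δ) = ⊥) : E₁.Hcomp a 0 e = ⊥ := by
  obtain ⟨cn, -, h0, -, -, -⟩ := exists_les E₁ E₂ E₃ a hf hg hinj hsurj hex
  rw [Hcomp_eq_bot_iff_forall_mem] at h2 ⊢
  intro x hx
  apply h0
  rw [map_zero]
  exact h2 _ (Hmap_mem E₁ E₂ a hf 0 hx)

/-- Surjectivity onto a piece of `H^i(M₃)` when the next piece of `H^{i+1}(M₁)` vanishes. -/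
theorem exists_of_Hcomp_succ_eq_bot (hf : IsGrHomDeg ℳ₁ ℳ₂ f δ) (hg : IsGrHomDeg ℳ₂ ℳ₃ g 0)
    (hinj : Function.Injective f) (hsurj : Function.Surjective g)
    (hex : LinearMap.ker g = LinearMap.range f) (i : ℕ) (e : ι)
    (h1 : E₁.Hcomp a (i + 1) e = ⊥) {z : E₃.H a i} (hz : z ∈ E₃.Hcomp a i (e + δ)) :
    ∃ y ∈ E₂.Hcomp a i (e + δ), Hmap E₂ E₃ a hg i y = z := by
  obtain ⟨cn, hcn, -, -, h3, -⟩ := exists_les E₁ E₂ E₃ a hf hg hinj hsurj hex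
  rw [Hcomp_eq_bot_iff_forall_mem] at h1
  have h4 := hcn i _ z hz
  rw [add_neg_cancel_right] at h4
  have hr : z ∈ LinearMap.range (Hmap E₂ E₃ a hg i) := by
    rw [← h3 i, LinearMap.mem_ker]
    exact h1 _ h4
  have hz' : z ∈ E₃.Hcomp a i (e + δ + 0) := by rwa [add_zero]
  exact exists_mem_of_mem_range a (Hmap E₂ E₃ a hg i)
    (fun k x hx => Hmap_mem E₂ E₃ a hg i hx) hz' hr

/-- A class of `H^{i+1}(M₁)` of degree `e` killed in `H^{i+1}(M₂)` comes from a class of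
`H^i(M₃)` of degree `e + δ`. -/
theorem eq_zero_of_Hmap_eq_zero (hf : IsGrHomDeg ℳ₁ ℳ₂ f δ) (hg : IsGrHomDeg ℳ₂ ℳ₃ g 0)
    (hinj : Function.Injective f) (hsurj : Function.Surjective g)
    (hex : LinearMap.ker g = LinearMap.range f) (i : ℕ) (e : ι)
    (h3 : E₃.Hcomp a i (e + δ) = ⊥) {x : E₁.H a (i + 1)} (hx : x ∈ E₁.Hcomp a (i + 1) e)
    (hx0 : Hmap E₁ E₂ a hf (i + 1) x = 0) : x = 0 := by
  obtain ⟨cn, hcn, -, -, -, h4⟩ := exists_les E₁ E₂ E₃ a hf hg hinj hsurj hex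
  rw [Hcomp_eq_bot_iff_forall_mem] at h3
  have hr : x ∈ LinearMap.range (cn i) := by
    rw [← h4 i, LinearMap.mem_ker]
    exact hx0
  have hx' : x ∈ E₁.Hcomp a (i + 1) (e + δ + -δ) := by rwa [add_neg_cancel_right]
  obtain ⟨z, hz, rfl⟩ := exists_mem_of_mem_range a (cn i) (fun k x hx => hcn i k x hx) hx' hr
  rw [h3 z hz, map_zero]

end Corollaries

section Torsion

variable {𝒜}
variable {M : Type u} [AddCommGroup M] [Module R M] {ℳ : ι → AddSubgroup M}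
  [Decomposition ℳ] [SetLike.GradedSMul 𝒜 ℳ]

/-- If multiplication by a homogeneous element `r ∈ a` of degree `δ` is injective on the pieces
`H^i_a(M)_e`, `e ∈ D`, where `D` is stable under `+ δ`, then these pieces vanish. -/
theorem Hcomp_eq_bot_of_smul_injective (E : StarInjRes 𝒜 ℳ) (a : HomogeneousIdeal 𝒜) {δ : ι}
    {r : R} (hr : r ∈ 𝒜 δ) (hra : r ∈ a.toIdeal) (i : ℕ) (D : Set ι)
    (hD : ∀ e ∈ D, e + δ ∈ D)
    (hinj : ∀ e ∈ D, ∀ x ∈ E.Hcomp a i e, r • x = 0 → x = 0) :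
    ∀ e ∈ D, E.Hcomp a i e = ⊥ := by
  have key : ∀ (n : ℕ) (e : ι), e ∈ D → ∀ x ∈ E.Hcomp a i e, r ^ n • x = 0 → x = 0 := by
    intro n
    induction n with
    | zero =>
      intro e _ x _ hx
      rwa [pow_zero, one_smul] at hx
    | succ n ih =>
      intro e he x hx hx0
      rw [pow_succ, mul_smul] at hx0
      exact hinj e he x hx (ih (e + δ) (hD e he) (r • x) (smul_mem_Hcomp E a hr i hx) hx0)
  intro e he
  rw [Hcomp_eq_bot_iff_forall_mem]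
  intro x hx
  obtain ⟨n, hn⟩ := exists_pow_smul_eq_zero E a i x
  exact key n e he x hx (hn _ (Ideal.pow_mem_pow hra n))

end Torsion

end Groth.Agent.Lib.GrLCLES
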