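import Groth.Agent.Lib.GrLCMap
import Groth.Agent.S13216

/-!
# Graded Mayer–Vietoris for graded local cohomology (helper12)

For a *injective resolution `E` of a graded module over a Noetherian graded ring (any grading
group) and homogeneous ideals `a`, `b`:

* `exists_add_of_mem_gam_inf` : `Γ_{a ∩ b}(I) = Γ_a(I) + Γ_b(I)` for *injective `I`
  (`exists_add_of_mem_gam_inf_of_mem` : homogeneous version);
* `Hincl E (h : a ≤ a') i : E.H a' i → E.H a i`, compatible with the pieces;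
* `exists_of_Hincl_eq` : exactness of `H^i_{a+b} → H^i_a ⊕ H^i_b → H^i_{a∩b}` degree by degree;
* `exists_add_of_Hcomp_sup_eq_bot` : surjectivity of `H^i_a ⊕ H^i_b → H^i_{a∩b}` in degree `e`
  when `H^{i+1}_{a+b}` vanishes in degree `e`;
* `Hcomp_eq_bot_left/right_of_inf`, `Hcomp_inf_eq_bot` : vanishing corollaries.
-/

set_option autoImplicit false
set_option linter.unusedSectionVars false
universe u

namespace Groth.Agent.Lib.GrLCMV

open DirectSum GrLC Groth.Agent.Lib.H87GrMod Groth.Agent.Lib.H87GrMod2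
  Groth.Agent.Lib.H87GrShift Groth.Agent.Lib.GrLCMap

section ArtinRees

variable {R : Type u} [CommRing R] [IsNoetherianRing R]

/-- Artin–Rees: `I^k ∩ J^k ⊆ (I ∩ J)^m` for `k ≫ m`. -/
theorem exists_pow_inf_pow_le (I J : Ideal R) (m : ℕ) : ∃ k : ℕ, I ^ k ⊓ J ^ k ≤ (I ⊓ J) ^ m := by
  obtain ⟨c, hc⟩ := Ideal.exists_pow_inf_eq_pow_smul I (J ^ m : Submodule R R)
  refine ⟨c + m, ?_⟩
  have h1 := hc (c + m) (Nat.le_add_right c m)
  rw [Nat.add_sub_cancel_left] at h1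
  have h2 : ∀ n : ℕ, (I ^ n • (⊤ : Submodule R R)) = I ^ n := fun n => by
    rw [smul_eq_mul, Ideal.mul_top]
  rw [h2, h2] at h1
  calc I ^ (c + m) ⊓ J ^ (c + m) ≤ I ^ (c + m) ⊓ J ^ m :=
        inf_le_inf_left _ (Ideal.pow_le_pow_right (Nat.le_add_left m c))
    _ = I ^ m • (I ^ c ⊓ J ^ m) := h1
    _ ≤ I ^ m * J ^ m := by
        rw [smul_eq_mul]
        exact Ideal.mul_mono_right inf_le_right
    _ = (I * J) ^ m := (mul_pow I J m).symm
    _ ≤ (I ⊓ J) ^ m := Ideal.pow_right_mono Ideal.mul_le_inf m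

end ArtinRees

section Gam

variable {R : Type u} [CommRing R] {M : Type u} [AddCommGroup M] [Module R M]

theorem gam_anti {a b : Ideal R} (h : a ≤ b) : gam b M ≤ gam a M := by
  rintro x ⟨n, hn⟩
  exact ⟨n, fun r hr => hn r (Ideal.pow_right_mono h n hr)⟩

theorem mem_gam_sup_iff {a b : Ideal R} {x : M} :
    x ∈ gam (a ⊔ b) M ↔ x ∈ gam a M ∧ x ∈ gam b M := by
  constructor
  · intro hx
    exact ⟨gam_anti le_sup_left hx, gam_anti le_sup_right hx⟩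
  · rintro ⟨⟨k, hk⟩, ⟨l, hl⟩⟩
    refine ⟨k + l, fun r hr => ?_⟩
    have h1 : r ∈ a ^ k ⊔ b ^ l := Ideal.sup_pow_add_le_pow_sup_pow hr
    obtain ⟨s, hs, t, ht, rfl⟩ := Submodule.mem_sup.1 h1
    rw [add_smul, hk s hs, hl t ht, add_zero]

theorem map_mem_gam {N : Type u} [AddCommGroup N] [Module R N] (f : M →ₗ[R] N) {a : Ideal R}
    {x : M} (hx : x ∈ gam a M) : f x ∈ gam a N := by
  obtain ⟨n, hn⟩ := hx
  exact ⟨n, fun r hr => by rw [← map_smul, hn r hr, map_zero]⟩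

end Gam

section Inf

variable {ι : Type} [AddCommGroup ι] [DecidableEq ι]
variable {R : Type u} [CommRing R] [IsNoetherianRing R] {𝒜 : ι → AddSubgroup R} [GradedRing 𝒜]
variable {I : Type u} [AddCommGroup I] [Module R I] (ℐ : ι → AddSubgroup I)
  [Decomposition ℐ] [SetLike.GradedSMul 𝒜 ℐ]

/-- For a *injective module, `Γ_{a ∩ b}(I) = Γ_a(I) + Γ_b(I)`. -/
theorem exists_add_of_mem_gam_inf (hI : IsStarInj 𝒜 ℐ) (a b : HomogeneousIdeal 𝒜) {x : I}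
    (hx : x ∈ gam (a ⊓ b).toIdeal I) :
    ∃ y ∈ gam a.toIdeal I, ∃ z ∈ gam b.toIdeal I, x = y + z := by
  obtain ⟨m, hm⟩ := hx
  rw [HomogeneousIdeal.toIdeal_inf] at hm
  obtain ⟨k, hk⟩ := exists_pow_inf_pow_le a.toIdeal b.toIdeal m
  set A : Ideal R := a.toIdeal ^ k with hA
  set B : Ideal R := b.toIdeal ^ k with hB
  have hAh : A.IsHomogeneous 𝒜 := isHomogeneous_pow 𝒜 a.isHomogeneous k
  have hBh : B.IsHomogeneous 𝒜 := isHomogeneous_pow 𝒜 b.isHomogeneous k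
  have hZh : (A ⊔ B).IsHomogeneous 𝒜 := hAh.sup hBh
  have hZfg : (A ⊔ B : Submodule R R).FG := IsNoetherian.noetherian _
  let q : (A × B) →ₗ[R] ↥(A ⊔ B) :=
    (Submodule.inclusion (le_sup_left : A ≤ A ⊔ B)).coprod
      (Submodule.inclusion (le_sup_right : B ≤ A ⊔ B))
  have hq : Function.Surjective q := by
    rintro ⟨r, hr⟩
    obtain ⟨s, hs, t, ht, rfl⟩ := Submodule.mem_sup.1 hr
    exact ⟨(⟨s, hs⟩, ⟨t, ht⟩), Subtype.ext rfl⟩
  let π : (A × B) →ₗ[R] I :=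
    (LinearMap.toSpanSingleton R I x ∘ₗ A.subtype) ∘ₗ LinearMap.fst R A B
  have hker : LinearMap.ker q ≤ LinearMap.ker π := by
    rintro ⟨⟨s, hs⟩, ⟨t, ht⟩⟩ hst
    rw [LinearMap.mem_ker] at hst ⊢
    have h1 : s + t = 0 := congrArg Subtype.val hst
    have h2 : s ∈ A ⊓ B := ⟨hs, by
      have : s = -t := eq_neg_of_add_eq_zero_left h1
      rw [this]; exact B.neg_mem ht⟩
    show s • x = 0
    exact hm s (hk h2)
  let φ : ↥(A ⊔ B) →ₗ[R] I :=
    (LinearMap.ker q).liftQ π hker ∘ₗ (q.quotKerEquivOfSurjective hq).symm.toLinearMap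
  have hφ : ∀ p, φ (q p) = π p := by
    intro p
    have : (q.quotKerEquivOfSurjective hq).symm (q p) = Submodule.Quotient.mk p := by
      rw [LinearEquiv.symm_apply_eq]
      rfl
    simp only [φ, LinearMap.coe_comp, LinearEquiv.coe_coe, Function.comp_apply, this]
    rfl
  obtain ⟨χ, hχ⟩ := Groth.Agent.S13216.exists_extension_of_fg 𝒜 𝒜 ℐ hI hZh hZfg φ
  refine ⟨x - χ 1, ⟨k, fun r hr => ?_⟩, χ 1, ⟨k, fun r hr => ?_⟩, by abel⟩
  · have h1 : r • χ 1 = r • x := by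
      rw [← map_smul, smul_eq_mul, mul_one]
      have := hχ (q (⟨r, hr⟩, 0))
      rw [hφ] at this
      have h2 : ((q ((⟨r, hr⟩ : A), (0 : B)) : ↥(A ⊔ B)) : R) = r := by
        show r + 0 = r
        rw [add_zero]
      rw [h2] at this
      rw [this]
      rfl
    rw [smul_sub, h1, sub_self]
  · rw [← map_smul, smul_eq_mul, mul_one]
    have := hχ (q (0, ⟨r, hr⟩))
    rw [hφ] at this
    have h2 : ((q ((0 : A), (⟨r, hr⟩ : B)) : ↥(A ⊔ B)) : R) = r := by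
      show 0 + r = r
      rw [zero_add]
    rw [h2] at this
    rw [this]
    show (0 : R) • x = 0
    rw [zero_smul]

/-- Homogeneous version. -/
theorem exists_add_of_mem_gam_inf_of_mem (hI : IsStarInj 𝒜 ℐ) (a b : HomogeneousIdeal 𝒜) {x : I}
    {e : ι} (hxe : x ∈ ℐ e) (hx : x ∈ gam (a ⊓ b).toIdeal I) :
    ∃ y ∈ gam a.toIdeal I, ∃ z ∈ gam b.toIdeal I, y ∈ ℐ e ∧ z ∈ ℐ e ∧ x = y + z := by
  obtain ⟨y, hy, z, hz, hxyz⟩ := exists_add_of_mem_gam_inf ℐ hI a b hx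
  refine ⟨(decompose ℐ y e : I), isHomogeneous_gam 𝒜 ℐ a e hy, (decompose ℐ z e : I),
    isHomogeneous_gam 𝒜 ℐ b e hz, (decompose ℐ y e).2, (decompose ℐ z e).2, ?_⟩
  have h1 : (decompose ℐ x e : I) = x := decompose_of_mem_same ℐ hxe
  rw [← h1, hxyz, decompose_add, DirectSum.add_apply, AddSubgroup.coe_add]

end Inf

section MV

variable {ι : Type} [AddCommGroup ι] [DecidableEq ι]
variable {R : Type u} [CommRing R] {𝒜 : ι → AddSubgroup R} [GradedRing 𝒜]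
variable {M : Type u} [AddCommGroup M] [Module R M] {ℳ : ι → AddSubgroup M}
  [Decomposition ℳ] [SetLike.GradedSMul 𝒜 ℳ]
variable (E : StarInjRes 𝒜 ℳ)

theorem cocyc_anti {a a' : HomogeneousIdeal 𝒜} (h : a ≤ a') (i : ℕ) :
    E.cocyc a' i ≤ E.cocyc a i :=
  inf_le_inf_right _ (gam_anti (show a.toIdeal ≤ a'.toIdeal from h))

theorem cobdy_anti {a a' : HomogeneousIdeal 𝒜} (h : a ≤ a') (i : ℕ) :
    E.cobdy a' i ≤ E.cobdy a i := by
  cases i with
  | zero => exact le_refl _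
  | succ n => exact Submodule.map_mono (gam_anti (show a.toIdeal ≤ a'.toIdeal from h))

/-- The map `H^i_{a'}(M) → H^i_a(M)` for `a ≤ a'`. -/
def Hincl {a a' : HomogeneousIdeal 𝒜} (h : a ≤ a') (i : ℕ) : E.H a' i →ₗ[R] E.H a i :=
  Submodule.mapQ _ _ (Submodule.inclusion (cocyc_anti E h i)) (by
    intro z hz
    rw [Submodule.mem_comap] at hz ⊢
    exact cobdy_anti E h i hz)

theorem Hincl_toH {a a' : HomogeneousIdeal 𝒜} (h : a ≤ a') (i : ℕ) (z : E.cocyc a' i) :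
    Hincl E h i (E.toH a' i z) = E.toH a i (Submodule.inclusion (cocyc_anti E h i) z) := rfl

theorem Hincl_mem_Hcomp {a a' : HomogeneousIdeal 𝒜} (h : a ≤ a') (i : ℕ) {e : ι} {x : E.H a' i}
    (hx : x ∈ E.Hcomp a' i e) : Hincl E h i x ∈ E.Hcomp a i e := by
  obtain ⟨z, hz, rfl⟩ := hx
  exact ⟨Submodule.inclusion (cocyc_anti E h i) z, hz, rfl⟩

end MV

section MV2

variable {ι : Type} [AddCommGroup ι] [DecidableEq ι]
variable {R : Type u} [CommRing R] [IsNoetherianRing R] {𝒜 : ι → AddSubgroup R} [GradedRing 𝒜]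
variable {M : Type u} [AddCommGroup M] [Module R M] {ℳ : ι → AddSubgroup M}
  [Decomposition ℳ] [SetLike.GradedSMul 𝒜 ℳ]
variable (E : StarInjRes 𝒜 ℳ)

theorem d_comp_d (n : ℕ) (x : (E.X n).carrier) : E.d (n + 1) (E.d n x) = 0 := by
  have : E.d n x ∈ LinearMap.ker (E.d (n + 1)) := by
    rw [E.exact_succ n]; exact ⟨x, rfl⟩
  exact this

/-- Exactness of Mayer–Vietoris at the middle term, degree by degree. -/
theorem exists_of_Hincl_eq (a b : HomogeneousIdeal 𝒜) (i : ℕ) (e : ι)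
    {u : E.H a i} {v : E.H b i} (hu : u ∈ E.Hcomp a i e) (hv : v ∈ E.Hcomp b i e)
    (h : Hincl E (inf_le_left : a ⊓ b ≤ a) i u = Hincl E (inf_le_right : a ⊓ b ≤ b) i v) :
    ∃ w ∈ E.Hcomp (a ⊔ b) i e, Hincl E (le_sup_left : a ≤ a ⊔ b) i w = u ∧
      Hincl E (le_sup_right : b ≤ a ⊔ b) i w = v := by
  obtain ⟨zu, hzu, rfl⟩ := hu
  obtain ⟨zv, hzv, rfl⟩ := hv
  rw [Hincl_toH, Hincl_toH, ← sub_eq_zero, ← map_sub] at h
  have hzua : (zu : (E.X i).carrier) ∈ gam a.toIdeal (E.X i).carrier := zu.2.1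
  have hzvb : (zv : (E.X i).carrier) ∈ gam b.toIdeal (E.X i).carrier := zv.2.1
  have hzud : E.d i (zu : (E.X i).carrier) = 0 := zu.2.2
  have hzvd : E.d i (zv : (E.X i).carrier) = 0 := zv.2.2
  cases i with
  | zero =>
    rw [toH_eq_zero_iff_zero] at h
    have h1 : (zu : (E.X 0).carrier) = (zv : (E.X 0).carrier) := sub_eq_zero.1 h
    have hw0 : (zu : (E.X 0).carrier) ∈ E.cocyc (a ⊔ b) 0 := by
      refine ⟨?_, hzud⟩
      rw [HomogeneousIdeal.toIdeal_sup]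
      exact mem_gam_sup_iff.2 ⟨hzua, h1 ▸ hzvb⟩
    refine ⟨E.toH (a ⊔ b) 0 ⟨_, hw0⟩, ⟨⟨_, hw0⟩, hzu, rfl⟩, ?_, ?_⟩
    · rw [Hincl_toH]; congr 1
    · rw [Hincl_toH]; congr 1; exact Subtype.ext h1
  | succ n =>
    rw [toH_eq_zero_iff_succ] at h
    obtain ⟨t, ht, htd⟩ := h
    have htd' : E.d n t = (zu : (E.X (n + 1)).carrier) - (zv : (E.X (n + 1)).carrier) := htd
    -- homogeneous component of `t`
    have hte : E.d n (decompose (E.X n).gr t e : (E.X n).carrier) =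
        (zu : (E.X (n + 1)).carrier) - (zv : (E.X (n + 1)).carrier) := by
      rw [← decompose_map (E.X n).gr (E.X (n + 1)).gr (E.d_grHom n) t e, htd']
      exact decompose_of_mem_same _ (sub_mem hzu hzv)
    have htg : (decompose (E.X n).gr t e : (E.X n).carrier) ∈
        gam (a ⊓ b).toIdeal (E.X n).carrier := isHomogeneous_gam 𝒜 (E.X n).gr (a ⊓ b) e ht
    obtain ⟨t₁, ht₁, t₂, ht₂, ht₁e, ht₂e, ht12⟩ :=
      exists_add_of_mem_gam_inf_of_mem (E.X n).gr (E.starInj n) a b (decompose (E.X n).gr t e).2 htg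
    rw [ht12, map_add] at hte
    have hw0a : (zu : (E.X (n + 1)).carrier) - E.d n t₁ ∈ gam a.toIdeal (E.X (n + 1)).carrier :=
      sub_mem hzua (map_mem_gam (E.d n) ht₁)
    have hw0eq : (zu : (E.X (n + 1)).carrier) - E.d n t₁ =
        (zv : (E.X (n + 1)).carrier) + E.d n t₂ := by
      rw [sub_eq_iff_eq_add, add_assoc, add_comm (E.d n t₂), hte]; abel
    have hw0b : (zu : (E.X (n + 1)).carrier) - E.d n t₁ ∈ gam b.toIdeal (E.X (n + 1)).carrier := by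
      rw [hw0eq]; exact add_mem hzvb (map_mem_gam (E.d n) ht₂)
    have hw0 : (zu : (E.X (n + 1)).carrier) - E.d n t₁ ∈ E.cocyc (a ⊔ b) (n + 1) := by
      refine ⟨?_, ?_⟩
      · rw [HomogeneousIdeal.toIdeal_sup]
        exact mem_gam_sup_iff.2 ⟨hw0a, hw0b⟩
      · show E.d (n + 1) _ = 0
        rw [map_sub, hzud, d_comp_d, sub_zero]
    have hw0e : (zu : (E.X (n + 1)).carrier) - E.d n t₁ ∈ (E.X (n + 1)).gr e :=
      sub_mem hzu (E.d_grHom n e t₁ ht₁e)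
    refine ⟨E.toH (a ⊔ b) (n + 1) ⟨_, hw0⟩, ⟨⟨_, hw0⟩, hw0e, rfl⟩, ?_, ?_⟩
    · rw [Hincl_toH, ← sub_eq_zero, ← map_sub, toH_eq_zero_iff_succ]
      refine ⟨-t₁, neg_mem ht₁, ?_⟩
      rw [map_neg]
      show -(E.d n t₁) = ((zu : (E.X (n + 1)).carrier) - E.d n t₁) - (zu : (E.X (n + 1)).carrier)
      abel
    · rw [Hincl_toH, ← sub_eq_zero, ← map_sub, toH_eq_zero_iff_succ]
      refine ⟨t₂, ht₂, ?_⟩
      show E.d n t₂ = ((zu : (E.X (n + 1)).carrier) - E.d n t₁) - (zv : (E.X (n + 1)).carrier)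
      rw [hw0eq]; abel

/-- Surjectivity of `H^i_a ⊕ H^i_b → H^i_{a ∩ b}` in degree `e` when `H^{i+1}_{a+b}` vanishes in
degree `e`. -/
theorem exists_add_of_Hcomp_sup_eq_bot (a b : HomogeneousIdeal 𝒜) (i : ℕ) (e : ι)
    (hvan : E.Hcomp (a ⊔ b) (i + 1) e = ⊥) {w : E.H (a ⊓ b) i}
    (hw : w ∈ E.Hcomp (a ⊓ b) i e) :
    ∃ u ∈ E.Hcomp a i e, ∃ v ∈ E.Hcomp b i e,
      w = Hincl E (inf_le_left : a ⊓ b ≤ a) i u + Hincl E (inf_le_right : a ⊓ b ≤ b) i v := by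
  obtain ⟨zw, hzw, rfl⟩ := hw
  have hzwg : (zw : (E.X i).carrier) ∈ gam (a ⊓ b).toIdeal (E.X i).carrier := zw.2.1
  have hzwd : E.d i (zw : (E.X i).carrier) = 0 := zw.2.2
  obtain ⟨x, hx, y, hy, hxe, hye, hxy⟩ :=
    exists_add_of_mem_gam_inf_of_mem (E.X i).gr (E.starInj i) a b hzw hzwg
  have hdxy : E.d i x + E.d i y = 0 := by rw [← map_add, ← hxy, hzwd]
  have hc : E.d i x ∈ E.cocyc (a ⊔ b) (i + 1) := by
    refine ⟨?_, d_comp_d E i x⟩
    rw [HomogeneousIdeal.toIdeal_sup]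
    refine mem_gam_sup_iff.2 ⟨map_mem_gam (E.d i) hx, ?_⟩
    rw [eq_neg_of_add_eq_zero_left hdxy]
    exact neg_mem (map_mem_gam (E.d i) hy)
  have hce : E.d i x ∈ (E.X (i + 1)).gr e := E.d_grHom i e x hxe
  have h0 : E.toH (a ⊔ b) (i + 1) ⟨_, hc⟩ = 0 := by
    have : E.toH (a ⊔ b) (i + 1) ⟨_, hc⟩ ∈ E.Hcomp (a ⊔ b) (i + 1) e := ⟨⟨_, hc⟩, hce, rfl⟩
    rw [hvan] at this
    exact (Submodule.mem_bot _).1 this
  rw [toH_eq_zero_iff_succ] at h0
  obtain ⟨t, ht, htd⟩ := h0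
  have htd' : E.d i t = E.d i x := htd
  -- homogeneous component of `t`
  set t' : (E.X i).carrier := (decompose (E.X i).gr t e : (E.X i).carrier) with ht'
  have ht'e : t' ∈ (E.X i).gr e := (decompose (E.X i).gr t e).2
  have ht'd : E.d i t' = E.d i x := by
    rw [ht', ← decompose_map (E.X i).gr (E.X (i + 1)).gr (E.d_grHom i) t e, htd']
    exact decompose_of_mem_same _ hce
  have ht'g : t' ∈ gam (a ⊔ b).toIdeal (E.X i).carrier :=
    isHomogeneous_gam 𝒜 (E.X i).gr (a ⊔ b) e ht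
  rw [HomogeneousIdeal.toIdeal_sup] at ht'g
  obtain ⟨ht'a, ht'b⟩ := mem_gam_sup_iff.1 ht'g
  have hx' : x - t' ∈ E.cocyc a i := by
    refine ⟨sub_mem hx ht'a, ?_⟩
    show E.d i (x - t') = 0
    rw [map_sub, ht'd, sub_self]
  have hy' : y + t' ∈ E.cocyc b i := by
    refine ⟨add_mem hy ht'b, ?_⟩
    show E.d i (y + t') = 0
    rw [map_add, ht'd]
    exact (add_comm _ _).trans hdxy
  refine ⟨E.toH a i ⟨_, hx'⟩, ⟨⟨_, hx'⟩, sub_mem hxe ht'e, rfl⟩,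
    E.toH b i ⟨_, hy'⟩, ⟨⟨_, hy'⟩, add_mem hye ht'e, rfl⟩, ?_⟩
  rw [Hincl_toH, Hincl_toH, ← map_add]
  congr 1
  apply Subtype.ext
  show (zw : (E.X i).carrier) = (x - t') + (y + t')
  rw [hxy]; abel

end MV2

section Cor

variable {ι : Type} [AddCommGroup ι] [DecidableEq ι]
variable {R : Type u} [CommRing R] [IsNoetherianRing R] {𝒜 : ι → AddSubgroup R} [GradedRing 𝒜]
variable {M : Type u} [AddCommGroup M] [Module R M] {ℳ : ι → AddSubgroup M}
  [Decomposition ℳ] [SetLike.GradedSMul 𝒜 ℳ]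
variable (E : StarInjRes 𝒜 ℳ)

theorem Hcomp_eq_bot_left_of_inf (a b : HomogeneousIdeal 𝒜) (i : ℕ) (e : ι)
    (hsup : E.Hcomp (a ⊔ b) i e = ⊥) (hinf : E.Hcomp (a ⊓ b) i e = ⊥) : E.Hcomp a i e = ⊥ := by
  rw [eq_bot_iff]
  intro u hu
  have h1 : Hincl E (inf_le_left : a ⊓ b ≤ a) i u = 0 := by
    have := Hincl_mem_Hcomp E (inf_le_left : a ⊓ b ≤ a) i hu
    rw [hinf] at this
    exact (Submodule.mem_bot _).1 this
  obtain ⟨w, hw, hwu, -⟩ := exists_of_Hincl_eq E a b i e hu (zero_mem (E.Hcomp b i e))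
    (by rw [h1, map_zero])
  rw [hsup] at hw
  rw [(Submodule.mem_bot _).1 hw, map_zero] at hwu
  rw [Submodule.mem_bot, ← hwu]

theorem Hcomp_eq_bot_right_of_inf (a b : HomogeneousIdeal 𝒜) (i : ℕ) (e : ι)
    (hsup : E.Hcomp (a ⊔ b) i e = ⊥) (hinf : E.Hcomp (a ⊓ b) i e = ⊥) : E.Hcomp b i e = ⊥ := by
  rw [eq_bot_iff]
  intro v hv
  have h1 : Hincl E (inf_le_right : a ⊓ b ≤ b) i v = 0 := by
    have := Hincl_mem_Hcomp E (inf_le_right : a ⊓ b ≤ b) i hv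
    rw [hinf] at this
    exact (Submodule.mem_bot _).1 this
  obtain ⟨w, hw, -, hwv⟩ := exists_of_Hincl_eq E a b i e (zero_mem (E.Hcomp a i e)) hv
    (by rw [h1, map_zero])
  rw [hsup] at hw
  rw [(Submodule.mem_bot _).1 hw, map_zero] at hwv
  rw [Submodule.mem_bot, ← hwv]

theorem Hcomp_inf_eq_bot (a b : HomogeneousIdeal 𝒜) (i : ℕ) (e : ι)
    (hsup : E.Hcomp (a ⊔ b) (i + 1) e = ⊥) (ha : E.Hcomp a i e = ⊥) (hb : E.Hcomp b i e = ⊥) :
    E.Hcomp (a ⊓ b) i e = ⊥ := by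
  rw [eq_bot_iff]
  intro w hw
  obtain ⟨u, hu, v, hv, rfl⟩ := exists_add_of_Hcomp_sup_eq_bot E a b i e hsup hw
  rw [ha] at hu
  rw [hb] at hv
  rw [(Submodule.mem_bot _).1 hu, (Submodule.mem_bot _).1 hv, map_zero, map_zero, add_zero]
  exact zero_mem _

end Cor

end Groth.Agent.Lib.GrLCMV
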