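import Groth.Agent.S18661
import Groth.Agent.S18662
import Groth.Agent.Lib.H87GrShift

/-!
# Functoriality of graded local cohomology computed from *injective resolutions (helper12)

For graded modules `M`, `N` (pieces `ℳ`, `𝒩 : ι → AddSubgroup _`) over a graded ring
`𝒜 : ι → AddSubgroup R` with *injective resolutions `E`, `E'` (`GrLC.StarInjRes`):

* `IsLift E E' f δ φ` : the family `φ n : E.X n → E'.X n` is a chain map, homogeneous of degree
  `δ`, lifting `f : M → N`; `exists_isLift` (comparison theorem, existence),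
  `exists_homotopy` (uniqueness up to homotopy).
* `HmapOf hφ a i : E.H a i → E'.H a i` the map induced on `Γ_a`-cohomology by a chain map;
  `Hmap E E' a hf i` the map induced by `f` (homogeneous of degree `δ`), independent of the lift
  (`Hmap_eq`); `Hmap_mem` (pieces go to pieces), `Hmap_comp`, `Hmap_id`, `Hmap_smul`
  (multiplication by a homogeneous scalar induces multiplication by that scalar).
* `Hequiv E E' a i` : two resolutions of the same module give isomorphic cohomology, piece by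
  piece (`Hequiv_mem_iff`), hence `Hcomp_eq_bot_iff`.
-/

set_option autoImplicit false
set_option linter.unusedSectionVars false
universe u

namespace Groth.Agent.Lib.GrLCMap

open DirectSum GrLC Groth.Agent.Lib.H87GrMod Groth.Agent.Lib.H87GrMod2
  Groth.Agent.Lib.H87GrShift Groth.Agent.S18662 Groth.Agent.S18661

variable {ι : Type} [AddCommGroup ι] [DecidableEq ι]
variable {R : Type u} [CommRing R] {𝒜 : ι → AddSubgroup R} [GradedRing 𝒜]
variable {M : Type u} [AddCommGroup M] [Module R M] {ℳ : ι → AddSubgroup M}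
  [Decomposition ℳ] [SetLike.GradedSMul 𝒜 ℳ]
variable {N : Type u} [AddCommGroup N] [Module R N] {𝒩 : ι → AddSubgroup N}
  [Decomposition 𝒩] [SetLike.GradedSMul 𝒜 𝒩]
variable {P : Type u} [AddCommGroup P] [Module R P] {𝒬 : ι → AddSubgroup P}
  [Decomposition 𝒬] [SetLike.GradedSMul 𝒜 𝒬]

/-! ## Degree bookkeeping -/

theorem isGrHomDeg_zero_iff {X Y : Type u} [AddCommGroup X] [Module R X] [AddCommGroup Y]
    [Module R Y] (𝒳 : ι → AddSubgroup X) (𝒴 : ι → AddSubgroup Y) (f : X →ₗ[R] Y) :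
    IsGrHomDeg 𝒳 𝒴 f 0 ↔ IsGrHom 𝒳 𝒴 f := by
  constructor
  · intro h g x hx
    have := h g x hx
    rwa [add_zero] at this
  · intro h g x hx
    rw [add_zero]
    exact h g x hx

theorem isGrHomDeg_comp {X Y Z : Type u} [AddCommGroup X] [Module R X] [AddCommGroup Y]
    [Module R Y] [AddCommGroup Z] [Module R Z] {𝒳 : ι → AddSubgroup X} {𝒴 : ι → AddSubgroup Y}
    {𝒵 : ι → AddSubgroup Z} {f : X →ₗ[R] Y} {g : Y →ₗ[R] Z} {δ δ' : ι}
    (hf : IsGrHomDeg 𝒳 𝒴 f δ) (hg : IsGrHomDeg 𝒴 𝒵 g δ') :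
    IsGrHomDeg 𝒳 𝒵 (g ∘ₗ f) (δ + δ') := by
  intro k x hx
  have := hg _ _ (hf k x hx)
  rwa [add_assoc] at this

theorem isGrHomDeg_congr_deg {X Y : Type u} [AddCommGroup X] [Module R X] [AddCommGroup Y]
    [Module R Y] {𝒳 : ι → AddSubgroup X} {𝒴 : ι → AddSubgroup Y} {f : X →ₗ[R] Y} {δ δ' : ι}
    (hf : IsGrHomDeg 𝒳 𝒴 f δ) (h : δ = δ') : IsGrHomDeg 𝒳 𝒴 f δ' := h ▸ hf

/-! ## Basic facts on `H` -/

section HBasic

variable (E : StarInjRes 𝒜 ℳ) (a : HomogeneousIdeal 𝒜)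

theorem toH_surjective (i : ℕ) : Function.Surjective (E.toH a i) :=
  Submodule.mkQ_surjective _

theorem mem_cocyc_iff (i : ℕ) (x : (E.X i).carrier) :
    x ∈ E.cocyc a i ↔ x ∈ gam a.toIdeal (E.X i).carrier ∧ E.d i x = 0 := Iff.rfl

theorem toH_eq_zero_iff_zero (z : E.cocyc a 0) : E.toH a 0 z = 0 ↔ (z : (E.X 0).carrier) = 0 := by
  rw [Submodule.mkQ_apply, Submodule.Quotient.mk_eq_zero, Submodule.mem_comap]
  show (z : (E.X 0).carrier) ∈ (⊥ : Submodule R _) ↔ _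
  rw [Submodule.mem_bot]

theorem toH_eq_zero_iff_succ (n : ℕ) (z : E.cocyc a (n + 1)) :
    E.toH a (n + 1) z = 0 ↔
      ∃ t ∈ gam a.toIdeal (E.X n).carrier, E.d n t = (z : (E.X (n + 1)).carrier) := by
  rw [Submodule.mkQ_apply, Submodule.Quotient.mk_eq_zero, Submodule.mem_comap]
  show (z : (E.X (n + 1)).carrier) ∈ (gam a.toIdeal (E.X n).carrier).map (E.d n) ↔ _
  rw [Submodule.mem_map]

theorem mem_Hcomp_iff (i : ℕ) (g : ι) (x : E.H a i) :
    x ∈ E.Hcomp a i g ↔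
      ∃ z : E.cocyc a i, (z : (E.X i).carrier) ∈ (E.X i).gr g ∧ E.toH a i z = x := Iff.rfl

theorem Hcomp_eq_bot_iff_forall (i : ℕ) (g : ι) :
    E.Hcomp a i g = ⊥ ↔
      ∀ z : E.cocyc a i, (z : (E.X i).carrier) ∈ (E.X i).gr g → E.toH a i z = 0 := by
  rw [eq_bot_iff]
  constructor
  · intro h z hz
    have := h ((mem_Hcomp_iff E a i g _).mpr ⟨z, hz, rfl⟩)
    rwa [Submodule.mem_bot] at this
  · rintro h x ⟨z, hz, rfl⟩
    rw [Submodule.mem_bot]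
    exact h z hz

theorem Hcomp_eq_bot_iff_forall_mem (i : ℕ) (g : ι) :
    E.Hcomp a i g = ⊥ ↔ ∀ x ∈ E.Hcomp a i g, x = 0 := by
  rw [eq_bot_iff]
  constructor
  · intro h x hx
    have := h hx
    rwa [Submodule.mem_bot] at this
  · intro h x hx
    rw [Submodule.mem_bot]
    exact h x hx

/-- Every class is killed by a power of `a`. -/
theorem exists_pow_smul_eq_zero (i : ℕ) (x : E.H a i) :
    ∃ n : ℕ, ∀ r ∈ a.toIdeal ^ n, r • x = 0 := by
  obtain ⟨⟨z, hz, hzd⟩, rfl⟩ := toH_surjective E a i x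
  obtain ⟨n, hn⟩ := hz
  refine ⟨n, fun r hr => ?_⟩
  rw [← map_smul]
  have : r • (⟨z, ⟨n, hn⟩, hzd⟩ : E.cocyc a i) = 0 := Subtype.ext (hn r hr)
  rw [this, map_zero]

end HBasic

/-! ## Chain maps and lifts -/

/-- A family of linear maps between the terms of two resolutions commuting with the
differentials. -/
structure IsChain (E : StarInjRes 𝒜 ℳ) (E' : StarInjRes 𝒜 𝒩)
    (φ : ∀ n, (E.X n).carrier →ₗ[R] (E'.X n).carrier) : Prop where
  comm : ∀ n x, φ (n + 1) (E.d n x) = E'.d n (φ n x)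

/-- A chain map, homogeneous of degree `δ`, lifting `f`. -/
structure IsLift (E : StarInjRes 𝒜 ℳ) (E' : StarInjRes 𝒜 𝒩) (f : M →ₗ[R] N) (δ : ι)
    (φ : ∀ n, (E.X n).carrier →ₗ[R] (E'.X n).carrier) : Prop extends IsChain E E' φ where
  deg : ∀ n, IsGrHomDeg (E.X n).gr (E'.X n).gr (φ n) δ
  aug : ∀ m, φ 0 (E.ε m) = E'.ε (f m)

/-- Comparison theorem, existence. -/
theorem exists_isLift (E : StarInjRes 𝒜 ℳ) (E' : StarInjRes 𝒜 𝒩) {f : M →ₗ[R] N} {δ : ι}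
    (hf : IsGrHomDeg ℳ 𝒩 f δ) :
    ∃ φ : ∀ n, (E.X n).carrier →ₗ[R] (E'.X n).carrier, IsLift E E' f δ φ := by
  have hεf : IsGrHomDeg ℳ (E'.X 0).gr (E'.ε ∘ₗ f) δ := fun g m hm => E'.ε_grHom _ _ (hf g m hm)
  obtain ⟨G0, hG0, hG0ε⟩ := extend_deg' 𝒜 ℳ (E.X 0).gr (E'.X 0).gr (E'.starInj 0) E.ε_grHom
    E.ε_injective hεf
  have hG0ker : ∀ x ∈ LinearMap.ker (E.d 0), G0 x ∈ LinearMap.ker (E'.d 0) := by
    intro x hx
    rw [E.exact_zero] at hx
    rw [E'.exact_zero]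
    obtain ⟨m, rfl⟩ := hx
    exact ⟨f m, (LinearMap.congr_fun hG0ε m).symm⟩
  obtain ⟨G, hG0', hGP, hGrel⟩ := exists_dep_seq
    (α := fun n => (E.X n).carrier →ₗ[R] (E'.X n).carrier)
    (fun n G => IsGrHomDeg (E.X n).gr (E'.X n).gr G δ ∧
      ∀ x ∈ LinearMap.ker (E.d n), G x ∈ LinearMap.ker (E'.d n))
    (fun n G G' => ∀ x, G' (E.d n x) = E'.d n (G x))
    G0 ⟨hG0, hG0ker⟩
    (by
      rintro n Gn ⟨hGn, hGnker⟩
      have hφ : IsGrHomDeg (E.X n).gr (E'.X (n + 1)).gr (E'.d n ∘ₗ Gn) δ :=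
        fun g x hx => E'.d_grHom n _ _ (hGn g x hx)
      have hker : LinearMap.ker (E.d n) ≤ LinearMap.ker (E'.d n ∘ₗ Gn) := by
        intro x hx
        rw [LinearMap.mem_ker, LinearMap.comp_apply]
        exact hGnker x hx
      obtain ⟨G', hG', hG'd⟩ := extend_through 𝒜 (E.X n).gr (E.X (n + 1)).gr (E'.X (n + 1)).gr
        (E'.starInj (n + 1)) (E.d_grHom n) hφ hker
      refine ⟨G', ⟨hG', ?_⟩, fun x => LinearMap.congr_fun hG'd x⟩
      intro x hx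
      rw [E.exact_succ] at hx
      rw [E'.exact_succ]
      obtain ⟨y, rfl⟩ := hx
      exact ⟨Gn y, (LinearMap.congr_fun hG'd y).symm⟩)
  refine ⟨G, ⟨⟨hGrel⟩, fun n => (hGP n).1, ?_⟩⟩
  intro m
  rw [hG0']
  exact LinearMap.congr_fun hG0ε m

/-- Comparison theorem, uniqueness: a chain map homogeneous of degree `δ` which vanishes on the
resolved module is null-homotopic. -/
theorem exists_homotopy (E : StarInjRes 𝒜 ℳ) (E' : StarInjRes 𝒜 𝒩) {δ : ι}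
    (τ : ∀ n, (E.X n).carrier →ₗ[R] (E'.X n).carrier)
    (hτdeg : ∀ n, IsGrHomDeg (E.X n).gr (E'.X n).gr (τ n) δ)
    (hτd : ∀ n x, τ (n + 1) (E.d n x) = E'.d n (τ n x))
    (hτε : ∀ m, τ 0 (E.ε m) = 0) :
    ∃ s : ∀ n, (E.X (n + 1)).carrier →ₗ[R] (E'.X n).carrier,
      (∀ x, τ 0 x = s 0 (E.d 0 x)) ∧
      (∀ n x, τ (n + 1) x = E'.d n (s n x) + s (n + 1) (E.d (n + 1) x)) := by
  have hker0 : LinearMap.ker (E.d 0) ≤ LinearMap.ker (τ 0) := by
    intro x hx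
    rw [E.exact_zero] at hx
    obtain ⟨m, rfl⟩ := hx
    exact hτε m
  obtain ⟨s0, hs0, hs0d⟩ := extend_through 𝒜 (E.X 0).gr (E.X 1).gr (E'.X 0).gr
    (E'.starInj 0) (E.d_grHom 0) (hτdeg 0) hker0
  obtain ⟨s, hs0', hsP, hsrel⟩ := exists_dep_seq
    (α := fun n => (E.X (n + 1)).carrier →ₗ[R] (E'.X n).carrier)
    (fun n s => IsGrHomDeg (E.X (n + 1)).gr (E'.X n).gr s δ ∧
      ∀ x, E'.d n (τ n x - s (E.d n x)) = 0)
    (fun n s s' => ∀ x, τ (n + 1) x = E'.d n (s x) + s' (E.d (n + 1) x))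
    s0 ⟨hs0, fun x => by
      have := LinearMap.congr_fun hs0d x
      rw [LinearMap.comp_apply] at this
      rw [this, sub_self, map_zero]⟩
    (by
      rintro n sn ⟨hsn, hsnP⟩
      have hφ : IsGrHomDeg (E.X (n + 1)).gr (E'.X (n + 1)).gr (τ (n + 1) - E'.d n ∘ₗ sn) δ := by
        intro g x hx
        rw [LinearMap.sub_apply, LinearMap.comp_apply]
        exact sub_mem (hτdeg (n + 1) g x hx) (E'.d_grHom n _ _ (hsn g x hx))
      have hker : LinearMap.ker (E.d (n + 1)) ≤ LinearMap.ker (τ (n + 1) - E'.d n ∘ₗ sn) := by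
        intro x hx
        rw [E.exact_succ] at hx
        obtain ⟨y, rfl⟩ := hx
        rw [LinearMap.mem_ker, LinearMap.sub_apply, LinearMap.comp_apply, hτd, ← map_sub]
        exact hsnP y
      obtain ⟨s', hs', hs'd⟩ := extend_through 𝒜 (E.X (n + 1)).gr (E.X (n + 2)).gr
        (E'.X (n + 1)).gr (E'.starInj (n + 1)) (E.d_grHom (n + 1)) hφ hker
      have hs'x : ∀ x, s' (E.d (n + 1) x) = τ (n + 1) x - E'.d n (sn x) := fun x => by
        have := LinearMap.congr_fun hs'd x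
        rwa [LinearMap.comp_apply, LinearMap.sub_apply, LinearMap.comp_apply] at this
      refine ⟨s', ⟨hs', fun x => ?_⟩, fun x => ?_⟩
      · rw [hs'x, sub_sub_cancel, d_comp_d]
      · rw [hs'x]; abel)
  refine ⟨s, fun x => ?_, hsrel⟩
  rw [hs0']
  exact (LinearMap.congr_fun hs0d x).symm

/-! ## Induced maps on cohomology -/

section Induced

variable {E : StarInjRes 𝒜 ℳ} {E' : StarInjRes 𝒜 𝒩} {E'' : StarInjRes 𝒜 𝒬}
variable {φ : ∀ n, (E.X n).carrier →ₗ[R] (E'.X n).carrier}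

theorem IsChain.map_cocyc (hφ : IsChain E E' φ) (a : HomogeneousIdeal 𝒜) (i : ℕ)
    {x : (E.X i).carrier} (hx : x ∈ E.cocyc a i) : φ i x ∈ E'.cocyc a i := by
  refine ⟨map_mem_gam (φ i) hx.1, ?_⟩
  have hx2 : E.d i x = 0 := hx.2
  show E'.d i (φ i x) = 0
  rw [← hφ.comm, hx2, map_zero]

theorem IsChain.map_cobdy (hφ : IsChain E E' φ) (a : HomogeneousIdeal 𝒜) (i : ℕ)
    {x : (E.X i).carrier} (hx : x ∈ E.cobdy a i) : φ i x ∈ E'.cobdy a i := by
  cases i with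
  | zero =>
    have h0 : x = 0 := (Submodule.mem_bot R).mp hx
    rw [h0, map_zero]
    exact Submodule.zero_mem _
  | succ n =>
    obtain ⟨t, ht, rfl⟩ := hx
    exact ⟨φ n t, map_mem_gam (φ n) ht, (hφ.comm n t).symm⟩

/-- The map induced on cocycles. -/
def cocycMap (hφ : IsChain E E' φ) (a : HomogeneousIdeal 𝒜) (i : ℕ) :
    E.cocyc a i →ₗ[R] E'.cocyc a i :=
  (φ i).restrict (fun _ hx => hφ.map_cocyc a i hx)

theorem coe_cocycMap (hφ : IsChain E E' φ) (a : HomogeneousIdeal 𝒜) (i : ℕ) (z : E.cocyc a i) :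
    ((cocycMap hφ a i z : E'.cocyc a i) : (E'.X i).carrier) = φ i z := rfl

/-- The map induced on cohomology by a chain map. -/
def HmapOf (hφ : IsChain E E' φ) (a : HomogeneousIdeal 𝒜) (i : ℕ) : E.H a i →ₗ[R] E'.H a i :=
  Submodule.mapQ _ _ (cocycMap hφ a i) (by
    intro z hz
    rw [Submodule.mem_comap] at hz ⊢
    rw [Submodule.mem_comap]
    exact hφ.map_cobdy a i hz)

theorem HmapOf_toH (hφ : IsChain E E' φ) (a : HomogeneousIdeal 𝒜) (i : ℕ) (z : E.cocyc a i) :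
    HmapOf hφ a i (E.toH a i z) = E'.toH a i (cocycMap hφ a i z) := rfl

theorem HmapOf_mem (hφ : IsChain E E' φ) {δ : ι}
    (hdeg : ∀ n, IsGrHomDeg (E.X n).gr (E'.X n).gr (φ n) δ) (a : HomogeneousIdeal 𝒜) (i : ℕ)
    {g : ι} {x : E.H a i} (hx : x ∈ E.Hcomp a i g) : HmapOf hφ a i x ∈ E'.Hcomp a i (g + δ) := by
  obtain ⟨z, hz, rfl⟩ := hx
  exact ⟨cocycMap hφ a i z, hdeg i g _ hz, rfl⟩

/-- Two lifts of the same map induce the same map on cohomology. -/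
theorem HmapOf_eq_of_isLift {f : M →ₗ[R] N} {δ : ι}
    {φ' : ∀ n, (E.X n).carrier →ₗ[R] (E'.X n).carrier}
    (hφ : IsLift E E' f δ φ) (hφ' : IsLift E E' f δ φ') (a : HomogeneousIdeal 𝒜) (i : ℕ) :
    HmapOf hφ.toIsChain a i = HmapOf hφ'.toIsChain a i := by
  obtain ⟨s, hs0, hs⟩ := exists_homotopy E E' (fun n => φ n - φ' n)
    (fun n g x hx => by
      rw [LinearMap.sub_apply]
      exact sub_mem (hφ.deg n g x hx) (hφ'.deg n g x hx))
    (fun n x => by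
      rw [LinearMap.sub_apply, LinearMap.sub_apply, hφ.comm, hφ'.comm, map_sub])
    (fun m => by rw [LinearMap.sub_apply, hφ.aug, hφ'.aug, sub_self])
  apply LinearMap.ext
  intro x
  obtain ⟨z, rfl⟩ := toH_surjective E a i x
  rw [HmapOf_toH, HmapOf_toH, ← sub_eq_zero, ← map_sub]
  cases i with
  | zero =>
    rw [toH_eq_zero_iff_zero]
    show φ 0 z - φ' 0 z = 0
    have h1 := hs0 z
    rw [LinearMap.sub_apply] at h1
    rw [h1, LinearMap.mem_ker.mp z.2.2, map_zero]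
  | succ n =>
    rw [toH_eq_zero_iff_succ]
    refine ⟨s n z, map_mem_gam (s n) z.2.1, ?_⟩
    show _ = φ (n + 1) z - φ' (n + 1) z
    have h1 := hs n z
    rw [LinearMap.sub_apply] at h1
    rw [h1, LinearMap.mem_ker.mp z.2.2, map_zero, add_zero]

end Induced

/-- The map induced on graded local cohomology by a map homogeneous of degree `δ`. -/
noncomputable def Hmap (E : StarInjRes 𝒜 ℳ) (E' : StarInjRes 𝒜 𝒩) (a : HomogeneousIdeal 𝒜)
    {f : M →ₗ[R] N} {δ : ι} (hf : IsGrHomDeg ℳ 𝒩 f δ) (i : ℕ) : E.H a i →ₗ[R] E'.H a i :=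
  HmapOf (Classical.choose_spec (exists_isLift E E' hf)).toIsChain a i

theorem Hmap_eq (E : StarInjRes 𝒜 ℳ) (E' : StarInjRes 𝒜 𝒩) (a : HomogeneousIdeal 𝒜)
    {f : M →ₗ[R] N} {δ : ι} (hf : IsGrHomDeg ℳ 𝒩 f δ)
    {φ : ∀ n, (E.X n).carrier →ₗ[R] (E'.X n).carrier} (hφ : IsLift E E' f δ φ) (i : ℕ) :
    Hmap E E' a hf i = HmapOf hφ.toIsChain a i :=
  HmapOf_eq_of_isLift (Classical.choose_spec (exists_isLift E E' hf)) hφ a i

theorem Hmap_mem (E : StarInjRes 𝒜 ℳ) (E' : StarInjRes 𝒜 𝒩) (a : HomogeneousIdeal 𝒜)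
    {f : M →ₗ[R] N} {δ : ι} (hf : IsGrHomDeg ℳ 𝒩 f δ) (i : ℕ) {g : ι} {x : E.H a i}
    (hx : x ∈ E.Hcomp a i g) : Hmap E E' a hf i x ∈ E'.Hcomp a i (g + δ) :=
  HmapOf_mem _ (Classical.choose_spec (exists_isLift E E' hf)).deg a i hx

theorem isLift_comp {E : StarInjRes 𝒜 ℳ} {E' : StarInjRes 𝒜 𝒩} {E'' : StarInjRes 𝒜 𝒬}
    {f : M →ₗ[R] N} {g : N →ₗ[R] P} {δ δ' : ι}
    {φ : ∀ n, (E.X n).carrier →ₗ[R] (E'.X n).carrier}
    {ψ : ∀ n, (E'.X n).carrier →ₗ[R] (E''.X n).carrier}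
    (hφ : IsLift E E' f δ φ) (hψ : IsLift E' E'' g δ' ψ) :
    IsLift E E'' (g ∘ₗ f) (δ + δ') (fun n => ψ n ∘ₗ φ n) where
  comm n x := by
    rw [LinearMap.comp_apply, LinearMap.comp_apply, hφ.comm, hψ.comm]
  deg n := isGrHomDeg_comp (hφ.deg n) (hψ.deg n)
  aug m := by
    rw [LinearMap.comp_apply, LinearMap.comp_apply, hφ.aug, hψ.aug]

theorem Hmap_comp (E : StarInjRes 𝒜 ℳ) (E' : StarInjRes 𝒜 𝒩) (E'' : StarInjRes 𝒜 𝒬)
    (a : HomogeneousIdeal 𝒜) {f : M →ₗ[R] N} {g : N →ₗ[R] P} {h : M →ₗ[R] P} {δ δ' ε : ι}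
    (hf : IsGrHomDeg ℳ 𝒩 f δ) (hg : IsGrHomDeg 𝒩 𝒬 g δ') (hh : IsGrHomDeg ℳ 𝒬 h ε)
    (hcomp : h = g ∘ₗ f) (hε : ε = δ + δ') (i : ℕ) (x : E.H a i) :
    Hmap E E'' a hh i x = Hmap E' E'' a hg i (Hmap E E' a hf i x) := by
  subst hcomp hε
  have hφ := Classical.choose_spec (exists_isLift E E' hf)
  have hψ := Classical.choose_spec (exists_isLift E' E'' hg)
  rw [Hmap_eq E E'' a hh (isLift_comp hφ hψ)]
  obtain ⟨z, rfl⟩ := toH_surjective E a i x
  rfl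

theorem isLift_id (E : StarInjRes 𝒜 ℳ) :
    IsLift E E (LinearMap.id : M →ₗ[R] M) 0 (fun _ => LinearMap.id) where
  comm _ _ := rfl
  deg n := (isGrHomDeg_zero_iff _ _ _).mpr (fun _ _ hx => hx)
  aug _ := rfl

theorem isGrHomDeg_id : IsGrHomDeg ℳ ℳ (LinearMap.id : M →ₗ[R] M) 0 :=
  (isGrHomDeg_zero_iff _ _ _).mpr (fun _ _ hx => hx)

theorem Hmap_id (E : StarInjRes 𝒜 ℳ) (a : HomogeneousIdeal 𝒜)
    (h : IsGrHomDeg ℳ ℳ (LinearMap.id : M →ₗ[R] M) 0) (i : ℕ) (x : E.H a i) :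
    Hmap E E a h i x = x := by
  rw [Hmap_eq E E a h (isLift_id E)]
  obtain ⟨z, rfl⟩ := toH_surjective E a i x
  rw [HmapOf_toH]
  congr 1

theorem isLift_smul (E : StarInjRes 𝒜 ℳ) {δ : ι} {r : R} (hr : r ∈ 𝒜 δ) :
    IsLift E E (LinearMap.lsmul R M r) δ (fun n => LinearMap.lsmul R (E.X n).carrier r) where
  comm n x := by
    rw [LinearMap.lsmul_apply, LinearMap.lsmul_apply, map_smul]
  deg n := isGrHomDeg_lsmul 𝒜 (E.X n).gr hr
  aug m := by
    rw [LinearMap.lsmul_apply, LinearMap.lsmul_apply, map_smul]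

/-- Multiplication by a homogeneous scalar induces multiplication by that scalar. -/
theorem Hmap_smul (E : StarInjRes 𝒜 ℳ) (a : HomogeneousIdeal 𝒜) {δ : ι} {r : R} (hr : r ∈ 𝒜 δ)
    (h : IsGrHomDeg ℳ ℳ (LinearMap.lsmul R M r) δ) (i : ℕ) (x : E.H a i) :
    Hmap E E a h i x = r • x := by
  rw [Hmap_eq E E a h (isLift_smul E hr)]
  obtain ⟨z, rfl⟩ := toH_surjective E a i x
  rw [HmapOf_toH, ← map_smul]
  congr 1

/-- Scalar multiplication by a homogeneous element moves the pieces. -/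
theorem smul_mem_Hcomp (E : StarInjRes 𝒜 ℳ) (a : HomogeneousIdeal 𝒜) {δ : ι} {r : R}
    (hr : r ∈ 𝒜 δ) (i : ℕ) {g : ι} {x : E.H a i} (hx : x ∈ E.Hcomp a i g) :
    r • x ∈ E.Hcomp a i (g + δ) := by
  have h : IsGrHomDeg ℳ ℳ (LinearMap.lsmul R M r) δ := isGrHomDeg_lsmul 𝒜 ℳ hr
  rw [← Hmap_smul E a hr h i x]
  exact Hmap_mem E E a h i hx

/-! ## Independence of the resolution -/

/-- Mutually inverse homogeneous maps induce mutually inverse maps. -/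
theorem Hmap_Hmap_of_comp_eq_id (E : StarInjRes 𝒜 ℳ) (E' : StarInjRes 𝒜 𝒩)
    (a : HomogeneousIdeal 𝒜) {f : M →ₗ[R] N} {g : N →ₗ[R] M} {δ δ' : ι}
    (hf : IsGrHomDeg ℳ 𝒩 f δ) (hg : IsGrHomDeg 𝒩 ℳ g δ') (hδ : δ + δ' = 0)
    (hgf : g ∘ₗ f = LinearMap.id) (i : ℕ) (x : E.H a i) :
    Hmap E' E a hg i (Hmap E E' a hf i x) = x := by
  rw [← Hmap_comp E E' E a hf hg isGrHomDeg_id hgf.symm hδ.symm i x, Hmap_id]

/-- Two resolutions of the same module compute the same cohomology. -/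
noncomputable def Hequiv (E E' : StarInjRes 𝒜 ℳ) (a : HomogeneousIdeal 𝒜) (i : ℕ) :
    E.H a i ≃ₗ[R] E'.H a i :=
  LinearEquiv.ofLinearMap (Hmap E E' a isGrHomDeg_id i) (Hmap E' E a isGrHomDeg_id i)
    (by
      apply LinearMap.ext
      intro x
      exact Hmap_Hmap_of_comp_eq_id E' E a isGrHomDeg_id isGrHomDeg_id (add_zero 0) rfl i x)
    (by
      apply LinearMap.ext
      intro x
      exact Hmap_Hmap_of_comp_eq_id E E' a isGrHomDeg_id isGrHomDeg_id (add_zero 0) rfl i x)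

theorem Hequiv_apply (E E' : StarInjRes 𝒜 ℳ) (a : HomogeneousIdeal 𝒜) (i : ℕ) (x : E.H a i) :
    Hequiv E E' a i x = Hmap E E' a isGrHomDeg_id i x := rfl

theorem Hequiv_symm_apply (E E' : StarInjRes 𝒜 ℳ) (a : HomogeneousIdeal 𝒜) (i : ℕ)
    (x : E'.H a i) : (Hequiv E E' a i).symm x = Hmap E' E a isGrHomDeg_id i x := rfl

theorem Hequiv_mem_iff (E E' : StarInjRes 𝒜 ℳ) (a : HomogeneousIdeal 𝒜) (i : ℕ) (g : ι)
    (x : E.H a i) : Hequiv E E' a i x ∈ E'.Hcomp a i g ↔ x ∈ E.Hcomp a i g := by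
  constructor
  · intro h
    have h1 := Hmap_mem E' E a (isGrHomDeg_id (ℳ := ℳ)) i h
    rw [add_zero, Hequiv_apply,
      Hmap_Hmap_of_comp_eq_id E E' a isGrHomDeg_id isGrHomDeg_id (add_zero 0) rfl i x] at h1
    exact h1
  · intro h
    have h1 := Hmap_mem E E' a (isGrHomDeg_id (ℳ := ℳ)) i h
    rwa [add_zero] at h1

/-- Vanishing of a piece does not depend on the resolution. -/
theorem Hcomp_eq_bot_iff (E E' : StarInjRes 𝒜 ℳ) (a : HomogeneousIdeal 𝒜) (i : ℕ) (g : ι) :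
    E.Hcomp a i g = ⊥ ↔ E'.Hcomp a i g = ⊥ := by
  have key : ∀ (E E' : StarInjRes 𝒜 ℳ), E.Hcomp a i g = ⊥ → E'.Hcomp a i g = ⊥ := by
    intro E E' h
    rw [Hcomp_eq_bot_iff_forall_mem] at h ⊢
    intro x hx
    have h1 := (Hequiv_mem_iff E' E a i g x).mpr hx
    have h2 := h _ h1
    exact (LinearEquiv.map_eq_zero_iff _).mp h2
  exact ⟨key E E', key E' E⟩

/-- Subsingleton-ness of cohomology does not depend on the resolution. -/
theorem subsingleton_H_iff (E E' : StarInjRes 𝒜 ℳ) (a : HomogeneousIdeal 𝒜) (i : ℕ) :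
    Subsingleton (E.H a i) ↔ Subsingleton (E'.H a i) :=
  ⟨fun _ => (Hequiv E E' a i).symm.toEquiv.subsingleton,
    fun _ => (Hequiv E E' a i).toEquiv.subsingleton⟩

end Groth.Agent.Lib.GrLCMap
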