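import Groth.Agent.Lib.GrLCLES
import Groth.Agent.S13215

/-!
# Graded local cohomology and quasi-regular homogeneous elements (helper12)

Setting: `𝒜 : ι → AddSubgroup R` a Noetherian graded ring, `a` a homogeneous ideal, `M` a graded
module, `x ∈ 𝒜 δ` homogeneous such that `(0 :_M x)` is `a`-torsion ("quasi-regular"), and
`π : M → N` a homogeneous surjection with kernel `xM`.

* `exists_coimage` : graded kernel/coimage factorization of multiplication by `x`;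
* `Hcomp_quot_eq_bot` : `H^i(M)_{e+δ} = 0` and `H^{i+1}(M)_e = 0` imply `H^i(N)_{e+δ} = 0`;
* `Hcomp_eq_bot_of_quot` : if `x ∈ a` and `H^j(N)_{e+δ} = 0` for all `e` in a set `D` stable
  under `+δ` then `H^{j+1}(M)_e = 0` for all `e ∈ D`.
-/

set_option autoImplicit false
set_option linter.unusedSectionVars false
universe u

namespace Groth.Agent.Lib.GrLCQReg

open DirectSum GrLC Groth.Agent.Lib.H87GrMod Groth.Agent.Lib.H87GrMod2
  Groth.Agent.Lib.H87GrShift Groth.Agent.S18662 Groth.Agent.S18661 Groth.Agent.Lib.GrLCMap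
  Groth.Agent.Lib.GrLCLES Groth.Agent.S13215

variable {ι : Type} [AddCommGroup ι] [DecidableEq ι]
variable {R : Type u} [CommRing R] {𝒜 : ι → AddSubgroup R} [GradedRing 𝒜]
variable {M : Type u} [AddCommGroup M] [Module R M] {ℳ : ι → AddSubgroup M}
  [Decomposition ℳ] [SetLike.GradedSMul 𝒜 ℳ]
variable {N : Type u} [AddCommGroup N] [Module R N] {𝒩 : ι → AddSubgroup N}
  [Decomposition 𝒩] [SetLike.GradedSMul 𝒜 𝒩]

/-- Kernel and coimage of a map homogeneous of degree `δ`, in the graded category. -/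
theorem exists_coimage {θ : M →ₗ[R] N} {δ : ι} (hθ : IsGrHomDeg ℳ 𝒩 θ δ) :
    ∃ (Km Mb : GMod.{u} 𝒜) (j : Km.carrier →ₗ[R] M) (p : M →ₗ[R] Mb.carrier)
      (θb : Mb.carrier →ₗ[R] N),
      IsGrHom Km.gr ℳ j ∧ Function.Injective j ∧ LinearMap.range j = LinearMap.ker θ ∧
      IsGrHom ℳ Mb.gr p ∧ Function.Surjective p ∧ LinearMap.ker p = LinearMap.range j ∧
      IsGrHomDeg Mb.gr 𝒩 θb δ ∧ Function.Injective θb ∧ (∀ m, θb (p m) = θ m) := by
  classical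
  set K := LinearMap.ker θ with hKdef
  have hKhom : K.IsHomogeneous ℳ := isHomogeneous_ker_deg ℳ 𝒩 hθ
  have hbot : (⊥ : Submodule R M).IsHomogeneous ℳ := isHomogeneous_bot ℳ
  -- the kernel as a graded module
  let Km : GMod.{u} 𝒜 := sqGMod 𝒜 ℳ K ⊥ hKhom hbot
  let Q₁ : Submodule R K := (⊥ : Submodule R M).comap K.subtype
  have hQ₁ : Q₁ ≤ LinearMap.ker K.subtype := by
    intro z hz
    rw [LinearMap.mem_ker]
    exact (Submodule.mem_bot R).mp hz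
  let j : Km.carrier →ₗ[R] M := Q₁.liftQ K.subtype hQ₁
  have hj : IsGrHom Km.gr ℳ j := by
    intro g y hy
    obtain ⟨z, hz, rfl⟩ := (mem_sqGr ℳ K ⊥ g y).mp hy
    exact hz
  have hjmk : ∀ z : K, j (Q₁.mkQ z) = (z : M) := fun z => rfl
  have hjinj : Function.Injective j := by
    rw [injective_iff_map_eq_zero]
    intro y hy
    obtain ⟨z, rfl⟩ := Q₁.mkQ_surjective y
    rw [hjmk] at hy
    have : z = 0 := Subtype.ext hy
    rw [this]
    exact map_zero _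
  have hjrange : LinearMap.range j = K := by
    ext m
    constructor
    · rintro ⟨y, rfl⟩
      obtain ⟨z, rfl⟩ := Q₁.mkQ_surjective y
      rw [hjmk]
      exact z.2
    · intro hm
      exact ⟨Q₁.mkQ ⟨m, hm⟩, rfl⟩
  -- the coimage
  let Mb : GMod.{u} 𝒜 := quotGMod 𝒜 ℳ K hKhom
  let p : M →ₗ[R] Mb.carrier := quotMap 𝒜 ℳ K hKhom
  have hp : IsGrHom ℳ Mb.gr p := quotMap_isGrHom 𝒜 ℳ K hKhom
  have hpsurj : Function.Surjective p := quotMap_surjective 𝒜 ℳ K hKhom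
  have hpker : LinearMap.ker p = K := by
    ext m
    rw [LinearMap.mem_ker]
    exact quotMap_eq_zero_iff 𝒜 ℳ K hKhom m
  let T : Submodule R M := ⊤
  let Q₂ : Submodule R T := K.comap T.subtype
  have hQ₂ : Q₂ ≤ LinearMap.ker (θ ∘ₗ T.subtype) := by
    intro z hz
    rw [LinearMap.mem_ker, LinearMap.comp_apply]
    exact hz
  let θb : Mb.carrier →ₗ[R] N := Q₂.liftQ (θ ∘ₗ T.subtype) hQ₂
  have hθbp : ∀ m, θb (p m) = θ m := fun m => rfl
  have hθb : IsGrHomDeg Mb.gr 𝒩 θb δ := by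
    intro g y hy
    obtain ⟨z, hz, rfl⟩ := (mem_sqGr ℳ T K g y).mp hy
    exact hθ g _ hz
  have hθbinj : Function.Injective θb := by
    rw [injective_iff_map_eq_zero]
    intro y hy
    obtain ⟨m, rfl⟩ := hpsurj y
    rw [hθbp] at hy
    have : m ∈ LinearMap.ker p := by rw [hpker]; exact hy
    exact this
  exact ⟨Km, Mb, j, p, θb, hj, hjinj, hjrange, hp, hpsurj, by rw [hpker, hjrange], hθb, hθbinj,
    hθbp⟩

variable [IsNoetherianRing R] (a : HomogeneousIdeal 𝒜) {x : R} {δ : ι}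

include a in
/-- If `(0 :_M x)` is `a`-torsion, `N = M/xM`, `H^i_a(M)_{e+δ} = 0` and `H^{i+1}_a(M)_e = 0` then
`H^i_a(N)_{e+δ} = 0`. -/
theorem Hcomp_quot_eq_bot (hx : x ∈ 𝒜 δ)
    (hK : LinearMap.ker (LinearMap.lsmul R M x) ≤ gam a.toIdeal M)
    {π : M →ₗ[R] N} (hπg : IsGrHom ℳ 𝒩 π) (hπ : Function.Surjective π)
    (hker : LinearMap.ker π = LinearMap.range (LinearMap.lsmul R M x))
    (E : StarInjRes 𝒜 ℳ) (E' : StarInjRes 𝒜 𝒩) (i : ℕ) (e : ι)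
    (h1 : E.Hcomp a i (e + δ) = ⊥) (h2 : E.Hcomp a (i + 1) e = ⊥) :
    E'.Hcomp a i (e + δ) = ⊥ := by
  have hθ : IsGrHomDeg ℳ ℳ (LinearMap.lsmul R M x) δ := isGrHomDeg_lsmul 𝒜 ℳ hx
  obtain ⟨Km, Mb, j, p, θb, hj, hjinj, hjrange, hp, hpsurj, hpker, hθb, hθbinj, hθbp⟩ :=
    exists_coimage (𝒜 := 𝒜) hθ
  have hKtop : gam a.toIdeal Km.carrier = ⊤ := by
    rw [eq_top_iff]
    intro κ _
    have h3 : j κ ∈ gam a.toIdeal M := hK (by rw [← hjrange]; exact ⟨κ, rfl⟩)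
    obtain ⟨n, hn⟩ := h3
    refine ⟨n, fun r hr => hjinj ?_⟩
    rw [map_smul, hn r hr, map_zero]
  let EK : StarInjRes 𝒜 Km.gr := res Km.gr
  let Eb : StarInjRes 𝒜 Mb.gr := res Mb.gr
  have hj0 : IsGrHomDeg Km.gr ℳ j 0 := (isGrHomDeg_zero_iff _ _ _).mpr hj
  have hp0 : IsGrHomDeg ℳ Mb.gr p 0 := (isGrHomDeg_zero_iff _ _ _).mpr hp
  have hπ0 : IsGrHomDeg ℳ 𝒩 π 0 := (isGrHomDeg_zero_iff _ _ _).mpr hπg
  -- `H^{i+2}(K)_e = 0`
  have hKvan : EK.Hcomp a (i + 2) e = ⊥ := by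
    have := H_subsingleton_of_torsion EK a hKtop (i + 2) (by omega)
    rw [Hcomp_eq_bot_iff_forall_mem]
    intro y _
    exact Subsingleton.elim _ _
  -- `H^{i+1}(M̄)_e = 0`
  have hb : Eb.Hcomp a (i + 1) e = ⊥ := by
    have h3 := Hcomp_eq_bot_right EK E Eb a hj0 hp0 hjinj hpsurj hpker (i + 1) e
      (by rwa [add_zero]) hKvan
    rwa [add_zero] at h3
  have hex : LinearMap.ker π = LinearMap.range θb := by
    rw [hker]
    ext m
    constructor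
    · rintro ⟨m', rfl⟩
      exact ⟨p m', hθbp m'⟩
    · rintro ⟨y, rfl⟩
      obtain ⟨m', rfl⟩ := hpsurj y
      exact ⟨m', (hθbp m').symm⟩
  exact Hcomp_eq_bot_right Eb E E' a hθb hπ0 hθbinj hπ hex i e h1 hb

include a in
/-- If `x ∈ a`, `(0 :_M x)` is `a`-torsion, `N = M/xM`, and `H^j_a(N)_{e+δ} = 0` for all `e` in a
set `D` stable under `+δ`, then `H^{j+1}_a(M)_e = 0` for all `e ∈ D`. -/
theorem Hcomp_eq_bot_of_quot (hx : x ∈ 𝒜 δ) (hxa : x ∈ a.toIdeal)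
    (hK : LinearMap.ker (LinearMap.lsmul R M x) ≤ gam a.toIdeal M)
    {π : M →ₗ[R] N} (hπg : IsGrHom ℳ 𝒩 π) (hπ : Function.Surjective π)
    (hker : LinearMap.ker π = LinearMap.range (LinearMap.lsmul R M x))
    (E : StarInjRes 𝒜 ℳ) (E' : StarInjRes 𝒜 𝒩) (j : ℕ) (D : Set ι)
    (hD : ∀ e ∈ D, e + δ ∈ D) (hN : ∀ e ∈ D, E'.Hcomp a j (e + δ) = ⊥) :
    ∀ e ∈ D, E.Hcomp a (j + 1) e = ⊥ := by
  have hθ : IsGrHomDeg ℳ ℳ (LinearMap.lsmul R M x) δ := isGrHomDeg_lsmul 𝒜 ℳ hx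
  obtain ⟨Km, Mb, jK, p, θb, hj, hjinj, hjrange, hp, hpsurj, hpker, hθb, hθbinj, hθbp⟩ :=
    exists_coimage (𝒜 := 𝒜) hθ
  have hKtop : gam a.toIdeal Km.carrier = ⊤ := by
    rw [eq_top_iff]
    intro κ _
    have h3 : jK κ ∈ gam a.toIdeal M := hK (by rw [← hjrange]; exact ⟨κ, rfl⟩)
    obtain ⟨n, hn⟩ := h3
    refine ⟨n, fun r hr => hjinj ?_⟩
    rw [map_smul, hn r hr, map_zero]
  let EK : StarInjRes 𝒜 Km.gr := res Km.gr
  let Eb : StarInjRes 𝒜 Mb.gr := res Mb.gr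
  have hj0 : IsGrHomDeg Km.gr ℳ jK 0 := (isGrHomDeg_zero_iff _ _ _).mpr hj
  have hp0 : IsGrHomDeg ℳ Mb.gr p 0 := (isGrHomDeg_zero_iff _ _ _).mpr hp
  have hπ0 : IsGrHomDeg ℳ 𝒩 π 0 := (isGrHomDeg_zero_iff _ _ _).mpr hπg
  have hex : LinearMap.ker π = LinearMap.range θb := by
    rw [hker]
    ext m
    constructor
    · rintro ⟨m', rfl⟩
      exact ⟨p m', hθbp m'⟩
    · rintro ⟨y, rfl⟩
      obtain ⟨m', rfl⟩ := hpsurj y
      exact ⟨m', (hθbp m').symm⟩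
  have hcomp : LinearMap.lsmul R M x = θb ∘ₗ p := by
    apply LinearMap.ext
    intro m
    exact (hθbp m).symm
  refine Hcomp_eq_bot_of_smul_injective E a hx hxa (j + 1) D hD ?_
  intro e he ξ hξ hξ0
  -- `x • ξ = Hmap θb (Hmap p ξ)`
  have h1 : x • ξ = Hmap Eb E a hθb (j + 1) (Hmap E Eb a hp0 (j + 1) ξ) := by
    rw [← Hmap_smul E a hx hθ (j + 1) ξ]
    exact Hmap_comp E Eb E a hp0 hθb hθ hcomp (zero_add δ).symm (j + 1) ξ
  rw [h1] at hξ0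
  have hpξ : Hmap E Eb a hp0 (j + 1) ξ ∈ Eb.Hcomp a (j + 1) e := by
    have := Hmap_mem E Eb a hp0 (j + 1) hξ
    rwa [add_zero] at this
  have h2 : Hmap E Eb a hp0 (j + 1) ξ = 0 :=
    eq_zero_of_Hmap_eq_zero Eb E E' a hθb hπ0 hθbinj hπ hex j e (hN e he) hpξ hξ0
  -- now use the kernel sequence
  have hξ' : ξ ∈ E.Hcomp a (j + 1) (e + 0) := by rwa [add_zero]
  obtain ⟨κ, hκ, rfl⟩ := exists_of_Hmap_eq_zero EK E Eb a hj0 hp0 hjinj hpsurj hpker (j + 1)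
    hξ' h2
  have := H_subsingleton_of_torsion EK a hKtop (j + 1) (by omega)
  rw [Subsingleton.elim κ 0, map_zero]

end Groth.Agent.Lib.GrLCQReg
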