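import Mathlib
import Groth.Agent.Lib.GrLCSyz
import Groth.Agent.Lib.GrLCEnd
import Groth.Agent.Lib.GrReg
import Groth.Agent.Lib.GrFreeRes

/-!
# Castelnuovo–Mumford regularity via graded local cohomology (helper12)

`k` a field, `S = k[x_0..x_n]`, `𝔪` the irrelevant ideal, `M` a finitely generated graded
`S`-module, `F` a minimal graded free resolution, `E` a *injective resolution.

* `isGenLE_iff_forall_Hcomp` : `F.IsGenLE d ↔ ∀ j e, d < e + j → H^j_𝔪(M)_e = 0`;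
* `isGenLE_iff_endDeg` : `F.IsGenLE d ↔ ∀ i, end H^i_𝔪(M) + i ≤ d`;
* `reg_eq_iSup` : `reg M = sup_i (end H^i_𝔪(M) + i)`.
-/

set_option autoImplicit false
set_option linter.unusedSectionVars false
universe u

open DirectSum MvPolynomial

namespace Groth.Agent.Lib.GrLCReg

open GrLC Groth.Agent.Lib.GrLCMap Groth.Agent.Lib.GrLCBridge Groth.Agent.Lib.GrLCPoly
  Groth.Agent.Lib.GrLCSyz Groth.Agent.Lib.GrLCEnd

variable {k : Type u} [Field k] {n : ℕ}
  {M : Type u} [AddCommGroup M] [Module k M] [Module (MvPolynomial (Fin (n + 1)) k) M]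
  [IsScalarTower k (MvPolynomial (Fin (n + 1)) k) M]
  {ℳ : ℤ → Submodule k M} [DirectSum.Decomposition ℳ]
  [SetLike.GradedSMul (GrSyz.stdGr k (Fin (n + 1))) ℳ]

theorem isGenLE_iff_forall_Hcomp [Module.Finite (MvPolynomial (Fin (n + 1)) k) M] (F : GrSyz.FreeRes (GrSyz.stdGr k (Fin (n + 1))) ℳ)
    (hF : F.IsMinimal (GrSyz.irrel (GrSyz.stdGr k (Fin (n + 1)))).toIdeal)
    (E : StarInjRes (GrSyz.stdGr k (Fin (n + 1))) ℳ) (d : ℤ) :
    F.IsGenLE d ↔ ∀ (j : ℕ) (e : ℤ), d < e + j →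
      E.Hcomp (GrSyz.irrel (GrSyz.stdGr k (Fin (n + 1)))) j e = ⊥ := by
  classical
  have hlen : F.HasLengthLE (n + 1) :=
    Groth.Agent.Lib.GrSyzygy.hasLengthLE_of_isMinimal k n M ℳ F hF
  constructor
  · intro hd j e hje
    rw [← Hcomp_toSRes_eq_bot_iff]
    exact Hcomp_eq_bot_of_isGenLE F hlen d hd (toSRes E) j e hje
  · intro hvan
    by_contra hnot
    unfold GrSyz.FreeRes.IsGenLE at hnot
    push Not at hnot
    obtain ⟨i₁, b₁, hib⟩ := hnot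
    have hi₁ : i₁ ≤ n + 1 := by
      by_contra h
      exact Fin.elim0 (hlen i₁ (by omega) ▸ b₁)
    let φ : (Σ i : Fin (n + 2), Fin (F.rk i)) → ℤ := fun y => F.deg y.1 y.2 - (y.1 : ℕ)
    obtain ⟨y₁, -, hy₁⟩ := Finset.exists_max_image (Finset.univ : Finset (Σ i : Fin (n + 2),
      Fin (F.rk i))) φ ⟨⟨⟨i₁, by omega⟩, b₁⟩, Finset.mem_univ _⟩
    set d' := φ y₁ with hd'
    have hne : ((Finset.univ : Finset (Σ i : Fin (n + 2), Fin (F.rk i))).filter
        (fun y => φ y = d')).Nonempty := ⟨y₁, Finset.mem_filter.2 ⟨Finset.mem_univ _, rfl⟩⟩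
    obtain ⟨y₀, hy₀mem, hy₀⟩ := Finset.exists_max_image _
      (fun y : (Σ i : Fin (n + 2), Fin (F.rk i)) => ((y.1 : ℕ))) hne
    obtain ⟨⟨i₀, hi₀⟩, b₀⟩ := y₀
    have hφ₀ : F.deg i₀ b₀ - (i₀ : ℕ) = d' := (Finset.mem_filter.1 hy₀mem).2
    have hmax : ∀ (i : ℕ) (b : Fin (F.rk i)), F.deg i b ≤ d' + i := by
      intro i b
      have hi : i ≤ n + 1 := by
        by_contra h
        exact Fin.elim0 (hlen i (by omega) ▸ b)
      have := hy₁ ⟨⟨i, by omega⟩, b⟩ (Finset.mem_univ _)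
      have h2 : φ ⟨⟨i, by omega⟩, b⟩ = F.deg i b - (i : ℕ) := rfl
      rw [h2] at this
      omega
    have hlast : ∀ (i : ℕ), i₀ < i → ∀ b : Fin (F.rk i), F.deg i b < d' + i := by
      intro i hi b
      have hi' : i ≤ n + 1 := by
        by_contra h
        exact Fin.elim0 (hlen i (by omega) ▸ b)
      have h1 := hmax i b
      by_contra hlt
      have heq : φ ⟨⟨i, by omega⟩, b⟩ = d' := by
        have h2 : φ ⟨⟨i, by omega⟩, b⟩ = F.deg i b - (i : ℕ) := rfl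
        rw [h2]
        omega
      have := hy₀ ⟨⟨i, by omega⟩, b⟩ (Finset.mem_filter.2 ⟨Finset.mem_univ _, heq⟩)
      simp only at this
      omega
    have hdd' : d < d' := by
      have := hy₁ ⟨⟨i₁, by omega⟩, b₁⟩ (Finset.mem_univ _)
      have h2 : φ ⟨⟨i₁, by omega⟩, b₁⟩ = F.deg i₁ b₁ - (i₁ : ℕ) := rfl
      rw [h2] at this
      omega
    have hi₀' : i₀ ≤ n + 1 := by omega
    have hne' := Hcomp_ne_bot_of_last F hF d' i₀ hi₀' b₀ (by omega) hmax hlast (toSRes E)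
    apply hne'
    rw [Hcomp_toSRes_eq_bot_iff]
    apply hvan
    rw [Nat.cast_sub hi₀']
    push_cast
    omega

theorem isGenLE_iff_endDeg [Module.Finite (MvPolynomial (Fin (n + 1)) k) M] (F : GrSyz.FreeRes (GrSyz.stdGr k (Fin (n + 1))) ℳ)
    (hF : F.IsMinimal (GrSyz.irrel (GrSyz.stdGr k (Fin (n + 1)))).toIdeal)
    (E : StarInjRes (GrSyz.stdGr k (Fin (n + 1))) ℳ) (d : ℤ) :
    F.IsGenLE d ↔ ∀ i : ℕ,
      GrLC.endDeg (E.Hgr (GrSyz.irrel (GrSyz.stdGr k (Fin (n + 1)))) i) +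
        (((i : ℤ) : WithTop ℤ) : WithBot (WithTop ℤ)) ≤ ((d : WithTop ℤ) : WithBot (WithTop ℤ)) := by
  rw [isGenLE_iff_forall_Hcomp F hF E d]
  constructor
  · intro h i
    rw [endDeg_add_le_iff']
    intro e he
    have h1 := h i e he
    rw [eq_bot_iff] at h1 ⊢
    intro x hx
    have := h1 (show x ∈ E.Hcomp _ i e from hx)
    exact this
  · intro h j e hje
    have h1 := (endDeg_add_le_iff' _ _ _).mp (h j) e hje
    rw [eq_bot_iff] at h1 ⊢
    intro x hx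
    have := h1 (show x ∈ E.Hgr _ j e from hx)
    exact this

theorem reg_eq_iSup [Module.Finite (MvPolynomial (Fin (n + 1)) k) M]
    (E : StarInjRes (GrSyz.stdGr k (Fin (n + 1))) ℳ) :
    GrSyz.reg (GrSyz.stdGr k (Fin (n + 1))) ℳ (GrSyz.irrel (GrSyz.stdGr k (Fin (n + 1)))).toIdeal =
      ⨆ i : ℕ, (GrLC.endDeg (E.Hgr (GrSyz.irrel (GrSyz.stdGr k (Fin (n + 1)))) i) +
        (((i : ℤ) : WithTop ℤ) : WithBot (WithTop ℤ))) := by
  obtain ⟨F, hF⟩ := Groth.Agent.Lib.GrFreeRes.exists_freeRes_isMinimal k n M ℳ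
  unfold GrSyz.reg
  rw [← Groth.Agent.Lib.GrReg.iInf_int_ge (⨆ i : ℕ,
    (GrLC.endDeg (E.Hgr (GrSyz.irrel (GrSyz.stdGr k (Fin (n + 1)))) i) +
      (((i : ℤ) : WithTop ℤ) : WithBot (WithTop ℤ))))]
  refine iInf_congr fun s => ?_
  refine iInf_congr_Prop ?_ fun _ => rfl
  rw [Groth.Agent.Lib.GrReg.isRegLE_iff_isGenLE F hF, isGenLE_iff_endDeg F hF E, iSup_le_iff]

end Groth.Agent.Lib.GrLCReg
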