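import Mathlib
import Groth.Agent.Lib.GrLCReg
import Groth.Agent.Lib.GrLCQReg
import Groth.Agent.Lib.GrLCFinLen
import Groth.Agent.Lib.GrLCBridge2

/-!
# Regularity and quasi-regular linear forms (helper12)

`k` a field, `S = k[x_0..x_n]`, `𝔪` the irrelevant ideal, `M` a finitely generated graded
`S`-module, `x ∈ S_1` quasi-regular on `M`, `N = M/xM`.

* `le_of_forall_c_le`, `eq_of_forall_c_le_iff` : comparing elements of `WithBot (WithTop ℤ)` through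
  the integers above them;
* `forall_Hcomp_iff_of_quot` : `(∀ i e, s < e + i → H^i_𝔪(M)_e = 0) ↔
  (∀ e, s < e → H^0_𝔪(M)_e = 0) ∧ (∀ i e, s < e + i → H^i_𝔪(N)_e = 0)`;
* `reg_eq_sup_of_quot` : `reg M = end H^0_𝔪(M) ⊔ reg N`.
-/

set_option autoImplicit false
set_option linter.unusedSectionVars false
universe u

open DirectSum MvPolynomial

namespace Groth.Agent.Lib.GrLCReg

open GrLC Groth.Agent.Lib.GrLCMap Groth.Agent.Lib.GrLCBridge Groth.Agent.Lib.GrLCPoly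
  Groth.Agent.Lib.GrLCSyz Groth.Agent.Lib.GrLCEnd Groth.Agent.Lib.GrLCQReg
  Groth.Agent.Lib.GrLCFinLen

theorem le_of_forall_c_le {X Y : WithBot (WithTop ℤ)} (h : ∀ s : ℤ, Y ≤ c s → X ≤ c s) :
    X ≤ Y := by
  rw [← Groth.Agent.Lib.GrReg.iInf_int_ge Y]
  exact le_iInf₂ fun s hs => h s hs

theorem eq_of_forall_c_le_iff {X Y : WithBot (WithTop ℤ)} (h : ∀ s : ℤ, X ≤ c s ↔ Y ≤ c s) :
    X = Y :=
  le_antisymm (le_of_forall_c_le fun s hs => (h s).mpr hs)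
    (le_of_forall_c_le fun s hs => (h s).mp hs)

variable {k : Type u} [Field k] {n : ℕ}
  {M : Type u} [AddCommGroup M] [Module k M] [Module (MvPolynomial (Fin (n + 1)) k) M]
  [IsScalarTower k (MvPolynomial (Fin (n + 1)) k) M]
  {ℳ : ℤ → Submodule k M} [DirectSum.Decomposition ℳ]
  [SetLike.GradedSMul (GrSyz.stdGr k (Fin (n + 1))) ℳ]
  {N : Type u} [AddCommGroup N] [Module k N] [Module (MvPolynomial (Fin (n + 1)) k) N]
  [IsScalarTower k (MvPolynomial (Fin (n + 1)) k) N]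
  {𝒩 : ℤ → Submodule k N} [DirectSum.Decomposition 𝒩]
  [SetLike.GradedSMul (GrSyz.stdGr k (Fin (n + 1))) 𝒩]

theorem forall_Hcomp_iff_of_quot [Module.Finite (MvPolynomial (Fin (n + 1)) k) M]
    {x : MvPolynomial (Fin (n + 1)) k} (hx : x ∈ GrSyz.stdGr k (Fin (n + 1)) 1)
    (hq : IsFiniteLength (MvPolynomial (Fin (n + 1)) k)
      ↥(Submodule.torsionBy (MvPolynomial (Fin (n + 1)) k) M x))
    {π : M →ₗ[MvPolynomial (Fin (n + 1)) k] N} (hπ : Function.Surjective π)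
    (hπg : GrLC.IsGrHom ℳ 𝒩 π)
    (hker : LinearMap.ker π =
      LinearMap.range (x • (LinearMap.id : M →ₗ[MvPolynomial (Fin (n + 1)) k] M)))
    (E : StarInjRes (GrSyz.stdGr k (Fin (n + 1))) ℳ)
    (E' : StarInjRes (GrSyz.stdGr k (Fin (n + 1))) 𝒩) (s : ℤ) :
    (∀ (i : ℕ) (e : ℤ), s < e + i →
        E.Hcomp (GrSyz.irrel (GrSyz.stdGr k (Fin (n + 1)))) i e = ⊥) ↔
      ((∀ e : ℤ, s < e → E.Hcomp (GrSyz.irrel (GrSyz.stdGr k (Fin (n + 1)))) 0 e = ⊥) ∧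
        ∀ (i : ℕ) (e : ℤ), s < e + i →
          E'.Hcomp (GrSyz.irrel (GrSyz.stdGr k (Fin (n + 1)))) i e = ⊥) := by
  have hK : LinearMap.ker (LinearMap.lsmul (MvPolynomial (Fin (n + 1)) k) M x) ≤
      GrLC.gam (toSIdeal (GrSyz.irrel (GrSyz.stdGr k (Fin (n + 1))))).toIdeal M := by
    have h1 : LinearMap.ker (LinearMap.lsmul (MvPolynomial (Fin (n + 1)) k) M x) =
        Submodule.torsionBy (MvPolynomial (Fin (n + 1)) k) M x := by
      ext m
      rw [LinearMap.mem_ker, Submodule.mem_torsionBy_iff, LinearMap.lsmul_apply]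
    rw [h1]
    exact le_gam_of_isFiniteLength (ℳ := ℳ) _ hq
  have hker' : LinearMap.ker π =
      LinearMap.range (LinearMap.lsmul (MvPolynomial (Fin (n + 1)) k) M x) := by
    rw [hker]
    congr 1
  have hπg' : GrLC.IsGrHom (asGr ℳ) (asGr 𝒩) π := fun g m hm => hπg g m hm
  have hx' : x ∈ asGr (GrSyz.stdGr k (Fin (n + 1))) 1 := hx
  have hxa : x ∈ (toSIdeal (GrSyz.irrel (GrSyz.stdGr k (Fin (n + 1))))).toIdeal :=
    mem_irrS_of_pos k n one_pos hx'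
  constructor
  · intro h
    refine ⟨fun e he => h 0 e (by simpa using he), fun i e he => ?_⟩
    rw [← Hcomp_toSRes_eq_bot_iff]
    have h1 : (toSRes E).Hcomp (toSIdeal (GrSyz.irrel (GrSyz.stdGr k (Fin (n + 1))))) i
        (e - 1 + 1) = ⊥ :=
      (Hcomp_toSRes_eq_bot_iff _ _ _ _).mpr (h i (e - 1 + 1) (by omega))
    have h2 : (toSRes E).Hcomp (toSIdeal (GrSyz.irrel (GrSyz.stdGr k (Fin (n + 1))))) (i + 1)
        (e - 1) = ⊥ :=
      (Hcomp_toSRes_eq_bot_iff _ _ _ _).mpr (h (i + 1) (e - 1) (by push_cast; omega))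
    have h3 := Hcomp_quot_eq_bot (toSIdeal (GrSyz.irrel (GrSyz.stdGr k (Fin (n + 1))))) hx' hK
      hπg' hπ hker' (toSRes E) (toSRes E') i (e - 1) h1 h2
    rwa [sub_add_cancel] at h3
  · rintro ⟨h0, hN⟩ i e he
    cases i with
    | zero => exact h0 e (by simpa using he)
    | succ j =>
      rw [← Hcomp_toSRes_eq_bot_iff]
      refine Hcomp_eq_bot_of_quot (toSIdeal (GrSyz.irrel (GrSyz.stdGr k (Fin (n + 1))))) hx' hxa
        hK hπg' hπ hker' (toSRes E) (toSRes E') j {e : ℤ | s < e + ((j + 1 : ℕ) : ℤ)} ?_ ?_ e he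
      · intro e he
        rw [Set.mem_setOf_eq] at he ⊢
        omega
      · intro e he
        rw [Set.mem_setOf_eq] at he
        exact (Hcomp_toSRes_eq_bot_iff _ _ _ _).mpr (hN j (e + 1) (by push_cast at he; omega))

theorem Hgr_eq_bot_iff (E : StarInjRes (GrSyz.stdGr k (Fin (n + 1))) ℳ) (i : ℕ) (e : ℤ) :
    E.Hgr (GrSyz.irrel (GrSyz.stdGr k (Fin (n + 1)))) i e = ⊥ ↔
      E.Hcomp (GrSyz.irrel (GrSyz.stdGr k (Fin (n + 1)))) i e = ⊥ := by
  rw [eq_bot_iff, eq_bot_iff]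
  constructor
  · intro h x hx
    exact h (show x ∈ E.Hgr _ i e from hx)
  · intro h x hx
    exact h (show x ∈ E.Hcomp _ i e from hx)

theorem iSup_endDeg_le_iff (E : StarInjRes (GrSyz.stdGr k (Fin (n + 1))) ℳ) (s : ℤ) :
    (⨆ i : ℕ, (GrLC.endDeg (E.Hgr (GrSyz.irrel (GrSyz.stdGr k (Fin (n + 1)))) i) +
        (((i : ℤ) : WithTop ℤ) : WithBot (WithTop ℤ)))) ≤ c s ↔
      ∀ (i : ℕ) (e : ℤ), s < e + i →
        E.Hcomp (GrSyz.irrel (GrSyz.stdGr k (Fin (n + 1)))) i e = ⊥ := by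
  rw [iSup_le_iff]
  refine forall_congr' fun i => ?_
  rw [endDeg_add_le_iff']
  refine forall_congr' fun e => ?_
  rw [Hgr_eq_bot_iff]

/-- `reg M = max (end H^0_𝔪(M)) (reg M/xM)` for a quasi-regular linear form `x`. -/
theorem reg_eq_sup_of_quot [Module.Finite (MvPolynomial (Fin (n + 1)) k) M]
    [Module.Finite (MvPolynomial (Fin (n + 1)) k) N]
    {x : MvPolynomial (Fin (n + 1)) k} (hx : x ∈ GrSyz.stdGr k (Fin (n + 1)) 1)
    (hq : IsFiniteLength (MvPolynomial (Fin (n + 1)) k)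
      ↥(Submodule.torsionBy (MvPolynomial (Fin (n + 1)) k) M x))
    {π : M →ₗ[MvPolynomial (Fin (n + 1)) k] N} (hπ : Function.Surjective π)
    (hπg : GrLC.IsGrHom ℳ 𝒩 π)
    (hker : LinearMap.ker π =
      LinearMap.range (x • (LinearMap.id : M →ₗ[MvPolynomial (Fin (n + 1)) k] M)))
    (E : StarInjRes (GrSyz.stdGr k (Fin (n + 1))) ℳ) :
    GrSyz.reg (GrSyz.stdGr k (Fin (n + 1))) ℳ
        (GrSyz.irrel (GrSyz.stdGr k (Fin (n + 1)))).toIdeal =
      GrLC.endDeg (E.Hgr (GrSyz.irrel (GrSyz.stdGr k (Fin (n + 1)))) 0) ⊔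
        GrSyz.reg (GrSyz.stdGr k (Fin (n + 1))) 𝒩
          (GrSyz.irrel (GrSyz.stdGr k (Fin (n + 1)))).toIdeal := by
  obtain ⟨E'⟩ := exists_starInjRes (GrSyz.stdGr k (Fin (n + 1))) 𝒩
  rw [reg_eq_iSup E, reg_eq_iSup E']
  refine eq_of_forall_c_le_iff fun s => ?_
  rw [sup_le_iff, iSup_endDeg_le_iff, iSup_endDeg_le_iff, endDeg_le_iff,
    forall_Hcomp_iff_of_quot hx hq hπ hπg hker E E' s]
  refine and_congr_left fun _ => ?_
  refine forall_congr' fun e => ?_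
  rw [Hgr_eq_bot_iff]

end Groth.Agent.Lib.GrLCReg
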