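import Mathlib
import Groth.Agent.Lib.GrLCReg2
import Groth.Agent.Lib.GrLCLES

/-!
# Regularity in short exact sequences via graded local cohomology (helper12)

`k` a field, `S = k[x_0..x_n]`, `𝔪` the irrelevant ideal.

* `isRegLE_iff_forall_Hcomp` : `reg M ≤ r ↔ ∀ j e, r < e + j → H^j_𝔪(M)_e = 0`
  (for one, equivalently every, *injective resolution);
* `isRegLE_left`, `isRegLE_mid`, `isRegLE_right` : behaviour in `0 → M₁ → M₂ → M₃ → 0`.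
-/

set_option autoImplicit false
set_option linter.unusedSectionVars false
universe u

open DirectSum MvPolynomial

namespace Groth.Agent.Lib.GrLCReg

open GrLC Groth.Agent.Lib.GrLCMap Groth.Agent.Lib.GrLCBridge Groth.Agent.Lib.GrLCPoly
  Groth.Agent.Lib.GrLCSyz Groth.Agent.Lib.GrLCEnd Groth.Agent.Lib.GrLCLES

section

variable {k : Type u} [Field k] {n : ℕ}
  {M : Type u} [AddCommGroup M] [Module k M] [Module (MvPolynomial (Fin (n + 1)) k) M]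
  [IsScalarTower k (MvPolynomial (Fin (n + 1)) k) M]
  {ℳ : ℤ → Submodule k M} [DirectSum.Decomposition ℳ]
  [SetLike.GradedSMul (GrSyz.stdGr k (Fin (n + 1))) ℳ]

theorem isRegLE_iff_forall_Hcomp [Module.Finite (MvPolynomial (Fin (n + 1)) k) M]
    (E : StarInjRes (GrSyz.stdGr k (Fin (n + 1))) ℳ) (r : ℤ) :
    GrSyz.IsRegLE (GrSyz.stdGr k (Fin (n + 1))) ℳ
        (GrSyz.irrel (GrSyz.stdGr k (Fin (n + 1)))).toIdeal r ↔
      ∀ (j : ℕ) (e : ℤ), r < e + j →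
        E.Hcomp (GrSyz.irrel (GrSyz.stdGr k (Fin (n + 1)))) j e = ⊥ := by
  obtain ⟨F, hF⟩ := Groth.Agent.Lib.GrFreeRes.exists_freeRes_isMinimal k n M ℳ
  rw [Groth.Agent.Lib.GrReg.isRegLE_iff_isGenLE F hF, isGenLE_iff_forall_Hcomp F hF E r]

end

section SES

variable {k : Type u} [Field k] {n : ℕ}
  {M₁ : Type u} [AddCommGroup M₁] [Module k M₁] [Module (MvPolynomial (Fin (n + 1)) k) M₁]
  [IsScalarTower k (MvPolynomial (Fin (n + 1)) k) M₁]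
  [Module.Finite (MvPolynomial (Fin (n + 1)) k) M₁]
  {ℳ₁ : ℤ → Submodule k M₁} [DirectSum.Decomposition ℳ₁]
  [SetLike.GradedSMul (GrSyz.stdGr k (Fin (n + 1))) ℳ₁]
  {M₂ : Type u} [AddCommGroup M₂] [Module k M₂] [Module (MvPolynomial (Fin (n + 1)) k) M₂]
  [IsScalarTower k (MvPolynomial (Fin (n + 1)) k) M₂]
  [Module.Finite (MvPolynomial (Fin (n + 1)) k) M₂]
  {ℳ₂ : ℤ → Submodule k M₂} [DirectSum.Decomposition ℳ₂]
  [SetLike.GradedSMul (GrSyz.stdGr k (Fin (n + 1))) ℳ₂]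
  {M₃ : Type u} [AddCommGroup M₃] [Module k M₃] [Module (MvPolynomial (Fin (n + 1)) k) M₃]
  [IsScalarTower k (MvPolynomial (Fin (n + 1)) k) M₃]
  [Module.Finite (MvPolynomial (Fin (n + 1)) k) M₃]
  {ℳ₃ : ℤ → Submodule k M₃} [DirectSum.Decomposition ℳ₃]
  [SetLike.GradedSMul (GrSyz.stdGr k (Fin (n + 1))) ℳ₃]
  {f : M₁ →ₗ[MvPolynomial (Fin (n + 1)) k] M₂} {g : M₂ →ₗ[MvPolynomial (Fin (n + 1)) k] M₃}

/-- `reg M₁ ≤ max (reg M₂) (reg M₃ + 1)`. -/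
theorem isRegLE_left (hf : Function.Injective f) (hg : Function.Surjective g)
    (hfg : LinearMap.range f = LinearMap.ker g)
    (hfgr : GrLC.IsGrHom ℳ₁ ℳ₂ f) (hggr : GrLC.IsGrHom ℳ₂ ℳ₃ g) (r : ℤ)
    (h2 : GrSyz.IsRegLE (GrSyz.stdGr k (Fin (n + 1))) ℳ₂
      (GrSyz.irrel (GrSyz.stdGr k (Fin (n + 1)))).toIdeal r)
    (h3 : GrSyz.IsRegLE (GrSyz.stdGr k (Fin (n + 1))) ℳ₃
      (GrSyz.irrel (GrSyz.stdGr k (Fin (n + 1)))).toIdeal (r - 1)) :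
    GrSyz.IsRegLE (GrSyz.stdGr k (Fin (n + 1))) ℳ₁
      (GrSyz.irrel (GrSyz.stdGr k (Fin (n + 1)))).toIdeal r := by
  obtain ⟨E₁⟩ := exists_starInjRes (GrSyz.stdGr k (Fin (n + 1))) ℳ₁
  obtain ⟨E₂⟩ := exists_starInjRes (GrSyz.stdGr k (Fin (n + 1))) ℳ₂
  obtain ⟨E₃⟩ := exists_starInjRes (GrSyz.stdGr k (Fin (n + 1))) ℳ₃
  rw [isRegLE_iff_forall_Hcomp E₂] at h2
  rw [isRegLE_iff_forall_Hcomp E₃] at h3
  rw [isRegLE_iff_forall_Hcomp E₁]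
  have hf' : IsGrHomDeg (asGr ℳ₁) (asGr ℳ₂) f 0 := fun e m hm => by
    rw [add_zero]; exact hfgr e m hm
  have hg' : IsGrHomDeg (asGr ℳ₂) (asGr ℳ₃) g 0 := fun e m hm => by
    rw [add_zero]; exact hggr e m hm
  intro j e hje
  rw [← Hcomp_toSRes_eq_bot_iff]
  cases j with
  | zero =>
    refine Hcomp_eq_bot_left_zero (E₁ := toSRes E₁) (E₂ := toSRes E₂) (E₃ := toSRes E₃)
      (toSIdeal (GrSyz.irrel (GrSyz.stdGr k (Fin (n + 1))))) hf' hg' hf hg hfg.symm e ?_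
    rw [add_zero]
    exact (Hcomp_toSRes_eq_bot_iff _ _ _ _).mpr (h2 0 e hje)
  | succ i =>
    refine Hcomp_eq_bot_left (E₁ := toSRes E₁) (E₂ := toSRes E₂) (E₃ := toSRes E₃)
      (toSIdeal (GrSyz.irrel (GrSyz.stdGr k (Fin (n + 1))))) hf' hg' hf hg hfg.symm i e ?_ ?_
    · rw [add_zero]
      exact (Hcomp_toSRes_eq_bot_iff _ _ _ _).mpr (h3 i e (by push_cast at hje; omega))
    · rw [add_zero]
      exact (Hcomp_toSRes_eq_bot_iff _ _ _ _).mpr (h2 (i + 1) e hje)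

/-- `reg M₂ ≤ max (reg M₁) (reg M₃)`. -/
theorem isRegLE_mid (hf : Function.Injective f) (hg : Function.Surjective g)
    (hfg : LinearMap.range f = LinearMap.ker g)
    (hfgr : GrLC.IsGrHom ℳ₁ ℳ₂ f) (hggr : GrLC.IsGrHom ℳ₂ ℳ₃ g) (r : ℤ)
    (h1 : GrSyz.IsRegLE (GrSyz.stdGr k (Fin (n + 1))) ℳ₁
      (GrSyz.irrel (GrSyz.stdGr k (Fin (n + 1)))).toIdeal r)
    (h3 : GrSyz.IsRegLE (GrSyz.stdGr k (Fin (n + 1))) ℳ₃
      (GrSyz.irrel (GrSyz.stdGr k (Fin (n + 1)))).toIdeal r) :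
    GrSyz.IsRegLE (GrSyz.stdGr k (Fin (n + 1))) ℳ₂
      (GrSyz.irrel (GrSyz.stdGr k (Fin (n + 1)))).toIdeal r := by
  obtain ⟨E₁⟩ := exists_starInjRes (GrSyz.stdGr k (Fin (n + 1))) ℳ₁
  obtain ⟨E₂⟩ := exists_starInjRes (GrSyz.stdGr k (Fin (n + 1))) ℳ₂
  obtain ⟨E₃⟩ := exists_starInjRes (GrSyz.stdGr k (Fin (n + 1))) ℳ₃
  rw [isRegLE_iff_forall_Hcomp E₁] at h1
  rw [isRegLE_iff_forall_Hcomp E₃] at h3
  rw [isRegLE_iff_forall_Hcomp E₂]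
  have hf' : IsGrHomDeg (asGr ℳ₁) (asGr ℳ₂) f 0 := fun e m hm => by
    rw [add_zero]; exact hfgr e m hm
  have hg' : IsGrHomDeg (asGr ℳ₂) (asGr ℳ₃) g 0 := fun e m hm => by
    rw [add_zero]; exact hggr e m hm
  intro j e hje
  rw [← Hcomp_toSRes_eq_bot_iff]
  have := Hcomp_eq_bot_mid (E₁ := toSRes E₁) (E₂ := toSRes E₂) (E₃ := toSRes E₃)
    (toSIdeal (GrSyz.irrel (GrSyz.stdGr k (Fin (n + 1))))) hf' hg' hf hg hfg.symm j e
    ((Hcomp_toSRes_eq_bot_iff _ _ _ _).mpr (h1 j e hje))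
    (by rw [add_zero]; exact (Hcomp_toSRes_eq_bot_iff _ _ _ _).mpr (h3 j e hje))
  rwa [add_zero] at this

/-- `reg M₃ ≤ max (reg M₁ - 1) (reg M₂)`. -/
theorem isRegLE_right (hf : Function.Injective f) (hg : Function.Surjective g)
    (hfg : LinearMap.range f = LinearMap.ker g)
    (hfgr : GrLC.IsGrHom ℳ₁ ℳ₂ f) (hggr : GrLC.IsGrHom ℳ₂ ℳ₃ g) (r : ℤ)
    (h1 : GrSyz.IsRegLE (GrSyz.stdGr k (Fin (n + 1))) ℳ₁
      (GrSyz.irrel (GrSyz.stdGr k (Fin (n + 1)))).toIdeal (r + 1))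
    (h2 : GrSyz.IsRegLE (GrSyz.stdGr k (Fin (n + 1))) ℳ₂
      (GrSyz.irrel (GrSyz.stdGr k (Fin (n + 1)))).toIdeal r) :
    GrSyz.IsRegLE (GrSyz.stdGr k (Fin (n + 1))) ℳ₃
      (GrSyz.irrel (GrSyz.stdGr k (Fin (n + 1)))).toIdeal r := by
  obtain ⟨E₁⟩ := exists_starInjRes (GrSyz.stdGr k (Fin (n + 1))) ℳ₁
  obtain ⟨E₂⟩ := exists_starInjRes (GrSyz.stdGr k (Fin (n + 1))) ℳ₂
  obtain ⟨E₃⟩ := exists_starInjRes (GrSyz.stdGr k (Fin (n + 1))) ℳ₃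
  rw [isRegLE_iff_forall_Hcomp E₁] at h1
  rw [isRegLE_iff_forall_Hcomp E₂] at h2
  rw [isRegLE_iff_forall_Hcomp E₃]
  have hf' : IsGrHomDeg (asGr ℳ₁) (asGr ℳ₂) f 0 := fun e m hm => by
    rw [add_zero]; exact hfgr e m hm
  have hg' : IsGrHomDeg (asGr ℳ₂) (asGr ℳ₃) g 0 := fun e m hm => by
    rw [add_zero]; exact hggr e m hm
  intro j e hje
  rw [← Hcomp_toSRes_eq_bot_iff]
  have := Hcomp_eq_bot_right (E₁ := toSRes E₁) (E₂ := toSRes E₂) (E₃ := toSRes E₃)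
    (toSIdeal (GrSyz.irrel (GrSyz.stdGr k (Fin (n + 1))))) hf' hg' hf hg hfg.symm j e
    (by rw [add_zero]; exact (Hcomp_toSRes_eq_bot_iff _ _ _ _).mpr (h2 j e hje))
    ((Hcomp_toSRes_eq_bot_iff _ _ _ _).mpr (h1 (j + 1) e (by push_cast; omega)))
  rwa [add_zero] at this

end SES

end Groth.Agent.Lib.GrLCReg
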