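import Mathlib
import Groth.Agent.Lib.GrLCReg2
import Groth.Agent.Lib.GrLCMumford

/-!
# Weak regularity implies regularity over a polynomial ring, any field (helper12)

`k` a field, `S = k[x_0..x_n]`, `𝔪` the irrelevant ideal.

* `irrS_eq_span_one` : `𝔪` is generated by `S_1`;
* `weak_iff_strong` : `(end H^0_𝔪(M) ≤ d ∧ ∀ i > 0, H^i_𝔪(M)_{d-i+1} = 0) ↔
  ∀ j e, d < e + j → H^j_𝔪(M)_e = 0` (Mumford's theorem; no genericity, by the Koszul chase);
* `isGenLE_iff_weak` (S15418), `dRegular_iff_quot` (S15420).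
-/

set_option autoImplicit false
set_option linter.unusedSectionVars false
universe u

open DirectSum MvPolynomial

namespace Groth.Agent.Lib.GrLCReg

open GrLC Groth.Agent.Lib.GrLCMap Groth.Agent.Lib.GrLCBridge Groth.Agent.Lib.GrLCPoly
  Groth.Agent.Lib.GrLCSyz Groth.Agent.Lib.GrLCEnd Groth.Agent.Lib.GrLCMumford

theorem irrS_eq_span_one (k : Type u) [Field k] (n : ℕ) :
    (irrS k n).toIdeal = Ideal.span ((stdS k n 1 : AddSubgroup _) : Set _) := by
  apply le_antisymm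
  · rw [irrS_toIdeal]
    intro p hp
    have h1 : p ∈ Ideal.span (MvPolynomial.X '' (Set.univ : Set (Fin (n + 1))) :
        Set (MvPolynomial (Fin (n + 1)) k)) := by
      rw [MvPolynomial.mem_ideal_span_X_image]
      intro m hm
      by_contra hcon
      push Not at hcon
      have hm0 : m = 0 := by
        ext i
        exact hcon i (Set.mem_univ i)
      rw [RingHom.mem_ker, MvPolynomial.constantCoeff_eq] at hp
      rw [MvPolynomial.mem_support_iff, hm0] at hm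
      exact hm hp
    refine Ideal.span_mono ?_ h1
    rintro _ ⟨i, _, rfl⟩
    exact MvPolynomial.isWeightedHomogeneous_X k (fun _ : Fin (n + 1) => (1 : ℤ)) i
  · rw [Ideal.span_le]
    intro p hp
    exact mem_irrS_of_pos k n one_pos hp

variable {k : Type u} [Field k] {n : ℕ}
  {M : Type u} [AddCommGroup M] [Module k M] [Module (MvPolynomial (Fin (n + 1)) k) M]
  [IsScalarTower k (MvPolynomial (Fin (n + 1)) k) M]
  {ℳ : ℤ → Submodule k M} [DirectSum.Decomposition ℳ]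
  [SetLike.GradedSMul (GrSyz.stdGr k (Fin (n + 1))) ℳ]
  {N : Type u} [AddCommGroup N] [Module k N] [Module (MvPolynomial (Fin (n + 1)) k) N]
  [IsScalarTower k (MvPolynomial (Fin (n + 1)) k) N]
  {𝒩 : ℤ → Submodule k N} [DirectSum.Decomposition 𝒩]
  [SetLike.GradedSMul (GrSyz.stdGr k (Fin (n + 1))) 𝒩]

/-- Mumford's theorem: weak `d`-regularity together with `end H^0 ≤ d` is `d`-regularity. -/
theorem weak_iff_strong (E : StarInjRes (GrSyz.stdGr k (Fin (n + 1))) ℳ) (d : ℤ) :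
    (GrLC.endDeg (E.Hgr (GrSyz.irrel (GrSyz.stdGr k (Fin (n + 1)))) 0) ≤ c d ∧
      ∀ i : ℕ, 0 < i →
        E.Hcomp (GrSyz.irrel (GrSyz.stdGr k (Fin (n + 1)))) i (d - (i : ℤ) + 1) = ⊥) ↔
      ∀ (j : ℕ) (e : ℤ), d < e + j →
        E.Hcomp (GrSyz.irrel (GrSyz.stdGr k (Fin (n + 1)))) j e = ⊥ := by
  constructor
  · rintro ⟨h0, hw⟩ j e hje
    cases j with
    | zero =>
      rw [← Hgr_eq_bot_iff]
      exact (endDeg_le_iff _ _).mp h0 e (by simpa using hje)
    | succ j =>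
      rw [← Hcomp_toSRes_eq_bot_iff]
      have hvan : ∀ i : ℕ, 1 ≤ i → (toSRes E).Hcomp (irrS k n) i (d + 1 - i) = ⊥ := by
        intro i hi
        have h1 : d + 1 - (i : ℤ) = d - (i : ℤ) + 1 := by ring
        rw [h1]
        exact (Hcomp_toSRes_eq_bot_iff _ _ _ _).mpr (hw i hi)
      have := Hcomp_eq_bot_of_diagonal (irrS k n) (irrS_eq_span_one k n) (asGr ℳ) (toSRes E) d 1
        le_rfl hvan (j + 1) (by omega) (e + ((j + 1 : ℕ) : ℤ)) hje
      rwa [add_sub_cancel_right] at this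
  · intro h
    refine ⟨(endDeg_le_iff _ _).mpr fun e he => ?_, fun i _ => h i _ (by omega)⟩
    rw [Hgr_eq_bot_iff]
    exact h 0 e (by simpa using he)

/-- S15418: the terms of a minimal free resolution are generated in degrees `≤ d + i` iff the
module is `d`-regular in the weak sense. -/
theorem isGenLE_iff_weak [Module.Finite (MvPolynomial (Fin (n + 1)) k) M]
    (F : GrSyz.FreeRes (GrSyz.stdGr k (Fin (n + 1))) ℳ)
    (hF : F.IsMinimal (GrSyz.irrel (GrSyz.stdGr k (Fin (n + 1)))).toIdeal)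
    (E : StarInjRes (GrSyz.stdGr k (Fin (n + 1))) ℳ) (d : ℤ) :
    F.IsGenLE d ↔
      (GrLC.endDeg (E.Hgr (GrSyz.irrel (GrSyz.stdGr k (Fin (n + 1)))) 0) ≤ c d ∧
        ∀ i : ℕ, 0 < i →
          E.Hcomp (GrSyz.irrel (GrSyz.stdGr k (Fin (n + 1)))) i (d - (i : ℤ) + 1) = ⊥) := by
  rw [isGenLE_iff_forall_Hcomp F hF E d, weak_iff_strong]

/-- S15420. -/
theorem dRegular_iff_quot [Module.Finite (MvPolynomial (Fin (n + 1)) k) M]
    {x : MvPolynomial (Fin (n + 1)) k} (hx : x ∈ GrSyz.stdGr k (Fin (n + 1)) 1)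
    (hq : IsFiniteLength (MvPolynomial (Fin (n + 1)) k)
      ↥(Submodule.torsionBy (MvPolynomial (Fin (n + 1)) k) M x))
    {π : M →ₗ[MvPolynomial (Fin (n + 1)) k] N} (hπ : Function.Surjective π)
    (hπg : GrLC.IsGrHom ℳ 𝒩 π)
    (hker : LinearMap.ker π =
      LinearMap.range (x • (LinearMap.id : M →ₗ[MvPolynomial (Fin (n + 1)) k] M)))
    (E : StarInjRes (GrSyz.stdGr k (Fin (n + 1))) ℳ)
    (E' : StarInjRes (GrSyz.stdGr k (Fin (n + 1))) 𝒩) (d : ℤ) :
    (GrLC.endDeg (E.Hgr (GrSyz.irrel (GrSyz.stdGr k (Fin (n + 1)))) 0) ≤ c d ∧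
        ∀ i : ℕ, 0 < i →
          E.Hcomp (GrSyz.irrel (GrSyz.stdGr k (Fin (n + 1)))) i (d - (i : ℤ) + 1) = ⊥) ↔
      ((GrLC.endDeg (E'.Hgr (GrSyz.irrel (GrSyz.stdGr k (Fin (n + 1)))) 0) ≤ c d ∧
          ∀ i : ℕ, 0 < i →
            E'.Hcomp (GrSyz.irrel (GrSyz.stdGr k (Fin (n + 1)))) i (d - (i : ℤ) + 1) = ⊥) ∧
        GrLC.endDeg (E.Hgr (GrSyz.irrel (GrSyz.stdGr k (Fin (n + 1)))) 0) ≤ c d) := by
  rw [weak_iff_strong, weak_iff_strong, forall_Hcomp_iff_of_quot hx hq hπ hπg hker E E' d,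
    endDeg_le_iff, and_comm]
  refine and_congr_right fun _ => ?_
  refine forall_congr' fun e => ?_
  rw [Hgr_eq_bot_iff]

end Groth.Agent.Lib.GrLCReg
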