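import Mathlib

set_option autoImplicit false
set_option linter.unusedSectionVars false

universe u

namespace Groth.Agent.Lib.GrLenCompat

/-- Lengths agree across an additive equivalence intertwining the scalar actions up to
"same image in the endomorphism ring". -/
theorem length_eq_of_addEquiv {A k X Y : Type*} [Ring A] [Ring k] [AddCommGroup X] [Module A X]
    [AddCommGroup Y] [Module k Y] (f : Y ≃+ X)
    (h1 : ∀ c : k, ∃ a : A, ∀ y, f (c • y) = a • f y)
    (h2 : ∀ a : A, ∃ c : k, ∀ y, a • f y = f (c • y)) :
    Module.length A X = Module.length k Y := by
  let F : Submodule k Y ≃o Submodule A X :=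
    { toFun := fun P =>
        { carrier := f '' P
          add_mem' := by
            rintro _ _ ⟨x, hx, rfl⟩ ⟨y, hy, rfl⟩
            exact ⟨x + y, P.add_mem hx hy, map_add f x y⟩
          zero_mem' := ⟨0, P.zero_mem, map_zero f⟩
          smul_mem' := by
            rintro a _ ⟨x, hx, rfl⟩
            obtain ⟨c, hc⟩ := h2 a
            exact ⟨c • x, P.smul_mem c hx, (hc x).symm⟩ }
      invFun := fun Q =>
        { carrier := f ⁻¹' Q
          add_mem' := by
            intro x y hx hy
            show f (x + y) ∈ Q
            rw [map_add]; exact Q.add_mem hx hy
          zero_mem' := by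
            show f 0 ∈ Q
            rw [map_zero]; exact Q.zero_mem
          smul_mem' := by
            intro c x hx
            obtain ⟨a, ha⟩ := h1 c
            show f (c • x) ∈ Q
            rw [ha]; exact Q.smul_mem a hx }
      left_inv := by
        intro P
        ext x
        constructor
        · rintro ⟨y, hy, hxy⟩
          rw [← f.injective hxy]; exact hy
        · intro hx
          exact ⟨x, hx, rfl⟩
      right_inv := by
        intro Q
        ext x
        constructor
        · rintro ⟨y, hy, rfl⟩
          exact hy
        · intro hx
          exact ⟨f.symm x, by show f (f.symm x) ∈ Q; rw [f.apply_symm_apply]; exact hx,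
            f.apply_symm_apply x⟩
      map_rel_iff' := by
        intro P P'
        constructor
        · intro h x hx
          obtain ⟨y, hy, hxy⟩ := h ⟨x, hx, rfl⟩
          rw [← f.injective hxy]; exact hy
        · rintro h _ ⟨x, hx, rfl⟩
          exact ⟨x, h hx, rfl⟩ }
  apply WithBot.coe_injective
  rw [Module.coe_length, Module.coe_length, Order.krullDim_eq_of_orderIso F]

end Groth.Agent.Lib.GrLenCompat
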