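import Mathlib
import Groth.Agent.Lib.GrTorsLoc
import Groth.Agent.Lib.LocCohLocalization
import Groth.Agent.Lib.H29LocCohReg
import Groth.Agent.S0318

set_option autoImplicit false
set_option linter.unusedSectionVars false
set_option linter.style.haveILetI false

universe u

namespace Groth.Agent.Lib.GrLocCM

open IsLocalRing Groth.Agent.Lib.LocCohLocalization Groth.Agent.Lib.GrTorsLoc

variable {R : Type u} [CommRing R] [IsNoetherianRing R] (p : Ideal R) [hp : p.IsMaximal]

/-- `H^i_p(R)_p ≃ H^i_{max}(R_p)`. -/
theorem nonempty_locH_equiv (i : ℕ) :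
    Nonempty (LocalizedModule p.primeCompl (LocCoh.H p i R) ≃ₗ[Localization.AtPrime p]
      LocCoh.H (maximalIdeal (Localization.AtPrime p)) i (Localization.AtPrime p)) := by
  rw [← Localization.AtPrime.map_eq_maximalIdeal]
  let e3 := localizedEquiv p p.primeCompl R i
  let e4 : LocalizedModule p.primeCompl R ≃ₗ[Localization p.primeCompl]
      Localization p.primeCompl :=
    LinearEquiv.extendScalarsOfIsLocalization p.primeCompl (Localization p.primeCompl)
      (IsLocalizedModule.iso p.primeCompl (Algebra.linearMap R (Localization p.primeCompl)))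
  exact ⟨e3.trans (Hcongr _ e4 i)⟩

/-- `H^i_p(R) ≃ H^i_{max}(R_p)` as sets, for `p` maximal. -/
theorem nonempty_H_equiv_locH (i : ℕ) :
    Nonempty (LocCoh.H p i R ≃
      LocCoh.H (maximalIdeal (Localization.AtPrime p)) i (Localization.AtPrime p)) := by
  obtain ⟨e2⟩ := nonempty_locH_equiv p i
  have htH := Groth.Agent.Lib.H29LocCohReg.isPowerTorsion_H p R i
  exact ⟨(torsLocEquiv p htH).toEquiv.trans e2.toEquiv⟩

/-- Cohen–Macaulayness of `R_p` from vanishing of local cohomology of `R` at the maximal ideal
`p`. -/
theorem isCohenMacaulayLocalRing_loc (n : ℕ)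
    (hdim : ringKrullDim (Localization.AtPrime p) = n)
    (hlow : ∀ i < n, Subsingleton (LocCoh.H p i R)) (htop : Nontrivial (LocCoh.H p n R)) :
    LocCoh.IsCohenMacaulayLocalRing (Localization.AtPrime p) := by
  have hIM : maximalIdeal (Localization.AtPrime p) • (⊤ : Submodule (Localization.AtPrime p)
      (Localization.AtPrime p)) ≠ ⊤ := by
    rw [Ideal.smul_top_eq_map]
    simp only [Algebra.algebraMap_self, Ideal.map_id]
    intro h
    have h1 : (1 : Localization.AtPrime p) ∈ maximalIdeal (Localization.AtPrime p) := by
      have : (1 : Localization.AtPrime p) ∈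
          (Submodule.restrictScalars (Localization.AtPrime p)
            (maximalIdeal (Localization.AtPrime p))) := by
        rw [h]; trivial
      exact this
    exact (Ideal.ne_top_iff_one _).mp (Ideal.IsPrime.ne_top inferInstance) h1
  have hd : LocCoh.idealDepth (maximalIdeal (Localization.AtPrime p)) (Localization.AtPrime p) = n := by
    rw [Groth.Agent.S0318.result (Localization.AtPrime p) (maximalIdeal (Localization.AtPrime p))
      (Localization.AtPrime p) hIM n]
    refine ⟨fun i hi => ?_, ?_⟩
    · obtain ⟨e⟩ := nonempty_H_equiv_locH p i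
      haveI := hlow i hi
      exact e.symm.subsingleton
    · obtain ⟨e⟩ := nonempty_H_equiv_locH p n
      exact e.symm.nontrivial
  refine { supportDim_eq_depth := ?_ }
  rw [Module.supportDim_self_eq_ringKrullDim, hdim]
  unfold LocCoh.depth
  rw [hd]
  rfl

/-- Vanishing of local cohomology below the dimension when `R_p` is Cohen–Macaulay. -/
theorem subsingleton_H_of_cm (n : ℕ) (hdim : ringKrullDim (Localization.AtPrime p) = n)
    [LocCoh.IsCohenMacaulayLocalRing (Localization.AtPrime p)] (i : ℕ) (hi : i < n) :
    Subsingleton (LocCoh.H p i R) := by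
  have hIM : maximalIdeal (Localization.AtPrime p) • (⊤ : Submodule (Localization.AtPrime p)
      (Localization.AtPrime p)) ≠ ⊤ := by
    rw [Ideal.smul_top_eq_map]
    simp only [Algebra.algebraMap_self, Ideal.map_id]
    intro h
    have h1 : (1 : Localization.AtPrime p) ∈ maximalIdeal (Localization.AtPrime p) := by
      have : (1 : Localization.AtPrime p) ∈
          (Submodule.restrictScalars (Localization.AtPrime p)
            (maximalIdeal (Localization.AtPrime p))) := by
        rw [h]; trivial
      exact this
    exact (Ideal.ne_top_iff_one _).mp (Ideal.IsPrime.ne_top inferInstance) h1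
  have h := LocCoh.IsCohenMacaulayLocalRing.supportDim_eq_depth (R := Localization.AtPrime p)
  rw [Module.supportDim_self_eq_ringKrullDim, hdim] at h
  have h' : ((n : ℕ∞) : WithBot ℕ∞) =
      ((LocCoh.depth (Localization.AtPrime p) (Localization.AtPrime p) : ℕ∞) : WithBot ℕ∞) := by
    exact_mod_cast h
  have hd : LocCoh.idealDepth (maximalIdeal (Localization.AtPrime p)) (Localization.AtPrime p) = n :=
    (WithBot.coe_injective h').symm
  rw [Groth.Agent.S0318.result (Localization.AtPrime p) (maximalIdeal (Localization.AtPrime p))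
      (Localization.AtPrime p) hIM n] at hd
  obtain ⟨e⟩ := nonempty_H_equiv_locH p i
  haveI := hd.1 i hi
  exact e.subsingleton

end Groth.Agent.Lib.GrLocCM
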