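/-
helper81: Gr_n base change with flat graded pieces, ring level: grQ / grIncl / quotProj, flat_quot_pow (B/I^n flat over A
if the I^k/I^(k+1), k<n, are), isBaseChange_idealMapLin_of_flat_quot (B/J flat over A, B' = A'⊗_A B ⇒ J B' = B'⊗_B J),
flat_quot_smul_of_isBaseChange (J/IJ is A-flat when A⊗_B J is, A = B/I through a retraction).
-/
import Groth.Agent.Lib.GrMod81D
import Groth.Agent.Lib.RelCartier

set_option autoImplicit false
set_option linter.style.haveILetI false
set_option linter.unusedSectionVars false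
universe u

open TensorProduct

namespace Groth.Agent.Lib.GrMod81

section flatQuot

variable {A B : Type*} [CommRing A] [CommRing B] [Algebra A B] (I : Ideal B)

/-- `I^n / I·I^n` as a `B`-module -/
abbrev grQ (n : ℕ) : Type _ := ↥(I ^ n) ⧸ (I • ⊤ : Submodule B ↥(I ^ n))

/-- the inclusion `I^n/I^(n+1) → B/I^(n+1)` -/
noncomputable def grIncl (n : ℕ) : grQ I n →ₗ[B] B ⧸ I ^ (n + 1) :=
  Submodule.liftQ _ ((I ^ (n + 1)).mkQ ∘ₗ (I ^ n).subtype) (by
    intro x hx
    rw [LinearMap.mem_ker, LinearMap.comp_apply, Submodule.mkQ_apply,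
      Submodule.Quotient.mk_eq_zero]
    have h := (Submodule.mem_smul_top_iff I (I ^ n) x).mp hx
    rw [smul_eq_mul, ← pow_succ'] at h
    exact h)

theorem grIncl_mk (n : ℕ) (x : ↥(I ^ n)) :
    grIncl I n (Submodule.Quotient.mk x) = Ideal.Quotient.mk (I ^ (n + 1)) (x : B) := rfl

theorem grIncl_injective (n : ℕ) : Function.Injective (grIncl I n) := by
  rw [← LinearMap.ker_eq_bot, LinearMap.ker_eq_bot']
  intro y hy
  obtain ⟨x, rfl⟩ := Submodule.Quotient.mk_surjective _ y
  rw [grIncl_mk, Ideal.Quotient.eq_zero_iff_mem, pow_succ', ← smul_eq_mul] at hy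
  exact (Submodule.Quotient.mk_eq_zero _).mpr ((Submodule.mem_smul_top_iff I (I ^ n) x).mpr hy)

/-- the projection `B/I^(n+1) → B/I^n` -/
noncomputable def quotProj (n : ℕ) : (B ⧸ I ^ (n + 1)) →ₗ[B] B ⧸ I ^ n :=
  Submodule.mapQ (I ^ (n + 1)) (I ^ n) LinearMap.id (Ideal.pow_le_pow_right (Nat.le_succ n))

theorem quotProj_mk (n : ℕ) (b : B) :
    quotProj I n (Ideal.Quotient.mk (I ^ (n + 1)) b) = Ideal.Quotient.mk (I ^ n) b := rfl

theorem quotProj_surjective (n : ℕ) : Function.Surjective (quotProj I n) := by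
  intro y
  obtain ⟨b, rfl⟩ := Ideal.Quotient.mk_surjective y
  exact ⟨Ideal.Quotient.mk _ b, rfl⟩

theorem exact_grIncl_quotProj (n : ℕ) : Function.Exact (grIncl I n) (quotProj I n) := by
  intro y
  obtain ⟨b, rfl⟩ := Ideal.Quotient.mk_surjective y
  rw [quotProj_mk, Ideal.Quotient.eq_zero_iff_mem]
  constructor
  · intro hb
    exact ⟨Submodule.Quotient.mk ⟨b, hb⟩, rfl⟩
  · rintro ⟨z, hz⟩
    obtain ⟨x, rfl⟩ := Submodule.Quotient.mk_surjective _ z
    rw [grIncl_mk, Ideal.Quotient.eq] at hz
    have h1 : b = (x : B) - ((x : B) - b) := by ring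
    rw [h1]
    exact Ideal.sub_mem _ x.2 (Ideal.pow_le_pow_right (Nat.le_succ n) hz)

/-- if the graded pieces `I^k/I^(k+1)`, `k < n`, are flat over `A`, so is `B/I^n` -/
theorem flat_quot_pow (n : ℕ) (h : ∀ k < n, Module.Flat A (grQ I k)) :
    Module.Flat A (B ⧸ I ^ n) := by
  induction n with
  | zero =>
    haveI : Subsingleton (B ⧸ I ^ 0) := by
      rw [pow_zero, Ideal.one_eq_top]
      exact Ideal.Quotient.subsingleton_iff.mpr rfl
    haveI : Module.Free A (B ⧸ I ^ 0) := Module.Free.of_subsingleton A _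
    infer_instance
  | succ n ih =>
    haveI : Module.Flat A (grQ I n) := h n (Nat.lt_succ_self n)
    haveI : Module.Flat A (B ⧸ I ^ n) := ih (fun k hk => h k (Nat.lt_succ_of_lt hk))
    exact Groth.Agent.Lib.RelCartier.flat_of_exact_left_right
      ((grIncl I n).restrictScalars A) ((quotProj I n).restrictScalars A)
      (grIncl_injective I n) (quotProj_surjective I n) (exact_grIncl_quotProj I n)

end flatQuot

section injL

variable {A B B' : Type*} [CommRing A] [CommRing B] [CommRing B']
  [Algebra A B] [Algebra B B'] [Algebra A B'] [IsScalarTower A B B']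
  (J : Ideal B) (J' : Ideal B') (hJ : J' = J.map (algebraMap B B'))

/-- if `B/J` is flat over `A` and `B' = A' ⊗_A B`, then `J' = J B'` is the base change of `J` -/
theorem isBaseChange_idealMapLin_of_flat_quot (A' : Type*) [CommRing A'] [Algebra A A']
    [Algebra A' B'] [IsScalarTower A A' B'] [Algebra.IsPushout A A' B B']
    [Module.Flat A (B ⧸ J)] :
    IsBaseChange B' (idealMapLin J J' hJ.ge) := by
  apply isBaseChange_idealMapLin_of_injective _ _ hJ
  set L : B' ⊗[B] J →ₗ[B'] J' := (idealMapLin J J' hJ.ge).liftBaseChange B' with hLdef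
  have hL : ∀ (b' : B') (x : J), ((L (b' ⊗ₜ x) : J') : B') = b' * algebraMap B B' x := by
    intro b' x
    rw [hLdef, LinearMap.liftBaseChange_tmul]
    rfl
  let ψ := (Algebra.IsPushout.cancelBaseChange A A' B B' J).symm
  let ι : A' ⊗[A] J →ₗ[A] A' ⊗[A] B := (J.subtype.restrictScalars A).lTensor A'
  have hι : Function.Injective ι :=
    LinearMap.lTensor_injective_of_exact_of_flat (J.mkQ.restrictScalars A)
      (Submodule.mkQ_surjective J) (J.subtype.restrictScalars A) (Submodule.subtype_injective J)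
      (LinearMap.exact_subtype_mkQ J) A'
  let e := Algebra.IsPushout.equiv A A' B B'
  have hcomm : ∀ t : A' ⊗[A] J, ((L (ψ t) : J') : B') = e (ι t) := by
    intro t
    induction t using TensorProduct.induction_on with
    | zero => simp
    | tmul a' x =>
      change ((L ((Algebra.IsPushout.cancelBaseChange A A' B B' J).symm (a' ⊗ₜ x)) : J') : B') =
        e (a' ⊗ₜ (x : B))
      rw [Algebra.IsPushout.cancelBaseChange_symm_tmul, hL, Algebra.IsPushout.equiv_tmul]
    | add t₁ t₂ h₁ h₂ => rw [map_add, map_add, Submodule.coe_add, h₁, h₂, map_add, map_add]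
  intro t₁ t₂ h
  obtain ⟨s₁, rfl⟩ := ψ.surjective t₁
  obtain ⟨s₂, rfl⟩ := ψ.surjective t₂
  have h2 : e (ι s₁) = e (ι s₂) := by rw [← hcomm, ← hcomm, h]
  rw [hι (e.injective h2)]

end injL

section flatBridge

variable {A B : Type*} [CommRing A] [CommRing B] [Algebra A B] [Algebra B A]
  (hρ : ∀ a : A, algebraMap B A (algebraMap A B a) = a)
  (J : Ideal B) {G : Type*} [AddCommGroup G] [Module B G] [Module A G] [IsScalarTower B A G]
  (θ : J →ₗ[B] G) (hθ : IsBaseChange A θ)

include hρ hθ in
/-- if `G = A ⊗_B J` is `A`-flat (`A = B/I` through a retraction `B → A` of `A → B`), then `J / I J` is `A`-flat for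
the `A`-structure through `A → B` -/
theorem flat_quot_smul_of_isBaseChange [Module.Flat A G] :
    Module.Flat A (↥J ⧸ (RingHom.ker (algebraMap B A) • ⊤ : Submodule B ↥J)) := by
  have hsurj : Function.Surjective (algebraMap B A) := fun a => ⟨algebraMap A B a, hρ a⟩
  -- `A ≃ B ⧸ I` as `B`-modules
  let κ : (B ⧸ RingHom.ker (algebraMap B A)) ≃ₗ[B] A :=
    { (RingHom.quotientKerEquivOfSurjective hsurj).toAddEquiv with
      map_smul' := fun b x => by
        obtain ⟨c, rfl⟩ := Ideal.Quotient.mk_surjective x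
        change algebraMap B A (b • c) = b • algebraMap B A c
        rw [smul_eq_mul, map_mul, Algebra.smul_def] }
  let E : (↥J ⧸ (RingHom.ker (algebraMap B A) • ⊤ : Submodule B ↥J)) ≃ₗ[B] G :=
    (TensorProduct.quotTensorEquivQuotSMul (↥J) (RingHom.ker (algebraMap B A))).symm ≪≫ₗ
      TensorProduct.congr κ (LinearEquiv.refl B ↥J) ≪≫ₗ (hθ.equiv.restrictScalars B)
  let E' : (↥J ⧸ (RingHom.ker (algebraMap B A) • ⊤ : Submodule B ↥J)) ≃ₗ[A] G :=
    { E.toAddEquiv with
      map_smul' := fun a x => by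
        change E (a • x) = a • E x
        have h1 : a • x = algebraMap A B a • x := (algebraMap_smul B a x).symm
        have h2 : a • E x = algebraMap A B a • E x := by
          rw [← algebraMap_smul A (algebraMap A B a) (E x), hρ]
        rw [h1, h2, map_smul] }
  exact Module.Flat.of_linearEquiv E'

end flatBridge

end Groth.Agent.Lib.GrMod81
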