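import Groth.Agent.Lib.RelTildeVal

/-!
# Exactness and surjectivity for the modules `(ℳ(n))~` on a relative Proj, valuewise (helper28)

* `epi_of_locally_surjective'`, `exact_of_locally`: local criteria for epimorphisms / exactness of `O_X`-modules, on sections.
* `map_decompose`: a degree-preserving additive map commutes with homogeneous components.
* `exists_emb_eq`, `res_eq_zero_of_val`, `exists_lift_of_frac`: local lifting of sections through `ut`.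
* `epi_of_TN_surjective`: a (TN)-surjective `u` induces an epimorphism.
* `exact_of_exact`: exactness of `ℳ ↦ (ℳ(n))~`.
-/

set_option autoImplicit false
universe u

open CategoryTheory CategoryTheory.Limits AlgebraicGeometry Opposite TopologicalSpace
open scoped HomogeneousIdeal

noncomputable section

namespace Groth.Agent.Lib.RelTildeVal2

open Groth.Agent.Lib.RelTildeGlue Groth.Agent.Lib.GrModVal Groth.Agent.Lib.RelTildeVal

section general

variable {X : Scheme.{u}}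

/-- A morphism of `O_X`-modules which is locally surjective on sections is an epimorphism. -/
theorem epi_of_locally_surjective' {M N : X.Modules} (φ : M ⟶ N)
    (h : ∀ (U : X.Opens) (s : Γ(N, U)) (x : X), x ∈ U → ∃ (V : X.Opens) (hVU : V ≤ U), x ∈ V ∧
        ∃ t : Γ(M, V), φ.app V t = N.presheaf.map (homOfLE hVU).op s) : Epi φ :=
  IdealMod.epi_of_locally_surjective φ fun U s x hx => h U s x hx

/-- A short complex of `O_X`-modules is exact as soon as every section killed by `g` is locally in the image of `f`. -/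
theorem exact_of_locally (S : ShortComplex X.Modules)
    (h : ∀ (U : X.Opens) (s : Γ(S.X₂, U)), S.g.app U s = 0 → ∀ x : X, x ∈ U →
      ∃ (V : X.Opens) (hVU : V ≤ U), x ∈ V ∧
        ∃ t : Γ(S.X₁, V), S.f.app V t = S.X₂.presheaf.map (homOfLE hVU).op s) : S.Exact := by
  rw [S.exact_iff_epi_kernel_lift]
  refine epi_of_locally_surjective' _ fun U k x hx => ?_
  have hs : S.g.app U ((kernel.ι S.g).app U k) = 0 :=
    congrArg (fun f => (Scheme.Modules.Hom.app f U) k) (kernel.condition S.g)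
  obtain ⟨V, hVU, hxV, t, ht⟩ := h U _ hs x hx
  refine ⟨V, hVU, hxV, t, ?_⟩
  apply (IdealMod.kernel_sections S.g V).1
  change (kernel.ι S.g).app V ((kernel.lift S.g S.f S.zero).app V t) =
    (kernel.ι S.g).app V ((kernel S.g).presheaf.map (homOfLE hVU).op k)
  rw [RelGlueHom.app_res, ← ht]
  exact congrArg (fun f => (Scheme.Modules.Hom.app f V) t) (kernel.lift_ι S.g S.f S.zero)

theorem image_le_of_le_preimage {Z : Scheme.{u}} (f : X ⟶ Z) [IsOpenImmersion f] {V : X.Opens} {W : Z.Opens}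
    (h : V ≤ f ⁻¹ᵁ W) : f ''ᵁ V ≤ W := by
  rintro _ ⟨z, hz, rfl⟩
  exact h hz

end general

section ring

variable {M τ : Type u} [AddCommGroup M] [SetLike τ M] [AddSubgroupClass τ M] {ℳ : ℕ → τ}
  [DirectSum.Decomposition ℳ]
variable {N τ' : Type u} [AddCommGroup N] [SetLike τ' N] [AddSubgroupClass τ' N] {𝒩 : ℕ → τ'}
  [DirectSum.Decomposition 𝒩]

/-- A degree-preserving additive map commutes with taking homogeneous components. -/
theorem map_decompose (u : M →+ N) (hu : ∀ (i : ℕ) (m : M), m ∈ ℳ i → u m ∈ 𝒩 i) (a : M) (d : ℕ) :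
    u (DirectSum.decompose ℳ a d : M) = (DirectSum.decompose 𝒩 (u a) d : N) := by
  classical
  induction a using DirectSum.Decomposition.inductionOn ℳ with
  | zero => simp
  | @homogeneous d' a =>
    by_cases hd : d' = d
    · subst hd
      rw [DirectSum.decompose_of_mem_same ℳ a.2, DirectSum.decompose_of_mem_same 𝒩 (hu _ _ a.2)]
    · rw [DirectSum.decompose_of_mem_ne ℳ a.2 hd, DirectSum.decompose_of_mem_ne 𝒩 (hu _ _ a.2) hd, map_zero]
  | add a a' ha ha' =>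
    rw [DirectSum.decompose_add, DirectSum.add_apply, AddMemClass.coe_add, map_add, map_add, ha, ha',
      DirectSum.decompose_add, DirectSum.add_apply, AddMemClass.coe_add]

end ring

variable {Y P : Scheme.{u}} {𝒮 : RelProj.QCGrAlg Y} {p : P ⟶ Y}
  {chart : ∀ (U : Y.Opens) (hU : IsAffineOpen U), (((p ⁻¹ᵁ U : P.Opens) : Scheme.{u}) ≅ Proj (𝒮.deg U hU))}

/-- Every point of `p⁻¹(U)` is in the image of the chart immersion. -/
theorem exists_emb_eq (U : Y.Opens) (hU : IsAffineOpen U) {x : P} (hx : x ∈ p ⁻¹ᵁ U) :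
    ∃ y : Proj (𝒮.deg U hU), (RelProj.emb p chart U hU).base y = x := by
  refine ⟨(chart U hU).hom.base ⟨x, hx⟩, ?_⟩
  have e : (RelProj.emb p chart U hU).base ((chart U hU).hom.base ⟨x, hx⟩) =
      (p ⁻¹ᵁ U).ι.base (((chart U hU).hom ≫ (chart U hU).inv).base ⟨x, hx⟩) := rfl
  rw [e, Iso.hom_inv_id]
  rfl

theorem image_emb_le (U : Y.Opens) (hU : IsAffineOpen U) (V : (Proj (𝒮.deg U hU)).Opens) :
    RelProj.emb p chart U hU ''ᵁ V ≤ p ⁻¹ᵁ U := by
  rintro _ ⟨z, -, rfl⟩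
  exact emb_mem U hU z

/-- A section whose chart values vanish on `V''` restricts to zero on the image of `V''`. -/
theorem res_eq_zero_of_val {𝒩 : RelProj.GrModule 𝒮} (n : ℤ) {G : P.Modules}
    {lam' : ∀ (U : Y.Opens) (hU : IsAffineOpen U),
      G ⟶ (Scheme.Modules.pushforward (RelProj.emb p chart U hU)).obj (GrMod.tilde (𝒮.deg U hU) (𝒩.deg U hU) n)}
    (hG : RelProj.IsRelTilde 𝒮 p chart 𝒩 n G lam') (U : Y.Opens) (hU : IsAffineOpen U) (W : P.Opens) (s' : Γ(G, W))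
    (V'' : (Proj (𝒮.deg U hU)).Opens) (hV'' : V'' ≤ RelProj.emb p chart U hU ⁻¹ᵁ W)
    (hval : ∀ z : V'', GrMod.val (V := RelProj.emb p chart U hU ⁻¹ᵁ W) ((lam' U hU).app W s') ⟨z.1, hV'' z.2⟩ = 0) :
    G.presheaf.map (homOfLE (image_le_of_le_preimage _ hV'')).op s' = 0 := by
  apply (hG.bijective U hU _ (image_emb_le U hU V'')).1
  rw [map_zero, RelGlueHom.app_res]
  refine eq_zero_of_val (V := RelProj.emb p chart U hU ⁻¹ᵁ (RelProj.emb p chart U hU ''ᵁ V'')) _ fun z => ?_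
  exact hval ⟨z.1, (Scheme.Hom.preimage_image_eq _ V'').le z.2⟩

/-- Local lifting through `ut` of a section whose chart values are one fraction with numerator in the image of `u`. -/
theorem exists_lift_of_frac {ℳ 𝒩 : RelProj.GrModule 𝒮} (u : ℳ.mod ⟶ 𝒩.mod) (hu : RelProj.IsGrModHom u) (n : ℤ)
    {F G : P.Modules}
    {lam : ∀ (U : Y.Opens) (hU : IsAffineOpen U),
      F ⟶ (Scheme.Modules.pushforward (RelProj.emb p chart U hU)).obj (GrMod.tilde (𝒮.deg U hU) (ℳ.deg U hU) n)}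
    (hF : RelProj.IsRelTilde 𝒮 p chart ℳ n F lam)
    {lam' : ∀ (U : Y.Opens) (hU : IsAffineOpen U),
      G ⟶ (Scheme.Modules.pushforward (RelProj.emb p chart U hU)).obj (GrMod.tilde (𝒮.deg U hU) (𝒩.deg U hU) n)}
    (hG : RelProj.IsRelTilde 𝒮 p chart 𝒩 n G lam') (ut : F ⟶ G)
    (hut : ∀ (U : Y.Opens) (hU : IsAffineOpen U),
      ut ≫ lam' U hU = lam U hU ≫ tmap (p := p) (chart := chart) u hu n U hU)
    (U : Y.Opens) (hU : IsAffineOpen U) (W : P.Opens) (s' : Γ(G, W))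
    (V'' : (Proj (𝒮.deg U hU)).Opens) (hV'' : V'' ≤ RelProj.emb p chart U hU ⁻¹ᵁ W)
    {i₁ j₁ : ℕ} (m₁ : ℳ.deg U hU i₁) (f₁ : 𝒮.deg U hU j₁) (hij : (i₁ : ℤ) = j₁ + n)
    (hf₁ : ∀ z : V'', (f₁ : 𝒮.presheaf.obj (op U)) ∉ z.1.asHomogeneousIdeal)
    (hval : ∀ z : V'', GrMod.val (V := RelProj.emb p chart U hU ⁻¹ᵁ W) ((lam' U hU).app W s') ⟨z.1, hV'' z.2⟩ =
      LocalizedModule.mk (linAt u U (m₁ : ℳ.mod.val.obj (op U))) ⟨(f₁ : 𝒮.presheaf.obj (op U)), hf₁ z⟩) :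
    ∃ t : Γ(F, RelProj.emb p chart U hU ''ᵁ V''),
      ut.app _ t = G.presheaf.map (homOfLE (image_le_of_le_preimage _ hV'')).op s' := by
  set W'' : P.Opens := RelProj.emb p chart U hU ''ᵁ V'' with hW''
  have hW''U : W'' ≤ p ⁻¹ᵁ U := image_emb_le U hU V''
  have hpre : ∀ z : (RelProj.emb p chart U hU ⁻¹ᵁ W'' : (Proj (𝒮.deg U hU)).Opens), z.1 ∈ V'' :=
    fun z => (Scheme.Hom.preimage_image_eq _ V'').le z.2
  let τ : Γ(GrMod.tilde (𝒮.deg U hU) (ℳ.deg U hU) n, RelProj.emb p chart U hU ⁻¹ᵁ W'') :=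
    fracSec n m₁ f₁ hij (RelProj.emb p chart U hU ⁻¹ᵁ W'') (fun z => hf₁ ⟨z.1, hpre z⟩)
  obtain ⟨t, ht⟩ := (hF.bijective U hU W'' hW''U).2 τ
  refine ⟨t, ?_⟩
  apply (hG.bijective U hU W'' hW''U).1
  have h1 : (lam' U hU).app W'' (ut.app W'' t) =
      (tmap (p := p) (chart := chart) u hu n U hU).app W'' ((lam U hU).app W'' t) :=
    congrArg (fun f => (Scheme.Modules.Hom.app f W'') t) (hut U hU)
  rw [h1, ht, RelGlueHom.app_res]
  refine GrModVal.sec_ext (V := RelProj.emb p chart U hU ⁻¹ᵁ W'') _ _ fun z => ?_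
  rw [tmap_app_val]
  refine Eq.trans ?_ (hval ⟨z.1, hpre z⟩).symm
  exact GrMod.locMap_mk _ _ _ _

/-- A (TN)-surjective degree-preserving `u : ℳ ⟶ 𝒩` induces an epimorphism `(ℳ(n))~ ⟶ (𝒩(n))~`. -/
theorem epi_of_TN_surjective {ℳ 𝒩 : RelProj.GrModule 𝒮} (u : ℳ.mod ⟶ 𝒩.mod) (hu : RelProj.IsGrModHom u)
    (hsurj : ∃ n₀ : ℕ, ∀ (U : Y.Opens) (hU : IsAffineOpen U) (k : ℕ), n₀ ≤ k →
      ∀ m' ∈ 𝒩.deg U hU k, ∃ m ∈ ℳ.deg U hU k, (u.val.app (op U)).hom m = m')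
    (n : ℤ) {F G : P.Modules}
    {lam : ∀ (U : Y.Opens) (hU : IsAffineOpen U),
      F ⟶ (Scheme.Modules.pushforward (RelProj.emb p chart U hU)).obj (GrMod.tilde (𝒮.deg U hU) (ℳ.deg U hU) n)}
    (hF : RelProj.IsRelTilde 𝒮 p chart ℳ n F lam)
    {lam' : ∀ (U : Y.Opens) (hU : IsAffineOpen U),
      G ⟶ (Scheme.Modules.pushforward (RelProj.emb p chart U hU)).obj (GrMod.tilde (𝒮.deg U hU) (𝒩.deg U hU) n)}
    (hG : RelProj.IsRelTilde 𝒮 p chart 𝒩 n G lam') (ut : F ⟶ G)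
    (hut : ∀ (U : Y.Opens) (hU : IsAffineOpen U),
      ut ≫ lam' U hU = lam U hU ≫ tmap (p := p) (chart := chart) u hu n U hU) : Epi ut := by
  obtain ⟨n₀, hn₀⟩ := hsurj
  refine epi_of_locally_surjective' ut fun W s' x hx => ?_
  obtain ⟨U, hU, hxU, -⟩ := exists_isAffineOpen_mem_and_subset (x := p.base x) (U := ⊤) trivial
  obtain ⟨y, rfl⟩ := exists_emb_eq (p := p) (chart := chart) U hU hxU
  obtain ⟨V', hyV', hV', i, j, m', f, hf, hij, hval⟩ :=
    exists_frac (V := RelProj.emb p chart U hU ⁻¹ᵁ W) ((lam' U hU).app W s') ⟨y, hx⟩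
  rcases hij with hij | hm0
  · obtain ⟨d, hd, h, hh⟩ := exists_pos_notMem (𝒜 := 𝒮.deg U hU) y
    have e2 : (h : 𝒮.presheaf.obj (op U)) ^ n₀ ∈ 𝒮.deg U hU (n₀ • d) := SetLike.pow_mem_graded n₀ h.2
    have e3 : (h : 𝒮.presheaf.obj (op U)) ^ n₀ • (m' : 𝒩.mod.val.obj (op U)) ∈ 𝒩.deg U hU (n₀ • d + i) :=
      SetLike.GradedSMul.smul_mem e2 m'.2
    have hdeg : n₀ ≤ n₀ • d + i := by
      have : n₀ ≤ n₀ * d := Nat.le_mul_of_pos_right n₀ hd
      simp only [smul_eq_mul]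
      omega
    obtain ⟨m, hm, hum⟩ := hn₀ U hU (n₀ • d + i) hdeg _ e3
    set V'' : (Proj (𝒮.deg U hU)).Opens := V' ⊓ Proj.basicOpen (𝒮.deg U hU) (h : 𝒮.presheaf.obj (op U)) with hV''def
    have hV'' : V'' ≤ RelProj.emb p chart U hU ⁻¹ᵁ W := inf_le_left.trans hV'
    have hf₁ : ∀ z : V'', (h : 𝒮.presheaf.obj (op U)) ^ n₀ * (f : 𝒮.presheaf.obj (op U)) ∉ z.1.asHomogeneousIdeal := by
      intro z hmem
      rcases z.1.isPrime.mem_or_mem hmem with h5 | h5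
      · exact (Proj.mem_basicOpen _ _ _).mp z.2.2 (z.1.isPrime.mem_of_pow_mem _ h5)
      · exact hf ⟨z.1, z.2.1⟩ h5
    obtain ⟨t, ht⟩ := exists_lift_of_frac u hu n hF hG ut hut U hU W s' V'' hV'' ⟨m, hm⟩
      ⟨(h : 𝒮.presheaf.obj (op U)) ^ n₀ * (f : 𝒮.presheaf.obj (op U)), SetLike.mul_mem_graded e2 f.2⟩
      (by push_cast; omega) hf₁ (fun z => by
        rw [hval ⟨z.1, z.2.1⟩]
        change _ = LocalizedModule.mk ((u.val.app (op U)).hom m) _
        rw [hum]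
        exact (LocalizedModule.mk_cancel_common_left
          (⟨(h : 𝒮.presheaf.obj (op U)) ^ n₀, fun h5 =>
            (Proj.mem_basicOpen _ _ _).mp z.2.2 (z.1.isPrime.mem_of_pow_mem _ h5)⟩ :
            z.1.asHomogeneousIdeal.toIdeal.primeCompl)
          ⟨(f : 𝒮.presheaf.obj (op U)), hf ⟨z.1, z.2.1⟩⟩ (m' : 𝒩.mod.val.obj (op U))).symm)
    exact ⟨_, image_le_of_le_preimage _ hV'', ⟨y, ⟨hyV', (Proj.mem_basicOpen _ _ _).mpr hh⟩, rfl⟩, t, ht⟩
  · have hz := res_eq_zero_of_val n hG U hU W s' V' hV' (fun z => by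
      rw [hval z, hm0, LocalizedModule.zero_mk])
    exact ⟨_, image_le_of_le_preimage _ hV', ⟨y, hyV', rfl⟩, 0, by rw [map_zero, hz]⟩

/-- Exactness of `ℳ ↦ (ℳ(n))~` on a relative Proj. -/
theorem exact_of_exact {ℳ₁ ℳ₂ ℳ₃ : RelProj.GrModule 𝒮} (u : ℳ₁.mod ⟶ ℳ₂.mod) (hu : RelProj.IsGrModHom u)
    (v : ℳ₂.mod ⟶ ℳ₃.mod) (hv : RelProj.IsGrModHom v)
    (hex : ∀ (U : Y.Opens) (_ : IsAffineOpen U), Function.Exact (u.val.app (op U)).hom (v.val.app (op U)).hom)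
    (n : ℤ) {F₁ F₂ F₃ : P.Modules}
    {lam₁ : ∀ (U : Y.Opens) (hU : IsAffineOpen U),
      F₁ ⟶ (Scheme.Modules.pushforward (RelProj.emb p chart U hU)).obj (GrMod.tilde (𝒮.deg U hU) (ℳ₁.deg U hU) n)}
    (hF₁ : RelProj.IsRelTilde 𝒮 p chart ℳ₁ n F₁ lam₁)
    {lam₂ : ∀ (U : Y.Opens) (hU : IsAffineOpen U),
      F₂ ⟶ (Scheme.Modules.pushforward (RelProj.emb p chart U hU)).obj (GrMod.tilde (𝒮.deg U hU) (ℳ₂.deg U hU) n)}
    (hF₂ : RelProj.IsRelTilde 𝒮 p chart ℳ₂ n F₂ lam₂)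
    {lam₃ : ∀ (U : Y.Opens) (hU : IsAffineOpen U),
      F₃ ⟶ (Scheme.Modules.pushforward (RelProj.emb p chart U hU)).obj (GrMod.tilde (𝒮.deg U hU) (ℳ₃.deg U hU) n)}
    (ut : F₁ ⟶ F₂)
    (hut : ∀ (U : Y.Opens) (hU : IsAffineOpen U),
      ut ≫ lam₂ U hU = lam₁ U hU ≫ tmap (p := p) (chart := chart) u hu n U hU)
    (vt : F₂ ⟶ F₃)
    (hvt : ∀ (U : Y.Opens) (hU : IsAffineOpen U),
      vt ≫ lam₃ U hU = lam₂ U hU ≫ tmap (p := p) (chart := chart) v hv n U hU)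
    (w : ut ≫ vt = 0) : (ShortComplex.mk ut vt w).Exact := by
  refine exact_of_locally _ fun W s hs x hx => ?_
  change vt.app W s = 0 at hs
  change ∃ (V : P.Opens) (hVU : V ≤ W), x ∈ V ∧ ∃ t : Γ(F₁, V), ut.app V t = F₂.presheaf.map (homOfLE hVU).op s
  obtain ⟨U, hU, hxU, -⟩ := exists_isAffineOpen_mem_and_subset (x := p.base x) (U := ⊤) trivial
  obtain ⟨y, rfl⟩ := exists_emb_eq (p := p) (chart := chart) U hU hxU
  obtain ⟨V', hyV', hV', i, j, m, f, hf, hij, hval⟩ :=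
    exists_frac (V := RelProj.emb p chart U hU ⁻¹ᵁ W) ((lam₂ U hU).app W s) ⟨y, hx⟩
  rcases hij with hij | hm0
  · have h1 : (tmap (p := p) (chart := chart) v hv n U hU).app W ((lam₂ U hU).app W s) = 0 := by
      have := congrArg (fun f => (Scheme.Modules.Hom.app f W) s) (hvt U hU)
      simp only [Scheme.Modules.Hom.comp_app] at this
      change (lam₃ U hU).app W (vt.app W s) = _ at this
      rw [hs, map_zero] at this
      exact this.symm
    have h2 := tmap_app_val (p := p) (chart := chart) v hv n U hU W ((lam₂ U hU).app W s) ⟨y, hx⟩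
    rw [h1] at h2
    have h3 := hval ⟨y, hyV'⟩
    change GrMod.val (V := RelProj.emb p chart U hU ⁻¹ᵁ W) ((lam₂ U hU).app W s) ⟨y, hx⟩ = _ at h3
    rw [h3, GrMod.locMap_mk] at h2
    have h4 : (LocalizedModule.mk (linAt v U (m : ℳ₂.mod.val.obj (op U)))
        ⟨(f : 𝒮.presheaf.obj (op U)), hf ⟨y, hyV'⟩⟩ :
        GrMod.LocMod (𝒮.deg U hU) (M := ℳ₃.mod.val.obj (op U)) y) = 0 := h2.symm.trans (val_zero _)
    obtain ⟨k, g, hg, hgm⟩ := (mk_eq_zero_iff_homog (ℳ := ℳ₃.deg U hU) y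
      (show linAt v U (m : ℳ₂.mod.val.obj (op U)) ∈ ℳ₃.deg U hU i from hv U hU i _ m.2) _).mp h4
    have h5 : linAt v U ((g : 𝒮.presheaf.obj (op U)) • (m : ℳ₂.mod.val.obj (op U))) = 0 := by
      rw [LinearMap.map_smul, hgm]
    obtain ⟨m₁, hm₁⟩ := (hex U hU _).mp h5
    have hgm2 : (g : 𝒮.presheaf.obj (op U)) • (m : ℳ₂.mod.val.obj (op U)) ∈ ℳ₂.deg U hU (k + i) :=
      SetLike.GradedSMul.smul_mem g.2 m.2
    have hum₁ : linAt u U (DirectSum.decompose (ℳ₁.deg U hU) m₁ (k + i) : ℳ₁.mod.val.obj (op U)) =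
        (g : 𝒮.presheaf.obj (op U)) • (m : ℳ₂.mod.val.obj (op U)) := by
      have e := map_decompose (ℳ := ℳ₁.deg U hU) (𝒩 := ℳ₂.deg U hU) (linAt u U).toAddMonoidHom (hu U hU) m₁ (k + i)
      change linAt u U _ = (DirectSum.decompose (ℳ₂.deg U hU) (linAt u U m₁) (k + i) : ℳ₂.mod.val.obj (op U)) at e
      rw [e]
      change (DirectSum.decompose (ℳ₂.deg U hU) ((u.val.app (op U)).hom m₁) (k + i) : ℳ₂.mod.val.obj (op U)) = _
      rw [hm₁, DirectSum.decompose_of_mem_same _ hgm2]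
    set V'' : (Proj (𝒮.deg U hU)).Opens := V' ⊓ Proj.basicOpen (𝒮.deg U hU) (g : 𝒮.presheaf.obj (op U)) with hV''def
    have hV'' : V'' ≤ RelProj.emb p chart U hU ⁻¹ᵁ W := inf_le_left.trans hV'
    have hf₁ : ∀ z : V'', (g : 𝒮.presheaf.obj (op U)) * (f : 𝒮.presheaf.obj (op U)) ∉ z.1.asHomogeneousIdeal := by
      intro z hmem
      rcases z.1.isPrime.mem_or_mem hmem with h6 | h6
      · exact (Proj.mem_basicOpen _ _ _).mp z.2.2 h6
      · exact hf ⟨z.1, z.2.1⟩ h6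
    obtain ⟨t, ht⟩ := exists_lift_of_frac u hu n hF₁ hF₂ ut hut U hU W s V'' hV''
      (DirectSum.decompose (ℳ₁.deg U hU) m₁ (k + i))
      ⟨(g : 𝒮.presheaf.obj (op U)) * (f : 𝒮.presheaf.obj (op U)), SetLike.mul_mem_graded g.2 f.2⟩
      (by push_cast; omega) hf₁ (fun z => by
        rw [hval ⟨z.1, z.2.1⟩, hum₁]
        exact (LocalizedModule.mk_cancel_common_left
          (⟨(g : 𝒮.presheaf.obj (op U)), (Proj.mem_basicOpen _ _ _).mp z.2.2⟩ :
            z.1.asHomogeneousIdeal.toIdeal.primeCompl)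
          ⟨(f : 𝒮.presheaf.obj (op U)), hf ⟨z.1, z.2.1⟩⟩ (m : ℳ₂.mod.val.obj (op U))).symm)
    exact ⟨_, image_le_of_le_preimage _ hV'', ⟨y, ⟨hyV', (Proj.mem_basicOpen _ _ _).mpr hg⟩, rfl⟩, t, ht⟩
  · have hz := res_eq_zero_of_val n hF₂ U hU W s V' hV' (fun z => by
      rw [hval z, hm0, LocalizedModule.zero_mk])
    exact ⟨_, image_le_of_le_preimage _ hV', ⟨y, hyV', rfl⟩, 0, by rw [map_zero, hz]⟩

end Groth.Agent.Lib.RelTildeVal2
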