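import Groth.Prelude.Def_RelProj3
import Groth.Agent.Lib.RelTildeGlue
import Groth.Agent.Lib.RelTildeVal2
import Groth.Agent.Lib.H60TwistLoc
import Groth.Agent.Lib.H90OXModQcqs

/-!
# `GrMod.comap` is bijective on sections inside the range of `Proj.map` (helper28)

Module analogue of helper60's `H60TwistLoc`: for a homomorphism of graded rings `ψ : 𝒜 →+*ᵍ ℬ` and a degree-preserving
`ψ`-semilinear map `v : M → N` such that
* the induced maps of localized modules `GrMod.locModMap ψ hψ v y` are injective,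
* homogeneous elements of `B` / of `N` become, after multiplication by the image of a homogeneous element of `A` not vanishing
  at a given point, images of homogeneous elements of `A` / of `M`,
* `Proj.map ψ hψ` is injective and open on points,
the canonical map `GrMod.comap ψ hψ v hv n : M(n)~ ⟶ (Proj.map ψ)_* N(n)~` is bijective on sections over every open contained
in the range of `Proj.map ψ` (`comap_app_bijective`); the case of a localization at an element of degree zero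
(`comap_app_bijective_of_away`).
-/

set_option autoImplicit false
universe u
open CategoryTheory AlgebraicGeometry TopologicalSpace Opposite
open scoped HomogeneousIdeal

noncomputable section

namespace Groth.Agent.Lib.GrModComapLoc

open Groth.Agent.Lib.QCohStalk

variable {A σ : Type u} [CommRing A] [SetLike σ A] [AddSubgroupClass σ A] {𝒜 : ℕ → σ} [GradedRing 𝒜]
variable {M τ : Type u} [AddCommGroup M] [Module A M] [SetLike τ M] [AddSubgroupClass τ M] {ℳ : ℕ → τ}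
  [SetLike.GradedSMul 𝒜 ℳ]

/-- Sections of `M(n)~` are locally a single fraction. -/
theorem exists_frac_at {n : ℤ} {V : (Proj 𝒜).Opens} (t : Γ(GrMod.tilde 𝒜 ℳ n, V)) (x : V) :
    ∃ (W : (Proj 𝒜).Opens) (_ : x.1 ∈ W) (hW : W ≤ V) (i j : ℕ) (m : ℳ i) (s : 𝒜 j)
      (s_nin : ∀ z : W, (s : A) ∉ z.1.asHomogeneousIdeal),
      ((i : ℤ) = j + n ∨ (m : M) = 0) ∧
        ∀ z : W, GrMod.val t ⟨z.1, hW z.2⟩ = LocalizedModule.mk (m : M) ⟨(s : A), s_nin z⟩ := by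
  obtain ⟨W, hxW, iWV, i, j, m, s, s_nin, h, w⟩ := (show GrMod.sect 𝒜 ℳ n (op V) from t).2 x
  exact ⟨W, hxW, iWV.le, i, j, m, s, s_nin, h, fun z => w z⟩

/-- The section `m / f` of `M(n)~` over an open on which `f` vanishes nowhere. -/
def fracSec (n : ℤ) {i j : ℕ} (m : ℳ i) (f : 𝒜 j) (hij : (i : ℤ) = j + n ∨ (m : M) = 0)
    (V : (Proj 𝒜).Opens) (hV : ∀ z : V, (f : A) ∉ z.1.asHomogeneousIdeal) : Γ(GrMod.tilde 𝒜 ℳ n, V) :=
  (⟨fun z => ⟨LocalizedModule.mk (m : M) ⟨(f : A), hV z⟩, by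
      rcases hij with h | h
      · exact Submodule.subset_span ⟨i, j, m, f, hV z, h, rfl⟩
      · rw [h, LocalizedModule.zero_mk]; exact zero_mem _⟩,
    fun z => ⟨V, z.2, 𝟙 _, i, j, m, f, hV, hij, fun _ => rfl⟩⟩ : GrMod.sect 𝒜 ℳ n (op V))

theorem val_fracSec (n : ℤ) {i j : ℕ} (m : ℳ i) (f : 𝒜 j) (hij : (i : ℤ) = j + n ∨ (m : M) = 0)
    (V : (Proj 𝒜).Opens) (hV : ∀ z : V, (f : A) ∉ z.1.asHomogeneousIdeal) (z : V) :
    GrMod.val (fracSec n m f hij V hV) z = LocalizedModule.mk (m : M) ⟨(f : A), hV z⟩ := rfl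

theorem val_zero {n : ℤ} {V : (Proj 𝒜).Opens} (z : V) :
    GrMod.val (0 : Γ(GrMod.tilde 𝒜 ℳ n, V)) z = 0 := rfl

theorem val_res {n : ℤ} {V W : (Proj 𝒜).Opens} (h : W ≤ V) (t : Γ(GrMod.tilde 𝒜 ℳ n, V)) (z : W) :
    GrMod.val (res (GrMod.tilde 𝒜 ℳ n) h t) z = GrMod.val t ⟨z.1, h z.2⟩ := rfl

variable {B σ' : Type u} [CommRing B] [SetLike σ' B] [AddSubgroupClass σ' B] {ℬ : ℕ → σ'} [GradedRing ℬ]
variable {N τ' : Type u} [AddCommGroup N] [Module B N] [SetLike τ' N] [AddSubgroupClass τ' N] {𝒩 : ℕ → τ'}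
  [SetLike.GradedSMul ℬ 𝒩]
variable (ψ : 𝒜 →+*ᵍ ℬ) (hψ : ℬ₊ ≤ (𝒜₊).map ψ) (v : M →ₛₗ[ψ.toRingHom] N)
  (hv : ∀ (i : ℕ) (m : M), m ∈ ℳ i → v m ∈ 𝒩 i)

/-- Local lifting of a section of `N(n)~` to a section of `M(n)~` around a point of the range. -/
theorem exists_local_lift (n : ℤ)
    (hgen : ∀ (y : ProjectiveSpectrum ℬ) (i : ℕ) (b : B), b ∈ ℬ i →
      ∃ (j : ℕ) (g a : A), g ∈ 𝒜 j ∧ a ∈ 𝒜 (i + j) ∧ ψ g ∉ y.asHomogeneousIdeal ∧ ψ g * b = ψ a)
    (hgenM : ∀ (y : ProjectiveSpectrum ℬ) (i : ℕ) (b : N), b ∈ 𝒩 i →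
      ∃ (j : ℕ) (g : A) (a : M), g ∈ 𝒜 j ∧ a ∈ ℳ (j + i) ∧ ψ g ∉ y.asHomogeneousIdeal ∧ ψ g • b = v a)
    (hopen : IsOpenMap (Proj.map ψ hψ).base) (hinjb : Function.Injective (Proj.map ψ hψ).base)
    (W : (Proj 𝒜).Opens) (t : Γ(GrMod.tilde ℬ 𝒩 n, Proj.map ψ hψ ⁻¹ᵁ W))
    (y : ProjectiveSpectrum ℬ) (hy : ProjectiveSpectrum.comap ψ hψ y ∈ W) :
    ∃ (V : (Proj 𝒜).Opens) (_ : ProjectiveSpectrum.comap ψ hψ y ∈ V) (hV : V ≤ W)
      (σ₀ : Γ(GrMod.tilde 𝒜 ℳ n, V)),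
      ∀ (z : ProjectiveSpectrum ℬ) (hz : ProjectiveSpectrum.comap ψ hψ z ∈ V),
        GrMod.locModMap ψ hψ v z (GrMod.val σ₀ ⟨_, hz⟩) = GrMod.val t ⟨z, hV hz⟩ := by
  obtain ⟨N₀, hyN, hN, i, k, b, f', f'_nin, hdeg, hval⟩ := exists_frac_at t ⟨y, hy⟩
  rcases hdeg with hdeg | hb
  · obtain ⟨j₁, g₁, a, hg₁, ha, hg₁y, e₁⟩ := hgenM y i b.1 b.2
    obtain ⟨j₂, g₂, f, hg₂, hf, hg₂y, e₂⟩ := hgen y k f'.1 f'.2
    let N' : (Proj ℬ).Opens := N₀ ⊓ Proj.basicOpen ℬ (ψ g₁) ⊓ Proj.basicOpen ℬ (ψ g₂)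
    have hyN' : y ∈ N' := ⟨⟨hyN, (Proj.mem_basicOpen ℬ _ _).mpr hg₁y⟩, (Proj.mem_basicOpen ℬ _ _).mpr hg₂y⟩
    let V : (Proj 𝒜).Opens := ⟨(Proj.map ψ hψ).base '' (N' : Set (Proj ℬ)), hopen _ N'.2⟩
    have hmemV : ∀ z : ProjectiveSpectrum ℬ, ProjectiveSpectrum.comap ψ hψ z ∈ V → z ∈ N' := by
      intro z hz
      obtain ⟨z', hz', e⟩ := hz
      have : z' = z := hinjb e
      exact this ▸ hz'
    have hVW : V ≤ W := by
      rintro _ ⟨z, hz, rfl⟩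
      exact hN hz.1.1
    have hnum : g₂ • a ∈ ℳ (j₂ + (j₁ + i)) := SetLike.GradedSMul.smul_mem hg₂ ha
    have hden : g₁ * f ∈ 𝒜 (j₁ + (k + j₂)) := SetLike.mul_mem_graded hg₁ hf
    have hdenV : ∀ z : V, (g₁ * f) ∉ z.1.asHomogeneousIdeal := by
      rintro ⟨_, z, hz, rfl⟩ h
      have h' : ψ (g₁ * f) ∈ z.asHomogeneousIdeal := h
      rw [map_mul, ← e₂] at h'
      rcases z.isPrime.mem_or_mem h' with h1 | h1
      · exact (Proj.mem_basicOpen ℬ _ _).mp hz.1.2 h1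
      · rcases z.isPrime.mem_or_mem h1 with h2 | h2
        · exact (Proj.mem_basicOpen ℬ _ _).mp hz.2 h2
        · exact f'_nin ⟨z, hz.1.1⟩ h2
    refine ⟨V, ⟨y, hyN', rfl⟩, hVW,
      fracSec n ⟨g₂ • a, hnum⟩ ⟨g₁ * f, hden⟩ (Or.inl (by push_cast; omega)) V hdenV, ?_⟩
    intro z hz
    have hzN' := hmemV z hz
    rw [val_fracSec, GrMod.locModMap_mk]
    have := hval ⟨z, hzN'.1.1⟩
    refine Eq.trans ?_ this.symm
    rw [LocalizedModule.mk_eq]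
    refine ⟨1, ?_⟩
    simp only [one_smul, Submonoid.mk_smul, LinearMap.map_smulₛₗ, map_mul]
    change f'.1 • (ψ g₂ • v a) = (ψ g₁ * ψ f) • b.1
    rw [← e₁, ← e₂, smul_smul, smul_smul]
    congr 1
    ring
  · -- the zero fraction
    let V : (Proj 𝒜).Opens := ⟨(Proj.map ψ hψ).base '' (N₀ : Set (Proj ℬ)), hopen _ N₀.2⟩
    have hmemV : ∀ z : ProjectiveSpectrum ℬ, ProjectiveSpectrum.comap ψ hψ z ∈ V → z ∈ N₀ := by
      intro z hz
      obtain ⟨z', hz', e⟩ := hz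
      have : z' = z := hinjb e
      exact this ▸ hz'
    have hVW : V ≤ W := by
      rintro _ ⟨z, hz, rfl⟩
      exact hN hz
    refine ⟨V, ⟨y, hyN, rfl⟩, hVW, 0, ?_⟩
    intro z hz
    have := hval ⟨z, hmemV z hz⟩
    rw [val_zero, map_zero]
    refine Eq.trans ?_ this.symm
    rw [hb, LocalizedModule.zero_mk]

theorem comap_app_bijective (n : ℤ)
    (hinj : ∀ y : ProjectiveSpectrum ℬ, Function.Injective (GrMod.locModMap ψ hψ v y))
    (hgen : ∀ (y : ProjectiveSpectrum ℬ) (i : ℕ) (b : B), b ∈ ℬ i →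
      ∃ (j : ℕ) (g a : A), g ∈ 𝒜 j ∧ a ∈ 𝒜 (i + j) ∧ ψ g ∉ y.asHomogeneousIdeal ∧ ψ g * b = ψ a)
    (hgenM : ∀ (y : ProjectiveSpectrum ℬ) (i : ℕ) (b : N), b ∈ 𝒩 i →
      ∃ (j : ℕ) (g : A) (a : M), g ∈ 𝒜 j ∧ a ∈ ℳ (j + i) ∧ ψ g ∉ y.asHomogeneousIdeal ∧ ψ g • b = v a)
    (hopen : IsOpenMap (Proj.map ψ hψ).base) (hinjb : Function.Injective (Proj.map ψ hψ).base)
    (W : (Proj 𝒜).Opens) (hW : (W : Set (Proj 𝒜)) ⊆ Set.range (Proj.map ψ hψ).base) :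
    Function.Bijective ((GrMod.comap ψ hψ v hv n).app W) := by
  constructor
  · intro s s' h
    apply Groth.Agent.Lib.RelTildeGlue.sec_ext
    rintro ⟨x, hx⟩
    obtain ⟨y, rfl⟩ := hW hx
    have h1 := congrArg (fun t => GrMod.val (V := Proj.map ψ hψ ⁻¹ᵁ W) t ⟨y, hx⟩) h
    exact hinj y h1
  · intro t
    let t' : Γ(GrMod.tilde ℬ 𝒩 n, Proj.map ψ hψ ⁻¹ᵁ W) := t
    have hloc : ∀ x : W, ∃ (V : (Proj 𝒜).Opens) (_ : x.1 ∈ V) (hV : V ≤ W) (σ₀ : Γ(GrMod.tilde 𝒜 ℳ n, V)),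
        ∀ (z : ProjectiveSpectrum ℬ) (hz : ProjectiveSpectrum.comap ψ hψ z ∈ V),
          GrMod.locModMap ψ hψ v z (GrMod.val σ₀ ⟨_, hz⟩) = GrMod.val t' ⟨z, hV hz⟩ := by
      rintro ⟨x, hx⟩
      obtain ⟨y, rfl⟩ := hW hx
      exact exists_local_lift ψ hψ v n hgen hgenM hopen hinjb W t' y hx
    choose V hxV hV σ₀ hσ using hloc
    obtain ⟨s, hs⟩ := Groth.Agent.Lib.H90OXModQcqs.exists_glue (GrMod.tilde 𝒜 ℳ n) W V hV
      (fun x hx => Opens.mem_iSup.mpr ⟨⟨x, hx⟩, hxV ⟨x, hx⟩⟩) σ₀ (by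
        intro x x'
        apply Groth.Agent.Lib.RelTildeGlue.sec_ext
        rintro ⟨z', hz'⟩
        obtain ⟨z, rfl⟩ := hW (hV x hz'.1)
        exact hinj z ((hσ x z hz'.1).trans (hσ x' z hz'.2).symm))
    refine ⟨s, ?_⟩
    apply Groth.Agent.Lib.RelTildeGlue.sec_ext (V := Proj.map ψ hψ ⁻¹ᵁ W)
    rintro ⟨y, hy⟩
    rw [GrMod.comap_app_val]
    have h1 := hσ ⟨_, hy⟩ y (hxV ⟨_, hy⟩)
    have h2 := congrArg (fun τ => GrMod.val τ ⟨ProjectiveSpectrum.comap ψ hψ y, hxV ⟨_, hy⟩⟩) (hs ⟨_, hy⟩)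
    have h2' : GrMod.val s ⟨ProjectiveSpectrum.comap ψ hψ y, hy⟩ =
        GrMod.val (σ₀ ⟨_, hy⟩) ⟨ProjectiveSpectrum.comap ψ hψ y, hxV ⟨_, hy⟩⟩ := h2
    rw [h2']
    exact h1

/-! ### The case of a localization at an element of degree zero -/

section Away

open Groth.Agent.Lib.H60TwistLoc

variable {c : A}
  (hloc : letI := ψ.toRingHom.toAlgebra; IsLocalization.Away c B)
  (hsurjM : ∀ b : N, ∃ (k : ℕ) (a : M), ψ c ^ k • b = v a)
  (hinjM : ∀ a : M, v a = 0 → ∃ k : ℕ, c ^ k • a = 0)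

include hloc hinjM in
theorem locModMap_injective_of_away (y : ProjectiveSpectrum ℬ) :
    Function.Injective (GrMod.locModMap ψ hψ v y) := by
  letI := ψ.toRingHom.toAlgebra
  haveI : IsLocalization.Away c B := hloc
  rw [injective_iff_map_eq_zero]
  intro q
  induction q using LocalizedModule.induction_on with
  | h m s =>
    intro hq
    rw [GrMod.locModMap_mk, ← LocalizedModule.zero_mk (1 : y.asHomogeneousIdeal.toIdeal.primeCompl),
      LocalizedModule.mk_eq] at hq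
    obtain ⟨⟨u', hu'⟩, hu'a⟩ := hq
    simp only [one_smul, smul_zero, Submonoid.mk_smul] at hu'a
    obtain ⟨⟨u, ⟨_, k, rfl⟩⟩, hu⟩ := IsLocalization.surj (Submonoid.powers c) u'
    change u' * ψ (c ^ k) = ψ u at hu
    have h0 : v (u • m) = 0 := by
      rw [LinearMap.map_smulₛₗ]
      change ψ u • v m = 0
      rw [← hu, mul_comm, mul_smul, hu'a, smul_zero]
    obtain ⟨l, hl⟩ := hinjM _ h0
    rw [← LocalizedModule.zero_mk (1 : (ProjectiveSpectrum.comap ψ hψ y).asHomogeneousIdeal.toIdeal.primeCompl),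
      LocalizedModule.mk_eq]
    refine ⟨⟨c ^ l * u, ?_⟩, ?_⟩
    · intro hmem
      have hmem' : ψ (c ^ l * u) ∈ y.asHomogeneousIdeal := hmem
      rw [map_mul, ← hu, map_pow, map_pow] at hmem'
      have hcy := map_notMem_of_away ψ hloc y
      rcases y.isPrime.mem_or_mem hmem' with h1 | h1
      · exact hcy (y.isPrime.mem_of_pow_mem _ h1)
      · rcases y.isPrime.mem_or_mem h1 with h2 | h2
        · exact hu' h2
        · exact hcy (y.isPrime.mem_of_pow_mem _ h2)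
    · simp only [one_smul, smul_zero]
      change (c ^ l * u) • m = 0
      rw [mul_smul]
      exact hl

variable [DirectSum.Decomposition ℳ] [DirectSum.Decomposition 𝒩]

omit [SetLike.GradedSMul 𝒜 ℳ] in
include hv hloc hsurjM in
theorem hgenM_of_away (hc : c ∈ 𝒜 0) (y : ProjectiveSpectrum ℬ) (i : ℕ) (b : N) (hb : b ∈ 𝒩 i) :
    ∃ (j : ℕ) (g : A) (a : M), g ∈ 𝒜 j ∧ a ∈ ℳ (j + i) ∧ ψ g ∉ y.asHomogeneousIdeal ∧ ψ g • b = v a := by
  classical
  obtain ⟨k, a, hka⟩ := hsurjM b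
  have hck : c ^ k ∈ 𝒜 0 := by
    have := SetLike.pow_mem_graded k hc
    simpa using this
  have hbi : ψ c ^ k • b ∈ 𝒩 i := by
    have h1 : ψ (c ^ k) ∈ ℬ 0 := ψ.map_mem hck
    have := SetLike.GradedSMul.smul_mem h1 hb
    rw [vadd_eq_add, zero_add, map_pow] at this
    exact this
  have hai : v (DirectSum.decompose ℳ a i : M) = ψ c ^ k • b := by
    have h1 := Groth.Agent.Lib.RelTildeVal2.map_decompose (ℳ := ℳ) (𝒩 := 𝒩) v.toAddMonoidHom hv a i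
    change v (DirectSum.decompose ℳ a i : M) = (DirectSum.decompose 𝒩 (v a) i : N) at h1
    rw [h1, ← hka, DirectSum.decompose_of_mem_same _ hbi]
  refine ⟨0, c ^ k, (DirectSum.decompose ℳ a i : M), hck, ?_, ?_, ?_⟩
  · rw [zero_add]; exact SetLike.coe_mem _
  · rw [map_pow]
    exact fun h => map_notMem_of_away ψ hloc y (y.isPrime.mem_of_pow_mem _ h)
  · rw [hai, map_pow]

include hloc hsurjM hinjM in
/-- For a localization at an element of degree zero (of rings and of modules), `GrMod.comap` is bijective on sections over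
the opens inside the range of `Proj.map ψ`. -/
theorem comap_app_bijective_of_away (hc : c ∈ 𝒜 0) (n : ℤ)
    (hopen : IsOpenMap (Proj.map ψ hψ).base) (hinjb : Function.Injective (Proj.map ψ hψ).base)
    (W : (Proj 𝒜).Opens) (hW : (W : Set (Proj 𝒜)) ⊆ Set.range (Proj.map ψ hψ).base) :
    Function.Bijective ((GrMod.comap ψ hψ v hv n).app W) :=
  comap_app_bijective ψ hψ v hv n (locModMap_injective_of_away ψ hψ v hloc hinjM) (hgen_of_away ψ hc hloc)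
    (hgenM_of_away ψ v hv hloc hsurjM hc) hopen hinjb W hW

end Away

end Groth.Agent.Lib.GrModComapLoc
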