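import Groth.Agent.Lib.GrModQCoh
import Groth.Agent.Lib.H90OXModAffineFT

/-!
# `M~` is of finite type under (TF) when `A₊` is finitely generated — gradings by additive subgroups (helper28)

Port to `GrMod.tilde` (Def_GrMod3) of helper4's `Lib/H4GrTildeFT`.

* `exists_homogeneous_gens_irrelevant` : finitely many homogeneous generators of positive degree of `A₊`;
* `fr hf k m` : the section `m / f ^ k` of `M~` over `D₊(f)`; `fr_add`, `fr_sum`, `fr_shift`, `smul_fr`, `exists_fr`;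
* `finite_sections_basicOpen` : `Γ(D₊(f), M~)` is a finite `Γ(D₊(f), O)`-module under (TF);
* `isFT_tilde_of_TF`.
-/

set_option autoImplicit false
set_option linter.unusedSectionVars false
universe u
open CategoryTheory AlgebraicGeometry TopologicalSpace Opposite
open GrTwist

namespace Groth.Agent.Lib.GrModFT

open Groth.Agent.Lib.GrModQCoh Groth.Agent.Lib.GrModFrac Groth.Agent.Lib.GrModVal


variable {A σ : Type u} [CommRing A] [SetLike σ A] [AddSubgroupClass σ A] {𝒜 : ℕ → σ} [GradedRing 𝒜]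

section Gens

/-- Finitely many homogeneous generators of positive degree of a finitely generated irrelevant ideal. -/
theorem exists_homogeneous_gens_irrelevant (hfg : (HomogeneousIdeal.irrelevant 𝒜).toIdeal.FG) :
    ∃ T : Finset A, (∀ a ∈ T, ∃ n : ℕ, 0 < n ∧ a ∈ 𝒜 n) ∧
      (HomogeneousIdeal.irrelevant 𝒜).toIdeal = Ideal.span (T : Set A) := by
  classical
  obtain ⟨S₀, hS₀⟩ := hfg
  let T : Finset A := S₀.biUnion fun x => (DirectSum.decompose 𝒜 x).support.image
    fun i => (DirectSum.decompose 𝒜 x i : A)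
  have hmemT : ∀ a ∈ T, ∃ x ∈ S₀, ∃ i ∈ (DirectSum.decompose 𝒜 x).support,
      a = (DirectSum.decompose 𝒜 x i : A) := by
    intro a ha
    simp only [T, Finset.mem_biUnion, Finset.mem_image] at ha
    obtain ⟨x, hx, i, hi, rfl⟩ := ha
    exact ⟨x, hx, i, hi, rfl⟩
  have hS₀mem : ∀ x ∈ S₀, x ∈ (HomogeneousIdeal.irrelevant 𝒜).toIdeal := by
    intro x hx
    rw [← hS₀]
    exact Ideal.subset_span hx
  refine ⟨T, ?_, ?_⟩
  · intro a ha
    obtain ⟨x, hx, i, hi, rfl⟩ := hmemT a ha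
    refine ⟨i, ?_, SetLike.coe_mem _⟩
    rcases Nat.eq_zero_or_pos i with h0 | h0
    · exfalso
      subst h0
      have h1 : GradedRing.proj 𝒜 0 x = 0 := (HomogeneousIdeal.mem_irrelevant_iff 𝒜 x).mp (hS₀mem x hx)
      rw [DFinsupp.mem_support_iff] at hi
      apply hi
      exact Subtype.ext h1
    · exact h0
  · apply le_antisymm
    · rw [← hS₀, Ideal.span_le]
      intro x hx
      rw [← DirectSum.sum_support_decompose 𝒜 x]
      refine Ideal.sum_mem _ fun i hi => Ideal.subset_span ?_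
      simp only [T, Finset.coe_biUnion, Finset.coe_image, Set.mem_iUnion, Set.mem_image]
      exact ⟨x, hx, i, hi, rfl⟩
    · rw [Ideal.span_le]
      intro a ha
      obtain ⟨x, hx, i, hi, rfl⟩ := hmemT a ha
      exact (HomogeneousIdeal.irrelevant 𝒜).isHomogeneous i (hS₀mem x hx)

end Gens

variable {M τ : Type u} [AddCommGroup M] [Module A M] [SetLike τ M] [AddSubgroupClass τ M] {ℳ : ℕ → τ}
  [DirectSum.Decomposition ℳ] [SetLike.GradedSMul 𝒜 ℳ]

section Fr

theorem mk_add_same {x : ProjectiveSpectrum 𝒜} (m m' : M) (s : x.asHomogeneousIdeal.toIdeal.primeCompl) :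
    (LocalizedModule.mk m s + LocalizedModule.mk m' s : GrMod.LocMod 𝒜 (M := M) x) =
      LocalizedModule.mk (m + m') s := by
  rw [LocalizedModule.mk_add_mk, ← smul_add, LocalizedModule.mk_cancel_common_left]

variable {d : ℕ} {f : A} (hf : f ∈ 𝒜 d)

theorem pow_notMem (x : Proj.basicOpen 𝒜 f) (k : ℕ) : f ^ k ∉ x.1.asHomogeneousIdeal :=
  fun h => x.2 (x.1.isPrime.mem_of_pow_mem k h)

/-- The section `m / f ^ k` of `M~` over `D₊(f)` (zero unless `m ∈ ℳ (k * d)`). -/
noncomputable def fr (k : ℕ) (m : M) : Γ(GrMod.tilde 𝒜 ℳ 0, Proj.basicOpen 𝒜 f) :=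
  open Classical in
  if hm : m ∈ ℳ (k * d) then
    fracSecQ (ℳ := ℳ) (n := 0) hm (SetLike.pow_mem_graded k hf) (by simp) (Proj.basicOpen 𝒜 f)
      (fun x => pow_notMem x k)
  else 0

theorem tval_fr {k : ℕ} {m : M} (hm : m ∈ ℳ (k * d)) (x : Proj.basicOpen 𝒜 f) :
    tval (fr (ℳ := ℳ) hf k m) x = LocalizedModule.mk m ⟨f ^ k, pow_notMem x k⟩ := by
  unfold fr
  rw [dif_pos hm]
  rfl

theorem fr_add {k : ℕ} {m m' : M} (hm : m ∈ ℳ (k * d)) (hm' : m' ∈ ℳ (k * d)) :
    fr (ℳ := ℳ) hf k (m + m') = fr hf k m + fr hf k m' := by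
  refine tsec_ext fun x => ?_
  rw [tval_add, tval_fr hf hm, tval_fr hf hm', tval_fr hf (add_mem hm hm'), mk_add_same]

theorem fr_zero (k : ℕ) : fr (ℳ := ℳ) hf k 0 = 0 := by
  refine tsec_ext fun x => ?_
  rw [tval_fr hf (zero_mem _), tval_zero, LocalizedModule.zero_mk]

theorem fr_sum {ι : Type*} (s : Finset ι) {k : ℕ} (m : ι → M) (hm : ∀ i ∈ s, m i ∈ ℳ (k * d)) :
    fr (ℳ := ℳ) hf k (∑ i ∈ s, m i) = ∑ i ∈ s, fr hf k (m i) := by
  classical
  induction s using Finset.induction_on with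
  | empty => simp [fr_zero]
  | insert a s ha ih =>
    rw [Finset.sum_insert ha, Finset.sum_insert ha,
      fr_add hf (hm a (Finset.mem_insert_self a s))
        (sum_mem fun i hi => hm i (Finset.mem_insert_of_mem hi)),
      ih fun i hi => hm i (Finset.mem_insert_of_mem hi)]

include hf in
theorem pow_smul_mem {k l : ℕ} {m : M} (hm : m ∈ ℳ (k * d)) : f ^ l • m ∈ ℳ ((k + l) * d) := by
  have h1 : f ^ l ∈ 𝒜 (l • d) := SetLike.pow_mem_graded l hf
  have h2 : f ^ l • m ∈ ℳ (l • d + k * d) := SetLike.GradedSMul.smul_mem h1 hm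
  have e : l • d + k * d = (k + l) * d := by rw [smul_eq_mul]; ring
  rwa [e] at h2

theorem fr_shift {k : ℕ} {m : M} (hm : m ∈ ℳ (k * d)) (l : ℕ) :
    fr (ℳ := ℳ) hf k m = fr hf (k + l) (f ^ l • m) := by
  refine tsec_ext fun x => ?_
  rw [tval_fr hf hm, tval_fr hf (pow_smul_mem hf hm)]
  rw [mk_eq_mk_of_smul m (f ^ l) (f ^ k) (pow_notMem x k) (by rw [← pow_add]; exact pow_notMem x _)]
  congr 1
  exact Subtype.ext (show f ^ l * f ^ k = f ^ (k + l) by rw [pow_add, mul_comm])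

/-- Every section of `M~` over `D₊(f)` is some `m / f ^ k`. -/
theorem exists_fr (hd : 0 < d) (t : Γ(GrMod.tilde 𝒜 ℳ 0, Proj.basicOpen 𝒜 f)) :
    ∃ (k : ℕ) (m : M), m ∈ ℳ (k * d) ∧ t = fr hf k m := by
  obtain ⟨k, i, m, hm, hi, h⟩ := exists_frac' hf hd t
  have hi' : i = k * d := by
    have : (i : ℤ) = ((k * d : ℕ) : ℤ) := by rw [hi]; push_cast; ring
    exact_mod_cast this
  subst hi'
  refine ⟨k, m, hm, tsec_ext fun x => ?_⟩
  rw [tval_fr hf hm]
  exact h x (pow_notMem x k)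

/-- Multiplication of `m / f ^ k` by the function `a / f ^ l`. -/
theorem smul_fr {k l : ℕ} {m : M} (hm : m ∈ ℳ (k * d)) {a : A} (ha : a ∈ 𝒜 (l • d)) :
    (Proj.awayToSection 𝒜 f).hom (HomogeneousLocalization.Away.mk 𝒜 hf l a ha) • fr (ℳ := ℳ) hf k m =
      fr hf (l + k) (a • m) := by
  have ham : a • m ∈ ℳ ((l + k) * d) := by
    have h2 : a • m ∈ ℳ (l • d + k * d) := SetLike.GradedSMul.smul_mem ha hm
    have e : l • d + k * d = (l + k) * d := by rw [smul_eq_mul]; ring
    rwa [e] at h2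
  refine tsec_ext fun x => ?_
  rw [tval_smul, oval_awayToSection_mk, tval_fr hf hm, tval_fr hf ham, LocalizedModule.mk_smul_mk]
  congr 1
  exact Subtype.ext (show f ^ l * f ^ k = f ^ (l + k) by rw [pow_add])

end Fr

section Mono

variable {ι : Type*} [Fintype ι] [DecidableEq ι] (h : ι → A) (dh : ι → ℕ) {d : ℕ}

/-- The monomial `∏ h i ^ ρ i` with exponents `< d`. -/
def mono (ρ : ι → Fin d) : A := ∏ i, h i ^ (ρ i : ℕ)

/-- The weighted degree of `mono ρ`. -/
def wt (ρ : ι → Fin d) : ℕ := ∑ i, (ρ i : ℕ) * dh i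

theorem mono_mem (hh : ∀ i, h i ∈ 𝒜 (dh i)) (ρ : ι → Fin d) : mono h ρ ∈ 𝒜 (wt dh ρ) := by
  unfold mono wt
  refine SetLike.prod_mem_graded _ _ _ fun i _ => ?_
  have := SetLike.pow_mem_graded (ρ i : ℕ) (hh i)
  rwa [smul_eq_mul] at this

theorem mono_update (ρ : ι → Fin d) (i : ι) (v : Fin d) :
    mono h (Function.update ρ i v) = h i ^ (v : ℕ) * ∏ j ∈ Finset.univ.erase i, h j ^ (ρ j : ℕ) := by
  unfold mono
  rw [← Finset.mul_prod_erase Finset.univ _ (Finset.mem_univ i), Function.update_self]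
  congr 1
  refine Finset.prod_congr rfl fun j hj => ?_
  rw [Function.update_of_ne (Finset.ne_of_mem_erase hj)]

theorem wt_update (ρ : ι → Fin d) (i : ι) (v : Fin d) :
    wt dh (Function.update ρ i v) = (v : ℕ) * dh i + ∑ j ∈ Finset.univ.erase i, (ρ j : ℕ) * dh j := by
  unfold wt
  rw [← Finset.add_sum_erase Finset.univ _ (Finset.mem_univ i), Function.update_self]
  congr 1
  refine Finset.sum_congr rfl fun j hj => ?_
  rw [Function.update_of_ne (Finset.ne_of_mem_erase hj)]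

theorem mono_eq (ρ : ι → Fin d) (i : ι) :
    mono h ρ = h i ^ (ρ i : ℕ) * ∏ j ∈ Finset.univ.erase i, h j ^ (ρ j : ℕ) := by
  have := mono_update h ρ i (ρ i)
  rwa [Function.update_eq_self] at this

theorem wt_eq (ρ : ι → Fin d) (i : ι) :
    wt dh ρ = (ρ i : ℕ) * dh i + ∑ j ∈ Finset.univ.erase i, (ρ j : ℕ) * dh j := by
  have := wt_update dh ρ i (ρ i)
  rwa [Function.update_eq_self] at this

/-- Multiplying a reduced monomial by a generator: either still reduced, or a `d`-th power splits off. -/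
theorem mono_closure (hd : 0 < d) (ρ : ι → Fin d) (i : ι) :
    (∃ ρ' : ι → Fin d, mono h ρ' = h i * mono h ρ ∧ wt dh ρ' = wt dh ρ + dh i) ∨
    (∃ ρ'' : ι → Fin d, h i * mono h ρ = h i ^ d * mono h ρ'' ∧ wt dh ρ = wt dh ρ'' + (d - 1) * dh i) := by
  by_cases hlt : (ρ i : ℕ) + 1 < d
  · left
    refine ⟨Function.update ρ i ⟨(ρ i : ℕ) + 1, hlt⟩, ?_, ?_⟩
    · rw [mono_update, mono_eq h ρ i, pow_succ']
      ring
    · rw [wt_update, wt_eq dh ρ i]
      ring
  · right
    have hρ : (ρ i : ℕ) + 1 = d := by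
      have := (ρ i).2
      omega
    refine ⟨Function.update ρ i ⟨0, hd⟩, ?_, ?_⟩
    · rw [mono_update, mono_eq h ρ i, pow_zero, one_mul, ← mul_assoc, ← pow_succ', hρ]
    · rw [wt_update, wt_eq dh ρ i]
      have : (ρ i : ℕ) = d - 1 := by omega
      rw [this]
      simp only [zero_mul, zero_add]
      exact add_comm _ _

end Mono

section Main

variable {ι : Type u} [Fintype ι] [DecidableEq ι] (h : ι → A) (dh : ι → ℕ) {d : ℕ} {f : A} (hf : f ∈ 𝒜 d)
  {κ : Type u} (z : κ → M) (e : κ → ℕ)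

/-- The candidate generators `h^ρ z_j / f^k` of `Γ(D₊(f), M~)`. -/
noncomputable def genW (p : (ι → Fin d) × κ) : Γ(GrMod.tilde 𝒜 ℳ 0, Proj.basicOpen 𝒜 f) :=
  fr hf ((wt dh p.1 + e p.2) / d) (mono h p.1 • z p.2)

/-- Key induction: all fractions `a h^ρ z_j / f^k` lie in the span of the `genW`. -/
theorem fr_mem_span (hd : 0 < d) (hh : ∀ i, h i ∈ 𝒜 (dh i)) (hpos : ∀ i, 0 < dh i)
    (hspan : (HomogeneousIdeal.irrelevant 𝒜).toIdeal = Ideal.span (Set.range h))
    (hz : ∀ j, z j ∈ ℳ (e j)) :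
    ∀ (t : ℕ) (ρ : ι → Fin d) (j : κ) (a : A) (k : ℕ), a ∈ 𝒜 t → t + wt dh ρ + e j = k * d →
      fr (ℳ := ℳ) hf k (a • mono h ρ • z j) ∈
        Submodule.span Γ(Proj 𝒜, Proj.basicOpen 𝒜 f) (Set.range (genW (ℳ := ℳ) h dh hf z e)) := by
  intro t
  induction t using Nat.strong_induction_on with
  | _ t ih =>
    intro ρ j a k ha hk
    have hmz : mono h ρ • z j ∈ ℳ (wt dh ρ + e j) :=
      SetLike.GradedSMul.smul_mem (mono_mem h dh hh ρ) (hz j)
    rcases Nat.eq_zero_or_pos t with ht0 | htpos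
    · -- `t = 0`
      subst ht0
      have hk' : wt dh ρ + e j = k * d := by omega
      have hmz' : mono h ρ • z j ∈ ℳ (k * d) := hk' ▸ hmz
      have ha' : a ∈ 𝒜 (0 • d) := by rwa [zero_smul]
      have h1 := smul_fr (ℳ := ℳ) hf hmz' ha'
      rw [zero_add] at h1
      rw [← h1]
      refine Submodule.smul_mem _ _ (Submodule.subset_span ⟨(ρ, j), ?_⟩)
      unfold genW
      simp only
      rw [hk', Nat.mul_div_cancel _ hd]
    · -- `t > 0`
      have hmem : a ∈ Ideal.span (Set.range h) := by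
        rw [← hspan]
        exact HomogeneousIdeal.mem_irrelevant_of_mem 𝒜 htpos ha
      obtain ⟨b, hb, hb0, hsum⟩ := exists_homogeneous_combination h dh hh ha hmem
      have hterm : ∀ i, (b i * h i) • mono h ρ • z j ∈ ℳ (k * d) := by
        intro i
        by_cases hle : dh i ≤ t
        · have h1 : b i * h i ∈ 𝒜 (t - dh i + dh i) := SetLike.mul_mem_graded (hb i) (hh i)
          have h2 : (b i * h i) • mono h ρ • z j ∈ ℳ (t - dh i + dh i + (wt dh ρ + e j)) :=
            SetLike.GradedSMul.smul_mem h1 hmz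
          have e1 : t - dh i + dh i + (wt dh ρ + e j) = k * d := by omega
          rwa [e1] at h2
        · rw [hb0 i (by omega), zero_mul, zero_smul]
          exact zero_mem _
      have hexp : a • mono h ρ • z j = ∑ i, (b i * h i) • mono h ρ • z j := by
        rw [← hsum, Finset.sum_smul]
      rw [hexp, fr_sum hf Finset.univ _ fun i _ => hterm i]
      refine Submodule.sum_mem _ fun i _ => ?_
      by_cases hle : dh i ≤ t
      swap
      · rw [hb0 i (by omega), zero_mul, zero_smul, fr_zero]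
        exact Submodule.zero_mem _
      have hlt : t - dh i < t := by have := hpos i; omega
      rcases mono_closure h dh hd ρ i with ⟨ρ', hm', hw'⟩ | ⟨ρ'', hm'', hw''⟩
      · have e1 : (b i * h i) • mono h ρ • z j = b i • mono h ρ' • z j := by
          rw [hm', mul_smul, mul_smul]
        rw [e1]
        exact ih (t - dh i) hlt ρ' j (b i) k (hb i) (by omega)
      · have e1 : (b i * h i) • mono h ρ • z j = h i ^ d • (b i • mono h ρ'' • z j) := by
          rw [mul_smul, ← mul_smul (h i), hm'', mul_smul, smul_comm]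
        -- `k ≥ dh i`
        have hkge : dh i ≤ k := by
          have h1 : d * dh i ≤ k * d := by
            have : (d - 1) * dh i + dh i = d * dh i := by
              obtain ⟨d', rfl⟩ := Nat.exists_eq_succ_of_ne_zero hd.ne'
              simp [Nat.succ_mul]
            omega
          rw [mul_comm] at h1
          exact Nat.le_of_mul_le_mul_right h1 hd
        have hk'' : t - dh i + wt dh ρ'' + e j = (k - dh i) * d := by
          have : (d - 1) * dh i + dh i = d * dh i := by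
            obtain ⟨d', rfl⟩ := Nat.exists_eq_succ_of_ne_zero hd.ne'
            simp [Nat.succ_mul]
          have h3 : (k - dh i) * d + dh i * d = k * d := by
            rw [← Nat.add_mul, Nat.sub_add_cancel hkge]
          have h4 : dh i * d = d * dh i := mul_comm _ _
          omega
        have hmem' : b i • mono h ρ'' • z j ∈ ℳ ((k - dh i) * d) := by
          have h2 : b i • mono h ρ'' • z j ∈ ℳ (t - dh i + (wt dh ρ'' + e j)) :=
            SetLike.GradedSMul.smul_mem (hb i)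
              (SetLike.GradedSMul.smul_mem (mono_mem h dh hh ρ'') (hz j))
          have e2 : t - dh i + (wt dh ρ'' + e j) = (k - dh i) * d := by omega
          rwa [e2] at h2
        have hpowmem : h i ^ d ∈ 𝒜 (dh i • d) := by
          have := SetLike.pow_mem_graded d (hh i)
          rwa [smul_eq_mul, mul_comm, ← smul_eq_mul] at this
        have h1 := smul_fr (ℳ := ℳ) hf hmem' hpowmem
        rw [Nat.add_sub_cancel' hkge] at h1
        rw [e1, ← h1]
        exact Submodule.smul_mem _ _ (ih (t - dh i) hlt ρ'' j (b i) (k - dh i) (hb i) hk'')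

end Main

section Final

theorem mono_zero {ι : Type u} [Fintype ι] (h : ι → A) {d : ℕ} (hd : 0 < d) :
    mono h (fun _ : ι => (⟨0, hd⟩ : Fin d)) = 1 := by
  unfold mono
  simp

theorem wt_zero {ι : Type u} [Fintype ι] (dh : ι → ℕ) {d : ℕ} (hd : 0 < d) :
    wt dh (fun _ : ι => (⟨0, hd⟩ : Fin d)) = 0 := by
  unfold wt
  simp

/-- Under (TF) with `A₊` finitely generated, `Γ(D₊(f), M~)` is a finite module over `Γ(D₊(f), O)`. -/
theorem finite_sections_basicOpen (hfg : (HomogeneousIdeal.irrelevant 𝒜).toIdeal.FG)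
    (hTF : ∃ n : ℕ, (Submodule.span A (⋃ k ∈ Set.Ici n, (ℳ k : Set M))).FG)
    {d : ℕ} {f : A} (hf : f ∈ 𝒜 d) (hd : 0 < d) :
    Module.Finite Γ(Proj 𝒜, Proj.basicOpen 𝒜 f) Γ(GrMod.tilde 𝒜 ℳ 0, Proj.basicOpen 𝒜 f) := by
  classical
  obtain ⟨T, hT, hspanT⟩ := exists_homogeneous_gens_irrelevant (𝒜 := 𝒜) hfg
  choose! dh hdh using hT
  obtain ⟨n₀, hN⟩ := hTF
  obtain ⟨Z, hZsub, hZspan⟩ := (Submodule.fg_span_iff_fg_span_finset_subset _).mp hN
  have hdeg : ∀ z : M, ∃ e : ℕ, z ∈ (Z : Set M) → z ∈ ℳ e := by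
    intro z
    by_cases hz : z ∈ (Z : Set M)
    · have := hZsub hz
      simp only [Set.mem_iUnion] at this
      obtain ⟨e, -, he⟩ := this
      exact ⟨e, fun _ => he⟩
    · exact ⟨0, fun h => absurd h hz⟩
  choose dg hdg using hdeg
  -- the data for `fr_mem_span`
  let h' : (↥T) → A := Subtype.val
  let dh' : (↥T) → ℕ := fun i => dh i.1
  let z' : (↥Z) → M := Subtype.val
  let e' : (↥Z) → ℕ := fun j => dg j.1
  have hh : ∀ i, h' i ∈ 𝒜 (dh' i) := fun i => (hdh i.1 i.2).2
  have hpos : ∀ i, 0 < dh' i := fun i => (hdh i.1 i.2).1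
  have hspan : (HomogeneousIdeal.irrelevant 𝒜).toIdeal = Ideal.span (Set.range h') := by
    rw [hspanT]
    congr 1
    exact Subtype.range_coe.symm
  have hz : ∀ j, z' j ∈ ℳ (e' j) := fun j => hdg j.1 j.2
  have key := fr_mem_span (ℳ := ℳ) h' dh' hf z' e' hd hh hpos hspan hz
  rw [Module.finite_def, Submodule.fg_def]
  refine ⟨Set.range (genW (ℳ := ℳ) h' dh' hf z' e'), Set.finite_range _, ?_⟩
  rw [eq_top_iff]
  intro t _
  obtain ⟨k, m, hm, rfl⟩ := exists_fr hf hd t
  -- make the degree large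
  set l : ℕ := n₀ + Z.sup dg with hl
  rw [fr_shift hf hm l]
  set K : ℕ := k + l with hK
  have hm' : f ^ l • m ∈ ℳ (K * d) := pow_smul_mem hf hm
  have hKd : l ≤ K * d := by
    have : K ≤ K * d := Nat.le_mul_of_pos_right K hd
    omega
  have hwN : f ^ l • m ∈ Submodule.span A (Z : Set M) := by
    rw [← hZspan]
    apply Submodule.subset_span
    simp only [Set.mem_iUnion]
    exact ⟨K * d, by simp only [Set.mem_Ici]; omega, hm'⟩
  obtain ⟨c, -, hc⟩ := Submodule.mem_span_finset.mp hwN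
  have h1 := congrArg (fun x => (DirectSum.decompose ℳ x (K * d) : M)) hc
  simp only at h1
  rw [DirectSum.decompose_of_mem_same ℳ hm', DirectSum.decompose_sum, DFinsupp.finsetSum_apply,
    AddSubmonoidClass.coe_finsetSum] at h1
  have h2 : ∀ y ∈ Z, ((DirectSum.decompose ℳ (c y • y) (K * d) : ℳ (K * d)) : M) =
      (DirectSum.decompose 𝒜 (c y) (K * d - dg y) : A) • y := by
    intro y hy
    have hle : dg y ≤ Z.sup dg := Finset.le_sup hy
    have hk' : K * d = (K * d - dg y) + dg y := by omega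
    conv_lhs => rw [hk']
    exact Groth.Agent.Lib.GrModVal.decompose_smul (𝒜 := 𝒜) (ℳ := ℳ) (hdg y hy) (c y) (K * d - dg y)
  rw [Finset.sum_congr rfl h2] at h1
  rw [← h1, fr_sum hf Z]
  · refine Submodule.sum_mem _ fun y hy => ?_
    have hle : dg y ≤ Z.sup dg := Finset.le_sup hy
    have := key (K * d - dg y) (fun _ => ⟨0, hd⟩) ⟨y, hy⟩
      (DirectSum.decompose 𝒜 (c y) (K * d - dg y) : A) K (SetLike.coe_mem _)
      (by rw [wt_zero dh' hd]; show K * d - dg y + 0 + dg y = K * d; omega)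
    rw [mono_zero h' hd, one_smul] at this
    exact this
  · intro y hy
    have hle : dg y ≤ Z.sup dg := Finset.le_sup hy
    have h0 : (DirectSum.decompose 𝒜 (c y) (K * d - dg y) : A) ∈ 𝒜 (K * d - dg y) := SetLike.coe_mem _
    have h3 : (DirectSum.decompose 𝒜 (c y) (K * d - dg y) : A) • y ∈ ℳ (K * d - dg y + dg y) :=
      SetLike.GradedSMul.smul_mem h0 (hdg y hy)
    have e3 : K * d - dg y + dg y = K * d := by omega
    rwa [e3] at h3

/-- S3561: `M~` is of finite type under (TF) when `A₊` is finitely generated. -/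
theorem isFT_tilde_of_TF (hfg : (HomogeneousIdeal.irrelevant 𝒜).toIdeal.FG)
    (hTF : ∃ n : ℕ, (Submodule.span A (⋃ k ∈ Set.Ici n, (ℳ k : Set M))).FG) :
    CohB1.IsFT (GrMod.tilde 𝒜 ℳ 0) := by
  have : (GrMod.tilde 𝒜 ℳ 0).IsQuasicoherent := isQCoh_tilde (𝒜 := 𝒜) (ℳ := ℳ) 0
  refine Groth.Agent.Lib.H90OXModAffineFT.isFiniteType_of_affine_cover (GrMod.tilde 𝒜 ℳ 0)
    (fun p : {p : A × ℕ // 0 < p.2 ∧ p.1 ∈ 𝒜 p.2} => Proj.basicOpen 𝒜 p.1.1) ?_ ?_ ?_
  · rw [eq_top_iff]
    intro x _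
    obtain ⟨m, hm, f, hfx⟩ := Groth.Agent.Lib.GrModVal.exists_pos_notMem (𝒜 := 𝒜) x
    exact TopologicalSpace.Opens.mem_iSup.mpr ⟨⟨((f : A), m), hm, f.2⟩, hfx⟩
  · intro p
    exact Proj.isAffineOpen_basicOpen 𝒜 p.1.1 p.2.2 p.2.1
  · intro p
    exact finite_sections_basicOpen hfg hTF p.2.2 p.2.1

end Final

end Groth.Agent.Lib.GrModFT
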