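import Groth.Agent.Lib.GrModFT

/-!
# `M(n)~` is of finite type for a Noetherian graded module — any twist `n`, generators of any degrees (helper28)

* `frN hf n k i m` : the section `m / f ^ k` of `M(n)~` over `D₊(f)`, `m ∈ ℳ i`, `i = k d + n`;
* `finite_sections_basicOpen_of_noetherian` : `Γ(D₊(f), M(n)~)` is a finite `Γ(D₊(f), O)`-module when `M` is Noetherian;
* `isFT_tilde_of_noetherian`.
-/

set_option autoImplicit false
set_option linter.unusedSectionVars false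
universe u
open CategoryTheory AlgebraicGeometry TopologicalSpace Opposite
open GrTwist

namespace Groth.Agent.Lib.GrModFTn

open Groth.Agent.Lib.GrModQCoh Groth.Agent.Lib.GrModFrac Groth.Agent.Lib.GrModVal Groth.Agent.Lib.GrModFT

variable {A σ : Type u} [CommRing A] [SetLike σ A] [AddSubgroupClass σ A] {𝒜 : ℕ → σ} [GradedRing 𝒜]
variable {M τ : Type u} [AddCommGroup M] [Module A M] [SetLike τ M] [AddSubgroupClass τ M] {ℳ : ℕ → τ}
  [DirectSum.Decomposition ℳ] [SetLike.GradedSMul 𝒜 ℳ]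

section FrN

variable {d : ℕ} {f : A} (hf : f ∈ 𝒜 d) (n : ℤ)

/-- The section `m / f ^ k` of `M(n)~` over `D₊(f)` (zero unless `m ∈ ℳ i` and `i = k d + n`). -/
noncomputable def frN (k i : ℕ) (m : M) : Γ(GrMod.tilde 𝒜 ℳ n, Proj.basicOpen 𝒜 f) :=
  open Classical in
  if hm : m ∈ ℳ i ∧ (i : ℤ) = k * d + n then
    fracSecQ (ℳ := ℳ) (n := n) hm.1 (SetLike.pow_mem_graded k hf) (by rw [hm.2]; simp) (Proj.basicOpen 𝒜 f)
      (fun x => pow_notMem x k)
  else 0

variable {n}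

theorem tval_frN {k i : ℕ} {m : M} (hm : m ∈ ℳ i) (hi : (i : ℤ) = k * d + n) (x : Proj.basicOpen 𝒜 f) :
    tval (frN (ℳ := ℳ) hf n k i m) x = LocalizedModule.mk m ⟨f ^ k, pow_notMem x k⟩ := by
  unfold frN
  rw [dif_pos ⟨hm, hi⟩]
  rfl

theorem frN_add {k i : ℕ} {m m' : M} (hm : m ∈ ℳ i) (hm' : m' ∈ ℳ i) (hi : (i : ℤ) = k * d + n) :
    frN (ℳ := ℳ) hf n k i (m + m') = frN hf n k i m + frN hf n k i m' := by
  refine tsec_ext fun x => ?_
  rw [tval_add, tval_frN hf hm hi, tval_frN hf hm' hi, tval_frN hf (add_mem hm hm') hi, mk_add_same]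

theorem frN_zero {k i : ℕ} (hi : (i : ℤ) = k * d + n) : frN (ℳ := ℳ) hf n k i 0 = 0 := by
  refine tsec_ext fun x => ?_
  rw [tval_frN hf (zero_mem _) hi, tval_zero, LocalizedModule.zero_mk]

theorem frN_sum {ι : Type*} (s : Finset ι) {k i : ℕ} (hi : (i : ℤ) = k * d + n) (m : ι → M)
    (hm : ∀ j ∈ s, m j ∈ ℳ i) :
    frN (ℳ := ℳ) hf n k i (∑ j ∈ s, m j) = ∑ j ∈ s, frN hf n k i (m j) := by
  classical
  induction s using Finset.induction_on with
  | empty => simp [frN_zero hf hi]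
  | insert a s ha ih =>
    rw [Finset.sum_insert ha, Finset.sum_insert ha,
      frN_add hf (hm a (Finset.mem_insert_self a s))
        (sum_mem fun j hj => hm j (Finset.mem_insert_of_mem hj)) hi,
      ih fun j hj => hm j (Finset.mem_insert_of_mem hj)]

theorem shift_deg {k i : ℕ} (hi : (i : ℤ) = k * d + n) (l : ℕ) :
    ((l • d + i : ℕ) : ℤ) = ((l + k : ℕ) : ℤ) * d + n := by
  rw [smul_eq_mul]
  push_cast
  rw [hi]
  ring

theorem frN_shift {k i : ℕ} {m : M} (hm : m ∈ ℳ i) (hi : (i : ℤ) = k * d + n) (l : ℕ) :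
    frN (ℳ := ℳ) hf n k i m = frN hf n (l + k) (l • d + i) (f ^ l • m) := by
  have h1 : f ^ l ∈ 𝒜 (l • d) := SetLike.pow_mem_graded l hf
  have h2 : f ^ l • m ∈ ℳ (l • d + i) := SetLike.GradedSMul.smul_mem h1 hm
  refine tsec_ext fun x => ?_
  rw [tval_frN hf hm hi, tval_frN hf h2 (shift_deg hi l)]
  rw [mk_eq_mk_of_smul m (f ^ l) (f ^ k) (pow_notMem x k) (by rw [← pow_add]; exact pow_notMem x _)]
  congr 1
  exact Subtype.ext (show f ^ l * f ^ k = f ^ (l + k) by rw [pow_add])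

/-- Every section of `M(n)~` over `D₊(f)` is some `m / f ^ k`. -/
theorem exists_frN (hd : 0 < d) (t : Γ(GrMod.tilde 𝒜 ℳ n, Proj.basicOpen 𝒜 f)) :
    ∃ (k i : ℕ) (m : M), m ∈ ℳ i ∧ (i : ℤ) = k * d + n ∧ t = frN hf n k i m := by
  obtain ⟨k, i, m, hm, hi, h⟩ := exists_frac' hf hd t
  refine ⟨k, i, m, hm, hi, tsec_ext fun x => ?_⟩
  rw [tval_frN hf hm hi]
  exact h x (pow_notMem x k)

/-- Multiplication of `m / f ^ k` by the function `a / f ^ l`. -/
theorem smul_frN {k i l : ℕ} {m : M} (hm : m ∈ ℳ i) (hi : (i : ℤ) = k * d + n) {a : A} (ha : a ∈ 𝒜 (l • d)) :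
    (Proj.awayToSection 𝒜 f).hom (HomogeneousLocalization.Away.mk 𝒜 hf l a ha) • frN (ℳ := ℳ) hf n k i m =
      frN hf n (l + k) (l • d + i) (a • m) := by
  have ham : a • m ∈ ℳ (l • d + i) := SetLike.GradedSMul.smul_mem ha hm
  refine tsec_ext fun x => ?_
  rw [tval_smul, oval_awayToSection_mk, tval_frN hf hm hi, tval_frN hf ham (shift_deg hi l),
    LocalizedModule.mk_smul_mk]
  congr 1
  exact Subtype.ext (show f ^ l * f ^ k = f ^ (l + k) by rw [pow_add])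

end FrN

section Final

/-- For a Noetherian graded module, `Γ(D₊(f), M(n)~)` is a finite module over `Γ(D₊(f), O)`. -/
theorem finite_sections_basicOpen_of_noetherian [IsNoetherian A M] (n : ℤ) {d : ℕ} {f : A} (hf : f ∈ 𝒜 d)
    (hd : 0 < d) :
    Module.Finite Γ(Proj 𝒜, Proj.basicOpen 𝒜 f) Γ(GrMod.tilde 𝒜 ℳ n, Proj.basicOpen 𝒜 f) := by
  classical
  let S : Set M := {m | ∃ k i : ℕ, m ∈ ℳ i ∧ (i : ℤ) = k * d + n}
  have hfg : (Submodule.span A S).FG := IsNoetherian.noetherian _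
  obtain ⟨Z, hZsub, hZspan⟩ := (Submodule.fg_span_iff_fg_span_finset_subset _).mp hfg
  have hdeg : ∀ z : M, ∃ k i : ℕ, z ∈ (Z : Set M) → z ∈ ℳ i ∧ (i : ℤ) = k * d + n := by
    intro z
    by_cases hz : z ∈ (Z : Set M)
    · obtain ⟨k, i, h1, h2⟩ := hZsub hz
      exact ⟨k, i, fun _ => ⟨h1, h2⟩⟩
    · exact ⟨0, 0, fun h => absurd h hz⟩
  choose kz iz hkz using hdeg
  rw [Module.finite_def, Submodule.fg_def]
  refine ⟨(fun z => frN (ℳ := ℳ) hf n (kz z) (iz z) z) '' (Z : Set M), (Finset.finite_toSet Z).image _, ?_⟩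
  rw [eq_top_iff]
  intro t _
  obtain ⟨k, i, m, hm, hi, rfl⟩ := exists_frN hf hd t
  rw [frN_shift hf hm hi (Z.sup kz)]
  have hI : ((Z.sup kz • d + i : ℕ) : ℤ) = ((Z.sup kz + k : ℕ) : ℤ) * d + n := shift_deg hi (Z.sup kz)
  have hm' : f ^ (Z.sup kz) • m ∈ ℳ (Z.sup kz • d + i) :=
    SetLike.GradedSMul.smul_mem (SetLike.pow_mem_graded (Z.sup kz) hf) hm
  generalize Z.sup kz • d + i = I at hI hm' ⊢
  have hKle : ∀ y ∈ Z, kz y ≤ Z.sup kz + k := fun y hy => (Finset.le_sup hy).trans (Nat.le_add_right _ _)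
  generalize Z.sup kz + k = K at hI hKle ⊢
  generalize f ^ (Z.sup kz) • m = m' at hm' ⊢
  have hwN : m' ∈ Submodule.span A (Z : Set M) := by
    rw [← hZspan]
    exact Submodule.subset_span ⟨K, I, hm', hI⟩
  obtain ⟨c, -, hc⟩ := Submodule.mem_span_finset.mp hwN
  have h1 := congrArg (fun x => (DirectSum.decompose ℳ x I : M)) hc
  simp only at h1
  rw [DirectSum.decompose_of_mem_same ℳ hm', DirectSum.decompose_sum, DFinsupp.finsetSum_apply,
    AddSubmonoidClass.coe_finsetSum] at h1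
  have hle : ∀ y ∈ Z, iz y ≤ I := by
    intro y hy
    have h1 := (hkz y hy).2
    have h2 : (kz y : ℤ) ≤ K := by exact_mod_cast hKle y hy
    have h3 : (iz y : ℤ) ≤ I := by
      rw [h1, hI]
      have : (0 : ℤ) ≤ d := by positivity
      nlinarith
    exact_mod_cast h3
  have h2 : ∀ y ∈ Z, ((DirectSum.decompose ℳ (c y • y) I : ℳ I) : M) =
      (DirectSum.decompose 𝒜 (c y) (I - iz y) : A) • y := by
    intro y hy
    have hk' : I = (I - iz y) + iz y := by have := hle y hy; omega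
    conv_lhs => rw [hk']
    exact decompose_smul (𝒜 := 𝒜) (ℳ := ℳ) (hkz y hy).1 (c y) (I - iz y)
  rw [Finset.sum_congr rfl h2] at h1
  rw [← h1, frN_sum hf Z hI]
  · refine Submodule.sum_mem _ fun y hy => ?_
    have hdiff : I - iz y = (K - kz y) • d := by
      have : ((I - iz y : ℕ) : ℤ) = ((K - kz y : ℕ) : ℤ) * d := by
        rw [Nat.cast_sub (hle y hy), Nat.cast_sub (hKle y hy), hI, (hkz y hy).2]; ring
      rw [smul_eq_mul]; exact_mod_cast this
    have ha : (DirectSum.decompose 𝒜 (c y) (I - iz y) : A) ∈ 𝒜 ((K - kz y) • d) := hdiff ▸ SetLike.coe_mem _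
    have key := smul_frN (ℳ := ℳ) hf (hkz y hy).1 (hkz y hy).2 ha
    have e1 : (K - kz y) + kz y = K := by have := hKle y hy; omega
    have e2 : (K - kz y) • d + iz y = I := by rw [← hdiff]; have := hle y hy; omega
    rw [e1, e2] at key
    rw [← key]
    exact Submodule.smul_mem _ _ (Submodule.subset_span ⟨y, hy, rfl⟩)
  · intro y hy
    have h0 : (DirectSum.decompose 𝒜 (c y) (I - iz y) : A) ∈ 𝒜 (I - iz y) := SetLike.coe_mem _
    have h3 : (DirectSum.decompose 𝒜 (c y) (I - iz y) : A) • y ∈ ℳ (I - iz y + iz y) :=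
      SetLike.GradedSMul.smul_mem h0 (hkz y hy).1
    have e3 : I - iz y + iz y = I := by have := hle y hy; omega
    rwa [e3] at h3

/-- `M(n)~` is of finite type for a Noetherian graded module `M`. -/
theorem isFT_tilde_of_noetherian [IsNoetherian A M] (n : ℤ) : CohB1.IsFT (GrMod.tilde 𝒜 ℳ n) := by
  have : (GrMod.tilde 𝒜 ℳ n).IsQuasicoherent := isQCoh_tilde (𝒜 := 𝒜) (ℳ := ℳ) n
  refine Groth.Agent.Lib.H90OXModAffineFT.isFiniteType_of_affine_cover (GrMod.tilde 𝒜 ℳ n)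
    (fun p : {p : A × ℕ // 0 < p.2 ∧ p.1 ∈ 𝒜 p.2} => Proj.basicOpen 𝒜 p.1.1) ?_ ?_ ?_
  · rw [eq_top_iff]
    intro x _
    obtain ⟨m, hm, f, hfx⟩ := Groth.Agent.Lib.GrModVal.exists_pos_notMem (𝒜 := 𝒜) x
    exact TopologicalSpace.Opens.mem_iSup.mpr ⟨⟨((f : A), m), hm, f.2⟩, hfx⟩
  · intro p
    exact Proj.isAffineOpen_basicOpen 𝒜 p.1.1 p.2.2 p.2.1
  · intro p
    exact finite_sections_basicOpen_of_noetherian n p.2.2 p.2.1

end Final

end Groth.Agent.Lib.GrModFTn
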