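import Groth.Agent.Lib.GrModVal
import Mathlib.AlgebraicGeometry.ProjectiveSpectrum.Basic
import Mathlib.RingTheory.GradedAlgebra.Radical

/-!
# Sections of `M(n)~` over `D₊(f)` are single fractions — gradings by additive subgroups (helper28)

Port to `GrMod.tilde` (Def_GrMod3: `𝒜 : ℕ → σ`, `[AddSubgroupClass σ A]`, `[GradedRing 𝒜]`) of helper4's `Lib/H4GrTilde` and `S3587`
(which treat `GrTilde.tilde`, gradings by submodules over a base ring).

* `exists_pow_smul_eq_zero`: a fraction `m / f ^ k` vanishing on all of `D₊(f)` has numerator killed by a power of `f`;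
* `exists_pow_mem_span_of_cover`, `exists_homogeneous_combination`;
* `mval`, `exists_local_frac`, `exists_frac`: every section of `M(n)~` over `D₊(f)` is `m / f ^ k`.
-/

set_option autoImplicit false
set_option linter.unusedSectionVars false
universe u
open CategoryTheory AlgebraicGeometry TopologicalSpace Opposite

namespace Groth.Agent.Lib.GrModFrac

open Groth.Agent.Lib.GrModVal

variable {A σ : Type u} [CommRing A] [SetLike σ A] [AddSubgroupClass σ A] {𝒜 : ℕ → σ} [GradedRing 𝒜]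

section Vanish

variable (𝒜)
variable {M τ : Type u} [AddCommGroup M] [Module A M] [SetLike τ M] [AddSubgroupClass τ M] (ℳ : ℕ → τ)
  [DirectSum.Decomposition ℳ] [SetLike.GradedSMul 𝒜 ℳ]

/-- The annihilator of an element. -/
def ann (m : M) : Ideal A := LinearMap.ker (LinearMap.toSpanSingleton A M m)

omit [AddSubgroupClass τ M] in
lemma mem_ann (m : M) (a : A) : a ∈ ann (A := A) m ↔ a • m = 0 := by
  unfold ann
  rw [LinearMap.mem_ker, LinearMap.toSpanSingleton_apply]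

lemma ann_isHomogeneous (i : ℕ) (m : M) (hm : m ∈ ℳ i) : (ann (A := A) m).IsHomogeneous 𝒜 := by
  intro j a ha
  rw [mem_ann] at ha ⊢
  exact decompose_smul_eq_zero (𝒜 := 𝒜) (ℳ := ℳ) hm ha j

/-- A fraction `m / f ^ k` which vanishes at every point of `D₊(f)` has numerator killed by a power of `f`. -/
theorem exists_pow_smul_eq_zero {d : ℕ} (hd : 0 < d) {f : A} (hf : f ∈ 𝒜 d) (k i : ℕ) (m : ℳ i)
    (h : ∀ x : ProjectiveSpectrum.basicOpen 𝒜 f,
      (LocalizedModule.mk (m : M) ⟨f ^ k, fun h => (ProjectiveSpectrum.mem_basicOpen 𝒜 f x.1).mp x.2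
        (x.1.isPrime.mem_of_pow_mem k h)⟩ : GrMod.LocMod 𝒜 (M := M) x.1) = 0) :
    ∃ N : ℕ, f ^ N • (m : M) = 0 := by
  by_contra hcon
  push Not at hcon
  set I : Ideal A := ann (A := A) (m : M) with hI
  have hIhom : I.IsHomogeneous 𝒜 := ann_isHomogeneous 𝒜 ℳ i (m : M) m.2
  have hdisj : Disjoint (I : Set A) (Submonoid.powers f : Set A) := by
    rw [Set.disjoint_left]
    rintro a ha ⟨N, rfl⟩
    exact hcon N ((mem_ann (m : M) _).mp ha)
  obtain ⟨P, hP, hIP, hPf⟩ := Ideal.exists_le_prime_disjoint I (Submonoid.powers f) hdisj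
  have hfP : f ∉ P := fun hfP ↦ Set.disjoint_left.mp hPf hfP (Submonoid.mem_powers f)
  have hcore : I ≤ (P.homogeneousCore 𝒜).toIdeal := by
    rw [← hIhom.toIdeal_homogeneousCore_eq_self]
    exact Ideal.homogeneousCore_mono 𝒜 hIP
  have hfcore : f ∉ (P.homogeneousCore 𝒜).toIdeal :=
    fun hmem ↦ hfP (Ideal.toIdeal_homogeneousCore_le 𝒜 P hmem)
  have hfirr : f ∈ (HomogeneousIdeal.irrelevant 𝒜).toIdeal := by
    rw [HomogeneousIdeal.mem_iff, HomogeneousIdeal.mem_irrelevant_iff,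
      GradedRing.proj_apply, DirectSum.decompose_of_mem_ne 𝒜 hf hd.ne']
  obtain ⟨x, hxdef⟩ : ∃ x : ProjectiveSpectrum 𝒜, x.asHomogeneousIdeal = P.homogeneousCore 𝒜 :=
    ⟨⟨P.homogeneousCore 𝒜, hP.homogeneousCore, fun hle ↦ hfcore (hle hfirr)⟩, rfl⟩
  have hx : x ∈ ProjectiveSpectrum.basicOpen 𝒜 f := by
    rw [ProjectiveSpectrum.mem_basicOpen, hxdef]
    exact hfcore
  have h0 := h ⟨x, hx⟩
  rw [← LocalizedModule.zero_mk (1 : x.asHomogeneousIdeal.toIdeal.primeCompl),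
    LocalizedModule.mk_eq] at h0
  obtain ⟨u, hu⟩ := h0
  rw [smul_zero, smul_zero] at hu
  have hu' : (u : A) • (m : M) = 0 := by
    have : u • (1 : x.asHomogeneousIdeal.toIdeal.primeCompl) • (m : M) = (u : A) • (m : M) := by
      rw [one_smul]; rfl
    rw [← this]; exact hu
  have hle : (P.homogeneousCore 𝒜).toIdeal ≤ x.asHomogeneousIdeal.toIdeal := by
    rw [hxdef]
  exact u.2 (hle (hcore ((mem_ann (m : M) _).mpr hu')))

end Vanish

section Algebra

/-- If `D₊(f)` is covered by the `D₊(h)`, `h ∈ S` homogeneous, then a power of `f` lies in the ideal generated by `S`. -/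
theorem exists_pow_mem_span_of_cover {f : A} {d : ℕ} (hd : 0 < d) (hf : f ∈ 𝒜 d) (S : Set A)
    (hS : ∀ h ∈ S, SetLike.IsHomogeneousElem 𝒜 h)
    (hcov : ∀ x : ProjectiveSpectrum 𝒜, f ∉ x.asHomogeneousIdeal → ∃ h ∈ S, h ∉ x.asHomogeneousIdeal) :
    ∃ L : ℕ, f ^ L ∈ Ideal.span S := by
  classical
  by_contra H
  simp only [not_exists] at H
  have hdisj : Disjoint (Ideal.span S : Set A) (Submonoid.powers f : Set A) := by
    rw [Set.disjoint_left]
    rintro s hs ⟨N, rfl⟩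
    exact H N hs
  obtain ⟨p, hp, hIp, hpf⟩ := Ideal.exists_le_prime_disjoint (Ideal.span S) (Submonoid.powers f) hdisj
  have hfp : f ∉ p := fun hfp => Set.disjoint_left.mp hpf hfp (Submonoid.mem_powers f)
  let q : HomogeneousIdeal 𝒜 := p.homogeneousCore 𝒜
  have hqp : q.toIdeal ≤ p := Ideal.toIdeal_homogeneousCore_le 𝒜 p
  have hfq : f ∉ q := fun hfq => hfp (hqp hfq)
  let x : ProjectiveSpectrum 𝒜 := ⟨q, hp.homogeneousCore, fun hle =>
    hfq (hle (HomogeneousIdeal.mem_irrelevant_of_mem 𝒜 hd hf))⟩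
  obtain ⟨h, hhS, hhx⟩ := hcov x hfq
  apply hhx
  exact Ideal.mem_homogeneousCore_of_homogeneous_of_mem (hS h hhS) (hIp (Ideal.subset_span hhS))

/-- A homogeneous element of the ideal generated by homogeneous elements is a combination with homogeneous
coefficients. -/
theorem exists_homogeneous_combination {ι : Type*} [Fintype ι] (H : ι → A) (J : ι → ℕ)
    (hH : ∀ i, H i ∈ 𝒜 (J i)) {g : A} {e : ℕ} (hg : g ∈ 𝒜 e) (hmem : g ∈ Ideal.span (Set.range H)) :
    ∃ b : ι → A, (∀ i, b i ∈ 𝒜 (e - J i)) ∧ (∀ i, e < J i → b i = 0) ∧ ∑ i, b i * H i = g := by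
  classical
  obtain ⟨c, hc⟩ := (Ideal.mem_span_range_iff_exists_fun).mp hmem
  refine ⟨fun i => if J i ≤ e then (DirectSum.decompose 𝒜 (c i) (e - J i) : A) else 0, fun i => ?_,
    fun i hi => ?_, ?_⟩
  · simp only
    split_ifs
    · exact SetLike.coe_mem _
    · exact zero_mem _
  · simp only
    rw [if_neg (by omega)]
  · have h1 : (DirectSum.decompose 𝒜 g e : A) = g := DirectSum.decompose_of_mem_same 𝒜 hg
    rw [← h1, ← hc, DirectSum.decompose_sum, DFinsupp.finsetSum_apply, AddSubmonoidClass.coe_finsetSum]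
    refine Finset.sum_congr rfl fun i _ => ?_
    simp only
    split_ifs with hle
    · exact (DirectSum.coe_decompose_mul_of_right_mem_of_le 𝒜 (hH i) hle).symm
    · rw [zero_mul]
      exact (DirectSum.coe_decompose_mul_of_right_mem_of_not_le 𝒜 (hH i) hle).symm

end Algebra


section Sections

variable {M τ : Type u} [AddCommGroup M] [Module A M] [SetLike τ M] [AddSubgroupClass τ M] {ℳ : ℕ → τ}
  [DirectSum.Decomposition ℳ] [SetLike.GradedSMul 𝒜 ℳ]

/-- The value of a section of `M(n)~` at a point, in `M_x`. -/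
def mval {n : ℤ} {U : Opens (ProjectiveSpectrum.top 𝒜)} (s : GrMod.sect 𝒜 ℳ n (op U)) (x : U) :
    GrMod.LocMod 𝒜 (M := M) x.1 :=
  ((s.1 x : GrMod.tildeAt 𝒜 ℳ n x.1) : GrMod.LocMod 𝒜 (M := M) x.1)

theorem sect_ext {n : ℤ} {U : Opens (ProjectiveSpectrum.top 𝒜)} {s t : GrMod.sect 𝒜 ℳ n (op U)}
    (h : ∀ x : U, mval s x = mval t x) : s = t := by
  apply Subtype.ext
  funext x
  exact Subtype.ext (h x)

omit [DirectSum.Decomposition ℳ] [AddSubgroupClass τ M] [SetLike.GradedSMul 𝒜 ℳ] in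
theorem mk_eq_mk_of_smul {x : ProjectiveSpectrum 𝒜} (m : M) (a b : A)
    (hb : b ∉ x.asHomogeneousIdeal) (hab : a * b ∉ x.asHomogeneousIdeal) :
    (LocalizedModule.mk m ⟨b, hb⟩ : GrMod.LocMod 𝒜 (M := M) x) = LocalizedModule.mk (a • m) ⟨a * b, hab⟩ := by
  rw [LocalizedModule.mk_eq]
  refine ⟨1, ?_⟩
  simp only [one_smul]
  change (a * b) • m = b • a • m
  rw [smul_smul, mul_comm]

/-- Locally, a section over `D₊(f)` is a fraction `m / h` with `h` homogeneous of positive degree and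
`deg m = deg h + n`. -/
theorem exists_local_frac {n : ℤ} {d : ℕ} {f : A} (hf : f ∈ 𝒜 d) (hd : 0 < d)
    (s : GrMod.sect 𝒜 ℳ n (op (ProjectiveSpectrum.basicOpen 𝒜 f)))
    (x : ProjectiveSpectrum.basicOpen 𝒜 f) :
    ∃ (h : A) (j : ℕ) (i : ℕ) (m : M), 0 < j ∧ h ∈ 𝒜 j ∧ m ∈ ℳ i ∧ (i : ℤ) = j + n ∧
      h ∉ x.1.asHomogeneousIdeal ∧
      (∀ y : ProjectiveSpectrum 𝒜, h ∉ y.asHomogeneousIdeal → f ∉ y.asHomogeneousIdeal) ∧
      ∀ (y : ProjectiveSpectrum.basicOpen 𝒜 f) (hy : h ∉ y.1.asHomogeneousIdeal),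
        mval s y = LocalizedModule.mk m ⟨h, hy⟩ := by
  classical
  obtain ⟨V, hxV, ia, i₀, j₀, ⟨m₀, hm₀⟩, ⟨s₀, hs₀⟩, nin, c, w⟩ := s.2 x
  obtain ⟨_, ⟨r, rfl⟩, hxr, hrV⟩ :=
    (ProjectiveSpectrum.isTopologicalBasis_basic_opens 𝒜).exists_subset_of_mem_open hxV V.2
  have hxr' : x.1 ∈ ProjectiveSpectrum.basicOpen 𝒜 r := hxr
  rw [ProjectiveSpectrum.basicOpen_eq_union_of_projection, Opens.mem_iSup] at hxr'
  obtain ⟨e, hxe⟩ := hxr'
  set g : A := GradedRing.proj 𝒜 e r with hg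
  have hgmem : g ∈ 𝒜 e := SetLike.coe_mem (DirectSum.decompose 𝒜 r e)
  have hgV : ∀ y : ProjectiveSpectrum 𝒜, g ∉ y.asHomogeneousIdeal → y ∈ V := by
    intro y hy
    apply hrV
    have : y ∈ ProjectiveSpectrum.basicOpen 𝒜 r := by
      rw [ProjectiveSpectrum.basicOpen_eq_union_of_projection, Opens.mem_iSup]
      exact ⟨e, hy⟩
    exact this
  have hfx : f ∉ x.1.asHomogeneousIdeal := x.2
  have hgx : g ∉ x.1.asHomogeneousIdeal := hxe
  have hsx : s₀ ∉ x.1.asHomogeneousIdeal := nin ⟨x.1, hxV⟩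
  have hfg : f * g ∈ 𝒜 (d + e) := SetLike.mul_mem_graded hf hgmem
  have hh₁ : f * g * s₀ ∈ 𝒜 (d + e + j₀) := SetLike.mul_mem_graded hfg hs₀
  have hh₁x : f * g * s₀ ∉ x.1.asHomogeneousIdeal := fun h =>
    (x.1.isPrime.mem_or_mem h).elim (fun h' => (x.1.isPrime.mem_or_mem h').elim hfx hgx) hsx
  -- the value of the section on `D₊(f g s₀)`
  have key : ∀ (y : ProjectiveSpectrum.basicOpen 𝒜 f) (hy : f * g * s₀ ∉ y.1.asHomogeneousIdeal),
      mval s y = LocalizedModule.mk ((f * g) • m₀) ⟨f * g * s₀, hy⟩ := by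
    intro y hy
    have hgy : g ∉ y.1.asHomogeneousIdeal := fun h =>
      hy (Ideal.mul_mem_right _ _ (Ideal.mul_mem_left _ _ h))
    have hsy : s₀ ∉ y.1.asHomogeneousIdeal := fun h => hy (Ideal.mul_mem_left _ _ h)
    have hyV : y.1 ∈ V := hgV y.1 hgy
    have h1 := w ⟨y.1, hyV⟩
    have h2 : mval s y = LocalizedModule.mk m₀ ⟨s₀, hsy⟩ := h1
    rw [h2]
    exact mk_eq_mk_of_smul m₀ (f * g) s₀ hsy hy
  have hsub : ∀ y : ProjectiveSpectrum 𝒜, f * g * s₀ ∉ y.asHomogeneousIdeal → f ∉ y.asHomogeneousIdeal :=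
    fun y hy h => hy (Ideal.mul_mem_right _ _ (Ideal.mul_mem_right _ _ h))
  rcases c with c | c
  · refine ⟨f * g * s₀, d + e + j₀, d + e + i₀, (f * g) • m₀, by omega, hh₁,
      SetLike.GradedSMul.smul_mem hfg hm₀, ?_, hh₁x, hsub, key⟩
    have c' : (i₀ : ℤ) = j₀ + n := c
    push_cast
    omega
  · have c' : m₀ = 0 := c
    set K : ℕ := n.natAbs + 1 with hK
    have hKpos : 0 < K := Nat.succ_pos _
    have hnonneg : 0 ≤ ((K * (d + e + j₀) : ℕ) : ℤ) + n := by
      have h1 : (K : ℤ) ≤ ((K * (d + e + j₀) : ℕ) : ℤ) := by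
        have : K * 1 ≤ K * (d + e + j₀) := Nat.mul_le_mul_left K (by omega)
        exact_mod_cast (by omega : K ≤ K * (d + e + j₀))
      have h2 : (K : ℤ) = (n.natAbs : ℤ) + 1 := by rw [hK]; push_cast; ring
      omega
    refine ⟨(f * g * s₀) ^ K, K * (d + e + j₀), (((K * (d + e + j₀) : ℕ) : ℤ) + n).toNat, 0,
      Nat.mul_pos hKpos (by omega), ?_, zero_mem _, Int.toNat_of_nonneg hnonneg,
      fun h => hh₁x (x.1.isPrime.mem_of_pow_mem K h),
      fun y hy => hsub y (fun h => hy (Ideal.pow_mem_of_mem _ h K hKpos)), ?_⟩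
    · have := SetLike.pow_mem_graded K hh₁
      rwa [smul_eq_mul] at this
    · intro y hy
      have hy' : f * g * s₀ ∉ y.1.asHomogeneousIdeal := fun h =>
        hy (Ideal.pow_mem_of_mem _ h K hKpos)
      rw [key y hy', c', smul_zero, LocalizedModule.zero_mk, LocalizedModule.zero_mk]


/-- **Sections of `M(n)~` over `D₊(f)` are single fractions** (S3586). -/
theorem exists_frac {n : ℤ} {d : ℕ} {f : A} (hf : f ∈ 𝒜 d) (hd : 0 < d)
    (s : GrMod.sect 𝒜 ℳ n (op (ProjectiveSpectrum.basicOpen 𝒜 f))) :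
    ∃ (k i : ℕ) (m : M), m ∈ ℳ i ∧ (i : ℤ) = k * d + n ∧
      ∀ (x : ProjectiveSpectrum.basicOpen 𝒜 f) (hx : f ^ k ∉ x.1.asHomogeneousIdeal),
        mval s x = LocalizedModule.mk m ⟨f ^ k, hx⟩ := by
  classical
  choose h j i m hjpos hh hm hdeg hhx hsub hval using exists_local_frac hf hd s
  -- compactness of `D₊(f)`
  have hcompact : IsCompact (↑(ProjectiveSpectrum.basicOpen 𝒜 f) : Set (ProjectiveSpectrum 𝒜)) :=
    (Proj.isAffineOpen_basicOpen 𝒜 f hf hd).isCompact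
  obtain ⟨t, ht⟩ := hcompact.elim_finite_subcover
    (fun x : ProjectiveSpectrum.basicOpen 𝒜 f =>
      (↑(ProjectiveSpectrum.basicOpen 𝒜 (h x)) : Set (ProjectiveSpectrum 𝒜)))
    (fun x => (ProjectiveSpectrum.basicOpen 𝒜 (h x)).2)
    (fun y hy => Set.mem_iUnion.2 ⟨⟨y, hy⟩, hhx ⟨y, hy⟩⟩)
  have hcov : ∀ z : ProjectiveSpectrum 𝒜, f ∉ z.asHomogeneousIdeal → ∃ x ∈ t, h x ∉ z.asHomogeneousIdeal := by
    intro z hz
    obtain ⟨x, hxt, hzx⟩ := Set.mem_iUnion₂.1 (ht (show z ∈ _ from hz))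
    exact ⟨x, hxt, hzx⟩
  -- agreement on overlaps, up to a power
  have hdegeq : ∀ x y : ProjectiveSpectrum.basicOpen 𝒜 f, j y + i x = j x + i y := by
    intro x y
    have h1 := hdeg x
    have h2 := hdeg y
    omega
  have hover : ∀ x y : ProjectiveSpectrum.basicOpen 𝒜 f,
      ∃ N : ℕ, (h x * h y) ^ N • (h y • m x - h x • m y) = 0 := by
    intro x y
    have hmem : h y • m x - h x • m y ∈ ℳ (j y + i x) := by
      refine sub_mem (SetLike.GradedSMul.smul_mem (hh y) (hm x)) ?_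
      rw [hdegeq x y]
      exact SetLike.GradedSMul.smul_mem (hh x) (hm y)
    have hpos : 0 < j x + j y := by have := hjpos x; omega
    refine exists_pow_smul_eq_zero 𝒜 ℳ hpos (SetLike.mul_mem_graded (hh x) (hh y)) 0 (j y + i x)
      ⟨_, hmem⟩ ?_
    intro z
    have hz : h x * h y ∉ z.1.asHomogeneousIdeal := z.2
    have hzx : h x ∉ z.1.asHomogeneousIdeal := fun hc => hz (Ideal.mul_mem_right _ _ hc)
    have hzy : h y ∉ z.1.asHomogeneousIdeal := fun hc => hz (Ideal.mul_mem_left _ _ hc)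
    have hzf : f ∉ z.1.asHomogeneousIdeal := hsub x z.1 hzx
    have e1 := hval x ⟨z.1, hzf⟩ hzx
    have e2 := hval y ⟨z.1, hzf⟩ hzy
    rw [e1, LocalizedModule.mk_eq] at e2
    obtain ⟨u, hu⟩ := e2
    have hu' : (u : A) • (h y • m x - h x • m y) = 0 := by
      rw [smul_sub, sub_eq_zero]
      exact hu
    rw [← LocalizedModule.zero_mk (1 : z.1.asHomogeneousIdeal.toIdeal.primeCompl), LocalizedModule.mk_eq]
    refine ⟨u, ?_⟩
    rw [smul_zero, smul_zero]
    change (u : A) • ((1 : z.1.asHomogeneousIdeal.toIdeal.primeCompl) : A) • (h y • m x - h x • m y) = 0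
    rw [Submonoid.coe_one, one_smul, hu']
  choose N hN using hover
  set Nmax : ℕ := t.sup (fun x => t.sup (fun y => N x y)) with hNmax
  have hNle : ∀ x ∈ t, ∀ y ∈ t, N x y ≤ Nmax := by
    intro x hx y hy
    exact (Finset.le_sup (f := fun y => N x y) hy).trans
      (Finset.le_sup (f := fun x => t.sup (fun y => N x y)) hx)
  have hNmaxz : ∀ x ∈ t, ∀ y ∈ t, (h x * h y) ^ Nmax • (h y • m x - h x • m y) = 0 := by
    intro x hx y hy
    obtain ⟨c, hc⟩ := Nat.exists_eq_add_of_le (hNle x hx y hy)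
    rw [hc, pow_add, mul_comm, mul_smul, hN x y, smul_zero]
  -- the improved local data
  set H : ProjectiveSpectrum.basicOpen 𝒜 f → A := fun x => h x ^ Nmax * h x with hHdef
  set m' : ProjectiveSpectrum.basicOpen 𝒜 f → M := fun x => h x ^ Nmax • m x with hm'def
  have hHmem : ∀ x, H x ∈ 𝒜 (Nmax * j x + j x) := fun x => by
    have h1 := SetLike.pow_mem_graded Nmax (hh x)
    rw [smul_eq_mul] at h1
    exact SetLike.mul_mem_graded h1 (hh x)
  have hm'mem : ∀ x, m' x ∈ ℳ (Nmax * j x + i x) := fun x => by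
    have h1 := SetLike.pow_mem_graded Nmax (hh x)
    rw [smul_eq_mul] at h1
    exact SetLike.GradedSMul.smul_mem h1 (hm x)
  have hrel : ∀ x ∈ t, ∀ y ∈ t, H y • m' x = H x • m' y := by
    intro x hx y hy
    have h0 := hNmaxz x hx y hy
    rw [smul_sub, sub_eq_zero, smul_smul, smul_smul] at h0
    simp only [hHdef, hm'def]
    rw [smul_smul, smul_smul]
    have e1 : h y ^ Nmax * h y * h x ^ Nmax = (h x * h y) ^ Nmax * h y := by ring
    have e2 : h x ^ Nmax * h x * h y ^ Nmax = (h x * h y) ^ Nmax * h x := by ring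
    rw [e1, e2]
    exact h0
  have hHnot : ∀ (x : ProjectiveSpectrum.basicOpen 𝒜 f) (z : ProjectiveSpectrum 𝒜),
      h x ∉ z.asHomogeneousIdeal → H x ∉ z.asHomogeneousIdeal := by
    intro x z hz hc
    rcases z.isPrime.mem_or_mem hc with h1 | h1
    · exact hz (z.isPrime.mem_of_pow_mem Nmax h1)
    · exact hz h1
  have hval' : ∀ (x : ProjectiveSpectrum.basicOpen 𝒜 f) (z : ProjectiveSpectrum.basicOpen 𝒜 f)
      (hz : h x ∉ z.1.asHomogeneousIdeal),
      mval s z = LocalizedModule.mk (m' x) ⟨H x, hHnot x z.1 hz⟩ := by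
    intro x z hz
    rw [hval x z hz]
    exact mk_eq_mk_of_smul (m x) (h x ^ Nmax) (h x) hz (hHnot x z.1 hz)
  -- a power of `f` in the ideal generated by the `H x`, `x ∈ t`
  obtain ⟨L₀, hL₀⟩ := exists_pow_mem_span_of_cover hd hf (Set.range fun x : t => H x.1)
    (by
      rintro _ ⟨x, rfl⟩
      exact ⟨_, hHmem x.1⟩)
    (by
      intro z hz
      obtain ⟨x, hxt, hzx⟩ := hcov z hz
      exact ⟨H x, ⟨⟨x, hxt⟩, rfl⟩, hHnot x z hzx⟩)
  set B : ℕ := (t.sup fun x => Nmax * j x + j x) + n.natAbs with hB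
  set L : ℕ := L₀ + B with hL
  have hLmem : f ^ L ∈ Ideal.span (Set.range fun x : t => H x.1) := by
    rw [hL, pow_add]
    exact Ideal.mul_mem_right _ _ hL₀
  have hfL : f ^ L ∈ 𝒜 (L * d) := by
    have := SetLike.pow_mem_graded L hf
    rwa [smul_eq_mul] at this
  have hLd : B ≤ L * d := by
    have : L * 1 ≤ L * d := Nat.mul_le_mul_left L hd
    omega
  have hJle : ∀ x ∈ t, Nmax * j x + j x ≤ L * d := by
    intro x hx
    have h1 : Nmax * j x + j x ≤ t.sup fun x => Nmax * j x + j x :=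
      Finset.le_sup (f := fun x => Nmax * j x + j x) hx
    omega
  have hnn : 0 ≤ ((L * d : ℕ) : ℤ) + n := by
    have h1 : (n.natAbs : ℤ) ≤ ((L * d : ℕ) : ℤ) := by
      have : n.natAbs ≤ L * d := by omega
      exact_mod_cast this
    omega
  obtain ⟨b, hbmem, -, hbsum⟩ := exists_homogeneous_combination (fun x : t => H x.1)
    (fun x : t => Nmax * j x.1 + j x.1) (fun x => hHmem x.1) hfL hLmem
  refine ⟨L, (((L * d : ℕ) : ℤ) + n).toNat, ∑ x : t, b x • m' x.1, ?_, ?_, ?_⟩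
  · refine sum_mem fun x _ => ?_
    have h1 := SetLike.GradedSMul.smul_mem (hbmem x) (hm'mem x.1)
    have h2 : L * d - (Nmax * j x.1 + j x.1) + (Nmax * j x.1 + i x.1) =
        (((L * d : ℕ) : ℤ) + n).toNat := by
      have h3 := hJle x.1 x.2
      have h4 := hdeg x.1
      omega
    rw [← h2]
    exact h1
  · rw [Int.toNat_of_nonneg hnn]
    push_cast
    ring
  · intro z hz
    have hzf : f ∉ z.1.asHomogeneousIdeal := z.2
    obtain ⟨x, hxt, hzx⟩ := hcov z.1 hzf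
    rw [hval' x z hzx, LocalizedModule.mk_eq]
    refine ⟨1, ?_⟩
    simp only [one_smul]
    change f ^ L • m' x = H x • ∑ y : t, b y • m' y.1
    rw [Finset.smul_sum, ← hbsum, Finset.sum_smul]
    refine Finset.sum_congr rfl fun y _ => ?_
    rw [mul_smul, smul_comm (H x) (b y), hrel x hxt y.1 y.2]

end Sections



end Groth.Agent.Lib.GrModFrac
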