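import Groth.Agent.Lib.GrModFrac
import Groth.Agent.Lib.H90OXModPush
import Groth.Prelude.Def_GrTwist

/-!
# The sheaf `M(n)~` on `Proj` is quasi-coherent — gradings by additive subgroups (helper28)

Port to `GrMod.tilde` (Def_GrMod3) of helper4's `Lib/H4GrTildeQCoh` (with the needed parts of `H4TwistSec`, `H4TwistGamma`).

* `oval r x`: value in `A_x` of a function on an open of `Proj`; `oval_awayToSection_mk`, `awayToSection_bijective`;
* `tval`, `tsec_ext`, `tval_smul`, `fracSecQ`, `exists_frac'`, `mem_basicOpen_iff(_of_oval)`;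
* `isLocalizingOn_basicOpen`, `isQCoh_tilde`.
-/

set_option autoImplicit false
set_option linter.unusedSectionVars false
universe u
open CategoryTheory AlgebraicGeometry TopologicalSpace Opposite
open GrTwist

namespace Groth.Agent.Lib.GrModQCoh

open Groth.Agent.Lib.GrModFrac Groth.Agent.Lib.GrModVal

variable {A σ : Type u} [CommRing A] [SetLike σ A] [AddSubgroupClass σ A] {𝒜 : ℕ → σ} [GradedRing 𝒜]

/-- The value in `A_x` of a section of the structure sheaf at a point `x`. -/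
def oval {U : (Proj 𝒜).Opens} (r : Γ(Proj 𝒜, U)) (x : U) : Loc 𝒜 x.1 :=
  ((show O (𝒜 := 𝒜) (op U) from r).1 x).val

section OBasic

variable {U V : (Proj 𝒜).Opens}

theorem oval_ext {r r' : Γ(Proj 𝒜, U)} (h : ∀ x : U, oval r x = oval r' x) : r = r' := by
  apply Subtype.ext
  funext x
  exact HomogeneousLocalization.val_injective _ (h x)

@[simp] theorem oval_map (h : V ≤ U) (r : Γ(Proj 𝒜, U)) (x : V) :
    oval ((Proj 𝒜).presheaf.map (homOfLE h).op r) x = oval r ⟨x.1, h x.2⟩ := rfl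

@[simp] theorem oval_mul (r r' : Γ(Proj 𝒜, U)) (x : U) : oval (r * r') x = oval r x * oval r' x :=
  HomogeneousLocalization.val_mul _ _

@[simp] theorem oval_one (x : U) : oval (1 : Γ(Proj 𝒜, U)) x = 1 :=
  HomogeneousLocalization.val_one

end OBasic

section Away

open HomogeneousLocalization

/-- Values of `Proj.awayToSection`. -/
theorem oval_awayToSection (f : A) (b : Away 𝒜 f) (x : Proj.basicOpen 𝒜 f) :
    oval ((Proj.awayToSection 𝒜 f).hom b) x =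
      IsLocalization.map (M := Submonoid.powers f) (T := x.1.asHomogeneousIdeal.toIdeal.primeCompl)
        (Loc 𝒜 x.1) (RingHom.id A) (Submonoid.powers_le.mpr x.2) b.val :=
  ProjectiveSpectrum.Proj.awayToSection_apply 𝒜 f b x

theorem oval_awayToSection_mk {f : A} {m : ℕ} (hf : f ∈ 𝒜 m) (k : ℕ) (a : A) (ha : a ∈ 𝒜 (k • m))
    (x : Proj.basicOpen 𝒜 f) :
    oval ((Proj.awayToSection 𝒜 f).hom (Away.mk 𝒜 hf k a ha)) x =
      (Localization.mk a ⟨f ^ k, fun h => x.2 (x.1.isPrime.mem_of_pow_mem k h)⟩ : Loc 𝒜 x.1) := by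
  rw [oval_awayToSection, Away.val_mk, Localization.mk_eq_mk', IsLocalization.map_mk',
    Localization.mk_eq_mk']
  rfl

theorem awayToSection_bijective {f : A} {m : ℕ} (hf : f ∈ 𝒜 m) (hm : 0 < m) :
    Function.Bijective (Proj.awayToSection 𝒜 f).hom := by
  have : IsIso (Proj.awayToSection 𝒜 f) := (Proj.basicOpenIsoAway 𝒜 f hf hm).isIso_hom
  exact (ConcreteCategory.isIso_iff_bijective _).mp this

end Away

variable {M τ : Type u} [AddCommGroup M] [Module A M] [SetLike τ M] [AddSubgroupClass τ M] {ℳ : ℕ → τ}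
  [DirectSum.Decomposition ℳ] [SetLike.GradedSMul 𝒜 ℳ]

section Values

variable {n : ℤ} {U V : (Proj 𝒜).Opens}

/-- The value in `M_x` of a section of `M(n)~`. -/
def tval (t : Γ(GrMod.tilde 𝒜 ℳ n, U)) (x : U) : GrMod.LocMod 𝒜 (M := M) x.1 :=
  mval (show GrMod.sect 𝒜 ℳ n (op U) from t) x

theorem tsec_ext {t t' : Γ(GrMod.tilde 𝒜 ℳ n, U)} (h : ∀ x : U, tval t x = tval t' x) : t = t' :=
  sect_ext (s := (show GrMod.sect 𝒜 ℳ n (op U) from t)) (t := (show GrMod.sect 𝒜 ℳ n (op U) from t')) h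

theorem tval_smul (r : Γ(Proj 𝒜, U)) (t : Γ(GrMod.tilde 𝒜 ℳ n, U)) (x : U) :
    tval (r • t) x = oval r x • tval t x :=
  GrMod.coe_smul_val n x.1 _ _

@[simp] theorem tval_add (t t' : Γ(GrMod.tilde 𝒜 ℳ n, U)) (x : U) :
    tval (t + t') x = tval t x + tval t' x := rfl

@[simp] theorem tval_zero (x : U) : tval (0 : Γ(GrMod.tilde 𝒜 ℳ n, U)) x = 0 := rfl

@[simp] theorem tval_res (h : V ≤ U) (t : Γ(GrMod.tilde 𝒜 ℳ n, U)) (x : V) :
    tval ((GrMod.tilde 𝒜 ℳ n).presheaf.map (homOfLE h).op t) x = tval t ⟨x.1, h x.2⟩ := rfl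

end Values


section Frac

variable {n : ℤ}

/-- The section `m / s` of `M(n)~` over an open on which `s` does not vanish. -/
def fracSecQ {i j : ℕ} {m : M} {s : A} (hm : m ∈ ℳ i) (hs : s ∈ 𝒜 j) (hdeg : (i : ℤ) = j + n)
    (U : (Proj 𝒜).Opens) (hU : ∀ x : U, s ∉ x.1.asHomogeneousIdeal) : Γ(GrMod.tilde 𝒜 ℳ n, U) :=
  show GrMod.sect 𝒜 ℳ n (op U) from
  ⟨fun x => ⟨LocalizedModule.mk m ⟨s, hU x⟩,
      Submodule.subset_span ⟨i, j, ⟨m, hm⟩, ⟨s, hs⟩, hU x, hdeg, rfl⟩⟩,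
    fun x => ⟨U, x.2, 𝟙 _, i, j, ⟨m, hm⟩, ⟨s, hs⟩, fun y => hU y, Or.inl hdeg, fun _ => rfl⟩⟩

@[simp] theorem tval_fracSecQ {i j : ℕ} {m : M} {s : A} (hm : m ∈ ℳ i) (hs : s ∈ 𝒜 j)
    (hdeg : (i : ℤ) = j + n) (U : (Proj 𝒜).Opens) (hU : ∀ x : U, s ∉ x.1.asHomogeneousIdeal) (x : U) :
    tval (fracSecQ (ℳ := ℳ) hm hs hdeg U hU) x = LocalizedModule.mk m ⟨s, hU x⟩ := rfl

/-- Sections of `M(n)~` over `D₊(f)` are single fractions `m / f ^ k`. -/
theorem exists_frac' {d : ℕ} {f : A} (hf : f ∈ 𝒜 d) (hd : 0 < d)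
    (t : Γ(GrMod.tilde 𝒜 ℳ n, Proj.basicOpen 𝒜 f)) :
    ∃ (k i : ℕ) (m : M), m ∈ ℳ i ∧ (i : ℤ) = k * d + n ∧
      ∀ (x : Proj.basicOpen 𝒜 f) (hx : f ^ k ∉ x.1.asHomogeneousIdeal),
        tval t x = LocalizedModule.mk m ⟨f ^ k, hx⟩ :=
  exists_frac hf hd (show GrMod.sect 𝒜 ℳ n (op (ProjectiveSpectrum.basicOpen 𝒜 f)) from t)

/-- `m / s = 0` in `M_x` if `u • m = 0` for some `u ∉ x`. -/
theorem mk_eq_zero_of_smul {x : ProjectiveSpectrum 𝒜} (m : M) (s u : A)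
    (hs : s ∉ x.asHomogeneousIdeal) (hu : u ∉ x.asHomogeneousIdeal) (h : u • m = 0) :
    (LocalizedModule.mk m ⟨s, hs⟩ : GrMod.LocMod 𝒜 (M := M) x) = 0 := by
  rw [← LocalizedModule.zero_mk (1 : x.asHomogeneousIdeal.toIdeal.primeCompl), LocalizedModule.mk_eq]
  refine ⟨⟨u, hu⟩, ?_⟩
  rw [smul_zero, smul_zero]
  change u • ((1 : x.asHomogeneousIdeal.toIdeal.primeCompl) : A) • m = 0
  rw [Submonoid.coe_one, one_smul, h]

end Frac

section BasicOpen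

variable {U : (Proj 𝒜).Opens}

/-- Membership in the non-vanishing locus of a function on `Proj`, through its value. -/
theorem mem_basicOpen_iff (c : Γ(Proj 𝒜, U)) (x : U) :
    x.1 ∈ (Proj 𝒜).basicOpen c ↔ IsUnit (oval c x) := by
  rw [Scheme.mem_basicOpen _ _ x.1 x.2]
  have h1 : IsUnit ((Proj 𝒜).presheaf.germ U x.1 x.2 c) ↔
      IsUnit (AlgebraicGeometry.Proj.stalkIso' 𝒜 x.1 ((Proj 𝒜).presheaf.germ U x.1 x.2 c)) :=
    (MulEquiv.isUnit_map (AlgebraicGeometry.Proj.stalkIso' 𝒜 x.1)).symm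
  rw [h1]
  have h2 : AlgebraicGeometry.Proj.stalkIso' 𝒜 x.1 ((Proj 𝒜).presheaf.germ U x.1 x.2 c) =
      (show O (𝒜 := 𝒜) (op U) from c).1 x :=
    AlgebraicGeometry.Proj.stalkIso'_germ 𝒜 U x.1 x.2 c
  rw [h2, ← HomogeneousLocalization.isUnit_iff_isUnit_val]
  rfl

/-- For `c = a / f ^ k` on `D₊(f)`: `x ∈ X_c ↔ a ∉ x`. -/
theorem mem_basicOpen_iff_of_oval (c : Γ(Proj 𝒜, U)) (x : U) (a s : A)
    (hs : s ∉ x.1.asHomogeneousIdeal) (hc : oval c x = Localization.mk a ⟨s, hs⟩) :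
    x.1 ∈ (Proj 𝒜).basicOpen c ↔ a ∉ x.1.asHomogeneousIdeal := by
  rw [mem_basicOpen_iff, hc, Localization.mk_eq_mk',
    IsLocalization.AtPrime.isUnit_mk'_iff (Loc 𝒜 x.1) x.1.asHomogeneousIdeal.toIdeal]
  rfl

end BasicOpen


section QCoh

open Groth.Agent.Lib.QCohStalk

theorem oval_pow {U : (Proj 𝒜).Opens} (r : Γ(Proj 𝒜, U)) (k : ℕ) (x : U) :
    oval (r ^ k) x = oval r x ^ k :=
  HomogeneousLocalization.val_pow _ _

/-- `m / s = 0` in `M_x` implies `u • m = 0` for some `u ∉ x`. -/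
theorem exists_smul_eq_zero_of_mk_eq_zero {x : ProjectiveSpectrum 𝒜} (m : M) (s : A)
    (hs : s ∉ x.asHomogeneousIdeal)
    (h : (LocalizedModule.mk m ⟨s, hs⟩ : GrMod.LocMod 𝒜 (M := M) x) = 0) :
    ∃ u : A, u ∉ x.asHomogeneousIdeal ∧ u • m = 0 := by
  rw [← LocalizedModule.zero_mk (1 : x.asHomogeneousIdeal.toIdeal.primeCompl), LocalizedModule.mk_eq] at h
  obtain ⟨u, hu⟩ := h
  refine ⟨u.1, u.2, ?_⟩
  rw [smul_zero, smul_zero] at hu
  have hu' : (u : A) • ((1 : x.asHomogeneousIdeal.toIdeal.primeCompl) : A) • m = 0 := hu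
  rwa [Submonoid.coe_one, one_smul] at hu'

/-- `M(n)~` is localizing on `D₊(f)`: restriction to the basic opens of the affine `D₊(f)` is localization. -/
theorem isLocalizingOn_basicOpen (n : ℤ) {d : ℕ} {f : A} (hf : f ∈ 𝒜 d) (hd : 0 < d) :
    Groth.Agent.Lib.AssPush.IsLocalizingOn (GrMod.tilde 𝒜 ℳ n) (Proj.basicOpen 𝒜 f) := by
  -- functions on `D₊(f)` are fractions `a / f ^ k`
  have hfun : ∀ g : Γ(Proj 𝒜, Proj.basicOpen 𝒜 f), ∃ (k : ℕ) (a : A), a ∈ 𝒜 (k • d) ∧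
      ∀ (x : Proj.basicOpen 𝒜 f) (hx : f ^ k ∉ x.1.asHomogeneousIdeal),
        oval g x = Localization.mk a ⟨f ^ k, hx⟩ := by
    intro g
    obtain ⟨b, hb⟩ := (awayToSection_bijective hf hd).2 g
    obtain ⟨k, a, ha, rfl⟩ := HomogeneousLocalization.Away.mk_surjective 𝒜 hf b
    refine ⟨k, a, ha, fun x hx => ?_⟩
    rw [← hb, oval_awayToSection_mk]
  have hpow : ∀ (x : Proj.basicOpen 𝒜 f) (k : ℕ), f ^ k ∉ x.1.asHomogeneousIdeal :=
    fun x k h => x.2 (x.1.isPrime.mem_of_pow_mem k h)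
  constructor
  · intro g t
    obtain ⟨k, a, ha, hg⟩ := hfun g
    have hfa : f * a ∈ 𝒜 (d + k • d) := SetLike.mul_mem_graded hf ha
    have hW : ∀ x : Proj.basicOpen 𝒜 f, x.1 ∈ (Proj 𝒜).basicOpen g ↔ a ∉ x.1.asHomogeneousIdeal :=
      fun x => mem_basicOpen_iff_of_oval g x a (f ^ k) (hpow x k) (hg x (hpow x k))
    have hle : Proj.basicOpen 𝒜 (f * a) ≤ (Proj 𝒜).basicOpen g := by
      intro x hx
      have hxf : f ∉ x.asHomogeneousIdeal := fun h => hx (Ideal.mul_mem_right _ _ h)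
      have hxa : a ∉ x.asHomogeneousIdeal := fun h => hx (Ideal.mul_mem_left _ _ h)
      exact (hW ⟨x, hxf⟩).mpr hxa
    obtain ⟨K, i, m, hm, hdeg, hval⟩ := exists_frac' hfa (by omega) (res (GrMod.tilde 𝒜 ℳ n) hle t)
    have hfpow : f ^ (K * (k + 1)) ∈ 𝒜 ((K * (k + 1)) • d) := SetLike.pow_mem_graded _ hf
    have hdeg' : (i : ℤ) = (((K * (k + 1)) • d : ℕ) : ℤ) + n := by
      rw [hdeg]
      simp only [smul_eq_mul]
      push_cast
      ring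
    refine ⟨K, fracSecQ (ℳ := ℳ) hm hfpow hdeg' (Proj.basicOpen 𝒜 f) (fun x => hpow x _), ?_⟩
    apply tsec_ext
    intro x
    have hxf : f ∉ x.1.asHomogeneousIdeal := (Proj 𝒜).basicOpen_le g x.2
    have hxa : a ∉ x.1.asHomogeneousIdeal := (hW ⟨x.1, hxf⟩).mp x.2
    have hxfa : f * a ∉ x.1.asHomogeneousIdeal := fun h =>
      (x.1.isPrime.mem_or_mem h).elim hxf hxa
    have hxfaK : (f * a) ^ K ∉ x.1.asHomogeneousIdeal := fun h =>
      hxfa (x.1.isPrime.mem_of_pow_mem K h)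
    have h1 : tval t x = LocalizedModule.mk m ⟨(f * a) ^ K, hxfaK⟩ := hval ⟨x.1, hxfa⟩ hxfaK
    have h2 : oval (resO (Proj 𝒜) ((Proj 𝒜).basicOpen_le g) g ^ K) x =
        (Localization.mk a ⟨f ^ k, hpow ⟨x.1, hxf⟩ k⟩ : Loc 𝒜 x.1) ^ K := by
      rw [oval_pow]
      congr 1
      exact hg ⟨x.1, hxf⟩ (hpow ⟨x.1, hxf⟩ k)
    rw [tval_smul, h2, h1, Localization.mk_pow, LocalizedModule.mk_smul_mk]
    change _ = LocalizedModule.mk m ⟨f ^ (K * (k + 1)), hpow ⟨x.1, hxf⟩ _⟩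
    rw [LocalizedModule.mk_eq]
    refine ⟨1, ?_⟩
    simp only [one_smul]
    change f ^ (K * (k + 1)) • a ^ K • m = ((f ^ k) ^ K * (f * a) ^ K) • m
    rw [smul_smul]
    congr 1
    ring
  · intro g s hs
    obtain ⟨k, a, ha, hg⟩ := hfun g
    have hfa : f * a ∈ 𝒜 (d + k • d) := SetLike.mul_mem_graded hf ha
    have hW : ∀ x : Proj.basicOpen 𝒜 f, x.1 ∈ (Proj 𝒜).basicOpen g ↔ a ∉ x.1.asHomogeneousIdeal :=
      fun x => mem_basicOpen_iff_of_oval g x a (f ^ k) (hpow x k) (hg x (hpow x k))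
    obtain ⟨K, i, m, hm, hdeg, hval⟩ := exists_frac' hf hd s
    obtain ⟨N, hN⟩ : ∃ N : ℕ, (f * a) ^ N • m = 0 := by
      refine exists_pow_smul_eq_zero 𝒜 ℳ (by omega : 0 < d + k • d) hfa 0 i ⟨m, hm⟩ ?_
      intro x
      have hx : f * a ∉ x.1.asHomogeneousIdeal := x.2
      have hxf : f ∉ x.1.asHomogeneousIdeal := fun h => hx (Ideal.mul_mem_right _ _ h)
      have hxa : a ∉ x.1.asHomogeneousIdeal := fun h => hx (Ideal.mul_mem_left _ _ h)
      have hxW : x.1 ∈ (Proj 𝒜).basicOpen g := (hW ⟨x.1, hxf⟩).mpr hxa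
      have h0 : tval (res (GrMod.tilde 𝒜 ℳ n) ((Proj 𝒜).basicOpen_le g) s) ⟨x.1, hxW⟩ = 0 := by
        rw [hs]; rfl
      have h1 : tval s ⟨x.1, hxf⟩ = 0 := h0
      rw [hval ⟨x.1, hxf⟩ (hpow ⟨x.1, hxf⟩ K)] at h1
      obtain ⟨u, hu, hum⟩ := exists_smul_eq_zero_of_mk_eq_zero m _ _ h1
      exact mk_eq_zero_of_smul m _ u _ hu hum
    refine ⟨N, ?_⟩
    apply tsec_ext
    intro x
    rw [tval_smul, oval_pow, hg x (hpow x k), hval x (hpow x K), Localization.mk_pow,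
      LocalizedModule.mk_smul_mk, tval_zero]
    refine mk_eq_zero_of_smul _ _ (f ^ N) _ (hpow x N) ?_
    rw [smul_smul, ← mul_pow, hN]

/-- **`M(n)~` is quasi-coherent** (S3545). -/
theorem isQCoh_tilde (n : ℤ) : Coh.IsQCoh (GrMod.tilde 𝒜 ℳ n) := by
  refine Groth.Agent.Lib.H90OXModPush.isQuasicoherent_of_isLocalizingOn_cover (GrMod.tilde 𝒜 ℳ n)
    (fun p : {p : A × ℕ // 0 < p.2 ∧ p.1 ∈ 𝒜 p.2} => Proj.basicOpen 𝒜 p.1.1) ?_ ?_ ?_
  · rw [eq_top_iff]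
    intro x _
    obtain ⟨m, hm, f, hfx⟩ := exists_pos_notMem (𝒜 := 𝒜) x
    exact TopologicalSpace.Opens.mem_iSup.mpr ⟨⟨((f : A), m), hm, f.2⟩, hfx⟩
  · intro p
    exact Proj.isAffineOpen_basicOpen 𝒜 p.1.1 p.2.2 p.2.1
  · intro p
    exact isLocalizingOn_basicOpen n p.2.2 p.2.1

end QCoh



end Groth.Agent.Lib.GrModQCoh
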