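import Groth.Agent.Lib.GrModFT

/-!
# Graded algebra for `M~ = 0 ⇒ (TN)` — gradings by additive subgroups (helper28)

Port of helper4's `Lib/H4GrTildeTN` to the `GrMod` setting, plus the step from vanishing sections.

* `mem_irrelevant_pow` : if `A₊` is generated by `A₁` then `A_t ⊆ (A₊)^t`;
* `TN_of_forall_exists_pow_smul_eq_zero` : under (TF), `A₊` finitely generated and generated in degree one, if every
  element is killed by powers of the degree-one elements then (TN) holds;
* `exists_pow_smul_eq_zero_of_sections` : if all sections of `M~` vanish, every element is killed by powers of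
  homogeneous elements of positive degree;
* `TN_of_sections_eq_zero`.
-/

set_option autoImplicit false
set_option linter.unusedSectionVars false
universe u
open CategoryTheory AlgebraicGeometry TopologicalSpace Opposite
open scoped HomogeneousIdeal

namespace Groth.Agent.Lib.GrModTN

open Groth.Agent.Lib.GrModQCoh Groth.Agent.Lib.GrModFrac Groth.Agent.Lib.GrModVal Groth.Agent.Lib.GrModFT

variable {A σ : Type u} [CommRing A] [SetLike σ A] [AddSubgroupClass σ A] {𝒜 : ℕ → σ} [GradedRing 𝒜]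

/-- If the irrelevant ideal is generated in degree one, then `A_t ⊆ (A₊)^t`. -/
theorem mem_irrelevant_pow (hgen : (𝒜₊).toIdeal = Ideal.span (𝒜 1 : Set A)) :
    ∀ (t : ℕ) (a : A), a ∈ 𝒜 t → a ∈ (𝒜₊).toIdeal ^ t := by
  classical
  intro t
  induction t with
  | zero => intro a _; simp
  | succ t ih =>
    intro a ha
    have h1 : a ∈ (𝒜₊).toIdeal :=
      HomogeneousIdeal.mem_irrelevant_of_mem 𝒜 (Nat.succ_pos t) ha
    rw [hgen] at h1
    obtain ⟨n, f, g, hfg⟩ := Submodule.mem_span_set'.mp h1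
    have h2 : a = ∑ i, (DirectSum.decompose 𝒜 (f i) t : A) * (g i : A) := by
      have := congrArg (fun x => (DirectSum.decompose 𝒜 x (t + 1) : A)) hfg
      simp only at this
      rw [DirectSum.decompose_of_mem_same 𝒜 ha] at this
      rw [← this, DirectSum.decompose_sum, DFinsupp.finsetSum_apply, AddSubmonoidClass.coe_finsetSum]
      refine Finset.sum_congr rfl fun i _ => ?_
      rw [smul_eq_mul]
      exact DirectSum.coe_decompose_mul_add_of_right_mem 𝒜 (a := f i) (i := t) (g i).2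
    rw [h2, pow_succ]
    refine Ideal.sum_mem _ fun i _ => Ideal.mul_mem_mul (ih _ (SetLike.coe_mem _)) ?_
    rw [hgen]
    exact Ideal.subset_span (g i).2

variable {M τ : Type u} [AddCommGroup M] [Module A M] [SetLike τ M] [AddSubgroupClass τ M] {ℳ : ℕ → τ}
  [DirectSum.Decomposition ℳ] [SetLike.GradedSMul 𝒜 ℳ]

/-- Under (TF), with `A₊` finitely generated and generated in degree one: if every element is killed by powers of
the degree-one elements, then (TN) holds. -/
theorem TN_of_forall_exists_pow_smul_eq_zero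
    (hfg : (𝒜₊).toIdeal.FG)
    (hgen : (𝒜₊).toIdeal = Ideal.span (𝒜 1 : Set A))
    (hTF : ∃ n : ℕ, (Submodule.span A (⋃ k ∈ Set.Ici n, (ℳ k : Set M))).FG)
    (H : ∀ (z : M) (f : A), f ∈ 𝒜 1 → ∃ k : ℕ, f ^ k • z = 0) :
    ∃ n : ℕ, ∀ k : ℕ, n ≤ k → ∀ m ∈ ℳ k, m = 0 := by
  classical
  obtain ⟨n₀, hN⟩ := hTF
  obtain ⟨T, hTsub, hTspan⟩ := (Submodule.fg_span_iff_fg_span_finset_subset _).mp hN
  -- degrees of the generators
  have hdeg : ∀ z : M, ∃ d : ℕ, z ∈ (T : Set M) → z ∈ ℳ d := by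
    intro z
    by_cases hz : z ∈ (T : Set M)
    · have := hTsub hz
      simp only [Set.mem_iUnion] at this
      obtain ⟨d, -, hd⟩ := this
      exact ⟨d, fun _ => hd⟩
    · exact ⟨0, fun h => absurd h hz⟩
  choose dg hdg using hdeg
  -- powers of the irrelevant ideal kill the generators
  have hkill : ∀ z : M, ∃ m : ℕ, ∀ a ∈ (𝒜₊).toIdeal ^ m, a • z = 0 := by
    intro z
    have hle : (𝒜₊).toIdeal ≤ (ann (A := A) z).radical := by
      rw [hgen, Ideal.span_le]
      intro g hg
      obtain ⟨k, hk⟩ := H z g hg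
      exact ⟨k, (mem_ann z _).mpr hk⟩
    obtain ⟨m, hm⟩ := Ideal.exists_pow_le_of_le_radical_of_fg hle hfg
    exact ⟨m, fun a ha => (mem_ann z a).mp (hm ha)⟩
  choose mk hmk using hkill
  refine ⟨n₀ + T.sup dg + T.sup mk, fun k hk w hw => ?_⟩
  have hkn : n₀ ≤ k := by omega
  have hwN : w ∈ Submodule.span A (T : Set M) := by
    rw [← hTspan]
    apply Submodule.subset_span
    simp only [Set.mem_iUnion]
    exact ⟨k, hkn, hw⟩
  obtain ⟨c, -, hc⟩ := Submodule.mem_span_finset.mp hwN
  have h1 := congrArg (fun x => (DirectSum.decompose ℳ x k : M)) hc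
  simp only at h1
  rw [DirectSum.decompose_of_mem_same ℳ hw] at h1
  rw [← h1, DirectSum.decompose_sum, DFinsupp.finsetSum_apply, AddSubmonoidClass.coe_finsetSum]
  refine Finset.sum_eq_zero fun z hz => ?_
  have hzd : z ∈ ℳ (dg z) := hdg z hz
  have hd1 : dg z ≤ T.sup dg := Finset.le_sup hz
  have hm1 : mk z ≤ T.sup mk := Finset.le_sup hz
  have hk' : k = (k - dg z) + dg z := by omega
  rw [hk', decompose_smul (𝒜 := 𝒜) (ℳ := ℳ) hzd (c z) (k - dg z)]
  apply hmk z
  have h2 := mem_irrelevant_pow hgen (k - dg z) _ (SetLike.coe_mem (DirectSum.decompose 𝒜 (c z) (k - dg z)))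
  exact Ideal.pow_le_pow_right (by omega) h2

/-- If all sections of `M~` vanish, every element is killed by a power of each element of degree one. -/
theorem exists_pow_smul_eq_zero_of_sections
    (h0 : ∀ (V : (Proj 𝒜).Opens) (t : Γ(GrMod.tilde 𝒜 ℳ 0, V)), t = 0)
    (z : M) (f : A) (hf : f ∈ 𝒜 1) : ∃ k : ℕ, f ^ k • z = 0 := by
  classical
  have key : ∀ i : ℕ, ∃ N : ℕ, f ^ N • (DirectSum.decompose ℳ z i : M) = 0 := by
    intro i
    have hm : (DirectSum.decompose ℳ z i : M) ∈ ℳ (i * 1) := by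
      rw [mul_one]; exact SetLike.coe_mem _
    have hzero := h0 _ (fr (ℳ := ℳ) hf i (DirectSum.decompose ℳ z i : M))
    refine exists_pow_smul_eq_zero (𝒜 := 𝒜) (ℳ := ℳ) Nat.one_pos hf i (i * 1) ⟨_, hm⟩ fun x => ?_
    have h1 := tval_fr (ℳ := ℳ) hf hm ⟨x.1, x.2⟩
    rw [hzero, tval_zero] at h1
    exact h1.symm
  choose N hN using key
  refine ⟨(DirectSum.decompose ℳ z).support.sup N, ?_⟩
  set K := (DirectSum.decompose ℳ z).support.sup N with hK
  conv_lhs => rw [← DirectSum.sum_support_decompose ℳ z]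
  rw [Finset.smul_sum]
  refine Finset.sum_eq_zero fun i hi => ?_
  have hle : N i ≤ K := Finset.le_sup hi
  obtain ⟨c, hc⟩ := Nat.exists_eq_add_of_le hle
  rw [hc, pow_add, mul_comm, mul_smul, hN i, smul_zero]

/-- Under (TF), with `A₊` finitely generated and generated in degree one: if all sections of `M~` vanish, (TN) holds. -/
theorem TN_of_sections_eq_zero
    (hfg : (𝒜₊).toIdeal.FG)
    (hgen : (𝒜₊).toIdeal = Ideal.span (𝒜 1 : Set A))
    (hTF : ∃ n : ℕ, (Submodule.span A (⋃ k ∈ Set.Ici n, (ℳ k : Set M))).FG)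
    (h0 : ∀ (V : (Proj 𝒜).Opens) (t : Γ(GrMod.tilde 𝒜 ℳ 0, V)), t = 0) :
    ∃ n : ℕ, ∀ k : ℕ, n ≤ k → ∀ m ∈ ℳ k, m = 0 :=
  TN_of_forall_exists_pow_smul_eq_zero hfg hgen hTF fun z f hf =>
    exists_pow_smul_eq_zero_of_sections h0 z f hf

end Groth.Agent.Lib.GrModTN
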