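import Groth.Agent.Lib.GrTwistInv
import Groth.Agent.Lib.H4TensorPair
import Groth.Agent.Lib.H78AmpleUnit

/-!
# Serre twists on `Proj`: multiplication `O(m) × O(n) → O(m + n)` — gradings by additive subgroups (helper28)

Port to `GrTwist.twist` (Def_GrTwist) of helper4's `Lib/H4TwistMul`.

* `genAt hfd hU n k hk : Γ(O(k), U)` for `k = n * d` : the free generator `f ^ n` with a flexible index;
* `mulSec` / `mulPairing m n k h : Pairing O(m) O(n) O(k)` (`m + n = k`) : pointwise multiplication of sections;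
* `mulSec_genAt`: `f^a * f^b = f^(a+b)`;
* `twistMulIso` : `O(m) ⊗ O(n) ≅ O(m + n)` when every point avoids an element of degree one;
* `nonempty_twistZeroIso : O(0) ≅ O_X`.
-/

set_option autoImplicit false
set_option linter.unusedSectionVars false
universe u
open CategoryTheory AlgebraicGeometry TopologicalSpace Opposite
open GrTwist
open Groth.Agent.Lib.H90Invertible Groth.Agent.Lib.H4TensorPair

namespace Groth.Agent.Lib.GrTwistMul

open Groth.Agent.Lib.GrModQCoh Groth.Agent.Lib.GrTwistTilde Groth.Agent.Lib.GrTwistInv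

variable {A σ : Type u} [CommRing A] [SetLike σ A] [AddSubgroupClass σ A] {𝒜 : ℕ → σ} [GradedRing 𝒜]

section GenAt

variable {f : A} {d : ℕ} (hfd : f ∈ 𝒜 d) {U : (Proj 𝒜).Opens} (hU : ∀ x : U, f ∉ x.1.asHomogeneousIdeal)

/-- The section `x ↦ f ^ n` of `O(k)`, `k = n * d`, over an open on which `f ∈ 𝒜 d` vanishes nowhere. -/
def genAt (n k : ℤ) (hk : k = n * d) : Γ(twist 𝒜 k, U) :=
  (⟨fun x => ⟨(((fUnit x.1 f (hU x)) ^ n : (Loc 𝒜 x.1)ˣ) : Loc 𝒜 x.1),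
      twistAt_congr x.1 hk.symm (fUnit_zpow_mem (hU x) hfd n)⟩, by
    subst hk
    exact (show sectN (𝒜 := 𝒜) (n * d) (op U) from gen hfd hU n).2⟩ : sectN (𝒜 := 𝒜) k (op U))

@[simp] theorem sval_genAt (n k : ℤ) (hk : k = n * d) (x : U) :
    sval (genAt hfd hU n k hk) x = (((fUnit x.1 f (hU x)) ^ n : (Loc 𝒜 x.1)ˣ) : Loc 𝒜 x.1) := rfl

theorem isGen_genAt (n k : ℤ) (hk : k = n * d) : IsGen (twist 𝒜 k) U (genAt hfd hU n k hk) := by
  subst hk
  exact isGen_gen hfd hU n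

end GenAt

section Mul

variable {m n k : ℤ} {U : (Proj 𝒜).Opens}

/-- Pointwise product of a section of `O(m)` and a section of `O(n)`, a section of `O(k)`, `k = m + n`. -/
def mulSec (h : m + n = k) (a : Γ(twist 𝒜 m, U)) (b : Γ(twist 𝒜 n, U)) : Γ(twist 𝒜 k, U) :=
  (⟨fun x => ⟨sval a x * sval b x,
      twistAt_congr x.1 h (mul_mem_twistAt x.1 (sval_mem a x) (sval_mem b x))⟩, by
    intro x
    obtain ⟨V₁, hx₁, hV₁, i₁, j₁, a₁, s₁, nin₁, hd₁, w₁⟩ := exists_frac_twist a x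
    obtain ⟨V₂, hx₂, hV₂, i₂, j₂, a₂, s₂, nin₂, hd₂, w₂⟩ := exists_frac_twist b x
    have nin : ∀ y : (V₁ ⊓ V₂ : (Proj 𝒜).Opens), s₁.1 * s₂.1 ∉ y.1.asHomogeneousIdeal := fun y hy =>
      (y.1.isPrime.mem_or_mem hy).elim (nin₁ ⟨y.1, y.2.1⟩) (nin₂ ⟨y.1, y.2.2⟩)
    refine ⟨V₁ ⊓ V₂, ⟨hx₁, hx₂⟩, homOfLE (inf_le_left.trans hV₁), i₁ + i₂, j₁ + j₂,
      ⟨a₁.1 * a₂.1, SetLike.mul_mem_graded a₁.2 a₂.2⟩,
      ⟨s₁.1 * s₂.1, SetLike.mul_mem_graded s₁.2 s₂.2⟩, nin, ?_, ?_⟩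
    · rcases hd₁ with hd₁ | hd₁
      · rcases hd₂ with hd₂ | hd₂
        · left; push_cast; rw [← h]; linarith
        · right; show a₁.1 * a₂.1 = 0; rw [hd₂, mul_zero]
      · right; show a₁.1 * a₂.1 = 0; rw [hd₁, zero_mul]
    · intro y
      have e₁ := w₁ ⟨y.1, y.2.1⟩
      have e₂ := w₂ ⟨y.1, y.2.2⟩
      show sval a ⟨y.1, _⟩ * sval b ⟨y.1, _⟩ = _
      rw [e₁, e₂, Localization.mk_mul]
      rfl⟩ : sectN (𝒜 := 𝒜) k (op U))

@[simp] theorem sval_mulSec (h : m + n = k) (a : Γ(twist 𝒜 m, U)) (b : Γ(twist 𝒜 n, U)) (x : U) :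
    sval (mulSec h a b) x = sval a x * sval b x := rfl

variable (𝒜) in
/-- The multiplication pairing `O(m) × O(n) → O(k)`, `k = m + n`. -/
def mulPairing (m n k : ℤ) (h : m + n = k) : Pairing (twist 𝒜 m) (twist 𝒜 n) (twist 𝒜 k) where
  toFun _ a b := mulSec h a b
  add_left _ a a' b := sec_ext fun x => by simp only [sval_mulSec, sval_add]; ring
  add_right _ a b b' := sec_ext fun x => by simp only [sval_mulSec, sval_add]; ring
  smul_left _ r a b := sec_ext fun x => by simp only [sval_mulSec, sval_smul]; ring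
  smul_right _ r a b := sec_ext fun x => by simp only [sval_mulSec, sval_smul]; ring
  map _ _ _ := rfl

/-- `f^a * f^b = f^(a+b)`. -/
theorem mulSec_genAt {f : A} {d : ℕ} (hfd : f ∈ 𝒜 d) (hU : ∀ x : U, f ∉ x.1.asHomogeneousIdeal)
    (a b : ℤ) (h : m + n = k) (hm : m = a * d) (hn : n = b * d) (hk : k = (a + b) * d) :
    mulSec h (genAt hfd hU a m hm) (genAt hfd hU b n hn) = genAt hfd hU (a + b) k hk :=
  sec_ext fun y => by
    rw [sval_mulSec, sval_genAt, sval_genAt, sval_genAt, ← Units.val_mul, ← zpow_add]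

end Mul

section Iso

variable (𝒜)

/-- `O(m) ⊗ O(n) ≅ O(m + n)` on `Proj 𝒜` when every point avoids an element of degree one. -/
noncomputable def twistMulIso
    (hcov : ∀ x : ProjectiveSpectrum 𝒜, ∃ f ∈ 𝒜 1, f ∉ x.asHomogeneousIdeal) (m n : ℤ) :
    CohB1.tensorMod (twist 𝒜 m) (twist 𝒜 n) ≅ twist 𝒜 (m + n) :=
  (mulPairing 𝒜 m n (m + n) rfl).iso (by
    intro x
    obtain ⟨f, hf1, hfx⟩ := hcov x
    have hU : ∀ y : Proj.basicOpen 𝒜 f, f ∉ y.1.asHomogeneousIdeal := fun y => y.2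
    refine ⟨Proj.basicOpen 𝒜 f, genAt hf1 hU m m (by simp), genAt hf1 hU n n (by simp), hfx,
      isGen_genAt hf1 hU m m _, isGen_genAt hf1 hU n n _, ?_⟩
    have : (mulPairing 𝒜 m n (m + n) rfl).toFun (Proj.basicOpen 𝒜 f) (genAt hf1 hU m m (by simp))
        (genAt hf1 hU n n (by simp)) = genAt hf1 hU (m + n) (m + n) (by simp) :=
      mulSec_genAt hf1 hU m n rfl _ _ _
    rw [this]
    exact isGen_genAt hf1 hU (m + n) (m + n) _)

/-- `O(0) ≅ O_X`. -/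
theorem nonempty_twistZeroIso : Nonempty (twist 𝒜 0 ≅ Coh.structureModule (Proj 𝒜)) := by
  rw [nonempty_iso_structureModule_iff]
  have hU : ∀ y : (⊤ : (Proj 𝒜).Opens), (1 : A) ∉ y.1.asHomogeneousIdeal := fun y => one_notMem y.1
  exact ⟨genAt (d := 0) SetLike.GradedOne.one_mem hU 0 0 (by simp), isGen_genAt _ hU 0 0 _⟩

end Iso

end Groth.Agent.Lib.GrTwistMul
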