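import Groth.Agent.Lib.H4GrTildeQCoh
import Groth.Agent.Lib.H4TwistMul

/-!
# `M(n)~ ≅ M~ ⊗ O(n)` on `Proj` (helper4, GrTilde cluster; S4400)

* `Pairing.preHom_app_bijective_of_right`, `Pairing.isIso_hom_of_right`, `Pairing.isoOfRight` : a pairing
  `L × L' → N` induces `L ⊗ L' ≅ N` as soon as, locally, `L'` has a free generator `s'` and `β(-, s')` is bijective
  on sections over small opens;
* `exists_tfrac` : sections of `M(m)~` are locally single fractions;
* `smulSec h t τ` (`m + n = k`) : the product of a section of `M(m)~` and a section of `O(n)`, a section of `M(k)~`;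
  `smulPairing`;
* `tildeTwistIso hgen m n : M(m)~ ⊗ O(n) ≅ M(m + n)~`.
-/

set_option autoImplicit false
set_option linter.unusedSectionVars false
universe u
open CategoryTheory AlgebraicGeometry TopologicalSpace Opposite MonoidalCategory
open Groth.Agent.Lib.H90Invertible

namespace Groth.Agent.Lib.H4TensorPair

namespace Pairing

variable {X : Scheme.{u}} {L L' N : X.Modules} (β : Pairing L L' N)

open TensorProduct in
/-- Bijectivity of the pairing map on small opens when `L'` has a free generator `s'` and `β(-, s')` is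
bijective. -/
theorem preHom_app_bijective_of_right {V : X.Opens} {s' : Γ(L', V)} (hs' : IsGen L' V s')
    (hbij : ∀ (W : X.Opens) (hW : W ≤ V),
      Function.Bijective (fun a : Γ(L, W) => β.toFun W a (L'.presheaf.map (homOfLE hW).op s')))
    (W : X.Opens) (hW : W ≤ V) : Function.Bijective (β.preHom.app (op W)) := by
  set sW' : Γ(L', W) := L'.presheaf.map (homOfLE hW).op s' with hsW'
  have hφ : ∀ z : (CohB1.tensorPre L L').obj (op W), ∃ a : Γ(L, W),
      z = (show (CohB1.toPMod L).obj (op W) from a) ⊗ₜ (show (CohB1.toPMod L').obj (op W) from sW') := by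
    intro z
    induction z using TensorProduct.induction_on with
    | zero => exact ⟨0, (TensorProduct.zero_tmul _ _).symm⟩
    | tmul x y =>
      obtain ⟨b, rfl⟩ := (hs' W hW).2 y
      let b' : ↑((X.sheaf.obj ⋙ forget₂ CommRingCat RingCat).obj (op W)) := b
      refine ⟨b • x, ?_⟩
      exact (TensorProduct.tmul_smul b' _ _).trans (TensorProduct.smul_tmul' b' _ _)
    | add z z' ih ih' =>
      obtain ⟨a, rfl⟩ := ih
      obtain ⟨a', rfl⟩ := ih'
      exact ⟨a + a', (TensorProduct.add_tmul _ _ _).symm⟩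
  constructor
  · intro z z' hzz'
    obtain ⟨a, rfl⟩ := hφ z
    obtain ⟨a', rfl⟩ := hφ z'
    have : β.toFun W a sW' = β.toFun W a' sW' := hzz'
    rw [(hbij W hW).1 this]
  · intro y
    obtain ⟨a, ha⟩ := (hbij W hW).2 y
    exact ⟨(show (CohB1.toPMod L).obj (op W) from a) ⊗ₜ (show (CohB1.toPMod L').obj (op W) from sW'), ha⟩

/-- If `X` is covered by opens `V` on which `L'` has a free generator `s'` such that `β(-, s')` is bijective on
sections over every open of `V`, then the pairing induces an isomorphism `L ⊗ L' ≅ N`. -/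
theorem isIso_hom_of_right
    (hcov : ∀ x : X, ∃ (V : X.Opens) (s' : Γ(L', V)), x ∈ V ∧ IsGen L' V s' ∧
      ∀ (W : X.Opens) (hW : W ≤ V),
        Function.Bijective (fun a : Γ(L, W) => β.toFun W a (L'.presheaf.map (homOfLE hW).op s'))) :
    IsIso β.hom := by
  have hloc := locallyBijective_of_small (X := X)
    (P := (show X.PresheafOfModules from CohB1.tensorPre L L')) (Q := N.val) β.preHom (by
      intro x
      obtain ⟨V, s', hxV, hs', hb⟩ := hcov x
      exact ⟨V, hxV, fun W hW => β.preHom_app_bijective_of_right hs' hb W hW⟩)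
  have h1 : IsIso ((CohB1.sheafifyMod X).map β.preHom) :=
    isIso_sheafifyMod_map _ hloc.1 hloc.2
  have h2 : IsIso ((adj X).counit.app N) := inferInstance
  rw [hom_eq]
  exact @IsIso.comp_isIso _ _ _ _ _ _ _ h1 h2

/-- The isomorphism `L ⊗ L' ≅ N` of `isIso_hom_of_right`. -/
noncomputable def isoOfRight
    (hcov : ∀ x : X, ∃ (V : X.Opens) (s' : Γ(L', V)), x ∈ V ∧ IsGen L' V s' ∧
      ∀ (W : X.Opens) (hW : W ≤ V),
        Function.Bijective (fun a : Γ(L, W) => β.toFun W a (L'.presheaf.map (homOfLE hW).op s'))) :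
    CohB1.tensorMod L L' ≅ N :=
  haveI := β.isIso_hom_of_right hcov
  asIso β.hom

end Pairing

end Groth.Agent.Lib.H4TensorPair

namespace Groth.Agent.Lib.H4GrTilde

open Groth.Agent.Lib.H4Twist Twist Groth.Agent.Lib.H4TensorPair

variable {R A : Type u} [CommRing R] [CommRing A] [Algebra R A] {𝒜 : ℕ → Submodule R A} [GradedAlgebra 𝒜]
variable {M : Type u} [AddCommGroup M] [Module R M] [Module A M] [IsScalarTower R A M]
  {ℳ : ℕ → Submodule R M} [DirectSum.Decomposition ℳ] [SetLike.GradedSMul 𝒜 ℳ]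

section SMul

variable {m n k : ℤ} {U : (Proj 𝒜).Opens}

/-- Sections of `M(m)~` are locally single fractions. -/
theorem exists_tfrac (t : Γ(GrTilde.tilde 𝒜 ℳ m, U)) (x : U) :
    ∃ (V : (Proj 𝒜).Opens) (_ : x.1 ∈ V) (hVU : V ≤ U) (i j : ℕ) (mm : ℳ i) (s : 𝒜 j)
      (s_nin : ∀ y : V, s.1 ∉ y.1.asHomogeneousIdeal),
      ((i : ℤ) = j + m ∨ mm.1 = 0) ∧
        ∀ y : V, tval t ⟨y.1, hVU y.2⟩ = LocalizedModule.mk mm.1 ⟨s.1, s_nin y⟩ := by
  obtain ⟨V, hxV, iVU, i, j, mm, s, s_nin, h, w⟩ := (show GrTilde.sect 𝒜 ℳ m (op U) from t).2 x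
  exact ⟨V, hxV, iVU.le, i, j, mm, s, s_nin, h, fun y => w y⟩

/-- The product of a section of `M(m)~` and a section of `O(n)` is locally a single fraction of degree `m + n`. -/
theorem exists_smul_frac (h : m + n = k) (t : Γ(GrTilde.tilde 𝒜 ℳ m, U)) (τ : Γ(twist 𝒜 n, U)) (x : U) :
    ∃ (V : (Proj 𝒜).Opens) (_ : x.1 ∈ V) (hVU : V ≤ U) (i j : ℕ) (mm : ℳ i) (s : 𝒜 j)
      (s_nin : ∀ y : V, s.1 ∉ y.1.asHomogeneousIdeal),
      ((i : ℤ) = j + k ∨ mm.1 = 0) ∧
        ∀ y : V, sval τ ⟨y.1, hVU y.2⟩ • tval t ⟨y.1, hVU y.2⟩ =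
          (LocalizedModule.mk mm.1 ⟨s.1, s_nin y⟩ : GrTilde.LocMod 𝒜 (M := M) y.1) := by
  obtain ⟨V₁, hx₁, hV₁, i₁, j₁, m₁, s₁, nin₁, hd₁, w₁⟩ := exists_tfrac t x
  obtain ⟨V₂, hx₂, hV₂, i₂, j₂, a₂, s₂, nin₂, hd₂, w₂⟩ := Groth.Agent.Lib.H4Twist.exists_frac τ x
  have nin : ∀ y : (V₁ ⊓ V₂ : (Proj 𝒜).Opens), s₂.1 * s₁.1 ∉ y.1.asHomogeneousIdeal := fun y hy =>
    (y.1.isPrime.mem_or_mem hy).elim (nin₂ ⟨y.1, y.2.2⟩) (nin₁ ⟨y.1, y.2.1⟩)
  refine ⟨V₁ ⊓ V₂, ⟨hx₁, hx₂⟩, inf_le_left.trans hV₁, i₂ + i₁, j₂ + j₁,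
    ⟨a₂.1 • m₁.1, SetLike.GradedSMul.smul_mem a₂.2 m₁.2⟩,
    ⟨s₂.1 * s₁.1, SetLike.mul_mem_graded s₂.2 s₁.2⟩, nin, ?_, ?_⟩
  · rcases hd₁ with hd₁ | hd₁
    · rcases hd₂ with hd₂ | hd₂
      · left; push_cast; rw [← h]; linarith
      · right; show a₂.1 • m₁.1 = 0; rw [hd₂, zero_smul]
    · right; show a₂.1 • m₁.1 = 0; rw [hd₁, smul_zero]
  · intro y
    have e₁ := w₁ ⟨y.1, y.2.1⟩
    have e₂ := w₂ ⟨y.1, y.2.2⟩
    rw [e₁, e₂, LocalizedModule.mk_smul_mk]
    rfl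

/-- The product of a section of `M(m)~` and a section of `O(n)`, a section of `M(k)~`, `k = m + n`. -/
def smulSec (h : m + n = k) (t : Γ(GrTilde.tilde 𝒜 ℳ m, U)) (τ : Γ(twist 𝒜 n, U)) :
    Γ(GrTilde.tilde 𝒜 ℳ k, U) :=
  show GrTilde.sect 𝒜 ℳ k (op U) from
  ⟨fun x => ⟨sval τ x • tval t x, by
      obtain ⟨V, hxV, hVU, i, j, mm, s, s_nin, hd, w⟩ := exists_smul_frac h t τ x
      have e : sval τ x • tval t x =
          (LocalizedModule.mk mm.1 ⟨s.1, s_nin ⟨x.1, hxV⟩⟩ : GrTilde.LocMod 𝒜 (M := M) x.1) := w ⟨x.1, hxV⟩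
      rw [e]
      rcases hd with hd | hd
      · exact Submodule.subset_span ⟨i, j, mm, s, s_nin ⟨x.1, hxV⟩, hd, rfl⟩
      · rw [hd, LocalizedModule.zero_mk]
        exact Submodule.zero_mem _⟩, by
    intro x
    obtain ⟨V, hxV, hVU, i, j, mm, s, s_nin, hd, w⟩ := exists_smul_frac h t τ x
    exact ⟨V, hxV, homOfLE hVU, i, j, mm, s, s_nin, hd, fun y => w y⟩⟩

@[simp] theorem tval_smulSec (h : m + n = k) (t : Γ(GrTilde.tilde 𝒜 ℳ m, U)) (τ : Γ(twist 𝒜 n, U)) (x : U) :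
    tval (smulSec h t τ) x = sval τ x • tval t x := rfl

variable (𝒜 ℳ) in
/-- The multiplication pairing `M(m)~ × O(n) → M(k)~`, `k = m + n`. -/
def smulPairing (m n k : ℤ) (h : m + n = k) :
    Pairing (GrTilde.tilde 𝒜 ℳ m) (twist 𝒜 n) (GrTilde.tilde 𝒜 ℳ k) where
  toFun _ t τ := smulSec h t τ
  add_left _ a a' b := tsec_ext fun x => by
    rw [tval_smulSec, tval_add, tval_add, tval_smulSec, tval_smulSec, smul_add]
  add_right _ a b b' := tsec_ext fun x => by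
    rw [tval_smulSec, sval_add, tval_add, tval_smulSec, tval_smulSec, add_smul]
  smul_left _ r a b := tsec_ext fun x => by
    rw [tval_smulSec, tval_smul, tval_smul, tval_smulSec, smul_comm]
  smul_right _ r a b := tsec_ext fun x => by
    rw [tval_smulSec, sval_smul, tval_smul, tval_smulSec, mul_smul]
  map _ _ _ := rfl

end SMul

section Iso

variable (𝒜 ℳ)

/-- `M(m)~ ⊗ O(n) ≅ M(m + n)~` on `Proj 𝒜` when the irrelevant ideal is generated in degree one. -/
noncomputable def tildeTwistIso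
    (hgen : (HomogeneousIdeal.irrelevant 𝒜).toIdeal = Ideal.span (𝒜 1 : Set A)) (m n : ℤ) :
    CohB1.tensorMod (GrTilde.tilde 𝒜 ℳ m) (twist 𝒜 n) ≅ GrTilde.tilde 𝒜 ℳ (m + n) :=
  (smulPairing 𝒜 ℳ m n (m + n) rfl).isoOfRight (by
    intro x
    obtain ⟨f, hf1, hfx⟩ := exists_degree_one_notMem hgen x
    have hU : ∀ y : Proj.basicOpen 𝒜 f, f ∉ y.1.asHomogeneousIdeal := fun y => y.2
    refine ⟨Proj.basicOpen 𝒜 f, genAt hf1 hU n n (by simp), hfx, isGen_genAt hf1 hU n n _, ?_⟩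
    intro W hW
    have hUW : ∀ y : W, f ∉ y.1.asHomogeneousIdeal := fun y => hU ⟨y.1, hW y.2⟩
    refine Function.bijective_iff_has_inverse.mpr
      ⟨fun t' => smulSec (by ring : (m + n) + (-n) = m) t' (genAt hf1 hUW (-n) (-n) (by simp)), ?_, ?_⟩
    · intro t
      refine tsec_ext fun y => ?_
      change sval (genAt hf1 hUW (-n) (-n) _) y •
        (sval ((twist 𝒜 n).presheaf.map (homOfLE hW).op (genAt hf1 hU n n _)) y • tval t y) = tval t y
      rw [sval_map, sval_genAt, sval_genAt, smul_smul, ← Units.val_mul, ← zpow_add, neg_add_cancel, zpow_zero,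
        Units.val_one, one_smul]
    · intro t'
      refine tsec_ext fun y => ?_
      change sval ((twist 𝒜 n).presheaf.map (homOfLE hW).op (genAt hf1 hU n n _)) y •
        (sval (genAt hf1 hUW (-n) (-n) _) y • tval t' y) = tval t' y
      rw [sval_map, sval_genAt, sval_genAt, smul_smul, ← Units.val_mul, ← zpow_add, add_neg_cancel, zpow_zero,
        Units.val_one, one_smul])

/-- S4400: `M(n)~ ≅ M~ ⊗ O(n)`. -/
theorem nonempty_tilde_iso_twistBy
    (hgen : (HomogeneousIdeal.irrelevant 𝒜).toIdeal = Ideal.span (𝒜 1 : Set A)) (n : ℤ) :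
    Nonempty (GrTilde.tilde 𝒜 ℳ n ≅ Twist.twistBy 𝒜 (GrTilde.tilde 𝒜 ℳ 0) n) :=
  ⟨(eqToIso (by rw [zero_add]) : GrTilde.tilde 𝒜 ℳ n ≅ GrTilde.tilde 𝒜 ℳ (0 + n)) ≪≫
    (tildeTwistIso 𝒜 ℳ hgen 0 n).symm⟩

end Iso

end Groth.Agent.Lib.H4GrTilde
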