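import Groth.Agent.Lib.GrModQCoh
import Groth.Agent.Lib.GrTwistMul
import Groth.Agent.Lib.H4GrTildeTwist

/-!
# `M(m)~ × O(n) → M(m + n)~` on `Proj` — gradings by additive subgroups (helper28)

Port to `GrMod.tilde` / `GrTwist.twist` of helper4's `Lib/H4GrTildeTwist` (section `SMul` and `Iso`).

* `exists_tfrac` : sections of `M(m)~` are locally single fractions;
* `smulSec h t τ` (`m + n = k`) : the product of a section of `M(m)~` and a section of `O(n)`, a section of `M(k)~`;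
  `smulPairing`;
* `smulSec_genAt_bijective`: multiplication by `f^a` is bijective `M(m)~(W) → M(k)~(W)`;
* `tildeTwistIso hcov m n : M(m)~ ⊗ O(n) ≅ M(m + n)~`.
-/

set_option autoImplicit false
set_option linter.unusedSectionVars false
universe u
open CategoryTheory AlgebraicGeometry TopologicalSpace Opposite
open GrTwist
open Groth.Agent.Lib.H90Invertible Groth.Agent.Lib.H4TensorPair

namespace Groth.Agent.Lib.GrModTwist

open Groth.Agent.Lib.GrModQCoh Groth.Agent.Lib.GrTwistTilde Groth.Agent.Lib.GrTwistInv Groth.Agent.Lib.GrTwistMul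

variable {A σ : Type u} [CommRing A] [SetLike σ A] [AddSubgroupClass σ A] {𝒜 : ℕ → σ} [GradedRing 𝒜]
variable {M τ : Type u} [AddCommGroup M] [Module A M] [SetLike τ M] [AddSubgroupClass τ M] {ℳ : ℕ → τ}
  [DirectSum.Decomposition ℳ] [SetLike.GradedSMul 𝒜 ℳ]

section SMul

variable {m n k : ℤ} {U : (Proj 𝒜).Opens}

/-- Sections of `M(m)~` are locally single fractions. -/
theorem exists_tfrac (t : Γ(GrMod.tilde 𝒜 ℳ m, U)) (x : U) :
    ∃ (V : (Proj 𝒜).Opens) (_ : x.1 ∈ V) (hVU : V ≤ U) (i j : ℕ) (mm : ℳ i) (s : 𝒜 j)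
      (s_nin : ∀ y : V, s.1 ∉ y.1.asHomogeneousIdeal),
      ((i : ℤ) = j + m ∨ mm.1 = 0) ∧
        ∀ y : V, tval t ⟨y.1, hVU y.2⟩ = LocalizedModule.mk mm.1 ⟨s.1, s_nin y⟩ := by
  obtain ⟨V, hxV, iVU, i, j, mm, s, s_nin, h, w⟩ := (show GrMod.sect 𝒜 ℳ m (op U) from t).2 x
  exact ⟨V, hxV, iVU.le, i, j, mm, s, s_nin, h, fun y => w y⟩

/-- The product of a section of `M(m)~` and a section of `O(n)` is locally a single fraction of degree `m + n`. -/
theorem exists_smul_frac (h : m + n = k) (t : Γ(GrMod.tilde 𝒜 ℳ m, U)) (τ : Γ(twist 𝒜 n, U)) (x : U) :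
    ∃ (V : (Proj 𝒜).Opens) (_ : x.1 ∈ V) (hVU : V ≤ U) (i j : ℕ) (mm : ℳ i) (s : 𝒜 j)
      (s_nin : ∀ y : V, s.1 ∉ y.1.asHomogeneousIdeal),
      ((i : ℤ) = j + k ∨ mm.1 = 0) ∧
        ∀ y : V, sval τ ⟨y.1, hVU y.2⟩ • tval t ⟨y.1, hVU y.2⟩ =
          (LocalizedModule.mk mm.1 ⟨s.1, s_nin y⟩ : GrMod.LocMod 𝒜 (M := M) y.1) := by
  obtain ⟨V₁, hx₁, hV₁, i₁, j₁, m₁, s₁, nin₁, hd₁, w₁⟩ := exists_tfrac t x
  obtain ⟨V₂, hx₂, hV₂, i₂, j₂, a₂, s₂, nin₂, hd₂, w₂⟩ := exists_frac_twist τ x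
  have nin : ∀ y : (V₁ ⊓ V₂ : (Proj 𝒜).Opens), s₂.1 * s₁.1 ∉ y.1.asHomogeneousIdeal := fun y hy =>
    (y.1.isPrime.mem_or_mem hy).elim (nin₂ ⟨y.1, y.2.2⟩) (nin₁ ⟨y.1, y.2.1⟩)
  refine ⟨V₁ ⊓ V₂, ⟨hx₁, hx₂⟩, inf_le_left.trans hV₁, i₂ + i₁, j₂ + j₁,
    ⟨a₂.1 • m₁.1, SetLike.GradedSMul.smul_mem a₂.2 m₁.2⟩,
    ⟨s₂.1 * s₁.1, SetLike.mul_mem_graded s₂.2 s₁.2⟩, nin, ?_, ?_⟩
  · rcases hd₁ with hd₁ | hd₁
    · rcases hd₂ with hd₂ | hd₂
      · left; push_cast; rw [← h]; linarith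
      · right; show a₂.1 • m₁.1 = 0; rw [hd₂, zero_smul]
    · right; show a₂.1 • m₁.1 = 0; rw [hd₁, smul_zero]
  · intro y
    have e₁ := w₁ ⟨y.1, y.2.1⟩
    have e₂ := w₂ ⟨y.1, y.2.2⟩
    rw [e₁, e₂, LocalizedModule.mk_smul_mk]
    rfl

/-- The product of a section of `M(m)~` and a section of `O(n)`, a section of `M(k)~`, `k = m + n`. -/
def smulSec (h : m + n = k) (t : Γ(GrMod.tilde 𝒜 ℳ m, U)) (τ : Γ(twist 𝒜 n, U)) :
    Γ(GrMod.tilde 𝒜 ℳ k, U) :=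
  show GrMod.sect 𝒜 ℳ k (op U) from
  ⟨fun x => ⟨sval τ x • tval t x, by
      obtain ⟨V, hxV, hVU, i, j, mm, s, s_nin, hd, w⟩ := exists_smul_frac h t τ x
      have e : sval τ x • tval t x =
          (LocalizedModule.mk mm.1 ⟨s.1, s_nin ⟨x.1, hxV⟩⟩ : GrMod.LocMod 𝒜 (M := M) x.1) := w ⟨x.1, hxV⟩
      rw [e]
      rcases hd with hd | hd
      · exact Submodule.subset_span ⟨i, j, mm, s, s_nin ⟨x.1, hxV⟩, hd, rfl⟩
      · rw [hd, LocalizedModule.zero_mk]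
        exact Submodule.zero_mem _⟩, by
    intro x
    obtain ⟨V, hxV, hVU, i, j, mm, s, s_nin, hd, w⟩ := exists_smul_frac h t τ x
    exact ⟨V, hxV, homOfLE hVU, i, j, mm, s, s_nin, hd, fun y => w y⟩⟩

@[simp] theorem tval_smulSec (h : m + n = k) (t : Γ(GrMod.tilde 𝒜 ℳ m, U)) (τ : Γ(twist 𝒜 n, U)) (x : U) :
    tval (smulSec h t τ) x = sval τ x • tval t x := rfl

variable (𝒜 ℳ) in
/-- The multiplication pairing `M(m)~ × O(n) → M(k)~`, `k = m + n`. -/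
def smulPairing (m n k : ℤ) (h : m + n = k) :
    Pairing (GrMod.tilde 𝒜 ℳ m) (twist 𝒜 n) (GrMod.tilde 𝒜 ℳ k) where
  toFun _ t τ := smulSec h t τ
  add_left _ a a' b := tsec_ext fun x => by
    rw [tval_smulSec, tval_add, tval_add, tval_smulSec, tval_smulSec, smul_add]
  add_right _ a b b' := tsec_ext fun x => by
    rw [tval_smulSec, sval_add, tval_add, tval_smulSec, tval_smulSec, add_smul]
  smul_left _ r a b := tsec_ext fun x => by
    rw [tval_smulSec, tval_smul, tval_smul, tval_smulSec, smul_comm]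
  smul_right _ r a b := tsec_ext fun x => by
    rw [tval_smulSec, sval_smul, tval_smul, tval_smulSec, mul_smul]
  map _ _ _ := rfl

/-- Multiplication by `f^a` is bijective `M(m)~(W) → M(k)~(W)`, `k = m + a * d`. -/
theorem smulSec_genAt_bijective {f : A} {d : ℕ} (hfd : f ∈ 𝒜 d) (hU : ∀ x : U, f ∉ x.1.asHomogeneousIdeal)
    (a : ℤ) (h : m + n = k) (hn : n = a * d) :
    Function.Bijective (fun t : Γ(GrMod.tilde 𝒜 ℳ m, U) => smulSec h t (genAt hfd hU a n hn)) := by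
  refine Function.bijective_iff_has_inverse.mpr
    ⟨fun t' => smulSec (by rw [← h]; ring : k + (-n) = m) t' (genAt hfd hU (-a) (-n) (by rw [hn]; ring)), ?_, ?_⟩
  · intro t
    refine tsec_ext fun y => ?_
    change sval (genAt hfd hU (-a) (-n) _) y • (sval (genAt hfd hU a n hn) y • tval t y) = tval t y
    rw [sval_genAt, sval_genAt, smul_smul, ← Units.val_mul, ← zpow_add, neg_add_cancel, zpow_zero,
      Units.val_one, one_smul]
  · intro t'
    refine tsec_ext fun y => ?_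
    change sval (genAt hfd hU a n hn) y • (sval (genAt hfd hU (-a) (-n) _) y • tval t' y) = tval t' y
    rw [sval_genAt, sval_genAt, smul_smul, ← Units.val_mul, ← zpow_add, add_neg_cancel, zpow_zero,
      Units.val_one, one_smul]

end SMul

section Iso

variable (𝒜 ℳ)

/-- `M(m)~ ⊗ O(n) ≅ M(m + n)~` on `Proj 𝒜` when every point avoids an element of degree one. -/
noncomputable def tildeTwistIso
    (hcov : ∀ x : ProjectiveSpectrum 𝒜, ∃ f ∈ 𝒜 1, f ∉ x.asHomogeneousIdeal) (m n : ℤ) :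
    CohB1.tensorMod (GrMod.tilde 𝒜 ℳ m) (twist 𝒜 n) ≅ GrMod.tilde 𝒜 ℳ (m + n) :=
  (smulPairing 𝒜 ℳ m n (m + n) rfl).isoOfRight (by
    intro x
    obtain ⟨f, hf1, hfx⟩ := hcov x
    have hU : ∀ y : Proj.basicOpen 𝒜 f, f ∉ y.1.asHomogeneousIdeal := fun y => y.2
    refine ⟨Proj.basicOpen 𝒜 f, genAt hf1 hU n n (by simp), hfx, isGen_genAt hf1 hU n n _, ?_⟩
    intro W hW
    have hUW : ∀ y : W, f ∉ y.1.asHomogeneousIdeal := fun y => hU ⟨y.1, hW y.2⟩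
    exact smulSec_genAt_bijective (ℳ := ℳ) hf1 hUW n rfl (by simp))

end Iso

end Groth.Agent.Lib.GrModTwist
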