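import Groth.Prelude.Def_GrMod3

/-!
# Valuewise tools for the modules `M(n)~` on `Proj` (`GrMod.tilde`, gradings by additive subgroups) (helper28)

* `exists_decompose_notMem`, `exists_pos_notMem`: homogeneous elements outside a relevant homogeneous prime.
* `decompose_smul`: `((g • m)_{k+i} = g_k • m` for `m` homogeneous of degree `i`; `decompose_smul_eq_zero`.
* `mk_eq_zero_iff`, `mk_eq_zero_iff_homog`: vanishing of a fraction `m / s` in `M_y`.
* `tildeAt_eq_zero_of_TN`: under (TN) the degree-`n` fractions vanish.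
* `sec_ext`, `exists_frac`: sections are determined by their values; a section is locally one fraction.
* `fracSec`: the section `m / f` over an open inside `D₊(f)`.
-/

set_option autoImplicit false
universe u

open CategoryTheory CategoryTheory.Limits AlgebraicGeometry Opposite TopologicalSpace
open scoped HomogeneousIdeal

noncomputable section

namespace Groth.Agent.Lib.GrModVal

variable {A σ : Type u} [CommRing A] [SetLike σ A] [AddSubgroupClass σ A] {𝒜 : ℕ → σ} [GradedRing 𝒜]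

/-- An element outside a homogeneous prime has a homogeneous component outside it. -/
theorem exists_decompose_notMem (y : ProjectiveSpectrum 𝒜) {g : A} (hg : g ∉ y.asHomogeneousIdeal) :
    ∃ k, (DirectSum.decompose 𝒜 g k : A) ∉ y.asHomogeneousIdeal := by
  classical
  by_contra hcon
  simp only [not_exists, not_not] at hcon
  apply hg
  change g ∈ y.asHomogeneousIdeal.toIdeal
  rw [← DirectSum.sum_support_decompose 𝒜 g]
  exact Ideal.sum_mem _ (fun k _ => hcon k)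

/-- A relevant homogeneous prime misses a homogeneous element of positive degree. -/
theorem exists_pos_notMem (y : ProjectiveSpectrum 𝒜) :
    ∃ d, 0 < d ∧ ∃ h : 𝒜 d, (h : A) ∉ y.asHomogeneousIdeal := by
  have h0 := y.not_irrelevant_le
  rw [SetLike.not_le_iff_exists] at h0
  obtain ⟨a, ha, hay⟩ := h0
  obtain ⟨k, hk⟩ := exists_decompose_notMem y hay
  refine ⟨k, ?_, ⟨_, (DirectSum.decompose 𝒜 a k).2⟩, hk⟩
  rcases Nat.eq_zero_or_pos k with rfl | h
  · exfalso
    apply hk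
    have h1 : (DirectSum.decompose 𝒜 a 0 : A) = 0 := ha
    rw [h1]
    exact zero_mem _
  · exact h

variable {M τ : Type u} [AddCommGroup M] [Module A M] [SetLike τ M] [AddSubgroupClass τ M] {ℳ : ℕ → τ}
  [SetLike.GradedSMul 𝒜 ℳ]

/-- The homogeneous components of `g • m` for `m` homogeneous. -/
theorem decompose_smul [DirectSum.Decomposition ℳ] {i : ℕ} {m : M} (hm : m ∈ ℳ i) (g : A) (k : ℕ) :
    (DirectSum.decompose ℳ (g • m) (k + i) : M) = (DirectSum.decompose 𝒜 g k : A) • m := by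
  classical
  induction g using DirectSum.Decomposition.inductionOn 𝒜 with
  | zero => simp
  | @homogeneous k' g =>
    have hgm : (g : A) • m ∈ ℳ (k' + i) := SetLike.GradedSMul.smul_mem g.2 hm
    by_cases hk : k' = k
    · subst hk
      rw [DirectSum.decompose_of_mem_same ℳ hgm, DirectSum.decompose_of_mem_same 𝒜 g.2]
    · rw [DirectSum.decompose_of_mem_ne ℳ hgm (by omega), DirectSum.decompose_of_mem_ne 𝒜 g.2 hk, zero_smul]
  | add g g' hg hg' =>
    rw [add_smul, DirectSum.decompose_add, DirectSum.decompose_add, DirectSum.add_apply, DirectSum.add_apply,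
      AddMemClass.coe_add, AddMemClass.coe_add, add_smul, hg, hg']

theorem decompose_smul_eq_zero [DirectSum.Decomposition ℳ] {i : ℕ} {m : M} (hm : m ∈ ℳ i) {g : A}
    (h : g • m = 0) (k : ℕ) : (DirectSum.decompose 𝒜 g k : A) • m = 0 := by
  rw [← decompose_smul hm g k, h, DirectSum.decompose_zero]
  rfl

/-- Vanishing of a fraction in the localized module. -/
theorem mk_eq_zero_iff (y : ProjectiveSpectrum 𝒜) (m : M) (s : y.asHomogeneousIdeal.toIdeal.primeCompl) :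
    (LocalizedModule.mk m s : GrMod.LocMod 𝒜 (M := M) y) = 0 ↔
      ∃ g : A, g ∉ y.asHomogeneousIdeal ∧ g • m = 0 := by
  rw [← LocalizedModule.zero_mk (1 : y.asHomogeneousIdeal.toIdeal.primeCompl), LocalizedModule.mk_eq]
  constructor
  · rintro ⟨w, hw⟩
    refine ⟨w.1, w.2, ?_⟩
    simpa [Submonoid.smul_def] using hw
  · rintro ⟨g, hg, hgm⟩
    refine ⟨⟨g, hg⟩, ?_⟩
    simp [Submonoid.smul_def, hgm]

/-- Vanishing of a fraction with homogeneous numerator: a homogeneous element outside `y` kills the numerator. -/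
theorem mk_eq_zero_iff_homog [DirectSum.Decomposition ℳ] (y : ProjectiveSpectrum 𝒜) {i : ℕ} {m : M} (hm : m ∈ ℳ i)
    (s : y.asHomogeneousIdeal.toIdeal.primeCompl) :
    (LocalizedModule.mk m s : GrMod.LocMod 𝒜 (M := M) y) = 0 ↔
      ∃ (k : ℕ) (g : 𝒜 k), (g : A) ∉ y.asHomogeneousIdeal ∧ (g : A) • m = 0 := by
  rw [mk_eq_zero_iff]
  constructor
  · rintro ⟨g, hg, hgm⟩
    obtain ⟨k, hk⟩ := exists_decompose_notMem y hg
    exact ⟨k, DirectSum.decompose 𝒜 g k, hk, decompose_smul_eq_zero hm hgm k⟩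
  · rintro ⟨k, g, hg, hgm⟩
    exact ⟨g, hg, hgm⟩

omit [AddSubgroupClass τ M] in
/-- Under (TN) all degree-`n` fractions vanish. -/
theorem tildeAt_eq_zero_of_TN (n₀ : ℕ) (hTN : ∀ k, n₀ ≤ k → ∀ m ∈ ℳ k, m = 0) (n : ℤ) (y : ProjectiveSpectrum 𝒜)
    (q : GrMod.LocMod 𝒜 (M := M) y) (hq : q ∈ GrMod.tildeAt 𝒜 ℳ n y) : q = 0 := by
  obtain ⟨d, hd, h, hh⟩ := exists_pos_notMem y
  induction hq using Submodule.span_induction with
  | mem q hq =>
    obtain ⟨i, j, m, s, hs, -, rfl⟩ := hq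
    rw [mk_eq_zero_iff]
    refine ⟨(h : A) ^ n₀, fun hmem => hh (y.isPrime.mem_of_pow_mem _ hmem), ?_⟩
    have h1 : (h : A) ^ n₀ ∈ 𝒜 (n₀ • d) := SetLike.pow_mem_graded n₀ h.2
    have h2 : (h : A) ^ n₀ • (m : M) ∈ ℳ (n₀ • d + i) := SetLike.GradedSMul.smul_mem h1 m.2
    refine hTN _ ?_ _ h2
    have : n₀ ≤ n₀ * d := Nat.le_mul_of_pos_right n₀ hd
    simp only [smul_eq_mul]
    omega
  | zero => rfl
  | add q q' _ _ h h' => rw [h, h', add_zero]
  | smul c q _ h => rw [h, smul_zero]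

/-- Sections of `M(n)~` with the same values are equal. -/
theorem sec_ext {n : ℤ} {V : (Proj 𝒜).Opens} (a b : Γ(GrMod.tilde 𝒜 ℳ n, V))
    (h : ∀ y : V, GrMod.val a y = GrMod.val b y) : a = b :=
  Subtype.ext (funext fun y => Subtype.ext (h y))

theorem val_zero {n : ℤ} {V : (Proj 𝒜).Opens} (y : V) :
    GrMod.val (0 : Γ(GrMod.tilde 𝒜 ℳ n, V)) y = 0 := rfl

theorem eq_zero_of_val {n : ℤ} {V : (Proj 𝒜).Opens} (a : Γ(GrMod.tilde 𝒜 ℳ n, V))
    (h : ∀ y : V, GrMod.val a y = 0) : a = 0 :=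
  sec_ext a 0 fun y => (h y).trans (val_zero y).symm

/-- A section of `M(n)~` is locally one fraction. -/
theorem exists_frac {n : ℤ} {V : (Proj 𝒜).Opens} (a : Γ(GrMod.tilde 𝒜 ℳ n, V)) (y : V) :
    ∃ (V' : (Proj 𝒜).Opens) (_ : y.1 ∈ V') (hV' : V' ≤ V) (i j : ℕ) (m : ℳ i) (f : 𝒜 j)
      (hf : ∀ z : V', (f : A) ∉ z.1.asHomogeneousIdeal), ((i : ℤ) = j + n ∨ (m : M) = 0) ∧
      ∀ z : V', GrMod.val a ⟨z.1, hV' z.2⟩ = LocalizedModule.mk (m : M) ⟨(f : A), hf z⟩ := by
  obtain ⟨V', hy, iV, i, j, m, f, hf, hij, hval⟩ := (a : GrMod.sect 𝒜 ℳ n (op V)).2 y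
  exact ⟨V', hy, leOfHom iV, i, j, m, f, hf, hij, fun z => hval z⟩

/-- The section `m / f` of `M(n)~` over an open inside `D₊(f)`. -/
def fracSec (n : ℤ) {i j : ℕ} (m : ℳ i) (f : 𝒜 j) (hij : (i : ℤ) = j + n) (V : (Proj 𝒜).Opens)
    (hV : ∀ z : V, (f : A) ∉ z.1.asHomogeneousIdeal) : Γ(GrMod.tilde 𝒜 ℳ n, V) :=
  (⟨fun z => ⟨LocalizedModule.mk (m : M) ⟨(f : A), hV z⟩,
      Submodule.subset_span ⟨i, j, m, f, hV z, hij, rfl⟩⟩,
    fun z => ⟨V, z.2, 𝟙 _, i, j, m, f, hV, Or.inl hij, fun _ => rfl⟩⟩ : GrMod.sect 𝒜 ℳ n (op V))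

theorem fracSec_val (n : ℤ) {i j : ℕ} (m : ℳ i) (f : 𝒜 j) (hij : (i : ℤ) = j + n) (V : (Proj 𝒜).Opens)
    (hV : ∀ z : V, (f : A) ∉ z.1.asHomogeneousIdeal) (z : V) :
    GrMod.val (fracSec n m f hij V hV) z = LocalizedModule.mk (m : M) ⟨(f : A), hV z⟩ := rfl

end Groth.Agent.Lib.GrModVal
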