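import Mathlib
import Groth.Agent.Lib.GrSyzBasic

/-!
# Projective dimension and minimal graded free resolutions (helper12)

Syzygy modules `K F i` of a `GrSyz.FreeRes`, `pd M ≤ n ↔ K F n = ⊥ ↔ F.HasLengthLE n` for a resolution
minimal w.r.t. a proper ideal of a noetherian domain.
-/


set_option autoImplicit false
set_option linter.unusedSectionVars false

namespace Groth.Agent.Lib.GrPd

open CategoryTheory

universe u

section Generic

variable {R : Type u} [CommRing R]

theorem pdLT_succ_succ_iff_ker {P Z : Type u} [AddCommGroup P] [Module R P] [AddCommGroup Z]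
    [Module R Z] [Module.Projective R P] (π : P →ₗ[R] Z) (hπ : Function.Surjective π) (j : ℕ) :
    HasProjectiveDimensionLT (ModuleCat.of R Z) (j + 2) ↔
      HasProjectiveDimensionLT (ModuleCat.of R (LinearMap.ker π)) (j + 1) :=
  (LinearMap.shortExact_shortComplexKer hπ).hasProjectiveDimensionLT_X₃_iff j
    ((IsProjective.iff_projective P).1 inferInstance)

theorem pdLT_one_iff {Z : Type u} [AddCommGroup Z] [Module R Z] :
    HasProjectiveDimensionLT (ModuleCat.of R Z) 1 ↔ Module.Projective R Z := by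
  rw [← projective_iff_hasProjectiveDimensionLT_one, ← IsProjective.iff_projective]

/-- a direct summand of `R^a` with all coordinates in a proper ideal of a noetherian domain is zero -/
theorem ker_eq_bot_of_projective [IsNoetherianRing R] [IsDomain R] {a : ℕ} {Z : Type u}
    [AddCommGroup Z] [Module R Z] (π : (Fin a → R) →ₗ[R] Z) (hπ : Function.Surjective π)
    (I : Ideal R) (hI : I ≠ ⊤) (hker : ∀ v ∈ LinearMap.ker π, ∀ b, v b ∈ I)
    [Module.Projective R Z] : LinearMap.ker π = ⊥ := by
  classical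
  obtain ⟨s, hs⟩ := Module.projective_lifting_property π LinearMap.id hπ
  have hs' : ∀ z, π (s z) = z := fun z => LinearMap.congr_fun hs z
  set p : (Fin a → R) →ₗ[R] (Fin a → R) := LinearMap.id - s.comp π with hp
  have hp_mem : ∀ v, p v ∈ LinearMap.ker π := by
    intro v
    rw [LinearMap.mem_ker, hp]
    simp [hs']
  have hp_id : ∀ v ∈ LinearMap.ker π, p v = v := by
    intro v hv
    rw [LinearMap.mem_ker] at hv
    rw [hp]
    simp [hv]
  have key : ∀ t : ℕ, ∀ v ∈ LinearMap.ker π, ∀ b, v b ∈ I ^ t := by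
    intro t
    induction t with
    | zero => intro v _ b; simp
    | succ t ih =>
      intro v hv b
      have h1 : v = ∑ c, v c • p (Pi.single c 1) := by
        conv_lhs => rw [← hp_id v hv, pi_eq_sum_univ' v]
        rw [map_sum]
        refine Finset.sum_congr rfl fun c _ => ?_
        rw [← map_smul]
      rw [h1, Finset.sum_apply]
      refine Ideal.sum_mem _ fun c _ => ?_
      rw [Pi.smul_apply, smul_eq_mul, pow_succ]
      exact Ideal.mul_mem_mul (ih v hv c) (hker _ (hp_mem _) b)
  rw [eq_bot_iff]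
  intro v hv
  rw [Submodule.mem_bot]
  funext b
  have : v b ∈ ⨅ t : ℕ, I ^ t := by
    rw [Ideal.mem_iInf]
    exact fun t => key t v hv b
  rw [Ideal.iInf_pow_eq_bot_of_isDomain I hI] at this
  exact this

theorem projective_iff_ker_eq_bot [IsNoetherianRing R] [IsDomain R] {a : ℕ} {Z : Type u}
    [AddCommGroup Z] [Module R Z] (π : (Fin a → R) →ₗ[R] Z) (hπ : Function.Surjective π)
    (I : Ideal R) (hI : I ≠ ⊤) (hker : ∀ v ∈ LinearMap.ker π, ∀ b, v b ∈ I) :
    Module.Projective R Z ↔ LinearMap.ker π = ⊥ := by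
  constructor
  · intro _
    exact ker_eq_bot_of_projective π hπ I hI hker
  · intro h
    have hinj : Function.Injective π := LinearMap.ker_eq_bot.1 h
    exact Module.Projective.of_equiv (LinearEquiv.ofBijective π ⟨hinj, hπ⟩)

/-- a matrix with entries in a proper ideal is not surjective unless the target is zero -/
theorem eq_zero_of_range_eq_top {a b : ℕ} (D : Matrix (Fin a) (Fin b) R) (I : Ideal R) (hI : I ≠ ⊤)
    (hD : ∀ x y, D x y ∈ I) (h : LinearMap.range D.mulVecLin = ⊤) : a = 0 := by
  classical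
  by_contra ha
  have hpos : 0 < a := Nat.pos_of_ne_zero ha
  have : (Pi.single (⟨0, hpos⟩ : Fin a) (1 : R) : Fin a → R) ∈ LinearMap.range D.mulVecLin := by
    rw [h]; exact Submodule.mem_top
  obtain ⟨v, hv⟩ := this
  have h1 := congrFun hv ⟨0, hpos⟩
  rw [Matrix.mulVecLin_apply, Matrix.mulVec, dotProduct, Pi.single_eq_same] at h1
  apply hI
  rw [Ideal.eq_top_iff_one, ← h1]
  exact Ideal.sum_mem _ fun c _ => Ideal.mul_mem_right _ _ (hD _ _)

lemma mulVec_mem_of_entries {a b : ℕ} (D : Matrix (Fin a) (Fin b) R) (I : Ideal R)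
    (hD : ∀ x y, D x y ∈ I) (v : Fin b → R) (x : Fin a) : D.mulVec v x ∈ I := by
  rw [Matrix.mulVec, dotProduct]
  exact Ideal.sum_mem _ fun c _ => Ideal.mul_mem_right _ _ (hD _ _)

end Generic

section FreeRes

variable {R : Type u} [CommRing R] {σ' : Type u} [SetLike σ' R] [AddSubgroupClass σ' R]
  {𝒜 : ℤ → σ'}
  {M : Type u} [AddCommGroup M] [Module R M] {τ : Type u} [SetLike τ M] [AddSubgroupClass τ M]
  {ℳ : ℤ → τ} [DirectSum.Decomposition ℳ] [SetLike.GradedSMul 𝒜 ℳ] (F : GrSyz.FreeRes 𝒜 ℳ)

/-- the syzygy modules: `K 0 = ker aug`, `K (i+1) = ker d_i` -/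
def K : (i : ℕ) → Submodule R (Fin (F.rk i) → R)
  | 0 => LinearMap.ker F.augLin
  | i + 1 => LinearMap.ker (F.dLin i)

lemma range_dLin (i : ℕ) : LinearMap.range (F.dLin i) = K F i := by
  cases i with
  | zero => exact F.exact_zero.symm
  | succ i => exact (F.exact_succ i).symm

/-- the surjection `F_{i+1} → K_i` -/
noncomputable def π (i : ℕ) : (Fin (F.rk (i + 1)) → R) →ₗ[R] K F i :=
  (F.dLin i).codRestrict (K F i) (fun v => by rw [← range_dLin]; exact ⟨v, rfl⟩)

lemma π_surjective (i : ℕ) : Function.Surjective (π F i) := by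
  intro x
  have hx : x.1 ∈ LinearMap.range (F.dLin i) := by rw [range_dLin]; exact x.2
  obtain ⟨v, hv⟩ := hx
  exact ⟨v, Subtype.ext hv⟩

lemma ker_π (i : ℕ) : LinearMap.ker (π F i) = K F (i + 1) := by
  unfold π
  rw [LinearMap.ker_codRestrict]
  rfl

theorem pdLT_K_succ (i j : ℕ) :
    HasProjectiveDimensionLT (ModuleCat.of R (K F i)) (j + 2) ↔
      HasProjectiveDimensionLT (ModuleCat.of R (K F (i + 1))) (j + 1) := by
  rw [pdLT_succ_succ_iff_ker (π F i) (π_surjective F i) j, ker_π]

theorem pdLT_K_iff (j : ℕ) : ∀ (i m : ℕ), i + j = m →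
    (HasProjectiveDimensionLT (ModuleCat.of R (K F i)) (j + 1) ↔ Module.Projective R (K F m)) := by
  induction j with
  | zero =>
    intro i m h
    rw [add_zero] at h
    subst h
    exact pdLT_one_iff
  | succ j ih =>
    intro i m h
    rw [pdLT_K_succ F i j]
    exact ih (i + 1) m (by omega)

theorem pdLE_zero_iff :
    HasProjectiveDimensionLE (ModuleCat.of R M) 0 ↔ Module.Projective R M :=
  pdLT_one_iff

theorem pdLE_succ_iff (j : ℕ) :
    HasProjectiveDimensionLE (ModuleCat.of R M) (j + 1) ↔ Module.Projective R (K F j) := by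
  show HasProjectiveDimensionLT (ModuleCat.of R M) (j + 2) ↔ _
  rw [pdLT_succ_succ_iff_ker F.augLin F.aug_surjective j]
  exact pdLT_K_iff F j 0 j (by omega)

variable [IsNoetherianRing R] [IsDomain R] (I : Ideal R) (hI : I ≠ ⊤) (hF : F.IsMinimal I)
include hI hF

lemma K_coord_mem (i : ℕ) (v : Fin (F.rk i) → R) (hv : v ∈ K F i) (b : Fin (F.rk i)) : v b ∈ I := by
  rw [← range_dLin] at hv
  obtain ⟨w, rfl⟩ := hv
  exact mulVec_mem_of_entries (F.d i) I (hF i) w b

/-- `pd M ≤ n` iff the `n`-th syzygy kernel vanishes -/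
theorem pdLE_iff_K_eq_bot (n : ℕ) :
    HasProjectiveDimensionLE (ModuleCat.of R M) n ↔ K F n = ⊥ := by
  cases n with
  | zero =>
    rw [pdLE_zero_iff]
    exact projective_iff_ker_eq_bot F.augLin F.aug_surjective I hI (K_coord_mem F I hI hF 0)
  | succ j =>
    rw [pdLE_succ_iff F j, projective_iff_ker_eq_bot (π F j) (π_surjective F j) I hI
      (by rw [ker_π]; exact K_coord_mem F I hI hF (j + 1)), ker_π]

theorem hasLengthLE_iff_K_eq_bot (n : ℕ) : F.HasLengthLE n ↔ K F n = ⊥ := by
  constructor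
  · intro h
    have h0 : F.rk (n + 1) = 0 := h (n + 1) (Nat.lt_succ_self n)
    rw [← range_dLin, eq_bot_iff]
    rintro _ ⟨v, rfl⟩
    have : IsEmpty (Fin (F.rk (n + 1))) := ⟨fun x => by have := x.2; omega⟩
    have hv : v = 0 := Subsingleton.elim _ _
    rw [hv, map_zero]
    exact Submodule.zero_mem _
  · intro h
    have key : ∀ i, K F i = ⊥ → F.rk (i + 1) = 0 := by
      intro i hi
      have h1 : LinearMap.ker (F.dLin i) = ⊤ := by
        rw [eq_top_iff]
        intro v _
        rw [LinearMap.mem_ker]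
        have : F.dLin i v ∈ K F i := by rw [← range_dLin]; exact ⟨v, rfl⟩
        rw [hi] at this
        exact this
      rw [F.exact_succ i] at h1
      exact eq_zero_of_range_eq_top (F.d (i + 1)) I hI (hF (i + 1)) h1
    have step : ∀ i, F.rk (i + 1) = 0 → K F (i + 1) = ⊥ := by
      intro i hi
      have : IsEmpty (Fin (F.rk (i + 1))) := ⟨fun x => by have := x.2; omega⟩
      rw [eq_bot_iff]
      intro v _
      rw [Submodule.mem_bot]
      exact Subsingleton.elim _ _
    have all : ∀ t, K F (n + t) = ⊥ := by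
      intro t
      induction t with
      | zero => exact h
      | succ t ih => exact step (n + t) (key (n + t) ih)
    intro i hi
    obtain ⟨t, rfl⟩ : ∃ t, i = n + t + 1 := ⟨i - n - 1, by omega⟩
    exact key (n + t) (all t)

theorem hasLengthLE_iff_pdLE (n : ℕ) :
    F.HasLengthLE n ↔ HasProjectiveDimensionLE (ModuleCat.of R M) n := by
  rw [hasLengthLE_iff_K_eq_bot F I hI hF, pdLE_iff_K_eq_bot F I hI hF]

end FreeRes

end Groth.Agent.Lib.GrPd
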