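import Groth.Prelude.Def_GrLC
import Mathlib

/-!
# Canonical module of a Veronese subring I: the degree-zero isomorphism and a gluing lemma (helper74)
-/

set_option autoImplicit false
set_option linter.unusedSectionVars false
universe u

namespace Groth.Agent.Lib.H74VerCan

open DirectSum GrLC

section Phi0

variable {R R' : Type u} [CommRing R] [CommRing R']
variable {𝒜' : ℤ → AddSubgroup R'} {𝒜 : ℤ → AddSubgroup R} [GradedRing 𝒜'] [GradedRing 𝒜]
variable (q : ℕ) (φ : R' →+* R) (hφ : Function.Injective φ)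
  (hdeg : ∀ j : ℤ, (𝒜' j).map (φ : R' →+ R) = 𝒜 (j * q))

include hdeg in
theorem phi_mem0 (a : deg0 𝒜') : φ a.1 ∈ deg0 𝒜 := by
  have h : φ a.1 ∈ 𝒜 ((0 : ℤ) * q) := by
    rw [← hdeg]
    exact ⟨a.1, a.2, rfl⟩
  rw [zero_mul] at h
  exact h

/-- The map induced by `φ` on the degree-zero subrings. -/
def phi0 : deg0 𝒜' →+* deg0 𝒜 :=
  (φ.comp (deg0 𝒜').subtype).codRestrict (deg0 𝒜) (fun a => phi_mem0 q φ hdeg a)

theorem coe_phi0 (a : deg0 𝒜') : ((phi0 q φ hdeg a : deg0 𝒜) : R) = φ a.1 := rfl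

include hφ in
theorem phi0_bijective : Function.Bijective (phi0 q φ hdeg) := by
  constructor
  · intro a b hab
    apply Subtype.ext
    apply hφ
    exact congrArg Subtype.val hab
  · intro a
    have h : (a : R) ∈ 𝒜 ((0 : ℤ) * q) := by
      rw [zero_mul]
      exact a.2
    rw [← hdeg] at h
    obtain ⟨s, hs, hsa⟩ := h
    exact ⟨⟨s, hs⟩, Subtype.ext hsa⟩

include hφ hdeg in
theorem isField_deg0 (h0 : IsField (deg0 𝒜)) : IsField (deg0 𝒜') :=
  MulEquiv.isField h0 (RingEquiv.ofBijective (phi0 q φ hdeg) (phi0_bijective q φ hφ hdeg)).toMulEquiv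

include hφ hdeg in
theorem piece_eq_bot (hq : 0 < q) (hpos : ∀ n : ℤ, n < 0 → 𝒜 n = ⊥) (n : ℤ) (hn : n < 0) :
    𝒜' n = ⊥ := by
  rw [eq_bot_iff]
  intro x hx
  have h1 : φ x ∈ 𝒜 (n * q) := by
    rw [← hdeg]
    exact ⟨x, hx, rfl⟩
  have hq' : (0 : ℤ) < q := by exact_mod_cast hq
  rw [hpos (n * q) (mul_neg_of_neg_of_pos hn hq')] at h1
  have h2 : φ x = 0 := h1
  rw [AddSubgroup.mem_bot]
  apply hφ
  rw [h2, map_zero]

end Phi0

section Glue

variable {R R' : Type u} [CommRing R] [CommRing R']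
variable (𝒜' : ℤ → AddSubgroup R') [GradedRing 𝒜']
variable (φ : R' →+* R) (ψ : ℤ → ℤ) (hψ : Function.Injective ψ)
variable {C : Type u} [AddCommGroup C] [Module R C] (𝒞 : ℤ → AddSubgroup C) [Decomposition 𝒞]
variable {C' : Type u} [AddCommGroup C'] [Module R' C'] (𝒞' : ℤ → AddSubgroup C')
  [Decomposition 𝒞'] [SetLike.GradedSMul 𝒜' 𝒞']

include hψ in
/-- Gluing piecewise semilinear bijections `C'_j ≃ C_{ψ j}` to a semilinear injective map. -/
theorem exists_glue (g : ∀ j, 𝒞' j →+ C)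
    (hmem : ∀ j x, g j x ∈ 𝒞 (ψ j))
    (hsmul : ∀ (i j : ℤ) (r : R') (_ : r ∈ 𝒜' i) (x : C') (hx : x ∈ 𝒞' j)
      (hrx : r • x ∈ 𝒞' (i + j)), g (i + j) ⟨r • x, hrx⟩ = φ r • g j ⟨x, hx⟩)
    (hinj : ∀ j, Function.Injective (g j))
    (hsurj : ∀ j, ∀ c ∈ 𝒞 (ψ j), ∃ x, g j x = c) :
    ∃ G : C' →ₛₗ[φ] C, Function.Injective G ∧
      ∀ j, (𝒞' j).map (G : C' →+ C) = 𝒞 (ψ j) := by
  classical
  let G₀ : C' →+ C := (DirectSum.toAddMonoid g).comp (decomposeAddEquiv 𝒞').toAddMonoidHom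
  have hG₀ : ∀ (j : ℤ) (x : C') (hx : x ∈ 𝒞' j), G₀ x = g j ⟨x, hx⟩ := by
    intro j x hx
    show DirectSum.toAddMonoid g (decompose 𝒞' x) = _
    rw [decompose_of_mem 𝒞' hx, toAddMonoid_of]
  have hlin : ∀ (r : R') (x : C'), G₀ (r • x) = φ r • G₀ x := by
    intro r x
    induction r using Decomposition.inductionOn 𝒜' with
    | zero => rw [zero_smul, map_zero, map_zero, zero_smul]
    | @homogeneous i r =>
      induction x using Decomposition.inductionOn 𝒞' with
      | zero => rw [smul_zero, map_zero, smul_zero]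
      | @homogeneous j x =>
        have hrx : (r : R') • (x : C') ∈ 𝒞' (i + j) :=
          SetLike.GradedSMul.smul_mem r.2 x.2
        rw [hG₀ (i + j) _ hrx, hG₀ j _ x.2]
        exact hsmul i j r r.2 x x.2 hrx
      | add x y hx hy => rw [smul_add, map_add, map_add, smul_add, hx, hy]
    | add r s hr hs => rw [add_smul, map_add, map_add, add_smul, hr, hs]
  have hcomp : ∀ (x : C') (j : ℤ),
      ((decompose 𝒞 (G₀ x)) (ψ j) : C) = g j (decompose 𝒞' x j) := by
    intro x j
    induction x using Decomposition.inductionOn 𝒞' with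
    | zero =>
      rw [map_zero, decompose_zero, decompose_zero, DirectSum.zero_apply, DirectSum.zero_apply, map_zero]
      rfl
    | @homogeneous i x =>
      rw [hG₀ i _ x.2]
      by_cases hij : i = j
      · subst hij
        rw [decompose_of_mem_same 𝒞 (hmem i _)]
        congr 1
        apply Subtype.ext
        rw [decompose_of_mem_same 𝒞' x.2]
      · have hne : ψ i ≠ ψ j := fun h => hij (hψ h)
        rw [decompose_of_mem_ne 𝒞 (hmem i _) hne]
        have : decompose 𝒞' (x : C') j = 0 := Subtype.ext (decompose_of_mem_ne 𝒞' x.2 hij)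
        rw [this, map_zero]
    | add x y hx hy =>
      rw [map_add, decompose_add, decompose_add, DirectSum.add_apply, DirectSum.add_apply, AddSubgroup.coe_add,
        hx, hy, map_add]
  refine ⟨{ toFun := G₀, map_add' := map_add G₀, map_smul' := hlin }, ?_, ?_⟩
  · intro x y hxy
    have hxy' : G₀ x = G₀ y := hxy
    have h1 : G₀ (x - y) = 0 := by rw [map_sub, hxy', sub_self]
    have h2 : ∀ j, decompose 𝒞' (x - y) j = 0 := by
      intro j
      apply hinj j
      rw [← hcomp, h1, decompose_zero, map_zero]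
      rfl
    have h3 : decompose 𝒞' (x - y) = 0 := DFinsupp.ext h2
    have h4 : x - y = 0 := by
      rw [← (decompose 𝒞').symm_apply_apply (x - y), h3]
      exact decompose_symm_zero 𝒞'
    exact sub_eq_zero.mp h4
  · intro j
    ext c
    constructor
    · rintro ⟨x, hx, rfl⟩
      show G₀ x ∈ 𝒞 (ψ j)
      rw [hG₀ j x hx]
      exact hmem j _
    · intro hc
      obtain ⟨x, hx⟩ := hsurj j c hc
      refine ⟨x.1, x.2, ?_⟩
      show G₀ x.1 = c
      rw [hG₀ j x.1 x.2]
      exact hx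

end Glue

end Groth.Agent.Lib.H74VerCan
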