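import Mathlib
import Groth.Agent.Lib.GrPerf1
import Groth.Agent.Lib.H74VerCan1

set_option autoImplicit false
set_option linter.unusedSectionVars false
set_option linter.style.haveILetI false

universe u

namespace Groth.Agent.Lib.GrPerf

open DirectSum GrLC Groth.Agent.Lib.H74VerCan

section Veronese

variable {R R' : Type u} [CommRing R] [CommRing R']
variable {𝒜' : ℤ → AddSubgroup R'} {𝒜 : ℤ → AddSubgroup R} [GradedRing 𝒜'] [GradedRing 𝒜]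
variable (q : ℕ) (hq : 0 < q) (φ : R' →+* R) (hφ : Function.Injective φ)
  (hdeg : ∀ j : ℤ, (𝒜' j).map (φ : R' →+ R) = 𝒜 (j * q))
variable {X : Type u} [AddCommGroup X] [Module R X] (ℋ : ℤ → AddSubgroup X)
  [Decomposition ℋ] [SetLike.GradedSMul 𝒜 ℋ]
variable {X' : Type u} [AddCommGroup X'] [Module R' X'] (ℋ' : ℤ → AddSubgroup X')
  [Decomposition ℋ'] [SetLike.GradedSMul 𝒜' ℋ']
variable (Ψ : X' →+ X) (hΨ1 : ∀ (r : R') (x : X'), Ψ (r • x) = φ r • Ψ x)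
  (hΨ2 : Function.Injective Ψ)
  (hΨ3 : ∀ j x, x ∈ ℋ' j → Ψ x ∈ ℋ (j * q))
  (hΨ4 : ∀ j y, y ∈ ℋ (j * q) → ∃ x ∈ ℋ' j, Ψ x = y)

/-- the inverse of the degree-zero isomorphism. -/
noncomputable def phi0Equiv : deg0 𝒜' ≃+* deg0 𝒜 :=
  RingEquiv.ofBijective (phi0 q φ hdeg) (phi0_bijective q φ hφ hdeg)

include hΨ1 in
/-- the transferred functional `τ' = φ₀⁻¹ ∘ τ ∘ Ψ`. -/
noncomputable def tauVer (τ : X →ₗ[deg0 𝒜] deg0 𝒜) : X' →ₗ[deg0 𝒜'] deg0 𝒜' where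
  toFun x := (phi0Equiv q φ hφ hdeg).symm (τ (Ψ x))
  map_add' x y := by rw [map_add, map_add, map_add]
  map_smul' c x := by
    have h1 : Ψ (c • x) = (phi0 q φ hdeg c) • Ψ x := by
      show Ψ ((c : R') • x) = ((phi0 q φ hdeg c : deg0 𝒜) : R) • Ψ x
      rw [hΨ1, coe_phi0]
    rw [h1, map_smul, smul_eq_mul, map_mul, RingHom.id_apply, smul_eq_mul]
    congr 1
    exact (phi0Equiv q φ hφ hdeg).symm_apply_apply c

theorem tauVer_apply (τ : X →ₗ[deg0 𝒜] deg0 𝒜) (x : X') :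
    tauVer q φ hφ hdeg Ψ hΨ1 τ x = (phi0Equiv q φ hφ hdeg).symm (τ (Ψ x)) := rfl

theorem tauVer_ne_zero_iff (τ : X →ₗ[deg0 𝒜] deg0 𝒜) (x : X') :
    tauVer q φ hφ hdeg Ψ hΨ1 τ x ≠ 0 ↔ τ (Ψ x) ≠ 0 := by
  rw [tauVer_apply, Ne, Ne, map_eq_zero_iff _ (phi0Equiv q φ hφ hdeg).symm.injective]

include hq hΨ2 hΨ3 hΨ4 in
/-- **Veronese transfer of perfect pairings.** -/
theorem perfData_veronese {a' : ℤ} {τ : X →ₗ[deg0 𝒜] deg0 𝒜} (hP : PerfData 𝒜 ℋ (a' * q) τ) :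
    PerfData 𝒜' ℋ' a' (tauVer q φ hφ hdeg Ψ hΨ1 τ) where
  top d hd := by
    rw [eq_bot_iff]
    intro x hx
    rw [AddSubgroup.mem_bot]
    apply hΨ2
    rw [map_zero]
    have h1 := hΨ3 d x hx
    have hlt : a' * (q : ℤ) < d * (q : ℤ) := by
      have : (0 : ℤ) < q := by exact_mod_cast hq
      exact mul_lt_mul_of_pos_right hd this
    rw [hP.top (d * q) hlt] at h1
    exact (AddSubgroup.mem_bot).mp h1
  tau_ne d hd x hx := by
    rw [tauVer_apply, map_eq_zero_iff _ (phi0Equiv q φ hφ hdeg).symm.injective]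
    refine hP.tau_ne (d * q) ?_ _ (hΨ3 d x hx)
    intro h
    have : (q : ℤ) ≠ 0 := by exact_mod_cast hq.ne'
    exact hd (mul_right_cancel₀ this h)
  left d x hx hx0 := by
    have hΨx0 : Ψ x ≠ 0 := fun h => hx0 (hΨ2 (h.trans (map_zero Ψ).symm))
    obtain ⟨r, hr, hτ⟩ := hP.left (d * q) (Ψ x) (hΨ3 d x hx) hΨx0
    have e1 : a' * (q : ℤ) - d * q = (a' - d) * q := by ring
    rw [e1, ← hdeg] at hr
    obtain ⟨r', hr', rfl⟩ := hr
    refine ⟨r', hr', ?_⟩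
    rw [tauVer_ne_zero_iff, hΨ1]
    exact hτ
  right d r' hr' hr'0 := by
    have hr : φ r' ∈ 𝒜 (a' * q - d * q) := by
      have e1 : a' * (q : ℤ) - d * q = (a' - d) * q := by ring
      rw [e1, ← hdeg]
      exact ⟨r', hr', rfl⟩
    have hr0 : φ r' ≠ 0 := fun h => hr'0 (hφ (h.trans (map_zero φ).symm))
    obtain ⟨y, hy, hτ⟩ := hP.right (d * q) (φ r') hr hr0
    obtain ⟨x, hx, rfl⟩ := hΨ4 d y hy
    refine ⟨x, hx, ?_⟩
    rw [tauVer_ne_zero_iff, hΨ1]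
    exact hτ

end Veronese

end Groth.Agent.Lib.GrPerf
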