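import Mathlib
import Groth.Agent.Lib.GrPerf1

set_option autoImplicit false
set_option linter.unusedSectionVars false
set_option linter.style.haveILetI false

universe u

namespace Groth.Agent.Lib.GrPerfRank

open DirectSum GrLC Groth.Agent.Lib.GrPerf

variable {R : Type u} [CommRing R] (𝒜 : ℤ → AddSubgroup R) [GradedRing 𝒜]
  (h0 : IsField (deg0 𝒜))
variable {X : Type u} [AddCommGroup X] [Module R X] (ℋ : ℤ → AddSubgroup X)
  [Decomposition ℋ] [SetLike.GradedSMul 𝒜 ℋ]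
variable {a : ℤ} {τ : X →ₗ[deg0 𝒜] deg0 𝒜} (hP : PerfData 𝒜 ℋ a τ)

/-- the pairing `X_d × R_{a-d} → k` as a linear map into the dual. -/
def pairL (τ : X →ₗ[deg0 𝒜] deg0 𝒜) (d e : ℤ) :
    comp 𝒜 ℋ d →ₗ[deg0 𝒜] Module.Dual (deg0 𝒜) (comp 𝒜 𝒜 e) :=
  LinearMap.mk₂ (deg0 𝒜) (fun x r => τ ((r : R) • (x : X)))
    (fun x x' r => by
      show τ ((r : R) • ((x : X) + (x' : X))) = _
      rw [smul_add, map_add])
    (fun c x r => by
      show τ ((r : R) • ((c : R) • (x : X))) = c • τ ((r : R) • (x : X))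
      rw [smul_comm, ← map_smul]; rfl)
    (fun x r r' => by
      show τ (((r : R) + (r' : R)) • (x : X)) = _
      rw [add_smul, map_add])
    (fun c x r => by
      show τ (((c : R) * (r : R)) • (x : X)) = c • τ ((r : R) • (x : X))
      rw [mul_smul, ← map_smul]; rfl)

/-- the pairing in the other order. -/
def pairR (τ : X →ₗ[deg0 𝒜] deg0 𝒜) (d e : ℤ) :
    comp 𝒜 𝒜 e →ₗ[deg0 𝒜] Module.Dual (deg0 𝒜) (comp 𝒜 ℋ d) :=
  (pairL 𝒜 ℋ τ d e).flip

include h0 hP in
/-- the perfect pairing gives equality of dimensions `dim X_d = dim R_{a-d}`. -/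
theorem finrank_comp_eq (d : ℤ) [Module.Finite (deg0 𝒜) (comp 𝒜 𝒜 (a - d))] :
    Module.Finite (deg0 𝒜) (comp 𝒜 ℋ d) ∧
      Module.finrank (deg0 𝒜) (comp 𝒜 ℋ d) = Module.finrank (deg0 𝒜) (comp 𝒜 𝒜 (a - d)) := by
  letI : Field (deg0 𝒜) := h0.toField
  have hL : Function.Injective (pairL 𝒜 ℋ τ d (a - d)) := by
    rw [injective_iff_map_eq_zero]
    intro x hx
    by_contra hne
    have hx0 : (x : X) ≠ 0 := fun h => hne (Subtype.ext h)
    obtain ⟨r, hr, hτ⟩ := hP.left d x x.2 hx0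
    apply hτ
    have := congrArg (fun f => f ⟨r, hr⟩) hx
    exact this
  have hR : Function.Injective (pairR 𝒜 ℋ τ d (a - d)) := by
    rw [injective_iff_map_eq_zero]
    intro r hr
    by_contra hne
    have hr0 : (r : R) ≠ 0 := fun h => hne (Subtype.ext h)
    obtain ⟨x, hx, hτ⟩ := hP.right d r r.2 hr0
    apply hτ
    have := congrArg (fun f => f ⟨x, hx⟩) hr
    exact this
  haveI hfin : Module.Finite (deg0 𝒜) (comp 𝒜 ℋ d) :=
    Module.Finite.of_injective _ hL
  refine ⟨hfin, le_antisymm ?_ ?_⟩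
  · have h1 := LinearMap.finrank_le_finrank_of_injective hL
    rwa [Subspace.dual_finrank_eq] at h1
  · have h1 := LinearMap.finrank_le_finrank_of_injective hR
    rwa [Subspace.dual_finrank_eq] at h1

end Groth.Agent.Lib.GrPerfRank
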