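import Mathlib
import Groth.Prelude.Def_GrLC

/-!
# The quotient of a ℤ-graded algebra by a homogeneous ideal, as a graded module (helper12)

`𝒜 : ℤ → Submodule k S` a graded `k`-algebra, `I` a homogeneous ideal.  The quotient `S ⧸ I` is graded
by the images `qGr 𝒜 I d` of the pieces:

* `quotDecomposition hI : Decomposition (qGr 𝒜 I)`;
* `quotGradedSMul : SetLike.GradedSMul 𝒜 (qGr 𝒜 I)`;
* `mkQ_isGrHom : GrLC.IsGrHom 𝒜 (qGr 𝒜 I) (Submodule.mkQ I)`.
-/

set_option autoImplicit false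
set_option linter.unusedSectionVars false
universe u
open DirectSum

namespace Groth.Agent.Lib.GrQuot

variable {k : Type u} [CommRing k] {S : Type u} [CommRing S] [Algebra k S]
  (𝒜 : ℤ → Submodule k S) [GradedAlgebra 𝒜] (I : Ideal S)

noncomputable def mkK : S →ₗ[k] S ⧸ I := (Submodule.mkQ I).restrictScalars k

@[simp] lemma mkK_apply (x : S) : mkK (k := k) I x = Submodule.Quotient.mk x := rfl

noncomputable def qGr (d : ℤ) : Submodule k (S ⧸ I) := (𝒜 d).map (mkK I)

lemma mem_qGr {d : ℤ} {y : S ⧸ I} : y ∈ qGr 𝒜 I d ↔ ∃ x ∈ 𝒜 d, Submodule.Quotient.mk x = y :=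
  Iff.rfl

noncomputable def pieceMap (d : ℤ) : 𝒜 d →ₗ[k] qGr 𝒜 I d :=
  ((mkK (k := k) I).domRestrict (𝒜 d)).codRestrict _ (fun x => ⟨x, x.2, rfl⟩)

@[simp] lemma coe_pieceMap (d : ℤ) (x : 𝒜 d) :
    (pieceMap 𝒜 I d x : S ⧸ I) = Submodule.Quotient.mk (x : S) := rfl

variable {𝒜 I}

noncomputable def preDecomp : S →ₗ[k] ⨁ d, qGr 𝒜 I d :=
  (DirectSum.lmap (pieceMap 𝒜 I)) ∘ₗ (decomposeLinearEquiv 𝒜).toLinearMap

lemma preDecomp_of_mem {d : ℤ} {x : S} (hx : x ∈ 𝒜 d) :
    preDecomp (𝒜 := 𝒜) (I := I) x = DirectSum.of (fun d => qGr 𝒜 I d) d ⟨Submodule.Quotient.mk x, ⟨x, hx, rfl⟩⟩ := by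
  unfold preDecomp
  rw [LinearMap.comp_apply, LinearEquiv.coe_coe, decomposeLinearEquiv_apply,
    decompose_of_mem 𝒜 hx]
  erw [DirectSum.lmap_lof]
  rfl

lemma preDecomp_eq_zero (hI : I.IsHomogeneous 𝒜) {x : S} (hx : x ∈ I) :
    preDecomp (𝒜 := 𝒜) (I := I) x = 0 := by
  unfold preDecomp
  rw [LinearMap.comp_apply, LinearEquiv.coe_coe, decomposeLinearEquiv_apply]
  ext d
  rw [DirectSum.lmap_apply, DirectSum.zero_apply]
  rw [coe_pieceMap, Submodule.coe_zero, Submodule.Quotient.mk_eq_zero]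
  exact hI d hx

/-- the decomposition map of the quotient -/
noncomputable def decompHom (hI : I.IsHomogeneous 𝒜) : S ⧸ I →+ ⨁ d, qGr 𝒜 I d :=
  QuotientAddGroup.lift I.toAddSubgroup (preDecomp (𝒜 := 𝒜) (I := I)).toAddMonoidHom
    (fun _ hx => preDecomp_eq_zero hI hx)

lemma decompHom_mk (hI : I.IsHomogeneous 𝒜) (x : S) :
    decompHom hI (Submodule.Quotient.mk x : S ⧸ I) = preDecomp x := rfl

lemma coe_preDecomp (x : S) :
    DirectSum.coeAddMonoidHom (fun d => qGr 𝒜 I d) (preDecomp x) = Submodule.Quotient.mk x := by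
  induction x using Decomposition.inductionOn 𝒜 with
  | zero => simp
  | @homogeneous i m =>
    rw [preDecomp_of_mem m.2, DirectSum.coeAddMonoidHom_of]
  | add m m' hm hm' =>
    rw [map_add, map_add, hm, hm', Submodule.Quotient.mk_add]

/-- the quotient of a graded algebra by a homogeneous ideal is graded by the images of the pieces -/
@[instance_reducible]
noncomputable def quotDecomposition (hI : I.IsHomogeneous 𝒜) :
    Decomposition (fun d => qGr 𝒜 I d) :=
  Decomposition.ofAddHom _ (decompHom hI)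
    (by
      ext y
      obtain ⟨x, rfl⟩ := Submodule.Quotient.mk_surjective I y
      simp only [AddMonoidHom.coe_comp, Function.comp_apply,
        AddMonoidHom.id_apply]
      rw [decompHom_mk, coe_preDecomp])
    (by
      refine DirectSum.addHom_ext fun d z => ?_
      obtain ⟨y, hy⟩ := z
      obtain ⟨x, hx, rfl⟩ := hy
      simp only [AddMonoidHom.coe_comp, Function.comp_apply,
        AddMonoidHom.id_apply, DirectSum.coeAddMonoidHom_of]
      change decompHom hI (Submodule.Quotient.mk x) = _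
      rw [decompHom_mk, preDecomp_of_mem hx]
      rfl)


variable (𝒜 I)

instance quotGradedSMul : SetLike.GradedSMul 𝒜 (fun d => qGr 𝒜 I d) where
  smul_mem := by
    rintro i j a y ha ⟨x, hx, rfl⟩
    refine ⟨a * x, SetLike.GradedMul.mul_mem ha hx, ?_⟩
    rfl

theorem mkQ_isGrHom : GrLC.IsGrHom 𝒜 (fun d => qGr 𝒜 I d) (Submodule.mkQ I) :=
  fun d x hx => ⟨x, hx, rfl⟩

theorem ker_mkQ : LinearMap.ker (Submodule.mkQ I) = I := Submodule.ker_mkQ I

theorem mkQ_surjective : Function.Surjective (Submodule.mkQ I) := Submodule.mkQ_surjective I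

end Groth.Agent.Lib.GrQuot
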