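import Mathlib
import Groth.Agent.Lib.GrQuot
import Groth.Agent.Lib.GrHilbBurch2
import Groth.Agent.Lib.GrLCAB2
import Groth.Agent.Lib.GrFreeRes

/-!
# The homogeneous ideal of a finite set of points in the projective plane (helper12)

`I ⊆ S = k[x_0,x_1,x_2]` the vanishing ideal of a finite set `Z` of nonzero vectors.

* `isHomogeneous`, `mem_iff_of_mem_stdGr`, `mem_of_X_mul_mem` (the irrelevant ideal is not
  associated to `S/I`), `eq_zero_of_pow_smul` (`Γ_𝔪(S/I) = 0`);
* `exists_freeRes` : the minimal graded free resolution of `S/I` has the shape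
  `0 → F_2 → F_1 → S → S/I → 0` with `rk F_1 = rk F_2 + 1` and `Σ a_i = Σ b_j`;
* `exists_hilbertBurch` : the Hilbert–Burch data `(t, Ψ, g, a, b)` in matrix form with ordered
  degrees, `e_i = b_i - a_i ≥ 1`.
-/

set_option autoImplicit false
set_option linter.unusedSectionVars false
set_option linter.style.haveILetI false
universe u
open DirectSum MvPolynomial

namespace Groth.Agent.Lib.GrPoints

open Groth.Agent.Lib.GrQuot Groth.Agent.Lib.GrHilbBurch GrLC Groth.Agent.Lib.GrLCBridge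
  Groth.Agent.Lib.GrLCPoly Groth.Agent.Lib.GrLCAB Groth.Agent.Lib.GrLCConc Groth.Agent.S13215

section General

variable {k : Type u} [Field k] {r : ℕ}

/-- components for the ℤ-indexed standard grading are the usual homogeneous components -/
theorem coe_decompose_stdGr (f : MvPolynomial (Fin (r + 1)) k) (j : ℕ) :
    (decompose (GrSyz.stdGr k (Fin (r + 1))) f (j : ℤ) : MvPolynomial (Fin (r + 1)) k) =
      homogeneousComponent j f := by
  classical
  have h1 : (decompose (GrSyz.stdGr k (Fin (r + 1))) f (j : ℤ) : MvPolynomial (Fin (r + 1)) k) =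
      weightedHomogeneousComponent (fun _ : Fin (r + 1) => (1 : ℤ)) (j : ℤ) f :=
    MvPolynomial.weightedDecomposition.decompose'_apply k (fun _ : Fin (r + 1) => (1 : ℤ)) f (j : ℤ)
  rw [h1]
  ext d
  rw [coeff_weightedHomogeneousComponent, coeff_homogeneousComponent,
    Groth.Agent.Lib.GrSyzBasic.weight_one_eq]
  have : ((d.sum fun _ e => e : ℕ) : ℤ) = (j : ℤ) ↔ d.degree = j := by
    rw [Nat.cast_inj]
    rfl
  simp only [this]

theorem X_mem_stdGr (i : Fin (r + 1)) :
    (X i : MvPolynomial (Fin (r + 1)) k) ∈ GrSyz.stdGr k (Fin (r + 1)) 1 := by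
  rw [GrSyz.mem_stdGr_iff]
  exact isWeightedHomogeneous_X k _ i

variable (Z : Finset (Fin (r + 1) → k)) (I : Ideal (MvPolynomial (Fin (r + 1)) k))
  (hI : ∀ f : MvPolynomial (Fin (r + 1)) k, f ∈ I ↔
      ∀ p ∈ Z, ∀ j : ℕ, MvPolynomial.eval p (MvPolynomial.homogeneousComponent j f) = 0)

include hI

/-- the vanishing ideal of a set of points is homogeneous -/
theorem isHomogeneous : I.IsHomogeneous (GrSyz.stdGr k (Fin (r + 1))) := by
  intro i f hf
  rcases lt_or_ge i 0 with hi | hi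
  · rw [Groth.Agent.Lib.GrSyzBasic.eq_zero_of_mem_stdGr_neg k _ hi (SetLike.coe_mem _)]
    exact Ideal.zero_mem _
  · obtain ⟨j, rfl⟩ := Int.eq_ofNat_of_zero_le hi
    rw [coe_decompose_stdGr, hI]
    intro p hp j'
    rw [homogeneousComponent_of_mem (homogeneousComponent_mem j f)]
    split_ifs
    · exact (hI f).mp hf p hp j
    · rw [map_zero]

/-- membership of a homogeneous polynomial -/
theorem mem_iff_of_mem_stdGr {d : ℤ} {g : MvPolynomial (Fin (r + 1)) k}
    (hg : g ∈ GrSyz.stdGr k (Fin (r + 1)) d) : g ∈ I ↔ ∀ p ∈ Z, eval p g = 0 := by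
  constructor
  · intro h p hp
    rcases lt_or_ge d 0 with hd | hd
    · rw [Groth.Agent.Lib.GrSyzBasic.eq_zero_of_mem_stdGr_neg k _ hd hg, map_zero]
    · obtain ⟨j, rfl⟩ := Int.eq_ofNat_of_zero_le hd
      have := (hI g).mp h p hp j
      rwa [homogeneousComponent_of_mem (isHomogeneous_of_mem_stdGr hg), if_pos rfl] at this
  · exact mem_of_eval_eq_zero Z I hI hg

/-- the colon lemma: the irrelevant ideal is not associated to `S/I` -/
theorem mem_of_X_mul_mem (hZ : ∀ p ∈ Z, p ≠ 0) {d : ℤ} {g : MvPolynomial (Fin (r + 1)) k}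
    (hg : g ∈ GrSyz.stdGr k (Fin (r + 1)) d) (h : ∀ i, X i * g ∈ I) : g ∈ I := by
  rw [mem_iff_of_mem_stdGr Z I hI hg]
  intro p hp
  have hp0 := hZ p hp
  obtain ⟨i, hi⟩ : ∃ i, p i ≠ 0 := by
    by_contra hcon
    push Not at hcon
    exact hp0 (funext hcon)
  have h1 : X i * g ∈ GrSyz.stdGr k (Fin (r + 1)) (1 + d) :=
    SetLike.GradedMul.mul_mem (X_mem_stdGr i) hg
  have h2 := (mem_iff_of_mem_stdGr Z I hI h1).mp (h i) p hp
  rw [map_mul, eval_X] at h2
  exact (mul_eq_zero.mp h2).resolve_left hi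

/-- no nonzero homogeneous element of `S/I` is killed by a power of the irrelevant ideal -/
theorem eq_zero_of_pow_smul (hZ : ∀ p ∈ Z, p ≠ 0) (n : ℕ) :
    ∀ (e : ℤ) (y : MvPolynomial (Fin (r + 1)) k ⧸ I), y ∈ qGr (GrSyz.stdGr k (Fin (r + 1))) I e →
      (∀ s ∈ (GrSyz.irrel (GrSyz.stdGr k (Fin (r + 1)))).toIdeal ^ n, s • y = 0) → y = 0 := by
  induction n with
  | zero =>
    intro e y _ h
    have h1 : (1 : MvPolynomial (Fin (r + 1)) k) ∈
        (GrSyz.irrel (GrSyz.stdGr k (Fin (r + 1)))).toIdeal ^ 0 := by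
      rw [pow_zero, Ideal.one_eq_top]
      trivial
    have := h 1 h1
    rwa [one_smul] at this
  | succ n ih =>
    intro e y hy h
    obtain ⟨x, hx, rfl⟩ := hy
    have hXi : ∀ i, X i * x ∈ I := by
      intro i
      have h1 : (Submodule.Quotient.mk (X i * x) : MvPolynomial (Fin (r + 1)) k ⧸ I) = 0 := by
        apply ih (1 + e) _ ⟨X i * x, SetLike.GradedMul.mul_mem (X_mem_stdGr i) hx, rfl⟩
        intro s hs
        have h2 : s * X i ∈ (GrSyz.irrel (GrSyz.stdGr k (Fin (r + 1)))).toIdeal ^ (n + 1) := by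
          rw [pow_succ]
          exact Ideal.mul_mem_mul hs (Ideal.subset_span ⟨1, one_pos, X_mem_stdGr i⟩)
        have h3 := h (s * X i) h2
        rw [mkK_apply] at h3
        rw [← h3, mul_smul]
        rfl
      exact (Submodule.Quotient.mk_eq_zero I).mp h1
    have := mem_of_X_mul_mem Z I hI hZ hx hXi
    rw [mkK_apply]
    exact (Submodule.Quotient.mk_eq_zero I).mpr this

end General

section Plane

variable {k : Type u} [Field k]

/-- sorting a tuple of integers in non-increasing order -/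
theorem exists_antitone_equiv {n : ℕ} (f : Fin n → ℤ) :
    ∃ σ : Equiv.Perm (Fin n), ∀ i j : Fin n, i ≤ j → f (σ j) ≤ f (σ i) := by
  refine ⟨Tuple.sort (fun i => -f i), fun i j hij => ?_⟩
  have := Tuple.monotone_sort (fun i => -f i) hij
  simp only [Function.comp_apply] at this
  omega

variable (Z : Finset (Fin (2 + 1) → k)) (I : Ideal (MvPolynomial (Fin (2 + 1)) k))
  (hI : ∀ f : MvPolynomial (Fin (2 + 1)) k, f ∈ I ↔
      ∀ p ∈ Z, ∀ j : ℕ, MvPolynomial.eval p (MvPolynomial.homogeneousComponent j f) = 0)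

include hI

/-- the minimal resolution of the coordinate ring of a nonempty finite set of points in the plane -/
theorem exists_freeRes (hZ : ∀ p ∈ Z, p ≠ 0) (hZne : Z.Nonempty) :
    letI := quotDecomposition (isHomogeneous Z I hI)
    ∃ F : GrSyz.FreeRes (GrSyz.stdGr k (Fin (2 + 1)))
        (fun d => qGr (GrSyz.stdGr k (Fin (2 + 1))) I d),
      F.IsMinimal (GrSyz.irrel (GrSyz.stdGr k (Fin (2 + 1)))).toIdeal ∧ F.HasLengthLE 2 ∧
      F.rk 0 = 1 ∧ (∀ b : Fin (F.rk 0), F.deg 0 b = 0) ∧ F.rk 1 = F.rk 2 + 1 ∧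
      ∑ p : Fin (F.rk 1), F.deg 1 p = ∑ q : Fin (F.rk 2), F.deg 2 q := by
  classical
  letI := quotDecomposition (isHomogeneous Z I hI)
  obtain ⟨F, hF⟩ := Groth.Agent.Lib.GrFreeRes.exists_freeRes_isMinimal k 2
    (MvPolynomial (Fin (2 + 1)) k ⧸ I) (fun d => qGr (GrSyz.stdGr k (Fin (2 + 1))) I d)
  have hlen3 : F.HasLengthLE (2 + 1) :=
    Groth.Agent.Lib.GrSyzygy.hasLengthLE_of_isMinimal k 2 _ _ F hF
  -- length ≤ 2
  have hrk3 : F.rk 3 = 0 := by
    by_contra hne
    have b₀ : Fin (F.rk 3) := ⟨0, Nat.pos_of_ne_zero hne⟩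
    obtain ⟨E⟩ : Nonempty (StarInjRes (stdS k 2)
        (asGr (fun d => qGr (GrSyz.stdGr k (Fin (2 + 1))) I d))) := ⟨res _⟩
    have h1 := Hcomp_ne_bot_of_length F hF 3 hlen3 le_rfl b₀ E
    apply h1
    have h2 : (2 + 1 - 3 : ℕ) = 0 := rfl
    rw [h2, Hcomp_zero_eq_bot_iff]
    rintro y hy ⟨n, hn⟩
    exact eq_zero_of_pow_smul Z I hI hZ n _ y hy hn
  have hlen : F.HasLengthLE 2 := by
    intro i hi
    rcases Nat.lt_or_ge 3 i with h | h
    · exact hlen3 i h
    · have : i = 3 := by omega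
      rw [this]
      exact hrk3
  -- `F_0 = S`
  have hπ1 : (Submodule.mkQ I) (1 : MvPolynomial (Fin (2 + 1)) k) ≠ 0 := by
    intro h
    have h1I : (1 : MvPolynomial (Fin (2 + 1)) k) ∈ I := by
      rw [← Submodule.ker_mkQ I]
      exact h
    rw [hI] at h1I
    obtain ⟨p, hp⟩ := hZne
    have h0 := h1I p hp 0
    rw [MvPolynomial.homogeneousComponent_zero] at h0
    simp at h0
  obtain ⟨h0, hdeg0⟩ := rk_zero_of_cyclic (m := 2 + 1) F hF (Submodule.mkQ I)
    (Submodule.mkQ_surjective I) (mkQ_isGrHom _ I) hπ1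
  have hbound := finrank_le_card (r := 2) Z I hI (Submodule.mkQ I) (Submodule.mkQ_surjective I)
    (mkQ_isGrHom _ I) (Submodule.ker_mkQ I)
  have hrk := rk_alt_eq_zero F hlen Z.card hbound
  have h1 : F.rk 1 = F.rk 2 + 1 := by
    have e0 : (F.rk 0 : ℤ) = 1 := by exact_mod_cast h0
    rw [e0] at hrk
    omega
  refine ⟨F, hF, hlen, h0, hdeg0, h1, ?_⟩
  exact sum_deg_eq F hlen h0 hdeg0 (F.rk 2) h1 rfl Z.card hbound

/-- **Hilbert–Burch data for the ideal of a nonempty finite set of points in the plane.** -/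
theorem exists_hilbertBurch (hZ : ∀ p ∈ Z, p ≠ 0) (hZne : Z.Nonempty) :
    ∃ (t : ℕ) (Ψ : Matrix (Fin (t + 1)) (Fin t) (MvPolynomial (Fin (2 + 1)) k))
      (g : Fin (t + 1) → MvPolynomial (Fin (2 + 1)) k) (a : Fin (t + 1) → ℤ) (b : Fin t → ℤ),
      (∀ v : Fin t → MvPolynomial (Fin (2 + 1)) k, Ψ.mulVec v = 0 → v = 0) ∧
      (∀ v : Fin (t + 1) → MvPolynomial (Fin (2 + 1)) k,
        ∑ p, v p * g p = 0 ↔ ∃ w, Ψ.mulVec w = v) ∧
      Ideal.span (Set.range g) = I ∧
      (∀ p, g p ∈ GrSyz.stdGr k (Fin (2 + 1)) (a p)) ∧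
      (∀ i j : Fin (t + 1), i ≤ j → a j ≤ a i) ∧
      (∀ i j : Fin t, i ≤ j → b j ≤ b i) ∧
      (∑ p, a p = ∑ q, b q) ∧
      (∀ i : Fin t, 1 ≤ b i - a i.castSucc) := by
  classical
  letI := quotDecomposition (isHomogeneous Z I hI)
  obtain ⟨F, hF, hlen, h0, hdeg0, h1, hsum⟩ := exists_freeRes Z I hI hZ hZne
  -- the unique basis vector of `F_0`
  let b₀ : Fin (F.rk 0) := ⟨0, by omega⟩
  have hb₀ : ∀ c : Fin (F.rk 0), c = b₀ := by
    intro c
    apply Fin.ext
    have := c.2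
    show c.val = 0
    omega
  have hsum0 : ∀ f : Fin (F.rk 0) → MvPolynomial (Fin (2 + 1)) k, ∑ c, f c = f b₀ := by
    intro f
    rw [Finset.sum_eq_single b₀ (fun c _ hc => absurd (hb₀ c) hc)
      (fun h => absurd (Finset.mem_univ _) h)]
  -- sorting
  obtain ⟨σ1, hσ1⟩ := exists_antitone_equiv (F.deg 1)
  obtain ⟨σ2, hσ2⟩ := exists_antitone_equiv (F.deg 2)
  let e1 : Fin (F.rk 2 + 1) ≃ Fin (F.rk 1) := (finCongr h1.symm).trans σ1
  let e2 : Fin (F.rk 2) ≃ Fin (F.rk 2) := σ2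
  have ha : ∀ i j : Fin (F.rk 2 + 1), i ≤ j → F.deg 1 (e1 j) ≤ F.deg 1 (e1 i) := by
    intro i j hij
    exact hσ1 _ _ (by simpa using hij)
  have hb : ∀ i j : Fin (F.rk 2), i ≤ j → F.deg 2 (e2 j) ≤ F.deg 2 (e2 i) :=
    fun i j hij => hσ2 i j hij
  -- the constant `c` with `aug b₀ = c • 1`
  obtain ⟨u, hu, hu'⟩ := exists_mem_of_surjective (GrSyz.stdGr k (Fin (2 + 1)))
    (fun d => qGr (GrSyz.stdGr k (Fin (2 + 1))) I d) (mkQ_isGrHom _ I)
    (Submodule.mkQ_surjective I) (F.aug_mem b₀)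
  rw [hdeg0 b₀] at hu
  have huC := Groth.Agent.Lib.GrSyzBasic.eq_C_of_mem_stdGr_zero k _ hu
  set c : k := constantCoeff u with hc
  have haug : ∀ v : Fin (F.rk 0) → MvPolynomial (Fin (2 + 1)) k,
      F.augLin v = Submodule.Quotient.mk (v b₀ * C c) := by
    intro v
    show Fintype.linearCombination _ F.aug v = _
    rw [Fintype.linearCombination_apply]
    have : ∀ c' : Fin (F.rk 0), v c' • F.aug c' = v b₀ • F.aug b₀ := by
      intro c'
      rw [hb₀ c']
    rw [Finset.sum_eq_single b₀ (fun c' _ hc' => absurd (hb₀ c') hc')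
      (fun h => absurd (Finset.mem_univ _) h), ← hu', huC]
    rfl
  have hc0 : c ≠ 0 := by
    intro hc0
    obtain ⟨v, hv⟩ := F.aug_surjective (Submodule.Quotient.mk 1)
    have h2 : F.augLin v = Submodule.Quotient.mk (v b₀ * C c) := haug v
    rw [hc0, map_zero, mul_zero] at h2
    have h3 : (Submodule.Quotient.mk (1 : MvPolynomial (Fin (2 + 1)) k) :
        MvPolynomial (Fin (2 + 1)) k ⧸ I) = 0 := by
      rw [← hv]
      exact h2
    have h1I : (1 : MvPolynomial (Fin (2 + 1)) k) ∈ I := (Submodule.Quotient.mk_eq_zero I).mp h3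
    rw [hI] at h1I
    obtain ⟨p, hp⟩ := hZne
    have h0' := h1I p hp 0
    rw [MvPolynomial.homogeneousComponent_zero] at h0'
    simp at h0'
  have hcu : (C c : MvPolynomial (Fin (2 + 1)) k) * C c⁻¹ = 1 := by
    rw [← C_mul, mul_inv_cancel₀ hc0, C_1]
  -- membership in `I` through the augmentation
  have hmemI : ∀ f : MvPolynomial (Fin (2 + 1)) k, f ∈ I ↔
      ∃ v' : Fin (F.rk 1) → MvPolynomial (Fin (2 + 1)) k,
        f * C c⁻¹ = ∑ p', F.d 0 b₀ p' * v' p' := by
    intro f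
    have h2 : f ∈ I ↔ F.augLin (fun _ => f * C c⁻¹) = 0 := by
      rw [haug, mul_assoc, mul_comm (C c⁻¹), hcu, mul_one, Submodule.Quotient.mk_eq_zero]
    rw [h2, ← LinearMap.mem_ker, F.exact_zero]
    constructor
    · rintro ⟨v', hv'⟩
      refine ⟨v', ?_⟩
      have := congrFun hv' b₀
      rw [Matrix.mulVecLin_apply] at this
      exact this.symm
    · rintro ⟨v', hv'⟩
      refine ⟨v', ?_⟩
      funext c'
      rw [Matrix.mulVecLin_apply, hb₀ c']
      exact hv'.symm
  refine ⟨F.rk 2, (F.d 1).submatrix e1 e2, fun p => F.d 0 b₀ (e1 p), fun p => F.deg 1 (e1 p),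
    fun q => F.deg 2 (e2 q), ?_, ?_, ?_, ?_, ha, hb, ?_, ?_⟩
  · exact fun v hv => submatrix_injective F hlen e1 e2 v hv
  · intro v
    have hex := F.exact_succ 0
    have h3 : (∑ p, v p * F.d 0 b₀ (e1 p) = 0) ↔
        (v ∘ e1.symm) ∈ LinearMap.ker (Matrix.mulVecLin (F.d 0)) := by
      rw [LinearMap.mem_ker, Matrix.mulVecLin_apply]
      constructor
      · intro h
        funext c'
        rw [hb₀ c']
        show ∑ p', F.d 0 b₀ p' * (v ∘ e1.symm) p' = 0
        rw [← h]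
        refine (Fintype.sum_equiv e1 _ _ (fun p => ?_)).symm
        simp [mul_comm]
      · intro h
        have h' : (F.d 0).mulVec (v ∘ e1.symm) b₀ = 0 := congrFun h b₀
        rw [← h']
        show _ = ∑ p', F.d 0 b₀ p' * (v ∘ e1.symm) p'
        refine Fintype.sum_equiv e1 _ _ (fun p => ?_)
        simp [mul_comm]
    rw [h3, hex]
    constructor
    · rintro ⟨w', hw'⟩
      refine ⟨w' ∘ e2, ?_⟩
      have h6 := Matrix.submatrix_mulVec_equiv (F.d 1) (w' ∘ e2) e1 e2
      rw [h6]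
      funext p
      have : (w' ∘ e2) ∘ e2.symm = w' := by
        funext q
        simp
      rw [this]
      have := congrFun hw' (e1 p)
      rw [Matrix.mulVecLin_apply] at this
      simp only [Function.comp_apply]
      rw [this]
      simp
    · rintro ⟨w, hw⟩
      refine ⟨w ∘ e2.symm, ?_⟩
      have h6 := Matrix.submatrix_mulVec_equiv (F.d 1) w e1 e2
      rw [Matrix.mulVecLin_apply]
      funext p'
      have := congrFun h6 (e1.symm p')
      simp only [Function.comp_apply, Equiv.apply_symm_apply] at this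
      rw [← this, hw]
      rfl
  · apply le_antisymm
    · rw [Ideal.span_le]
      rintro _ ⟨p, rfl⟩
      rw [SetLike.mem_coe, hmemI]
      refine ⟨Pi.single (e1 p) (C c⁻¹), ?_⟩
      rw [Finset.sum_eq_single (e1 p)]
      · rw [Pi.single_eq_same]
      · intro p' _ hp'
        rw [Pi.single_eq_of_ne hp', mul_zero]
      · intro h
        exact absurd (Finset.mem_univ _) h
    · intro f hf
      obtain ⟨v', hv'⟩ := (hmemI f).mp hf
      have h4 : f = (f * C c⁻¹) * C c := by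
        rw [mul_assoc, mul_comm (C c⁻¹), hcu, mul_one]
      rw [h4, hv']
      apply Ideal.mul_mem_right
      refine Ideal.sum_mem _ fun p' _ => Ideal.mul_mem_right _ _ (Ideal.subset_span ?_)
      exact ⟨e1.symm p', by simp⟩
  · intro p
    have := F.d_mem 0 b₀ (e1 p)
    rw [hdeg0 b₀, sub_zero] at this
    exact this
  · show ∑ p, F.deg 1 (e1 p) = ∑ q, F.deg 2 (e2 q)
    rw [Fintype.sum_equiv e1 (fun p => F.deg 1 (e1 p)) (fun p' => F.deg 1 p') (fun _ => rfl),
      Fintype.sum_equiv e2 (fun q => F.deg 2 (e2 q)) (fun q' => F.deg 2 q') (fun _ => rfl)]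
    exact hsum
  · exact fun i => one_le_deg_sub' F hF hlen e1 e2 ha hb i

end Plane

end Groth.Agent.Lib.GrPoints
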