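import Groth.Agent.Lib.GrSegCMRing
import Groth.Agent.Lib.GrLCEnd
import Groth.Agent.S19750

/-!
# a-invariants and Segre products of standard graded rings (helper12)
-/

set_option autoImplicit false
set_option linter.unusedSectionVars false
set_option linter.style.haveILetI false
universe u
open scoped TensorProduct

namespace Groth.Agent.Lib.GrSegAInv

open DirectSum GrLC Groth.Agent.Lib.GrNoether20 Groth.Agent.Lib.GrLCEnd

section Std

variable {k : Type u} [Field k] {R : Type u} [CommRing R] [Algebra k R] (𝒜 : ℤ → Submodule k R)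
  [GradedAlgebra 𝒜] (hpos : ∀ n : ℤ, n < 0 → 𝒜 n = ⊥) (h0 : 𝒜 0 = Submodule.span k {(1 : R)})
  (hstd : Ideal.span (⋃ n ∈ Set.Ioi (0 : ℤ), (𝒜 n : Set R)) =
    Ideal.span ((𝒜 1 : Submodule k R) : Set R))

include hstd in
theorem piece_succ_eq_bot {m : ℤ} (hm : 0 ≤ m) (h : 𝒜 m = ⊥) : 𝒜 (m + 1) = ⊥ := by
  rw [eq_bot_iff]
  intro x hx
  have h1 := Groth.Agent.S19750.mem_span_mul_of_std 𝒜 hstd (m := m + 1) (by omega) hx
  have h2 : Submodule.span k {z : R | ∃ r ∈ 𝒜 1, ∃ x' ∈ 𝒜 (m + 1 - 1), z = r * x'} = ⊥ := by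
    rw [Submodule.span_eq_bot]
    rintro z ⟨r, -, x', hx', rfl⟩
    rw [add_sub_cancel_right, h] at hx'
    rw [(Submodule.mem_bot k).1 hx', mul_zero]
  rw [h2] at h1
  exact h1

include hstd in
theorem piece_eq_bot_of_le {n : ℤ} (hn : 0 ≤ n) (h : 𝒜 n = ⊥) (m : ℕ) : 𝒜 (n + m) = ⊥ := by
  induction m with
  | zero => rw [Nat.cast_zero, add_zero]; exact h
  | succ m ih =>
    have := piece_succ_eq_bot 𝒜 hstd (m := n + m) (by omega) ih
    rw [Nat.cast_succ, ← add_assoc]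
    exact this

include hpos h0 hstd in
/-- A standard graded ring of positive dimension is nonzero in every nonnegative degree. -/
theorem piece_ne_bot_of_std [Nontrivial R] (hdim : 1 ≤ ringKrullDim R) {n : ℤ} (hn : 0 ≤ n) :
    𝒜 n ≠ ⊥ := by
  intro h
  have hmax : (irr 𝒜).IsMaximal := irr_isMaximal 𝒜 hpos h0
  have hle : ∀ p : Ideal R, p.IsPrime → irr 𝒜 ≤ p := by
    intro p hp
    unfold irr
    rw [Ideal.span_le]
    rintro a ⟨i, hi, ha⟩
    obtain ⟨N, rfl⟩ := Int.eq_ofNat_of_zero_le hn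
    have h1 : a ^ (N + 1) ∈ 𝒜 (((N + 1 : ℕ) : ℤ) * i) := by
      have := SetLike.pow_mem_graded (N + 1) ha
      rw [nsmul_eq_mul] at this
      exact this
    obtain ⟨m, hm⟩ : ∃ m : ℕ, ((N + 1 : ℕ) : ℤ) * i = (N : ℤ) + m := by
      refine ⟨(((N + 1 : ℕ) : ℤ) * i - N).toNat, ?_⟩
      have : (0 : ℤ) ≤ ((N + 1 : ℕ) : ℤ) * i - N := by
        have : ((N + 1 : ℕ) : ℤ) * 1 ≤ ((N + 1 : ℕ) : ℤ) * i :=
          mul_le_mul_of_nonneg_left (by omega) (by positivity)
        push_cast at this ⊢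
        linarith
      rw [Int.toNat_of_nonneg this]
      ring
    rw [hm, piece_eq_bot_of_le 𝒜 hstd hn h m] at h1
    have h2 : a ^ (N + 1) = 0 := (Submodule.mem_bot k).1 h1
    have h3 : a ^ (N + 1) ∈ p := by rw [h2]; exact zero_mem _
    exact hp.mem_of_pow_mem _ h3
  have hK : Ring.KrullDimLE 0 R := by
    refine Ring.KrullDimLE.mk₀ fun p hp => ?_
    have := hmax.eq_of_le hp.ne_top (hle p hp)
    rw [← this]
    exact hmax
  have h1 : ringKrullDim R ≤ 0 := by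
    have := (Ring.krullDimLE_iff (n := 0) (R := R)).1 hK
    exact_mod_cast this
  have h2 := hdim.trans h1
  exact absurd h2 (by norm_num)

end Std

section End

variable {G : Type u} [AddCommGroup G]

theorem endDeg_lt_zero_iff (𝒢 : ℤ → AddSubgroup G) :
    GrLC.endDeg 𝒢 < 0 ↔ ∀ d : ℤ, 0 ≤ d → 𝒢 d = ⊥ := by
  constructor
  · intro h d hd
    by_contra hne
    have h1 := (le_endDeg 𝒢 hne).trans_lt h
    have h2 : c d < c 0 := h1
    have h3 : d < 0 := by
      by_contra hcon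
      push Not at hcon
      exact absurd (c_le_c.2 hcon) (not_le.2 h2)
    omega
  · intro h
    have h1 : GrLC.endDeg 𝒢 ≤ c (-1) := by
      rw [endDeg_le_iff]
      intro d hd
      exact h d (by omega)
    refine lt_of_le_of_lt h1 ?_
    show c (-1) < c 0
    rw [lt_iff_le_and_ne]
    refine ⟨c_le_c.2 (by norm_num), ?_⟩
    intro heq
    have := c_le_c.1 (le_of_eq heq.symm)
    omega

end End

section Comb

variable {k : Type u} [Field k] {R : Type u} [CommRing R] [Algebra k R] (𝒜 : ℤ → Submodule k R)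
  {S : Type u} [CommRing S] {σ : Type u} [SetLike σ S] [AddSubgroupClass σ S]
  {ℬ : ℤ → σ} [GradedRing ℬ]
  {N : Type u} [AddCommGroup N] [Module S N] {τ : Type u} [SetLike τ N] [AddSubgroupClass τ N]
  {𝒩 : ℤ → τ} [Decomposition 𝒩] [SetLike.GradedSMul ℬ 𝒩]

theorem Hgr_eq_bot_iff (J : StarInjRes ℬ 𝒩) (a : HomogeneousIdeal ℬ) (i : ℕ) (d : ℤ) :
    J.Hgr a i d = ⊥ ↔ J.Hcomp a i d = ⊥ := by
  rw [AddSubgroup.eq_bot_iff_forall, Submodule.eq_bot_iff]
  exact Iff.rfl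

/-- `R # H = 0` iff `a(H) < 0`, when `R_n ≠ 0` exactly for `n ≥ 0`. -/
theorem forall_or_iff_endDeg (hpos : ∀ n : ℤ, n < 0 → 𝒜 n = ⊥)
    (hnz : ∀ n : ℤ, 0 ≤ n → 𝒜 n ≠ ⊥) (J : StarInjRes ℬ 𝒩) (a : HomogeneousIdeal ℬ) (i : ℕ) :
    (∀ n : ℤ, 𝒜 n = ⊥ ∨ J.Hcomp a i n = ⊥) ↔ GrLC.endDeg (J.Hgr a i) < 0 := by
  rw [endDeg_lt_zero_iff]
  constructor
  · intro h d hd
    rw [Hgr_eq_bot_iff]
    exact (h d).resolve_left (hnz d hd)
  · intro h n
    by_cases hn : n < 0
    · exact Or.inl (hpos n hn)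
    · right
      rw [← Hgr_eq_bot_iff]
      exact h n (by omega)

end Comb

section Misc

variable {G : Type u} [AddCommGroup G]

theorem endDeg_lt_zero_iff_le (𝒢 : ℤ → AddSubgroup G) :
    GrLC.endDeg 𝒢 < 0 ↔ GrLC.endDeg 𝒢 ≤ c (-1) := by
  rw [endDeg_lt_zero_iff, endDeg_le_iff]
  constructor
  · intro h d hd
    exact h d (by omega)
  · intro h d hd
    exact h d (by omega)

theorem exists_nat_ringKrullDim_of_finiteType (k : Type u) [Field k] (S : Type u) [CommRing S]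
    [Algebra k S] [Algebra.FiniteType k S] [Nontrivial S] : ∃ s : ℕ, ringKrullDim S = s := by
  obtain ⟨n, f, hf⟩ := Algebra.FiniteType.iff_quotient_mvPolynomial''.mp
    (inferInstance : Algebra.FiniteType k S)
  have h1 : ringKrullDim S ≤ ringKrullDim (MvPolynomial (Fin n) k) :=
    ringKrullDim_le_of_surjective f.toRingHom hf
  have h2 : ringKrullDim (MvPolynomial (Fin n) k) = ringKrullDim k + (Nat.card (Fin n) : ℕ) :=
    MvPolynomial.ringKrullDim_of_isNoetherianRing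
  rw [h2, ringKrullDim_eq_zero_of_field, zero_add, Nat.card_eq_fintype_card,
    Fintype.card_fin] at h1
  have hne : ringKrullDim S ≠ ⊥ := by
    intro h
    have := ringKrullDim_nonneg_of_nontrivial (R := S)
    rw [h] at this
    exact absurd this (by simp)
  obtain ⟨d, hd⟩ := WithBot.ne_bot_iff_exists.mp hne
  rw [← hd] at h1
  have hd' : d ≠ ⊤ := by
    rintro rfl
    have : ((⊤ : ℕ∞) : WithBot ℕ∞) ≤ ((n : ℕ∞) : WithBot ℕ∞) := h1
    rw [WithBot.coe_le_coe, top_le_iff] at this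
    exact ENat.natCast_ne_top n this
  obtain ⟨s, hs⟩ := ENat.ne_top_iff_exists.mp hd'
  exact ⟨s, by rw [← hd, ← hs]; rfl⟩

end Misc

end Groth.Agent.Lib.GrSegAInv
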