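import Groth.Prelude.Def_GrSeg
import Groth.Prelude.Def_GrLC
import Mathlib.LinearAlgebra.Dual.Lemmas
import Mathlib.LinearAlgebra.Basis.VectorSpace

/-! Graded `k`-duals (`GrSeg.IsGDual`) with pieces of the primal module in an arbitrary `SetLike`:
basic lemmas and the representability property: graded homomorphisms into the graded dual `D` of
`M` are the same as graded-compatible pairings with `M`. -/

set_option autoImplicit false
set_option linter.unusedSectionVars false
universe u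

namespace Groth.Agent.Lib.H2GrDual
open DirectSum

section basic

variable {M : Type*} [AddCommGroup M] {τ : Type*} [SetLike τ M] [AddSubgroupClass τ M]
  (ℳ : ℤ → τ) [DirectSum.Decomposition ℳ]

lemma coe_decompose_add (x y : M) (i : ℤ) :
    ((decompose ℳ (x + y)) i : M) = (decompose ℳ x i : M) + (decompose ℳ y i : M) := by
  rw [decompose_add, DirectSum.add_apply, AddMemClass.coe_add]

/-- an element all of whose components vanish is zero -/
lemma eq_zero_of_decompose_eq_zero (x : M) (h : ∀ n, (decompose ℳ x n : M) = 0) : x = 0 := by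
  have h0 : decompose ℳ x = 0 := by
    ext n; simpa using h n
  exact (decompose ℳ).injective (h0.trans (decompose_zero ℳ).symm)

lemma mem_of_decompose_eq (x : M) (n : ℤ) (h : (decompose ℳ x n : M) = x) : x ∈ ℳ n := by
  rw [← h]; exact (decompose ℳ x n).2

end basic

section duality

variable {k : Type u} [Field k] {R : Type u} [CommRing R] [Algebra k R]
  {M : Type u} [AddCommGroup M] [Module R M] [Module k M] [IsScalarTower k R M]
  {τ : Type u} [SetLike τ M] [AddSubgroupClass τ M]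
  (ℳ : ℤ → τ) [DirectSum.Decomposition ℳ]
  {D : Type u} [AddCommGroup D] [Module R D] [Module k D] [IsScalarTower k R D]
  {τ' : Type u} [SetLike τ' D] [AddSubgroupClass τ' D]
  (𝒟 : ℤ → τ') [DirectSum.Decomposition 𝒟]
  (β : D →ₗ[k] M →ₗ[k] k)

/-- for d ∈ D_n: β d x = β d (x_{-n}) -/
lemma beta_eq_left (hD : GrSeg.IsGDual R ℳ 𝒟 β) {n : ℤ} {d : D} (hd : d ∈ 𝒟 n) (x : M) :
    β d x = β d (decompose ℳ x (-n) : M) := by
  induction x using Decomposition.inductionOn ℳ with
  | zero => simp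
  | @homogeneous i x =>
    by_cases hi : i = -n
    · subst hi; rw [decompose_of_mem_same ℳ x.2]
    · rw [decompose_of_mem_ne ℳ x.2 hi, map_zero]; exact hD.vanish n d hd i hi x x.2
  | add x x' hx hx' =>
    rw [map_add, hx, hx', coe_decompose_add, map_add]

/-- for x ∈ M_n: β d x = β (d_{-n}) x -/
lemma beta_eq_right (hD : GrSeg.IsGDual R ℳ 𝒟 β) {n : ℤ} {x : M} (hx : x ∈ ℳ n) (d : D) :
    β d x = β (decompose 𝒟 d (-n) : D) x := by
  induction d using Decomposition.inductionOn 𝒟 with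
  | zero => simp
  | @homogeneous i d =>
    by_cases hi : i = -n
    · subst hi; rw [decompose_of_mem_same 𝒟 d.2]
    · rw [decompose_of_mem_ne 𝒟 d.2 hi, map_zero, LinearMap.zero_apply]
      exact hD.vanish i d d.2 n (by intro h; apply hi; rw [h, neg_neg]) x hx
  | add d d' hd hd' =>
    rw [map_add, LinearMap.add_apply, hd, hd', coe_decompose_add, map_add, LinearMap.add_apply]

/-- separation on the primal side -/
lemma eq_zero_of_forall (hD : GrSeg.IsGDual R ℳ 𝒟 β) (m : M) (h : ∀ d : D, β d m = 0) :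
    m = 0 := by
  by_contra hm
  have : ∃ n, (decompose ℳ m n : M) ≠ 0 := by
    by_contra hall
    push Not at hall
    exact hm (eq_zero_of_decompose_eq_zero ℳ m hall)
  obtain ⟨n, hn⟩ := this
  obtain ⟨φ, hφ⟩ : ∃ φ : Module.Dual k M, φ (decompose ℳ m n : M) ≠ 0 :=
    Module.Projective.exists_dual_ne_zero k hn
  obtain ⟨d, hd, hdφ⟩ := hD.exists_eq (-n) φ
  have h1 := beta_eq_left ℳ 𝒟 β hD hd m
  rw [neg_neg] at h1 hdφ
  rw [h d, hdφ _ (decompose ℳ m n).2] at h1
  exact hφ h1.symm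

/-- separation on the dual side -/
lemma eq_zero_of_forall_left (hD : GrSeg.IsGDual R ℳ 𝒟 β) (d : D) (h : ∀ m : M, β d m = 0) :
    d = 0 := by
  apply eq_zero_of_decompose_eq_zero 𝒟
  intro n
  apply hD.eq_zero n _ (decompose 𝒟 d n).2
  intro x hx
  have := beta_eq_right ℳ 𝒟 β hD hx d
  rw [neg_neg] at this
  rw [← this, h]

end duality



section graded

variable {k : Type u} [Field k] {R : Type u} [CommRing R] [Algebra k R]
  (𝒜 : ℤ → Submodule k R) [GradedAlgebra 𝒜]
  {M : Type u} [AddCommGroup M] [Module R M]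
  {τ : Type u} [SetLike τ M] [AddSubgroupClass τ M]
  (ℳ : ℤ → τ) [DirectSum.Decomposition ℳ] [SetLike.GradedSMul 𝒜 ℳ]
  {N : Type u} [AddCommGroup N] [Module R N]
  {τ' : Type u} [SetLike τ' N] [AddSubgroupClass τ' N]
  (𝒩 : ℤ → τ') [DirectSum.Decomposition 𝒩]

lemma smul_mem_add {i j : ℤ} {r : R} {x : M} (hr : r ∈ 𝒜 i) (hx : x ∈ ℳ j) :
    r • x ∈ ℳ (i + j) := by
  have := SetLike.GradedSMul.smul_mem (A := 𝒜) (B := ℳ) hr hx
  rwa [vadd_eq_add] at this

/-- Components of `r • x` for a homogeneous scalar `r`. -/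
theorem decompose_smul_left {i : ℤ} {r : R} (hr : r ∈ 𝒜 i) (x : M) (j : ℤ) :
    (decompose ℳ (r • x) (i + j) : M) = r • (decompose ℳ x j : M) := by
  induction x using Decomposition.inductionOn ℳ with
  | zero => simp
  | @homogeneous l x =>
    have hrx : r • (x : M) ∈ ℳ (i + l) := smul_mem_add 𝒜 ℳ hr x.2
    by_cases hl : l = j
    · subst hl
      rw [decompose_of_mem_same ℳ hrx, decompose_of_mem_same ℳ x.2]
    · have hne : i + l ≠ i + j := fun hh => hl (add_left_cancel hh)
      rw [decompose_of_mem_ne ℳ hrx hne, decompose_of_mem_ne ℳ x.2 hl, smul_zero]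
  | add x x' hx hx' =>
    rw [smul_add, coe_decompose_add, coe_decompose_add, smul_add, hx, hx']

/-- graded maps commute with components -/
lemma map_decompose (f : M →ₗ[R] N) (hf : GrLC.IsGrHom ℳ 𝒩 f) (x : M) (j : ℤ) :
    f (decompose ℳ x j : M) = (decompose 𝒩 (f x) j : N) := by
  induction x using Decomposition.inductionOn ℳ with
  | zero => simp
  | @homogeneous i x =>
    by_cases hi : i = j
    · subst hi
      rw [decompose_of_mem_same ℳ x.2, decompose_of_mem_same 𝒩 (hf _ _ x.2)]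
    · rw [decompose_of_mem_ne ℳ x.2 hi, decompose_of_mem_ne 𝒩 (hf _ _ x.2) hi, map_zero]
  | add x x' hx hx' =>
    rw [coe_decompose_add, map_add, hx, hx', map_add, coe_decompose_add]

end graded

section represent

variable {k : Type u} [Field k] {R : Type u} [CommRing R] [Algebra k R]
  {M : Type u} [AddCommGroup M] [Module R M] [Module k M] [IsScalarTower k R M]
  {τ : Type u} [SetLike τ M] [AddSubgroupClass τ M]
  (ℳ : ℤ → τ) [DirectSum.Decomposition ℳ]
  {D : Type u} [AddCommGroup D] [Module R D] [Module k D] [IsScalarTower k R D]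
  {τ' : Type u} [SetLike τ' D] [AddSubgroupClass τ' D]
  (𝒟 : ℤ → τ') [DirectSum.Decomposition 𝒟]
  (β : D →ₗ[k] M →ₗ[k] k)
  {B : Type u} [AddCommGroup B] [Module R B] [Module k B] [IsScalarTower k R B]
  {σ : Type u} [SetLike σ B] [AddSubgroupClass σ B]
  (ℬ : ℤ → σ) [DirectSum.Decomposition ℬ]
  (Φ : B →ₗ[k] M →ₗ[k] k)

lemma exists_rep_hom (hD : GrSeg.IsGDual R ℳ 𝒟 β)
    (hΦvan : ∀ (n : ℤ) (b : B), b ∈ ℬ n → ∀ m : ℤ, m ≠ -n → ∀ x : M, x ∈ ℳ m → Φ b x = 0)
    {n : ℤ} {b : B} (hb : b ∈ ℬ n) : ∃ d ∈ 𝒟 n, ∀ x : M, β d x = Φ b x := by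
  obtain ⟨d, hd, hdΦ⟩ := hD.exists_eq n (Φ b)
  refine ⟨d, hd, fun x => ?_⟩
  induction x using Decomposition.inductionOn ℳ with
  | zero => simp
  | @homogeneous m x =>
    by_cases hm : m = -n
    · subst hm; exact hdΦ x x.2
    · rw [hD.vanish n d hd m hm x x.2, hΦvan n b hb m hm x x.2]
  | add x x' hx hx' => rw [map_add, map_add, hx, hx']

lemma exists_rep_all (hD : GrSeg.IsGDual R ℳ 𝒟 β)
    (hΦvan : ∀ (n : ℤ) (b : B), b ∈ ℬ n → ∀ m : ℤ, m ≠ -n → ∀ x : M, x ∈ ℳ m → Φ b x = 0)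
    (b : B) : ∃ d : D, ∀ x : M, β d x = Φ b x := by
  induction b using Decomposition.inductionOn ℬ with
  | zero => exact ⟨0, fun x => by simp⟩
  | @homogeneous i b =>
    obtain ⟨d, -, hd⟩ := exists_rep_hom ℳ 𝒟 β ℬ Φ hD hΦvan b.2
    exact ⟨d, hd⟩
  | add b b' hb hb' =>
    obtain ⟨d, hd⟩ := hb
    obtain ⟨d', hd'⟩ := hb'
    exact ⟨d + d', fun x => by rw [map_add, map_add, LinearMap.add_apply, LinearMap.add_apply,
      hd, hd']⟩

/-- **Representability of the graded dual**: a pairing `Φ : B × M → k` compatible with the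
`R`-actions and the gradings comes from a unique graded homomorphism `B → D = M^*`. -/
theorem exists_hom_of_pairing (hD : GrSeg.IsGDual R ℳ 𝒟 β)
    (hΦsmul : ∀ (r : R) (b : B) (x : M), Φ (r • b) x = Φ b (r • x))
    (hΦvan : ∀ (n : ℤ) (b : B), b ∈ ℬ n → ∀ m : ℤ, m ≠ -n → ∀ x : M, x ∈ ℳ m → Φ b x = 0) :
    ∃ h : B →ₗ[R] D, GrLC.IsGrHom ℬ 𝒟 h ∧ ∀ (b : B) (x : M), β (h b) x = Φ b x := by
  have hex := exists_rep_all ℳ 𝒟 β ℬ Φ hD hΦvan
  choose h₀ hh₀ using hex
  have sep : ∀ d d' : D, (∀ x : M, β d x = β d' x) → d = d' := by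
    intro d d' h
    rw [← sub_eq_zero]
    apply eq_zero_of_forall_left ℳ 𝒟 β hD
    intro x
    rw [map_sub, LinearMap.sub_apply, h x, sub_self]
  let h : B →ₗ[R] D :=
    { toFun := h₀
      map_add' := by
        intro b b'
        apply sep
        intro x
        rw [map_add, LinearMap.add_apply, hh₀, hh₀, hh₀, map_add, LinearMap.add_apply]
      map_smul' := by
        intro r b
        apply sep
        intro x
        rw [RingHom.id_apply, hh₀, hD.map_smul, hh₀, hΦsmul] }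
  have hh : ∀ b, h b = h₀ b := fun b => rfl
  refine ⟨h, ?_, fun b x => by rw [hh, hh₀]⟩
  intro n b hb
  obtain ⟨d, hd, hdΦ⟩ := exists_rep_hom ℳ 𝒟 β ℬ Φ hD hΦvan hb
  have : h b = d := by
    apply sep
    intro x
    rw [hh, hh₀, hdΦ]
  rw [this]; exact hd

end represent

end Groth.Agent.Lib.H2GrDual
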