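/-
helper2: Segre modules `M # N` (Groth.Prelude.Def_GrSeg): the `R ⊗ S`-module structure on `M ⊗ N` given by
`GrSeg.act`, finiteness, and the diagonal projection `M ⊗ N → ⊕ M_n ⊗ N_n` for `AddSubgroup`-valued gradings.
-/
import Groth.Prelude.Def_GrSeg
import Groth.Agent.Lib.H2GrDual
import Mathlib

set_option autoImplicit false
universe u
open scoped TensorProduct

namespace Groth.Agent.Lib.H2SegreMod

open TensorProduct DirectSum

section ActModule
variable (k : Type u) [CommRing k] (R S : Type u) [CommRing R] [CommRing S] [Algebra k R] [Algebra k S]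
  (M N : Type u) [AddCommGroup M] [Module R M] [Module k M] [IsScalarTower k R M]
  [AddCommGroup N] [Module S N] [Module k N] [IsScalarTower k S N]

theorem act_one : GrSeg.act k R S M N 1 = LinearMap.id := by
  ext m n
  simp [Algebra.TensorProduct.one_def, GrSeg.act_tmul]

theorem act_mul (a b : R ⊗[k] S) :
    GrSeg.act k R S M N (a * b) = GrSeg.act k R S M N a ∘ₗ GrSeg.act k R S M N b := by
  induction a using TensorProduct.induction_on with
  | zero => simp
  | add a a' ha ha' => rw [add_mul, map_add, ha, ha', map_add, LinearMap.add_comp]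
  | tmul r s =>
    induction b using TensorProduct.induction_on with
    | zero => simp
    | add b b' hb hb' => rw [mul_add, map_add, hb, hb', map_add, LinearMap.comp_add]
    | tmul r' s' =>
      ext m n
      simp [GrSeg.act_tmul, mul_smul]

/-- `act` as a ring hom into the endomorphism ring. -/
noncomputable def actHom : R ⊗[k] S →+* Module.End k (M ⊗[k] N) where
  toFun := GrSeg.act k R S M N
  map_one' := act_one k R S M N
  map_mul' a b := act_mul k R S M N a b
  map_zero' := map_zero _
  map_add' := map_add _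

/-- the module structure of `R ⊗ S` on `M ⊗ N` -/
@[reducible] noncomputable def actModule : Module (R ⊗[k] S) (M ⊗[k] N) :=
  Module.compHom (M ⊗[k] N) (actHom k R S M N)

theorem actModule_smul (a : R ⊗[k] S) (z : M ⊗[k] N) :
    (letI := actModule k R S M N; a • z) = GrSeg.act k R S M N a z := rfl

theorem actModule_finite [Module.Finite R M] [Module.Finite S N] :
    letI := actModule k R S M N
    Module.Finite (R ⊗[k] S) (M ⊗[k] N) := by
  let _ := actModule k R S M N
  obtain ⟨sM, hsM⟩ := (Module.finite_def (R := R) (M := M)).1 inferInstance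
  obtain ⟨sN, hsN⟩ := (Module.finite_def (R := S) (M := N)).1 inferInstance
  classical
  refine ⟨⟨Finset.image₂ (fun m n => m ⊗ₜ[k] n) sM sN, ?_⟩⟩
  rw [eq_top_iff]
  rintro z -
  induction z using TensorProduct.induction_on with
  | zero => exact zero_mem _
  | add x y hx hy => exact add_mem hx hy
  | tmul m n =>
    have hm : m ∈ Submodule.span R (sM : Set M) := by rw [hsM]; trivial
    have hn : n ∈ Submodule.span S (sN : Set N) := by rw [hsN]; trivial
    induction hm using Submodule.span_induction with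
    | mem m hm =>
      induction hn using Submodule.span_induction with
      | mem n hn =>
        apply Submodule.subset_span
        rw [Finset.coe_image₂]
        exact ⟨m, hm, n, hn, rfl⟩
      | zero => rw [tmul_zero]; exact zero_mem _
      | add x y _ _ hx hy => rw [tmul_add]; exact add_mem hx hy
      | smul s x _ hx =>
        have : m ⊗ₜ[k] (s • x) = ((1 : R) ⊗ₜ[k] s : R ⊗[k] S) • (m ⊗ₜ[k] x) := by
          rw [actModule_smul, GrSeg.act_tmul, one_smul]
        rw [this]
        exact Submodule.smul_mem _ _ hx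
    | zero => rw [zero_tmul]; exact zero_mem _
    | add x y _ _ hx hy => rw [add_tmul]; exact add_mem hx hy
    | smul r x _ hx =>
      have : (r • x) ⊗ₜ[k] n = (r ⊗ₜ[k] (1 : S) : R ⊗[k] S) • (x ⊗ₜ[k] n) := by
        rw [actModule_smul, GrSeg.act_tmul, one_smul]
      rw [this]
      exact Submodule.smul_mem _ _ hx

end ActModule


section Proj
variable {k : Type u} [Field k] {R : Type u} [CommRing R] [Algebra k R] (𝒜 : ℤ → Submodule k R)
  [GradedAlgebra 𝒜]
  {M : Type u} [AddCommGroup M] [Module R M] [Module k M] [IsScalarTower k R M]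
  (ℳ : ℤ → AddSubgroup M) [DirectSum.Decomposition ℳ] [SetLike.GradedSMul 𝒜 ℳ]

include 𝒜

theorem decompose_ksmul (c : k) (x : M) (j : ℤ) :
    (decompose ℳ (c • x) j : M) = c • (decompose ℳ x j : M) := by
  have h := Groth.Agent.Lib.H2GrDual.decompose_smul_left 𝒜 ℳ
    (SetLike.algebraMap_mem_graded 𝒜 c) x j
  rw [zero_add, algebraMap_smul, algebraMap_smul] at h
  exact h

theorem ksmul_mem {c : k} {x : M} {j : ℤ} (hx : x ∈ ℳ j) : c • x ∈ ℳ j := by
  have h := Groth.Agent.Lib.H2GrDual.smul_mem_add 𝒜 ℳ (SetLike.algebraMap_mem_graded 𝒜 c) hx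
  rwa [zero_add, algebraMap_smul] at h

/-- the `k`-linear projection onto the `i`-th piece -/
noncomputable def projM (i : ℤ) : M →ₗ[k] M where
  toFun m := (decompose ℳ m i : M)
  map_add' x y := Groth.Agent.Lib.H2GrDual.coe_decompose_add ℳ x y i
  map_smul' c x := decompose_ksmul 𝒜 ℳ c x i

theorem projM_apply (i : ℤ) (m : M) : projM 𝒜 ℳ i m = (decompose ℳ m i : M) := rfl

theorem projM_of_mem_same {i : ℤ} {m : M} (hm : m ∈ ℳ i) : projM 𝒜 ℳ i m = m :=
  decompose_of_mem_same ℳ hm

theorem projM_of_mem_ne {i j : ℤ} {m : M} (hm : m ∈ ℳ i) (h : i ≠ j) : projM 𝒜 ℳ j m = 0 :=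
  decompose_of_mem_ne ℳ hm h

theorem projM_support_finite (m : M) : (Function.support fun i => projM 𝒜 ℳ i m).Finite := by
  classical
  refine ((decompose ℳ m).support.finite_toSet).subset ?_
  intro i hi
  rw [Function.mem_support] at hi
  rw [Finset.mem_coe, DFinsupp.mem_support_toFun]
  intro h
  apply hi
  rw [projM_apply, h]
  rfl

end Proj

section HomInd
variable {k : Type u} [Field k] {M : Type u} [AddCommGroup M] [Module k M]
  {σ : Type*} [SetLike σ M] [AddSubgroupClass σ M] (ℳ : ℤ → σ) [DirectSum.Decomposition ℳ]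
  {N : Type u} [AddCommGroup N] [Module k N]
  {σ' : Type*} [SetLike σ' N] [AddSubgroupClass σ' N] (𝒩 : ℤ → σ') [DirectSum.Decomposition 𝒩]

/-- Induction principle: `M ⊗ N` is generated by tensors of homogeneous elements. -/
theorem hom_induction {p : M ⊗[k] N → Prop} (h0 : p 0) (hadd : ∀ x y, p x → p y → p (x + y))
    (hmul : ∀ (i j : ℤ) (a : M) (b : N), a ∈ ℳ i → b ∈ 𝒩 j → p (a ⊗ₜ b)) : ∀ x, p x := by
  intro x
  induction x using TensorProduct.induction_on with
  | zero => exact h0
  | add x y hx hy => exact hadd x y hx hy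
  | tmul a b =>
    induction a using DirectSum.Decomposition.inductionOn ℳ with
    | zero => rw [zero_tmul]; exact h0
    | add a a' ha ha' => rw [add_tmul]; exact hadd _ _ ha ha'
    | homogeneous a =>
      rename_i i
      induction b using DirectSum.Decomposition.inductionOn 𝒩 with
      | zero => rw [tmul_zero]; exact h0
      | add b b' hb hb' => rw [tmul_add]; exact hadd _ _ hb hb'
      | homogeneous b =>
        rename_i j
        exact hmul i j a b a.2 b.2

end HomInd

section Diag
variable {k : Type u} [Field k] {R : Type u} [CommRing R] [Algebra k R] (𝒜 : ℤ → Submodule k R)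
  [GradedAlgebra 𝒜]
  {M : Type u} [AddCommGroup M] [Module R M] [Module k M] [IsScalarTower k R M]
  (ℳ : ℤ → AddSubgroup M) [DirectSum.Decomposition ℳ] [SetLike.GradedSMul 𝒜 ℳ]
  {S : Type u} [CommRing S] [Algebra k S] (ℬ : ℤ → Submodule k S) [GradedAlgebra ℬ]
  {N : Type u} [AddCommGroup N] [Module S N] [Module k N] [IsScalarTower k S N]
  (𝒩 : ℤ → AddSubgroup N) [DirectSum.Decomposition 𝒩] [SetLike.GradedSMul ℬ 𝒩]

/-- `m ⊗ n ↦ m_i ⊗ n_i` -/
noncomputable def P (i : ℤ) : M ⊗[k] N →ₗ[k] M ⊗[k] N :=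
  TensorProduct.map (projM 𝒜 ℳ i) (projM ℬ 𝒩 i)

theorem P_support_finite (z : M ⊗[k] N) :
    (Function.support fun i => P 𝒜 ℳ ℬ 𝒩 i z).Finite := by
  induction z using TensorProduct.induction_on with
  | zero => simp
  | add x y hx hy =>
    refine (hx.union hy).subset ?_
    intro i hi
    rw [Function.mem_support] at hi
    by_contra hcon
    rw [Set.mem_union, not_or, Function.mem_support, Function.mem_support, not_not, not_not]
      at hcon
    apply hi
    rw [map_add, hcon.1, hcon.2, add_zero]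
  | tmul m n =>
    refine (projM_support_finite 𝒜 ℳ m).subset ?_
    intro i hi
    rw [Function.mem_support] at hi ⊢
    intro h
    apply hi
    rw [P, TensorProduct.map_tmul, h, zero_tmul]

/-- The projection of `M ⊗ N` onto its diagonal part `⊕ M_n ⊗ N_n`. -/
noncomputable def diagProj : M ⊗[k] N →ₗ[k] M ⊗[k] N where
  toFun z := ∑ᶠ i, P 𝒜 ℳ ℬ 𝒩 i z
  map_add' x y := by
    simp only [map_add]
    exact finsum_add_distrib (P_support_finite 𝒜 ℳ ℬ 𝒩 x) (P_support_finite 𝒜 ℳ ℬ 𝒩 y)
  map_smul' c x := by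
    simp only [map_smul, RingHom.id_apply]
    exact (smul_finsum' c (P_support_finite 𝒜 ℳ ℬ 𝒩 x)).symm

theorem diagProj_tmul {i j : ℤ} {a : M} {b : N} (ha : a ∈ ℳ i) (hb : b ∈ 𝒩 j) :
    diagProj 𝒜 ℳ ℬ 𝒩 (a ⊗ₜ b) = if i = j then a ⊗ₜ b else 0 := by
  show ∑ᶠ l, P 𝒜 ℳ ℬ 𝒩 l (a ⊗ₜ b) = _
  rw [finsum_eq_single _ i]
  · rw [P, TensorProduct.map_tmul, projM_of_mem_same 𝒜 ℳ ha]
    split_ifs with h
    · subst h
      rw [projM_of_mem_same ℬ 𝒩 hb]
    · rw [projM_of_mem_ne ℬ 𝒩 hb (Ne.symm h), tmul_zero]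
  · intro l hl
    rw [P, TensorProduct.map_tmul, projM_of_mem_ne 𝒜 ℳ ha (Ne.symm hl), zero_tmul]

/-- The diagonal part of `M ⊗ N`. -/
def diag : Submodule k (M ⊗[k] N) := ⨆ n, GrSeg.segrePiece k ℳ 𝒩 n

theorem diagProj_of_mem {y : M ⊗[k] N} (hy : y ∈ diag (k := k) ℳ 𝒩) :
    diagProj 𝒜 ℳ ℬ 𝒩 y = y := by
  unfold diag at hy
  induction hy using Submodule.iSup_induction' with
  | mem n y hy =>
    unfold GrSeg.segrePiece at hy
    induction hy using Submodule.span_induction with
    | mem y hy =>
      obtain ⟨a, ha, b, hb, rfl⟩ := hy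
      rw [diagProj_tmul 𝒜 ℳ ℬ 𝒩 ha hb, if_pos rfl]
    | zero => rw [map_zero]
    | add x y _ _ hx hy => rw [map_add, hx, hy]
    | smul c x _ hx => rw [map_smul, hx]
  | zero => rw [map_zero]
  | add x y _ _ hx hy => rw [map_add, hx, hy]

/-- homogeneous scalars of bidegree `(i,j)` either preserve or kill the diagonal part -/
theorem diagProj_act {y : M ⊗[k] N} (hy : y ∈ diag (k := k) ℳ 𝒩) {i j : ℤ} {r : R} {s : S}
    (hr : r ∈ 𝒜 i) (hs : s ∈ ℬ j) :
    diagProj 𝒜 ℳ ℬ 𝒩 (GrSeg.act k R S M N (r ⊗ₜ s) y) =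
      if i = j then GrSeg.act k R S M N (r ⊗ₜ s) y else 0 := by
  unfold diag at hy
  induction hy using Submodule.iSup_induction' with
  | mem n y hy =>
    unfold GrSeg.segrePiece at hy
    induction hy using Submodule.span_induction with
    | mem y hy =>
      obtain ⟨a, ha, b, hb, rfl⟩ := hy
      rw [GrSeg.act_tmul,
        diagProj_tmul 𝒜 ℳ ℬ 𝒩 (Groth.Agent.Lib.H2GrDual.smul_mem_add 𝒜 ℳ hr ha)
          (Groth.Agent.Lib.H2GrDual.smul_mem_add ℬ 𝒩 hs hb)]
      by_cases h : i = j
      · subst h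
        rw [if_pos rfl, if_pos rfl]
      · rw [if_neg h, if_neg (by simpa using h)]
    | zero => simp
    | add x y _ _ hx hy =>
      rw [map_add, map_add, hx, hy]
      split_ifs <;> simp
    | smul c x _ hx =>
      rw [map_smul, map_smul, hx]
      split_ifs <;> simp
  | zero => simp
  | add x y _ _ hx hy =>
    rw [map_add, map_add, hx, hy]
    split_ifs <;> simp

end Diag

end Groth.Agent.Lib.H2SegreMod
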