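/-
helper2: Segre modules `M # N` (Groth.Prelude.Def_GrSeg), part 2: more on the diagonal projection and the
graded structure of a Segre module presented by `GrSeg.IsSegreMod`.
-/
import Groth.Agent.Lib.H2SegreMod

set_option autoImplicit false
set_option linter.unusedSectionVars false
universe u
open scoped TensorProduct

namespace Groth.Agent.Lib.H2SegreMod

open TensorProduct DirectSum

section Diag2
variable {k : Type u} [Field k] {R : Type u} [CommRing R] [Algebra k R] (𝒜 : ℤ → Submodule k R)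
  [GradedAlgebra 𝒜]
  {M : Type u} [AddCommGroup M] [Module R M] [Module k M] [IsScalarTower k R M]
  (ℳ : ℤ → AddSubgroup M) [DirectSum.Decomposition ℳ] [SetLike.GradedSMul 𝒜 ℳ]
  {S : Type u} [CommRing S] [Algebra k S] (ℬ : ℤ → Submodule k S) [GradedAlgebra ℬ]
  {N : Type u} [AddCommGroup N] [Module S N] [Module k N] [IsScalarTower k S N]
  (𝒩 : ℤ → AddSubgroup N) [DirectSum.Decomposition 𝒩] [SetLike.GradedSMul ℬ 𝒩]

theorem tmul_mem_segrePiece {n : ℤ} {a : M} {b : N} (ha : a ∈ ℳ n) (hb : b ∈ 𝒩 n) :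
    a ⊗ₜ[k] b ∈ GrSeg.segrePiece k ℳ 𝒩 n :=
  Submodule.subset_span ⟨a, ha, b, hb, rfl⟩

theorem segrePiece_le_diag (n : ℤ) : GrSeg.segrePiece k ℳ 𝒩 n ≤ diag (k := k) ℳ 𝒩 :=
  le_iSup (fun n => GrSeg.segrePiece k ℳ 𝒩 n) n

theorem diagProj_mem (z : M ⊗[k] N) : diagProj 𝒜 ℳ ℬ 𝒩 z ∈ diag (k := k) ℳ 𝒩 := by
  induction z using hom_induction ℳ 𝒩 with
  | h0 => rw [map_zero]; exact zero_mem _
  | hadd x y hx hy => rw [map_add]; exact add_mem hx hy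
  | hmul i j a b ha hb =>
    rw [diagProj_tmul 𝒜 ℳ ℬ 𝒩 ha hb]
    split_ifs with h
    · subst h
      exact segrePiece_le_diag ℳ 𝒩 i (tmul_mem_segrePiece ℳ 𝒩 ha hb)
    · exact zero_mem _

/-- scalars of bidegree `(c,c)` commute with the diagonal projection -/
theorem diagProj_act_comm {c : ℤ} {r : R} {s : S} (hr : r ∈ 𝒜 c) (hs : s ∈ ℬ c)
    (z : M ⊗[k] N) :
    diagProj 𝒜 ℳ ℬ 𝒩 (GrSeg.act k R S M N (r ⊗ₜ s) z) =
      GrSeg.act k R S M N (r ⊗ₜ s) (diagProj 𝒜 ℳ ℬ 𝒩 z) := by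
  induction z using hom_induction ℳ 𝒩 with
  | h0 => simp
  | hadd x y hx hy => rw [map_add, map_add, hx, hy, map_add, map_add]
  | hmul i j a b ha hb =>
    rw [GrSeg.act_tmul,
      diagProj_tmul 𝒜 ℳ ℬ 𝒩 (Groth.Agent.Lib.H2GrDual.smul_mem_add 𝒜 ℳ hr ha)
        (Groth.Agent.Lib.H2GrDual.smul_mem_add ℬ 𝒩 hs hb), diagProj_tmul 𝒜 ℳ ℬ 𝒩 ha hb]
    by_cases h : i = j
    · subst h
      rw [if_pos rfl, if_pos rfl, GrSeg.act_tmul]
    · rw [if_neg h, if_neg (by simpa using h), map_zero]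

/-- the component projection `P m` on a Segre piece -/
theorem P_of_mem_segrePiece {n : ℤ} {z : M ⊗[k] N} (hz : z ∈ GrSeg.segrePiece k ℳ 𝒩 n) (m : ℤ) :
    P 𝒜 ℳ ℬ 𝒩 m z = if n = m then z else 0 := by
  unfold GrSeg.segrePiece at hz
  induction hz using Submodule.span_induction with
  | mem y hy =>
    obtain ⟨a, ha, b, hb, rfl⟩ := hy
    rw [P, TensorProduct.map_tmul]
    split_ifs with h
    · subst h
      rw [projM_of_mem_same 𝒜 ℳ ha, projM_of_mem_same ℬ 𝒩 hb]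
    · rw [projM_of_mem_ne 𝒜 ℳ ha h, zero_tmul]
  | zero => simp
  | add x y _ _ hx hy => rw [map_add, hx, hy]; split_ifs <;> simp
  | smul c x _ hx => rw [map_smul, hx]; split_ifs <;> simp

theorem act_mem_segrePiece {c n : ℤ} {a : R ⊗[k] S} (ha : a ∈ GrSeg.segrePiece k 𝒜 ℬ c)
    {z : M ⊗[k] N} (hz : z ∈ GrSeg.segrePiece k ℳ 𝒩 n) :
    GrSeg.act k R S M N a z ∈ GrSeg.segrePiece k ℳ 𝒩 (c + n) := by
  unfold GrSeg.segrePiece at ha
  induction ha using Submodule.span_induction with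
  | mem a ha =>
    obtain ⟨r, hr, s, hs, rfl⟩ := ha
    unfold GrSeg.segrePiece at hz
    induction hz using Submodule.span_induction with
    | mem z hz =>
      obtain ⟨x, hx, y, hy, rfl⟩ := hz
      rw [GrSeg.act_tmul]
      exact tmul_mem_segrePiece ℳ 𝒩 (Groth.Agent.Lib.H2GrDual.smul_mem_add 𝒜 ℳ hr hx)
        (Groth.Agent.Lib.H2GrDual.smul_mem_add ℬ 𝒩 hs hy)
    | zero => rw [map_zero]; exact zero_mem _
    | add x y _ _ hx hy => rw [map_add]; exact add_mem hx hy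
    | smul c x _ hx => rw [map_smul]; exact Submodule.smul_mem _ _ hx
  | zero => rw [map_zero, LinearMap.zero_apply]; exact zero_mem _
  | add x y _ _ hx hy => rw [map_add, LinearMap.add_apply]; exact add_mem hx hy
  | smul c x _ hx => rw [map_smul, LinearMap.smul_apply]; exact Submodule.smul_mem _ _ hx

end Diag2

section SegreMod
variable {k : Type u} [Field k] {R : Type u} [CommRing R] [Algebra k R] {𝒜 : ℤ → Submodule k R}
  [GradedAlgebra 𝒜]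
  {S : Type u} [CommRing S] [Algebra k S] {ℬ : ℤ → Submodule k S} [GradedAlgebra ℬ]
  {T : Type u} [CommRing T] [Algebra k T] {𝒯 : ℤ → Submodule k T} [GradedAlgebra 𝒯]
  {ψ : T →ₐ[k] R ⊗[k] S}
  {M : Type u} [AddCommGroup M] [Module R M] [Module k M] [IsScalarTower k R M]
  {ℳ : ℤ → AddSubgroup M} [DirectSum.Decomposition ℳ] [SetLike.GradedSMul 𝒜 ℳ]
  {N : Type u} [AddCommGroup N] [Module S N] [Module k N] [IsScalarTower k S N]
  {𝒩 : ℤ → AddSubgroup N} [DirectSum.Decomposition 𝒩] [SetLike.GradedSMul ℬ 𝒩]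
  {P : Type u} [AddCommGroup P] [Module T P] [Module k P] [IsScalarTower k T P]
  {𝒬 : ℤ → AddSubgroup P} [DirectSum.Decomposition 𝒬] {φ : P →ₗ[k] M ⊗[k] N}

theorem phi_mem_segrePiece (hP : GrSeg.IsSegreMod ψ ℳ 𝒩 𝒬 φ) {n : ℤ} {p : P} (hp : p ∈ 𝒬 n) :
    φ p ∈ GrSeg.segrePiece k ℳ 𝒩 n := by
  have : φ p ∈ φ '' (𝒬 n : Set P) := ⟨p, hp, rfl⟩
  rw [hP.image_piece n] at this
  exact this

theorem mem_of_phi_mem_segrePiece (hP : GrSeg.IsSegreMod ψ ℳ 𝒩 𝒬 φ) {n : ℤ} {p : P}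
    (hp : φ p ∈ GrSeg.segrePiece k ℳ 𝒩 n) : p ∈ 𝒬 n := by
  have : φ p ∈ φ '' (𝒬 n : Set P) := by rw [hP.image_piece n]; exact hp
  obtain ⟨q, hq, h⟩ := this
  rw [← hP.injective h]
  exact hq

theorem exists_of_mem_segrePiece (hP : GrSeg.IsSegreMod ψ ℳ 𝒩 𝒬 φ) {n : ℤ} {z : M ⊗[k] N}
    (hz : z ∈ GrSeg.segrePiece k ℳ 𝒩 n) : ∃ p ∈ 𝒬 n, φ p = z := by
  have : z ∈ φ '' (𝒬 n : Set P) := by rw [hP.image_piece n]; exact hz
  exact this

theorem phi_mem_diag (hP : GrSeg.IsSegreMod ψ ℳ 𝒩 𝒬 φ) (p : P) : φ p ∈ diag (k := k) ℳ 𝒩 := by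
  induction p using DirectSum.Decomposition.inductionOn 𝒬 with
  | zero => rw [map_zero]; exact zero_mem _
  | add p p' hp hp' => rw [map_add]; exact add_mem hp hp'
  | homogeneous p =>
    rename_i n
    exact segrePiece_le_diag ℳ 𝒩 n (phi_mem_segrePiece hP p.2)

theorem exists_of_mem_diag (hP : GrSeg.IsSegreMod ψ ℳ 𝒩 𝒬 φ) {z : M ⊗[k] N}
    (hz : z ∈ diag (k := k) ℳ 𝒩) : ∃ p, φ p = z := by
  unfold diag at hz
  induction hz using Submodule.iSup_induction' with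
  | mem n y hy =>
    obtain ⟨p, -, h⟩ := exists_of_mem_segrePiece hP hy
    exact ⟨p, h⟩
  | zero => exact ⟨0, map_zero _⟩
  | add x y _ _ hx hy =>
    obtain ⟨p, rfl⟩ := hx
    obtain ⟨q, rfl⟩ := hy
    exact ⟨p + q, map_add _ _ _⟩

theorem psi_mem_segrePiece (hT : GrSeg.IsSegreRing 𝒜 ℬ 𝒯 ψ) {c : ℤ} {t : T} (ht : t ∈ 𝒯 c) :
    ψ t ∈ GrSeg.segrePiece k 𝒜 ℬ c := by
  rw [← hT.2 c]
  exact ⟨t, ht, rfl⟩

theorem exists_of_mem_segrePiece_ring (hT : GrSeg.IsSegreRing 𝒜 ℬ 𝒯 ψ) {c : ℤ} {a : R ⊗[k] S}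
    (ha : a ∈ GrSeg.segrePiece k 𝒜 ℬ c) : ∃ t ∈ 𝒯 c, ψ t = a := by
  rw [← hT.2 c] at ha
  exact ha

/-- a Segre module is a graded module over the Segre ring -/
theorem smul_mem_piece (hT : GrSeg.IsSegreRing 𝒜 ℬ 𝒯 ψ) (hP : GrSeg.IsSegreMod ψ ℳ 𝒩 𝒬 φ)
    {c n : ℤ} {t : T} (ht : t ∈ 𝒯 c) {p : P} (hp : p ∈ 𝒬 n) : t • p ∈ 𝒬 (c + n) := by
  apply mem_of_phi_mem_segrePiece hP
  rw [hP.map_smul]
  exact act_mem_segrePiece 𝒜 ℳ ℬ 𝒩 (psi_mem_segrePiece hT ht) (phi_mem_segrePiece hP hp)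

end SegreMod

end Groth.Agent.Lib.H2SegreMod
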