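/-
helper47: Krull dimension is bounded by transcendence degree.

* `trdeg_quotient_add_one_le`: for primes `q < p` of an `A`-algebra `D` with `A → D/p` injective,
  `trdeg_A (D/p) + 1 ≤ trdeg_A (D/q)`.
* `ringKrullDim_le_of_trdeg_le`: `F` a field, `trdeg_F D ≤ N` ⟹ `ringKrullDim D ≤ N`.
* `ringKrullDim_le_of_trdeg_int_le`: `S` a char-zero domain, `trdeg_ℤ S ≤ N` ⟹ `ringKrullDim S ≤ 2N+1`.
* `ringKrullDim_lt_top_of_mem_closure`: a subring `S` of a field contained in the subfield generated by
  finitely many elements of `S` has finite Krull dimension.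
-/
import Mathlib

set_option autoImplicit false
set_option linter.style.haveILetI false
set_option linter.unusedSectionVars false
universe u v
open Cardinal Algebra
namespace Groth.Agent.H47TrdegDim

/-- Key step: for primes `q < p` of an `A`-algebra `D` with `A → D/p` injective,
`trdeg_A (D/p) + 1 ≤ trdeg_A (D/q)`. -/
theorem trdeg_quotient_add_one_le {A : Type u} {D : Type v} [CommRing A] [CommRing D] [Algebra A D]
    (q p : Ideal D) [q.IsPrime] [p.IsPrime] (hqp : q < p)
    (hinj : Function.Injective (algebraMap A (D ⧸ p))) :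
    Algebra.trdeg A (D ⧸ p) + 1 ≤ Algebra.trdeg A (D ⧸ q) := by
  classical
  haveI : FaithfulSMul A (D ⧸ p) := (faithfulSMul_iff_algebraMap_injective A _).mpr hinj
  haveI : Nontrivial A := by
    by_contra h
    rw [not_nontrivial_iff_subsingleton] at h
    have : (1 : D ⧸ p) = 0 := by
      rw [← map_one (algebraMap A (D ⧸ p)), ← map_zero (algebraMap A (D ⧸ p))]
      exact congrArg _ (Subsingleton.elim _ _)
    exact one_ne_zero this
  obtain ⟨ι, ybar, hy⟩ := exists_isTranscendenceBasis' A (D ⧸ p)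
  let π : D ⧸ q →ₐ[A] D ⧸ p := Ideal.Quotient.factorₐ A hqp.le
  have hπ : Function.Surjective π := Ideal.Quotient.factor_surjective hqp.le
  choose y' hy' using fun i => hπ (ybar i)
  have hcomp : (π ∘ y') = ybar := funext hy'
  have hy'ind : AlgebraicIndependent A y' := by
    apply AlgebraicIndependent.of_comp π
    rw [hcomp]; exact hy.1
  obtain ⟨z, hzp, hzq⟩ := SetLike.exists_of_lt hqp
  set zbar : D ⧸ q := Ideal.Quotient.mk q z with hzbar
  have hz0 : zbar ≠ 0 := by
    rw [hzbar, Ne, Ideal.Quotient.eq_zero_iff_mem]; exact hzq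
  have hπz : π zbar = 0 := by
    show Ideal.Quotient.factor hqp.le (Ideal.Quotient.mk q z) = 0
    rw [Ideal.Quotient.factor_mk, Ideal.Quotient.eq_zero_iff_mem]; exact hzp
  -- π is injective on adjoin A (range y')
  have hinjadj : ∀ g : D ⧸ q, g ∈ Algebra.adjoin A (Set.range y') → π g = 0 → g = 0 := by
    intro g hg hπg
    rw [Algebra.adjoin_range_eq_range_aeval] at hg
    obtain ⟨P, rfl⟩ := hg
    change π (MvPolynomial.aeval y' P) = 0 at hπg
    change MvPolynomial.aeval y' P = 0
    have h1 : π (MvPolynomial.aeval y' P) = MvPolynomial.aeval ybar P := by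
      rw [← hcomp, ← AlgHom.comp_apply, MvPolynomial.comp_aeval]
      rfl
    rw [h1] at hπg
    have := hy.1
    rw [algebraicIndependent_iff_injective_aeval] at this
    have hP : P = 0 := this (by rw [hπg, map_zero])
    rw [hP, map_zero]
  have htrans : Transcendental (Algebra.adjoin A (Set.range y')) zbar := by
    rw [transcendental_iff]
    intro G hG
    -- induction on natDegree
    induction hn : G.natDegree using Nat.strong_induction_on generalizing G with
    | _ n ih =>
      have hdecomp := Polynomial.divX_mul_X_add G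
      have h2 : Polynomial.aeval zbar G =
          Polynomial.aeval zbar G.divX * zbar + ((G.coeff 0 : Algebra.adjoin A (Set.range y')) : D ⧸ q) := by
        conv_lhs => rw [← hdecomp]
        simp [Polynomial.aeval_def]
      rw [hG] at h2
      have h3 : π ((G.coeff 0 : Algebra.adjoin A (Set.range y')) : D ⧸ q) = 0 := by
        have := congrArg π h2
        rw [map_zero, map_add, map_mul, hπz, mul_zero, zero_add] at this
        exact this.symm
      have h4 : ((G.coeff 0 : Algebra.adjoin A (Set.range y')) : D ⧸ q) = 0 :=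
        hinjadj _ (G.coeff 0).2 h3
      rw [h4, add_zero] at h2
      have h5 : Polynomial.aeval zbar G.divX = 0 := by
        rcases mul_eq_zero.mp h2.symm with h | h
        · exact h
        · exact absurd h hz0
      have hc0 : G.coeff 0 = 0 := Subtype.ext h4
      by_cases hdeg : G.natDegree = 0
      · rw [Polynomial.eq_C_of_natDegree_eq_zero hdeg, hc0, map_zero]
      · have hlt : G.divX.natDegree < n := by
          rw [Polynomial.natDegree_divX_eq_natDegree_tsub_one, ← hn]
          omega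
        have h6 := ih _ hlt _ h5 rfl
        rw [← hdecomp, h6, hc0, zero_mul, map_zero, add_zero]
  have hopt : AlgebraicIndependent A (fun o : Option ι => o.elim zbar y') :=
    AlgebraicIndependent.option_iff.mpr ⟨hy'ind, htrans⟩
  have hcard := hopt.cardinalMk_le_trdeg
  rw [Cardinal.mk_option, hy.cardinalMk_eq_trdeg] at hcard
  exact hcard


/-- A strictly decreasing `ℕ`-valued function along a chain bounds its length. -/
lemma length_le_of_strictAnti (n : ℕ) (f : Fin (n + 1) → ℕ)
    (hf : ∀ i : Fin n, f i.succ < f i.castSucc) : n ≤ f 0 := by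
  have key : ∀ i : ℕ, ∀ hi : i < n + 1, f ⟨i, hi⟩ + i ≤ f 0 := by
    intro i
    induction i with
    | zero => intro hi; simp
    | succ k ih =>
      intro hi
      have hk : k < n := by omega
      have h1 := hf ⟨k, hk⟩
      have h2 := ih (by omega)
      have e1 : (⟨k, hk⟩ : Fin n).succ = ⟨k + 1, hi⟩ := rfl
      have e2 : (⟨k, hk⟩ : Fin n).castSucc = ⟨k, by omega⟩ := rfl
      rw [e1, e2] at h1
      omega
  have := key n (by omega)
  omega

/-- quantitative version of the key step -/
lemma toNat_trdeg_lt {A : Type u} {D : Type v} [CommRing A] [CommRing D] [Algebra A D]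
    (q p : Ideal D) [q.IsPrime] [p.IsPrime] (hqp : q < p)
    (hinj : Function.Injective (algebraMap A (D ⧸ p))) (N : ℕ) (hN : Algebra.trdeg A D ≤ N) :
    (Algebra.trdeg A (D ⧸ p)).toNat < (Algebra.trdeg A (D ⧸ q)).toNat ∧
      (Algebra.trdeg A (D ⧸ q)).toNat ≤ N := by
  have h1 := trdeg_quotient_add_one_le q p hqp hinj
  have h2 : Algebra.trdeg A (D ⧸ q) ≤ N :=
    (_root_.trdeg_le_of_surjective (Ideal.Quotient.mkₐ A q) (Ideal.Quotient.mkₐ_surjective A q)).trans hN
  have h3 : Algebra.trdeg A (D ⧸ q) < ℵ₀ := lt_of_le_of_lt h2 Cardinal.natCast_lt_aleph0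
  obtain ⟨b, hb⟩ := Cardinal.lt_aleph0.mp h3
  have h4 : Algebra.trdeg A (D ⧸ p) < ℵ₀ :=
    lt_of_le_of_lt (le_trans (le_self_add) h1) h3
  obtain ⟨a, ha⟩ := Cardinal.lt_aleph0.mp h4
  rw [ha, hb] at h1
  rw [hb] at h2
  rw [ha, hb, Cardinal.toNat_natCast, Cardinal.toNat_natCast]
  have h5 : (a : Cardinal) + 1 = ((a + 1 : ℕ) : Cardinal) := by push_cast; rfl
  rw [h5, Nat.cast_le] at h1
  rw [Nat.cast_le] at h2
  omega

lemma toNat_trdeg_quotient_le {A : Type u} {D : Type v} [CommRing A] [CommRing D] [Algebra A D]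
    (q : Ideal D) (N : ℕ) (hN : Algebra.trdeg A D ≤ N) :
    (Algebra.trdeg A (D ⧸ q)).toNat ≤ N := by
  have h2 : Algebra.trdeg A (D ⧸ q) ≤ N :=
    (_root_.trdeg_le_of_surjective (Ideal.Quotient.mkₐ A q) (Ideal.Quotient.mkₐ_surjective A q)).trans hN
  have h3 : Algebra.trdeg A (D ⧸ q) < ℵ₀ := lt_of_le_of_lt h2 Cardinal.natCast_lt_aleph0
  obtain ⟨b, hb⟩ := Cardinal.lt_aleph0.mp h3
  rw [hb] at h2 ⊢
  rw [Cardinal.toNat_natCast]
  exact_mod_cast h2

/-- The Krull dimension of an algebra over a field is bounded by its transcendence degree. -/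
theorem ringKrullDim_le_of_trdeg_le (F : Type u) (D : Type v) [Field F] [CommRing D] [Algebra F D]
    (N : ℕ) (hN : Algebra.trdeg F D ≤ N) : ringKrullDim D ≤ N := by
  rw [ringKrullDim, Order.krullDim]
  apply iSup_le
  intro x
  have hinj : ∀ p : PrimeSpectrum D, Function.Injective (algebraMap F (D ⧸ p.asIdeal)) := by
    intro p
    haveI : Nontrivial (D ⧸ p.asIdeal) := Ideal.Quotient.nontrivial_iff.mpr p.2.ne_top
    exact (algebraMap F (D ⧸ p.asIdeal)).injective
  have h := length_le_of_strictAnti x.length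
    (fun j => (Algebra.trdeg F (D ⧸ (x j).asIdeal)).toNat) (fun i => by
      have hlt : (x i.castSucc).asIdeal < (x i.succ).asIdeal := x.step i
      exact (toNat_trdeg_lt _ _ hlt (hinj _) N hN).1)
  have h2 := toNat_trdeg_quotient_le (A := F) (x 0).asIdeal N hN
  have : x.length ≤ N := h.trans h2
  exact_mod_cast this


section mixed

variable {S : Type v} [CommRing S] [IsDomain S] [CharZero S]

/-- If no prime number lies in the prime `p`, then `ℤ → S/p` is injective. -/
lemma int_injective_of_no_prime (p : Ideal S) [hp : p.IsPrime]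
    (h : ∀ ℓ : ℕ, ℓ.Prime → (ℓ : S) ∉ p) : Function.Injective (algebraMap ℤ (S ⧸ p)) := by
  rw [injective_iff_map_eq_zero]
  intro m hm
  by_contra hm0
  have hmem : (m : S) ∈ p := by
    rw [← Ideal.Quotient.eq_zero_iff_mem]
    simpa using hm
  let q : Ideal ℤ := p.comap (Int.castRingHom S)
  haveI : q.IsPrime := Ideal.comap_isPrime _ _
  have hq : q ≠ ⊥ := by
    intro hq
    have : m ∈ q := by simpa [q, Ideal.mem_comap] using hmem
    rw [hq] at this
    exact hm0 ((Ideal.mem_bot).mp this)
  have hg := Submodule.IsPrincipal.prime_generator_of_isPrime q hq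
  have hgq : Submodule.IsPrincipal.generator q ∈ q := Submodule.IsPrincipal.generator_mem q
  set g := Submodule.IsPrincipal.generator q with hgdef
  have hgp : ((g : ℤ) : S) ∈ p := hgq
  have hnat : (g.natAbs : ℕ).Prime := Int.prime_iff_natAbs_prime.mp hg
  apply h _ hnat
  rcases Int.natAbs_eq g with e | e
  · have : ((g.natAbs : ℕ) : S) = ((g : ℤ) : S) := by
      conv_rhs => rw [e]
      simp
    rw [this]; exact hgp
  · have : ((g.natAbs : ℕ) : S) = -((g : ℤ) : S) := by
      conv_rhs => rw [e]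
      simp
    rw [this]; exact p.neg_mem hgp

/-- Two distinct prime numbers cannot lie in a proper ideal. -/
lemma prime_unique_of_mem (p : Ideal S) (hp : p ≠ ⊤) (ℓ ℓ' : ℕ) (hℓ : ℓ.Prime) (hℓ' : ℓ'.Prime)
    (h1 : (ℓ : S) ∈ p) (h2 : (ℓ' : S) ∈ p) : ℓ = ℓ' := by
  by_contra hne
  have hc : Nat.Coprime ℓ ℓ' := (Nat.coprime_primes hℓ hℓ').mpr hne
  obtain ⟨a, b, hab⟩ := Nat.isCoprime_iff_coprime.mpr hc
  apply hp
  rw [Ideal.eq_top_iff_one]
  have : (1 : S) = (a : S) * (ℓ : S) + (b : S) * (ℓ' : S) := by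
    have := congrArg (Int.cast : ℤ → S) hab
    push_cast at this
    exact this.symm
  rw [this]
  exact p.add_mem (p.mul_mem_left _ h1) (p.mul_mem_left _ h2)

variable (S) in
/-- lifting algebraic independence from `S/ℓ` over `ℤ/ℓ` to `S` over `ℤ` -/
lemma algebraicIndependent_of_quotient {ι : Type*} (ℓ : ℕ) (hℓ : 2 ≤ ℓ) (y : ι → S)
    (hy : AlgebraicIndependent (ℤ ⧸ Ideal.span {(ℓ : ℤ)})
      (fun i => (Ideal.Quotient.mk ((Ideal.span {(ℓ : ℤ)}).map (algebraMap ℤ S)) (y i)))) :
    AlgebraicIndependent ℤ y := by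
  set I : Ideal ℤ := Ideal.span {(ℓ : ℤ)} with hI
  set J : Ideal S := I.map (algebraMap ℤ S) with hJ
  have step1 : ∀ P : MvPolynomial ι ℤ, MvPolynomial.aeval y P = 0 → MvPolynomial.C (ℓ : ℤ) ∣ P := by
    intro P hP
    rw [MvPolynomial.C_dvd_iff_map_hom_eq_zero (Ideal.Quotient.mk I) (ℓ : ℤ)
      (fun r => by rw [Ideal.Quotient.eq_zero_iff_mem, hI, Ideal.mem_span_singleton])]
    rw [algebraicIndependent_iff_injective_aeval] at hy
    apply hy
    rw [map_zero]
    have h1 : MvPolynomial.aeval (fun i => (Ideal.Quotient.mk J (y i))) (MvPolynomial.map (Ideal.Quotient.mk I) P) =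
        Ideal.Quotient.mk J (MvPolynomial.aeval y P) := by
      rw [MvPolynomial.map_aeval, MvPolynomial.aeval_def, MvPolynomial.eval₂_map]
      rw [MvPolynomial.coe_eval₂Hom]
      congr 1
    rw [h1, hP, map_zero]
  have hℓS : (ℓ : S) ≠ 0 := by
    have : ℓ ≠ 0 := by omega
    exact_mod_cast this
  have step3 : ∀ k : ℕ, ∀ P : MvPolynomial ι ℤ, MvPolynomial.aeval y P = 0 →
      MvPolynomial.C ((ℓ : ℤ) ^ k) ∣ P := by
    intro k
    induction k with
    | zero => intro P _; simp
    | succ k ih =>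
      intro P hP
      obtain ⟨P₁, rfl⟩ := step1 P hP
      have h0 : MvPolynomial.aeval y P₁ = 0 := by
        rw [map_mul, MvPolynomial.aeval_C] at hP
        rcases mul_eq_zero.mp hP with h | h
        · exfalso; apply hℓS; simpa using h
        · exact h
      obtain ⟨P₂, rfl⟩ := ih P₁ h0
      refine ⟨P₂, ?_⟩
      rw [pow_succ, map_mul]; ring
  rw [algebraicIndependent_iff]
  intro P hP
  by_contra hP0
  obtain ⟨d, hd⟩ := MvPolynomial.ne_zero_iff.mp hP0
  have hdvd := (MvPolynomial.C_dvd_iff_dvd_coeff _ _).mp (step3 (P.coeff d).natAbs P hP) d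
  have h2 : ℓ ^ (P.coeff d).natAbs ∣ (P.coeff d).natAbs := by
    have := Int.natAbs_dvd_natAbs.mpr hdvd
    simpa [Int.natAbs_pow] using this
  have h3 := Nat.le_of_dvd (Int.natAbs_pos.mpr hd) h2
  have h4 : (P.coeff d).natAbs < ℓ ^ (P.coeff d).natAbs := Nat.lt_pow_self hℓ
  omega

variable (S) in
lemma trdeg_quotient_le (ℓ : ℕ) (hℓ : 2 ≤ ℓ) :
    Algebra.trdeg (ℤ ⧸ Ideal.span {(ℓ : ℤ)})
      (S ⧸ (Ideal.span {(ℓ : ℤ)}).map (algebraMap ℤ S)) ≤ Algebra.trdeg ℤ S := by
  rw [Algebra.trdeg]
  apply ciSup_le'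
  rintro ⟨s, hs⟩
  choose y hy' using fun i : s => Ideal.Quotient.mk_surjective (i : S ⧸ (Ideal.span {(ℓ : ℤ)}).map (algebraMap ℤ S))
  have hind := algebraicIndependent_of_quotient S ℓ hℓ y (by
    have : (fun i => (Ideal.Quotient.mk ((Ideal.span {(ℓ : ℤ)}).map (algebraMap ℤ S)) (y i))) =
        (fun i : s => (i : S ⧸ (Ideal.span {(ℓ : ℤ)}).map (algebraMap ℤ S))) := funext hy'
    rw [this]; exact hs)
  exact hind.cardinalMk_le_trdeg

/-- injectivity of `ℤ/ℓ → (S/ℓ)/p̄` for a prime `p̄` -/
lemma zmod_injective (ℓ : ℕ) (hℓ : ℓ.Prime)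
    (P : Ideal (S ⧸ (Ideal.span {(ℓ : ℤ)}).map (algebraMap ℤ S))) [hP : P.IsPrime] :
    Function.Injective (algebraMap (ℤ ⧸ Ideal.span {(ℓ : ℤ)})
      ((S ⧸ (Ideal.span {(ℓ : ℤ)}).map (algebraMap ℤ S)) ⧸ P)) := by
  haveI : (Ideal.span {(ℓ : ℤ)}).IsMaximal :=
    PrincipalIdealRing.isMaximal_of_irreducible (Nat.prime_iff_prime_int.mp hℓ).irreducible
  letI : Field (ℤ ⧸ Ideal.span {(ℓ : ℤ)}) := Ideal.Quotient.field _
  haveI : Nontrivial ((S ⧸ (Ideal.span {(ℓ : ℤ)}).map (algebraMap ℤ S)) ⧸ P) :=
    Ideal.Quotient.nontrivial_iff.mpr hP.ne_top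
  exact RingHom.injective _

/-- **Krull dimension bound, mixed characteristic**: a characteristic-zero domain of
transcendence degree `≤ N` over `ℤ` has Krull dimension `≤ 2N+1`. -/
theorem ringKrullDim_le_of_trdeg_int_le (N : ℕ) (hN : Algebra.trdeg ℤ S ≤ N) :
    ringKrullDim S ≤ (2 * N + 1 : ℕ) := by
  classical
  rw [ringKrullDim, Order.krullDim]
  apply iSup_le
  intro x
  suffices h : x.length ≤ 2 * N + 1 by exact_mod_cast h
  by_cases hcase : ∀ ℓ : ℕ, ℓ.Prime → (ℓ : S) ∉ (x.last).asIdeal
  · -- no prime number in any member of the chain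
    have hle : ∀ j, (x j).asIdeal ≤ (x.last).asIdeal := fun j => by
      have : x j ≤ x.last := LTSeries.monotone x (Fin.le_last j)
      exact this
    have hinj : ∀ j, Function.Injective (algebraMap ℤ (S ⧸ (x j).asIdeal)) := fun j =>
      int_injective_of_no_prime _ (fun ℓ hℓ hmem => hcase ℓ hℓ (hle j hmem))
    have h := length_le_of_strictAnti x.length
      (fun j => (Algebra.trdeg ℤ (S ⧸ (x j).asIdeal)).toNat) (fun i => by
        have hlt : (x i.castSucc).asIdeal < (x i.succ).asIdeal := x.step i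
        exact (toNat_trdeg_lt _ _ hlt (hinj _) N hN).1)
    have h2 := toNat_trdeg_quotient_le (A := ℤ) (x 0).asIdeal N hN
    omega
  · push Not at hcase
    obtain ⟨ℓ, hℓ, hmem⟩ := hcase
    have hle : ∀ j, (x j).asIdeal ≤ (x.last).asIdeal := fun j => by
      have : x j ≤ x.last := LTSeries.monotone x (Fin.le_last j)
      exact this
    set I : Ideal ℤ := Ideal.span {(ℓ : ℤ)} with hI
    set J : Ideal S := I.map (algebraMap ℤ S) with hJ
    have hJspan : J = Ideal.span {(ℓ : S)} := by
      rw [hJ, hI, Ideal.map_span, Set.image_singleton]; simp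
    have hJle : ∀ p : Ideal S, (ℓ : S) ∈ p → J ≤ p := by
      intro p hp
      rw [hJspan, Ideal.span_singleton_le_iff_mem]; exact hp
    have hNq : Algebra.trdeg (ℤ ⧸ I) (S ⧸ J) ≤ N := (trdeg_quotient_le S ℓ hℓ.two_le).trans hN
    let f : Ideal S → ℕ := fun p =>
      if (ℓ : S) ∈ p then (Algebra.trdeg (ℤ ⧸ I) ((S ⧸ J) ⧸ p.map (Ideal.Quotient.mk J))).toNat
      else N + 1 + (Algebra.trdeg ℤ (S ⧸ p)).toNat
    have hfle : ∀ p : Ideal S, f p ≤ 2 * N + 1 := by
      intro p
      simp only [f]
      split_ifs with h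
      · have := toNat_trdeg_quotient_le (A := ℤ ⧸ I) (p.map (Ideal.Quotient.mk J)) N hNq
        omega
      · have := toNat_trdeg_quotient_le (A := ℤ) p N hN
        omega
    have hstep : ∀ q p : Ideal S, q.IsPrime → p.IsPrime → q < p → p ≤ (x.last).asIdeal →
        f p < f q := by
      intro q p hq hp hqp hpl
      simp only [f]
      by_cases h1 : (ℓ : S) ∈ q
      · have h2 : (ℓ : S) ∈ p := hqp.le h1
        rw [if_pos h1, if_pos h2]
        have hker : RingHom.ker (Ideal.Quotient.mk J) = J := Ideal.mk_ker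
        have hqJ : J ≤ q := hJle q h1
        have hpJ : J ≤ p := hJle p h2
        haveI : (q.map (Ideal.Quotient.mk J)).IsPrime :=
          Ideal.map_isPrime_of_surjective Ideal.Quotient.mk_surjective (by rw [hker]; exact hqJ)
        haveI : (p.map (Ideal.Quotient.mk J)).IsPrime :=
          Ideal.map_isPrime_of_surjective Ideal.Quotient.mk_surjective (by rw [hker]; exact hpJ)
        have hlt : q.map (Ideal.Quotient.mk J) < p.map (Ideal.Quotient.mk J) := by
          refine lt_of_le_of_ne (Ideal.map_mono hqp.le) (fun heq => ?_)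
          have h3 := congrArg (Ideal.comap (Ideal.Quotient.mk J)) heq
          rw [Ideal.comap_map_of_surjective _ Ideal.Quotient.mk_surjective,
            Ideal.comap_map_of_surjective _ Ideal.Quotient.mk_surjective,
            ← RingHom.ker_eq_comap_bot, hker, sup_eq_left.mpr hqJ, sup_eq_left.mpr hpJ] at h3
          exact hqp.ne h3
        exact (toNat_trdeg_lt _ _ hlt (zmod_injective ℓ hℓ _) N hNq).1
      · rw [if_neg h1]
        by_cases h2 : (ℓ : S) ∈ p
        · rw [if_pos h2]
          have := toNat_trdeg_quotient_le (A := ℤ ⧸ I) (p.map (Ideal.Quotient.mk J)) N hNq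
          omega
        · rw [if_neg h2]
          have hinj : Function.Injective (algebraMap ℤ (S ⧸ p)) := by
            apply int_injective_of_no_prime
            intro ℓ' hℓ' hmem'
            have := prime_unique_of_mem (x.last).asIdeal (x.last).2.ne_top ℓ ℓ' hℓ hℓ' hmem
              (hpl hmem')
            subst this
            exact h2 hmem'
          have := (toNat_trdeg_lt q p hqp hinj N hN).1
          omega
    have h := length_le_of_strictAnti x.length (fun j => f (x j).asIdeal) (fun i => by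
      have hlt : (x i.castSucc).asIdeal < (x i.succ).asIdeal := x.step i
      exact hstep _ _ (x i.castSucc).2 (x i.succ).2 hlt (hle _))
    have := hfle (x 0).asIdeal
    omega

end mixed


/-- If every element of the subring `S ⊆ L` lies in the subfield generated by `T ⊆ S`, then `S`
is algebraic over `A[T]`. -/
lemma isAlgebraic_adjoin_of_mem_closure (A : Type*) [CommRing A] {L : Type*} [Field L]
    (S : Subring L) [Algebra A S] (T : Set S)
    (h : ∀ x : S, (x : L) ∈ Subfield.closure (Subtype.val '' T)) :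
    Algebra.IsAlgebraic (Algebra.adjoin A T) S := by
  constructor
  intro x
  obtain ⟨y, hy, z, hz, hxyz⟩ := Subfield.mem_closure_iff.mp (h x)
  have key : ∀ w ∈ Subring.closure (Subtype.val '' T : Set L),
      ∃ w' : S, w' ∈ Algebra.adjoin A T ∧ (w' : L) = w := by
    intro w hw
    induction hw using Subring.closure_induction with
    | mem w hw =>
      obtain ⟨t, ht, rfl⟩ := hw
      exact ⟨t, Algebra.subset_adjoin ht, rfl⟩
    | zero => exact ⟨0, zero_mem _, rfl⟩
    | one => exact ⟨1, one_mem _, rfl⟩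
    | add a b _ _ ha hb =>
      obtain ⟨a', ha', rfl⟩ := ha
      obtain ⟨b', hb', rfl⟩ := hb
      exact ⟨a' + b', add_mem ha' hb', rfl⟩
    | neg a _ ha =>
      obtain ⟨a', ha', rfl⟩ := ha
      exact ⟨-a', neg_mem ha', rfl⟩
    | mul a b _ _ ha hb =>
      obtain ⟨a', ha', rfl⟩ := ha
      obtain ⟨b', hb', rfl⟩ := hb
      exact ⟨a' * b', mul_mem ha' hb', rfl⟩
  obtain ⟨y', hy', rfl⟩ := key y hy
  obtain ⟨z', hz', rfl⟩ := key z hz
  by_cases hz0 : z' = 0
  · have hx0 : x = 0 := by
      apply Subtype.ext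
      rw [← hxyz, hz0]; simp
    rw [hx0]
    haveI : Nontrivial (Algebra.adjoin A T) :=
      ⟨⟨0, 1, fun h01 => zero_ne_one (α := S) (congrArg Subtype.val h01)⟩⟩
    exact isAlgebraic_zero
  · refine ⟨Polynomial.C (⟨z', hz'⟩ : Algebra.adjoin A T) * Polynomial.X -
      Polynomial.C (⟨y', hy'⟩ : Algebra.adjoin A T), ?_, ?_⟩
    · intro h0
      have := congrArg (fun p => Polynomial.coeff p 1) h0
      simp at this
      exact hz0 (by simpa using congrArg Subtype.val this)
    · simp only [map_sub, map_mul, Polynomial.aeval_C, Polynomial.aeval_X]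
      apply Subtype.ext
      have hzL : (z' : L) ≠ 0 := fun h => hz0 (Subtype.ext h)
      have : (x : L) = (y' : L) / (z' : L) := hxyz.symm
      show (z' : L) * (x : L) - (y' : L) = 0
      rw [this]; field_simp; ring

/-- A subring of a field that is contained in the subfield generated by finitely many of its
elements has finite Krull dimension. -/
theorem ringKrullDim_lt_top_of_mem_closure {L : Type v} [Field L] (S : Subring L) (T : Finset S)
    (h : ∀ x : S, (x : L) ∈ Subfield.closure (Subtype.val '' (T : Set S))) :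
    ringKrullDim S < ⊤ := by
  obtain ⟨p, hp⟩ := CharP.exists L
  have hcard : Cardinal.mk (T : Set S) = (T.card : Cardinal) := Cardinal.mk_coe_finset
  rcases CharP.char_is_prime_or_zero L p with hprime | h0
  · haveI : Fact p.Prime := ⟨hprime⟩
    haveI : CharP S p := inferInstance
    letI : Algebra (ZMod p) S := ZMod.algebra S p
    haveI := isAlgebraic_adjoin_of_mem_closure (ZMod p) S (T : Set S) h
    have h1 : Algebra.trdeg (ZMod p) S ≤ T.card := by
      rw [← hcard]
      exact Algebra.IsAlgebraic.trdeg_le_cardinalMk (ZMod p) (T : Set S)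
    have := ringKrullDim_le_of_trdeg_le (ZMod p) S T.card h1
    exact lt_of_le_of_lt this (WithBot.coe_lt_coe.mpr (ENat.natCast_lt_top _))
  · subst h0
    haveI : CharZero L := CharP.charP_to_charZero L
    haveI : CharZero S := ⟨fun a b hab => by
      have := congrArg (Subtype.val : S → L) hab
      exact_mod_cast this⟩
    haveI := isAlgebraic_adjoin_of_mem_closure ℤ S (T : Set S) h
    have h1 : Algebra.trdeg ℤ S ≤ T.card := by
      rw [← hcard]
      exact Algebra.IsAlgebraic.trdeg_le_cardinalMk ℤ (T : Set S)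
    have := ringKrullDim_le_of_trdeg_int_le (S := S) T.card h1
    exact lt_of_le_of_lt this (WithBot.coe_lt_coe.mpr (ENat.natCast_lt_top _))


end Groth.Agent.H47TrdegDim
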