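import Mathlib
import Groth.Agent.Lib.AdicNoeth

set_option autoImplicit false
universe u

namespace Groth.Agent.Lib.Hopf99

open MvPolynomial

section core
variable {k : Type u} [Field k] {p q w : ℕ}

/-- Segre homomorphism `z_{ij} ↦ x_i y_j`. -/
noncomputable def θ (k : Type u) [Field k] (p q : ℕ) :
    MvPolynomial (Fin p × Fin q) k →ₐ[k] MvPolynomial (Fin p ⊕ Fin q) k :=
  aeval (fun ij => X (Sum.inl ij.1) * X (Sum.inr ij.2))

@[simp] lemma θ_X (i : Fin p) (j : Fin q) :
    θ k p q (X (i, j)) = X (Sum.inl i) * X (Sum.inr j) := by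
  simp [θ]

lemma θ_isHomogeneous {f : MvPolynomial (Fin p × Fin q) k} {d : ℕ} (hf : f.IsHomogeneous d) :
    (θ k p q f).IsHomogeneous (2 * d) := by
  unfold θ
  exact hf.aeval _ (fun ij => (isHomogeneous_X _ _).mul (isHomogeneous_X _ _))

lemma θ_homogeneousComponent (f : MvPolynomial (Fin p × Fin q) k) (d : ℕ) :
    θ k p q (homogeneousComponent d f) = homogeneousComponent (2 * d) (θ k p q f) := by
  conv_rhs => rw [← sum_homogeneousComponent f, map_sum, map_sum]
  have h1 : ∀ e ∈ Finset.range (f.totalDegree + 1),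
      homogeneousComponent (2 * d) (θ k p q (homogeneousComponent e f)) =
        if d = e then θ k p q (homogeneousComponent e f) else 0 := by
    intro e _
    rw [homogeneousComponent_of_mem (θ_isHomogeneous (homogeneousComponent_isHomogeneous e f))]
    by_cases h : d = e
    · simp [h]
    · have : ¬ (2 * d = 2 * e) := by omega
      simp [h, this]
  rw [Finset.sum_congr rfl h1, Finset.sum_ite_eq]
  split_ifs with h
  · rfl
  · rw [homogeneousComponent_eq_zero, map_zero]
    simp only [Finset.mem_range] at h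
    omega

lemma homogeneousComponent_mem_ker {f : MvPolynomial (Fin p × Fin q) k}
    (hf : f ∈ RingHom.ker (θ k p q)) (d : ℕ) :
    homogeneousComponent d f ∈ RingHom.ker (θ k p q) := by
  rw [RingHom.mem_ker] at hf ⊢
  rw [θ_homogeneousComponent, hf, map_zero]

lemma minor_mem_ker (i i' : Fin p) (j j' : Fin q) :
    (X (i, j) * X (i', j') - X (i, j') * X (i', j) : MvPolynomial (Fin p × Fin q) k) ∈
      RingHom.ker (θ k p q) := by
  rw [RingHom.mem_ker]
  simp only [map_sub, map_mul, θ_X]
  ring

/-- The linear forms `∑ c_{lij} z_{ij}`. -/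
noncomputable def Ft (c : Fin w → Fin p → Fin q → k) (l : Fin w) :
    MvPolynomial (Fin p × Fin q) k :=
  ∑ i, ∑ j, C (c l i j) * X (i, j)

lemma Ft_isHomogeneous (c : Fin w → Fin p → Fin q → k) (l : Fin w) :
    (Ft c l).IsHomogeneous 1 := by
  unfold Ft
  refine IsHomogeneous.sum _ _ _ fun i _ => IsHomogeneous.sum _ _ _ fun j _ => ?_
  exact isHomogeneous_C_mul_X _ _

lemma aeval_Ft (c : Fin w → Fin p → Fin q → k) (l : Fin w) (z : Fin p × Fin q → k) :
    aeval z (Ft c l) = ∑ i, ∑ j, c l i j * z (i, j) := by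
  simp [Ft]

/-- The ideal `ker θ + (F_l)`. -/
noncomputable def bIdeal (c : Fin w → Fin p → Fin q → k) : Ideal (MvPolynomial (Fin p × Fin q) k) :=
  RingHom.ker (θ k p q) ⊔ Ideal.span (Set.range (Ft c))

/-- The only common zero of `ker θ + (F_l)` is the origin. -/
lemma eq_zero_of_mem_zeroLocus (c : Fin w → Fin p → Fin q → k)
    (hgen : ∀ (x : Fin p → k) (y : Fin q → k),
      (∀ l, ∑ i, ∑ j, c l i j * (x i * y j) = 0) → x = 0 ∨ y = 0)
    (z : Fin p × Fin q → k) (hz : z ∈ zeroLocus k (bIdeal c)) : z = 0 := by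
  by_contra hne
  obtain ⟨⟨i₀, j₀⟩, h₀⟩ : ∃ ij, z ij ≠ 0 := by
    by_contra hcon
    push Not at hcon
    exact hne (funext hcon)
  have hminor : ∀ i j, z (i, j) * z (i₀, j₀) = z (i, j₀) * z (i₀, j) := by
    intro i j
    have := hz _ (Ideal.mem_sup_left (minor_mem_ker (k := k) i i₀ j j₀))
    simp only [map_sub, map_mul, aeval_X] at this
    exact sub_eq_zero.mp this
  have hF : ∀ l, ∑ i, ∑ j, c l i j * z (i, j) = 0 := by
    intro l
    have := hz _ (Ideal.mem_sup_right (Ideal.subset_span ⟨l, rfl⟩))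
    rwa [aeval_Ft] at this
  have hxy : ∀ i j, z (i, j₀) * (z (i₀, j) / z (i₀, j₀)) = z (i, j) := by
    intro i j
    rw [← mul_div_assoc, ← hminor, mul_div_assoc, div_self h₀, mul_one]
  rcases hgen (fun i => z (i, j₀)) (fun j => z (i₀, j) / z (i₀, j₀)) (by
    intro l
    simp only [hxy]
    exact hF l) with h | h
  · exact h₀ (congrFun h i₀)
  · have := congrFun h j₀
    simp only [Pi.zero_apply, div_self h₀] at this
    exact one_ne_zero this

/-- Nullstellensatz: a power of the irrelevant ideal lies in `ker θ + (F_l)`. -/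
lemma exists_pow_le_bIdeal [IsAlgClosed k] (c : Fin w → Fin p → Fin q → k)
    (hgen : ∀ (x : Fin p → k) (y : Fin q → k),
      (∀ l, ∑ i, ∑ j, c l i j * (x i * y j) = 0) → x = 0 ∨ y = 0) :
    ∃ n : ℕ, idealOfVars (Fin p × Fin q) k ^ n ≤ bIdeal c := by
  apply Ideal.exists_pow_le_of_le_radical_of_fg _ (idealOfVars_fg _ _)
  rw [← vanishingIdeal_zeroLocus_eq_radical (K := k), idealOfVars, Ideal.span_le]
  rintro _ ⟨ij, rfl⟩
  intro z hz
  rw [eq_zero_of_mem_zeroLocus c hgen z hz]
  simp

/-- Degree reduction modulo `ker θ`: a monomial of large degree is, modulo `ker θ`, a combination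
of the `F_l` with coefficients of smaller degree. -/
lemma exists_reduction (c : Fin w → Fin p → Fin q → k) (n : ℕ)
    (hn : idealOfVars (Fin p × Fin q) k ^ n ≤ bIdeal c)
    (m : (Fin p × Fin q) →₀ ℕ) (hm : n + 1 ≤ m.degree) :
    ∃ h : Fin w → MvPolynomial (Fin p × Fin q) k,
      (∀ l, (h l).totalDegree < m.degree) ∧
      monomial m (1 : k) - ∑ l, h l * Ft c l ∈ RingHom.ker (θ k p q) := by
  have hmem : monomial m (1 : k) ∈ bIdeal c := by
    apply hn
    rw [mem_pow_idealOfVars_iff]
    intro x hx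
    have := support_monomial_subset hx
    rw [Finset.mem_singleton] at this
    subst this
    omega
  obtain ⟨α, hα, β, hβ, hαβ⟩ := Submodule.mem_sup.mp hmem
  obtain ⟨g, hg⟩ := (Ideal.mem_span_range_iff_exists_fun).mp hβ
  refine ⟨fun l => homogeneousComponent (m.degree - 1) (g l), fun l => ?_, ?_⟩
  · have := (homogeneousComponent_isHomogeneous (m.degree - 1) (g l)).totalDegree_le
    show (homogeneousComponent (m.degree - 1) (g l)).totalDegree < m.degree
    omega
  · have h1 : α = monomial m (1 : k) - ∑ l, g l * Ft c l := by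
      rw [hg, ← hαβ]; ring
    have h2 := homogeneousComponent_mem_ker hα m.degree
    rw [h1, map_sub, map_sum,
      homogeneousComponent_of_mem (isHomogeneous_monomial (1 : k) rfl), if_pos rfl] at h2
    have h3 : ∀ l, homogeneousComponent m.degree (g l * Ft c l) =
        homogeneousComponent (m.degree - 1) (g l) * Ft c l := by
      intro l
      rw [Groth.Agent.Lib.AdicNoeth.homogeneousComponent_mul_of_isHomogeneous
        (Ft_isHomogeneous c l), if_pos (by omega)]
    simpa only [h3] using h2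

end core

end Groth.Agent.Lib.Hopf99
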