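import Mathlib
import Groth.Agent.Lib.Hopf99a

set_option autoImplicit false
universe u

namespace Groth.Agent.Lib.Hopf99

open MvPolynomial

section fin
variable {k : Type u} [Field k] {p q w : ℕ}

/-- The Segre ring as a quotient. -/
abbrev SegA (k : Type u) [Field k] (p q : ℕ) : Type u :=
  MvPolynomial (Fin p × Fin q) k ⧸ RingHom.ker (θ k p q)

/-- quotient map -/
noncomputable abbrev mkA (k : Type u) [Field k] (p q : ℕ) :
    MvPolynomial (Fin p × Fin q) k →ₐ[k] SegA k p q :=
  Ideal.Quotient.mkₐ k (RingHom.ker (θ k p q))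

/-- the subalgebra generated by the classes of the linear forms -/
noncomputable def S0 (c : Fin w → Fin p → Fin q → k) : Subalgebra k (SegA k p q) :=
  Algebra.adjoin k (Set.range fun l => mkA k p q (Ft c l))

/-- The `S0`-span of classes of monomials of small degree. -/
noncomputable def Msub (c : Fin w → Fin p → Fin q → k) (n : ℕ) : Submodule (S0 c) (SegA k p q) :=
  Submodule.span (S0 c) ((fun m => mkA k p q (monomial m (1 : k))) '' {m | m.degree < n + 1})

lemma Msub_fg (c : Fin w → Fin p → Fin q → k) (n : ℕ) : (Msub c n).FG :=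
  Submodule.fg_span ((Finsupp.finite_of_degree_lt (n + 1)).image _)

lemma mk_mem_Msub (c : Fin w → Fin p → Fin q → k) (n : ℕ)
    (hn : idealOfVars (Fin p × Fin q) k ^ n ≤ bIdeal c) :
    ∀ (d : ℕ) (f : MvPolynomial (Fin p × Fin q) k), f.totalDegree ≤ d → mkA k p q f ∈ Msub c n := by
  intro d
  induction d using Nat.strong_induction_on with
  | _ d ih =>
    intro f hf
    -- reduce to monomials
    have hmon : ∀ m ∈ f.support, mkA k p q (monomial m (1 : k)) ∈ Msub c n := by
      intro m hm
      have hmd : m.degree ≤ d := by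
        have := le_totalDegree hm
        simp only [Finsupp.degree] at *
        exact this.trans hf
      by_cases hlt : m.degree < n + 1
      · exact Submodule.subset_span ⟨m, hlt, rfl⟩
      · obtain ⟨h, hdeg, hker⟩ := exists_reduction c n hn m (by omega)
        have heq : mkA k p q (monomial m (1 : k)) = ∑ l, mkA k p q (h l) * mkA k p q (Ft c l) := by
          have := (Ideal.Quotient.mk_eq_mk_iff_sub_mem _ _).mpr hker
          simp only [map_sum, map_mul] at this
          simpa using this
        rw [heq]
        refine Submodule.sum_mem _ fun l _ => ?_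
        have h1 : mkA k p q (h l) ∈ Msub c n :=
          ih (m.degree - 1) (by omega) (h l) (by have := hdeg l; omega)
        have h2 : mkA k p q (Ft c l) ∈ S0 c := Algebra.subset_adjoin ⟨l, rfl⟩
        have := (Msub c n).smul_mem (⟨_, h2⟩ : S0 c) h1
        rwa [Subalgebra.smul_def, smul_eq_mul, mul_comm] at this
    rw [f.as_sum, map_sum]
    refine Submodule.sum_mem _ fun m hm => ?_
    have h1 : monomial m (coeff m f) = C (coeff m f) * monomial m (1 : k) := by
      rw [C_mul_monomial, mul_one]
    rw [h1, map_mul]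
    have h2 : mkA k p q (C (coeff m f)) ∈ S0 c := by
      have : mkA k p q (C (coeff m f)) = algebraMap k _ (coeff m f) := by
        rw [← MvPolynomial.algebraMap_eq, AlgHom.commutes]
      rw [this]
      exact Subalgebra.algebraMap_mem _ _
    have := (Msub c n).smul_mem (⟨_, h2⟩ : S0 c) (hmon m hm)
    rwa [Subalgebra.smul_def, smul_eq_mul] at this

lemma Msub_eq_top (c : Fin w → Fin p → Fin q → k) (n : ℕ)
    (hn : idealOfVars (Fin p × Fin q) k ^ n ≤ bIdeal c) : Msub c n = ⊤ := by
  rw [eq_top_iff]
  intro a _
  obtain ⟨f, rfl⟩ := Ideal.Quotient.mk_surjective a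
  exact mk_mem_Msub c n hn f.totalDegree f le_rfl

instance : IsDomain (SegA k p q) := by
  have : (RingHom.ker (θ k p q)).IsPrime := RingHom.ker_isPrime _
  exact Ideal.Quotient.isDomain _

open Cardinal in
/-- Upper bound for the transcendence degree of the Segre ring under 1-genericity. -/
theorem trdeg_le [IsAlgClosed k] (c : Fin w → Fin p → Fin q → k)
    (hgen : ∀ (x : Fin p → k) (y : Fin q → k),
      (∀ l, ∑ i, ∑ j, c l i j * (x i * y j) = 0) → x = 0 ∨ y = 0) :
    Algebra.trdeg k (SegA k p q) ≤ (w : Cardinal.{u}) := by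
  obtain ⟨n, hn⟩ := exists_pow_le_bIdeal c hgen
  have hfin : Module.Finite (S0 c) (SegA k p q) := by
    refine ⟨?_⟩
    rw [← Msub_eq_top c n hn]
    exact Msub_fg c n
  have hint : Algebra.IsIntegral (S0 c) (SegA k p q) := Algebra.IsIntegral.of_finite _ _
  have halg : Algebra.IsAlgebraic (S0 c) (SegA k p q) := Algebra.IsIntegral.isAlgebraic
  have h1 := Algebra.IsAlgebraic.trdeg_le_cardinalMk k
    (Set.range fun l => mkA k p q (Ft c l)) (A := SegA k p q) (alg := halg)
  refine h1.trans ?_
  have h2 := Cardinal.mk_range_le_lift (f := fun l : Fin w => mkA k p q (Ft c l))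
  simpa using h2

end fin

end Groth.Agent.Lib.Hopf99
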