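import Mathlib
import Groth.Agent.Lib.Hopf99b

set_option autoImplicit false
universe u

namespace Groth.Agent.Lib.Hopf99

open MvPolynomial

section lower
variable {k : Type u} [Field k] {p q : ℕ}

/-- index type for the algebraically independent family -/
abbrev Idx (p q : ℕ) (j₀ : Fin q) : Type := Fin p ⊕ {j : Fin q // j ≠ j₀}

/-- The induced map from the Segre ring to the polynomial ring in `x, y`. -/
noncomputable def θbar (k : Type u) [Field k] (p q : ℕ) :
    SegA k p q →ₐ[k] MvPolynomial (Fin p ⊕ Fin q) k :=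
  Ideal.Quotient.liftₐ (RingHom.ker (θ k p q)) (θ k p q) (fun _ ha => ha)

@[simp] lemma θbar_mk (f : MvPolynomial (Fin p × Fin q) k) :
    θbar k p q (mkA k p q f) = θ k p q f := rfl

/-- evaluation into the field of rational functions -/
noncomputable def ψ (k : Type u) [Field k] (p q : ℕ) (i₀ : Fin p) (j₀ : Fin q) :
    MvPolynomial (Fin p ⊕ Fin q) k →ₐ[k] FractionRing (MvPolynomial (Idx p q j₀) k) :=
  aeval (fun s => match s with
    | Sum.inl i => algebraMap (MvPolynomial (Idx p q j₀) k) _ (X (Sum.inl i))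
    | Sum.inr j => if h : j = j₀ then 1 else
        algebraMap (MvPolynomial (Idx p q j₀) k) _ (X (Sum.inr ⟨j, h⟩)) /
          algebraMap (MvPolynomial (Idx p q j₀) k) _ (X (Sum.inl i₀)))

/-- the family `x_i y_{j₀}`, `x_{i₀} y_j (j ≠ j₀)` in the Segre ring -/
noncomputable def fam (k : Type u) [Field k] (p q : ℕ) (i₀ : Fin p) (j₀ : Fin q) :
    Idx p q j₀ → SegA k p q :=
  Sum.elim (fun i => mkA k p q (X (i, j₀))) (fun j => mkA k p q (X (i₀, j.1)))

lemma comp_fam (i₀ : Fin p) (j₀ : Fin q) :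
    ((ψ k p q i₀ j₀).comp (θbar k p q)) ∘ fam k p q i₀ j₀ =
      fun e => algebraMap (MvPolynomial (Idx p q j₀) k) _ (X e) := by
  funext e
  rcases e with i | ⟨j, hj⟩
  · show ψ k p q i₀ j₀ (θ k p q (X (i, j₀))) = _
    rw [θ_X]
    simp [ψ]
  · have hne : algebraMap (MvPolynomial (Idx p q j₀) k)
        (FractionRing (MvPolynomial (Idx p q j₀) k)) (X (Sum.inl i₀)) ≠ 0 := by
      intro h
      have := (IsFractionRing.injective (MvPolynomial (Idx p q j₀) k)
        (FractionRing (MvPolynomial (Idx p q j₀) k))) (h.trans (map_zero _).symm)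
      exact X_ne_zero _ this
    show ψ k p q i₀ j₀ (θ k p q (X (i₀, j))) = _
    rw [θ_X]
    simp [ψ, hj, mul_div_cancel₀ _ hne]

lemma algebraicIndependent_fam (i₀ : Fin p) (j₀ : Fin q) :
    AlgebraicIndependent k (fam k p q i₀ j₀) := by
  apply AlgebraicIndependent.of_comp ((ψ k p q i₀ j₀).comp (θbar k p q))
  rw [comp_fam]
  have h1 := MvPolynomial.algebraicIndependent_X (Idx p q j₀) k
  have h2 := h1.map' (f := IsScalarTower.toAlgHom k (MvPolynomial (Idx p q j₀) k)
    (FractionRing (MvPolynomial (Idx p q j₀) k)))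
    (IsFractionRing.injective _ _)
  exact h2

open Cardinal in
theorem le_trdeg (i₀ : Fin p) (j₀ : Fin q) :
    ((p + (q - 1) : ℕ) : Cardinal.{u}) ≤ Algebra.trdeg k (SegA k p q) := by
  have h := (algebraicIndependent_fam (k := k) i₀ j₀).lift_cardinalMk_le_trdeg
  have hcard : Cardinal.mk (Idx p q j₀) = ((p + (q - 1) : ℕ) : Cardinal) := by
    rw [Cardinal.mk_fintype, Fintype.card_sum, Fintype.card_fin]
    congr 2
    rw [Fintype.card_subtype_compl, Fintype.card_fin]
    simp
  rw [hcard] at h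
  simpa using h

end lower

/-- **Hopf lemma in coordinates**: a 1-generic family of `w` bilinear forms on `k^p × k^q`
(`k` algebraically closed, `p, q > 0`) satisfies `p + q ≤ w + 1`. -/
theorem hopf_coord {k : Type u} [Field k] [IsAlgClosed k] {p q w : ℕ} (hp : 0 < p) (hq : 0 < q)
    (c : Fin w → Fin p → Fin q → k)
    (hgen : ∀ (x : Fin p → k) (y : Fin q → k),
      (∀ l, ∑ i, ∑ j, c l i j * (x i * y j) = 0) → x = 0 ∨ y = 0) :
    p + q ≤ w + 1 := by
  have h1 := le_trdeg (k := k) (⟨0, hp⟩ : Fin p) (⟨0, hq⟩ : Fin q)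
  have h2 := trdeg_le c hgen
  have h3 := h1.trans h2
  have h4 : p + (q - 1) ≤ w := by exact_mod_cast h3
  omega

end Groth.Agent.Lib.Hopf99
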