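import Groth.Agent.Lib.OrbitOpen38

set_option autoImplicit false
set_option linter.unusedSectionVars false
universe u v w
open TensorProduct

namespace Groth.Agent.Lib.OrbitOpen38
open Groth.Agent.Lib.Comod Groth.Agent.Lib.Reynolds38 Groth.Agent.Lib.GLinGrading38
  Groth.Agent.Lib.GITQuot38 Groth.Agent.Lib.GITOrbit38 Groth.Agent.Lib.GITPts38

section Orbit
variable {k : Type u} [Field k] {A : Type v} [CommRing A] [Bialgebra k A]
  {R : Type w} [CommRing R] [Algebra k R] [HopfRep.Comod k A R] [GLin.IsCoactAlg k A R]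

/-- The ideal of an orbit closure is contained in the ideal of the orbit closure of any of its
points. -/
theorem ker_orbitHom_le {x z : R →ₐ[k] k} (h : GLin.InOrbitClosure k A x z) :
    RingHom.ker (GLin.orbitHom k A x) ≤ RingHom.ker (GLin.orbitHom k A z) := by
  intro f hf
  have hsub := isSubcomod_ker_orbitHom (A := A) x f (show f ∈ LinearMap.ker _ from hf)
  obtain ⟨t, ht⟩ := hsub
  rw [RingHom.mem_ker, orbitHom_apply, ← ht, ← LinearMap.comp_apply, ← LinearMap.rTensor_comp]
  have h0 : z.toLinearMap ∘ₗ (LinearMap.ker (GLin.orbitHom k A x).toLinearMap).subtype = 0 := by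
    ext ⟨a, ha⟩
    exact h ha
  rw [h0, LinearMap.rTensor_zero, LinearMap.zero_apply, map_zero]

/-- Orbit closures are stable under the action. -/
theorem inOrbitClosure_actPt {x z : R →ₐ[k] k} (h : GLin.InOrbitClosure k A x z)
    (g : A →ₐ[k] k) : GLin.InOrbitClosure k A x (GLin.actPt k g z) := by
  intro f hf
  have := ker_orbitHom_le h hf
  rw [RingHom.mem_ker] at this ⊢
  rw [actPt_apply, this, map_zero]

end Orbit

section Hopf
variable {k : Type u} [Field k] {A : Type v} [CommRing A] [HopfAlgebra k A]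
  {R : Type w} [CommRing R] [Algebra k R] [HopfRep.Comod k A R] [GLin.IsCoactAlg k A R]

theorem actPt_inv_actPt (g : WithConv (A →ₐ[k] k)) (x : R →ₐ[k] k) :
    GLin.actPt k g⁻¹.ofConv (GLin.actPt k g.ofConv x) = x := by
  rw [actPt_actPt, mul_inv_cancel, actPt_one]

/-- If `z` is a translate of `y` then `y` is a translate of `z`. -/
theorem exists_actPt_symm {y z : R →ₐ[k] k} (h : ∃ g : A →ₐ[k] k, z = GLin.actPt k g y) :
    ∃ g : A →ₐ[k] k, y = GLin.actPt k g z := by
  obtain ⟨g, rfl⟩ := h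
  exact ⟨(WithConv.toConv g)⁻¹.ofConv, (actPt_inv_actPt (WithConv.toConv g) y).symm⟩

variable [IsAlgClosed k] [Algebra.FiniteType k A] [Algebra.FiniteType k R] [IsReduced A]

/-- **Orbits of minimal closure are closed.**  If every point of the orbit closure of `y` has the
same orbit closure as `y`, then every rational point of the closure lies in the orbit. -/
theorem exists_actPt_eq_of_minimal (y : R →ₐ[k] k)
    (hmin : ∀ z : R →ₐ[k] k, GLin.InOrbitClosure k A y z →
      RingHom.ker (GLin.orbitHom k A z) ≤ RingHom.ker (GLin.orbitHom k A y))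
    (z : R →ₐ[k] k) (hz : GLin.InOrbitClosure k A y z) :
    ∃ g : A →ₐ[k] k, z = GLin.actPt k g y := by
  have hnt : Nontrivial A := (Bialgebra.counitAlgHom k A).toRingHom.domain_nontrivial
  obtain ⟨h, hnil, hlift⟩ := exists_generic_lift (GLin.orbitHom k A y)
  have hzh : GLin.orbitHom k A z h ≠ 0 := by
    intro h0
    apply hnil
    have : h ∈ RingHom.ker (GLin.orbitHom k A y) := hmin z hz h0
    rw [RingHom.mem_ker] at this
    rw [this]
    exact IsNilpotent.zero
  obtain ⟨g, hg⟩ : ∃ g : A →ₐ[k] k, g (GLin.orbitHom k A z h) ≠ 0 := by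
    by_contra hcon
    push Not at hcon
    exact hzh (isNilpotent_of_forall_algHom_eq_zero _ hcon).eq_zero
  have hz' : GLin.InOrbitClosure k A y (GLin.actPt k g z) := inOrbitClosure_actPt hz g
  obtain ⟨g', hg'⟩ := hlift (GLin.actPt k g z) hz' (by rw [actPt_apply]; exact hg)
  have h1 : z = GLin.actPt k (WithConv.toConv g)⁻¹.ofConv (GLin.actPt k g z) :=
    (actPt_inv_actPt (WithConv.toConv g) z).symm
  rw [hg'] at h1
  refine ⟨(WithConv.toConv g' * (WithConv.toConv g)⁻¹).ofConv, ?_⟩
  rw [h1, ← actPt_actPt]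
  rfl

end Hopf

section Fibre
variable {k : Type u} [Field k] [IsAlgClosed k] {A : Type v} [CommRing A] [HopfAlgebra k A]
  [Algebra.FiniteType k A] [IsReduced A]
  {R : Type v} [CommRing R] [Algebra k R] [HopfRep.Comod k A R] [GLin.IsCoactAlg k A R]
  [Algebra.FiniteType k R]

/-- **The unique closed orbit in a fibre of the affine quotient.** -/
theorem exists_closed_orbit_in_fibre (hG : HopfRep.IsLinearlyReductive k A) (x : R →ₐ[k] k) :
    ∃ y : R →ₐ[k] k, (∀ f ∈ GLin.invariants k A R, y f = x f) ∧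
      (∀ z : R →ₐ[k] k, GLin.InOrbitClosure k A y z → ∃ g : A →ₐ[k] k, z = GLin.actPt k g y) ∧
      (∀ x' : R →ₐ[k] k, (∀ f ∈ GLin.invariants k A R, x' f = x f) →
        GLin.InOrbitClosure k A x' y) ∧
      (∀ y' : R →ₐ[k] k, (∀ f ∈ GLin.invariants k A R, y' f = x f) →
        (∀ z : R →ₐ[k] k, GLin.InOrbitClosure k A y' z →
          ∃ g : A →ₐ[k] k, z = GLin.actPt k g y') →
        ∃ g : A →ₐ[k] k, y' = GLin.actPt k g y) := by
  have hRn : IsNoetherianRing R := Algebra.FiniteType.isNoetherianRing k R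
  let S : Set (Ideal R) := {I | ∃ p : R →ₐ[k] k, (∀ f ∈ GLin.invariants k A R, p f = x f) ∧
    I = RingHom.ker (GLin.orbitHom k A p)}
  have hSne : S.Nonempty := ⟨_, x, fun _ _ => rfl, rfl⟩
  obtain ⟨_, ⟨y, hyF, rfl⟩, hymax⟩ := (wellFounded_gt (α := Ideal R)).has_min S hSne
  have hmin : ∀ z : R →ₐ[k] k, GLin.InOrbitClosure k A y z →
      RingHom.ker (GLin.orbitHom k A z) ≤ RingHom.ker (GLin.orbitHom k A y) := by
    intro z hz
    have hzF : ∀ f ∈ GLin.invariants k A R, z f = x f := fun f hf => by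
      rw [apply_eq_of_inOrbitClosure hz hf, hyF f hf]
    have hle := ker_orbitHom_le hz
    have hnot := hymax _ ⟨z, hzF, rfl⟩
    exact le_of_eq (eq_of_le_of_not_lt hle hnot).symm
  have hclosed := exists_actPt_eq_of_minimal y hmin
  have h2 : ∀ x' : R →ₐ[k] k, (∀ f ∈ GLin.invariants k A R, x' f = x f) →
      GLin.InOrbitClosure k A x' y := by
    intro x' hx'
    have hne := ker_orbitHom_sup_ne_top hG x' y (fun f hf => by rw [hx' f hf, hyF f hf])
    obtain ⟨z, hz⟩ := exists_algHom_ker_ge (k := k) _ hne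
    have hz1 : GLin.InOrbitClosure k A x' z := le_sup_left.trans hz
    have hz2 : GLin.InOrbitClosure k A y z := le_sup_right.trans hz
    obtain ⟨g, hg⟩ := exists_actPt_symm (hclosed z hz2)
    rw [hg]
    exact inOrbitClosure_actPt hz1 g
  refine ⟨y, hyF, hclosed, h2, ?_⟩
  intro y' hy'F hy'closed
  have h3 : GLin.InOrbitClosure k A y' y := h2 y' hy'F
  exact exists_actPt_symm (hy'closed y h3)

end Fibre

end Groth.Agent.Lib.OrbitOpen38
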