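import Groth.Agent.Lib.FTDim
import Groth.Agent.Lib.OrbitOpen38b

/-!
# Orbit dimension arguments (helper38)

* `exists_generic_lift_of_mem_minimalPrimes`: Chevalley-type generic lifting near a chosen
  minimal prime of the kernel.
* `ringKrullDim_le_of_injective`: dimension is monotone along injective maps of finite type
  algebras over a field (via helper6's S2680 and helper8's FTDim).
* `ringKrullDim_le_of_finite_fibres`: a map of finite type algebras over an algebraically closed
  field all of whose fibres over rational points are finite does not raise dimension.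
* `exists_actPt_of_closed_of_finite_stab`: a closed orbit with finite stabiliser lying in the
  closure of another orbit is that orbit.
-/

set_option autoImplicit false
set_option linter.unusedSectionVars false
universe u v
open Topology

namespace Groth.Agent.Lib.OrbitDim38
open Groth.Agent.Lib.OrbitOpen38

section Lift
variable {k : Type*} [Field k] [IsAlgClosed k] {R A : Type*} [CommRing R] [CommRing A]
  [Algebra k R] [Algebra k A] [Algebra.FiniteType k R] [Algebra.FiniteType k A]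

/-- Generic lifting of rational points near a prescribed minimal prime of the kernel. -/
theorem exists_generic_lift_of_mem_minimalPrimes (φ : R →ₐ[k] A) (P : Ideal R)
    (hPmin : P ∈ (RingHom.ker φ).minimalPrimes) :
    ∃ h : R, h ∉ P ∧ ∀ z : R →ₐ[k] k, RingHom.ker φ ≤ RingHom.ker z → z h ≠ 0 →
      ∃ g : A →ₐ[k] k, z = g.comp φ := by
  classical
  have hRn : IsNoetherianRing R := Algebra.FiniteType.isNoetherianRing k R
  set K : Ideal R := RingHom.ker φ with hK
  have hPprime : P.IsPrime := hPmin.1.1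
  have hKP : K ≤ P := hPmin.1.2
  obtain ⟨P', hP'prime, -, hP'⟩ :=
    Ideal.exists_comap_eq_of_mem_minimalPrimes (I := ⊥) φ.toRingHom P hPmin
  let pt : PrimeSpectrum R := ⟨P, hPprime⟩
  let C : Set (PrimeSpectrum R) := Set.range (PrimeSpectrum.comap φ.toRingHom)
  have hptC : pt ∈ C := ⟨⟨P', hP'prime⟩, PrimeSpectrum.ext hP'⟩
  have hfp : φ.toRingHom.FinitePresentation := by
    apply RingHom.FinitePresentation.of_finiteType.1
    have h1 : (φ.toRingHom.comp (algebraMap k R)).FiniteType := by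
      have : φ.toRingHom.comp (algebraMap k R) = algebraMap k A := φ.comp_algebraMap
      rw [this]
      exact RingHom.finiteType_algebraMap.2 inferInstance
    exact RingHom.FiniteType.of_comp_finiteType h1
  have hCc : IsConstructible C := PrimeSpectrum.isConstructible_range_comap hfp
  let Z : Set (PrimeSpectrum R) := PrimeSpectrum.zeroLocus (P : Set R)
  have hZirr : IsIrreducible Z :=
    (PrimeSpectrum.isIrreducible_zeroLocus_iff_of_radical P hPprime.isRadical).2 hPprime
  have hptZ : pt ∈ Z := by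
    rw [PrimeSpectrum.mem_zeroLocus]
  have hgen : ∀ U, IsOpen U → (Z ∩ U).Nonempty → pt ∈ U := by
    rintro U hU ⟨q, hqZ, hqU⟩
    have hle : pt ≤ q := (PrimeSpectrum.mem_zeroLocus _ _).1 hqZ
    exact ((PrimeSpectrum.le_iff_specializes pt q).1 hle).mem_open hU hqU
  obtain ⟨U, hU, hne, hsub⟩ : ∃ U, IsOpen U ∧ (Z ∩ U).Nonempty ∧ Z ∩ U ⊆ C := by
    rcases exists_open_inter_subset_or hZirr hCc with h | ⟨U, hU, hne, hsub⟩
    · exact h
    · exact absurd hptC (hsub ⟨hptZ, hgen U hU hne⟩)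
  have hfin : (K.minimalPrimes).Finite := K.finite_minimalPrimes_of_isNoetherianRing R
  let T : Set (PrimeSpectrum R) :=
    ⋃ Q ∈ K.minimalPrimes \ {P}, PrimeSpectrum.zeroLocus (Q : Set R)
  have hTclosed : IsClosed T :=
    (hfin.subset Set.sdiff_subset).isClosed_biUnion fun Q _ => PrimeSpectrum.isClosed_zeroLocus _
  have hptT : pt ∉ T := by
    intro h
    simp only [T, Set.mem_iUnion] at h
    obtain ⟨Q, ⟨hQmin, hQne⟩, hQ⟩ := h
    have hQP : Q ≤ P := (PrimeSpectrum.mem_zeroLocus _ _).1 hQ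
    exact hQne (le_antisymm hQP (hPmin.2 hQmin.1 hQP))
  have hptU' : pt ∈ U ∩ Tᶜ := ⟨hgen U hU hne, hptT⟩
  obtain ⟨_, ⟨h, rfl⟩, hpth, hhU⟩ := PrimeSpectrum.isTopologicalBasis_basic_opens.exists_subset_of_mem_open
    hptU' (hU.inter hTclosed.isOpen_compl)
  have hhP : h ∉ P := (PrimeSpectrum.mem_basicOpen _ _).1 hpth
  refine ⟨h, hhP, ?_⟩
  intro z hKz hzh
  have hzmax : (RingHom.ker z).IsMaximal := RingHom.ker_isMaximal_of_surjective (z : R →+* k)
    (fun c => ⟨algebraMap k R c, AlgHom.commutes z c⟩)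
  let 𝔷 : PrimeSpectrum R := ⟨RingHom.ker z, hzmax.isPrime⟩
  have h𝔷h : 𝔷 ∈ (PrimeSpectrum.basicOpen h : Set (PrimeSpectrum R)) := by
    show 𝔷 ∈ PrimeSpectrum.basicOpen h
    rw [PrimeSpectrum.mem_basicOpen]
    exact fun hh => hzh hh
  obtain ⟨h𝔷U, h𝔷T⟩ := hhU h𝔷h
  have := hzmax.isPrime
  obtain ⟨Q, hQmin, hQz⟩ := Ideal.exists_minimalPrimes_le hKz
  have hQP : Q = P := by
    by_contra hne
    apply h𝔷T
    simp only [T, Set.mem_iUnion]
    exact ⟨Q, ⟨hQmin, hne⟩, (PrimeSpectrum.mem_zeroLocus _ _).2 hQz⟩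
  have h𝔷Z : 𝔷 ∈ Z := (PrimeSpectrum.mem_zeroLocus _ _).2 (hQP ▸ hQz)
  obtain ⟨𝔭, h𝔭⟩ := hsub ⟨h𝔷Z, h𝔷U⟩
  obtain ⟨g, hg⟩ := Groth.Agent.Lib.GITQuot38.exists_algHom_ker_ge (k := k) 𝔭.asIdeal 𝔭.2.ne_top
  refine ⟨g, ?_⟩
  have hle : RingHom.ker z ≤ RingHom.ker (g.comp φ) := by
    intro f hf
    have hf' : f ∈ (PrimeSpectrum.comap φ.toRingHom 𝔭).asIdeal := by
      rw [h𝔭]; exact hf
    rw [PrimeSpectrum.comap_asIdeal, Ideal.mem_comap] at hf'
    rw [RingHom.mem_ker]
    exact hg hf'
  apply AlgHom.ext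
  intro f
  have hmem : f - algebraMap k R (z f) ∈ RingHom.ker z := by
    rw [RingHom.mem_ker, map_sub, AlgHom.commutes, sub_eq_zero]; rfl
  have := hle hmem
  rw [RingHom.mem_ker, map_sub, AlgHom.commutes, sub_eq_zero] at this
  rw [this]; rfl

/-- two rational points with comparable kernels coincide -/
theorem algHom_eq_of_ker_le {z w : R →ₐ[k] k} (h : RingHom.ker z ≤ RingHom.ker w) : w = z := by
  apply AlgHom.ext
  intro f
  have hmem : f - algebraMap k R (z f) ∈ RingHom.ker z := by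
    rw [RingHom.mem_ker, map_sub, AlgHom.commutes, sub_eq_zero]; rfl
  have := h hmem
  rw [RingHom.mem_ker, map_sub, AlgHom.commutes, sub_eq_zero] at this
  rw [this]; rfl

/-- a point of `V(P)` avoiding a given element outside the prime `P` -/
theorem exists_point_of_not_mem (P : Ideal R) [P.IsPrime] {h : R} (hh : h ∉ P) :
    ∃ z : R →ₐ[k] k, P ≤ RingHom.ker z ∧ z h ≠ 0 := by
  have : Algebra.FiniteType k (R ⧸ P) :=
    Algebra.FiniteType.of_surjective (Ideal.Quotient.mkₐ k P) (Ideal.Quotient.mkₐ_surjective k P)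
  have hnn : ¬ IsNilpotent (Ideal.Quotient.mk P h) := by
    intro hn
    have := hn.eq_zero
    rw [Ideal.Quotient.eq_zero_iff_mem] at this
    exact hh this
  by_contra hcon
  push Not at hcon
  apply hnn
  apply Groth.Agent.Lib.GITPts38.isNilpotent_of_forall_algHom_eq_zero (k := k)
  intro g
  have := hcon (g.comp (Ideal.Quotient.mkₐ k P)) (by
    intro f hf
    rw [RingHom.mem_ker]
    show g (Ideal.Quotient.mk P f) = 0
    rw [Ideal.Quotient.eq_zero_iff_mem.2 hf, map_zero])
  exact this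

end Lift


section Dim
variable {k : Type u} [Field k] {B A : Type u} [CommRing B] [CommRing A] [Algebra k B]
  [Algebra k A] [Algebra.FiniteType k B] [Algebra.FiniteType k A]

/-- A polynomial ring in `d` variables embedded in a finite type algebra forces dimension `≥ d`. -/
theorem le_ringKrullDim_of_injective_mvPolynomial (d : ℕ) (ψ : MvPolynomial (Fin d) k →ₐ[k] A)
    (hψ : Function.Injective ψ) : (d : WithBot ℕ∞) ≤ ringKrullDim A := by
  have hbot : (⊥ : Ideal (MvPolynomial (Fin d) k)) ∈ minimalPrimes (MvPolynomial (Fin d) k) := by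
    rw [IsDomain.minimalPrimes_eq_singleton_bot]; rfl
  obtain ⟨Q, hQ, hQc⟩ := Ideal.exists_comap_eq_of_mem_minimalPrimes_of_injective
    (f := ψ.toRingHom) hψ ⊥ hbot
  have : Algebra.FiniteType k (A ⧸ Q) :=
    Algebra.FiniteType.of_surjective (Ideal.Quotient.mkₐ k Q) (Ideal.Quotient.mkₐ_surjective k Q)
  have : IsDomain (A ⧸ Q) := Ideal.Quotient.isDomain Q
  obtain ⟨n, htr, hdim, -⟩ := Groth.Agent.S2680.result k (A ⧸ Q)
  let ψ' : MvPolynomial (Fin d) k →ₐ[k] FractionRing (A ⧸ Q) :=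
    (IsScalarTower.toAlgHom k (A ⧸ Q) (FractionRing (A ⧸ Q))).comp
      ((Ideal.Quotient.mkₐ k Q).comp ψ)
  have hψ' : Function.Injective ψ' := by
    rw [injective_iff_map_eq_zero]
    intro p hp
    have h1 : (Ideal.Quotient.mk Q) (ψ p) = 0 :=
      (IsFractionRing.injective (A ⧸ Q) (FractionRing (A ⧸ Q))) (by rw [map_zero]; exact hp)
    rw [Ideal.Quotient.eq_zero_iff_mem] at h1
    have h2 : p ∈ Ideal.comap ψ.toRingHom Q := h1
    rw [hQc] at h2
    exact h2
  have hai : AlgebraicIndependent k (fun i : Fin d => ψ' (MvPolynomial.X i)) := by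
    rw [AlgebraicIndependent]
    have : MvPolynomial.aeval (fun i : Fin d => ψ' (MvPolynomial.X i)) = ψ' := by
      apply MvPolynomial.algHom_ext
      intro i
      rw [MvPolynomial.aeval_X]
    rw [this]
    exact hψ'
  have hcard := hai.lift_cardinalMk_le_trdeg
  rw [htr] at hcard
  have hdn : d ≤ n := by
    simpa using hcard
  calc (d : WithBot ℕ∞) ≤ (n : WithBot ℕ∞) := by exact_mod_cast hdn
    _ = ringKrullDim (A ⧸ Q) := hdim.symm
    _ ≤ ringKrullDim A := ringKrullDim_quotient_le Q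

/-- the dimension of a finite type algebra over a field, as a natural number, witnessed by a
Noether normalization -/
theorem exists_noether (hB : Nontrivial B) : ∃ (d : ℕ) (g : MvPolynomial (Fin d) k →ₐ[k] B),
    Function.Injective g ∧ ringKrullDim B = d := by
  obtain ⟨d, g, hinj, hfin⟩ := exists_finite_inj_algHom_of_fg k B
  refine ⟨d, g, hinj, ?_⟩
  algebraize [g.toRingHom]
  have : Module.Finite (MvPolynomial (Fin d) k) B := hfin
  have : Algebra.IsIntegral (MvPolynomial (Fin d) k) B := inferInstance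
  rw [← Groth.Agent.Lib.FTDim.ringKrullDim_eq_of_isIntegral_of_injective
    (R := MvPolynomial (Fin d) k) (S := B) hinj, Groth.Agent.Lib.FTDim.ringKrullDim_mvPolynomial]

/-- **Dimension is monotone along injective maps of finite type algebras.** -/
theorem ringKrullDim_le_of_injective (φ : B →ₐ[k] A) (hφ : Function.Injective φ) :
    ringKrullDim B ≤ ringKrullDim A := by
  rcases subsingleton_or_nontrivial B with hB | hB
  · rw [ringKrullDim_eq_bot_of_subsingleton]; exact bot_le
  obtain ⟨d, g, hinj, hdim⟩ := exists_noether (k := k) hB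
  rw [hdim]
  exact le_ringKrullDim_of_injective_mvPolynomial d (φ.comp g) (hφ.comp hinj)

end Dim


/-- two rational points with comparable kernels coincide -/
theorem algHom_eq_of_ker_le' {k R : Type*} [Field k] [CommRing R] [Algebra k R]
    {z w : R →ₐ[k] k} (h : RingHom.ker z ≤ RingHom.ker w) : w = z := by
  apply AlgHom.ext
  intro f
  have hmem : f - algebraMap k R (z f) ∈ RingHom.ker z := by
    rw [RingHom.mem_ker, map_sub, AlgHom.commutes, sub_eq_zero]; rfl
  have := h hmem
  rw [RingHom.mem_ker, map_sub, AlgHom.commutes, sub_eq_zero] at this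
  rw [this]; rfl

section Fibre
variable {k : Type u} [Field k] [IsAlgClosed k] {B A : Type u} [CommRing B] [CommRing A]
  [Algebra k B] [Algebra k A] [Algebra.FiniteType k B] [Algebra.FiniteType k A]

/-- A finite type algebra over an algebraically closed field with finitely many rational points
has all primes maximal. -/
theorem isMaximal_of_finite_points {F : Type u} [CommRing F] [Algebra k F] [Algebra.FiniteType k F]
    (hfin : {m : Ideal F | m.IsMaximal}.Finite) (q : Ideal F) (hq : q.IsPrime) : q.IsMaximal := by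
  classical
  have hJ : IsJacobsonRing F := isJacobsonRing_of_finiteType (A := k)
  have hjac : q.jacobson = q := hJ.out' q hq.isRadical
  let S : Set (Ideal F) := {m | q ≤ m ∧ m.IsMaximal}
  have hSfin : S.Finite := hfin.subset fun m hm => hm.2
  have hle : hSfin.toFinset.inf id ≤ q := by
    rw [← hjac, Ideal.jacobson]
    refine le_sInf fun m hm => ?_
    exact Finset.inf_le (f := id) (hSfin.mem_toFinset.2 hm)
  obtain ⟨m, hm, hmq⟩ := (Ideal.IsPrime.inf_le' hq).1 hle
  have hmS := hSfin.mem_toFinset.1 hm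
  have : m = q := hmS.2.eq_of_le hq.ne_top hmq
  rw [← this]
  exact hmS.2

/-- **Quasi-finite maps do not raise dimension.** -/
theorem ringKrullDim_le_of_finite_fibres (ψ : B →ₐ[k] A)
    (hfib : ∀ g : A →ₐ[k] k, {g' : A →ₐ[k] k | g'.comp ψ = g.comp ψ}.Finite) :
    ringKrullDim A ≤ ringKrullDim B := by
  classical
  have hAn : IsNoetherianRing A := Algebra.FiniteType.isNoetherianRing k A
  have hBn : IsNoetherianRing B := Algebra.FiniteType.isNoetherianRing k B
  rw [ringKrullDim_le_iff_isMaximal_height_le]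
  intro 𝔫 h𝔫
  obtain ⟨g, hg⟩ := Groth.Agent.Lib.GITQuot38.exists_algHom_ker_ge (k := k) 𝔫 h𝔫.ne_top
  have hkerne : RingHom.ker g ≠ ⊤ := by
    intro h
    have h1 : (1 : A) ∈ RingHom.ker g := h ▸ Submodule.mem_top
    rw [RingHom.mem_ker, map_one] at h1
    exact one_ne_zero h1
  have hker : 𝔫 = RingHom.ker g := h𝔫.eq_of_le hkerne hg
  let _ : Algebra B A := ψ.toRingHom.toAlgebra
  let p : Ideal B := RingHom.ker (g.comp ψ)
  have hp : p.IsPrime := RingHom.ker_isPrime _
  have h𝔫p : 𝔫.IsPrime := h𝔫.isPrime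
  have hlo : 𝔫.LiesOver p := ⟨by
    ext b
    rw [Ideal.under, Ideal.mem_comap, hker, RingHom.mem_ker, RingHom.mem_ker]
    rfl⟩
  have h1 := Ideal.height_le_height_add_of_liesOver p 𝔫
  set J : Ideal A := p.map (algebraMap B A) with hJ
  have hJ𝔫 : J ≤ 𝔫 := by
    rw [hJ, Ideal.map_le_iff_le_comap]
    intro b hb
    rw [Ideal.mem_comap, hker, RingHom.mem_ker]
    exact hb
  -- the fibre ring
  have hFft : Algebra.FiniteType k (A ⧸ J) :=
    Algebra.FiniteType.of_surjective (Ideal.Quotient.mkₐ k J) (Ideal.Quotient.mkₐ_surjective k J)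
  have hMfin : {m : Ideal (A ⧸ J) | m.IsMaximal}.Finite := by
    refine ((hfib g).image fun g' : A →ₐ[k] k =>
      (RingHom.ker g').map (Ideal.Quotient.mk J)).subset ?_
    intro m hm
    obtain ⟨γ, hγ⟩ := Groth.Agent.Lib.GITQuot38.exists_algHom_ker_ge (k := k) m
      (Ideal.IsMaximal.ne_top hm)
    have hγne : RingHom.ker γ ≠ ⊤ := by
      intro h
      have h1 : (1 : A ⧸ J) ∈ RingHom.ker γ := h ▸ Submodule.mem_top
      rw [RingHom.mem_ker, map_one] at h1
      exact one_ne_zero h1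
    have hmγ : m = RingHom.ker γ := (Ideal.IsMaximal.eq_of_le hm hγne hγ)
    refine ⟨γ.comp (Ideal.Quotient.mkₐ k J), ?_, ?_⟩
    · show (γ.comp (Ideal.Quotient.mkₐ k J)).comp ψ = g.comp ψ
      apply algHom_eq_of_ker_le'
      intro b hb
      rw [RingHom.mem_ker]
      show γ (Ideal.Quotient.mk J (ψ b)) = 0
      have : ψ b ∈ J := Ideal.mem_map_of_mem (algebraMap B A) hb
      rw [Ideal.Quotient.eq_zero_iff_mem.2 this, map_zero]
    · show (RingHom.ker (γ.comp (Ideal.Quotient.mkₐ k J))).map (Ideal.Quotient.mk J) = m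
      have : RingHom.ker (γ.comp (Ideal.Quotient.mkₐ k J)) =
          Ideal.comap (Ideal.Quotient.mk J) m := by
        ext a
        rw [RingHom.mem_ker, Ideal.mem_comap, hmγ, RingHom.mem_ker]
        rfl
      rw [this, Ideal.map_comap_of_surjective _ Ideal.Quotient.mk_surjective]
  have hdim0 : Ring.KrullDimLE 0 (A ⧸ J) :=
    Ring.krullDimLE_zero_iff.2 fun q hq => isMaximal_of_finite_points (k := k) hMfin q hq
  have hne : 𝔫.map (Ideal.Quotient.mk J) ≠ ⊤ := by
    intro h
    have h2 := Ideal.comap_map_of_surjective (Ideal.Quotient.mk J) Ideal.Quotient.mk_surjective 𝔫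
    rw [h, Ideal.comap_top, ← RingHom.ker_eq_comap_bot, Ideal.mk_ker, sup_eq_left.2 hJ𝔫] at h2
    exact h𝔫.ne_top h2.symm
  have h0 : (𝔫.map (Ideal.Quotient.mk J)).height = 0 := by
    have h3 : ((𝔫.map (Ideal.Quotient.mk J)).height : WithBot ℕ∞) ≤ ringKrullDim (A ⧸ J) :=
      Ideal.height_le_ringKrullDim_of_ne_top hne
    have h4 : ringKrullDim (A ⧸ J) ≤ ((0 : ℕ) : WithBot ℕ∞) := Ring.krullDimLE_iff.1 hdim0
    have h5 := h3.trans h4
    have h6 : (𝔫.map (Ideal.Quotient.mk J)).height ≤ 0 := by exact_mod_cast h5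
    exact le_antisymm h6 bot_le
  rw [h0, add_zero] at h1
  calc (𝔫.height : WithBot ℕ∞) ≤ (p.height : WithBot ℕ∞) := by exact_mod_cast h1
    _ ≤ ringKrullDim B := Ideal.height_le_ringKrullDim_of_ne_top hp.ne_top

end Fibre


section Absorb
open Groth.Agent.Lib.GITOrbit38 Groth.Agent.Lib.GITQuot38
variable {k : Type u} [Field k] [IsAlgClosed k] {A : Type u} [CommRing A] [HopfAlgebra k A]
  [Algebra.FiniteType k A]
  {R : Type u} [CommRing R] [Algebra k R] [HopfRep.Comod k A R] [GLin.IsCoactAlg k A R]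
  [Algebra.FiniteType k R]

/-- **A closed orbit with finite stabiliser absorbs every orbit whose closure meets it.** -/
theorem exists_actPt_of_closed_of_finite_stab (x₁ x₂ : R →ₐ[k] k)
    (hcl : ∀ z : R →ₐ[k] k, GLin.InOrbitClosure k A x₁ z → ∃ g : A →ₐ[k] k, z = GLin.actPt k g x₁)
    (hfin : {g : A →ₐ[k] k | GLin.actPt k g x₁ = x₁}.Finite)
    (h12 : GLin.InOrbitClosure k A x₂ x₁) : ∃ g : A →ₐ[k] k, x₂ = GLin.actPt k g x₁ := by
  classical
  by_contra hno
  push Not at hno
  set φ₁ := GLin.orbitHom k A x₁ with hφ₁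
  set φ₂ := GLin.orbitHom k A x₂ with hφ₂
  set K₁ : Ideal R := RingHom.ker φ₁ with hK₁
  set K₂ : Ideal R := RingHom.ker φ₂ with hK₂
  have hK : K₂ ≤ K₁ := ker_orbitHom_le h12
  -- (i) no minimal prime of `K₂` contains `K₁`
  have hi : ∀ P ∈ K₂.minimalPrimes, ¬ K₁ ≤ P := by
    intro P hP hK₁P
    have hPprime : P.IsPrime := hP.1.1
    obtain ⟨h, hhP, hlift⟩ := exists_generic_lift_of_mem_minimalPrimes φ₂ P hP
    obtain ⟨z, hPz, hzh⟩ := exists_point_of_not_mem (k := k) P hhP
    obtain ⟨g₁, hg₁⟩ := hcl z (hK₁P.trans hPz)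
    obtain ⟨g₂, hg₂⟩ := hlift z (hP.1.2.trans hPz) hzh
    have hz2 : z = GLin.actPt k g₂ x₂ := hg₂
    have e1 : x₂ = GLin.actPt k (WithConv.toConv g₂)⁻¹.ofConv (GLin.actPt k g₂ x₂) :=
      (actPt_inv_actPt (WithConv.toConv g₂) x₂).symm
    rw [← hz2, hg₁] at e1
    apply hno (WithConv.toConv g₁ * (WithConv.toConv g₂)⁻¹).ofConv
    rw [e1, ← actPt_actPt]
  -- finite type instances
  have hft₁ : Algebra.FiniteType k (R ⧸ K₁) :=
    Algebra.FiniteType.of_surjective (Ideal.Quotient.mkₐ k K₁) (Ideal.Quotient.mkₐ_surjective k K₁)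
  have hft₂ : Algebra.FiniteType k (R ⧸ K₂) :=
    Algebra.FiniteType.of_surjective (Ideal.Quotient.mkₐ k K₂) (Ideal.Quotient.mkₐ_surjective k K₂)
  -- (iii)
  have hiii : ringKrullDim (R ⧸ K₂) ≤ ringKrullDim A :=
    ringKrullDim_le_of_injective (Ideal.kerLiftAlg φ₂) (Ideal.kerLiftAlg_injective φ₂)
  -- (iv)
  have hiv : ringKrullDim A ≤ ringKrullDim (R ⧸ K₁) := by
    apply ringKrullDim_le_of_finite_fibres (Ideal.kerLiftAlg φ₁)
    intro g
    refine (hfin.image fun h : A →ₐ[k] k => (WithConv.toConv h * WithConv.toConv g).ofConv).subset ?_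
    intro g' hg'
    have hg'' : GLin.actPt k g' x₁ = GLin.actPt k g x₁ := by
      apply AlgHom.ext
      intro f
      have := congrArg (fun F : (R ⧸ K₁) →ₐ[k] k => F (Ideal.Quotient.mk K₁ f)) hg'
      simp only [AlgHom.comp_apply] at this
      exact this
    refine ⟨(WithConv.toConv g' * (WithConv.toConv g)⁻¹).ofConv, ?_, ?_⟩
    · show GLin.actPt k (WithConv.toConv g' * (WithConv.toConv g)⁻¹).ofConv x₁ = x₁
      rw [← actPt_actPt]
      show GLin.actPt k (WithConv.toConv g)⁻¹.ofConv (GLin.actPt k g' x₁) = x₁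
      rw [hg'']
      exact actPt_inv_actPt (WithConv.toConv g) x₁
    · show (WithConv.toConv (WithConv.toConv g' * (WithConv.toConv g)⁻¹).ofConv *
        WithConv.toConv g).ofConv = g'
      rw [WithConv.toConv_ofConv, inv_mul_cancel_right]
  -- (ii)
  have hK₁top : K₁ ≠ ⊤ := by
    intro h
    have h1 : (1 : R) ∈ K₁ := h ▸ Submodule.mem_top
    rw [hK₁, RingHom.mem_ker, map_one] at h1
    have hnt : Nontrivial A := (Bialgebra.counitAlgHom k A).toRingHom.domain_nontrivial
    exact one_ne_zero h1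
  have hnt₁ : Nontrivial (R ⧸ K₁) := Ideal.Quotient.nontrivial_iff.2 hK₁top
  obtain ⟨d, -, -, hd⟩ := exists_noether (k := k) hnt₁
  have hd' : Order.krullDim (PrimeSpectrum.zeroLocus (K₁ : Set R)) = d := by
    rw [← ringKrullDim_quotient, hd]
  obtain ⟨l, hl⟩ := Order.le_krullDim_iff.1 (le_of_eq hd'.symm)
  let f : PrimeSpectrum.zeroLocus (K₁ : Set R) → PrimeSpectrum.zeroLocus (K₂ : Set R) :=
    fun q => ⟨q.1, PrimeSpectrum.zeroLocus_anti_mono hK q.2⟩
  have hf : StrictMono f := fun a b hab => hab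
  have hhead : K₁ ≤ l.head.1.asIdeal := (PrimeSpectrum.mem_zeroLocus _ _).1 l.head.2
  have := l.head.1.2
  obtain ⟨P, hPmin, hPle⟩ := Ideal.exists_minimalPrimes_le (hK.trans hhead)
  have hPne : P ≠ l.head.1.asIdeal := fun h => hi P hPmin (h ▸ hhead)
  let pt : PrimeSpectrum.zeroLocus (K₂ : Set R) :=
    ⟨⟨P, hPmin.1.1⟩, (PrimeSpectrum.mem_zeroLocus _ _).2 hPmin.1.2⟩
  have hlt : pt < (l.map f hf).head := by
    rw [LTSeries.head_map]
    exact lt_of_le_of_ne hPle (fun h => hPne (congrArg (fun q => q.1.asIdeal) h))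
  let l' := (l.map f hf).cons pt hlt
  have hl' : l'.length = d + 1 := by
    simp [l', hl]
  have hii : ((d + 1 : ℕ) : WithBot ℕ∞) ≤ ringKrullDim (R ⧸ K₂) := by
    rw [ringKrullDim_quotient, ← hl']
    exact Order.LTSeries.length_le_krullDim l'
  have hfinal := (hii.trans hiii).trans hiv
  rw [hd] at hfinal
  have : d + 1 ≤ d := by exact_mod_cast hfinal
  omega

end Absorb

end Groth.Agent.Lib.OrbitDim38
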