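/-
helper20: Krull dimension of the Segre ring `k[x_i y_j]` over an arbitrary field, and the
integrality / kernel computations for Segre products of graded `k`-algebras.
-/
import Mathlib
import Groth.Agent.Lib.Hopf99c
import Groth.Agent.Lib.OrbitDim38
import Groth.Agent.Lib.H47TrdegDim
import Groth.Agent.S18646

set_option autoImplicit false
set_option linter.unusedSectionVars false
set_option linter.style.haveILetI false

universe u

namespace Groth.Agent.Lib.SegreDim20

open MvPolynomial Groth.Agent.Lib.Hopf99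

section SegA

variable {k : Type u} [Field k] {p q : ℕ}

instance : Algebra.FiniteType k (SegA k p q) :=
  Algebra.FiniteType.of_surjective (mkA k p q) (Ideal.Quotient.mkₐ_surjective k _)

theorem card_idx (j₀ : Fin q) : Fintype.card (Idx p q j₀) = p + (q - 1) := by
  rw [Fintype.card_sum, Fintype.card_fin]
  congr 1
  rw [Fintype.card_subtype_compl, Fintype.card_fin]
  simp

theorem le_ringKrullDim_segA (i₀ : Fin p) (j₀ : Fin q) :
    ((p + (q - 1) : ℕ) : WithBot ℕ∞) ≤ ringKrullDim (SegA k p q) := by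
  let e : Fin (p + (q - 1)) ≃ Idx p q j₀ := (Fintype.equivFinOfCardEq (card_idx j₀)).symm
  have hind : AlgebraicIndependent k (fam k p q i₀ j₀ ∘ e) :=
    (algebraicIndependent_fam (k := k) i₀ j₀).comp e e.injective
  rw [algebraicIndependent_iff_injective_aeval] at hind
  exact Groth.Agent.Lib.OrbitDim38.le_ringKrullDim_of_injective_mvPolynomial (k := k)
    (A := SegA k p q) (p + (q - 1)) (aeval (fam k p q i₀ j₀ ∘ e)) hind

/-- class of `z_{ij}` in the Segre ring -/
noncomputable abbrev zeta (k : Type u) [Field k] (p q : ℕ) (i : Fin p) (j : Fin q) : SegA k p q :=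
  mkA k p q (X (i, j))

theorem zeta_mul_zeta (i i' : Fin p) (j j' : Fin q) :
    zeta k p q i j * zeta k p q i' j' = zeta k p q i j' * zeta k p q i' j := by
  have h := minor_mem_ker (k := k) i i' j j'
  rw [← Ideal.Quotient.eq_zero_iff_mem, map_sub, sub_eq_zero] at h
  simpa [zeta] using h

theorem zeta_ne_zero (i : Fin p) (j : Fin q) : zeta k p q i j ≠ 0 := by
  intro h
  have h1 : θbar k p q (zeta k p q i j) = 0 := by rw [h, map_zero]
  rw [θbar_mk, θ_X] at h1
  exact mul_ne_zero (X_ne_zero _) (X_ne_zero _) h1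

theorem zeta_mem_left (i₀ : Fin p) (j₀ : Fin q) (i : Fin p) :
    zeta k p q i j₀ ∈ Algebra.adjoin k (Set.range (fam k p q i₀ j₀)) :=
  Algebra.subset_adjoin ⟨Sum.inl i, rfl⟩

theorem zeta_mem_right (i₀ : Fin p) (j₀ : Fin q) (j : Fin q) :
    zeta k p q i₀ j ∈ Algebra.adjoin k (Set.range (fam k p q i₀ j₀)) := by
  by_cases h : j = j₀
  · subst h; exact zeta_mem_left i₀ j i₀
  · exact Algebra.subset_adjoin ⟨Sum.inr ⟨j, h⟩, rfl⟩

theorem isAlgebraic_zeta (i₀ : Fin p) (j₀ : Fin q) (i : Fin p) (j : Fin q) :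
    IsAlgebraic (Algebra.adjoin k (Set.range (fam k p q i₀ j₀))) (zeta k p q i j) := by
  set B := Algebra.adjoin k (Set.range (fam k p q i₀ j₀))
  let b : B := ⟨zeta k p q i₀ j₀, zeta_mem_left i₀ j₀ i₀⟩
  let c : B := ⟨zeta k p q i j₀ * zeta k p q i₀ j,
    B.mul_mem (zeta_mem_left i₀ j₀ i) (zeta_mem_right i₀ j₀ j)⟩
  refine ⟨Polynomial.C b * Polynomial.X - Polynomial.C c, ?_, ?_⟩
  · intro h
    have h1 := congrArg (fun P => Polynomial.coeff P 1) h
    simp only [Polynomial.coeff_sub, Polynomial.coeff_C_mul, Polynomial.coeff_X_one, mul_one,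
      Polynomial.coeff_C_succ, sub_zero, Polynomial.coeff_zero] at h1
    have h2 : (b : SegA k p q) = 0 := by rw [h1]; rfl
    exact zeta_ne_zero i₀ j₀ h2
  · simp only [map_sub, map_mul, Polynomial.aeval_C, Polynomial.aeval_X]
    show zeta k p q i₀ j₀ * zeta k p q i j - zeta k p q i j₀ * zeta k p q i₀ j = 0
    rw [mul_comm, zeta_mul_zeta i i₀ j j₀, sub_self]

theorem isAlgebraic_segA (i₀ : Fin p) (j₀ : Fin q) :
    Algebra.IsAlgebraic (Algebra.adjoin k (Set.range (fam k p q i₀ j₀))) (SegA k p q) := by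
  set B := Algebra.adjoin k (Set.range (fam k p q i₀ j₀))
  constructor
  intro a
  obtain ⟨f, rfl⟩ := Ideal.Quotient.mk_surjective a
  induction f using MvPolynomial.induction_on with
  | C c =>
    have : (Ideal.Quotient.mk (RingHom.ker (θ k p q)) (C c) : SegA k p q) =
        algebraMap B (SegA k p q) (algebraMap k B c) := rfl
    rw [this]
    exact isAlgebraic_algebraMap _
  | add f g hf hg =>
    rw [map_add]
    exact hf.add hg
  | mul_X f ij hf =>
    rw [map_mul]
    exact hf.mul (isAlgebraic_zeta i₀ j₀ ij.1 ij.2)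

open Cardinal in
theorem trdeg_segA_le (i₀ : Fin p) (j₀ : Fin q) :
    Algebra.trdeg k (SegA k p q) ≤ ((p + (q - 1) : ℕ) : Cardinal.{u}) := by
  have halg := isAlgebraic_segA (k := k) i₀ j₀
  have h1 := Algebra.IsAlgebraic.trdeg_le_cardinalMk k
    (Set.range (fam k p q i₀ j₀)) (A := SegA k p q) (alg := halg)
  refine h1.trans ?_
  have h2 := Cardinal.mk_range_le_lift (f := fam k p q i₀ j₀)
  have h3 : Cardinal.mk (Idx p q j₀) = ((p + (q - 1) : ℕ) : Cardinal) := by
    rw [Cardinal.mk_fintype, card_idx]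
  rw [h3] at h2
  simpa using h2

theorem ringKrullDim_segA (i₀ : Fin p) (j₀ : Fin q) :
    ringKrullDim (SegA k p q) = ((p + (q - 1) : ℕ) : WithBot ℕ∞) :=
  le_antisymm
    (Groth.Agent.H47TrdegDim.ringKrullDim_le_of_trdeg_le k (SegA k p q) (p + (q - 1))
      (trdeg_segA_le i₀ j₀))
    (le_ringKrullDim_segA i₀ j₀)

end SegA

section Tensor

open TensorProduct Groth.Agent.S18646

variable {k : Type*} [Field k] {R S : Type*} [CommRing R] [CommRing S] [Algebra k R] [Algebra k S]
variable {ι κ : Type*} (x : ι → R) (y : κ → S)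

variable (k) in
/-- generators `x_i ⊗ 1`, `1 ⊗ y_j` -/
def uGen : ι ⊕ κ → R ⊗[k] S :=
  Sum.elim (fun i => x i ⊗ₜ[k] (1 : S)) (fun j => (1 : R) ⊗ₜ[k] y j)

variable (k) in
/-- Segre generators `x_i ⊗ y_j` -/
def wGen : ι × κ → R ⊗[k] S := fun ij => x ij.1 ⊗ₜ[k] y ij.2

theorem includeLeft_mem_adjoin {a : R} (ha : a ∈ Algebra.adjoin k (Set.range x)) :
    a ⊗ₜ[k] (1 : S) ∈ Algebra.adjoin k (Set.range (uGen k x y)) := by
  have h1 : (Algebra.adjoin k (Set.range x)).map
      (Algebra.TensorProduct.includeLeft : R →ₐ[k] R ⊗[k] S) ≤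
      Algebra.adjoin k (Set.range (uGen k x y)) := by
    rw [AlgHom.map_adjoin]
    apply Algebra.adjoin_mono
    rintro _ ⟨_, ⟨i, rfl⟩, rfl⟩
    exact ⟨Sum.inl i, rfl⟩
  exact h1 ⟨a, ha, rfl⟩

theorem includeRight_mem_adjoin {b : S} (hb : b ∈ Algebra.adjoin k (Set.range y)) :
    (1 : R) ⊗ₜ[k] b ∈ Algebra.adjoin k (Set.range (uGen k x y)) := by
  have h1 : (Algebra.adjoin k (Set.range y)).map
      (Algebra.TensorProduct.includeRight : S →ₐ[k] R ⊗[k] S) ≤
      Algebra.adjoin k (Set.range (uGen k x y)) := by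
    rw [AlgHom.map_adjoin]
    apply Algebra.adjoin_mono
    rintro _ ⟨_, ⟨j, rfl⟩, rfl⟩
    exact ⟨Sum.inr j, rfl⟩
  exact h1 ⟨b, hb, rfl⟩

theorem isIntegral_tensor (hx : Algebra.IsIntegral (Algebra.adjoin k (Set.range x)) R)
    (hy : Algebra.IsIntegral (Algebra.adjoin k (Set.range y)) S) :
    Algebra.IsIntegral (Algebra.adjoin k (Set.range (uGen k x y))) (R ⊗[k] S) := by
  constructor
  intro t
  have hl : ∀ a : R, IsIntegral (Algebra.adjoin k (Set.range (uGen k x y))) (a ⊗ₜ[k] (1 : S)) := by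
    intro a
    let φ : Algebra.adjoin k (Set.range x) →ₐ[k] Algebra.adjoin k (Set.range (uGen k x y)) :=
      ((Algebra.TensorProduct.includeLeft : R →ₐ[k] R ⊗[k] S).comp
        (Algebra.adjoin k (Set.range x)).val).codRestrict _
        (fun b => includeLeft_mem_adjoin x y b.2)
    exact IsIntegral.map_of_comp_eq φ.toRingHom
      (Algebra.TensorProduct.includeLeftRingHom : R →+* R ⊗[k] S) (by ext b; rfl)
      (hx.isIntegral a)
  have hr : ∀ b : S, IsIntegral (Algebra.adjoin k (Set.range (uGen k x y))) ((1 : R) ⊗ₜ[k] b) := by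
    intro b
    let φ : Algebra.adjoin k (Set.range y) →ₐ[k] Algebra.adjoin k (Set.range (uGen k x y)) :=
      ((Algebra.TensorProduct.includeRight : S →ₐ[k] R ⊗[k] S).comp
        (Algebra.adjoin k (Set.range y)).val).codRestrict _
        (fun b => includeRight_mem_adjoin x y b.2)
    exact IsIntegral.map_of_comp_eq φ.toRingHom
      ((Algebra.TensorProduct.includeRight : S →ₐ[k] R ⊗[k] S) : S →+* R ⊗[k] S) (by ext b; rfl)
      (hy.isIntegral b)
  induction t using TensorProduct.induction_on with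
  | zero => exact isIntegral_zero
  | add s t hs ht => exact hs.add ht
  | tmul a b =>
    have : a ⊗ₜ[k] b = (a ⊗ₜ[k] (1 : S)) * ((1 : R) ⊗ₜ[k] b) := by
      rw [Algebra.TensorProduct.tmul_mul_tmul, mul_one, one_mul]
    rw [this]
    exact (hl a).mul (hr b)

/-- `x' ⊗ y'` lies in the Segre subalgebra for `x'`, `y'` in the spans of the generators. -/
theorem tmul_mem_adjoin_w_one {a : R} (ha : a ∈ Submodule.span k (Set.range x)) {b : S}
    (hb : b ∈ Submodule.span k (Set.range y)) :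
    a ⊗ₜ[k] b ∈ Algebra.adjoin k (Set.range (wGen k x y)) := by
  induction ha using Submodule.span_induction with
  | mem a ha =>
    obtain ⟨i, rfl⟩ := ha
    induction hb using Submodule.span_induction with
    | mem b hb =>
      obtain ⟨j, rfl⟩ := hb
      exact Algebra.subset_adjoin ⟨(i, j), rfl⟩
    | zero => rw [tmul_zero]; exact zero_mem _
    | add b b' _ _ hb hb' => rw [tmul_add]; exact add_mem hb hb'
    | smul c b _ hb => rw [tmul_smul]; exact Subalgebra.smul_mem _ hb c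
  | zero => rw [zero_tmul]; exact zero_mem _
  | add a a' _ _ ha ha' => rw [add_tmul]; exact add_mem ha ha'
  | smul c a _ ha => rw [← smul_tmul']; exact Subalgebra.smul_mem _ ha c

theorem tmul_mem_adjoin_w (n : ℕ) : ∀ {a : R}, a ∈ Submodule.span k (Set.range x) ^ n → ∀ {b : S},
    b ∈ Submodule.span k (Set.range y) ^ n →
    a ⊗ₜ[k] b ∈ Algebra.adjoin k (Set.range (wGen k x y)) := by
  induction n with
  | zero =>
    intro a ha b hb
    rw [pow_zero, Submodule.mem_one] at ha hb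
    obtain ⟨c, rfl⟩ := ha
    obtain ⟨c', rfl⟩ := hb
    rw [Algebra.algebraMap_eq_smul_one, Algebra.algebraMap_eq_smul_one, ← smul_tmul', tmul_smul]
    exact Subalgebra.smul_mem _ (Subalgebra.smul_mem _ (one_mem _) c') c
  | succ n IH =>
    intro a ha b hb
    rw [pow_succ] at ha hb
    refine Submodule.mul_induction_on
      (C := fun a => a ⊗ₜ[k] b ∈ Algebra.adjoin k (Set.range (wGen k x y))) ha ?_ ?_
    · intro a' ha' x' hx'
      refine Submodule.mul_induction_on
        (C := fun b => (a' * x') ⊗ₜ[k] b ∈ Algebra.adjoin k (Set.range (wGen k x y))) hb ?_ ?_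
      · intro b' hb' y' hy'
        have : (a' * x') ⊗ₜ[k] (b' * y') = (a' ⊗ₜ[k] b') * (x' ⊗ₜ[k] y') := by
          rw [Algebra.TensorProduct.tmul_mul_tmul]
        rw [this]
        exact mul_mem (IH ha' hb') (tmul_mem_adjoin_w_one x y hx' hy')
      · intro b b' hb hb'
        simp only [tmul_add]
        exact add_mem hb hb'
    · intro a a' ha ha'
      simp only [add_tmul]
      exact add_mem ha ha'

end Tensor

section Graded

open TensorProduct Groth.Agent.S18646 DirectSum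

variable {k : Type*} [Field k] {R S : Type*} [CommRing R] [CommRing S] [Algebra k R] [Algebra k S]
variable (𝒜 : ℤ → Submodule k R) [GradedAlgebra 𝒜] (ℬ : ℤ → Submodule k S) [GradedAlgebra ℬ]
variable {ι κ : Type*} (x : ι → R) (y : κ → S)

theorem pow_le_graded {D : ℤ} (hx : ∀ i, x i ∈ 𝒜 D) (n : ℕ) :
    Submodule.span k (Set.range x) ^ n ≤ 𝒜 ((n : ℤ) * D) := by
  induction n with
  | zero =>
    rw [pow_zero, Submodule.one_le, Nat.cast_zero, zero_mul]
    exact SetLike.GradedOne.one_mem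
  | succ n IH =>
    rw [pow_succ, Submodule.mul_le]
    intro a ha b hb
    have hb' : b ∈ 𝒜 D := by
      have : Submodule.span k (Set.range x) ≤ 𝒜 D := by
        rw [Submodule.span_le]
        rintro _ ⟨i, rfl⟩
        exact hx i
      exact this hb
    have := SetLike.GradedMul.mul_mem (IH ha) hb'
    rwa [show ((n : ℤ) * D + D) = ((n + 1 : ℕ) : ℤ) * D by push_cast; ring] at this

/-- The diagonal projection of `k[x ⊗ 1, 1 ⊗ y]` lands in `k[x_i ⊗ y_j]`. -/
theorem diagProj_mem_adjoin {D : ℤ} (hD : 0 < D) (hx : ∀ i, x i ∈ 𝒜 D) (hy : ∀ j, y j ∈ ℬ D)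
    {b : R ⊗[k] S} (hb : b ∈ Algebra.adjoin k (Set.range (uGen k x y))) :
    diagProj 𝒜 ℬ b ∈ Algebra.adjoin k (Set.range (wGen k x y)) := by
  replace hb : b ∈ Submodule.span k
      (Submonoid.closure (Set.range (uGen k x y)) : Set (R ⊗[k] S)) := by
    rw [← Algebra.adjoin_eq_span]; exact hb
  induction hb using Submodule.span_induction with
  | mem b hb =>
    have key : ∃ (m n : ℕ) (a : R) (b' : S), a ∈ Submodule.span k (Set.range x) ^ m ∧
        b' ∈ Submodule.span k (Set.range y) ^ n ∧ b = a ⊗ₜ[k] b' := by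
      induction hb using Submonoid.closure_induction with
      | mem b hb =>
        obtain ⟨ij, rfl⟩ := hb
        rcases ij with i | j
        · refine ⟨1, 0, x i, 1, ?_, ?_, rfl⟩
          · rw [pow_one]; exact Submodule.subset_span ⟨i, rfl⟩
          · rw [pow_zero]; exact Submodule.one_le.mp le_rfl
        · refine ⟨0, 1, 1, y j, ?_, ?_, rfl⟩
          · rw [pow_zero]; exact Submodule.one_le.mp le_rfl
          · rw [pow_one]; exact Submodule.subset_span ⟨j, rfl⟩
      | one =>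
        refine ⟨0, 0, 1, 1, ?_, ?_, rfl⟩
        · rw [pow_zero]; exact Submodule.one_le.mp le_rfl
        · rw [pow_zero]; exact Submodule.one_le.mp le_rfl
      | mul b b' _ _ hb hb' =>
        obtain ⟨m, n, a, c, ha, hc, rfl⟩ := hb
        obtain ⟨m', n', a', c', ha', hc', rfl⟩ := hb'
        refine ⟨m + m', n + n', a * a', c * c', ?_, ?_, ?_⟩
        · rw [pow_add]; exact Submodule.mul_mem_mul ha ha'
        · rw [pow_add]; exact Submodule.mul_mem_mul hc hc'
        · rw [Algebra.TensorProduct.tmul_mul_tmul]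
    obtain ⟨m, n, a, b', ha, hb', rfl⟩ := key
    rw [diagProj_tmul 𝒜 ℬ (pow_le_graded 𝒜 x hx m ha) (pow_le_graded ℬ y hy n hb')]
    split_ifs with h
    · have hmn : m = n := by
        have := mul_right_cancel₀ (ne_of_gt hD) h
        exact_mod_cast this
      subst hmn
      exact tmul_mem_adjoin_w x y m ha hb'
    · exact zero_mem _
  | zero => rw [map_zero]; exact zero_mem _
  | add b b' _ _ hb hb' => rw [map_add]; exact add_mem hb hb'
  | smul c b _ hb => rw [map_smul]; exact Subalgebra.smul_mem _ hb c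

variable {T : Type*} [CommRing T] [Algebra k T] (𝒯 : ℤ → Submodule k T) [GradedAlgebra 𝒯]
  (ψ : T →ₐ[k] R ⊗[k] S)
  (hdegT : ∀ n : ℤ, (𝒯 n).map ψ.toLinearMap =
    Submodule.span k {x : R ⊗[k] S | ∃ a ∈ 𝒜 n, ∃ b ∈ ℬ n, x = a ⊗ₜ[k] b})
include hdegT

theorem exists_preimage_of_mem_diag {y : R ⊗[k] S} (hy : y ∈ diag 𝒜 ℬ) : ∃ t : T, ψ t = y := by
  induction hy using Submodule.span_induction with
  | mem y hy =>
    obtain ⟨n, a, b, ha, hb, rfl⟩ := hy
    have : a ⊗ₜ[k] b ∈ (𝒯 n).map ψ.toLinearMap := by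
      rw [hdegT n]
      exact Submodule.subset_span ⟨a, ha, b, hb, rfl⟩
    obtain ⟨t, -, ht⟩ := this
    exact ⟨t, ht⟩
  | zero => exact ⟨0, map_zero _⟩
  | add x y _ _ hx hy =>
    obtain ⟨t, rfl⟩ := hx
    obtain ⟨t', rfl⟩ := hy
    exact ⟨t + t', map_add _ _ _⟩
  | smul c x _ hx =>
    obtain ⟨t, rfl⟩ := hx
    exact ⟨c • t, map_smul _ _ _⟩

theorem map_mem_diag (t : T) : ψ t ∈ diag 𝒜 ℬ := by
  induction t using DirectSum.Decomposition.inductionOn 𝒯 with
  | zero => rw [map_zero]; exact zero_mem _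
  | add t t' ht ht' => rw [map_add]; exact add_mem ht ht'
  | homogeneous t =>
    rename_i n
    have : ψ t ∈ (𝒯 n).map ψ.toLinearMap := ⟨t, t.2, rfl⟩
    rw [hdegT n] at this
    refine Submodule.span_mono ?_ this
    rintro x ⟨a, ha, b, hb, rfl⟩
    exact ⟨n, a, b, ha, hb, rfl⟩

/-- `T = R # S` is integral over the subalgebra generated by preimages of the `x_i ⊗ y_j`. -/
theorem isIntegral_of_segre (hψ : Function.Injective ψ) {D : ℤ} (hD : 0 < D)
    (hx : ∀ i, x i ∈ 𝒜 D) (hy : ∀ j, y j ∈ ℬ D)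
    (z : ι × κ → T) (hz : ∀ ij, ψ (z ij) = wGen k x y ij)
    (hA : Algebra.IsIntegral (Algebra.adjoin k (Set.range (uGen k x y))) (R ⊗[k] S)) :
    Algebra.IsIntegral (Algebra.adjoin k (Set.range z)) T := by
  constructor
  intro t
  have hCmap : (Algebra.adjoin k (Set.range z)).map ψ =
      Algebra.adjoin k (Set.range (wGen k x y)) := by
    rw [AlgHom.map_adjoin]
    congr 1
    ext v
    constructor
    · rintro ⟨_, ⟨ij, rfl⟩, rfl⟩
      exact ⟨ij, (hz ij).symm⟩
    · rintro ⟨ij, rfl⟩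
      exact ⟨z ij, ⟨ij, rfl⟩, hz ij⟩
  have hlift : ∀ b ∈ Algebra.adjoin k (Set.range (uGen k x y)),
      ∃ c : Algebra.adjoin k (Set.range z), ψ c = diagProj 𝒜 ℬ b := by
    intro b hb
    have := diagProj_mem_adjoin 𝒜 ℬ x y hD hx hy hb
    rw [← hCmap] at this
    obtain ⟨c, hc, hcb⟩ := this
    exact ⟨⟨c, hc⟩, hcb⟩
  obtain ⟨p, hpm, hp⟩ := hA.isIntegral (ψ t)
  choose c hc using fun i : ℕ => hlift (p.coeff i : R ⊗[k] S) (p.coeff i).2
  have h1 : (ψ t) ^ p.natDegree + ∑ i ∈ Finset.range p.natDegree,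
      ((p.coeff i : Algebra.adjoin k (Set.range (uGen k x y))) : R ⊗[k] S) * (ψ t) ^ i = 0 := by
    rw [Polynomial.eval₂_eq_sum_range, Finset.sum_range_succ, hpm.coeff_natDegree, map_one,
      one_mul, add_comm] at hp
    exact hp
  have hpow : ∀ i : ℕ, (ψ t) ^ i ∈ diag 𝒜 ℬ := fun i => by
    rw [← map_pow]; exact map_mem_diag 𝒜 ℬ 𝒯 ψ hdegT _
  have h2 := congrArg (diagProj 𝒜 ℬ) h1
  rw [map_add, map_sum, map_zero, diagProj_of_mem 𝒜 ℬ (hpow _)] at h2
  have h3 : ∀ i : ℕ, diagProj 𝒜 ℬ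
      (((p.coeff i : Algebra.adjoin k (Set.range (uGen k x y))) : R ⊗[k] S) * (ψ t) ^ i) =
      ψ ((c i : T) * t ^ i) := by
    intro i
    rw [mul_comm, diagProj_mul 𝒜 ℬ (hpow i), ← hc i, map_mul, map_pow, mul_comm]
  simp only [h3] at h2
  have h4 : ψ (t ^ p.natDegree + ∑ i ∈ Finset.range p.natDegree, (c i : T) * t ^ i) = 0 := by
    rw [map_add, map_sum, map_pow]; exact h2
  have h5 : t ^ p.natDegree + ∑ i ∈ Finset.range p.natDegree, (c i : T) * t ^ i = 0 :=
    hψ (by rw [h4, map_zero])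
  refine ⟨Polynomial.X ^ p.natDegree +
    ∑ i : Fin p.natDegree, Polynomial.C (c i) * Polynomial.X ^ (i : ℕ), ?_, ?_⟩
  · exact Polynomial.monic_X_pow_add (Polynomial.degree_sum_fin_lt _)
  · rw [Polynomial.eval₂_add, Polynomial.eval₂_pow, Polynomial.eval₂_X,
      Polynomial.eval₂_finsetSum]
    simp only [Polynomial.eval₂_mul, Polynomial.eval₂_C, Polynomial.eval₂_pow, Polynomial.eval₂_X]
    rw [Fin.sum_univ_eq_sum_range
      (fun i => algebraMap (Algebra.adjoin k (Set.range z)) T (c i) * t ^ i) p.natDegree]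
    exact h5

end Graded

section Kernel

open TensorProduct Groth.Agent.S18646

variable {k : Type u} [Field k] {R S : Type*} [CommRing R] [CommRing S] [Algebra k R] [Algebra k S]
variable {p q : ℕ} (x : Fin p → R) (y : Fin q → S)

theorem aeval_uGen_injective (hx : AlgebraicIndependent k x) (hy : AlgebraicIndependent k y) :
    Function.Injective (aeval (uGen k x y) : MvPolynomial (Fin p ⊕ Fin q) k →ₐ[k] R ⊗[k] S) := by
  have h : (aeval (uGen k x y) : MvPolynomial (Fin p ⊕ Fin q) k →ₐ[k] R ⊗[k] S) =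
      (Algebra.TensorProduct.map (aeval x) (aeval y)).comp
        (tensorEquivSum k (Fin p) (Fin q) k).symm.toAlgHom := by
    apply MvPolynomial.algHom_ext
    intro ij
    rcases ij with i | j
    · have h1 : (tensorEquivSum k (Fin p) (Fin q) k).symm (X (Sum.inl i)) = X i ⊗ₜ 1 := by
        rw [AlgEquiv.symm_apply_eq, tensorEquivSum_X_tmul_one]
      simp [uGen, h1]
    · have h1 : (tensorEquivSum k (Fin p) (Fin q) k).symm (X (Sum.inr j)) = 1 ⊗ₜ X j := by
        rw [AlgEquiv.symm_apply_eq, tensorEquivSum_one_tmul_X]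
      simp [uGen, h1]
  rw [h, AlgHom.coe_comp]
  refine Function.Injective.comp ?_ (AlgEquiv.injective _)
  rw [algebraicIndependent_iff_injective_aeval] at hx hy
  have h2 : ⇑(Algebra.TensorProduct.map (aeval x : MvPolynomial (Fin p) k →ₐ[k] R)
      (aeval y : MvPolynomial (Fin q) k →ₐ[k] S)) =
      ⇑(TensorProduct.map (aeval x : MvPolynomial (Fin p) k →ₐ[k] R).toLinearMap
        (aeval y : MvPolynomial (Fin q) k →ₐ[k] S).toLinearMap) := rfl
  rw [h2]
  exact TensorProduct.map_injective_of_flat_flat _ _ hx hy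

variable {T : Type*} [CommRing T] [Algebra k T] (ψ : T →ₐ[k] R ⊗[k] S)

theorem ker_aeval_z (hψ : Function.Injective ψ) (z : Fin p × Fin q → T)
    (hz : ∀ ij, ψ (z ij) = wGen k x y ij)
    (hx : AlgebraicIndependent k x) (hy : AlgebraicIndependent k y) :
    RingHom.ker (aeval z : MvPolynomial (Fin p × Fin q) k →ₐ[k] T) = RingHom.ker (θ k p q) := by
  have hcomp : ψ.comp (aeval z) = (aeval (uGen k x y)).comp (θ k p q) := by
    apply MvPolynomial.algHom_ext
    rintro ⟨i, j⟩
    simp [hz, wGen, uGen, θ_X]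
  ext f
  rw [RingHom.mem_ker, RingHom.mem_ker]
  have h := DFunLike.congr_fun hcomp f
  simp only [AlgHom.comp_apply] at h
  constructor
  · intro hf
    rw [hf, map_zero] at h
    exact aeval_uGen_injective x y hx hy (by rw [← h, map_zero])
  · intro hf
    rw [hf, map_zero] at h
    exact hψ (by rw [h, map_zero])

end Kernel

section Main

open TensorProduct Groth.Agent.S18646

variable {k : Type u} [Field k] {R S : Type*} [CommRing R] [CommRing S] [Algebra k R] [Algebra k S]
variable (𝒜 : ℤ → Submodule k R) [GradedAlgebra 𝒜] (ℬ : ℤ → Submodule k S) [GradedAlgebra ℬ]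
variable {T : Type*} [CommRing T] [Algebra k T] (𝒯 : ℤ → Submodule k T) [GradedAlgebra 𝒯]
  (ψ : T →ₐ[k] R ⊗[k] S)

/-- Dimension of a Segre product given algebraically independent homogeneous systems of
parameters of the same degree in both factors. -/
theorem ringKrullDim_segre_of_hsop (hψ : Function.Injective ψ)
    (hdegT : ∀ n : ℤ, (𝒯 n).map ψ.toLinearMap =
      Submodule.span k {x : R ⊗[k] S | ∃ a ∈ 𝒜 n, ∃ b ∈ ℬ n, x = a ⊗ₜ[k] b})
    {p q : ℕ} (hp : 0 < p) (hq : 0 < q) (x : Fin p → R) (y : Fin q → S)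
    {D : ℤ} (hD : 0 < D) (hx : ∀ i, x i ∈ 𝒜 D) (hy : ∀ j, y j ∈ ℬ D)
    (hxi : AlgebraicIndependent k x) (hyi : AlgebraicIndependent k y)
    (hxint : Algebra.IsIntegral (Algebra.adjoin k (Set.range x)) R)
    (hyint : Algebra.IsIntegral (Algebra.adjoin k (Set.range y)) S) :
    ringKrullDim T = ((p + (q - 1) : ℕ) : WithBot ℕ∞) := by
  have hw : ∀ ij : Fin p × Fin q, ∃ t : T, ψ t = wGen k x y ij := fun ij =>
    exists_preimage_of_mem_diag 𝒜 ℬ 𝒯 ψ hdegT
      (Submodule.subset_span ⟨D, x ij.1, y ij.2, hx ij.1, hy ij.2, rfl⟩)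
  choose z hz using hw
  have hA := isIntegral_tensor x y hxint hyint
  have hT := isIntegral_of_segre 𝒜 ℬ x y 𝒯 ψ hdegT hψ hD hx hy z hz hA
  rw [← Groth.Agent.Lib.FTDim.ringKrullDim_eq_of_isIntegral_of_injective
    (R := Algebra.adjoin k (Set.range z)) (S := T) Subtype.val_injective]
  rw [Algebra.adjoin_range_eq_range_aeval,
    ← ringKrullDim_eq_of_ringEquiv (Ideal.quotientKerEquivRange
      (aeval z : MvPolynomial (Fin p × Fin q) k →ₐ[k] T)).toRingEquiv,
    ker_aeval_z x y ψ hψ z hz hxi hyi]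
  exact ringKrullDim_segA (k := k) (⟨0, hp⟩ : Fin p) (⟨0, hq⟩ : Fin q)

end Main

end Groth.Agent.Lib.SegreDim20
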