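/-
helper20: dimension of the Segre product `M # N` of graded Cohen–Macaulay modules.
-/
import Mathlib
import Groth.Agent.Lib.SegreDim20
import Groth.Agent.Lib.GrCMTorsion20
import Groth.Agent.Lib.H2SegreMod2
import Groth.Agent.S19747

set_option autoImplicit false
set_option linter.unusedSectionVars false
set_option linter.style.haveILetI false

universe u

namespace Groth.Agent.Lib.SegreModDim20

open TensorProduct DirectSum Groth.Agent Groth.Agent.Lib.H2SegreMod Groth.Agent.Lib.SegreDim20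
open Groth.Agent.Lib.GrNoether20 Groth.Agent.Lib.GrNoetherMod20 Groth.Agent.Lib.GrCMTorsion20

section ActInj

variable {k : Type u} [Field k] {R S : Type u} [CommRing R] [CommRing S] [Algebra k R] [Algebra k S]
  {M N : Type u} [AddCommGroup M] [Module R M] [Module k M] [IsScalarTower k R M]
  [AddCommGroup N] [Module S N] [Module k N] [IsScalarTower k S N]

/-- `b ↦ b • m` on a subalgebra, as a `k`-linear map -/
noncomputable def smulRight (A : Subalgebra k R) (m : M) : A →ₗ[k] M :=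
  ((LinearMap.toSpanSingleton R M m).restrictScalars k).comp A.val.toLinearMap

@[simp] theorem smulRight_apply (A : Subalgebra k R) (m : M) (a : A) :
    smulRight A m a = (a : R) • m := rfl

theorem act_map_tmul (A : Subalgebra k R) (B : Subalgebra k S) (m : M) (n : N) (G : A ⊗[k] B) :
    GrSeg.act k R S M N (Algebra.TensorProduct.map A.val B.val G) (m ⊗ₜ[k] n) =
      TensorProduct.map (smulRight A m) (smulRight B n) G := by
  induction G using TensorProduct.induction_on with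
  | zero => simp
  | tmul a b => simp [GrSeg.act_tmul]
  | add G G' hG hG' => rw [map_add, map_add, LinearMap.add_apply, hG, hG', map_add]

theorem eq_zero_of_act_eq_zero (A : Subalgebra k R) (B : Subalgebra k S) {m : M} {n : N}
    (hm : Function.Injective (smulRight A m)) (hn : Function.Injective (smulRight B n))
    {t : R ⊗[k] S} (ht : t ∈ (Algebra.TensorProduct.map A.val B.val).range)
    (h : GrSeg.act k R S M N t (m ⊗ₜ[k] n) = 0) : t = 0 := by
  obtain ⟨G, rfl⟩ := ht
  change GrSeg.act k R S M N (Algebra.TensorProduct.map A.val B.val G) (m ⊗ₜ[k] n) = 0 at h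
  change Algebra.TensorProduct.map A.val B.val G = 0
  rw [act_map_tmul] at h
  have h1 := TensorProduct.map_injective_of_flat_flat _ _ hm hn
  rw [h1 (h.trans (map_zero _).symm), map_zero]

variable {T : Type u} [CommRing T] [Algebra k T] (ψ : T →ₐ[k] R ⊗[k] S)
variable {ι κ : Type*} (x : ι → R) (y : κ → S)

theorem psi_mem_range (z : ι × κ → T) (hz : ∀ ij, ψ (z ij) = wGen k x y ij) {c : T}
    (hc : c ∈ Algebra.adjoin k (Set.range z)) :
    ψ c ∈ (Algebra.TensorProduct.map (Algebra.adjoin k (Set.range x)).val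
      (Algebra.adjoin k (Set.range y)).val).range := by
  have h1 : (Algebra.adjoin k (Set.range z)).map ψ ≤
      (Algebra.TensorProduct.map (Algebra.adjoin k (Set.range x)).val
        (Algebra.adjoin k (Set.range y)).val).range := by
    rw [AlgHom.map_adjoin]
    apply Algebra.adjoin_le
    rintro _ ⟨_, ⟨ij, rfl⟩, rfl⟩
    rw [hz]
    refine ⟨(⟨x ij.1, Algebra.subset_adjoin ⟨_, rfl⟩⟩ : Algebra.adjoin k (Set.range x)) ⊗ₜ[k]
      (⟨y ij.2, Algebra.subset_adjoin ⟨_, rfl⟩⟩ : Algebra.adjoin k (Set.range y)), ?_⟩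
    simp [wGen]
  exact h1 ⟨c, hc, rfl⟩

end ActInj

section Fin

variable {k : Type u} [Field k] {R S : Type u} [CommRing R] [CommRing S] [Algebra k R] [Algebra k S]
  {M N : Type u} [AddCommGroup M] [Module R M] [Module k M] [IsScalarTower k R M]
  [AddCommGroup N] [Module S N] [Module k N] [IsScalarTower k S N]
variable {ι κ : Type*} (x : ι → R) (y : κ → S)

/-- `M ⊗ N` is finite over `k[x ⊗ 1, 1 ⊗ y]` if `M` is finite over `k[x]` and `N` over `k[y]`. -/
theorem finite_adjoin_uGen [Module.Finite (Algebra.adjoin k (Set.range x)) M]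
    [Module.Finite (Algebra.adjoin k (Set.range y)) N] :
    letI := actModule k R S M N
    Module.Finite (Algebra.adjoin k (Set.range (uGen k x y))) (M ⊗[k] N) := by
  letI := actModule k R S M N
  obtain ⟨sM, hsM⟩ := (Module.finite_def (R := Algebra.adjoin k (Set.range x)) (M := M)).1
    inferInstance
  obtain ⟨sN, hsN⟩ := (Module.finite_def (R := Algebra.adjoin k (Set.range y)) (M := N)).1
    inferInstance
  classical
  refine ⟨⟨Finset.image₂ (fun m n => m ⊗ₜ[k] n) sM sN, ?_⟩⟩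
  rw [eq_top_iff]
  rintro z -
  induction z using TensorProduct.induction_on with
  | zero => exact zero_mem _
  | add z z' hz hz' => exact add_mem hz hz'
  | tmul m n =>
    have hm : m ∈ Submodule.span (Algebra.adjoin k (Set.range x)) (sM : Set M) := by
      rw [hsM]; trivial
    have hn : n ∈ Submodule.span (Algebra.adjoin k (Set.range y)) (sN : Set N) := by
      rw [hsN]; trivial
    induction hm using Submodule.span_induction with
    | mem m hm =>
      induction hn using Submodule.span_induction with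
      | mem n hn =>
        apply Submodule.subset_span
        rw [Finset.coe_image₂]
        exact ⟨m, hm, n, hn, rfl⟩
      | zero => rw [tmul_zero]; exact zero_mem _
      | add n n' _ _ hn hn' => rw [tmul_add]; exact add_mem hn hn'
      | smul s n _ hn =>
        have h1 : m ⊗ₜ[k] (s • n) =
            (⟨(1 : R) ⊗ₜ[k] (s : S), includeRight_mem_adjoin x y s.2⟩ :
              Algebra.adjoin k (Set.range (uGen k x y))) • (m ⊗ₜ[k] n) := by
          show _ = GrSeg.act k R S M N ((1 : R) ⊗ₜ[k] (s : S)) (m ⊗ₜ[k] n)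
          rw [GrSeg.act_tmul, one_smul]
          rfl
        rw [h1]
        exact Submodule.smul_mem _ _ hn
    | zero => rw [zero_tmul]; exact zero_mem _
    | add m m' _ _ hm hm' => rw [add_tmul]; exact add_mem hm hm'
    | smul a m _ hm =>
      have h1 : (a • m) ⊗ₜ[k] n =
          (⟨(a : R) ⊗ₜ[k] (1 : S), includeLeft_mem_adjoin x y a.2⟩ :
            Algebra.adjoin k (Set.range (uGen k x y))) • (m ⊗ₜ[k] n) := by
        show _ = GrSeg.act k R S M N ((a : R) ⊗ₜ[k] (1 : S)) (m ⊗ₜ[k] n)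
        rw [GrSeg.act_tmul, one_smul]
        rfl
      rw [h1]
      exact Submodule.smul_mem _ _ hm

/-- every element of `R ⊗ S` satisfies a monic polynomial over `k[x ⊗ 1, 1 ⊗ y]` whose value
kills `M ⊗ N` -/
theorem exists_monic_act_eq_zero [Module.Finite (Algebra.adjoin k (Set.range x)) M]
    [Module.Finite (Algebra.adjoin k (Set.range y)) N] (τ : R ⊗[k] S) :
    ∃ p : Polynomial (Algebra.adjoin k (Set.range (uGen k x y))), p.Monic ∧
      ∀ e : M ⊗[k] N, GrSeg.act k R S M N (Polynomial.aeval τ p) e = 0 := by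
  letI := actModule k R S M N
  haveI := finite_adjoin_uGen (k := k) (M := M) (N := N) x y
  have h1 := Groth.Agent.Lib.H8Fin.isIntegral_quotient_annihilator
    (Algebra.adjoin k (Set.range (uGen k x y))) (R ⊗[k] S) (M ⊗[k] N)
  obtain ⟨p, hp, hp0⟩ := h1.isIntegral (Ideal.Quotient.mk _ τ)
  refine ⟨p, hp, fun e => ?_⟩
  have h2 : Ideal.Quotient.mk (Module.annihilator (R ⊗[k] S) (M ⊗[k] N))
      (Polynomial.aeval τ p) = 0 := by
    rw [← hp0, Polynomial.aeval_def, Polynomial.hom_eval₂]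
    rfl
  rw [Ideal.Quotient.eq_zero_iff_mem, Module.mem_annihilator] at h2
  exact h2 e

end Fin

section Integral

variable {k : Type u} [Field k] {R : Type u} [CommRing R] [Algebra k R] {𝒜 : ℤ → Submodule k R}
  [GradedAlgebra 𝒜]
  {S : Type u} [CommRing S] [Algebra k S] {ℬ : ℤ → Submodule k S} [GradedAlgebra ℬ]
  {T : Type u} [CommRing T] [Algebra k T] {𝒯 : ℤ → Submodule k T} [GradedAlgebra 𝒯]
  {ψ : T →ₐ[k] R ⊗[k] S}
  {M : Type u} [AddCommGroup M] [Module R M] [Module k M] [IsScalarTower k R M]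
  {ℳ : ℤ → AddSubgroup M} [DirectSum.Decomposition ℳ] [SetLike.GradedSMul 𝒜 ℳ]
  {N : Type u} [AddCommGroup N] [Module S N] [Module k N] [IsScalarTower k S N]
  {𝒩 : ℤ → AddSubgroup N} [DirectSum.Decomposition 𝒩] [SetLike.GradedSMul ℬ 𝒩]
  {P : Type u} [AddCommGroup P] [Module T P] [Module k P] [IsScalarTower k T P]
  {𝒬 : ℤ → AddSubgroup P} [DirectSum.Decomposition 𝒬] {φ : P →ₗ[k] M ⊗[k] N}

variable (𝒜 ℳ ℬ 𝒩) in
/-- the diagonal projection is semilinear w.r.t. the ring-level diagonal projection on the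
diagonal part -/
theorem diagProj_act_of_mem_diag (c : R ⊗[k] S) {e : M ⊗[k] N} (he : e ∈ diag (k := k) ℳ 𝒩) :
    diagProj 𝒜 ℳ ℬ 𝒩 (GrSeg.act k R S M N c e) =
      GrSeg.act k R S M N (S18646.diagProj 𝒜 ℬ c) e := by
  induction c using S18646.hom_induction 𝒜 ℬ with
  | h0 => simp
  | hadd c c' hc hc' =>
    rw [map_add, LinearMap.add_apply, map_add, hc, hc', map_add, map_add, LinearMap.add_apply]
  | hmul i j a b ha hb =>
    rw [diagProj_act 𝒜 ℳ ℬ 𝒩 he ha hb, S18646.diagProj_tmul 𝒜 ℬ ha hb]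
    split_ifs
    · rfl
    · simp

variable (𝒜 ℬ) in
/-- if `τ ∈ R ⊗ S` kills `M ⊗ N` and `ψ t'` is the diagonal projection of `τ`, then `t'` kills
`M # N` -/
theorem smul_eq_zero_of_diagProj_eq (hP : GrSeg.IsSegreMod ψ ℳ 𝒩 𝒬 φ) {τp : R ⊗[k] S}
    (hp : ∀ e : M ⊗[k] N, GrSeg.act k R S M N τp e = 0) {t' : T}
    (h4 : S18646.diagProj 𝒜 ℬ τp = ψ t') (pp : P) : t' • pp = 0 := by
  have he : φ pp ∈ diag (k := k) ℳ 𝒩 := phi_mem_diag hP pp
  have h6 := diagProj_act_of_mem_diag 𝒜 ℬ ℳ 𝒩 τp he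
  rw [hp, map_zero, h4] at h6
  apply hP.injective
  rw [hP.map_smul, map_zero]
  exact h6.symm

/-- `T / ann_T(M # N)` is integral over the subalgebra generated by preimages of the
`x_i ⊗ y_j`. -/
theorem exists_monic_smul_eq_zero (hT : GrSeg.IsSegreRing 𝒜 ℬ 𝒯 ψ)
    (hP : GrSeg.IsSegreMod ψ ℳ 𝒩 𝒬 φ) {ι κ : Type*} (x : ι → R) (y : κ → S) {D : ℤ} (hD : 0 < D)
    (hx : ∀ i, x i ∈ 𝒜 D) (hy : ∀ j, y j ∈ ℬ D)
    [Module.Finite (Algebra.adjoin k (Set.range x)) M]
    [Module.Finite (Algebra.adjoin k (Set.range y)) N]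
    (z : ι × κ → T) (hz : ∀ ij, ψ (z ij) = wGen k x y ij) (t : T) :
    ∃ q : Polynomial (Algebra.adjoin k (Set.range z)), q.Monic ∧
      ∀ pp : P, (Polynomial.aeval t q) • pp = 0 := by
  have hCmap : (Algebra.adjoin k (Set.range z)).map ψ =
      Algebra.adjoin k (Set.range (wGen k x y)) := by
    rw [AlgHom.map_adjoin]
    congr 1
    ext v
    constructor
    · rintro ⟨_, ⟨ij, rfl⟩, rfl⟩
      exact ⟨ij, (hz ij).symm⟩
    · rintro ⟨ij, rfl⟩
      exact ⟨z ij, ⟨ij, rfl⟩, hz ij⟩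
  have hlift : ∀ b ∈ Algebra.adjoin k (Set.range (uGen k x y)),
      ∃ c : Algebra.adjoin k (Set.range z), ψ c = S18646.diagProj 𝒜 ℬ b := by
    intro b hb
    have := diagProj_mem_adjoin 𝒜 ℬ x y hD hx hy hb
    rw [← hCmap] at this
    obtain ⟨c, hc, hcb⟩ := this
    exact ⟨⟨c, hc⟩, hcb⟩
  obtain ⟨p, hpm, hp⟩ := exists_monic_act_eq_zero (k := k) (M := M) (N := N) x y (ψ t)
  choose c hc using fun i : ℕ => hlift (p.coeff i : R ⊗[k] S) (p.coeff i).2
  obtain ⟨τp, hτp⟩ : ∃ τp : R ⊗[k] S, τp = Polynomial.aeval (ψ t) p := ⟨_, rfl⟩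
  rw [← hτp] at hp
  have h1 : τp = (ψ t) ^ p.natDegree + ∑ i ∈ Finset.range p.natDegree,
      ((p.coeff i : Algebra.adjoin k (Set.range (uGen k x y))) : R ⊗[k] S) * (ψ t) ^ i := by
    rw [hτp, Polynomial.aeval_eq_sum_range, Finset.sum_range_succ, hpm.coeff_natDegree, one_smul,
      add_comm]
    rfl
  have hpow : ∀ i : ℕ, (ψ t) ^ i ∈ S18646.diag 𝒜 ℬ := fun i => by
    rw [← map_pow]; exact map_mem_diag 𝒜 ℬ 𝒯 ψ hT.2 _
  have h3 : ∀ i : ℕ, S18646.diagProj 𝒜 ℬ
      (((p.coeff i : Algebra.adjoin k (Set.range (uGen k x y))) : R ⊗[k] S) * (ψ t) ^ i) =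
      ψ ((c i : T) * t ^ i) := by
    intro i
    rw [mul_comm, S18646.diagProj_mul 𝒜 ℬ (hpow i), ← hc i, map_mul, map_pow, mul_comm]
  have h4 : S18646.diagProj 𝒜 ℬ τp =
      ψ (t ^ p.natDegree + ∑ i ∈ Finset.range p.natDegree, (c i : T) * t ^ i) := by
    rw [h1, map_add, map_sum, S18646.diagProj_of_mem 𝒜 ℬ (hpow _), map_add, map_sum, map_pow]
    simp only [h3]
  refine ⟨Polynomial.X ^ p.natDegree +
    ∑ i : Fin p.natDegree, Polynomial.C (c i) * Polynomial.X ^ (i : ℕ), ?_, ?_⟩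
  · exact Polynomial.monic_X_pow_add (Polynomial.degree_sum_fin_lt _)
  · intro pp
    have h5 : Polynomial.aeval t (Polynomial.X ^ p.natDegree +
        ∑ i : Fin p.natDegree, Polynomial.C (c i) * Polynomial.X ^ (i : ℕ)) =
        t ^ p.natDegree + ∑ i ∈ Finset.range p.natDegree, (c i : T) * t ^ i := by
      rw [map_add, map_pow, Polynomial.aeval_X, map_sum]
      simp only [map_mul, Polynomial.aeval_C, map_pow, Polynomial.aeval_X]
      rw [Fin.sum_univ_eq_sum_range
        (fun i => algebraMap (Algebra.adjoin k (Set.range z)) T (c i) * t ^ i) p.natDegree]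
      rfl
    rw [h5]
    exact smul_eq_zero_of_diagProj_eq 𝒜 ℬ hP hp h4 pp

end Integral

section Main

open MvPolynomial in
/-- **Dimension of the Segre product of graded Cohen–Macaulay modules**: `dim (M # N) = r + s - 1`
or `M # N = 0`. -/
theorem supportDim_segreMod (k : Type u) [Field k] (R : Type u) [CommRing R] [Algebra k R]
    (𝒜 : ℤ → Submodule k R) [GradedAlgebra 𝒜] (hposR : ∀ n : ℤ, n < 0 → 𝒜 n = ⊥)
    (h0R : 𝒜 0 = Submodule.span k {(1 : R)}) [Algebra.FiniteType k R]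
    (S : Type u) [CommRing S] [Algebra k S] (ℬ : ℤ → Submodule k S) [GradedAlgebra ℬ]
    (hposS : ∀ n : ℤ, n < 0 → ℬ n = ⊥) (h0S : ℬ 0 = Submodule.span k {(1 : S)})
    [Algebra.FiniteType k S]
    (T : Type u) [CommRing T] [Algebra k T] (𝒯 : ℤ → Submodule k T) [GradedAlgebra 𝒯]
    (ψ : T →ₐ[k] R ⊗[k] S) (hT : GrSeg.IsSegreRing 𝒜 ℬ 𝒯 ψ)
    (M : Type u) [AddCommGroup M] [Module R M] [Module k M] [IsScalarTower k R M]
    (ℳ : ℤ → AddSubgroup M) [DirectSum.Decomposition ℳ] [SetLike.GradedSMul 𝒜 ℳ]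
    [Module.Finite R M]
    (N : Type u) [AddCommGroup N] [Module S N] [Module k N] [IsScalarTower k S N]
    (𝒩 : ℤ → AddSubgroup N) [DirectSum.Decomposition 𝒩] [SetLike.GradedSMul ℬ 𝒩]
    [Module.Finite S N]
    (P : Type u) [AddCommGroup P] [Module T P] [Module k P] [IsScalarTower k T P]
    (𝒬 : ℤ → AddSubgroup P) [DirectSum.Decomposition 𝒬] (φ : P →ₗ[k] M ⊗[k] N)
    (hP : GrSeg.IsSegreMod ψ ℳ 𝒩 𝒬 φ) (r s : ℕ) (h1r : 1 ≤ r) (h1s : 1 ≤ s)
    (hdM : Module.supportDim R M = r) (hdN : Module.supportDim S N = s)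
    (hMcm : ∀ (q : Ideal R) [q.IsPrime], Subsingleton (LocalizedModule q.primeCompl M) ∨
      LocCoh.IsCohenMacaulayModule (Localization.AtPrime q) (LocalizedModule q.primeCompl M))
    (hNcm : ∀ (q : Ideal S) [q.IsPrime], Subsingleton (LocalizedModule q.primeCompl N) ∨
      LocCoh.IsCohenMacaulayModule (Localization.AtPrime q) (LocalizedModule q.primeCompl N)) :
    Module.supportDim T P = ((r + s - 1 : ℕ) : WithBot ℕ∞) ∨ Subsingleton P := by
  classical
  by_cases hPs : Subsingleton P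
  · exact Or.inr hPs
  left
  rw [not_subsingleton_iff_nontrivial] at hPs
  have hMnt : Nontrivial M := by
    rw [← Module.supportDim_ne_bot_iff_nontrivial (R := R), hdM]
    exact WithBot.coe_ne_bot
  have hNnt : Nontrivial N := by
    rw [← Module.supportDim_ne_bot_iff_nontrivial (R := S), hdN]
    exact WithBot.coe_ne_bot
  haveI : Nontrivial R := Module.nontrivial R M
  haveI : Nontrivial S := Module.nontrivial S N
  -- homogeneous systems of parameters of the same degree
  obtain ⟨D₁, hD₁, hx⟩ := exists_hsop_mod 𝒜 hposR h0R ℳ r hdM.le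
  obtain ⟨D₂, hD₂, hy⟩ := exists_hsop_mod ℬ hposS h0S 𝒩 s hdN.le
  obtain ⟨x, hxdeg, hxfin⟩ := hx D₂ hD₂
  obtain ⟨y, hydeg, hyfin⟩ := hy D₁ hD₁
  have hD : (0 : ℤ) < ((D₂ * D₁ : ℕ) : ℤ) := by exact_mod_cast Nat.mul_pos hD₂ hD₁
  have hy' : ∀ j, y j ∈ ℬ ((D₂ * D₁ : ℕ) : ℤ) := by
    intro j
    have := hydeg j
    rwa [mul_comm] at this
  haveI := hxfin
  haveI := hyfin
  have hxi : AlgebraicIndependent k x := algebraicIndependent_of_finite_mod (k := k) (M := M) x hdM
  have hyi : AlgebraicIndependent k y := algebraicIndependent_of_finite_mod (k := k) (M := N) y hdN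
  have hw : ∀ ij : Fin r × Fin s, ∃ t : T, ψ t = wGen k x y ij := fun ij =>
    exists_preimage_of_mem_diag 𝒜 ℬ 𝒯 ψ hT.2
      (Submodule.subset_span ⟨_, x ij.1, y ij.2, hxdeg ij.1, hy' ij.2, rfl⟩)
  choose z hz using hw
  -- a nonzero homogeneous pure tensor
  obtain ⟨n, m, hm, n', hn', hmn⟩ : ∃ n : ℤ, ∃ m ∈ ℳ n, ∃ n' ∈ 𝒩 n, m ⊗ₜ[k] n' ≠ 0 := by
    by_contra hcon
    push Not at hcon
    have hbot : diag (k := k) ℳ 𝒩 ≤ ⊥ := by
      unfold diag
      refine iSup_le (fun n => ?_)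
      unfold GrSeg.segrePiece
      rw [Submodule.span_le]
      rintro _ ⟨a, ha, b, hb, rfl⟩
      rw [hcon n a ha b hb]
      exact zero_mem _
    obtain ⟨pp, hpp⟩ := exists_ne (0 : P)
    apply hpp
    apply hP.injective
    rw [map_zero]
    exact (Submodule.mem_bot k).mp (hbot (phi_mem_diag hP pp))
  have hm0 : m ≠ 0 := fun h => hmn (by rw [h, zero_tmul])
  have hn0 : n' ≠ 0 := fun h => hmn (by rw [h, tmul_zero])
  obtain ⟨p₀, -, hp₀⟩ := exists_of_mem_segrePiece hP (tmul_mem_segrePiece ℳ 𝒩 hm hn')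
  have hinjM : Function.Injective (smulRight (Algebra.adjoin k (Set.range x)) m) := by
    rw [injective_iff_map_eq_zero]
    intro a ha
    by_contra hne
    exact smul_ne_zero_of_isCM 𝒜 hposR h0R ℳ x hdM hMcm a.2
      (fun h => hne (Subtype.ext h)) hm hm0 ha
  have hinjN : Function.Injective (smulRight (Algebra.adjoin k (Set.range y)) n') := by
    rw [injective_iff_map_eq_zero]
    intro a ha
    by_contra hne
    exact smul_ne_zero_of_isCM ℬ hposS h0S 𝒩 y hdN hNcm a.2
      (fun h => hne (Subtype.ext h)) hn' hn0 ha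
  haveI : Module.Finite T P :=
    Groth.Agent.S19747.result k R 𝒜 hposR h0R S ℬ hposS h0S T 𝒯 ψ hT M ℳ N 𝒩 P 𝒬 φ hP
  rw [Module.supportDim_eq_ringKrullDim_quotient_annihilator]
  have hinj : Function.Injective
      (algebraMap (Algebra.adjoin k (Set.range z)) (T ⧸ Module.annihilator T P)) := by
    rw [injective_iff_map_eq_zero]
    intro c hc
    have hc' : (c : T) ∈ Module.annihilator T P := Ideal.Quotient.eq_zero_iff_mem.mp hc
    have h1 : (c : T) • p₀ = 0 := Module.mem_annihilator.mp hc' p₀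
    have h2 : GrSeg.act k R S M N (ψ c) (m ⊗ₜ[k] n') = 0 := by
      rw [← hp₀, ← hP.map_smul, h1, map_zero]
    have h3 := eq_zero_of_act_eq_zero _ _ hinjM hinjN (psi_mem_range ψ x y z hz c.2) h2
    exact Subtype.ext (hT.1 (show ψ (c : T) = ψ (0 : T) by rw [h3, map_zero]))
  haveI hint : Algebra.IsIntegral (Algebra.adjoin k (Set.range z))
      (T ⧸ Module.annihilator T P) := by
    constructor
    intro q
    obtain ⟨t, rfl⟩ := Ideal.Quotient.mk_surjective q
    obtain ⟨qq, hqm, hq0⟩ := exists_monic_smul_eq_zero hT hP x y hD hxdeg hy' z hz t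
    refine ⟨qq, hqm, ?_⟩
    have h1 : Polynomial.eval₂ (algebraMap (Algebra.adjoin k (Set.range z))
        (T ⧸ Module.annihilator T P)) (Ideal.Quotient.mk _ t) qq =
        Ideal.Quotient.mk _ (Polynomial.aeval t qq) := by
      rw [Polynomial.aeval_def, Polynomial.hom_eval₂]
      rfl
    rw [h1, Ideal.Quotient.eq_zero_iff_mem, Module.mem_annihilator]
    exact hq0
  rw [← Groth.Agent.Lib.FTDim.ringKrullDim_eq_of_isIntegral_of_injective
    (R := Algebra.adjoin k (Set.range z)) (S := T ⧸ Module.annihilator T P) hinj]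
  rw [Algebra.adjoin_range_eq_range_aeval,
    ← ringKrullDim_eq_of_ringEquiv (Ideal.quotientKerEquivRange
      (aeval z : MvPolynomial (Fin r × Fin s) k →ₐ[k] T)).toRingEquiv,
    ker_aeval_z x y ψ hT.1 z hz hxi hyi]
  rw [ringKrullDim_segA (k := k) (⟨0, h1r⟩ : Fin r) (⟨0, h1s⟩ : Fin s)]
  congr 1
  omega

end Main

end Groth.Agent.Lib.SegreModDim20
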