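import Groth.Agent.Lib.GrSegU7
import Groth.Agent.Lib.GrCMCrit2
import Groth.Agent.Lib.GrFTNoeth
import Groth.Agent.S18646
import Groth.Agent.S19747
import Groth.Agent.S19754

/-!
# Cohen–Macaulayness of Segre products of graded Cohen–Macaulay modules (helper12)
-/

set_option autoImplicit false
set_option linter.unusedSectionVars false
set_option linter.style.haveILetI false
universe u
open scoped TensorProduct

namespace Groth.Agent.Lib.GrSegCM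

open TensorProduct DirectSum GrLC Groth.Agent.Lib.H2SegreMod Groth.Agent.Lib.GrLCBridge
  Groth.Agent.Lib.GrLCVan Groth.Agent.Lib.GrSegU Groth.Agent.Lib.GrCMCrit
  Groth.Agent.Lib.GrNoether20

section Pre

variable {k : Type u} [Field k] {R : Type u} [CommRing R] [Algebra k R] {𝒜 : ℤ → Submodule k R}
  [GradedAlgebra 𝒜]
  {S : Type u} [CommRing S] [Algebra k S] {ℬ : ℤ → Submodule k S} [GradedAlgebra ℬ]
  {T : Type u} [CommRing T] [Algebra k T] {𝒯 : ℤ → Submodule k T} [GradedAlgebra 𝒯]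
  {ψ : T →ₐ[k] R ⊗[k] S}

theorem segre_piece_eq_bot (hT : GrSeg.IsSegreRing 𝒜 ℬ 𝒯 ψ) (hposR : ∀ n : ℤ, n < 0 → 𝒜 n = ⊥)
    (n : ℤ) (hn : n < 0) : 𝒯 n = ⊥ := by
  rw [eq_bot_iff]
  intro t ht
  have h1 := psi_mem_segrePiece hT ht
  have h2 : GrSeg.segrePiece k 𝒜 ℬ n = ⊥ := by
    unfold GrSeg.segrePiece
    rw [Submodule.span_eq_bot]
    rintro x ⟨a, ha, b, -, rfl⟩
    rw [hposR n hn] at ha
    rw [(Submodule.mem_bot k).1 ha, zero_tmul]
  rw [h2] at h1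
  have h3 : ψ t = ψ 0 := by rw [(Submodule.mem_bot k).1 h1, map_zero]
  rw [Submodule.mem_bot]
  exact hT.1 h3

theorem segre_piece_zero (hT : GrSeg.IsSegreRing 𝒜 ℬ 𝒯 ψ)
    (h0R : 𝒜 0 = Submodule.span k {(1 : R)}) (h0S : ℬ 0 = Submodule.span k {(1 : S)}) :
    𝒯 0 = Submodule.span k {(1 : T)} := by
  apply le_antisymm
  · intro t ht
    have h1 := psi_mem_segrePiece hT ht
    have h2 : GrSeg.segrePiece k 𝒜 ℬ 0 ≤ Submodule.span k {(1 : R ⊗[k] S)} := by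
      unfold GrSeg.segrePiece
      rw [Submodule.span_le]
      rintro x ⟨a, ha, b, hb, rfl⟩
      rw [h0R] at ha
      rw [h0S] at hb
      obtain ⟨c, rfl⟩ := Submodule.mem_span_singleton.1 ha
      obtain ⟨c', rfl⟩ := Submodule.mem_span_singleton.1 hb
      rw [smul_tmul_smul]
      exact Submodule.smul_mem _ _ (Submodule.subset_span rfl)
    obtain ⟨c, hc⟩ := Submodule.mem_span_singleton.1 (h2 h1)
    have h3 : ψ t = ψ (c • (1 : T)) := by rw [map_smul, map_one, hc]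
    rw [hT.1 h3]
    exact Submodule.smul_mem _ _ (Submodule.subset_span rfl)
  · rw [Submodule.span_le]
    rintro x rfl
    exact SetLike.GradedOne.one_mem (A := 𝒯)

end Pre

section Main

variable {k : Type u} [Field k] {R : Type u} [CommRing R] [Algebra k R] {𝒜 : ℤ → Submodule k R}
  [GradedAlgebra 𝒜] (hposR : ∀ n : ℤ, n < 0 → 𝒜 n = ⊥) (h0R : 𝒜 0 = Submodule.span k {(1 : R)})
  [Algebra.FiniteType k R]
  {S : Type u} [CommRing S] [Algebra k S] {ℬ : ℤ → Submodule k S} [GradedAlgebra ℬ]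
  (hposS : ∀ n : ℤ, n < 0 → ℬ n = ⊥) (h0S : ℬ 0 = Submodule.span k {(1 : S)})
  [Algebra.FiniteType k S]
  {T : Type u} [CommRing T] [Algebra k T] {𝒯 : ℤ → Submodule k T} [GradedAlgebra 𝒯]
  {ψ : T →ₐ[k] R ⊗[k] S} (hT : GrSeg.IsSegreRing 𝒜 ℬ 𝒯 ψ)
  (mR : HomogeneousIdeal 𝒜)
  (hmR : mR.toIdeal = Ideal.span (⋃ n ∈ Set.Ioi (0 : ℤ), (𝒜 n : Set R)))
  (mS : HomogeneousIdeal ℬ)
  (hmS : mS.toIdeal = Ideal.span (⋃ n ∈ Set.Ioi (0 : ℤ), (ℬ n : Set S)))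
  {M : Type u} [AddCommGroup M] [Module R M] [Module k M] [IsScalarTower k R M]
  {ℳ : ℤ → AddSubgroup M} [DirectSum.Decomposition ℳ] [SetLike.GradedSMul 𝒜 ℳ]
  [Module.Finite R M]
  {N : Type u} [AddCommGroup N] [Module S N] [Module k N] [IsScalarTower k S N]
  {𝒩 : ℤ → AddSubgroup N} [DirectSum.Decomposition 𝒩] [SetLike.GradedSMul ℬ 𝒩]
  [Module.Finite S N]
  {P : Type u} [AddCommGroup P] [Module T P] [Module k P] [IsScalarTower k T P]
  {𝒬 : ℤ → AddSubgroup P} [DirectSum.Decomposition 𝒬]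
  {φ : P →ₗ[k] M ⊗[k] N} (hP : GrSeg.IsSegreMod ψ ℳ 𝒩 𝒬 φ)

include hposR h0R hposS h0S hT hmR hmS hP in
/-- **Cohen–Macaulayness of `M # N`** for graded Cohen–Macaulay modules `M`, `N` of dimensions
`r, s ≥ 1`: `M # N` is Cohen–Macaulay iff for all `q < r + s - 1` and all `d`,
(`H^q(M)_d = 0` or `N_d = 0`) and (`M_d = 0` or `H^q(N)_d = 0`). -/
theorem isCMAll_segre_iff [Nontrivial P] (r s : ℕ) (h1r : 1 ≤ r) (h1s : 1 ≤ s)
    (hdM : Module.supportDim R M = r) (hdN : Module.supportDim S N = s)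
    (hMcm : IsCMAll R M) (hNcm : IsCMAll S N) :
    IsCMAll T P ↔ ∀ q : ℕ, q + 1 < r + s → ∀ d : ℤ,
      (Van (toSIdeal mR) (GMod.of (asGr 𝒜) M ℳ) q d ∨ 𝒩 d = ⊥) ∧
        (ℳ d = ⊥ ∨ Van (toSIdeal mS) (GMod.of (asGr ℬ) N 𝒩) q d) := by
  haveI : IsNoetherianRing R := Algebra.FiniteType.isNoetherianRing k R
  haveI : IsNoetherianRing S := Algebra.FiniteType.isNoetherianRing k S
  haveI : IsNoetherianRing (R ⊗[k] S) := isNoetherianRing_tensor (k := k) (R := R) (S := S)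
  haveI : IsNoetherianRing T :=
    Groth.Agent.S18646.result k R 𝒜 hposR h0R S ℬ hposS h0S T 𝒯 ψ hT.1 hT.2
  have hposT := segre_piece_eq_bot hT hposR
  have h0T := segre_piece_zero hT h0R h0S
  haveI : Algebra.FiniteType k T :=
    Groth.Agent.Lib.GrFTNoeth.finiteType_of_isNoetherianRing 𝒯 hposT h0T
  haveI : Module.Finite T P :=
    Groth.Agent.S19747.result k R 𝒜 hposR h0R S ℬ hposS h0S T 𝒯 ψ hT M ℳ N 𝒩 P 𝒬 φ hP
  haveI gsm : SetLike.GradedSMul 𝒯 𝒬 := ⟨fun {_ _ _ _} hr hx => smul_mem_piece hT hP hr hx⟩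
  have hntM : Nontrivial M := by
    rw [← Module.supportDim_ne_bot_iff_nontrivial R, hdM]
    exact WithBot.coe_ne_bot
  have hntN : Nontrivial N := by
    rw [← Module.supportDim_ne_bot_iff_nontrivial S, hdN]
    exact WithBot.coe_ne_bot
  have hdimP : Module.supportDim T P = ((r + s - 1 : ℕ) : WithBot ℕ∞) := by
    rcases Groth.Agent.S19754.result k R 𝒜 hposR h0R S ℬ hposS h0S T 𝒯 ψ hT M ℳ N 𝒩 P 𝒬 φ hP
      r s h1r h1s hdM hdN hMcm hNcm with h | h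
    · exact h
    · exact absurd h (not_subsingleton P)
  have hdepM : LocCoh.idealDepth mR.toIdeal M = r :=
    idealDepth_eq_of_isCMAll 𝒜 hposR h0R ℳ mR.toIdeal hmR hMcm hdM
  have hdepN : LocCoh.idealDepth mS.toIdeal N = s :=
    idealDepth_eq_of_isCMAll ℬ hposS h0S 𝒩 mS.toIdeal hmS hNcm hdN
  have hIM : mR.toIdeal • (⊤ : Submodule R M) ≠ ⊤ := by
    rw [hmR, ← irr_eq_span]; exact irr_smul_top_ne_top 𝒜 hposR h0R ℳ
  have hJN : mS.toIdeal • (⊤ : Submodule S N) ≠ ⊤ := by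
    rw [hmS, ← irr_eq_span]; exact irr_smul_top_ne_top ℬ hposS h0S 𝒩
  let mT : HomogeneousIdeal 𝒯 := ⟨irr 𝒯, irr_isHomogeneous 𝒯⟩
  have hmT : mT.toIdeal = Ideal.span (⋃ n ∈ Set.Ioi (0 : ℤ), (𝒯 n : Set T)) := irr_eq_span 𝒯
  let F : StarInjRes (asGr 𝒯) 𝒬 := Groth.Agent.S13215.res (𝒜 := asGr 𝒯) 𝒬
  rw [isCMAll_iff_forall_Hcomp 𝒯 hposT h0T 𝒬 (toSIdeal mT) hmT F hdimP]
  constructor
  · intro h q hq d
    exact (Hcomp_segre_eq_bot_iff hT hP h0R h0S mR hmR mS hmS mT hmT hIM hJN r s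
      (le_of_eq hdepM.symm) (le_of_eq hdepN.symm) F q hq d).1 (h q (by omega) d)
  · intro h q hq d
    exact (Hcomp_segre_eq_bot_iff hT hP h0R h0S mR hmR mS hmS mT hmT hIM hJN r s
      (le_of_eq hdepM.symm) (le_of_eq hdepN.symm) F q (by omega) d).2 (h q (by omega) d)

end Main

section VanCM

variable {k : Type u} [Field k] {R : Type u} [CommRing R] [Algebra k R] {𝒜 : ℤ → Submodule k R}
  [GradedAlgebra 𝒜] (hposR : ∀ n : ℤ, n < 0 → 𝒜 n = ⊥) (h0R : 𝒜 0 = Submodule.span k {(1 : R)})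
  [Algebra.FiniteType k R]
  (mR : HomogeneousIdeal 𝒜)
  (hmR : mR.toIdeal = Ideal.span (⋃ n ∈ Set.Ioi (0 : ℤ), (𝒜 n : Set R)))
  {M : Type u} [AddCommGroup M] [Module R M]
  {ℳ : ℤ → AddSubgroup M} [DirectSum.Decomposition ℳ] [SetLike.GradedSMul 𝒜 ℳ]
  [Module.Finite R M]

omit [Algebra.FiniteType k R] [Module.Finite R M] in
theorem van_iff_Hcomp (EM : StarInjRes 𝒜 ℳ) (q : ℕ) (d : ℤ) :
    Van (toSIdeal mR) (GMod.of (asGr 𝒜) M ℳ) q d ↔ EM.Hcomp mR q d = ⊥ :=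
  (van_iff (toSIdeal mR) (X := GMod.of (asGr 𝒜) M ℳ) (toSRes' 𝒜 ℳ EM)).trans
    (Hcomp_toSRes'_eq_bot_iff 𝒜 ℳ EM mR q d)

include hposR h0R hmR in
/-- The graded local cohomology of a graded Cohen–Macaulay module of dimension `r` vanishes
outside degree `r`. -/
theorem van_of_ne (r : ℕ) (hdM : Module.supportDim R M = r) (hMcm : IsCMAll R M) {q : ℕ}
    (hq : q ≠ r) (d : ℤ) : Van (toSIdeal mR) (GMod.of (asGr 𝒜) M ℳ) q d := by
  haveI : IsNoetherianRing R := Algebra.FiniteType.isNoetherianRing k R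
  have hntM : Nontrivial M := by
    rw [← Module.supportDim_ne_bot_iff_nontrivial R, hdM]
    exact WithBot.coe_ne_bot
  show ∀ E : StarInjRes (asGr 𝒜) ℳ, E.Hcomp (toSIdeal mR) q d = ⊥
  intro E
  rcases lt_or_gt_of_ne hq with hlt | hgt
  · have hdepM : LocCoh.idealDepth (toSIdeal mR).toIdeal M = r :=
      idealDepth_eq_of_isCMAll 𝒜 hposR h0R ℳ mR.toIdeal hmR hMcm hdM
    have hIM : (toSIdeal mR).toIdeal • (⊤ : Submodule R M) ≠ ⊤ := by
      show mR.toIdeal • (⊤ : Submodule R M) ≠ ⊤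
      rw [hmR, ← irr_eq_span]; exact irr_smul_top_ne_top 𝒜 hposR h0R ℳ
    exact (le_idealDepth_iff_forall_Hcomp (toSIdeal mR) E hIM r).1
      (le_of_eq hdepM.symm) q hlt d
  · have : Subsingleton (E.H (toSIdeal mR) q) :=
      Groth.Agent.Lib.H74GrCM.subsingleton_H_of_supportDim_lt (asGr 𝒜) (toSIdeal mR) E q
        (by rw [hdM]; exact_mod_cast hgt)
    exact Submodule.eq_bot_of_subsingleton

end VanCM

section Main2

variable {k : Type u} [Field k] {R : Type u} [CommRing R] [Algebra k R] {𝒜 : ℤ → Submodule k R}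
  [GradedAlgebra 𝒜] (hposR : ∀ n : ℤ, n < 0 → 𝒜 n = ⊥) (h0R : 𝒜 0 = Submodule.span k {(1 : R)})
  [Algebra.FiniteType k R]
  {S : Type u} [CommRing S] [Algebra k S] {ℬ : ℤ → Submodule k S} [GradedAlgebra ℬ]
  (hposS : ∀ n : ℤ, n < 0 → ℬ n = ⊥) (h0S : ℬ 0 = Submodule.span k {(1 : S)})
  [Algebra.FiniteType k S]
  {T : Type u} [CommRing T] [Algebra k T] {𝒯 : ℤ → Submodule k T} [GradedAlgebra 𝒯]
  {ψ : T →ₐ[k] R ⊗[k] S} (hT : GrSeg.IsSegreRing 𝒜 ℬ 𝒯 ψ)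
  (mR : HomogeneousIdeal 𝒜)
  (hmR : mR.toIdeal = Ideal.span (⋃ n ∈ Set.Ioi (0 : ℤ), (𝒜 n : Set R)))
  (mS : HomogeneousIdeal ℬ)
  (hmS : mS.toIdeal = Ideal.span (⋃ n ∈ Set.Ioi (0 : ℤ), (ℬ n : Set S)))
  {M : Type u} [AddCommGroup M] [Module R M] [Module k M] [IsScalarTower k R M]
  {ℳ : ℤ → AddSubgroup M} [DirectSum.Decomposition ℳ] [SetLike.GradedSMul 𝒜 ℳ]
  [Module.Finite R M]
  {N : Type u} [AddCommGroup N] [Module S N] [Module k N] [IsScalarTower k S N]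
  {𝒩 : ℤ → AddSubgroup N} [DirectSum.Decomposition 𝒩] [SetLike.GradedSMul ℬ 𝒩]
  [Module.Finite S N]
  {P : Type u} [AddCommGroup P] [Module T P] [Module k P] [IsScalarTower k T P]
  {𝒬 : ℤ → AddSubgroup P} [DirectSum.Decomposition 𝒬]
  {φ : P →ₗ[k] M ⊗[k] N} (hP : GrSeg.IsSegreMod ψ ℳ 𝒩 𝒬 φ)

include hposR h0R hposS h0S hT hmR hmS hP in
/-- **Cohen–Macaulayness of `M # N`**, final form: `M # N` is Cohen–Macaulay iff
(`r ≥ 2` ⟹ `M # H^s(N) = 0`) and (`s ≥ 2` ⟹ `H^r(M) # N = 0`). -/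
theorem isCMAll_segre_iff' [Nontrivial P] (r s : ℕ) (h1r : 1 ≤ r) (h1s : 1 ≤ s)
    (hdM : Module.supportDim R M = r) (hdN : Module.supportDim S N = s)
    (hMcm : IsCMAll R M) (hNcm : IsCMAll S N)
    (EM : StarInjRes 𝒜 ℳ) (EN : StarInjRes ℬ 𝒩) :
    IsCMAll T P ↔ (2 ≤ r → ∀ d : ℤ, ℳ d = ⊥ ∨ EN.Hcomp mS s d = ⊥) ∧
      (2 ≤ s → ∀ d : ℤ, EM.Hcomp mR r d = ⊥ ∨ 𝒩 d = ⊥) := by
  rw [isCMAll_segre_iff hposR h0R hposS h0S hT mR hmR mS hmS hP r s h1r h1s hdM hdN hMcm hNcm]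
  constructor
  · intro h
    refine ⟨fun h2 d => ?_, fun h2 d => ?_⟩
    · rw [← van_iff_Hcomp mS EN s d]
      exact (h s (by omega) d).2
    · rw [← van_iff_Hcomp mR EM r d]
      exact (h r (by omega) d).1
  · rintro ⟨h1, h2⟩ q hq d
    constructor
    · by_cases hqr : q = r
      · subst hqr
        rw [van_iff_Hcomp mR EM q d]
        exact h2 (by omega) d
      · exact Or.inl (van_of_ne hposR h0R mR hmR r hdM hMcm hqr d)
    · by_cases hqs : q = s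
      · subst hqs
        rw [van_iff_Hcomp mS EN q d]
        exact h1 (by omega) d
      · exact Or.inr (van_of_ne hposS h0S mS hmS s hdN hNcm hqs d)

end Main2

section Res

variable {ι : Type} [AddCommGroup ι] [DecidableEq ι] [Module.Free ℤ ι] [Module.Finite ℤ ι]
variable {R : Type u} [CommRing R] [IsNoetherianRing R] {σ : Type u} [SetLike σ R]
  [AddSubgroupClass σ R] (𝒜 : ι → σ) [GradedRing 𝒜]
variable {M : Type u} [AddCommGroup M] [Module R M] (ℳ : ι → AddSubgroup M)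
  [DirectSum.Decomposition ℳ] [SetLike.GradedSMul 𝒜 ℳ]

/-- `*`injective resolutions exist over gradings by any kind of subobjects. -/
theorem nonempty_starInjRes : Nonempty (StarInjRes 𝒜 ℳ) := by
  let E : StarInjRes (asGr 𝒜) ℳ := Groth.Agent.S13215.res (𝒜 := asGr 𝒜) ℳ
  exact ⟨{
    X := fun n => ofSMod 𝒜 (E.X n)
    d := fun n => E.d n
    ε := E.ε
    d_grHom := E.d_grHom
    ε_grHom := E.ε_grHom
    ε_injective := E.ε_injective
    exact_zero := E.exact_zero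
    exact_succ := E.exact_succ
    starInj := fun n A B f hf hinj g hg =>
      E.starInj n (toSMod 𝒜 A) (toSMod 𝒜 B) f hf hinj g hg }⟩

end Res

end Groth.Agent.Lib.GrSegCM
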