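import Groth.Agent.Lib.GrSegCM
import Groth.Agent.S18647

/-!
# Cohen–Macaulayness of Segre products of graded Cohen–Macaulay rings (helper12)
-/

set_option autoImplicit false
set_option linter.unusedSectionVars false
set_option linter.style.haveILetI false
universe u
open scoped TensorProduct

namespace Groth.Agent.Lib.GrSegCM

open TensorProduct DirectSum GrLC Groth.Agent.Lib.H2SegreMod Groth.Agent.Lib.GrLCBridge
  Groth.Agent.Lib.GrLCVan Groth.Agent.Lib.GrSegU Groth.Agent.Lib.GrCMCrit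
  Groth.Agent.Lib.GrNoether20 Groth.Agent.Lib.H8CM LocCoh

section SelfCM

variable {R : Type u} [CommRing R]

theorem isCMAll_self [IsCohenMacaulayRing R] : IsCMAll R R := by
  intro q hq
  right
  haveI := IsCohenMacaulayRing.isCohenMacaulayLocalRing_localization q
  exact isCM_of_equiv (localizedModuleSelfEquiv q).symm (isCM_self_of_isCMLocalRing)

theorem isCohenMacaulayRing_of_isCMAll [IsNoetherianRing R] (h : IsCMAll R R) :
    IsCohenMacaulayRing R := by
  refine ⟨fun q hq => ?_⟩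
  have hnt : Nontrivial (LocalizedModule q.primeCompl R) :=
    (localizedModuleSelfEquiv q).toEquiv.nontrivial
  have h1 := (h q).resolve_left (not_subsingleton _)
  exact isCMLocalRing_of_isCM_self (isCM_of_equiv (localizedModuleSelfEquiv q) h1)

theorem isCMAll_self_iff [IsNoetherianRing R] : IsCMAll R R ↔ IsCohenMacaulayRing R :=
  ⟨isCohenMacaulayRing_of_isCMAll, fun _ => isCMAll_self⟩

end SelfCM

section AG

variable {ι : Type} [AddCommGroup ι] [DecidableEq ι]
variable {R : Type u} [CommRing R] {σ : Type u} [SetLike σ R] [AddSubgroupClass σ R]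
  {𝒜 : ι → σ} [GradedRing 𝒜]
variable {M : Type u} [AddCommGroup M] [Module R M] {τ : Type u} [SetLike τ M]
  [AddSubgroupClass τ M] {ℳ : ι → τ} [Decomposition ℳ] [SetLike.GradedSMul 𝒜 ℳ]

instance gradedSMul_asGr : SetLike.GradedSMul 𝒜 (asGr ℳ) where
  smul_mem := fun {_ _ _ _} hr hx => SetLike.GradedSMul.smul_mem (A := 𝒜) (B := ℳ) hr hx

/-- The same resolution, with the module graded by additive subgroups. -/
def toAGRes (E : StarInjRes 𝒜 ℳ) : StarInjRes 𝒜 (asGr ℳ) where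
  X := E.X
  d := E.d
  ε := E.ε
  d_grHom := E.d_grHom
  ε_grHom := E.ε_grHom
  ε_injective := E.ε_injective
  exact_zero := E.exact_zero
  exact_succ := E.exact_succ
  starInj := E.starInj

theorem Hcomp_toAGRes (E : StarInjRes 𝒜 ℳ) (a : HomogeneousIdeal 𝒜) (i : ℕ) (g : ι) :
    (toAGRes E).Hcomp a i g = E.Hcomp a i g := rfl

end AG

section Self

variable {k : Type u} [Field k] {R : Type u} [CommRing R] [Algebra k R] {𝒜 : ℤ → Submodule k R}
  [GradedAlgebra 𝒜]
  {S : Type u} [CommRing S] [Algebra k S] {ℬ : ℤ → Submodule k S} [GradedAlgebra ℬ]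
  {T : Type u} [CommRing T] [Algebra k T] {𝒯 : ℤ → Submodule k T} [GradedAlgebra 𝒯]
  {ψ : T →ₐ[k] R ⊗[k] S}

theorem act_self (a b : R ⊗[k] S) : GrSeg.act k R S R S a b = a * b := by
  induction a using TensorProduct.induction_on with
  | zero => rw [map_zero, LinearMap.zero_apply, zero_mul]
  | tmul r s =>
    induction b using TensorProduct.induction_on with
    | zero => rw [map_zero, mul_zero]
    | tmul r' s' =>
      rw [GrSeg.act_tmul, Algebra.TensorProduct.tmul_mul_tmul, smul_eq_mul, smul_eq_mul]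
    | add x y hx hy => rw [map_add, hx, hy, mul_add]
  | add x y hx hy => rw [map_add, LinearMap.add_apply, hx, hy, add_mul]

theorem isSegreMod_self (hT : GrSeg.IsSegreRing 𝒜 ℬ 𝒯 ψ) :
    GrSeg.IsSegreMod ψ (asGr 𝒜) (asGr ℬ) (asGr 𝒯) ψ.toLinearMap where
  injective := hT.1
  image_piece n := by
    have h := congrArg (fun p : Submodule k (R ⊗[k] S) => (p : Set (R ⊗[k] S))) (hT.2 n)
    exact h
  map_smul t p := by
    rw [act_self]
    show ψ (t * p) = ψ t * ψ p
    rw [map_mul]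

end Self

section RingMain

variable {k : Type u} [Field k] {R : Type u} [CommRing R] [Algebra k R] {𝒜 : ℤ → Submodule k R}
  [GradedAlgebra 𝒜] (hposR : ∀ n : ℤ, n < 0 → 𝒜 n = ⊥) (h0R : 𝒜 0 = Submodule.span k {(1 : R)})
  [Algebra.FiniteType k R]
  {S : Type u} [CommRing S] [Algebra k S] {ℬ : ℤ → Submodule k S} [GradedAlgebra ℬ]
  (hposS : ∀ n : ℤ, n < 0 → ℬ n = ⊥) (h0S : ℬ 0 = Submodule.span k {(1 : S)})
  [Algebra.FiniteType k S]
  {T : Type u} [CommRing T] [Algebra k T] {𝒯 : ℤ → Submodule k T} [GradedAlgebra 𝒯]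
  {ψ : T →ₐ[k] R ⊗[k] S} (hT : GrSeg.IsSegreRing 𝒜 ℬ 𝒯 ψ)
  (mR : HomogeneousIdeal 𝒜)
  (hmR : mR.toIdeal = Ideal.span (⋃ n ∈ Set.Ioi (0 : ℤ), (𝒜 n : Set R)))
  (mS : HomogeneousIdeal ℬ)
  (hmS : mS.toIdeal = Ideal.span (⋃ n ∈ Set.Ioi (0 : ℤ), (ℬ n : Set S)))

omit [GradedAlgebra 𝒜] [Algebra.FiniteType k R] in
theorem asGr_eq_bot_iff (n : ℤ) : asGr 𝒜 n = ⊥ ↔ 𝒜 n = ⊥ := by
  rw [AddSubgroup.eq_bot_iff_forall, Submodule.eq_bot_iff]
  exact Iff.rfl

include hposR h0R hposS h0S hT hmR hmS in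
/-- **Cohen–Macaulayness of `R # S`** for graded Cohen–Macaulay rings of dimensions `r, s ≥ 1`. -/
theorem isCMRing_segre_iff [IsCohenMacaulayRing R] [IsCohenMacaulayRing S] (r s : ℕ)
    (hr : ringKrullDim R = r) (hs : ringKrullDim S = s) (h1r : 1 ≤ r) (h1s : 1 ≤ s)
    (I : StarInjRes 𝒜 𝒜) (J : StarInjRes ℬ ℬ) :
    IsCohenMacaulayRing T ↔ (2 ≤ r → ∀ n : ℤ, 𝒜 n = ⊥ ∨ J.Hcomp mS s n = ⊥) ∧
      (2 ≤ s → ∀ n : ℤ, I.Hcomp mR r n = ⊥ ∨ ℬ n = ⊥) := by
  haveI : IsNoetherianRing T :=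
    Groth.Agent.S18646.result k R 𝒜 hposR h0R S ℬ hposS h0S T 𝒯 ψ hT.1 hT.2
  have hdimT := Groth.Agent.S18647.result k R 𝒜 hposR h0R S ℬ hposS h0S T 𝒯 ψ hT.1 hT.2 r s
    hr hs h1r h1s
  haveI : Nontrivial T := by
    by_contra hcon
    rw [not_nontrivial_iff_subsingleton] at hcon
    rw [ringKrullDim_eq_bot_of_subsingleton] at hdimT
    exact WithBot.bot_ne_coe hdimT
  have hdM : Module.supportDim R R = r := by rw [Module.supportDim_self_eq_ringKrullDim, hr]
  have hdN : Module.supportDim S S = s := by rw [Module.supportDim_self_eq_ringKrullDim, hs]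
  have h := isCMAll_segre_iff' hposR h0R hposS h0S hT mR hmR mS hmS (isSegreMod_self hT) r s
    h1r h1s hdM hdN isCMAll_self isCMAll_self (toAGRes I) (toAGRes J)
  rw [← isCMAll_self_iff, h]
  simp only [asGr_eq_bot_iff, Hcomp_toAGRes]
  exact Iff.rfl

end RingMain

section Res'

variable {ι : Type} [AddCommGroup ι] [DecidableEq ι] [Module.Free ℤ ι] [Module.Finite ℤ ι]
variable {R : Type u} [CommRing R] [IsNoetherianRing R] {σ : Type u} [SetLike σ R]
  [AddSubgroupClass σ R] (𝒜 : ι → σ) [GradedRing 𝒜]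
variable {M : Type u} [AddCommGroup M] [Module R M] {τ : Type u} [SetLike τ M]
  [AddSubgroupClass τ M] (ℳ : ι → τ) [Decomposition ℳ] [SetLike.GradedSMul 𝒜 ℳ]

/-- `*`injective resolutions exist, for gradings by any kind of subobjects. -/
theorem nonempty_starInjRes' : Nonempty (StarInjRes 𝒜 ℳ) := by
  obtain ⟨E⟩ := nonempty_starInjRes 𝒜 (asGr ℳ)
  exact ⟨{
    X := E.X
    d := E.d
    ε := E.ε
    d_grHom := E.d_grHom
    ε_grHom := E.ε_grHom
    ε_injective := E.ε_injective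
    exact_zero := E.exact_zero
    exact_succ := E.exact_succ
    starInj := E.starInj }⟩

end Res'

end Groth.Agent.Lib.GrSegCM
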