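import Mathlib
import Groth.Prelude.Def_GrLC
import Groth.Prelude.Def_GrSeg
import Groth.Agent.Lib.GrHilbMod2

/-!
# From graded `k`-algebras (pieces `Submodule k R`) to `GrLC`-style gradings (helper12)

The `GrSegre` rows take graded `k`-algebras `𝒜 : ℤ → Submodule k R` with `𝒜 0 = k·1`, while the
Hilbert-polynomial libraries (`GrHilbMod*`, `HilbDim7`, ...) work with `𝒜 : ℤ → AddSubgroup R`,
`GradedRing 𝒜` and `IsField (deg0 𝒜)`.  This file provides the dictionary: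

* `toAS 𝒜 n = (𝒜 n).toAddSubgroup` with its `GradedRing` instance, `gradedSMul_toAS`;
* `hpos_toAS`, `hstd_toAS`, `isField_deg0_toAS`;
* `pieceK 𝒜 ℳ n : Submodule k M`, the piece `ℳ n` as a `k`-subspace, and
  `length_comp_toNat : (ℓ_{R_0}(M_n)).toNat = finrank_k (M_n)`.
-/

set_option autoImplicit false
set_option linter.unusedSectionVars false
set_option linter.style.haveILetI false

universe u

namespace Groth.Agent.Lib.GrSegConv

open DirectSum GrLC

variable {k : Type u} [Field k] {R : Type u} [CommRing R] [Algebra k R] (𝒜 : ℤ → Submodule k R)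
  [GradedAlgebra 𝒜]

/-- The underlying grading by additive subgroups. -/
def toAS : ℤ → AddSubgroup R := fun n => (𝒜 n).toAddSubgroup

theorem mem_toAS {n : ℤ} {x : R} : x ∈ toAS 𝒜 n ↔ x ∈ 𝒜 n := Iff.rfl

instance gradedMonoid_toAS : SetLike.GradedMonoid (toAS 𝒜) where
  one_mem := SetLike.GradedOne.one_mem (A := 𝒜)
  mul_mem := fun _ _ _ _ ha hb => SetLike.GradedMul.mul_mem (A := 𝒜) ha hb

noncomputable instance decomposition_toAS : DirectSum.Decomposition (toAS 𝒜) where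
  decompose' := fun r => (DirectSum.decompose 𝒜 r : ⨁ i, 𝒜 i)
  left_inv := fun r => DirectSum.Decomposition.left_inv (ℳ := 𝒜) r
  right_inv := fun r => DirectSum.Decomposition.right_inv (ℳ := 𝒜) r

noncomputable instance gradedRing_toAS : GradedRing (toAS 𝒜) where

theorem coe_decompose_toAS (r : R) (n : ℤ) :
    ((decompose (toAS 𝒜) r n : toAS 𝒜 n) : R) = ((decompose 𝒜 r n : 𝒜 n) : R) := rfl

section Module

variable {M : Type u} [AddCommGroup M] [Module R M] (ℳ : ℤ → AddSubgroup M)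
  [SetLike.GradedSMul 𝒜 ℳ]

instance gradedSMul_toAS : SetLike.GradedSMul (toAS 𝒜) ℳ where
  smul_mem := fun _ _ _ _ hr hm => SetLike.GradedSMul.smul_mem (A := 𝒜) (B := ℳ) hr hm

end Module

theorem hpos_toAS (hpos : ∀ n : ℤ, n < 0 → 𝒜 n = ⊥) : ∀ n : ℤ, n < 0 → toAS 𝒜 n = ⊥ := by
  intro n hn
  show (𝒜 n).toAddSubgroup = ⊥
  rw [hpos n hn, Submodule.bot_toAddSubgroup]

theorem hstd_toAS
    (hstd : Ideal.span (⋃ n ∈ Set.Ioi (0 : ℤ), (𝒜 n : Set R)) =
      Ideal.span ((𝒜 1 : Submodule k R) : Set R)) :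
    Ideal.span (⋃ n ∈ Set.Ioi (0 : ℤ), (toAS 𝒜 n : Set R)) =
      Ideal.span ((toAS 𝒜 1 : AddSubgroup R) : Set R) := hstd

/-- The ring homomorphism `k → R_0`. -/
def toDeg0 : k →+* deg0 (toAS 𝒜) where
  toFun c := ⟨algebraMap k R c, SetLike.algebraMap_mem_graded 𝒜 c⟩
  map_one' := by apply Subtype.ext; exact map_one _
  map_mul' a b := by apply Subtype.ext; exact map_mul _ a b
  map_zero' := by apply Subtype.ext; exact map_zero _
  map_add' a b := by apply Subtype.ext; exact map_add _ a b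

@[simp] theorem coe_toDeg0 (c : k) : ((toDeg0 𝒜 c : deg0 (toAS 𝒜)) : R) = algebraMap k R c := rfl

theorem toDeg0_surjective (h0 : 𝒜 0 = Submodule.span k {(1 : R)}) :
    Function.Surjective (toDeg0 𝒜) := by
  rintro ⟨x, hx⟩
  have hx' : x ∈ Submodule.span k {(1 : R)} := by rw [← h0]; exact hx
  obtain ⟨c, rfl⟩ := Submodule.mem_span_singleton.mp hx'
  refine ⟨c, ?_⟩
  apply Subtype.ext
  show algebraMap k R c = c • (1 : R)
  rw [Algebra.algebraMap_eq_smul_one]

theorem isField_deg0_toAS [Nontrivial R] (h0 : 𝒜 0 = Submodule.span k {(1 : R)}) :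
    IsField (deg0 (toAS 𝒜)) := by
  have hinj : Function.Injective (toDeg0 𝒜) := (toDeg0 𝒜).injective
  exact MulEquiv.isField (Field.toIsField k)
    (RingEquiv.ofBijective (toDeg0 𝒜) ⟨hinj, toDeg0_surjective 𝒜 h0⟩).symm.toMulEquiv

section ModuleK

variable {M : Type u} [AddCommGroup M] [Module R M] [Module k M] [IsScalarTower k R M]
  (ℳ : ℤ → AddSubgroup M) [SetLike.GradedSMul 𝒜 ℳ]

include 𝒜 in
theorem ksmul_mem {c : k} {x : M} {j : ℤ} (hx : x ∈ ℳ j) : c • x ∈ ℳ j := by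
  have h := SetLike.GradedSMul.smul_mem (A := 𝒜) (B := ℳ) (SetLike.algebraMap_mem_graded 𝒜 c) hx
  rwa [vadd_eq_add, zero_add, algebraMap_smul] at h

/-- The piece `ℳ n` as a `k`-subspace. -/
def pieceK (n : ℤ) : Submodule k M where
  carrier := (ℳ n : Set M)
  add_mem' ha hb := add_mem ha hb
  zero_mem' := zero_mem _
  smul_mem' _ _ hx := ksmul_mem 𝒜 ℳ hx

theorem mem_pieceK {n : ℤ} {x : M} : x ∈ pieceK 𝒜 ℳ n ↔ x ∈ ℳ n := Iff.rfl

/-- The identity `M_n → M_n`, semilinear over `k → R_0`. -/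
def pieceToComp (n : ℤ) : pieceK 𝒜 ℳ n →ₛₗ[toDeg0 𝒜] comp (toAS 𝒜) ℳ n where
  toFun x := ⟨x.1, x.2⟩
  map_add' _ _ := rfl
  map_smul' c x := by
    apply Subtype.ext
    show c • (x : M) = (algebraMap k R c) • (x : M)
    rw [algebraMap_smul]

theorem pieceToComp_bijective (n : ℤ) : Function.Bijective (pieceToComp 𝒜 ℳ n) := by
  constructor
  · intro x y h
    apply Subtype.ext
    exact congrArg Subtype.val h
  · rintro ⟨y, hy⟩
    exact ⟨⟨y, hy⟩, rfl⟩

theorem length_comp_eq (h0 : 𝒜 0 = Submodule.span k {(1 : R)}) (n : ℤ) :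
    Module.length (deg0 (toAS 𝒜)) (comp (toAS 𝒜) ℳ n) = Module.length k (pieceK 𝒜 ℳ n) :=
  (Groth.Agent.Lib.GrHilbMod.length_eq_of_semilinear (toDeg0 𝒜) (toDeg0_surjective 𝒜 h0)
    (pieceToComp 𝒜 ℳ n) (pieceToComp_bijective 𝒜 ℳ n)).symm

theorem length_comp_toNat (h0 : 𝒜 0 = Submodule.span k {(1 : R)}) (n : ℤ) :
    (Module.length (deg0 (toAS 𝒜)) (comp (toAS 𝒜) ℳ n)).toNat =
      Module.finrank k (pieceK 𝒜 ℳ n) := by
  rw [length_comp_eq 𝒜 ℳ h0 n, Module.length_eq_rank, Module.finrank]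
  exact Cardinal.toNat_toENat _

end ModuleK

end Groth.Agent.Lib.GrSegConv
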