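import Mathlib
import Groth.Agent.Lib.GrHilbMod3
import Groth.Agent.Lib.GrSegConv
import Groth.Agent.Lib.H2SegreMod2
import Groth.Agent.S18646
import Groth.Agent.S19747

/-!
# Hilbert polynomials of Segre products (helper12)

* `exists_hilbPoly_k`: the Hilbert polynomial with exact degree (`GrHilbMod.exists_hilbPoly_module_exact`)
  for a finitely generated graded module over a standard graded `k`-algebra with `R_0 = k`, in
  terms of `finrank k (M_n)`.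
* `segre_hpos`, `segre_h0`, `segre_hstd`: the Segre product of standard graded `k`-algebras is
  positively graded, has `T_0 = k` and is standard graded.
* `finrank_pieceK_segre`: `dim_k (M # N)_n = dim_k M_n · dim_k N_n`.
* `exists_hilbPoly_segre`: the Hilbert polynomial of `M # N` is the product of those of `M`, `N`.
-/

set_option autoImplicit false
set_option linter.unusedSectionVars false
set_option linter.style.haveILetI false

universe u

namespace Groth.Agent.Lib.GrSegHilb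

open DirectSum GrLC Polynomial TensorProduct Groth.Agent.Lib.GrSegConv Groth.Agent.Lib.GrHilbMod
  Groth.Agent.Lib.H2SegreMod

section HilbK

variable {k : Type u} [Field k] {R : Type u} [CommRing R] [Algebra k R] (𝒜 : ℤ → Submodule k R)
  [GradedAlgebra 𝒜]
  {M : Type u} [AddCommGroup M] [Module R M] [Module k M] [IsScalarTower k R M]
  (ℳ : ℤ → AddSubgroup M) [DirectSum.Decomposition ℳ] [SetLike.GradedSMul 𝒜 ℳ]

/-- **Hilbert polynomial with exact degree**, for graded `k`-algebras with `R_0 = k`. -/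
theorem exists_hilbPoly_k [IsNoetherianRing R] [Module.Finite R M]
    (hpos : ∀ n : ℤ, n < 0 → 𝒜 n = ⊥) (h0 : 𝒜 0 = Submodule.span k {(1 : R)})
    (hstd : Ideal.span (⋃ n ∈ Set.Ioi (0 : ℤ), (𝒜 n : Set R)) =
      Ideal.span ((𝒜 1 : Submodule k R) : Set R)) :
    ∃ Q : ℚ[X], (∃ N : ℤ, ∀ n : ℤ, N ≤ n →
        Q.eval (n : ℚ) = (Module.finrank k (pieceK 𝒜 ℳ n) : ℚ)) ∧
      (Q = 0 → IsArtinian R M ∧ Module.supportDim R M ≤ 0) ∧
      (Q ≠ 0 → Module.supportDim R M = ((Q.natDegree + 1 : ℕ) : WithBot ℕ∞)) := by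
  rcases subsingleton_or_nontrivial R with hR | hR
  · haveI : Subsingleton M := Module.subsingleton R M
    refine ⟨0, ⟨0, fun n _ => ?_⟩, fun _ => ⟨inferInstance, ?_⟩, fun h => absurd rfl h⟩
    · rw [eval_zero]
      haveI : Subsingleton (pieceK 𝒜 ℳ n) := ⟨fun a b => Subtype.ext (Subsingleton.elim _ _)⟩
      rw [Module.finrank_zero_of_subsingleton]
      simp
    · rw [Module.supportDim_eq_bot_of_subsingleton]
      exact bot_le
  · obtain ⟨Q, ⟨N, hN⟩, h1, h2⟩ := exists_hilbPoly_module_exact (toAS 𝒜) ℳ (hpos_toAS 𝒜 hpos)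
      (hstd_toAS 𝒜 hstd) (isField_deg0_toAS 𝒜 h0)
    refine ⟨Q, ⟨N, fun n hn => ?_⟩, h1, h2⟩
    rw [hN n hn, length_comp_toNat 𝒜 ℳ h0 n]

end HilbK

section Segre

variable {k : Type u} [Field k] {R : Type u} [CommRing R] [Algebra k R] {𝒜 : ℤ → Submodule k R}
  [GradedAlgebra 𝒜]
  {S : Type u} [CommRing S] [Algebra k S] {ℬ : ℤ → Submodule k S} [GradedAlgebra ℬ]
  {T : Type u} [CommRing T] [Algebra k T] {𝒯 : ℤ → Submodule k T} [GradedAlgebra 𝒯]
  {ψ : T →ₐ[k] R ⊗[k] S}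

theorem segre_hpos (hT : GrSeg.IsSegreRing 𝒜 ℬ 𝒯 ψ) (hposR : ∀ n : ℤ, n < 0 → 𝒜 n = ⊥) :
    ∀ n : ℤ, n < 0 → 𝒯 n = ⊥ := by
  intro n hn
  rw [eq_bot_iff]
  intro t ht
  have h1 := psi_mem_segrePiece hT ht
  have h2 : GrSeg.segrePiece k 𝒜 ℬ n = ⊥ := by
    rw [eq_bot_iff]
    apply Submodule.span_le.mpr
    rintro _ ⟨a, ha, b, -, rfl⟩
    rw [hposR n hn] at ha
    rw [(Submodule.mem_bot k).mp ha, zero_tmul]
    exact zero_mem _
  rw [h2, Submodule.mem_bot] at h1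
  rw [Submodule.mem_bot]
  apply hT.1
  rw [h1, map_zero]

theorem segre_h0 (hT : GrSeg.IsSegreRing 𝒜 ℬ 𝒯 ψ) (h0R : 𝒜 0 = Submodule.span k {(1 : R)})
    (h0S : ℬ 0 = Submodule.span k {(1 : S)}) : 𝒯 0 = Submodule.span k {(1 : T)} := by
  apply le_antisymm
  · intro t ht
    have h1 := psi_mem_segrePiece hT ht
    have h2 : GrSeg.segrePiece k 𝒜 ℬ 0 ≤ Submodule.span k {(1 : R ⊗[k] S)} := by
      apply Submodule.span_le.mpr
      rintro _ ⟨a, ha, b, hb, rfl⟩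
      rw [h0R] at ha
      rw [h0S] at hb
      obtain ⟨c, rfl⟩ := Submodule.mem_span_singleton.mp ha
      obtain ⟨d, rfl⟩ := Submodule.mem_span_singleton.mp hb
      rw [SetLike.mem_coe, Submodule.mem_span_singleton]
      refine ⟨c * d, ?_⟩
      rw [TensorProduct.smul_tmul_smul, Algebra.TensorProduct.one_def]
    obtain ⟨e, he⟩ := Submodule.mem_span_singleton.mp (h2 h1)
    rw [Submodule.mem_span_singleton]
    refine ⟨e, ?_⟩
    apply hT.1
    rw [map_smul, map_one, he]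
  · rw [Submodule.span_le, Set.singleton_subset_iff]
    exact SetLike.GradedOne.one_mem (A := 𝒯)

theorem segre_hstd (hT : GrSeg.IsSegreRing 𝒜 ℬ 𝒯 ψ)
    (hstdR : Ideal.span (⋃ n ∈ Set.Ioi (0 : ℤ), (𝒜 n : Set R)) =
      Ideal.span ((𝒜 1 : Submodule k R) : Set R))
    (hstdS : Ideal.span (⋃ n ∈ Set.Ioi (0 : ℤ), (ℬ n : Set S)) =
      Ideal.span ((ℬ 1 : Submodule k S) : Set S)) :
    Ideal.span (⋃ n ∈ Set.Ioi (0 : ℤ), (𝒯 n : Set T)) =
      Ideal.span ((𝒯 1 : Submodule k T) : Set T) := by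
  classical
  apply le_antisymm
  · rw [Ideal.span_le]
    intro t ht
    obtain ⟨n, hn, htn⟩ := Set.mem_iUnion₂.mp ht
    have hn0 : (0 : ℤ) < n := hn
    obtain ⟨i, rfl⟩ : ∃ i : ℕ, n = (i : ℤ) + 1 :=
      ⟨(n - 1).toNat, by rw [Int.toNat_of_nonneg (by omega)]; ring⟩
    set W : Submodule k T := (Ideal.span ((𝒯 1 : Submodule k T) : Set T)).restrictScalars k with hW
    have key : GrSeg.segrePiece k 𝒜 ℬ ((i : ℤ) + 1) ≤ W.map ψ.toLinearMap := by
      apply Submodule.span_le.mpr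
      rintro _ ⟨a, ha, b, hb, rfl⟩
      obtain ⟨ta, ca, hta, hca, rfl⟩ :=
        exists_sum_of_mem_succ (toAS 𝒜) (hstd_toAS 𝒜 hstdR) i ha
      obtain ⟨tb, cb, htb, hcb, rfl⟩ :=
        exists_sum_of_mem_succ (toAS ℬ) (hstd_toAS ℬ hstdS) i hb
      rw [TensorProduct.sum_tmul]
      refine Submodule.sum_mem _ fun y hy => ?_
      rw [TensorProduct.tmul_sum]
      refine Submodule.sum_mem _ fun z hz => ?_
      have e : (ca y * y) ⊗ₜ[k] (cb z * z) = (ca y ⊗ₜ[k] cb z) * (y ⊗ₜ[k] z) := by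
        rw [Algebra.TensorProduct.tmul_mul_tmul]
      rw [e]
      obtain ⟨t1, ht1, h1⟩ := exists_of_mem_segrePiece_ring hT
        (Submodule.subset_span ⟨y, hta y hy, z, htb z hz, rfl⟩ :
          y ⊗ₜ[k] z ∈ GrSeg.segrePiece k 𝒜 ℬ 1)
      obtain ⟨t2, -, h2⟩ := exists_of_mem_segrePiece_ring hT
        (Submodule.subset_span ⟨ca y, hca y, cb z, hcb z, rfl⟩ :
          ca y ⊗ₜ[k] cb z ∈ GrSeg.segrePiece k 𝒜 ℬ (i : ℤ))
      refine ⟨t2 * t1, ?_, ?_⟩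
      · show t2 * t1 ∈ Ideal.span ((𝒯 1 : Submodule k T) : Set T)
        exact Ideal.mul_mem_left _ _ (Ideal.subset_span ht1)
      · show ψ (t2 * t1) = _
        rw [map_mul, h1, h2]
    obtain ⟨w, hw, hwt⟩ := key (psi_mem_segrePiece hT htn)
    have : w = t := hT.1 hwt
    rw [← this]
    exact hw
  · apply Ideal.span_mono
    intro t ht
    exact Set.mem_iUnion₂.mpr ⟨1, by simp, ht⟩

variable {M : Type u} [AddCommGroup M] [Module R M] [Module k M] [IsScalarTower k R M]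
  {ℳ : ℤ → AddSubgroup M} [DirectSum.Decomposition ℳ] [SetLike.GradedSMul 𝒜 ℳ]
  {N : Type u} [AddCommGroup N] [Module S N] [Module k N] [IsScalarTower k S N]
  {𝒩 : ℤ → AddSubgroup N} [DirectSum.Decomposition 𝒩] [SetLike.GradedSMul ℬ 𝒩]
  {P : Type u} [AddCommGroup P] [Module T P] [Module k P] [IsScalarTower k T P]
  {𝒬 : ℤ → AddSubgroup P} [DirectSum.Decomposition 𝒬] {φ : P →ₗ[k] M ⊗[k] N}

/-- The Segre module is a graded module over the Segre ring. -/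
theorem gradedSMul_segre (hT : GrSeg.IsSegreRing 𝒜 ℬ 𝒯 ψ) (hP : GrSeg.IsSegreMod ψ ℳ 𝒩 𝒬 φ) :
    SetLike.GradedSMul 𝒯 𝒬 :=
  ⟨fun _ _ _ _ ht hp => smul_mem_piece hT hP ht hp⟩

theorem segrePiece_eq_range (n : ℤ) :
    GrSeg.segrePiece k ℳ 𝒩 n =
      LinearMap.range (TensorProduct.map (pieceK 𝒜 ℳ n).subtype (pieceK ℬ 𝒩 n).subtype) := by
  rw [TensorProduct.range_map_eq_span_tmul]
  unfold GrSeg.segrePiece
  congr 1
  ext x
  constructor
  · rintro ⟨a, ha, b, hb, rfl⟩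
    exact ⟨⟨a, ha⟩, ⟨b, hb⟩, rfl⟩
  · rintro ⟨a, b, rfl⟩
    exact ⟨a.1, a.2, b.1, b.2, rfl⟩

theorem finrank_segrePiece (n : ℤ) :
    Module.finrank k (GrSeg.segrePiece k ℳ 𝒩 n) =
      Module.finrank k (pieceK 𝒜 ℳ n) * Module.finrank k (pieceK ℬ 𝒩 n) := by
  rw [segrePiece_eq_range (𝒜 := 𝒜) (ℬ := ℬ),
    LinearMap.finrank_range_of_inj (TensorProduct.map_injective_of_flat_flat _ _
      (Submodule.subtype_injective _) (Submodule.subtype_injective _)),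
    Module.finrank_tensorProduct]

theorem finrank_pieceK_segre [SetLike.GradedSMul 𝒯 𝒬] (hP : GrSeg.IsSegreMod ψ ℳ 𝒩 𝒬 φ) (n : ℤ) :
    Module.finrank k (pieceK 𝒯 𝒬 n) =
      Module.finrank k (pieceK 𝒜 ℳ n) * Module.finrank k (pieceK ℬ 𝒩 n) := by
  rw [← finrank_segrePiece (𝒜 := 𝒜) (ℬ := ℬ) n]
  have hmap : (pieceK 𝒯 𝒬 n).map φ = GrSeg.segrePiece k ℳ 𝒩 n := by
    apply SetLike.coe_injective
    rw [Submodule.map_coe]
    exact hP.image_piece n
  rw [← hmap]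
  exact (Submodule.equivMapOfInjective φ hP.injective (pieceK 𝒯 𝒬 n)).finrank_eq

/-- **The Hilbert polynomial of a Segre product** is the product of the Hilbert polynomials, and it
computes the dimension of `M # N`. -/
theorem exists_hilbPoly_segre [Algebra.FiniteType k R] [Algebra.FiniteType k S]
    (hposR : ∀ n : ℤ, n < 0 → 𝒜 n = ⊥) (h0R : 𝒜 0 = Submodule.span k {(1 : R)})
    (hposS : ∀ n : ℤ, n < 0 → ℬ n = ⊥) (h0S : ℬ 0 = Submodule.span k {(1 : S)})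
    (hT : GrSeg.IsSegreRing 𝒜 ℬ 𝒯 ψ)
    (hstdR : Ideal.span (⋃ n ∈ Set.Ioi (0 : ℤ), (𝒜 n : Set R)) =
      Ideal.span ((𝒜 1 : Submodule k R) : Set R))
    (hstdS : Ideal.span (⋃ n ∈ Set.Ioi (0 : ℤ), (ℬ n : Set S)) =
      Ideal.span ((ℬ 1 : Submodule k S) : Set S))
    [Module.Finite R M] [Module.Finite S N] (hP : GrSeg.IsSegreMod ψ ℳ 𝒩 𝒬 φ)
    (QM QN : ℚ[X])
    (hQM : ∃ N₀ : ℤ, ∀ n : ℤ, N₀ ≤ n →
      QM.eval (n : ℚ) = (Module.finrank k (pieceK 𝒜 ℳ n) : ℚ))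
    (hQN : ∃ N₀ : ℤ, ∀ n : ℤ, N₀ ≤ n →
      QN.eval (n : ℚ) = (Module.finrank k (pieceK ℬ 𝒩 n) : ℚ)) :
    (QM * QN = 0 → IsArtinian T P ∧ Module.supportDim T P ≤ 0) ∧
      (QM * QN ≠ 0 →
        Module.supportDim T P = (((QM * QN).natDegree + 1 : ℕ) : WithBot ℕ∞)) := by
  haveI : SetLike.GradedSMul 𝒯 𝒬 := gradedSMul_segre hT hP
  haveI : IsNoetherianRing T :=
    Groth.Agent.S18646.result k R 𝒜 hposR h0R S ℬ hposS h0S T 𝒯 ψ hT.1 hT.2
  haveI : Module.Finite T P :=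
    Groth.Agent.S19747.result k R 𝒜 hposR h0R S ℬ hposS h0S T 𝒯 ψ hT M ℳ N 𝒩 P 𝒬 φ hP
  obtain ⟨QP, ⟨NP, hNP⟩, h1, h2⟩ := exists_hilbPoly_k 𝒯 𝒬 (segre_hpos hT hposR)
    (segre_h0 hT h0R h0S) (segre_hstd hT hstdR hstdS)
  obtain ⟨NM, hNM⟩ := hQM
  obtain ⟨NN, hNN⟩ := hQN
  have hQ : QP = QM * QN := by
    rw [← sub_eq_zero]
    apply eq_zero_of_eventually_eval_eq_zero _ ((max NP (max NM NN)).toNat)
    intro n hn
    have hcast : ((n : ℤ) : ℚ) = (n : ℚ) := by push_cast; rfl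
    have e1 := hNP (n : ℤ) (by omega)
    have e2 := hNM (n : ℤ) (by omega)
    have e3 := hNN (n : ℤ) (by omega)
    rw [hcast] at e1 e2 e3
    rw [eval_sub, eval_mul, e1, e2, e3, finrank_pieceK_segre (𝒜 := 𝒜) (ℬ := ℬ) hP]
    push_cast
    ring
  rw [← hQ]
  exact ⟨h1, h2⟩

end Segre

end Groth.Agent.Lib.GrSegHilb
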