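import Groth.Agent.Lib.GrHilbSamuel4

/-!
# `a(R) = -dim R` iff `R` is a polynomial ring over `k`, as `k`-algebras (helper12)
-/

set_option autoImplicit false
set_option linter.unusedSectionVars false
set_option linter.style.haveILetI false
universe u

namespace Groth.Agent.Lib.GrSegPoly1

open DirectSum GrLC IsLocalRing Groth.Agent.Lib.H74GrArt Groth.Agent.S13229
  Groth.Agent.Lib.GrHilbSamuel Groth.Agent.Lib.GrHilbSamuel2 Groth.Agent.Lib.GrHilbSamuel3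
  Groth.Agent.Lib.GrHilbSamuel4

variable {R : Type u} [CommRing R] [LocCoh.IsCohenMacaulayRing R] (𝒜 : ℤ → AddSubgroup R)
  [GradedRing 𝒜]

/-- `a(R) = -dim R` implies `R` is a polynomial ring over `R_0`, as an `R_0`-algebra. -/
theorem nonempty_algEquiv_of_endDeg (hpos : ∀ n : ℤ, n < 0 → 𝒜 n = ⊥) (h0 : IsField (deg0 𝒜))
    (hstd : Ideal.span (⋃ n ∈ Set.Ioi (0 : ℤ), (𝒜 n : Set R)) =
      Ideal.span ((𝒜 1 : AddSubgroup R) : Set R))
    (m : HomogeneousIdeal 𝒜) (hm : GrLC.IsStarLocal 𝒜 m) (r : ℕ) (hr : ringKrullDim R = r)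
    (I : GrLC.StarInjRes 𝒜 𝒜)
    (ha : GrLC.endDeg (I.Hgr m r) = (((-(r : ℤ) : ℤ) : WithTop ℤ) : WithBot (WithTop ℤ))) :
    Nonempty (MvPolynomial (Fin r) (deg0 𝒜) ≃ₐ[deg0 𝒜] R) := by
  haveI : IsArtinianRing (deg0 𝒜) := by
    letI := h0.toField
    exact inferInstance
  have : IsNoetherianRing R := inferInstance
  have hH := hilb_eq_of_endDeg 𝒜 hpos hstd m hm r hr I ha
  have hfin : ∀ n : ℤ, Module.length (deg0 𝒜) (comp 𝒜 𝒜 n) ≠ ⊤ :=
    fun n => Groth.Agent.Lib.H74GrSerre.length_comp_ne_top 𝒜 𝒜 n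
  have hlen : ∀ n : ℕ, Module.length (deg0 𝒜) (comp 𝒜 𝒜 (n : ℤ)) =
      (Nat.multichoose r n : ℕ∞) * Module.length (deg0 𝒜) (deg0 𝒜) := by
    intro n
    have h1 := hH n
    unfold hilb at h1
    rw [← ENat.natCast_toNat (hfin n), h1, ← length_comp_zero, ← ENat.natCast_toNat (hfin 0)]
    push_cast
    rw [mul_comm]
    rfl
  have h1 : Module.length (deg0 𝒜) (comp 𝒜 𝒜 1) = r := by
    have := hlen 1
    rw [Nat.multichoose_one_right, length_self_of_isField 𝒜 h0, mul_one] at this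
    exact_mod_cast this
  obtain ⟨y, hy, hgen⟩ := exists_gens_of_field 𝒜 h0 r h1
  have hsurj := aeval_surjective 𝒜 y hpos hstd hy hgen
  have hinj := aeval_injective 𝒜 y hpos hstd hy hgen
    (by rw [length_self_of_isField 𝒜 h0]; exact ENat.one_ne_top) hlen
  exact ⟨AlgEquiv.ofBijective _ ⟨hinj, hsurj⟩⟩

section K

variable {k : Type u} [Field k] [Algebra k R] (κ : k →+* deg0 𝒜) (hκb : Function.Bijective κ)
  (hκ : ∀ c : k, ((κ c : deg0 𝒜) : R) = algebraMap k R c)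

include hκb hκ in
theorem endDeg_eq_iff_nonempty_algEquiv (hpos : ∀ n : ℤ, n < 0 → 𝒜 n = ⊥)
    (hstd : Ideal.span (⋃ n ∈ Set.Ioi (0 : ℤ), (𝒜 n : Set R)) =
      Ideal.span ((𝒜 1 : AddSubgroup R) : Set R))
    (m : HomogeneousIdeal 𝒜) (hm : GrLC.IsStarLocal 𝒜 m)
    (hmsp : m.toIdeal = Ideal.span (⋃ n ∈ Set.Ioi (0 : ℤ), (𝒜 n : Set R)))
    (r : ℕ) (hr : ringKrullDim R = r) (I : GrLC.StarInjRes 𝒜 𝒜) :
    GrLC.endDeg (I.Hgr m r) = (((-(r : ℤ) : ℤ) : WithTop ℤ) : WithBot (WithTop ℤ)) ↔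
      Nonempty (R ≃ₐ[k] MvPolynomial (Fin r) k) := by
  let κe : k ≃+* deg0 𝒜 := RingEquiv.ofBijective κ hκb
  have h0 : IsField (deg0 𝒜) := MulEquiv.isField (Field.toIsField k) κe.symm.toMulEquiv
  constructor
  · intro ha
    obtain ⟨e₁⟩ := nonempty_algEquiv_of_endDeg 𝒜 hpos h0 hstd m hm r hr I ha
    let E : MvPolynomial (Fin r) k ≃+* R :=
      (MvPolynomial.mapEquiv (Fin r) κe).trans e₁.toRingEquiv
    have hE : ∀ c : k, E (algebraMap k (MvPolynomial (Fin r) k) c) = algebraMap k R c := by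
      intro c
      show e₁ (MvPolynomial.map (κe : k →+* deg0 𝒜) (algebraMap k (MvPolynomial (Fin r) k) c)) = _
      rw [MvPolynomial.algebraMap_eq, MvPolynomial.map_C, ← MvPolynomial.algebraMap_eq,
        e₁.commutes]
      exact hκ c
    exact ⟨(AlgEquiv.ofRingEquiv (f := E) hE).symm⟩
  · rintro ⟨e⟩
    exact endDeg_of_ringEquiv 𝒜 hpos h0 hstd m hm hmsp r hr I
      (e.toRingEquiv.trans (MvPolynomial.mapEquiv (Fin r) κe))

end K

end Groth.Agent.Lib.GrSegPoly1
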