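import Groth.Agent.Lib.GrSegPoly1
import Groth.Agent.Lib.GrLCBridge
import Groth.Agent.Lib.GrHilbMono
import Groth.Agent.S17771

/-!
# a-invariant of a standard graded Cohen–Macaulay `k`-algebra and polynomial rings (helper12)

For `𝒜 : ℤ → Submodule k R` a standard graded Cohen–Macaulay `k`-algebra with `R_0 = k`, `dim R = r`:
`-r ≤ a(R)`, and `a(R) = -r` iff `R ≃ₐ[k] k[X_1, …, X_r]`.
-/

set_option autoImplicit false
set_option linter.unusedSectionVars false
set_option linter.style.haveILetI false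
universe u

namespace Groth.Agent.Lib.GrSegPoly2

open DirectSum GrLC Groth.Agent.Lib.GrLCBridge

variable {k : Type u} [Field k] {R : Type u} [CommRing R] [Algebra k R] (𝒜 : ℤ → Submodule k R)
  [GradedAlgebra 𝒜] (hpos : ∀ n : ℤ, n < 0 → 𝒜 n = ⊥) (h0 : 𝒜 0 = Submodule.span k {(1 : R)})
  (hstd : Ideal.span (⋃ n ∈ Set.Ioi (0 : ℤ), (𝒜 n : Set R)) =
    Ideal.span ((𝒜 1 : Submodule k R) : Set R))
  (mR : HomogeneousIdeal 𝒜)
  (hmR : mR.toIdeal = Ideal.span (⋃ n ∈ Set.Ioi (0 : ℤ), (𝒜 n : Set R)))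

/-- The ring homomorphism `k → R_0`. -/
def kap : k →+* deg0 (asGr 𝒜) where
  toFun c := ⟨algebraMap k R c, SetLike.algebraMap_mem_graded 𝒜 c⟩
  map_one' := by apply Subtype.ext; exact map_one _
  map_mul' a b := by apply Subtype.ext; exact map_mul _ a b
  map_zero' := by apply Subtype.ext; exact map_zero _
  map_add' a b := by apply Subtype.ext; exact map_add _ a b

theorem coe_kap (c : k) : ((kap 𝒜 c : deg0 (asGr 𝒜)) : R) = algebraMap k R c := rfl

include h0 in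
theorem kap_bijective [Nontrivial R] : Function.Bijective (kap 𝒜) := by
  refine ⟨(kap 𝒜).injective, ?_⟩
  rintro ⟨x, hx⟩
  have hx' : x ∈ Submodule.span k {(1 : R)} := by rw [← h0]; exact hx
  obtain ⟨c, rfl⟩ := Submodule.mem_span_singleton.mp hx'
  refine ⟨c, ?_⟩
  apply Subtype.ext
  show algebraMap k R c = c • (1 : R)
  rw [Algebra.algebraMap_eq_smul_one]

include hpos in
theorem hpos_asGr : ∀ n : ℤ, n < 0 → asGr 𝒜 n = ⊥ := by
  intro n hn
  rw [AddSubgroup.eq_bot_iff_forall]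
  intro x hx
  have hx' : x ∈ 𝒜 n := hx
  rw [hpos n hn] at hx'
  exact (Submodule.mem_bot k).1 hx'

include h0 in
theorem isField_deg0 [Nontrivial R] : IsField (deg0 (asGr 𝒜)) :=
  MulEquiv.isField (Field.toIsField k)
    (RingEquiv.ofBijective (kap 𝒜) (kap_bijective 𝒜 h0)).symm.toMulEquiv

include hpos h0 hmR in
theorem isStarLocal_toSIdeal [Nontrivial R] : IsStarLocal (asGr 𝒜) (toSIdeal mR) := by
  have h := Groth.Agent.Lib.GrHilbMono.isStarLocal_irr (asGr 𝒜) (hpos_asGr 𝒜 hpos)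
    (isField_deg0 𝒜 h0)
  have he : toSIdeal mR = Groth.Agent.Lib.H74GrArt.irr (asGr 𝒜) :=
    HomogeneousIdeal.toIdeal_injective hmR
  rw [he]
  exact h

variable [LocCoh.IsCohenMacaulayRing R]

include hpos h0 hstd hmR in
/-- `-dim R ≤ a(R)`. -/
theorem neg_le_endDeg (r : ℕ) (hr : ringKrullDim R = r) (I : StarInjRes 𝒜 𝒜) :
    (((-(r : ℤ) : ℤ) : WithTop ℤ) : WithBot (WithTop ℤ)) ≤ GrLC.endDeg (I.Hgr mR r) := by
  haveI : Nontrivial R := by
    by_contra hcon
    rw [not_nontrivial_iff_subsingleton] at hcon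
    rw [ringKrullDim_eq_bot_of_subsingleton] at hr
    exact WithBot.bot_ne_coe hr
  have h0' := isField_deg0 𝒜 h0
  haveI : IsArtinianRing (deg0 (asGr 𝒜)) := by
    letI := h0'.toField
    exact inferInstance
  exact Groth.Agent.S17771.result R (asGr 𝒜) (hpos_asGr 𝒜 hpos) hstd (toSIdeal mR)
    (isStarLocal_toSIdeal 𝒜 hpos h0 mR hmR) r hr (toSRes I)

include hpos h0 hstd hmR in
/-- `a(R) = -dim R` iff `R` is a polynomial ring over `k` (as a `k`-algebra). -/
theorem endDeg_eq_iff_poly (r : ℕ) (hr : ringKrullDim R = r) (I : StarInjRes 𝒜 𝒜) :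
    GrLC.endDeg (I.Hgr mR r) = (((-(r : ℤ) : ℤ) : WithTop ℤ) : WithBot (WithTop ℤ)) ↔
      Nonempty (R ≃ₐ[k] MvPolynomial (Fin r) k) := by
  haveI : Nontrivial R := by
    by_contra hcon
    rw [not_nontrivial_iff_subsingleton] at hcon
    rw [ringKrullDim_eq_bot_of_subsingleton] at hr
    exact WithBot.bot_ne_coe hr
  exact Groth.Agent.Lib.GrSegPoly1.endDeg_eq_iff_nonempty_algEquiv (asGr 𝒜) (kap 𝒜)
    (kap_bijective 𝒜 h0) (coe_kap 𝒜) (hpos_asGr 𝒜 hpos) hstd (toSIdeal mR)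
    (isStarLocal_toSIdeal 𝒜 hpos h0 mR hmR) hmR r hr (toSRes I)

end Groth.Agent.Lib.GrSegPoly2
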