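import Groth.Agent.Lib.GrSegCM

/-!
# Segre products of graded Cohen–Macaulay modules with numerical data (helper12)

`M`, `N` graded Cohen–Macaulay modules of dimensions `r, s ≥ 1` over graded `k`-algebras `R`, `S`,
with `M_d ≠ 0 ⟺ d ≥ βM`, `H^r(M)_d = 0` for `d > αM`, `H^r(M)_{αM} ≠ 0` and likewise for `N`.

* `isCMAll_segre_iff_num` : `M # N` is Cohen–Macaulay iff (`r ≥ 2 → αN < βM`) and
  (`s ≥ 2 → αM < βN`);
* `idealDepth_segre_eq_right` : if `r ≥ 2`, `βM ≤ αN` and (`s ≤ r` or `αM < βN`) then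
  `depth (M # N) = s`;
* `idealDepth_segre_eq_left` : if `s ≥ 2`, `βN ≤ αM` and (`r ≤ s` or `αN < βM`) then
  `depth (M # N) = r`.
-/

set_option autoImplicit false
set_option linter.unusedSectionVars false
set_option linter.style.haveILetI false
universe u
open scoped TensorProduct

namespace Groth.Agent.Lib.GrSegShift

open TensorProduct DirectSum GrLC Groth.Agent.Lib.H2SegreMod Groth.Agent.Lib.GrLCBridge
  Groth.Agent.Lib.GrLCVan Groth.Agent.Lib.GrSegU Groth.Agent.Lib.GrCMCrit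
  Groth.Agent.Lib.GrNoether20 Groth.Agent.Lib.GrSegCM

section General

variable {k : Type u} [Field k] {R : Type u} [CommRing R] [Algebra k R] {𝒜 : ℤ → Submodule k R}
  [GradedAlgebra 𝒜] (hposR : ∀ n : ℤ, n < 0 → 𝒜 n = ⊥) (h0R : 𝒜 0 = Submodule.span k {(1 : R)})
  [Algebra.FiniteType k R]
  {S : Type u} [CommRing S] [Algebra k S] {ℬ : ℤ → Submodule k S} [GradedAlgebra ℬ]
  (hposS : ∀ n : ℤ, n < 0 → ℬ n = ⊥) (h0S : ℬ 0 = Submodule.span k {(1 : S)})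
  [Algebra.FiniteType k S]
  {T : Type u} [CommRing T] [Algebra k T] {𝒯 : ℤ → Submodule k T} [GradedAlgebra 𝒯]
  {ψ : T →ₐ[k] R ⊗[k] S} (hT : GrSeg.IsSegreRing 𝒜 ℬ 𝒯 ψ)
  (mR : HomogeneousIdeal 𝒜)
  (hmR : mR.toIdeal = Ideal.span (⋃ n ∈ Set.Ioi (0 : ℤ), (𝒜 n : Set R)))
  (mS : HomogeneousIdeal ℬ)
  (hmS : mS.toIdeal = Ideal.span (⋃ n ∈ Set.Ioi (0 : ℤ), (ℬ n : Set S)))
  (mT : HomogeneousIdeal 𝒯)
  (hmT : mT.toIdeal = Ideal.span (⋃ n ∈ Set.Ioi (0 : ℤ), (𝒯 n : Set T)))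
  {M : Type u} [AddCommGroup M] [Module R M] [Module k M] [IsScalarTower k R M]
  {ℳ : ℤ → AddSubgroup M} [DirectSum.Decomposition ℳ] [SetLike.GradedSMul 𝒜 ℳ]
  [Module.Finite R M]
  {N : Type u} [AddCommGroup N] [Module S N] [Module k N] [IsScalarTower k S N]
  {𝒩 : ℤ → AddSubgroup N} [DirectSum.Decomposition 𝒩] [SetLike.GradedSMul ℬ 𝒩]
  [Module.Finite S N]
  {P : Type u} [AddCommGroup P] [Module T P] [Module k P] [IsScalarTower k T P]
  {𝒬 : ℤ → AddSubgroup P} [DirectSum.Decomposition 𝒬]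
  {φ : P →ₗ[k] M ⊗[k] N} (hP : GrSeg.IsSegreMod ψ ℳ 𝒩 𝒬 φ)

omit [Field k] [Algebra k R] [GradedAlgebra 𝒜] [Algebra.FiniteType k R] [Module k M]
  [IsScalarTower k R M] [DirectSum.Decomposition ℳ] [SetLike.GradedSMul 𝒜 ℳ] [Module.Finite R M] in
theorem forall_or_iff_lt {G : Type u} [AddCommGroup G] (𝒢 : ℤ → AddSubgroup G)
    {H : Type u} [AddCommGroup H] [Module R H] (ℋ : ℤ → Submodule R H) (α β : ℤ)
    (hβ : ∀ d : ℤ, 𝒢 d = ⊥ ↔ d < β) (hα : ∀ d : ℤ, α < d → ℋ d = ⊥) (hα' : ℋ α ≠ ⊥) :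
    (∀ d : ℤ, 𝒢 d = ⊥ ∨ ℋ d = ⊥) ↔ α < β := by
  constructor
  · intro h
    rcases h α with h1 | h1
    · exact (hβ α).1 h1
    · exact absurd h1 hα'
  · intro h d
    by_cases hd : d < β
    · exact Or.inl ((hβ d).2 hd)
    · exact Or.inr (hα d (by omega))

include hposR h0R hposS h0S hT hmR hmS hP in
/-- Cohen–Macaulayness of `M # N` in terms of the numerical data. -/
theorem isCMAll_segre_iff_num [Nontrivial P] (r s : ℕ) (h1r : 1 ≤ r) (h1s : 1 ≤ s)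
    (hdM : Module.supportDim R M = r) (hdN : Module.supportDim S N = s)
    (hMcm : IsCMAll R M) (hNcm : IsCMAll S N)
    (EM : StarInjRes 𝒜 ℳ) (EN : StarInjRes ℬ 𝒩) (αM βM αN βN : ℤ)
    (hβM : ∀ d : ℤ, ℳ d = ⊥ ↔ d < βM) (hβN : ∀ d : ℤ, 𝒩 d = ⊥ ↔ d < βN)
    (hαM : ∀ d : ℤ, αM < d → EM.Hcomp mR r d = ⊥) (hαM' : EM.Hcomp mR r αM ≠ ⊥)
    (hαN : ∀ d : ℤ, αN < d → EN.Hcomp mS s d = ⊥) (hαN' : EN.Hcomp mS s αN ≠ ⊥) :
    IsCMAll T P ↔ (2 ≤ r → αN < βM) ∧ (2 ≤ s → αM < βN) := by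
  rw [isCMAll_segre_iff' hposR h0R hposS h0S hT mR hmR mS hmS hP r s h1r h1s hdM hdN hMcm hNcm
    EM EN]
  have e1 : (∀ d : ℤ, ℳ d = ⊥ ∨ EN.Hcomp mS s d = ⊥) ↔ αN < βM :=
    forall_or_iff_lt ℳ (fun d => EN.Hcomp mS s d) αN βM hβM hαN hαN'
  have e2 : (∀ d : ℤ, EM.Hcomp mR r d = ⊥ ∨ 𝒩 d = ⊥) ↔ αM < βN := by
    rw [← forall_or_iff_lt 𝒩 (fun d => EM.Hcomp mR r d) αM βN hβN hαM hαM']
    exact forall_congr' fun d => or_comm
  rw [e1, e2]

include hposR h0R hposS h0S hT hmR hmS hmT hP in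
/-- Vanishing and nonvanishing of the graded local cohomology of `M # N` below `r + s - 1`,
in terms of those of `M` and `N` (both Cohen–Macaulay). -/
theorem Hcomp_segre_eq_bot_iff_cm (r s : ℕ)
    (hdM : Module.supportDim R M = r) (hdN : Module.supportDim S N = s)
    (hMcm : IsCMAll R M) (hNcm : IsCMAll S N)
    [SetLike.GradedSMul (asGr 𝒯) 𝒬]
    (F : StarInjRes (asGr 𝒯) 𝒬) (q : ℕ) (hq : q + 1 < r + s) (d : ℤ) :
    F.Hcomp (toSIdeal mT) q d = ⊥ ↔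
      (Van (toSIdeal mR) (GMod.of (asGr 𝒜) M ℳ) q d ∨ 𝒩 d = ⊥) ∧
        (ℳ d = ⊥ ∨ Van (toSIdeal mS) (GMod.of (asGr ℬ) N 𝒩) q d) := by
  haveI : IsNoetherianRing R := Algebra.FiniteType.isNoetherianRing k R
  haveI : IsNoetherianRing S := Algebra.FiniteType.isNoetherianRing k S
  haveI : IsNoetherianRing (R ⊗[k] S) := isNoetherianRing_tensor (k := k) (R := R) (S := S)
  haveI : IsNoetherianRing T :=
    Groth.Agent.S18646.result k R 𝒜 hposR h0R S ℬ hposS h0S T 𝒯 ψ hT.1 hT.2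
  have hntM : Nontrivial M := by
    rw [← Module.supportDim_ne_bot_iff_nontrivial R, hdM]
    exact WithBot.coe_ne_bot
  have hntN : Nontrivial N := by
    rw [← Module.supportDim_ne_bot_iff_nontrivial S, hdN]
    exact WithBot.coe_ne_bot
  have hdepM : LocCoh.idealDepth mR.toIdeal M = r :=
    idealDepth_eq_of_isCMAll 𝒜 hposR h0R ℳ mR.toIdeal hmR hMcm hdM
  have hdepN : LocCoh.idealDepth mS.toIdeal N = s :=
    idealDepth_eq_of_isCMAll ℬ hposS h0S 𝒩 mS.toIdeal hmS hNcm hdN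
  have hIM : mR.toIdeal • (⊤ : Submodule R M) ≠ ⊤ := by
    rw [hmR, ← irr_eq_span]; exact irr_smul_top_ne_top 𝒜 hposR h0R ℳ
  have hJN : mS.toIdeal • (⊤ : Submodule S N) ≠ ⊤ := by
    rw [hmS, ← irr_eq_span]; exact irr_smul_top_ne_top ℬ hposS h0S 𝒩
  exact Hcomp_segre_eq_bot_iff hT hP h0R h0S mR hmR mS hmS mT hmT hIM hJN r s
    (le_of_eq hdepM.symm) (le_of_eq hdepN.symm) F q hq d

include hposR h0R hposS h0S hT hmR hmS hmT hP in
/-- If `r ≥ 2`, `M_{αN} ≠ 0` and `H^r(M) # N = 0` (automatic for `s ≤ r`), then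
`depth (M # N) = s`. -/
theorem idealDepth_segre_eq_right [Nontrivial P] (r s : ℕ) (h2r : 2 ≤ r)
    (hdM : Module.supportDim R M = r) (hdN : Module.supportDim S N = s)
    (hMcm : IsCMAll R M) (hNcm : IsCMAll S N)
    (EM : StarInjRes 𝒜 ℳ) (EN : StarInjRes ℬ 𝒩) (αM βM αN βN : ℤ)
    (hβM : ∀ d : ℤ, ℳ d = ⊥ ↔ d < βM) (hβN : ∀ d : ℤ, 𝒩 d = ⊥ ↔ d < βN)
    (hαM : ∀ d : ℤ, αM < d → EM.Hcomp mR r d = ⊥)
    (hαN' : EN.Hcomp mS s αN ≠ ⊥)
    (h1 : βM ≤ αN) (h2 : s ≤ r ∨ αM < βN) :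
    LocCoh.idealDepth mT.toIdeal P = (s : ℕ∞) := by
  haveI : IsNoetherianRing R := Algebra.FiniteType.isNoetherianRing k R
  haveI : IsNoetherianRing S := Algebra.FiniteType.isNoetherianRing k S
  haveI : IsNoetherianRing (R ⊗[k] S) := isNoetherianRing_tensor (k := k) (R := R) (S := S)
  haveI : IsNoetherianRing T :=
    Groth.Agent.S18646.result k R 𝒜 hposR h0R S ℬ hposS h0S T 𝒯 ψ hT.1 hT.2
  have hposT := segre_piece_eq_bot hT hposR
  have h0T := segre_piece_zero hT h0R h0S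
  haveI : Algebra.FiniteType k T :=
    Groth.Agent.Lib.GrFTNoeth.finiteType_of_isNoetherianRing 𝒯 hposT h0T
  haveI : Module.Finite T P :=
    Groth.Agent.S19747.result k R 𝒜 hposR h0R S ℬ hposS h0S T 𝒯 ψ hT M ℳ N 𝒩 P 𝒬 φ hP
  haveI gsm : SetLike.GradedSMul 𝒯 𝒬 := ⟨fun {_ _ _ _} hr hx => smul_mem_piece hT hP hr hx⟩
  let F : StarInjRes (asGr 𝒯) 𝒬 := Groth.Agent.S13215.res (𝒜 := asGr 𝒯) 𝒬
  have hIP : (toSIdeal mT).toIdeal • (⊤ : Submodule T P) ≠ ⊤ := by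
    show mT.toIdeal • (⊤ : Submodule T P) ≠ ⊤
    rw [hmT, ← irr_eq_span]; exact irr_smul_top_ne_top 𝒯 hposT h0T 𝒬
  have key := fun (q : ℕ) (hq : q + 1 < r + s) (d : ℤ) =>
    Hcomp_segre_eq_bot_iff_cm hposR h0R hposS h0S hT mR hmR mS hmS mT hmT hP r s hdM hdN hMcm hNcm
      F q hq d
  show LocCoh.idealDepth (toSIdeal mT).toIdeal P = (s : ℕ∞)
  apply le_antisymm
  · have hnot : ¬ (((s + 1 : ℕ) : ℕ∞) ≤ LocCoh.idealDepth (toSIdeal mT).toIdeal P) := by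
      intro hle
      have h3 := (le_idealDepth_iff_forall_Hcomp (toSIdeal mT) F hIP (s + 1)).1 hle s
        (Nat.lt_succ_self s) αN
      rcases ((key s (by omega) αN).1 h3).2 with h4 | h4
      · have := (hβM αN).1 h4
        omega
      · exact hαN' ((van_iff_Hcomp mS EN s αN).1 h4)
    have hlt := not_le.1 hnot
    have hcast : ((s + 1 : ℕ) : ℕ∞) = (s : ℕ∞) + 1 := by push_cast; rfl
    rw [hcast] at hlt
    exact Order.le_of_lt_add_one hlt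
  · rw [le_idealDepth_iff_forall_Hcomp (toSIdeal mT) F hIP s]
    intro q hq d
    rw [key q (by omega) d]
    constructor
    · by_cases hqr : q = r
      · subst hqr
        rcases h2 with h2 | h2
        · omega
        · by_cases hd : d < βN
          · exact Or.inr ((hβN d).2 hd)
          · left
            rw [van_iff_Hcomp mR EM q d]
            exact hαM d (by omega)
      · exact Or.inl (van_of_ne hposR h0R mR hmR r hdM hMcm hqr d)
    · exact Or.inr (van_of_ne hposS h0S mS hmS s hdN hNcm (by omega) d)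

include hposR h0R hposS h0S hT hmR hmS hmT hP in
/-- If `s ≥ 2`, `N_{αM} ≠ 0` and `M # H^s(N) = 0` (automatic for `r ≤ s`), then
`depth (M # N) = r`. -/
theorem idealDepth_segre_eq_left [Nontrivial P] (r s : ℕ) (h2s : 2 ≤ s)
    (hdM : Module.supportDim R M = r) (hdN : Module.supportDim S N = s)
    (hMcm : IsCMAll R M) (hNcm : IsCMAll S N)
    (EM : StarInjRes 𝒜 ℳ) (EN : StarInjRes ℬ 𝒩) (αM βM αN βN : ℤ)
    (hβM : ∀ d : ℤ, ℳ d = ⊥ ↔ d < βM) (hβN : ∀ d : ℤ, 𝒩 d = ⊥ ↔ d < βN)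
    (hαM' : EM.Hcomp mR r αM ≠ ⊥)
    (hαN : ∀ d : ℤ, αN < d → EN.Hcomp mS s d = ⊥)
    (h1 : βN ≤ αM) (h2 : r ≤ s ∨ αN < βM) :
    LocCoh.idealDepth mT.toIdeal P = (r : ℕ∞) := by
  haveI : IsNoetherianRing R := Algebra.FiniteType.isNoetherianRing k R
  haveI : IsNoetherianRing S := Algebra.FiniteType.isNoetherianRing k S
  haveI : IsNoetherianRing (R ⊗[k] S) := isNoetherianRing_tensor (k := k) (R := R) (S := S)
  haveI : IsNoetherianRing T :=
    Groth.Agent.S18646.result k R 𝒜 hposR h0R S ℬ hposS h0S T 𝒯 ψ hT.1 hT.2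
  have hposT := segre_piece_eq_bot hT hposR
  have h0T := segre_piece_zero hT h0R h0S
  haveI : Algebra.FiniteType k T :=
    Groth.Agent.Lib.GrFTNoeth.finiteType_of_isNoetherianRing 𝒯 hposT h0T
  haveI : Module.Finite T P :=
    Groth.Agent.S19747.result k R 𝒜 hposR h0R S ℬ hposS h0S T 𝒯 ψ hT M ℳ N 𝒩 P 𝒬 φ hP
  haveI gsm : SetLike.GradedSMul 𝒯 𝒬 := ⟨fun {_ _ _ _} hr hx => smul_mem_piece hT hP hr hx⟩
  let F : StarInjRes (asGr 𝒯) 𝒬 := Groth.Agent.S13215.res (𝒜 := asGr 𝒯) 𝒬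
  have hIP : (toSIdeal mT).toIdeal • (⊤ : Submodule T P) ≠ ⊤ := by
    show mT.toIdeal • (⊤ : Submodule T P) ≠ ⊤
    rw [hmT, ← irr_eq_span]; exact irr_smul_top_ne_top 𝒯 hposT h0T 𝒬
  have key := fun (q : ℕ) (hq : q + 1 < r + s) (d : ℤ) =>
    Hcomp_segre_eq_bot_iff_cm hposR h0R hposS h0S hT mR hmR mS hmS mT hmT hP r s hdM hdN hMcm hNcm
      F q hq d
  show LocCoh.idealDepth (toSIdeal mT).toIdeal P = (r : ℕ∞)
  apply le_antisymm
  · have hnot : ¬ (((r + 1 : ℕ) : ℕ∞) ≤ LocCoh.idealDepth (toSIdeal mT).toIdeal P) := by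
      intro hle
      have h3 := (le_idealDepth_iff_forall_Hcomp (toSIdeal mT) F hIP (r + 1)).1 hle r
        (Nat.lt_succ_self r) αM
      rcases ((key r (by omega) αM).1 h3).1 with h4 | h4
      · exact hαM' ((van_iff_Hcomp mR EM r αM).1 h4)
      · have := (hβN αM).1 h4
        omega
    have hlt := not_le.1 hnot
    have hcast : ((r + 1 : ℕ) : ℕ∞) = (r : ℕ∞) + 1 := by push_cast; rfl
    rw [hcast] at hlt
    exact Order.le_of_lt_add_one hlt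
  · rw [le_idealDepth_iff_forall_Hcomp (toSIdeal mT) F hIP r]
    intro q hq d
    rw [key q (by omega) d]
    constructor
    · exact Or.inl (van_of_ne hposR h0R mR hmR r hdM hMcm (by omega) d)
    · by_cases hqs : q = s
      · subst hqs
        rcases h2 with h2 | h2
        · omega
        · by_cases hd : d < βM
          · exact Or.inl ((hβM d).2 hd)
          · right
            rw [van_iff_Hcomp mS EN q d]
            exact hαN d (by omega)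
      · exact Or.inr (van_of_ne hposS h0S mS hmS s hdN hNcm hqs d)

end General

end Groth.Agent.Lib.GrSegShift
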