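import Mathlib
import Groth.Agent.Lib.GrCanonType
import Groth.Agent.Lib.GrLocCM

set_option autoImplicit false
set_option linter.unusedSectionVars false
set_option linter.style.haveILetI false

universe u

namespace Groth.Agent.Lib.GrSocLen

open CategoryTheory Abelian IsLocalRing DirectSum GrLC Groth.Agent.Lib.GrTorsLoc
  Groth.Agent.Lib.LocCohLocalization

section Local

variable {A : Type u} [CommRing A] [LocCoh.IsCohenMacaulayLocalRing A] (n : ℕ)
  (hn : ringKrullDim A = n)

include hn in
/-- the type of a CM local ring is the length of the socle of its top local cohomology. -/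
theorem length_ext_residue_self_eq_soc :
    Module.length A (Ext.{u} (ModuleCat.of A (ResidueField A)) (ModuleCat.of A A) n) =
      Module.length A (Submodule.torsionBySet A (LocCoh.H (maximalIdeal A) n A)
        ((maximalIdeal A ^ 1 : Ideal A) : Set A)) := by
  have hV : ∀ (N : Type u) [AddCommGroup N] [Module A N], IsFiniteLength A N → ∀ i < n,
      Subsingleton (Abelian.Ext (ModuleCat.of A N) (ModuleCat.of A A) i) :=
    fun N _ _ hN i hi => Groth.Agent.Lib.GrCanonType.subsingleton_ext_self_of_lt n hn N hN i hi
  let e1 : Ext.{u} (Groth.Agent.Lib.LocCohConcrete.Q (maximalIdeal A) 1) (ModuleCat.of A A) n ≃ₗ[A]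
      Submodule.torsionBySet A (LocCoh.H (maximalIdeal A) n A)
        ((maximalIdeal A ^ 1 : Ideal A) : Set A) :=
    (LinearEquiv.ofInjective _ (Groth.Agent.Lib.H26TopLC.HιE_injective n A hV 1)).trans
      (LinearEquiv.ofEq _ _ (Groth.Agent.Lib.H26TopLC.range_HιE n A hV 1))
  have e7 : (A ⧸ maximalIdeal A ^ 1) ≃ₗ[A] (A ⧸ maximalIdeal A) :=
    Submodule.quotEquivOfEq _ _ (by rw [pow_one])
  have e8 := Groth.Agent.Lib.H26ExtLocIso.extCongr (R := A)
    (X := ModuleCat.of A (A ⧸ maximalIdeal A ^ 1)) (X' := ModuleCat.of A (ResidueField A))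
    e7.toModuleIso (Iso.refl (ModuleCat.of A A)) n
  rw [← e8.length_eq, e1.length_eq]

end Local

section Loc

variable {R : Type u} [CommRing R] [IsNoetherianRing R] (p : Ideal R) [hp : p.IsMaximal]
  (n : ℕ) (hn : ringKrullDim (Localization.AtPrime p) = n)
  [LocCoh.IsCohenMacaulayLocalRing (Localization.AtPrime p)]

include hn in
/-- the type of `R_p` as the length of the socle of `H^n_p(R)_p`. -/
theorem bassNum_eq_length_soc :
    GrLC.bassNum p R n =
      Module.length (Localization.AtPrime p)
        (Submodule.torsionBySet (Localization.AtPrime p)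
          (LocalizedModule p.primeCompl (LocCoh.H p n R))
          ((maximalIdeal (Localization.AtPrime p) ^ 1 : Ideal (Localization.AtPrime p)) :
            Set (Localization.AtPrime p))) := by
  let e4 : LocalizedModule p.primeCompl R ≃ₗ[Localization p.primeCompl]
      Localization p.primeCompl :=
    LinearEquiv.extendScalarsOfIsLocalization p.primeCompl
      (Localization p.primeCompl)
      (IsLocalizedModule.iso p.primeCompl
        (Algebra.linearMap R (Localization p.primeCompl)))
  have e5 := Groth.Agent.Lib.H26ExtLocIso.extCongr (R := Localization.AtPrime p)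
    (Iso.refl (ModuleCat.of (Localization.AtPrime p)
      (ResidueField (Localization.AtPrime p))))
    (Y := ModuleCat.of (Localization.AtPrime p) (LocalizedModule p.primeCompl R))
    (Y' := ModuleCat.of (Localization.AtPrime p) (Localization.AtPrime p))
    e4.toModuleIso n
  obtain ⟨e2⟩ := Groth.Agent.Lib.GrLocCM.nonempty_locH_equiv p n
  have e6 := Groth.Agent.Lib.H29CanonUniq.torsionBySetEquiv e2
    ((maximalIdeal (Localization.AtPrime p) ^ 1 : Ideal (Localization.AtPrime p)) :
            Set (Localization.AtPrime p))
  unfold GrLC.bassNum GrLC.bassNumLocal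
  rw [e5.length_eq, length_ext_residue_self_eq_soc n hn, e6.length_eq]

end Loc

end Groth.Agent.Lib.GrSocLen
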