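import Mathlib
import Groth.Agent.Lib.GrTorsLoc
import Groth.Agent.Lib.GrLenCompat

set_option autoImplicit false
set_option linter.unusedSectionVars false
set_option linter.style.haveILetI false

universe u

namespace Groth.Agent.Lib.GrSocLoc

open IsLocalRing Groth.Agent.Lib.GrTorsLoc

variable {R : Type u} [CommRing R] (p : Ideal R) [hp : p.IsMaximal]
  {N : Type u} [AddCommGroup N] [Module R N]

/-- an element of the maximal ideal of `R_p` kills `mk y 1` when `p` kills `y`. -/
theorem smul_mk_eq_zero {y : N} (hy : ∀ r ∈ p, r • y = 0) (a : Localization.AtPrime p)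
    (ha : a ∈ maximalIdeal (Localization.AtPrime p)) :
    a • (LocalizedModule.mk y 1 : LocalizedModule p.primeCompl N) = 0 := by
  obtain ⟨⟨r, s⟩, hrs⟩ := IsLocalization.surj p.primeCompl a
  have hrs' : a * algebraMap R (Localization.AtPrime p) (s : R) =
      algebraMap R (Localization.AtPrime p) r := hrs
  have hr : r ∈ p := by
    rw [← IsLocalization.AtPrime.to_map_mem_maximal_iff (Localization.AtPrime p) p r, ← hrs']
    exact Ideal.mul_mem_right _ _ ha
  have hu : IsUnit (algebraMap R (Localization.AtPrime p) (s : R)) :=
    IsLocalization.map_units _ s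
  have h1 : (a * algebraMap R (Localization.AtPrime p) (s : R)) •
      (LocalizedModule.mk y 1 : LocalizedModule p.primeCompl N) = 0 := by
    rw [hrs', algebraMap_smul, LocalizedModule.smul'_mk, hy r hr, LocalizedModule.zero_mk]
  rw [mul_comm, mul_smul] at h1
  have h2 := congrArg (fun z => (hu.unit⁻¹ : (Localization.AtPrime p)ˣ).1 • z) h1
  simp only [smul_zero] at h2
  rwa [← mul_smul, IsUnit.val_inv_mul, one_smul] at h2

variable (k : Subring R) (hk : ∀ r : R, ∃ c : k, r - (c : R) ∈ p)

include hk in
/-- every element of `R_p` is congruent to an element of `k` modulo the maximal ideal. -/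
theorem exists_sub_mem_maximalIdeal (a : Localization.AtPrime p) :
    ∃ c : k, a - algebraMap R (Localization.AtPrime p) (c : R) ∈
      maximalIdeal (Localization.AtPrime p) := by
  obtain ⟨⟨r, s⟩, hrs⟩ := IsLocalization.surj p.primeCompl a
  have hrs' : a * algebraMap R (Localization.AtPrime p) (s : R) =
      algebraMap R (Localization.AtPrime p) r := hrs
  have hs : (s : R) ∉ p := s.2
  obtain ⟨s', b, hb, hsb⟩ := exists_inv_mod_pow p hs 1
  rw [pow_one] at hb
  obtain ⟨c, hc⟩ := hk (r * s')
  refine ⟨c, ?_⟩
  have hu : IsUnit (algebraMap R (Localization.AtPrime p) (s : R)) :=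
    IsLocalization.map_units _ s
  have hmem : (a - algebraMap R (Localization.AtPrime p) (c : R)) *
      algebraMap R (Localization.AtPrime p) (s : R) ∈ maximalIdeal (Localization.AtPrime p) := by
    rw [sub_mul, hrs', ← map_mul, ← map_sub,
      IsLocalization.AtPrime.to_map_mem_maximal_iff (Localization.AtPrime p) p]
    have : r - (c : R) * (s : R) = (r * s' - (c : R)) * (s : R) + r * b := by
      have : r = r * (s' * (s : R) + b) := by rw [hsb, mul_one]
      nth_rewrite 1 [this]
      ring
    rw [this]
    exact p.add_mem (p.mul_mem_right _ hc) (p.mul_mem_left _ hb)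
  rcases (Ideal.IsPrime.mem_or_mem inferInstance hmem) with h | h
  · exact h
  · exact absurd h (fun h' => (mem_maximalIdeal _).mp h' hu)

include hk in
/-- The length over `R_p` of the socle of `N_p` equals the `k`-length of the socle of `N`, for a
`p`-power torsion module `N` and a subring `k` mapping onto `R/p`. -/
theorem length_soc_loc (htors : LocCoh.IsPowerTorsion p N) :
    Module.length (Localization.AtPrime p)
      (Submodule.torsionBySet (Localization.AtPrime p) (LocalizedModule p.primeCompl N)
        ((maximalIdeal (Localization.AtPrime p) ^ 1 : Ideal (Localization.AtPrime p)) :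
          Set (Localization.AtPrime p))) =
    Module.length k (Submodule.torsionBySet R N (p : Set R)) := by
  let β := torsLocEquiv p htors
  have hβ : ∀ y, β y = LocalizedModule.mk y 1 := fun y => rfl
  let f : Submodule.torsionBySet R N (p : Set R) ≃+
      Submodule.torsionBySet (Localization.AtPrime p) (LocalizedModule p.primeCompl N)
        ((maximalIdeal (Localization.AtPrime p) ^ 1 : Ideal (Localization.AtPrime p)) :
          Set (Localization.AtPrime p)) :=
    { toFun := fun y => ⟨β y.1, by
        rw [Submodule.mem_torsionBySet_iff]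
        rintro ⟨a, ha⟩
        rw [pow_one] at ha
        have hy := (Submodule.mem_torsionBySet_iff _ _).mp y.2
        exact smul_mk_eq_zero p (fun r hr => hy ⟨r, hr⟩) a ha⟩
      invFun := fun x => ⟨β.symm x.1, by
        rw [Submodule.mem_torsionBySet_iff]
        rintro ⟨r, hr⟩
        apply β.injective
        have hx := (Submodule.mem_torsionBySet_iff _ _).mp x.2
        have hmem : algebraMap R (Localization.AtPrime p) r ∈
            ((maximalIdeal (Localization.AtPrime p) ^ 1 : Ideal (Localization.AtPrime p)) :
              Set (Localization.AtPrime p)) := by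
          rw [pow_one]
          exact (IsLocalization.AtPrime.to_map_mem_maximal_iff (Localization.AtPrime p) p r).mpr hr
        have h1 := hx ⟨_, hmem⟩
        show β (r • β.symm x.1) = β 0
        rw [map_smul, β.apply_symm_apply, map_zero, ← algebraMap_smul (Localization.AtPrime p) r]
        exact h1⟩
      left_inv := fun y => Subtype.ext (β.symm_apply_apply y.1)
      right_inv := fun x => Subtype.ext (β.apply_symm_apply x.1)
      map_add' := fun y y' => Subtype.ext (map_add β y.1 y'.1) }
  refine Groth.Agent.Lib.GrLenCompat.length_eq_of_addEquiv f ?_ ?_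
  · intro c
    refine ⟨algebraMap R (Localization.AtPrime p) (c : R), fun y => Subtype.ext ?_⟩
    show β ((c : R) • y.1) = algebraMap R (Localization.AtPrime p) (c : R) • β y.1
    rw [map_smul, algebraMap_smul]
  · intro a
    obtain ⟨c, hc⟩ := exists_sub_mem_maximalIdeal p k hk a
    refine ⟨c, fun y => Subtype.ext ?_⟩
    show a • β y.1 = β ((c : R) • y.1)
    rw [map_smul, ← algebraMap_smul (Localization.AtPrime p) (c : R) (β y.1), ← sub_eq_zero,
      ← sub_smul]
    have hy := (Submodule.mem_torsionBySet_iff _ _).mp (f y).2
    have hmem : a - algebraMap R (Localization.AtPrime p) (c : R) ∈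
        ((maximalIdeal (Localization.AtPrime p) ^ 1 : Ideal (Localization.AtPrime p)) :
          Set (Localization.AtPrime p)) := by
      rw [pow_one]; exact hc
    exact hy ⟨_, hmem⟩

end Groth.Agent.Lib.GrSocLoc
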