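import Mathlib
import Groth.Agent.Lib.H74VerCan1

set_option autoImplicit false
set_option linter.unusedSectionVars false
set_option linter.style.haveILetI false

universe u

namespace Groth.Agent.Lib.GrVerDim

open DirectSum GrLC

section Integral

variable {R S : Type*} [CommRing R] [CommRing S] [Algebra R S]

/-- An injective integral extension does not lower the dimension. -/
theorem ringKrullDim_le_of_isIntegral_of_injective [Algebra.IsIntegral R S]
    (hinj : Function.Injective (algebraMap R S)) : ringKrullDim R ≤ ringKrullDim S := by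
  rw [ringKrullDim, Order.krullDim]
  refine iSup_le fun l ↦ ?_
  obtain ⟨Q, -, hQ, hQc⟩ := Ideal.exists_ideal_over_prime_of_isIntegral
    (S := S) l.head.asIdeal ⊥ (by
      rw [← RingHom.ker_eq_comap_bot, (RingHom.injective_iff_ker_eq_bot _).mp hinj]
      exact bot_le)
  have : Q.LiesOver l.head.asIdeal := ⟨hQc.symm⟩
  obtain ⟨L, hL, -, -⟩ := Ideal.exists_ltSeries_of_hasGoingUp l Q
  rw [← hL]
  exact Order.LTSeries.length_le_krullDim L

theorem ringKrullDim_eq_of_isIntegral_of_injective [Algebra.IsIntegral R S]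
    (hinj : Function.Injective (algebraMap R S)) : ringKrullDim R = ringKrullDim S :=
  le_antisymm (ringKrullDim_le_of_isIntegral_of_injective hinj)
    (Order.krullDim_le_of_strictMono
      (fun I ↦ ⟨Ideal.comap (algebraMap R S) I.asIdeal, inferInstance⟩)
      (fun I J hIJ ↦ by
        have : I.asIdeal < J.asIdeal := hIJ
        exact Ideal.IsIntegral.comap_lt_comap (R := R) this))

end Integral

section Veronese

variable {R R' : Type u} [CommRing R] [CommRing R']
variable {𝒜' : ℤ → AddSubgroup R'} {𝒜 : ℤ → AddSubgroup R} [GradedRing 𝒜'] [GradedRing 𝒜]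
variable (q : ℕ) (hq : 0 < q) (φ : R' →+* R) (hφ : Function.Injective φ)
  (hdeg : ∀ j : ℤ, (𝒜' j).map (φ : R' →+ R) = 𝒜 (j * q))

include hq hdeg in
/-- `R` is integral over its Veronese subring. -/
theorem isIntegral_veronese (x : R) : φ.IsIntegralElem x := by
  classical
  letI := φ.toAlgebra
  show IsIntegral R' x
  rw [← DirectSum.sum_support_decompose 𝒜 x]
  refine IsIntegral.sum _ fun j _ => ?_
  have h1 : ((decompose 𝒜 x j : R)) ^ q ∈ 𝒜 (q • j) :=
    SetLike.pow_mem_graded q (decompose 𝒜 x j).2
  have h2 : q • j = j * q := by rw [nsmul_eq_mul, mul_comm]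
  rw [h2, ← hdeg j] at h1
  obtain ⟨y, -, hy⟩ := h1
  refine ⟨Polynomial.X ^ q - Polynomial.C y, Polynomial.monic_X_pow_sub_C y hq.ne', ?_⟩
  rw [Polynomial.eval₂_sub, Polynomial.eval₂_pow, Polynomial.eval₂_X, Polynomial.eval₂_C]
  have : algebraMap R' R y = (decompose 𝒜 x j : R) ^ q := hy
  rw [this, sub_self]

include hq hφ hdeg in
theorem ringKrullDim_veronese : ringKrullDim R' = ringKrullDim R := by
  letI := φ.toAlgebra
  haveI : Algebra.IsIntegral R' R := ⟨fun x => isIntegral_veronese q hq φ hdeg x⟩
  exact ringKrullDim_eq_of_isIntegral_of_injective hφ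

end Veronese

end Groth.Agent.Lib.GrVerDim
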