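import Groth.Agent.Lib.H74VerCan1

/-!
# Canonical module of a Veronese subring II: transport of graded duals (helper74)
-/

set_option autoImplicit false
set_option linter.unusedSectionVars false
universe u

namespace Groth.Agent.Lib.H74VerCan

open DirectSum GrLC

section Transport

variable {R R' : Type u} [CommRing R] [CommRing R']
variable {𝒜' : ℤ → AddSubgroup R'} {𝒜 : ℤ → AddSubgroup R} [GradedRing 𝒜'] [GradedRing 𝒜]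
variable (q : ℕ) (hq : 0 < q) (φ : R' →+* R) (hφ : Function.Injective φ)
  (hdeg : ∀ j : ℤ, (𝒜' j).map (φ : R' →+ R) = 𝒜 (j * q))
variable {C : Type u} [AddCommGroup C] [Module R C] (𝒞 : ℤ → AddSubgroup C) [Decomposition 𝒞]
  [SetLike.GradedSMul 𝒜 𝒞]
variable {C' : Type u} [AddCommGroup C'] [Module R' C'] (𝒞' : ℤ → AddSubgroup C')
  [Decomposition 𝒞'] [SetLike.GradedSMul 𝒜' 𝒞']
variable {H : Type u} [AddCommGroup H] [Module R H] [Module (deg0 𝒜) H]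
  [IsScalarTower (deg0 𝒜) R H] (ℋ : ℤ → Submodule (deg0 𝒜) H)
variable {H' : Type u} [AddCommGroup H'] [Module R' H'] [Module (deg0 𝒜') H']
  [IsScalarTower (deg0 𝒜') R' H'] (ℋ' : ℤ → Submodule (deg0 𝒜') H')
variable (Ψ : H' →+ H) (hΨ1 : ∀ (r : R') (x : H'), Ψ (r • x) = φ r • Ψ x)
  (hΨ2 : Function.Injective Ψ)
  (hΨ3 : ∀ j x, x ∈ ℋ' j → Ψ x ∈ ℋ (j * q))
  (hΨ4 : ∀ j y, y ∈ ℋ (j * q) → ∃ x ∈ ℋ' j, Ψ x = y)
  (hℋ' : ∀ (i d : ℤ) (r : R') (y : H'), r ∈ 𝒜' i → y ∈ ℋ' d → r • y ∈ ℋ' (d + i))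
variable (β : H →ₗ[deg0 𝒜] C →ₗ[deg0 𝒜] deg0 𝒜) (β' : H' →ₗ[deg0 𝒜'] C' →ₗ[deg0 𝒜'] deg0 𝒜')
  (hβ1 : ∀ (r : R) (h : H) (c : C), β (r • h) c = β h (r • c))
  (hβ'1 : ∀ (r : R') (h : H') (c : C'), β' (r • h) c = β' h (r • c))
  (hβ3 : ∀ (d : ℤ) (c : C), c ∈ 𝒞 (-d) → (∀ h ∈ ℋ d, β h c = 0) → c = 0)
  (hβ'3 : ∀ (d : ℤ) (c : C'), c ∈ 𝒞' (-d) → (∀ h ∈ ℋ' d, β' h c = 0) → c = 0)
  (hβ4 : ∀ (d : ℤ) (μ : ℋ d →ₗ[deg0 𝒜] deg0 𝒜),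
    ∃ c ∈ 𝒞 (-d), ∀ (h : H) (hh : h ∈ ℋ d), β h c = μ ⟨h, hh⟩)
  (hβ'4 : ∀ (d : ℤ) (μ : ℋ' d →ₗ[deg0 𝒜'] deg0 𝒜'),
    ∃ c ∈ 𝒞' (-d), ∀ (h : H') (hh : h ∈ ℋ' d), β' h c = μ ⟨h, hh⟩)

theorem tower_smul {S : Type*} [CommRing S] (B : Subring S) {X : Type*} [AddCommGroup X]
    [Module S X] [Module B X] [IsScalarTower B S X] (a : B) (x : X) : a • x = (a : S) • x := by
  rw [← smul_one_smul S a x]
  congr 1
  rw [Subring.smul_def, smul_eq_mul, mul_one]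

/-- The relation defining the transported map. -/
def Rel (j : ℤ) (c' : C') (c : C) : Prop :=
  c ∈ 𝒞 (j * q) ∧ ∀ x ∈ ℋ' (-j), β (Ψ x) c = phi0 q φ hdeg (β' x c')

include hΨ1 in
theorem psi_smul (a' : deg0 𝒜') (x : H') : Ψ (a' • x) = phi0 q φ hdeg a' • Ψ x := by
  rw [tower_smul (deg0 𝒜') a' x, hΨ1, tower_smul (deg0 𝒜) (phi0 q φ hdeg a') (Ψ x)]
  rfl

include hΨ4 hβ3 in
theorem rel_unique {j : ℤ} {c' : C'} {c₁ c₂ : C}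
    (h₁ : Rel q φ hdeg 𝒞 ℋ' Ψ β β' j c' c₁) (h₂ : Rel q φ hdeg 𝒞 ℋ' Ψ β β' j c' c₂) :
    c₁ = c₂ := by
  have h3 : c₁ - c₂ = 0 := by
    refine hβ3 (-(j * q)) (c₁ - c₂) ?_ ?_
    · rw [neg_neg]
      exact sub_mem h₁.1 h₂.1
    · intro h hh
      rw [← neg_mul] at hh
      obtain ⟨x, hx, rfl⟩ := hΨ4 (-j) h hh
      rw [map_sub, h₁.2 x hx, h₂.2 x hx, sub_self]
  exact sub_eq_zero.mp h3

include hφ hΨ1 hΨ2 hΨ3 hΨ4 hβ4 in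
theorem rel_exists (j : ℤ) (c' : C') : ∃ c, Rel q φ hdeg 𝒞 ℋ' Ψ β β' j c' c := by
  have hmem : ∀ x : ℋ' (-j), Ψ x.1 ∈ ℋ (-(j * q)) := by
    intro x
    have := hΨ3 (-j) x.1 x.2
    rwa [neg_mul] at this
  let Ψj₀ : ℋ' (-j) →+ ℋ (-(j * q)) :=
    { toFun := fun x => ⟨Ψ x.1, hmem x⟩
      map_zero' := Subtype.ext (map_zero Ψ)
      map_add' := fun x y => Subtype.ext (map_add Ψ x.1 y.1) }
  have hbij : Function.Bijective Ψj₀ := by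
    constructor
    · intro x y hxy
      apply Subtype.ext
      apply hΨ2
      exact congrArg Subtype.val hxy
    · intro y
      have hy : y.1 ∈ ℋ (-j * q) := by
        rw [neg_mul]
        exact y.2
      obtain ⟨x, hx, hxy⟩ := hΨ4 (-j) y.1 hy
      exact ⟨⟨x, hx⟩, Subtype.ext hxy⟩
  let Ψj : ℋ' (-j) ≃+ ℋ (-(j * q)) := AddEquiv.ofBijective Ψj₀ hbij
  have hΨj : ∀ x : ℋ' (-j), ((Ψj x : ℋ (-(j * q))) : H) = Ψ x.1 := fun x => rfl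
  have hsymm : ∀ (a' : deg0 𝒜') (h : ℋ (-(j * q))),
      Ψj.symm (phi0 q φ hdeg a' • h) = a' • Ψj.symm h := by
    intro a' h
    apply Ψj.injective
    rw [AddEquiv.apply_symm_apply]
    apply Subtype.ext
    rw [hΨj]
    show _ = Ψ (a' • (Ψj.symm h).1)
    rw [psi_smul q φ hdeg Ψ hΨ1, ← hΨj, AddEquiv.apply_symm_apply]
    rfl
  let μ : ℋ (-(j * q)) →ₗ[deg0 𝒜] deg0 𝒜 :=
    { toFun := fun h => phi0 q φ hdeg (β' (Ψj.symm h).1 c')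
      map_add' := fun h h' => by
        rw [map_add, Submodule.coe_add, map_add, LinearMap.add_apply, map_add]
      map_smul' := fun a h => by
        obtain ⟨a', rfl⟩ := (phi0_bijective q φ hφ hdeg).2 a
        rw [hsymm, Submodule.coe_smul, map_smul, LinearMap.smul_apply, smul_eq_mul, map_mul,
          RingHom.id_apply, smul_eq_mul] }
  obtain ⟨c, hc, hcμ⟩ := hβ4 (-(j * q)) μ
  rw [neg_neg] at hc
  refine ⟨c, hc, ?_⟩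
  intro x hx
  rw [hcμ (Ψ x) (hmem ⟨x, hx⟩)]
  show phi0 q φ hdeg (β' (Ψj.symm (Ψj ⟨x, hx⟩)).1 c') = _
  rw [AddEquiv.symm_apply_apply]

theorem rel_add {j : ℤ} {c'₁ c'₂ : C'} {c₁ c₂ : C}
    (h₁ : Rel q φ hdeg 𝒞 ℋ' Ψ β β' j c'₁ c₁) (h₂ : Rel q φ hdeg 𝒞 ℋ' Ψ β β' j c'₂ c₂) :
    Rel q φ hdeg 𝒞 ℋ' Ψ β β' j (c'₁ + c'₂) (c₁ + c₂) := by
  refine ⟨add_mem h₁.1 h₂.1, fun x hx => ?_⟩
  rw [map_add, map_add, map_add, h₁.2 x hx, h₂.2 x hx]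

theorem rel_zero (j : ℤ) : Rel q φ hdeg 𝒞 ℋ' Ψ β β' j 0 0 := by
  refine ⟨zero_mem _, fun x hx => ?_⟩
  rw [map_zero, map_zero, map_zero]

include hdeg hΨ1 hℋ' hβ1 hβ'1 in
theorem rel_smul {i j : ℤ} {r : R'} (hr : r ∈ 𝒜' i) {c' : C'} {c : C}
    (h : Rel q φ hdeg 𝒞 ℋ' Ψ β β' j c' c) :
    Rel q φ hdeg 𝒞 ℋ' Ψ β β' (i + j) (r • c') (φ r • c) := by
  constructor
  · have h1 : φ r ∈ 𝒜 (i * q) := by
      rw [← hdeg]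
      exact ⟨r, hr, rfl⟩
    have h2 := SetLike.GradedSMul.smul_mem (A := 𝒜) (B := 𝒞) h1 h.1
    rw [vadd_eq_add, ← add_mul] at h2
    exact h2
  · intro x hx
    have hrx : r • x ∈ ℋ' (-j) := by
      have := hℋ' i (-(i + j)) r x hr hx
      have e : -(i + j) + i = -j := by ring
      rwa [e] at this
    rw [← hβ1, ← hΨ1, h.2 (r • x) hrx, hβ'1]

end Transport

section Main

variable {R R' : Type u} [CommRing R] [CommRing R']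
variable {𝒜' : ℤ → AddSubgroup R'} {𝒜 : ℤ → AddSubgroup R} [GradedRing 𝒜'] [GradedRing 𝒜]
variable (q : ℕ) (hq : 0 < q) (φ : R' →+* R) (hφ : Function.Injective φ)
  (hdeg : ∀ j : ℤ, (𝒜' j).map (φ : R' →+ R) = 𝒜 (j * q))
variable {C : Type u} [AddCommGroup C] [Module R C] (𝒞 : ℤ → AddSubgroup C) [Decomposition 𝒞]
  [SetLike.GradedSMul 𝒜 𝒞]
variable {C' : Type u} [AddCommGroup C'] [Module R' C'] (𝒞' : ℤ → AddSubgroup C')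
  [Decomposition 𝒞'] [SetLike.GradedSMul 𝒜' 𝒞']
variable {H : Type u} [AddCommGroup H] [Module R H] [Module (deg0 𝒜) H]
  [IsScalarTower (deg0 𝒜) R H] (ℋ : ℤ → Submodule (deg0 𝒜) H)
variable {H' : Type u} [AddCommGroup H'] [Module R' H'] [Module (deg0 𝒜') H']
  [IsScalarTower (deg0 𝒜') R' H'] (ℋ' : ℤ → Submodule (deg0 𝒜') H')
variable (Ψ : H' →+ H) (hΨ1 : ∀ (r : R') (x : H'), Ψ (r • x) = φ r • Ψ x)
  (hΨ2 : Function.Injective Ψ)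
  (hΨ3 : ∀ j x, x ∈ ℋ' j → Ψ x ∈ ℋ (j * q))
  (hΨ4 : ∀ j y, y ∈ ℋ (j * q) → ∃ x ∈ ℋ' j, Ψ x = y)
  (hℋ' : ∀ (i d : ℤ) (r : R') (y : H'), r ∈ 𝒜' i → y ∈ ℋ' d → r • y ∈ ℋ' (d + i))
variable (β : H →ₗ[deg0 𝒜] C →ₗ[deg0 𝒜] deg0 𝒜) (β' : H' →ₗ[deg0 𝒜'] C' →ₗ[deg0 𝒜'] deg0 𝒜')
  (hβ1 : ∀ (r : R) (h : H) (c : C), β (r • h) c = β h (r • c))
  (hβ'1 : ∀ (r : R') (h : H') (c : C'), β' (r • h) c = β' h (r • c))
  (hβ3 : ∀ (d : ℤ) (c : C), c ∈ 𝒞 (-d) → (∀ h ∈ ℋ d, β h c = 0) → c = 0)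
  (hβ'3 : ∀ (d : ℤ) (c : C'), c ∈ 𝒞' (-d) → (∀ h ∈ ℋ' d, β' h c = 0) → c = 0)
  (hβ4 : ∀ (d : ℤ) (μ : ℋ d →ₗ[deg0 𝒜] deg0 𝒜),
    ∃ c ∈ 𝒞 (-d), ∀ (h : H) (hh : h ∈ ℋ d), β h c = μ ⟨h, hh⟩)
  (hβ'4 : ∀ (d : ℤ) (μ : ℋ' d →ₗ[deg0 𝒜'] deg0 𝒜'),
    ∃ c ∈ 𝒞' (-d), ∀ (h : H') (hh : h ∈ ℋ' d), β' h c = μ ⟨h, hh⟩)

include hq hφ hdeg hΨ1 hΨ2 hΨ3 hΨ4 hℋ' hβ1 hβ'1 hβ3 hβ'3 hβ4 hβ'4 in
/-- **Transport of graded duals along a Veronese comparison**: if `C`, `C'` are perfectly paired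
with `H`, `H'` and `H' ≅ H^{(q)}` semilinearly, then `C' ≅ C^{(q)}` semilinearly. -/
theorem exists_veronese_dual :
    ∃ g : C' →ₛₗ[φ] C, Function.Injective g ∧
      ∀ j : ℤ, (𝒞' j).map (g : C' →+ C) = 𝒞 (j * q) := by
  have hex := rel_exists q φ hφ hdeg 𝒞 ℋ ℋ' Ψ hΨ1 hΨ2 hΨ3 hΨ4 β β' hβ4
  choose gf hgf using hex
  have huniq : ∀ {j : ℤ} {c' : C'} {c : C}, Rel q φ hdeg 𝒞 ℋ' Ψ β β' j c' c → gf j c' = c :=
    fun {j c' c} h => rel_unique q φ hdeg 𝒞 ℋ ℋ' Ψ hΨ4 β β' hβ3 (hgf j c') h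
  let g : ∀ j, 𝒞' j →+ C := fun j =>
    { toFun := fun x => gf j x.1
      map_zero' := huniq (rel_zero q φ hdeg 𝒞 ℋ' Ψ β β' j)
      map_add' := fun x y => huniq (rel_add q φ hdeg 𝒞 ℋ' Ψ β β' (hgf j x.1) (hgf j y.1)) }
  have hq' : (q : ℤ) ≠ 0 := by exact_mod_cast hq.ne'
  refine exists_glue 𝒜' φ (fun j => j * q) (fun i j hij => mul_right_cancel₀ hq' hij) 𝒞 𝒞' g
    (fun j x => (hgf j x.1).1) ?_ ?_ ?_
  · intro i j r hr x hx hrx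
    exact huniq (rel_smul q φ hdeg 𝒞 ℋ' Ψ hΨ1 hℋ' β β' hβ1 hβ'1 hr (hgf j x))
  · intro j
    rw [injective_iff_map_eq_zero]
    intro x hx
    have hx' : gf j x.1 = 0 := hx
    have hrel := hgf j x.1
    rw [hx'] at hrel
    apply Subtype.ext
    refine hβ'3 (-j) x.1 (by rw [neg_neg]; exact x.2) ?_
    intro y hy
    have h1 := hrel.2 y hy
    rw [map_zero] at h1
    apply (phi0_bijective q φ hφ hdeg).1
    rw [← h1, map_zero]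
  · intro j c hc
    let φe : deg0 𝒜' ≃+* deg0 𝒜 :=
      RingEquiv.ofBijective (phi0 q φ hdeg) (phi0_bijective q φ hφ hdeg)
    have hφe : ∀ a, φe a = phi0 q φ hdeg a := fun a => rfl
    let μ' : ℋ' (-j) →ₗ[deg0 𝒜'] deg0 𝒜' :=
      { toFun := fun y => φe.symm (β (Ψ y.1) c)
        map_add' := fun y y' => by
          rw [Submodule.coe_add, map_add, map_add, LinearMap.add_apply, map_add]
        map_smul' := fun a y => by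
          rw [Submodule.coe_smul, psi_smul q φ hdeg Ψ hΨ1, map_smul, LinearMap.smul_apply,
            smul_eq_mul, map_mul, RingHom.id_apply, smul_eq_mul, ← hφe, RingEquiv.symm_apply_apply] }
    obtain ⟨x, hx, hxμ⟩ := hβ'4 (-j) μ'
    rw [neg_neg] at hx
    refine ⟨⟨x, hx⟩, ?_⟩
    show gf j x = c
    refine huniq ⟨hc, fun y hy => ?_⟩
    rw [hxμ y hy]
    show _ = φe (φe.symm (β (Ψ y) c))
    rw [RingEquiv.apply_symm_apply]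

end Main

end Groth.Agent.Lib.H74VerCan
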