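import Groth.Agent.Lib.GrVer6
import Groth.Agent.Lib.H74Matlis6
import Groth.Agent.Lib.H74VerCan2
import Groth.Agent.Lib.GrLCMap

/-!
# Canonical module of a Veronese subring III: `K_{R^{(q)}} = (K_R)^{(q)}` (helper74)
-/

set_option autoImplicit false
set_option linter.unusedSectionVars false
universe u

namespace Groth.Agent.Lib.H74VerCan

open DirectSum GrLC Groth.Agent.Lib.GrVer Groth.Agent.Lib.H74Matlis

section Sigma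

variable {R R' : Type u} [CommRing R] [CommRing R'] [IsNoetherianRing R]
variable {𝒜' : ℤ → AddSubgroup R'} {𝒜 : ℤ → AddSubgroup R} [GradedRing 𝒜'] [GradedRing 𝒜]
variable (q : ℕ) (hq : 0 < q) (φ : R' →+* R) (hφ : Function.Injective φ)
  (hdeg : ∀ j : ℤ, (𝒜' j).map (φ : R' →+ R) = 𝒜 (j * q))

/-- `φ` as a `φ`-semilinear map. -/
def phiSl : R' →ₛₗ[φ] R where
  toFun := φ
  map_add' := map_add φ
  map_smul' r x := by simp [smul_eq_mul]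

include hq hφ hdeg in
theorem isNoetherianRing_veronese : IsNoetherianRing R' := by
  have hsurj : ∀ j, ∀ r ∈ 𝒜 ((vdataInt q hq φ hdeg).ψ j), ∃ s ∈ 𝒜' j,
      (vdataInt q hq φ hdeg).φ s = r := by
    intro j r hr
    have hr' : r ∈ 𝒜 (j * q) := hr
    rw [← hdeg] at hr'
    exact hr'
  exact isNoetherianRing_ver (vdataInt q hq φ hdeg) hφ hsurj

include hq hφ hdeg in
/-- The semilinear comparison of the local cohomologies of `R^{(q)}` and `R`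
(helper12's Veronese theorem for `M = R`). -/
theorem exists_sigma (m : HomogeneousIdeal 𝒜) (m' : HomogeneousIdeal 𝒜')
    (hmsp : m.toIdeal = Ideal.span (⋃ n ∈ Set.Ioi (0 : ℤ), (𝒜 n : Set R)))
    (hm'sp : m'.toIdeal = Ideal.span (⋃ j ∈ Set.Ioi (0 : ℤ), (𝒜' j : Set R')))
    (I : StarInjRes 𝒜 𝒜) (I' : StarInjRes 𝒜' 𝒜') (n : ℕ) :
    ∃ Ψ : I'.H m' n →+ I.H m n,
      (∀ (r : R') (x : I'.H m' n), Ψ (r • x) = φ r • Ψ x) ∧ Function.Injective Ψ ∧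
      (∀ j x, x ∈ I'.Hcomp m' n j → Ψ x ∈ I.Hcomp m n (j * q)) ∧
      (∀ j y, y ∈ I.Hcomp m n (j * q) → ∃ x ∈ I'.Hcomp m' n j, Ψ x = y) := by
  have : IsNoetherianRing R' := isNoetherianRing_veronese q hq φ hφ hdeg
  have hc := idealCompat_irrelevant q hq φ hdeg hmsp hm'sp
  have hgdeg : ∀ j : ℤ, (𝒜' j).map ((phiSl φ : R' →ₛₗ[φ] R) : R' →+ R) = 𝒜 (j * q) := by
    intro j
    rw [← hdeg j]
    rfl
  have hg : Function.Injective (phiSl φ) := hφ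
  exact exists_semilinear_H (vdataInt q hq φ hdeg) m' m hc I I'
    (theta q hq φ hdeg (phiSl φ) hg hgdeg) (theta_isGrHom q hq φ hdeg (phiSl φ) hg hgdeg)
    (theta_symm_isGrHom q hq φ hdeg (phiSl φ) hg hgdeg) n

end Sigma

section Final

variable {R : Type u} [CommRing R] [IsNoetherianRing R] (𝒜 : ℤ → AddSubgroup R) [GradedRing 𝒜]
  (hpos : ∀ n : ℤ, n < 0 → 𝒜 n = ⊥) (h0 : IsField (deg0 𝒜)) (m : HomogeneousIdeal 𝒜)
  (hmsp : m.toIdeal = Ideal.span (⋃ n ∈ Set.Ioi (0 : ℤ), (𝒜 n : Set R)))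
  (n : ℕ) (I : StarInjRes 𝒜 𝒜)
  {E' : Type u} [AddCommGroup E'] [Module R E'] (𝓔 : ℤ → AddSubgroup E') [Decomposition 𝓔]
  [SetLike.GradedSMul 𝒜 𝓔] (e : (R ⧸ m.toIdeal) →ₗ[R] E')
  (he : IsStarInjHull 𝒜 (quotGr 𝒜 m) 𝓔 e)
  {C : Type u} [AddCommGroup C] [Module R C] (𝒞 : ℤ → AddSubgroup C) [Decomposition 𝒞]
  [SetLike.GradedSMul 𝒜 𝒞] (hC : IsStarCanonical 𝒜 𝒞 𝓔 m n I)
  (q : ℕ) (hq : 0 < q) {R' : Type u} [CommRing R'] (𝒜' : ℤ → AddSubgroup R') [GradedRing 𝒜']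
  (φ : R' →+* R) (hφ : Function.Injective φ)
  (hdeg : ∀ j : ℤ, (𝒜' j).map (φ : R' →+ R) = 𝒜 (j * q))
  (m' : HomogeneousIdeal 𝒜')
  (hm'sp : m'.toIdeal = Ideal.span (⋃ j ∈ Set.Ioi (0 : ℤ), (𝒜' j : Set R')))
  (I' : StarInjRes 𝒜' 𝒜')
  {E'' : Type u} [AddCommGroup E''] [Module R' E''] (𝓔'' : ℤ → AddSubgroup E'')
  [Decomposition 𝓔''] [SetLike.GradedSMul 𝒜' 𝓔''] (e' : (R' ⧸ m'.toIdeal) →ₗ[R'] E'')
  (he' : IsStarInjHull 𝒜' (quotGr 𝒜' m') 𝓔'' e')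
  {C' : Type u} [AddCommGroup C'] [Module R' C'] (𝒞' : ℤ → AddSubgroup C') [Decomposition 𝒞']
  [SetLike.GradedSMul 𝒜' 𝒞'] (hC' : IsStarCanonical 𝒜' 𝒞' 𝓔'' m' n I')

include hpos h0 hmsp he hC hq hφ hdeg hm'sp he' hC' in
/-- **Goto–Watanabe**: `K_{R^{(q)}} = (K_R)^{(q)}`. -/
theorem veronese_canonical :
    ∃ g : C' →ₛₗ[φ] C, Function.Injective g ∧
      ∀ j : ℤ, (𝒞' j).map (g : C' →+ C) = 𝒞 (j * q) := by
  obtain ⟨hfin, φC, hφC⟩ := hC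
  obtain ⟨hfin', φC', hφC'⟩ := hC'
  have hpos' := piece_eq_bot q φ hφ hdeg hq hpos
  have h0' := isField_deg0 q φ hφ hdeg h0
  have : IsNoetherianRing R' := isNoetherianRing_veronese q hq φ hφ hdeg
  obtain ⟨Ψ, h1, h2, h3, h4⟩ := exists_sigma q hq φ hφ hdeg m m' hmsp hm'sp I I' n
  exact exists_veronese_dual q hq φ hφ hdeg 𝒞 𝒞' (I.Hcomp m n) (I'.Hcomp m' n) Ψ h1 h2 h3 h4
    (fun i d r y hr hy => Groth.Agent.Lib.GrLCMap.smul_mem_Hcomp I' m' hr n hy)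
    (pair 𝒜 hpos h0 m hmsp 𝓔 e he n I φC) (pair 𝒜' hpos' h0' m' hm'sp 𝓔'' e' he' n I' φC')
    (pair_smul 𝒜 hpos h0 m hmsp 𝓔 e he n I φC)
    (pair_smul 𝒜' hpos' h0' m' hm'sp 𝓔'' e' he' n I' φC')
    (fun d c hc hz => eq_zero_of_pair_right 𝒜 hpos h0 m hmsp 𝓔 e he 𝒞 n I φC hφC hc hz)
    (fun d c hc hz =>
      eq_zero_of_pair_right 𝒜' hpos' h0' m' hm'sp 𝓔'' e' he' 𝒞' n I' φC' hφC' hc hz)
    (fun d μ => exists_pair_right 𝒜 hpos h0 m hmsp 𝓔 e he 𝒞 n I φC hφC μ)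
    (fun d μ => exists_pair_right 𝒜' hpos' h0' m' hm'sp 𝓔'' e' he' 𝒞' n I' φC' hφC' μ)

end Final

end Groth.Agent.Lib.H74VerCan
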