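import Mathlib
import Groth.Agent.Lib.GrGorDual
import Groth.Agent.Lib.GrPerf2
import Groth.Agent.Lib.GrPerf3
import Groth.Agent.Lib.GrLocCM
import Groth.Agent.Lib.GrVerDim
import Groth.Agent.Lib.GrHullEx
import Groth.Agent.Lib.H74VerCan3
import Groth.Agent.Lib.GrHilbMono
import Groth.Agent.Lib.GrCanonDepth
import Groth.Agent.Lib.GrCanonGor
import Groth.Agent.S18656
import Groth.Agent.S13215
import Groth.Agent.S7701

set_option autoImplicit false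
set_option linter.unusedSectionVars false
set_option linter.style.haveILetI false

universe u

namespace Groth.Agent.Lib.GrVerGor

open DirectSum GrLC IsLocalRing Groth.Agent.Lib.GrPerf Groth.Agent.Lib.GrBridgeLocal

section Criterion

variable {R : Type u} [CommRing R] [IsNoetherianRing R] (𝒜 : ℤ → AddSubgroup R) [GradedRing 𝒜]
  (hpos : ∀ n : ℤ, n < 0 → 𝒜 n = ⊥) (h0 : IsField (deg0 𝒜))
  (m : HomogeneousIdeal 𝒜)
  (hmsp : m.toIdeal = Ideal.span (⋃ n ∈ Set.Ioi (0 : ℤ), (𝒜 n : Set R)))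
  [hmax : m.toIdeal.IsMaximal]
  (n : ℕ) (I : StarInjRes 𝒜 𝒜) [Decomposition (I.Hgr m n)] [SetLike.GradedSMul 𝒜 (I.Hgr m n)]
  {a : ℤ} {τ : I.H m n →ₗ[deg0 𝒜] deg0 𝒜} (hP : PerfData 𝒜 (I.Hgr m n) a τ)
  [LocCoh.IsCohenMacaulayLocalRing (Localization.AtPrime m.toIdeal)]
  (hdim : ringKrullDim (Localization.AtPrime m.toIdeal) = n)

include hpos h0 hmsp hP hdim in
/-- **Gorenstein criterion**: a positively graded ring over a field whose top local cohomology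
carries a perfect pairing against `R` is Gorenstein at the irrelevant ideal. -/
theorem isGorensteinLocalRing_of_perfData :
    LocCoh.IsGorensteinLocalRing (Localization.AtPrime m.toIdeal) := by
  obtain ⟨E, e, he⟩ := Groth.Agent.Lib.GrHullEx.exists_hull 𝒜 m
  obtain ⟨Θ⟩ := nonempty_equiv_of_perfData 𝒜 hpos h0 m hmsp E.gr e he (I.Hgr m n) hP
  obtain ⟨ψ0⟩ := Groth.Agent.S13224.main m I n
  let ψ : (R →ₗ[R] E.carrier) ≃ₗ[R] LocCoh.H m.toIdeal n R :=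
    (LinearMap.ringLmapEquivSelf R R E.carrier).trans (Θ.symm.trans ψ0)
  obtain ⟨eK⟩ := nonempty_eK m.toIdeal n ψ
  have hf := isInjectiveHull_fA m.toIdeal e
    { injective := he.injective
      essential := Groth.Agent.Lib.GrEInj.essential 𝒜 hpos m hmsp E.gr e he
      isInjective := Groth.Agent.Lib.GrEInj.injective 𝒜 hpos h0 m hmsp E.gr e he }
  refine (Groth.Agent.S7701.result (Localization.AtPrime m.toIdeal) n hdim _
    (fA m.toIdeal e) hf (LocalizedModule m.toIdeal.primeCompl R) eK).mpr ⟨?_⟩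
  exact LinearEquiv.extendScalarsOfIsLocalization m.toIdeal.primeCompl
    (Localization m.toIdeal.primeCompl)
    (IsLocalizedModule.iso m.toIdeal.primeCompl
      (Algebra.linearMap R (Localization m.toIdeal.primeCompl)))

end Criterion

section RSide

variable {R : Type u} [CommRing R] [hG : LocCoh.IsGorensteinRing R]
  (𝒜 : ℤ → AddSubgroup R) [GradedRing 𝒜]
  (hpos : ∀ n : ℤ, n < 0 → 𝒜 n = ⊥) (h0 : IsField (deg0 𝒜))
  (m : HomogeneousIdeal 𝒜) (hm : GrLC.IsStarLocal 𝒜 m)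
  (hmsp : m.toIdeal = Ideal.span (⋃ n ∈ Set.Ioi (0 : ℤ), (𝒜 n : Set R)))
  (n : ℕ) (hn : ringKrullDim R = n) (I : GrLC.StarInjRes 𝒜 𝒜)
  [Decomposition (I.Hgr m n)] [SetLike.GradedSMul 𝒜 (I.Hgr m n)]
  (a : ℤ) (ha : GrLC.endDeg (I.Hgr m n) = ((a : WithTop ℤ) : WithBot (WithTop ℤ)))

include hpos h0 hm hmsp hn ha in
/-- For a Gorenstein graded ring over a field, the top local cohomology carries a perfect pairing
against `R` with values in degree `a(R)`. -/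
theorem exists_perfData :
    ∃ τ : I.H m n →ₗ[deg0 𝒜] deg0 𝒜, PerfData 𝒜 (I.Hgr m n) a τ := by
  obtain ⟨E, e, he⟩ := Groth.Agent.Lib.GrHullEx.exists_hull 𝒜 m
  obtain ⟨Θ⟩ := Groth.Agent.Lib.GrGorDual.nonempty_H_equiv 𝒜 hpos h0 m hm hmsp n hn I E.gr e he
  exact ⟨_, perfData_of_equiv 𝒜 hpos h0 m hmsp E.gr e he (I.Hgr m n) Θ
    (Groth.Agent.Lib.GrCanonDepth.eq_bot_of_endDeg_lt _ a ha)
    (Groth.Agent.S18656.ne_bot_of_endDeg_eq _ a ha)⟩

end RSide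

section VerCM

variable {R R' : Type u} [CommRing R] [CommRing R'] [hCM : LocCoh.IsCohenMacaulayRing R]
  (𝒜 : ℤ → AddSubgroup R) [GradedRing 𝒜]
  (hpos : ∀ n : ℤ, n < 0 → 𝒜 n = ⊥) (h0 : IsField (deg0 𝒜))
  (m : HomogeneousIdeal 𝒜) (hm : GrLC.IsStarLocal 𝒜 m)
  (hmsp : m.toIdeal = Ideal.span (⋃ n ∈ Set.Ioi (0 : ℤ), (𝒜 n : Set R)))
  (n : ℕ) (hn : ringKrullDim R = n) (I : GrLC.StarInjRes 𝒜 𝒜)
  (q : ℕ) (hq : 0 < q) (𝒜' : ℤ → AddSubgroup R') [GradedRing 𝒜']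
  (φ : R' →+* R) (hφ : Function.Injective φ)
  (hdeg : ∀ j : ℤ, (𝒜' j).map (φ : R' →+ R) = 𝒜 (j * q))
  (m' : HomogeneousIdeal 𝒜')
  (hm'sp : m'.toIdeal = Ideal.span (⋃ j ∈ Set.Ioi (0 : ℤ), (𝒜' j : Set R')))

include hpos hm hmsp hn hq hφ hdeg hm'sp in
/-- local cohomology of the Veronese subring of a Cohen–Macaulay graded ring vanishes below the
dimension. -/
theorem subsingleton_H_veronese (i : ℕ) (hi : i < n) :
    Subsingleton (LocCoh.H m'.toIdeal i R') := by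
  haveI : IsNoetherianRing R' := Groth.Agent.Lib.H74VerCan.isNoetherianRing_veronese q hq φ hφ hdeg
  haveI hmax : m.toIdeal.IsMaximal :=
    Groth.Agent.Lib.H74GrArt.isMaximal_of_isStarLocal 𝒜 hpos m hm
  haveI := LocCoh.IsCohenMacaulayRing.isCohenMacaulayLocalRing_localization m.toIdeal
  have hnA := Groth.Agent.Lib.GrCanonBridge.dim_loc 𝒜 hpos m hm n hn
  haveI h1 : Subsingleton (LocCoh.H m.toIdeal i R) :=
    Groth.Agent.Lib.GrLocCM.subsingleton_H_of_cm m.toIdeal n hnA i hi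
  obtain ⟨I'⟩ := Groth.Agent.S13215.result R' 𝒜' R' 𝒜'
  obtain ⟨I⟩ := Groth.Agent.S13215.result R 𝒜 R 𝒜
  obtain ⟨ψ⟩ := Groth.Agent.S13224.main m I i
  obtain ⟨ψ'⟩ := Groth.Agent.S13224.main m' I' i
  obtain ⟨Ψ, -, hΨ2, -, -⟩ :=
    Groth.Agent.Lib.H74VerCan.exists_sigma q hq φ hφ hdeg m m' hmsp hm'sp I I' i
  haveI h2 : Subsingleton (I.H m i) := ψ.toEquiv.subsingleton
  haveI h3 : Subsingleton (I'.H m' i) := hΨ2.subsingleton
  exact ψ'.symm.toEquiv.subsingleton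

end VerCM

section VerGor

variable {R R' : Type u} [CommRing R] [CommRing R'] [hG : LocCoh.IsGorensteinRing R]
  (𝒜 : ℤ → AddSubgroup R) [GradedRing 𝒜]
  (hpos : ∀ n : ℤ, n < 0 → 𝒜 n = ⊥) (h0 : IsField (deg0 𝒜))
  (m : HomogeneousIdeal 𝒜) (hm : GrLC.IsStarLocal 𝒜 m)
  (hmsp : m.toIdeal = Ideal.span (⋃ n ∈ Set.Ioi (0 : ℤ), (𝒜 n : Set R)))
  (n : ℕ) (hn : ringKrullDim R = n) (I : GrLC.StarInjRes 𝒜 𝒜)
  (a : ℤ) (ha : GrLC.endDeg (I.Hgr m n) = ((a : WithTop ℤ) : WithBot (WithTop ℤ)))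
  (q : ℕ) (hq : 0 < q) (𝒜' : ℤ → AddSubgroup R') [GradedRing 𝒜']
  (φ : R' →+* R) (hφ : Function.Injective φ)
  (hdeg : ∀ j : ℤ, (𝒜' j).map (φ : R' →+ R) = 𝒜 (j * q))
  (hdvd : (q : ℤ) ∣ a)
  (m' : HomogeneousIdeal 𝒜') (hm' : GrLC.IsStarLocal 𝒜' m')
  (hm'sp : m'.toIdeal = Ideal.span (⋃ j ∈ Set.Ioi (0 : ℤ), (𝒜' j : Set R')))

include hpos h0 hm hmsp hn ha hq hφ hdeg hdvd hm' hm'sp in
/-- **Goto–Watanabe**: if `q ∣ a(R)` and `R` is Gorenstein then `R^{(q)}` is Gorenstein at its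
irrelevant ideal. -/
theorem isGorensteinLocalRing_veronese [m'.toIdeal.IsMaximal] :
    LocCoh.IsGorensteinLocalRing (Localization.AtPrime m'.toIdeal) := by
  classical
  haveI : IsNoetherianRing R := inferInstance
  haveI : IsNoetherianRing R' := Groth.Agent.Lib.H74VerCan.isNoetherianRing_veronese q hq φ hφ hdeg
  have hpos' := Groth.Agent.Lib.H74VerCan.piece_eq_bot q φ hφ hdeg hq hpos
  have h0' := Groth.Agent.Lib.H74VerCan.isField_deg0 q φ hφ hdeg h0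
  have hn' : ringKrullDim R' = n := by
    rw [Groth.Agent.Lib.GrVerDim.ringKrullDim_veronese q hq φ hφ hdeg, hn]
  have hdim' : ringKrullDim (Localization.AtPrime m'.toIdeal) = n := by
    rw [IsLocalization.AtPrime.ringKrullDim_eq_height m'.toIdeal (Localization.AtPrime m'.toIdeal),
      ← Groth.Agent.Lib.H74GrDim.ringKrullDim_eq_height 𝒜' hpos' m' hm', hn']
  haveI hCM : LocCoh.IsCohenMacaulayRing R :=
    Groth.Agent.Lib.GrGorDual.isCohenMacaulayRing_of_isGorensteinRing R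
  obtain ⟨I'⟩ := Groth.Agent.S13215.result R' 𝒜' R' 𝒜'
  letI d1 : Decomposition (I.Hgr m n) := Groth.Agent.Lib.H74GrArt.decompositionHgr 𝒜 𝒜 m I n
  letI d2 : Decomposition (I'.Hgr m' n) := Groth.Agent.Lib.H74GrArt.decompositionHgr 𝒜' 𝒜' m' I' n
  obtain ⟨τ, hP⟩ := exists_perfData 𝒜 hpos h0 m hm hmsp n hn I a ha
  obtain ⟨a', rfl⟩ : ∃ a' : ℤ, a = a' * q := by
    obtain ⟨c, hc⟩ := hdvd
    exact ⟨c, by rw [hc, mul_comm]⟩
  obtain ⟨Ψ, hΨ1, hΨ2, hΨ3, hΨ4⟩ :=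
    Groth.Agent.Lib.H74VerCan.exists_sigma q hq φ hφ hdeg m m' hmsp hm'sp I I' n
  have hP' := perfData_veronese q hq φ hφ hdeg (I.Hgr m n) (I'.Hgr m' n) Ψ hΨ1 hΨ2 hΨ3 hΨ4 hP
  -- nonvanishing
  haveI : Nontrivial (deg0 𝒜') := h0'.nontrivial
  have h1ne : (1 : R') ≠ 0 := by
    intro h
    have : (1 : deg0 𝒜') = 0 := Subtype.ext h
    exact one_ne_zero this
  have htop : Nontrivial (LocCoh.H m'.toIdeal n R') := by
    obtain ⟨x, -, hx⟩ := hP'.right a' 1 (by rw [sub_self]; exact SetLike.GradedOne.one_mem) h1ne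
    obtain ⟨ψ'⟩ := Groth.Agent.S13224.main m' I' n
    have hx0 : x ≠ 0 := by
      rintro rfl
      apply hx
      rw [smul_zero, map_zero]
    exact ⟨⟨ψ' x, 0, fun h => hx0 (ψ'.injective (h.trans (map_zero ψ').symm))⟩⟩
  haveI := Groth.Agent.Lib.GrLocCM.isCohenMacaulayLocalRing_loc m'.toIdeal n hdim'
    (fun i hi => subsingleton_H_veronese 𝒜 hpos m hm hmsp n hn q hq 𝒜' φ hφ hdeg m' hm'sp i hi) htop
  exact isGorensteinLocalRing_of_perfData 𝒜' hpos' h0' m' hm'sp n I' hP' hdim'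

end VerGor

end Groth.Agent.Lib.GrVerGor
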