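import Mathlib
import Groth.Agent.Lib.GrVerGor
import Groth.Agent.S0327

set_option autoImplicit false
set_option linter.unusedSectionVars false
set_option linter.style.haveILetI false

universe u

namespace Groth.Agent.Lib.GrVerCM

open DirectSum GrLC IsLocalRing

section VerCM

variable {R R' : Type u} [CommRing R] [CommRing R'] [hCM : LocCoh.IsCohenMacaulayRing R]
  (𝒜 : ℤ → AddSubgroup R) [GradedRing 𝒜]
  (hpos : ∀ n : ℤ, n < 0 → 𝒜 n = ⊥) (h0 : IsField (deg0 𝒜))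
  (m : HomogeneousIdeal 𝒜) (hm : GrLC.IsStarLocal 𝒜 m)
  (hmsp : m.toIdeal = Ideal.span (⋃ n ∈ Set.Ioi (0 : ℤ), (𝒜 n : Set R)))
  (n : ℕ) (hn : ringKrullDim R = n)
  (q : ℕ) (hq : 0 < q) (𝒜' : ℤ → AddSubgroup R') [GradedRing 𝒜']
  (φ : R' →+* R) (hφ : Function.Injective φ)
  (hdeg : ∀ j : ℤ, (𝒜' j).map (φ : R' →+ R) = 𝒜 (j * q))
  (m' : HomogeneousIdeal 𝒜')
  (hm'sp : m'.toIdeal = Ideal.span (⋃ j ∈ Set.Ioi (0 : ℤ), (𝒜' j : Set R')))

include hpos h0 hq hφ hdeg hm'sp in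
/-- the irrelevant ideal of the Veronese subring is `*`maximal. -/
theorem isStarLocal_veronese : GrLC.IsStarLocal 𝒜' m' := by
  have hpos' := Groth.Agent.Lib.H74VerCan.piece_eq_bot q φ hφ hdeg hq hpos
  have h0' := Groth.Agent.Lib.H74VerCan.isField_deg0 q φ hφ hdeg h0
  have hirr : m' = Groth.Agent.Lib.H74GrArt.irr 𝒜' := HomogeneousIdeal.toIdeal_injective hm'sp
  rw [hirr]
  exact Groth.Agent.Lib.GrHilbMono.isStarLocal_irr 𝒜' hpos' h0'

include hpos h0 hn hq hφ hdeg hm'sp in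
theorem dim_veronese_loc [m'.toIdeal.IsMaximal] :
    ringKrullDim (Localization.AtPrime m'.toIdeal) = n := by
  haveI : IsNoetherianRing R := inferInstance
  haveI : IsNoetherianRing R' := Groth.Agent.Lib.H74VerCan.isNoetherianRing_veronese q hq φ hφ hdeg
  have hpos' := Groth.Agent.Lib.H74VerCan.piece_eq_bot q φ hφ hdeg hq hpos
  have hm' := isStarLocal_veronese 𝒜 hpos h0 q hq 𝒜' φ hφ hdeg m' hm'sp
  have hn' : ringKrullDim R' = n := by
    rw [Groth.Agent.Lib.GrVerDim.ringKrullDim_veronese q hq φ hφ hdeg, hn]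
  rw [IsLocalization.AtPrime.ringKrullDim_eq_height m'.toIdeal (Localization.AtPrime m'.toIdeal),
    ← Groth.Agent.Lib.H74GrDim.ringKrullDim_eq_height 𝒜' hpos' m' hm', hn']

include hpos h0 hm hmsp hn hq hφ hdeg hm'sp in
/-- The Veronese subring of a Cohen–Macaulay graded ring over a field is Cohen–Macaulay at its
irrelevant ideal. -/
theorem isCohenMacaulayLocalRing_veronese [m'.toIdeal.IsMaximal] :
    LocCoh.IsCohenMacaulayLocalRing (Localization.AtPrime m'.toIdeal) := by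
  haveI : IsNoetherianRing R := inferInstance
  haveI : IsNoetherianRing R' := Groth.Agent.Lib.H74VerCan.isNoetherianRing_veronese q hq φ hφ hdeg
  have hdim' := dim_veronese_loc 𝒜 hpos h0 n hn q hq 𝒜' φ hφ hdeg m' hm'sp
  have htop : Nontrivial (LocCoh.H m'.toIdeal n R') := by
    obtain ⟨e⟩ := Groth.Agent.Lib.GrLocCM.nonempty_H_equiv_locH m'.toIdeal n
    haveI := Groth.Agent.S0327.result (Localization.AtPrime m'.toIdeal) n hdim'
    exact e.nontrivial
  exact Groth.Agent.Lib.GrLocCM.isCohenMacaulayLocalRing_loc m'.toIdeal n hdim'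
    (fun i hi => Groth.Agent.Lib.GrVerGor.subsingleton_H_veronese 𝒜 hpos m hm hmsp n hn q hq 𝒜' φ hφ
      hdeg m' hm'sp i hi) htop

end VerCM

end Groth.Agent.Lib.GrVerCM
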