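import Mathlib
import Groth.Agent.Lib.GrPerf3
import Groth.Agent.Lib.GrHilbMod1
import Groth.Agent.Lib.H74GrFin

set_option autoImplicit false
set_option linter.unusedSectionVars false
set_option linter.style.haveILetI false

universe u

namespace Groth.Agent.Lib.GrVerType

open DirectSum GrLC Groth.Agent.Lib.GrPerf Groth.Agent.Lib.H87GrMod

section Std

variable {R : Type u} [CommRing R] (𝒜 : ℤ → AddSubgroup R) [GradedRing 𝒜]
  (hstd : Ideal.span (⋃ n ∈ Set.Ioi (0 : ℤ), (𝒜 n : Set R)) =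
      Ideal.span ((𝒜 1 : AddSubgroup R) : Set R))

include hstd in
/-- In a standard graded ring `R_{i+j}` is additively spanned by the products `R_i R_j`. -/
theorem std_mul_induction (j : ℕ) : ∀ (i : ℕ) (P : R → Prop)
    (_ : ∀ s ∈ 𝒜 (i : ℤ), ∀ t ∈ 𝒜 (j : ℤ), P (s * t)) (_ : P 0)
    (_ : ∀ x y, P x → P y → P (x + y)) (x : R) (_ : x ∈ 𝒜 ((i : ℤ) + j)), P x := by
  intro i
  induction i with
  | zero =>
    intro P hmul h0 hadd x hx
    have hx' : x ∈ 𝒜 (j : ℤ) := by simpa using hx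
    have h1 : (1 : R) ∈ 𝒜 ((0 : ℕ) : ℤ) := by
      rw [Nat.cast_zero]; exact SetLike.GradedOne.one_mem
    have := hmul 1 h1 x hx'
    rwa [one_mul] at this
  | succ i ih =>
    intro P hmul h0 hadd x hx
    have hx' : x ∈ 𝒜 (((i + j : ℕ) : ℤ) + 1) := by
      have : (((i + j : ℕ) : ℤ) + 1) = ((i + 1 : ℕ) : ℤ) + j := by push_cast; ring
      rw [this]; exact hx
    obtain ⟨t, c, ht, hc, rfl⟩ := Groth.Agent.Lib.GrHilbMod.exists_sum_of_mem_succ 𝒜 hstd (i + j) hx'
    refine Finset.sum_induction _ P hadd h0 fun y hy => ?_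
    refine ih (fun c' => P (c' * y)) ?_ (by rw [zero_mul]; exact h0)
      (fun a b ha hb => by rw [add_mul]; exact hadd _ _ ha hb) (c y) (by
        have := hc y
        have h2 : ((i + j : ℕ) : ℤ) = (i : ℤ) + j := by push_cast; ring
        rwa [h2] at this)
    intro s hs t' ht'
    have h1 : s * t' * y = (s * y) * t' := by ring
    rw [h1]
    refine hmul (s * y) ?_ t' ht'
    have := SetLike.GradedMul.mul_mem (A := 𝒜) hs (ht y hy)
    have h2 : ((i + 1 : ℕ) : ℤ) = (i : ℤ) + 1 := by push_cast; ring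
    rw [h2]; exact this

end Std

section Soc

variable {R R' : Type u} [CommRing R] [CommRing R']
variable {𝒜' : ℤ → AddSubgroup R'} {𝒜 : ℤ → AddSubgroup R} [GradedRing 𝒜'] [GradedRing 𝒜]
  (hstd : Ideal.span (⋃ n ∈ Set.Ioi (0 : ℤ), (𝒜 n : Set R)) =
      Ideal.span ((𝒜 1 : AddSubgroup R) : Set R))
variable (q : ℕ) (hq : 0 < q) (φ : R' →+* R) (hφ : Function.Injective φ)
  (hdeg : ∀ j : ℤ, (𝒜' j).map (φ : R' →+ R) = 𝒜 (j * q))
variable {X : Type u} [AddCommGroup X] [Module R X] (ℋ : ℤ → AddSubgroup X)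
  [Decomposition ℋ] [SetLike.GradedSMul 𝒜 ℋ]
variable {X' : Type u} [AddCommGroup X'] [Module R' X'] (ℋ' : ℤ → AddSubgroup X')
  [Decomposition ℋ'] [SetLike.GradedSMul 𝒜' ℋ']
variable (Ψ : X' →+ X) (hΨ1 : ∀ (r : R') (x : X'), Ψ (r • x) = φ r • Ψ x)
  (hΨ2 : Function.Injective Ψ)
  (hΨ3 : ∀ j x, x ∈ ℋ' j → Ψ x ∈ ℋ (j * q))
variable {a : ℤ} {τ : X →ₗ[deg0 𝒜] deg0 𝒜} (hP : PerfData 𝒜 ℋ a τ)
  (m' : Ideal R') (hm'sp : m' = Ideal.span (⋃ j ∈ Set.Ioi (0 : ℤ), (𝒜' j : Set R')))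
  (ρ c : ℤ) (hρ0 : 0 ≤ ρ) (hρq : ρ < q) (hc : a - ρ = c * q)

include hq hΨ1 hΨ2 hΨ3 hP hm'sp hρq hc in
/-- the piece of degree `c = (a - ρ)/q` of `X'` is killed by the irrelevant ideal. -/
theorem smul_eq_zero_of_mem {x' : X'} (hx' : x' ∈ ℋ' c) {r' : R'} (hr' : r' ∈ m') :
    r' • x' = 0 := by
  rw [hm'sp] at hr'
  refine Submodule.span_induction (p := fun r _ => r • x' = 0) ?_ ?_ ?_ ?_ hr'
  · intro r hr
    obtain ⟨i, hi, hri⟩ := Set.mem_iUnion₂.mp hr
    have hi' : (0 : ℤ) < i := hi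
    have h1 : r • x' ∈ ℋ' (i + c) := SetLike.GradedSMul.smul_mem hri hx'
    have h2 := hΨ3 _ _ h1
    have h3 : a < (i + c) * q := by
      have hq' : (1 : ℤ) ≤ q := by exact_mod_cast hq
      nlinarith
    rw [hP.top _ h3] at h2
    have h4 : Ψ (r • x') = 0 := h2
    exact hΨ2 (h4.trans (map_zero Ψ).symm)
  · exact zero_smul _ _
  · intro r s _ _ hr hs
    rw [add_smul, hr, hs, add_zero]
  · intro s r _ hr
    rw [smul_eq_mul, mul_smul, hr, smul_zero]

include hstd hq hdeg hΨ1 hΨ2 hΨ3 hP hm'sp hρ0 hρq hc in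
/-- an element of `X'` killed by the irrelevant ideal lies in degree `c`. -/
theorem mem_of_smul_eq_zero {x' : X'} (hx' : ∀ r' ∈ m', r' • x' = 0) : x' ∈ ℋ' c := by
  classical
  have hq' : (1 : ℤ) ≤ q := by exact_mod_cast hq
  have hcomp : ∀ j, j ≠ c → (decompose ℋ' x' j : X') = 0 := by
    intro j hj
    by_contra hne
    have hkill : ∀ r' ∈ 𝒜' 1, r' • (decompose ℋ' x' j : X') = 0 := by
      intro r' hr'
      have hmem : r' ∈ m' := by
        rw [hm'sp]
        exact Ideal.subset_span (Set.mem_iUnion₂.mpr ⟨1, by show (0 : ℤ) < 1; norm_num, hr'⟩)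
      have h1 := decompose_smul_of_mem_left ℋ' 𝒜' hr' x' j
      rw [hx' r' hmem, decompose_zero, DirectSum.zero_apply] at h1
      exact h1.symm
    set y := Ψ (decompose ℋ' x' j : X') with hy
    have hymem : y ∈ ℋ (j * q) := hΨ3 _ _ (decompose ℋ' x' j).2
    have hy0 : y ≠ 0 := fun h => hne (hΨ2 (h.trans (map_zero Ψ).symm))
    have hle : j * q ≤ a := by
      by_contra hlt
      push Not at hlt
      have h2 := hymem
      rw [hP.top _ hlt] at h2
      exact hy0 h2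
    obtain ⟨r, hr, hτ⟩ := hP.left _ y hymem hy0
    -- `a - j q = q + e`
    have hcj : 1 ≤ c - j := by
      have h1 : 0 ≤ (c - j) * q + ρ := by nlinarith
      have h2 : -1 < c - j := by
        by_contra hcon
        push Not at hcon
        nlinarith
      have h3 : c - j ≠ 0 := fun h => hj (by omega)
      omega
    obtain ⟨e, he⟩ : ∃ e : ℕ, a - j * q = (q : ℤ) + e := by
      refine ⟨(a - j * q - q).toNat, ?_⟩
      have : 0 ≤ a - j * q - q := by nlinarith
      rw [Int.toNat_of_nonneg this]; ring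
    rw [he] at hr
    apply hτ
    refine std_mul_induction 𝒜 hstd e q (fun r => τ (r • y) = 0) ?_ (by rw [zero_smul, map_zero])
      (fun u v hu hv => by rw [add_smul, map_add, hu, hv, add_zero]) r hr
    intro s hs t ht
    have hs' : s ∈ 𝒜 ((1 : ℤ) * q) := by rwa [one_mul]
    rw [← hdeg 1] at hs'
    obtain ⟨s', hs'1, hs's⟩ := hs'
    have hs's' : φ s' = s := hs's
    have : s • y = 0 := by
      rw [← hs's', hy, ← hΨ1, hkill s' hs'1, map_zero]
    rw [mul_comm, mul_smul, this, smul_zero, map_zero]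
  rw [← DirectSum.sum_support_decompose ℋ' x']
  refine AddSubgroup.sum_mem _ fun j _ => ?_
  by_cases hj : j = c
  · subst hj; exact (decompose ℋ' x' j).2
  · rw [hcomp j hj]; exact zero_mem _

end Soc

end Groth.Agent.Lib.GrVerType
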