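import Mathlib
import Groth.Agent.Lib.GrVerCM
import Groth.Agent.Lib.GrVerType
import Groth.Agent.Lib.GrPerfRank
import Groth.Agent.Lib.GrSocLen
import Groth.Agent.Lib.GrSocLoc

set_option autoImplicit false
set_option linter.unusedSectionVars false
set_option linter.style.haveILetI false

universe u

namespace Groth.Agent.Lib.GrVerBass

open DirectSum GrLC IsLocalRing Groth.Agent.Lib.GrPerf

section Main

variable {R R' : Type u} [CommRing R] [CommRing R'] [hG : LocCoh.IsGorensteinRing R]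
  (𝒜 : ℤ → AddSubgroup R) [GradedRing 𝒜]
  (hpos : ∀ n : ℤ, n < 0 → 𝒜 n = ⊥) (h0 : IsField (deg0 𝒜))
  (m : HomogeneousIdeal 𝒜) (hm : GrLC.IsStarLocal 𝒜 m)
  (hmsp : m.toIdeal = Ideal.span (⋃ n ∈ Set.Ioi (0 : ℤ), (𝒜 n : Set R)))
  (hstd : Ideal.span (⋃ n ∈ Set.Ioi (0 : ℤ), (𝒜 n : Set R)) =
      Ideal.span ((𝒜 1 : AddSubgroup R) : Set R))
  (n : ℕ) (hn : ringKrullDim R = n) (I : GrLC.StarInjRes 𝒜 𝒜)
  (a : ℤ) (ha : GrLC.endDeg (I.Hgr m n) = ((a : WithTop ℤ) : WithBot (WithTop ℤ)))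
  (q : ℕ) (hq : 0 < q) (𝒜' : ℤ → AddSubgroup R') [GradedRing 𝒜']
  (φ : R' →+* R) (hφ : Function.Injective φ)
  (hdeg : ∀ j : ℤ, (𝒜' j).map (φ : R' →+ R) = 𝒜 (j * q))
  (m' : HomogeneousIdeal 𝒜') [hmax' : m'.toIdeal.IsMaximal]
  (hm'sp : m'.toIdeal = Ideal.span (⋃ j ∈ Set.Ioi (0 : ℤ), (𝒜' j : Set R')))
  (ρ : ℤ) (hρ0 : 0 ≤ ρ) (hρq : ρ < q) (hρa : (q : ℤ) ∣ a - ρ)

include hpos h0 hm hmsp hstd hn ha hq hφ hdeg hm'sp hρ0 hρq hρa in
/-- **Goto–Watanabe**: the type of the Veronese subring of a standard graded Gorenstein ring. -/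
theorem bassNum_veronese :
    GrLC.bassNum m'.toIdeal R' n = (Module.finrank (deg0 𝒜) (comp 𝒜 𝒜 ρ) : ℕ∞) := by
  classical
  haveI : IsNoetherianRing R := inferInstance
  haveI : IsNoetherianRing R' := Groth.Agent.Lib.H74VerCan.isNoetherianRing_veronese q hq φ hφ hdeg
  have hpos' := Groth.Agent.Lib.H74VerCan.piece_eq_bot q φ hφ hdeg hq hpos
  have h0' := Groth.Agent.Lib.H74VerCan.isField_deg0 q φ hφ hdeg h0
  haveI hCM : LocCoh.IsCohenMacaulayRing R :=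
    Groth.Agent.Lib.GrGorDual.isCohenMacaulayRing_of_isGorensteinRing R
  have hdim' := Groth.Agent.Lib.GrVerCM.dim_veronese_loc 𝒜 hpos h0 n hn q hq 𝒜' φ hφ hdeg m' hm'sp
  haveI := Groth.Agent.Lib.GrVerCM.isCohenMacaulayLocalRing_veronese 𝒜 hpos h0 m hm hmsp n hn q hq 𝒜'
    φ hφ hdeg m' hm'sp
  obtain ⟨I'⟩ := Groth.Agent.S13215.result R' 𝒜' R' 𝒜'
  letI d1 : Decomposition (I.Hgr m n) := Groth.Agent.Lib.H74GrArt.decompositionHgr 𝒜 𝒜 m I n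
  letI d2 : Decomposition (I'.Hgr m' n) := Groth.Agent.Lib.H74GrArt.decompositionHgr 𝒜' 𝒜' m' I' n
  obtain ⟨τ, hP⟩ := Groth.Agent.Lib.GrVerGor.exists_perfData 𝒜 hpos h0 m hm hmsp n hn I a ha
  obtain ⟨c, hc⟩ : ∃ c : ℤ, a - ρ = c * q := by
    obtain ⟨c, hc⟩ := hρa
    exact ⟨c, by rw [hc, mul_comm]⟩
  obtain ⟨Ψ, hΨ1, hΨ2, hΨ3, hΨ4⟩ :=
    Groth.Agent.Lib.H74VerCan.exists_sigma q hq φ hφ hdeg m m' hmsp hm'sp I I' n
  -- step 1: Bass number = length of the socle of the localized local cohomology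
  rw [Groth.Agent.Lib.GrSocLen.bassNum_eq_length_soc m'.toIdeal n hdim']
  -- step 2: descend to `R'`
  have hk : ∀ r : R', ∃ c' : deg0 𝒜', r - (c' : R') ∈ m'.toIdeal := fun r =>
    ⟨⟨(decompose 𝒜' r 0 : R'), (decompose 𝒜' r 0).2⟩,
      Groth.Agent.Lib.H74Matlis.sub_decompose_zero_mem 𝒜' hpos' m' hm'sp r⟩
  rw [Groth.Agent.Lib.GrSocLoc.length_soc_loc m'.toIdeal (deg0 𝒜') hk
    (Groth.Agent.Lib.H29LocCohReg.isPowerTorsion_H m'.toIdeal R' n)]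
  -- step 3: pass to the graded model
  obtain ⟨ψ'⟩ := Groth.Agent.S13224.main m' I' n
  have e3 := (Groth.Agent.Lib.H29CanonUniq.torsionBySetEquiv ψ' (m'.toIdeal : Set R')).restrictScalars
    (deg0 𝒜')
  rw [← e3.length_eq]
  -- step 4: the socle is the piece of degree `c`
  have hsoc : ∀ x' : I'.H m' n, x' ∈ Submodule.torsionBySet R' (I'.H m' n) (m'.toIdeal : Set R') ↔
      x' ∈ I'.Hcomp m' n c := by
    intro x'
    rw [Submodule.mem_torsionBySet_iff]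
    constructor
    · intro h
      exact Groth.Agent.Lib.GrVerType.mem_of_smul_eq_zero hstd q hq φ hdeg (I.Hgr m n) (I'.Hgr m' n) Ψ
        hΨ1 hΨ2 hΨ3 hP m'.toIdeal hm'sp ρ c hρ0 hρq hc (fun r' hr' => h ⟨r', hr'⟩)
    · rintro h ⟨r', hr'⟩
      exact Groth.Agent.Lib.GrVerType.smul_eq_zero_of_mem q hq φ (I.Hgr m n) (I'.Hgr m' n) Ψ
        hΨ1 hΨ2 hΨ3 hP m'.toIdeal hm'sp ρ c hρq hc h hr'
  let e4 : Submodule.torsionBySet R' (I'.H m' n) (m'.toIdeal : Set R') ≃ₗ[deg0 𝒜'] I'.Hcomp m' n c :=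
    { toFun := fun x => ⟨x.1, (hsoc x.1).mp x.2⟩
      invFun := fun x => ⟨x.1, (hsoc x.1).mpr x.2⟩
      left_inv := fun x => rfl
      right_inv := fun x => rfl
      map_add' := fun x y => rfl
      map_smul' := fun c x => rfl }
  rw [e4.length_eq]
  -- step 5: dimensions
  have hfinR : Module.Finite (deg0 𝒜) (comp 𝒜 𝒜 (a - c * q)) := by
    haveI : IsNoetherian (deg0 𝒜) (comp 𝒜 𝒜 (a - c * q)) :=
      Groth.Agent.Lib.H74GrFin.isNoetherian_comp 𝒜 𝒜 (a - c * q)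
    infer_instance
  obtain ⟨hfinH, hrank⟩ := Groth.Agent.Lib.GrPerfRank.finrank_comp_eq 𝒜 h0 (I.Hgr m n) hP (c * q)
  have hρeq : a - c * q = ρ := by omega
  have hver := Groth.Agent.Lib.GrVer.finrank_Hcomp_veronese q hq φ hdeg
    (Groth.Agent.Lib.H74VerCan.phiSl φ) hφ (fun j => by rw [← hdeg j]; rfl) hφ m m' hmsp hm'sp I I' n c
  have heq : comp 𝒜 (I.Hgr m n) (c * q) = I.Hcomp m n (c * q) := Submodule.ext fun x => Iff.rfl
  rw [heq] at hrank hfinH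
  -- finiteness of the Veronese piece
  letI : Field (deg0 𝒜') := h0'.toField
  haveI hfin' : Module.Finite (deg0 𝒜') (I'.Hcomp m' n c) :=
    Groth.Agent.Lib.H74GrFin.pFin 𝒜' hpos' m' hm'sp n R' 𝒜' I' c
  rw [Module.length_eq_finrank, hver, hrank, hρeq]

end Main

end Groth.Agent.Lib.GrVerBass
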