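import Mathlib
import Groth.Prelude.Def_GrLC

set_option autoImplicit false
set_option linter.unusedSectionVars false
set_option linter.style.haveILetI false

universe u

namespace Groth.Agent.Lib.GrVerRing

open DirectSum GrLC

section VerGrading

variable {R R' : Type u} [CommRing R] [CommRing R'] (𝒜 : ℤ → AddSubgroup R) [GradedRing 𝒜]
  (q : ℕ) (φ : R' →+* R)

/-- The pieces of the Veronese grading on an abstractly presented Veronese subring. -/
def verPiece (j : ℤ) : AddSubgroup R' := (𝒜 (j * q)).comap (φ : R' →+ R)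

theorem mem_verPiece {j : ℤ} {r : R'} : r ∈ verPiece 𝒜 q φ j ↔ φ r ∈ 𝒜 (j * q) := Iff.rfl

instance gradedMonoid_verPiece : SetLike.GradedMonoid (verPiece 𝒜 q φ) where
  one_mem := by
    rw [mem_verPiece, map_one, zero_mul]
    exact SetLike.GradedOne.one_mem
  mul_mem := by
    intro i j r s hr hs
    rw [mem_verPiece, map_mul, add_mul]
    exact SetLike.GradedMul.mul_mem hr hs

variable (hq : 0 < q) (hφ : Function.Injective φ)
  (H1 : ∀ j : ℤ, ∀ p ∈ 𝒜 (j * q), p ∈ φ.range)
  (H2 : ∀ r : R', φ r ∈ (⨆ j : ℤ, 𝒜 (j * q) : AddSubgroup R))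

include hq hφ H1 H2 in
theorem isInternal_verPiece : DirectSum.IsInternal (verPiece 𝒜 q φ) := by
  classical
  have hq' : (q : ℤ) ≠ 0 := by exact_mod_cast hq.ne'
  constructor
  · rw [injective_iff_map_eq_zero]
    intro v hv
    rw [DirectSum.coeAddMonoidHom_eq_dfinsuppSum, DFinsupp.sum] at hv
    have hv' : ∑ j ∈ v.support, φ (v j : R') = 0 := by
      have := congrArg φ hv
      rw [map_sum, map_zero] at this
      exact this
    apply DFinsupp.ext
    intro j₀
    apply Subtype.ext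
    apply hφ
    show φ (v j₀ : R') = φ 0
    rw [map_zero]
    have h2 := congrArg (fun z => (decompose 𝒜 z (j₀ * q) : R)) hv'
    simp only [decompose_zero, DirectSum.zero_apply, ZeroMemClass.coe_zero] at h2
    rw [decompose_sum, DFinsupp.finsetSum_apply, AddSubmonoidClass.coe_finsetSum] at h2
    by_cases hj : j₀ ∈ v.support
    · rw [Finset.sum_eq_single j₀] at h2
      · have hmem : φ (v j₀ : R') ∈ 𝒜 (j₀ * q) := (v j₀).2
        rw [decompose_of_mem_same 𝒜 hmem] at h2
        exact h2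
      · intro j _ hne
        have hmem : φ (v j : R') ∈ 𝒜 (j * q) := (v j).2
        refine decompose_of_mem_ne 𝒜 hmem ?_
        intro h
        exact hne (mul_right_cancel₀ hq' h)
      · intro h; exact absurd hj h
    · rw [DFinsupp.notMem_support_iff] at hj
      rw [hj]
      simp
  · intro r
    have key : ∀ p ∈ (⨆ j : ℤ, 𝒜 (j * q) : AddSubgroup R),
        ∃ r' ∈ (DirectSum.coeAddMonoidHom (verPiece 𝒜 q φ)).range, φ r' = p := by
      intro p hp
      refine AddSubgroup.iSup_induction _ (C := fun p =>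
        ∃ r' ∈ (DirectSum.coeAddMonoidHom (verPiece 𝒜 q φ)).range, φ r' = p) hp ?_ ?_ ?_
      · intro j p hp
        obtain ⟨r', hr'⟩ := H1 j p hp
        have hmem : r' ∈ verPiece 𝒜 q φ j := by rw [mem_verPiece, hr']; exact hp
        exact ⟨r', ⟨DirectSum.of (fun i => verPiece 𝒜 q φ i) j ⟨r', hmem⟩,
          DirectSum.coeAddMonoidHom_of (verPiece 𝒜 q φ) j _⟩, hr'⟩
      · exact ⟨0, zero_mem _, map_zero φ⟩
      · rintro p p' ⟨r₁, h₁, rfl⟩ ⟨r₂, h₂, rfl⟩
        exact ⟨r₁ + r₂, add_mem h₁ h₂, map_add φ r₁ r₂⟩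
    obtain ⟨r', hr', hr'e⟩ := key (φ r) (H2 r)
    have : r' = r := hφ hr'e
    rw [← this]
    exact hr'

/-- The Veronese graded ring structure. -/
@[instance_reducible]
noncomputable def verGradedRing : GradedRing (verPiece 𝒜 q φ) :=
  { gradedMonoid_verPiece 𝒜 q φ, (isInternal_verPiece 𝒜 q φ hq hφ H1 H2).chooseDecomposition with }

include H1 in
theorem map_verPiece (j : ℤ) : (verPiece 𝒜 q φ j).map (φ : R' →+ R) = 𝒜 (j * q) := by
  ext p
  constructor
  · rintro ⟨r, hr, rfl⟩
    exact hr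
  · intro hp
    obtain ⟨r, hr⟩ := H1 j p hp
    exact ⟨r, (mem_verPiece 𝒜 q φ).mpr (by rw [hr]; exact hp), hr⟩

end VerGrading

end Groth.Agent.Lib.GrVerRing
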